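import Groth.Statements.S16031
import Mathlib
import Groth.Agent.S16030
import Groth.Agent.FlatMisc.SchemePushout

set_option autoImplicit false
universe u
set_option linter.style.haveILetI false
open CategoryTheory CategoryTheory.Limits AlgebraicGeometry
open FlatMor

namespace Groth.Agent.S16031

open Groth.Agent.FlatMisc

/-- Davis: a coset of an ideal is not contained in a finite union of primes unless it has to be. -/
theorem davis {R : Type u} [CommRing R] (I : Ideal R) (P : Finset (PrimeSpectrum R)) (h : R)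
    (H : ∀ p ∈ P, ¬ (I ≤ p.asIdeal ∧ h ∈ p.asIdeal)) : ∃ k ∈ I, ∀ p ∈ P, h + k ∉ p.asIdeal := by
  classical
  let M := P.filter fun p => ∀ q ∈ P, p ≤ q → q = p
  let A := M.filter fun p => h ∈ p.asIdeal
  let B := M.filter fun p => h ∉ p.asIdeal
  have htop : ∀ p ∈ P, ∃ q ∈ M, p ≤ q := by
    intro p hp
    obtain ⟨q, hpq, hmax⟩ := P.exists_le_maximal hp
    exact ⟨q, Finset.mem_filter.2 ⟨hmax.prop, fun r hr hqr => le_antisymm (hmax.2 hr hqr) hqr⟩, hpq⟩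
  let J : Ideal R := I ⊓ B.inf (fun q => q.asIdeal)
  have hJ : ¬ ((J : Set R) ⊆ ⋃ p ∈ (A : Set (PrimeSpectrum R)), (p.asIdeal : Set R)) := by
    intro hsub
    rcases A.eq_empty_or_nonempty with he | ⟨p₀, -⟩
    · simpa [he] using hsub J.zero_mem
    rw [Ideal.subset_union_prime (f := fun p : PrimeSpectrum R => p.asIdeal) p₀ p₀
      (fun i _ _ _ => i.isPrime)] at hsub
    obtain ⟨p, hp, hle⟩ := hsub
    obtain ⟨hpM, hph⟩ := Finset.mem_filter.1 hp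
    rcases (p.isPrime.inf_le).1 hle with h1 | h1
    · exact H p (Finset.mem_filter.1 hpM).1 ⟨h1, hph⟩
    · obtain ⟨q, hq, hqp⟩ := (p.isPrime.inf_le').1 h1
      obtain ⟨hqM, hqh⟩ := Finset.mem_filter.1 hq
      have : p = q := (Finset.mem_filter.1 hqM).2 p (Finset.mem_filter.1 hpM).1 hqp
      exact hqh (this ▸ hph)
  obtain ⟨k, hk, hkA⟩ := Set.not_subset.1 hJ
  simp only [Set.mem_iUnion, not_exists] at hkA
  refine ⟨k, hk.1, fun p hp hmem => ?_⟩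
  obtain ⟨q, hq, hpq⟩ := htop p hp
  have hmem' : h + k ∈ q.asIdeal := hpq hmem
  by_cases hh : h ∈ q.asIdeal
  · exact hkA q (Finset.mem_coe.2 (Finset.mem_filter.2 ⟨hq, hh⟩))
      ((q.asIdeal.add_mem_iff_right hh).1 hmem')
  · have hkq : k ∈ q.asIdeal :=
      Finset.inf_le (f := fun q : PrimeSpectrum R => q.asIdeal) (b := q)
        (Finset.mem_filter.2 ⟨hq, hh⟩) hk.2
    exact hh ((q.asIdeal.add_mem_iff_left hkq).1 hmem')

theorem mem_basicOpen_iff {X : Scheme.{u}} {U : X.Opens} (hU : IsAffineOpen U) (x : X) (hx : x ∈ U)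
    (g : Γ(X, U)) : x ∈ X.basicOpen g ↔ g ∉ (hU.primeIdealOf ⟨x, hx⟩).asIdeal := by
  have h : hU.primeIdealOf ⟨x, hx⟩ ∈ hU.fromSpec ⁻¹ᵁ X.basicOpen g ↔
      hU.primeIdealOf ⟨x, hx⟩ ∈ PrimeSpectrum.basicOpen g := by
    rw [hU.fromSpec_preimage_basicOpen]
    rfl
  rw [← PrimeSpectrum.mem_basicOpen, ← h]
  show x ∈ X.basicOpen g ↔ hU.fromSpec (hU.primeIdealOf ⟨x, hx⟩) ∈ X.basicOpen g
  rw [hU.fromSpec_primeIdealOf]

theorem exists_basicOpen_finite {X : Scheme.{u}} {U : X.Opens} (hU : IsAffineOpen U) (O : X.Opens)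
    (S : Set X) (hS : S.Finite) (hSU : S ⊆ U) (hSO : S ⊆ O) :
    ∃ g : Γ(X, U), S ⊆ X.basicOpen g ∧ X.basicOpen g ≤ O := by
  obtain ⟨g, hg1, hg2⟩ := Groth.Agent.S16030.result Γ(X, U) (hU.fromSpec ⁻¹' S)
    (hS.preimage hU.fromSpec.isOpenEmbedding.injective.injOn) (hU.fromSpec ⁻¹ᵁ O)
    (fun q hq => hSO hq)
  refine ⟨g, fun x hx => ?_, fun x hx => ?_⟩
  · refine (mem_basicOpen_iff hU x (hSU hx) g).2 ?_
    have : hU.primeIdealOf ⟨x, hSU hx⟩ ∈ hU.fromSpec ⁻¹' S := by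
      show hU.fromSpec _ ∈ S
      rw [hU.fromSpec_primeIdealOf]
      exact hx
    exact hg1 this
  · have hxU : x ∈ U := X.basicOpen_le g hx
    have h : hU.fromSpec (hU.primeIdealOf ⟨x, hxU⟩) ∈ O :=
      hg2 ((mem_basicOpen_iff hU x hxU g).1 hx)
    rwa [hU.fromSpec_primeIdealOf] at h

/-- A lift of a section on the closed subscheme which is invertible at given finitely many points. -/
theorem exists_lift {Z X : Scheme.{u}} (i : Z ⟶ X) [IsClosedImmersion i] {U : X.Opens}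
    (hU : IsAffineOpen U) (ζ : Γ(Z, i ⁻¹ᵁ U)) (S : Set X) (hS : S.Finite) (hSU : S ⊆ U)
    (hz : ∀ z, i z ∈ S → z ∈ Z.basicOpen ζ) :
    ∃ h : Γ(X, U), S ⊆ X.basicOpen h ∧ i ⁻¹ᵁ X.basicOpen h = Z.basicOpen ζ := by
  classical
  obtain ⟨h₀, hh₀⟩ := i.app_surjective U hU ζ
  haveI : Finite S := hS
  haveI : Fintype S := hS.fintype
  let P : Finset (PrimeSpectrum Γ(X, U)) :=
    (Finset.univ : Finset S).image fun x => hU.primeIdealOf ⟨x.1, hSU x.2⟩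
  obtain ⟨k, hk, hkP⟩ := davis (RingHom.ker (i.app U).hom) P h₀ (by
    intro p hp ⟨hI, hh⟩
    obtain ⟨⟨x, hx⟩, -, rfl⟩ := Finset.mem_image.1 hp
    by_cases hxi : x ∈ Set.range i
    · obtain ⟨z, rfl⟩ := hxi
      have h1 : z ∈ i ⁻¹ᵁ X.basicOpen h₀ := by
        rw [Scheme.preimage_basicOpen]
        erw [hh₀]
        exact hz z hx
      exact (mem_basicOpen_iff hU _ (hSU hx) h₀).1 h1 hh
    · obtain ⟨g, hg1, hg2⟩ := exists_basicOpen_finite hU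
        ⟨(Set.range i)ᶜ, i.isClosedEmbedding.isClosed_range.isOpen_compl⟩ {x}
        (Set.finite_singleton x) (Set.singleton_subset_iff.2 (hSU hx)) (Set.singleton_subset_iff.2 hxi)
      have h0 : Z.basicOpen (i.app U g) = ⊥ := by
        rw [← Scheme.preimage_basicOpen]
        exact eq_bot_iff.2 fun z hz' => (hg2 hz' ⟨z, rfl⟩).elim
      obtain ⟨N, hN⟩ := (Scheme.isNilpotent_iff_basicOpen_eq_bot_of_isCompact
        (hU.preimage i).isCompact (i.app U g)).2 h0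
      have : g ^ N ∈ RingHom.ker (i.app U).hom := by
        rw [RingHom.mem_ker, map_pow]
        exact hN
      exact (mem_basicOpen_iff hU x (hSU hx) g).1 (hg1 rfl)
        ((hU.primeIdealOf ⟨x, hSU hx⟩).isPrime.mem_of_pow_mem N (hI this)))
  refine ⟨h₀ + k, fun x hx => (mem_basicOpen_iff hU x (hSU hx) _).2
    (hkP _ (Finset.mem_image.2 ⟨⟨x, hx⟩, Finset.mem_univ _, rfl⟩)), ?_⟩
  rw [Scheme.preimage_basicOpen, map_add, (RingHom.mem_ker.1 hk), add_zero, hh₀]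

/-- The complement in an open of the image of a closed subset of the closed subscheme. -/
theorem exists_open_trace {Z X : Scheme.{u}} (i : Z ⟶ X) [IsClosedImmersion i] (O : Z.Opens) :
    ∃ O' : X.Opens, i ⁻¹ᵁ O' = O ∧ ∀ x ∉ Set.range i, x ∈ O' :=
  ⟨⟨(i '' (O : Set Z)ᶜ)ᶜ, (i.isClosedEmbedding.isClosedMap _ O.isOpen.isClosed_compl).isOpen_compl⟩,
    TopologicalSpace.Opens.ext (Set.ext fun z => by
      show i z ∉ i '' (O : Set Z)ᶜ ↔ z ∈ O
      rw [i.isClosedEmbedding.injective.mem_set_image, Set.mem_compl_iff, not_not]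
      rfl),
    fun x hx ⟨z, _, e⟩ => hx ⟨z, e⟩⟩

/-- Compatible affine opens containing given finite sets. -/
theorem exists_compatible {Z X Y : Scheme.{u}} (i : Z ⟶ X) (j : Z ⟶ Y) [IsClosedImmersion i]
    [IsClosedImmersion j] (SX : Set X) (SY : Set Y) (hSX : SX.Finite) (hSY : SY.Finite)
    (hT : ∀ z, i z ∈ SX ↔ j z ∈ SY) {U₁ : X.Opens} (hU₁ : IsAffineOpen U₁) (h₁ : SX ⊆ U₁)
    {U₂ : Y.Opens} (hU₂ : IsAffineOpen U₂) (h₂ : SY ⊆ U₂) :
    ∃ (U : X.Opens) (V : Y.Opens), IsAffineOpen U ∧ IsAffineOpen V ∧ i ⁻¹ᵁ U = j ⁻¹ᵁ V ∧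
      SX ⊆ U ∧ SY ⊆ V := by
  obtain ⟨O₁, hO₁, hO₁'⟩ := exists_open_trace i (i ⁻¹ᵁ U₁ ⊓ j ⁻¹ᵁ U₂)
  have hSO₁ : SX ⊆ O₁ := fun x hx => by
    by_cases hxi : x ∈ Set.range i
    · obtain ⟨z, rfl⟩ := hxi
      show z ∈ i ⁻¹ᵁ O₁
      rw [hO₁]
      exact ⟨h₁ hx, h₂ ((hT z).1 hx)⟩
    · exact hO₁' x hxi
  obtain ⟨g₁, hg₁, hg₁'⟩ := exists_basicOpen_finite hU₁ O₁ SX hSX h₁ hSO₁
  let D := X.basicOpen g₁
  have hD : IsAffineOpen D := hU₁.basicOpen g₁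
  have hT₁ : i ⁻¹ᵁ D ≤ j ⁻¹ᵁ U₂ := ((i.preimage_mono hg₁').trans hO₁.le).trans inf_le_right
  obtain ⟨O₂, hO₂, hO₂'⟩ := exists_open_trace j (i ⁻¹ᵁ D)
  have hSO₂ : SY ⊆ O₂ := fun y hy => by
    by_cases hyj : y ∈ Set.range j
    · obtain ⟨z, rfl⟩ := hyj
      show z ∈ j ⁻¹ᵁ O₂
      rw [hO₂]
      exact hg₁ ((hT z).2 hy)
    · exact hO₂' y hyj
  obtain ⟨g₂, hg₂, hg₂'⟩ := exists_basicOpen_finite hU₂ O₂ SY hSY h₂ hSO₂
  let ζ : Γ(Z, i ⁻¹ᵁ D) := Z.presheaf.map (homOfLE hT₁).op (j.app U₂ g₂)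
  have hζ : Z.basicOpen ζ = j ⁻¹ᵁ Y.basicOpen g₂ := by
    rw [Scheme.basicOpen_res, ← Scheme.preimage_basicOpen]
    exact inf_eq_right.2 ((j.preimage_mono hg₂').trans hO₂.le)
  obtain ⟨h, hh, hh'⟩ := exists_lift i hD ζ SX hSX hg₁ (fun z hz => by
    rw [hζ]
    exact hg₂ ((hT z).1 hz))
  exact ⟨X.basicOpen h, Y.basicOpen g₂, hD.basicOpen h, hU₂.basicOpen g₂, hh'.trans hζ, hh, hg₂⟩

/-- An affine open around a finite set of points of a pushout of closed immersions. -/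
theorem exists_affine_in_model {Z X Y : Scheme.{u}} (i : Z ⟶ X) (j : Z ⟶ Y) [IsClosedImmersion i]
    [IsClosedImmersion j] :
    ∃ (P : Scheme.{u}) (a : X ⟶ P) (b : Y ⟶ P), IsPushout i j a b ∧
      ∀ (U : X.Opens) (V : Y.Opens), IsAffineOpen U → IsAffineOpen V → i ⁻¹ᵁ U = j ⁻¹ᵁ V →
        ∃ W : P.Opens, IsAffineOpen W ∧ a ⁻¹ᵁ W = U ∧ b ⁻¹ᵁ W = V := by
  have hpo := IsPushout.of_hasPushout (C := LocallyRingedSpace.{u}) i.toLRSHom j.toLRSHom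
  set PL := Limits.pushout i.toLRSHom j.toLRSHom
  set aL := Limits.pushout.inl i.toLRSHom j.toLRSHom
  set bL := Limits.pushout.inr i.toLRSHom j.toLRSHom
  have cov : ∀ p : PL, ∃ W : TopologicalSpace.Opens PL, p ∈ W ∧
      IsAffineOpen (X := X) ((TopologicalSpace.Opens.map aL.base).obj W) ∧
      IsAffineOpen (X := Y) ((TopologicalSpace.Opens.map bL.base).obj W) := by
    intro p
    rcases SchemePushout.jointly_surjective i j hpo p with ⟨x, rfl⟩ | ⟨y, rfl⟩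
    · obtain ⟨_, ⟨U₁, hU₁, rfl⟩, hx₁, -⟩ :=
        X.isBasis_affineOpens.exists_subset_of_mem_open (Set.mem_univ x) isOpen_univ
      have hfin : (j '' (i ⁻¹' {x})).Finite :=
        ((Set.finite_singleton x).preimage i.isClosedEmbedding.injective.injOn).image _
      have hsub : (i ⁻¹' {x}).Subsingleton := fun a ha b hb =>
        i.isClosedEmbedding.injective (Eq.trans ha (Eq.symm hb))
      obtain ⟨U₂, hU₂, hy₂⟩ : ∃ U₂ : Y.Opens, IsAffineOpen U₂ ∧ j '' (i ⁻¹' {x}) ⊆ U₂ := by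
        rcases (hsub.image j).eq_empty_or_singleton with he | ⟨y, hy⟩
        · exact ⟨⊥, isAffineOpen_bot Y, by rw [he]; exact Set.empty_subset _⟩
        · obtain ⟨_, ⟨U₂, hU₂, rfl⟩, hy₂, -⟩ :=
            Y.isBasis_affineOpens.exists_subset_of_mem_open (Set.mem_univ y) isOpen_univ
          exact ⟨U₂, hU₂, by rw [hy]; exact Set.singleton_subset_iff.2 hy₂⟩
      obtain ⟨U, V, hU, hV, e, hxU, -⟩ := exists_compatible i j {x} _ (Set.finite_singleton x) hfin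
        (fun z => (j.isClosedEmbedding.injective.mem_set_image (s := i ⁻¹' {x}) (a := z)).symm) hU₁
        (Set.singleton_subset_iff.2 hx₁) hU₂ hy₂
      obtain ⟨W, hWa, hWb⟩ := SchemePushout.exists_open i j hpo U V e
      refine ⟨W, ?_, hWa ▸ hU, hWb ▸ hV⟩
      show x ∈ (TopologicalSpace.Opens.map aL.base).obj W
      rw [hWa]
      exact hxU rfl
    · obtain ⟨_, ⟨U₂, hU₂, rfl⟩, hy₂, -⟩ :=
        Y.isBasis_affineOpens.exists_subset_of_mem_open (Set.mem_univ y) isOpen_univ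
      have hfin : (i '' (j ⁻¹' {y})).Finite :=
        ((Set.finite_singleton y).preimage j.isClosedEmbedding.injective.injOn).image _
      have hsub : (j ⁻¹' {y}).Subsingleton := fun a ha b hb =>
        j.isClosedEmbedding.injective (Eq.trans ha (Eq.symm hb))
      obtain ⟨U₁, hU₁, hx₁⟩ : ∃ U₁ : X.Opens, IsAffineOpen U₁ ∧ i '' (j ⁻¹' {y}) ⊆ U₁ := by
        rcases (hsub.image i).eq_empty_or_singleton with he | ⟨x, hx⟩
        · exact ⟨⊥, isAffineOpen_bot X, by rw [he]; exact Set.empty_subset _⟩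
        · obtain ⟨_, ⟨U₁, hU₁, rfl⟩, hx₁, -⟩ :=
            X.isBasis_affineOpens.exists_subset_of_mem_open (Set.mem_univ x) isOpen_univ
          exact ⟨U₁, hU₁, by rw [hx]; exact Set.singleton_subset_iff.2 hx₁⟩
      obtain ⟨U, V, hU, hV, e, -, hyV⟩ := exists_compatible i j _ {y} hfin (Set.finite_singleton y)
        (fun z => i.isClosedEmbedding.injective.mem_set_image (s := j ⁻¹' {y}) (a := z)) hU₁ hx₁ hU₂
        (Set.singleton_subset_iff.2 hy₂)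
      obtain ⟨W, hWa, hWb⟩ := SchemePushout.exists_open i j hpo U V e
      refine ⟨W, ?_, hWa ▸ hU, hWb ▸ hV⟩
      show y ∈ (TopologicalSpace.Opens.map bL.base).obj W
      rw [hWb]
      exact hyV rfl
  let P : Scheme.{u} :=
    { toLocallyRingedSpace := PL
      local_affine := fun p => by
        obtain ⟨W, hp, ha, hb⟩ := cov p
        have h := SchemePushout.local_affine_aux i j hpo W ha hb
        exact ⟨⟨W, hp⟩, LocallyRingedSpace.Γ.obj (Opposite.op (SchemePushout.res W)),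
          ⟨@asIso _ _ _ _ _ h⟩⟩ }
  let a : X ⟶ P := ⟨aL⟩
  let b : Y ⟶ P := ⟨bL⟩
  refine ⟨P, a, b, ?_, fun U V hU hV e => ?_⟩
  · refine IsPushout.of_map Scheme.forgetToLocallyRingedSpace ?_ hpo
    exact Scheme.forgetToLocallyRingedSpace.map_injective hpo.w
  · obtain ⟨W, hWa, hWb⟩ := SchemePushout.exists_open i j hpo U V e
    refine ⟨W, ?_, hWa, hWb⟩
    have h := SchemePushout.local_affine_aux i j hpo W (hWa.symm ▸ hU) (hWb.symm ▸ hV)
    let W' : P.Opens := W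
    show IsAffine W'.toScheme
    exact IsAffine.of_isIso ((Scheme.forgetToLocallyRingedSpace.preimageIso
      (X := W'.toScheme) (Y := Spec (LocallyRingedSpace.Γ.obj (Opposite.op (SchemePushout.res W))))
      (@asIso _ _ _ _ _ h)).hom)

/-- Let θ₁ : Y ⟶ X₁ and θ₂ : Y ⟶ X₂ be closed immersions of schemes and let X, with φ₁ : X₁ ⟶ X and φ₂ :
X₂ ⟶ X, be their pushout in the category of schemes. If a finite set E of points of X has each
preimage φᵢ⁻¹(E) contained in an affine open of Xᵢ, then E is contained in an affine open of X. -/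
theorem result
    {Y X₁ X₂ X : Scheme.{u}} (θ₁ : Y ⟶ X₁) (θ₂ : Y ⟶ X₂) [IsClosedImmersion θ₁] [IsClosedImmersion θ₂]
    (φ₁ : X₁ ⟶ X) (φ₂ : X₂ ⟶ X) (hX : IsPushout θ₁ θ₂ φ₁ φ₂)
    (E : Set ↥X) (hE : E.Finite)
    (h₁ : ∃ U₁ : X₁.Opens, IsAffineOpen U₁ ∧ φ₁ ⁻¹' E ⊆ (U₁ : Set ↥X₁))
    (h₂ : ∃ U₂ : X₂.Opens, IsAffineOpen U₂ ∧ φ₂ ⁻¹' E ⊆ (U₂ : Set ↥X₂)) :
    ∃ U : X.Opens, IsAffineOpen U ∧ E ⊆ (U : Set ↥X) := by
  obtain ⟨P, a, b, hP, hW⟩ := exists_affine_in_model θ₁ θ₂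
  have hc : ∀ y : X₂, ∃ (U : X₁.Opens) (V : X₂.Opens), IsAffineOpen U ∧ IsAffineOpen V ∧ y ∈ V ∧
      θ₁ ⁻¹ᵁ U = θ₂ ⁻¹ᵁ V := by
    intro y
    obtain ⟨_, ⟨U₂, hU₂, rfl⟩, hy₂, -⟩ :=
      X₂.isBasis_affineOpens.exists_subset_of_mem_open (Set.mem_univ y) isOpen_univ
    have hsub : (θ₂ ⁻¹' {y}).Subsingleton := fun a ha b hb =>
      θ₂.isClosedEmbedding.injective (Eq.trans ha (Eq.symm hb))
    obtain ⟨U₁, hU₁, hx₁⟩ : ∃ U₁ : X₁.Opens, IsAffineOpen U₁ ∧ θ₁ '' (θ₂ ⁻¹' {y}) ⊆ U₁ := by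
      rcases (hsub.image θ₁).eq_empty_or_singleton with he | ⟨x, hx⟩
      · exact ⟨⊥, isAffineOpen_bot X₁, by rw [he]; exact Set.empty_subset _⟩
      · obtain ⟨_, ⟨U₁, hU₁, rfl⟩, hx₁, -⟩ :=
          X₁.isBasis_affineOpens.exists_subset_of_mem_open (Set.mem_univ x) isOpen_univ
        exact ⟨U₁, hU₁, by rw [hx]; exact Set.singleton_subset_iff.2 hx₁⟩
    obtain ⟨U, V, hU, hV, e, -, hyV⟩ := exists_compatible θ₁ θ₂ _ {y}
      (((Set.finite_singleton y).preimage θ₂.isClosedEmbedding.injective.injOn).image _)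
      (Set.finite_singleton y)
      (fun z => θ₁.isClosedEmbedding.injective.mem_set_image (s := θ₂ ⁻¹' {y}) (a := z)) hU₁ hx₁ hU₂
      (Set.singleton_subset_iff.2 hy₂)
    exact ⟨U, V, hU, hV, hyV rfl, e⟩
  obtain ⟨P', a', b', hP', -, hb', -, ha', hjs⟩ := SchemePushout.exists_pushout θ₁ θ₂ hc
  haveI := hb'
  haveI := ha' inferInstance
  let e' := hP'.isoIsPushout _ _ hX
  haveI : IsClosedImmersion φ₁ := by
    rw [← hP'.inl_isoIsPushout_hom _ _ hX]; infer_instance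
  haveI : IsClosedImmersion φ₂ := by
    rw [← hP'.inr_isoIsPushout_hom _ _ hX]; infer_instance
  obtain ⟨U₁, hU₁, h₁⟩ := h₁
  obtain ⟨U₂, hU₂, h₂⟩ := h₂
  have hT : ∀ z, θ₁ z ∈ φ₁ ⁻¹' E ↔ θ₂ z ∈ φ₂ ⁻¹' E := fun z => by
    show φ₁ (θ₁ z) ∈ E ↔ φ₂ (θ₂ z) ∈ E
    rw [← Scheme.Hom.comp_apply, ← Scheme.Hom.comp_apply, hX.w]
  obtain ⟨U, V, hU, hV, e, hEU, hEV⟩ := exists_compatible θ₁ θ₂ _ _
    (hE.preimage φ₁.isClosedEmbedding.injective.injOn) (hE.preimage φ₂.isClosedEmbedding.injective.injOn)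
    hT hU₁ h₁ hU₂ h₂
  obtain ⟨W, hWaff, hWa, hWb⟩ := hW U V hU hV e
  let eX := hX.isoIsPushout _ _ hP
  refine ⟨eX.hom ⁻¹ᵁ W, hWaff.preimage_of_isIso eX.hom, fun p hp => ?_⟩
  obtain ⟨q, rfl⟩ : ∃ q, e'.hom q = p := ⟨e'.inv p, by
    rw [← Scheme.Hom.comp_apply, e'.inv_hom_id]; rfl⟩
  rcases hjs q with ⟨x, rfl⟩ | ⟨x, rfl⟩
  · rw [← Scheme.Hom.comp_apply, hP'.inl_isoIsPushout_hom _ _ hX] at hp ⊢
    show eX.hom (φ₁ x) ∈ W
    rw [← Scheme.Hom.comp_apply, hX.inl_isoIsPushout_hom _ _ hP]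
    show x ∈ a ⁻¹ᵁ W
    rw [hWa]
    exact hEU hp
  · rw [← Scheme.Hom.comp_apply, hP'.inr_isoIsPushout_hom _ _ hX] at hp ⊢
    show eX.hom (φ₂ x) ∈ W
    rw [← Scheme.Hom.comp_apply, hX.inr_isoIsPushout_hom _ _ hP]
    show x ∈ b ⁻¹ᵁ W
    rw [hWb]
    exact hEV hp

end Groth.Agent.S16031
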