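import Groth.Statements.S16037
import Groth.Agent.GrpScheme.AntiAffineProd

set_option autoImplicit false
universe u
open CategoryTheory CategoryTheory.Limits AlgebraicGeometry MonoidalCategory MonObj
open GrpSch

open Limits Groth.Agent

namespace Groth.Agent.S16037

set_option linter.style.haveILetI false
set_option backward.isDefEq.respectTransparency false

/-- Over a field k, let G be a group scheme of finite type, G' a group scheme which is a cofiltered
limit of group schemes of finite type (limit cone of homomorphisms), and u : G ⟶ G' a quasi-compact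
homomorphism which is schematically dominant. Then u is faithfully flat and G' is of finite type. -/
theorem result
    (k : Type u) [Field k] (G : Over (Spec (CommRingCat.of k))) [GrpObj G]
    [LocallyOfFiniteType G.hom] [QuasiCompact G.hom]
    (J : Type u) [SmallCategory J] [IsCofiltered J] (D : J ⥤ Over (Spec (CommRingCat.of k)))
    [∀ j, GrpObj (D.obj j)] [∀ (j j' : J) (φ : j ⟶ j'), IsMonHom (D.map φ)]
    (hD : ∀ j, LocallyOfFiniteType (D.obj j).hom ∧ QuasiCompact (D.obj j).hom)
    (c : Cone D) (hc : IsLimit c) [GrpObj c.pt] [∀ j, IsMonHom (M := c.pt) (N := D.obj j) (c.π.app j)]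
    (u : G ⟶ c.pt) [IsMonHom u] [QuasiCompact u.left] (hdom : u.left.ker = ⊥) :
    Flat u.left ∧ Surjective u.left ∧ LocallyOfFiniteType c.pt.hom ∧ QuasiCompact c.pt.hom := by
  classical
  haveI : ∀ j, LocallyOfFiniteType (D.obj j).hom := fun j => (hD j).1
  haveI : ∀ j, QuasiCompact (D.obj j).hom := fun j => (hD j).2
  haveI : ∀ j, IsSeparated (D.obj j).hom := fun j => GrpdLib.GrpOver.isSeparated_hom _
  haveI : IsSeparated c.pt.hom := GrpdLib.GrpOver.isSeparated_hom _
  let f : ∀ j, G ⟶ D.obj j := fun j => u ≫ c.π.app j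
  haveI hf : ∀ j, IsMonHom (f j) := fun j => inferInstanceAs (IsMonHom (u ≫ c.π.app j))
  choose N hNg i hiM hiMono hiC hi1 hlift using fun j => UnipLib.exists_kernel_grp (f j)
  have hcomp : ∀ {a b : J} (φ : a ⟶ b), f a ≫ D.map φ = f b := fun φ => by
    show (u ≫ c.π.app _) ≫ D.map φ = u ≫ c.π.app _
    rw [Category.assoc, c.w φ]
  have hone : ∀ {a b : J} (φ : a ⟶ b) {T : Over (Spec (CommRingCat.of k))} (z : T ⟶ G),
      z ≫ f a = 1 → z ≫ f b = 1 := fun {a b} φ T z hz => by
    rw [← hcomp φ, ← Category.assoc, hz]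
    exact MonObj.one_comp (D.map φ)
  have hmono : ∀ {a b : J} (φ : a ⟶ b), (i b).left.ker ≤ (i a).left.ker := by
    intro a b φ
    obtain ⟨z, hz⟩ := hlift b (i a) (hone φ _ (hi1 a))
    rw [← hz, Over.comp_left]
    exact Scheme.Hom.le_ker_comp _ _
  haveI : IsLocallyNoetherian G.left := LocallyOfFiniteType.isLocallyNoetherian G.hom
  haveI : CompactSpace G.left := (quasiCompact_iff_compactSpace G.hom).1 inferInstance
  let 𝒰 := G.left.affineCover.finiteSubcover
  let U : 𝒰.I₀ → G.left.affineOpens := fun j => ⟨(𝒰.f j).opensRange, isAffineOpen_opensRange (𝒰.f j)⟩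
  have hU : ⨆ j, (U j).1 = ⊤ := 𝒰.iSup_opensRange
  haveI : Fintype 𝒰.I₀ := Fintype.ofFinite _
  have hmax : ∀ t, ∃ C : J, ∀ {a : J} (_ : a ⟶ C), (i a).left.ker.ideal (U t) = (i C).left.ker.ideal (U t) := by
    intro t
    haveI : IsNoetherianRing Γ(G.left, (U t).1) := IsLocallyNoetherian.component_noetherian _
    obtain ⟨_, ⟨C, rfl⟩, hC⟩ := set_has_maximal_iff_noetherian.mpr
      (inferInstance : IsNoetherian Γ(G.left, (U t).1) Γ(G.left, (U t).1))
      (Set.range fun C : J => (i C).left.ker.ideal (U t)) ⟨_, ⟨IsCofiltered.nonempty.some, rfl⟩⟩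
    exact ⟨C, fun {a} φ => ((hmono φ (U t)).eq_of_not_lt (hC _ ⟨a, rfl⟩)).symm⟩
  choose Cj hCj using hmax
  obtain ⟨j₀, hj₀⟩ := IsCofiltered.inf_objs_exists (Finset.univ.image Cj)
  have hto : ∀ t, Nonempty (j₀ ⟶ Cj t) := fun t => hj₀ (Finset.mem_image_of_mem _ (Finset.mem_univ t))
  have hkill : ∀ (j : J) {T : Over (Spec (CommRingCat.of k))} (z : T ⟶ G), z ≫ f j₀ = 1 → z ≫ f j = 1 := by
    intro j T z hz
    let a := IsCofiltered.min j₀ j
    have hstab : (i a).left.ker = (i j₀).left.ker := by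
      refine Scheme.IdealSheafData.ext_of_iSup_eq_top U hU fun t => ?_
      rw [hCj t (IsCofiltered.minToLeft j₀ j ≫ (hto t).some), hCj t (hto t).some]
    obtain ⟨w, hw⟩ := hlift j₀ z hz
    haveI := hiC j₀
    haveI := hiC a
    let l := IsClosedImmersion.lift (i a).left (i j₀).left hstab.le
    have hl : l ≫ (i a).left = (i j₀).left := IsClosedImmersion.lift_fac _ _ _
    let l' : N j₀ ⟶ N a := Over.homMk l (by rw [← Over.w (i a), reassoc_of% hl, Over.w])
    have hl' : l' ≫ i a = i j₀ := Over.OverMorphism.ext hl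
    refine hone (IsCofiltered.minToRight j₀ j) z ?_
    rw [← hw, ← hl', Category.assoc, Category.assoc, hi1 a, MonObj.comp_one, MonObj.comp_one]
  obtain ⟨Q, hQ, p, ι', hp, hι, hpc, hιc, hQl, hQq, hpι⟩ := GrpScheme.AntiAffineProd.exists_image (f j₀)
  haveI : Mono ι' := Over.mono_of_mono_left ι'
  have hdesc : ∀ j, ∃ g : Q ⟶ D.obj j, p ≫ g = f j := fun j => hpc.exists_desc (f j) fun {T} a b hab => by
    have h0 : (a⁻¹ * b) ≫ f j₀ = 1 := by
      rw [MonObj.mul_comp, GrpObj.inv_comp, ← hpι, ← Category.assoc a, ← Category.assoc b, hab, inv_mul_cancel]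
    have h1 := hkill j _ h0
    rw [MonObj.mul_comp, GrpObj.inv_comp] at h1
    exact inv_mul_eq_one.mp h1
  choose g hg using hdesc
  haveI := hpc.epi
  have hnat : ∀ ⦃a b : J⦄ (φ : a ⟶ b), ((Functor.const J).obj Q).map φ ≫ g b = g a ≫ D.map φ := by
    intro a b φ
    show 𝟙 Q ≫ g b = g a ≫ D.map φ
    rw [Category.id_comp, ← cancel_epi p, hg, ← Category.assoc, hg a, hcomp φ]
  let cQ : Cone D := { pt := Q, π := { app := g, naturality := hnat } }
  let h : Q ⟶ c.pt := hc.lift cQ
  have hh : ∀ j, h ≫ c.π.app j = g j := fun j => hc.fac cQ j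
  have hph : p ≫ h = u := hc.hom_ext fun j => by rw [Category.assoc, hh, hg]
  have hι' : h ≫ c.π.app j₀ = ι' := by
    rw [hh, ← cancel_epi p, hg, hpι]
  haveI : IsSeparated ((c.π.app j₀).left ≫ (D.obj j₀).hom) := by
    rw [Over.w (c.π.app j₀)]; exact ‹IsSeparated c.pt.hom›
  haveI : IsSeparated (c.π.app j₀).left := IsSeparated.of_comp _ (D.obj j₀).hom
  haveI : IsClosedImmersion (h.left ≫ (c.π.app j₀).left) := by rw [← Over.comp_left, hι']; exact hιc
  haveI : IsClosedImmersion h.left := IsClosedImmersion.of_comp h.left (c.π.app j₀).left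
  haveI : IsIso h.left := by
    refine IsClosedImmersion.isIso_iff_ker_eq_bot.mpr (eq_bot_iff.mpr ?_)
    rw [← hdom, ← hph, Over.comp_left]
    exact Scheme.Hom.le_ker_comp _ _
  haveI := hpc.flat; haveI := hpc.surj
  have hw : inv h.left ≫ Q.hom = c.pt.hom := by rw [IsIso.inv_comp_eq]; exact (Over.w h).symm
  refine ⟨?_, ?_, ?_, ?_⟩
  · rw [← hph, Over.comp_left]; infer_instance
  · rw [← hph, Over.comp_left]; infer_instance
  · rw [← hw]; infer_instance
  · rw [← hw]; infer_instance

end Groth.Agent.S16037
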