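import Groth.Statements.S16038
import Groth.Agent.GrpdLib.IntCoeq.Main

set_option autoImplicit false
universe u
open CategoryTheory CategoryTheory.Limits AlgebraicGeometry
open Grpd

namespace Groth.Agent.S16038

/-- Let X and R be schemes integral over a scheme S with the fibres of X ⟶ S finite, and p₁, p₂ : R ⟶ X
two S-morphisms whose image defines an equivalence relation on the underlying set of X. Then the
coequalizer of p₁, p₂ in ringed spaces is a scheme Y integral over S, and X ⟶ Y is integral. -/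
theorem result
    {S X R : Scheme.{u}} (f : X ⟶ S) (g : R ⟶ S) [IsIntegralHom f] [IsIntegralHom g]
    (p₁ p₂ : R ⟶ X) (hp₁ : p₁ ≫ f = g) (hp₂ : p₂ ≫ f = g)
    (hfin : ∀ s : ↥S, (f ⁻¹' {s}).Finite)
    (heqv : Equivalence (fun x x' : ↥X => ∃ r : ↥R, p₁ r = x ∧ p₂ r = x')) :
    ∃ (Y : Scheme.{u}) (q : X ⟶ Y) (h : Y ⟶ S)
      (w : (Scheme.forgetToLocallyRingedSpace ⋙ LocallyRingedSpace.forgetToSheafedSpace).map p₁ ≫ (Scheme.forgetToLocallyRingedSpace ⋙ LocallyRingedSpace.forgetToSheafedSpace).map q = (Scheme.forgetToLocallyRingedSpace ⋙ LocallyRingedSpace.forgetToSheafedSpace).map p₂ ≫ (Scheme.forgetToLocallyRingedSpace ⋙ LocallyRingedSpace.forgetToSheafedSpace).map q),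
      q ≫ h = f ∧ IsIntegralHom h ∧ IsIntegralHom q ∧
      Nonempty (IsColimit (Cofork.ofπ ((Scheme.forgetToLocallyRingedSpace ⋙ LocallyRingedSpace.forgetToSheafedSpace).map q) w)) := by
  let d : Groth.Agent.GrpdLib.IntCoeq.Pair S := ⟨f, g, p₁, p₂, hp₁, hp₂⟩
  exact ⟨d.Y, d.q, d.invAlg.π, d.toSh_w, d.q_π, inferInstanceAs (IsIntegralHom d.invAlg.π),
    inferInstanceAs (IsIntegralHom d.q), d.isColimit hfin heqv⟩

end Groth.Agent.S16038
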