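import Groth.Statements.S16044
import Mathlib.AlgebraicGeometry.Morphisms.SchemeTheoreticallyDominant
import Mathlib.RingTheory.Flat.TorsionFree
-- import your own Groth.Agent.* helpers here

set_option autoImplicit false
universe u
open CategoryTheory CategoryTheory.Limits AlgebraicGeometry
open GrpSch

namespace Groth.Agent.S16044

set_option maxHeartbeats 800000

variable {A : Type u} [CommRing A] [IsDomain A]

/-- The image of a scalar among the global functions. -/
noncomputable abbrev scal {X : Scheme.{u}} (f : X ⟶ Spec (CommRingCat.of A)) (a : A) : Γ(X, ⊤) :=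
  f.appTop ((Scheme.ΓSpecIso (CommRingCat.of A)).inv a)

lemma scal_comp {X Y : Scheme.{u}} (p : Y ⟶ X) (f : X ⟶ Spec (CommRingCat.of A)) (a : A) :
    p.appTop (scal f a) = scal (p ≫ f) a := by
  simp only [scal, Scheme.Hom.comp_appTop]
  rfl

lemma scal_Spec {B : CommRingCat.{u}} (φ : CommRingCat.of A ⟶ B) (a : A) :
    scal (Spec.map φ) a = (Scheme.ΓSpecIso B).inv (φ a) :=
  congr($(Scheme.ΓSpecIso_inv_naturality φ) a).symm

variable {X : Scheme.{u}} (f : X ⟶ Spec (CommRingCat.of A))

lemma fromSpec_appTop {U : X.Opens} (hU : IsAffineOpen U) (b : Γ(X, ⊤)) :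
    (Scheme.ΓSpecIso Γ(X, U)).hom (hU.fromSpec.appTop b) = X.presheaf.map (homOfLE le_top).op b := by
  rw [Scheme.Hom.appTop, hU.fromSpec_app_of_le ⊤ le_top]
  simp only [CommRingCat.comp_apply]
  exact (congrArg _ (congr($((Spec Γ(X, U)).presheaf.map_id _) _))).trans
    (congr($((Scheme.ΓSpecIso Γ(X, U)).inv_hom_id) _))

lemma regular_affine [Flat f] {U : X.Opens} (hU : IsAffineOpen U) {a : A} (ha : a ≠ 0) (x : Γ(X, U))
    (hx : X.presheaf.map (homOfLE le_top).op (scal f a) * x = 0) : x = 0 := by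
  obtain ⟨φ, hφ⟩ := Spec.map_surjective (hU.fromSpec ≫ f)
  have hfl : φ.hom.Flat := by
    rw [← HasRingHomProperty.Spec_iff (P := @Flat), hφ]
    infer_instance
  have hs : X.presheaf.map (homOfLE le_top).op (scal f a) = φ a := by
    rw [← fromSpec_appTop hU, scal_comp, ← hφ, scal_Spec]
    exact congr($((Scheme.ΓSpecIso Γ(X, U)).inv_hom_id) _)
  letI := φ.hom.toAlgebra
  haveI : Module.Flat A Γ(X, U) := hfl
  have : a • x = 0 := by rw [Algebra.smul_def]; exact (congrArg (· * x) hs.symm).trans hx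
  exact (smul_eq_zero_iff_right ha).1 this

lemma regular [Flat f] (W : X.Opens) {a : A} (ha : a ≠ 0) (x : Γ(X, W))
    (hx : X.presheaf.map (homOfLE le_top).op (scal f a) * x = 0) : x = 0 := by
  refine X.IsSheaf.section_ext fun z hz => ?_
  obtain ⟨_, ⟨V, hV, rfl⟩, hzV, hVW : V ≤ W⟩ :=
    X.isBasis_affineOpens.exists_subset_of_mem_open hz W.isOpen
  refine ⟨V, hVW, hzV, ?_⟩
  rw [map_zero]
  refine regular_affine f hV ha _ ?_
  have h := congrArg (X.presheaf.map (homOfLE hVW).op) hx
  rw [map_mul, map_zero, ← CommRingCat.comp_apply, ← Functor.map_comp] at h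
  exact h

/-- A global function vanishing on the closed fibre is a multiple of the uniformizer. -/
lemma exists_mul_eq [Flat f] {ϖ : A} (hϖ : ϖ ≠ 0) (b : Γ(X, ⊤))
    (hb : (pullback.fst f (Spec.map (CommRingCat.ofHom (Ideal.Quotient.mk (Ideal.span {ϖ}))))).appTop b = 0) :
    ∃ b', b = scal f ϖ * b' := by
  have hloc : ∀ U : X.affineOpens, ∃ c : Γ(X, U.1),
      X.presheaf.map (homOfLE le_top).op (scal f ϖ) * c = X.presheaf.map (homOfLE le_top).op b := by
    intro U
    have hUa : IsAffineOpen U.1 := U.2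
    obtain ⟨φ, hφ⟩ := Spec.map_surjective (hUa.fromSpec ≫ f)
    let I : Ideal Γ(X, U.1) := Ideal.span {φ ϖ}
    have hI : Ideal.span {ϖ} ≤ RingHom.ker ((Ideal.Quotient.mk I).comp φ.hom) := by
      rw [Ideal.span_le, Set.singleton_subset_iff, SetLike.mem_coe, RingHom.mem_ker, RingHom.comp_apply,
        Ideal.Quotient.eq_zero_iff_mem]
      exact Ideal.subset_span rfl
    let z : Spec (CommRingCat.of (Γ(X, U.1) ⧸ I)) ⟶
        pullback f (Spec.map (CommRingCat.ofHom (Ideal.Quotient.mk (Ideal.span {ϖ})))) :=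
      pullback.lift (Spec.map (CommRingCat.ofHom (Ideal.Quotient.mk I)) ≫ hUa.fromSpec)
        (Spec.map (CommRingCat.ofHom (Ideal.Quotient.lift (Ideal.span {ϖ}) ((Ideal.Quotient.mk I).comp φ.hom)
          fun r hr => hI hr))) (by
          rw [Category.assoc, ← hφ, ← Spec.map_comp, ← Spec.map_comp]
          exact congrArg Spec.map (CommRingCat.hom_ext (Ideal.Quotient.lift_comp_mk _ _ _).symm))
    have h := congrArg z.appTop hb
    rw [map_zero, ← CommRingCat.comp_apply, ← Scheme.Hom.comp_appTop, pullback.lift_fst,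
      Scheme.Hom.comp_appTop, CommRingCat.comp_apply] at h
    have h' := congrArg (Scheme.ΓSpecIso _).hom h
    rw [map_zero, ← CommRingCat.comp_apply, Scheme.ΓSpecIso_naturality, CommRingCat.comp_apply] at h'
    replace h' : (Ideal.Quotient.mk I) (X.presheaf.map (homOfLE le_top).op b) = 0 := by
      rw [← fromSpec_appTop hUa]; exact h'
    obtain ⟨c, hc⟩ := Ideal.mem_span_singleton'.1 (Ideal.Quotient.eq_zero_iff_mem.1 h')
    refine ⟨c, ?_⟩
    rw [← hc, mul_comm c]
    congr 1
    rw [← fromSpec_appTop hUa, scal_comp, ← hφ, scal_Spec]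
    exact congr($((Scheme.ΓSpecIso Γ(X, U.1)).inv_hom_id) _)
  choose c hc using hloc
  have hcompat : TopCat.Presheaf.IsCompatible X.presheaf (fun U : X.affineOpens => U.1) c := by
    intro U V
    rw [← sub_eq_zero]
    refine regular f _ hϖ _ ?_
    have hU := congrArg (X.presheaf.map (homOfLE (inf_le_left : U.1 ⊓ V.1 ≤ U.1)).op) (hc U)
    have hV := congrArg (X.presheaf.map (homOfLE (inf_le_right : U.1 ⊓ V.1 ≤ V.1)).op) (hc V)
    rw [map_mul, ← CommRingCat.comp_apply, ← Functor.map_comp] at hU hV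
    simp only [← CommRingCat.comp_apply, ← Functor.map_comp] at hU hV
    rw [mul_sub, sub_eq_zero]
    exact hU.trans hV.symm
  obtain ⟨b', hb', -⟩ := TopCat.Sheaf.existsUnique_gluing' X.sheaf (fun U : X.affineOpens => U.1) ⊤
    (fun U => homOfLE le_top) (by rw [(iSup_affineOpens_eq_top X)]) c hcompat
  refine ⟨b', X.sheaf.eq_of_locally_eq' (fun U : X.affineOpens => U.1) ⊤ (fun U => homOfLE le_top)
    (by rw [(iSup_affineOpens_eq_top X)]) _ _ fun U => ?_⟩
  refine Eq.trans ?_ (map_mul (X.presheaf.map (homOfLE (le_top : U.1 ≤ ⊤)).op).hom _ _).symm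
  exact ((congrArg (fun z : Γ(X, U.1) => X.presheaf.map (homOfLE le_top).op (scal f ϖ) * z) (hb' U)).trans (hc U)).symm

/-- The closed fibre of the canonical map to the affine hull is schematically dominant. -/
lemma closedFibre [Flat f] [QuasiCompact f] (g : Spec Γ(X, ⊤) ⟶ Spec (CommRingCat.of A))
    (hg : X.toSpecΓ ≫ g = f) {ϖ : A} (hϖ : ϖ ≠ 0) :
    IsSchemeTheoreticallyDominant
      (pullback.map f (Spec.map (CommRingCat.ofHom (Ideal.Quotient.mk (Ideal.span {ϖ})))) g
        (Spec.map (CommRingCat.ofHom (Ideal.Quotient.mk (Ideal.span {ϖ}))))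
        X.toSpecΓ (𝟙 _) (𝟙 _) ((Category.comp_id f).trans hg.symm)
        ((Category.comp_id _).trans (Category.id_comp _).symm)) := by
  set j := Spec.map (CommRingCat.ofHom (Ideal.Quotient.mk (Ideal.span {ϖ}))) with hj
  haveI : IsClosedImmersion j := IsClosedImmersion.spec_of_surjective _ Ideal.Quotient.mk_surjective
  set M := pullback.map f j g j X.toSpecΓ (𝟙 _) (𝟙 _) ((Category.comp_id f).trans hg.symm)
    ((Category.comp_id _).trans (Category.id_comp _).symm) with hM
  haveI : CompactSpace X := QuasiCompact.compactSpace_of_compactSpace f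
  haveI : QuasiCompact M := by
    have h : QuasiCompact (M ≫ pullback.snd g j) := by
      rw [hM, pullback.lift_snd, Category.comp_id]
      infer_instance
    exact QuasiCompact.of_comp M (pullback.snd g j)
  haveI : IsAffine (pullback g j) := inferInstance
  refine ⟨Scheme.IdealSheafData.ext_of_isAffine ?_⟩
  rw [M.ker_apply ⟨⊤, isAffineOpen_top _⟩, Scheme.IdealSheafData.ideal_bot]
  refine (RingHom.injective_iff_ker_eq_bot _).1 ((injective_iff_map_eq_zero _).2 fun y hy => ?_)
  obtain ⟨a, rfl⟩ := (pullback.fst g j).app_surjective ⊤ (isAffineOpen_top _) y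
  have h1 : (pullback.fst f j).appTop (X.toSpecΓ.appTop a) = 0 := by
    have e : M ≫ pullback.fst g j = pullback.fst f j ≫ X.toSpecΓ := pullback.lift_fst _ _ _
    rw [← CommRingCat.comp_apply, ← Scheme.Hom.comp_appTop, ← e, Scheme.Hom.comp_appTop, CommRingCat.comp_apply]
    exact hy
  obtain ⟨b', hb'⟩ := exists_mul_eq f hϖ _ h1
  have hbij : Function.Bijective X.toSpecΓ.appTop := by
    rw [Scheme.toSpecΓ_appTop]
    exact (Scheme.ΓSpecIso Γ(X, ⊤)).commRingCatIsoToRingEquiv.bijective
  obtain ⟨a', rfl⟩ := hbij.2 b'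
  have ha : a = scal g ϖ * a' := hbij.1 (by
    rw [hb', map_mul, scal_comp, hg])
  show (pullback.fst g j).appTop a = 0
  rw [ha, map_mul, scal_comp, pullback.condition, ← scal_comp, hj, scal_Spec]
  have : (CommRingCat.ofHom (Ideal.Quotient.mk (Ideal.span {ϖ}))) ϖ = 0 :=
    Ideal.Quotient.eq_zero_iff_mem.2 (Ideal.subset_span rfl)
  rw [this, map_zero, map_zero, zero_mul]

/-- The fibre map is a base change of the canonical map to the affine hull. -/
lemma isPullback_fibre {S T : Scheme.{u}} {Y Z : Scheme.{u}} (f : Y ⟶ S) (g : Z ⟶ S) (c : Y ⟶ Z) (hg : c ≫ g = f) (ι : T ⟶ S) :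
    IsPullback (pullback.fst f ι) (pullback.map f ι g ι c (𝟙 _) (𝟙 _) ((Category.comp_id f).trans hg.symm)
      ((Category.comp_id _).trans (Category.id_comp _).symm)) c (pullback.fst g ι) := by
  subst hg
  refine (IsPullback.of_right (h₁₂ := pullback.snd g ι) (v₁₃ := ι) (h₂₂ := g) ?_ (pullback.lift_fst _ _ _)
    (IsPullback.of_hasPullback g ι).flip).flip
  rw [pullback.lift_snd, Category.comp_id]
  exact (IsPullback.of_hasPullback (c ≫ g) ι).flip

/-- Let S be the spectrum of a discrete valuation ring and X a quasi-compact quasi-separated flat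
S-scheme, with canonical morphism c : X ⟶ Spec Γ(X, O_X) over S. Then on each fibre over a point of
S the base change of c is schematically dominant (its kernel ideal sheaf vanishes). -/
theorem result
    (A : Type u) [CommRing A] [IsDomain A] [IsDiscreteValuationRing A]
    (X : Scheme.{u}) (f : X ⟶ Spec (CommRingCat.of A)) [Flat f] [QuasiCompact f] [QuasiSeparated f]
    (g : Spec Γ(X, ⊤) ⟶ Spec (CommRingCat.of A)) (hg : X.toSpecΓ ≫ g = f) (s : ↥(Spec (CommRingCat.of A))) :
    (pullback.map f ((Spec (CommRingCat.of A)).fromSpecResidueField s) g ((Spec (CommRingCat.of A)).fromSpecResidueField s)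
        X.toSpecΓ (𝟙 _) (𝟙 _) ((Category.comp_id f).trans hg.symm)
        ((Category.comp_id _).trans (Category.id_comp _).symm)).ker = ⊥ := by
  obtain ⟨φ, hφ⟩ := Spec.map_surjective ((Spec (CommRingCat.of A)).fromSpecResidueField s)
  haveI : CompactSpace X := QuasiCompact.compactSpace_of_compactSpace f
  haveI : IsSchemeTheoreticallyDominant X.toSpecΓ := ⟨Scheme.ker_toSpecΓ X⟩
  haveI : QuasiCompact X.toSpecΓ := by
    have h : QuasiCompact (X.toSpecΓ ≫ g) := by rw [hg]; infer_instance
    exact QuasiCompact.of_comp X.toSpecΓ g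
  suffices ∀ (F : Type u) [Field F] (φ : CommRingCat.of A ⟶ CommRingCat.of F) (ι : Spec (CommRingCat.of F) ⟶ Spec (CommRingCat.of A)),
      ι = Spec.map φ → (pullback.map f ι g ι X.toSpecΓ (𝟙 _) (𝟙 _) ((Category.comp_id f).trans hg.symm)
      ((Category.comp_id _).trans (Category.id_comp _).symm)).ker = ⊥ from this ((Spec (CommRingCat.of A)).residueField s) φ _ hφ.symm
  clear hφ φ
  rintro F _ φ ι rfl
  refine IsSchemeTheoreticallyDominant.ker_eq_bot _ (self := ?_)
  rcases eq_or_ne (RingHom.ker φ.hom) ⊥ with hk | hk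
  · haveI : Flat (Spec.map φ) := by
      rw [HasRingHomProperty.Spec_iff (P := @Flat)]
      letI := φ.hom.toAlgebra
      haveI : FaithfulSMul A F :=
        (faithfulSMul_iff_algebraMap_injective A _).2 ((RingHom.injective_iff_ker_eq_bot _).2 hk)
      exact (inferInstance : Module.Flat A F)
    exact IsSchemeTheoreticallyDominant.of_isPullback (isPullback_fibre f g X.toSpecΓ hg (Spec.map φ))
  · obtain ⟨ϖ, hϖ⟩ := IsDiscreteValuationRing.exists_irreducible A
    haveI : (RingHom.ker φ.hom).IsPrime := RingHom.ker_isPrime _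
    have hm : RingHom.ker φ.hom = Ideal.span {ϖ} :=
      (IsLocalRing.eq_maximalIdeal (Ideal.IsPrime.isMaximal inferInstance hk)).trans hϖ.maximalIdeal_eq
    set j := Spec.map (CommRingCat.ofHom (Ideal.Quotient.mk (Ideal.span {ϖ}))) with hj
    let ι' : Spec (CommRingCat.of F) ⟶ Spec (CommRingCat.of (A ⧸ Ideal.span {ϖ})) :=
      Spec.map (CommRingCat.ofHom (Ideal.Quotient.lift (Ideal.span {ϖ}) φ.hom fun r hr => RingHom.mem_ker.1 (hm.ge hr)))
    have hι : ι' ≫ j = Spec.map φ := by
      show Spec.map _ ≫ Spec.map _ = _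
      rw [← Spec.map_comp]
      exact congrArg Spec.map (CommRingCat.hom_ext (Ideal.Quotient.lift_comp_mk _ _ _))
    haveI : (Ideal.span {ϖ}).IsMaximal := hϖ.maximalIdeal_eq ▸ inferInstance
    haveI : Flat ι' := by
      show Flat (Spec.map _)
      rw [HasRingHomProperty.Spec_iff (P := @Flat)]
      letI : Field (A ⧸ Ideal.span {ϖ}) := Ideal.Quotient.field _
      letI := (Ideal.Quotient.lift (Ideal.span {ϖ}) φ.hom fun r hr => RingHom.mem_ker.1 (hm.ge hr)).toAlgebra
      exact (inferInstance : Module.Flat (A ⧸ Ideal.span {ϖ}) F)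
    let r : pullback g (Spec.map φ) ⟶ pullback g j :=
      pullback.map g (Spec.map φ) g j (𝟙 _) ι' (𝟙 _) (by simp) (by simp [hι])
    haveI : Flat r := MorphismProperty.of_isPullback (P := @Flat)
      (IsPullback.of_right (h₁₁ := r) (h₁₂ := pullback.fst g j) (v₁₂ := pullback.snd g j) (v₁₁ := pullback.snd g (Spec.map φ))
        (h₂₁ := ι') (v₁₃ := g) (h₂₂ := j)
        (by rw [pullback.lift_fst, Category.comp_id, hι]; exact IsPullback.of_hasPullback _ _)
        (pullback.lift_snd _ _ _) (IsPullback.of_hasPullback g j)).flip (inferInstance : Flat ι')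
    let rX : pullback f (Spec.map φ) ⟶ pullback f j :=
      pullback.map f (Spec.map φ) f j (𝟙 _) ι' (𝟙 _) (by simp) (by simp [hι])
    haveI := closedFibre f g hg hϖ.ne_zero
    haveI : QuasiCompact (pullback.map f j g j X.toSpecΓ (𝟙 _) (𝟙 _) ((Category.comp_id f).trans hg.symm)
        ((Category.comp_id _).trans (Category.id_comp _).symm)) :=
      MorphismProperty.of_isPullback (isPullback_fibre f g X.toSpecΓ hg j) (inferInstance : QuasiCompact X.toSpecΓ)
    refine IsSchemeTheoreticallyDominant.of_isPullback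
      (IsPullback.of_right (h₁₁ := rX) (h₂₁ := r) ?_ ?_ (isPullback_fibre f g X.toSpecΓ hg j))
    · have e1 : rX ≫ pullback.fst f j = pullback.fst f (Spec.map φ) := (pullback.lift_fst _ _ _).trans (Category.comp_id _)
      have e2 : r ≫ pullback.fst g j = pullback.fst g (Spec.map φ) := (pullback.lift_fst _ _ _).trans (Category.comp_id _)
      rw [e1, e2]
      exact isPullback_fibre f g X.toSpecΓ hg (Spec.map φ)
    · apply pullback.hom_ext
      · simp only [Category.assoc, pullback.lift_fst, pullback.lift_fst_assoc, rX, r, pullback.map, Category.comp_id]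
      · simp only [Category.assoc, pullback.lift_snd, pullback.lift_snd_assoc, rX, r, pullback.map, Category.comp_id]

end Groth.Agent.S16044
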