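import Groth.Statements.S16045
import Groth.Agent.PinchLib.StdRinged
import Groth.Agent.PinchLib.FlatBaseChange
import Groth.Agent.FlatMisc.PushoutCovers

set_option autoImplicit false
universe u
open CategoryTheory CategoryTheory.Limits AlgebraicGeometry
open FlatMor

namespace Groth.Agent.S16045

/-- Let θ₁ : Y ⟶ X₁ and θ₂ : Y ⟶ X₂ be closed immersions of schemes over S and X their pushout in
schemes over S. For a flat morphism g : S' ⟶ S, the square obtained by base change along g is a
pushout in schemes over S': pinching along a closed subscheme commutes with flat base change. -/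
theorem result
    {S S' : Scheme.{u}} (g : S' ⟶ S) [Flat g]
    {Y X₁ X₂ X : Over S} (θ₁ : Y ⟶ X₁) (θ₂ : Y ⟶ X₂) [IsClosedImmersion θ₁.left] [IsClosedImmersion θ₂.left]
    (φ₁ : X₁ ⟶ X) (φ₂ : X₂ ⟶ X) (hX : IsPushout θ₁ θ₂ φ₁ φ₂) :
    IsPushout ((Over.pullback g).map θ₁) ((Over.pullback g).map θ₂)
      ((Over.pullback g).map φ₁) ((Over.pullback g).map φ₂) := by
  have hP : IsPushout θ₁.left θ₂.left φ₁.left φ₂.left := hX.map (Over.forget S)
  have hc := Groth.Agent.FlatMisc.PushoutCovers.exists_cover_closed θ₁.left θ₂.left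
  obtain ⟨-, hb, ha, -⟩ := Groth.Agent.PinchLib.StdPushout.props θ₁.left θ₂.left hc hP
  haveI := hb
  haveI := ha
  have hw : (Over.pullback g).map θ₁ ≫ (Over.pullback g).map φ₁ =
      (Over.pullback g).map θ₂ ≫ (Over.pullback g).map φ₂ := by
    rw [← Functor.map_comp, ← Functor.map_comp, hX.w]
  refine IsPushout.of_map (Over.forget S') hw ?_
  refine Groth.Agent.PinchLib.StdRinged.isPushout_of_toSh ?_
  refine Groth.Agent.PinchLib.isPushout_flatBaseChange (fX := X₁.hom) (fZ' := X₂.hom) (fX' := X.hom)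
    ((Over.w θ₂).trans (Over.w θ₁).symm) (Over.w φ₁) (Over.w φ₂)
    (Groth.Agent.PinchLib.StdRinged.isPushout_toSh hc hP)
    (IsPullback.of_hasPullback X₁.hom g) ?_ (IsPullback.of_hasPullback X₂.hom g)
    (IsPullback.of_hasPullback X.hom g)
    (eZ := pullback.fst Y.hom g) (pZ := pullback.snd Y.hom g) ?_ ?_ ?_ ?_ ?_ ?_ ?_ ?_
  · rw [Over.w θ₁]
    exact IsPullback.of_hasPullback Y.hom g
  all_goals first
    | exact pullback.lift_fst _ _ _
    | exact pullback.lift_snd _ _ _

end Groth.Agent.S16045
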