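import Groth.Statements.S16046
import Mathlib

set_option autoImplicit false
universe u
open TensorProduct
open ValRing

namespace Groth.Agent.S16046

section
variable {A K L A' K' : Type u} [CommRing A] [IsDomain A] [ValuationRing A] [Field K] [Algebra A K]
  [IsFractionRing A K] [Field L] [Algebra K L] [FiniteDimensional K L] [Algebra A L]
  [IsScalarTower A K L] [CommRing A'] [IsDomain A'] [ValuationRing A'] [Field K'] [Algebra A' K']
  [IsFractionRing A' K'] [Algebra A A'] [IsLocalHom (algebraMap A A')] [Algebra K K'] [Algebra A K']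
  [IsScalarTower A A' K'] [IsScalarTower A K K']

theorem mem_of_image_mem (c : K) (a' : A') (h : algebraMap A' K' a' = algebraMap K K' c) :
    ∃ a : A, algebraMap A K a = c := by
  rcases eq_or_ne c 0 with rfl | hc
  · exact ⟨0, map_zero _⟩
  rcases ValuationRing.isInteger_or_isInteger A c with ⟨r, hr⟩ | ⟨r, hr⟩
  · exact ⟨r, hr⟩
  · have h1 : algebraMap A A' r * a' = 1 := by
      apply IsFractionRing.injective A' K'
      rw [map_mul, map_one, h, ← IsScalarTower.algebraMap_apply A A' K',
        IsScalarTower.algebraMap_apply A K K', hr, ← map_mul, inv_mul_cancel₀ hc, map_one]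
    have hu : IsUnit r := IsLocalHom.map_nonunit r (IsUnit.of_mul_eq_one _ h1)
    obtain ⟨v, rfl⟩ := hu
    refine ⟨((v⁻¹ : Aˣ) : A), ?_⟩
    rw [map_units_inv, hr, inv_inv]

theorem integral_descend (y : L)
    (hy : ((Ideal.Quotient.mk (nilradical (K' ⊗[K] L))).comp
      ((Algebra.TensorProduct.includeLeft : K' →ₐ[K] K' ⊗[K] L).toRingHom.comp
        (algebraMap A' K'))).IsIntegralElem
      (Ideal.Quotient.mk (nilradical (K' ⊗[K] L)) ((1 : K') ⊗ₜ[K] y))) : IsIntegral A y := by
  classical
  obtain ⟨h, hmon, hev⟩ := hy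
  rw [← Polynomial.hom_eval₂, Ideal.Quotient.eq_zero_iff_mem, mem_nilradical] at hev
  obtain ⟨N, hN⟩ := hev
  rw [← Polynomial.eval₂_pow] at hN
  set p := h ^ N with hp
  have hpm : p.Monic := hmon.pow N
  have hpz : Polynomial.aeval ((1 : K') ⊗ₜ[K] y) (p.map (algebraMap A' K')) = 0 := by
    rw [Polynomial.aeval_def, Polynomial.eval₂_map]
    exact hN
  set g := minpoly K y with hg
  have hgm : g.Monic := minpoly.monic (IsIntegral.of_finite K y)
  have hgm' : (g.map (algebraMap K K')).Monic := hgm.map _
  have hgz : Polynomial.aeval ((1 : K') ⊗ₜ[K] y) (g.map (algebraMap K K')) = 0 := by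
    rw [Polynomial.aeval_map_algebraMap, show (1 : K') ⊗ₜ[K] y =
      (Algebra.TensorProduct.includeRight : L →ₐ[K] K' ⊗[K] L) y from rfl,
      Polynomial.aeval_algHom_apply, hg, minpoly.aeval, map_zero]
  have hdvd : g.map (algebraMap K K') ∣ p.map (algebraMap A' K') := by
    rw [← Polynomial.modByMonic_eq_zero_iff_dvd hgm']
    set r := p.map (algebraMap A' K') %ₘ g.map (algebraMap K K') with hr
    have hrz : Polynomial.aeval ((1 : K') ⊗ₜ[K] y) r = 0 := by
      rw [hr, Polynomial.modByMonic_eq_sub_mul_div (p.map (algebraMap A' K')) (g.map (algebraMap K K')),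
        map_sub, map_mul, hgz, hpz, zero_mul, sub_zero]
    set d := g.natDegree with hd
    have hrd : r.degree < (d : WithBot ℕ) := by
      refine (Polynomial.degree_modByMonic_lt _ hgm').trans_le ?_
      rw [Polynomial.degree_map]
      exact Polynomial.degree_le_natDegree
    let T : (Fin d → K) →ₗ[K] L := Fintype.linearCombination K (fun i : Fin d => y ^ (i : ℕ))
    have hT : LinearMap.ker T = ⊥ :=
      LinearMap.ker_eq_bot.2 (LinearIndependent.fintypeLinearCombination_injective (linearIndependent_pow y))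
    obtain ⟨S, hS⟩ := LinearMap.exists_leftInverse_of_injective T hT
    refine Polynomial.ext fun i => ?_
    rw [Polynomial.coeff_zero]
    by_cases hi : i < d
    · have hsum : ∑ j : Fin d, r.coeff j ⊗ₜ[K] (y ^ (j : ℕ)) = (0 : K' ⊗[K] L) := by
        have hnd : r.natDegree < d := by
          by_cases hr0 : r = 0
          · rw [hr0, Polynomial.natDegree_zero]; exact lt_of_le_of_lt (Nat.zero_le _) hi
          · exact (Polynomial.natDegree_lt_iff_degree_lt hr0).2 hrd
        rw [← hrz, Polynomial.aeval_def, Polynomial.eval₂_eq_sum_range' _ hnd, Finset.sum_range]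
        · refine Finset.sum_congr rfl fun j _ => ?_
          rw [Algebra.TensorProduct.tmul_pow, Algebra.TensorProduct.algebraMap_apply,
            Algebra.TensorProduct.tmul_mul_tmul, one_pow, mul_one, one_mul]
          rfl
      have := congrArg (((LinearMap.proj (⟨i, hi⟩ : Fin d)).comp S).lTensor K') hsum
      rw [map_sum, map_zero] at this
      have hpow : ∀ j : Fin d, ((LinearMap.proj (⟨i, hi⟩ : Fin d)).comp S) (y ^ (j : ℕ)) =
          if j = ⟨i, hi⟩ then 1 else 0 := fun j => by
        have hTj : T (Pi.single j 1) = y ^ (j : ℕ) := by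
          simp [T, Fintype.linearCombination_apply_single]
        have := LinearMap.congr_fun hS (Pi.single j 1)
        rw [LinearMap.comp_apply, hTj] at this
        simp [this, Pi.single_apply, eq_comm]
      simp only [LinearMap.lTensor_tmul, hpow] at this
      rw [Finset.sum_eq_single (⟨i, hi⟩ : Fin d) (fun j _ hj => by simp [hj]) (by simp)] at this
      have h2 := congrArg (TensorProduct.rid K K') this
      simpa using h2
    · exact Polynomial.coeff_eq_zero_of_degree_lt (hrd.trans_le (by exact_mod_cast Nat.le_of_not_lt hi))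
  obtain ⟨G, hG⟩ := IsIntegrallyClosed.eq_map_mul_C_of_dvd K' hpm hdvd
  rw [hgm'.leadingCoeff, map_one, mul_one] at hG
  have hlift : g ∈ Polynomial.lifts (algebraMap A K) := by
    rw [Polynomial.lifts_iff_coeff_lifts]
    intro n
    have := congrArg (fun q => Polynomial.coeff q n) hG
    simp only [Polynomial.coeff_map] at this
    obtain ⟨a, ha⟩ := mem_of_image_mem (A := A) (g.coeff n) (G.coeff n) this
    exact ⟨a, ha⟩
  obtain ⟨q, hq, -, hqm⟩ := Polynomial.lifts_and_degree_eq_and_monic hlift hgm
  refine ⟨q, hqm, ?_⟩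
  have := minpoly.aeval K y
  rw [← hg, ← hq, Polynomial.aeval_map_algebraMap] at this
  exact this

end


/-- Surjectivity assertion: let A ⊆ A' be valuation rings with fraction fields K ⊆ K', A' dominating A
and A dense in A' for the valuation topology, and L a finite extension of K; put L' = K' ⊗_K L. Then
every element of L' modulo its nilradical which is integral over A' is a finite sum Σ a'ᵢ·lᵢ with
a'ᵢ ∈ A' and lᵢ ∈ L integral over A. (The published statement also identifies the kernel of the map
from the tensor product with the nilradical; that part is not stated here.) -/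
theorem result
    (A K L A' K' : Type u) [CommRing A] [IsDomain A] [ValuationRing A] [Field K] [Algebra A K] [IsFractionRing A K]
    [Field L] [Algebra K L] [FiniteDimensional K L] [Algebra A L] [IsScalarTower A K L]
    [CommRing A'] [IsDomain A'] [ValuationRing A'] [Field K'] [Algebra A' K'] [IsFractionRing A' K']
    [Algebra A A'] [IsLocalHom (algebraMap A A')] (hinj : Function.Injective (algebraMap A A'))
    [Algebra K K'] [Algebra A K'] [IsScalarTower A A' K'] [IsScalarTower A K K']
    (hdense : ∀ a' b' : A', b' ≠ 0 → ∃ a : A, b' ∣ a' - algebraMap A A' a)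
    (x : (K' ⊗[K] L) ⧸ nilradical (K' ⊗[K] L))
    (hx : ((Ideal.Quotient.mk (nilradical (K' ⊗[K] L))).comp
            ((Algebra.TensorProduct.includeLeft : K' →ₐ[K] K' ⊗[K] L).toRingHom.comp (algebraMap A' K'))).IsIntegralElem x) :
    ∃ (n : ℕ) (a : Fin n → A') (l : Fin n → L), (∀ i, IsIntegral A (l i)) ∧
      x = Ideal.Quotient.mk (nilradical (K' ⊗[K] L)) (∑ i, algebraMap A' K' (a i) ⊗ₜ[K] l i) := by
  classical
  obtain ⟨z, rfl⟩ := Ideal.Quotient.mk_surjective x
  let Q := (K' ⊗[K] L) ⧸ nilradical (K' ⊗[K] L)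
  let π : K' ⊗[K] L →+* Q := Ideal.Quotient.mk _
  letI : Algebra A' Q := (π.comp ((Algebra.TensorProduct.includeLeft :
    K' →ₐ[K] K' ⊗[K] L).toRingHom.comp (algebraMap A' K'))).toAlgebra
  -- an integral basis
  haveI : Algebra.IsAlgebraic A L :=
    IsFractionRing.comap_isAlgebraic_iff.mpr (inferInstance : Algebra.IsAlgebraic K L)
  let b0 := Module.finBasis K L
  choose den hden hint using fun i => (Algebra.IsAlgebraic.isAlgebraic (R := A) (b0 i)).exists_integral_multiple
  have hden' : ∀ i, algebraMap A K (den i) ≠ 0 := fun i =>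
    (map_ne_zero_iff _ (IsFractionRing.injective A K)).2 (hden i)
  let ω := b0.unitsSMul (fun i => Units.mk0 _ (hden' i))
  have hω : ∀ i, IsIntegral A (ω i) := fun i => by
    rw [Module.Basis.unitsSMul_apply, Units.smul_mk0, algebraMap_smul]
    exact hint i
  let B := Algebra.TensorProduct.basis K' ω
  -- splitting of coefficients
  have hval : ∀ b' : A', b' ≠ 0 → ∃ b : A, Associated (algebraMap A A' b) b' := by
    intro b' hb'
    by_cases hu : IsUnit b'
    · exact ⟨1, by rw [map_one]; exact (associated_one_iff_isUnit.2 hu).symm⟩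
    · obtain ⟨b, s, hs⟩ := hdense b' (b' * b') (mul_ne_zero hb' hb')
      have hunit : IsUnit (1 - b' * s) :=
        IsLocalRing.isUnit_one_sub_self_of_mem_nonunits _ (fun h => hu (isUnit_of_mul_isUnit_left h))
      refine ⟨b, Associated.symm ⟨hunit.unit, ?_⟩⟩
      rw [IsUnit.unit_spec]
      linear_combination hs
  have hsplit : ∀ c : K', ∃ (q : A') (t : K), c = algebraMap A' K' q + algebraMap K K' t := by
    intro c
    obtain ⟨a', b', hb', rfl⟩ := IsFractionRing.div_surjective A' c
    have hb0 : b' ≠ 0 := nonZeroDivisors.ne_zero hb'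
    obtain ⟨b, v, hv⟩ := hval b' hb0
    obtain ⟨a, s, hs⟩ := hdense (a' * ↑v⁻¹) (algebraMap A A' b)
      (fun h => hb0 (by rw [← hv, h, zero_mul]))
    refine ⟨s, algebraMap A K a / algebraMap A K b, ?_⟩
    have hfb : algebraMap A' K' (algebraMap A A' b) ≠ 0 :=
      (map_ne_zero_iff _ (IsFractionRing.injective A' K')).2 (fun h => hb0 (by rw [← hv, h, zero_mul]))
    rw [map_div₀, ← IsScalarTower.algebraMap_apply A K K', ← IsScalarTower.algebraMap_apply A K K',
      IsScalarTower.algebraMap_apply A A' K', IsScalarTower.algebraMap_apply A A' K']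
    have hb'' : algebraMap A' K' b' ≠ 0 := (map_ne_zero_iff _ (IsFractionRing.injective A' K')).2 hb0
    have e1 : a' = (algebraMap A A' a + algebraMap A A' b * s) * ↑v := by
      rw [← hs, add_sub_cancel, mul_assoc, Units.inv_mul, mul_one]
    rw [e1, ← hv]
    simp only [map_mul, map_add]
    have hvne : algebraMap A' K' (v : A') ≠ 0 := (v.isUnit.map _).ne_zero
    field_simp
    ring
  choose q t hqt using fun i => hsplit (B.repr z i)
  let y : L := ∑ i, t i • ω i
  have hz : z = (∑ i, algebraMap A' K' (q i) ⊗ₜ[K] ω i) + (1 : K') ⊗ₜ[K] y := by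
    conv_lhs => rw [← B.sum_repr z]
    simp only [y, TensorProduct.tmul_sum, ← Finset.sum_add_distrib]
    refine Finset.sum_congr rfl fun i _ => ?_
    rw [show B i = (1 : K') ⊗ₜ[K] ω i from Algebra.TensorProduct.basis_apply _ _, TensorProduct.smul_tmul', smul_eq_mul,
      mul_one, hqt i, TensorProduct.add_tmul]
    congr 1
    rw [TensorProduct.tmul_smul, TensorProduct.smul_tmul', Algebra.smul_def, mul_one]
  let ψ : L →+* Q := π.comp (Algebra.TensorProduct.includeRight : L →ₐ[K] K' ⊗[K] L).toRingHom
  have hψ : ∀ w : L, IsIntegral A w → IsIntegral A' (ψ w) := fun w hw => by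
    refine IsIntegral.map_of_comp_eq (algebraMap A A') ψ ?_ hw
    refine RingHom.ext fun a => ?_
    change π (algebraMap A' K' (algebraMap A A' a) ⊗ₜ[K] (1 : L)) = π ((1 : K') ⊗ₜ[K] algebraMap A L a)
    rw [← IsScalarTower.algebraMap_apply A A' K', IsScalarTower.algebraMap_apply A K K',
      IsScalarTower.algebraMap_apply A K L, Algebra.algebraMap_eq_smul_one (R := K) (A := K'),
      TensorProduct.smul_tmul, ← Algebra.algebraMap_eq_smul_one]
  have hterm : ∀ i, π (algebraMap A' K' (q i) ⊗ₜ[K] ω i) = algebraMap A' Q (q i) * ψ (ω i) := fun i => by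
    change π _ = π (algebraMap A' K' (q i) ⊗ₜ[K] (1 : L)) * π ((1 : K') ⊗ₜ[K] ω i)
    rw [← map_mul, Algebra.TensorProduct.tmul_mul_tmul, mul_one, one_mul]
  have hy : IsIntegral A' (ψ y) := by
    have h1 : IsIntegral A' (π z) := hx
    have h2 : IsIntegral A' (∑ i, algebraMap A' Q (q i) * ψ (ω i)) :=
      IsIntegral.sum _ fun i _ => isIntegral_algebraMap.mul (hψ _ (hω i))
    have h3 : ψ y = π z - ∑ i, algebraMap A' Q (q i) * ψ (ω i) := by
      have e2 : π z = (∑ i, algebraMap A' Q (q i) * ψ (ω i)) + ψ y := by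
        rw [← Finset.sum_congr rfl fun i _ => hterm i, ← map_sum π, hz, map_add]
        rfl
      rw [e2, add_sub_cancel_left]
    rw [h3]
    exact h1.sub h2
  have hyA : IsIntegral A y := integral_descend (K' := K') (A' := A') y hy
  refine ⟨Module.finrank K L + 1, Fin.snoc q 1, Fin.snoc (fun i => ω i) y, fun i => ?_, ?_⟩
  · refine Fin.lastCases ?_ (fun j => ?_) i
    · simpa using hyA
    · simpa using hω j
  · congr 1
    rw [Fin.sum_univ_castSucc, hz]
    simp

end Groth.Agent.S16046
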