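import Groth.Statements.S16047
import Groth.Agent.GrpdLib.Slice16047.Colim

set_option autoImplicit false
universe u
open CategoryTheory CategoryTheory.Limits AlgebraicGeometry
open Grpd

namespace Groth.Agent.S16047

/-- Let (U, R, s, t, c) be a groupoid scheme over a scheme S with U, R locally of finite type over S, U
quasi-separated over S, and s, t flat and of finite presentation, and let x be a point of U closed
in its fibre over S. Then there are an R-saturated open V ∋ x of U and a subscheme Z of V such that: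
the groupoid R_Z induced on Z is flat and of finite presentation; Z ⟶ V/R_V presents the
ringed-space quotient V/R_V as the quotient of Z by R_Z, and every V-valued point of U is
fppf-locally R-equivalent to a point of Z (so the fppf quotient sheaves agree too); Z meets the
orbit of x in finitely many points; and when U is locally of finite presentation over S, Z is
locally of finite presentation and quasi-separated over S, and moreover quasi-compact over S if S is
quasi-separated. (The published statement says that Z may be taken of finite presentation over S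
whenever U is locally of finite presentation over S, with no condition on S; the proof produces Z
inside a closed subscheme cut out by finitely many equations in an affine open of U, which is
quasi-compact over S only when the base is quasi-separated: for the trivial groupoid on one chart of
an infinite-dimensional affine space with doubled origin, at the origin, no admissible Z is
quasi-compact over S. So quasi-compactness of Z over S is asserted only over a quasi-separated S.
Nor does the published statement ask U to be quasi-separated over S; without it the assertion fails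
— for the spectrum of an infinite product of copies of the field with two elements with a
non-isolated point doubled, and the groupoid exchanging the two copies, at one of the two points,
every admissible Z either has an induced groupoid that is not quasi-compact over Z or is not
quasi-separated over S — so U is assumed quasi-separated over S, as it is whenever S is locally
Noetherian.) -/
theorem result
    {S : Scheme.{u}} (G : Grpd.GroupoidScheme S)
    [LocallyOfFiniteType G.pU] [LocallyOfFiniteType G.pR] [QuasiSeparated G.pU]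
    [Flat G.s] [LocallyOfFinitePresentation G.s] [QuasiCompact G.s] [QuasiSeparated G.s]
    [Flat G.t] [LocallyOfFinitePresentation G.t] [QuasiCompact G.t] [QuasiSeparated G.t]
    (x : ↥G.U) (hx : closure ({x} : Set ↥G.U) ∩ G.pU ⁻¹' {G.pU x} = {x}) :
    ∃ (V : G.U.Opens) (hsat : G.s ⁻¹ᵁ V = G.t ⁻¹ᵁ V) (Z : Scheme.{u}) (ι : Z ⟶ G.U) (ιV : Z ⟶ (V : Scheme.{u})),
      x ∈ V ∧ IsImmersion ι ∧ ιV ≫ V.ι = ι ∧
      (Flat (pullback.fst (pullback.map (ι ≫ G.pU) (ι ≫ G.pU) G.pU G.pU ι ι (𝟙 S) (Category.comp_id _) (Category.comp_id _)) G.j ≫ pullback.fst (ι ≫ G.pU) (ι ≫ G.pU)) ∧ LocallyOfFinitePresentation (pullback.fst (pullback.map (ι ≫ G.pU) (ι ≫ G.pU) G.pU G.pU ι ι (𝟙 S) (Category.comp_id _) (Category.comp_id _)) G.j ≫ pullback.fst (ι ≫ G.pU) (ι ≫ G.pU)) ∧ QuasiCompact (pullback.fst (pullback.map (ι ≫ G.pU) (ι ≫ G.pU) G.pU G.pU ι ι (𝟙 S) (Category.comp_id _) (Category.comp_id _)) G.j ≫ pullback.fst (ι ≫ G.pU) (ι ≫ G.pU)) ∧ QuasiSeparated (pullback.fst (pullback.map (ι ≫ G.pU) (ι ≫ G.pU)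 G.pU G.pU ι ι (𝟙 S) (Category.comp_id _) (Category.comp_id _)) G.j ≫ pullback.fst (ι ≫ G.pU) (ι ≫ G.pU)) ∧
       Flat (pullback.fst (pullback.map (ι ≫ G.pU) (ι ≫ G.pU) G.pU G.pU ι ι (𝟙 S) (Category.comp_id _) (Category.comp_id _)) G.j ≫ pullback.snd (ι ≫ G.pU) (ι ≫ G.pU)) ∧ LocallyOfFinitePresentation (pullback.fst (pullback.map (ι ≫ G.pU) (ι ≫ G.pU) G.pU G.pU ι ι (𝟙 S) (Category.comp_id _) (Category.comp_id _)) G.j ≫ pullback.snd (ι ≫ G.pU) (ι ≫ G.pU)) ∧ QuasiCompact (pullback.fst (pullback.map (ι ≫ G.pU) (ι ≫ G.pU) G.pU G.pU ι ι (𝟙 S) (Category.comp_id _) (Category.comp_id _)) G.j ≫ pullback.snd (ι ≫ G.pU) (ι ≫ G.pU)) ∧ QuasiSeparated (pullback.fst (pullback.map (ι ≫ G.pU) (ι ≫ G.pU) G.pU G.pU ι ι (𝟙 S) (Category.comp_id _) (Category.comp_id _)) G.j ≫ pullback.snd (ι ≫ G.pU) (ι ≫ G.pU))) ∧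
      (∃ (wR : (Scheme.forgetToLocallyRingedSpace ⋙ LocallyRingedSpace.forgetToSheafedSpace).map (pullback.fst (pullback.map (ι ≫ G.pU) (ι ≫ G.pU) G.pU G.pU ι ι (𝟙 S) (Category.comp_id _) (Category.comp_id _)) G.j ≫ pullback.fst (ι ≫ G.pU) (ι ≫ G.pU)) ≫ ((Scheme.forgetToLocallyRingedSpace ⋙ LocallyRingedSpace.forgetToSheafedSpace).map ιV ≫ coequalizer.π ((Scheme.forgetToLocallyRingedSpace ⋙ LocallyRingedSpace.forgetToSheafedSpace).map (G.s ∣_ V)) ((Scheme.forgetToLocallyRingedSpace ⋙ LocallyRingedSpace.forgetToSheafedSpace).map ((G.R.isoOfEq hsat).hom ≫ (G.t ∣_ V)))) = (Scheme.forgetToLocallyRingedSpace ⋙ LocallyRingedSpace.forgetToSheafedSpace).map (pullback.fst (pullback.map (ι ≫ G.pU) (ι ≫ G.pU) G.pU G.pU ι ι (𝟙 S) (Category.comp_id _) (Category.comp_id _)) G.j ≫ pullback.snd (ι ≫ G.pU) (ι ≫ G.pU)) ≫ ((Scheme.forgetToLocallyRingedSpace ⋙ LocallyRingedSpace.forgetToSheafedSpace).map ιV ≫ coequalizer.π ((Scheme.forgetToLocallyRingedSpace ⋙ LocallyRingedSpace.forgetToSheafedSpace).map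 (G.s ∣_ V)) ((Scheme.forgetToLocallyRingedSpace ⋙ LocallyRingedSpace.forgetToSheafedSpace).map ((G.R.isoOfEq hsat).hom ≫ (G.t ∣_ V))))),
         Nonempty (IsColimit (Cofork.ofπ ((Scheme.forgetToLocallyRingedSpace ⋙ LocallyRingedSpace.forgetToSheafedSpace).map ιV ≫ coequalizer.π ((Scheme.forgetToLocallyRingedSpace ⋙ LocallyRingedSpace.forgetToSheafedSpace).map (G.s ∣_ V)) ((Scheme.forgetToLocallyRingedSpace ⋙ LocallyRingedSpace.forgetToSheafedSpace).map ((G.R.isoOfEq hsat).hom ≫ (G.t ∣_ V)))) wR))) ∧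
      (∀ (T : Scheme.{u}) (v : T ⟶ G.U), Set.range ⇑v ⊆ (V : Set ↥G.U) →
         ∃ (T' : Scheme.{u}) (c : T' ⟶ T) (r : T' ⟶ G.R) (z : T' ⟶ Z),
           Flat c ∧ LocallyOfFinitePresentation c ∧ Surjective c ∧ r ≫ G.t = c ≫ v ∧ z ≫ ι = r ≫ G.s) ∧
      {z : ↥Z | ∃ r : ↥G.R, G.s r = x ∧ G.t r = ι z}.Finite ∧
      (LocallyOfFinitePresentation G.pU → LocallyOfFinitePresentation (ι ≫ G.pU) ∧ QuasiSeparated (ι ≫ G.pU) ∧
        (QuasiSeparatedSpace ↥S → QuasiCompact (ι ≫ G.pU))) := by
  obtain ⟨S0, hS0, Z, hZ, ι, himm, hlfp, hrange, hflat, hfin, z₀, r₀, hr₀s, hr₀t⟩ :=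
    GrpdLib.Slice16047.exists_affine_slice G x hx
  have hlfpH : LocallyOfFinitePresentation (GrpdLib.Slice16047.hOf G ι) := inferInstance
  refine ⟨GrpdLib.Slice16047.satOpen G ι, GrpdLib.Slice16047.sat_eq G ι, Z, ι,
    GrpdLib.Slice16047.toSat G ι, (GrpdLib.Slice16047.mem_satOpen G ι).mpr ⟨z₀, r₀, hr₀t, hr₀s⟩,
    himm, GrpdLib.Slice16047.toSat_ι G ι, GrpdLib.Slice16047.induced_props G ι hS0 hrange,
    ⟨GrpdLib.Slice16047.toSat_w G ι, GrpdLib.Slice16047.isColimit_toSat G ι⟩,
    fun T v hv => GrpdLib.Slice16047.exists_local_rel G ι v hv, hfin, fun hU => ⟨inferInstance,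
      inferInstance, fun hS => inferInstance⟩⟩

end Groth.Agent.S16047
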