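import Groth.Statements.S16048
import Groth.Agent.ArtFunLib.SmoothRel

set_option autoImplicit false
universe u v
open CategoryTheory
open ArtFun

namespace Groth.Agent.S16048

open Groth.Agent.ArtFunLib

/-- Let Λ be a complete local Noetherian ring with residue field k and F a functor on Artinian local
Λ-algebras with residue field k which admits a hull. A family ξ of F over a complete local
Noetherian Λ-algebra R with residue field k such that R is isomorphic over Λ to a power series ring
Λ[[t_1, …, t_n]] and the induced map on tangent spaces h_R(k[ε]) → F(k[ε]) is bijective is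
miniversal. (The source states this for the deformation functor of a rational double point over the
Witt vectors of an algebraically closed field, with the Kodaira–Spencer map as the tangent map and
the existence of a hull taken from Schlessinger's criteria; the argument uses only the existence of
a hull, so the hull is carried as a hypothesis and Λ is any complete local Noetherian ring with
residue field k.) -/
theorem result {Λ : Type u} {k : Type u}
    [CommRing Λ] [Field k] [Algebra Λ k] [IsNoetherianRing Λ] [Module.Finite Λ k]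
    [IsLocalRing Λ] [IsAdicComplete (IsLocalRing.maximalIdeal Λ) Λ]
    (hk : Function.Surjective (algebraMap Λ k))
    {F : ArtFun.Art Λ k ⥤ Type v} (hF : ArtFun.HasHull F)
    (R : ArtFun.CRing Λ k) (n : ℕ) (e : R.carrier ≃ₐ[Λ] MvPowerSeries (Fin n) Λ)
    (ξ : ArtFun.Family R.carrier R.res F)
    (hξ : Function.Bijective (ArtFun.TangentSpace.ofFamily ξ)) :
    ArtFun.IsMiniversal ξ := by
  obtain ⟨H⟩ := hF
  haveI : Subsingleton (F.obj (ArtFun.Art.base Λ k)) := (h0_of_tangent_surjective ξ hξ.2).2
  obtain ⟨f, hf, hfu⟩ := exists_along_eq_of_versal H.miniversal.1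
    (fun _ => ⟨basePoint _ _, Subsingleton.elim _ _⟩) R ξ.toFormalElt
  have hfξ : H.family.along f hf = ξ := toFormalElt_injective hfu
  have hfs : Function.Surjective f := surjective_of_tangent_injective f hf fun θ₁ θ₂ h => by
    refine hξ.1 ?_
    change ξ.app _ θ₁ = ξ.app _ θ₂
    rw [← hfξ]
    exact congrArg (H.family.app _) (Subtype.ext h)
  let L : ArtFun.CRing Λ k :=
    { carrier := Λ, res := Algebra.ofId Λ k, res_surjective := hk, isAdicComplete := inferInstance }
  -- a section of `f`
  choose b hb using fun i : Fin n => hfs (e.symm (psX L n i))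
  let eI : (psRing L n).carrier →ₐ[Λ] R.carrier :=
    { e.symm.toAlgHom.toRingHom with commutes' := fun a => e.symm.commutes a }
  have heI : R.res.comp eI = (psRing L n).res := res_comp_of_surjective eI
    (AlgHom.ext fun (r : Λ) => (AlgHom.commutes _ r).trans (AlgHom.commutes _ r).symm) e.symm.surjective
  have hres : ∀ z : R.carrier, R.res z = (psRing L n).res (e z) := fun z => by
    rw [← ArtFun.CRing.res_comp_apply eI heI]
    exact congrArg R.res (e.symm_apply_apply z).symm
  obtain ⟨g₀, hg₀, hg₀C, hg₀X⟩ := exists_psHom (R := L) (T := H.ring) (Algebra.ofId Λ H.ring.carrier)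
    (AlgHom.ext fun a => H.ring.res.commutes a) b (fun i => by
      rw [← ArtFun.CRing.res_comp_apply f hf, hb, hres, e.apply_symm_apply, psX_res])
  let eA : R.carrier →ₐ[Λ] (psRing L n).carrier :=
    { e.toAlgHom.toRingHom with commutes' := fun a => e.commutes a }
  let g : R.carrier →ₐ[Λ] H.ring.carrier := g₀.comp eA
  have hg : H.ring.res.comp g = R.res := AlgHom.ext fun z =>
    (ArtFun.CRing.res_comp_apply g₀ hg₀ (eA z)).trans (hres z).symm
  have hfg₀ : f.comp g₀ = eI := eq_of_trunc_eq fun N => congrArg Subtype.val (psHomSet_ext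
    (ψ₁ := ⟨(R.truncHom N).1.comp (f.comp g₀), by
      rw [← AlgHom.comp_assoc, (R.truncHom N).2, ← AlgHom.comp_assoc, hf, hg₀]⟩)
    (ψ₂ := ⟨(R.truncHom N).1.comp eI, by rw [← AlgHom.comp_assoc, (R.truncHom N).2, heI]⟩)
    (AlgHom.ext fun (r : Λ) => (AlgHom.commutes _ r).trans (AlgHom.commutes _ r).symm)
    (fun i => congrArg (R.truncHom N).1 (((congrArg f (hg₀X i)).trans (hb i)))))
  have hfg : f.comp g = AlgHom.id Λ R.carrier := AlgHom.ext fun z =>
    (congrArg (fun t : (psRing L n).carrier →ₐ[Λ] R.carrier => t (eA z)) hfg₀).trans (e.symm_apply_apply z)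
  have hgs : Function.Surjective g := surjective_of_tangent_injective g hg fun θ₁ θ₂ h => by
    have key : ∀ θ : ArtFun.HomSet H.ring.carrier H.ring.res (ArtFun.Art.dual Λ k), (θ.1.comp g).comp f = θ.1 := fun θ => by
      obtain ⟨η, hη⟩ := hξ.2 (H.family.app _ θ)
      have e1 : (⟨η.1.comp f, by rw [← AlgHom.comp_assoc, η.2, hf]⟩ : ArtFun.HomSet H.ring.carrier H.ring.res (ArtFun.Art.dual Λ k)) = θ := by
        refine H.miniversal.2.1 ?_
        exact Eq.trans (congrArg (fun t : ArtFun.Family R.carrier R.res F => t.app _ η) hfξ) hη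
      have e2 : η.1.comp f = θ.1 := congrArg Subtype.val e1
      rw [← e2, AlgHom.comp_assoc η.1 f g, hfg, AlgHom.comp_id]
    exact Subtype.ext (by rw [← key θ₁, ← key θ₂, h])
  have hfb : Function.Bijective f := ⟨fun a c h => by
    obtain ⟨a, rfl⟩ := hgs a
    obtain ⟨c, rfl⟩ := hgs c
    have e1 : ∀ z, f (g z) = z := fun z => congrArg (fun t : R.carrier →ₐ[Λ] R.carrier => t z) hfg
    rw [e1, e1] at h
    rw [h], hfs⟩
  refine ⟨?_, hξ⟩
  rw [← hfξ]
  exact isVersal_of_bijective f hf hfb H.miniversal.1

end Groth.Agent.S16048
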