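import Groth.Statements.S16050
import Groth.Agent.Desc44.PSKaehler


set_option autoImplicit false
universe u
open CategoryTheory
open LCI

namespace Groth.Agent.S16050

/-- Let k be an algebraically closed field of characteristic p > 0, P = k[[x, y, z]] the power series
ring in three variables, f a non-unit of P defining an isolated singularity — some power of the
maximal ideal of P is contained in (f) + J, where J is the ideal generated by the values D(f) of all
k-derivations D of P (the Jacobian ideal (f_x, f_y, f_z)) — and R₀ = P/(f). Then Ext²_{R₀}(Ω_{R₀/k},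
R₀) = 0 and Ext¹_{R₀}(Ω_{R₀/k}, R₀) is isomorphic as an R₀-module to R₀/J R₀, the Tjurina algebra
(existence of an R₀-linear isomorphism only; the source obtains it from the boundary map of the
dualized conormal sequence). The source states this for the normal form of a rational double point;
the hypotheses used are those given here. Here Ω is the module of Kähler differentials of the
k-algebra R₀. (The lemma also identifies first-order deformations of R₀ with this Ext¹ group; that
identification is quoted there from another work and is not part of this row.) -/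
theorem result (k : Type u) [Field k] [IsAlgClosed k]
    (p : ℕ) [Fact p.Prime] [CharP k p]
    (f : MvPowerSeries (Fin 3) k) (hf : f ∈ IsLocalRing.maximalIdeal (MvPowerSeries (Fin 3) k))
    (hiso : ∃ N : ℕ, IsLocalRing.maximalIdeal (MvPowerSeries (Fin 3) k) ^ N ≤
      Ideal.span {f} ⊔ Ideal.span {g | ∃ D : Derivation k (MvPowerSeries (Fin 3) k) (MvPowerSeries (Fin 3) k), g = D f}) :
    Subsingleton (Abelian.Ext
        (ModuleCat.of (MvPowerSeries (Fin 3) k ⧸ Ideal.span {f})
          (KaehlerDifferential k (MvPowerSeries (Fin 3) k ⧸ Ideal.span {f})))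
        (ModuleCat.of (MvPowerSeries (Fin 3) k ⧸ Ideal.span {f}) (MvPowerSeries (Fin 3) k ⧸ Ideal.span {f})) 2) ∧
      Nonempty (Abelian.Ext
        (ModuleCat.of (MvPowerSeries (Fin 3) k ⧸ Ideal.span {f})
          (KaehlerDifferential k (MvPowerSeries (Fin 3) k ⧸ Ideal.span {f})))
        (ModuleCat.of (MvPowerSeries (Fin 3) k ⧸ Ideal.span {f}) (MvPowerSeries (Fin 3) k ⧸ Ideal.span {f})) 1 ≃ₗ[MvPowerSeries (Fin 3) k ⧸ Ideal.span {f}]
        ((MvPowerSeries (Fin 3) k ⧸ Ideal.span {f}) ⧸ Ideal.map (Ideal.Quotient.mk (Ideal.span {f}))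
          (Ideal.span {g | ∃ D : Derivation k (MvPowerSeries (Fin 3) k) (MvPowerSeries (Fin 3) k), g = D f}))) := by
  obtain ⟨N, hN⟩ := hiso
  have hX : ∀ i : Fin 3, (MvPowerSeries.X i : MvPowerSeries (Fin 3) k) ^ N ∈
      Ideal.span {f} ⊔ Ideal.span {g | ∃ D : Derivation k (MvPowerSeries (Fin 3) k) (MvPowerSeries (Fin 3) k), g = D f} :=
    fun i => hN (Ideal.pow_mem_pow ((IsLocalRing.mem_maximalIdeal _).2 fun hu => by
      rw [MvPowerSeries.isUnit_iff_constantCoeff, MvPowerSeries.constantCoeff_X] at hu
      exact not_isUnit_zero hu) _)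
  rw [Desc44.PSKaehler.span_derivations_eq p] at hX
  have hf0 : f ≠ 0 := by
    rintro rfl
    have h := hX 0
    simp at h
    have := congrArg (MvPowerSeries.coeff (Finsupp.single (0 : Fin 3) N)) (pow_eq_zero_iff'.2 h)
    rw [MvPowerSeries.X_pow_eq, MvPowerSeries.coeff_monomial_same, map_zero] at this
    exact one_ne_zero this
  refine Desc44.PSKaehler.ext_hypersurface p f fun a ha => ?_
  have key : ∀ x ∈ Ideal.span {f} ⊔ Ideal.span (Set.range fun i => MvPowerSeries.pderiv k i f),
      a * x ∈ Ideal.span {f} := by
    intro x hx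
    have hle : Ideal.span {f} ⊔ Ideal.span (Set.range fun i => MvPowerSeries.pderiv k i f) ≤
        (Ideal.span {f}).colon {a} := by
      refine sup_le (fun y hy => ?_) (Ideal.span_le.2 ?_)
      · rw [Submodule.mem_colon_singleton]; exact Ideal.mul_mem_right _ _ hy
      · rintro _ ⟨i, rfl⟩
        rw [SetLike.mem_coe, Submodule.mem_colon_singleton, smul_eq_mul, mul_comm]
        exact ha i
    have := Submodule.mem_colon_singleton.1 (hle hx)
    rwa [smul_eq_mul, mul_comm] at this
  exact Desc44.PSKaehler.mem_span_of_mul_pow hf0 (i := 0) (j := 1) (by decide) _ (key _ (hX 0)) (key _ (hX 1))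


end Groth.Agent.S16050
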