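import Groth.Statements.S16051
import Mathlib.LinearAlgebra.Dimension.Constructions
import Mathlib.Algebra.BigOperators.Intervals
import Mathlib.LinearAlgebra.Dimension.StrongRankCondition

set_option autoImplicit false
universe u
open LieAlg
attribute [local instance] LieRing.ofAssociativeRing

namespace Groth.Agent.S16051

variable {O : Type u} [CommRing O] (n : ℕ)

/-- The entries, extended by zero. -/
def ext (M : Matrix (Fin (n + 1)) (Fin (n + 1)) O) (a b : ℕ) : O :=
  if h : a < n + 1 ∧ b < n + 1 then M ⟨a, h.1⟩ ⟨b, h.2⟩ else 0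

theorem ext_fin (M : Matrix (Fin (n + 1)) (Fin (n + 1)) O) (i j : Fin (n + 1)) :
    ext n M i j = M i j := by
  unfold ext
  rw [dif_pos ⟨i.2, j.2⟩]

variable (O) in
/-- The subregular nilpotent matrix. -/
def J : Matrix (Fin (n + 1)) (Fin (n + 1)) O :=
  fun i j => if j.val = i.val + 1 ∧ j.val < n then 1 else 0

theorem comm_apply (M : Matrix (Fin (n + 1)) (Fin (n + 1)) O) (i j : Fin (n + 1)) :
    ((J O n * M - M * J O n : Matrix (Fin (n + 1)) (Fin (n + 1)) O) i j) =
      (if i.val + 1 < n then ext n M (i.val + 1) j else 0) -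
      (if 1 ≤ j.val ∧ j.val < n then ext n M i (j.val - 1) else 0) := by
  rw [Matrix.sub_apply, Matrix.mul_apply, Matrix.mul_apply]
  congr 1
  · by_cases h : i.val + 1 < n
    · rw [if_pos h, Finset.sum_eq_single ⟨i.val + 1, by omega⟩]
      · simp [J, h, ← ext_fin n M]
      · intro k _ hk
        have : ¬(k.val = i.val + 1 ∧ k.val < n) := fun hh => hk (Fin.ext hh.1)
        simp [J, this]
      · simp
    · rw [if_neg h]
      refine Finset.sum_eq_zero fun k _ => ?_
      have : ¬(k.val = i.val + 1 ∧ k.val < n) := by omega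
      simp [J, this]
  · by_cases h : 1 ≤ j.val ∧ j.val < n
    · rw [if_pos h, Finset.sum_eq_single ⟨j.val - 1, by omega⟩]
      · simp [J, h.2, ← ext_fin n M, Nat.sub_add_cancel h.1]
      · intro k _ hk
        have : ¬(j.val = k.val + 1 ∧ j.val < n) := fun hh => hk (Fin.ext (by simp; omega))
        simp [J, this]
      · simp
    · rw [if_neg h]
      refine Finset.sum_eq_zero fun k _ => ?_
      have : ¬(j.val = k.val + 1 ∧ j.val < n) := by omega
      simp [J, this]

theorem ext_comm (M : Matrix (Fin (n + 1)) (Fin (n + 1)) O) {a b : ℕ} (ha : a < n + 1) (hb : b < n + 1) :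
    ext n (J O n * M - M * J O n) a b =
      (if a + 1 < n then ext n M (a + 1) b else 0) -
      (if 1 ≤ b ∧ b < n then ext n M a (b - 1) else 0) := by
  exact (ext_fin n _ ⟨a, ha⟩ ⟨b, hb⟩).trans (comm_apply n M ⟨a, ha⟩ ⟨b, hb⟩)

/-- The invariants. -/
def phi : Matrix (Fin (n + 1)) (Fin (n + 1)) O →ₗ[O] (Fin n → O) × O × O where
  toFun M := (fun k => ∑ i ∈ Finset.range (n - k.val), ext n M (i + k.val) i,
    ext n M (n - 1) n, ext n M n 0)
  map_add' M N := by
    have h : ∀ a b, ext n (M + N) a b = ext n M a b + ext n N a b := fun a b => by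
      unfold ext
      split_ifs <;> simp
    ext <;> simp [h, Finset.sum_add_distrib]
  map_smul' r M := by
    have h : ∀ a b, ext n (r • M) a b = r * ext n M a b := fun a b => by
      unfold ext
      split_ifs <;> simp
    ext <;> simp [h, Finset.mul_sum]

theorem phi_comm (hn : 1 ≤ n) (M : Matrix (Fin (n + 1)) (Fin (n + 1)) O) :
    phi n (J O n * M - M * J O n) = 0 := by
  refine Prod.ext (funext fun k => ?_) (Prod.ext ?_ ?_)
  · show ∑ i ∈ Finset.range (n - k.val), ext n (J O n * M - M * J O n) (i + k.val) i = 0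
    obtain ⟨m, hm⟩ : ∃ m, n - k.val = m + 1 := ⟨n - k.val - 1, by omega⟩
    rw [hm, Finset.sum_congr rfl (fun i hi => ext_comm n M (a := i + k.val) (b := i)
      (by simp at hi; omega) (by simp at hi; omega)), Finset.sum_sub_distrib]
    rw [Finset.sum_range_succ, Finset.sum_range_succ']
    rw [if_neg (by omega), if_neg (by omega), add_zero, add_zero, sub_eq_zero]
    refine Finset.sum_congr rfl fun i hi => ?_
    simp at hi
    rw [if_pos (by omega), if_pos ⟨by omega, by omega⟩]
    rw [Nat.add_sub_cancel, show i + 1 + k.val = i + k.val + 1 by omega]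
  · show ext n (J O n * M - M * J O n) (n - 1) n = 0
    rw [ext_comm n M (by omega) (by omega), if_neg (by omega), if_neg (by omega), sub_zero]
  · show ext n (J O n * M - M * J O n) n 0 = 0
    rw [ext_comm n M (by omega) (by omega), if_neg (by omega), if_neg (by omega), sub_zero]

/-- Sums along the diagonals. -/
def D (f : ℕ → ℕ → O) (a b : ℕ) : O :=
  ∑ t ∈ Finset.range a, if t ≤ b then f (a - 1 - t) (b - t) else 0

theorem D_succ_zero (f : ℕ → ℕ → O) (a : ℕ) : D f (a + 1) 0 = f a 0 := by
  unfold D
  rw [Finset.sum_range_succ']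
  simp

theorem D_succ_succ (f : ℕ → ℕ → O) (a b : ℕ) : D f (a + 1) (b + 1) = f a (b + 1) + D f a b := by
  unfold D
  rw [Finset.sum_range_succ', add_comm]
  congr 1
  refine Finset.sum_congr rfl fun t _ => ?_
  by_cases h : t ≤ b
  · rw [if_pos h, if_pos (by omega)]
    congr 1 <;> omega
  · rw [if_neg h, if_neg (by omega)]

theorem D_top (f : ℕ → ℕ → O) (b : ℕ) (hb : b < n) :
    D f n b = ∑ i ∈ Finset.range (n - (n - 1 - b)), f (i + (n - 1 - b)) i := by
  unfold D
  rw [show n - (n - 1 - b) = b + 1 by omega, ← Finset.sum_range_reflect _ (b + 1)]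
  rw [← Finset.sum_subset (Finset.range_subset_range.mpr (by omega : b + 1 ≤ n))
    (f := fun t => if t ≤ b then f (n - 1 - t) (b - t) else 0) (fun t _ ht => by
      simp at ht
      rw [if_neg (by omega)])]
  refine Finset.sum_congr rfl fun t ht => ?_
  simp at ht
  rw [if_pos ht]
  congr 1 <;> omega

/-- A preimage under the commutator with `J`. -/
def pre (M : Matrix (Fin (n + 1)) (Fin (n + 1)) O) : Matrix (Fin (n + 1)) (Fin (n + 1)) O :=
  fun i j =>
    if i.val < n then
      if j.val < n then D (ext n M) i j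
      else if 1 ≤ i.val then ext n M (i.val - 1) n else 0
    else if j.val + 1 < n then -ext n M n (j.val + 1) else 0

theorem comm_pre (hn : 1 ≤ n) (M : Matrix (Fin (n + 1)) (Fin (n + 1)) O)
    (h1 : phi n M = 0) (h2 : ext n M n n = 0) : J O n * pre n M - pre n M * J O n = M := by
  have hσ : ∀ b, b < n → D (ext n M) n b = 0 := fun b hb => by
    rw [D_top n _ b hb]
    exact congrFun (congrArg Prod.fst h1) ⟨n - 1 - b, by omega⟩
  have hB : ext n M (n - 1) n = 0 := congrArg (fun z => z.2.1) h1
  have hC : ext n M n 0 = 0 := congrArg (fun z => z.2.2) h1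
  ext i j
  rw [comm_apply, ← ext_fin n M i j]
  obtain ⟨a, ha⟩ := i
  obtain ⟨b, hb⟩ := j
  dsimp only
  by_cases haN : a < n
  · by_cases hbN : b < n
    · rcases b with _ | b
      · rw [if_neg (show ¬(1 ≤ 0 ∧ 0 < n) by omega), sub_zero]
        by_cases ha1 : a + 1 < n
        · rw [if_pos ha1]
          unfold ext
          rw [dif_pos ⟨by omega, by omega⟩]
          simp only [pre, if_pos ha1, if_pos hbN]
          exact D_succ_zero (ext n M) a
        · rw [if_neg ha1]
          have h3 : D (ext n M) (a + 1) 0 = 0 := by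
            rw [show a + 1 = n by omega]
            exact hσ 0 hbN
          exact h3.symm.trans (D_succ_zero (ext n M) a)
      · rw [if_pos (show 1 ≤ b + 1 ∧ b + 1 < n by omega), Nat.add_sub_cancel]
        have hp : ext n (pre n M) a b = D (ext n M) a b := by
          conv_lhs => unfold ext
          rw [dif_pos ⟨by omega, by omega⟩]
          simp only [pre, if_pos haN, if_pos (show b < n by omega)]
        rw [hp]
        by_cases ha1 : a + 1 < n
        · rw [if_pos ha1]
          conv_lhs => arg 1; unfold ext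
          rw [dif_pos ⟨by omega, by omega⟩]
          simp only [pre, if_pos ha1, if_pos hbN]
          rw [D_succ_succ, add_sub_cancel_right]
        · rw [if_neg ha1, zero_sub]
          have h3 := hσ (b + 1) hbN
          rw [show D (ext n M) n (b + 1) = D (ext n M) (a + 1) (b + 1) by congr 1; omega,
            D_succ_succ] at h3
          rw [neg_eq_iff_add_eq_zero, add_comm]
          exact h3
    · obtain rfl : b = n := by omega
      rw [if_neg (show ¬(1 ≤ b ∧ b < b) by omega), sub_zero]
      by_cases ha1 : a + 1 < b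
      · rw [if_pos ha1]
        conv_lhs => unfold ext
        rw [dif_pos ⟨by omega, by omega⟩]
        simp only [pre, if_pos ha1, lt_irrefl, if_false, if_pos (show 1 ≤ a + 1 by omega),
          Nat.add_sub_cancel]
      · rw [if_neg ha1, show a = b - 1 by omega, hB]
  · obtain rfl : a = n := by omega
    rw [if_neg (show ¬(a + 1 < a) by omega), zero_sub]
    rcases b with _ | b
    · rw [if_neg (show ¬(1 ≤ 0 ∧ 0 < a) by omega), neg_zero, hC]
    · by_cases hbN : b + 1 < a
      · rw [if_pos (show 1 ≤ b + 1 ∧ b + 1 < a by omega), Nat.add_sub_cancel]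
        conv_lhs => arg 1; unfold ext
        rw [dif_pos ⟨by omega, by omega⟩]
        simp only [pre, lt_irrefl, if_false, if_pos hbN, neg_neg]
      · rw [if_neg (show ¬(1 ≤ b + 1 ∧ b + 1 < a) by omega), neg_zero]
        rw [show b + 1 = a by omega, h2]

theorem trace_eq (hn : 1 ≤ n) (M : Matrix (Fin (n + 1)) (Fin (n + 1)) O) :
    Matrix.trace M = (phi n M).1 ⟨0, hn⟩ + ext n M n n := by
  show _ = (∑ i ∈ Finset.range (n - 0), ext n M (i + 0) i) + _
  rw [Nat.sub_zero]
  simp only [Nat.add_zero]
  rw [← Finset.sum_range_succ, Finset.sum_range]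
  simp only [Matrix.trace, Matrix.diag, ext_fin]

end Groth.Agent.S16051

namespace Groth.Agent.S16051

/-- Let O be a discrete valuation ring of characteristic zero with residue field of characteristic p,
let 1 ≤ n with n + 1 < p (type A_n with p above the Coxeter number), and let x ∈ sl_{n+1}(O) be the
standard subregular nilpotent element, the matrix with entries x_{i,i+1} = 1 for i + 1 < n and 0
elsewhere (one Jordan block of size n and one of size 1; in the source this is the sum of the root
vectors of the first n − 1 simple roots, completed there to an sl₂-triple). Then the quotient of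
sl_{n+1}(O) by the image of ad_x is a free O-module of rank n + 2. (The source works over a complete
such ring with algebraically closed residue field; completeness and algebraic closedness are not
used for this statement.) -/
theorem result (O : Type u) [CommRing O] [IsDomain O] [IsDiscreteValuationRing O]
    [CharZero O] (p : ℕ) [Fact p.Prime] [CharP (IsLocalRing.ResidueField O) p]
    (n : ℕ) (hn : 1 ≤ n) (hp : n + 1 < p)
    (x : LieAlgebra.SpecialLinear.sl (Fin (n + 1)) O)
    (hx : ∀ i j : Fin (n + 1), (x : Matrix (Fin (n + 1)) (Fin (n + 1)) O) i j =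
      if j.val = i.val + 1 ∧ j.val < n then 1 else 0) :
    Module.Free O (LieAlgebra.SpecialLinear.sl (Fin (n + 1)) O ⧸
        LinearMap.range (LieAlgebra.ad O (LieAlgebra.SpecialLinear.sl (Fin (n + 1)) O) x)) ∧
      Module.finrank O (LieAlgebra.SpecialLinear.sl (Fin (n + 1)) O ⧸
        LinearMap.range (LieAlgebra.ad O (LieAlgebra.SpecialLinear.sl (Fin (n + 1)) O) x)) = n + 2 := by
  have hx' : (x : Matrix (Fin (n + 1)) (Fin (n + 1)) O) = J O n := Matrix.ext fun i j => hx i j
  let Φ : LieAlgebra.SpecialLinear.sl (Fin (n + 1)) O →ₗ[O] (Fin n → O) × O × O :=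
    (phi n).comp ((LieAlgebra.SpecialLinear.sl (Fin (n + 1)) O).toSubmodule.subtype)
  have htr : ∀ M : LieAlgebra.SpecialLinear.sl (Fin (n + 1)) O,
      Matrix.trace (M : Matrix (Fin (n + 1)) (Fin (n + 1)) O) = 0 := fun M => M.2
  have had : ∀ Y : LieAlgebra.SpecialLinear.sl (Fin (n + 1)) O,
      ((LieAlgebra.ad O (LieAlgebra.SpecialLinear.sl (Fin (n + 1)) O) x Y :
        LieAlgebra.SpecialLinear.sl (Fin (n + 1)) O) : Matrix (Fin (n + 1)) (Fin (n + 1)) O) =
      J O n * (Y : Matrix (Fin (n + 1)) (Fin (n + 1)) O) - (Y : Matrix (Fin (n + 1)) (Fin (n + 1)) O) * J O n := by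
    intro Y
    rw [LieAlgebra.ad_apply, LieSubalgebra.coe_bracket, Ring.lie_def, hx']
  have hu : IsUnit ((n + 1 : ℕ) : O) := by
    rw [← IsLocalRing.residue_ne_zero_iff_isUnit, map_natCast, Ne, CharP.cast_eq_zero_iff _ p]
    intro h
    have := Nat.le_of_dvd (by omega) h
    omega
  obtain ⟨v, hv⟩ := hu.exists_left_inv
  have hker : LinearMap.ker Φ =
      LinearMap.range (LieAlgebra.ad O (LieAlgebra.SpecialLinear.sl (Fin (n + 1)) O) x) := by
    apply le_antisymm
    · intro M hM
      have h1 : phi n (M : Matrix (Fin (n + 1)) (Fin (n + 1)) O) = 0 := hM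
      have h2 : ext n (M : Matrix (Fin (n + 1)) (Fin (n + 1)) O) n n = 0 := by
        have := trace_eq n hn (M : Matrix (Fin (n + 1)) (Fin (n + 1)) O)
        rw [htr, h1] at this
        simpa using this.symm
      have h := comm_pre n hn _ h1 h2
      let Y : Matrix (Fin (n + 1)) (Fin (n + 1)) O :=
        pre n (M : Matrix (Fin (n + 1)) (Fin (n + 1)) O) -
          (v * Matrix.trace (pre n (M : Matrix (Fin (n + 1)) (Fin (n + 1)) O))) • 1
      have hY : Y ∈ LieAlgebra.SpecialLinear.sl (Fin (n + 1)) O := by
        show Matrix.trace Y = 0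
        simp only [Y, Matrix.trace_sub, Matrix.trace_smul, Matrix.trace_one, Fintype.card_fin, smul_eq_mul]
        rw [mul_right_comm, hv, one_mul, sub_self]
      refine ⟨⟨Y, hY⟩, Subtype.ext ?_⟩
      rw [had]
      show J O n * Y - Y * J O n = _
      simp only [Y, mul_sub, sub_mul, Matrix.mul_smul, Matrix.smul_mul, mul_one, one_mul]
      rw [sub_sub_sub_cancel_right, h]
    · rintro _ ⟨Y, rfl⟩
      show phi n _ = 0
      rw [Submodule.subtype_apply, had]
      exact phi_comm n hn _
  have hsurj : Function.Surjective Φ := by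
    rintro ⟨a, b, c⟩
    let M : Matrix (Fin (n + 1)) (Fin (n + 1)) O := fun i j =>
      if h : i.val < n ∧ j.val = 0 then a ⟨i.val, h.1⟩
      else if i.val = n ∧ j.val = n then -a ⟨0, hn⟩
      else if i.val + 1 = n ∧ j.val = n then b
      else if i.val = n ∧ j.val = 0 then c else 0
    have hs : ∀ k : Fin n, ∑ i ∈ Finset.range (n - k.val), ext n M (i + k.val) i = a k := by
      intro k
      rw [Finset.sum_eq_single 0]
      · have := k.2
        unfold ext
        rw [dif_pos ⟨by omega, by omega⟩]
        simp [M]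
      · intro i hi h0
        simp at hi
        unfold ext
        rw [dif_pos ⟨by omega, by omega⟩]
        simp [M, h0, show i ≠ n by omega]
      · simp
    have h1 : phi n M = (a, b, c) := by
      refine Prod.ext (funext hs) (Prod.ext ?_ ?_)
      · show ext n M (n - 1) n = b
        unfold ext
        rw [dif_pos ⟨by omega, by omega⟩]
        simp [M, show n ≠ 0 by omega, show n - 1 ≠ n by omega, Nat.sub_add_cancel hn]
      · show ext n M n 0 = c
        unfold ext
        rw [dif_pos ⟨by omega, by omega⟩]
        simp [M, show (0 : ℕ) ≠ n by omega]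
    have h2 : ext n M n n = -a ⟨0, hn⟩ := by
      unfold ext
      rw [dif_pos ⟨by omega, by omega⟩]
      simp [M]
    have hM : M ∈ LieAlgebra.SpecialLinear.sl (Fin (n + 1)) O := by
      show Matrix.trace M = 0
      rw [trace_eq n hn M, h1, h2, add_neg_cancel]
    exact ⟨⟨M, hM⟩, h1⟩
  let e := (Submodule.quotEquivOfEq _ _ hker.symm).trans (Φ.quotKerEquivOfSurjective hsurj)
  refine ⟨Module.Free.of_equiv e.symm, ?_⟩
  rw [e.finrank_eq]
  simp

end Groth.Agent.S16051
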