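import Groth.Statements.S16052
import Groth.Agent.CAlg.TameRadical

set_option autoImplicit false
universe u
open Polynomial
open CAlg

namespace Groth.Agent.S16052

open Groth.Agent.CAlg.TameRadical in
theorem aux {K L : Type u} [Field K] [Field L] [Algebra K L] [FiniteDimensional K L]
    (A : Subalgebra K L) (t : L) (ht : t ≠ 0) {m : ℕ} (r b : Fin m → ℕ) (hr : ∀ i, 1 ≤ r i)
    (hrb : ∀ i, Nat.Coprime (r i) (b i)) (hN : t ^ (Finset.univ.lcm r) ∈ A)
    (hk : ∀ i, t ^ (Finset.univ.lcm r / r i * b i) ∈ A) : t ∈ A := by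
  classical
  let F : IntermediateField K L :=
    { A with inv_mem' := fun x hx => Subalgebra.inv_mem_of_algebraic A (x := ⟨x, hx⟩) (IsAlgebraic.of_finite K x) }
  let G : AddSubgroup ℤ :=
    { carrier := {n | t ^ n ∈ F}
      zero_mem' := by simp
      add_mem' := fun {a c} ha hc => by
        simp only [Set.mem_setOf_eq, zpow_add₀ ht] at ha hc ⊢
        exact mul_mem ha hc
      neg_mem' := fun {a} ha => by
        simp only [Set.mem_setOf_eq, zpow_neg] at ha ⊢
        exact inv_mem ha }
  obtain ⟨d, hd⟩ := Int.subgroup_cyclic G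
  have hmem : ∀ n : ℤ, n ∈ G ↔ d ∣ n := fun n => by
    rw [hd, AddSubgroup.mem_closure_singleton]
    exact ⟨fun ⟨k, hk⟩ => ⟨k, by rw [← hk, smul_eq_mul, mul_comm]⟩, fun ⟨k, hk⟩ => ⟨k, by rw [hk, smul_eq_mul, mul_comm]⟩⟩
  set N := Finset.univ.lcm r
  have hN0 : 0 < N := Nat.pos_of_ne_zero fun h => by
    obtain ⟨i, -, hi⟩ := Finset.lcm_eq_zero_iff.1 h
    exact absurd hi (Nat.one_le_iff_ne_zero.1 (hr i))
  have hD : ∀ n : ℕ, t ^ n ∈ A → d.natAbs ∣ n := fun n hn => by
    have : (n : ℤ) ∈ G := by show t ^ (n : ℤ) ∈ F; rw [zpow_natCast]; exact hn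
    exact Int.natAbs_dvd_natAbs.2 ((hmem _).1 this)
  set D := d.natAbs with hDdef
  obtain ⟨M, hM⟩ := hD N hN
  have hD0 : 0 < D := Nat.pos_of_ne_zero fun h => by rw [hM, h, zero_mul] at hN0; omega
  have hdvd : N ∣ M := Finset.lcm_dvd fun i _ => by
    have hri : r i ∣ N := Finset.dvd_lcm (Finset.mem_univ i)
    have h1 : D ∣ N / r i := by
      have := Nat.dvd_gcd (Dvd.intro M hM.symm : D ∣ N) (hD _ (hk i))
      nth_rewrite 1 [← Nat.div_mul_cancel hri] at this
      rwa [Nat.gcd_mul_left, (hrb i).gcd_eq_one, mul_one] at this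
    obtain ⟨c, hc⟩ := h1
    refine ⟨c, Nat.eq_of_mul_eq_mul_left hD0 ?_⟩
    rw [← hM, ← Nat.div_mul_cancel hri, hc]; ring
  have hM0 : 0 < M := Nat.pos_of_ne_zero fun h => by rw [hM, h, mul_zero] at hN0; omega
  have hD1 : D = 1 := by
    have := Nat.le_of_dvd hM0 hdvd
    rw [hM] at this
    nlinarith
  have : (1 : ℤ) ∈ G := (hmem 1).2 (Int.natAbs_dvd_natAbs.1 (by rw [← hDdef, hD1]; rfl))
  have h' : t ^ (1 : ℤ) ∈ F := this
  rwa [zpow_one] at h'

/-- Let O be a henselian discrete valuation ring of characteristic zero with algebraically closed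
residue field of characteristic p, ϖ a uniformizer and K the fraction field. Let r_1, …, r_m ≥ 1 and
b_1, …, b_m ≥ 1 be integers with gcd(r_i, b_i) = 1 for each i and r_1 + ⋯ + r_m < p, and let v_1, …,
v_m be units of O. Then the splitting field over K of the polynomial ∏_i (y^{r_i} − v_i ϖ^{b_i}) has
degree lcm(r_1, …, r_m) over K. (In the source O is complete and this polynomial is the y-part of a
deformation y ↦ x² + z² + f(y) of an A_n-singularity with n + 1 = Σ r_i; the proposition goes on to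
identify the monodromy element, which is not stated here.) -/
theorem result (O : Type u) [CommRing O] [IsDomain O]
    [IsDiscreteValuationRing O] [HenselianLocalRing O] [CharZero O] [IsAlgClosed (IsLocalRing.ResidueField O)]
    (p : ℕ) [Fact p.Prime] [CharP (IsLocalRing.ResidueField O) p]
    (ϖ : O) (hϖ : Irreducible ϖ) (m : ℕ) (r b : Fin m → ℕ) (v : Fin m → Oˣ)
    (hr : ∀ i, 1 ≤ r i) (hb : ∀ i, 1 ≤ b i) (hrb : ∀ i, Nat.Coprime (r i) (b i)) (hp : ∑ i, r i < p) :
    Module.finrank (FractionRing O)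
        (∏ i, (X ^ (r i) - C (algebraMap O (FractionRing O) ((v i : O) * ϖ ^ (b i))))).SplittingField =
      Finset.univ.lcm r := by
  classical
  set K := FractionRing O
  haveI : CharZero K := charZero_of_injective_algebraMap (IsFractionRing.injective O K)
  set N := Finset.univ.lcm r with hNdef
  have hN0 : 0 < N := Nat.pos_of_ne_zero fun h => by
    obtain ⟨i, -, hi⟩ := Finset.lcm_eq_zero_iff.1 h
    exact absurd hi (Nat.one_le_iff_ne_zero.1 (hr i))
  have hpr : ∀ i, ¬ p ∣ r i := fun i hdiv => by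
    have h1 := Nat.le_of_dvd (hr i) hdiv
    have h2 := Finset.single_le_sum (f := r) (fun _ _ => Nat.zero_le _) (Finset.mem_univ i)
    omega
  have hpN : (N : IsLocalRing.ResidueField O) ≠ 0 := by
    rw [Ne, CharP.cast_eq_zero_iff (IsLocalRing.ResidueField O) p]
    intro hdiv
    obtain ⟨i, -, hi⟩ := ((Fact.out : p.Prime).prime.dvd_finset_prod_iff r).1
      (hdiv.trans (Finset.lcm_dvd fun i hi => Finset.dvd_prod_of_mem r hi))
    exact hpr i hi
  have hpri : ∀ i, (r i : IsLocalRing.ResidueField O) ≠ 0 := fun i => by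
    rw [Ne, CharP.cast_eq_zero_iff (IsLocalRing.ResidueField O) p]; exact hpr i
  have hX : Irreducible (X ^ N - C (algebraMap O K ϖ)) := Groth.Agent.CAlg.TameRadical.irreducible_X_pow_sub_C hϖ hN0
  haveI := Fact.mk hX
  let L := AdjoinRoot (X ^ N - C (algebraMap O K ϖ))
  haveI : FiniteDimensional K L := (AdjoinRoot.powerBasis hX.ne_zero).finite
  have hfr : Module.finrank K L = N := by
    rw [(AdjoinRoot.powerBasis hX.ne_zero).finrank, AdjoinRoot.powerBasis_dim, natDegree_X_pow_sub_C]
  set t : L := AdjoinRoot.root (X ^ N - C (algebraMap O K ϖ))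
  have ht : t ^ N = algebraMap K L (algebraMap O K ϖ) := by
    have h : aeval t (X ^ N - C (algebraMap O K ϖ)) = 0 := by rw [AdjoinRoot.aeval_eq, AdjoinRoot.mk_self]
    simpa [sub_eq_zero] using h
  have ht0 : t ≠ 0 := fun h => by
    rw [h, zero_pow hN0.ne', eq_comm, map_eq_zero, IsFractionRing.to_map_eq_zero_iff] at ht
    exact hϖ.ne_zero ht
  choose w hw using fun i => Groth.Agent.CAlg.TameRadical.exists_pow_eq (hpri i) (v i)
  set P : K[X] := ∏ i, (X ^ (r i) - C (algebraMap O K ((v i : O) * ϖ ^ (b i))))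
  let α : Fin m → L := fun i => algebraMap K L (algebraMap O K (w i)) * t ^ (N / r i * b i)
  have hα : ∀ i, α i ^ r i = algebraMap K L (algebraMap O K ((v i : O) * ϖ ^ (b i))) := fun i => by
    simp only [α, mul_pow, ← pow_mul]
    rw [mul_right_comm, Nat.div_mul_cancel (Finset.dvd_lcm (Finset.mem_univ i)), pow_mul, ht,
      ← hw i, Units.val_pow_eq_pow_val]
    simp only [map_mul, map_pow]
  have hP0 : P ≠ 0 := Finset.prod_ne_zero_iff.2 fun i _ => X_pow_sub_C_ne_zero (hr i) _
  haveI : IsSplittingField K L P := by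
    refine ⟨?_, ?_⟩
    · rw [Polynomial.map_prod]
      refine Splits.prod fun i _ => ?_
      obtain ⟨ζ, hζ⟩ := Groth.Agent.CAlg.TameRadical.exists_primitiveRoot (hpri i)
      rw [Polynomial.map_sub, Polynomial.map_pow, map_X, map_C]
      exact X_pow_sub_C_splits_of_isPrimitiveRoot ((hζ.map_of_injective (IsFractionRing.injective O K)).map_of_injective (algebraMap K L).injective) (hα i)
    · rw [eq_top_iff, ← AdjoinRoot.adjoinRoot_eq_top]
      refine Algebra.adjoin_le (Set.singleton_subset_iff.2 (aux _ t ht0 r b hr hrb ?_ fun i => ?_))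
      · rw [ht]; exact Subalgebra.algebraMap_mem _ _
      · have hmem : α i ∈ Algebra.adjoin K (P.rootSet L) := by
          refine Algebra.subset_adjoin ?_
          rw [mem_rootSet_of_ne hP0, map_prod]
          exact Finset.prod_eq_zero (Finset.mem_univ i) (by simp [hα])
        have h0 : algebraMap O K (w i : O) ≠ 0 := by
          rw [Ne, IsFractionRing.to_map_eq_zero_iff]; exact (w i).ne_zero
        have hmul := mul_mem (Subalgebra.algebraMap_mem (Algebra.adjoin K (P.rootSet L)) (algebraMap O K (w i : O))⁻¹) hmem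
        rwa [show (α i) = algebraMap K L (algebraMap O K (w i)) * t ^ (N / r i * b i) from rfl,
          ← mul_assoc, ← map_mul, inv_mul_cancel₀ h0, map_one, one_mul] at hmul
  rw [← hfr]
  exact (IsSplittingField.algEquiv L P).toLinearEquiv.finrank_eq.symm

end Groth.Agent.S16052
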