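import Groth.Statements.S16053
import Groth.Agent.CAlg.TameRadical

set_option autoImplicit false
universe u
open Polynomial
open CAlg

namespace Groth.Agent.S16053

open Module IntermediateField Groth.Agent.CAlg.TameRadical in
theorem aux (O : Type u) [CommRing O] [IsDomain O]
    [IsDiscreteValuationRing O] [HenselianLocalRing O] [CharZero O] [IsAlgClosed (IsLocalRing.ResidueField O)]
    (f : O[X]) (hmon : f.Monic) (he : 0 < f.natDegree)
    (hec : (f.natDegree : IsLocalRing.ResidueField O) ≠ 0)
    (hf : f.IsEisensteinAt (IsLocalRing.maximalIdeal O)) :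
    Module.finrank (FractionRing O) (f.map (algebraMap O (FractionRing O))).SplittingField = f.natDegree ∧
      IsCyclic (f.map (algebraMap O (FractionRing O))).Gal := by
  set K := FractionRing O
  haveI : CharZero K := charZero_of_injective_algebraMap (IsFractionRing.injective O K)
  set f' := f.map (algebraMap O K) with hf'
  have hirr : Irreducible f' := irreducible_map hmon hf he
  haveI := Fact.mk hirr
  have hmon' : f'.Monic := hmon.map _
  have hdeg' : f'.natDegree = f.natDegree := hmon.natDegree_map _
  let L := AdjoinRoot f'
  haveI : FiniteDimensional K L := (AdjoinRoot.powerBasis hirr.ne_zero).finite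
  have hfr : finrank K L = f.natDegree := by
    rw [(AdjoinRoot.powerBasis hirr.ne_zero).finrank, AdjoinRoot.powerBasis_dim, hdeg']
  obtain ⟨ϖ, hϖ⟩ := IsDiscreteValuationRing.exists_irreducible O
  have hinj : Function.Injective (algebraMap O L) := by
    rw [IsScalarTower.algebraMap_eq O K L]
    exact (algebraMap K L).injective.comp (IsFractionRing.injective O K)
  have hπ : aeval (AdjoinRoot.root f') f = 0 := by
    rw [← aeval_map_algebraMap K, ← hf', AdjoinRoot.aeval_eq, AdjoinRoot.mk_self]
  obtain ⟨t, ht⟩ := exists_pow_eq_uniformizer hinj f hmon hf he hec _ hπ hϖ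
  rw [IsScalarTower.algebraMap_apply O K L, ← hfr] at ht
  have hζ : (primitiveRoots (finrank K L) K).Nonempty := by rw [hfr]; exact primitiveRoots_nonempty hec
  have hX : Irreducible (X ^ (finrank K L) - C (algebraMap O K ϖ)) := by
    rw [hfr]; exact irreducible_X_pow_sub_C hϖ he
  have htop : K⟮t⟯ = ⊤ := by
    apply Field.primitive_element_iff_minpoly_natDegree_eq K t |>.2
    rw [← minpoly.eq_of_irreducible_of_monic hX (by simp [ht]) (monic_X_pow_sub_C _ finrank_pos.ne'),
      natDegree_X_pow_sub_C]
  haveI := isSplittingField_X_pow_sub_C_of_root_adjoin_eq_top hζ ht htop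
  haveI : IsGalois K L := isGalois_of_isSplittingField_X_pow_sub_C hζ hX L
  haveI : NeZero (finrank K L) := ⟨finrank_pos.ne'⟩
  haveI : IsCyclic (L ≃ₐ[K] L) := isCyclic_of_isSplittingField_X_pow_sub_C hζ hX L
  have hmp : minpoly K (AdjoinRoot.root f') = f' :=
    (minpoly.eq_of_irreducible_of_monic hirr (by rw [AdjoinRoot.aeval_eq, AdjoinRoot.mk_self]) hmon').symm
  haveI : IsSplittingField K L f' := by
    refine ⟨by have h := Normal.splits (inferInstance : Normal K L) (AdjoinRoot.root f'); rw [hmp] at h; exact h, ?_⟩
    rw [eq_top_iff, ← AdjoinRoot.adjoinRoot_eq_top]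
    apply Algebra.adjoin_mono
    rw [Set.singleton_subset_iff, mem_rootSet_of_ne hirr.ne_zero, AdjoinRoot.aeval_eq, AdjoinRoot.mk_self]
  let e := IsSplittingField.algEquiv L f'
  refine ⟨?_, ?_⟩
  · rw [← hfr]; exact e.toLinearEquiv.finrank_eq.symm
  · exact isCyclic_of_surjective _ (AlgEquiv.autCongr e).surjective

/-- Let O be a henselian discrete valuation ring of characteristic zero with algebraically closed
residue field of characteristic p and fraction field K, and let f ∈ O[y] be a monic polynomial of
degree e with 1 ≤ e < p which is Eisenstein at the maximal ideal of O. Then the splitting field of f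
over K has degree e over K and the Galois group of f over K is cyclic. (In the source O is complete,
e = n + 1 and f is the y-part y^{n+1} + u_n ϖ^{a_n} y^{n−1} + ⋯ + u_1 ϖ of an A_n-degeneration
meeting the discriminant transversally; the corollary's conclusion that monodromy acts through a
Coxeter element is not stated here.) -/
theorem result (O : Type u) [CommRing O] [IsDomain O]
    [IsDiscreteValuationRing O] [HenselianLocalRing O] [CharZero O] [IsAlgClosed (IsLocalRing.ResidueField O)]
    (p : ℕ) [Fact p.Prime] [CharP (IsLocalRing.ResidueField O) p]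
    (f : O[X]) (hmon : f.Monic) (e : ℕ) (hdeg : f.natDegree = e) (he : 1 ≤ e) (hep : e < p)
    (hf : f.IsEisensteinAt (IsLocalRing.maximalIdeal O)) :
    Module.finrank (FractionRing O) (f.map (algebraMap O (FractionRing O))).SplittingField = e ∧
      IsCyclic (f.map (algebraMap O (FractionRing O))).Gal := by
  subst hdeg
  refine aux O f hmon he ?_ hf
  rw [Ne, CharP.cast_eq_zero_iff (IsLocalRing.ResidueField O) p]
  exact fun h => absurd (Nat.le_of_dvd he h) (by omega)

end Groth.Agent.S16053
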