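import Groth.Statements.S16057
import Groth.Agent.GrLC.ReesEuler

set_option autoImplicit false
universe u
open GrLC

namespace Groth.Agent.S16057

/-- Let A be a Noetherian local ring with maximal ideal m, and I an ideal of A whose radical is m (an
m-primary ideal), and M a finitely generated A-module; let R(I) = ⊕_{n ≥ 0} Iⁿ Xⁿ ⊆ A[X] be the Rees
algebra, graded by the powers of X, with irrelevant ideal R(I)_+ = ⊕_{n ≥ 1} Iⁿ Xⁿ, and M* = ⊕_{n ≥
0} IⁿM Xⁿ the Rees module of M, a graded R(I)-module; let P ∈ ℚ[t] be the Hilbert–Samuel polynomial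
of M with respect to I, that is, P(n) = ℓ_A(M/IⁿM) for all sufficiently large n. Then for every
integer n ≥ 0, writing H^i_{R(I)_+}(M*)_n for the degree-n homogeneous piece of the i-th graded
local cohomology module of M* with support in R(I)_+ (computed from any *injective resolution of M*
in the category of graded R(I)-modules), a module over R(I)_0 = A: each H^i_{R(I)_+}(M*)_n has
finite length, only finitely many of them are nonzero, and P(n) − ℓ_A(M/IⁿM) = Σ_{i ≥ 0} (−1)^i
ℓ(H^i_{R(I)_+}(M*)_n). -/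
theorem result (A : Type u) [CommRing A]
    [IsNoetherianRing A] [IsLocalRing A] (I : Ideal A) (hI : I.radical = IsLocalRing.maximalIdeal A)
    (M : Type u) [AddCommGroup M] [Module A M] [Module.Finite A M] (P : Polynomial ℚ)
    (hP : ∃ N : ℕ, ∀ n : ℕ, N ≤ n →
      P.eval (n : ℚ) = ((Module.length A (M ⧸ (I ^ n • (⊤ : Submodule A M)))).toNat : ℚ))
    (E : GrLC.StarInjRes (Rees.degZ (reesAlgebra I)) (Rees.mdegZ (Rees.powFilt I M))) (n : ℕ) :
    (∀ i : ℕ, IsFiniteLength (GrLC.deg0 (Rees.degZ (reesAlgebra I))) (E.Hcomp (GrSyz.irrel (Rees.degZ (reesAlgebra I))) i (n : ℤ))) ∧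
      Set.Finite {i : ℕ | E.Hcomp (GrSyz.irrel (Rees.degZ (reesAlgebra I))) i (n : ℤ) ≠ ⊥} ∧
      P.eval (n : ℚ) - ((Module.length A (M ⧸ (I ^ n • (⊤ : Submodule A M)))).toNat : ℚ) =
        finsum (fun i : ℕ => (-1 : ℚ) ^ i *
          ((Module.length (GrLC.deg0 (Rees.degZ (reesAlgebra I))) (E.Hcomp (GrSyz.irrel (Rees.degZ (reesAlgebra I))) i (n : ℤ))).toNat : ℚ)) := by
  classical
  let a := GrSyz.irrel (Rees.degZ (reesAlgebra I))
  obtain ⟨t, ht⟩ := (IsNoetherian.noetherian a.toIdeal : a.toIdeal.FG)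
  have hcd : LocCoh.CdLE (reesAlgebra I) a.toIdeal t.card := by
    rw [← ht]; exact Groth.Agent.LocCoh.cdLE_span_finset t
  obtain ⟨hfl, hchi⟩ := Groth.Agent.GrLC.ReesEuler.main I M hI P hP hcd n
  have e := fun i : ℕ => Groth.Agent.GrLC.LC.compEquiv (ℳ := Rees.mdegZ (Rees.powFilt I M)) a i E (n : ℤ)
  have hbot : ∀ i, t.card < i → E.Hcomp a i (n : ℤ) = ⊥ := fun i hi => by
    haveI : Subsingleton (LocCoh.H a.toIdeal i ↥(Rees.powFilt I M).submodule) := hcd _ i hi
    haveI : Subsingleton (E.Hcomp a i (n : ℤ)) := (e i).toEquiv.injective.subsingleton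
    exact Submodule.eq_bot_of_subsingleton
  have hlen : ∀ i, (Module.length (GrLC.deg0 (Rees.degZ (reesAlgebra I))) (E.Hcomp a i (n : ℤ))).toNat =
      Groth.Agent.GrLC.hlen a (Groth.Agent.GrLC.ReesEuler.Y I M) i (n : ℤ) := fun i =>
    congrArg ENat.toNat (e i).length_eq
  refine ⟨fun i => ?_, (Set.finite_Iic t.card).subset fun i hi => ?_, ?_⟩
  · rw [← Module.length_ne_top_iff, (e i).length_eq]
    exact Module.length_ne_top_iff.2 (hfl i)
  · exact le_of_not_gt fun h => hi (hbot i h)
  · rw [← hchi, finsum_eq_sum_of_support_subset _ (s := Finset.range (t.card + 1)) ?_]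
    · exact Finset.sum_congr rfl fun i _ => by rw [hlen]
    · intro i hi
      rw [Finset.coe_range, Set.mem_Iio]
      by_contra h
      refine hi ?_
      show _ * ((Module.length _ (E.Hcomp a i (n : ℤ))).toNat : ℚ) = 0
      rw [hbot i (by omega), Module.length_bot]
      simp

end Groth.Agent.S16057
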