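import Groth.Statements.S16058
import Groth.Agent.FiltCoh.S2Rees

set_option autoImplicit false
universe u
open FiltBl

namespace Groth.Agent.S16058

/-- Let A be a Noetherian local ring that is a quotient of a Gorenstein ring, and F a filtration of
ideals on A (F^0 = A ⊇ F^1 ⊇ ⋯, F^i F^j ⊆ F^{i+j}) with every F^n nonzero and ⋂ F^n = 0, whose Rees
algebra R = ⊕_{n ≥ 0} F^n T^n ⊆ A[T] is finitely generated over A and with F^1 of height at least 2.
If the extended Rees algebra R' = ⊕_{n ∈ ℤ} F^n T^n ⊆ A[T, T⁻¹] (F^n = A for n < 0) satisfies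
Serre's condition (S_2), then R satisfies (S_2) as well. (The converse fails. The published
statement is made under the further standing assumption that no nonzero element of R is annihilated
by a power of the ideal generated by its homogeneous elements of positive degree; under the present
hypothesis that assumption holds automatically, since (S_2) for R' forces (S_2) for A, so that F^1,
of height at least 2, contains a nonzerodivisor of A.) -/
theorem result (A : Type u) [CommRing A] [IsNoetherianRing A] [IsLocalRing A]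
    (S : Type u) [CommRing S] [LocCoh.IsGorensteinRing S] (π : S →+* A) (hπ : Function.Surjective π)
    (𝓕 : FiltBl.IdealFiltration A) (hne : ∀ n, 𝓕.F n ≠ ⊥) (hsep : ⨅ n, 𝓕.F n = ⊥)
    (hfg : Algebra.FiniteType A 𝓕.rees) (hht : 2 ≤ (𝓕.F 1).height)
    (h : LocCoh.HasSk 2 𝓕.extRees 𝓕.extRees) : LocCoh.HasSk 2 𝓕.rees 𝓕.rees := by
  haveI : IsNoetherianRing 𝓕.rees := Algebra.FiniteType.isNoetherianRing A 𝓕.rees
  haveI := FiltRees.isNoetherianRing_extRees 𝓕 hfg
  rw [FiltRees.hasSk_self_iff] at h ⊢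
  have hA : ∀ (q : Ideal A) [q.IsPrime],
      min ((2 : ℕ) : WithBot ℕ∞) (FiltRees.ds q) ≤ ((FiltRees.dp q : ℕ∞) : WithBot ℕ∞) := fun q _ => by
    obtain ⟨Q, -, h1, h2⟩ := FiltRees.exists_laurent_over q
    obtain ⟨h3, h4⟩ := FiltRees.dp_ds_comap (LaurentPolynomial A) (Submonoid.powers 𝓕.u) Q.asIdeal
    rw [← h1, ← h2, ← h3, ← h4]
    exact h _
  intro P _
  by_cases hP : (FiltCoh.plus 𝓕).toIdeal ≤ P
  · obtain ⟨a, ha, hreg⟩ := FiltCoh.exists_regular_of_two_le_height hA (𝓕.F 1) hht
    by_cases hp : 𝓕.F 1 ≤ P.comap (algebraMap A 𝓕.rees)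
    · exact FiltCoh.min_le_of_le 𝓕 hA h hht hP hp ha hreg
    · exact FiltCoh.min_le_of_not_le 𝓕 hA hP hp ha hreg
  · exact FiltCoh.min_le_of_not_plus_le 𝓕 h hP

end Groth.Agent.S16058
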