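import Groth.Statements.S16059
import Groth.Agent.FiltCoh.CartierDeg1
import Groth.Agent.FiltCoh.NormalDeg1
import Groth.Agent.FiltRees.GrNormal
import Mathlib.AlgebraicGeometry.ProjectiveSpectrum.Basic
import Mathlib.GroupTheory.Archimedean
import Mathlib.RingTheory.GradedAlgebra.Radical

set_option autoImplicit false
universe u
open FiltBl

namespace Groth.Agent.S16059

open DirectSum

theorem algebraMap_eq_zero_iff {A : Type u} [CommRing A] (𝓕 : FiltBl.IdealFiltration A) (a : A) :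
    algebraMap A (AssocGr.GrRing 𝓕) a = 0 ↔ a ∈ 𝓕.F 1 := by
  have e : algebraMap A (AssocGr.GrRing 𝓕) a =
      AssocGr.mkG 𝓕 (FiltCoh.rmon 𝓕 0 a (by rw [𝓕.zero_eq]; trivial)) := by
    rw [← (AssocGr.mkG 𝓕).commutes]
    congr 1
  rw [e, FiltCoh.mkG_rmon_eq_zero_iff]

theorem exists_consecutive {A : Type u} [CommRing A] (𝓕 : FiltBl.IdealFiltration A)
    [IsDomain (AssocGr.GrRing 𝓕)] {d : ℕ} (hd : 0 < d) (hd0 : AssocGr.gr 𝓕 d ≠ ⊥)
    (hr : ∀ r : ℕ, 2 ≤ r → ∃ n : ℕ, ¬ r ∣ n ∧ AssocGr.gr 𝓕 n ≠ ⊥) :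
    ∃ m, AssocGr.gr 𝓕 m ≠ ⊥ ∧ AssocGr.gr 𝓕 (m + 1) ≠ ⊥ := by
  let S : Set ℕ := {n | AssocGr.gr 𝓕 n ≠ ⊥}
  have hmul : ∀ {u v}, u ∈ S → v ∈ S → u + v ∈ S := by
    intro u v hu hv
    obtain ⟨f, hf, hf0⟩ := (Submodule.ne_bot_iff _).1 hu
    obtain ⟨g, hg, hg0⟩ := (Submodule.ne_bot_iff _).1 hv
    exact (Submodule.ne_bot_iff _).2 ⟨f * g, SetLike.mul_mem_graded hf hg, mul_ne_zero hf0 hg0⟩
  have h00 : 0 ∈ S := (Submodule.ne_bot_iff _).2 ⟨1, SetLike.one_mem_graded _, one_ne_zero⟩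
  let D : AddSubgroup ℤ :=
    { carrier := {z | ∃ u ∈ S, ∃ v ∈ S, z = (u : ℤ) - v}
      zero_mem' := ⟨0, h00, 0, h00, by simp⟩
      add_mem' := by
        rintro _ _ ⟨u, hu, v, hv, rfl⟩ ⟨u', hu', v', hv', rfl⟩
        exact ⟨u + u', hmul hu hu', v + v', hmul hv hv', by push_cast; ring⟩
      neg_mem' := by
        rintro _ ⟨u, hu, v, hv, rfl⟩
        exact ⟨v, hv, u, hu, by ring⟩ }
  obtain ⟨r, hDr⟩ := Int.subgroup_cyclic D
  have hdvd : ∀ n ∈ S, r.natAbs ∣ n := fun n hn => by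
    have h1 : (n : ℤ) ∈ D := ⟨n, hn, 0, h00, by simp⟩
    rw [hDr, AddSubgroup.mem_closure_singleton] at h1
    obtain ⟨k, hk⟩ := h1
    refine ⟨k.natAbs, ?_⟩
    have := congrArg Int.natAbs hk
    rw [smul_eq_mul, Int.natAbs_mul, Int.natAbs_natCast] at this
    rw [← this, mul_comm]
  have hr1 : r.natAbs = 1 := by
    have h2 : ¬ 2 ≤ r.natAbs := fun h2 => by
      obtain ⟨n, hn, hnS⟩ := hr _ h2
      exact hn (hdvd n hnS)
    have h0 : r.natAbs ≠ 0 := fun h0 => by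
      have := hdvd d hd0
      rw [h0, zero_dvd_iff] at this
      omega
    omega
  have h1 : (1 : ℤ) ∈ D := by
    rw [hDr, AddSubgroup.mem_closure_singleton]
    rcases Int.natAbs_eq r with h | h <;> rw [hr1] at h
    · exact ⟨1, by rw [h]; simp⟩
    · exact ⟨-1, by rw [h]; simp⟩
  obtain ⟨u, hu, v, hv, he⟩ := h1
  have : u = v + 1 := by omega
  exact ⟨v, hv, this ▸ hu⟩

open AlgebraicGeometry in
/-- Let A be a Noetherian local ring with maximal ideal m that is a quotient of a Gorenstein ring, and F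
a filtration of ideals on A (F^0 = A ⊇ F^1 ⊇ ⋯, F^i F^j ⊆ F^{i+j}) with every F^n nonzero and ⋂ F^n
= 0, whose Rees algebra R = ⊕_{n ≥ 0} F^n T^n is finitely generated over A and with F^1 of height at
least 2. Assume moreover that A is an integrally closed domain containing a field, that F^1 is
m-primary, that the associated graded ring G = ⊕_{n ≥ 0} F^n/F^{n+1} is an integral domain, and that
there is no integer r ≥ 2 such that all nonzero homogeneous pieces of G lie in degrees divisible by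
r. Let X = Proj R be the filtered blowing-up, with its twisting sheaves O_X(n), and E = Proj G,
which is the closed subscheme of X defined by the homogeneous ideal ⊕_{n ≥ 0} F^{n+1} T^n of R, so
that the ideal sheaf of E in X is isomorphic to O_X(1) and E is an effective Cartier divisor on X
exactly when O_X(1) is an invertible O_X-module. If O_X(1) is invertible (locally isomorphic to O_X)
and E is normal (every local ring of Proj G is an integrally closed domain), then, writing Ḡ for the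
integral closure of G in its fraction field, the G-module Ḡ/G has finite length. -/
theorem result
    (A : Type u) [CommRing A] [IsNoetherianRing A] [IsLocalRing A]
    (S : Type u) [CommRing S] [LocCoh.IsGorensteinRing S] (π : S →+* A) (hπ : Function.Surjective π)
    (𝓕 : FiltBl.IdealFiltration A) (hne : ∀ n, 𝓕.F n ≠ ⊥) (hsep : ⨅ n, 𝓕.F n = ⊥)
    (hfg : Algebra.FiniteType A 𝓕.rees) (hht : 2 ≤ (𝓕.F 1).height)
    [IsDomain A] [IsIntegrallyClosed A] (k : Type u) [Field k] [Algebra k A]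
    (hI : (𝓕.F 1).radical = IsLocalRing.maximalIdeal A) [IsDomain (AssocGr.GrRing 𝓕)]
    (hr : ∀ r : ℕ, 2 ≤ r → ∃ n : ℕ, ¬ r ∣ n ∧ AssocGr.gr 𝓕 n ≠ ⊥)
    (hcart : PicF.IsInvertible (GrTwist.twist (Rees.deg 𝓕.rees) 1))
    (hnor : ∀ x : Proj (AssocGr.gr 𝓕), IsDomain ((Proj (AssocGr.gr 𝓕)).presheaf.stalk x) ∧
      IsIntegrallyClosed ((Proj (AssocGr.gr 𝓕)).presheaf.stalk x))
    (L : Type u) [Field L] [Algebra (AssocGr.GrRing 𝓕) L] [IsFractionRing (AssocGr.GrRing 𝓕) L] :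
    IsFiniteLength (AssocGr.GrRing 𝓕) (↥(integralClosure (AssocGr.GrRing 𝓕) L) ⧸
      LinearMap.range (Algebra.linearMap (AssocGr.GrRing 𝓕) ↥(integralClosure (AssocGr.GrRing 𝓕) L))) := by
  classical
  haveI : IsNoetherianRing 𝓕.rees := Algebra.FiniteType.isNoetherianRing A 𝓕.rees
  haveI : IsNoetherianRing (AssocGr.GrRing 𝓕) :=
    isNoetherianRing_of_surjective 𝓕.rees _ (AssocGr.mkG 𝓕).toRingHom (AssocGr.mkG_surjective 𝓕)
  have hm : 𝓕.F 1 = IsLocalRing.maximalIdeal A := by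
    haveI : (𝓕.F 1).IsPrime := by
      have : 𝓕.F 1 = RingHom.ker (algebraMap A (AssocGr.GrRing 𝓕)) :=
        Ideal.ext fun a => (algebraMap_eq_zero_iff 𝓕 a).symm
      rw [this]
      exact RingHom.ker_isPrime _
    rw [← hI, Ideal.IsPrime.radical inferInstance]
  let κ := IsLocalRing.ResidueField A
  let ψ : κ →+* AssocGr.GrRing 𝓕 := Ideal.Quotient.lift _ (algebraMap A (AssocGr.GrRing 𝓕))
    fun a ha => (algebraMap_eq_zero_iff 𝓕 a).2 (hm ▸ ha)
  letI : Algebra κ (AssocGr.GrRing 𝓕) := ψ.toAlgebra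
  let 𝒢 : ℕ → Submodule κ (AssocGr.GrRing 𝓕) := fun n =>
    { carrier := (AssocGr.gr 𝓕 n : Set (AssocGr.GrRing 𝓕))
      zero_mem' := (AssocGr.gr 𝓕 n).zero_mem
      add_mem' := (AssocGr.gr 𝓕 n).add_mem
      smul_mem' := fun c y hy => by
        obtain ⟨a, rfl⟩ := Ideal.Quotient.mk_surjective c
        show ψ (Ideal.Quotient.mk _ a) * y ∈ AssocGr.gr 𝓕 n
        rw [show ψ (Ideal.Quotient.mk _ a) = algebraMap A (AssocGr.GrRing 𝓕) a from Ideal.Quotient.lift_mk _ _ _,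
          ← Algebra.smul_def]
        exact (AssocGr.gr 𝓕 n).smul_mem a hy }
  haveI hgm : SetLike.GradedMonoid 𝒢 :=
    { one_mem := SetLike.GradedOne.one_mem (A := AssocGr.gr 𝓕)
      mul_mem := fun {i j gi gj} hi hj => SetLike.GradedMul.mul_mem (A := AssocGr.gr 𝓕) hi hj }
  letI : GradedAlgebra 𝒢 :=
    { hgm with
      decompose' := fun y => (DirectSum.decompose (AssocGr.gr 𝓕) y : DirectSum ℕ fun n => AssocGr.gr 𝓕 n)
      left_inv := fun y => (DirectSum.decompose (AssocGr.gr 𝓕)).left_inv y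
      right_inv := fun y => (DirectSum.decompose (AssocGr.gr 𝓕)).right_inv y }
  have h0 : ∀ y ∈ 𝒢 0, y ∈ Set.range (algebraMap κ (AssocGr.GrRing 𝓕)) := by
    intro y hy
    obtain ⟨f, hf, rfl⟩ := (AssocGr.mem_gr_iff 𝓕 0 y).1 hy
    refine ⟨Ideal.Quotient.mk _ ((f : Polynomial A).coeff 0), ?_⟩
    show ψ _ = _
    rw [show ψ (Ideal.Quotient.mk _ ((f : Polynomial A).coeff 0)) = algebraMap A (AssocGr.GrRing 𝓕) _ from
      Ideal.Quotient.lift_mk _ _ _, ← (AssocGr.mkG 𝓕).commutes]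
    congr 1
    conv_rhs => rw [FiltCoh.eq_rmon 𝓕 hf]
    refine Subtype.ext ?_
    exact (@Polynomial.monomial_zero_left A _ _).symm
  refine (FiltRees.normal_off_vertex_iff 𝒢 h0 L).1 fun p _ hp => ?_
  -- a homogeneous element of positive degree outside `p`
  obtain ⟨d, hd, t, ht, htp⟩ : ∃ d, 0 < d ∧ ∃ t ∈ AssocGr.gr 𝓕 d, t ∉ p := by
    obtain ⟨g, hg, hgp⟩ := SetLike.not_le_iff_exists.1 hp
    by_contra hne
    push Not at hne
    refine hgp ?_
    rw [← DirectSum.sum_support_decompose (AssocGr.gr 𝓕) g]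
    refine p.sum_mem fun n _ => ?_
    rcases Nat.eq_zero_or_pos n with h | h
    · subst h
      have h' : (DirectSum.decompose (AssocGr.gr 𝓕) g 0 : AssocGr.GrRing 𝓕) = 0 := hg
      rw [h']
      exact p.zero_mem
    · exact hne n h _ (DirectSum.decompose (AssocGr.gr 𝓕) g n).2
  let q := Ideal.homogeneousCore (AssocGr.gr 𝓕) p
  haveI hqp : q.toIdeal.IsPrime := Ideal.IsPrime.homogeneousCore ‹p.IsPrime›
  have hqle : q.toIdeal ≤ p := Ideal.toIdeal_homogeneousCore_le _ _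
  have hhom : ∀ (n : ℕ), ∀ g ∈ AssocGr.gr 𝓕 n, g ∈ p → g ∈ q.toIdeal := fun n g hg hgp =>
    Ideal.mem_homogeneousCore_of_homogeneous_of_mem ⟨n, hg⟩ hgp
  let xG : Proj (AssocGr.gr 𝓕) := ⟨q, hqp, fun h =>
    htp (hqle (h (HomogeneousIdeal.mem_irrelevant_of_mem _ hd ht)))⟩
  obtain ⟨f, hf, rfl⟩ := (AssocGr.mem_gr_iff 𝓕 d t).1 ht
  let Q : HomogeneousIdeal (Rees.deg 𝓕.rees) := ⟨q.toIdeal.comap (AssocGr.mkG 𝓕).toRingHom, fun i r hr => by
    show AssocGr.mkG 𝓕 _ ∈ q.toIdeal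
    rw [← AssocGr.coe_decompose_mkG]
    exact q.isHomogeneous i hr⟩
  let xR : Proj (Rees.deg 𝓕.rees) := ⟨Q, Ideal.IsPrime.comap _, fun h =>
    htp (hqle (show AssocGr.mkG 𝓕 f ∈ q.toIdeal from h (HomogeneousIdeal.mem_irrelevant_of_mem _ hd hf)))⟩
  obtain ⟨m, hm0, hm1⟩ := exists_consecutive 𝓕 hd
    ((Submodule.ne_bot_iff _).2 ⟨_, AssocGr.mkG_mem_gr 𝓕 hf, fun h => htp (by rw [h]; exact p.zero_mem)⟩) hr
  obtain ⟨g1, hg1, hg10⟩ := (Submodule.ne_bot_iff _).1 hm1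
  obtain ⟨g0, hg0, hg00⟩ := (Submodule.ne_bot_iff _).1 hm0
  obtain ⟨G1, hG1, rfl⟩ := (AssocGr.mem_gr_iff 𝓕 _ _).1 hg1
  obtain ⟨G0, hG0, rfl⟩ := (AssocGr.mem_gr_iff 𝓕 _ _).1 hg0
  obtain ⟨j, a, b, ha, hb, hax, hbx⟩ := FiltCoh.exists_deg_one_notMem 𝓕 hcart xR
    (fun r hr => by
      show AssocGr.mkG 𝓕 r ∈ q.toIdeal
      rw [(AssocGr.mkG_eq_zero_iff 𝓕 r).2 hr]
      exact zero_mem _)
    hG1 hG0 hg10 hg00 hd hf (fun h => htp (hqle h))
  obtain ⟨e⟩ := FiltCoh.exists_equiv_atPrime (AssocGr.gr 𝓕) (p := p) (q := q.toIdeal) hqle hhom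
  obtain ⟨hdom, hic⟩ := hnor xG
  let e' := (Proj.stalkIso (AssocGr.gr 𝓕) xG).commRingCatIsoToRingEquiv
  haveI := hdom
  haveI := hic
  let E : (Proj (AssocGr.gr 𝓕)).presheaf.stalk xG ≃+*
      HomogeneousLocalization.AtPrime (AssocGr.gr 𝓕) p := e'.trans e.symm
  exact FiltCoh.isIntegrallyClosed_of_deg_one (𝒢 := AssocGr.gr 𝓕)
    (AssocGr.mkG_mem_gr 𝓕 ha) (AssocGr.mkG_mem_gr 𝓕 hb)
    (fun h => hax (hhom _ _ (AssocGr.mkG_mem_gr 𝓕 ha) h)) (fun h => hbx (hhom _ _ (AssocGr.mkG_mem_gr 𝓕 hb) h))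
    (MulEquiv.isDomain _ E.symm.toMulEquiv) (IsIntegrallyClosed.of_equiv E)

end Groth.Agent.S16059
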