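import Groth.Statements.S16073
import Groth.Agent.CartKit.Group
import Groth.Agent.CartKit.AlphaP

set_option autoImplicit false
universe u
open Hopf

namespace Groth.Agent.S16073

/-- Let p be a prime and R a commutative ring of characteristic p (p = 0 in R, R nonzero). Then the
constant group scheme ℤ/p and α_p over Spec R are not isomorphic: there is no R-bialgebra
isomorphism between the Hopf algebra Maps(ℤ/p, R) of functions on the cyclic group of order p and
the Hopf algebra R[X]/(X^p) of α_p (X primitive). (Any nonzero commutative base ring of
characteristic p is allowed. The published statement allows any ring R with p·R = 0; over the zero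
ring both Hopf algebras are the zero ring and hence isomorphic, so R is assumed nonzero here.) -/
theorem result (p : ℕ) [Fact p.Prime] (R : Type u) [CommRing R] [CharP R p] :
    IsEmpty (ConstGrp.F R (Multiplicative (ZMod p)) ≃ₐc[R] AlphaP.A p R) := by
  refine ⟨fun φ => ?_⟩
  haveI : Nontrivial R := CharP.nontrivial_of_char_ne_one (Fact.out : p.Prime).ne_one
  have hg : (Multiplicative.ofAdd (1 : ZMod p)) ≠ 1 := fun h => one_ne_zero (Multiplicative.ofAdd.injective h)
  have h := (CartKit.Alpha.trivFrob p R).eq_zero_of_isIdempotentElem (Fact.out : p.Prime).ne_zero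
    (z := φ (ConstGrp.e R (Multiplicative.ofAdd (1 : ZMod p))))
    (by rw [IsIdempotentElem, ← map_mul, ConstGrp.e_mul_e, if_pos rfl])
    (by rw [CoalgHomClass.counit_comp_apply φ, ConstGrp.counit_e, if_neg (Ne.symm hg)])
  have h2 := congrFun (show (ConstGrp.e R (Multiplicative.ofAdd (1 : ZMod p))) = 0 from
    φ.toEquiv.injective (h.trans (map_zero φ).symm)) (Multiplicative.ofAdd (1 : ZMod p))
  rw [ConstGrp.e_apply_self] at h2
  exact one_ne_zero h2

end Groth.Agent.S16073
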