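import Groth.Statements.S16074
import Groth.Agent.CartKit.AlphaP

set_option autoImplicit false
universe u
open Hopf

namespace Groth.Agent.S16074

/-- Let p be a prime and R a commutative ring of characteristic p (p = 0 in R, R nonzero). Then μ_p and
α_p over Spec R are not isomorphic: there is no R-bialgebra isomorphism between the group algebra
R[ℤ/p] of the cyclic group of order p (group elements group-like) and the Hopf algebra R[X]/(X^p) of
α_p (X primitive), although the underlying R-algebras R[ℤ/p] = R[Y]/(Y^p) and R[X]/(X^p) are
isomorphic. (Any nonzero commutative base ring of characteristic p is allowed. The published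
statement allows any ring R with p·R = 0; over the zero ring both Hopf algebras are the zero ring
and hence isomorphic, so R is assumed nonzero here.) -/
theorem result (p : ℕ) [Fact p.Prime] (R : Type u) [CommRing R] [CharP R p] :
    IsEmpty (MonoidAlgebra R (Multiplicative (ZMod p)) ≃ₐc[R] AlphaP.A p R) := by
  refine ⟨fun φ => ?_⟩
  haveI : Nontrivial R := CharP.nontrivial_of_char_ne_one (Fact.out : p.Prime).ne_one
  obtain ⟨z, hz⟩ := φ.toEquiv.surjective (AlphaP.x p R)
  change φ z = AlphaP.x p R at hz
  have hcom : Coalgebra.comul (R := R) z = z ⊗ₜ[R] 1 + 1 ⊗ₜ[R] z := by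
    have key := CoalgHomClass.map_comp_comul_apply φ z
    rw [hz, AlphaP.comul_x] at key
    refine (TensorProduct.congr φ.toCoalgEquiv.toLinearEquiv φ.toCoalgEquiv.toLinearEquiv).injective (key.trans ?_)
    rw [map_add]
    show _ = φ z ⊗ₜ[R] φ 1 + φ 1 ⊗ₜ[R] φ z
    rw [hz, map_one]
  have hc : ∀ g, z.coeff g = 0 := by
    intro g
    let ev : MonoidAlgebra R (Multiplicative (ZMod p)) →ₗ[R] R :=
      (Finsupp.lapply g) ∘ₗ (MonoidAlgebra.coeffLinearEquiv R).toLinearMap
    have hev : ∀ w, ev w = w.coeff g := fun _ => rfl
    have h1 := congrArg (fun t => LinearMap.mul' R R (TensorProduct.map ev ev t)) hcom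
    simp only [map_add, TensorProduct.map_tmul, LinearMap.mul'_apply, hev] at h1
    have h0 : ∀ w, LinearMap.mul' R R (TensorProduct.map ev ev (Coalgebra.comul (R := R) w)) = w.coeff g := by
      intro w
      induction w using MonoidAlgebra.induction_linear with
      | zero => simp
      | add a b ha hb => simp only [map_add]; simpa using congrArg₂ (· + ·) ha hb
      | single h r =>
        rw [MonoidAlgebra.comul_single]
        by_cases hh : h = g
        · simp [hev, hh]
        · simp [hev, hh]
    rw [h0] at h1
    by_cases hg : g = 1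
    · subst hg
      simp [MonoidAlgebra.one_def] at h1
      exact h1
    · rw [MonoidAlgebra.one_def, MonoidAlgebra.coeff_single, Finsupp.single_eq_of_ne hg] at h1
      simpa using h1
  have hz0 : z = 0 := MonoidAlgebra.ext (Finsupp.ext hc)
  rw [hz0, map_zero] at hz
  have h1 := congrArg (fun w => CartKit.Alpha.δ p R w) hz
  simp only [CartDual.coe_apply, map_zero] at h1
  rw [← pow_one (AlphaP.x p R), ← CartDual.coe_apply, CartKit.Alpha.δ_apply, if_pos rfl] at h1
  exact zero_ne_one h1

end Groth.Agent.S16074
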