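import Groth.Statements.S16078
import Groth.Agent.CartKit.UnitComp
import Groth.Agent.CartKit.FlatQuot
import Mathlib.RingTheory.Flat.FaithfullyFlat.Algebra

set_option autoImplicit false
universe u
open scoped TensorProduct
open Hopf

namespace Groth.Agent.S16078

open scoped TensorProduct
/-- Let R be a henselian Noetherian local ring, A and A'' commutative Hopf algebras over R which are
finite and flat as R-modules, and A'' → A an R-algebra homomorphism compatible with
comultiplications and counits making A faithfully flat over A'' (a faithfully flat homomorphism π :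
G → G'' of finite flat R-groups); let J ⊆ A be the ideal generated by the image of the augmentation
ideal of A'' (G' = Spec A/J = ker π, so that 1 → G' → G → G'' → 1 is exact). Let e ∈ A and e'' ∈ A''
be idempotents with ε(e) = 1, ε(e'') = 1 and A/(1 − e), A''/(1 − e'') local rings (the unit
components G⁰ and G''⁰), and let e' ∈ A be an element whose image in A/J is an idempotent, with
ε(e') = 1 and A/(J + (1 − e')) local (so G'⁰ = Spec (A/J)/(1 − e') is the unit component of G').
Suppose g : A''/(1 − e'') → A/(1 − e) is the ring homomorphism induced by A'' → A (the restriction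
π⁰ : G⁰ → G''⁰ of π, which exists because G⁰ is connected). Then g is faithfully flat, and e ≡ e'
modulo J, i.e. J + (1 − e) = J + (1 − e') and the kernel of π⁰, which is cut out in G⁰ by J, is
exactly G'⁰: the sequence 1 → G'⁰ → G⁰ → G''⁰ → 1 is exact. (The published statement also asserts
exactness of the maximal étale quotient G ↦ G^ét, not stated here.) -/
theorem result (R : Type u) [CommRing R] [HenselianLocalRing R]
    [IsNoetherianRing R] (A A'' : Type u) [CommRing A] [HopfAlgebra R A] [Module.Finite R A] [Module.Flat R A]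
    [CommRing A''] [HopfAlgebra R A''] [Module.Finite R A''] [Module.Flat R A'']
    [Algebra A'' A] [IsScalarTower R A'' A] [Module.FaithfullyFlat A'' A]
    (hΔ : (Bialgebra.comulAlgHom R A).comp (IsScalarTower.toAlgHom R A'' A) =
      (Algebra.TensorProduct.map (IsScalarTower.toAlgHom R A'' A) (IsScalarTower.toAlgHom R A'' A)).comp
        (Bialgebra.comulAlgHom R A''))
    (hε : (Bialgebra.counitAlgHom R A).comp (IsScalarTower.toAlgHom R A'' A) = Bialgebra.counitAlgHom R A'')
    (e : A) (he : IsIdempotentElem e) (heε : Bialgebra.counitAlgHom R A e = 1)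
    [IsLocalRing (A ⧸ Ideal.span ({1 - e} : Set A))]
    (e'' : A'') (he'' : IsIdempotentElem e'') (he''ε : Bialgebra.counitAlgHom R A'' e'' = 1)
    [IsLocalRing (A'' ⧸ Ideal.span ({1 - e''} : Set A''))]
    (e' : A) (he' : IsIdempotentElem (Ideal.Quotient.mk ((RingHom.ker (Bialgebra.counitAlgHom R A'')).map (algebraMap A'' A)) e'))
    (he'ε : Bialgebra.counitAlgHom R A e' = 1)
    [IsLocalRing (A ⧸ (((RingHom.ker (Bialgebra.counitAlgHom R A'')).map (algebraMap A'' A)) ⊔ Ideal.span ({1 - e'} : Set A)))]
    (g : (A'' ⧸ Ideal.span ({1 - e''} : Set A'')) →+* (A ⧸ Ideal.span ({1 - e} : Set A)))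
    (hg : g.comp (Ideal.Quotient.mk (Ideal.span ({1 - e''} : Set A''))) =
      (Ideal.Quotient.mk (Ideal.span ({1 - e} : Set A))).comp (algebraMap A'' A)) :
    g.FaithfullyFlat ∧
      Ideal.Quotient.mk ((RingHom.ker (Bialgebra.counitAlgHom R A'')).map (algebraMap A'' A)) e = Ideal.Quotient.mk ((RingHom.ker (Bialgebra.counitAlgHom R A'')).map (algebraMap A'' A)) e' := by
  let ε := Bialgebra.counitAlgHom R A
  let ε'' := Bialgebra.counitAlgHom R A''
  have hcomp : ∀ a : A'', ε (algebraMap A'' A a) = ε'' a := fun a => AlgHom.congr_fun hε a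
  let J : Ideal A := (RingHom.ker ε'').map (algebraMap A'' A)
  have hJ : J ≤ RingHom.ker ε := Ideal.map_le_iff_le_comap.2 fun a ha =>
    RingHom.mem_ker.2 ((hcomp a).trans (RingHom.mem_ker.1 ha))
  refine ⟨?_, ?_⟩
  · let L'' := A'' ⧸ Ideal.span ({1 - e''} : Set A'')
    let L := A ⧸ Ideal.span ({1 - e} : Set A)
    let : Algebra L'' L := g.toAlgebra
    have hgq : ∀ a : A'', g (Ideal.Quotient.mk _ a) = Ideal.Quotient.mk _ (algebraMap A'' A a) := fun a =>
      RingHom.congr_fun hg a
    have : IsScalarTower A'' L'' L := IsScalarTower.of_algebraMap_eq fun a => (hgq a).symm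
    have : Module.Flat A L := Groth.Agent.CartKit.flat_quot_idem he
    have : Module.Flat A'' L := Module.Flat.trans A'' A L
    have hflat : Module.Flat L'' L := by
      let μ : L'' ⊗[A''] L ≃ₗ[L''] L := Groth.Agent.CartKit.tensorQuotEquiv _ L
      exact Module.Flat.of_linearEquiv μ.symm
    have : IsLocalHom (algebraMap L'' L) := by
      refine ⟨fun x hx => ?_⟩
      obtain ⟨a, rfl⟩ := Ideal.Quotient.mk_surjective x
      change IsUnit (g (Ideal.Quotient.mk _ a)) at hx
      rw [hgq] at hx
      let ρ : L →ₐ[R] R := Ideal.Quotient.liftₐ _ ε fun z hz => by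
        obtain ⟨b, rfl⟩ := Ideal.mem_span_singleton'.1 hz
        rw [map_mul, map_sub, map_one, show ε e = 1 from heε, sub_self, mul_zero]
      let ρ'' : L'' →ₐ[R] R := Ideal.Quotient.liftₐ _ ε'' fun z hz => by
        obtain ⟨b, rfl⟩ := Ideal.mem_span_singleton'.1 hz
        rw [map_mul, map_sub, map_one, show ε'' e'' = 1 from he''ε, sub_self, mul_zero]
      have h1 : IsUnit (ε'' a) := hcomp a ▸ hx.map ρ
      have h2 : ρ'' (Ideal.Quotient.mk _ a - algebraMap R L'' (ε'' a)) = 0 := by
        rw [map_sub, AlgHom.commutes]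
        exact sub_eq_zero.2 rfl
      rcases IsLocalRing.isUnit_or_isUnit_of_isUnit_add
          (a := Ideal.Quotient.mk _ a) (b := -(Ideal.Quotient.mk _ a - algebraMap R L'' (ε'' a)))
          (by simpa using h1.map (algebraMap R L'')) with h | h
      · exact h
      · exact absurd (h.map ρ'') (by rw [map_neg, h2, neg_zero]; exact not_isUnit_zero)
    have : Module.FaithfullyFlat L'' L := Module.FaithfullyFlat.of_flat_of_isLocalHom
    exact this
  · let Q := A ⧸ J
    let εQ : Q →ₐ[R] R := Ideal.Quotient.liftₐ J ε fun z hz => hJ hz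
    let ē : Q := Ideal.Quotient.mk J e
    let ē' : Q := Ideal.Quotient.mk J e'
    have hl : IsLocalRing (Q ⧸ Ideal.span ({1 - ē} : Set Q)) := by
      have hne : Nontrivial (Q ⧸ Ideal.span ({1 - ē} : Set Q)) :=
        Ideal.Quotient.nontrivial_iff.2 fun h => by
          have h1 : (1 : Q) ∈ Ideal.span ({1 - ē} : Set Q) := h ▸ trivial
          obtain ⟨b, hb⟩ := Ideal.mem_span_singleton'.1 h1
          have := congrArg εQ hb
          rw [map_mul, map_sub, map_one, show εQ ē = 1 from heε, sub_self, mul_zero] at this
          exact zero_ne_one this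
      refine IsLocalRing.of_surjective'
        (Ideal.quotientMap (I := Ideal.span ({1 - e} : Set A)) _ (Ideal.Quotient.mk J) ?_)
        (Ideal.quotientMap_surjective Ideal.Quotient.mk_surjective)
      rw [← Ideal.map_le_iff_le_comap, Ideal.map_span, Set.image_singleton, map_sub, map_one]
    have hl' : IsLocalRing (Q ⧸ Ideal.span ({1 - ē'} : Set Q)) := by
      have hne : Nontrivial (Q ⧸ Ideal.span ({1 - ē'} : Set Q)) :=
        Ideal.Quotient.nontrivial_iff.2 fun h => by
          have h1 : (1 : Q) ∈ Ideal.span ({1 - ē'} : Set Q) := h ▸ trivial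
          obtain ⟨b, hb⟩ := Ideal.mem_span_singleton'.1 h1
          have := congrArg εQ hb
          rw [map_mul, map_sub, map_one, show εQ ē' = 1 from he'ε, sub_self, mul_zero] at this
          exact zero_ne_one this
      refine IsLocalRing.of_surjective'
        (Ideal.quotientMap (I := J ⊔ Ideal.span ({1 - e'} : Set A)) _ (Ideal.Quotient.mk J) ?_)
        (Ideal.quotientMap_surjective Ideal.Quotient.mk_surjective)
      rw [← Ideal.map_le_iff_le_comap, Ideal.map_sup, Ideal.map_quotient_self, bot_sup_eq, Ideal.map_span,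
        Set.image_singleton, map_sub, map_one]
    have a1 := Groth.Agent.CartKit.idem_mul_eq εQ.toRingHom (he.map (Ideal.Quotient.mk J)) heε he' he'ε
    have a2 := Groth.Agent.CartKit.idem_mul_eq εQ.toRingHom he' he'ε (he.map (Ideal.Quotient.mk J)) heε
    exact a1.symm.trans ((mul_comm _ _).trans a2)

end Groth.Agent.S16078
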