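import Groth.Statements.S16082
import Groth.Agent.HomShEval.Reflexive
-- import your own Groth.Agent.* helpers here

set_option autoImplicit false
universe u
open CategoryTheory CategoryTheory.Limits AlgebraicGeometry TopologicalSpace
open SDiv

namespace Groth.Agent.S16082

/-- Let X be an integral scheme and F, G quasi-coherent O_X-modules with F of finite presentation and G
torsion free (every stalk G_x is a torsion-free module over the domain O_{X,x}). Then every stalk of
the sheaf Hom 𝓗om_{O_X}(F, G) is torsion free as well. -/
theorem result (X : Scheme.{u}) [IsIntegral X] (F G : X.Modules) (hF : Coh.IsQCoh F)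
    (hFp : CohB1.IsFP F) (hG : Coh.IsQCoh G) (hGt : TorSh.IsTorsionFree G) :
    TorSh.IsTorsionFree (RefHull.homSh F G) := by
  intro x
  haveI := hGt x
  exact (Groth.Agent.HomShEval.evalStalk_injective F G
    (Groth.Agent.HomShEval.Reflexive.isFT_of_isFP F hFp) x).moduleIsTorsionFree _ (map_smul _)

end Groth.Agent.S16082
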