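import Groth.Statements.S16084
import Groth.Agent.Ref1.Class

set_option autoImplicit false
universe u
open CategoryTheory CategoryTheory.Limits AlgebraicGeometry TopologicalSpace
open SDiv

namespace Groth.Agent.S16084

/-- Let X be an integral locally Noetherian normal scheme, F a rank one coherent reflexive O_X-module
and s a nonzero global section of F. Let Z be the set of points x at which multiplication by the
germ of s, O_{X,x} → F_x, fails to be bijective (the complement of the open where s generates F).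
Then every irreducible component of Z has codimension 1 in X: at each point z of Z to which no other
point of Z specializes, the local ring O_{X,z} has dimension 1. -/
theorem result (X : Scheme.{u}) [IsIntegral X] [IsLocallyNoetherian X]
    (hX : Pi1.IsNormalScheme X) (F : X.Modules) (hF : RefHull.IsRef1 F) (s : Γ(F, ⊤)) (hs : s ≠ 0) (z : ↥X)
    (hz : ¬ Function.Bijective fun a : ↑(X.presheaf.stalk z) => a • F.presheaf.germ ⊤ z trivial s)
    (hmax : ∀ y : ↥X, ¬ Function.Bijective (fun a : ↑(X.presheaf.stalk y) => a • F.presheaf.germ ⊤ y trivial s) →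
      y ⤳ z → y = z) :
    ringKrullDim ↑(X.presheaf.stalk z) = 1 := by
  by_contra hdim
  have hrk := Groth.Agent.Ref1.rankOne_of_isRef1 hF
  have hinj := fun x => Groth.Agent.Ref1.toη_injective_of_isReflexive F hF.1 hF.2.1 x
  let σ : ∀ x : X, F.presheaf.stalk x := fun x => F.presheaf.germ ⊤ x trivial s
  have hση : ∀ x : X, Groth.Agent.Ref1.toη F x (σ x) = σ (genericPoint X) := fun x =>
    Groth.Agent.Ref1.sp_germ F (Groth.Agent.Ref1.hsp x) (U := ⊤) trivial s
  have hne : σ (genericPoint X) ≠ 0 := by
    intro h0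
    refine hs (Groth.Agent.HomShQC.sec_ext F fun x hx => hinj x ?_)
    exact ((hση x).trans h0).trans
      ((congrArg (Groth.Agent.Ref1.toη F x) (map_zero (F.presheaf.germ ⊤ x hx).hom)).trans (map_zero _)).symm
  refine hz ⟨fun a b hab => ?_, fun v => ?_⟩
  · have h := congrArg (Groth.Agent.Ref1.toη F z) (show a • σ z = b • σ z from hab)
    rw [Groth.Agent.Ref1.toη, Groth.Agent.Ref1.sp_smul, Groth.Agent.Ref1.sp_smul] at h
    have h2 := (hση z).symm
    rw [h2] at hne
    have h3 : (Groth.Agent.Ref1.toK z a - Groth.Agent.Ref1.toK z b) • Groth.Agent.Ref1.toη F z (σ z) = 0 := by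
      rw [sub_smul]; exact sub_eq_zero.mpr h
    exact Groth.Agent.Ref1.toK_injective z (sub_eq_zero.mp ((hrk.eq_zero_or _ _ h3).resolve_right hne))
  · obtain ⟨a, ha⟩ := hrk.exists_smul hne (Groth.Agent.Ref1.toη F z v)
    obtain ⟨c, hc⟩ := Groth.Agent.Ref1.mem_range_toK_of_codim_one hX z a fun y hyz hy => by
      have hyne : y ≠ z := fun h => hdim (h ▸ hy)
      have hb := of_not_not fun h => hyne (hmax y h hyz)
      obtain ⟨c, hc⟩ := hb.2 (Groth.Agent.Ref1.sp F hyz v)
      refine ⟨c, ?_⟩
      have h := congrArg (Groth.Agent.Ref1.toη F y) (show c • σ y = Groth.Agent.Ref1.sp F hyz v from hc)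
      rw [Groth.Agent.Ref1.toη, Groth.Agent.Ref1.sp_smul, Groth.Agent.Ref1.sp_sp] at h
      have h4 : (Groth.Agent.Ref1.toK y c - a) • σ (genericPoint X) = 0 := by
        rw [sub_smul, ← ha, ← hση y]
        exact sub_eq_zero.mpr h
      exact sub_eq_zero.mp ((hrk.eq_zero_or _ _ h4).resolve_right hne)
    refine ⟨c, hinj z ?_⟩
    show Groth.Agent.Ref1.toη F z (c • σ z) = _
    rw [Groth.Agent.Ref1.toη, Groth.Agent.Ref1.sp_smul]
    exact (congrArg₂ (· • ·) hc (hση z)).trans ha.symm

end Groth.Agent.S16084
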