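import Groth.Statements.S16085
import Groth.Agent.Ref1.Class
import Groth.Prelude.Def_Ref1Cl

set_option autoImplicit false
universe u
open CategoryTheory CategoryTheory.Limits AlgebraicGeometry TopologicalSpace
open SDiv

namespace Groth.Agent.S16085

/-- Let X be an integral locally Noetherian normal scheme. Sending (F, G) to the reflexive hull (F
⊗_{O_X} G)^** makes the isomorphism classes of rank one coherent reflexive O_X-modules into an
abelian group: on that set there are a commutative and associative composition law, a neutral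
element and inverses, such that the product of the classes of F and G is the class of the reflexive
hull of F ⊗_{O_X} G, the neutral element is the class of O_X, and the inverse of the class of F is
the class of its dual 𝓗om_{O_X}(F, O_X). -/
theorem result (X : Scheme.{u}) [IsIntegral X] [IsLocallyNoetherian X] (hX : Pi1.IsNormalScheme X) :
    ∃ (mul : {c : PicF.Cl X // ∃ F : X.Modules, PicF.cl F = c ∧ RefHull.IsRef1 F} →
          {c : PicF.Cl X // ∃ F : X.Modules, PicF.cl F = c ∧ RefHull.IsRef1 F} →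
            {c : PicF.Cl X // ∃ F : X.Modules, PicF.cl F = c ∧ RefHull.IsRef1 F})
      (one : {c : PicF.Cl X // ∃ F : X.Modules, PicF.cl F = c ∧ RefHull.IsRef1 F})
      (inv : {c : PicF.Cl X // ∃ F : X.Modules, PicF.cl F = c ∧ RefHull.IsRef1 F} →
          {c : PicF.Cl X // ∃ F : X.Modules, PicF.cl F = c ∧ RefHull.IsRef1 F}),
      (∀ a b, mul a b = mul b a) ∧ (∀ a b c, mul (mul a b) c = mul a (mul b c)) ∧ (∀ a, mul one a = a) ∧
        (∀ a, mul (inv a) a = one) ∧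
        (∀ (F G : X.Modules) (hF : RefHull.IsRef1 F) (hG : RefHull.IsRef1 G),
          (mul ⟨PicF.cl F, F, rfl, hF⟩ ⟨PicF.cl G, G, rfl, hG⟩).1 = PicF.cl (RefHull.ddual (CohB1.tensorMod F G))) ∧
        one.1 = PicF.cl (Coh.structureModule X) ∧
        (∀ (F : X.Modules) (hF : RefHull.IsRef1 F), (inv ⟨PicF.cl F, F, rfl, hF⟩).1 = PicF.cl (RefHull.dual F)) := by
  classical
  let rep : {c : PicF.Cl X // ∃ F : X.Modules, PicF.cl F = c ∧ RefHull.IsRef1 F} → X.Modules := fun a => a.2.choose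
  have hrep : ∀ a, RefHull.IsRef1 (rep a) := fun a => a.2.choose_spec.2
  have hcl : ∀ a, PicF.cl (rep a) = a.1 := fun a => a.2.choose_spec.1
  have key : ∀ (F G : X.Modules), RefHull.IsRef1 F → RefHull.IsRef1 G →
      ∀ (s : F.presheaf.stalk (genericPoint X)) (t : G.presheaf.stalk (genericPoint X)), s ≠ 0 → t ≠ 0 →
      (∀ y : X, Order.coheight y = 1 → Groth.Agent.Ref1.ordS F y s = Groth.Agent.Ref1.ordS G y t) →
      PicF.cl F = PicF.cl G := fun F G hF hG s t hs ht h =>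
    (PicGrp.cl_eq_cl_iff _ _).mpr (Groth.Agent.Ref1.iso_of_ordS_eq hX hF hG hs ht h)
  have hsec : ∀ (F : X.Modules), RefHull.IsRef1 F → ∃ s : F.presheaf.stalk (genericPoint X), s ≠ 0 :=
    fun F hF => (Groth.Agent.Ref1.rankOne_of_isRef1 hF).exists_ne_zero
  have htens : ∀ (F G : X.Modules), RefHull.IsRef1 F → RefHull.IsRef1 G →
      RefHull.IsRef1 (RefHull.ddual (CohB1.tensorMod F G)) := fun F G hF hG =>
    Groth.Agent.Ref1.isRef1_ddual _ (Groth.Agent.Ref1.isCoh_tensorMod hF.1 hG.1)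
      (Groth.Agent.Ref1.isRankOne_tensorMod (Groth.Agent.Ref1.rankOne_of_isRef1 hF)
        (Groth.Agent.Ref1.rankOne_of_isRef1 hG))
  refine ⟨fun a b => ⟨_, _, rfl, htens _ _ (hrep a) (hrep b)⟩,
    ⟨_, _, rfl, Groth.Agent.Ref1.isRef1_structureModule⟩,
    fun a => ⟨_, _, rfl, Groth.Agent.Ref1.isRef1_dual (hrep a)⟩, ?_, ?_, ?_, ?_, ?_, rfl, ?_⟩
  · intro a b
    obtain ⟨s, hs⟩ := hsec _ (hrep a)
    obtain ⟨t, ht⟩ := hsec _ (hrep b)
    obtain ⟨h1, n1, e1⟩ := Groth.Agent.Ref1.tensorSec_spec hX (hrep a) (hrep b) hs ht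
    obtain ⟨h2, n2, e2⟩ := Groth.Agent.Ref1.tensorSec_spec hX (hrep b) (hrep a) ht hs
    exact Subtype.ext (key _ _ h1 h2 _ _ n1 n2 fun y hy => by rw [e1 y hy, e2 y hy, add_comm])
  · intro a b c
    apply Subtype.ext
    obtain ⟨s, hs⟩ := hsec _ (hrep a)
    obtain ⟨t, ht⟩ := hsec _ (hrep b)
    obtain ⟨v, hv⟩ := hsec _ (hrep c)
    set ab : {c : PicF.Cl X // ∃ F : X.Modules, PicF.cl F = c ∧ RefHull.IsRef1 F} :=
      ⟨_, _, rfl, htens _ _ (hrep a) (hrep b)⟩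
    set bc : {c : PicF.Cl X // ∃ F : X.Modules, PicF.cl F = c ∧ RefHull.IsRef1 F} :=
      ⟨_, _, rfl, htens _ _ (hrep b) (hrep c)⟩
    obtain ⟨h1, n1, e1⟩ := Groth.Agent.Ref1.tensorSec_spec hX (hrep a) (hrep b) hs ht
    obtain ⟨h2, n2, e2⟩ := Groth.Agent.Ref1.tensorSec_spec hX (hrep b) (hrep c) ht hv
    obtain ⟨i⟩ := (PicGrp.cl_eq_cl_iff _ _).mp (hcl ab)
    obtain ⟨j⟩ := (PicGrp.cl_eq_cl_iff _ _).mp (hcl bc)
    obtain ⟨u, hu⟩ := hsec _ (hrep ab)
    obtain ⟨w, hw⟩ := hsec _ (hrep bc)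
    obtain ⟨f, hf, ef⟩ := Groth.Agent.Ref1.exists_ordS_eq_of_iso hX h1 (hrep ab) i.symm n1 hu
    obtain ⟨g, hg, eg⟩ := Groth.Agent.Ref1.exists_ordS_eq_of_iso hX h2 (hrep bc) j.symm n2 hw
    have hfu : f • u ≠ 0 := fun h0 => hu ((Groth.Agent.Ref1.isUnit_of_ne_zero hf).smul_eq_zero.mp h0)
    have hgw : g • w ≠ 0 := fun h0 => hw ((Groth.Agent.Ref1.isUnit_of_ne_zero hg).smul_eq_zero.mp h0)
    obtain ⟨h3, n3, e3⟩ := Groth.Agent.Ref1.tensorSec_spec hX (hrep ab) (hrep c) hfu hv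
    obtain ⟨h4, n4, e4⟩ := Groth.Agent.Ref1.tensorSec_spec hX (hrep a) (hrep bc) hs hgw
    refine key _ _ h3 h4 _ _ n3 n4 fun y hy => ?_
    rw [e3 y hy, e4 y hy, Groth.Agent.Ref1.ordS_smul hX (hrep ab) hy hu hf,
      Groth.Agent.Ref1.ordS_smul hX (hrep bc) hy hw hg, ← ef y hy, ← eg y hy, e1 y hy, e2 y hy]
    ring
  · intro a
    apply Subtype.ext
    set one : {c : PicF.Cl X // ∃ F : X.Modules, PicF.cl F = c ∧ RefHull.IsRef1 F} :=
      ⟨_, _, rfl, Groth.Agent.Ref1.isRef1_structureModule⟩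
    obtain ⟨i⟩ := (PicGrp.cl_eq_cl_iff _ _).mp (hcl one)
    obtain ⟨s, hs⟩ := hsec _ (hrep a)
    obtain ⟨u, hu⟩ := hsec _ (hrep one)
    have h1 : Groth.Agent.HomShQC.unitStalk (genericPoint X) 1 ≠ 0 := fun h =>
      one_ne_zero ((Groth.Agent.HomShQC.unitStalk (genericPoint X)).injective (h.trans (map_zero _).symm))
    obtain ⟨f, hf, ef⟩ := Groth.Agent.Ref1.exists_ordS_eq_of_iso hX Groth.Agent.Ref1.isRef1_structureModule
      (hrep one) i.symm h1 hu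
    have hfu : f • u ≠ 0 := fun h0 => hu ((Groth.Agent.Ref1.isUnit_of_ne_zero hf).smul_eq_zero.mp h0)
    obtain ⟨h3, n3, e3⟩ := Groth.Agent.Ref1.tensorSec_spec hX (hrep one) (hrep a) hfu hs
    refine (key _ _ h3 (hrep a) _ _ n3 hs fun y hy => ?_).trans (hcl a)
    rw [e3 y hy, Groth.Agent.Ref1.ordS_smul hX (hrep one) hy hu hf, ← ef y hy,
      Groth.Agent.Ref1.ordS_one hy, zero_add]
  · intro a
    apply Subtype.ext
    set ia : {c : PicF.Cl X // ∃ F : X.Modules, PicF.cl F = c ∧ RefHull.IsRef1 F} :=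
      ⟨_, _, rfl, Groth.Agent.Ref1.isRef1_dual (hrep a)⟩
    obtain ⟨i⟩ := (PicGrp.cl_eq_cl_iff _ _).mp (hcl ia)
    obtain ⟨s, hs⟩ := hsec _ (hrep a)
    obtain ⟨w, hw, ew⟩ := Groth.Agent.Ref1.exists_dualSec hX (hrep a) hs
    obtain ⟨u, hu⟩ := hsec _ (hrep ia)
    obtain ⟨f, hf, ef⟩ := Groth.Agent.Ref1.exists_ordS_eq_of_iso hX (Groth.Agent.Ref1.isRef1_dual (hrep a))
      (hrep ia) i.symm hw hu
    have hfu : f • u ≠ 0 := fun h0 => hu ((Groth.Agent.Ref1.isUnit_of_ne_zero hf).smul_eq_zero.mp h0)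
    obtain ⟨h3, n3, e3⟩ := Groth.Agent.Ref1.tensorSec_spec hX (hrep ia) (hrep a) hfu hs
    have h1 : Groth.Agent.HomShQC.unitStalk (genericPoint X) 1 ≠ 0 := fun h =>
      one_ne_zero ((Groth.Agent.HomShQC.unitStalk (genericPoint X)).injective (h.trans (map_zero _).symm))
    refine key _ _ h3 Groth.Agent.Ref1.isRef1_structureModule _ _ n3 h1 fun y hy => ?_
    rw [e3 y hy, Groth.Agent.Ref1.ordS_smul hX (hrep ia) hy hu hf, ← ef y hy, ew y hy,
      Groth.Agent.Ref1.ordS_one hy]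
    omega
  · intro F G hF hG
    obtain ⟨i⟩ := (PicGrp.cl_eq_cl_iff _ _).mp (hcl ⟨PicF.cl F, F, rfl, hF⟩)
    obtain ⟨j⟩ := (PicGrp.cl_eq_cl_iff _ _).mp (hcl ⟨PicF.cl G, G, rfl, hG⟩)
    exact (PicGrp.cl_eq_cl_iff _ _).mpr ⟨RefFun.refTensorIso i j⟩
  · intro F hF
    obtain ⟨i⟩ := (PicGrp.cl_eq_cl_iff _ _).mp (hcl ⟨PicF.cl F, F, rfl, hF⟩)
    exact (PicGrp.cl_eq_cl_iff _ _).mpr ⟨RefFun.dualIso i⟩

end Groth.Agent.S16085
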