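import Groth.Statements.S16088
import Groth.Agent.VBLib.DualDeg
import Groth.Agent.IdealSh.IdealMod
import Groth.Agent.PicCl.Basic
import Groth.Agent.PicLaw.Basic
import Groth.Agent.ProjTwist.Tensor
import Groth.Agent.QCoh.Pullback

set_option autoImplicit false
universe u
open CategoryTheory CategoryTheory.Limits AlgebraicGeometry TopologicalSpace
open SDiv

namespace Groth.Agent.S16088

/-- Let S be a scheme, D ⊆ S an effective Cartier divisor with ideal sheaf 𝓓 and i : D ⟶ S its closed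
immersion. The normal sheaf of D in S, the O_D-dual of the conormal sheaf i^*𝓓, is isomorphic to the
restriction i^*(O_S(D)) to D of O_S(D) = 𝓗om_{O_S}(𝓓, O_S), the dual of the invertible ideal 𝓓.
Existence of an isomorphism of O_D-modules only; the canonical identification is not named here. -/
theorem result (S : Scheme.{u}) (𝓓 : S.IdealSheafData)
    (hD : BlowUp.IsEffCartierIdeal 𝓓) :
    Nonempty (RefHull.dual (Omega.conormal 𝓓.subschemeι) ≅
      (Scheme.Modules.pullback 𝓓.subschemeι).obj (RefHull.dual (ClSub.idealMod 𝓓))) := by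
  have hM := Groth.Agent.IdealSh.IdealMod.isInvertible_of_isEffCartierIdeal 𝓓 hD
  obtain ⟨hdM, ⟨eM⟩⟩ := Groth.Agent.VBLib.DualDeg.invertible_dual hM
  have hL : PicF.IsInvertible ((Scheme.Modules.pullback 𝓓.subschemeι).obj (ClSub.idealMod 𝓓)) :=
    Groth.Agent.PicCl.isInvertible_pullback _ hM
  obtain ⟨hdL, ⟨eL⟩⟩ := Groth.Agent.VBLib.DualDeg.invertible_dual hL
  obtain ⟨ep⟩ := Groth.Agent.PicLaw.pullback_tensor 𝓓.subschemeι hM hdM
  let L := (Scheme.Modules.pullback 𝓓.subschemeι).obj (ClSub.idealMod 𝓓)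
  let B := (Scheme.Modules.pullback 𝓓.subschemeι).obj (RefHull.dual (ClSub.idealMod 𝓓))
  let eB : CohB1.tensorMod L B ≅ Coh.structureModule 𝓓.subscheme :=
    ep.symm ≪≫ (Scheme.Modules.pullback 𝓓.subschemeι).mapIso eM ≪≫ Groth.Agent.QCoh.pullbackUnitIso _
  let A := RefHull.dual L
  have e0 : Omega.conormal 𝓓.subschemeι = L := by
    show (Scheme.Modules.pullback 𝓓.subschemeι).obj (ClSub.idealMod 𝓓.subschemeι.ker) = L
    rw [Scheme.IdealSheafData.ker_subschemeι]
  rw [e0]
  open Groth.Agent.ProjTwist in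
  exact ⟨(tensOne A).symm ≪≫ tensCongr (Iso.refl A) eB.symm ≪≫ (tensAssoc A L B).symm ≪≫
    tensCongr (tensComm A L ≪≫ eL) (Iso.refl B) ≪≫ oneTens B⟩

end Groth.Agent.S16088
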