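import Groth.Statements.S16091
import Groth.Agent.RelFlat47.Core
import Groth.Agent.RelTildeLib.Frame
import Groth.Agent.AssSch.Stalk

set_option autoImplicit false
universe u
open CategoryTheory CategoryTheory.Limits AlgebraicGeometry TopologicalSpace Opposite
open scoped HomogeneousIdeal
noncomputable section
open SDiv

namespace Groth.Agent.S16091

open RelProjLib RelTildeLib GrModLib RelFlat47

section Scalar

variable {A σ : Type u} [CommRing A] [SetLike σ A] [AddSubgroupClass σ A] (𝒜 : ℕ → σ) [GradedRing 𝒜]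

theorem toSpecZero_appTop :
    (Proj.toSpecZero 𝒜).appTop = (Scheme.ΓSpecIso (CommRingCat.of (𝒜 0))).hom ≫
      CommRingCat.ofHom (HomogeneousLocalization.fromZeroRingHom 𝒜 _) ≫
        Proj.awayToSection 𝒜 1 ≫
          (Proj 𝒜).presheaf.map (homOfLE (le_of_eq (Proj.basicOpen_one 𝒜).symm)).op := by
  set U := Proj.basicOpen 𝒜 (1 : A)
  let L : Proj 𝒜 ⟶ (U : Scheme.{u}) :=
    (Scheme.topIso _).inv ≫ (Scheme.isoOfEq _ (Proj.basicOpen_one 𝒜)).inv
  have hL : L ≫ U.ι = 𝟙 _ := by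
    rw [Category.assoc, Scheme.isoOfEq_inv_ι, Scheme.toIso_inv_ι]
  have e : Proj.toSpecZero 𝒜 = L ≫ Proj.basicOpenToSpec 𝒜 1 ≫
      Spec.map (CommRingCat.ofHom (HomogeneousLocalization.fromZeroRingHom 𝒜 _)) := by
    simp [L, Proj.toSpecZero]
  have h1 : U.topIso.inv ≫ L.appTop =
      (Proj 𝒜).presheaf.map (homOfLE (le_of_eq (Proj.basicOpen_one 𝒜).symm)).op := by
    have h2 := congrArg Scheme.Hom.appTop hL
    rw [Scheme.Hom.comp_appTop, Scheme.Hom.id_appTop, Scheme.Opens.ι_appTop] at h2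
    have h3 : (Proj 𝒜).presheaf.map (homOfLE (le_top : U ≤ ⊤)).op ≫ U.topIso.inv =
        (Proj 𝒜).presheaf.map (homOfLE (le_top : U.ι ''ᵁ ⊤ ≤ ⊤)).op := by
      rw [Scheme.Opens.topIso_inv]
      exact ((Proj 𝒜).presheaf.map_comp _ _).symm.trans (congrArg _ (Subsingleton.elim _ _))
    rw [← h3, Category.assoc] at h2
    have : IsIso ((Proj 𝒜).presheaf.map (homOfLE (le_top : U ≤ ⊤)).op) := by
      have : IsIso (homOfLE (le_top : U ≤ ⊤)) :=
        ⟨homOfLE (le_of_eq (Proj.basicOpen_one 𝒜).symm), rfl, rfl⟩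
      infer_instance
    rw [← cancel_epi ((Proj 𝒜).presheaf.map (homOfLE (le_top : U ≤ ⊤)).op)]
    exact h2.trans (by rw [← Functor.map_comp]; exact ((Proj 𝒜).presheaf.map_id _).symm)
  have h4 : (Proj.basicOpenToSpec 𝒜 (1 : A)).appTop = (Scheme.ΓSpecIso _).hom ≫
      Proj.awayToSection 𝒜 1 ≫ U.topIso.inv := Proj.basicOpenToSpec_app_top 𝒜 1
  rw [e, Scheme.Hom.comp_appTop, Scheme.Hom.comp_appTop, h4, ← h1]
  simp only [Category.assoc]
  rw [Scheme.ΓSpecIso_naturality_assoc]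

variable {R : CommRingCat.{u}} (φ : R ⟶ CommRingCat.of (𝒜 0))

theorem funVal_toSpec (r : R) (y : ProjectiveSpectrum 𝒜) :
    funVal ((Proj.toSpecZero 𝒜 ≫ Spec.map φ).appTop ((Scheme.ΓSpecIso R).inv r)) y
        (show y ∈ (⊤ : (Proj 𝒜).Opens) from trivial) =
      Localization.mk (φ r : A) (1 : y.asHomogeneousIdeal.toIdeal.primeCompl) := by
  have h : (Scheme.ΓSpecIso R).inv ≫ (Proj.toSpecZero 𝒜 ≫ Spec.map φ).appTop =
      φ ≫ CommRingCat.ofHom (HomogeneousLocalization.fromZeroRingHom 𝒜 _) ≫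
        Proj.awayToSection 𝒜 1 ≫
          (Proj 𝒜).presheaf.map (homOfLE (le_of_eq (Proj.basicOpen_one 𝒜).symm)).op := by
    rw [Scheme.Hom.comp_appTop, toSpecZero_appTop, Scheme.ΓSpecIso_naturality_assoc,
      Iso.inv_hom_id_assoc]
  have h' := ConcreteCategory.congr_hom h r
  change funVal ((ConcreteCategory.hom ((Scheme.ΓSpecIso R).inv ≫
    (Proj.toSpecZero 𝒜 ≫ Spec.map φ).appTop)) r) y _ = _
  rw [h']
  refine (ProjectiveSpectrum.Proj.awayToSection_apply (𝒜 := 𝒜) 1 _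
    ⟨y, fun hy => y.isPrime.ne_top ((Ideal.eq_top_iff_one _).2 hy)⟩).trans ?_
  change IsLocalization.map _ (RingHom.id A) _ (Localization.mk (φ r : A) (1 : Submonoid.powers (1 : A))) = _
  rw [Localization.mk_eq_mk', IsLocalization.map_mk', Localization.mk_eq_mk']
  rfl

end Scalar

variable {S P : Scheme.{u}} {𝒜 : RelProj.QCGrAlg S} {p : P ⟶ S}
  {chart : ∀ (U : S.Opens) (hU : IsAffineOpen U), (((p ⁻¹ᵁ U : P.Opens) : Scheme.{u}) ≅ Proj (𝒜.deg U hU))}

theorem funVal_base (hP : RelProj.IsRelProj 𝒜 p chart) {U : S.Opens} (hU : IsAffineOpen U)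
    {W : P.Opens} (hW : W ≤ p ⁻¹ᵁ U) (r : Γ(S, U)) (y : ProjectiveSpectrum (𝒜.deg U hU))
    (hy : y ∈ RelProj.emb p chart U hU ⁻¹ᵁ W) :
    funVal ((RelProj.emb p chart U hU).app W ((p.appLE U W hW).hom r)) y hy =
      Localization.mk ((𝒜.str.app (op U)).hom r) (1 : y.asHomogeneousIdeal.toIdeal.primeCompl) := by
  have he : RelProj.emb p chart U hU ≫ p =
      (Proj.toSpecZero (𝒜.deg U hU) ≫ Spec.map (𝒜.strZero U hU)) ≫ hU.fromSpec := by
    rw [Category.assoc]
    exact RelProjLib.emb_comp hP U hU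
  have h1 : p.appLE U W hW ≫ (RelProj.emb p chart U hU).app W =
      (RelProj.emb p chart U hU ≫ p).appLE U (RelProj.emb p chart U hU ⁻¹ᵁ W)
        (fun z hz => hW hz) := by
    rw [Scheme.Hom.app_eq_appLE, Scheme.Hom.appLE_comp_appLE]
  have h2 : ((Proj.toSpecZero (𝒜.deg U hU) ≫ Spec.map (𝒜.strZero U hU)) ≫ hU.fromSpec).appLE U
        (RelProj.emb p chart U hU ⁻¹ᵁ W) (by rw [← he]; exact fun z hz => hW hz) =
      (Scheme.ΓSpecIso Γ(S, U)).inv ≫
        (Proj.toSpecZero (𝒜.deg U hU) ≫ Spec.map (𝒜.strZero U hU)).appTop ≫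
          (Proj (𝒜.deg U hU)).presheaf.map (homOfLE le_top).op := by
    have hle : (⊤ : (Spec Γ(S, U)).Opens) ≤ hU.fromSpec ⁻¹ᵁ U :=
      le_of_eq hU.fromSpec_preimage_self.symm
    have h0 : hU.fromSpec.appLE U ⊤ hle = (Scheme.ΓSpecIso Γ(S, U)).inv := by
      rw [Scheme.Hom.appLE, IsAffineOpen.fromSpec_app_self, Category.assoc, ← Functor.map_comp]
      exact (congrArg (_ ≫ ·) ((congrArg (Spec Γ(S, U)).presheaf.map (Subsingleton.elim _ (𝟙 _))).trans
        ((Spec Γ(S, U)).presheaf.map_id _))).trans (Category.comp_id _)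
    rw [← Scheme.Hom.appLE_comp_appLE _ hU.fromSpec U ⊤ _ hle le_top, h0]
    rfl
  have h3 : (RelProj.emb p chart U hU).app W ((p.appLE U W hW).hom r) =
      (Proj (𝒜.deg U hU)).presheaf.map (homOfLE le_top).op
        ((Proj.toSpecZero (𝒜.deg U hU) ≫ Spec.map (𝒜.strZero U hU)).appTop
          ((Scheme.ΓSpecIso Γ(S, U)).inv r)) := by
    change (ConcreteCategory.hom (p.appLE U W hW ≫ (RelProj.emb p chart U hU).app W)) r = _
    simp only [h1, he]
    rw [h2]
    rfl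
  rw [h3]
  exact funVal_toSpec (𝒜.deg U hU) (𝒜.strZero U hU) r y

theorem val_base_smul (hP : RelProj.IsRelProj 𝒜 p chart) {n : ℤ} {L : P.Modules}
    {lam : ∀ (U : S.Opens) (hU : IsAffineOpen U),
      L ⟶ (Scheme.Modules.pushforward (RelProj.emb p chart U hU)).obj (GrTwist.twist (𝒜.deg U hU) n)}
    {U : S.Opens} (hU : IsAffineOpen U) {W : P.Opens} (hW : W ≤ p ⁻¹ᵁ U) (r : Γ(S, U)) (t : Γ(L, W))
    (y : ProjectiveSpectrum (𝒜.deg U hU)) (hy : y ∈ RelProj.emb p chart U hU ⁻¹ᵁ W) :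
    GrTwist.val (V := RelProj.emb p chart U hU ⁻¹ᵁ W) ((lam U hU).app W ((p.appLE U W hW).hom r • t))
        ⟨y, hy⟩ =
      Localization.mk ((𝒜.str.app (op U)).hom r) (1 : y.asHomogeneousIdeal.toIdeal.primeCompl) *
        GrTwist.val (V := RelProj.emb p chart U hU ⁻¹ᵁ W) ((lam U hU).app W t) ⟨y, hy⟩ := by
  rw [Scheme.Modules.Hom.app_smul]
  exact (val_smulT ((RelProj.emb p chart U hU).app W ((p.appLE U W hW).hom r))
    ((lam U hU).app W t) ⟨y, hy⟩).trans (congrArg (· * _) (funVal_base hP hU hW r y hy))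

theorem val_sum {A σ : Type u} [CommRing A] [SetLike σ A] [AddSubgroupClass σ A] {ℬ : ℕ → σ}
    [GradedRing ℬ] {n : ℤ} {V : (Proj ℬ).Opens} {ι : Type*} (s : Finset ι)
    (t : ι → Γ(GrTwist.twist ℬ n, V)) (y : V) :
    GrTwist.val (∑ i ∈ s, t i) y = ∑ i ∈ s, GrTwist.val (t i) y :=
  map_sum ({ toFun := fun t => GrTwist.val t y, map_zero' := rfl, map_add' := fun _ _ => rfl } :
    Γ(GrTwist.twist ℬ n, V) →+ GrTwist.Loc ℬ y.1) t s

theorem exists_scaled {R S' : Type*} [CommRing R] [CommRing S'] [Algebra R S'] (M : Submonoid R)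
    [IsLocalization M S'] {m : ℕ} (r : Fin m → S') :
    ∃ (d : R) (a : Fin m → R), d ∈ M ∧ ∀ l, r l * algebraMap R S' d = algebraMap R S' (a l) := by
  obtain ⟨d, hd⟩ := IsLocalization.exist_integer_multiples_of_finite M r
  choose a ha using hd
  exact ⟨d, a, d.2, fun l => by rw [ha l, Algebra.smul_def, mul_comm]⟩

theorem twist_flat (hP : RelProj.IsRelProj 𝒜 p chart) {n : ℤ} {L : P.Modules}
    {lam : ∀ (U : S.Opens) (hU : IsAffineOpen U),
      L ⟶ (Scheme.Modules.pushforward (RelProj.emb p chart U hU)).obj (GrTwist.twist (𝒜.deg U hU) n)}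
    (hL : RelProj.IsRelTwist 𝒜 p chart n L lam) {d₀ : ℕ}
    (hflat : ∀ d : ℕ, d₀ ≤ d → ∀ (U : S.Opens) (hU : IsAffineOpen U),
      letI := (𝒜.str.app (op U)).hom.toAlgebra
      Module.Flat Γ(S, U) ↥(Submodule.span Γ(S, U) (𝒜.deg U hU d : Set (𝒜.presheaf.obj (op U))))) :
    FlatMod.IsFlatOver p L := by
  classical
  intro q
  obtain ⟨U, hU, hqU, -⟩ :=
    exists_isAffineOpen_mem_and_subset (U := (⊤ : S.Opens)) (x := p q) trivial
  letI := FlatMod.moduleStalkOver p L q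
  change Module.Flat (S.presheaf.stalk (p.base q)) (L.presheaf.stalk q)
  letI : Algebra Γ(S, U) (S.presheaf.stalk (p.base q)) := (S.presheaf.germ U (p q) hqU).hom.toAlgebra
  haveI : IsLocalization.AtPrime (S.presheaf.stalk (p.base q)) (hU.primeIdealOf ⟨p q, hqU⟩).asIdeal :=
    hU.isLocalization_stalk ⟨p q, hqU⟩
  rw [Module.Flat.iff_forall_isTrivialRelation]
  intro m r x hrel
  obtain ⟨den, a, hden, ha⟩ := exists_scaled (hU.primeIdealOf ⟨p q, hqU⟩).asIdeal.primeCompl r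
  have hunit : IsUnit (algebraMap Γ(S, U) (S.presheaf.stalk (p.base q)) den) :=
    IsLocalization.map_units _ (⟨den, hden⟩ : (hU.primeIdealOf ⟨p q, hqU⟩).asIdeal.primeCompl)
  -- common open
  choose W₀ hqW₀ sec hsec using fun l => TopCat.Presheaf.germ_exist L.presheaf (x l)
  let W : P.Opens := (Finset.univ.inf W₀) ⊓ p ⁻¹ᵁ U
  have hqinf : q ∈ (Finset.univ.inf W₀ : P.Opens) := by
    have : ∀ T : Finset (Fin m), q ∈ (T.inf W₀ : P.Opens) := fun T => by
      induction T using Finset.induction with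
      | empty => simp
      | insert i T _ h => rw [Finset.inf_insert]; exact ⟨hqW₀ i, h⟩
    exact this _
  have hqW : q ∈ W := ⟨hqinf, hqU⟩
  have hWle : ∀ l, W ≤ W₀ l := fun l => inf_le_left.trans (Finset.inf_le (Finset.mem_univ l))
  let t : Fin m → Γ(L, W) := fun l => L.presheaf.map (homOfLE (hWle l)).op (sec l)
  have ht : ∀ l, L.presheaf.germ W q hqW (t l) = x l := fun l =>
    (L.presheaf.germ_res_apply _ _ _ _).trans (hsec l)
  have hgs : ∀ {W' : P.Opens} (hW' : W' ≤ p ⁻¹ᵁ U) (hq : q ∈ W') (c : Γ(S, U)) (v : Γ(L, W')),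
      L.presheaf.germ W' q hq ((p.appLE U W' hW').hom c • v) =
        algebraMap Γ(S, U) (S.presheaf.stalk (p.base q)) c • L.presheaf.germ W' q hq v := by
    intro W' hW' hq c v
    refine (PullStalk.Sky.germM_smul L W' q hq _ v).trans ?_
    refine congrArg (· • L.presheaf.germ W' q hq v) ?_
    rw [RingHom.algebraMap_toAlgebra]
    have h1 : p.appLE U W' hW' ≫ P.presheaf.germ W' q hq =
        S.presheaf.germ U (p q) hqU ≫ p.stalkMap q := by
      rw [Scheme.Hom.germ_stalkMap, Scheme.Hom.appLE, Category.assoc, TopCat.Presheaf.germ_res]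
    exact ConcreteCategory.congr_hom h1 c
  have hzero : L.presheaf.germ W q hqW (∑ l, (p.appLE U W inf_le_right).hom (a l) • t l) = 0 := by
    rw [map_sum]
    have : ∀ l, L.presheaf.germ W q hqW ((p.appLE U W inf_le_right).hom (a l) • t l) =
        algebraMap Γ(S, U) (S.presheaf.stalk (p.base q)) den • (r l • x l) := fun l => by
      rw [hgs, ht, ← mul_smul, mul_comm, ha]
    rw [Finset.sum_congr rfl fun l _ => this l, ← Finset.smul_sum, hrel, smul_zero]
  obtain ⟨W₁, hW₁W, hqW₁, hW₁⟩ := AssSch.Stalk.exists_res_eq_zero L q hqW _ hzero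
  have hW₁U : W₁ ≤ p ⁻¹ᵁ U := hW₁W.trans inf_le_right
  obtain ⟨y, hy⟩ := RelTildeLib.exists_emb_eq (chart := chart) U hU (hW₁U hqW₁)
  have hqimg : RelProj.emb p chart U hU y ∈ W₁ := by rw [hy]; exact hqW₁
  let ψ := (𝒜.str.app (op U)).hom
  let B₁ : (Proj (𝒜.deg U hU)).Opens := RelProj.emb p chart U hU ⁻¹ᵁ W₁
  let T : Fin m → Γ(L, W₁) := fun l => L.presheaf.map (homOfLE hW₁W).op (t l)
  let τv : Fin m → Γ(GrTwist.twist (𝒜.deg U hU) n, B₁) := fun l => (lam U hU).app W₁ (T l)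
  have hsum : ∑ l, (p.appLE U W₁ hW₁U).hom (a l) • T l = 0 := by
    refine Eq.trans ?_ hW₁
    refine (Finset.sum_congr rfl fun l _ => ?_).trans (map_sum _ _ _).symm
    refine Eq.trans ?_ (Scheme.Modules.map_smul L (homOfLE hW₁W) _ (t l)).symm
    exact congrArg (· • T l)
      (ConcreteCategory.congr_hom (p.appLE_map inf_le_right (homOfLE hW₁W).op) (a l)).symm
  have hvrel : ∀ z : B₁, ∑ l, Localization.mk (ψ (a l)) (1 : (show ProjectiveSpectrum (𝒜.deg U hU) from z.1).asHomogeneousIdeal.toIdeal.primeCompl) *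
      GrTwist.val (τv l) z = 0 := by
    intro z
    have h0 : (lam U hU).app W₁ (∑ l, (p.appLE U W₁ hW₁U).hom (a l) • T l) = 0 := by
      rw [hsum]; exact map_zero _
    rw [map_sum] at h0
    have h1 := congrArg (fun v : Γ(GrTwist.twist (𝒜.deg U hU) n, B₁) => GrTwist.val v z) h0
    refine Eq.trans ?_ (((val_sum Finset.univ _ z).symm.trans h1).trans rfl)
    exact Finset.sum_congr rfl fun l _ => (val_base_smul hP hU hW₁U (a l) (T l) z.1 z.2).symm
  -- fractions near `y`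
  choose Vl hVl hyVl il jl nu de hde hdeg hval using fun l => RelTildeLib.exists_fracT (τv l) ⟨y, hqimg⟩
  -- a homogeneous element of positive degree outside `y`
  obtain ⟨e, g, he, hg, hgy⟩ : ∃ (e : ℕ) (g : 𝒜.presheaf.obj (op U)), 0 < e ∧ g ∈ 𝒜.deg U hU e ∧
      g ∉ (show ProjectiveSpectrum (𝒜.deg U hU) from y).asHomogeneousIdeal := by
    by_contra hc
    push Not at hc
    refine (show ProjectiveSpectrum (𝒜.deg U hU) from y).not_irrelevant_le ?_
    rw [HomogeneousIdeal.irrelevant_le]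
    exact fun i hi z hz => hc i z hi hz
  let J := ∑ l, jl l
  obtain ⟨K, hK⟩ : ∃ K : ℕ, 0 ≤ (J : ℤ) + K * e + n := by
    refine ⟨n.natAbs, ?_⟩
    have h1 : (n.natAbs : ℤ) * 1 ≤ (n.natAbs : ℤ) * e :=
      mul_le_mul_of_nonneg_left (by exact_mod_cast he) (by positivity)
    omega
  obtain ⟨I, hI⟩ := Int.eq_ofNat_of_zero_le hK
  let s' : 𝒜.presheaf.obj (op U) := (∏ l, (de l : 𝒜.presheaf.obj (op U))) * g ^ K
  let b : Fin m → 𝒜.presheaf.obj (op U) := fun l =>
    (nu l : 𝒜.presheaf.obj (op U)) * ((∏ o ∈ Finset.univ.erase l, (de o : 𝒜.presheaf.obj (op U))) * g ^ K)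
  have hs' : s' ∈ 𝒜.deg U hU (J + K * e) := by
    refine SetLike.mul_mem_graded (A := 𝒜.deg U hU) ?_ ?_
    · exact SetLike.prod_mem_graded (A := 𝒜.deg U hU) _ _ fun l _ => (de l).2
    · simpa using SetLike.pow_mem_graded (A := 𝒜.deg U hU) K hg
  have hb : ∀ l, b l ∈ 𝒜.deg U hU I := by
    intro l
    rcases hdeg l with hd | hd
    · have h1 : b l ∈ 𝒜.deg U hU (il l + ((∑ o ∈ Finset.univ.erase l, jl o) + K • e)) :=
        SetLike.mul_mem_graded (A := 𝒜.deg U hU) (nu l).2 (SetLike.mul_mem_graded (A := 𝒜.deg U hU)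
          (SetLike.prod_mem_graded (A := 𝒜.deg U hU) _ _ fun o _ => (de o).2)
          (SetLike.pow_mem_graded (A := 𝒜.deg U hU) K hg))
      have h2 : jl l + ∑ o ∈ Finset.univ.erase l, jl o = J :=
        Finset.add_sum_erase _ _ (Finset.mem_univ l)
      have h3 : il l + ((∑ o ∈ Finset.univ.erase l, jl o) + K • e) = I := by
        rw [smul_eq_mul]
        zify at h2 ⊢
        omega
      rwa [h3] at h1
    · show _ * _ ∈ _
      rw [hd, zero_mul]
      exact zero_mem _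
  let V' : (Proj (𝒜.deg U hU)).Opens := (Finset.univ.inf Vl) ⊓ B₁ ⊓ Proj.basicOpen (𝒜.deg U hU) g
  have hyV' : y ∈ V' := by
    refine ⟨⟨?_, hqimg⟩, (Proj.mem_basicOpen _ _ _).2 hgy⟩
    have : ∀ T : Finset (Fin m), y ∈ (T.inf Vl : (Proj (𝒜.deg U hU)).Opens) := fun T => by
      induction T using Finset.induction with
      | empty => simp
      | insert i T _ h => rw [Finset.inf_insert]; exact ⟨hyVl i, h⟩
    exact this _
  have hV'l : ∀ l, V' ≤ Vl l := fun l =>
    inf_le_left.trans (inf_le_left.trans (Finset.inf_le (Finset.mem_univ l)))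
  have hs'n : ∀ z : V', s' ∉ (show ProjectiveSpectrum (𝒜.deg U hU) from z.1).asHomogeneousIdeal := by
    intro z hz
    rcases (show ProjectiveSpectrum (𝒜.deg U hU) from z.1).isPrime.mem_or_mem hz with h | h
    · obtain ⟨l, -, hl⟩ :=
        (Ideal.IsPrime.prod_mem_iff (hp := (show ProjectiveSpectrum (𝒜.deg U hU) from z.1).isPrime)).1 h
      exact hde l ⟨z.1, hV'l l z.2⟩ hl
    · exact (Proj.mem_basicOpen _ _ _).1 z.2.2
        ((show ProjectiveSpectrum (𝒜.deg U hU) from z.1).isPrime.mem_of_pow_mem _ h)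
  have hv : ∀ (l : Fin m) (z : V'), GrTwist.val (τv l) ⟨z.1, z.2.1.2⟩ =
      Localization.mk (b l) ⟨s', hs'n z⟩ := by
    intro l z
    refine (hval l ⟨z.1, hV'l l z.2⟩).trans ?_
    rw [Localization.mk_eq_mk_iff, Localization.r_iff_exists]
    refine ⟨1, ?_⟩
    simp only [OneMemClass.coe_one, one_mul, s', b]
    rw [← Finset.mul_prod_erase _ (fun o => (de o : 𝒜.presheaf.obj (op U))) (Finset.mem_univ l)]
    ring
  -- the relation
  have hrel0 := hvrel ⟨y, hqimg⟩
  simp only [fun l => hv l ⟨y, hyV'⟩, Localization.mk_mul, one_mul] at hrel0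
  rw [← Localization.mk_sum, ← Localization.mk_zero ⟨s', hs'n ⟨y, hyV'⟩⟩, Localization.mk_eq_mk_iff,
    Localization.r_iff_exists] at hrel0
  obtain ⟨⟨u, hu⟩, hu0⟩ := hrel0
  have hh : s' * ∑ l, ψ (a l) * b l ∈ 𝒜.deg U hU (J + K * e + I) := by
    refine SetLike.mul_mem_graded (A := 𝒜.deg U hU) hs' (sum_mem fun l _ => ?_)
    have := SetLike.mul_mem_graded (A := 𝒜.deg U hU) (𝒜.str_mem U hU (a l)) (hb l)
    rwa [zero_add] at this
  obtain ⟨τ, t₀, ht₀, ht₀y, ht₀h⟩ := exists_homogeneous_annihilator (𝒜.deg U hU)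
    (P := (show ProjectiveSpectrum (𝒜.deg U hU) from y).asHomogeneousIdeal.toIdeal) (u := u)
    (h := s' * ∑ l, ψ (a l) * b l) hu (by simpa using hu0) hh
  obtain ⟨N, k, c, ζ, hζ, hbζ, hc⟩ := exists_trivial (𝒜.deg U hU) ψ (𝒜.str_mem U hU)
    (fun d hd => hflat d hd U hU) a b hb
    (SetLike.mul_mem_graded (A := 𝒜.deg U hU) ht₀ hs') he hg (by rw [mul_assoc]; exact ht₀h)
  let D := s' * (t₀ * s' * g ^ N)
  have hD : D ∈ 𝒜.deg U hU (J + K * e + (τ + (J + K * e) + N * e)) :=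
    SetLike.mul_mem_graded (A := 𝒜.deg U hU) hs' (SetLike.mul_mem_graded (A := 𝒜.deg U hU)
      (SetLike.mul_mem_graded (A := 𝒜.deg U hU) ht₀ hs')
      (by simpa using SetLike.pow_mem_graded (A := 𝒜.deg U hU) N hg))
  let B : (Proj (𝒜.deg U hU)).Opens := V' ⊓ Proj.basicOpen (𝒜.deg U hU) D
  have hyB : y ∈ B := by
    refine ⟨hyV', (Proj.mem_basicOpen _ _ _).2 fun hD => ?_⟩
    have hp := (show ProjectiveSpectrum (𝒜.deg U hU) from y).isPrime
    rcases hp.mem_or_mem hD with h | h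
    · exact hs'n ⟨y, hyV'⟩ h
    · rcases hp.mem_or_mem h with h | h
      · rcases hp.mem_or_mem h with h | h
        · exact ht₀y h
        · exact hs'n ⟨y, hyV'⟩ h
      · exact hgy (hp.mem_of_pow_mem _ h)
  let W₂ : P.Opens := RelProj.emb p chart U hU ''ᵁ B
  have hpre : RelProj.emb p chart U hU ⁻¹ᵁ W₂ = B := (RelProj.emb p chart U hU).preimage_image_eq B
  have hW₂W₁ : W₂ ≤ W₁ := by
    rintro _ ⟨z, hz, rfl⟩
    exact hz.1.1.2
  have hqW₂ : q ∈ W₂ := ⟨y, hyB, hy⟩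
  have hW₂U : W₂ ≤ p ⁻¹ᵁ U := hW₂W₁.trans hW₁U
  let F : Fin k → Γ(GrTwist.twist (𝒜.deg U hU) n, RelProj.emb p chart U hU ⁻¹ᵁ W₂) := fun o =>
    RelTildeLib.fracT (hζ o) hD (by push_cast at hI ⊢; omega)
      (fun z hz => (Proj.mem_basicOpen _ _ _).1 ((hpre.le hz).2))
  choose mm hmm using fun o => (hL.bijective U hU W₂ hW₂U).2 (F o)
  have hexp : ∀ l, L.presheaf.map (homOfLE hW₂W₁).op (T l) =
      ∑ o, (p.appLE U W₂ hW₂U).hom (c l o) • mm o := by
    intro l
    apply (hL.bijective U hU W₂ hW₂U).1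
    refine RelTildeLib.twist_ext fun z => ?_
    have hzB : z.1 ∈ B := hpre.le z.2
    have hl : GrTwist.val (V := RelProj.emb p chart U hU ⁻¹ᵁ W₂)
        ((lam U hU).app W₂ (L.presheaf.map (homOfLE hW₂W₁).op (T l))) z =
          GrTwist.val (τv l) ⟨z.1, hzB.1.1.2⟩ := by
      have hn := ConcreteCategory.congr_hom (((lam U hU).mapPresheaf).naturality (homOfLE hW₂W₁).op) (T l)
      exact (congrArg (fun v => GrTwist.val (V := RelProj.emb p chart U hU ⁻¹ᵁ W₂) v z) hn).trans rfl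
    rw [hl, hv l ⟨z.1, hzB.1⟩, map_sum]
    refine Eq.trans ?_ (val_sum Finset.univ _ z).symm
    have hterm : ∀ o, GrTwist.val (V := RelProj.emb p chart U hU ⁻¹ᵁ W₂)
        ((lam U hU).app W₂ ((p.appLE U W₂ hW₂U).hom (c l o) • mm o)) z =
        Localization.mk (ψ (c l o) * ζ o) ⟨D, (Proj.mem_basicOpen _ _ _).1 hzB.2⟩ := fun o => by
      refine (val_base_smul hP hU hW₂U (c l o) (mm o) z.1 z.2).trans ?_
      rw [hmm o]
      refine (congrArg (_ * ·) (RelTildeLib.val_fracT _ _ _ _ z.1 z.2)).trans ?_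
      rw [Localization.mk_mul, one_mul]
    refine Eq.trans ?_ (Finset.sum_congr rfl fun o _ => hterm o).symm
    rw [← Localization.mk_sum, ← hbζ l, Localization.mk_eq_mk_iff, Localization.r_iff_exists]
    refine ⟨1, ?_⟩
    simp only [OneMemClass.coe_one, one_mul, D]
    ring
  refine ⟨k, fun l o => algebraMap Γ(S, U) _ (c l o), fun o => L.presheaf.germ W₂ q hqW₂ (mm o),
    fun l => ?_, fun o => ?_⟩
  · have h1 := congrArg (L.presheaf.germ W₂ q hqW₂) (hexp l)
    rw [map_sum, TopCat.Presheaf.germ_res_apply] at h1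
    simp only [T] at h1
    rw [TopCat.Presheaf.germ_res_apply, ht] at h1
    exact h1.trans (Finset.sum_congr rfl fun o _ => hgs hW₂U hqW₂ _ _)
  · apply hunit.mul_left_cancel
    rw [mul_zero, Finset.mul_sum]
    have : ∀ l, algebraMap Γ(S, U) (S.presheaf.stalk (p.base q)) den * (r l * algebraMap Γ(S, U) _ (c l o)) =
        algebraMap Γ(S, U) (S.presheaf.stalk (p.base q)) (a l * c l o) := fun l => by
      rw [← mul_assoc, mul_comm _ (r l), ha, map_mul]
    rw [Finset.sum_congr rfl fun l _ => this l, ← map_sum, hc, map_zero]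

theorem proj_flat {A σ : Type u} [CommRing A] [SetLike σ A] [AddSubgroupClass σ A] (ℬ : ℕ → σ)
    [GradedRing ℬ] {R : CommRingCat.{u}} (φ : R ⟶ CommRingCat.of (ℬ 0)) {d₀ : ℕ}
    (hflat : ∀ d, d₀ ≤ d →
      letI := ((SetLike.GradeZero.subring ℬ).subtype.comp φ.hom).toAlgebra
      Module.Flat R ↥(Submodule.span R (ℬ d : Set A))) :
    Flat (Proj.toSpecZero ℬ ≫ Spec.map φ) := by
  rw [IsZariskiLocalAtSource.iff_of_openCover (P := @Flat) (Proj.affineOpenCover ℬ).openCover]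
  intro i
  change Flat (Proj.awayι ℬ (i.2 : A) i.2.2 i.1.2 ≫ Proj.toSpecZero ℬ ≫ Spec.map φ)
  rw [Proj.awayι_toSpecZero_assoc, ← Spec.map_comp, HasRingHomProperty.Spec_iff (P := @Flat)]
  exact flat_away ℬ ((SetLike.GradeZero.subring ℬ).subtype.comp φ.hom) (fun r => (φ r).2) hflat
    i.1.2 i.2.2 _ fun r => rfl

/-- Let S be a scheme and 𝒜 a quasi-coherent graded O_S-algebra such that for all sufficiently large d
the degree-d piece 𝒜_d is a flat O_S-module (over every affine open U the degree-d part of 𝒜(U) is a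
flat module over Γ(U, O_S) acting through the structure map). Let p : P ⟶ S be the relative
homogeneous spectrum of 𝒜, given with its charts. Then p is flat, and for every integer n the
twisting module O_P(n), given with its chart identifications, is flat over S (every stalk O_P(n)_x
is flat over O_{S, p x}). -/
theorem result {S P : Scheme.{u}} (𝒜 : RelProj.QCGrAlg S)
    (hflat : ∃ d₀ : ℕ, ∀ d : ℕ, d₀ ≤ d → ∀ (U : S.Opens) (hU : IsAffineOpen U),
      letI := (𝒜.str.app (op U)).hom.toAlgebra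
      Module.Flat Γ(S, U) ↥(Submodule.span Γ(S, U) (𝒜.deg U hU d : Set (𝒜.presheaf.obj (op U)))))
    (p : P ⟶ S) (chart : ∀ (U : S.Opens) (hU : IsAffineOpen U), (((p ⁻¹ᵁ U : P.Opens) : Scheme.{u}) ≅ Proj (𝒜.deg U hU)))
    (hP : RelProj.IsRelProj 𝒜 p chart) :
    Flat p ∧
      ∀ (n : ℤ) (L : P.Modules)
        (lam : ∀ (U : S.Opens) (hU : IsAffineOpen U),
          L ⟶ (Scheme.Modules.pushforward (RelProj.emb p chart U hU)).obj (GrTwist.twist (𝒜.deg U hU) n)),
        RelProj.IsRelTwist 𝒜 p chart n L lam → FlatMod.IsFlatOver p L := by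
  obtain ⟨d₀, hd₀⟩ := hflat
  refine ⟨RelProjLib.property_of_charts (@Flat) hP fun U hU =>
    proj_flat (𝒜.deg U hU) (𝒜.strZero U hU) (d₀ := d₀) fun d hd => hd₀ d hd U hU, ?_⟩
  intro n L lam hL
  exact twist_flat hP hL hd₀

end Groth.Agent.S16091
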