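import Groth.Statements.S16092
import Groth.Agent.Ref1.Class
import Groth.Agent.ProjTwist.Invertible

set_option autoImplicit false
universe u
open CategoryTheory CategoryTheory.Limits AlgebraicGeometry TopologicalSpace
open SDiv

namespace Groth.Agent.S16092

/-- Let X be an integral scheme that is locally Noetherian, with generic point η, let L and N be
invertible O_X-modules and s ∈ L_η, t ∈ N_η nonzero rational sections, with orders ord_{x,L}(s),
ord_{x,N}(t) along the prime divisors, i.e. at the points x with dim O_{X,x} = 1, taken with respect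
to generators of the stalks. Then L ⊗_{O_X} N has a nonzero rational section w with ord_{x,L ⊗ N}(w)
= ord_{x,L}(s) + ord_{x,N}(t) at every such x; hence the Weil divisor class of L ⊗ N is the sum of
the classes of L and N. The published statement names w as the product s·t; here only the existence
of such a w is asserted. -/
theorem result (X : Scheme.{u}) [IsIntegral X] [IsLocallyNoetherian X] (L N : X.Modules)
    (hL : PicF.IsInvertible L) (hN : PicF.IsInvertible N) (s : Cyc.secFibre L (genericPoint ↥X)) (hs : s ≠ 0)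
    (t : Cyc.secFibre N (genericPoint ↥X)) (ht : t ≠ 0) :
    ∃ w : Cyc.secFibre (CohB1.tensorMod L N) (genericPoint ↥X), w ≠ 0 ∧
      ∀ (x : ↥X), ringKrullDim ↑(X.presheaf.stalk x) = 1 →
        Cyc.secOrdAt (CohB1.tensorMod L N) (genericPoint ↥X) x ((genericPoint_spec ↥X).specializes (Set.mem_univ x)) w =
          Cyc.secOrdAt L (genericPoint ↥X) x ((genericPoint_spec ↥X).specializes (Set.mem_univ x)) s +
            Cyc.secOrdAt N (genericPoint ↥X) x ((genericPoint_spec ↥X).specializes (Set.mem_univ x)) t := by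
  obtain ⟨s, rfl⟩ := Submodule.Quotient.mk_surjective _ s
  obtain ⟨t, rfl⟩ := Submodule.Quotient.mk_surjective _ t
  have hs' : s ≠ 0 := fun h => hs (by rw [h, Submodule.Quotient.mk_zero])
  have ht' : t ≠ 0 := fun h => ht (by rw [h, Submodule.Quotient.mk_zero])
  have hfree : ∀ (M : X.Modules), PicF.IsInvertible M → ∀ x : X,
      Nonempty (X.presheaf.stalk x ≃ₗ[X.presheaf.stalk x] M.presheaf.stalk x) := by
    intro M hM x
    obtain ⟨U, hxU, ⟨φ⟩⟩ := hM x
    obtain ⟨e, he⟩ := Groth.Agent.LFFrame.exists_isFrame_of_split (M := M) (fun _ : Fin 1 => φ.inv)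
      (fun _ => φ.hom) (fun i j => by simp [Subsingleton.elim i j]) (by simp)
    exact Groth.Agent.Ref1.free_of_gen_frame he x hxU
  have hrk : ∀ (M : X.Modules), PicF.IsInvertible M → Groth.Agent.Ref1.IsRankOne M :=
    fun M hM => hfree M hM _
  have hgen : ∀ (M : X.Modules) [M.IsQuasicoherent], PicF.IsInvertible M → ∀ x : X,
      ∃ e, Groth.Agent.Ref1.IsGenAt M x e := by
    intro M _ hM x
    obtain ⟨ψ⟩ := hfree M hM x
    have hspan : ∀ v, ψ.symm v • ψ 1 = v := fun v => by
      rw [← map_smul, smul_eq_mul, mul_one, ψ.apply_symm_apply]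
    refine ⟨ψ 1, eq_top_iff.mpr fun v _ => Submodule.mem_span_singleton.mpr ⟨_, hspan v⟩, fun h0 => ?_⟩
    obtain ⟨w, hw⟩ := (hrk M hM).exists_ne_zero
    obtain ⟨a, v, ha, hv⟩ := Groth.Agent.Ref1.exists_smul_eq_toη M x w
    rw [← hspan v, Groth.Agent.Ref1.toη, Groth.Agent.Ref1.sp_smul] at hv
    rw [Groth.Agent.Ref1.toη] at h0
    rw [h0, smul_zero] at hv
    exact hw ((Groth.Agent.Ref1.isUnit_of_ne_zero (Groth.Agent.Ref1.toK_ne_zero ha)).smul_eq_zero.mp hv.symm)
  haveI := (show L.IsQuasicoherent from Groth.Agent.ProjTwist.isQCoh_of_isInvertible hL)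
  haveI := (show N.IsQuasicoherent from Groth.Agent.ProjTwist.isQCoh_of_isInvertible hN)
  have hne : ∀ (a : L.presheaf.stalk (genericPoint X)) (b : N.presheaf.stalk (genericPoint X)),
      a ≠ 0 → b ≠ 0 → Groth.Agent.Ref1.tfrom L N (genericPoint X) (TensorProduct.tmul _ a b) ≠ 0 :=
    fun a b ha hb h => Groth.Agent.Ref1.tmul_ne_zero (hrk L hL) (hrk N hN) ha hb
      (Groth.Agent.Ref1.tfrom_injective L N _ (h.trans (map_zero _).symm))
  have hrT := Groth.Agent.Ref1.isRankOne_tensorMod (hrk L hL) (hrk N hN)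
  refine ⟨Submodule.Quotient.mk (Groth.Agent.Ref1.tfrom L N _ (TensorProduct.tmul _ s t)),
    fun h0 => hne s t hs' ht' (Groth.Agent.Ref1.mk_η_injective _ (h0.trans (Submodule.Quotient.mk_zero _).symm)),
    fun y hy => ?_⟩
  have hy' := Groth.Agent.Ref1.coheight_eq_one hy
  obtain ⟨eL, heL⟩ := hgen L hL y
  obtain ⟨eN, heN⟩ := hgen N hN y
  obtain ⟨φ, rfl⟩ := (hrk L hL).exists_smul heL.2 s
  obtain ⟨ψ, rfl⟩ := (hrk N hN).exists_smul heN.2 t
  have hφ : φ ≠ 0 := fun h => hs' (by rw [h, zero_smul])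
  have hψ : ψ ≠ 0 := fun h => ht' (by rw [h, zero_smul])
  have hg : Groth.Agent.Ref1.IsGenAt (CohB1.tensorMod L N) y (Groth.Agent.Ref1.tfrom L N y (TensorProduct.tmul _ eL eN)) := by
    refine ⟨eq_top_iff.mpr fun v hv' => ?_, ?_⟩
    · clear hv'
      obtain ⟨u, rfl⟩ := Groth.Agent.Ref1.tfrom_surjective L N y v
      induction u using TensorProduct.induction_on with
      | zero => rw [map_zero]; exact zero_mem _
      | tmul m n =>
        obtain ⟨a, rfl⟩ := heL.exists_eq m
        obtain ⟨b, rfl⟩ := heN.exists_eq n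
        rw [← TensorProduct.smul_tmul', TensorProduct.tmul_smul, map_smul, map_smul]
        exact Submodule.smul_mem _ _ (Submodule.smul_mem _ _ (Submodule.mem_span_singleton_self _))
      | add p q hp hq => rw [map_add]; exact add_mem hp hq
    · rw [Groth.Agent.Ref1.toη, Groth.Agent.Ref1.sp_fromTensor]
      exact hne _ _ heL.2 heN.2
  have hw : Groth.Agent.Ref1.tfrom L N (genericPoint X)
      (TensorProduct.tmul _ (φ • Groth.Agent.Ref1.toη L y eL) (ψ • Groth.Agent.Ref1.toη N y eN)) =
      (φ * ψ) • Groth.Agent.Ref1.toη (CohB1.tensorMod L N) y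
        (Groth.Agent.Ref1.tfrom L N y (TensorProduct.tmul _ eL eN)) := by
    rw [Groth.Agent.Ref1.toη, Groth.Agent.Ref1.sp_fromTensor, ← TensorProduct.smul_tmul',
      TensorProduct.tmul_smul, map_smul, map_smul, smul_smul]
  show Groth.Agent.Ref1.ordS _ y _ = Groth.Agent.Ref1.ordS L y _ + Groth.Agent.Ref1.ordS N y _
  rw [hw, Groth.Agent.Ref1.ordS_eq hrT hy' hg (mul_ne_zero hφ hψ),
    Groth.Agent.Ref1.ordS_eq (hrk L hL) hy' heL hφ, Groth.Agent.Ref1.ordS_eq (hrk N hN) hy' heN hψ,
    Groth.Agent.Ref1.ord_mul' hφ hψ]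

end Groth.Agent.S16092
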