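import Groth.Statements.S16093
import Groth.Agent.KoszTwLib.Koszul
-- import your own Groth.Agent.* helpers here

set_option autoImplicit false
universe u
open CategoryTheory AlgebraicGeometry Opposite
open KoszTw

namespace Groth.Agent.S16093

/-- Let X be a scheme, F a finite locally free O_X-module, L an invertible O_X-module, s : F → O_X a
cosection, λ : O_X → L an injective morphism (a global section of L) and t : F ⊗ L → O_X a cosection
of the twisted module compatible with s and λ, in the sense that λ(t(f ⊗ l)) = s(f) · l for all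
sections f of F and l of L over every open. Let K(F, s) and K(F ⊗ L, t) be Koszul complexes of s and
of t, with differentials ∂ and δ and with degree-p terms K_p(F, s) and K_p(F ⊗ L, t) the p-th
exterior powers of F and of F ⊗ L; fix q ≥ 0 and let θ : K_{q+1}(F ⊗ L, t) ≅ K_{q+1}(F, s) ⊗
L^{⊗(q+1)} be the identification Λ^{q+1}(F ⊗ L) ≅ Λ^{q+1} F ⊗ L^{⊗(q+1)} that sends (f_0 ⊗ l_0) ∧ ⋯
∧ (f_q ⊗ l_q) to (f_0 ∧ ⋯ ∧ f_q) ⊗ (l_0 ⊗ ⋯ ⊗ l_q) on sections over every affine open. Then the
kernel of the composite of θ with ∂_{q+1} ⊗ 1 : K_{q+1}(F, s) ⊗ L^{⊗(q+1)} → K_q(F, s) ⊗ L^{⊗(q+1)}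
equals the kernel of δ_{q+1} : K_{q+1}(F ⊗ L, t) → K_q(F ⊗ L, t), as subobjects of K_{q+1}(F ⊗ L,
t); in words, θ identifies Ker(δ_{q+1}) with Ker(∂_{q+1} ⊗ 1_{L^{⊗(q+1)}}). (The published statement
is for an arbitrary integer twist n and reads Ker(∂_{q+1} ⊗ 1_{L^{⊗n}}) = Ker(δ_{q+1}) ⊗
L^{⊗(n-q-1)}; that family follows from the case n = q + 1 stated here by tensoring with the
invertible module L^{⊗(n-q-1)}, negative tensor powers not being used here. The published hypothesis
is that s is non-zero, which forces λ to be injective when X is integral; injectivity of λ is what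
the argument uses and is assumed here directly, for an arbitrary scheme X: on the spectrum of k × k
with F = L = O_X, s = λ = multiplication by (1, 0) and t the identity, s is non-zero while the two
kernels differ.) -/
theorem result {X : Scheme.{u}} (F L : X.Modules)
    (hF : FlatMod.IsFinLocFree F) (hL : PicF.IsInvertible L)
    (s : F ⟶ Coh.structureModule X) (lam : Coh.structureModule X ⟶ L) [Mono lam]
    (t : CohB1.tensorMod F L ⟶ Coh.structureModule X) (htri : KoszTw.TwistTriangle s lam t)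
    (C : KoszSh.Cx F s) (D : KoszSh.Cx (CohB1.tensorMod F L) t) (q : ℕ) (θ : KoszTw.CxDecData C D (q + 1)) :
    Limits.kernelSubobject (θ.iso.hom ≫ KoszTw.tensorMap (C.K.d (q + 1) q) (𝟙 (CohB1.tensorPow L (q + 1)))) =
      Limits.kernelSubobject (D.K.d (q + 1) q) := by
  classical
  have hloc : ∀ x : X, ∃ U : X.Opens, x ∈ U ∧ ∀ V : X.affineOpens, V.1 ≤ U → ∀ m : Γ(D.K.X (q + 1), V.1),
      (KoszTwLib.appLin (θ.iso.hom ≫ KoszTw.tensorMap (C.K.d (q + 1) q) (𝟙 (CohB1.tensorPow L (q + 1)))) V.1 m = 0 ↔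
        KoszTwLib.appLin (D.K.d (q + 1) q) V.1 m = 0) := by
    intro x
    obtain ⟨U₁, n, e, hx₁, he⟩ := LFFrame.exists_isFrame_of_isFinLocFree hF x
    obtain ⟨U₂, l, hx₂, hl⟩ := KoszTwLib.exists_line_frame hL x
    refine ⟨U₁ ⊓ U₂, ⟨hx₁, hx₂⟩, fun V hV m => ?_⟩
    exact KoszTwLib.theta_d_eq_zero_iff C D V _ htri θ (KoszTwLib.isFrame_res_one hl (hV.trans inf_le_right))
      (KoszTwLib.isFrame_res he (hV.trans inf_le_left)) (KoszTwLib.mono_appLin_injective lam V.1) m
  have key : ∀ {P : X.Modules} (g : P ⟶ D.K.X (q + 1)),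
      g ≫ (θ.iso.hom ≫ KoszTw.tensorMap (C.K.d (q + 1) q) (𝟙 (CohB1.tensorPow L (q + 1)))) = 0 ↔
        g ≫ D.K.d (q + 1) q = 0 := by
    intro P g
    constructor <;>
    · intro h
      refine KoszTwLib.eq_zero_of_small _ fun x => ?_
      obtain ⟨U, hxU, hU⟩ := hloc x
      refine ⟨U, hxU, fun V hV m => ?_⟩
      have h0 := congrArg (fun φ => KoszTwLib.appLin φ V.1 m) h
      first
        | exact (hU V hV (KoszTwLib.appLin g V.1 m)).1 h0
        | exact (hU V hV (KoszTwLib.appLin g V.1 m)).2 h0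
  refine le_antisymm ?_ ?_
  · exact Limits.le_kernelSubobject _ _ ((key _).1 (Limits.kernelSubobject_arrow_comp _))
  · exact Limits.le_kernelSubobject _ _ ((key _).2 (Limits.kernelSubobject_arrow_comp _))

end Groth.Agent.S16093
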