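import Groth.Statements.S16094
import Groth.Agent.KoszTwLib.Koszul
-- import your own Groth.Agent.* helpers here

set_option autoImplicit false
universe u
open CategoryTheory AlgebraicGeometry Opposite
open KoszTw

namespace Groth.Agent.S16094

/-- Let X be a scheme, F a finite locally free O_X-module, L an invertible O_X-module, s : F → O_X and t
: F ⊗ L → O_X cosections and λ : O_X → L a global section such that λ(t(f ⊗ l)) = s(f) · l for all
sections f of F and l of L over every open. Let K(F, s) and K(F ⊗ L, t) be Koszul complexes of s and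
of t, with differentials ∂ and δ and degree-p terms K_p(F, s), K_p(F ⊗ L, t) the p-th exterior
powers of F and of F ⊗ L; fix q ≥ 0 and let θ : K_q(F ⊗ L, t) ≅ K_q(F, s) ⊗ L^{⊗q} be the
identification Λ^q(F ⊗ L) ≅ Λ^q F ⊗ L^{⊗q} that sends (f_1 ⊗ l_1) ∧ ⋯ ∧ (f_q ⊗ l_q) to (f_1 ∧ ⋯ ∧
f_q) ⊗ (l_1 ⊗ ⋯ ⊗ l_q) on sections over every affine open. Write L^{⊗(q+1)} as L^{⊗q} ⊗ L (no
associativity isomorphism is used). Then, as subobjects of (K_q(F, s) ⊗ L^{⊗q}) ⊗ L, the image of
(∂_{q+1} ⊗ 1_{L^{⊗q}}) ⊗ 1_L : (K_{q+1}(F, s) ⊗ L^{⊗q}) ⊗ L → (K_q(F, s) ⊗ L^{⊗q}) ⊗ L equals the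
image of the composite of K_{q+1}(F ⊗ L, t) ≅ K_{q+1}(F ⊗ L, t) ⊗ O_X, of δ_{q+1} ⊗ λ : K_{q+1}(F ⊗
L, t) ⊗ O_X → K_q(F ⊗ L, t) ⊗ L, and of θ ⊗ 1_L; in words, θ ⊗ 1_L identifies Im(δ_{q+1}) ⊗ λ(O_X)
with Im(∂_{q+1} ⊗ 1_{L^{⊗(q+1)}}). (The published statement is for an arbitrary integer twist n and
prints the right-hand side as Im(δ_{q+1}) ⊗ λ(O_X) ⊗ L^{⊗(n-q+1)}; the exponent that makes both
sides subsheaves of Λ^q F ⊗ L^{⊗n}, and the one the argument yields, is n - q - 1, and that family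
follows from the case n = q + 1 stated here by tensoring with the invertible module L^{⊗(n-q-1)},
negative tensor powers not being used here. The published hypothesis that s is non-zero is dropped:
the image identity needs no injectivity of λ.) -/
theorem result {X : Scheme.{u}} (F L : X.Modules)
    (hF : FlatMod.IsFinLocFree F) (hL : PicF.IsInvertible L)
    (s : F ⟶ Coh.structureModule X) (lam : Coh.structureModule X ⟶ L)
    (t : CohB1.tensorMod F L ⟶ Coh.structureModule X) (htri : KoszTw.TwistTriangle s lam t)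
    (C : KoszSh.Cx F s) (D : KoszSh.Cx (CohB1.tensorMod F L) t) (q : ℕ) (θ : KoszTw.CxDecData C D q) :
    Limits.imageSubobject (KoszTw.tensorMap (KoszTw.tensorMap (C.K.d (q + 1) q) (𝟙 (CohB1.tensorPow L q))) (𝟙 L)) =
      Limits.imageSubobject ((SecTwist.unitorR (D.K.X (q + 1))).inv ≫ KoszTw.tensorMap (D.K.d (q + 1) q) lam ≫
        KoszTw.tensorMap θ.iso.hom (𝟙 L)) := by
  classical
  have hloc : ∀ x : X, ∃ (U : X.Opens) (l : Γ(L, U)), x ∈ U ∧ LFFrame.IsFrame L U ![l] := by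
    exact fun x => KoszTwLib.exists_line_frame hL x
  refine le_antisymm (KoszTwLib.imageSubobject_le_of_comp_cokernel _ _ ?_)
    (KoszTwLib.imageSubobject_le_of_comp_cokernel _ _ ?_)
  · refine KoszTwLib.eq_zero_of_small _ fun x => ?_
    obtain ⟨U, l, hxU, hl⟩ := hloc x
    refine ⟨U, hxU, fun V hV m => ?_⟩
    have hlV := KoszTwLib.isFrame_res_one hl hV
    obtain ⟨m₁, rfl⟩ := (KoszTwLib.tmulLin_bijective hlV).2 m
    obtain ⟨w, rfl⟩ := (KoszTwLib.psi_bijective C V (q + 1) (KoszTwLib.tprod_isFrame hlV q)).2 m₁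
    refine (congrArg (KoszTwLib.appLin (Limits.cokernel.π _) V.1) (KoszTwLib.image_eq C D V _ htri θ hlV w)).trans ?_
    exact congrArg (fun φ => KoszTwLib.appLin φ V.1 (KoszTwLib.phi D V _ (q + 1) w)) (Limits.cokernel.condition _)
  · refine KoszTwLib.eq_zero_of_small _ fun x => ?_
    obtain ⟨U, l, hxU, hl⟩ := hloc x
    refine ⟨U, hxU, fun V hV m => ?_⟩
    have hlV := KoszTwLib.isFrame_res_one hl hV
    obtain ⟨w, rfl⟩ := (KoszTwLib.phi_bijective D V _ hlV (q + 1)).2 m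
    refine (congrArg (KoszTwLib.appLin (Limits.cokernel.π _) V.1) (KoszTwLib.image_eq C D V _ htri θ hlV w)).symm.trans ?_
    exact congrArg (fun φ => KoszTwLib.appLin φ V.1 _) (Limits.cokernel.condition _)

end Groth.Agent.S16094
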