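import Groth.Statements.S16098
import Groth.Agent.AdFnApprox65

set_option autoImplicit false
universe u
open AdFn

namespace Groth.Agent.S16098

/-- Let `K/k` be a function field of one variable (every element having finitely many poles, so that the
diagonal `K → A_K` exists), `A_K = ∏'_v (K_v, O_v)` its adele ring over all places, and `S` a
nonempty set of places. (1) For every adele `a` some `f ∈ K` has `a_v - f ∈ O_v` at every place `v ∉
S`: `A_K` is the sum of the principal adeles and the adeles integral outside `S`. (2) An adele `b`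
with `b_v = 0` for `v ∉ S` is a principal adele plus an everywhere-integral adele exactly when some
`S`-integer `f ∈ K` has `b_v - f ∈ O_v` for every `v ∈ S`. (The published statement is for a curve
over an algebraically closed field, possibly singular; here it is stated for the places of a
function field `K/k` of one variable over any field `k` algebraically closed in `K`.) -/
theorem result (k K : Type u) [Field k] [Field K]
    [Algebra k K] (hK : FunFld.IsFunctionField k K) [AdFn.HasFinitePoles k K]
    (S : Set (FunFld.Place k K)) (hS : S.Nonempty) :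
    (∀ a : AdFn.AdeleRing k K, ∃ f : K, ∀ v : FunFld.Place k K, v ∉ S →
        AdFn.AdeleRing.proj v (a - AdFn.AdeleRing.diag f) ∈ AdFn.Ov v) ∧
    (∀ b : AdFn.AdeleRing k K, (∀ v : FunFld.Place k K, v ∉ S → AdFn.AdeleRing.proj v b = 0) →
        ((∃ f : K, ∀ v : FunFld.Place k K, AdFn.AdeleRing.proj v (b - AdFn.AdeleRing.diag f) ∈ AdFn.Ov v) ↔
          ∃ f ∈ AdFn.SInt S, ∀ v ∈ S, AdFn.AdeleRing.proj v b - AdFn.toKv v f ∈ AdFn.Ov v)) := by
  classical
  refine ⟨fun a => ?_, fun b hb => ⟨?_, ?_⟩⟩
  · obtain ⟨P₀, hP₀⟩ := hS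
    have hfin : {v : FunFld.Place k K | ¬ AdFn.AdeleRing.proj v a ∈ AdFn.Ov v}.Finite :=
      Filter.eventually_cofinite.1 a.2
    choose c hc using fun v : FunFld.Place k K =>
      AdFnApprox65.exists_sub_toKv_mem v (AdFn.AdeleRing.proj v a)
    let T := hfin.toFinset.filter (· ∉ S)
    obtain ⟨x, hx1, hx2⟩ := Groth.Agent.FF.strong_approx hK (P₀ := P₀) T
      (by simp [T, hP₀]) c (fun _ => 0)
    refine ⟨x, fun v hv => ?_⟩
    rw [map_sub, AdFn.AdeleRing.proj_diag]
    by_cases hT : v ∈ T
    · have h : AdFn.toKv v (x - c v) ∈ AdFn.Ov v :=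
        (AdFn.toKv_mem_Ov v _).2 ((hx1 v hT).trans_eq WithZero.exp_zero)
      have h2 := sub_mem (hc v) h
      rwa [map_sub, sub_sub_sub_cancel_right] at h2
    · have h1 : AdFn.AdeleRing.proj v a ∈ AdFn.Ov v := by
        by_contra h
        exact hT (Finset.mem_filter.2 ⟨hfin.mem_toFinset.2 h, hv⟩)
      exact sub_mem h1 ((AdFn.toKv_mem_Ov v _).2 (hx2 v (fun h => hv (h ▸ hP₀)) hT))
  · rintro ⟨f, hf⟩
    refine ⟨f, fun v hv => ?_, fun v _ => ?_⟩
    · have h := hf v
      rw [map_sub, AdFn.AdeleRing.proj_diag, hb v hv, zero_sub, neg_mem_iff] at h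
      exact (AdFn.toKv_mem_Ov v f).1 h
    · have h := hf v
      rwa [map_sub, AdFn.AdeleRing.proj_diag] at h
  · rintro ⟨f, hf, hfS⟩
    refine ⟨f, fun v => ?_⟩
    rw [map_sub, AdFn.AdeleRing.proj_diag]
    by_cases hv : v ∈ S
    · exact hfS v hv
    · rw [hb v hv, zero_sub, neg_mem_iff]
      exact (AdFn.toKv_mem_Ov v f).2 (hf v hv)

end Groth.Agent.S16098
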