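import Groth.Statements.S16099
import Groth.Agent.FF.Linear
import Groth.Agent.FF.RR
-- import your own Groth.Agent.* helpers here

set_option autoImplicit false
universe u
open FunFld

namespace Groth.Agent.S16099

/-- For a function field `K/k` of one variable of genus `g` and any place `P`, the `k`-space `K /
(O_{\{P\}} + O_P)` is finite-dimensional of dimension `g` (the number of Weierstrass gaps when `P`
is rational), where `O_{\{P\}}` is the ring of elements of `K` integral at every place other than
`P` and `O_P` is the valuation ring of `P` (written as the elements integral at every place outside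
the complement of `\{P\}`). (The published example is for a curve over an algebraically closed field
and is stated with completions at `P`; this is the equivalent form inside `K`, over any field `k`
algebraically closed in `K`.) -/
theorem result (k K : Type u) [Field k] [Field K]
    [Algebra k K] (hK : FunFld.IsFunctionField k K) (P : FunFld.Place k K) :
    FiniteDimensional k (K ⧸ (Subalgebra.toSubmodule (AdFn.SInt ({P} : Set (FunFld.Place k K))) ⊔
        Subalgebra.toSubmodule (AdFn.SInt (({P} : Set (FunFld.Place k K))ᶜ)))) ∧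
    Module.finrank k (K ⧸ (Subalgebra.toSubmodule (AdFn.SInt ({P} : Set (FunFld.Place k K))) ⊔
        Subalgebra.toSubmodule (AdFn.SInt (({P} : Set (FunFld.Place k K))ᶜ)))) = FunFld.genus k K := by
  classical
  set W := Subalgebra.toSubmodule (AdFn.SInt ({P} : Set (FunFld.Place k K))) ⊔
        Subalgebra.toSubmodule (AdFn.SInt (({P} : Set (FunFld.Place k K))ᶜ))
  obtain ⟨hfin, hdim⟩ := Groth.Agent.FF.finrank_quotient_ADK hK (0 : FunFld.Divisor k K)
  rw [Groth.Agent.FF.spec_zero hK, sub_zero] at hdim
  haveI := hfin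
  have hmem : ∀ z : K, (LinearMap.single k (fun _ : FunFld.Place k K => K) P) z ∈ FunFld.adele k K := fun z => by
    show ∀ᶠ Q : FunFld.Place k K in Filter.cofinite, Q.1 _ ≤ 1
    rw [Filter.eventually_cofinite]
    refine (Set.finite_singleton P).subset fun Q hQ => ?_
    by_contra hne
    apply hQ
    show Q.1 ((Pi.single P z : FunFld.Place k K → K) Q) ≤ 1
    rw [Pi.single_eq_of_ne hne, map_zero]
    exact zero_le
  let Φ : K →ₗ[k] (↥(FunFld.adele k K) ⧸ FunFld.ADK (0 : FunFld.Divisor k K)) :=
    (FunFld.ADK (0 : FunFld.Divisor k K)).mkQ ∘ₗ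
      LinearMap.codRestrict (FunFld.adele k K) (LinearMap.single k (fun _ : FunFld.Place k K => K) P) hmem
  have hΦ : ∀ z, Φ z = Submodule.Quotient.mk ⟨(LinearMap.single k (fun _ : FunFld.Place k K => K) P) z, hmem z⟩ :=
    fun z => rfl
  have hsurj : Function.Surjective Φ := fun q => by
    obtain ⟨⟨a, ha⟩, rfl⟩ := Submodule.Quotient.mk_surjective _ q
    have hafin : {Q : FunFld.Place k K | ¬ Q.1 (a Q) ≤ 1}.Finite := Filter.eventually_cofinite.1 ha
    obtain ⟨x, hx1, hx2⟩ := Groth.Agent.FF.strong_approx hK (P₀ := P) (hafin.toFinset.erase P)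
      (Finset.notMem_erase P _) a (fun _ => 0)
    refine ⟨a P - x, ?_⟩
    rw [hΦ, Submodule.Quotient.eq]
    show ((LinearMap.single k (fun _ : FunFld.Place k K => K) P) (a P - x) - a : FunFld.Place k K → K) ∈
      FunFld.AD (0 : FunFld.Divisor k K) ⊔ LinearMap.range (FunFld.diag k K)
    refine Submodule.mem_sup.2 ⟨(Pi.single P (a P - x) : FunFld.Place k K → K) - a + FunFld.diag k K x,
      fun Q => ?_, _, ⟨-x, rfl⟩, ?_⟩
    · show Q.1 ((Pi.single P (a P - x) : FunFld.Place k K → K) Q - a Q + x) ≤ WithZero.exp ((0 : FunFld.Divisor k K) Q)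
      refine le_trans ?_ (WithZero.exp_zero (M := ℤ)).ge
      by_cases hQ : Q = P
      · subst hQ
        rw [Pi.single_eq_same, show a Q - x - a Q + x = (0 : K) by ring, map_zero]
        exact zero_le
      · rw [Pi.single_eq_of_ne hQ, zero_sub, neg_add_eq_sub]
        by_cases hs : Q ∈ hafin.toFinset
        · exact (hx1 Q (Finset.mem_erase.2 ⟨hQ, hs⟩)).trans_eq WithZero.exp_zero
        · have h1 : Q.1 (a Q) ≤ 1 := by simpa using hs
          exact (Q.1.map_sub _ _).trans (max_le (hx2 Q hQ fun h => hs (Finset.mem_of_mem_erase h)) h1)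
    · rw [map_neg, add_neg_cancel_right]
      rfl
  have hker : LinearMap.ker Φ = W := by
    ext z
    rw [LinearMap.mem_ker, hΦ, Submodule.Quotient.mk_eq_zero]
    show ((Pi.single P z : FunFld.Place k K → K)) ∈
      FunFld.AD (0 : FunFld.Divisor k K) ⊔ LinearMap.range (FunFld.diag k K) ↔ z ∈ W
    rw [Submodule.mem_sup, Submodule.mem_sup]
    constructor
    · rintro ⟨a0, ha0, _, ⟨w, rfl⟩, hsum⟩
      have hval : ∀ Q, a0 Q + w = (Pi.single P z : FunFld.Place k K → K) Q := fun Q => congrFun hsum Q
      refine ⟨w, fun Q hQ => ?_, z - w, fun Q hQ => ?_, add_sub_cancel w z⟩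
      · have h := hval Q
        rw [Pi.single_eq_of_ne (show Q ≠ P from hQ), add_eq_zero_iff_eq_neg] at h
        have h1 := (ha0 Q).trans_eq WithZero.exp_zero
        rwa [h, Valuation.map_neg] at h1
      · have hQ' : Q = P := by simpa using hQ
        subst hQ'
        have h := hval Q
        rw [Pi.single_eq_same] at h
        rw [show z - w = a0 Q by rw [← h]; ring]
        exact (ha0 Q).trans_eq WithZero.exp_zero
    · rintro ⟨w, hw, u, hu, rfl⟩
      refine ⟨(Pi.single P (w + u) : FunFld.Place k K → K) - FunFld.diag k K w, fun Q => ?_, _, ⟨w, rfl⟩,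
        sub_add_cancel _ _⟩
      show Q.1 ((Pi.single P (w + u) : FunFld.Place k K → K) Q - w) ≤ WithZero.exp ((0 : FunFld.Divisor k K) Q)
      refine le_trans ?_ (WithZero.exp_zero (M := ℤ)).ge
      by_cases hQ : Q = P
      · subst hQ
        rw [Pi.single_eq_same, add_sub_cancel_left]
        exact hu Q (by simp)
      · rw [Pi.single_eq_of_ne hQ, zero_sub, Valuation.map_neg]
        exact hw Q hQ
  rw [← hker]
  let e := LinearMap.quotKerEquivOfSurjective Φ hsurj
  exact ⟨Module.Finite.equiv e.symm, e.finrank_eq.trans (by exact_mod_cast hdim)⟩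

end Groth.Agent.S16099
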