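import Groth.Statements.S16100
import Groth.Agent.AdFnApprox65
import Groth.Agent.S16099

set_option autoImplicit false
universe u
open AdFn

namespace Groth.Agent.S16100

/-- For a function field `K/k` of one variable of genus `g` and any place `P` with completion `K_P` and
valuation ring `O_P ⊆ K_P`, the `k`-space `K_P / (O_{\{P\}} + O_P)`, where `O_{\{P\}} ⊆ K ⊆ K_P` is
the ring of elements of `K` integral at every place other than `P`, is finite-dimensional of
dimension `g` (the number of Weierstrass gaps when `P` is rational). (The published example is for a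
curve over an algebraically closed field; here any field `k` algebraically closed in `K` and any
place `P` are allowed.) -/
theorem result (k K : Type u) [Field k] [Field K]
    [Algebra k K] (hK : FunFld.IsFunctionField k K) (P : FunFld.Place k K) :
    FiniteDimensional k (AdFn.Kv P ⧸
        (Subalgebra.toSubmodule ((AdFn.SInt ({P} : Set (FunFld.Place k K))).map
            (IsScalarTower.toAlgHom k K (AdFn.Kv P))) ⊔
          Submodule.span k (AdFn.Ov P : Set (AdFn.Kv P)))) ∧
    Module.finrank k (AdFn.Kv P ⧸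
        (Subalgebra.toSubmodule ((AdFn.SInt ({P} : Set (FunFld.Place k K))).map
            (IsScalarTower.toAlgHom k K (AdFn.Kv P))) ⊔
          Submodule.span k (AdFn.Ov P : Set (AdFn.Kv P)))) = FunFld.genus k K := by
  classical
  set W' := Subalgebra.toSubmodule ((AdFn.SInt ({P} : Set (FunFld.Place k K))).map
      (IsScalarTower.toAlgHom k K (AdFn.Kv P))) ⊔ Submodule.span k (AdFn.Ov P : Set (AdFn.Kv P))
  set W := Subalgebra.toSubmodule (AdFn.SInt ({P} : Set (FunFld.Place k K))) ⊔
      Subalgebra.toSubmodule (AdFn.SInt (({P} : Set (FunFld.Place k K))ᶜ)) with hW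
  let Ψ : K →ₗ[k] AdFn.Kv P ⧸ W' := W'.mkQ ∘ₗ (IsScalarTower.toAlgHom k K (AdFn.Kv P)).toLinearMap
  have hsurj : Function.Surjective Ψ := fun q => by
    obtain ⟨a, rfl⟩ := Submodule.Quotient.mk_surjective _ q
    obtain ⟨x, hx⟩ := AdFnApprox65.exists_sub_toKv_mem P a
    refine ⟨x, (Submodule.Quotient.eq W').2 ?_⟩
    refine Submodule.mem_sup_right ((AdFnApprox65.mem_span_Ov P _).2 ?_)
    rw [← neg_mem_iff, neg_sub]
    exact hx
  have hker : LinearMap.ker Ψ = W := by
    ext z
    rw [LinearMap.mem_ker]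
    show Submodule.Quotient.mk (AdFn.toKv P z) = 0 ↔ _
    rw [Submodule.Quotient.mk_eq_zero, Submodule.mem_sup, Submodule.mem_sup]
    constructor
    · rintro ⟨_, ⟨s, hs, rfl⟩, o, ho, hsum⟩
      refine ⟨s, hs, z - s, fun Q hQ => ?_, add_sub_cancel s z⟩
      obtain rfl : Q = P := by simpa using hQ
      refine (AdFn.toKv_mem_Ov _ _).1 ?_
      rw [map_sub, ← hsum]
      simpa using (AdFnApprox65.mem_span_Ov _ o).1 ho
    · rintro ⟨s, hs, w, hw, rfl⟩
      refine ⟨AdFn.toKv P s, ⟨s, hs, rfl⟩, AdFn.toKv P w, (AdFnApprox65.mem_span_Ov _ _).2 ?_, (map_add _ _ _).symm⟩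
      exact (AdFn.toKv_mem_Ov P w).2 (hw P (by simp))
  obtain ⟨hfin, hdim⟩ := Groth.Agent.S16099.result k K hK P
  rw [← hW] at hfin hdim
  rw [← hker] at hfin hdim
  let e := LinearMap.quotKerEquivOfSurjective Ψ hsurj
  exact ⟨Module.Finite.equiv e, e.symm.finrank_eq.trans hdim⟩

end Groth.Agent.S16100
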