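import Groth.Statements.S16104
import Mathlib
-- import your own Groth.Agent.* helpers here

set_option autoImplicit false
universe u v
open LunaSt

namespace Groth.Agent.S16104

/-- Case of local rings. Let φ : A → B be a local homomorphism of Noetherian local rings whose composite
A → B/m_B² is surjective (the first infinitesimal neighbourhoods give a closed immersion), and
assume that A/m_A^(n+1) and B/m_B^(n+1) have the same length for every n (the associated graded
modules of the two maximal ideals have pieces of the same dimension over the common residue field).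
Then for every n the composite A → B/m_B^(n+1) is surjective with kernel m_A^(n+1): φ identifies all
infinitesimal neighbourhoods. (The published statement is for a pointed morphism of Noetherian local
algebraic stacks; its proof reduces to this case of local rings.) -/
theorem result
    (A : Type u) (B : Type v) [CommRing A] [CommRing B] [IsLocalRing A] [IsLocalRing B]
    [IsNoetherianRing A] [IsNoetherianRing B] (φ : A →+* B) [IsLocalHom φ]
    (h1 : Function.Surjective ((Ideal.Quotient.mk (IsLocalRing.maximalIdeal B ^ 2)).comp φ))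
    (hlen : ∀ n : ℕ, Module.length A (A ⧸ IsLocalRing.maximalIdeal A ^ (n + 1)) =
      Module.length B (B ⧸ IsLocalRing.maximalIdeal B ^ (n + 1))) (n : ℕ) :
    Function.Surjective ((Ideal.Quotient.mk (IsLocalRing.maximalIdeal B ^ (n + 1))).comp φ) ∧
      RingHom.ker ((Ideal.Quotient.mk (IsLocalRing.maximalIdeal B ^ (n + 1))).comp φ) =
        IsLocalRing.maximalIdeal A ^ (n + 1) := by
  set mA := IsLocalRing.maximalIdeal A
  set mB := IsLocalRing.maximalIdeal B
  have hcomap : mB.comap φ = mA := IsLocalRing.maximalIdeal_comap φ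
  have hmap : ∀ i : ℕ, (mA ^ i).map φ ≤ mB ^ i := fun i => by
    rw [Ideal.map_pow]
    exact Ideal.pow_right_mono (Ideal.map_le_iff_le_comap.2 hcomap.ge) i
  have base : ∀ b : B, ∃ a : A, b - φ a ∈ mB ^ 2 := fun b => by
    obtain ⟨a, ha⟩ := h1 (Ideal.Quotient.mk _ b)
    exact ⟨a, Ideal.Quotient.eq.1 ha.symm⟩
  have gens : ∀ b ∈ mB, ∃ a ∈ mA, b - φ a ∈ mB ^ 2 := fun b hb => by
    obtain ⟨a, ha⟩ := base b
    refine ⟨a, ?_, ha⟩
    rw [← hcomap, Ideal.mem_comap]
    have := sub_mem hb (Ideal.pow_le_self two_ne_zero ha)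
    simpa using this
  have step : ∀ i : ℕ, ∀ b ∈ mB ^ i, ∃ a ∈ mA ^ i, b - φ a ∈ mB ^ (i + 1) := by
    intro i
    induction i with
    | zero =>
      intro b _
      obtain ⟨a, ha⟩ := base b
      exact ⟨a, by simp, Ideal.pow_le_pow_right (by norm_num) ha⟩
    | succ i ih =>
      intro b hb
      rw [pow_succ] at hb
      refine Submodule.mul_induction_on hb (fun u hu v hv => ?_) ?_
      · obtain ⟨a, ha, hau⟩ := ih u hu
        obtain ⟨c, hc, hcv⟩ := gens v hv
        refine ⟨a * c, by rw [pow_succ]; exact Ideal.mul_mem_mul ha hc, ?_⟩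
        rw [map_mul, show u * v - φ a * φ c = (u - φ a) * v + φ a * (v - φ c) by ring]
        refine add_mem ?_ ?_
        · rw [pow_succ (n := i + 1)]
          exact Ideal.mul_mem_mul hau hv
        · rw [show i + 1 + 1 = i + 2 by omega, pow_add]
          exact Ideal.mul_mem_mul (hmap i (Ideal.mem_map_of_mem φ ha)) hcv
      · rintro x y ⟨a, ha, hx⟩ ⟨c, hc, hy⟩
        refine ⟨a + c, add_mem ha hc, ?_⟩
        rw [map_add, add_sub_add_comm]
        exact add_mem hx hy
  have surj : ∀ N : ℕ, ∀ b : B, ∃ a : A, b - φ a ∈ mB ^ N := by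
    intro N
    induction N with
    | zero => exact fun b => ⟨0, by simp⟩
    | succ N ih =>
      intro b
      obtain ⟨a, ha⟩ := ih b
      obtain ⟨c, -, hc⟩ := step N _ ha
      exact ⟨a + c, by rw [map_add, ← sub_sub]; exact hc⟩
  set g := (Ideal.Quotient.mk (mB ^ (n + 1))).comp φ with hg
  have hsurj : Function.Surjective g := fun z => by
    obtain ⟨b, rfl⟩ := Ideal.Quotient.mk_surjective z
    obtain ⟨a, ha⟩ := surj (n + 1) b
    exact ⟨a, (Ideal.Quotient.eq.2 ha).symm⟩
  have hle : mA ^ (n + 1) ≤ RingHom.ker g := fun a ha => by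
    rw [RingHom.mem_ker, hg, RingHom.comp_apply, Ideal.Quotient.eq_zero_iff_mem]
    exact hmap _ (Ideal.mem_map_of_mem φ ha)
  refine ⟨hsurj, (le_antisymm ?_ hle)⟩
  letI : Algebra A (B ⧸ mB ^ (n + 1)) := g.toAlgebra
  let f : (A ⧸ mA ^ (n + 1)) →ₗ[A] B ⧸ mB ^ (n + 1) :=
    Submodule.liftQ (mA ^ (n + 1)) (Algebra.linearMap A (B ⧸ mB ^ (n + 1))) hle
  have hf : Function.Surjective f := fun z => by
    obtain ⟨a, rfl⟩ := hsurj z
    exact ⟨Submodule.Quotient.mk a, rfl⟩
  have hlenB : Module.length A (B ⧸ mB ^ (n + 1)) = Module.length B (B ⧸ mB ^ (n + 1)) := by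
    rw [Module.length_eq_of_surjective (R := B ⧸ mB ^ (n + 1)) (M := B ⧸ mB ^ (n + 1)) hsurj]
    exact (Module.length_eq_of_surjective (R := B ⧸ mB ^ (n + 1)) (M := B ⧸ mB ^ (n + 1))
      (Ideal.Quotient.mk_surjective : Function.Surjective (algebraMap B (B ⧸ mB ^ (n + 1))))).symm
  have hfin : Module.length A (A ⧸ mA ^ (n + 1)) ≠ ⊤ := by
    haveI : IsArtinianRing (A ⧸ mA ^ (n + 1)) := by
      refine IsLocalRing.quotient_artinian_of_mem_minimalPrimes_of_isLocalRing _ ?_
      refine ⟨⟨Ideal.IsMaximal.isPrime inferInstance, Ideal.pow_le_self (Nat.succ_ne_zero n)⟩, ?_⟩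
      intro P hP _
      exact fun x hx => hP.1.mem_of_pow_mem (n + 1) (hP.2 (Ideal.pow_mem_pow hx (n + 1)))
    rw [Module.length_eq_of_surjective (R := A ⧸ mA ^ (n + 1)) (M := A ⧸ mA ^ (n + 1))
      (Ideal.Quotient.mk_surjective : Function.Surjective (algebraMap A (A ⧸ mA ^ (n + 1))))]
    exact Module.length_ne_top
  have hexact := Module.length_eq_add_of_exact (LinearMap.ker f).subtype f
    (Submodule.injective_subtype _) hf (LinearMap.exact_subtype_ker_map f)
  have hk : Module.length A (LinearMap.ker f) = 0 := by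
    rw [hlenB, ← hlen n] at hexact
    revert hexact hfin
    generalize Module.length A (A ⧸ mA ^ (n + 1)) = x
    generalize Module.length A (LinearMap.ker f) = y
    intro hfin h
    lift x to ℕ using hfin
    induction y using ENat.recTopCoe with
    | top => simp at h
    | coe y => norm_cast at h ⊢; omega
  have hinj : Function.Injective f := by
    rw [← LinearMap.ker_eq_bot]
    haveI := Module.length_eq_zero_iff.1 hk
    exact Submodule.eq_bot_of_subsingleton
  intro a ha
  have : f (Submodule.Quotient.mk a) = 0 := ha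
  rw [← map_zero f] at this
  exact (Submodule.Quotient.mk_eq_zero _).1 (hinj this)

end Groth.Agent.S16104
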