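import Groth.Statements.S16105
import Groth.Agent.Comod.Invariants
import Groth.Agent.Comod.Orbit
import Groth.Agent.Comod.ChevalleyMod

set_option autoImplicit false
universe u v w w'
open LunaSt

namespace Groth.Agent.S16105

/-- The key claim of its proof. Let k be a field and H a commutative Hopf algebra of finite type over k
all of whose finite-dimensional comodules are semisimple (a linearly reductive affine group G = Spec
H). Let A be a Noetherian commutative k-algebra with a coaction of H that is an algebra map (an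
action of G on Spec A), let m be a maximal ideal of A stable under the coaction (for instance the
ideal of a closed point fixed by G), and assume that the ring of invariants A^G is a Noetherian
local ring, complete with respect to its maximal ideal. Let M be a finite A-module with a compatible
H-coaction (a coherent G-module on Spec A). Then (i) an invariant element of M which lies in m^n M
for every n is zero, and (ii) for every sequence of invariants x_0, x_1, … with x_(n+1) − x_n ∈ m^n
M there is an invariant x with x − x_n ∈ m^n M for all n. In other words M^G → lim_n M^G/(m^n M)^G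
is bijective: the m-adic filtration and the filtration by powers of the maximal ideal of A^G induce
the same topology on M^G. (The ring of invariants is assumed Noetherian here; this also follows from
linear reductivity.) -/
theorem result
    (k : Type u) [Field k] (H : Type v) [CommRing H] [HopfAlgebra k H] [Algebra.FiniteType k H]
    (hG : HopfRep.IsLinearlyReductive k H)
    (A : Type w) [CommRing A] [Algebra k A] [IsNoetherianRing A]
    [HopfRep.Comod k H A] [GLin.IsCoactAlg k H A]
    (m : Ideal A) [m.IsMaximal] (hm : HopfRep.IsSubcomod (k := k) (A := H) (m.restrictScalars k))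
    [IsLocalRing ↥(GLin.invariants k H A)] [IsNoetherianRing ↥(GLin.invariants k H A)]
    [IsAdicComplete (IsLocalRing.maximalIdeal ↥(GLin.invariants k H A)) ↥(GLin.invariants k H A)]
    (M : Type w') [AddCommGroup M] [Module k M] [Module A M] [IsScalarTower k A M] [Module.Finite A M]
    [HopfRep.Comod k H M] [TameAct.IsHopfMod k H A M] :
    (∀ x ∈ HopfRep.fixedPts k H M, (∀ n : ℕ, x ∈ (m ^ n • ⊤ : Submodule A M)) → x = 0) ∧
      ∀ x : ℕ → M, (∀ n, x n ∈ HopfRep.fixedPts k H M) →
        (∀ n, x (n + 1) - x n ∈ (m ^ n • ⊤ : Submodule A M)) →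
          ∃ y ∈ HopfRep.fixedPts k H M, ∀ n, y - x n ∈ (m ^ n • ⊤ : Submodule A M) := by
  obtain ⟨α, hα⟩ := Comod.exists_integral_of_linRed hG
  let R₀ := GLin.invariants k H A
  let v : R₀ →+* A := (Subalgebra.val (GLin.invariants k H A)).toRingHom
  have hproper : (m.comap v) ≤ IsLocalRing.maximalIdeal R₀ :=
    IsLocalRing.le_maximalIdeal fun h => Ideal.IsMaximal.ne_top (I := m) inferInstance
      ((Ideal.eq_top_iff_one m).2 (by
        have h1 : (1 : R₀) ∈ m.comap v := h ▸ Submodule.mem_top
        rwa [Ideal.mem_comap, map_one] at h1))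
  have h1fix : (1 : A) ∈ HopfRep.fixedPts k H A := (GLin.invariants k H A).one_mem
  have havgm : ∀ a ∈ m, Comod.avg α a ∈ m := fun a ha => Comod.avg_mem_of_isSubcomod α hm ha
  have hunit : ∀ c : R₀, (c : A) - 1 ∈ m → IsUnit c := fun c hc => by
    by_contra hnu
    have h1 : c - 1 ∈ IsLocalRing.maximalIdeal R₀ := hproper (show v (c - 1) ∈ m by simpa [v] using hc)
    exact (IsLocalRing.maximalIdeal.isMaximal R₀).ne_top ((Ideal.eq_top_iff_one _).2
      (by simpa using sub_mem ((IsLocalRing.mem_maximalIdeal c).2 hnu) h1))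
  have hle : ∀ c : R₀, c ∈ IsLocalRing.maximalIdeal R₀ → (c : A) ∈ m := fun c hc => by
    by_contra hcm
    obtain ⟨a, i, hi, hai⟩ := Ideal.IsMaximal.exists_inv (I := m) inferInstance hcm
    let a' : R₀ := ⟨Comod.avg α a, Comod.avg_mem hα a⟩
    have hu : IsUnit (a' * c) := hunit _ (by
      have h2 : Comod.avg α a * (c : A) - 1 = - Comod.avg α i := by
        rw [← Comod.avg_mul_fixed α a c.2, eq_sub_of_add_eq hai, map_sub, Comod.avg_eq_self hα h1fix]
        ring
      rw [show ((a' * c : R₀) : A) - 1 = Comod.avg α a * (c : A) - 1 from rfl, h2]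
      exact neg_mem (havgm i hi))
    exact (IsLocalRing.mem_maximalIdeal c).1 hc (isUnit_of_mul_isUnit_right hu)
  have hsep : ∀ x ∈ HopfRep.fixedPts k H M, (∀ n : ℕ, x ∈ (m ^ n • ⊤ : Submodule A M)) → x = 0 := by
    intro x hx hall
    obtain ⟨r, hr⟩ := (m.mem_iInf_smul_pow_eq_bot_iff x).1 ((Submodule.mem_iInf _).2 hall)
    let f : A →ₗ[k] M := (LinearMap.toSpanSingleton A M x).restrictScalars k
    have hsub := Comod.isSubcomod_ker (Comod.isComodHom_toSpanSingleton_fixed (R := A) hx)
    have hmem : (1 - (r : A)) ∈ LinearMap.ker f := by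
      simp [f, LinearMap.mem_ker, sub_smul, hr]
    have h2 : Comod.avg α (1 - (r : A)) ∈ LinearMap.ker f := Comod.avg_mem_of_isSubcomod α hsub hmem
    have h3 : Comod.avg α (1 - (r : A)) - 1 ∈ m := by
      rw [map_sub, Comod.avg_eq_self hα h1fix, sub_sub_cancel_left]
      exact neg_mem (havgm _ r.2)
    obtain ⟨u, hu⟩ := hunit ⟨_, Comod.avg_mem hα (1 - (r : A))⟩ h3
    have h5 : (((u : R₀) : A)) • x = 0 := by
      rw [hu]
      exact h2
    have hu' : (((↑u⁻¹ : R₀) : A)) * (((u : R₀) : A)) = 1 := by
      rw [← Subalgebra.coe_mul, Units.inv_mul, Subalgebra.coe_one]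
    rw [← one_smul A x, ← hu', mul_smul, h5, smul_zero]
  refine ⟨hsep, fun x hxfix hx => ?_⟩
  let N : Submodule R₀ M :=
    { toAddSubmonoid := (HopfRep.fixedPts k H M).toAddSubmonoid
      smul_mem' := fun c _ h => Comod.smul_mem_fixedPts (R := A) c.2 h }
  haveI : Module.Finite R₀ N := by
    obtain ⟨s, hs, hgen⟩ := Comod.exists_fixed_generators (R := A) (M := M) hα
    classical
    refine ⟨⟨s.attach.image fun y => (⟨y.1, hs y.2⟩ : N), eq_top_iff.2 fun y _ => ?_⟩⟩
    obtain ⟨c, hc, hy⟩ := hgen y.1 y.2
    have h : y = ∑ z ∈ s.attach, (⟨c z.1, hc z.1⟩ : R₀) • (⟨z.1, hs z.2⟩ : N) := Subtype.ext (by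
      rw [AddSubmonoidClass.coe_finset_sum, hy, ← Finset.sum_attach s]
      rfl)
    rw [h]
    exact Submodule.sum_mem _ fun z _ => Submodule.smul_mem _ _ (Submodule.subset_span
      (by simp only [Finset.coe_image]; exact ⟨z, Finset.mem_attach _ _, rfl⟩))
  let K : ℕ → Submodule R₀ N := fun n => ((m ^ n • ⊤ : Submodule A M).restrictScalars R₀).comap N.subtype
  have hanti : Antitone K := fun a b hab => Submodule.comap_mono
    (fun z hz => Submodule.smul_mono_left (Ideal.pow_le_pow_right hab) hz)
  have h0 : ∀ z : N, (∀ n, z ∈ K n) → z = 0 := fun z hz => Subtype.ext (hsep z.1 z.2 fun n => hz n)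
  choose e he using Comod.ChevalleyMod.exists_le_pow K hanti h0
  let d : ℕ → ℕ := fun j => Nat.rec (e 0) (fun i r => max (max r (e (i + 1))) (i + 1)) j
  have hd1 : ∀ j, e j ≤ d j := fun j => by
    cases j with
    | zero => exact le_rfl
    | succ i => exact le_trans (le_max_right (d i) _) (le_max_left _ (i + 1))
  have hd2 : ∀ j, j ≤ d j := fun j => by
    cases j with
    | zero => exact Nat.zero_le _
    | succ i => exact le_max_right _ _
  have hd3 : Monotone d := monotone_nat_of_le_succ fun j => le_trans (le_max_left _ (e (j + 1))) (le_max_left _ (j + 1))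
  have htel : ∀ a b, a ≤ b → x b - x a ∈ (m ^ a • ⊤ : Submodule A M) := by
    intro a b hab
    induction b, hab using Nat.le_induction with
    | base => simp
    | succ b hb ih =>
      have := add_mem (Submodule.smul_mono_left (Ideal.pow_le_pow_right hb) (hx b)) ih
      rwa [sub_add_sub_cancel] at this
  haveI := Comod.ChevalleyMod.isPrecomplete_finite (N := N) (IsLocalRing.maximalIdeal R₀)
  obtain ⟨y, hy⟩ := IsPrecomplete.prec (inferInstance : IsPrecomplete (IsLocalRing.maximalIdeal R₀) N)
    (f := fun j => (⟨x (d j), hxfix _⟩ : N)) (fun {a b} hab => by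
      rw [SModEq.sub_mem, ← neg_mem_iff, neg_sub]
      exact he a (hanti (hd1 a) (htel _ _ (hd3 hab))))
  refine ⟨y.1, y.2, fun n => ?_⟩
  have hmem := SModEq.sub_mem.1 (hy n)
  have hdown : ∀ z : N, z ∈ (IsLocalRing.maximalIdeal R₀ ^ n • ⊤ : Submodule R₀ N) →
      (z : M) ∈ (m ^ n • ⊤ : Submodule A M) := by
    intro z hz
    refine Submodule.smul_induction_on hz (fun c hc w _ => ?_) (fun a b ha hb => add_mem ha hb)
    have h' : IsLocalRing.maximalIdeal R₀ ^ n ≤ (m ^ n).comap v :=
      le_trans (Ideal.pow_right_mono (fun c hc => hle c hc) n) (Ideal.le_comap_pow v n)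
    exact Submodule.smul_mem_smul (h' hc) trivial
  have h2 := add_mem (neg_mem (hdown _ hmem)) (htel n (d n) (hd2 n))
  convert h2 using 1
  simp

end Groth.Agent.S16105
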