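import Groth.Statements.S16106
import Groth.Agent.S0595
import Groth.Agent.IndAlg.Basic
import Groth.Agent.Hensel.ExcellentHens
import Groth.Agent.RegLoc.Completion
import Mathlib

set_option autoImplicit false
universe u
open CategoryTheory CategoryTheory.Limits
open LunaSt

namespace Groth.Agent.S16106

open TensorProduct in
/-- a smooth algebra with a point modulo a proper ideal maps to an etale algebra with the same point -/
theorem exists_etale_nbhd (A : Type u) [CommRing A] [IsLocalRing A] (I : Ideal A) (hI : I ≠ ⊤)
    (C : Type u) [CommRing C] [Algebra A C] [Algebra.Smooth A C] (c : C →ₐ[A] A ⧸ I) :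
    ∃ (A' : Type u) (_ : CommRing A') (_ : Algebra A A') (_ : Algebra.Etale A A')
      (v : C →ₐ[A] A') (φ : A' →ₐ[A] A ⧸ I), φ.comp v = c := by
  have hle : I ≤ IsLocalRing.maximalIdeal A := IsLocalRing.le_maximalIdeal hI
  let ρ : C →+* A ⧸ IsLocalRing.maximalIdeal A := (Ideal.Quotient.factor hle).comp c.toRingHom
  let q : Ideal C := RingHom.ker ρ
  have : q.IsPrime := RingHom.ker_isPrime ρ
  obtain ⟨f, hf, hstd⟩ := Algebra.IsSmoothAt.exists_notMem_isStandardSmooth A q
  have hu : IsUnit (c f) := by
    obtain ⟨a, ha⟩ := Ideal.Quotient.mk_surjective (c f)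
    rw [← ha]
    refine (IsLocalRing.notMem_maximalIdeal.1 fun ham => hf ?_).map _
    change Ideal.Quotient.factor hle (c f) = 0
    rw [← ha, Ideal.Quotient.factor_mk, Ideal.Quotient.eq_zero_iff_mem]
    exact ham
  let c' : Localization.Away f →ₐ[A] A ⧸ I :=
    IsLocalization.liftAlgHom (M := Submonoid.powers f) (f := c) fun y => by
      obtain ⟨_, n, rfl⟩ := y
      change IsUnit (c (f ^ n))
      rw [map_pow]; exact hu.pow n
  have hc' : ∀ x : C, c' (algebraMap C _ x) = c x := fun x => IsLocalization.lift_eq _ x
  obtain ⟨n, g, hgA, hg⟩ := RingHom.IsStandardSmooth.exists_etale_mvPolynomial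
    ((RingHom.isStandardSmooth_algebraMap (R := A) (S := Localization.Away f)).2 hstd)
  choose a ha using fun i => Ideal.Quotient.mk_surjective (c' (g (MvPolynomial.X i)))
  algebraize [g]
  let : Algebra (MvPolynomial (Fin n) A) A := (MvPolynomial.aeval a).toRingHom.toAlgebra
  have hC : ∀ r : A, algebraMap (MvPolynomial (Fin n) A) A (MvPolynomial.C r) = r := fun r =>
    MvPolynomial.aeval_C _ _
  have : IsScalarTower (MvPolynomial (Fin n) A) A (A ⊗[MvPolynomial (Fin n) A] Localization.Away f) :=
    inferInstance
  let inc : Localization.Away f →+* A ⊗[MvPolynomial (Fin n) A] Localization.Away f :=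
    Algebra.TensorProduct.includeRight.toRingHom
  have hinc : ∀ r : A, inc (algebraMap A (Localization.Away f) r) = algebraMap A _ r := fun r => by
    rw [← RingHom.congr_fun hgA r]
    change (1 : A) ⊗ₜ[MvPolynomial (Fin n) A] g (MvPolynomial.C r) = r ⊗ₜ 1
    rw [show g (MvPolynomial.C r) = (MvPolynomial.C r : MvPolynomial (Fin n) A) • (1 : Localization.Away f) by
      rw [Algebra.smul_def, mul_one]; rfl, ← TensorProduct.smul_tmul, Algebra.smul_def, hC, mul_one]
  let cP : Localization.Away f →ₐ[MvPolynomial (Fin n) A] A ⧸ I :=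
    { c'.toRingHom with
      commutes' := fun p => by
        change (c'.toRingHom.comp g) p = ((Ideal.Quotient.mk I).comp (MvPolynomial.aeval a).toRingHom) p
        refine RingHom.congr_fun (MvPolynomial.ringHom_ext (fun r => ?_) fun i => ?_) p
        · change c' (g.comp MvPolynomial.C r) = Ideal.Quotient.mk I (MvPolynomial.aeval a (MvPolynomial.C r))
          rw [hgA, MvPolynomial.aeval_C]
          exact c'.commutes r
        · change c' (g (MvPolynomial.X i)) = Ideal.Quotient.mk I (MvPolynomial.aeval a (MvPolynomial.X i))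
          rw [MvPolynomial.aeval_X, ha] }
  have : IsScalarTower (MvPolynomial (Fin n) A) A (A ⧸ I) := inferInstance
  refine ⟨A ⊗[MvPolynomial (Fin n) A] Localization.Away f, inferInstance, inferInstance, inferInstance,
    { toRingHom := inc.comp (algebraMap C (Localization.Away f))
      commutes' := fun r => by
        change inc (algebraMap C (Localization.Away f) (algebraMap A C r)) = _
        rw [← IsScalarTower.algebraMap_apply]; exact hinc r },
    Algebra.TensorProduct.lift (Algebra.ofId A (A ⧸ I)) cP fun _ _ => Commute.all _ _, AlgHom.ext fun x => ?_⟩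
  change Algebra.TensorProduct.lift (Algebra.ofId A (A ⧸ I)) cP (fun _ _ => Commute.all _ _)
    ((1 : A) ⊗ₜ algebraMap C (Localization.Away f) x) = c x
  rw [Algebra.TensorProduct.lift_tmul, map_one, one_mul]
  exact hc' x

/-- the identity presentation of an algebra as a filtered colimit of finitely presented algebras -/
theorem exists_stage (A B : Type u) [CommRing A] [CommRing B] [Algebra A B]
    (F : Under (CommRingCat.of A) ⥤ Type u)
    (hF : ∀ (J : Type u) [SmallCategory J] [IsFiltered J], PreservesColimitsOfShape J F)
    (ξ : F.obj (Under.mk (CommRingCat.ofHom (algebraMap A B)))) :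
    ∃ (E : Type u) (_ : CommRing E) (_ : Algebra A E) (_ : Algebra.FinitePresentation A E)
      (w : E →ₐ[A] B) (x : F.obj (Under.mk (CommRingCat.ofHom (algebraMap A E)))),
      F.map (AlgHom.toUnder w) x = ξ := by
  have hfac : IndAlg.Fac (A := A) (fun E _ _ => Algebra.FinitePresentation A E) B := by
    intro Z _ _ hZ g
    exact ⟨Z, inferInstance, inferInstance, hZ, AlgHom.id A Z, g, AlgHom.comp_id g⟩
  obtain ⟨J, _, _, D, c, hc, hQ, ⟨e⟩⟩ :=
    IndAlg.isInd_of_fac (fun E _ _ hE => hE) (fun E E' _ _ _ _ e hE => Algebra.FinitePresentation.equiv e) hfac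
  have := hF J
  obtain ⟨j, x, hx⟩ := Types.jointly_surjective _ (isColimitOfPreserves F hc) (F.map e.inv ξ)
  let alg : Algebra A (D.obj j).right := (D.obj j).hom.hom.toAlgebra
  let w : (D.obj j).right →ₐ[A] B :=
    { toRingHom := (c.ι.app j ≫ e.hom).right.hom
      commutes' := fun a => congr($(Under.w (c.ι.app j ≫ e.hom)) a) }
  refine ⟨(D.obj j).right, inferInstance, alg, hQ j, w, x, ?_⟩
  change F.map (c.ι.app j ≫ e.hom) x = ξ
  rw [F.map_comp]
  change F.map e.hom (F.map (c.ι.app j) x) = ξ
  rw [show F.map (c.ι.app j) x = F.map e.inv ξ from hx, ← Function.comp_apply (f := F.map e.hom),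
    ← types_comp, ← F.map_comp, e.inv_hom_id, F.map_id, types_id_apply]


/-- Local form. Let A be a local G-ring, that is a Noetherian local ring all of whose local rings have
regular completion maps (for instance an excellent local ring), with maximal ideal m and m-adic
completion Â. Let F be a functor from A-algebras (commutative rings under A) to sets preserving
filtered colimits, let ξ ∈ F(Â) and N ≥ 0. Then there exist an étale A-algebra A′, a map of
A-algebras φ : A′ → A/m^(N+1) (an étale neighbourhood of the closed point with trivial residue field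
extension) and ξ′ ∈ F(A′) such that ξ′ and ξ have the same image in F(A/m^(N+1)); here π is the
A-algebra map Â → A/m^(N+1), pinned by its underlying ring map. (The published statement is for any
point of the spectrum of a G-ring, with a functor locally of finite presentation on all schemes over
it; its proof first localizes at the point, and only the values of the functor on affine schemes
enter, so the row states this local form for a functor on A-algebras preserving filtered colimits.) -/
theorem result (A : Type u) [CommRing A] [IsLocalRing A]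
    (hG : CAlg.IsGRing A)
    (F : Under (CommRingCat.of A) ⥤ Type u)
    (hF : ∀ (J : Type u) [SmallCategory J] [IsFiltered J], PreservesColimitsOfShape J F)
    (N : ℕ)
    (π : Under.mk (CommRingCat.ofHom (algebraMap A
        (AdicCompletion (IsLocalRing.maximalIdeal A) A))) ⟶
      Under.mk (CommRingCat.ofHom (algebraMap A (A ⧸ IsLocalRing.maximalIdeal A ^ (N + 1)))))
    (hπ : π.right = CommRingCat.ofHom
      (AdicCompletion.evalₐ (IsLocalRing.maximalIdeal A) (N + 1) :
        AdicCompletion (IsLocalRing.maximalIdeal A) A →ₐ[A]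
          A ⧸ IsLocalRing.maximalIdeal A ^ (N + 1)).toRingHom)
    (ξ : F.obj (Under.mk (CommRingCat.ofHom (algebraMap A
        (AdicCompletion (IsLocalRing.maximalIdeal A) A))))) :
    ∃ (A' : Type u) (_ : CommRing A') (_ : Algebra A A') (_ : Algebra.Etale A A')
      (φ : Under.mk (CommRingCat.ofHom (algebraMap A A')) ⟶
        Under.mk (CommRingCat.ofHom (algebraMap A (A ⧸ IsLocalRing.maximalIdeal A ^ (N + 1)))))
      (ξ' : F.obj (Under.mk (CommRingCat.ofHom (algebraMap A A')))),
      F.map φ ξ' = F.map π ξ := by
  have := hG.1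
  let B := AdicCompletion (IsLocalRing.maximalIdeal A) A
  have : IsNoetherianRing B := RegLoc.Completion.isNoetherianRing_adicCompletion' _
  have hreg : CAlg.IsRegularHom A B := (Hensel.isGRing_iff_isRegularHom_cpl A).1 hG
  obtain ⟨E, _, _, _, w, x, hx⟩ := exists_stage A B F hF ξ
  obtain ⟨C, _, _, hC, g, h, hgh⟩ := S0595.result A B hreg E w
  let ev := AdicCompletion.evalₐ (IsLocalRing.maximalIdeal A) (N + 1)
  obtain ⟨A', _, _, hA', v, φ, hφ⟩ := exists_etale_nbhd A (IsLocalRing.maximalIdeal A ^ (N + 1))
    (fun ht => (IsLocalRing.maximalIdeal.isMaximal A).ne_top (top_le_iff.1 (ht ▸ Ideal.pow_le_self (by omega))))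
    C (ev.comp h)
  refine ⟨A', inferInstance, inferInstance, hA', AlgHom.toUnder φ, F.map (AlgHom.toUnder (v.comp g)) x, ?_⟩
  rw [← hx, ← Function.comp_apply (f := F.map (AlgHom.toUnder φ)), ← types_comp, ← F.map_comp,
    ← Function.comp_apply (f := F.map π), ← types_comp, ← F.map_comp]
  refine congrArg (fun m => F.map m x) (Under.UnderMorphism.ext ?_)
  rw [Under.comp_right, Under.comp_right, hπ]
  refine CommRingCat.hom_ext (RingHom.ext fun e => ?_)
  change φ (v (g e)) = ev (w e)
  rw [show φ (v (g e)) = ev (h (g e)) from AlgHom.congr_fun hφ (g e), ← hgh]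
  rfl

end Groth.Agent.S16106
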