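import Groth.Statements.S16108
import Groth.Agent.Comod.LunaGen.Cartesian

set_option autoImplicit false
universe u v w
open CategoryTheory
open LunaSt

namespace Groth.Agent.S16108

/-- Affine case with one group. Let k be a field and H a commutative Hopf algebra of finite type over k
all of whose finite-dimensional comodules are semisimple (a linearly reductive affine group G of
finite type). Let A and B be Noetherian commutative k-algebras with coactions of H that are algebra
maps, and let φ : A → B be an étale k-algebra map compatible with the coactions (a G-equivariant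
étale morphism Spec B → Spec A, so that [Spec B/G] → [Spec A/G] is étale, separated and
representable, with good moduli spaces Spec B^G and Spec A^G); let ψ : A^G → B^G be the restriction
of φ to the invariant rings. Let w be a k-point of Spec B whose orbit is closed, such that the orbit
of φ(w) is closed and the scheme-theoretic stabilizers of w and of φ(w) in G coincide (equivalently
the inclusion of the first in the second is an isomorphism). Then there is an invariant function g ∈
B^G with g(w) ≠ 0 such that A^G → (B^G)[1/g] is étale and B[1/g] is the pushout A ⊗_{A^G}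
(B^G)[1/g]: the square of rings with corners A^G, A, (B^G)[1/g], B[1/g] is cocartesian. (The
published statement is for an étale, separated, representable morphism of Noetherian algebraic
stacks with good moduli spaces and a closed point; this row is its case of quotient stacks of affine
schemes by one linearly reductive group over a field, at a rational point.) -/
theorem result
    (k : Type u) [Field k] (H : Type v) [CommRing H] [HopfAlgebra k H] [Algebra.FiniteType k H]
    (hG : HopfRep.IsLinearlyReductive k H)
    (A B : Type w) [CommRing A] [CommRing B] [Algebra k A] [Algebra k B]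
    [IsNoetherianRing A] [IsNoetherianRing B]
    [HopfRep.Comod k H A] [GLin.IsCoactAlg k H A] [HopfRep.Comod k H B] [GLin.IsCoactAlg k H B]
    (φ : A →ₐ[k] B) (hφ : Hoch.IsComodHom H φ.toLinearMap) (het : φ.toRingHom.Etale)
    (ψ : ↥(GLin.invariants k H A) →+* ↥(GLin.invariants k H B))
    (hψ : ∀ a : ↥(GLin.invariants k H A), (ψ a : B) = φ (a : A))
    (w : B →ₐ[k] k) (hw : GLin.IsClosedOrbit k H w) (hφw : GLin.IsClosedOrbit k H (w.comp φ))
    (hst : GLin.stabIdeal k H (w.comp φ) = GLin.stabIdeal k H w) :
    ∃ g : ↥(GLin.invariants k H B), w (g : B) ≠ 0 ∧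
      ((algebraMap ↥(GLin.invariants k H B) (Localization.Away g)).comp ψ).Etale ∧
      IsPushout (CommRingCat.ofHom (GLin.invariants k H A).val.toRingHom)
        (CommRingCat.ofHom ((algebraMap ↥(GLin.invariants k H B) (Localization.Away g)).comp ψ))
        (CommRingCat.ofHom ((algebraMap B (Localization.Away (g : B))).comp φ.toRingHom))
        (CommRingCat.ofHom (Localization.awayMap (GLin.invariants k H B).val.toRingHom g)) := by
  classical
  obtain ⟨α, hα⟩ := Comod.exists_integral_of_linRed hG
  letI : Algebra A B := φ.toRingHom.toAlgebra
  haveI : IsScalarTower k A B := IsScalarTower.of_algebraMap_eq fun c => (φ.commutes c).symm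
  haveI : Algebra.Etale A B := het
  letI : Algebra ↥(GLin.invariants k H A) ↥(GLin.invariants k H B) := ψ.toAlgebra
  haveI : IsScalarTower ↥(GLin.invariants k H A) ↥(GLin.invariants k H B) B :=
    IsScalarTower.of_algebraMap_eq fun a => (hψ a).symm
  haveI : IsScalarTower k ↥(GLin.invariants k H A) ↥(GLin.invariants k H B) :=
    IsScalarTower.of_algebraMap_eq fun c => Subtype.ext ((hψ _).trans (φ.commutes c)).symm
  have hθ : Hoch.IsComodHom H (IsScalarTower.toAlgHom k A B).toLinearMap := hφ
  obtain ⟨g₁, hg₁, hg₁et⟩ := Comod.LunaGen.exists_etale_away hα hθ w hw hφw hst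
  obtain ⟨g₂, t, hg₂, ht, hgen⟩ := Comod.LunaGen.exists_mul_mem_adjoin hα hθ w hw hφw hst
  haveI : IsNoetherianRing ↥(GLin.invariants k H A) := Comod.isNoetherianRing_invariants hα
  haveI := Comod.LunaGen.invariants_finiteType (α := α) hα hθ
  haveI : Algebra.FinitePresentation ↥(GLin.invariants k H A) ↥(GLin.invariants k H B) :=
    Algebra.FinitePresentation.of_finiteType.1 inferInstance
  haveI : Algebra.Etale ↥(GLin.invariants k H A) (Localization.Away (g₁ * g₂)) := by
    refine Algebra.basicOpen_subset_etaleLocus_iff_etale.1 fun p hp => ?_
    refine Algebra.basicOpen_subset_etaleLocus_iff_etale.2 hg₁et ?_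
    rw [SetLike.mem_coe, PrimeSpectrum.mem_basicOpen] at hp ⊢
    exact fun h => hp (Ideal.mul_mem_right _ _ h)
  have hsurj := Comod.LunaGen.cartMap_surjective (A := A) (g₁ * g₂) t ht (Dvd.intro_left g₁ rfl) hgen
  have hinj := Comod.LunaGen.cartMap_injective (g₁ * g₂) hα hθ hsurj
  have hpush := Comod.LunaGen.isPushout_of_bijective (A := A) (g₁ * g₂) ⟨hinj, hsurj⟩
  refine ⟨g₁ * g₂, ?_, ?_, hpush⟩
  · intro h
    rw [Subalgebra.coe_mul, map_mul, mul_eq_zero] at h
    exact h.elim (fun h => hg₁ h) fun h => hg₂ h
  · rw [show (algebraMap ↥(GLin.invariants k H B) (Localization.Away (g₁ * g₂))).comp ψ =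
      algebraMap ↥(GLin.invariants k H A) (Localization.Away (g₁ * g₂)) from
      (IsScalarTower.algebraMap_eq _ _ _).symm, RingHom.etale_algebraMap]
    infer_instance

end Groth.Agent.S16108
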