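import Groth.Statements.S16116
import Groth.Agent.GrpScheme.Rosenlicht.Group
-- import your own Groth.Agent.* helpers here

set_option autoImplicit false
set_option backward.isDefEq.respectTransparency false
universe u
open CategoryTheory MonoidalCategory CartesianMonoidalCategory MonObj GrpObj AlgebraicGeometry CategoryTheory.Limits
open AlgGrp

open Groth.Agent.GrpScheme.Rosenlicht MonoidalCategory CartesianMonoidalCategory MonObj

namespace Groth.Agent.S16116

/-- Over an algebraically closed field k, let G be a connected algebraic group (a smooth connected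
k-group scheme of finite type) acting by σ on an irreducible variety X (an integral separated
k-scheme of finite type), and let f be a unit of Γ(X, O_X). Then f is a semi-invariant: there is a
unique character χ of G (a unit of Γ(G, O_G) with e^*(χ) = 1 and m^*(χ) = p₁^*(χ) · p₂^*(χ)) such
that σ^*(f) = p₁^*(χ) · p₂^*(f) in Γ(G × X, O). -/
theorem result (k : Type u) [Field k] [IsAlgClosed k]
    (G X : Over (Spec (CommRingCat.of k))) [GrpObj G] [Smooth G.hom] [QuasiCompact G.hom] [ConnectedSpace ↥G.left]
    [IsIntegral X.left] [IsSeparated X.hom] [LocallyOfFiniteType X.hom] [QuasiCompact X.hom] (a : AlgGrp.Action G X)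
    (f : Γ(X.left, ⊤)) (hf : IsUnit f) :
    ∃! χ : Γ(G.left, ⊤), IsUnit χ ∧ η[G].left.appTop χ = 1 ∧
      μ[G].left.appTop χ = (fst G G).left.appTop χ * (snd G G).left.appTop χ ∧
      a.act.left.appTop f = (fst G X).left.appTop χ * (snd G X).left.appTop f := by
  have := isIntegral_group G
  obtain ⟨χ, u, hχ, hχe, hχm, -, h⟩ := exists_character_mul G X (pb a.act f) (hf.map _)
  have h1 : sliceL X η[G] ≫ a.act = 𝟙 X := by
    have h0 := (λ_ X).inv ≫= a.one_act
    rw [Iso.inv_hom_id, ← Category.assoc] at h0
    rw [← h0]
    congr 1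
    apply CartesianMonoidalCategory.hom_ext <;> simp [sliceL]
  have hu : u = f := by
    have := congrArg (pb (sliceL X η[G])) h
    rw [← pb_comp, h1, pb_id, pb_sliceL_mul, pb_comp, hχe, map_one, _root_.one_mul] at this
    exact this.symm
  subst hu
  refine ⟨χ, ⟨hχ, hχe, hχm, h⟩, ?_⟩
  rintro χ' ⟨-, -, -, h'⟩
  have h' : pb a.act u = pb (fst G X) χ' * pb (snd G X) u := h'
  obtain ⟨x⟩ := exists_point X
  have e := congrArg (pb (sliceR G x)) (h'.symm.trans h)
  rw [pb_sliceR_mul, pb_sliceR_mul] at e
  exact (hf.map (pb (toUnit G ≫ x))).mul_left_injective e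

end Groth.Agent.S16116
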