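import Groth.Statements.S16117
import Groth.Agent.GrpScheme.Rosenlicht.Group
-- import your own Groth.Agent.* helpers here

set_option autoImplicit false
set_option backward.isDefEq.respectTransparency false
universe u
open CategoryTheory MonoidalCategory CartesianMonoidalCategory MonObj GrpObj AlgebraicGeometry CategoryTheory.Limits
open AlgGrp

open Groth.Agent.GrpScheme.Rosenlicht MonoidalCategory CartesianMonoidalCategory MonObj

namespace Groth.Agent.S16117

/-- Over an algebraically closed field k, let X and Y be irreducible varieties (integral separated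
k-schemes of finite type). Then the product map on units is surjective: every unit of Γ(X × Y, O)
equals p₁^*(g) · p₂^*(h) for some units g of Γ(X, O_X) and h of Γ(Y, O_Y). -/
theorem result (k : Type u) [Field k] [IsAlgClosed k]
    (X Y : Over (Spec (CommRingCat.of k))) [IsIntegral X.left] [IsSeparated X.hom] [LocallyOfFiniteType X.hom] [QuasiCompact X.hom]
    [IsIntegral Y.left] [IsSeparated Y.hom] [LocallyOfFiniteType Y.hom] [QuasiCompact Y.hom]
    (f : Γ((X ⊗ Y).left, ⊤)) (hf : IsUnit f) :
    ∃ (g : Γ(X.left, ⊤)) (h : Γ(Y.left, ⊤)), IsUnit g ∧ IsUnit h ∧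
      f = (fst X Y).left.appTop g * (snd X Y).left.appTop h := by
  obtain ⟨x⟩ := exists_point X
  obtain ⟨y⟩ := exists_point Y
  obtain ⟨u, hu, -, h⟩ := exists_units_mul_eq X Y x y f hf
  exact ⟨_, u, hf.map (pb (sliceR X y)), hu, h⟩

end Groth.Agent.S16117
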