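import Groth.Statements.S16124
import Groth.Agent.GalCohAux.AmpleFinite

set_option backward.isDefEq.respectTransparency false
set_option linter.style.haveILetI false

set_option autoImplicit false
universe u
open CategoryTheory MonoidalCategory CartesianMonoidalCategory MonObj GrpObj AlgebraicGeometry CategoryTheory.Limits
open AlgGrp

namespace Groth.Agent.S16124

/-- Over an algebraically closed field k, let X be a quasi-projective variety (a reduced separated
k-scheme, quasi-projective over k) with an action of a finite group Γ by k-automorphisms. Then X is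
covered by Γ-stable affine open subschemes: every point x of X lies in an affine open U with σ⁻¹(U)
= U for every σ in Γ. -/
theorem result (k : Type u) [Field k] [IsAlgClosed k]
    (X : Over (Spec (CommRingCat.of k))) [IsReduced X.left] [IsSeparated X.hom] (hX : RelProj.IsQuasiProjective X.hom)
    (Γgrp : Type u) [Group Γgrp] [Finite Γgrp] (ρ : Γgrp →* Aut X.left)
    (hρ : ∀ σ : Γgrp, (ρ σ).hom ≫ X.hom = X.hom) (x : ↥X.left) :
    ∃ U : X.left.Opens, x ∈ U ∧ IsAffineOpen U ∧ ∀ σ : Γgrp, (ρ σ).hom ⁻¹ᵁ U = U := by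
  obtain ⟨-, -, L, hL⟩ := hX
  obtain ⟨V, hV, hFV⟩ := Groth.Agent.GalCohAux.AmpleFinite.exists_affine_of_finite_of_isRelAmple hL
    (Set.finite_range fun σ : Γgrp => (ρ σ).hom x)
  haveI := Fintype.ofFinite Γgrp
  haveI : X.left.IsSeparated := ⟨by
    rw [CategoryTheory.Limits.terminal.hom_ext (CategoryTheory.Limits.terminal.from X.left)
      (X.hom ≫ CategoryTheory.Limits.terminal.from _)]
    infer_instance⟩
  let U : X.left.Opens := Finset.univ.inf' Finset.univ_nonempty fun σ : Γgrp => (ρ σ).hom ⁻¹ᵁ V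
  have hmem : ∀ y, y ∈ U ↔ ∀ σ : Γgrp, (ρ σ).hom y ∈ V := fun y => by
    have key : ∀ (s : Finset Γgrp) (hs : s.Nonempty),
        y ∈ s.inf' hs (fun σ : Γgrp => (ρ σ).hom ⁻¹ᵁ V) ↔ ∀ σ ∈ s, (ρ σ).hom y ∈ V := by
      intro s hs
      induction hs using Finset.Nonempty.cons_induction with
      | singleton a => simp
      | cons a s ha hs ih =>
        rw [Finset.inf'_cons hs, TopologicalSpace.Opens.mem_inf, ih]
        simp
    simpa [U] using key Finset.univ Finset.univ_nonempty
  refine ⟨U, (hmem x).2 fun σ => hFV ⟨σ, rfl⟩, ?_, fun τ => TopologicalSpace.Opens.ext (Set.ext fun y => ?_)⟩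
  · refine Finset.inf'_induction _ _ (fun a ha b hb => IsAffineOpen.inf ha hb) fun σ _ => ?_
    exact hV.preimage_of_isIso (ρ σ).hom
  · show (ρ τ).hom y ∈ U ↔ y ∈ U
    have hc : ∀ σ : Γgrp, (ρ σ).hom ((ρ τ).hom y) = (ρ (σ * τ)).hom y := fun σ => by
      rw [map_mul]; rfl
    rw [hmem, hmem]
    exact ⟨fun h σ => by have := h (σ * τ⁻¹); rwa [hc, inv_mul_cancel_right] at this,
      fun h σ => by rw [hc]; exact h _⟩

end Groth.Agent.S16124
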