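import Groth.Statements.S16126
import Groth.Agent.GrpScheme.RegularRep
import Groth.Agent.GrpScheme.Tangent
import Groth.Agent.RedPts.Basic
import Mathlib.LinearAlgebra.Matrix.Rank
import Mathlib.LinearAlgebra.Matrix.SchurComplement

set_option autoImplicit false
universe u
open CategoryTheory MonoidalCategory CartesianMonoidalCategory MonObj GrpObj AlgebraicGeometry CategoryTheory.Limits
open AlgGrp

namespace Groth.Agent.S16126

open Limits Groth.Agent.SekLib Groth.Agent.RedPts GrpScheme.Tangent GrpScheme.RegularRep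
open scoped TensorProduct

attribute [local instance] secAlgebra

section

variable {K : Type u} [Field K]

/-- Laurent polynomials in rank `M`. -/
abbrev Laurent (K : Type u) [Field K] (M : Type) [AddCommGroup M] : Type u := MonoidAlgebra K (Multiplicative M)

/-- Functions on the spectrum of an algebra. -/
noncomputable def ev (B : Type u) [CommRing B] [Algebra K B] : B ≃ₐ[K] Γ((TSpec (K := K) B).left, ⊤) :=
  AlgEquiv.ofRingEquiv (f := (Scheme.ΓSpecIso (CommRingCat.of B)).symm.commRingCatIsoToRingEquiv) fun r =>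
    congr($(Scheme.ΓSpecIso_inv_naturality (CommRingCat.ofHom (algebraMap K B))) r)

lemma pull_TMap {B C : Type u} [CommRing B] [Algebra K B] [CommRing C] [Algebra K C] (φ : B →ₐ[K] C) (b : B) :
    pull (TMap φ) (ev B b) = ev C (φ b) :=
  (congr($(Scheme.ΓSpecIso_inv_naturality (CommRingCat.ofHom φ.toRingHom)) b)).symm

/-- The map to a spectrum given by a homomorphism into functions. -/
lemma exists_toTSpec {B : Type u} [CommRing B] [Algebra K B] (X : Over (Spec (CommRingCat.of K)))
    (φ : B →ₐ[K] Γ(X.left, ⊤)) : ∃ x : X ⟶ TSpec (K := K) B, ∀ b, pull x (ev B b) = φ b := by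
  let l : X.left ⟶ Spec (CommRingCat.of B) := X.left.toSpecΓ ≫ Spec.map (CommRingCat.ofHom φ.toRingHom)
  have w : l ≫ Spec.map (CommRingCat.ofHom (algebraMap K B)) = X.hom := by
    rw [Category.assoc, ← Spec.map_comp, ← CommRingCat.ofHom_comp,
      show φ.toRingHom.comp (algebraMap K B) = algebraMap K Γ(X.left, ⊤) from φ.comp_algebraMap]
    have h := Scheme.toSpecΓ_naturality X.hom
    rw [← SpecMap_ΓSpecIso_hom] at h
    rw [← cancel_mono (Spec.map (Scheme.ΓSpecIso (CommRingCat.of K)).hom), h, Category.assoc]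
    rw [← Spec.map_comp]
    congr 1
    apply Spec.map_injective.eq_iff.mpr
    refine CommRingCat.hom_ext (RingHom.ext fun a => ?_)
    show X.hom.appTop ((Scheme.ΓSpecIso (CommRingCat.of K)).inv ((Scheme.ΓSpecIso (CommRingCat.of K)).hom a)) = X.hom.appTop a
    rw [← CommRingCat.comp_apply, ← CommRingCat.comp_apply, Iso.hom_inv_id_assoc]
  refine ⟨Over.homMk l w, fun b => ?_⟩
  show l.appTop ((Scheme.ΓSpecIso (CommRingCat.of B)).inv b) = φ b
  simp only [l, Scheme.Hom.comp_appTop, Scheme.toSpecΓ_appTop, CommRingCat.comp_apply]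
  rw [← CommRingCat.comp_apply _ (Spec.map _).appTop, ← Scheme.ΓSpecIso_inv_naturality, CommRingCat.comp_apply]
  exact congr($((Scheme.ΓSpecIso _).inv_hom_id) (φ b))

lemma pull_algebraMap {X Y : Over (Spec (CommRingCat.of K))} (f : X ⟶ Y) (c : K) :
    pull f (algebraMap K _ c) = algebraMap K _ c := (pull f).commutes c

lemma pull_one_apply {G X : Over (Spec (CommRingCat.of K))} [GrpObj G] (f : Γ(G.left, ⊤)) :
    pull (1 : X ⟶ G) f = algebraMap K _ ((Scheme.ΓSpecIso (CommRingCat.of K)).hom (pull η[G] f)) := by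
  rw [Hom.one_def, ← pull_pull]
  obtain ⟨c, hc⟩ := (ConcreteCategory.bijective_of_isIso (Scheme.ΓSpecIso (CommRingCat.of K)).inv).2 (pull η[G] f)
  rw [← hc]
  have h : (Scheme.ΓSpecIso (CommRingCat.of K)).hom ((Scheme.ΓSpecIso (CommRingCat.of K)).inv c) = c :=
    congr($((Scheme.ΓSpecIso (CommRingCat.of K)).inv_hom_id) c)
  rw [h]
  rfl

lemma gmFn_one (X : Over (Spec (CommRingCat.of K))) :
    Red.gmFn (1 : X ⟶ Red.Gm (Spec (CommRingCat.of K))) = 1 :=
  (gm_isUnit (1 : X ⟶ Red.Gm (Spec (CommRingCat.of K)))).mul_left_cancel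
    ((gm_mul 1 1).symm.trans ((congrArg Red.gmFn (_root_.one_mul _)).trans (_root_.mul_one _).symm))

/-- A coefficient of a Laurent polynomial. -/
noncomputable def coeffL {M : Type} [AddCommGroup M] (m : M) : Laurent K M →ₗ[K] K where
  toFun p := p.coeff (Multiplicative.ofAdd m)
  map_add' _ _ := rfl
  map_smul' _ _ := rfl

lemma coeffL_apply {M : Type} [AddCommGroup M] (m : M) (p : Laurent K M) :
    coeffL m p = p.coeff (Multiplicative.ofAdd m) := rfl

instance (B : Type u) [CommRing B] [Algebra K B] : CompactSpace (TSpec (K := K) B).left :=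
  inferInstanceAs (CompactSpace (Spec (CommRingCat.of B)))

instance (B : Type u) [CommRing B] [Algebra K B] : IsAffine (TSpec (K := K) B).left :=
  inferInstanceAs (IsAffine (Spec (CommRingCat.of B)))

instance (X : Over (Spec (CommRingCat.of K))) [IsAffine X.left] : QuasiSeparated X.hom :=
  have : IsAffineHom X.hom := inferInstance
  inferInstance

instance : IsAffine (𝟙_ (Over (Spec (CommRingCat.of K)))).left :=
  inferInstanceAs (IsAffine (Spec (CommRingCat.of K)))

/-- Coefficient comparison for a multiplicative matrix Laurent polynomial. -/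
lemma proj_of_coeff {R : Type u} [CommRing R] [Algebra K R] {n : ℕ} (S : Finset ℤ)
    (P : ℤ → Matrix (Fin n) (Fin n) K) (x y z : ℤ → R) (c : R →ₗ[K] K) {a b : ℤ} (ha : a ∈ S) (hb : b ∈ S)
    (hxy : ∀ a' b', c (x a' * y b') = if a' = a ∧ b' = b then 1 else 0)
    (hz : ∀ a', c (z a') = if a' = a ∧ a' = b then 1 else 0)
    (h : ∀ l m, ∑ a' ∈ S, P a' l m • z a' = ∑ j, (∑ a' ∈ S, P a' l j • x a') * (∑ b' ∈ S, P b' j m • y b')) :
    P a * P b = if a = b then P a else 0 := by
  refine Matrix.ext fun l m => ?_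
  have h' := congrArg c (h l m)
  simp only [Finset.sum_mul, Finset.mul_sum, smul_mul_smul_comm, map_sum, map_smul, hxy, hz, smul_eq_mul,
    mul_ite, _root_.mul_one, mul_zero] at h'
  rw [Matrix.mul_apply]
  have e : ∀ j, ∑ b' ∈ S, ∑ a' ∈ S, (if a' = a ∧ b' = b then P a' l j * P b' j m else 0) = P a l j * P b j m := by
    intro j
    rw [Finset.sum_eq_single b (fun b' _ hne => Finset.sum_eq_zero fun a' _ => if_neg fun h => hne h.2)
      (fun hn => absurd hb hn), Finset.sum_eq_single a (fun a' _ hne => if_neg fun h => hne h.1)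
      (fun hn => absurd ha hn), if_pos ⟨rfl, rfl⟩]
  have e' : ∀ j, ∑ a' ∈ S, ∑ b' ∈ S, (if a' = a ∧ b' = b then P a' l j * P b' j m else 0) = P a l j * P b j m :=
    fun j => Finset.sum_comm.trans (e j)
  refine Eq.trans ?_ (h'.symm.trans ?_)
  · exact Finset.sum_congr rfl fun j _ => by first | exact (e j).symm | exact (e' j).symm
  · by_cases hab : a = b
    · subst hab
      rw [if_pos rfl, Finset.sum_eq_single a (fun a' _ hne => if_neg fun h => hne h.1)
        (fun hn => absurd ha hn), if_pos ⟨rfl, rfl⟩]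
    · rw [if_neg hab]
      exact Finset.sum_eq_zero fun a' _ => if_neg fun h => hab (h.1.symm.trans h.2)

/-- The determinant of a scalar perturbation by an idempotent. -/
lemma det_idem {R : Type u} [CommRing R] [Algebra K R] {n : ℕ} (P : Matrix (Fin n) (Fin n) K) (hP : P * P = P) (s : R) :
    (1 + (s - 1) • P.map (algebraMap K R)).det = s ^ P.rank := by
  classical
  let W : Submodule K (Fin n → K) := LinearMap.range P.mulVecLin
  let b : Module.Basis (Fin (Module.finrank K W)) K W := Module.finBasis K W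
  let A : Matrix (Fin n) (Fin (Module.finrank K W)) K := LinearMap.toMatrix b (Pi.basisFun K (Fin n)) W.subtype
  let B : Matrix (Fin (Module.finrank K W)) (Fin n) K := LinearMap.toMatrix (Pi.basisFun K (Fin n)) b P.mulVecLin.rangeRestrict
  have hAB : A * B = P := by
    rw [← LinearMap.toMatrix_comp (Pi.basisFun K (Fin n)) b (Pi.basisFun K (Fin n))]
    show LinearMap.toMatrix (Pi.basisFun K (Fin n)) (Pi.basisFun K (Fin n)) P.mulVecLin = P
    rw [LinearMap.toMatrix_eq_toMatrix']
    exact LinearMap.toMatrix'_toLin' P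
  have hBA : B * A = 1 := by
    rw [← LinearMap.toMatrix_comp]
    refine (congrArg _ (LinearMap.ext fun w => Subtype.ext ?_)).trans (LinearMap.toMatrix_id b)
    obtain ⟨v, hv⟩ := w.2
    show P.mulVec (w : Fin n → K) = w
    rw [← hv]
    show P.mulVec (P.mulVec v) = P.mulVec v
    rw [Matrix.mulVec_mulVec, hP]
  rw [← hAB, Matrix.map_mul, ← Matrix.smul_mul, Matrix.det_one_add_mul_comm, Matrix.mul_smul,
    ← Matrix.map_mul, hBA, Matrix.map_one _ (map_zero _) (map_one _)]
  rw [show (1 : Matrix (Fin (Module.finrank K W)) (Fin (Module.finrank K W)) R) + (s - 1) • 1 = s • 1 by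
    rw [sub_smul, one_smul, add_sub_cancel], Matrix.det_smul, Matrix.det_one, _root_.mul_one, Fintype.card_fin]
  rw [hAB]
  rfl

end

set_option maxHeartbeats 800000 in
/-- Over an algebraically closed field k, let E and G be linear algebraic groups (affine smooth k-group
schemes) with G connected, i : 𝔾_m → E a homomorphism which is a closed immersion with central
image, and f : E → G a flat surjective homomorphism with kernel i (a central extension 1 → 𝔾_m → E →
G → 1). Then there exist a character χ : E → 𝔾_m and an integer n ≥ 1 such that χ ∘ i is the n-th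
power map of 𝔾_m: for every point t of 𝔾_m with values in a k-scheme T, χ(i(t)) = tⁿ in the group of
T-points of 𝔾_m. (The published lemma is stated in a setting where all groups are linear; for a
connected G that is not linear the conclusion can fail.) -/
theorem result (k : Type u) [Field k] [IsAlgClosed k]
    (E G : Over (Spec (CommRingCat.of k))) [GrpObj E] [IsAffine E.left] [Smooth E.hom]
    [GrpObj G] [IsAffine G.left] [Smooth G.hom] [ConnectedSpace ↥G.left]
    (i : Red.Gm (Spec (CommRingCat.of k)) ⟶ E) [IsMonHom i] [IsClosedImmersion i.left]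
    (hcent : ∀ (T : Over (Spec (CommRingCat.of k))) (t : T ⟶ Red.Gm (Spec (CommRingCat.of k))) (g : T ⟶ E),
      (t ≫ i) * g = g * (t ≫ i))
    (f : E ⟶ G) [IsMonHom f] [Flat f.left] [Surjective f.left] (hker : AlgGrp.IsKernel i f) :
    ∃ (χ : E ⟶ Red.Gm (Spec (CommRingCat.of k))) (n : ℕ), IsMonHom χ ∧ 1 ≤ n ∧
      ∀ (T : Over (Spec (CommRingCat.of k))) (t : T ⟶ Red.Gm (Spec (CommRingCat.of k))), (t ≫ i) ≫ χ = t ^ n := by
  classical
  let Gm := Red.Gm (Spec (CommRingCat.of k))
  let L := Laurent k ℤ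
  let T : ℤ → L := fun m => MonoidAlgebra.single (Multiplicative.ofAdd m) (1 : k)
  have hT : ∀ a b, T (a + b) = T a * T b := fun a b => by
    simp only [T]
    rw [MonoidAlgebra.single_mul_single, _root_.mul_one, ofAdd_add]
  -- the universal point
  have hu : IsUnit (ev (K := k) L (T 1)) :=
    (IsUnit.of_mul_eq_one (T (-1)) (by rw [← hT]; rfl)).map (ev (K := k) L)
  obtain ⟨τ, hτ⟩ := gm_surjective (S := Spec (CommRingCat.of k)) hu
  let u : Γ(Gm.left, ⊤) := Red.gmFn (𝟙 Gm)
  have hu' : IsUnit u := gm_isUnit _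
  obtain ⟨σ, hσ⟩ := exists_toTSpec (B := L) Gm
    (MonoidAlgebra.lift k Γ(Gm.left, ⊤) (Multiplicative ℤ) ((Units.coeHom _).comp (zpowersHom _ hu'.unit)))
  have hστ : σ ≫ τ = 𝟙 Gm := gm_injective (by
    rw [gm_comp, hτ]
    refine (hσ (T 1)).trans ?_
    rw [MonoidAlgebra.lift_single]
    simp [u])
  -- a function which is not constant on the image of the multiplicative group
  obtain ⟨f₀, hf₀⟩ : ∃ f₀ : Γ(E.left, ⊤), pull (τ ≫ i) f₀ ≠ pull (1 : TSpec (K := k) L ⟶ E) f₀ := by
    by_contra h
    simp only [not_exists, not_not] at h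
    have h1 : τ ≫ i = 1 := by
      ext1
      exact ext_of_isAffine (CommRingCat.hom_ext (RingHom.ext h))
    have h2 : τ = 1 := by
      have : Mono i := (Over.forget _).mono_of_mono_map (inferInstanceAs (Mono i.left))
      rw [← cancel_mono i, h1, MonObj.one_comp]
    have h3 : Red.gmFn τ = Red.gmFn (1 : TSpec (K := k) L ⟶ Gm) := by rw [h2]
    rw [hτ, gmFn_one] at h3
    have h4 : T 1 = 1 := (ev (K := k) L).injective (h3.trans (map_one _).symm)
    have h5 := congrArg (fun p : L => p.coeff (Multiplicative.ofAdd (0 : ℤ))) h4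
    simp [T, MonoidAlgebra.one_def] at h5
  -- the representation
  have : CompactSpace E.left := inferInstance
  have : QuasiSeparated E.hom := inferInstance
  obtain ⟨n, e, M, c, hM, hf, he⟩ := exists_matrix E f₀
  let mat : ∀ {X : Over (Spec (CommRingCat.of k))} (x : X ⟶ E), Matrix (Fin n) (Fin n) Γ(X.left, ⊤) :=
    fun x => M.map (pull x)
  have hmat : ∀ {X Y : Over (Spec (CommRingCat.of k))} (h : Y ⟶ X) (x : X ⟶ E),
      mat (h ≫ x) = (mat x).map (pull h) := fun h x => by
    ext a b
    exact (pull_pull h x (M a b)).symm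
  have hexp : ∀ {X : Over (Spec (CommRingCat.of k))} (x y : X ⟶ E) (m : Fin n),
      pull (x * y) (e m) = ∑ l, pull x (e l) * mat y l m := fun x y m => by
    rw [Hom.mul_def, ← pull_pull, hM, map_sum]
    refine Finset.sum_congr rfl fun l _ => ?_
    rw [map_mul, pull_pull, pull_pull, lift_fst, lift_snd]
    rfl
  have hindep : ∀ (X : Over (Spec (CommRingCat.of k))) [CompactSpace X.left] [QuasiSeparated X.hom]
      (d d' : Fin n → Γ(X.left, ⊤)),
      (∑ l, pull (fst E X) (e l) * pull (snd E X) (d l) = ∑ l, pull (fst E X) (e l) * pull (snd E X) (d' l)) →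
      d = d' := fun X _ _ d d' h => by
    refine coeff_eq_of_linearIndependent he ((bijective_prodMap E X).1 ?_)
    simpa only [map_sum, prodMap_tmul] using h
  have hmul : ∀ (X : Over (Spec (CommRingCat.of k))) [CompactSpace X.left] [QuasiSeparated X.hom]
      (x y : X ⟶ E), mat (x * y) = mat x * mat y := fun X _ _ x y => by
    refine Matrix.ext fun l m => ?_
    have key := hindep X (fun l => mat (x * y) l m) (fun l => (mat x * mat y) l m) (by
      calc ∑ l, pull (fst E X) (e l) * pull (snd E X) (mat (x * y) l m)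
          = pull (fst E X * (snd E X ≫ (x * y))) (e m) := by
            rw [hexp, hmat]; rfl
        _ = pull ((fst E X * (snd E X ≫ x)) * (snd E X ≫ y)) (e m) := by
            rw [MonObj.comp_mul, _root_.mul_assoc]
        _ = ∑ l, pull (fst E X) (e l) * pull (snd E X) ((mat x * mat y) l m) := by
            rw [hexp]
            simp only [hexp, hmat, Matrix.mul_apply, Matrix.map_apply, Finset.sum_mul, map_sum, map_mul,
              Finset.mul_sum]
            rw [Finset.sum_comm]
            simp only [_root_.mul_assoc])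
    exact congrFun key l
  have hone : ∀ (X : Over (Spec (CommRingCat.of k))) [CompactSpace X.left] [QuasiSeparated X.hom],
      mat (1 : X ⟶ E) = 1 := fun X _ _ => by
    refine Matrix.ext fun l m => ?_
    have key := hindep X (fun l => mat (1 : X ⟶ E) l m) (fun l => (1 : Matrix (Fin n) (Fin n) _) l m) (by
      have h := hexp (fst E X) (snd E X ≫ (1 : X ⟶ E)) m
      rw [MonObj.comp_one, _root_.mul_one, ← MonObj.comp_one (snd E X), hmat] at h
      refine Eq.trans ?_ (show pull (fst E X) (e m) = _ by simp [Matrix.one_apply, apply_ite, mul_ite])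
      exact h.symm)
    exact congrFun key l
  -- weight decomposition
  let TL := TSpec (K := k) L
  let coef : ℤ → Γ(TL.left, ⊤) →ₗ[k] k := fun m =>
    (coeffL m).comp (ev (K := k) L).symm.toLinearMap
  have hcoef : ∀ a m : ℤ, coef m (ev (K := k) L (T a)) = if a = m then 1 else 0 := fun a m => by
    simp [coef, coeffL_apply, T, Finsupp.single_apply]
  let N := mat (τ ≫ i)
  let P : ℤ → Matrix (Fin n) (Fin n) k := fun m => N.map (coef m)
  obtain ⟨S, hS⟩ : ∃ S : Finset ℤ, ∀ l m, N l m = ∑ a ∈ S, P a l m • ev (K := k) L (T a) := by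
    let S : Finset ℤ := (Finset.univ : Finset (Fin n × Fin n)).biUnion fun lm =>
      ((ev (K := k) L).symm (N lm.1 lm.2)).coeff.support.image Multiplicative.toAdd
    refine ⟨S, fun l m => ?_⟩
    apply (ev (K := k) L).symm.injective
    simp only [map_sum, map_smul, AlgEquiv.symm_apply_apply]
    refine MonoidAlgebra.ext (Finsupp.ext fun z => ?_)
    change coeffL (Multiplicative.toAdd z) _ = coeffL (Multiplicative.toAdd z) _
    rw [map_sum]
    have hTc : ∀ a : ℤ, coeffL (K := k) (Multiplicative.toAdd z) (T a) = if a = Multiplicative.toAdd z then 1 else 0 :=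
      fun a => by
        simp only [coeffL_apply, T, MonoidAlgebra.coeff_single, Finsupp.single_apply]
        exact if_congr ⟨fun h => by subst h; rfl, fun h => by subst h; rfl⟩ rfl rfl
    simp only [map_smul, hTc, smul_eq_mul, mul_ite, _root_.mul_one, mul_zero, Finset.sum_ite_eq']
    split_ifs with hz
    · rfl
    · by_contra hne
      refine hz (Finset.mem_biUnion.mpr ⟨(l, m), Finset.mem_univ _, Finset.mem_image.mpr ⟨z, ?_, rfl⟩⟩)
      exact Finsupp.mem_support_iff.mpr hne
  -- products of two universal points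
  let L2 := Laurent k (ℤ × ℤ)
  let T2 : ℤ × ℤ → L2 := fun p => MonoidAlgebra.single (Multiplicative.ofAdd p) (1 : k)
  have hT2 : ∀ p q, T2 p * T2 q = T2 (p + q) := fun p q => by
    simp only [T2]
    rw [MonoidAlgebra.single_mul_single, _root_.mul_one, ofAdd_add]
  let j : (ℤ →+ ℤ × ℤ) → (L →ₐ[k] L2) := fun φ => MonoidAlgebra.mapDomainAlgHom k k (AddMonoidHom.toMultiplicative φ)
  have hj : ∀ φ a, j φ (T a) = T2 (φ a) := fun φ a => MonoidAlgebra.mapDomain_single ..
  have hjN : ∀ φ l m, mat (TMap (j φ) ≫ (τ ≫ i)) l m = ∑ a ∈ S, P a l m • ev (K := k) L2 (T2 (φ a)) := fun φ l m => by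
    rw [hmat, Matrix.map_apply, show mat (τ ≫ i) l m = N l m from rfl, hS, map_sum]
    exact Finset.sum_congr rfl fun a _ => by rw [map_smul, pull_TMap, hj]
  let j1 := AddMonoidHom.inl ℤ ℤ
  let j2 := AddMonoidHom.inr ℤ ℤ
  have hττ : (TMap (j (j1 + j2)) ≫ τ) = (TMap (j j1) ≫ τ) * (TMap (j j2) ≫ τ) := gm_injective (by
    rw [gm_mul, gm_comp, gm_comp, gm_comp, hτ]
    show pull (TMap (j (j1 + j2))) (ev L (T 1)) = pull (TMap (j j1)) (ev L (T 1)) * pull (TMap (j j2)) (ev L (T 1))
    rw [pull_TMap, pull_TMap, pull_TMap, hj, hj, hj, ← map_mul, hT2, AddMonoidHom.add_apply])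
  have hprod : ∀ a ∈ S, ∀ b ∈ S, P a * P b = if a = b then P a else 0 := by
    intro a ha b hb
    have h : mat (TMap (j (j1 + j2)) ≫ (τ ≫ i)) = mat (TMap (j j1) ≫ (τ ≫ i)) * mat (TMap (j j2) ≫ (τ ≫ i)) := by
      rw [← hmul, ← Category.assoc, hττ, MonObj.mul_comp]
      rfl
    let c2 : Γ((TSpec (K := k) L2).left, ⊤) →ₗ[k] k :=
      (coeffL (a, b)).comp (ev (K := k) L2).symm.toLinearMap
    have hc2 : ∀ q, c2 (ev (K := k) L2 (T2 q)) = if q = (a, b) then 1 else 0 := fun q => by
      simp [c2, coeffL_apply, T2, Finsupp.single_apply]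
    refine proj_of_coeff S P (fun a' => ev (K := k) L2 (T2 (j1 a'))) (fun b' => ev (K := k) L2 (T2 (j2 b')))
      (fun a' => ev (K := k) L2 (T2 ((j1 + j2) a'))) c2 ha hb (fun a' b' => ?_) (fun a' => ?_) fun l m => ?_
    · rw [← map_mul, hT2, hc2]
      exact if_congr (by simp [j1, j2, Prod.ext_iff]) rfl rfl
    · rw [hc2]
      exact if_congr (by simp [j1, j2, Prod.ext_iff]) rfl rfl
    · have h' := congrFun (congrFun h l) m
      rw [Matrix.mul_apply] at h'
      simpa only [hjN] using h'
  -- a nonzero weight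
  obtain ⟨w, hwS, hw0, hwP⟩ : ∃ w ∈ S, w ≠ 0 ∧ P w ≠ 0 := by
    by_contra hcon
    simp only [not_exists, not_and, not_not] at hcon
    have hN : ∀ l m, N l m = algebraMap k _ (P 0 l m) := fun l m => by
      rw [hS l m]
      rw [Finset.sum_eq_single 0]
      · rw [show T 0 = 1 from MonoidAlgebra.one_def.symm, map_one, Algebra.algebraMap_eq_smul_one]
      · intro a ha hne
        rw [show P a l m = 0 by rw [hcon a ha hne]; rfl, zero_smul]
      · intro h0
        rw [show P 0 l m = 0 from ?_, zero_smul]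
        by_contra hne
        refine hne ?_
        show coef 0 (N l m) = 0
        rw [hS l m, map_sum]
        refine Finset.sum_eq_zero fun a ha => ?_
        rw [map_smul, hcoef, if_neg (fun (h : a = 0) => h0 (h ▸ ha)), smul_zero]
    have hconst : N = 1 := by
      let z : L →ₐ[k] k := MonoidAlgebra.lift k k (Multiplicative ℤ) 1
      let q : TL ⟶ TL := TMap ((Algebra.ofId k L).comp z)
      have hq : q ≫ τ = 1 := gm_injective (by
        rw [gm_comp, hτ, gmFn_one]
        refine (pull_TMap ((Algebra.ofId k L).comp z) (T 1)).trans ?_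
        rw [AlgHom.comp_apply, Algebra.ofId_apply, show z (T 1) = 1 from (MonoidAlgebra.lift_single ..).trans (by simp), map_one, map_one])
      refine Matrix.ext fun l m => ?_
      have h := congrFun (congrFun (hmat q (τ ≫ i)) l) m
      rw [← Category.assoc, hq, MonObj.one_comp, hone, Matrix.map_apply] at h
      rw [h, show mat (τ ≫ i) l m = N l m from rfl, hN, pull_algebraMap]
    refine hf₀ ?_
    rw [hf, map_sum, map_sum]
    refine Finset.sum_congr rfl fun m _ => ?_
    rw [map_smul, map_smul]
    congr 1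
    have h := hexp (1 : TL ⟶ E) (τ ≫ i) m
    rw [_root_.one_mul] at h
    rw [h, show mat (τ ≫ i) = N from rfl, hconst]
    simp [Matrix.one_apply]
  -- the weight projection commutes with the representation
  have hidem : P w * P w = P w := by rw [hprod w hwS w hwS, if_pos rfl]
  let Pw : ∀ (R : Type u) [CommRing R] [Algebra k R], Matrix (Fin n) (Fin n) R :=
    fun R _ _ => (P w).map (algebraMap k R)
  have hcomm : ∀ {X : Over (Spec (CommRingCat.of k))} (x : X ⟶ E),
      mat x * Pw _ = Pw _ * mat x := by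
    have key : M * Pw _ = Pw _ * M := by
      have : IsAffine (E ⊗ TL).left := inferInstanceAs (IsAffine (pullback E.hom TL.hom))
      let g := fst E TL
      let t := snd E TL ≫ τ ≫ i
      have h : mat g * mat t = mat t * mat g := by
        rw [← hmul, ← hmul]
        congr 1
        rw [show t = (snd E TL ≫ τ) ≫ i from (Category.assoc _ _ _).symm]
        exact (hcent _ _ _).symm
      refine Matrix.ext fun l m => ?_
      have h' := congrFun (congrFun h l) m
      let Ψ : Γ((E ⊗ TL).left, ⊤) →ₗ[k] Γ(E.left, ⊤) :=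
        (TensorProduct.rid k _).toLinearMap ∘ₗ (coef w).lTensor _ ∘ₗ
          (LinearEquiv.ofBijective (prodMap E TL).toLinearMap (bijective_prodMap E TL)).symm.toLinearMap
      have hΨ : ∀ (f : Γ(E.left, ⊤)) (s : Γ(TL.left, ⊤)), Ψ (pull (fst E TL) f * pull (snd E TL) s) = coef w s • f := by
        intro f s
        have : (LinearEquiv.ofBijective (prodMap E TL).toLinearMap (bijective_prodMap E TL)).symm
            (pull (fst E TL) f * pull (snd E TL) s) = f ⊗ₜ s := by
          rw [LinearEquiv.symm_apply_eq]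
          exact (prodMap_tmul E TL f s).symm
        simp only [Ψ, LinearMap.comp_apply, LinearEquiv.coe_coe, this, LinearMap.lTensor_tmul, TensorProduct.rid_tmul]
      have ht : ∀ a b, mat t a b = pull (snd E TL) (N a b) := fun a b => by
        rw [hmat]; rfl
      have hg : ∀ a b, mat g a b = pull (fst E TL) (M a b) := fun a b => rfl
      have h'' := congrArg Ψ h'
      simp only [Matrix.mul_apply, ht, hg, map_sum] at h''
      have hswap : ∀ a b c d, Ψ (pull (snd E TL) (N a b) * pull (fst E TL) (M c d)) = P w a b • M c d :=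
        fun a b c d => by rw [mul_comm, hΨ]; rfl
      simp only [hΨ, hswap] at h''
      simp only [Matrix.mul_apply, Pw, Matrix.map_apply]
      refine Eq.trans ?_ (h''.trans (Finset.sum_congr rfl fun a _ => Algebra.smul_def _ _))
      exact Finset.sum_congr rfl fun a _ => (mul_comm _ _).trans (Algebra.smul_def _ _).symm
    intro X x
    have h := congrArg (fun Q : Matrix (Fin n) (Fin n) Γ(E.left, ⊤) => Q.map (pull x)) key
    simp only [Matrix.map_mul] at h
    have e : (Pw Γ(E.left, ⊤)).map (pull x) = Pw Γ(X.left, ⊤) := by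
      ext a b; exact pull_algebraMap x _
    rw [e] at h
    exact h
  have hPidem : ∀ (R : Type u) [CommRing R] [Algebra k R], Pw R * Pw R = Pw R := fun R _ _ => by
    simp only [Pw, ← Matrix.map_mul, hidem]
  let Q : ∀ {X : Over (Spec (CommRingCat.of k))} (x : X ⟶ E), Matrix (Fin n) (Fin n) Γ(X.left, ⊤) :=
    fun x => Pw _ * mat x + (1 - Pw _)
  have hQnat : ∀ {X Y : Over (Spec (CommRingCat.of k))} (h : Y ⟶ X) (x : X ⟶ E),
      Q (h ≫ x) = (Q x).map (pull h) := fun {X Y} h x => by
    have e : (Pw Γ(X.left, ⊤)).map (pull h) = Pw Γ(Y.left, ⊤) := by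
      ext a b; exact pull_algebraMap h _
    simp only [Q, Matrix.map_add, map_add, implies_true, Matrix.map_mul, Matrix.map_sub, map_sub,
      Matrix.map_one _ (map_zero _) (map_one _), e, hmat]
  have hQmul : ∀ (X : Over (Spec (CommRingCat.of k))) [CompactSpace X.left] [QuasiSeparated X.hom]
      (x y : X ⟶ E), Q (x * y) = Q x * Q y := fun X _ _ x y => by
    have h1 : (1 - Pw _) * (Pw _ * mat y) = 0 := by
      rw [← _root_.mul_assoc, sub_mul, _root_.one_mul, hPidem, sub_self, zero_mul]
    have h2 : Pw _ * mat x * (1 - Pw _) = 0 := by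
      rw [_root_.mul_assoc, mul_sub, _root_.mul_one, hcomm, mul_sub, ← _root_.mul_assoc, hPidem, sub_self]
    have h3 : (1 - Pw Γ(X.left, ⊤)) * (1 - Pw _) = 1 - Pw _ := by
      rw [sub_mul, _root_.one_mul, mul_sub, _root_.mul_one, hPidem, sub_self, sub_zero]
    have h4 : Pw _ * mat x * (Pw _ * mat y) = Pw _ * mat (x * y) := by
      rw [hmul, _root_.mul_assoc, ← _root_.mul_assoc (mat x), hcomm, _root_.mul_assoc (Pw _) (mat x),
        ← _root_.mul_assoc (Pw _) (Pw _), hPidem]
    simp only [Q, add_mul, mul_add, h1, h2, h3, h4, add_zero, zero_add]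
  have hQone : ∀ (X : Over (Spec (CommRingCat.of k))) [CompactSpace X.left] [QuasiSeparated X.hom],
      Q (1 : X ⟶ E) = 1 := fun X _ _ => by
    simp only [Q, hone, _root_.mul_one, add_sub_cancel]
  let d : Γ(E.left, ⊤) := (Q (𝟙 E)).det
  have hdnat : ∀ {X : Over (Spec (CommRingCat.of k))} (x : X ⟶ E), (Q x).det = pull x d := fun x => by
    rw [show pull x d = (pull x).toRingHom d from rfl, RingHom.map_det]
    show _ = ((Q (𝟙 E)).map (pull x)).det
    rw [← hQnat, Category.comp_id]
  have hd : IsUnit d := IsUnit.of_mul_eq_one (Q ((𝟙 E)⁻¹ : E ⟶ E)).det (by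
    show (Q (𝟙 E)).det * _ = 1
    rw [← Matrix.det_mul, ← hQmul, mul_inv_cancel, hQone, Matrix.det_one])
  obtain ⟨χ, hχ⟩ := gm_surjective (S := Spec (CommRingCat.of k)) (X := E) hd
  have hχx : ∀ {X : Over (Spec (CommRingCat.of k))} (x : X ⟶ E), Red.gmFn (x ≫ χ) = (Q x).det := fun x => by
    rw [gm_comp, hχ, hdnat]; rfl
  have hmon : IsMonHom χ := by
    have hμ : μ[E] = fst E E * snd E E := (MonObj.mul_eq_mul E)
    have : CompactSpace (E ⊗ E).left := by
      have : QuasiCompact (fst E E).left := inferInstanceAs (QuasiCompact (pullback.fst E.hom E.hom))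
      exact QuasiCompact.compactSpace_of_compactSpace (fst E E).left
    have : QuasiSeparated (E ⊗ E).hom := by
      rw [← Over.w (fst E E)]
      have : QuasiSeparated (fst E E).left := inferInstanceAs (QuasiSeparated (pullback.fst E.hom E.hom))
      infer_instance
    refine ⟨gm_injective ?_, gm_injective ?_⟩
    · rw [hχx, MonObj.one_eq_one, hQone, Matrix.det_one, MonObj.one_eq_one, gmFn_one]
    · rw [hχx, hμ, hQmul, Matrix.det_mul, show μ[Gm] = fst Gm Gm * snd Gm Gm from MonObj.mul_eq_mul Gm,
        MonObj.comp_mul, gm_mul, tensorHom_fst, tensorHom_snd, hχx, hχx]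
  -- the composite on the multiplicative group
  have hPpos : 0 < (P w).rank := by
    rw [Nat.pos_iff_ne_zero]
    intro h0
    refine hwP ?_
    rw [Matrix.rank, Submodule.finrank_eq_zero, LinearMap.range_eq_bot] at h0
    exact Matrix.toLin'.map_eq_zero_iff.mp h0
  have hQτ : Q (τ ≫ i) = 1 + (ev (K := k) L (T w) - 1) • Pw _ := by
    have hPN : Pw _ * mat (τ ≫ i) = ev (K := k) L (T w) • Pw _ := by
      refine Matrix.ext fun l m => ?_
      simp only [Matrix.mul_apply, Pw, Matrix.map_apply, Matrix.smul_apply]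
      calc ∑ a, algebraMap k _ (P w l a) * mat (τ ≫ i) a m
          = ∑ b ∈ S, (P w * P b) l m • ev (K := k) L (T b) := by
            simp only [show mat (τ ≫ i) = N from rfl, hS, Finset.mul_sum, Matrix.mul_apply, Finset.sum_smul]
            rw [Finset.sum_comm]
            refine Finset.sum_congr rfl fun b _ => Finset.sum_congr rfl fun a _ => ?_
            rw [← Algebra.smul_def, smul_smul]
        _ = ev (K := k) L (T w) • algebraMap k _ (P w l m) := by
            rw [Finset.sum_eq_single w]
            · rw [hidem, smul_eq_mul, mul_comm, ← Algebra.smul_def]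
            · intro b hb hne
              rw [hprod w hwS b hb, if_neg (Ne.symm hne), Matrix.zero_apply, zero_smul]
            · exact fun h => absurd hwS h
    simp only [Q, hPN, sub_smul, one_smul]
    abel
  have hdet : Red.gmFn ((τ ≫ i) ≫ χ) = ev (K := k) L (T w) ^ (P w).rank := by
    rw [hχx, hQτ, det_idem (P w) hidem]
  have hTn : ∀ (a : ℤ) (r : ℕ), T a ^ r = T (r * a) := fun a r => by
    simp only [T]
    rw [MonoidAlgebra.single_pow, one_pow, ← ofAdd_nsmul, nsmul_eq_mul]
  have hpow : ∀ {X : Over (Spec (CommRingCat.of k))} (x : X ⟶ Gm) (r : ℕ), Red.gmFn (x ^ r) = Red.gmFn x ^ r := by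
    intro X x r
    induction r with
    | zero => rw [pow_zero, pow_zero, gmFn_one]
    | succ r ih => rw [pow_succ, pow_succ, gm_mul, ih]
  have fin : ∀ (χ' : E ⟶ Gm) (r : ℕ), (τ ≫ i) ≫ χ' = τ ^ r →
      ∀ (T' : Over (Spec (CommRingCat.of k))) (t : T' ⟶ Gm), (t ≫ i) ≫ χ' = t ^ r := by
    intro χ' r h T' t
    have ht : t = (t ≫ σ) ≫ τ := by rw [Category.assoc, hστ, Category.comp_id]
    rw [ht, Category.assoc, Category.assoc, Category.assoc, Category.assoc, ← Category.assoc τ, h,
      ← Category.assoc, MonObj.comp_pow]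
    simp only [Category.assoc]
  haveI := hmon
  rcases Int.natAbs_eq w with hw | hw
  · refine ⟨χ, (P w).rank * w.natAbs, hmon, Nat.one_le_iff_ne_zero.mpr (by positivity), fin χ _ ?_⟩
    apply gm_injective
    rw [hdet, hpow, hτ, ← map_pow, ← map_pow, hTn, hTn]
    congr 2
    generalize w.natAbs = N₀ at hw ⊢
    subst hw
    push_cast
    ring
  · have hw' : ∀ {X : Over (Spec (CommRingCat.of k))} (x : X ⟶ Gm), Red.gmFn x⁻¹ * Red.gmFn x = 1 := fun x => by
      rw [← gm_mul, inv_mul_cancel, gmFn_one]
    refine ⟨χ⁻¹, (P w).rank * w.natAbs, ?_, Nat.one_le_iff_ne_zero.mpr (by positivity), fin χ⁻¹ _ ?_⟩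
    · refine ⟨?_, ?_⟩
      · rw [GrpObj.comp_inv, hmon.one_hom, MonObj.one_eq_one]
        exact inv_eq_of_mul_eq_one_right (_root_.mul_one _)
      · let := Hom.commGroup (X := E ⊗ E) (G := Gm)
        rw [GrpObj.comp_inv, hmon.mul_hom, show μ[Gm] = fst Gm Gm * snd Gm Gm from MonObj.mul_eq_mul Gm,
          MonObj.comp_mul, MonObj.comp_mul, tensorHom_fst, tensorHom_snd, tensorHom_fst, tensorHom_snd,
          _root_.mul_inv, GrpObj.comp_inv, GrpObj.comp_inv]
    · apply gm_injective
      rw [GrpObj.comp_inv, hpow]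
      refine (gm_isUnit ((τ ≫ i) ≫ χ)).mul_right_cancel ?_
      rw [hw', hdet, hτ, ← map_pow, ← map_pow, ← map_mul, hTn, hTn, ← hT, ← map_one (ev (K := k) L)]
      congr 1
      rw [show (((P w).rank * w.natAbs : ℕ) : ℤ) * 1 + ((P w).rank : ℤ) * w = 0 by
        generalize w.natAbs = N₀ at hw ⊢
        subst hw
        push_cast
        ring]
      exact MonoidAlgebra.one_def

end Groth.Agent.S16126
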