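import Groth.Statements.S16132
import Groth.Agent.GrpScheme.CharKernel
import Groth.Agent.GrpScheme.NormalOfPoints
import Groth.Agent.GrpArtin.Descend
import Groth.Agent.GrpScheme.IdSubgroup
-- import your own Groth.Agent.* helpers here

set_option autoImplicit false
set_option backward.isDefEq.respectTransparency false
universe u
open CategoryTheory MonoidalCategory CartesianMonoidalCategory MonObj GrpObj AlgebraicGeometry CategoryTheory.Limits
open AlgGrp

namespace Groth.Agent.S16132

open Groth.Agent.SekLib Groth.Agent.RedPts GrpScheme.DiagRep GrpScheme.CharSplit GrpScheme.CharKernel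
open GrpScheme.Rosenlicht (pb pb_comp pb_cst cst)

variable {k : Type u} [Field k] [IsAlgClosed k]

lemma effectiveEpi_tensor {X Y : Over (Spec (CommRingCat.of k))} (π : X ⟶ Y) [Surjective π.left] [Flat π.left]
    [LocallyOfFinitePresentation π.left] : EffectiveEpi (π ⊗ₘ π).left := by
  have hp : (@Surjective ⊓ @Flat ⊓ @LocallyOfFinitePresentation : MorphismProperty Scheme.{u}) π.left :=
    ⟨⟨inferInstance, inferInstance⟩, inferInstance⟩
  have h : (@Surjective ⊓ @Flat ⊓ @LocallyOfFinitePresentation : MorphismProperty Scheme.{u}) (π ⊗ₘ π).left := by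
    rw [MonoidalCategory.tensorHom_def, Over.comp_left]
    exact MorphismProperty.comp_mem _ _ _ (GrpScheme.Basic.whiskerRight_mem _ π _ hp)
      (GrpScheme.Basic.whiskerLeft_mem _ π _ hp)
  obtain ⟨⟨_, _⟩, _⟩ := h
  infer_instance

lemma isKernel_comp_mono {N G E T : Over (Spec (CommRingCat.of k))} [GrpObj G] [GrpObj E] [GrpObj T] {j : N ⟶ G} {π : G ⟶ E}
    (h : AlgGrp.IsKernel j π) (q : E ⟶ T) [IsMonHom q] [Mono q] : AlgGrp.IsKernel j (π ≫ q) := by
  refine ⟨⟨by rw [← Category.assoc, h.w, Category.assoc, IsMonHom.one_hom]⟩, ⟨PullbackCone.IsLimit.mk _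
    (fun c => h.lift c.fst c.snd (by
      rw [← cancel_mono q, Category.assoc, c.condition, Category.assoc, IsMonHom.one_hom]))
    (fun c => h.lift_fst _ _ _) (fun c => toUnit_unique _ _) (fun c m h₁ _ => ?_)⟩⟩
  exact h.hom_ext (h₁.trans (h.lift_fst _ _ _).symm) (toUnit_unique _ _)

/-- Characters of a quotient factor as those of the source. -/
lemma fac_of_quot {G E : Over (Spec (CommRingCat.of k))} [GrpObj G] [GrpObj E] [LocallyOfFiniteType G.hom]
    [LocallyOfFiniteType E.hom] [IsReduced E.left] (π : G ⟶ E) [IsMonHom π] [Surjective π.left] {r : ℕ}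
    {T : Over (Spec (CommRingCat.of k))} [GrpObj T] (C : Chars T (Fin r → ℤ)) (q : G ⟶ T) (q₀ : E ⟶ T)
    (hq : π ≫ q₀ = q) (hchar : ∀ a, IsUnit a → pb η[G] a = 1 → ∃ m, C.θ q m = a)
    (a : Γ(E.left, ⊤)) (ha : IsUnit a) (ha1 : pb η[E] a = 1) : ∃ m, C.θ q₀ m = a := by
  obtain ⟨m, hm⟩ := hchar (pb π a) (ha.map _) (by
    rw [← pb_comp, IsMonHom.one_hom, ha1])
  refine ⟨m, pb_injective π ?_⟩
  rw [← hm, ← hq, C.θ_comp]
  rfl

lemma gm_one {X : Over (Spec (CommRingCat.of k))} : Red.gmFn (1 : X ⟶ Red.Gm (Spec (CommRingCat.of k))) = 1 := by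
  have h := gm_mul (1 : X ⟶ Red.Gm (Spec (CommRingCat.of k))) 1
  exact (gm_isUnit _).mul_left_cancel
    ((congrArg Red.gmFn (_root_.one_mul (1 : X ⟶ Red.Gm (Spec (CommRingCat.of k))))).symm.trans h
      |>.symm.trans (_root_.mul_one _).symm)

lemma pb_eta_gm {G : Over (Spec (CommRingCat.of k))} [GrpObj G] (χ : G ⟶ Red.Gm (Spec (CommRingCat.of k)))
    [IsMonHom χ] : pb η[G] (Red.gmFn χ) = 1 :=
  haveI hu : IsUnit (Red.gmFn (η[G] ≫ χ)) := gm_isUnit _
  have hη : η[G] * η[G] = η[G] := by rw [MonObj.one_eq_one (M := G), _root_.mul_one]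
  have h1 := (congrArg Red.gmFn ((congrArg (· ≫ χ) hη).symm.trans (MonObj.mul_comp η[G] η[G] χ))).trans (gm_mul _ _)
  (gm_comp η[G] χ).symm.trans (hu.mul_left_cancel (h1.symm.trans (_root_.mul_one _).symm))

set_option backward.isDefEq.respectTransparency true in
/-- The character given by an exponent. -/
lemma exists_char {r : ℕ} {T : Over (Spec (CommRingCat.of k))} [GrpObj T] (C : Chars T (Fin r → ℤ)) (m : Fin r → ℤ) :
    ∃ c : T ⟶ Red.Gm (Spec (CommRingCat.of k)), IsMonHom c ∧
      ∀ {X : Over (Spec (CommRingCat.of k))} (x : X ⟶ T), Red.gmFn (x ≫ c) = C.θ x m := by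
  obtain ⟨c, hc⟩ := gm_surjective (S := Spec (CommRingCat.of k))
    (IsUnit.of_mul_eq_one (C.θ (𝟙 T) (-m)) (by rw [← C.θ_add, add_neg_cancel, C.θ_zero]) : IsUnit (C.θ (𝟙 T) m))
  have hy : ∀ {X : Over (Spec (CommRingCat.of k))} (x : X ⟶ T), Red.gmFn (x ≫ c) = C.θ x m := fun x => by
    rw [gm_comp, hc, ← C.θ_comp, Category.comp_id]
  refine ⟨c, ?_, hy⟩
  exact WittLib.Basic.isMonHom_of_points _ fun X x y =>
    gm_injective (((hy (x * y)).trans (C.θ_mul x y m)).trans
      ((gm_mul (x ≫ c) (y ≫ c)).trans (congrArg₂ (· * ·) (hy x) (hy y))).symm)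

/-- Over an algebraically closed field k, let G be a connected algebraic group (a smooth connected
k-group scheme of finite type, not necessarily affine). Then G has a largest torus quotient through
which all characters factor: there are a torus T (isomorphic to the diagonalizable group of ℤ^r for
some r), a flat surjective homomorphism q : G → T such that every character χ : G → 𝔾_m is χ' ∘ q
for some character χ' of T, and a kernel h : H → G of q (a homomorphism from a k-group scheme H
making the square against the unit section of T cartesian) with H connected and every character of H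
trivial. (So H is the smallest closed normal subgroup scheme of G with G/H a torus, and restriction
identifies the characters of G/H with those of G.) -/
theorem result (k : Type u) [Field k] [IsAlgClosed k]
    (G : Over (Spec (CommRingCat.of k))) [GrpObj G] [Smooth G.hom] [QuasiCompact G.hom] [ConnectedSpace ↥G.left] :
    ∃ (r : ℕ) (T : Over (Spec (CommRingCat.of k))) (_ : GrpObj T) (_ : Red.IsSplitTorusWith (Fin r → ℤ) T)
      (q : G ⟶ T) (_ : IsMonHom q) (H : Over (Spec (CommRingCat.of k))) (_ : GrpObj H) (h : H ⟶ G) (_ : IsMonHom h),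
      Flat q.left ∧ Surjective q.left ∧ AlgGrp.IsKernel h q ∧ ConnectedSpace ↥H.left ∧
      (∀ χ : G ⟶ Red.Gm (Spec (CommRingCat.of k)), IsMonHom χ → ∃ χ' : T ⟶ Red.Gm (Spec (CommRingCat.of k)), IsMonHom χ' ∧ q ≫ χ' = χ) ∧
      (∀ ψ : H ⟶ Red.Gm (Spec (CommRingCat.of k)), IsMonHom ψ → ψ = 1) := by
  have : IsIntegral G.left := GrpScheme.Rosenlicht.isIntegral_group G
  obtain ⟨r, T, gT, C, hTsplit, q, hqm, hqs, hTr, hTa, hTl, hTq, hchar, -⟩ := exists_basis_chars (G := G)
  have hqf : Flat q.left := GrpScheme.HomFlat.flat_of_surjective q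
  obtain ⟨K, gK, iK, hiK, hker⟩ := GrpScheme.AffineHom.exists_kernel q
  have : IsClosedImmersion η[T].left :=
    Groth.Agent.GrpArtin.Descend.isClosedImmersion_unit _
  have hiKc : IsClosedImmersion iK.left := MorphismProperty.of_isPullback
    (GrpdLib.GrpOver.isPullback_left hker).flip ‹IsClosedImmersion η[T].left›
  have : Mono iK.left := inferInstance
  have : Mono iK := Over.mono_of_mono_left iK
  have : LocallyOfFiniteType K.hom := by rw [← Over.w iK]; infer_instance
  have : QuasiCompact K.hom := by rw [← Over.w iK]; infer_instance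
  obtain ⟨R, gR, rR, hrR, hrc, hRsm, hRconn, hRqc, hRrange, -⟩ :=
    GrpScheme.RedIdComponent.exists_reduced_idComponent_range K
  let j : R ⟶ G := rR ≫ iK
  have : IsClosedImmersion j.left := inferInstanceAs (IsClosedImmersion (rR.left ≫ iK.left))
  have : Mono j.left := inferInstance
  have : Mono j := Over.mono_of_mono_left j
  have : IsIntegral R.left := GrpScheme.Rosenlicht.isIntegral_group R
  have hfacR : ∀ {X : Over (Spec (CommRingCat.of k))} [IsIntegral X.left] (x₀ : Pt X) (f : X ⟶ G),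
      f ≫ q = 1 → x₀ ≫ f = 1 → ∃ g : X ⟶ R, g ≫ j = f := by
    intro X _ x₀ f hf hx
    obtain ⟨f', hf'⟩ := GrpdLib.GrpOver.kernel_factor hker f hf
    have hx' : x₀ ≫ f' = η[K] := by
      rw [← cancel_mono iK, Category.assoc, hf', hx, IsMonHom.one_hom, MonObj.one_eq_one]
    have hr : Set.range f'.left ⊆ Set.range rR.left := by
      rw [hRrange]
      refine (isPreconnected_range f'.left.continuous).subset_connectedComponent ⟨cpt x₀, ?_⟩
      rw [cpt, ← Scheme.Hom.comp_apply, ← Over.comp_left, hx']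
      all_goals exact congrArg η[K].left (Subsingleton.elim (α := PrimeSpectrum k) _ _)
    obtain ⟨g, hg⟩ := RedSub.exists_lift_closed rR.left f'.left hr
    let g' : X ⟶ R := Over.homMk g (by rw [← Over.w rR, reassoc_of% hg, Over.w])
    exact ⟨g', by rw [← hf', show g' ≫ j = (g' ≫ rR) ≫ iK from (Category.assoc _ _ _).symm,
      show g' ≫ rR = f' from Over.OverMorphism.ext hg]⟩
  have hjq : j ≫ q = 1 := GrpdLib.GrpOver.comp_kernel_comp hker rR
  have : IsIntegral (G ⊗ R).left := GrpScheme.Rosenlicht.isIntegral_tensor G R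
  have : IsIntegral (G ⊗ G).left := GrpScheme.Rosenlicht.isIntegral_tensor G G
  obtain ⟨c, hc⟩ : ∃ c : G ⊗ R ⟶ R, c ≫ j = fst G R * (snd G R ≫ j) * (fst G R)⁻¹ := by
    refine hfacR (lift 1 1) _ ?_ ?_
    · rw [MonObj.mul_comp, MonObj.mul_comp, GrpObj.inv_comp, Category.assoc, hjq, MonObj.comp_one,
        _root_.mul_one, mul_inv_cancel]
    · rw [MonObj.comp_mul, MonObj.comp_mul, GrpObj.comp_inv, lift_fst, lift_snd_assoc, MonObj.one_comp,
        _root_.mul_one, mul_inv_cancel]
  have hjn : AlgGrp.IsNormalHom j := fun X g n => ⟨lift g n ≫ c, by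
    rw [Category.assoc, hc, MonObj.comp_mul, MonObj.comp_mul, GrpObj.comp_inv, lift_fst, lift_snd_assoc]⟩
  let δ : G ⊗ G ⟶ G := fst G G * snd G G * (fst G G)⁻¹ * (snd G G)⁻¹
  have hδ1 : ∀ {X : Over (Spec (CommRingCat.of k))} (a : X ⟶ G), lift a 1 ≫ δ = 1 ∧ lift 1 a ≫ δ = 1 := by
    intro X a
    simp only [δ, MonObj.comp_mul, GrpObj.comp_inv, lift_fst, lift_snd]
    constructor <;> group
  obtain ⟨w, hw⟩ : ∃ w : G ⊗ G ⟶ R, w ≫ j = δ := by
    refine hfacR (lift 1 1) δ ?_ (hδ1 1).1
    simp only [δ, MonObj.mul_comp, GrpObj.inv_comp]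
    rw [show (fst G G ≫ q) * (snd G G ≫ q) = (snd G G ≫ q) * (fst G G ≫ q) from
      C.θ_ext fun m => by rw [C.θ_mul, C.θ_mul, mul_comm], mul_inv_cancel_right, mul_inv_cancel]
  have hconnR : ConnectedSpace R.left := hRconn
  -- the kernel is the reduced identity component
  have hKR : AlgGrp.IsKernel j q := by
    obtain ⟨E, gE, π, hπm, hπk, hπf, hπs, hEl, hEq, hEi, hπee, hπee2, hdesc⟩ := exists_quot j hjn
    have hjπ : j ≫ π = 1 := by
      rw [← Category.id_comp j]
      exact GrpdLib.GrpOver.comp_kernel_comp hπk (𝟙 R)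
    obtain ⟨q₀, hq₀m, hq₀⟩ := hdesc _ q hqm hjq
    have : IsCommMonObj E := isCommMonObj_quot π (by
      rw [show fst G G * snd G G * (fst G G)⁻¹ * (snd G G)⁻¹ = w ≫ j from hw.symm, Category.assoc, hjπ,
        MonObj.comp_one])
    have : Surjective q₀.left := ⟨fun y => by
      obtain ⟨x, rfl⟩ := q.left.surjective y
      exact ⟨π.left x, by rw [← Scheme.Hom.comp_apply, ← Over.comp_left, hq₀]⟩⟩
    have : Flat q₀.left := GrpScheme.HomFlat.flat_of_surjective q₀
    have : LocallyOfFinitePresentation q₀.left := GrpdLib.GrpOver.lfp_left q₀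
    obtain ⟨K₀, gK₀, k₀, hk₀, hker₀⟩ := GrpScheme.AffineHom.exists_kernel q₀
    have : IsClosedImmersion k₀.left := MorphismProperty.of_isPullback
      (GrpdLib.GrpOver.isPullback_left hker₀).flip ‹IsClosedImmersion η[T].left›
    have : Mono k₀.left := inferInstance
    have : Mono k₀ := Over.mono_of_mono_left k₀
    have : LocallyOfFiniteType K₀.hom := by rw [← Over.w k₀]; infer_instance
    have : QuasiCompact K₀.hom := by rw [← Over.w k₀]; infer_instance
    obtain ⟨ρ, hρ⟩ := GrpdLib.GrpOver.kernel_factor hker₀ (iK ≫ π) (by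
      rw [Category.assoc, hq₀, hker.w, Hom.one_def])
    have hsq : IsPullback ρ iK k₀ π := by
      have hcs : ∀ c : PullbackCone k₀ π, ∃ l : c.pt ⟶ K, l ≫ iK = c.snd := fun c =>
        GrpdLib.GrpOver.kernel_factor hker c.snd (by
          rw [← hq₀, ← Category.assoc, ← c.condition, Category.assoc, hker₀.w, ← Hom.one_def, MonObj.comp_one])
      refine ⟨⟨hρ⟩, ⟨PullbackCone.IsLimit.mk _ (fun c => (hcs c).choose)
        (fun c => ?_) (fun c => (hcs c).choose_spec) (fun c l _ h₂ => ?_)⟩⟩
      · rw [← cancel_mono k₀, Category.assoc, hρ, ← Category.assoc, (hcs c).choose_spec, c.condition]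
      · rw [← cancel_mono iK, h₂, (hcs c).choose_spec]
    have hρs : Surjective ρ.left := MorphismProperty.of_isPullback (GrpdLib.GrpOver.isPullback_left hsq).flip hπs
    have hρf : Flat ρ.left := MorphismProperty.of_isPullback (GrpdLib.GrpOver.isPullback_left hsq).flip hπf
    have : LocallyOfFinitePresentation ρ.left := GrpdLib.GrpOver.lfp_left ρ
    let e : K₀.left := cpt (1 : Pt K₀)
    have hρe : rR ≫ ρ = toUnit R ≫ (1 : Pt K₀) := by
      rw [← cancel_mono k₀, Category.assoc, hρ, Category.assoc, MonObj.one_comp, MonObj.comp_one,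
        ← Category.assoc, hjπ]
    have he : IsOpen ({e} : Set K₀.left) := by
      have : LocallyOfFiniteType (GrpScheme.IdSubgroup.G₀ K).hom := by
        rw [← Over.w (GrpScheme.IdSubgroup.incl K)]; infer_instance
      have : LocallyOfFinitePresentation (GrpScheme.IdSubgroup.incl K).left := GrpdLib.GrpOver.lfp_left _
      have : IsOpenImmersion (GrpScheme.IdSubgroup.incl K).left := IsOpenImmersion.of_flat_of_mono _
      have h1 := ρ.left.isOpenMap _ (GrpScheme.IdSubgroup.incl K).left.isOpenEmbedding.isOpen_range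
      rw [GrpScheme.IdSubgroup.range_incl, ← hRrange] at h1
      have : Set.range rR.left ≠ ∅ := (Set.range_nonempty _).ne_empty
      convert h1
      refine Set.Subset.antisymm ?_ ?_
      · rintro _ rfl
        obtain ⟨x⟩ := (inferInstance : Nonempty R.left)
        refine ⟨_, ⟨x, rfl⟩, ?_⟩
        rw [← Scheme.Hom.comp_apply, ← Over.comp_left, hρe, Over.comp_left, Scheme.Hom.comp_apply]
        exact congrArg (1 : Pt K₀).left (Subsingleton.elim (α := PrimeSpectrum k) _ _)
      · rintro _ ⟨_, ⟨x, rfl⟩, rfl⟩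
        rw [Set.mem_singleton_iff, ← Scheme.Hom.comp_apply, ← Over.comp_left, hρe, Over.comp_left,
          Scheme.Hom.comp_apply]
        exact congrArg (1 : Pt K₀).left (Subsingleton.elim (α := PrimeSpectrum k) _ _)
    have := LocallyOfFiniteType.jacobsonSpace K₀.hom
    have hopen : ∀ p : Pt K₀, IsOpen ({cpt p} : Set K₀.left) := by
      intro p
      let L : K₀ ⟶ K₀ := (toUnit K₀ ≫ p⁻¹) * 𝟙 K₀
      let U : K₀.left.Opens := L.left ⁻¹ᵁ ⟨{e}, he⟩
      have hL : ∀ p' : Pt K₀, p' ≫ L = p⁻¹ * p' := fun p' => by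
        rw [MonObj.comp_mul, Category.comp_id, ← Category.assoc, toUnit_unique (p' ≫ toUnit K₀) (𝟙 _),
          Category.id_comp]
      have hU : ∀ p' : Pt K₀, cpt p' ∈ U → p' = p := fun p' h => by
        have h' : cpt (p' ≫ L) = e := by
          rw [cpt, Over.comp_left, Scheme.Hom.comp_apply]
          exact h
        exact (inv_mul_eq_one.1 ((hL p').symm.trans (pt_ext h'))).symm
      have hpU : cpt p ∈ U := by
        change L.left (p.left _) = e
        rw [← Scheme.Hom.comp_apply, ← Over.comp_left, hL, inv_mul_cancel]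
        rfl
      have : (U : Set K₀.left) = {cpt p} := by
        refine Set.Subset.antisymm (fun z hz => ?_) (Set.singleton_subset_iff.2 hpU)
        by_contra hne
        obtain ⟨p', hp'⟩ := exists_pt_mem (G := K₀) (U := (U : Set K₀.left) ∩ {cpt p}ᶜ)
          (U.2.inter (isClosed_cpt p).isOpen_compl).isLocallyClosed ⟨z, hz, hne⟩
        exact hp'.2 (congrArg cpt (hU p' hp'.1))
      exact this ▸ U.2
    have hall : ∀ z : K₀.left, ∃ p : Pt K₀, cpt p = z := by
      intro z
      by_contra hz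
      push Not at hz
      obtain ⟨p, hp⟩ := exists_pt_mem (G := K₀) (U := (⋃ p : Pt K₀, {cpt p})ᶜ)
        (isOpen_iUnion hopen).isClosed_compl.isLocallyClosed ⟨z, by simpa [eq_comm] using hz⟩
      exact hp (Set.mem_iUnion.2 ⟨p, rfl⟩)
    have : DiscreteTopology K₀.left := discreteTopology_iff_isOpen_singleton.2 fun z => by
      obtain ⟨p, rfl⟩ := hall z
      exact hopen p
    have : CompactSpace K₀.left := (quasiCompact_iff_compactSpace K₀.hom).1 inferInstance
    have : Finite K₀.left := finite_of_compact_of_discrete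
    have : LocallyQuasiFinite K₀.hom := locallyQuasiFinite_iff_isDiscrete_preimage_singleton.2 fun x =>
      ⟨inferInstance⟩
    have : IsFinite K₀.hom := IsFinite.of_locallyQuasiFinite K₀.hom
    have : IsAffine K₀.left := isAffine_of_isAffineHom K₀.hom
    have : IsAffine E.left := isAffine_of_kernel q₀ k₀ hker₀
    have hfin : Finite {x : Pt E // x ≫ q₀ = 1} := by
      choose n hn using fun x : {x : Pt E // x ≫ q₀ = 1} => GrpdLib.GrpOver.kernel_factor hker₀ x.1 x.2
      exact Finite.of_injective (fun x => cpt (n x)) fun x y h => Subtype.ext (by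
        rw [← hn x, ← hn y, pt_ext h])
    have hD : DenseSet (Tor E) := denseSet_tor_of_finite q₀ (denseSet_tor C)
      (isDivisible C) hfin
    have : Mono q₀ := mono_of_split hD C q₀ (fac_of_quot π C q q₀ hq₀ hchar)
    exact hq₀ ▸ isKernel_comp_mono hπk q₀
  refine ⟨r, T, gT, hTsplit, q, hqm, R, gR, j,
    inferInstance, hqf, hqs, hKR, hRconn, fun χ hχ => ?_, fun ψ hψ => ?_⟩
  · obtain ⟨m, hm⟩ := hchar (Red.gmFn χ) (gm_isUnit χ) (pb_eta_gm χ)
    obtain ⟨c', hcm, hy⟩ := exists_char C m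
    exact ⟨_, hcm, gm_injective ((hy q).trans hm)⟩
  -- characters of the kernel
  obtain ⟨s, S, gS, D, -, φ, hφm, hφs, hSr, hSa, hSl, hSq, hφchar, -⟩ := exists_basis_chars (G := R)
  have hφf : Flat φ.left := GrpScheme.HomFlat.flat_of_surjective φ
  have : LocallyOfFinitePresentation φ.left := GrpdLib.GrpOver.lfp_left φ
  suffices hφ1 : φ = 1 by
    obtain ⟨m, hm⟩ := hφchar (Red.gmFn ψ) (gm_isUnit ψ) (pb_eta_gm ψ)
    refine gm_injective ?_
    exact (hm.symm.trans (by rw [hφ1, θ_one])).trans gm_one.symm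
  have hinv : c ≫ φ = snd G R ≫ φ := by
    have h0 : (c ≫ φ) * (snd G R ≫ φ)⁻¹ = 1 := by
      refine eq_one_of_axes D (1 : Pt G) (1 : Pt R) _ ?_ ?_
      · have : GrpScheme.Rosenlicht.sliceR G (1 : Pt R) ≫ c = 1 := by
          rw [← cancel_mono j, Category.assoc, hc, GrpScheme.Rosenlicht.sliceR, MonObj.comp_one, MonObj.comp_mul,
            MonObj.comp_mul, GrpObj.comp_inv, lift_fst, lift_snd_assoc, MonObj.one_comp, _root_.mul_one,
            mul_inv_cancel]
        rw [MonObj.comp_mul, GrpObj.comp_inv, reassoc_of% this, ← Category.assoc, GrpScheme.Rosenlicht.sliceR,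
          lift_snd, MonObj.comp_one, MonObj.one_comp, inv_one, _root_.mul_one]
      · have : GrpScheme.Rosenlicht.sliceL R (1 : Pt G) ≫ c = 𝟙 R := by
          rw [← cancel_mono j, Category.assoc, hc, GrpScheme.Rosenlicht.sliceL, MonObj.comp_one, MonObj.comp_mul,
            MonObj.comp_mul, GrpObj.comp_inv, lift_fst, lift_snd_assoc, inv_one, _root_.mul_one, _root_.one_mul]
        rw [MonObj.comp_mul, GrpObj.comp_inv, reassoc_of% this, ← Category.assoc, GrpScheme.Rosenlicht.sliceL,
          lift_snd, Category.id_comp, mul_inv_cancel]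
    exact mul_inv_eq_one.1 h0
  obtain ⟨N, gN, iN, hiN, hkerN⟩ := GrpScheme.AffineHom.exists_kernel φ
  have : IsClosedImmersion η[S].left :=
    Groth.Agent.GrpArtin.Descend.isClosedImmersion_unit _
  have : IsClosedImmersion iN.left := MorphismProperty.of_isPullback
    (GrpdLib.GrpOver.isPullback_left hkerN).flip ‹IsClosedImmersion η[S].left›
  let jN : N ⟶ G := iN ≫ j
  have : IsClosedImmersion jN.left := inferInstanceAs (IsClosedImmersion (iN.left ≫ j.left))
  have : LocallyOfFiniteType N.hom := by rw [← Over.w jN]; infer_instance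
  have : QuasiCompact N.hom := by rw [← Over.w jN]; infer_instance
  have hNn : AlgGrp.IsNormalHom jN := fun X g n => by
    obtain ⟨n', hn'⟩ := GrpdLib.GrpOver.kernel_factor hkerN (lift g (n ≫ iN) ≫ c) (by
      rw [Category.assoc, hinv, lift_snd_assoc]
      exact GrpdLib.GrpOver.comp_kernel_comp hkerN n)
    refine ⟨n', ?_⟩
    rw [show n' ≫ jN = (n' ≫ iN) ≫ j from (Category.assoc _ _ _).symm, hn', Category.assoc, hc, MonObj.comp_mul,
      MonObj.comp_mul, GrpObj.comp_inv, lift_fst, lift_snd_assoc, Category.assoc]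
  obtain ⟨E, gE, π, hπm, hπk, hπf, hπs, hEl, hEq, hEi, hπee, hπee2, hdesc⟩ := exists_quot jN hNn
  obtain ⟨q₁, hq₁m, hq₁⟩ := hdesc _ q hqm (by rw [Category.assoc, hjq, MonObj.comp_one])
  have hrel : ∀ {X : Over (Spec (CommRingCat.of k))} (a b : X ⟶ R),
      (a ≫ j) ≫ π = (b ≫ j) ≫ π → a ≫ φ = b ≫ φ := by
    intro X a b hab
    obtain ⟨n, hn⟩ := GrpdLib.GrpOver.kernel_factor hπk ((a ≫ j)⁻¹ * (b ≫ j)) (by
      rw [MonObj.mul_comp, GrpObj.inv_comp, hab, inv_mul_cancel])
    have h1 : n ≫ iN = a⁻¹ * b := by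
      rw [← cancel_mono j, Category.assoc, hn, MonObj.mul_comp, GrpObj.inv_comp]
    have h2 := congrArg (· ≫ φ) h1
    simp only [MonObj.mul_comp, GrpObj.inv_comp] at h2
    rw [GrpdLib.GrpOver.comp_kernel_comp hkerN n] at h2
    exact inv_mul_eq_one.1 h2.symm
  have hπker : ∀ {X : Over (Spec (CommRingCat.of k))} (a : X ⟶ R), a ≫ φ = 1 → (a ≫ j) ≫ π = 1 := by
    intro X a ha
    obtain ⟨n, rfl⟩ := GrpdLib.GrpOver.kernel_factor hkerN a ha
    rw [Category.assoc n iN j]
    exact GrpdLib.GrpOver.comp_kernel_comp hπk n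
  have hwφ : w ≫ φ = 1 := by
    have hwR : ∀ {X : Over (Spec (CommRingCat.of k))} (a : X ⟶ G ⊗ G), a ≫ δ = 1 → a ≫ w = 1 := fun a ha => by
      rw [← cancel_mono j, Category.assoc, hw, ha, MonObj.one_comp]
    refine eq_one_of_axes D (1 : Pt G) (1 : Pt G) _ ?_ ?_
    · rw [← Category.assoc, hwR _ (by rw [GrpScheme.Rosenlicht.sliceR, MonObj.comp_one]; exact (hδ1 _).1),
        MonObj.one_comp]
    · rw [← Category.assoc, hwR _ (by rw [GrpScheme.Rosenlicht.sliceL, MonObj.comp_one]; exact (hδ1 _).2),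
        MonObj.one_comp]
  have : IsCommMonObj E := isCommMonObj_quot π (by
    rw [show fst G G * snd G G * (fst G G)⁻¹ * (snd G G)⁻¹ = w ≫ j from hw.symm]
    exact hπker w hwφ)
  have : Surjective q₁.left := ⟨fun y => by
    obtain ⟨x, rfl⟩ := q.left.surjective y
    exact ⟨π.left x, by rw [← Scheme.Hom.comp_apply, ← Over.comp_left, hq₁]⟩⟩
  have : Flat q₁.left := GrpScheme.HomFlat.flat_of_surjective q₁
  have : LocallyOfFinitePresentation q₁.left := GrpdLib.GrpOver.lfp_left q₁
  obtain ⟨K₁, gK₁, k₁, hk₁, hker₁⟩ := GrpScheme.AffineHom.exists_kernel q₁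
  have : Mono k₁ := GrpdLib.GrpOver.kernel_mono hker₁
  have : IsClosedImmersion k₁.left := MorphismProperty.of_isPullback
    (GrpdLib.GrpOver.isPullback_left hker₁).flip ‹IsClosedImmersion η[T].left›
  have : LocallyOfFiniteType K₁.hom := by rw [← Over.w k₁]; infer_instance
  obtain ⟨ρ, hρ⟩ := GrpdLib.GrpOver.kernel_factor hker₁ (j ≫ π) (by rw [Category.assoc, hq₁, hjq])
  have hsq : IsPullback ρ j k₁ π := by
    have hcs : ∀ c : PullbackCone k₁ π, ∃ l : c.pt ⟶ R, l ≫ j = c.snd := fun c =>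
      GrpdLib.GrpOver.kernel_factor hKR c.snd (by
        rw [← hq₁, ← Category.assoc, ← c.condition, Category.assoc, hker₁.w, ← Hom.one_def, MonObj.comp_one])
    refine ⟨⟨hρ⟩, ⟨PullbackCone.IsLimit.mk _ (fun c => (hcs c).choose)
      (fun c => ?_) (fun c => (hcs c).choose_spec) (fun c l _ h₂ => ?_)⟩⟩
    · rw [← cancel_mono k₁, Category.assoc, hρ, ← Category.assoc, (hcs c).choose_spec, c.condition]
    · rw [← cancel_mono j, h₂, (hcs c).choose_spec]
  have hρs : Surjective ρ.left := MorphismProperty.of_isPullback (GrpdLib.GrpOver.isPullback_left hsq).flip hπs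
  have hρf : Flat ρ.left := MorphismProperty.of_isPullback (GrpdLib.GrpOver.isPullback_left hsq).flip hπf
  have : LocallyOfFinitePresentation ρ.left := GrpdLib.GrpOver.lfp_left ρ
  have hρm : IsMonHom ρ := WittLib.Basic.isMonHom_of_points _ fun X x y => by
    simp only [← cancel_mono k₁, MonObj.mul_comp, Category.assoc, hρ]
  obtain ⟨α, hα, -⟩ := GrpdLib.GrpOver.existsUnique_desc ρ φ fun X a b h => hrel a b (by
    rw [Category.assoc a j π, Category.assoc b j π, ← hρ, ← Category.assoc a, h, Category.assoc])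
  obtain ⟨β, hβ, -⟩ := GrpdLib.GrpOver.existsUnique_desc φ ρ fun X a b h => by
    rw [← cancel_mono k₁, Category.assoc, Category.assoc, hρ, ← Category.assoc a j π, ← Category.assoc b j π]
    refine (inv_mul_eq_one.1 ?_)
    have := hπker (a⁻¹ * b) (by rw [MonObj.mul_comp, GrpObj.inv_comp, h, inv_mul_cancel])
    simpa only [MonObj.mul_comp, GrpObj.inv_comp] using this
  have hαβ : α ≫ β = 𝟙 K₁ := GrpdLib.GrpOver.cancel_left ρ (by rw [← Category.assoc, hα, hβ, Category.comp_id])
  have hβα : β ≫ α = 𝟙 _ := GrpdLib.GrpOver.cancel_left φ (by rw [← Category.assoc, hβ, hα, Category.comp_id])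
  have hβm : IsMonHom β := by
    have := effectiveEpi_tensor φ
    exact
    { one_hom := by rw [← IsMonHom.one_hom (f := φ), Category.assoc, hβ, IsMonHom.one_hom]
      mul_hom := GrpdLib.GrpOver.cancel_left (φ ⊗ₘ φ) (by
        rw [← Category.assoc, ← IsMonHom.mul_hom (f := φ), Category.assoc, hβ, IsMonHom.mul_hom,
          tensorHom_comp_tensorHom_assoc, hβ]) }
  have hkβ : AlgGrp.IsKernel (β ≫ k₁) q₁ := by
    refine ⟨⟨by rw [Category.assoc, hker₁.w, ← Category.assoc, toUnit_unique (β ≫ toUnit K₁) (toUnit _)]⟩,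
      ⟨PullbackCone.IsLimit.mk _ (fun c => hker₁.lift c.fst c.snd c.condition ≫ α)
      (fun c => ?_) (fun c => toUnit_unique _ _) (fun c m h₁ _ => ?_)⟩⟩
    · rw [Category.assoc, reassoc_of% hαβ, hker₁.lift_fst]
    · have : m ≫ β = hker₁.lift c.fst c.snd c.condition := hker₁.hom_ext
        (by rw [hker₁.lift_fst, Category.assoc, h₁]) (toUnit_unique _ _)
      rw [← this, Category.assoc, hβα, Category.comp_id]
  have : IsAffine E.left := isAffine_of_kernel q₁ (β ≫ k₁) hkβ
  have hD : DenseSet (Tor E) := denseSet_tor_of_kernel q₁ (denseSet_tor C) (β ≫ k₁) hkβ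
    (denseSet_tor D) (isDivisible D)
  have : Mono q₁ := mono_of_split hD C q₁ (fac_of_quot π C q q₁ hq₁ hchar)
  have hjπ : j ≫ π = 1 := by
    rw [← cancel_mono q₁, Category.assoc, hq₁, hjq, MonObj.one_comp]
  simpa using hrel (𝟙 R) 1 (by rw [Category.id_comp, MonObj.one_comp, MonObj.one_comp, hjπ])

end Groth.Agent.S16132
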