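import Groth.Statements.S16136
import Groth.Agent.BigVol.FibReg
import Groth.Agent.TwistFlat.Main
import Groth.Agent.CycLib.ModStalk
import Groth.Agent.S4357
import Groth.Agent.Cube.Seesaw

set_option autoImplicit false
universe u
open CategoryTheory CategoryTheory.Limits AlgebraicGeometry
open Coh

namespace Groth.Agent.S16136

/-- Let k be a field, Y a scheme proper over k and f : X → Y a proper flat morphism, X and Y each
carrying an ample invertible module (so both are projective over k), such that every
scheme-theoretic fibre of f is reduced. Let L be an invertible O_X-module with H^1(X, L) = 0 and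
with H^i(X_y, L|_{X_y}) = 0 for every closed point y of Y and every i > 0, where X_y is the
scheme-theoretic fibre and L|_{X_y} the module pull-back of L to it. If L|_{X_y} is globally
generated (a quotient of a free module) for every closed point y and the direct image f_*L is
globally generated on Y, then L is globally generated. (The published statement is over the complex
numbers and imposes the fibre conditions at every point; here k is any field and they are imposed at
closed points, which is what the argument uses.) -/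
theorem result (k : Type u) [Field k]
    (X Y : Scheme.{u}) [Y.Over (Spec (CommRingCat.of k))] [IsProper (Y ↘ Spec (CommRingCat.of k))]
    (hY : ∃ B : Y.Modules, CohB1.IsAmple B)
    (f : X ⟶ Y) [IsProper f] [Flat f] (hX : ∃ A : X.Modules, CohB1.IsAmple A)
    (hred : ∀ y : Y, IsReduced (f.fiber y))
    (L : X.Modules) (hL : PicF.IsInvertible L) (h1 : Subsingleton (Coh.HH X L 1))
    (h2 : ∀ y : Y, IsClosed ({y} : Set Y) → ∀ i : ℕ, 0 < i →
      Subsingleton (Coh.HH (f.fiber y) ((Scheme.Modules.pullback (f.fiberι y)).obj L) i))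
    (hfib : ∀ y : Y, IsClosed ({y} : Set Y) →
      Curv2.IsGloballyGenerated ((Scheme.Modules.pullback (f.fiberι y)).obj L))
    (hE : Curv2.IsGloballyGenerated ((Scheme.Modules.pushforward f).obj L)) :
    Curv2.IsGloballyGenerated L := by
  let q : Y ⟶ Spec (CommRingCat.of k) := Y ↘ Spec (CommRingCat.of k)
  haveI : IsLocallyNoetherian Y := LocallyOfFiniteType.isLocallyNoetherian q
  haveI : CompactSpace Y := QuasiCompact.compactSpace_of_compactSpace q
  haveI : IsLocallyNoetherian X := LocallyOfFiniteType.isLocallyNoetherian f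
  haveI : CompactSpace X := QuasiCompact.compactSpace_of_compactSpace f
  haveI : AlgebraicGeometry.IsNoetherian Y := {}
  haveI : AlgebraicGeometry.IsNoetherian X := {}
  have hLcoh : Coh.IsCoh L := Groth.Agent.Cube.Seesaw.isCoh_of_invertible hL
  haveI : Coh.IsQCoh L := hLcoh.1
  haveI : L.IsQuasicoherent := hLcoh.1
  have hfp : CohB1.IsFP L := Groth.Agent.HomShQC.isFP_of_isCoh _ hLcoh
  have hfl : FlatMod.IsFlatOver f L := Groth.Agent.Cube.Seesaw.isFlatOver_of_invertible f hL
  have hopen := Groth.Agent.CBC.isOpen_setOf_subsingleton_fiberH hfp hfl (f := f) 1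
  have hall : ∀ y : Y, Subsingleton (CohIII.fiberH f L y 1) := fun y => by
    by_contra hy
    obtain ⟨z, hz, hzc⟩ := IsClosed.exists_closed_singleton hopen.isClosed_compl ⟨y, hy⟩
    exact hz (h2 z hzc 1 one_pos)
  have hR : ∀ z : Y, ∃ N : Groth.Agent.CBC.Nhd f L, z ∈ N.V ∧ (N.D.K L).RExact 0 := fun z => by
    obtain ⟨N, a, -, b⟩ := Groth.Agent.CBC.exists_rExact_zero_of_fibres hfp hfl ⊤
      (fun y _ => hall y) (s := z) trivial
    exact ⟨N, a, b⟩
  let ε := (Scheme.Modules.pullbackPushforwardAdjunction f).counit.app L
  have hA : Coh.IsQCoh ((Scheme.Modules.pullback f).obj ((Scheme.Modules.pushforward f).obj L)) := by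
    haveI : ((Scheme.Modules.pushforward f).obj L).IsQuasicoherent :=
      Groth.Agent.QCoh.isQuasicoherent_pushforward f L
    exact Groth.Agent.QCoh.isQuasicoherent_pullback f _
  have hC := Groth.Agent.CohDev.isCoh_cokernel ε hA hLcoh
  haveI : (cokernel ε).IsQuasicoherent := hC.1
  have hcl : IsClosed (CohB1.support (cokernel ε)) := by
    have := Groth.Agent.CycLib.isClosed_support (cokernel ε) hC
    simpa [CohB1.support, not_subsingleton_iff_nontrivial] using this
  haveI : Epi ε := by
    refine Preadditive.epi_of_isZero_cokernel _ (Groth.Agent.CohDev.isZero_of_support_eq_empty ?_)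
    refine Set.not_nonempty_iff_eq_empty.mp fun hne => ?_
    obtain ⟨x, hx, hxc⟩ := IsClosed.exists_closed_singleton
      hcl hne
    let z := f x
    have hzc : IsClosed ({z} : Set Y) := by
      have := f.isClosedMap {x} hxc
      rwa [Set.image_singleton] at this
    haveI : IsIso (CohBC.bc0 f (Y.fromSpecResidueField z) (f.fiberToSpecResidueField z) (f.fiberι z)
        (f.fiber_fac z) L) :=
      Groth.Agent.CBC.isIso_bc0_of_rExact (IsPullback.of_hasPullback f (Y.fromSpecResidueField z))
        fun w => hR _
    have he := Groth.Agent.BigVol.FibReg.epi_pullback_counit (f.fiber_fac z) L inferInstance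
      (Groth.Agent.BigVol.FibReg.epi_counit_of_gg (f.fiberToSpecResidueField z) (hfib z hzc))
    haveI := (Scheme.Modules.pullbackPushforwardAdjunction (f.fiberι z)).isLeftAdjoint
    haveI : Epi ((Scheme.Modules.pullback (f.fiberι z)).map ε) := he
    have hz0 : IsZero ((Scheme.Modules.pullback (f.fiberι z)).obj (cokernel ε)) :=
      (isZero_cokernel_of_epi ((Scheme.Modules.pullback (f.fiberι z)).map ε)).of_iso
        (PreservesCokernel.iso (Scheme.Modules.pullback (f.fiberι z)) ε)
    haveI : Coh.IsQCoh (cokernel ε) := hC.1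
    have hs := Groth.Agent.HilbPolyX.support_eq_empty_of_isZero hz0
    rw [Groth.Agent.S4357.result (f.fiberι z) (cokernel ε) hC.2] at hs
    obtain ⟨w, hw⟩ : x ∈ Set.range (f.fiberι z) := by rw [Scheme.Hom.range_fiberι]; rfl
    exact Set.notMem_empty w (hs ▸ (show w ∈ (f.fiberι z).base ⁻¹' _ from by
      show (f.fiberι z) w ∈ CohB1.support (cokernel ε); rw [hw]; exact hx))
  haveI := (Scheme.Modules.pullbackPushforwardAdjunction f).isLeftAdjoint
  obtain ⟨J, π, hπ⟩ := hE
  let e : (Scheme.Modules.pullback f).obj (SheafOfModules.free J : Y.Modules) ≅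
      (SheafOfModules.free J : X.Modules) :=
    (PreservesCoproduct.iso (Scheme.Modules.pullback f) fun _ : J => Coh.structureModule Y) ≪≫
      Sigma.mapIso fun _ => PicLoc.pullbackStructureIso f
  let π' : (SheafOfModules.free J : Y.Modules) ⟶ (Scheme.Modules.pushforward f).obj L := π
  have hπ' : @Epi Y.Modules _ _ _ π' := hπ
  have h₁ := @Functor.map_epi _ _ _ _ (Scheme.Modules.pullback f) inferInstance _ _ π' hπ'
  have h₂ : Epi ((Scheme.Modules.pullback f).map π' ≫ ε) := @epi_comp _ _ _ _ _ _ h₁ _ ‹Epi ε›
  exact ⟨J, e.inv ≫ ((Scheme.Modules.pullback f).map π' ≫ ε),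
    @epi_comp _ _ _ _ _ _ (haveI := e.isIso_inv; IsIso.epi_of_iso e.inv) _ h₂⟩

end Groth.Agent.S16136
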