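import Groth.Statements.S16149
import Groth.Agent.Props.QStalk
import Groth.Agent.AssSch.Structure
import Groth.Agent.QCoh.FiniteType
-- import your own Groth.Agent.* helpers here

set_option autoImplicit false
universe u
open CategoryTheory CategoryTheory.Limits AlgebraicGeometry TopologicalSpace
open SDiv

namespace Groth.Agent.S16149

set_option linter.style.haveILetI false

open Groth.Agent.Props.QStalk

theorem exists_smul_mem {A M : Type*} [CommRing A] [AddCommGroup M] [Module A M] (S : Submonoid A)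
    {N : Submodule A M} (hN : N.FG) (P : Submodule A M) (h : ∀ n ∈ N, ∃ t ∈ S, t • n ∈ P) :
    ∃ t ∈ S, ∀ n ∈ N, t • n ∈ P := by
  classical
  obtain ⟨T, hT⟩ := hN
  choose! t ht htP using h
  have hTN : ∀ n ∈ T, n ∈ N := fun n hn => hT ▸ Submodule.subset_span hn
  refine ⟨∏ n ∈ T, t n, S.prod_mem fun n hn => ht n (hTN n hn), fun n hn => ?_⟩
  rw [← hT] at hn
  induction hn using Submodule.span_induction with
  | mem y hy =>
    rw [← Finset.prod_erase_mul T t hy, mul_smul]
    exact P.smul_mem _ (htP y (hTN y hy))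
  | zero => rw [smul_zero]; exact P.zero_mem
  | add y z _ _ hy hz => rw [smul_add]; exact P.add_mem hy hz
  | smul r y _ hy => rw [smul_comm]; exact P.smul_mem _ hy

/-- Let X be a locally Noetherian scheme, F a coherent O_X-module (quasi-coherent of finite type) and s
: O_X → F a global section of F. Then the set of points x of X at which the stalk map (O_X)_x → F_x
of s is bijective is open. (The published statement assumes moreover X integral and normal and F
reflexive of rank one; the openness assertion uses only that F is coherent on a locally Noetherian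
scheme, and it can fail for F quasi-coherent of finite type on a scheme that is not locally
Noetherian.) -/
theorem result (X : Scheme.{u}) [IsLocallyNoetherian X] (F : X.Modules) (hF : Coh.IsCoh F)
    (s : Coh.structureModule X ⟶ F) : IsOpen (RefPow.isoLocus s) := by
  classical
  refine isOpen_iff_forall_mem_open.mpr fun x hx => ?_
  obtain ⟨_, ⟨U, hU, rfl⟩, hxU, -⟩ :=
    X.isBasis_affineOpens.exists_subset_of_mem_open (Set.mem_univ x) isOpen_univ
  replace hU : IsAffineOpen U := hU
  haveI := hF.1
  haveI := hF.2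
  haveI : IsNoetherianRing Γ(X, U) := IsLocallyNoetherian.component_noetherian ⟨U, hU⟩
  haveI : Module.Finite Γ(X, U) Γ(F, U) := Groth.Agent.QCoh.finite_sections_of_isFiniteType F hU
  let φ : Γ(Coh.structureModule X, U) →ₗ[Γ(X, U)] Γ(F, U) :=
    { toFun := s.app U
      map_add' := map_add _
      map_smul' := fun r m => Scheme.Modules.Hom.app_smul s r m }
  haveI : Module.Finite Γ(X, U) Γ(Coh.structureModule X, U) :=
    Module.Finite.of_surjective
      (LinearMap.toSpanSingleton Γ(X, U) Γ(Coh.structureModule X, U) (1 : Γ(X, U)))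
      fun b => ⟨b, mul_one (M := Γ(X, U)) b⟩
  letI := moduleSections (Coh.structureModule X) hxU
  letI := moduleSections F hxU
  haveI hP := isLocalizedModule_germLin (Coh.structureModule X) hxU hU
  haveI hQ := isLocalizedModule_germLin F hxU hU
  have hsq : ∀ (y : X) (hy : y ∈ U) (m : Γ(Coh.structureModule X, U)),
      RefHull.stalkMapₗ s y ((Coh.structureModule X).presheaf.germ U y hy m) =
        F.presheaf.germ U y hy (φ m) :=
    fun y hy m => RefHull.stalkMapₗ_germ s y hy m
  set S := (hU.primeIdealOf ⟨x, hxU⟩).asIdeal.primeCompl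
  obtain ⟨t₁, ht₁, h₁⟩ := exists_smul_mem S (Module.finite_def.mp ‹Module.Finite Γ(X, U) Γ(F, U)›)
    (LinearMap.range φ) fun q _ => by
      obtain ⟨w, hw⟩ := hx.2 (germLin F hxU q)
      obtain ⟨⟨m, c⟩, hmc⟩ := IsLocalizedModule.surj S (germLin (Coh.structureModule X) hxU) w
      have h : germLin F hxU (c.1 • q) = germLin F hxU (φ m) := by
        rw [map_smul, ← hw]
        refine Eq.trans ?_ (hsq x hxU m)
        rw [show (Coh.structureModule X).presheaf.germ U x hxU m = c.1 • w from hmc.symm]
        exact ((RefHull.stalkMapₗ s x).map_smul ((X.presheaf.germ U x hxU).hom c.1) w).symm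
      obtain ⟨d, hd⟩ := (IsLocalizedModule.eq_iff_exists S (germLin F hxU)).mp h
      refine ⟨d.1 * c.1, S.mul_mem d.2 c.2, d.1 • m, ?_⟩
      rw [map_smul, mul_smul]
      exact hd.symm
  obtain ⟨t₂, ht₂, h₂⟩ := exists_smul_mem S (IsNoetherian.noetherian (LinearMap.ker φ)) ⊥
    fun m hm => by
      have h : germLin (Coh.structureModule X) hxU m = 0 := hx.1 (by
        rw [map_zero]
        exact (hsq x hxU m).trans (by rw [LinearMap.mem_ker.mp hm, map_zero]))
      obtain ⟨d, hd⟩ := (IsLocalizedModule.eq_zero_iff S (germLin (Coh.structureModule X) hxU)).mp h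
      exact ⟨d.1, d.2, hd⟩
  have hpb : ∀ (y : X) (hy : y ∈ U),
      y ∈ X.basicOpen (t₁ * t₂) ↔ t₁ * t₂ ∈ (hU.primeIdealOf ⟨y, hy⟩).asIdeal.primeCompl := by
    intro y hy
    letI := X.presheaf.algebra_section_stalk ⟨y, hy⟩
    haveI : IsLocalization.AtPrime (X.presheaf.stalk y) (hU.primeIdealOf ⟨y, hy⟩).asIdeal :=
      hU.isLocalization_stalk ⟨y, hy⟩
    exact (X.mem_basicOpen _ y hy).trans
      (IsLocalization.AtPrime.isUnit_to_map_iff (X.presheaf.stalk y)
        (hU.primeIdealOf ⟨y, hy⟩).asIdeal _)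
  refine ⟨(X.basicOpen (t₁ * t₂) : Set X), ?_, (X.basicOpen _).isOpen,
    (hpb x hxU).mpr (S.mul_mem ht₁ ht₂)⟩
  intro y hyg
  have hy : y ∈ U := X.basicOpen_le _ hyg
  letI := moduleSections (Coh.structureModule X) hy
  letI := moduleSections F hy
  haveI hP' := isLocalizedModule_germLin (Coh.structureModule X) hy hU
  haveI hQ' := isLocalizedModule_germLin F hy hU
  set T := (hU.primeIdealOf ⟨y, hy⟩).asIdeal.primeCompl
  have hg : t₁ * t₂ ∈ T := (hpb y hy).mp hyg
  have hgu : IsUnit ((X.presheaf.germ U y hy).hom (t₁ * t₂)) := (X.mem_basicOpen _ y hy).mp hyg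
  have hlin : ∀ (r : Γ(X, U)) (v : (Coh.structureModule X).presheaf.stalk y),
      RefHull.stalkMapₗ s y (r • v) = r • RefHull.stalkMapₗ s y v :=
    fun r v => (RefHull.stalkMapₗ s y).map_smul _ v
  refine ⟨(injective_iff_map_eq_zero _).mpr fun v hv => ?_, fun v => ?_⟩
  · obtain ⟨⟨m, c⟩, hmc⟩ := IsLocalizedModule.surj T (germLin (Coh.structureModule X) hy) v
    have h : germLin F hy (φ m) = 0 := by
      refine (hsq y hy m).symm.trans ?_
      rw [show (Coh.structureModule X).presheaf.germ U y hy m = c.1 • v from hmc.symm, hlin, hv,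
        smul_zero]
    obtain ⟨d, hd⟩ := (IsLocalizedModule.eq_zero_iff T (germLin F hy)).mp h
    have hk : d.1 • m ∈ LinearMap.ker φ := by rw [LinearMap.mem_ker, map_smul]; exact hd
    have hm0 : germLin (Coh.structureModule X) hy m = 0 := by
      rw [IsLocalizedModule.eq_zero_iff T]
      refine ⟨⟨(t₁ * t₂) * d.1, T.mul_mem hg d.2⟩, ?_⟩
      change ((t₁ * t₂) * d.1) • m = 0
      rw [mul_smul, mul_smul, (Submodule.mem_bot _).mp (h₂ _ hk), smul_zero]
    have hcv : c.1 • v = 0 := hmc.trans hm0
    exact (IsLocalizedModule.map_units (germLin (Coh.structureModule X) hy) c |>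
      (Module.End.isUnit_iff _).mp).1 (hcv.trans (smul_zero c.1).symm)
  · obtain ⟨⟨q, c⟩, hqc⟩ := IsLocalizedModule.surj T (germLin F hy) v
    obtain ⟨m, hm⟩ := h₁ q trivial
    have hb := (Module.End.isUnit_iff _).mp
      (IsLocalizedModule.map_units (germLin (Coh.structureModule X) hy)
        (⟨(t₁ * t₂) * c.1, T.mul_mem hg c.2⟩ : T))
    obtain ⟨w, hw⟩ := hb.2 (germLin (Coh.structureModule X) hy (t₂ • m))
    refine ⟨w, ((Module.End.isUnit_iff _).mp (IsLocalizedModule.map_units (germLin F hy)
      (⟨(t₁ * t₂) * c.1, T.mul_mem hg c.2⟩ : T))).1 ?_⟩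
    change ((t₁ * t₂) * c.1) • RefHull.stalkMapₗ s y w = ((t₁ * t₂) * c.1) • v
    rw [← hlin, show ((t₁ * t₂) * c.1) • w = germLin (Coh.structureModule X) hy (t₂ • m) from hw,
      map_smul, hlin, mul_smul _ c.1 v, show c.1 • v = germLin F hy q from hqc, mul_comm t₁,
      mul_smul, ← map_smul (germLin F hy) t₁ q, ← hm]
    exact congrArg (t₂ • ·) (hsq y hy m)

end Groth.Agent.S16149
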