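import Groth.Statements.S1615
import Groth.Agent.EGA2Gr.Irrelevant

set_option autoImplicit false
universe u
open CategoryTheory CategoryTheory.Limits AlgebraicGeometry
open Constr

namespace Groth.Agent.S1615

/-- For a graded ring A, quasi-compactness of Proj A is equivalent to the existence of finitely many
homogeneous elements of positive degree generating an ideal whose radical contains the irrelevant
ideal A_+. -/
theorem result {R A : Type u} [CommRing R] [CommRing A] [Algebra R A] (𝒜 : ℕ → Submodule R A) [GradedAlgebra 𝒜] :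
    CompactSpace ↥(Proj 𝒜) ↔ ∃ s : Finset A, (∀ f ∈ s, ∃ d : ℕ, 0 < d ∧ f ∈ 𝒜 d) ∧
      (HomogeneousIdeal.irrelevant 𝒜).toIdeal ≤ (Ideal.span (s : Set A)).radical := by
  classical
  constructor
  · intro hc
    have hex : ∀ x : ↥(Proj 𝒜), ∃ f : A, (∃ d : ℕ, 0 < d ∧ f ∈ 𝒜 d) ∧
        x ∈ Proj.basicOpen 𝒜 f := fun x ↦ by
      obtain ⟨d, f, hd, hf, hfx⟩ := EGA2Gr.exists_homogeneous_notMem 𝒜 x
      exact ⟨f, ⟨d, hd, hf⟩, hfx⟩
    choose f hf hfx using hex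
    obtain ⟨t, ht⟩ := isCompact_univ.elim_finite_subcover
      (fun x ↦ (Proj.basicOpen 𝒜 (f x) : Set ↥(Proj 𝒜))) (fun x ↦ (Proj.basicOpen 𝒜 (f x)).isOpen)
      (fun x _ ↦ Set.mem_iUnion.mpr ⟨x, hfx x⟩)
    refine ⟨t.image f, fun g hg ↦ ?_, ?_⟩
    · obtain ⟨x, -, rfl⟩ := Finset.mem_image.mp hg
      exact hf x
    · have hcov : (⨆ i : t, Proj.basicOpen 𝒜 (f i.1)) = ⊤ := by
        rw [eq_top_iff]
        intro x _
        obtain ⟨i, hi, hxi⟩ := Set.mem_iUnion₂.mp (ht (Set.mem_univ x))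
        exact TopologicalSpace.Opens.mem_iSup.mpr ⟨⟨i, hi⟩, hxi⟩
      refine ((EGA2Gr.iSup_basicOpen_eq_top_iff 𝒜 _ fun i : t ↦ hf i.1).mp hcov).trans
        (le_of_eq ?_)
      congr
      ext; simp
  · rintro ⟨s, hs, hrad⟩
    have hcov : (⨆ i : s, Proj.basicOpen 𝒜 i.1) = ⊤ :=
      (EGA2Gr.iSup_basicOpen_eq_top_iff 𝒜 _ fun i : s ↦ hs i.1 i.2).mpr
        (hrad.trans (le_of_eq (by congr; simp)))
    refine ⟨?_⟩
    have : (Set.univ : Set ↥(Proj 𝒜)) = ⋃ i : s, (Proj.basicOpen 𝒜 i.1 : Set ↥(Proj 𝒜)) := by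
      rw [← TopologicalSpace.Opens.coe_top, ← hcov, TopologicalSpace.Opens.coe_iSup]
    rw [this]
    refine isCompact_iUnion fun i ↦ ?_
    obtain ⟨d, hd, hid⟩ := hs i.1 i.2
    exact (Proj.isAffineOpen_basicOpen 𝒜 i.1 hid hd).isCompact

end Groth.Agent.S1615
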