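import Groth.Statements.S16152
import Mathlib.RingTheory.MvPolynomial.EulerIdentity
import Mathlib.Tactic

set_option autoImplicit false
universe u
open WGauss

namespace Groth.Agent.S16152

lemma exists_le_degree {n : ℕ} (γ : Fin n →₀ ℕ) (r : ℕ) (h : r ≤ γ.degree) :
    ∃ α : Fin n →₀ ℕ, α ≤ γ ∧ α.degree = r := by
  induction r with
  | zero => exact ⟨0, zero_le, map_zero _⟩
  | succ r ih =>
    obtain ⟨α, hα, hd⟩ := ih (by omega)
    obtain ⟨i, hi⟩ : ∃ i, α i < γ i := by
      by_contra hne
      push Not at hne
      have : α = γ := le_antisymm hα fun i => hne i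
      subst this
      omega
    refine ⟨α + Finsupp.single i 1, fun j => ?_, by rw [map_add, hd, Finsupp.degree_single]⟩
    have := hα j
    rcases eq_or_ne i j with rfl | hij <;> simp [*]

open MvPolynomial in
/-- Over a field k of characteristic zero, for e, a, b positive integers with a < b, the weighted
Gaussian map of the line bundle O(e) on projective n-space is surjective. Concretely, identifying
global sections of O(m) with homogeneous polynomials of degree m in X_0, ..., X_n and global
sections of the twisted cotangent sheaf Omega^1(t) with the (n+1)-tuples of homogeneous polynomials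
of degree t - 1 killed by the Euler map (f_i) to sum_i X_i f_i, every such tuple with t = (a+b)e is
a k-linear combination of the tuples (b tau (d sigma / d X_i) - a sigma (d tau / d X_i))_i with
sigma homogeneous of degree ae and tau homogeneous of degree be. (The source works over the complex
numbers; the statement is one of linear algebra and is given here over any field of characteristic
zero.) -/
theorem result
    (k : Type u) [Field k] [CharZero k] (n e a b : ℕ) (he : 0 < e) (ha : 0 < a) (hab : a < b)
    (f : Fin (n + 1) → MvPolynomial (Fin (n + 1)) k)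
    (hf : ∀ i, (f i).IsHomogeneous ((a + b) * e - 1))
    (hEuler : ∑ i, X i * f i = 0) :
    f ∈ Submodule.span k
      {g : Fin (n + 1) → MvPolynomial (Fin (n + 1)) k |
        ∃ σ τ : MvPolynomial (Fin (n + 1)) k, σ.IsHomogeneous (a * e) ∧ τ.IsHomogeneous (b * e) ∧
          g = fun i => (b : k) • (τ * pderiv i σ) - (a : k) • (σ * pderiv i τ)} := by
  classical
  set S := Submodule.span k
      {g : Fin (n + 1) → MvPolynomial (Fin (n + 1)) k |
        ∃ σ τ : MvPolynomial (Fin (n + 1)) k, σ.IsHomogeneous (a * e) ∧ τ.IsHomogeneous (b * e) ∧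
          g = fun i => (b : k) • (τ * pderiv i σ) - (a : k) • (σ * pderiv i τ)} with hS
  let v : MvPolynomial (Fin (n + 1)) k → Fin (n + 1) → Fin (n + 1) →
      Fin (n + 1) → MvPolynomial (Fin (n + 1)) k :=
    fun h p q i => h * (X q * (Pi.single p 1 : Fin (n + 1) → MvPolynomial (Fin (n + 1)) k) i
      - X p * (Pi.single q 1 : Fin (n + 1) → MvPolynomial (Fin (n + 1)) k) i)
  have hab0 : ((a : k) + b) ≠ 0 := by
    rw [← Nat.cast_add]; exact Nat.cast_ne_zero.2 (by omega)
  have hD : 3 ≤ (a + b) * e := le_trans (by omega) (Nat.le_mul_of_pos_right _ he)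
  have hae : 1 ≤ a * e := Nat.one_le_iff_ne_zero.2 (Nat.mul_ne_zero (by omega) (by omega))
  have hbe : 1 ≤ b * e := Nat.one_le_iff_ne_zero.2 (Nat.mul_ne_zero (by omega) (by omega))
  have hsplit : (a + b) * e = a * e + b * e := add_mul _ _ _
  -- the Koszul tuples are in the span
  have hmon : ∀ (γ : Fin (n + 1) →₀ ℕ) (c : k) p q, γ.degree = (a + b) * e - 2 →
      v (monomial γ c) p q ∈ S := by
    intro γ c p q hγ
    obtain ⟨α, hα, hαd⟩ := exists_le_degree γ (a * e - 1) (by omega)
    obtain ⟨β, rfl⟩ := exists_add_of_le hα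
    rw [map_add] at hγ
    let P := monomial α c
    let Q := monomial (R := k) β 1
    have hP : P.IsHomogeneous (a * e - 1) := isHomogeneous_monomial _ hαd
    have hQ : Q.IsHomogeneous (b * e - 1) := isHomogeneous_monomial _ (by omega)
    have hg : ∀ r t : Fin (n + 1),
        (fun i => (b : k) • ((Q * X t) * pderiv i (P * X r)) -
          (a : k) • ((P * X r) * pderiv i (Q * X t))) ∈ S := fun r t => by
      refine Submodule.subset_span ⟨_, _, ?_, ?_, rfl⟩
      · simpa [Nat.sub_add_cancel hae] using hP.mul (isHomogeneous_X k r)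
      · simpa [Nat.sub_add_cancel hbe] using hQ.mul (isHomogeneous_X k t)
    have key : ((a : k) + b) • v (monomial (α + β) c) p q =
        (fun i => (b : k) • ((Q * X q) * pderiv i (P * X p)) -
          (a : k) • ((P * X p) * pderiv i (Q * X q))) -
        (fun i => (b : k) • ((Q * X p) * pderiv i (P * X q)) -
          (a : k) • ((P * X q) * pderiv i (Q * X p))) := by
      funext i
      have hPQ : monomial (α + β) c = P * Q := by simp [P, Q, monomial_mul]
      simp only [v, Pi.smul_apply, Pi.sub_apply, hPQ, pderiv_mul, pderiv_X, smul_eq_C_mul, C_add]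
      simp only [Pi.single_apply, @eq_comm _ i]
      ring
    have h2 : ((a : k) + b) • v (monomial (α + β) c) p q ∈ S :=
      key ▸ S.sub_mem (hg p q) (hg q p)
    have := S.smul_mem ((a : k) + b)⁻¹ h2
    rwa [inv_smul_smul₀ hab0] at this
  have hv : ∀ (h : MvPolynomial (Fin (n + 1)) k) p q,
      h.IsHomogeneous ((a + b) * e - 2) → v h p q ∈ S := by
    intro h p q hh
    have : v h p q = ∑ γ ∈ h.support, v (monomial γ (coeff γ h)) p q := by
      funext i
      simp only [v, Finset.sum_apply, ← Finset.sum_mul]
      rw [← h.as_sum]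
    rw [this]
    refine Submodule.sum_mem _ fun γ hγ => hmon γ _ p q ?_
    rw [Finsupp.degree_eq_weight_one]
    exact hh (mem_support_iff.1 hγ)
  let g : Fin (n + 1) → Fin (n + 1) → MvPolynomial (Fin (n + 1)) k :=
    fun p q => pderiv q (f p) - pderiv p (f q)
  have hD' : ∀ i, (((a + b) * e : ℕ) : MvPolynomial (Fin (n + 1)) k) * f i = ∑ j, X j * g i j := by
    intro i
    have h1 := (hf i).sum_X_mul_pderiv
    have h2 := congrArg (pderiv i) hEuler
    simp only [map_sum, pderiv_mul, pderiv_X, map_zero, Finset.sum_add_distrib, Pi.single_apply,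
      ite_mul, one_mul, zero_mul, Finset.sum_ite_eq', Finset.sum_ite_eq, Finset.mem_univ, if_true] at h2
    simp only [g, mul_sub, Finset.sum_sub_distrib, h1]
    rw [show (∑ j, X j * pderiv i (f j)) = -f i from eq_neg_of_add_eq_zero_right h2,
      nsmul_eq_mul, Nat.cast_sub (by omega)]
    ring
  have key : ((2 * ((a + b) * e) : ℕ) : k) • f = ∑ p, ∑ q, v (g p q) p q := by
    funext i
    have e1 : ∑ p, ∑ q, g p q * (X q * (Pi.single p 1 : Fin (n + 1) → MvPolynomial (Fin (n + 1)) k) i)
        = ∑ q, g i q * X q := by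
      rw [Finset.sum_eq_single i (fun p _ hp => by simp [Pi.single_eq_of_ne (Ne.symm hp)]) (by simp)]
      simp
    have e2 : ∑ p, ∑ q, g p q * (X p * (Pi.single q 1 : Fin (n + 1) → MvPolynomial (Fin (n + 1)) k) i)
        = ∑ p, g p i * X p := Finset.sum_congr rfl fun p _ => by
      rw [Finset.sum_eq_single i (fun q _ hq => by simp [Pi.single_eq_of_ne (Ne.symm hq)]) (by simp)]
      simp
    simp only [v, Finset.sum_apply, Pi.smul_apply, mul_sub, Finset.sum_sub_distrib, e1, e2]
    rw [smul_eq_C_mul, map_natCast, Nat.cast_mul, Nat.cast_ofNat, mul_assoc, hD' i, two_mul,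
      sub_eq_add_neg, ← Finset.sum_neg_distrib]
    congr 1
    · exact Finset.sum_congr rfl fun j _ => by ring
    · exact Finset.sum_congr rfl fun j _ => by simp only [g]; ring
  have hsum : ∑ p, ∑ q, v (g p q) p q ∈ S := Submodule.sum_mem _ fun p _ =>
    Submodule.sum_mem _ fun q _ => hv _ p q (((hf p).pderiv.sub (hf q).pderiv))
  have := S.smul_mem (((2 * ((a + b) * e) : ℕ) : k))⁻¹ (key ▸ hsum)
  rwa [inv_smul_smul₀ (Nat.cast_ne_zero.2 (by omega))] at this

end Groth.Agent.S16152
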