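import Groth.Statements.S16153
import Mathlib
-- import your own Groth.Agent.* helpers here

set_option autoImplicit false
universe u
open SpinRat

namespace Groth.Agent.S16153

section Aux
open MvPolynomial
variable {k : Type u} [Field k]

/-- The monomial `x₀^i x₁^(3-i) y₀^j y₁^(3-j)`. -/
noncomputable def expo (p : Fin 4 × Fin 4) : Fin 4 →₀ ℕ :=
  Finsupp.equivFunOnFinite.symm ![(p.1 : ℕ), 3 - p.1, (p.2 : ℕ), 3 - p.2]

lemma expo_injective : Function.Injective expo := by
  intro p q h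
  have h0 := congrArg (fun d => d 0) h
  have h2 := congrArg (fun d => d 2) h
  simp [expo] at h0 h2
  exact Prod.ext (Fin.ext h0) (Fin.ext h2)

noncomputable def form (a : Fin 4 × Fin 4 → k) : MvPolynomial (Fin 4) k := ∑ p, monomial (expo p) (a p)

lemma coeff_form (a : Fin 4 × Fin 4 → k) (p : Fin 4 × Fin 4) : coeff (expo p) (form a) = a p := by
  classical
  simp [form, coeff_sum, coeff_monomial, expo_injective.eq_iff]

lemma monomial_expo (p : Fin 4 × Fin 4) (a : k) :
    monomial (expo p) a = C a * (X 0 ^ (p.1 : ℕ) * X 1 ^ (3 - (p.1 : ℕ)) * X 2 ^ (p.2 : ℕ) * X 3 ^ (3 - (p.2 : ℕ))) := by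
  rw [monomial_eq, Finsupp.prod_fintype _ _ (fun i => pow_zero _)]
  simp [Fin.prod_univ_four, expo]

lemma form_expand (a : Fin 4 × Fin 4 → k) : form a =
    ∑ i : Fin 4, ∑ j : Fin 4, C (a (i, j)) * (X 0 ^ (i : ℕ) * X 1 ^ (3 - (i : ℕ)) * X 2 ^ (j : ℕ) * X 3 ^ (3 - (j : ℕ))) := by
  rw [form, Fintype.sum_prod_type]
  simp [monomial_expo]

lemma eq_form {f : MvPolynomial (Fin 4) k} (h1 : f.IsWeightedHomogeneous (![1, 1, 0, 0] : Fin 4 → ℕ) 3)
    (h2 : f.IsWeightedHomogeneous (![0, 0, 1, 1] : Fin 4 → ℕ) 3) :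
    f = form (fun p => coeff (expo p) f) := by
  classical
  ext d
  by_cases hd : ∃ p, expo p = d
  · obtain ⟨p, rfl⟩ := hd
    rw [coeff_form]
  · have : coeff d (form fun p => coeff (expo p) f) = 0 := by
      simp only [form, coeff_sum, coeff_monomial]
      exact Finset.sum_eq_zero fun p _ => if_neg fun hp => hd ⟨p, hp⟩
    rw [this]
    by_contra hne
    have e1 := h1 hne
    have e2 := h2 hne
    simp [Finsupp.weight, Finsupp.linearCombination_apply, Finsupp.sum_fintype, Fin.sum_univ_four] at e1 e2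
    refine hd ⟨(⟨d 0, by omega⟩, ⟨d 2, by omega⟩), ?_⟩
    ext i
    fin_cases i <;> simp [expo] <;> omega

lemma rename_form (a : Fin 4 × Fin 4 → k) :
    rename (![2, 3, 0, 1] : Fin 4 → Fin 4) (form a) = form (fun p => a p.swap) := by
  simp only [form, map_sum, rename_monomial]
  refine Fintype.sum_equiv (Equiv.prodComm _ _) _ _ fun p => ?_
  have hinj : Function.Injective (![2, 3, 0, 1] : Fin 4 → Fin 4) := by decide
  refine congrArg₂ (fun d c => monomial d c) ?_ (by simp)
  ext i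
  obtain ⟨l, rfl⟩ : ∃ l, (![2, 3, 0, 1] : Fin 4 → Fin 4) l = i := by revert i; decide
  rw [Finsupp.mapDomain_apply hinj]
  fin_cases l <;> simp [expo]

end Aux

set_option maxHeartbeats 4000000 in
open MvPolynomial in
/-- In the bigraded polynomial ring k[x0, x1, y0, y1] of the quadric surface (variables X 0, X 1, X 2, X
3 in this order), over a field k of characteristic zero, let iota exchange x_i with y_i, let l = x0
y1 - x1 y0 be the diagonal, h1 = x0 (y1 - y0) + y0 (x1 - x0), h2 = x1 (y0 - y1) + y1 (x0 - x1), h3 =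
x0 y1 + x1 y0, h = h1 + h2 + h3, h13 = h1 - h3, h23 = h2 - h3, and let c = x0 x1 (x0 - x1) y0 y1 (y0
- y1) be the product of the six rulings through the three diagonal points (1:0)x(1:0), (0:1)x(0:1),
(1:1)x(1:1). Let I be the space of forms of bidegree (3,3) whose restriction to the diagonal is
divisible by (x0 x1 (x0 - x1))^2, that is, the bidegree-(3,3) forms through the length-six subscheme
of the diagonal doubled at those three points. Then the iota-invariant forms in I are exactly the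
span of c, l^2 h, l^2 h13, l^2 h23; the iota-anti-invariant forms in I are exactly the span of l
h^2, l h h13, l h h23, l h13^2, l h23^2, l h13 h23; and these ten forms are linearly independent.
(The source works over the complex numbers and writes the two eigenspaces as direct sums of the
displayed pieces; the six-line form c is read as the product of the two cubic factors.) -/
theorem result
    (k : Type u) [Field k] [CharZero k]
    (l h1 h2 h3 h h13 h23 c : MvPolynomial (Fin 4) k)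
    (hl : l = X 0 * X 3 - X 1 * X 2)
    (hh1 : h1 = X 0 * (X 3 - X 2) + X 2 * (X 1 - X 0))
    (hh2 : h2 = X 1 * (X 2 - X 3) + X 3 * (X 0 - X 1))
    (hh3 : h3 = X 0 * X 3 + X 1 * X 2)
    (hh : h = h1 + h2 + h3) (hh13 : h13 = h1 - h3) (hh23 : h23 = h2 - h3)
    (hc : c = X 0 * X 1 * (X 0 - X 1) * (X 2 * X 3 * (X 2 - X 3)))
    (I : Submodule k (MvPolynomial (Fin 4) k))
    (hI : ∀ f, f ∈ I ↔
      (f.IsWeightedHomogeneous (![1, 1, 0, 0] : Fin 4 → ℕ) 3 ∧
       f.IsWeightedHomogeneous (![0, 0, 1, 1] : Fin 4 → ℕ) 3 ∧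
       (X 0 * X 1 * (X 0 - X 1)) ^ 2 ∣ rename (![0, 1, 0, 1] : Fin 4 → Fin 2) f)) :
    (∀ f, (f ∈ I ∧ rename (![2, 3, 0, 1] : Fin 4 → Fin 4) f = f) ↔
        f ∈ Submodule.span k ({c, l ^ 2 * h, l ^ 2 * h13, l ^ 2 * h23} : Set (MvPolynomial (Fin 4) k))) ∧
    (∀ f, (f ∈ I ∧ rename (![2, 3, 0, 1] : Fin 4 → Fin 4) f = -f) ↔
        f ∈ Submodule.span k ({l * h ^ 2, l * h * h13, l * h * h23, l * h13 ^ 2, l * h23 ^ 2, l * h13 * h23} :
          Set (MvPolynomial (Fin 4) k))) ∧
    LinearIndependent k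
      ![c, l ^ 2 * h, l ^ 2 * h13, l ^ 2 * h23, l * h ^ 2, l * h * h13, l * h * h23, l * h13 ^ 2, l * h23 ^ 2,
        l * h13 * h23] := by
  subst hh hh13 hh23
  subst hl hh1 hh2 hh3 hc
  set l : MvPolynomial (Fin 4) k := X 0 * X 3 - X 1 * X 2 with hl
  set h1 : MvPolynomial (Fin 4) k := X 0 * (X 3 - X 2) + X 2 * (X 1 - X 0) with hh1
  set h2 : MvPolynomial (Fin 4) k := X 1 * (X 2 - X 3) + X 3 * (X 0 - X 1) with hh2
  set h3 : MvPolynomial (Fin 4) k := X 0 * X 3 + X 1 * X 2 with hh3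
  set c : MvPolynomial (Fin 4) k := X 0 * X 1 * (X 0 - X 1) * (X 2 * X 3 * (X 2 - X 3)) with hc
  let w1 : Fin 4 → ℕ := ![1, 1, 0, 0]
  let w2 : Fin 4 → ℕ := ![0, 0, 1, 1]
  have eC2 : (C (2 : k) : MvPolynomial (Fin 4) k) = 2 := map_ofNat C 2
  have hX : ∀ (w : Fin 4 → ℕ) (i : Fin 4), (X i : MvPolynomial (Fin 4) k).IsWeightedHomogeneous w (w i) :=
    fun w i => isWeightedHomogeneous_X k w i
  have hsubh : ∀ {w : Fin 4 → ℕ} {n : ℕ} {p q : MvPolynomial (Fin 4) k},
      p.IsWeightedHomogeneous w n → q.IsWeightedHomogeneous w n → (p - q).IsWeightedHomogeneous w n :=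
    fun hp hq => Submodule.sub_mem (weightedHomogeneousSubmodule k _ _) hp hq
  have hquad : ∀ (w : Fin 4 → ℕ), (w = w1 ∨ w = w2) →
      l.IsWeightedHomogeneous w 1 ∧ h1.IsWeightedHomogeneous w 1 ∧ h2.IsWeightedHomogeneous w 1 ∧
      h3.IsWeightedHomogeneous w 1 ∧ c.IsWeightedHomogeneous w 3 := by
    intro w hw
    have hxy : w 0 = w 1 ∧ w 2 = w 3 ∧ w 0 + w 2 = 1 := by
      rcases hw with rfl | rfl <;> simp [w1, w2]
    obtain ⟨h01, h23', h02⟩ := hxy
    have d2 : ∀ i j, (X i * X j : MvPolynomial (Fin 4) k).IsWeightedHomogeneous w (w i + w j) :=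
      fun i j => (hX w i).mul (hX w j)
    refine ⟨hsubh (by simpa [← h23', h02] using d2 0 3) (by simpa [← h01, h02] using d2 1 2), ?_, ?_,
      (by simpa [← h23', h02] using d2 0 3 : (X 0 * X 3 : MvPolynomial (Fin 4) k).IsWeightedHomogeneous w 1).add
        (by simpa [← h01, h02] using d2 1 2), ?_⟩
    · have e1 := ((hX w 0).mul (hsubh (hX w 3) (h23' ▸ hX w 2))).add
        (show (X 2 * (X 1 - X 0) : MvPolynomial (Fin 4) k).IsWeightedHomogeneous w (w 0 + w 3) by
          rw [add_comm, ← h23', h01]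
          exact (hX w 2).mul (hsubh (hX w 1) (h01 ▸ hX w 0)))
      rwa [← h23', h02] at e1
    · have e1 := ((hX w 1).mul (hsubh (h23'.symm ▸ hX w 2) (hX w 3))).add
        (show (X 3 * (X 0 - X 1) : MvPolynomial (Fin 4) k).IsWeightedHomogeneous w (w 1 + w 3) by
          rw [add_comm]
          exact (hX w 3).mul (hsubh (h01.symm ▸ hX w 0 : (X 0 : MvPolynomial (Fin 4) k).IsWeightedHomogeneous w (w 1)) (hX w 1)))
      rwa [← h01, ← h23', h02] at e1
    · have e1 := (((hX w 0).mul (hX w 1)).mul (hsubh (hX w 0) (h01.symm ▸ hX w 1 : (X 1 : MvPolynomial (Fin 4) k).IsWeightedHomogeneous w (w 0)))).mul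
        (((hX w 2).mul (hX w 3)).mul (hsubh (hX w 2) (h23'.symm ▸ hX w 3 : (X 3 : MvPolynomial (Fin 4) k).IsWeightedHomogeneous w (w 2))))
      rw [← h01, ← h23'] at e1
      have : w 0 + w 0 + w 0 + (w 2 + w 2 + w 2) = 3 := by omega
      rwa [this] at e1
  -- the restriction to the diagonal and the involution
  let ρ : MvPolynomial (Fin 4) k →ₐ[k] MvPolynomial (Fin 2) k := rename (![0, 1, 0, 1] : Fin 4 → Fin 2)
  let ι : MvPolynomial (Fin 4) k →ₐ[k] MvPolynomial (Fin 4) k := rename (![2, 3, 0, 1] : Fin 4 → Fin 4)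
  let P : MvPolynomial (Fin 2) k := X 0 * X 1 * (X 0 - X 1)
  have hρl : ρ l = 0 := by simp [ρ, hl, mul_comm]
  have hρc : ρ c = P ^ 2 := by simp [ρ, P, hc]; ring
  have hιl : ι l = -l := by simp [ι, hl]; ring
  have hι1 : ι h1 = h1 := by simp [ι, hh1]; ring
  have hι2 : ι h2 = h2 := by simp [ι, hh2]; ring
  have hι3 : ι h3 = h3 := by simp [ι, hh3]; ring
  have hιc : ι c = c := by simp [ι, hc]; ring
  have hmemI : ∀ g, (∀ w, (w = w1 ∨ w = w2) → g.IsWeightedHomogeneous w 3) → P ^ 2 ∣ ρ g → g ∈ I :=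
    fun g hg hd => (hI g).2 ⟨hg _ (Or.inl rfl), hg _ (Or.inr rfl), hd⟩
  have hdeg : ∀ w, (w = w1 ∨ w = w2) → (h1 + h2 + h3).IsWeightedHomogeneous w 1 ∧
      (h1 - h3).IsWeightedHomogeneous w 1 ∧ (h2 - h3).IsWeightedHomogeneous w 1 := by
    intro w hw
    obtain ⟨-, a1, a2, a3, -⟩ := hquad w hw
    exact ⟨(a1.add a2).add a3, hsubh a1 a3, hsubh a2 a3⟩
  have hlI : ∀ g, (∀ w, (w = w1 ∨ w = w2) → g.IsWeightedHomogeneous w 2) → l * g ∈ I := by
    intro g hg
    refine hmemI _ (fun w hw => ?_) (by rw [map_mul, hρl, zero_mul]; exact dvd_zero _)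
    exact (hquad w hw).1.mul (hg w hw)
  -- the linear conditions
  have hrel : ∀ a : Fin 4 × Fin 4 → k, form a ∈ I →
      a (0, 0) = 0 ∧ a (0, 1) + a (1, 0) = 0 ∧ a (3, 3) = 0 ∧ a (2, 3) + a (3, 2) = 0 ∧
      (a (0,0) + a (0,1) + a (0,2) + a (0,3) + a (1,0) + a (1,1) + a (1,2) + a (1,3) + a (2,0) + a (2,1) +
        a (2,2) + a (2,3) + a (3,0) + a (3,1) + a (3,2) + a (3,3) = 0) ∧
      (a (0,1) + 2 * a (0,2) + 3 * a (0,3) + a (1,0) + 2 * a (1,1) + 3 * a (1,2) + 4 * a (1,3) + 2 * a (2,0) +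
        3 * a (2,1) + 4 * a (2,2) + 5 * a (2,3) + 3 * a (3,0) + 4 * a (3,1) + 5 * a (3,2) + 6 * a (3,3) = 0) := by
    intro a ha
    obtain ⟨q, hq⟩ := ((hI _).1 ha).2.2
    have hv : ∀ (u v : k), u * v * (u - v) = 0 →
        eval ![u, v] (ρ (form a)) = 0 ∧ ∀ i, eval ![u, v] (pderiv i (ρ (form a))) = 0 := by
      intro u v huv
      have hP0 : eval ![u, v] P = 0 := by simp [P]; exact mul_eq_zero.1 huv |>.imp_left mul_eq_zero.1
      have hq' : ρ (form a) = P ^ 2 * q := hq
      refine ⟨?_, fun i => ?_⟩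
      · simp [hq', hP0]
      · simp [hq', Derivation.leibniz, Derivation.leibniz_pow, hP0]
    have e0 := hv 0 1 (by simp)
    have e1 := hv 1 0 (by simp)
    have e2 := hv 1 1 (by simp)
    have a0 := e0.1
    have a1 := e0.2 0
    have b0 := e1.1
    have b1 := e1.2 1
    have c0 := e2.1
    have c1 := e2.2 0
    rw [form_expand] at a0 a1 b0 b1 c0 c1
    simp [ρ, Fin.sum_univ_four, Derivation.leibniz, Derivation.leibniz_pow, pderiv_X, Pi.single_apply] at a0 a1 b0 b1 c0 c1
    refine ⟨a0, ?_, b0, ?_, ?_, ?_⟩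
    · linear_combination a1
    · linear_combination b1
    · linear_combination c0
    · linear_combination c1
  have hcoef : ∀ (f : MvPolynomial (Fin 4) k), f ∈ I → f = form (fun p => coeff (expo p) f) :=
    fun f hf => eq_form ((hI f).1 hf).1 ((hI f).1 hf).2.1
  have hsm : ∀ (s : Set (MvPolynomial (Fin 4) k)) (a : k) (g : MvPolynomial (Fin 4) k), g ∈ s →
      C a * g ∈ Submodule.span k s := fun s a g hg => by
    rw [← smul_eq_C_mul]; exact Submodule.smul_mem _ _ (Submodule.subset_span hg)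
  have h2ne : (2 : k) ≠ 0 := two_ne_zero
  refine ⟨fun f => ⟨?_, ?_⟩, fun f => ⟨?_, ?_⟩, ?_⟩
  · rintro ⟨hf, hinv⟩
    obtain ⟨a, rfl⟩ : ∃ a, f = form a := ⟨_, hcoef f hf⟩
    rw [rename_form] at hinv
    have hs : ∀ i j, a (j, i) = a (i, j) := fun i j => by
      have := congrArg (coeff (expo (i, j))) hinv
      rwa [coeff_form, coeff_form] at this
    obtain ⟨r0, r1, r6, r5, t0, t1⟩ := hrel a hf
    have q1 : a (0, 1) = 0 := by
      have : 2 * a (0, 1) = 0 := by linear_combination r1 - hs 0 1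
      simpa [h2ne] using this
    have q5 : a (2, 3) = 0 := by
      have : 2 * a (2, 3) = 0 := by linear_combination r5 - hs 2 3
      simpa [h2ne] using this
    simp only [hs 0 1, hs 0 2, hs 0 3, hs 1 2, hs 1 3, hs 2 3, r0, q1, r6, q5] at t0 t1
    have q11 : a (1, 1) = -a (1, 2) - a (0, 3) - 2 * a (0, 2) := by
      apply mul_left_cancel₀ h2ne
      linear_combination 4 * t0 - t1
    have q22 : a (2, 2) = -a (1, 2) - a (0, 3) - 2 * a (1, 3) := by
      linear_combination t0 - q11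
    have key : form a = C (-a (1, 2) - a (0, 3)) * c + C (a (0, 3) / 3) * (l ^ 2 * (h1 + h2 + h3)) +
        C (-(a (0, 3) / 3) - a (1, 3) / 2) * (l ^ 2 * (h1 - h3)) +
        C (-(a (0, 3) / 3) - a (0, 2) / 2) * (l ^ 2 * (h2 - h3)) := by
      have t3 : a (0, 3) = 3 * (a (0, 3) / 3) := by field_simp
      have t13 : a (1, 3) = 2 * (a (1, 3) / 2) := by field_simp
      have t02 : a (0, 2) = 2 * (a (0, 2) / 2) := by field_simp
      generalize a (0, 3) / 3 = B at t3 ⊢
      generalize a (1, 3) / 2 = G at t13 ⊢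
      generalize a (0, 2) / 2 = D at t02 ⊢
      rw [form_expand]
      simp [Fin.sum_univ_four, hs 0 1, hs 0 2, hs 0 3, hs 1 2, hs 1 3, hs 2 3, r0, q1, r6, q5, q11, q22,
        t3, t13, t02, map_sub, map_add, map_mul, map_neg, map_ofNat, hl, hh1, hh2, hh3, hc]
      ring
    rw [key]
    exact add_mem (add_mem (add_mem (hsm _ _ _ (by simp)) (hsm _ _ _ (by simp))) (hsm _ _ _ (by simp)))
      (hsm _ _ _ (by simp))
  · intro hf
    induction hf using Submodule.span_induction with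
    | mem g hg =>
      have hlg : ∀ g', (∀ w, (w = w1 ∨ w = w2) → g'.IsWeightedHomogeneous w 1) → ι g' = g' →
          l ^ 2 * g' ∈ I ∧ rename (![2, 3, 0, 1] : Fin 4 → Fin 4) (l ^ 2 * g') = l ^ 2 * g' := by
        intro g' hg' hι'
        refine ⟨?_, ?_⟩
        · rw [pow_two, mul_assoc]
          exact hlI _ fun w hw => (hquad w hw).1.mul (hg' w hw)
        · change ι _ = _
          rw [map_mul, map_pow, hιl, hι']; ring
      rcases hg with rfl | rfl | rfl | rfl
      · exact ⟨hmemI _ (fun w hw => (hquad w hw).2.2.2.2) (by rw [hρc]), hιc⟩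
      · exact hlg _ (fun w hw => (hdeg w hw).1) (by rw [map_add, map_add, hι1, hι2, hι3])
      · exact hlg _ (fun w hw => (hdeg w hw).2.1) (by rw [map_sub, hι1, hι3])
      · exact hlg _ (fun w hw => (hdeg w hw).2.2) (by rw [map_sub, hι2, hι3])
    | zero => exact ⟨zero_mem _, map_zero _⟩
    | add x y _ _ hx hy => exact ⟨add_mem hx.1 hy.1, by rw [map_add, hx.2, hy.2]⟩
    | smul a x _ hx => exact ⟨I.smul_mem a hx.1, by rw [map_smul, hx.2]⟩
  · rintro ⟨hf, hinv⟩
    obtain ⟨a, rfl⟩ : ∃ a, f = form a := ⟨_, hcoef f hf⟩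
    rw [rename_form] at hinv
    have hs : ∀ i j, a (j, i) = -a (i, j) := fun i j => by
      have := congrArg (coeff (expo (i, j))) hinv
      rwa [coeff_form, coeff_neg, coeff_form] at this
    have hd : ∀ i, a (i, i) = 0 := fun i => by
      have : 2 * a (i, i) = 0 := by linear_combination hs i i
      simpa [h2ne] using this
    have key : form a = C (a (3, 0) / 9) * (l * (h1 + h2 + h3) ^ 2) +
        C (-2 * (a (3, 0) / 9) - a (3, 1) / 6) * (l * (h1 + h2 + h3) * (h1 - h3)) +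
        C (-2 * (a (3, 0) / 9) - a (2, 0) / 6) * (l * (h1 + h2 + h3) * (h2 - h3)) +
        C (a (3, 0) / 9 + a (3, 1) / 6 + a (3, 2) / 4) * (l * (h1 - h3) ^ 2) +
        C (a (3, 0) / 9 + a (2, 0) / 6 + a (1, 0) / 4) * (l * (h2 - h3) ^ 2) +
        C (2 * (a (3, 0) / 9) + a (3, 1) / 6 + a (2, 0) / 6 + (a (2, 1) - a (3, 0)) / 4) *
          (l * (h1 - h3) * (h2 - h3)) := by
      have t30 : a (3, 0) = 9 * (a (3, 0) / 9) := by field_simp
      have t31 : a (3, 1) = 6 * (a (3, 1) / 6) := by field_simp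
      have t20 : a (2, 0) = 6 * (a (2, 0) / 6) := by field_simp
      have t32 : a (3, 2) = 4 * (a (3, 2) / 4) := by field_simp
      have t10 : a (1, 0) = 4 * (a (1, 0) / 4) := by field_simp
      have t21 : a (2, 1) = a (3, 0) + 4 * ((a (2, 1) - a (3, 0)) / 4) := by field_simp; ring
      generalize (a (2, 1) - a (3, 0)) / 4 = E at t21 ⊢
      generalize a (3, 0) / 9 = P' at t30 ⊢
      generalize a (3, 1) / 6 = Q at t31 ⊢
      generalize a (2, 0) / 6 = R at t20 ⊢
      generalize a (3, 2) / 4 = S at t32 ⊢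
      generalize a (1, 0) / 4 = T at t10 ⊢
      rw [form_expand]
      simp [Fin.sum_univ_four, hs 3 0, hs 3 1, hs 2 0, hs 3 2, hs 1 0, hs 2 1, hd, t21, t30, t31, t20, t32, t10,
        map_sub, map_add, map_mul, map_neg, map_ofNat, hl, hh1, hh2, hh3]
      ring
    rw [key]
    exact add_mem (add_mem (add_mem (add_mem (add_mem (hsm _ _ _ (by simp)) (hsm _ _ _ (by simp)))
      (hsm _ _ _ (by simp))) (hsm _ _ _ (by simp))) (hsm _ _ _ (by simp))) (hsm _ _ _ (by simp))
  · intro hf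
    induction hf using Submodule.span_induction with
    | mem g hg =>
      have hlg : ∀ g' g'', (∀ w, (w = w1 ∨ w = w2) → g'.IsWeightedHomogeneous w 1) →
          (∀ w, (w = w1 ∨ w = w2) → g''.IsWeightedHomogeneous w 1) → ι g' = g' → ι g'' = g'' →
          l * g' * g'' ∈ I ∧ rename (![2, 3, 0, 1] : Fin 4 → Fin 4) (l * g' * g'') = -(l * g' * g'') := by
        intro g' g'' hg' hg'' hι' hι''
        refine ⟨?_, ?_⟩
        · rw [mul_assoc]
          exact hlI _ fun w hw => (hg' w hw).mul (hg'' w hw)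
        · change ι _ = _
          rw [map_mul, map_mul, hιl, hι', hι'']; ring
      have i0 : ι (h1 + h2 + h3) = h1 + h2 + h3 := by rw [map_add, map_add, hι1, hι2, hι3]
      have i1 : ι (h1 - h3) = h1 - h3 := by rw [map_sub, hι1, hι3]
      have i2 : ι (h2 - h3) = h2 - h3 := by rw [map_sub, hι2, hι3]
      have d0 := fun w hw => (hdeg w hw).1
      have d1 := fun w hw => (hdeg w hw).2.1
      have d2 := fun w hw => (hdeg w hw).2.2
      rcases hg with rfl | rfl | rfl | rfl | rfl | rfl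
      · simpa [sq, mul_assoc] using hlg _ _ d0 d0 i0 i0
      · exact hlg _ _ d0 d1 i0 i1
      · exact hlg _ _ d0 d2 i0 i2
      · simpa [sq, mul_assoc] using hlg _ _ d1 d1 i1 i1
      · simpa [sq, mul_assoc] using hlg _ _ d2 d2 i2 i2
      · exact hlg _ _ d1 d2 i1 i2
    | zero => exact ⟨zero_mem _, by simp⟩
    | add x y _ _ hx hy => exact ⟨add_mem hx.1 hy.1, by rw [map_add, hx.2, hy.2]; ring⟩
    | smul a x _ hx => exact ⟨I.smul_mem a hx.1, by rw [map_smul, hx.2, smul_neg]⟩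
  · rw [Fintype.linearIndependent_iff]
    intro g hg
    simp [Fin.sum_univ_succ] at hg
    set c0 := g 0
    set c1 := g 1
    set c2 := g 2
    set c3 := g 3
    set c4 := g 4
    set c5 := g 5
    set c6 := g 6
    set c7 := g 7
    set c8 := g 8
    set c9 := g 9
    let β : k := 3 * c1
    let γ : k := -2 * c1 - 2 * c2
    let δ : k := -2 * c1 - 2 * c3
    let p : k := 9 * c4
    let q : k := -12 * c4 - 6 * c5
    let r : k := -12 * c4 - 6 * c6
    let s : k := 4 * c4 + 4 * c5 + 4 * c7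
    let t : k := 4 * c4 + 4 * c6 + 4 * c8
    let w : k := 8 * c4 + 4 * c5 + 4 * c6 + 4 * c9
    let M : Fin 4 → Fin 4 → k := ![
      ![0, -t, δ - r, β - p],
      ![t, c0 - 2 * δ, -β - c0 - p - w, γ - q],
      ![δ + r, -β - c0 + p + w, c0 - 2 * γ, -s],
      ![β + p, γ + q, s, 0]]
    have key : form (fun x => M x.1 x.2) = 0 := by
      rw [form_expand]
      simp [Fin.sum_univ_four, M, β, γ, δ, p, q, r, s, t, w, map_sub, map_add, map_mul, map_neg, map_ofNat]
      rw [← hg]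
      simp [smul_eq_C_mul, hl, hh1, hh2, hh3, hc]
      ring
    have hM : ∀ i j, M i j = 0 := fun i j => by
      have := congrArg (coeff (expo (i, j))) key
      rwa [coeff_form, coeff_zero] at this
    have m30 : β + p = 0 := hM 3 0
    have m03 : β - p = 0 := hM 0 3
    have m31 : γ + q = 0 := hM 3 1
    have m13 : γ - q = 0 := hM 1 3
    have m20 : δ + r = 0 := hM 2 0
    have m02 : δ - r = 0 := hM 0 2
    have m11 : c0 - 2 * δ = 0 := hM 1 1
    have m21 : -β - c0 + p + w = 0 := hM 2 1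
    have m32 : s = 0 := hM 3 2
    have m10 : t = 0 := hM 1 0
    simp only [β, γ, δ, p, q, r, s, t, w] at m30 m03 m31 m13 m20 m02 m11 m21 m32 m10
    have h6ne : (6 : k) ≠ 0 := by exact_mod_cast (by norm_num : (6 : ℕ) ≠ 0)
    have h18ne : (18 : k) ≠ 0 := by exact_mod_cast (by norm_num : (18 : ℕ) ≠ 0)
    have h4ne : (4 : k) ≠ 0 := by exact_mod_cast (by norm_num : (4 : ℕ) ≠ 0)
    have h12ne : (12 : k) ≠ 0 := by exact_mod_cast (by norm_num : (12 : ℕ) ≠ 0)
    have v1 : c1 = 0 := mul_left_cancel₀ h6ne (by linear_combination m30 + m03)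
    have v4 : c4 = 0 := mul_left_cancel₀ h18ne (by linear_combination m30 - m03)
    have v2 : c2 = 0 := mul_left_cancel₀ h4ne (by linear_combination -(m31 + m13) - 4 * v1)
    have v5 : c5 = 0 := mul_left_cancel₀ h12ne (by linear_combination -(m31 - m13) - 24 * v4)
    have v3 : c3 = 0 := mul_left_cancel₀ h4ne (by linear_combination -(m20 + m02) - 4 * v1)
    have v6 : c6 = 0 := mul_left_cancel₀ h12ne (by linear_combination -(m20 - m02) - 24 * v4)
    have v0 : c0 = 0 := by linear_combination m11 - 4 * v1 - 4 * v3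
    have v7 : c7 = 0 := mul_left_cancel₀ h4ne (by linear_combination m32 - 4 * v4 - 4 * v5)
    have v8 : c8 = 0 := mul_left_cancel₀ h4ne (by linear_combination m10 - 4 * v4 - 4 * v6)
    have v9 : c9 = 0 := mul_left_cancel₀ h4ne (by linear_combination m21 + 3 * v1 + v0 - 17 * v4 - 4 * v5 - 4 * v6)
    intro i
    fin_cases i <;> assumption

end Groth.Agent.S16153
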