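import Groth.Statements.S16154
import Groth.Agent.DualAbs.CICoh
-- import your own Groth.Agent.* helpers here

set_option autoImplicit false
universe u
open CategoryTheory CategoryTheory.Limits AlgebraicGeometry
open WGauss

namespace Groth.Agent.S16154

/-- Let k be a field and X in projective n-space over k the common zero scheme of m forms G_j of degrees
d_1 >= d_2 >= ... >= d_m >= 2 (m >= 1), smooth over k of relative dimension kk >= 1 with kk + m = n,
so that X is a smooth complete intersection of dimension kk whose twisted conormal bundle N_X^*(t)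
is the direct sum of the O_X(t - d_j). Then, for an integer t, H^1(X, O_X(t - d_j)) = 0 for every j
(that is, H^1(X, N_X^*(t)) = 0) if and only if either kk >= 2, or kk = 1 and t > 2 d_1 + d_2 + ... +
d_m - n - 1. Here O_X(c) is the pullback of O(c) from projective space along the inclusion of X.
(The source works over the complex numbers with X smooth projective; the statement is given over any
field.) -/
theorem result
    (k : Type u) [Field k] (n kk m : ℕ) (hkk : 1 ≤ kk) (hm : 1 ≤ m) (hn : kk + m = n)
    (d : Fin m → ℕ) (hd2 : ∀ j, 2 ≤ d j) (hanti : Antitone d)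
    (G : ∀ j : Fin m, LefPen.Form n k (d j))
    [SmoothOfRelativeDimension kk ((LefPen.ciIdeal G).subschemeι ≫ CohB1.ProjSpace.toSpec n k)]
    (t : ℤ) :
    (∀ j : Fin m, Subsingleton (Coh.HH (LefPen.ciIdeal G).subscheme
        ((Scheme.Modules.pullback (LefPen.ciIdeal G).subschemeι).obj
          (Twist.twistProjSpace n k (t - (d j : ℤ)))) 1)) ↔
      (2 ≤ kk ∨ (kk = 1 ∧ ((d ⟨0, hm⟩ : ℤ) + ∑ j : Fin m, (d j : ℤ)) - (n : ℤ) - 1 < t)) := by
  letI : (LefPen.ciIdeal G).subscheme.Over (Spec (CommRingCat.of k)) :=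
    ⟨(LefPen.ciIdeal G).subschemeι ≫ CohB1.ProjSpace.toSpec n k⟩
  haveI : IsProper ((LefPen.ciIdeal G).subscheme ↘ Spec (CommRingCat.of k)) :=
    haveI := Groth.Agent.ProjProper.Basic.isProper_toSpec n k
    inferInstanceAs (IsProper ((LefPen.ciIdeal G).subschemeι ≫ CohB1.ProjSpace.toSpec n k))
  haveI := Groth.Agent.EulerChar.isLocallyNoetherian k (X := (LefPen.ciIdeal G).subscheme)
  have hdim : topologicalKrullDim (LefPen.ciIdeal G).subscheme ≤ ((n - m : ℕ) : WithBot ℕ∞) := by
    rw [show n - m = kk by omega]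
    haveI : SmoothOfRelativeDimension kk ((LefPen.ciIdeal G).subscheme ↘ Spec (CommRingCat.of k)) :=
      inferInstanceAs (SmoothOfRelativeDimension kk
        ((LefPen.ciIdeal G).subschemeι ≫ CohB1.ProjSpace.toSpec n k))
    rcases isEmpty_or_nonempty ↥(LefPen.ciIdeal G).subscheme with he | he
    · haveI : IsEmpty (TopologicalSpace.IrreducibleCloseds ↥(LefPen.ciIdeal G).subscheme) :=
        ⟨fun s => (s.isIrreducible'.nonempty.elim fun x _ => he.false x)⟩
      exact (Order.krullDim_eq_bot (α := TopologicalSpace.IrreducibleCloseds ↥(LefPen.ciIdeal G).subscheme)).le.trans bot_le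
    · exact (Groth.Agent.DualAbs.SmoothDual.topologicalKrullDim_eq k (r := kk)).le
  obtain ⟨-, hvan, hB⟩ := Groth.Agent.DualAbs.CICoh.cohomology G (fun j => le_trans (by norm_num) (hd2 j))
    hdim (by omega) m le_rfl
  have hI : (LefPen.ciIdeal G).subschemeι.ker = LefPen.ciIdeal (Groth.Agent.CIProj49.pre G m le_rfl) :=
    Scheme.IdealSheafData.ker_subschemeι _
  have key : ∀ c : ℤ, Subsingleton (Coh.HH (LefPen.ciIdeal G).subscheme
      ((Scheme.Modules.pullback (LefPen.ciIdeal G).subschemeι).obj (Twist.twistProjSpace n k c)) 1) ↔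
      (2 ≤ kk ∨ (∑ j : Fin m, (d j : ℤ)) - n - 1 < c) := by
    intro c
    haveI := Groth.Agent.EulerChar.finite_HH k _
      (Groth.Agent.DualAbs.CICoh.isCoh_pull (LefPen.ciIdeal G).subschemeι c) 1
    rw [← Module.finrank_zero_iff (R := k), Groth.Agent.DualAbs.CICoh.finrank_pull _ rfl c 1, hI]
    by_cases h : 2 ≤ kk
    · exact iff_of_true (hvan c 1 le_rfl (by omega)) (Or.inl h)
    · have h1 := hB.eq_zero_iff c
      have hs : Groth.Agent.DualAbs.CICoh.shift d m le_rfl = (∑ j : Fin m, (d j : ℤ)) - m := by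
        simp [Groth.Agent.DualAbs.CICoh.shift, Finset.sum_sub_distrib]
      rw [show n - m = 1 by omega, hs] at h1
      rw [h1, or_iff_right h]
      omega
  simp only [key]
  constructor
  · intro h
    rcases h ⟨0, hm⟩ with h | h
    · exact Or.inl h
    · by_cases h2 : 2 ≤ kk
      · exact Or.inl h2
      · exact Or.inr ⟨by omega, by omega⟩
  · rintro (h | ⟨-, h⟩) j
    · exact Or.inl h
    · refine Or.inr ?_
      have : d j ≤ d ⟨0, hm⟩ := hanti (Nat.zero_le _)
      omega

end Groth.Agent.S16154
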