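import Groth.Statements.S16156
import Mathlib.Tactic.Linarith
import Mathlib.Tactic.Ring
import Mathlib.Tactic.LinearCombination
import Mathlib.Tactic.Positivity
import Mathlib.Tactic.FieldSimp
-- import your own Groth.Agent.* helpers here

set_option autoImplicit false
universe u
open MukaiVec

namespace Groth.Agent.S16156

/-- Let N be an abelian group with a symmetric integer-valued bilinear form and H an element with H·H =
2n for some n > 0 such that every x with x·H = 0 satisfies x·x ≤ 0 (the Hodge index inequality). Fix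
integers r ≥ 2, d > 0 and χ < 0 (a Mukai vector v = (r, dH, χ)) and an isotropic Mukai vector u =
(p, η, q), p ≥ 0, η ∈ N, η·η = 2pq, whose pairing ⟨v, u⟩ = d(H·η) − rq − χp has absolute value 1 or
2. Exclude the case d = 1, χ = −1, H·η = 1, η·η = 0, and when r = 2 also the case p = 0, H·η = 0.
Then the pairings of u∨ = (p, −η, q) with w₀ = (0, rH, −2nd) and with w₁ = (2nd, −χH, 0) are both
non-negative or both negative: 2ndp − r(H·η) ≥ 0 holds if and only if χ(H·η) − 2ndq ≥ 0 holds. -/
theorem result
    (N : Type u) [AddCommGroup N] (B : LinearMap.BilinForm ℤ N) (hB : ∀ x y : N, B x y = B y x)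
    (H : N) (n : ℤ) (hn : 0 < n) (hH : B H H = 2 * n) (hodge : ∀ x : N, B x H = 0 → B x x ≤ 0)
    (r d χ p q : ℤ) (η : N) (hr : 2 ≤ r) (hd : 0 < d) (hχ : χ < 0) (hp : 0 ≤ p)
    (hiso : B η η = 2 * p * q)
    (hvu : 1 ≤ |d * B H η - r * q - χ * p| ∧ |d * B H η - r * q - χ * p| ≤ 2)
    (hexc : ¬ (d = 1 ∧ χ = -1 ∧ B H η = 1 ∧ B η η = 0))
    (hr2 : r = 2 → ¬ (p = 0 ∧ B H η = 0)) :
    (0 ≤ 2 * n * d * p - r * B H η ↔ 0 ≤ χ * B H η - 2 * n * d * q) := by
  have hodge' : 4 * n * (p * q) ≤ B H η * B H η := by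
    have h0 : B ((2 * n) • η - B H η • H) H = 0 := by
      simp only [map_sub, map_smul, LinearMap.sub_apply, LinearMap.smul_apply, smul_eq_mul, hH, hB η H]
      ring
    have hx := hodge _ h0
    simp only [map_sub, map_smul, LinearMap.sub_apply, LinearMap.smul_apply, smul_eq_mul, hH,
      hB η H, hiso] at hx
    nlinarith
  obtain ⟨hvu1, hvu2⟩ := hvu
  rw [abs_le] at hvu2
  obtain ⟨c, rfl⟩ : ∃ c, χ = -c := ⟨-χ, by ring⟩
  have hc : 1 ≤ c := by omega
  generalize hm : B H η = m at *
  have hnd : 0 < n * d := mul_pos hn hd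
  rcases lt_trichotomy m 0 with hneg | rfl | hpos
  · -- both nonnegative
    have hA : 0 ≤ 2 * n * d * p - r * m := by nlinarith [mul_nonneg hnd.le hp]
    refine iff_of_true hA ?_
    by_contra hB'
    have hq : 1 ≤ q := by nlinarith
    have hdm : 0 ≤ -d * m := by nlinarith
    have hrq : 2 ≤ r * q := by nlinarith
    have hcp : -d * m ≤ c * p := by nlinarith
    have hp1 : 1 ≤ p := by nlinarith
    have h2 : -m * (c * p) < 2 * n * d * (p * q) := by nlinarith
    nlinarith
  · -- `m = 0`
    have hpq : p * q ≤ 0 := by nlinarith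
    rcases eq_or_lt_of_le hp with rfl | hp0
    · exfalso
      by_cases hq0 : q = 0
      · subst hq0; norm_num at hvu1
      · have h3 : r ≠ 2 := fun h => hr2 h ⟨rfl, rfl⟩
        have h4 : 3 ≤ r := by omega
        simp only [mul_zero, sub_zero, zero_sub] at hvu2
        rcases (by omega : q ≤ -1 ∨ 1 ≤ q) with h | h
        · nlinarith [mul_le_mul_of_nonneg_left h (by omega : (0 : ℤ) ≤ r)]
        · nlinarith [mul_le_mul_of_nonneg_left h (by omega : (0 : ℤ) ≤ r)]
    · have hq : q ≤ 0 := by nlinarith
      exact iff_of_true (by nlinarith [mul_pos hnd hp0]) (by nlinarith)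
  · -- both negative
    have hdm : 1 ≤ d * m := by nlinarith
    have hcp : 0 ≤ c * p := by nlinarith
    refine iff_of_false (fun hA => ?_) fun hB' => ?_
    · have hp1 : 1 ≤ p := by nlinarith
      have hcp1 : 1 ≤ c * p := by nlinarith
      rcases (by omega : q ≤ -1 ∨ q = 0 ∨ 1 ≤ q) with hq | rfl | hq
      · nlinarith
      · have e1 : d * m ≤ 1 := by nlinarith
        have e2 : c * p ≤ 1 := by nlinarith
        have hd1 : d = 1 := by nlinarith
        have hm1 : m = 1 := by nlinarith
        have hc1 : c = 1 := by nlinarith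
        exact hexc ⟨hd1, by rw [hc1], hm1, by rw [hiso]; ring⟩
      · have h4 : 2 * (r * q) ≤ d * m := by
          have e1 : r * m * q ≤ 2 * n * d * p * q := mul_le_mul_of_nonneg_right (by linarith) (by omega)
          have e2 : 2 * n * d * p * q * 2 ≤ d * (m * m) := by nlinarith
          exact le_of_mul_le_mul_left (by nlinarith) hpos
        nlinarith
    · have hq : q ≤ -1 := by nlinarith
      nlinarith

end Groth.Agent.S16156
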