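import Groth.Statements.S16158
import Mathlib

set_option autoImplicit false
universe u v w
open MadRed

namespace Groth.Agent.S16158

/-- Let R be a commutative Noetherian ring and M a finitely generated R-module. Then there is a natural
number n such that in every decomposition of M as an internal direct sum of a family of submodules,
at most n of the summands are nonzero (the nonzero summands are indexed by a finite set of size at
most n). -/
theorem result (R : Type u) [CommRing R] [IsNoetherianRing R]
    (M : Type v) [AddCommGroup M] [Module R M] [Module.Finite R M] :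
    ∃ n : ℕ, ∀ (ι : Type w) [DecidableEq ι] (N : ι → Submodule R M), DirectSum.IsInternal N →
      ∃ s : Finset ι, s.card ≤ n ∧ ∀ i, N i ≠ ⊥ → i ∈ s := by
  classical
  have hfin := associatedPrimes.finite R M
  let T : Ideal R → Submodule R M := fun p => Submodule.torsionBySet R M p
  choose G hG using fun p => IsNoetherian.noetherian (T p)
  refine ⟨∑ p ∈ hfin.toFinset, (G p).card, fun ι _ N hN => ?_⟩
  have hass : ∀ i, N i ≠ ⊥ → ∃ p ∈ associatedPrimes R M, ∃ x : N i, p = LinearMap.ker (LinearMap.toSpanSingleton R (N i) x) := by
    intro i hi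
    haveI : Nontrivial (N i) := Submodule.nontrivial_iff_ne_bot.mpr hi
    obtain ⟨p, hp⟩ := associatedPrimes.nonempty R (N i)
    obtain ⟨hpr, x, hx⟩ := isAssociatedPrime_iff.mp hp
    refine ⟨p, associatedPrimes.subset_of_injective (f := (N i).subtype) Subtype.val_injective hp, x, ?_⟩
    rw [hx]
    ext r
    simp [Submodule.mem_colon_singleton]
  choose P hP x hx using hass
  have key : ∀ p ∈ associatedPrimes R M, ∀ s : Finset ι, (∀ i ∈ s, ∃ h : N i ≠ ⊥, P i h = p) → s.card ≤ (G p).card := by
    intro p hp s hs
    choose h hph using hs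
    let v : s → T p := fun i => ⟨(x i.1 (h i.1 i.2) : M), by
      rw [Submodule.mem_torsionBySet_iff]
      rintro ⟨r, hr⟩
      rw [← hph i.1 i.2, hx i.1 (h i.1 i.2)] at hr
      exact congrArg Subtype.val hr⟩
    haveI : p.IsPrime := hp.isPrime
    have hli : LinearIndependent (R ⧸ p) v := by
      rw [linearIndependent_iff']
      intro t g hg i hit
      choose r hr using fun j => Ideal.Quotient.mk_surjective (g j)
      have h0 : ∑ j ∈ t, r j • (x j.1 (h j.1 j.2) : M) = 0 := by
        have := congrArg Subtype.val hg
        rw [AddSubmonoidClass.coe_finsetSum] at this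
        refine Eq.trans (Finset.sum_congr rfl fun j _ => ?_) this
        rw [← hr j]
        rfl
      have hzero := (iSupIndep_iff_finset_sum_eq_zero_imp_eq_zero N).mp hN.submodule_iSupIndep
        (t.image Subtype.val) (fun a => if ha : a ∈ s then r ⟨a, ha⟩ • (x a (h a ha) : M) else 0) ?_ ?_ i.1 (Finset.mem_image_of_mem _ hit)
      · rw [dif_pos i.2] at hzero
        rw [← hr i, Ideal.Quotient.eq_zero_iff_mem, ← hph i.1 i.2, hx i.1 (h i.1 i.2), LinearMap.mem_ker]
        exact Subtype.ext hzero
      · intro a _
        beta_reduce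
        split_ifs with ha
        · exact (N a).smul_mem _ (x a (h a ha)).2
        · exact zero_mem _
      · rw [Finset.sum_image Subtype.val_injective.injOn, ← h0]
        exact Finset.sum_congr rfl fun j _ => by rw [dif_pos j.2]
    have hspan : Set.range v ≤ Submodule.span (R ⧸ p) (((G p).subtype (fun y => y ∈ T p) : Finset (T p)) : Set (T p)) := by
      intro y _
      obtain ⟨y, hy⟩ := y
      have hy' : y ∈ Submodule.span R (G p : Set M) := (hG p).symm ▸ hy
      have hsub : ∀ z ∈ G p, z ∈ T p := fun z hz => (hG p) ▸ Submodule.subset_span hz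
      have : ∀ z (hz : z ∈ Submodule.span R (G p : Set M)), (⟨z, (hG p) ▸ hz⟩ : T p) ∈
          Submodule.span (R ⧸ p) (((G p).subtype (fun y => y ∈ T p) : Finset (T p)) : Set (T p)) := by
        intro z hz
        induction hz using Submodule.span_induction with
        | mem z hz => exact Submodule.subset_span (Finset.mem_subtype.mpr hz)
        | zero => exact zero_mem _
        | add a b _ _ ha hb => exact add_mem ha hb
        | smul a z _ hz' => exact Submodule.smul_mem _ (Ideal.Quotient.mk p a) hz'
      exact this y hy'
    have := linearIndependent_le_span' v hli _ hspan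
    simp only [Cardinal.mk_fintype, Fintype.card_coe, Nat.cast_le, Finset.coe_sort_coe] at this
    exact this.trans (by rw [Finset.card_subtype]; exact Finset.card_filter_le _ _)
  have hbound : ∀ s : Finset ι, (∀ i ∈ s, N i ≠ ⊥) → s.card ≤ ∑ p ∈ hfin.toFinset, (G p).card := by
    intro s hs
    rw [Finset.card_eq_sum_card_fiberwise (f := fun i => if h : N i ≠ ⊥ then P i h else ⊥) (t := hfin.toFinset)
      (fun i hi => by simp only [Finset.mem_coe] at hi ⊢; rw [dif_pos (hs i hi)]; exact hfin.mem_toFinset.mpr (hP _ _))]
    refine Finset.sum_le_sum fun p hp => key p (hfin.mem_toFinset.mp hp) _ fun i hi => ?_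
    rw [Finset.mem_filter] at hi
    refine ⟨hs i hi.1, ?_⟩; have h2 := hi.2; rw [dif_pos (hs i hi.1)] at h2; exact h2
  have hfs : {i | N i ≠ ⊥}.Finite := by
    by_contra hinf
    obtain ⟨t, ht, htc⟩ := Set.Infinite.exists_subset_card_eq hinf ((∑ p ∈ hfin.toFinset, (G p).card) + 1)
    have := hbound t fun i hi => ht hi
    omega
  exact ⟨hfs.toFinset, hbound _ (fun i hi => hfs.mem_toFinset.mp hi), fun i hi => hfs.mem_toFinset.mpr hi⟩

end Groth.Agent.S16158
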