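import Groth.Statements.S16161
import Groth.Agent.MadDiag.Basic
-- import your own Groth.Agent.* helpers here

set_option autoImplicit false
universe u v
open MadRed

namespace Groth.Agent.S16161

open Groth.Agent

/-- Let k be an algebraically closed field of characteristic zero and R a reduced finitely generated
commutative k-algebra whose spectrum is connected (R has no idempotents besides 0 and 1); let W =
R^n be a free R-module of finite rank and g an R-linear endomorphism of W of finite order, g^m = 1
with m > 0 (an element of finite order of GL(W)(R)). Then the action of g on W is diagonalizable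
over k: viewing g as a k-linear map, its eigenspaces for eigenvalues in k span W. The source also
assumes that g is diagonalizable over k on every fibre W ⊗ k(x), x a point of Spec R; for g of
finite order this holds automatically (k is algebraically closed of characteristic zero), as the
source itself notes, so that hypothesis is omitted. -/
theorem result
    (k : Type u) [Field k] [IsAlgClosed k] [CharZero k]
    (R : Type v) [CommRing R] [Algebra k R] [IsReduced R] [Algebra.FiniteType k R]
    (hconn : ∀ e : R, IsIdempotentElem e → e = 0 ∨ e = 1)
    (n : ℕ) (g : Module.End R (Fin n → R)) (m : ℕ) (hm : 0 < m) (hg : g ^ m = 1) :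
    ⨆ μ : k, Module.End.eigenspace (g.restrictScalars k) μ = ⊤ := by
  classical
  have hsep : (Polynomial.X ^ m - 1 : Polynomial k).Separable :=
    Polynomial.X_pow_sub_one_separable_iff.2 (by exact_mod_cast hm.ne')
  have hsp : (Polynomial.X ^ m - 1 : Polynomial k).Splits := IsAlgClosed.splits _
  have hmon : (Polynomial.X ^ m - 1 : Polynomial k).Monic := by
    simpa using Polynomial.monic_X_pow_sub_C (1 : k) hm.ne'
  have hnd := Polynomial.nodup_roots hsep
  refine MadDiag.iSup_eigenspace_eq_top (g.restrictScalars k)
    (Polynomial.X ^ m - 1 : Polynomial k).roots.toFinset ?_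
  have hprod : (∏ ν ∈ (Polynomial.X ^ m - 1 : Polynomial k).roots.toFinset,
      (Polynomial.X - Polynomial.C ν)) = (Polynomial.X ^ m - 1 : Polynomial k) := by
    rw [Finset.prod_eq_multiset_prod, Multiset.toFinset_val, Multiset.dedup_eq_self.2 hnd]
    exact (hsp.eq_prod_roots_of_monic hmon).symm
  rw [hprod, map_sub, map_pow, map_one, Polynomial.aeval_X, sub_eq_zero]
  refine LinearMap.ext fun v => ?_
  have h1 : ∀ j : ℕ, ((g.restrictScalars k) ^ j) v = (g ^ j) v := by
    intro j
    induction j with
    | zero => rfl
    | succ j ih => rw [pow_succ', pow_succ', Module.End.mul_apply, Module.End.mul_apply, ih]; rfl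
  rw [h1, hg]
  rfl


end Groth.Agent.S16161
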