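import Groth.Statements.S16164
import Groth.Agent.NeronLib.PosForm
import Mathlib.Tactic.Linarith

set_option autoImplicit false
open Neron

namespace Groth.Agent.S16164

/-- Let X, Y₁, Y₂ be finitely generated free abelian groups with chosen bases, so that homomorphisms are
integer matrices acting on column vectors and each group is identified with its dual; let P : X → Y₁
and Q : X → Y₂ be surjective with A = (P over Q) : X → Y₁ ⊕ Y₂ injective, and let Ψ₁, Ψ₂ be
symmetric positive-definite integer matrices on Y₁ and Y₂, Ψ their block-diagonal sum. If the image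
of Aᵀ Ψ : Y₁ ⊕ Y₂ → X coincides with the image of Aᵀ Ψ A : X → X (the reverse inclusion always
holds), then A is bijective. (In the source X, Y₁, Y₂ are character groups of maximal tori, P and Q
specialization maps, Ψ₁ and Ψ₂ monodromy pairings, and the hypothesis expresses that two groups of
components coincide.) -/
theorem result
    {ι κ₁ κ₂ : Type} [Fintype ι] [Fintype κ₁] [Fintype κ₂]
    (P : Matrix κ₁ ι ℤ) (Q : Matrix κ₂ ι ℤ)
    (hP : Function.Surjective P.mulVec) (hQ : Function.Surjective Q.mulVec)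
    (hA : Function.Injective (Matrix.fromRows P Q).mulVec)
    (Ψ₁ : Matrix κ₁ κ₁ ℤ) (Ψ₂ : Matrix κ₂ κ₂ ℤ) (hΨ₁ : Ψ₁.IsSymm) (hΨ₂ : Ψ₂.IsSymm)
    (hΨ₁pos : ∀ y : κ₁ → ℤ, y ≠ 0 → 0 < y ⬝ᵥ Ψ₁.mulVec y)
    (hΨ₂pos : ∀ y : κ₂ → ℤ, y ≠ 0 → 0 < y ⬝ᵥ Ψ₂.mulVec y)
    (himage : LinearMap.range ((Matrix.fromRows P Q).transpose * Matrix.fromBlocks Ψ₁ 0 0 Ψ₂).mulVecLin =
      LinearMap.range ((Matrix.fromRows P Q).transpose * Matrix.fromBlocks Ψ₁ 0 0 Ψ₂ * Matrix.fromRows P Q).mulVecLin) :
    Function.Bijective (Matrix.fromRows P Q).mulVec := by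
  classical
  set A := Matrix.fromRows P Q with hAdef
  set Φ := Matrix.fromBlocks Ψ₁ 0 0 Ψ₂ with hΦdef
  set B := Groth.Agent.NeronLib.PosForm.form Φ with hBdef
  have hΦ : Φ.IsSymm := Matrix.IsSymm.fromBlocks hΨ₁ (by simp) hΨ₂
  have hBsymm : ∀ x y, B x y = B y x := Groth.Agent.NeronLib.PosForm.form_symm hΦ
  have hBpos : ∀ z : κ₁ ⊕ κ₂ → ℤ, z ≠ 0 → 0 < B z z := by
    intro z hz
    have e : B z z = (z ∘ Sum.inl) ⬝ᵥ Ψ₁.mulVec (z ∘ Sum.inl) + (z ∘ Sum.inr) ⬝ᵥ Ψ₂.mulVec (z ∘ Sum.inr) := by
      rw [hBdef, Groth.Agent.NeronLib.PosForm.form_apply, hΦdef, Matrix.fromBlocks_mulVec]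
      simp [dotProduct, Fintype.sum_sum_type]
    rw [e]
    by_cases h1 : z ∘ Sum.inl = 0
    · have h2 : z ∘ Sum.inr ≠ 0 := fun h2 => hz (funext fun s => by
        rcases s with s | s
        · exact congrFun h1 s
        · exact congrFun h2 s)
      rw [h1]
      simpa using hΨ₂pos _ h2
    · have := hΨ₁pos _ h1
      by_cases h2 : z ∘ Sum.inr = 0
      · simp [h2, this]
      · linarith [hΨ₂pos _ h2]
  have hadj : ∀ (z : κ₁ ⊕ κ₂ → ℤ) (x : ι → ℤ), B z (A.mulVec x) = ((A.transpose * Φ).mulVec z) ⬝ᵥ x := by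
    intro z x
    rw [hBsymm, hBdef, Groth.Agent.NeronLib.PosForm.form_apply, ← Matrix.mulVec_mulVec,
      Matrix.mulVec_transpose, ← Matrix.dotProduct_mulVec, dotProduct_comm]
  have hex : ∀ z, ∃ x, (A.transpose * Φ).mulVec (z - A.mulVec x) = 0 := by
    intro z
    obtain ⟨x, hx⟩ := (himage ▸ LinearMap.mem_range_self (A.transpose * Φ).mulVecLin z :
      (A.transpose * Φ).mulVecLin z ∈ LinearMap.range (A.transpose * Φ * A).mulVecLin)
    simp only [Matrix.mulVecLin_apply] at hx
    exact ⟨x, by rw [Matrix.mulVec_sub, Matrix.mulVec_mulVec, hx, sub_self]⟩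
  choose xz hxz using hex
  have horth : ∀ z x, B (z - A.mulVec (xz z)) (A.mulVec x) = 0 := fun z x => by
    rw [hadj, hxz, zero_dotProduct]
  have hkey : ∀ z x, B (A.mulVec x) (A.mulVec (xz z)) = B (A.mulVec x) z := by
    intro z x
    have := horth z x
    rw [hBsymm, map_sub] at this
    linarith
  have huniq : ∀ z x, (∀ x', B (A.mulVec x') (A.mulVec x) = B (A.mulVec x') z) → A.mulVec x = A.mulVec (xz z) := by
    intro z x h
    by_contra hne
    have := hBpos _ (sub_ne_zero.2 hne)
    have e := h (x - xz z)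
    have e' := hkey z (x - xz z)
    rw [← Matrix.mulVec_sub] at this
    rw [Matrix.mulVec_sub] at this e e'
    rw [map_sub (B (A.mulVec x - A.mulVec (xz z))), e, e', sub_self] at this
    exact lt_irrefl _ this
  let pr : (κ₁ ⊕ κ₂ → ℤ) →+ (κ₁ ⊕ κ₂ → ℤ) := AddMonoidHom.mk' (fun z => A.mulVec (xz z)) (fun a b => by
    show A.mulVec (xz (a + b)) = _
    rw [← Matrix.mulVec_add]
    refine (huniq (a + b) (xz a + xz b) fun x' => ?_).symm
    rw [Matrix.mulVec_add, map_add, map_add, hkey, hkey])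
  let e : (κ₁ ⊕ κ₂ → ℤ) →+ (κ₁ ⊕ κ₂ → ℤ) :=
    AddMonoidHom.mk' (fun z => Sum.elim (z ∘ Sum.inl) 0) (fun a b => by funext s; rcases s with s | s <;> simp)
  have he : ∀ u v, B (e u) v = B (e u) (e v) := by
    intro u v
    simp only [hBdef, Groth.Agent.NeronLib.PosForm.form_apply, hΦdef, Matrix.fromBlocks_mulVec, e,
      AddMonoidHom.mk'_apply]
    simp [dotProduct, Fintype.sum_sum_type]
  have hesa : ∀ u v, B (e u) v = B u (e v) := fun u v => by rw [he, hBsymm, ← he, hBsymm]
  have heid : ∀ u, e (e u) = e u := fun u => by funext s; rcases s with s | s <;> rfl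
  have hprsa : ∀ u v, B (pr u) v = B u (pr v) := by
    intro u v
    show B (A.mulVec (xz u)) v = B u (A.mulVec (xz v))
    rw [← hkey v (xz u), hBsymm u, ← hkey u (xz v), hBsymm]
  have hprle : ∀ u, 0 ≤ B u (pr u) ∧ B u (pr u) ≤ B u u := by
    intro u
    have h1 : B u (pr u) = B (pr u) (pr u) := by
      show B u (A.mulVec (xz u)) = B (A.mulVec (xz u)) (A.mulVec (xz u))
      rw [hkey u (xz u), hBsymm]
    have nn : ∀ w, 0 ≤ B w w := fun w => by
      by_cases hw : w = 0
      · simp [hw]
      · exact (hBpos w hw).le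
    have h2 : B (u - pr u) (u - pr u) = B u u - B u (pr u) := by
      simp only [map_sub, AddMonoidHom.sub_apply]
      rw [hBsymm (pr u) u, ← h1]
      ring
    exact ⟨h1 ▸ nn _, by linarith [nn (u - pr u)]⟩
  have hT := Groth.Agent.NeronLib.PosForm.idempotent B hBsymm hBpos (e.comp (pr.comp e))
    (fun u v => by simp only [AddMonoidHom.comp_apply]; rw [hesa, hprsa, hesa])
    (fun u => by
      simp only [AddMonoidHom.comp_apply]
      rw [← hesa]
      exact (hprle (e u)).1)
    (fun u => by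
      simp only [AddMonoidHom.comp_apply]
      rw [← hesa]
      refine (hprle (e u)).2.trans ?_
      have hsub : B (u - e u) (u - e u) = B u u - B (e u) (e u) := by
        simp only [map_sub, AddMonoidHom.sub_apply]
        rw [← he u u, hBsymm u (e u)]
        ring
      by_cases h : u - e u = 0
      · rw [sub_eq_zero] at h; rw [← h]
      · have := hBpos _ h; linarith)
  have hprid : ∀ u, pr (pr u) = pr u := fun u => (huniq (pr u) (xz u) (fun x' => rfl)).symm
  have hcomm : ∀ u, pr (e u) = e (pr (e u)) := by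
    intro u
    have h := hT u
    simp only [AddMonoidHom.comp_apply, heid] at h
    have hsplit : B (pr (e u) - e (pr (e u))) (pr (e u) - e (pr (e u))) = 0 := by
      set a := pr (e u) with ha
      have a1 : B a a = B (e u) (e a) := by rw [ha, hprsa, hprid, ← he]
      have a2 : B (e a) (e a) = B (e u) (e (pr (e a))) := by
        rw [← he, hBsymm (e a) a, ha, hprsa, ← he]
      rw [h] at a2
      simp only [map_sub, AddMonoidHom.sub_apply]
      rw [← he a a] at a2
      rw [hBsymm a (e a), he a a, a1] at *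
      linarith
    by_contra hne
    exact ne_of_gt (hBpos _ (sub_ne_zero.2 hne)) hsplit
  refine ⟨hA, fun z => ?_⟩
  set k := z - pr z with hk
  have hprk : pr k = 0 := by rw [hk, map_sub, hprid, sub_self]
  have hsum : pr (e k) + pr (k - e k) = 0 := by rw [← map_add, add_sub_cancel, hprk]
  have hek : pr (e k) = 0 := by
    have h1 : pr (k - e k) = - pr (e k) := by rw [map_sub, hprk, zero_sub]
    have h2 : B (pr (k - e k)) (e (pr (e k))) = 0 := by
      rw [← hcomm, hprsa, hprid, hcomm, ← hesa, map_sub, heid, sub_self]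
      simp
    rw [h1, ← hcomm, map_neg, AddMonoidHom.neg_apply, neg_eq_zero] at h2
    by_contra hne
    exact ne_of_gt (hBpos _ hne) h2
  have hk0 : ∀ w, pr w = 0 → ∀ x, B w (A.mulVec x) = 0 := by
    intro w hw x
    have h := hkey w x
    rw [show A.mulVec (xz w) = pr w from rfl, hw, map_zero] at h
    rw [hBsymm, ← h]
  have hek0 : e k = 0 := by
    obtain ⟨a, ha⟩ := hP (k ∘ Sum.inl)
    by_contra hne
    refine ne_of_gt (hBpos _ hne) ?_
    have h := hk0 _ hek a
    rw [he] at h
    rw [show e (A.mulVec a) = e k from ?_] at h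
    · exact h
    · funext s
      rcases s with s | s
      · simp only [e, AddMonoidHom.mk'_apply, hAdef, Matrix.fromRows_mulVec]
        simp [ha]
      · rfl
  have hk00 : k = 0 := by
    obtain ⟨b, hb⟩ := hQ (k ∘ Sum.inr)
    by_contra hne
    refine ne_of_gt (hBpos _ hne) ?_
    have h := hk0 k hprk b
    have e1 : A.mulVec b = k + e (A.mulVec b) := by
      funext s
      rcases s with s | s
      · have := congrFun hek0 (Sum.inl s)
        simp only [e, AddMonoidHom.mk'_apply, Sum.elim_inl, Function.comp_apply, Pi.zero_apply] at this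
        simp [e, this]
      · simp only [e, AddMonoidHom.mk'_apply, hAdef, Matrix.fromRows_mulVec]
        simp [hb]
    rw [e1, map_add, ← hesa, hek0] at h
    simpa using h
  exact ⟨xz z, (sub_eq_zero.1 hk00).symm⟩

end Groth.Agent.S16164
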