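import Groth.Statements.S16170
import Groth.Agent.NeronLib.PosForm
import Mathlib.LinearAlgebra.Matrix.ToLin
import Mathlib.Tactic.Linarith

set_option autoImplicit false
open Neron

namespace Groth.Agent.S16170

/-- Let M and N be symmetric positive-semidefinite integer matrices on the same finite index set whose
sum M + N is positive definite, and let χ₁, χ₂ be integer matrices with χ₁ + χ₂ = 1 and M χ₂ = N χ₁.
Then χ₁ and χ₂ are idempotent. (In the intended application M = Pᵀ Ψ₁ P and N = Qᵀ Ψ₂ Q for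
surjective integer matrices P, Q and positive-definite Ψ₁, Ψ₂.) -/
theorem result
    {ι : Type} [Fintype ι] [DecidableEq ι]
    (M N χ₁ χ₂ : Matrix ι ι ℤ) (hM : M.IsSymm) (hN : N.IsSymm)
    (hMpos : ∀ v : ι → ℤ, 0 ≤ v ⬝ᵥ M.mulVec v) (hNpos : ∀ v : ι → ℤ, 0 ≤ v ⬝ᵥ N.mulVec v)
    (hpos : ∀ v : ι → ℤ, v ≠ 0 → 0 < v ⬝ᵥ (M + N).mulVec v)
    (hsum : χ₁ + χ₂ = 1) (hrel : M * χ₂ = N * χ₁) :
    χ₁ * χ₁ = χ₁ ∧ χ₂ * χ₂ = χ₂ := by
  have hS : (M + N) * χ₁ = M := by
    rw [add_mul, ← hrel, ← mul_add, hsum, mul_one]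
  have hSsymm : (M + N).IsSymm := hM.add hN
  have hT : ∀ x y : ι → ℤ, Groth.Agent.NeronLib.PosForm.form (M + N) x (χ₁.mulVec y) = x ⬝ᵥ M.mulVec y := by
    intro x y
    rw [Groth.Agent.NeronLib.PosForm.form_apply, Matrix.mulVec_mulVec, hS]
  have hid : ∀ x : ι → ℤ, χ₁.mulVec (χ₁.mulVec x) = χ₁.mulVec x := by
    refine Groth.Agent.NeronLib.PosForm.idempotent (Groth.Agent.NeronLib.PosForm.form (M + N))
      (Groth.Agent.NeronLib.PosForm.form_symm hSsymm) hpos (Matrix.mulVecLin χ₁).toAddMonoidHom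
      (fun x y => ?_) (fun x => ?_) (fun x => ?_)
    · show Groth.Agent.NeronLib.PosForm.form (M + N) (χ₁.mulVec x) y =
        Groth.Agent.NeronLib.PosForm.form (M + N) x (χ₁.mulVec y)
      rw [Groth.Agent.NeronLib.PosForm.form_symm hSsymm, hT, hT]
      exact Groth.Agent.NeronLib.PosForm.form_symm hM y x
    · show 0 ≤ Groth.Agent.NeronLib.PosForm.form (M + N) x (χ₁.mulVec x)
      rw [hT]
      exact hMpos x
    · show Groth.Agent.NeronLib.PosForm.form (M + N) x (χ₁.mulVec x) ≤ _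
      rw [hT, Groth.Agent.NeronLib.PosForm.form_apply, Matrix.add_mulVec, dotProduct_add]
      have := hNpos x
      linarith
  have h1 : χ₁ * χ₁ = χ₁ := by
    refine Matrix.toLin'.injective (LinearMap.ext fun x => ?_)
    rw [Matrix.toLin'_apply, Matrix.toLin'_apply, ← Matrix.mulVec_mulVec]
    exact hid x
  refine ⟨h1, ?_⟩
  rw [eq_sub_of_add_eq' hsum]
  simp [sub_mul, mul_sub, h1]

end Groth.Agent.S16170
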