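import Groth.Statements.S16172
import Groth.Agent.ValTors.Main
import Groth.Agent.ValTors.Desc
import Groth.Agent.ValTors.Split

set_option autoImplicit false
set_option linter.style.haveILetI false
set_option maxSynthPendingDepth 5
universe u
open CategoryTheory MonoidalCategory CartesianMonoidalCategory MonObj GrpObj AlgebraicGeometry
open NonAbH1
open scoped TensorProduct

namespace Groth.Agent.S16172

/-- Equality of classes gives an equivariant isomorphism. -/
theorem equivIso_of_eq {S : Scheme.{u}} {G : Over S} [GrpObj G] {K : Precoverage Scheme.{u}}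
    {P Q : TorsorSch G K} (h : (Quot.mk _ P : H1Sch G K) = Quot.mk _ Q) : Nonempty (EquivIso P.act Q.act) := by
  have hr : Equivalence fun P Q : TorsorSch G K => Nonempty (EquivIso P.act Q.act) :=
    ⟨fun P => ⟨⟨Iso.refl P.X, by rw [Iso.refl_hom, Category.comp_id, MonoidalCategory.whiskerLeft_id, Category.id_comp]⟩⟩,
      fun {P Q} ⟨i⟩ => ⟨⟨i.iso.symm, by
        rw [Iso.symm_hom, Iso.comp_inv_eq, Category.assoc, i.comm, ← MonoidalCategory.whiskerLeft_comp_assoc,
          Iso.inv_hom_id, MonoidalCategory.whiskerLeft_id, Category.id_comp]⟩⟩,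
      fun {P Q R} ⟨i⟩ ⟨j⟩ => ⟨⟨i.iso ≪≫ j.iso, by
        rw [Iso.trans_hom, MonoidalCategory.whiskerLeft_comp, Category.assoc, ← j.comm, ← Category.assoc, i.comm,
          Category.assoc]⟩⟩⟩
  exact hr.eqvGen_iff.1 (Quot.eqvGen_exact h)

/-- Let V be a valuation ring with fraction field K and M a V-group scheme of multiplicative type and of
finite type. Then H¹_fpqc(V, M) → H¹_fpqc(K, M) is injective: the base-change map along Spec K →
Spec V on classes of fpqc torsors (schemes with an M-action) is injective. In particular (the case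
of a V-torus, where fpqc torsors are the same as etale ones) a torsor under a V-torus that is
trivial over K is trivial. (The published statement does not assume M of finite type; the proof uses
it: the isotriviality of M and the reduction to valuation rings of finite rank need it.) -/
theorem result (V : Type u) [CommRing V]
    [IsDomain V] [ValuationRing V] (M : Over (Spec (CommRingCat.of V))) [GrpObj M] (hM : SGA3x.IsMultTypeFT M) :
    Function.Injective
      (NonAbH1.H1Sch.bcMap (Spec.map (CommRingCat.ofHom (algebraMap V (FractionRing V)))) M Scheme.fpqcPrecoverage) := by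
  classical
  intro x y hxy
  induction x using Quot.ind with
  | _ P₁ =>
  induction y using Quot.ind with
  | _ P₂ =>
  refine Quot.sound ?_
  let K := FractionRing V
  obtain ⟨i⟩ := equivIso_of_eq (P := P₁.bc (Spec.map (CommRingCat.ofHom (algebraMap V K))))
    (Q := P₂.bc (Spec.map (CommRingCat.ofHom (algebraMap V K)))) hxy
  haveI := Groth.Agent.DiagRig.multType_isAffineHom M hM
  haveI : IsAffine M.left := isAffine_of_isAffineHom M.hom
  obtain ⟨C, _, _, _, hfin, het, hfs, hff, haut, hmax, hfix, Λ, _, hΛ, ⟨eG⟩⟩ :=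
    Groth.Agent.ValTors.exists_galois_split V K M hM
  haveI : Module.Free V C := Module.free_of_flat_of_isLocalRing
  let e : Red.bc (Spec.map (CommRingCat.ofHom (algebraMap V C))) M ≅ Red.DS (Spec (CommRingCat.of C)) Λ :=
    (Grp.forget _).mapIso eG
  haveI : IsMonHom e.hom := eG.hom.hom.isMonHom_hom
  let L := FractionRing C
  haveI : FaithfulSMul V L := (faithfulSMul_iff_algebraMap_injective V L).2 (by
    rw [IsScalarTower.algebraMap_eq V C L]
    exact (IsFractionRing.injective C L).comp (FaithfulSMul.algebraMap_injective V C))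
  letI : Algebra K L := FractionRing.liftAlgebra V L
  haveI : IsScalarTower V K L := FractionRing.isScalarTower_liftAlgebra V L
  obtain ⟨B₁, _, _, _, ⟨z₁⟩⟩ := Groth.Agent.ValTors.exists_point_ff P₁.isTorsor.2
  obtain ⟨B₂, _, _, _, ⟨z₂⟩⟩ := Groth.Agent.ValTors.exists_point_ff P₂.isTorsor.2
  let B := B₁ ⊗[V] B₂
  haveI : Module.FaithfullyFlat V B := Module.FaithfullyFlat.trans V B₁ B
  let y₁ := Groth.Agent.ValTors.am (Algebra.TensorProduct.includeLeft : B₁ →ₐ[V] B) ≫ z₁
  let y₂ := Groth.Agent.ValTors.am (Algebra.TensorProduct.includeRight : B₂ →ₐ[V] B) ≫ z₂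
  let lB : B →ₐ[V] B ⊗[V] B := Algebra.TensorProduct.includeLeft
  let rB : B →ₐ[V] B ⊗[V] B := Algebra.TensorProduct.includeRight
  let iB : B →ₐ[V] K ⊗[V] B := Algebra.TensorProduct.includeRight
  let iB2 : B ⊗[V] B →ₐ[V] K ⊗[V] (B ⊗[V] B) := Algebra.TensorProduct.includeRight
  let lK : K ⊗[V] B →ₐ[K] K ⊗[V] (B ⊗[V] B) := Algebra.TensorProduct.map (AlgHom.id K K) lB
  let rK : K ⊗[V] B →ₐ[K] K ⊗[V] (B ⊗[V] B) := Algebra.TensorProduct.map (AlgHom.id K K) rB
  obtain ⟨c₁, hc₁, -⟩ := Groth.Agent.GITLib.existsUnique_diff P₁.isTorsor.1 (Groth.Agent.ValTors.am lB ≫ y₁)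
    (Groth.Agent.ValTors.am rB ≫ y₁)
  obtain ⟨c₂, hc₂, -⟩ := Groth.Agent.GITLib.existsUnique_diff P₂.isTorsor.1 (Groth.Agent.ValTors.am lB ≫ y₂)
    (Groth.Agent.ValTors.am rB ≫ y₂)
  obtain ⟨τ, hτ, -⟩ := Groth.Agent.GITLib.existsUnique_diff P₂.isTorsor.1 (Groth.Agent.ValTors.am iB ≫ y₂)
    (Groth.Agent.ValTors.trans i (K ⊗[V] B) (Groth.Agent.ValTors.am iB ≫ y₁))
  have el : (lK.restrictScalars V).comp iB = iB2.comp lB := AlgHom.ext fun b => by simp [lK, iB, iB2, lB]
  have er : (rK.restrictScalars V).comp iB = iB2.comp rB := AlgHom.ext fun b => by simp [rK, iB, iB2, rB]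
  obtain ⟨τ', hτ'⟩ := Groth.Agent.ValTors.exists_pt_base K e L hfix c₁ c₂ τ (by
    refine (Groth.Agent.GITLib.existsUnique_diff P₂.isTorsor.1 (Groth.Agent.ValTors.am iB2 ≫ Groth.Agent.ValTors.am lB ≫ y₂)
      (Groth.Agent.ValTors.trans i (K ⊗[V] (B ⊗[V] B)) (Groth.Agent.ValTors.am iB2 ≫ Groth.Agent.ValTors.am rB ≫ y₁))).unique ?_ ?_
    · show lift ((Groth.Agent.ValTors.am iB2 ≫ c₁) * (Groth.Agent.ValTors.am (lK.restrictScalars V) ≫ τ)) _ ≫ _ = _
      rw [P₂.act.lift_mul_act, Groth.Agent.ValTors.am_comp, ← el, ← Groth.Agent.ValTors.am_comp,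
        ← Groth.Agent.GITLib.comp_lift_act, hτ, Groth.Agent.ValTors.trans_am, Groth.Agent.ValTors.am_comp, el,
        ← Groth.Agent.ValTors.trans_smul, ← Groth.Agent.ValTors.am_comp, ← Groth.Agent.GITLib.comp_lift_act, hc₁]
    · show lift ((Groth.Agent.ValTors.am (rK.restrictScalars V) ≫ τ) * (Groth.Agent.ValTors.am iB2 ≫ c₂)) _ ≫ _ = _
      rw [P₂.act.lift_mul_act, ← Groth.Agent.GITLib.comp_lift_act, hc₂, Groth.Agent.ValTors.am_comp, ← er,
        ← Groth.Agent.ValTors.am_comp, ← Groth.Agent.GITLib.comp_lift_act, hτ, Groth.Agent.ValTors.trans_am,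
        Groth.Agent.ValTors.am_comp, er, Groth.Agent.ValTors.am_comp]
      simp only [y₁, Groth.Agent.ValTors.am_comp, AlgHom.comp_assoc])
  exact Groth.Agent.ValTors.equivIso_of_pt P₁.isTorsor P₂.isTorsor y₁ y₂ c₁ c₂ hc₁ hc₂ τ' hτ'

end Groth.Agent.S16172
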