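import Groth.Statements.S16174
import Groth.Agent.Hens.FiniteDomains
import Groth.Agent.AzInvLib.SH

set_option autoImplicit false
universe u
open Hensel

namespace Groth.Agent.S16174

/-- Let V be a Henselian valuation ring and p a prime ideal of V. Then the local rings V_p (localisation
at p) and V/p are Henselian. (Both are again valuation rings, which is elementary and not restated.) -/
theorem result (V : Type u) [CommRing V]
    [IsDomain V] [ValuationRing V] [HenselianLocalRing V] (p : Ideal V) [p.IsPrime] :
    HenselianLocalRing (Localization.AtPrime p) ∧ HenselianLocalRing (V ⧸ p) := by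
  haveI : Nontrivial (V ⧸ p) := Ideal.Quotient.nontrivial_iff.2 (Ideal.IsPrime.ne_top ‹_›)
  exact ⟨Groth.Agent.Hens.henselianLocalRing_of_finite_domains fun B _ _ _ _ =>
      Groth.Agent.Hens.isLocalRing_of_finite_localization p B,
    Groth.Agent.AzInvLib.henselianLocalRing_of_surjective (Ideal.Quotient.mk p)
      Ideal.Quotient.mk_surjective⟩

end Groth.Agent.S16174
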