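import Groth.Statements.S16185
import Groth.Agent.AlgSp.GorBC
import Groth.Agent.AlgSp.GorNoeth
import Groth.Agent.FlatMor.CMFlat
import Groth.Agent.Wt.FibNoeth
-- import your own Groth.Agent.* helpers here

set_option autoImplicit false
universe u
open CategoryTheory CategoryTheory.Limits AlgebraicGeometry
open Dual3

namespace Groth.Agent.S16185

/-- Let A be an Artinian local ring with maximal ideal m and let f : P → Spec A be a flat morphism of
schemes whose closed fibre X = P ×_{Spec A} Spec (A/m) is a Gorenstein scheme (locally Noetherian,
all local rings Gorenstein). Then f is a Gorenstein morphism: flat at every point with Gorenstein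
local rings on its fibres. (The source takes A to be a local Artinian algebra over a field k with
residue field k and X a k-scheme deformed flatly over A; the k-algebra structure plays no role, so
the residue field of A is used directly.) -/
theorem result
    {A : Type u} [CommRing A] [IsArtinianRing A] [IsLocalRing A]
    {P X : Scheme.{u}} (f : P ⟶ Spec (CommRingCat.of A)) [Flat f]
    (i : X ⟶ P) (q : X ⟶ Spec (CommRingCat.of (IsLocalRing.ResidueField A)))
    (hsq : IsPullback i q f (Spec.map (CommRingCat.ofHom (IsLocalRing.residue A))))
    (hX : Dual3.IsGorenstein X) : Dual3.IsGorensteinMor f := by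
  let g := Spec.map (CommRingCat.ofHom (IsLocalRing.residue A))
  haveI hgc : IsClosedImmersion g := IsClosedImmersion.spec_of_surjective _ IsLocalRing.residue_surjective
  haveI hgs : Surjective g := ⟨fun p => ⟨IsLocalRing.closedPoint _, by
    haveI := (show PrimeSpectrum A from p).isPrime
    apply PrimeSpectrum.ext (R := A)
    exact (IsLocalRing.eq_maximalIdeal (Ideal.comap_isMaximal_of_surjective _ IsLocalRing.residue_surjective
      (K := IsLocalRing.maximalIdeal (IsLocalRing.ResidueField A)))).trans
      (IsLocalRing.eq_maximalIdeal (IsArtinianRing.isMaximal_of_isPrime (show PrimeSpectrum A from p).asIdeal)).symm⟩⟩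
  haveI : Surjective i := MorphismProperty.of_isPullback hsq.flip hgs
  haveI := hX.1
  haveI : Flat q := MorphismProperty.of_isPullback (P := @Flat) hsq ‹Flat f›
  have hfibq : ∀ y, IsLocallyNoetherian (q.fiber y) := fun y => by
    haveI : IsLocallyNoetherian (Spec (CommRingCat.of (IsLocalRing.ResidueField A))) := inferInstance
    haveI : LocallyOfFiniteType ((Spec (CommRingCat.of (IsLocalRing.ResidueField A))).fromSpecResidueField y) := by
      haveI : IsPreimmersion ((Spec (CommRingCat.of (IsLocalRing.ResidueField A))).fromSpecResidueField y) := inferInstance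
      haveI : IsClosedImmersion ((Spec (CommRingCat.of (IsLocalRing.ResidueField A))).fromSpecResidueField y) :=
        IsClosedImmersion.of_isPreimmersion _ (by
          rw [Scheme.range_fromSpecResidueField]
          have : ({y} : Set _) = Set.univ := Set.eq_univ_of_forall fun z => Subsingleton.elim (α := PrimeSpectrum (IsLocalRing.ResidueField A)) z y
          rw [this]
          exact isClosed_univ)
      infer_instance
    haveI : LocallyOfFiniteType (q.fiberι y) :=
      MorphismProperty.of_isPullback (IsPullback.of_hasPullback q _).flip ‹_›
    exact LocallyOfFiniteType.isLocallyNoetherian (q.fiberι y)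
  have hfibf := (Groth.Agent.Wt.FibNoeth.forall_fiber_iff f q i g hsq).2 hfibq
  intro x
  obtain ⟨z, rfl⟩ := i.surjective x
  refine ((Groth.Agent.AlgSp.GorBC.gorenstein_bc hsq z
    (Groth.Agent.FlatMor.CMFlat.isNoetherianRing_quot f _ (hfibf _))
    (Groth.Agent.FlatMor.CMFlat.isNoetherianRing_quot q _ (hfibq _))).2.1 (Flat.stalkMap f (i z))
      (Groth.Agent.AlgSp.GorNoeth.gorenstein_of_flat q z (Flat.stalkMap q z) (hX.2 z)).1)

end Groth.Agent.S16185
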