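import Groth.Statements.S6889
import Groth.Agent.FittLib.Basic
-- import your own Groth.Agent.* helpers here

set_option autoImplicit false
universe u
open Fitt

namespace Groth.Agent.S6889

/-- Let `M` be an `R`-module generated by `x_1, …, x_n`. Then `Fit_k(M)` equals the ideal spanned by all
`(n-k) × (n-k)` determinants of matrices whose `n - k` rows are relation vectors among the `x_i`
(rows selected by any map `Fin (n-k) → Fin n`); in particular it does not depend on the generating
tuple. -/
theorem result {R : Type u} [CommRing R] {M : Type u} [AddCommGroup M] [Module R M]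
    {n : ℕ} (x : Fin n → M) (hx : Submodule.span R (Set.range x) = ⊤) (k : ℕ) :
    Fitt.ideal R M k = Ideal.span {d | ∃ (z : Fin (n - k) → (Fin n → R)) (e : Fin (n - k) → Fin n),
      (∀ j, ∑ i, z j i • x i = 0) ∧ d = (Matrix.of fun a b => z b (e a)).det} := by
  classical
  rw [Groth.Agent.FittLib.ideal_eq_G x hx k]
  apply le_antisymm
  · refine Ideal.span_le.2 ?_
    rintro _ ⟨a, ha, rfl⟩
    suffices h : ∀ (N : ℕ) (a : Matrix (Fin N) (Fin N) R) (c : Fin N → Fin n)
        (ρ : Fin (n - k) → Fin N) (Z : Fin N → Fin n → R), Function.Injective ρ →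
        (∀ i j, a i j = Z i (c j)) → (∀ b, ∑ j, Z (ρ b) j • x j = 0) →
        a.det ∈ Ideal.span {d | ∃ (z : Fin (n - k) → (Fin n → R)) (e : Fin (n - k) → Fin n),
          (∀ j, ∑ i, z j i • x i = 0) ∧ d = (Matrix.of fun a b => z b (e a)).det} from
      h n a id (fun b => ⟨b.1, by omega⟩) a
        (fun b b' h => Fin.ext (by simpa using h)) (fun _ _ => rfl) fun b => ha _ b.2
    intro N
    induction N with
    | zero =>
      intro a c ρ Z hρ haZ hZ
      have : IsEmpty (Fin (n - k)) := ⟨fun b => (ρ b).elim0⟩
      refine Ideal.subset_span ⟨isEmptyElim, isEmptyElim, isEmptyElim, ?_⟩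
      rw [Matrix.det_isEmpty, Matrix.det_isEmpty]
    | succ N ih =>
      intro a c ρ Z hρ haZ hZ
      by_cases hs : Function.Surjective ρ
      · let E := Equiv.ofBijective ρ ⟨hρ, hs⟩
        rw [← Matrix.det_submatrix_equiv_self E a, ← Matrix.det_transpose]
        refine Ideal.subset_span ⟨fun b => Z (ρ b), fun i => c (ρ i), hZ, ?_⟩
        congr 1
        ext i j
        exact haZ _ _
      · simp only [Function.Surjective, not_forall, not_exists] at hs
        obtain ⟨l, hl⟩ := hs
        rw [Matrix.det_succ_row a l]
        refine Submodule.sum_mem _ fun j _ => Ideal.mul_mem_left _ _ ?_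
        choose ρ' hρ' using fun b => Fin.exists_succAbove_eq (hl b)
        refine ih _ (c ∘ j.succAbove) ρ' (Z ∘ l.succAbove)
          (fun b b' h => hρ (by rw [← hρ' b, ← hρ' b', h])) (fun i i' => haZ _ _) fun b => ?_
        simpa [hρ'] using hZ b
  · refine Ideal.span_le.2 ?_
    rintro _ ⟨z, e, hz, rfl⟩
    rw [SetLike.mem_coe, ← Matrix.det_transpose]
    by_cases he : Function.Injective e
    · let C := {i : Fin n // i ∉ Set.range e}
      let E : Fin (n - k) ⊕ C ≃ Fin n :=
        (Equiv.sumCongr (Equiv.ofInjective e he) (Equiv.refl C)).trans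
          (Equiv.sumCompl (fun i : Fin n => i ∈ Set.range e))
      let big : Matrix (Fin (n - k) ⊕ C) (Fin (n - k) ⊕ C) R :=
        Matrix.fromBlocks (Matrix.of fun a b => z b (e a)).transpose
          (Matrix.of fun b c => z b c.1) 0 1
      have hd : (Matrix.reindex E E big).det = (Matrix.of fun a b => z b (e a)).transpose.det := by
        rw [Matrix.det_reindex_self, Matrix.det_fromBlocks_zero₂₁, Matrix.det_one, mul_one]
      rw [← hd]
      refine Groth.Agent.FittLib.det_mem_G_of_card x k _
        ((Finset.univ : Finset C).image fun c => c.1) ?_ fun i hi => ?_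
      · refine Finset.card_image_le.trans ?_
        rw [Finset.card_univ]
        have h1 : Fintype.card (Fin (n - k) ⊕ C) = Fintype.card (Fin n) := Fintype.card_congr E
        rw [Fintype.card_sum, Fintype.card_fin, Fintype.card_fin] at h1
        omega
      · have hir : i ∈ Set.range e := by
          by_contra h
          exact hi (Finset.mem_image.2 ⟨⟨i, h⟩, Finset.mem_univ _, rfl⟩)
        obtain ⟨b, rfl⟩ := hir
        refine (Finset.sum_congr rfl fun j _ => ?_).trans (hz b)
        have hb : E.symm (e b) = Sum.inl b := E.symm_apply_eq.2 rfl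
        obtain ⟨s, rfl⟩ := E.surjective j
        simp only [Matrix.reindex_apply, Matrix.submatrix_apply, hb, Equiv.symm_apply_apply]
        rcases s with s | s <;> rfl
    · simp only [Function.Injective, not_forall] at he
      obtain ⟨a, a', h, hne⟩ := he
      rw [Matrix.det_transpose, Matrix.det_zero_of_row_eq hne (funext fun b => by
        simp [Matrix.of_apply, h])]
      exact Ideal.zero_mem _

end Groth.Agent.S6889
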