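import Groth.Statements.S16187
import Groth.Agent.S6889
import Groth.Agent.S12482
import Groth.Agent.JacCrit.Quotient
import Groth.Agent.FlatDVR.Main
import Mathlib.RingTheory.Kaehler.Polynomial
import Mathlib.RingTheory.Smooth.Field
import Mathlib.Algebra.Homology.DerivedCategory.Ext.EnoughProjectives
import Mathlib.Algebra.Homology.DerivedCategory.Ext.Linear
import Mathlib.Algebra.Category.ModuleCat.Ext.HasExt
-- import your own Groth.Agent.* helpers here

set_option autoImplicit false
universe u
open CategoryTheory
open Fitt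

namespace Groth.Agent.S16187

open TensorProduct KaehlerDifferential

/-- Fitting ideals from a presentation. -/
lemma fitting_eq {R : Type u} [CommRing R] {M : Type u} [AddCommGroup M] [Module R M]
    {n m : ℕ} (x : Fin n → M) (hx : Submodule.span R (Set.range x) = ⊤)
    (z : Fin m → Fin n → R)
    (hz : ∀ v : Fin n → R, (∑ i, v i • x i = 0) ↔ v ∈ Submodule.span R (Set.range z))
    (k s : ℕ) (hs : n - k = s) :
    Fitt.ideal R M k = Ideal.span {d | ∃ (f : Fin s → Fin m) (e : Fin s → Fin n),
      d = (Matrix.of fun a b => z (f b) (e a)).det} := by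
  classical
  subst hs
  rw [S6889.result x hx k]
  apply le_antisymm
  · refine Ideal.span_le.2 ?_
    rintro _ ⟨z', e, hz', rfl⟩
    have hc : ∀ b, ∃ c : Fin m → R, ∑ j, c j • z j = z' b := fun b =>
      (Submodule.mem_span_range_iff_exists_fun R).mp ((hz _).mp (hz' b))
    choose c hc using hc
    let Φ : MultilinearMap R (fun _ : Fin (n - k) => Fin n → R) R :=
      (Matrix.detRowAlternating (R := R) (n := Fin (n - k))).toMultilinearMap.compLinearMap
        (fun _ => LinearMap.funLeft R R e)
    have hΦ : ∀ w : Fin (n - k) → Fin n → R, Φ w = (Matrix.of fun a b => w b (e a)).det := by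
      intro w
      rw [← Matrix.det_transpose]
      rfl
    rw [← hΦ, show z' = fun b => ∑ j, c b j • z j from funext fun b => (hc b).symm,
      MultilinearMap.map_sum]
    refine Ideal.sum_mem _ fun f _ => ?_
    rw [MultilinearMap.map_smul_univ, smul_eq_mul]
    exact Ideal.mul_mem_left _ _ (Ideal.subset_span ⟨f, e, hΦ _⟩)
  · refine Ideal.span_le.2 ?_
    rintro _ ⟨f, e, rfl⟩
    exact Ideal.subset_span ⟨fun b => z (f b), e,
      fun j => (hz _).mpr (Submodule.subset_span ⟨f j, rfl⟩), rfl⟩

section
variable {k B : Type u} [Field k] [CommRing B] [Algebra k B] {r c : ℕ}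
    [Algebra (MvPolynomial (Fin r) k) B] [IsScalarTower k (MvPolynomial (Fin r) k) B]
    (a : Fin c → MvPolynomial (Fin r) k)

/-- The Jacobian matrix, by rows. -/
noncomputable def J (j : Fin c) (i : Fin r) : B :=
  algebraMap (MvPolynomial (Fin r) k) B (MvPolynomial.pderiv i (a j))

/-- The generators of Ω. -/
noncomputable def gen (i : Fin r) : Ω[B⁄k] :=
  D k B (algebraMap (MvPolynomial (Fin r) k) B (MvPolynomial.X i))

/-- B ⊗ Ω_P is free. -/
noncomputable def eFree : B ⊗[MvPolynomial (Fin r) k] Ω[MvPolynomial (Fin r) k⁄k] ≃ₗ[B] (Fin r → B) :=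
  ((mvPolynomialBasis k (Fin r)).baseChange B).equivFun

lemma eFree_one_tmul_D (j : Fin c) :
    eFree (B := B) (1 ⊗ₜ D k (MvPolynomial (Fin r) k) (a j)) = J a j := by
  funext i
  simp [eFree, J, Algebra.smul_def]

lemma mapBaseChange_eq (w : B ⊗[MvPolynomial (Fin r) k] Ω[MvPolynomial (Fin r) k⁄k]) :
    mapBaseChange k (MvPolynomial (Fin r) k) B w =
      Fintype.linearCombination B (gen (k := k) (B := B)) (eFree w) := by
  suffices mapBaseChange k (MvPolynomial (Fin r) k) B =
      (Fintype.linearCombination B (gen (k := k) (B := B))) ∘ₗ eFree.toLinearMap from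
    LinearMap.congr_fun this w
  refine ((mvPolynomialBasis k (Fin r)).baseChange B).ext fun i => ?_
  have h1 : eFree (B := B) (((mvPolynomialBasis k (Fin r)).baseChange B) i) = Pi.single i 1 := by
    funext j
    rw [eFree, Module.Basis.equivFun_apply, Module.Basis.repr_self, Finsupp.single_apply,
      Pi.single_apply]
    simp only [eq_comm]
  rw [LinearMap.comp_apply, LinearEquiv.coe_coe, h1, Fintype.linearCombination_apply_single, one_smul,
    Module.Basis.baseChange_apply, mapBaseChange_tmul, one_smul, mvPolynomialBasis_apply,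
    KaehlerDifferential.map_D]
  rfl

lemma exact_jacobian (hsurj : Function.Surjective (algebraMap (MvPolynomial (Fin r) k) B))
    (hker : RingHom.ker (algebraMap (MvPolynomial (Fin r) k) B) = Ideal.span (Set.range a)) :
    Function.Exact (Fintype.linearCombination B (J (B := B) a))
      (Fintype.linearCombination B (gen (k := k) (B := B) (r := r))) := by
  let P := MvPolynomial (Fin r) k
  intro v
  obtain ⟨w, rfl⟩ := (eFree (k := k) (B := B) (r := r)).surjective v
  rw [← mapBaseChange_eq, exact_kerCotangentToTensor_mapBaseChange k P B hsurj w]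
  constructor
  · rintro ⟨y, rfl⟩
    obtain ⟨⟨x, hx⟩, rfl⟩ := (RingHom.ker (algebraMap P B)).toCotangent_surjective y
    rw [kerCotangentToTensor_toCotangent]
    obtain ⟨q, hq⟩ := (Submodule.mem_span_range_iff_exists_fun P).mp
      (show x ∈ Submodule.span P (Set.range a) by rw [hker] at hx; exact hx)
    refine ⟨fun j => algebraMap P B (q j), ?_⟩
    have haz : ∀ j, algebraMap P B (a j) = 0 := fun j =>
      RingHom.mem_ker.mp (hker ▸ Ideal.subset_span ⟨j, rfl⟩)
    rw [Fintype.linearCombination_apply]
    show _ = eFree ((1 : B) ⊗ₜ[P] D k P x)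
    rw [← hq, map_sum, tmul_sum, map_sum]
    refine Finset.sum_congr rfl fun j _ => ?_
    rw [smul_eq_mul, Derivation.leibniz, tmul_add, tmul_smul, tmul_smul, ← algebraMap_smul B (a j),
      haz, zero_smul, add_zero, ← algebraMap_smul B (q j), map_smul, eFree_one_tmul_D]
  · rintro ⟨t, ht⟩
    have : w = ∑ j, t j • ((1 : B) ⊗ₜ D k P (a j)) := by
      apply (eFree (k := k) (B := B) (r := r)).injective
      rw [← ht, map_sum, Fintype.linearCombination_apply]
      refine Finset.sum_congr rfl fun i _ => ?_
      rw [map_smul, eFree_one_tmul_D]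
    rw [this]
    have hr : ∀ j, ∀ b : B, ∃ y, kerCotangentToTensor k P B y = b • ((1 : B) ⊗ₜ D k P (a j)) := by
      intro j b
      obtain ⟨p, rfl⟩ := hsurj b
      have hmem : a j ∈ RingHom.ker (algebraMap P B) := hker ▸ Ideal.subset_span ⟨j, rfl⟩
      refine ⟨p • (RingHom.ker (algebraMap P B)).toCotangent ⟨a j, hmem⟩, ?_⟩
      rw [map_smul, kerCotangentToTensor_toCotangent, algebraMap_smul]
    choose y hy using hr
    exact ⟨∑ j, y j (t j), (map_sum _ _ _).trans (Finset.sum_congr rfl fun j _ => hy j (t j))⟩

lemma injective_jacobian [PerfectField k] [IsReduced B]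
    (hsurj : Function.Surjective (algebraMap (MvPolynomial (Fin r) k) B))
    (hker : RingHom.ker (algebraMap (MvPolynomial (Fin r) k) B) = Ideal.span (Set.range a))
    (ha : RingTheory.Sequence.IsWeaklyRegular (MvPolynomial (Fin r) k) (List.ofFn a)) :
    Function.Injective (Fintype.linearCombination B (J (B := B) a)) := by
  classical
  let P := MvPolynomial (Fin r) k
  have : Algebra.FiniteType k B := .of_surjective (IsScalarTower.toAlgHom k P B) (by simpa using hsurj)
  rw [injective_iff_map_eq_zero]
  intro v hv
  obtain ⟨β, hβ⟩ := S12482.result P c a ha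
  funext j
  rw [Pi.zero_apply]
  refine (mem_nilradical.mp ?_ : IsNilpotent (v j)).eq_zero
  rw [nilradical, ← Ideal.sInf_minimalPrimes, Ideal.mem_sInf]
  intro p hp
  have : p.IsPrime := hp.1.1
  have hfield := Groth.Agent.FlatDVR.isField_localization_minimal p hp
  have hfs : Algebra.FormallySmooth k (Localization.AtPrime p) := by
    letI := hfield.toField
    have : Algebra.EssFiniteType B (Localization.AtPrime p) :=
      Algebra.EssFiniteType.of_isLocalization _ p.primeCompl
    have : Algebra.EssFiniteType k (Localization.AtPrime p) := Algebra.EssFiniteType.comp k B _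
    exact Algebra.FormallySmooth.of_perfectField
  have : Module.Finite P (RingHom.ker (algebraMap P B)).Cotangent := by
    have : Module.Finite P (RingHom.ker (algebraMap P B)) :=
      Module.Finite.iff_fg.mpr (IsNoetherian.noetherian _)
    exact Module.Finite.of_surjective _ (RingHom.ker (algebraMap P B)).toCotangent_surjective
  have hinj := (Groth.Agent.JacCrit.Quotient.formallySmooth_atPrime_iff (A := k) hsurj p).mp hfs
  let κ := p.ResidueField
  let I := Ideal.span (Set.range a)
  let θ : (P ⧸ I) →ₗ[P] κ := Submodule.liftQ I (Algebra.linearMap P κ) (by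
    intro x hx
    rw [LinearMap.mem_ker, Algebra.linearMap_apply, IsScalarTower.algebraMap_apply P B κ,
      RingHom.mem_ker.mp (hker ▸ hx : x ∈ RingHom.ker (algebraMap P B)), map_zero])
  let ψ : RingHom.ker (algebraMap P B) →ₗ[P] κ :=
    θ ∘ₗ ((β.coord j).restrictScalars P) ∘ₗ I.toCotangent ∘ₗ Submodule.inclusion hker.le
  let aI : Fin c → RingHom.ker (algebraMap P B) := fun i => ⟨a i, hker ▸ Ideal.subset_span ⟨i, rfl⟩⟩
  have hψ : ∀ i, ψ (aI i) = if i = j then 1 else 0 := by
    intro i
    have : I.toCotangent (Submodule.inclusion hker.le (aI i)) = β i := (hβ i).symm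
    simp only [ψ, LinearMap.comp_apply, this, LinearMap.restrictScalars_apply,
      Module.Basis.coord_apply, β.repr_self, Finsupp.single_apply]
    split_ifs with h
    · exact (algebraMap P κ).map_one
    · exact map_zero θ
  let t : κ ⊗[P] RingHom.ker (algebraMap P B) := ∑ i, algebraMap B κ (v i) ⊗ₜ aI i
  have ht : cotangentComplexBaseChange k B P κ t = 0 := by
    have h0 : ∑ i, v i • ((1 : B) ⊗ₜ[P] D k P (a i)) = 0 := by
      apply (eFree (k := k) (B := B) (r := r)).injective
      rw [map_zero, ← hv, map_sum, Fintype.linearCombination_apply]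
      refine Finset.sum_congr rfl fun i _ => ?_
      rw [map_smul, eFree_one_tmul_D]
    let L : B ⊗[P] Ω[P⁄k] →ₗ[B] κ ⊗[P] Ω[P⁄k] :=
      LinearMap.liftBaseChange B (TensorProduct.mk P κ Ω[P⁄k] 1)
    have := congrArg L h0
    rw [map_zero, map_sum] at this
    rw [← this, map_sum]
    refine Finset.sum_congr rfl fun i _ => ?_
    rw [cotangentComplexBaseChange_tmul, kerToTensor_apply, map_smul]
    simp only [L, LinearMap.liftBaseChange_tmul, one_smul]
    rw [← algebraMap_smul κ (v i)]
    rfl
  have ht0 : t = 0 := hinj (ht.trans (map_zero _).symm)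
  have := congrArg (LinearMap.liftBaseChange κ ψ) ht0
  simp only [t, map_sum, map_zero, LinearMap.liftBaseChange_tmul, hψ, smul_eq_mul, mul_ite,
    mul_one, mul_zero, Finset.sum_ite_eq', Finset.mem_univ, if_true] at this
  exact Ideal.algebraMap_residueField_eq_zero.mp this

end

section
open CategoryTheory Abelian

variable {B : Type u} [CommRing B] {M : Type u} [AddCommGroup M] [Module B M] {r c : ℕ}
  (row : Fin c → Fin r → B) (g : Fin r → M)

/-- Generators and relations of Ext¹ from a two-term free resolution. -/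
lemma ext_presentation (hinj : Function.Injective (Fintype.linearCombination B row))
    (hex : Function.Exact (Fintype.linearCombination B row) (Fintype.linearCombination B g))
    (hsurj : Function.Surjective (Fintype.linearCombination B g)) :
    ∃ x : Fin c → Ext.{u} (ModuleCat.of B M) (ModuleCat.of B B) 1,
      Submodule.span B (Set.range x) = ⊤ ∧
      ∀ v : Fin c → B, (∑ j, v j • x j = 0) ↔
        v ∈ Submodule.span B (Set.range fun (i : Fin r) (j : Fin c) => row j i) := by
  classical
  let S : ShortComplex (ModuleCat.{u} B) :=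
    ShortComplex.mk (ModuleCat.ofHom (Fintype.linearCombination B row))
      (ModuleCat.ofHom (Fintype.linearCombination B g)) (by ext1; exact hex.linearMap_comp_eq_zero)
  have hS : S.ShortExact :=
    { exact := (ShortComplex.ShortExact.moduleCat_exact_iff_function_exact _).2 hex
      mono_f := (ModuleCat.mono_iff_injective _).2 hinj
      epi_g := (ModuleCat.epi_iff_surjective _).2 hsurj }
  let proj : Fin c → (S.X₁ ⟶ ModuleCat.of B B) := fun j => ModuleCat.ofHom (LinearMap.proj j)
  let x : Fin c → Ext.{u} S.X₃ (ModuleCat.of B B) 1 := fun j =>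
    hS.extClass.comp (Ext.mk₀ (proj j)) (add_zero 1)
  have hdelta : ∀ v : Fin c → B, ∑ j, v j • x j =
      hS.extClass.comp (Ext.mk₀ (∑ j, v j • proj j)) (add_zero 1) := by
    intro v
    have h := map_sum (hS.extClass.precomp (ModuleCat.of B B) (add_zero 1))
      (fun j => Ext.mk₀ (v j • proj j)) Finset.univ
    simp only [Ext.precomp, AddMonoidHom.mk'_apply] at h
    have hadd : Ext.mk₀ (∑ j, v j • proj j) = ∑ j, Ext.mk₀ (v j • proj j) :=
      map_sum (Ext.addEquiv₀ (X := S.X₁) (Y := ModuleCat.of B B)).symm _ _
    rw [hadd]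
    refine Eq.trans ?_ h.symm
    refine Finset.sum_congr rfl fun j _ => ?_
    show _ = hS.extClass.comp (Ext.mk₀ (v j • proj j)) (add_zero 1)
    rw [Ext.mk₀_smul, Ext.comp_smul]
  have hsingle : ∀ (ψ : S.X₁ ⟶ ModuleCat.of B B),
      ψ = ∑ j, ψ.hom (Pi.single j 1) • proj j := by
    intro ψ
    apply ModuleCat.hom_ext
    refine (Pi.basisFun B (Fin c)).ext fun i => ?_
    simp [proj, Pi.single_apply, ModuleCat.hom_sum]
  refine ⟨x, ?_, fun v => ⟨fun hv => ?_, fun hv => ?_⟩⟩
  · rw [eq_top_iff]
    intro ξ _
    have : Projective S.X₂ := (IsProjective.iff_projective _).mp inferInstance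
    obtain ⟨x₁, rfl⟩ := Ext.contravariant_sequence_exact₃ hS (ModuleCat.of B B) ξ
      (Ext.eq_zero_of_projective _) (n₀ := 0) rfl
    obtain ⟨ψ, rfl⟩ : ∃ ψ, Ext.mk₀ ψ = x₁ := ⟨Ext.homEquiv₀ x₁, Ext.mk₀_homEquiv₀_apply x₁⟩
    rw [hsingle ψ, ← hdelta]
    exact Submodule.sum_mem _ fun j _ => Submodule.smul_mem _ _ (Submodule.subset_span ⟨j, rfl⟩)
  · rw [hdelta] at hv
    obtain ⟨x₂, hx₂⟩ := Ext.contravariant_sequence_exact₁ hS (ModuleCat.of B B)
      (Ext.mk₀ (∑ j, v j • proj j)) (n₁ := 1) rfl hv
    obtain ⟨χ, rfl⟩ : ∃ χ, Ext.mk₀ χ = x₂ := ⟨Ext.homEquiv₀ x₂, Ext.mk₀_homEquiv₀_apply x₂⟩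
    rw [Ext.mk₀_comp_mk₀] at hx₂
    have h := Ext.homEquiv₀.symm.injective hx₂
    refine (Submodule.mem_span_range_iff_exists_fun B).mpr ⟨fun i => χ.hom (Pi.single i 1), ?_⟩
    funext j
    have hj := congrArg (fun ψ : S.X₁ ⟶ ModuleCat.of B B => ψ.hom (Pi.single j 1)) h
    simp [proj, S, Pi.single_apply, ModuleCat.hom_sum] at hj
    rw [← hj]
    conv_rhs => rw [← (Pi.basisFun B (Fin r)).sum_repr (row j), map_sum]
    simp [mul_comm]
  · obtain ⟨q, rfl⟩ := (Submodule.mem_span_range_iff_exists_fun B).mp hv
    rw [hdelta]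
    have hfact : ∑ j, (∑ i, q i • fun j => row j i) j • proj j =
        S.f ≫ ModuleCat.ofHom (Fintype.linearCombination B q) := by
      apply ModuleCat.hom_ext
      refine (Pi.basisFun B (Fin c)).ext fun i => ?_
      simp [proj, S, Pi.single_apply, ModuleCat.hom_sum, Fintype.linearCombination_apply, mul_comm]
    rw [hfact, ← Ext.mk₀_comp_mk₀, ← Ext.comp_assoc_of_third_deg_zero, hS.extClass_comp,
      Ext.zero_comp]

end

/-- Let k be an algebraically closed field and let B be a reduced k-algebra presented as k[T_1, …,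
T_r]/(a_1, …, a_c) with a_1, …, a_c a regular sequence in the polynomial ring, so that Spec B is a
reduced complete intersection of dimension d = r - c. Then the d-th Fitting ideal of Ω_{B/k} equals
the 0-th Fitting ideal of the B-module T^1 = Ext^1_B(Ω_{B/k}, B). (The source states the equality
Fitt_d of the formal sheaf of differentials = Fitt_0 of T^1 for a flat morphism 𝔛 → Spf k[[t]] of
locally Noetherian formal schemes that is a local complete intersection of relative dimension d and
has reduced closed fibre, and obtains it on affine charts from a two-term free resolution of the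
differentials given by the conormal sequence; stated here is that chart computation on the closed
fibre, for a global complete intersection in affine r-space.) -/
theorem result
    (k : Type u) [Field k] [IsAlgClosed k] (r c : ℕ)
    (B : Type u) [CommRing B] [Algebra k B] [IsReduced B]
    (φ : MvPolynomial (Fin r) k →ₐ[k] B) (hφ : Function.Surjective φ)
    (a : Fin c → MvPolynomial (Fin r) k)
    (ha : RingTheory.Sequence.IsRegular (MvPolynomial (Fin r) k) (List.ofFn a))
    (hker : RingHom.ker φ.toRingHom = Ideal.span (Set.range a)) :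
    Fitt.ideal B (KaehlerDifferential k B) (r - c) =
      Fitt.ideal B (Abelian.Ext.{u} (ModuleCat.of B (KaehlerDifferential k B)) (ModuleCat.of B B) 1) 0 := by
  classical
  letI : Algebra (MvPolynomial (Fin r) k) B := φ.toRingHom.toAlgebra
  haveI : IsScalarTower k (MvPolynomial (Fin r) k) B :=
    IsScalarTower.of_algebraMap_eq fun x => (φ.commutes x).symm
  have hinj := injective_jacobian (B := B) a hφ hker ha.toIsWeaklyRegular
  have hex := exact_jacobian (B := B) a hφ hker
  have hgen : Function.Surjective (Fintype.linearCombination B (gen (k := k) (B := B) (r := r))) := by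
    intro y
    obtain ⟨w, rfl⟩ := mapBaseChange_surjective k (MvPolynomial (Fin r) k) B hφ y
    exact ⟨eFree w, (mapBaseChange_eq w).symm⟩
  have hΩ : ∀ v : Fin r → B, (∑ i, v i • gen (k := k) (B := B) i = 0) ↔
      v ∈ Submodule.span B (Set.range (J (B := B) a)) := by
    intro v
    rw [← Fintype.range_linearCombination, LinearMap.mem_range, ← Fintype.linearCombination_apply]
    exact (hex v).trans Set.mem_range
  obtain ⟨x, hx, hrel⟩ := ext_presentation (J (B := B) a) (gen (k := k) (B := B)) hinj hex hgen
  have hspan : Submodule.span B (Set.range (gen (k := k) (B := B) (r := r))) = ⊤ := by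
    rw [← Fintype.range_linearCombination, LinearMap.range_eq_top.mpr hgen]
  have hcr : c ≤ r := by
    rcases subsingleton_or_nontrivial B with hB | hB
    · exfalso
      refine ha.top_ne_smul ?_
      have h1 : Ideal.ofList (List.ofFn a) = ⊤ := by
        rw [show Ideal.ofList (List.ofFn a) = Ideal.span (Set.range a) by
          unfold Ideal.ofList; congr 1; ext; simp, ← hker, Ideal.eq_top_iff_one, RingHom.mem_ker]
        exact Subsingleton.elim _ _
      rw [h1, Submodule.top_smul]
    · simpa using LinearMap.finrank_le_finrank_of_injective hinj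
  rw [fitting_eq (gen (k := k) (B := B)) hspan (J (B := B) a) hΩ (r - c) c (by omega),
    fitting_eq x hx (fun (i : Fin r) (j : Fin c) => J (B := B) a j i) hrel 0 c (Nat.sub_zero c)]
  congr 1
  ext d
  constructor
  · rintro ⟨f, e, rfl⟩
    exact ⟨e, f, by rw [← Matrix.det_transpose]; rfl⟩
  · rintro ⟨f, e, rfl⟩
    exact ⟨e, f, by rw [← Matrix.det_transpose]; rfl⟩

end Groth.Agent.S16187
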