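import Groth.Statements.S16190
import Groth.Agent.CurveDVR.Stalk
import Groth.Agent.RegLoc.SmoothSection
import Groth.Agent.DefSchLib.Affine

set_option autoImplicit false
universe u
open CategoryTheory CategoryTheory.Limits AlgebraicGeometry
open Deform

namespace Groth.Agent.S16190

open IsLocalRing in
/-- A power series expansion of a formally smooth discrete valuation ring with residue field `k`. -/
theorem exists_expansion {k : Type u} [Field k] {O : Type u} [CommRing O] [IsDomain O]
    [IsDiscreteValuationRing O] [Algebra k O] [Algebra.FormallySmooth k O] (σ : O →ₐ[k] k) :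
    ∃ ψ : O →ₐ[k] PowerSeries k, Function.Injective ψ ∧
      ∀ a, PowerSeries.constantCoeff (ψ a) = σ a := by
  classical
  have hσ : Function.Surjective σ := fun c => ⟨algebraMap k O c, σ.commutes c⟩
  have hm : RingHom.ker σ.toRingHom = maximalIdeal O := by
    haveI : (RingHom.ker σ.toRingHom).IsMaximal := RingHom.ker_isMaximal_of_surjective _ hσ
    exact IsLocalRing.eq_maximalIdeal inferInstance
  obtain ⟨π, hπ⟩ := IsDiscreteValuationRing.exists_irreducible O
  have hπm : maximalIdeal O = Ideal.span {π} := (IsDiscreteValuationRing.irreducible_iff_uniformizer π).1 hπ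
  let I := RingHom.ker σ.toRingHom
  have hπI : π ∈ I := by rw [show I = maximalIdeal O from hm, hπm]; exact Ideal.mem_span_singleton_self π
  let g : (Fin 1 → k) →ₗ[k] I.Cotangent :=
    (LinearMap.toSpanSingleton k I.Cotangent (I.toCotangent ⟨π, hπI⟩)).comp (LinearMap.proj 0)
  have hgs : Function.Surjective g := fun z => by
    obtain ⟨⟨y, hy⟩, rfl⟩ := I.toCotangent_surjective z
    have hy' : y ∈ Ideal.span {π} := by rw [← hπm, ← hm]; exact hy
    obtain ⟨a, rfl⟩ := Ideal.mem_span_singleton'.1 hy'
    refine ⟨fun _ => σ a, ?_⟩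
    change σ a • I.toCotangent ⟨π, hπI⟩ = _
    rw [← IsScalarTower.algebraMap_smul O (σ a) (I.toCotangent ⟨π, hπI⟩), ← map_smul, Ideal.toCotangent_eq]
    change algebraMap k O (σ a) * π - a * π ∈ I ^ 2
    rw [← sub_mul, pow_two]
    refine Ideal.mul_mem_mul ?_ hπI
    change σ (algebraMap k O (σ a) - a) = 0
    rw [map_sub, σ.commutes, Algebra.algebraMap_self, RingHom.id_apply, sub_self]
  have hgi : Function.Injective g := by
    rw [injective_iff_map_eq_zero]
    intro v hv
    change v 0 • I.toCotangent ⟨π, hπI⟩ = 0 at hv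
    by_contra hv0
    have h0 : v 0 ≠ 0 := fun h => hv0 (funext fun i => by rw [Fin.fin_one_eq_zero i]; exact h)
    have h1 : I.toCotangent ⟨π, hπI⟩ = 0 := (smul_eq_zero.1 hv).resolve_left h0
    rw [Ideal.toCotangent_eq_zero] at h1
    replace h1 : π ∈ I ^ 2 := h1
    rw [show I = maximalIdeal O from hm, hπm, Ideal.span_singleton_pow,
      Ideal.mem_span_singleton, pow_two] at h1
    obtain ⟨w, hw⟩ := h1
    exact hπ.not_isUnit (isUnit_iff_exists_inv.2 ⟨w, mul_left_cancel₀ hπ.ne_zero
      (by rw [mul_one, ← mul_assoc]; exact hw.symm)⟩)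
  obtain ⟨e⟩ := RegLoc.nonempty_adicCompletion_algEquiv σ (LinearEquiv.ofBijective g ⟨hgi, hgs⟩).symm
  let r : MvPowerSeries (Fin 1) k ≃ₐ[k] PowerSeries k :=
    MvPowerSeries.renameEquiv k (finOneEquiv.trans (Equiv.equivPUnit.{1, 1} Unit).symm)
  let ψ : O →ₐ[k] PowerSeries k :=
    r.toAlgHom.comp (e.toAlgHom.comp (IsScalarTower.toAlgHom k O (AdicCompletion I O)))
  refine ⟨ψ, ?_, fun a => ?_⟩
  · refine r.injective.comp (e.injective.comp ?_)
    have hI : I ≠ ⊤ := by rw [show I = maximalIdeal O from hm]; exact (maximalIdeal.isMaximal O).ne_top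
    haveI : IsHausdorff I O := IsHausdorff.of_isLocalRing I O hI
    exact AdicCompletion.of_injective I O
  · let τ : O →ₐ[k] k :=
      { toRingHom := (PowerSeries.constantCoeff (R := k)).comp ψ.toRingHom
        commutes' := fun c => by
          change PowerSeries.constantCoeff (ψ (algebraMap k O c)) = c
          rw [ψ.commutes]
          exact PowerSeries.constantCoeff_C c }
    have hτ : Function.Surjective τ := fun c => ⟨algebraMap k O c, τ.commutes c⟩
    haveI : (RingHom.ker τ.toRingHom).IsMaximal := RingHom.ker_isMaximal_of_surjective _ hτ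
    have h1 : a - algebraMap k O (σ a) ∈ RingHom.ker τ.toRingHom := by
      rw [IsLocalRing.eq_maximalIdeal (I := RingHom.ker τ.toRingHom) inferInstance, ← hm]
      change σ (a - algebraMap k O (σ a)) = 0
      rw [map_sub, σ.commutes, Algebra.algebraMap_self, RingHom.id_apply, sub_self]
    have h2 : τ (a - algebraMap k O (σ a)) = 0 := h1
    rw [map_sub, τ.commutes, Algebra.algebraMap_self, RingHom.id_apply, sub_eq_zero] at h2
    exact h2


/-- Let k be an algebraically closed field and let X have a geometric smoothing, i.e. there are an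
integral k-scheme C smooth of dimension one over k, a k-rational point c of C and a flat proper
morphism π : Y → C whose fibre over c is X (as a k-scheme) and whose fibre over the generic point of
C is smooth. Then X has a smoothing over Spec k[[t]]: a flat proper morphism P → Spec k[[t]] with
closed fibre X over k and smooth generic fibre P ⊗ Frac k[[t]]. (The published lemma concludes that
X, assumed projective and equidimensional, is formally smoothable; its proof builds exactly this
family over the completed local ring of C at c, identified with k[[t]], and then appeals to a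
criterion equating smoothings over a discrete valuation ring with formal smoothings, which is not
restated; the hypotheses on X are not used in the step stated.) -/
theorem result
    (k : Type u) [Field k] [IsAlgClosed k]
    (X : Scheme.{u}) (pX : X ⟶ Spec (CommRingCat.of k))
    (C : Scheme.{u}) (qC : C ⟶ Spec (CommRingCat.of k)) (c : Spec (CommRingCat.of k) ⟶ C)
    (hc : c ≫ qC = 𝟙 (Spec (CommRingCat.of k))) [IsIntegral C] [Smooth qC]
    (hC : topologicalKrullDim C = 1)
    (Y : Scheme.{u}) (π : Y ⟶ C) [Flat π] [IsProper π] (j : X ⟶ Y) (hsq : IsPullback j pX π c)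
    (hgen : Smooth (π.fiberToSpecResidueField (genericPoint C))) :
    ∃ (P : Scheme.{u}) (p : P ⟶ Spec (CommRingCat.of (PowerSeries k))) (_ : Flat p) (_ : IsProper p)
      (i : X ⟶ P),
      IsPullback i pX p (Spec.map (CommRingCat.ofHom (PowerSeries.constantCoeff (R := k)))) ∧
      Smooth (pullback.snd p
        (Spec.map (CommRingCat.ofHom (algebraMap (PowerSeries k) (FractionRing (PowerSeries k)))))) := by
  classical
  let x := c.base (IsLocalRing.closedPoint k)
  have hx : IsClosed ({x} : Set C) := (pointEquivClosedPoint qC ⟨c, hc⟩).2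
  haveI := CurveDVR.isDiscreteValuationRing_stalk qC hC hx
  obtain ⟨_, ⟨U, hU, rfl⟩, hxU, -⟩ :=
    C.isBasis_affineOpens.exists_subset_of_mem_open (Set.mem_univ x) isOpen_univ
  have hU' : IsAffineOpen U := hU
  let σk : CommRingCat.of k ⟶ C.presheaf.stalk x :=
    CommRingCat.ofHom (DefSchLib.str qC U) ≫ C.presheaf.germ U x hxU
  have hσk : Spec.map σk = C.fromSpecStalk x ≫ qC := by
    rw [Spec.map_comp, DefSchLib.specMap_str qC hU', ← Category.assoc, ← hU'.fromSpecStalk_eq_fromSpecStalk hxU]
    rfl
  let res : C.presheaf.stalk x ⟶ CommRingCat.of k :=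
    Scheme.stalkClosedPointTo (R := CommRingCat.of k) c
  have hres : Spec.map res ≫ C.fromSpecStalk x = c :=
    Scheme.Spec_stalkClosedPointTo_fromSpecStalk (R := CommRingCat.of k) c
  have hσres : σk ≫ res = 𝟙 _ := by
    apply Spec.map_injective
    rw [Spec.map_comp, hσk, ← Category.assoc, hres, hc, Spec.map_id]
  letI aU : Algebra k Γ(C, U) := (DefSchLib.str qC U).toAlgebra
  letI : Algebra k (C.presheaf.stalk x) := σk.hom.toAlgebra
  letI := TopCat.Presheaf.algebra_section_stalk C.presheaf (⟨x, hxU⟩ : U)
  haveI : IsScalarTower k Γ(C, U) (C.presheaf.stalk x) := IsScalarTower.of_algebraMap_eq' rfl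
  haveI := hU'.isLocalization_stalk ⟨x, hxU⟩
  have hsm : RingHom.Smooth (qC.appLE ⊤ U le_top).hom :=
    HasRingHomProperty.appLE (P := @Smooth) qC inferInstance ⟨⊤, isAffineOpen_top _⟩ ⟨U, hU'⟩ le_top
  haveI : Algebra.Smooth k Γ(C, U) :=
    RingHom.Smooth.propertyIsLocal.respectsIso.2 (qC.appLE ⊤ U le_top).hom
      (Scheme.ΓSpecIso (CommRingCat.of k)).commRingCatIsoToRingEquiv.symm hsm
  haveI : Algebra.FormallyEtale Γ(C, U) (C.presheaf.stalk x) :=
    Algebra.FormallyEtale.of_isLocalization (hU'.primeIdealOf ⟨x, hxU⟩).asIdeal.primeCompl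
  haveI : Algebra.FormallySmooth k (C.presheaf.stalk x) := Algebra.FormallySmooth.comp k Γ(C, U) _
  let σ : C.presheaf.stalk x →ₐ[k] k :=
    { res.hom with commutes' := fun r => congr($(hσres).hom r) }
  obtain ⟨ψ, hψi, hψc⟩ := exists_expansion σ
  let ψc : C.presheaf.stalk x ⟶ CommRingCat.of (PowerSeries k) := CommRingCat.ofHom ψ.toRingHom
  let g : Spec (CommRingCat.of (PowerSeries k)) ⟶ C := Spec.map ψc ≫ C.fromSpecStalk x
  have hg : Spec.map (CommRingCat.ofHom (PowerSeries.constantCoeff (R := k))) ≫ g = c := by
    rw [← Category.assoc, ← Spec.map_comp]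
    refine Eq.trans ?_ hres
    congr 2
    ext a
    exact hψc a
  haveI : Flat (pullback.snd π g) := inferInstance
  haveI : IsProper (pullback.snd π g) := inferInstance
  let i : X ⟶ pullback π g := pullback.lift j
    (pX ≫ Spec.map (CommRingCat.ofHom (PowerSeries.constantCoeff (R := k))))
    (by rw [Category.assoc, hg]; exact hsq.w)
  refine ⟨pullback π g, pullback.snd π g, inferInstance, inferInstance, i,
    IsPullback.of_right (by rw [pullback.lift_fst, hg]; exact hsq) (pullback.lift_snd _ _ _)
      (IsPullback.of_hasPullback π g), ?_⟩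
  -- the generic fibre
  let K := FractionRing (PowerSeries k)
  let a : CommRingCat.of (PowerSeries k) ⟶ CommRingCat.of K := CommRingCat.ofHom (algebraMap (PowerSeries k) K)
  have hinj : Function.Injective ((algebraMap (PowerSeries k) K).comp ψ.toRingHom) :=
    (IsFractionRing.injective (PowerSeries k) K).comp hψi
  let φK : C.presheaf.stalk (genericPoint C) ⟶ CommRingCat.of K :=
    CommRingCat.ofHom (IsFractionRing.lift (A := C.presheaf.stalk x) (K := C.functionField) hinj)
  haveI : IsLocalHom φK.hom := ⟨fun z hz => isUnit_iff_ne_zero.2 fun h0 => by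
    rw [h0, map_zero] at hz; exact hz.ne_zero rfl⟩
  have hgen' : Spec.map a ≫ g = Spec.map (C.descResidueField φK) ≫ C.fromSpecResidueField (genericPoint C) := by
    rw [Scheme.descResidueField_fromSpecResidueField,
      ← Scheme.SpecMap_stalkSpecializes_fromSpecStalk (genericPoint_specializes x), ← Spec.map_comp_assoc,
      ← Spec.map_comp_assoc]
    congr 2
    ext z
    exact (IsFractionRing.lift_algebraMap (A := C.presheaf.stalk x) (K := C.functionField) hinj z).symm
  have sq : IsPullback (pullback.fst (pullback.snd π g) (Spec.map a) ≫ pullback.fst π g)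
      (pullback.snd (pullback.snd π g) (Spec.map a)) π (Spec.map a ≫ g) :=
    (IsPullback.of_hasPullback _ _).paste_horiz (IsPullback.of_hasPullback π g)
  rw [hgen'] at sq
  let t : pullback (pullback.snd π g) (Spec.map a) ⟶ π.fiber (genericPoint C) :=
    pullback.lift (pullback.fst _ _ ≫ pullback.fst π g)
      (pullback.snd _ _ ≫ Spec.map (C.descResidueField φK)) (by rw [sq.w, Category.assoc])
  have sq' : IsPullback t (pullback.snd (pullback.snd π g) (Spec.map a))
      (π.fiberToSpecResidueField (genericPoint C)) (Spec.map (C.descResidueField φK)) := by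
    refine IsPullback.of_right ?_ (pullback.lift_snd _ _ _) (IsPullback.of_hasPullback π _)
    rw [show t ≫ pullback.fst π (C.fromSpecResidueField (genericPoint C)) = _ from pullback.lift_fst _ _ _]
    exact sq
  exact MorphismProperty.of_isPullback (P := @Smooth) sq' hgen

end Groth.Agent.S16190
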