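import Groth.Statements.S6891
import Groth.Agent.FittLib.Rank
-- import your own Groth.Agent.* helpers here

set_option autoImplicit false
set_option linter.style.haveILetI false
universe u
open Fitt

namespace Groth.Agent.S6891

/-- Let `M` be a finite `R`-module. Then `Fit_0(M) ⊆ Ann_R(M)`, the closed set `V(Fit_0(M))` equals
`Supp(M)`, and for an ideal `I` one has `Fit_0(R/I) = I`. -/
theorem result {R : Type u} [CommRing R] (M : Type u) [AddCommGroup M]
    [Module R M] [Module.Finite R M] (I : Ideal R) :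
    Fitt.ideal R M 0 ≤ Module.annihilator R M ∧
    PrimeSpectrum.zeroLocus (Fitt.ideal R M 0 : Set R) = Module.support R M ∧
    Fitt.ideal R (R ⧸ I) 0 = I := by
  refine ⟨Groth.Agent.FittLib.ideal_zero_le_annihilator, Groth.Agent.FittLib.zeroLocus_ideal_zero, ?_⟩
  let x : Fin 1 → R ⧸ I := fun _ => 1
  have hx : Submodule.span R (Set.range x) = ⊤ := eq_top_iff.2 fun y _ => by
    obtain ⟨a, rfl⟩ := Ideal.Quotient.mk_surjective y
    have e : Ideal.Quotient.mk I a = a • x 0 := by simp [x, Algebra.smul_def]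
    rw [e]
    exact Submodule.smul_mem _ _ (Submodule.subset_span ⟨0, rfl⟩)
  rw [Groth.Agent.FittLib.ideal_eq_G x hx]
  refine le_antisymm (Ideal.span_le.2 ?_) fun a ha => Ideal.subset_span ⟨Matrix.of fun _ _ => a, fun i _ => ?_, ?_⟩
  · rintro _ ⟨a, ha, rfl⟩
    have h := ha 0 (by simp)
    simp only [Fin.sum_univ_one, x, Algebra.smul_def, mul_one, Ideal.Quotient.algebraMap_eq] at h
    simpa [Ideal.Quotient.eq_zero_iff_mem] using h
  · simp [x, Algebra.smul_def, Ideal.Quotient.eq_zero_iff_mem.2 ha]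
  · simp

end Groth.Agent.S6891
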