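import Groth.Statements.S16193
import Groth.Agent.S16191
import Groth.Agent.FittFormal.Presentation
import Groth.Agent.S6889
import Groth.Agent.FittLib.StrictFitt
import Groth.Agent.S6891
-- import your own Groth.Agent.* helpers here

set_option autoImplicit false
universe u
open CategoryTheory
open Fitt

namespace Groth.Agent.S16193

/-- (2) ⇔ (5): let k be an algebraically closed field, R = k[[t]], and B a quotient of the t-adic
completion Ã of R[T_1, …, T_r] by (a_1, …, a_c) with B Noetherian, t-adically complete and flat over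
R, the images of a_1, …, a_c in Ã/t^{n+1}Ã a regular sequence for every n, and B/tB reduced; let Ω̂
be the t-adic completion of Ω_{B/R} and T^1 = Ext^1_B(Ω̂, B). Then some power of t lies in the (r -
c)-th Fitting ideal of Ω̂ if and only if some power of t annihilates T^1. (For a flat local complete
intersection formal family 𝔛 → Spf k[[t]] with reduced, proper closed fibre, the first condition for
every chart says that 𝔛 is a formal smoothing of its closed fibre.) -/
theorem result
    (k : Type u) [Field k] [IsAlgClosed k] (r c : ℕ)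
    (a : Fin c → AdicCompletion (Ideal.span {MvPolynomial.C (σ := Fin r) (PowerSeries.X (R := k))}) (MvPolynomial (Fin r) (PowerSeries k)))
    (B : Type u) [CommRing B] [Algebra (PowerSeries k) B] [IsNoetherianRing B]
    [IsAdicComplete (Ideal.span {algebraMap (PowerSeries k) B PowerSeries.X}) B]
    [Module.Flat (PowerSeries k) B]
    (ψ : AdicCompletion (Ideal.span {MvPolynomial.C (σ := Fin r) (PowerSeries.X (R := k))}) (MvPolynomial (Fin r) (PowerSeries k)) →ₐ[PowerSeries k] B)
    (hψ : Function.Surjective ψ) (hker : RingHom.ker ψ.toRingHom = Ideal.span (Set.range a))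
    (hreg : ∀ n : ℕ, RingTheory.Sequence.IsRegular
      (AdicCompletion (Ideal.span {MvPolynomial.C (σ := Fin r) (PowerSeries.X (R := k))}) (MvPolynomial (Fin r) (PowerSeries k)) ⧸
        Ideal.span {algebraMap (PowerSeries k) (AdicCompletion (Ideal.span {MvPolynomial.C (σ := Fin r) (PowerSeries.X (R := k))}) (MvPolynomial (Fin r) (PowerSeries k))) PowerSeries.X ^ (n + 1)})
      ((List.ofFn a).map (Ideal.Quotient.mk (Ideal.span {algebraMap (PowerSeries k)
        (AdicCompletion (Ideal.span {MvPolynomial.C (σ := Fin r) (PowerSeries.X (R := k))}) (MvPolynomial (Fin r) (PowerSeries k))) PowerSeries.X ^ (n + 1)}))))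
    [IsReduced (B ⧸ Ideal.span {algebraMap (PowerSeries k) B PowerSeries.X})] :
    (∃ κ : ℕ, algebraMap (PowerSeries k) B PowerSeries.X ^ κ ∈
        Fitt.ideal B (AdicCompletion (Ideal.span {algebraMap (PowerSeries k) B PowerSeries.X})
          (KaehlerDifferential (PowerSeries k) B)) (r - c)) ↔
      (∃ m : ℕ, ∀ x : Abelian.Ext.{u} (ModuleCat.of B (AdicCompletion
          (Ideal.span {algebraMap (PowerSeries k) B PowerSeries.X}) (KaehlerDifferential (PowerSeries k) B)))
          (ModuleCat.of B B) 1,
        (algebraMap (PowerSeries k) B PowerSeries.X ^ m) • x = 0) := by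
  classical
  obtain ⟨row, g, hinj, hex, hgen, -⟩ := Groth.Agent.FittFormal.exists_presentation a ψ hψ hker hreg
  obtain ⟨x, hx, -⟩ := S16187.ext_presentation row g hinj hex hgen
  rw [S16191.result k r c a B ψ hψ hker hreg]
  haveI : Module.Finite B (Abelian.Ext.{u} (ModuleCat.of B (AdicCompletion
      (Ideal.span {algebraMap (PowerSeries k) B PowerSeries.X}) (KaehlerDifferential (PowerSeries k) B)))
      (ModuleCat.of B B) 1) := ⟨hx ▸ Submodule.fg_span (Set.finite_range x)⟩
  constructor
  · rintro ⟨κ, hκ⟩
    exact ⟨κ, fun y => Module.mem_annihilator.mp ((S6891.result _ (⊥ : Ideal B)).1 hκ) y⟩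
  · rintro ⟨m, hm⟩
    refine ⟨m * c, ?_⟩
    rw [S6889.result x hx 0]
    refine Ideal.subset_span ⟨fun b i => if i = Fin.cast (Nat.sub_zero c) b then
      algebraMap (PowerSeries k) B PowerSeries.X ^ m else 0, fun b => Fin.cast (Nat.sub_zero c) b, fun b => ?_, ?_⟩
    · simp [ite_smul, hm]
    · rw [show (Matrix.of fun (a' b : Fin (c - 0)) => if Fin.cast (Nat.sub_zero c) a' = Fin.cast (Nat.sub_zero c) b then
          algebraMap (PowerSeries k) B PowerSeries.X ^ m else 0) =
          Matrix.diagonal fun _ : Fin (c - 0) => algebraMap (PowerSeries k) B PowerSeries.X ^ m by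
        ext i j; simp [Matrix.diagonal_apply, (Fin.cast_injective _).eq_iff], Matrix.det_diagonal]
      simp [pow_mul]

end Groth.Agent.S16193
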