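import Groth.Statements.S16194
import Mathlib
-- import your own Groth.Agent.* helpers here

set_option autoImplicit false
universe u
open DivAlg

namespace Groth.Agent.S16194

/-- In an associative unital ring R, not necessarily commutative, every element r of the Jacobson
radical (the set of elements lying in every maximal left ideal) is quasiregular, i.e. 1 - r is a
two-sided unit. -/
theorem result {R : Type u} [Ring R] (r : R)
    (hr : r ∈ Ring.jacobson R) : IsUnit (1 - r) := by
  have hr' : r ∈ (⊥ : Ideal R).jacobson := by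
    rwa [Ideal.jacobson_bot]
  obtain ⟨z, hz⟩ := Ideal.mem_jacobson_iff.1 hr' (-1)
  rw [Submodule.mem_bot] at hz
  have h1 : z * (1 - r) = 1 := by
    rw [← sub_eq_zero, ← hz]; noncomm_ring
  obtain ⟨w, hw⟩ := Ideal.mem_jacobson_iff.1 (Ideal.mul_mem_left _ z hr') 1
  rw [Submodule.mem_bot] at hw
  have hz' : z = 1 + z * r := by
    rw [← sub_eq_zero]
    rw [← hz]; noncomm_ring
  have h2 : w * z = 1 := by
    rw [hz', ← sub_eq_zero, ← hw]; noncomm_ring
  have h3 : w = 1 - r := by
    calc w = w * (z * (1 - r)) := by rw [h1, mul_one]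
      _ = 1 - r := by rw [← mul_assoc, h2, one_mul]
  exact ⟨⟨1 - r, z, by rw [← h3]; exact h2, h1⟩, rfl⟩

end Groth.Agent.S16194
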