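import Groth.Statements.S16195
import Mathlib
-- import your own Groth.Agent.* helpers here

set_option autoImplicit false
universe u v w
open DivAlg

namespace Groth.Agent.S16195

/-- Let R be a ring (associative, unital, not necessarily commutative) and M, N left R-modules. For an
R-module P write BiEnd_R(P) for the ring of endomorphisms of P that are linear over the ring
End_R(P), which acts on P through evaluation. Then every T in BiEnd_R(M × N) preserves the two
summands and is induced by a pair (T₁, T₂) with T₁ in BiEnd_R(M) and T₂ in BiEnd_R(N). -/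
theorem result {R : Type u} [Ring R] (M : Type v) (N : Type w)
    [AddCommGroup M] [Module R M] [AddCommGroup N] [Module R N]
    (T : Module.End (Module.End R (M × N)) (M × N)) :
    ∃ (T₁ : Module.End (Module.End R M) M) (T₂ : Module.End (Module.End R N) N),
      ∀ (m : M) (n : N), T (m, n) = (T₁ m, T₂ n) := by
  let p1 : Module.End R (M × N) := LinearMap.inl R M N ∘ₗ LinearMap.fst R M N
  let p2 : Module.End R (M × N) := LinearMap.inr R M N ∘ₗ LinearMap.snd R M N
  have h1 : ∀ m : M, T (m, 0) = ((T (m, 0)).1, 0) := fun m =>
    calc T (m, 0) = T (p1 • (m, (0 : N))) := by simp [p1]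
      _ = p1 • T (m, 0) := map_smul T p1 _
      _ = ((T (m, 0)).1, 0) := rfl
  have h2 : ∀ n : N, T (0, n) = (0, (T (0, n)).2) := fun n =>
    calc T (0, n) = T (p2 • ((0 : M), n)) := by simp [p2]
      _ = p2 • T (0, n) := map_smul T p2 _
      _ = (0, (T (0, n)).2) := rfl
  refine ⟨{ toFun := fun m => (T (m, 0)).1
            map_add' := fun a b => by rw [← Prod.fst_add, ← map_add]; simp
            map_smul' := fun f m => ?_ },
    { toFun := fun n => (T (0, n)).2
      map_add' := fun a b => by rw [← Prod.snd_add, ← map_add]; simp
      map_smul' := fun f n => ?_ }, fun m n => ?_⟩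
  · show (T (f m, 0)).1 = f ((T (m, 0)).1)
    have := map_smul T (f.prodMap (0 : Module.End R N)) (m, 0)
    simpa using congrArg Prod.fst this
  · show (T (0, f n)).2 = f ((T (0, n)).2)
    have := map_smul T ((0 : Module.End R M).prodMap f) (0, n)
    simpa using congrArg Prod.snd this
  · show T (m, n) = ((T (m, 0)).1, (T (0, n)).2)
    rw [show (m, n) = (m, 0) + ((0 : M), n) by simp, map_add, h1 m, h2 n]
    simp

end Groth.Agent.S16195
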