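import Groth.Statements.S16196
import Mathlib
-- import your own Groth.Agent.* helpers here

set_option autoImplicit false
universe u v
open DivAlg

namespace Groth.Agent.S16196

/-- Let R be a ring (associative, unital, not necessarily commutative) and M a left R-module which is a
generator, in the form: for some n there is an R-linear surjection from M^n onto R. Then the natural
ring homomorphism from R to the double endomorphism ring BiEnd_R(M) = End_{End_R(M)}(M)
(endomorphisms of M commuting with every R-linear endomorphism), r ↦ multiplication by r, is
bijective. (The printed form takes R an algebra over a commutative ring k, embeds R in E = End_k(M)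
and asserts R = C_E(C_E(R)); the double centralizer there is BiEnd_R(M).) -/
theorem result {R : Type u} [Ring R] (M : Type v)
    [AddCommGroup M] [Module R M]
    (hgen : ∃ (n : ℕ) (f : (Fin n → M) →ₗ[R] R), Function.Surjective f) :
    Function.Bijective (Module.toModuleEnd (Module.End R M) (S := R) M) := by
  obtain ⟨n, f, hf⟩ := hgen
  obtain ⟨x, hx⟩ := hf 1
  refine ⟨fun a b hab => ?_, fun T => ?_⟩
  · have h : a • x = b • x := funext fun i => DFunLike.congr_fun hab (x i)
    have := congrArg f h
    rw [map_smul, map_smul, hx] at this
    simpa using this
  · refine ⟨f fun i => T (x i), LinearMap.ext fun m => ?_⟩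
    let g : (Fin n → M) →ₗ[R] M := LinearMap.toSpanSingleton R M m ∘ₗ f
    have hg : ∀ v : Fin n → M, g v = ∑ i, (g ∘ₗ LinearMap.single R (fun _ : Fin n => M) i) (v i) := fun v => by
      conv_lhs => rw [← Finset.univ_sum_single v, map_sum]
      rfl
    have hT : ∀ i, (g ∘ₗ LinearMap.single R (fun _ : Fin n => M) i) (T (x i)) =
        T ((g ∘ₗ LinearMap.single R (fun _ : Fin n => M) i) (x i)) :=
      fun i => (map_smul T ((g ∘ₗ LinearMap.single R (fun _ : Fin n => M) i : M →ₗ[R] M) : Module.End R M) (x i)).symm
    show f (fun i => T (x i)) • m = T m
    have h := hg (fun i => T (x i))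
    rw [Finset.sum_congr rfl (fun i _ => hT i), ← map_sum, ← hg] at h
    simpa [g, hx] using h

end Groth.Agent.S16196
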