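import Groth.Statements.S16197
import Mathlib
-- import your own Groth.Agent.* helpers here

set_option autoImplicit false
universe u v w
open DivAlg

namespace Groth.Agent.S16197

/-- Let R be a ring (associative, unital, not necessarily commutative) and M a left R-module which is a
generator, used here only through the existence of an R-linear surjection from a direct sum of
copies of M, indexed by an arbitrary type, onto R. Then some finite power M^n decomposes as R × Q
for a submodule Q of M^n. (The published statement is an equivalence; this row states only the
implication from the existence of such a surjection to the splitting.) -/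
theorem result {R : Type u} [Ring R] (M : Type v)
    [AddCommGroup M] [Module R M]
    (hgen : ∃ (ι : Type w) (f : (ι →₀ M) →ₗ[R] R), Function.Surjective f) :
    ∃ (n : ℕ) (Q : Submodule R (Fin n → M)), Nonempty ((Fin n → M) ≃ₗ[R] (R × Q)) := by
  classical
  obtain ⟨ι, f, hf⟩ := hgen
  obtain ⟨x, hx⟩ := hf 1
  let e : Fin x.support.card ≃ x.support := x.support.equivFin.symm
  let g : (Fin x.support.card → M) →ₗ[R] R :=
    ∑ i, f ∘ₗ Finsupp.lsingle (e i : ι) ∘ₗ LinearMap.proj i
  let y : Fin x.support.card → M := fun i => x (e i)
  have hy : g y = 1 := by
    simp only [g, LinearMap.sum_apply, LinearMap.comp_apply, LinearMap.proj_apply, Finsupp.lsingle_apply]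
    rw [← map_sum, ← hx]
    congr 1
    rw [e.sum_comp (fun j : x.support => Finsupp.single (j : ι) (x j)),
      Finset.sum_coe_sort x.support (fun j => Finsupp.single j (x j))]
    exact x.sum_single
  refine ⟨x.support.card, LinearMap.ker g, ⟨
    { toFun := fun v => (g v, ⟨v - g v • y, by simp [LinearMap.mem_ker, map_sub, hy]⟩)
      map_add' := fun a b => by
        refine Prod.ext (map_add g a b) (Subtype.ext ?_)
        simp [add_smul]; abel
      map_smul' := fun r a => by
        refine Prod.ext (map_smul g r a) (Subtype.ext ?_)
        simp [smul_sub, smul_smul]
      invFun := fun q => q.1 • y + q.2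
      left_inv := fun v => by simp
      right_inv := fun q => by
        have h0 : g (q.2 : _) = 0 := q.2.2
        refine Prod.ext ?_ (Subtype.ext ?_) <;> simp [hy, h0] }⟩⟩

end Groth.Agent.S16197
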