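import Groth.Statements.S16198
import Mathlib
-- import your own Groth.Agent.* helpers here

set_option autoImplicit false
universe u v
open DivAlg

namespace Groth.Agent.S16198

open TensorProduct in
lemma pic_tensorPower {R : Type u} [CommRing R] (N : Type v) [AddCommGroup N] [Module R N]
    [Module.Invertible R N] : ∀ k : ℕ, ∃ _ : Module.Invertible R (⨂[R]^k N),
      CommRing.Pic.mk R (⨂[R]^k N) = CommRing.Pic.mk R N ^ k
  | 0 => by
    let e : (⨂[R]^0 N) ≃ₗ[R] R := PiTensorProduct.isEmptyEquiv (Fin 0)
    have := Module.Invertible.congr e.symm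
    exact ⟨this, by rw [pow_zero]; exact CommRing.Pic.mk_eq_one_iff.2 ⟨e⟩⟩
  | k + 1 => by
    obtain ⟨_, hk⟩ := pic_tensorPower (R := R) N k
    let e : (⨂[R]^(k + 1) N) ≃ₗ[R] (⨂[R]^k N) ⊗[R] N :=
      (TensorPower.mulEquiv (R := R) (M := N) (n := k) (m := 1)).symm ≪≫ₗ
        TensorProduct.congr (LinearEquiv.refl R _) (PiTensorProduct.subsingletonEquiv (0 : Fin 1))
    have := Module.Invertible.congr e.symm
    exact ⟨this, by rw [CommRing.Pic.mk_eq_mk_iff.2 ⟨e⟩, CommRing.Pic.mk_tensor, hk, pow_succ]⟩

lemma alt_vanish {R : Type u} [CommRing R] (N : Type v) [AddCommGroup N] [Module R N]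
    [Module.Invertible R N] (B : N → N → R)
    (h1 : ∀ r a b, B (r • a) b = r * B a b) (h2 : ∀ r a b, B a (r • b) = r * B a b)
    (h0 : ∀ a, B a a = 0) (x y : N) : B x y = 0 := by
  have hcomm : ∀ (f : Module.Dual R N) (a b : N), f a • b = f b • a := fun f a b => by
    have := congrArg (TensorProduct.lift ((LinearMap.lsmul R N).comp f))
      (Module.Invertible.tmul_comm (R := R) (m₁ := a) (m₂ := b))
    simpa using this
  have hspan : Ideal.span {r : R | ∃ (f : Module.Dual R N) (z : N), f z = r} = ⊤ := by
    rw [Ideal.eq_top_iff_one]
    obtain ⟨t, ht⟩ := (Module.Invertible.bijective (R := R) (M := N)).2 1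
    rw [← ht]
    clear ht
    induction t using TensorProduct.induction_on with
    | zero => simp
    | tmul f z => exact Ideal.subset_span ⟨f, z, (contractLeft_apply f z).symm⟩
    | add a b ha hb => rw [map_add]; exact add_mem ha hb
  have hsq := Ideal.span_pow_eq_top _ hspan 2
  have : (1 : R) ∈ Ideal.span {r : R | r * B x y = 0} := by
    have hle : Ideal.span ((fun x : R => x ^ 2) '' {r : R | ∃ (f : Module.Dual R N) (z : N), f z = r}) ≤
        Ideal.span {r : R | r * B x y = 0} := by
      apply Ideal.span_mono
      rintro _ ⟨_, ⟨f, z, rfl⟩, rfl⟩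
      show f z ^ 2 * B x y = 0
      rw [sq, mul_assoc, ← h2, ← h1, hcomm f z x, hcomm f z y, h1, h2, h0, mul_zero, mul_zero]
    exact hle (by rw [hsq]; trivial)
  have hker : Ideal.span {r : R | r * B x y = 0} ≤
      LinearMap.ker (LinearMap.toSpanSingleton R R (B x y)) :=
    Ideal.span_le.2 fun r hr => hr
  simpa using hker this


/-- In the case of a commutative ring R, let N be an invertible R-module such that the direct sum N^n is
isomorphic to R^n for some natural number n. Then the class of N in Pic(R) satisfies [N]^n = 1. (The
published statement is for invertible modules on an arbitrary ringed site; this row states the case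
of a commutative ring.) -/
theorem result {R : Type u} [CommRing R] (N : Type v)
    [AddCommGroup N] [Module R N] [Module.Invertible R N] (n : ℕ)
    (e : (Fin n → N) ≃ₗ[R] (Fin n → R)) :
    CommRing.Pic.mk R N ^ n = 1 := by
  classical
  obtain ⟨inst, hpow⟩ := pic_tensorPower (R := R) N n
  rw [← hpow]
  let Φ : MultilinearMap R (fun _ : Fin n => N) R :=
    (Matrix.detRowAlternating : (Fin n → R) [⋀^Fin n]→ₗ[R] R).toMultilinearMap.compLinearMap
      (fun i => e.toLinearMap ∘ₗ LinearMap.single R (fun _ : Fin n => N) i)
  let L := PiTensorProduct.lift Φ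
  have hone : (1 : R) ∈ LinearMap.range L := by
    let D : (Fin n → R) [⋀^Fin n]→ₗ[R] R := Matrix.detRowAlternating
    let w : Fin n → Fin n → N := fun j => e.symm (Pi.single j 1)
    have h1 : D (fun j => ∑ i, e (Pi.single i (w j i))) = 1 := by
      rw [show (fun j => ∑ i, e (Pi.single i (w j i))) = (1 : Matrix (Fin n) (Fin n) R) from ?_]
      · exact Matrix.det_one
      · funext j
        rw [← map_sum, Finset.univ_sum_single, LinearEquiv.apply_symm_apply]
        funext k
        exact (Matrix.one_eq_pi_single).symm
    rw [← h1]
    rw [show D (fun j => ∑ i, e (Pi.single i (w j i))) =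
      ∑ σ : Fin n → Fin n, D (fun j => e (Pi.single (σ j) (w j (σ j)))) from
        D.toMultilinearMap.map_sum _]
    refine Submodule.sum_mem _ (fun σ _ => ?_)
    by_cases hσ : Function.Injective σ
    · let π : Equiv.Perm (Fin n) := Equiv.ofBijective σ (Finite.injective_iff_bijective.1 hσ)
      have h2 := D.map_perm (fun i => e (Pi.single i (w (π.symm i) i))) π
      have h3 : (fun i => e (Pi.single i (w (π.symm i) i))) ∘ π =
          fun j => e (Pi.single (σ j) (w j (σ j))) := by
        funext j
        simp only [Function.comp]
        rw [π.symm_apply_apply]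
        rfl
      rw [h3] at h2
      rw [h2]
      exact Submodule.smul_of_tower_mem _ _
        ⟨PiTensorProduct.tprod R (fun i => w (π.symm i) i), PiTensorProduct.lift.tprod _⟩
    · rw [Function.not_injective_iff] at hσ
      obtain ⟨j, k, hjk, hne⟩ := hσ
      let u : Fin n → Fin n → R := fun j => e (Pi.single (σ j) (w j (σ j)))
      let B : N → N → R := fun a b =>
        D (Function.update (Function.update u j (e (Pi.single (σ j) a))) k (e (Pi.single (σ j) b)))
      have hB : D u = B (w j (σ j)) (w k (σ j)) := by
        congr 1
        funext i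
        by_cases hik : i = k
        · subst hik
          simp [u, hjk]
        · rw [Function.update_of_ne hik]
          by_cases hij : i = j
          · subst hij; simp [u]
          · rw [Function.update_of_ne hij]
      show D u ∈ _
      rw [hB, alt_vanish N B ?_ ?_ ?_]
      · exact zero_mem _
      · intro r a b
        show D _ = r * D _
        rw [Function.update_comm hne, Function.update_comm hne, Pi.single_smul, map_smul,
          D.map_update_smul, smul_eq_mul]
      · intro r a b
        show D _ = r * D _
        rw [Pi.single_smul, map_smul, D.map_update_smul, smul_eq_mul]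
      · intro a
        refine D.map_eq_zero_of_eq _ ?_ hne
        simp [Function.update_of_ne hne]
  have hsurj : Function.Surjective L := fun r => by
    obtain ⟨t, ht⟩ := hone
    exact ⟨r • t, by simp [ht]⟩
  exact CommRing.Pic.mk_eq_one_iff.2
    ⟨LinearEquiv.ofBijective L (Module.Invertible.bijective_of_surjective hsurj)⟩

end Groth.Agent.S16198
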