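import Groth.Statements.S16199
import Groth.Agent.Azu.Twist
import Mathlib.LinearAlgebra.Matrix.ToLin
-- import your own Groth.Agent.* helpers here

set_option autoImplicit false
universe u
open DivAlg

namespace Groth.Agent.S16199

theorem free_of_inner {R : Type u} [CommRing R] (n : ℕ) [Nonempty (Fin n)]
    (h : ∀ φ : Matrix (Fin n) (Fin n) R ≃ₐ[R] Matrix (Fin n) (Fin n) R,
        ∃ P : GL (Fin n) R, ∀ A : Matrix (Fin n) (Fin n) R, φ A = P.1 * A * (P⁻¹).1)
    (N : Type u) [AddCommGroup N] [Module R N] [Module.Invertible R N]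
    (θ : (Fin n → N) ≃ₗ[R] (Fin n → R)) : Module.Free R N := by
  classical
  let act : Matrix (Fin n) (Fin n) R →ₐ[R] Module.End R (Fin n → N) :=
    AlgHom.ofLinearMap
      { toFun := fun A => LinearMap.pi fun i => ∑ j, A i j • LinearMap.proj j
        map_add' := fun A B => LinearMap.ext fun v => funext fun i => by
          simp [add_smul, Finset.sum_add_distrib]
        map_smul' := fun r A => LinearMap.ext fun v => funext fun i => by
          simp [mul_smul, Finset.smul_sum] }
      (LinearMap.ext fun v => funext fun i => by simp [Matrix.one_apply])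
      (fun A B => LinearMap.ext fun v => funext fun i => by
        simp only [LinearMap.coe_mk, AddHom.coe_mk, Module.End.mul_apply, LinearMap.pi_apply, LinearMap.coe_sum,
          Finset.sum_apply, LinearMap.smul_apply, LinearMap.proj_apply, Matrix.mul_apply, Finset.sum_smul,
          Finset.smul_sum, mul_smul]
        exact Finset.sum_comm)
  have hact : ∀ A v i, act A v i = ∑ j, A i j • v j := fun A v i => by simp [act]
  have hsingle : ∀ A j (y : N) i, act A (Pi.single j y) i = A i j • y := fun A j y i => by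
    rw [hact, Finset.sum_eq_single j (fun k _ hk => by simp [Pi.single_eq_of_ne hk]) (by simp), Pi.single_eq_same]
  have hbij : Function.Bijective act := by
    refine ⟨fun A B hAB => ?_, fun f => ?_⟩
    · ext i j
      refine FaithfulSMul.eq_of_smul_eq_smul fun y : N => ?_
      rw [← hsingle, ← hsingle, hAB]
    · choose A hA using fun i j => (Module.Invertible.toModuleEnd_bijective R N).2
        ((LinearMap.proj i).comp (f.comp (LinearMap.single R (fun _ => N) j)))
      refine ⟨Matrix.of A, LinearMap.pi_ext fun j y => funext fun i => ?_⟩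
      rw [hsingle]
      exact LinearMap.congr_fun (hA i j) y
  let φ : Matrix (Fin n) (Fin n) R ≃ₐ[R] Matrix (Fin n) (Fin n) R :=
    ((AlgEquiv.ofBijective act hbij).trans (LinearEquiv.conjAlgEquiv R θ)).trans Matrix.toLinAlgEquiv'.symm
  obtain ⟨P, hP⟩ := h φ
  let ψ : (Fin n → N) ≃ₗ[R] (Fin n → R) := θ ≪≫ₗ
    { Matrix.toLinAlgEquiv' (R := R) (n := Fin n) (P⁻¹).1 with
      invFun := Matrix.toLinAlgEquiv' (R := R) (n := Fin n) P.1
      left_inv := fun v => by
        show (Matrix.toLinAlgEquiv' P.1 * Matrix.toLinAlgEquiv' (P⁻¹).1) v = v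
        rw [← map_mul, Units.mul_inv, map_one, Module.End.one_apply]
      right_inv := fun v => by
        show (Matrix.toLinAlgEquiv' (P⁻¹).1 * Matrix.toLinAlgEquiv' P.1) v = v
        rw [← map_mul, Units.inv_mul, map_one, Module.End.one_apply] }
  have hψ : ∀ A v, ψ (act A v) = Matrix.mulVec A (ψ v) := by
    intro A v
    have h1 := congrArg (fun M => Matrix.toLinAlgEquiv' M (θ v)) (hP A)
    simp only [φ, AlgEquiv.trans_apply, AlgEquiv.apply_symm_apply, AlgEquiv.coe_ofBijective,
      LinearEquiv.conjAlgEquiv_apply, LinearMap.comp_apply, LinearEquiv.coe_coe, LinearEquiv.symm_apply_apply,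
      map_mul, Module.End.mul_apply] at h1
    show Matrix.toLinAlgEquiv' (P⁻¹).1 (θ (act A v)) = _
    rw [h1, ← Module.End.mul_apply, ← map_mul, Units.inv_mul, map_one, Module.End.one_apply,
      Matrix.toLinAlgEquiv'_apply]
    rfl
  let i₀ : Fin n := Classical.arbitrary _
  let f : N →ₗ[R] R := (LinearMap.proj i₀).comp (ψ.toLinearMap.comp (LinearMap.single R (fun _ => N) i₀))
  have hfs : ∀ y : N, ψ (Pi.single i₀ y) = Pi.single i₀ (f y) := by
    intro y
    have e : act (Matrix.single i₀ i₀ (1 : R)) (Pi.single i₀ y) = Pi.single i₀ y := funext fun i => by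
      rw [hsingle]
      rcases eq_or_ne i i₀ with rfl | hi
      · simp
      · simp [Pi.single_eq_of_ne hi, Matrix.single_apply, Ne.symm hi]
    conv_lhs => rw [← e, hψ]
    funext i
    rcases eq_or_ne i i₀ with rfl | hi
    · rw [Pi.single_eq_same, Matrix.mulVec, dotProduct, Finset.sum_eq_single i₀ (fun k _ hk => by
        simp [Matrix.single_apply, Ne.symm hk]) (by simp), Matrix.single_apply_same, one_mul]
      rfl
    · rw [Pi.single_eq_of_ne hi, Matrix.mulVec, dotProduct]
      exact Finset.sum_eq_zero fun k _ => by simp [Matrix.single_apply, Ne.symm hi]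
  refine Module.Invertible.free_iff_linearEquiv.2 ⟨LinearEquiv.ofBijective f ⟨fun y z hyz => ?_, fun r => ?_⟩⟩
  · exact Pi.single_injective (M := fun _ => N) i₀ (ψ.injective (by rw [hfs, hfs, hyz]))
  · refine ⟨ψ.symm (Pi.single i₀ r) i₀, ?_⟩
    have e : act (Matrix.single i₀ i₀ (1 : R)) (ψ.symm (Pi.single i₀ r)) = ψ.symm (Pi.single i₀ r) := by
      refine ψ.injective ?_
      rw [hψ, LinearEquiv.apply_symm_apply]
      funext i
      rw [Matrix.mulVec, dotProduct, Finset.sum_eq_single i₀ (fun k _ hk => by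
        simp [Pi.single_eq_of_ne hk]) (by simp), Pi.single_eq_same, Matrix.single_apply]
      rcases eq_or_ne i i₀ with rfl | hi
      · simp
      · simp [Pi.single_eq_of_ne hi, Ne.symm hi]
    have e2 : Pi.single i₀ (ψ.symm (Pi.single i₀ r) i₀) = ψ.symm (Pi.single i₀ r) := by
      conv_rhs => rw [← e]
      funext i
      rw [hact, Finset.sum_eq_single i₀ (fun k _ hk => by simp [Matrix.single_apply, Ne.symm hk]) (by simp),
        Matrix.single_apply]
      rcases eq_or_ne i i₀ with rfl | hi
      · simp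
      · simp [Pi.single_eq_of_ne hi, Ne.symm hi]
    show ψ (Pi.single i₀ _) i₀ = r
    rw [e2, LinearEquiv.apply_symm_apply, Pi.single_eq_same]

/-- Let R be a commutative ring and n ≥ 1. The natural map from GL_n(R) to the R-algebra automorphisms
of M_n(R) is surjective (every automorphism is inner) if and only if Pic_(n)(R) = 0, i.e. every
invertible R-module N with N^n ≅ R^n is free. (For n = 0 the left side holds trivially while the
right side fails whenever Pic(R) ≠ 0, so this row assumes n ≥ 1, which the published statement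
leaves implicit; invertible modules are quantified in the universe of R, which loses nothing since
every invertible module is finitely generated.) -/
theorem result {R : Type u} [CommRing R] (n : ℕ)
    (hn : 1 ≤ n) :
    (∀ φ : Matrix (Fin n) (Fin n) R ≃ₐ[R] Matrix (Fin n) (Fin n) R,
        ∃ P : GL (Fin n) R, ∀ A : Matrix (Fin n) (Fin n) R, φ A = P.1 * A * (P⁻¹).1) ↔
      (∀ (N : Type u) [AddCommGroup N] [Module R N] [Module.Invertible R N],
        Nonempty ((Fin n → N) ≃ₗ[R] (Fin n → R)) → Module.Free R N) := by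
  classical
  haveI : Nonempty (Fin n) := ⟨⟨0, hn⟩⟩
  refine ⟨fun h N _ _ _ ⟨θ⟩ => free_of_inner n h N θ, fun h φ => ?_⟩
  let φ' : Module.End R (Fin n → R) ≃ₐ[R] Module.End R (Fin n → R) :=
    (Matrix.toLinAlgEquiv'.symm.trans φ).trans Matrix.toLinAlgEquiv'
  haveI := Azu.homTwist_invertible φ'
  haveI : Module.Invertible R (Azu.homTwist φ') := Azu.homTwist_invertible φ'
  let e₁ : TensorProduct R (Fin n → R) (Azu.homTwist φ') ≃ₗ[R] (Fin n → R) :=
    LinearEquiv.ofBijective _ (Azu.evalTwist_bijective φ')
  have hfree : Module.Free R (Azu.homTwist φ') :=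
    @h (Azu.homTwist φ') inferInstance inferInstance inferInstance ⟨((TensorProduct.piScalarRight R R (Azu.homTwist φ') (Fin n)).symm ≪≫ₗ TensorProduct.comm R _ _) ≪≫ₗ e₁⟩
  obtain ⟨e₂⟩ := (Module.Invertible.free_iff_linearEquiv).1 hfree
  let l : Azu.homTwist φ' := e₂.symm 1
  let L : (Fin n → R) ≃ₗ[R] (Fin n → R) :=
    ((TensorProduct.rid R (Fin n → R)).symm ≪≫ₗ TensorProduct.congr (LinearEquiv.refl R _) e₂.symm) ≪≫ₗ e₁
  have hL : ∀ x, L x = (l : (Fin n → R) →ₗ[R] (Fin n → R)) x := fun x => by
    simp only [L, LinearEquiv.trans_apply, TensorProduct.rid_symm_apply, TensorProduct.congr_tmul, LinearEquiv.refl_apply,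
      e₁, LinearEquiv.ofBijective_apply, Azu.evalTwist_tmul, l]
  have hm : Matrix.toLinAlgEquiv' (R := R) (n := Fin n) (Matrix.toLinAlgEquiv'.symm L.toLinearMap) = L.toLinearMap :=
    AlgEquiv.apply_symm_apply _ _
  let P : GL (Fin n) R := ⟨Matrix.toLinAlgEquiv'.symm L.toLinearMap, Matrix.toLinAlgEquiv'.symm L.symm.toLinearMap,
    by rw [← map_mul]; exact (congrArg _ (LinearMap.ext fun x => L.apply_symm_apply x)).trans (map_one _),
    by rw [← map_mul]; exact (congrArg _ (LinearMap.ext fun x => L.symm_apply_apply x)).trans (map_one _)⟩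
  refine ⟨P, fun A => Matrix.toLinAlgEquiv'.injective (LinearMap.ext fun x => ?_)⟩
  rw [map_mul, map_mul]
  show _ = Matrix.toLinAlgEquiv' (Matrix.toLinAlgEquiv'.symm L.toLinearMap)
    (Matrix.toLinAlgEquiv' A (Matrix.toLinAlgEquiv' (Matrix.toLinAlgEquiv'.symm L.symm.toLinearMap) x))
  rw [AlgEquiv.apply_symm_apply, AlgEquiv.apply_symm_apply]
  have h1 := LinearMap.congr_fun (l.2 (Matrix.toLinAlgEquiv' A)) (L.symm x)
  simp only [LinearMap.comp_apply, φ', AlgEquiv.trans_apply, AlgEquiv.symm_apply_apply, ← hL,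
    LinearEquiv.apply_symm_apply] at h1
  exact h1

end Groth.Agent.S16199
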