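import Groth.Statements.S1620
import Groth.Agent.VarDim.Scheme

set_option autoImplicit false
universe u
open CategoryTheory CategoryTheory.Limits AlgebraicGeometry
attribute [local instance] Curv2.stalkAlgebra Curv2.resAlgebra
open Variety

namespace Groth.Agent.S1620

/-- Let X be locally of finite type over a field k and x ⤳ x' an immediate specialisation (x ≠ x' and no
point strictly in between). If the residue field of x' has transcendence degree n over k then the
residue field of x has transcendence degree n + 1. -/
theorem result (k : Type u) [Field k] (X : Scheme.{u}) [X.Over (Spec (CommRingCat.of k))] [LocallyOfFiniteType (X ↘ (Spec (CommRingCat.of k)))] (x x' : X) (hne : x ≠ x') (hsp : x ⤳ x')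
    (himm : ∀ y : X, x ⤳ y → y ⤳ x' → y = x ∨ y = x')
    (n : ℕ) (hn : Algebra.trdeg k (X.residueField x') = n) : Algebra.trdeg k (X.residueField x) = n + 1 := by
  have hlt : x' < x := by
    refine lt_iff_le_not_ge.mpr ⟨hsp, fun h => hne (hsp.antisymm h).eq⟩
  have hcov : x' ⋖ x := ⟨hlt, fun y h1 h2 => by
    rcases himm y h2.le h1.le with rfl | rfl
    · exact h2.not_ge le_rfl
    · exact h1.not_ge le_rfl⟩
  rw [VarDim.trdeg_residueField] at hn ⊢
  rw [VarDim.dimPt_eq_add_one_of_covBy k hcov, Nat.cast_succ, hn]

end Groth.Agent.S1620
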