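import Groth.Statements.S16200
import Mathlib
-- import your own Groth.Agent.* helpers here

set_option autoImplicit false
universe u v
open DivAlg

namespace Groth.Agent.S16200

open TensorProduct

/-- Steinitz -/
lemma steinitz {R : Type u} [CommRing R] [IsDedekindDomain R] (I J : Ideal R) (hI : I ≠ ⊥) (hJ : J ≠ ⊥)
    [Module.Invertible R J] :
    Nonempty ((I × J) ≃ₗ[R] (R × ((I : Submodule R R) ⊗[R] (J : Submodule R R)))) := by
  obtain ⟨x, hxI, hx⟩ := Submodule.exists_mem_ne_zero_of_ne_bot hI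
  obtain ⟨I', hI'⟩ := Ideal.dvd_iff_le.2 (I.span_singleton_le_iff_mem.2 hxI)
  have hI'0 : I' ≠ 0 := fun h => hx (by
    rw [h, mul_zero] at hI'
    exact Ideal.span_singleton_eq_bot.1 hI')
  obtain ⟨C, hC, ⟨eC⟩⟩ : ∃ C : Ideal R, C ⊔ J = ⊤ ∧ Nonempty (I ≃ₗ[R] C) := by
    obtain ⟨a, ha⟩ := IsDedekindDomain.exists_sup_span_eq (I := I' * J) (J := I') Ideal.mul_le_left
      (mul_ne_zero hI'0 hJ)
    obtain ⟨C, hC⟩ : I' ∣ Ideal.span {a} := Ideal.dvd_iff_le.2 (ha ▸ le_sup_right)
    have hcop : C ⊔ J = ⊤ := by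
      apply mul_left_cancel₀ hI'0
      rw [← Ideal.add_eq_sup, mul_add, ← hC, Ideal.add_eq_sup, sup_comm, ha, Ideal.mul_top]
    rcases eq_or_ne a 0 with rfl | ha0
    · refine ⟨I, ?_, ⟨LinearEquiv.refl R I⟩⟩
      rw [Ideal.span_singleton_eq_bot.2 rfl, sup_bot_eq] at ha
      have : J = 1 := mul_left_cancel₀ hI'0 (ha.trans (mul_one I').symm)
      rw [this, Ideal.one_eq_top, sup_top_eq]
    refine ⟨C, hcop, ?_⟩
    have key : Ideal.span {a} * I = Ideal.span {x} * C := by
      rw [hC, hI', mul_comm I' C, mul_assoc, mul_comm I' I, mul_comm]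
    have hmul : ∀ (D : Ideal R) (c : R), c ≠ 0 → Nonempty (D ≃ₗ[R] ↥(Ideal.span {c} * D)) := by
      intro D c hc
      refine ⟨LinearEquiv.ofBijective ((LinearMap.mulLeft R c).restrict (fun d (hd : d ∈ D) =>
        Ideal.mul_mem_mul (Ideal.mem_span_singleton_self c) hd)) ⟨fun p q h => ?_, fun q => ?_⟩⟩
      · exact Subtype.ext (mul_left_cancel₀ hc (congrArg Subtype.val h))
      · obtain ⟨d, hd, hq⟩ := Ideal.mem_span_singleton_mul.1 q.2
        exact ⟨⟨d, hd⟩, Subtype.ext hq⟩
    obtain ⟨e1⟩ := hmul I a ha0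
    obtain ⟨e2⟩ := hmul C x hx
    exact ⟨e1.trans ((LinearEquiv.ofEq _ _ key).trans e2.symm)⟩
  let f : (C × J) →ₗ[R] R := (Submodule.subtype C).coprod (Submodule.subtype J)
  obtain ⟨c, hc, j, hj, hcj⟩ := Submodule.mem_sup.1
    (show (1 : R) ∈ C ⊔ J by rw [hC]; trivial)
  have hg : ∀ z : C × J, f z = (z.1 : R) + (z.2 : R) := fun _ => rfl
  let e : (C × J) ≃ₗ[R] (R × ↥(C ⊓ J : Submodule R R)) :=
    { toFun := fun z => (f z, ⟨(z.1 : R) - f z * c, by
        refine ⟨C.sub_mem z.1.2 (C.mul_mem_left _ hc), ?_⟩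
        have e1 : (z.1 : R) - f z * c = f z * j - (z.2 : R) := by
          rw [hg]; linear_combination (-((z.1 : R) + z.2)) * hcj
        rw [e1]
        exact J.sub_mem (J.mul_mem_left _ hj) z.2.2⟩)
      map_add' := fun z w => by
        refine Prod.ext (map_add f z w) (Subtype.ext ?_)
        simp [hg]; ring
      map_smul' := fun r z => by
        refine Prod.ext (map_smul f r z) (Subtype.ext ?_)
        simp [hg]; ring
      invFun := fun w => (⟨w.1 * c + w.2, C.add_mem (C.mul_mem_left _ hc) w.2.2.1⟩,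
        ⟨w.1 * j - w.2, J.sub_mem (J.mul_mem_left _ hj) w.2.2.2⟩)
      left_inv := fun z => by
        refine Prod.ext (Subtype.ext ?_) (Subtype.ext ?_)
        · simp
        · simp [hg]; linear_combination ((z.1 : R) + z.2) * hcj
      right_inv := fun w => by
        refine Prod.ext ?_ (Subtype.ext ?_)
        · simp [hg]; linear_combination w.1 * hcj
        · simp [hg]; linear_combination (-c * w.1) * hcj }
  let eT : ((C : Submodule R R) ⊗[R] (J : Submodule R R)) ≃ₗ[R] ↥((C : Submodule R R) * (J : Submodule R R)) :=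
    Submodule.LinearDisjoint.mulMap (.of_left_le_one_of_flat _ _ (le_top.trans Ideal.one_eq_top.ge))
  have hCJ : (C ⊓ J : Submodule R R) = (C : Submodule R R) * (J : Submodule R R) :=
    (Ideal.mul_eq_inf_of_coprime hC).symm
  exact ⟨(LinearEquiv.prodCongr eC (LinearEquiv.refl R J)).trans (e.trans
    (LinearEquiv.prodCongr (LinearEquiv.refl R R) ((LinearEquiv.ofEq _ _ hCJ).trans
      (eT.symm.trans (TensorProduct.congr eC.symm (LinearEquiv.refl R J))))))⟩

lemma ideal_ne_bot {R : Type u} [CommRing R] [IsDomain R] (N : Type*) [AddCommGroup N] [Module R N]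
    [Module.Invertible R N] (I : Ideal R) (e : N ≃ₗ[R] I) : I ≠ ⊥ := by
  intro h
  subst h
  have hsub : Subsingleton N := e.toEquiv.subsingleton
  obtain ⟨t, ht⟩ := (Module.Invertible.bijective (R := R) (M := N)).2 1
  have : t = 0 := Subsingleton.elim _ _
  simp [this] at ht

lemma pow_split {R : Type u} [CommRing R] [IsDedekindDomain R] (N : Type v) [AddCommGroup N]
    [Module R N] [Module.Invertible R N] : ∀ m : ℕ,
    ∃ (Q : Type (max u v)) (_ : AddCommGroup Q) (_ : Module R Q) (_ : Module.Invertible R Q),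
      CommRing.Pic.mk R Q = CommRing.Pic.mk R N ^ (m + 1) ∧
        Nonempty ((Fin (m + 1) → N) ≃ₗ[R] ((Fin m → R) × Q))
  | 0 => by
    have hinv := Module.Invertible.congr (ULift.moduleEquiv.{u, v, max u v} (R := R) (M := N)).symm
    refine ⟨ULift.{max u v} N, inferInstance, inferInstance, hinv, ?_, ?_⟩
    · rw [pow_one]
      exact CommRing.Pic.mk_eq_mk_iff.2 ⟨ULift.moduleEquiv⟩
    · exact ⟨(LinearEquiv.funUnique (Fin 1) R N).trans (ULift.moduleEquiv.symm.trans
        ({ toFun := fun q => (0, q), map_add' := fun a b => by simp,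
           map_smul' := fun r a => by simp, invFun := Prod.snd, left_inv := fun a => rfl,
           right_inv := fun a => Prod.ext (Subsingleton.elim _ _) rfl }))⟩
  | m + 1 => by
    obtain ⟨Q, _, _, _, hQ, ⟨e⟩⟩ := pow_split (R := R) N m
    obtain ⟨I, ⟨eI⟩⟩ := Module.Invertible.exists_linearEquiv_ideal R N
    obtain ⟨J, ⟨eJ⟩⟩ := Module.Invertible.exists_linearEquiv_ideal R Q
    have := Module.Invertible.congr eJ
    obtain ⟨s⟩ := steinitz I J (ideal_ne_bot N I eI) (ideal_ne_bot Q J eJ)
    refine ⟨N ⊗[R] Q, inferInstance, inferInstance, inferInstance, ?_, ?_⟩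
    · rw [CommRing.Pic.mk_tensor, hQ, ← pow_succ']
    · exact ⟨(Fin.consLinearEquiv R (fun _ : Fin (m + 2) => N)).symm.trans
        ((LinearEquiv.prodCongr (LinearEquiv.refl R N) e).trans
        (({ toFun := fun z => (z.2.1, (z.1, z.2.2)), map_add' := fun a b => rfl,
            map_smul' := fun r a => rfl, invFun := fun z => (z.2.1, (z.1, z.2.2)),
            left_inv := fun a => rfl, right_inv := fun a => rfl } :
          (N × ((Fin m → R) × Q)) ≃ₗ[R] ((Fin m → R) × (N × Q))).trans
        ((LinearEquiv.prodCongr (LinearEquiv.refl R _) ((LinearEquiv.prodCongr eI eJ).trans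
          (s.trans (LinearEquiv.prodCongr (LinearEquiv.refl R R)
            (TensorProduct.congr eI.symm eJ.symm))))).trans
        (({ toFun := fun z => ((z.2.1, z.1), z.2.2), map_add' := fun a b => rfl,
            map_smul' := fun r a => rfl, invFun := fun z => (z.1.2, (z.1.1, z.2)),
            left_inv := fun a => rfl, right_inv := fun a => rfl } :
          ((Fin m → R) × (R × (N ⊗[R] Q))) ≃ₗ[R] ((R × (Fin m → R)) × (N ⊗[R] Q))).trans
        (LinearEquiv.prodCongr (Fin.consLinearEquiv R (fun _ : Fin (m + 1) => R))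
          (LinearEquiv.refl R _))))))⟩


/-- Let R be a Dedekind domain, N an invertible R-module and n a natural number with [N]^n = 1 in
Pic(R). Then the direct sum N^n is isomorphic to R^n; thus over a Dedekind domain the invertible
modules N with N^n ≅ R^n are exactly the n-torsion classes of Pic(R), the other inclusion holding
over any commutative ring. -/
theorem result {R : Type u} [CommRing R]
    [IsDedekindDomain R] (N : Type v) [AddCommGroup N] [Module R N] [Module.Invertible R N]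
    (n : ℕ) (h : CommRing.Pic.mk R N ^ n = 1) :
    Nonempty ((Fin n → N) ≃ₗ[R] (Fin n → R)) := by
  rcases n with _ | m
  · exact ⟨LinearEquiv.ofSubsingleton _ _⟩
  obtain ⟨Q, _, _, _, hQ, ⟨e⟩⟩ := pow_split (R := R) N m
  rw [h] at hQ
  obtain ⟨eQ⟩ := CommRing.Pic.mk_eq_one_iff.1 hQ
  exact ⟨e.trans ((LinearEquiv.prodCongr (LinearEquiv.refl R _) eQ).trans
    ((LinearEquiv.prodComm R _ _).trans (Fin.consLinearEquiv R (fun _ : Fin (m + 1) => R))))⟩

end Groth.Agent.S16200
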