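import Groth.Statements.S16201
import Mathlib.AlgebraicGeometry.Morphisms.FinitePresentation
import Mathlib.AlgebraicGeometry.Noetherian
import Groth.Agent.ConstrLib.Basic

set_option autoImplicit false
open CategoryTheory AlgebraicGeometry
open Variety

namespace Groth.Agent.S16201

/-- Let f : Y → Z be a morphism of schemes of finite type over ℂ, with Z irreducible. Suppose that the
general fibre of f is irreducible, in the sense that there is a nonempty open subset V of Z such
that the fibre of f over every closed point of V is an irreducible topological space, and that each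
irreducible component of Y has dense image in Z. Then Y is irreducible. (The published statement is
for a morphism of projective varieties; only finiteness of type over the field is used, and the row
is stated in that generality.) -/
theorem result
    (Y Z : Scheme.{0}) (g : Z ⟶ Spec (CommRingCat.of ℂ)) (f : Y ⟶ Z)
    [LocallyOfFiniteType g] [QuasiCompact g] [LocallyOfFiniteType f] [QuasiCompact f]
    [IrreducibleSpace Z]
    (hgen : ∃ V : Z.Opens, (V : Set Z).Nonempty ∧
      ∀ z ∈ V, IsClosed ({z} : Set Z) → IsIrreducible (f.base ⁻¹' {z}))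
    (hdom : ∀ W ∈ irreducibleComponents Y, Dense (f.base '' W)) :
    IrreducibleSpace Y := by
  obtain ⟨V, hVne, hV⟩ := hgen
  have : IsLocallyNoetherian Z := LocallyOfFiniteType.isLocallyNoetherian g
  have : IsLocallyNoetherian Y := LocallyOfFiniteType.isLocallyNoetherian f
  have : CompactSpace Z := QuasiCompact.compactSpace_of_compactSpace g
  have : CompactSpace Y := QuasiCompact.compactSpace_of_compactSpace f
  have : AlgebraicGeometry.IsNoetherian Z := { }
  have : AlgebraicGeometry.IsNoetherian Y := { }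
  have : JacobsonSpace Z := LocallyOfFiniteType.jacobsonSpace g
  obtain ⟨z₀, hz₀V, hz₀⟩ := nonempty_inter_closedPoints hVne V.2.isLocallyClosed
  have hY : Nonempty Y := ⟨(hV z₀ hz₀V hz₀).nonempty.some⟩
  obtain ⟨y₀⟩ := hY
  obtain ⟨W₁, hW₁, -⟩ : ∃ W ∈ irreducibleComponents Y, y₀ ∈ W :=
    ⟨irreducibleComponent y₀, irreducibleComponent_mem_irreducibleComponents y₀, mem_irreducibleComponent⟩
  by_cases h1 : ∀ W ∈ irreducibleComponents Y, W = W₁
  · have hu : W₁ = Set.univ := Set.eq_univ_of_forall fun y =>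
      h1 _ (irreducibleComponent_mem_irreducibleComponents y) ▸ mem_irreducibleComponent
    exact { isPreirreducible_univ := hu ▸ hW₁.1.isPreirreducible, toNonempty := ⟨y₀⟩ }
  push Not at h1
  obtain ⟨W₂, hW₂, hne⟩ := h1
  exfalso
  let O : Set Y → Set Y := fun W => W \ ⋃ W' ∈ {W' ∈ irreducibleComponents Y | W' ≠ W}, W'
  have hOopen : ∀ W ∈ irreducibleComponents Y, IsOpen (O W) := fun W hW => by
    have hfin : {W' ∈ irreducibleComponents Y | W' ≠ W}.Finite :=
      (TopologicalSpace.NoetherianSpace.finite_irreducibleComponents (α := Y)).subset (Set.sep_subset _ _)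
    have he : O W = (⋃ W' ∈ {W' ∈ irreducibleComponents Y | W' ≠ W}, W')ᶜ := by
      ext y
      refine ⟨fun h => h.2, fun h => ⟨?_, h⟩⟩
      by_contra hy
      refine h (Set.mem_biUnion ⟨irreducibleComponent_mem_irreducibleComponents y, ?_⟩ mem_irreducibleComponent)
      exact fun e => hy (e ▸ mem_irreducibleComponent)
    rw [he]
    exact (hfin.isClosed_biUnion fun W' hW' => isClosed_of_mem_irreducibleComponents W' hW'.1).isOpen_compl
  have hOne : ∀ W ∈ irreducibleComponents Y, (O W).Nonempty := fun W hW => by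
    by_contra hh
    have hsub : W ⊆ ⋃₀ ((TopologicalSpace.NoetherianSpace.finite_irreducibleComponents (α := Y)).subset
        (Set.sep_subset _ (fun W' => W' ≠ W))).toFinset := fun y hy => by
      by_contra hy'
      refine hh ⟨y, hy, fun h => hy' ?_⟩
      obtain ⟨W', hW', hyW'⟩ := Set.mem_iUnion₂.1 h
      exact Set.mem_sUnion.2 ⟨W', by simpa using hW', hyW'⟩
    obtain ⟨W', hW', hWW'⟩ := isIrreducible_iff_sUnion_isClosed.1 hW.1 _ (fun z hz => by
      simp only [Set.Finite.mem_toFinset] at hz
      exact isClosed_of_mem_irreducibleComponents z hz.1) hsub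
    simp only [Set.Finite.mem_toFinset] at hW'
    exact hW'.2 (Set.Subset.antisymm (hW.2 hW'.1.1 hWW') hWW')
  have hUe : ∀ W ∈ irreducibleComponents Y, ∃ U : Set Z, IsOpen U ∧ U.Nonempty ∧ U ⊆ f.base '' O W := fun W hW => by
    have hc : Topology.IsConstructible (f.base '' O W) :=
      Scheme.Hom.isConstructible_image f (Groth.Agent.ConstrLib.isConstructible_of_isOpen (hOopen W hW))
    have hd : Dense (f.base '' O W) := by
      rw [dense_iff_closure_eq, Set.eq_univ_iff_forall]
      intro z
      have h2 : f.base '' W ⊆ closure (f.base '' O W) := by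
        refine (Set.image_mono ?_).trans (image_closure_subset_closure_image f.continuous)
        obtain ⟨y, hy⟩ := hOne W hW
        exact (subset_closure_inter_of_isPreirreducible_of_isOpen hW.1.isPreirreducible (hOopen W hW) ⟨y, hy.1, hy⟩).trans
          (closure_mono Set.inter_subset_right)
      exact closure_minimal h2 isClosed_closure (hdom W hW z)
    obtain ⟨U, hU, hUne, hUE⟩ := Groth.Agent.ConstrLib.exists_open_subset_of_dense_constructible
      (IrreducibleSpace.isIrreducible_univ Z) hc (by rw [Set.inter_univ, hd.closure_eq])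
    rw [Set.inter_univ] at hUne hUE
    exact ⟨U, hU, hUne, hUE⟩
  obtain ⟨U₁, hU₁, hU₁ne, hU₁E⟩ := hUe W₁ hW₁
  obtain ⟨U₂, hU₂, hU₂ne, hU₂E⟩ := hUe W₂ hW₂
  have hi : (U₁ ∩ U₂ ∩ (V : Set Z)).Nonempty :=
    nonempty_preirreducible_inter (hU₁.inter hU₂) V.2 (nonempty_preirreducible_inter hU₁ hU₂ hU₁ne hU₂ne) hVne
  obtain ⟨z, ⟨⟨hz1, hz2⟩, hzV⟩, hz⟩ := nonempty_inter_closedPoints hi ((hU₁.inter hU₂).inter V.2).isLocallyClosed
  obtain ⟨y₁, hy₁, rfl⟩ := hU₁E hz1
  obtain ⟨y₂, hy₂, he₂⟩ := hU₂E hz2
  obtain ⟨y, -, hyO₁, hyO₂⟩ := (hV _ hzV hz).isPreirreducible (O W₁) (O W₂) (hOopen W₁ hW₁) (hOopen W₂ hW₂)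
    ⟨y₁, rfl, hy₁⟩ ⟨y₂, he₂, hy₂⟩
  exact hyO₂.2 (Set.mem_biUnion ⟨hW₁, hne.symm⟩ hyO₁.1)

end Groth.Agent.S16201
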