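import Groth.Statements.S16202
import Groth.Agent.S7681
import Groth.Agent.S1585
import Groth.Agent.S2351
import Groth.Agent.S4413
import Groth.Agent.S1617
import Groth.Agent.FlatOpen.EquiDim
import Groth.Agent.ParaFLib.PicUFD
import Groth.Agent.AlgSpCov.IntegralDim
import Groth.Agent.AmpleLib.Functorial
import Groth.Agent.AmpleFam.Pullback
import Groth.Agent.CohAff.ResOps
import Groth.Agent.ProjProper.Basic
-- import your own Groth.Agent.* helpers here

set_option autoImplicit false
open CategoryTheory CategoryTheory.Limits AlgebraicGeometry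
open Variety

namespace Groth.Agent.S16202

open Groth.Agent.Props.GenLocus Groth.Agent.QCoh Opposite TopologicalSpace

/-- A section of an invertible module on an integral scheme is a monomorphism as soon as it
generates somewhere. -/
theorem mono_of_nonempty_genLocus {Y : Scheme.{0}} [IsIntegral Y] {M : Y.Modules}
    (s : Coh.structureModule Y ⟶ M) (h : (CohB1.genLocus M s : Set Y).Nonempty) : Mono s := by
  refine CohAff.mono_of_app_injective s fun U => ?_
  refine (injective_iff_map_eq_zero (s.app U).hom).mpr fun (a : Γ(Y, U)) ha => ?_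
  by_cases hU : (U : Set Y).Nonempty
  · obtain ⟨y, hy⟩ := nonempty_preirreducible_inter U.2 (CohB1.genLocus M s).2 hU h
    have hne : Nonempty ((U ⊓ CohB1.genLocus M s : Y.Opens) : Scheme.{0}) := ⟨⟨y, hy⟩⟩
    have hg := (isGen_genLocus s).restrict (inf_le_right : U ⊓ CohB1.genLocus M s ≤ _)
    refine @map_injective_of_isIntegral Y _ _ _ (homOfLE (inf_le_left : U ⊓ CohB1.genLocus M s ≤ U))
      hne _ _ (Eq.trans ?_ (map_zero _).symm)
    refine hg.injective le_rfl ?_
    rw [res_self, sec_res, zero_smul, ← app_eq]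
    exact (app_res s _ a).trans ((congrArg _ ha).trans (map_zero _))
  · have : U = ⊥ := Opens.ext (Set.not_nonempty_iff_eq_empty.mp hU)
    subst this
    have : Subsingleton Γ(Y, ⊥) := inferInstance
    exact this.elim _ _

/-- A nonzero section of an invertible module generates somewhere. -/
theorem genLocus_nonempty_of_mono {Y : Scheme.{0}} [IsIntegral Y] {M : Y.Modules}
    (hM : PicF.IsInvertible M) (s : Coh.structureModule Y ⟶ M) [Mono s] :
    (CohB1.genLocus M s : Set Y).Nonempty := by
  obtain ⟨W, e₀, hW, he₀⟩ := exists_isGen hM (genericPoint Y)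
  obtain ⟨f, hf, -⟩ := he₀.exists_eq le_rfl (sec s W)
  rw [res_self] at hf
  refine ⟨genericPoint Y, ?_⟩
  have := genLocus_inf he₀ s hf
  suffices h : genericPoint Y ∈ Y.basicOpen f from (this.ge h).1
  rw [Y.mem_basicOpen f _ hW]
  refine (isUnit_iff_ne_zero (G₀ := Y.functionField)).mpr fun h0 => ?_
  have hW' : Nonempty W := ⟨⟨_, hW⟩⟩
  have hf0 : f = 0 := germ_injective_of_isIntegral Y _ hW (h0.trans (map_zero _).symm)
  subst hf0
  have hinj : Function.Injective (s.app W) := by
    have : Mono ((Scheme.Modules.toPresheaf Y).map s) := inferInstance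
    have := (NatTrans.mono_iff_mono_app _).mp this (op W)
    exact (AddCommGrpCat.mono_iff_injective _).mp this
  have h10 : (1 : Γ(Y, W)) = 0 :=
    hinj ((hf.trans (zero_smul _ _)).trans (map_zero _).symm)
  exact zero_ne_one h10.symm

/-- Let X be an integral projective scheme over ℂ of dimension at least 2 and D an effective ample
divisor on X. Then the support of D is connected. Here D is given by an ample invertible module L
together with a nonzero global section s (a monomorphism O_X → L), and its support is the zero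
scheme Z(s), which is asserted to be a connected (in particular nonempty) topological space. -/
theorem result
    (X : Scheme.{0}) (f : X ⟶ Spec (CommRingCat.of ℂ)) [IsIntegral X]
    (hproj : (∃ (n : ℕ) (ι : X ⟶ CohB1.ProjSpace n ℂ), IsClosedImmersion ι ∧ ι ≫ CohB1.ProjSpace.toSpec n ℂ = f))
    (hdim : (2 : WithBot ℕ∞) ≤ topologicalKrullDim X)
    (L : X.Modules) (hL : CohB1.IsAmple L) (s : Coh.structureModule X ⟶ L) (hs : Mono s) :
    ConnectedSpace ↥(PicF2.zeroScheme L s).subscheme := by
  obtain ⟨N, ι, _, rfl⟩ := hproj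
  let _ : X.Over (Spec (CommRingCat.of ℂ)) := ⟨ι ≫ CohB1.ProjSpace.toSpec N ℂ⟩
  have : IsProper (CohB1.ProjSpace.toSpec N ℂ) := ProjProper.Basic.isProper_toSpec N ℂ
  have : IsProper (X ↘ Spec (CommRingCat.of ℂ)) :=
    inferInstanceAs (IsProper (ι ≫ CohB1.ProjSpace.toSpec N ℂ))
  have : IsLocallyNoetherian X :=
    LocallyOfFiniteType.isLocallyNoetherian (X ↘ Spec (CommRingCat.of ℂ))
  let ν := Curv2.normalizationι X
  obtain ⟨hfin, -, -, hint, hnorm⟩ := S1585.result ℂ X
  obtain ⟨_, -, hsurj, -⟩ := S2351.result X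
  let _ : (Curv2.normalization X).Over (Spec (CommRingCat.of ℂ)) :=
    ⟨ν ≫ (X ↘ Spec (CommRingCat.of ℂ))⟩
  have : IsFinite ν := hfin
  have : IsProper (Curv2.normalization X ↘ Spec (CommRingCat.of ℂ)) :=
    inferInstanceAs (IsProper (ν ≫ (X ↘ Spec (CommRingCat.of ℂ))))
  have : IsLocallyNoetherian (Curv2.normalization X) :=
    LocallyOfFiniteType.isLocallyNoetherian (Curv2.normalization X ↘ Spec (CommRingCat.of ℂ))
  have hdepth : ∀ y : Curv2.normalization X, IsClosed ({y} : Set (Curv2.normalization X)) →
      2 ≤ LocCoh.depth ((Curv2.normalization X).presheaf.stalk y)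
        ((Curv2.normalization X).presheaf.stalk y) := by
    intro y hy
    have hmax : ∀ x : Curv2.normalization X, FlatOpen.EquiDim.Max x →
        x = genericPoint _ := fun x hx => (hx _ (genericPoint_specializes x)).symm
    obtain ⟨c, hc⟩ : ∃ c : ℕ, ∀ x : Curv2.normalization X, FlatOpen.EquiDim.Max x →
        VarDim.dimPt ℂ (Curv2.normalization X) x = c :=
      ⟨_, fun x hx => by rw [hmax x hx]⟩
    obtain ⟨-, -, -, hloc⟩ := FlatOpen.EquiDim.coheight_add_dimPt ℂ hc y
    have hdimX' : topologicalKrullDim (Curv2.normalization X) = (c : WithBot ℕ∞) := by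
      have := (FlatOpen.EquiDim.irreducibleComponents_dimPt_iff ℂ c).mpr hc Set.univ
        (by rw [irreducibleComponents_eq_singleton]; exact Set.mem_singleton _)
      rwa [IsHomeomorph.topologicalKrullDim_eq _ (Homeomorph.Set.univ _).isHomeomorph] at this
    have h2 : (2 : WithBot ℕ∞) ≤ ringKrullDim ((Curv2.normalization X).presheaf.stalk y) := by
      rw [(S1617.result ℂ _ y hy).symm.trans hloc, ← hdimX']
      exact hdim.trans
        (AlgSpCov.IntegralDim.topologicalKrullDim_le_of_closed_surjective ν ν.isClosedMap)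
    have := (hnorm y).2
    exact ParaFLib.PicUFD.two_le_depth_of_normal _ h2
  have hL' : CohB1.IsAmple ((Scheme.Modules.pullback ν).obj L) :=
    AmpleLib.isAmple_pullback_of_qaMor ν (AmpleFam.Pullback.qaMor_of_isAffineHom ν) hL
  let e : Coh.structureModule (Curv2.normalization X) ≅
      (Scheme.Modules.pullback ν).obj (Coh.structureModule X) := (QCoh.pullbackUnitIso ν).symm
  let s' := e.hom ≫ (Scheme.Modules.pullback ν).map s
  have hgen : CohB1.genLocus _ s' = ν ⁻¹ᵁ CohB1.genLocus L s := S4413.result ν L hL.1 s e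
  obtain ⟨x₀, hx₀⟩ := genLocus_nonempty_of_mono hL.1 s
  obtain ⟨y₀, rfl⟩ := ν.surjective x₀
  have hs' : Mono s' := mono_of_nonempty_genLocus s' ⟨y₀, hgen ▸ hx₀⟩
  have hconn := S7681.result ℂ (Curv2.normalization X) _ hL' s' hs' hdepth
  let i := (PicF2.zeroScheme ((Scheme.Modules.pullback ν).obj L) s').subschemeι
  let j := (PicF2.zeroScheme L s).subschemeι
  have hrange : Set.range j = ν '' Set.range i := by
    rw [Scheme.IdealSheafData.range_subschemeι, Scheme.IdealSheafData.range_subschemeι]
    ext x
    rw [Set.mem_image]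
    simp only [SetLike.mem_coe, S7681.mem_support_iff hL.1, S7681.mem_support_iff hL'.1, hgen]
    constructor
    · intro hx
      obtain ⟨y, rfl⟩ := ν.surjective x
      exact ⟨y, hx, rfl⟩
    · rintro ⟨y, hy, rfl⟩
      exact hy
  have hc : _root_.IsConnected (Set.range j) := by
    rw [hrange]
    exact (isConnected_range i.continuous).image _ ν.continuous.continuousOn
  have hemb : Topology.IsEmbedding j := j.isClosedEmbedding.isEmbedding
  have : PreconnectedSpace ↥(PicF2.zeroScheme L s).subscheme :=
    ⟨hemb.isInducing.isPreconnected_image.mp (by rw [Set.image_univ]; exact hc.2)⟩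
  obtain ⟨_, w, -⟩ := hc.nonempty
  exact { toNonempty := ⟨w⟩ }

end Groth.Agent.S16202
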