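import Groth.Statements.S16203
import Groth.Agent.Wt.CurveScheme
import Groth.Agent.FibBound.Basic
import Groth.Agent.VarBC.Dim
import Groth.Agent.VarDim.Curve
import Groth.Agent.FBase.Dim
import Groth.Agent.ProjProper.Basic
import Mathlib.AlgebraicGeometry.ZariskisMainTheorem
import Mathlib.AlgebraicGeometry.Morphisms.UniversallyOpen

set_option autoImplicit false
set_option linter.style.haveILetI false
open CategoryTheory CategoryTheory.Limits AlgebraicGeometry
open Variety

namespace Groth.Agent.S16203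

/-- Let f : Y → Z be a flat dominant morphism of integral projective schemes over ℂ, let B be an
irreducible closed curve in Z (an irreducible closed subset of dimension 1), p a closed point of B
and q a closed point of Y lying over p. Then there is an irreducible closed curve B' in Y passing
through q which is a finite cover of B: an irreducible closed subset B' of Y containing q whose
image is B and which meets every fibre of f in a finite set. -/
theorem result
    (Y Z : Scheme.{0}) (g : Z ⟶ Spec (CommRingCat.of ℂ)) (f : Y ⟶ Z) [IsIntegral Y] [IsIntegral Z]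
    (hZ : (∃ (m : ℕ) (ι : Z ⟶ CohB1.ProjSpace m ℂ), IsClosedImmersion ι ∧ ι ≫ CohB1.ProjSpace.toSpec m ℂ = g))
    (hY : (∃ (n : ℕ) (ι' : Y ⟶ CohB1.ProjSpace n ℂ), IsClosedImmersion ι' ∧ ι' ≫ CohB1.ProjSpace.toSpec n ℂ = f ≫ g))
    [Flat f] (hdomi : DenseRange f.base)
    (B : Set Z) (hBc : IsClosed B) (hBi : IsIrreducible B) (hBd : topologicalKrullDim ↥B = 1)
    (p : Z) (hp : p ∈ B) (hpc : IsClosed ({p} : Set Z))
    (q : Y) (hqc : IsClosed ({q} : Set Y)) (hq : f.base q = p) :
    ∃ B' : Set Y, IsClosed B' ∧ IsIrreducible B' ∧ q ∈ B' ∧ f.base '' B' = B ∧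
      ∀ z : Z, (B' ∩ f.base ⁻¹' {z}).Finite := by
  obtain ⟨m, ι₁, hι₁, hg⟩ := hZ
  obtain ⟨n, ι₂, hι₂, hfg⟩ := hY
  haveI := ProjProper.Basic.isProper_toSpec m ℂ
  haveI := ProjProper.Basic.isProper_toSpec n ℂ
  haveI : IsProper g := hg ▸ inferInstance
  haveI : IsProper (f ≫ g) := hfg ▸ inferInstance
  haveI : IsProper f := IsProper.of_comp f g
  haveI : IsLocallyNoetherian Z := LocallyOfFiniteType.isLocallyNoetherian g
  haveI : IsLocallyNoetherian Y := LocallyOfFiniteType.isLocallyNoetherian (f ≫ g)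
  haveI : CompactSpace Y := QuasiCompact.compactSpace_of_compactSpace (f ≫ g)
  haveI : AlgebraicGeometry.IsNoetherian Y := ⟨⟩
  letI : Z.Over (Spec (CommRingCat.of ℂ)) := ⟨g⟩
  letI : Y.Over (Spec (CommRingCat.of ℂ)) := ⟨f ≫ g⟩
  haveI : LocallyOfFiniteType (Z ↘ Spec (CommRingCat.of ℂ)) := inferInstanceAs (LocallyOfFiniteType g)
  haveI : LocallyOfFiniteType (Y ↘ Spec (CommRingCat.of ℂ)) :=
    inferInstanceAs (LocallyOfFiniteType (f ≫ g))
  -- the generic point of the curve
  obtain ⟨η, hη⟩ : ∃ η, IsGenericPoint η B := QuasiSober.sober hBi hBc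
  have hdimη : VarDim.dimPt ℂ Z η = 1 := by
    have h := VarBC.Dim.topDim_closure ℂ η
    rw [FBase.Dim.topDim_congr hη.def, hBd] at h
    exact_mod_cast h.symm
  have hηp : η ≠ p := by
    rintro rfl
    have h := VarBC.Dim.topDim_closure ℂ η
    rw [FBase.Dim.topDim_congr hpc.closure_eq, hdimη] at h
    have h1 : topologicalKrullDim ({η} : Set Z) ≤ 0 := topologicalKrullDim_zero_of_discreteTopology _
    rw [h] at h1
    exact absurd (show (1 : WithBot ℕ∞) ≤ 0 by exact_mod_cast h1) (by decide)
  have hηcase : ∀ {y : Z}, y ∈ B → y ≠ η → IsClosed ({y} : Set Z) := by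
    intro y hy hne
    refine VarDim.isClosed_singleton_of_isMin (Order.height_eq_zero.mp ?_)
    have hlt : y < η := lt_iff_le_not_ge.mpr ⟨hη.specializes hy,
      fun h => hne (Specializes.antisymm h (hη.specializes hy)).eq⟩
    have := VarDim.dimPt_lt_of_lt ℂ hlt
    rw [hdimη] at this
    rw [VarDim.height_eq_dimPt ℂ]
    exact_mod_cast Nat.lt_one_iff.mp this
  -- the family over the curve
  let I₀ := Scheme.IdealSheafData.vanishingIdeal (⟨B, hBc⟩ : TopologicalSpace.Closeds Z)
  let ιB := I₀.subschemeι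
  have hrange : Set.range ιB = B := by
    rw [Scheme.IdealSheafData.range_subschemeι, Scheme.IdealSheafData.coe_support_vanishingIdeal]; rfl
  let π := pullback.fst f ιB
  let fB := pullback.snd f ιB
  haveI : IsLocallyNoetherian I₀.subscheme := LocallyOfFiniteType.isLocallyNoetherian (ιB ≫ g)
  obtain ⟨p₀, hp₀⟩ : p ∈ Set.range ιB := hrange.symm ▸ hp
  obtain ⟨η₀, hη₀⟩ : η ∈ Set.range ιB := hrange.symm ▸ hη.mem
  obtain ⟨q₀, hq₀, hq₀'⟩ := Scheme.Pullback.exists_preimage_pullback (f := f) (g := ιB) q p₀ (hq.trans hp₀.symm)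
  have hsp : η₀ ⤳ fB q₀ := by
    rw [hq₀']
    refine ιB.isEmbedding.isInducing.specializes_iff.mp ?_
    rw [hη₀, hp₀]
    exact hη.specializes hp
  haveI : Flat fB := MorphismProperty.pullback_snd _ _ inferInstance
  obtain ⟨x', hx', hx'η⟩ := Flat.generalizingMap fB hsp
  have hcl : IsClosed (Subtype.val ⁻¹' {q₀} : Set ↑(fB ⁻¹' {fB q₀})) := by
    have : IsClosed ({q₀} : Set ↥(pullback f ιB)) := by
      have h := hqc.preimage π.continuous
      convert h using 1
      ext w
      simp only [Set.mem_singleton_iff, Set.mem_preimage]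
      exact ⟨fun e => e ▸ hq₀, fun e => π.isEmbedding.injective (e.trans hq₀.symm)⟩
    exact this.preimage continuous_subtype_val
  obtain ⟨I, z₀, x₀, hx₀, hqf, -, hz₀q, hz₀ne⟩ := Wt.CurveScheme.exists_curve fB q₀ hcl ⊤
    ⟨x', trivial, hx', fun h => hηp (by rw [← hη₀, ← hp₀, ← hq₀']; exact congrArg ιB (hx'η.symm.trans h))⟩
  let j := I.subschemeι ≫ π
  let qm := I.subschemeι ≫ fB
  let z : Y := j z₀
  have hcomp : ∀ w, f (π w) = ιB (fB w) := fun w => by
    rw [← Scheme.Hom.comp_apply, pullback.condition, Scheme.Hom.comp_apply]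
  have hfz : f z = η := by
    show f (π (I.subschemeι z₀)) = η
    rw [hcomp]
    have hmem : ιB (fB (I.subschemeι z₀)) ∈ B := hrange.le ⟨_, rfl⟩
    by_contra hne
    apply hz₀ne
    apply ιB.isEmbedding.injective
    have hs : ιB (fB (I.subschemeι z₀)) ⤳ ιB (fB q₀) := (hz₀q.map fB.continuous).map ιB.continuous
    exact ((hηcase hmem hne).closure_eq.le hs.mem_closure).symm
  have hzq : z ⤳ q := hq₀ ▸ hz₀q.map π.continuous
  -- the closure of `z` meets the generic fibre only in `z`
  have hqfz : qm.QuasiFiniteAt z₀ := by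
    have hs : z₀ ⤳ x₀ := I.subschemeι.isEmbedding.isInducing.specializes_iff.mp (hx₀ ▸ hz₀q)
    exact hs.mem_open qm.isOpen_quasiFiniteAt hqf
  have hfib : ∀ w : Y, f w = η → z ⤳ w → w = z := by
    intro w hwη hzw
    obtain ⟨w', hw'⟩ : w ∈ Set.range j := hzw.mem_closed j.isClosedEmbedding.isClosed_range ⟨z₀, rfl⟩
    subst hw'
    have hzw' : z₀ ⤳ w' := j.isEmbedding.isInducing.specializes_iff.mp hzw
    have hqe : qm w' = qm z₀ := ιB.isEmbedding.injective (by
      rw [Scheme.Hom.comp_apply, Scheme.Hom.comp_apply, ← hcomp, ← hcomp]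
      exact hwη.trans hfz.symm)
    obtain ⟨v, hv⟩ : w' ∈ Set.range (qm.fiberι (qm z₀)) := by
      rw [Scheme.Hom.range_fiberι]; exact hqe
    have h1 : qm.asFiber z₀ ⤳ v := (qm.fiberι _).isEmbedding.isInducing.specializes_iff.mp (by
      rw [qm.fiberι_asFiber, hv]; exact hzw')
    have h2 : v = qm.asFiber z₀ :=
      h1.mem_closed hqfz.isClopen_singleton_asFiber.1 rfl
    rw [h2, qm.fiberι_asFiber] at hv
    rw [← hv]
  have hdimz : VarDim.dimPt ℂ Y z = 1 := by
    obtain ⟨e, he, hsum⟩ := FibBound.dimPt_eq_add (f := f) ℂ rfl z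
    have : Subsingleton {w : Y | f w = f z ∧ z ⤳ w} := ⟨fun a b => Subtype.ext
      ((hfib a.1 (a.2.1.trans hfz) a.2.2).trans (hfib b.1 (b.2.1.trans hfz) b.2.2).symm)⟩
    haveI : Nonempty {w : Y | f w = f z ∧ z ⤳ w} := ⟨⟨z, rfl, specializes_rfl⟩⟩
    rw [Order.krullDim_eq_zero] at he
    have he0 : e = 0 := by exact_mod_cast he.symm
    rw [hsum, hfz, hdimη, he0]
  have hclosed : ∀ w ∈ closure ({z} : Set Y), w ≠ z → IsClosed ({w} : Set Y) := by
    intro w hw hne
    have hzw : z ⤳ w := specializes_iff_mem_closure.mpr hw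
    have hlt : w < z := lt_iff_le_not_ge.mpr ⟨hzw, fun h => hne (Specializes.antisymm h hzw).eq⟩
    refine VarDim.isClosed_singleton_of_isMin (Order.height_eq_zero.mp ?_)
    have := VarDim.dimPt_lt_of_lt ℂ hlt
    rw [hdimz] at this
    rw [VarDim.height_eq_dimPt ℂ]
    exact_mod_cast Nat.lt_one_iff.mp this
  refine ⟨closure {z}, isClosed_closure, isIrreducible_singleton.closure,
    specializes_iff_mem_closure.mp hzq, ?_, fun b => ?_⟩
  · have himg : IsClosed (f.base '' closure {z}) := f.isClosedMap _ isClosed_closure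
    apply subset_antisymm
    · rw [← hη.def]
      refine (image_closure_subset_closure_image f.continuous).trans ?_
      rw [Set.image_singleton]
      exact closure_mono (by rw [show f.base z = η from hfz])
    · rw [← hη.def]
      exact closure_minimal (Set.singleton_subset_iff.mpr ⟨z, subset_closure rfl, hfz⟩) himg
  · by_cases hb : b = η
    · subst hb
      exact (Set.finite_singleton z).subset fun w hw => hfib w hw.2 (specializes_iff_mem_closure.mpr hw.1)
    by_cases hbB : b ∈ B
    · have hS : IsClosed (closure ({z} : Set Y) ∩ f.base ⁻¹' {b}) :=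
        isClosed_closure.inter ((hηcase hbB hb).preimage f.continuous)
      obtain ⟨T, hTf, hTcl, hTirr, hT⟩ :=
        TopologicalSpace.NoetherianSpace.exists_finite_set_isClosed_irreducible hS
      rw [hT]
      refine hTf.sUnion fun t ht => ?_
      obtain ⟨w, hw⟩ := QuasiSober.sober (hTirr t ht) (hTcl t ht)
      have hwS : w ∈ closure ({z} : Set Y) ∩ f.base ⁻¹' {b} := hT.ge ⟨t, ht, hw.mem⟩
      have hwne : w ≠ z := by
        rintro rfl
        exact hb (hwS.2.symm.trans hfz)
      rw [← hw.def, (hclosed w hwS.1 hwne).closure_eq]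
      exact Set.finite_singleton w
    · refine Set.Finite.subset Set.finite_empty fun w hw => hbB ?_
      have hzw : z ⤳ w := specializes_iff_mem_closure.mpr hw.1
      have := (hzw.map f.continuous)
      rw [hfz] at this
      rw [← show f w = b from hw.2, ← hη.def]
      exact this.mem_closure

end Groth.Agent.S16203
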