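import Groth.Statements.S16206
import Mathlib

set_option autoImplicit false
open RatCurv

namespace Groth.Agent.S16206

open W4c3cyccovratcurv SimpleGraph

theorem adj_symm {k : ℕ} {S T : MarkedTree k} (h : ConicAdj S T) : ConicAdj T S := by
  obtain ⟨u₁, w₁, u₂, w₂, h₁, h₂, φ, hu, hm⟩ := h
  exact ⟨u₂, w₂, u₁, w₁, h₂, h₁, φ.symm, by rw [← hu]; exact φ.symm_apply_apply _,
    fun i => by rw [← hm i]; exact φ.symm_apply_apply _⟩

variable {n k : ℕ}

/-- Moving one edge `w x` to `u x`. -/
def move (G : SimpleGraph (Fin n)) (u w x : Fin n) : SimpleGraph (Fin n) :=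
  G.deleteEdges {s(w, x)} ⊔ fromEdgeSet {s(u, x)}

theorem move_adj (G : SimpleGraph (Fin n)) (u w x a b : Fin n) :
    (move G u w x).Adj a b ↔
      (G.Adj a b ∧ ¬((a = w ∧ b = x) ∨ (a = x ∧ b = w))) ∨ ((a = u ∧ b = x ∨ a = x ∧ b = u) ∧ a ≠ b) := by
  simp only [move, sup_adj, deleteEdges_adj, fromEdgeSet_adj, Set.mem_singleton_iff, Sym2.eq_iff]

theorem move_isTree {G : SimpleGraph (Fin n)} (hG : G.IsTree) {u w x : Fin n} (huw : G.Adj u w)
    (hwx : G.Adj w x) (hux : u ≠ x) : (move G u w x).IsTree := by
  have hnr : ¬ (G.deleteEdges {s(w, x)}).Reachable u x := by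
    intro hr
    have hb := (isAcyclic_iff_forall_adj_isBridge.mp hG.isAcyclic) hwx
    have huw' : (G.deleteEdges {s(w, x)}).Adj w u := by
      rw [deleteEdges_adj, Set.mem_singleton_iff, Sym2.eq_iff]
      refine ⟨huw.symm, ?_⟩
      rintro (⟨-, h⟩ | ⟨-, h⟩)
      · exact hux h
      · exact huw.ne h
    exact isBridge_iff.mp hb (huw'.reachable.trans hr)
  refine ⟨(connected_iff _).mpr ⟨fun a b => ?_, ⟨u⟩⟩, (isAcyclic_add_edge_iff_of_not_reachable _ _ hnr).mpr (hG.isAcyclic.anti (deleteEdges_le _))⟩
  · have hwu : (move G u w x).Adj w u := by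
      rw [move_adj]
      exact Or.inl ⟨huw.symm, by rintro (⟨-, h⟩ | ⟨-, h⟩); exacts [hux h, huw.ne h]⟩
    have hux' : (move G u w x).Adj u x := by
      rw [move_adj]; exact Or.inr ⟨Or.inl ⟨rfl, rfl⟩, hux⟩
    have key : ∀ a b, G.Adj a b → (move G u w x).Reachable a b := by
      intro a b hab
      by_cases h : (a = w ∧ b = x) ∨ (a = x ∧ b = w)
      · rcases h with ⟨rfl, rfl⟩ | ⟨rfl, rfl⟩
        · exact hwu.reachable.trans hux'.reachable
        · exact (hwu.reachable.trans hux'.reachable).symm
      · exact (show (move G u w x).Adj a b from (move_adj G u w x a b).mpr (Or.inl ⟨hab, h⟩)).reachable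
    obtain ⟨p⟩ := hG.1.preconnected a b
    induction p with
    | nil => exact Reachable.refl _
    | cons h _ ih => exact (key _ _ h).trans ih

theorem contract_move {G : SimpleGraph (Fin n)} {u w x : Fin n} (huw : G.Adj u w) (hwx : G.Adj w x) (hux : u ≠ x) :
    W4c3cyccovratcurv.contract G u w = W4c3cyccovratcurv.contract (move G u w x) u w := by
  ext ⟨a, ha⟩ ⟨b, hb⟩
  simp only [W4c3cyccovratcurv.contract, fromRel_adj, ne_eq, Subtype.mk.injEq, move_adj]
  have h1 := huw.ne
  have h2 := hwx.ne
  have h3 := hwx.symm
  constructor <;> rintro ⟨hab, h⟩ <;> refine ⟨hab, ?_⟩ <;>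
    rcases h with (h | ⟨h, h'⟩) | (h | ⟨h, h'⟩) <;> grind

/-- The normal form: all other vertices and all marks at the centre. -/
theorem to_star (r : Fin n) : ∀ (d : ℕ) (G : SimpleGraph (Fin n)) (hG : G.IsTree) (m : Fin k → Fin n),
    (G.neighborSet r).ncard + d = n →
    ∃ (G' : SimpleGraph (Fin n)) (hG' : G'.IsTree),
      (∀ a b, G'.Adj a b ↔ a ≠ b ∧ (a = r ∨ b = r)) ∧
        Relation.ReflTransGen ConicAdj ⟨n, G, hG, m⟩ (⟨n, G', hG', fun _ => r⟩ : MarkedTree k) := by
  classical
  intro d
  induction d using Nat.strongRec with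
  | ind d ih =>
    intro G hG m hd
    by_cases hfar : ∃ w x, G.Adj r w ∧ G.Adj w x ∧ r ≠ x
    · obtain ⟨w, x, hrw, hwx, hrx⟩ := hfar
      have hG₁ := move_isTree hG hrw hwx hrx
      have hnx : ¬ G.Adj r x := fun h => by
        have hb := (isAcyclic_iff_forall_adj_isBridge.mp hG.isAcyclic) hwx
        refine isBridge_iff.mp hb ?_
        have a1 : (G.deleteEdges {s(w, x)}).Adj w r := by
          rw [deleteEdges_adj, Set.mem_singleton_iff, Sym2.eq_iff]
          exact ⟨hrw.symm, by rintro (⟨-, e⟩ | ⟨-, e⟩); exacts [hrx e, hrw.ne e]⟩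
        have a2 : (G.deleteEdges {s(w, x)}).Adj r x := by
          rw [deleteEdges_adj, Set.mem_singleton_iff, Sym2.eq_iff]
          exact ⟨h, by rintro (⟨e, -⟩ | ⟨e, -⟩); exacts [hrw.ne e, hrx e]⟩
        exact a1.reachable.trans a2.reachable
      have hsub : insert x (G.neighborSet r) ⊆ (move G r w x).neighborSet r := by
        rintro y (rfl | hy)
        · exact (move_adj ..).mpr (Or.inr ⟨Or.inl ⟨rfl, rfl⟩, hrx⟩)
        · refine (move_adj ..).mpr (Or.inl ⟨hy, ?_⟩)
          rintro (⟨e, -⟩ | ⟨e, -⟩)
          · exact hrw.ne e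
          · exact hrx e
      have hcard := Set.ncard_le_ncard hsub
      rw [Set.ncard_insert_of_notMem (show x ∉ G.neighborSet r from hnx)] at hcard
      have hle : ((move G r w x).neighborSet r).ncard ≤ n := by
        have := Set.ncard_le_card ((move G r w x).neighborSet r)
        simpa using this
      have hrw' : (move G r w x).Adj r w := (move_adj ..).mpr (Or.inl ⟨hrw, by
        rintro (⟨e, -⟩ | ⟨e, -⟩)
        · exact hrw.ne e
        · exact hrx e⟩)
      obtain ⟨G', hG', hstar, hpath⟩ := ih (n - ((move G r w x).neighborSet r).ncard) (by omega) _ hG₁ m (by omega)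
      refine ⟨G', hG', hstar, Relation.ReflTransGen.head ?_ hpath⟩
      have e := contract_move hrw hwx hrx
      refine ⟨r, w, r, w, hrw, hrw', ⟨Equiv.refl _, fun {a b} => ?_⟩, rfl, fun i => rfl⟩
      change (W4c3cyccovratcurv.contract (move G r w x) r w).Adj a b ↔ (W4c3cyccovratcurv.contract G r w).Adj a b
      rw [e]
    · push Not at hfar
      have hall : ∀ a, a ≠ r → G.Adj r a := by
        intro a ha
        have key : ∀ (s b : Fin n) (p : G.Walk s b), (s = r ∨ G.Adj r s) → (b = r ∨ G.Adj r b) := by
          intro s b p
          induction p with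
          | nil => exact id
          | @cons s t b h _ ih =>
            intro hs
            refine ih ?_
            rcases hs with rfl | hs
            · exact Or.inr h
            · exact Or.inl (hfar s t hs h).symm
        obtain ⟨p⟩ := hG.1.preconnected r a
        exact (key r a p (Or.inl rfl)).resolve_left ha
      have hstar : ∀ a b, G.Adj a b ↔ a ≠ b ∧ (a = r ∨ b = r) := by
        intro a b
        constructor
        · intro h
          refine ⟨h.ne, ?_⟩
          by_contra hc
          push Not at hc
          exact hc.2 (hfar a b (hall a hc.1) h).symm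
        · rintro ⟨hab, rfl | rfl⟩
          · exact hall b (Ne.symm hab)
          · exact (hall a hab).symm
      refine ⟨G, hG, hstar, ?_⟩
      clear ih hd
      -- collect the marks
      have key : ∀ (S : Finset (Fin k)) (m : Fin k → Fin n), (∀ i ∉ S, m i = r) →
          Relation.ReflTransGen ConicAdj (⟨n, G, hG, m⟩ : MarkedTree k) ⟨n, G, hG, fun _ => r⟩ := by
        intro S
        induction S using Finset.induction with
        | empty =>
          intro m hm
          rw [show m = fun _ => r from funext fun i => hm i (Finset.notMem_empty i)]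
        | @insert i S hi ih =>
          intro m hm
          have hm' : ∀ j ∉ S, Function.update m i r j = r := fun j hj => by
            rcases eq_or_ne j i with rfl | h
            · simp
            · simp [h, hm j (by simp [h, hj])]
          by_cases hmi : m i = r
          · exact ih m fun j hj => by
              rcases eq_or_ne j i with rfl | h
              · exact hmi
              · exact hm j (by simp [h, hj])
          · refine Relation.ReflTransGen.head ?_ (ih _ hm')
            have hadj := hall (m i) hmi
            refine ⟨r, m i, r, m i, hadj, hadj, ⟨Equiv.refl _, Iff.rfl⟩, rfl, fun j => ?_⟩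
            change contractMark m r (m i) hadj.ne j = contractMark (Function.update m i r) r (m i) hadj.ne j
            unfold contractMark
            rcases eq_or_ne j i with rfl | h
            · rw [dif_pos rfl, dif_neg (by rw [Function.update_self]; exact Ne.symm hmi)]
              exact Subtype.ext (Function.update_self j r m).symm
            · simp [Function.update_of_ne h]
      exact key Finset.univ m (fun i hi => absurd (Finset.mem_univ i) hi)


/-- Let G₁ and G₂ be dual graphs of linear trees of the same total degree e and with k marked points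
each, that is finite trees with e vertices, every vertex of degree one, together with a list of k
marked vertices (repetitions allowed). Then a finite chain of conic deformations leads from G₁ to
G₂. Here a conic deformation of such a graph is the marked graph obtained by contracting one edge
(the contracted vertex being the unique vertex of degree two), two marked trees are one step apart
when they have isomorphic conic deformations, the isomorphism matching the contracted vertices and
the i-th marked vertices, and the conclusion is that G₁ and G₂ are related by the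
reflexive-transitive closure of this one-step relation. -/
theorem result (k : ℕ) (T₁ T₂ : W4c3cyccovratcurv.MarkedTree k)
    (h : T₁.n = T₂.n) :
    Relation.ReflTransGen W4c3cyccovratcurv.ConicAdj T₁ T₂ := by
  obtain ⟨n, G₁, hG₁, m₁⟩ := T₁
  obtain ⟨n', G₂, hG₂, m₂⟩ := T₂
  simp only at h
  subst h
  haveI : Nonempty (Fin n) := hG₁.1.nonempty
  obtain ⟨r⟩ := ‹Nonempty (Fin n)›
  have hle : ∀ G : SimpleGraph (Fin n), (G.neighborSet r).ncard + (n - (G.neighborSet r).ncard) = n := fun G => by
    have := Set.ncard_le_card (G.neighborSet r)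
    simp at this
    omega
  obtain ⟨S₁, hS₁, hs₁, p₁⟩ := to_star r _ G₁ hG₁ m₁ (hle G₁)
  obtain ⟨S₂, hS₂, hs₂, p₂⟩ := to_star r _ G₂ hG₂ m₂ (hle G₂)
  have e : S₁ = S₂ := by ext a b; rw [hs₁, hs₂]
  subst e
  refine p₁.trans ?_
  have hsym : ∀ {S T : MarkedTree k}, Relation.ReflTransGen ConicAdj S T → Relation.ReflTransGen ConicAdj T S := by
    intro S T hst
    induction hst with
    | refl => exact Relation.ReflTransGen.refl
    | tail _ h ih => exact ih.head (adj_symm h)
  exact hsym p₂

end Groth.Agent.S16206
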