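import Groth.Statements.S16211
import Mathlib

set_option autoImplicit false
universe u v
open InvTh

namespace Groth.Agent.S16211

/-- Let R be a commutative ring, O a formally smooth R-algebra and G a finite group whose order is
invertible in R, acting on O by R-algebra automorphisms. Then the largest quotient algebra of O on
which G acts trivially, namely the quotient of O by the ideal generated by all g • f - f (the
coordinate ring of the subscheme of G-fixed points of Spec O), is again formally smooth over R:
invariant homomorphisms lift along square-zero extensions. The published statement is about a scheme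
X smooth and of finite presentation over the base and concludes that its fixed-point scheme is
smooth; this row, the affine step of its proof, assumes only that O is formally smooth over R and
concludes only formal smoothness. -/
theorem result (R : Type u) [CommRing R]
    (O : Type u) [CommRing O] [Algebra R O] [Algebra.FormallySmooth R O]
    (G : Type v) [Group G] [Finite G] [MulSemiringAction G O] [SMulCommClass G R O]
    (hG : IsUnit (Nat.card G : R)) :
    Algebra.FormallySmooth R (O ⧸ Ideal.span {x : O | ∃ (g : G) (f : O), x = g • f - f}) := by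
  classical
  cases nonempty_fintype G
  rw [Nat.card_eq_fintype_card] at hG
  set I : Ideal O := Ideal.span {x : O | ∃ (g : G) (f : O), x = g • f - f}
  rw [Algebra.FormallySmooth.iff_comp_surjective]
  intro B _ _ J hJ
  intro φ
  obtain ⟨ψ, hψ⟩ := Algebra.FormallySmooth.comp_surjective R O J hJ (φ.comp (Ideal.Quotient.mkₐ R I))
  obtain ⟨c₀, hc₀⟩ := isUnit_iff_exists_inv'.mp hG
  let c : B := algebraMap R B c₀
  have hc : c * (Fintype.card G : B) = 1 := by
    rw [show (Fintype.card G : B) = algebraMap R B (Fintype.card G) by simp, ← map_mul, hc₀, map_one]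
  have hψ' : ∀ x, Ideal.Quotient.mk J (ψ x) = φ (Ideal.Quotient.mk I x) := fun x => DFunLike.congr_fun hψ x
  let d : G → O → B := fun g x => ψ (g • x) - ψ x
  have hd : ∀ g x, d g x ∈ J := by
    intro g x
    rw [← Ideal.Quotient.eq, hψ', hψ']
    congr 1
    rw [Ideal.Quotient.eq]
    exact Ideal.subset_span ⟨g, x, rfl⟩
  let D : O →ₗ[R] B := c₀ • ∑ g : G, (ψ.toLinearMap ∘ₗ DistribSMul.toLinearMap R O g - ψ.toLinearMap)
  have hD : ∀ x, D x = c * ∑ g : G, d g x := by
    intro x; simp [D, c, d, Algebra.smul_def]
  have hDJ : ∀ x, D x ∈ J := fun x => by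
    rw [hD]; exact J.mul_mem_left _ (J.sum_mem fun g _ => hd g x)
  have hJJ : ∀ a ∈ J, ∀ b ∈ J, a * b = 0 := by
    intro a ha b hb
    have := Ideal.mul_mem_mul ha hb
    rwa [← pow_two, hJ, Ideal.mem_bot] at this
  have hD1 : D 1 = 0 := by simp [hD, d]
  have hDmul : ∀ x y, D (x * y) = ψ x * D y + ψ y * D x := by
    intro x y
    simp only [hD, Finset.mul_sum, ← Finset.sum_add_distrib]
    refine Finset.sum_congr rfl fun g _ => ?_
    have h0 := hJJ _ (hd g x) _ (hd g y)
    have e : g • (x * y) = (g • x) * (g • y) := smul_mul' g x y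
    simp only [d, e, map_mul] at h0 ⊢
    linear_combination c * h0
  let ψ' : O →ₐ[R] B := AlgHom.ofLinearMap (ψ.toLinearMap + D) (by simp [hD1]) (by
    intro x y
    simp only [LinearMap.add_apply, AlgHom.toLinearMap_apply, map_mul, hDmul]
    linear_combination -(hJJ _ (hDJ x) _ (hDJ y)))
  have hψ'inv : ∀ (h : G) (x : O), ψ' (h • x) = ψ' x := by
    intro h x
    have e : ∀ y, ψ' y = c * ∑ g : G, ψ (g • y) := by
      intro y
      change ψ y + D y = _
      rw [hD]
      simp only [d, Finset.sum_sub_distrib, Finset.sum_const, Finset.card_univ, nsmul_eq_mul]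
      linear_combination -(ψ y) * hc
    rw [e, e]
    congr 1
    exact Fintype.sum_equiv (Equiv.mulRight h) _ _ (fun g => by simp [mul_smul])
  refine ⟨Ideal.Quotient.liftₐ I ψ' (fun x hx => ?_), ?_⟩
  · refine (Ideal.span_le (I := RingHom.ker ψ')).mpr ?_ hx
    rintro _ ⟨g, f, rfl⟩
    simp [RingHom.mem_ker, hψ'inv]
  · apply Ideal.Quotient.algHom_ext
    apply AlgHom.ext; intro x
    change Ideal.Quotient.mk J (ψ x + D x) = φ (Ideal.Quotient.mk I x)
    rw [map_add, hψ', Ideal.Quotient.eq_zero_iff_mem.mpr (hDJ x), add_zero]

end Groth.Agent.S16211
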