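import Groth.Statements.S16218
import Groth.Agent.S11473
import Groth.Agent.ModFun0.Basic
-- import your own Groth.Agent.* helpers here

set_option autoImplicit false
set_option linter.style.haveILetI false
set_option backward.isDefEq.respectTransparency.types false
universe u
open CategoryTheory CategoryTheory.Limits AlgebraicGeometry
open Curves

namespace Groth.Agent.S16218

/-- Let k be an algebraically closed field. For the moduli problem of curves of genus 0 over k-schemes
(smooth proper geometrically irreducible morphisms whose geometric fibres are one-dimensional of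
genus 0, up to isomorphism over the base), the point M = Spec k with the morphism φ sending each
family over T to the structure morphism of T satisfies: (b) every morphism ψ from the problem to a
functor of points h_N, both taken on test schemes of finite type over k, factors as φ followed by a
unique k-morphism Spec k → N; and (a) φ is bijective on geometric points: over every algebraically
closed field Ω over k there is a family of genus-0 curves over Spec Ω and any two are isomorphic. In
particular Spec k is a coarse moduli scheme for curves of genus 0 in this sense (universal property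
for test schemes of finite type over k), and the family over Spec k in (a) is a tautological family.
(The published statement asserts the universal property (b) for all k-schemes as test schemes and
for families projective over the base; its proof treats test schemes of finite type over k,
indicating the general case only in outline, so (b) is stated for finite-type test schemes here, and
properness replaces projectivity, which changes nothing in the argument. Since Spec k is terminal
among k-schemes, φ is unique and is quantified existentially.) -/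
theorem result
    {k : Type u} [Field k] [IsAlgClosed k] :
    ∃ φ : (ModFun.Mg (Spec (CommRingCat.of k)) 0).Hom ⊤ (Over.mk (𝟙 (Spec (CommRingCat.of k)))),
      ModFun.IsBestApprox
          (fun T : Over (Spec (CommRingCat.of k)) => LocallyOfFiniteType T.hom ∧ QuasiCompact T.hom)
          (ModFun.Mg (Spec (CommRingCat.of k)) 0) (Over.mk (𝟙 (Spec (CommRingCat.of k)))) (φ.ofLE le_top) ∧
        ModFun.GeomBij (ModFun.Mg (Spec (CommRingCat.of k)) 0) (Over.mk (𝟙 (Spec (CommRingCat.of k)))) φ := by
  let S := Spec (CommRingCat.of k)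
  have hok : ∀ {T T' : Over S} (g : T' ⟶ T) (x : (ModFun.Mg S 0).Fam T),
      (ModFun.Mg S 0).ok T x → (ModFun.Mg S 0).ok T' ((ModFun.Mg S 0).pull g x) := fun g x hx =>
    ⟨trivial, Groth.Agent.ModFun0.isCurveOfGenus_of_isPullback (IsPullback.of_hasPullback _ _) hx.2⟩
  let toM : ∀ T : Over S, T ⟶ Over.mk (𝟙 S) := fun T => Over.homMk T.hom (Category.comp_id _)
  have hterm : ∀ {T : Over S} (g : T ⟶ Over.mk (𝟙 S)), g = toM T := fun g =>
    Over.OverMorphism.ext ((Category.comp_id _).symm.trans (Over.w g))
  refine ⟨{ app := fun T _ _ _ => toM T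
            natural := fun {T T'} g _ _ _ _ _ => (hterm (g ≫ toM T)).symm
            resp := fun _ _ _ _ _ _ => rfl }, ?_, ?_⟩
  · intro N ψ
    let T₀ : Over S := Over.mk (𝟙 S)
    let x₀ : (ModFun.Mg S 0).Fam T₀ := Over.mk (CohB1.ProjSpace.toSpec 1 k)
    have hx₀ : (ModFun.Mg S 0).ok T₀ x₀ := ⟨trivial, Groth.Agent.ModFun0.isCurveOfGenus_p1 k⟩
    have hT₀ : LocallyOfFiniteType T₀.hom ∧ QuasiCompact T₀.hom :=
      ⟨inferInstanceAs (LocallyOfFiniteType (𝟙 S)), inferInstanceAs (QuasiCompact (𝟙 S))⟩
    refine ⟨ψ.app T₀ x₀ hT₀ hx₀, fun T x hT hx => ?_, fun f hf => ?_⟩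
    · haveI := hT.1
      haveI : IsLocallyNoetherian T.left := LocallyOfFiniteType.isLocallyNoetherian T.hom
      haveI : JacobsonSpace ↥T.left := LocallyOfFiniteType.jacobsonSpace T.hom
      refine Over.OverMorphism.ext (Groth.Agent.ModFun0.hom_ext_of_thickenings _ _ fun U hU m _ n => ?_)
      let A := Γ(T.left, U) ⧸ m ^ (n + 1)
      let j : Spec (CommRingCat.of A) ⟶ T.left :=
        Spec.map (CommRingCat.ofHom (Ideal.Quotient.mk (m ^ (n + 1)))) ≫ hU.fromSpec
      let T' : Over S := Over.mk (j ≫ T.hom)
      haveI hjft : LocallyOfFiniteType j := by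
        haveI : IsClosedImmersion (Spec.map (CommRingCat.ofHom (Ideal.Quotient.mk (m ^ (n + 1))))) :=
          IsClosedImmersion.spec_of_surjective _ Ideal.Quotient.mk_surjective
        infer_instance
      haveI hft : LocallyOfFiniteType (j ≫ T.hom) := inferInstance
      have hT' : LocallyOfFiniteType T'.hom ∧ QuasiCompact T'.hom :=
        ⟨hft, inferInstanceAs (QuasiCompact (j ≫ T.hom))⟩
      let g : T' ⟶ T := Over.homMk j rfl
      let x' := (ModFun.Mg S 0).pull g x
      have hx' : (ModFun.Mg S 0).ok T' x' := hok g x hx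
      let g₀ : T' ⟶ T₀ := toM T'
      let y' := (ModFun.Mg S 0).pull g₀ x₀
      have hy' : (ModFun.Mg S 0).ok T' y' := hok g₀ x₀ hx₀
      -- the ring
      let m' : Ideal A := m.map (Ideal.Quotient.mk (m ^ (n + 1)))
      have huniq : ∀ p : Ideal A, p.IsPrime → p = m' := by
        intro p hp
        have h1 : m ≤ p.comap (Ideal.Quotient.mk (m ^ (n + 1))) :=
          (Ideal.comap_isPrime (Ideal.Quotient.mk (m ^ (n + 1))) p).le_of_pow_le (n := n + 1) (by
            intro z hz
            change Ideal.Quotient.mk (m ^ (n + 1)) z ∈ p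
            rw [Ideal.Quotient.eq_zero_iff_mem.2 hz]
            exact p.zero_mem)
        have h2 := (inferInstance : m.IsMaximal).eq_of_le (Ideal.comap_isPrime _ p).ne_top h1
        change p = m.map (Ideal.Quotient.mk (m ^ (n + 1)))
        refine (Ideal.map_comap_of_surjective (Ideal.Quotient.mk (m ^ (n + 1))) Ideal.Quotient.mk_surjective p).symm.trans ?_
        exact congrArg (Ideal.map (Ideal.Quotient.mk (m ^ (n + 1)))) h2.symm
      haveI : Nontrivial A := Ideal.Quotient.nontrivial_iff.2 fun htop =>
        (inferInstance : m.IsMaximal).ne_top (top_le_iff.1 (htop ▸ Ideal.pow_le_self n.succ_ne_zero))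
      haveI : IsLocalRing A := IsLocalRing.of_unique_max_ideal (by
        obtain ⟨q, hq⟩ := Ideal.exists_maximal A
        exact ⟨q, hq, fun q' hq' => (huniq q' hq'.isPrime).trans (huniq q hq.isPrime).symm⟩)
      haveI : IsNoetherianRing Γ(T.left, U) := IsLocallyNoetherian.component_noetherian ⟨U, hU⟩
      haveI : IsArtinianRing A := isArtinianRing_iff_krullDimLE_zero.2 (Ring.krullDimLE_zero_iff.2 fun p hp => by
        obtain ⟨q, hq, hpq⟩ := Ideal.exists_le_maximal p hp.ne_top
        rwa [(huniq p hp).trans (huniq q hq.isPrime).symm])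
      -- the structure map
      let φ : CommRingCat.of k ⟶ CommRingCat.of A := Spec.preimage (j ≫ T.hom)
      have hφ : Spec.map φ = j ≫ T.hom := Spec.map_preimage _
      letI : Algebra k A := φ.hom.toAlgebra
      haveI : Algebra.FiniteType k A := by
        have := (HasRingHomProperty.Spec_iff (P := @LocallyOfFiniteType)).1 (hφ.symm ▸ hft : LocallyOfFiniteType (Spec.map φ))
        exact this
      let κ := IsLocalRing.ResidueField A
      haveI : Algebra.FiniteType k κ :=
        Algebra.FiniteType.of_surjective (IsScalarTower.toAlgHom k A κ) IsLocalRing.residue_surjective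
      haveI : Module.Finite k κ := finite_of_finite_type_of_isJacobsonRing k κ
      haveI : IsAlgClosed κ := IsAlgClosed.of_ringEquiv k κ
        (RingEquiv.ofBijective (algebraMap k κ) (IsAlgClosed.algebraMap_bijective_of_isIntegral (k := k) (K := κ)))
      have hiso : ∀ z : (ModFun.Mg S 0).Fam T', (ModFun.Mg S 0).ok T' z →
          ∃ e : z.left ≅ CohB1.ProjSpace 1 A, e.hom ≫ CohB1.ProjSpace.toSpec 1 A = z.hom := by
        intro z hz
        obtain ⟨z1, z2, z3, z4⟩ := hz.2
        haveI : Smooth (z.hom : z.left ⟶ Spec (CommRingCat.of A)) := z1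
        haveI : IsProper (z.hom : z.left ⟶ Spec (CommRingCat.of A)) := z2
        have H := IsPullback.of_hasPullback (z.hom : z.left ⟶ Spec (CommRingCat.of A))
          (Spec.map (CommRingCat.ofHom (IsLocalRing.residue A)))
        obtain ⟨hd, hg0⟩ := z4 κ (Spec.map (CommRingCat.ofHom (IsLocalRing.residue A))) _ _ _ H
        have hi := (Groth.Agent.ModFun0.facts_over_field κ
          (Groth.Agent.ModFun0.isCurveOfGenus_of_isPullback H hz.2)).1
        exact Groth.Agent.S11473.result A (z.hom : z.left ⟶ Spec (CommRingCat.of A)) hi hd hg0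
      obtain ⟨e₁, he₁⟩ := hiso x' hx'
      obtain ⟨e₂, he₂⟩ := hiso y' hy'
      have hr : (ModFun.Mg S 0).r T' x' y' := ⟨Over.isoMk (e₁ ≪≫ e₂.symm) (by
        rw [Iso.trans_hom, Iso.symm_hom, Category.assoc, ← he₂, e₂.inv_hom_id_assoc, he₁])⟩
      have h1 : g ≫ ψ.app T x hT hx = g₀ ≫ ψ.app T₀ x₀ hT₀ hx₀ := by
        rw [← ψ.natural g x hT hT' hx hx', ← ψ.natural g₀ x₀ hT₀ hT' hx₀ hy']
        exact ψ.resp x' y' hT' hx' hy' hr
      have h2 : g₀ = g ≫ toM T := (hterm _).symm
      rw [h2, Category.assoc] at h1
      exact congrArg CommaMorphism.left h1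
    · have h1 := hf T₀ x₀ hT₀ hx₀
      have h2 : toM T₀ = 𝟙 T₀ := (hterm _).symm
      rw [h1]
      change f = toM T₀ ≫ f
      rw [h2, Category.id_comp]
  · intro Ω _ _ t _
    refine ⟨fun g => ⟨Over.mk (CohB1.ProjSpace.toSpec 1 Ω), ⟨trivial, Groth.Agent.ModFun0.isCurveOfGenus_p1 Ω⟩,
      (hterm g).symm⟩, fun x y hx hy _ => ?_⟩
    obtain ⟨-, -, e₁, he₁⟩ := Groth.Agent.ModFun0.facts_over_field Ω (p := x.hom) hx.2
    obtain ⟨-, -, e₂, he₂⟩ := Groth.Agent.ModFun0.facts_over_field Ω (p := y.hom) hy.2
    exact ⟨Over.isoMk (e₁ ≪≫ e₂.symm) (by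
      rw [Iso.trans_hom, Iso.symm_hom, Category.assoc, ← he₂, e₂.inv_hom_id_assoc, he₁])⟩

end Groth.Agent.S16218
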