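import Groth.Statements.S1622
import Groth.Agent.S11308
import Groth.Agent.S2348
import Groth.Agent.S2821
import Groth.Agent.S0564
import Groth.Agent.Adic.IdealSpec

set_option linter.style.haveILetI false
set_option backward.isDefEq.respectTransparency false
set_option backward.isDefEq.respectTransparency.types false

set_option autoImplicit false
universe u
open CategoryTheory CategoryTheory.Limits AlgebraicGeometry
open Resolve

namespace Groth.Agent.S1622

/-- The local rings of the spectrum of a regular local ring are regular. -/
theorem regular_stalk (A : Type u) [CommRing A] [IsRegularLocalRing A] (y : Spec (CommRingCat.of A)) :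
    IsRegularLocalRing ((Spec (CommRingCat.of A)).presheaf.stalk y) := by
  haveI hp : y.asIdeal.IsPrime := y.isPrime
  letI := StructureSheaf.stalkAlgebra A y
  haveI := StructureSheaf.IsLocalization.to_stalk A y
  let e : Localization.AtPrime y.asIdeal ≃+* (Spec (CommRingCat.of A)).presheaf.stalk y :=
    (IsLocalization.algEquiv (R := A) y.asIdeal.primeCompl (Localization.AtPrime y.asIdeal)
      ((Spec.structureSheaf A).presheaf.stalk y)).toRingEquiv
  haveI := Groth.Agent.S0564.result A y.asIdeal
  exact IsRegularLocalRing.of_ringEquiv e

/-- Let A be a regular local ring of dimension two and b : X → Spec A a blowing up of Spec A in the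
maximal ideal (characterised by its universal property). Then X is irreducible and all of its local
rings are regular. -/
theorem result (A : Type u) [CommRing A] [IsRegularLocalRing A] (hA : ringKrullDim A = 2)
    (X : Scheme.{u}) (b : X ⟶ Spec (CommRingCat.of A)) (hb : BlowUp.IsBlowUp b (Curv2.idealSheaf A (IsLocalRing.maximalIdeal A))) :
    IrreducibleSpace X ∧ ∀ x : X, IsRegularLocalRing (X.presheaf.stalk x) := by
  haveI : IsDomain A := (Groth.Agent.S2821.result A).1
  let m := IsLocalRing.maximalIdeal A
  let k := A ⧸ m
  let i : Spec (CommRingCat.of k) ⟶ Spec (CommRingCat.of A) := Spec.map (CommRingCat.ofHom (Ideal.Quotient.mk m))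
  haveI : IsClosedImmersion i := IsClosedImmersion.spec_of_surjective _ Ideal.Quotient.mk_surjective
  have hI : i.ker = Curv2.idealSheaf A m := by
    refine Scheme.IdealSheafData.ext_of_isAffine ?_
    rw [Adic.IdealSpec.ker_Spec_map_eq, Ideal.mk_ker]
    show _ = (Scheme.IdealSheafData.ofIdealTop _).ideal ⟨⊤, _⟩
    rw [Scheme.IdealSheafData.ofIdealTop_ideal]
    simp only [homOfLE_refl, op_id, CategoryTheory.Functor.map_id, CommRingCat.hom_id, Ideal.map_id]
    exact (Ideal.map_symm (Adic.IdealSpec.gEquiv A)).symm
  refine ⟨?_, ?_⟩
  · have hne : Curv2.idealSheaf A m ≠ ⊥ := by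
      intro h0
      have hm0 : m = ⊥ := by
        have h1 : (i.ker).ideal ⟨⊤, isAffineOpen_top _⟩ = ⊥ := by rw [hI, h0]; rfl
        rw [Adic.IdealSpec.ker_Spec_map_eq, Ideal.mk_ker] at h1
        have h2 := congrArg (Ideal.map (Adic.IdealSpec.gEquiv A).toRingHom) h1
        exact (Adic.IdealSpec.map_gEquiv A m).symm.trans (h2.trans Ideal.map_bot)
      have hf : IsField A := IsLocalRing.isField_iff_maximalIdeal_eq.mpr hm0
      rw [ringKrullDim_eq_zero_of_isField hf] at hA
      exact absurd hA (by norm_num)
    haveI := (Groth.Agent.S2348.result _ hne b hb).1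
    infer_instance
  · letI := Ideal.Quotient.field m
    exact Groth.Agent.S11308.regular_of_isBlowUp (regular_stalk A) i (regular_stalk k) b (hI ▸ hb)

end Groth.Agent.S1622
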