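import Groth.Statements.S16223
import Groth.Agent.WittDesc88.Basic
import Groth.Agent.WittDesc88.Prestack

set_option autoImplicit false
open CategoryTheory Opposite
universe u
open CAlg

namespace Groth.Agent.S16223

/-- Let p be a prime, n a natural number, and R → R' a faithfully flat homomorphism of commutative rings
in which p is nilpotent; write W_n for truncated Witt vectors of length n. A descent datum of
W_n(R')-modules relative to R → R' is a W_n(R')-module M' with, for every ring T and every pair of
maps R' ⇉ T agreeing on R, an isomorphism between the two base changes of M' to W_n(T), natural in T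
and satisfying the cocycle condition (equivalently an isomorphism over W_n(R' ⊗_R R') with the
cocycle condition over W_n(R' ⊗_R R' ⊗_R R')); base change W_n(R') ⊗_{W_n(R)} M of a W_n(R)-module M
carries the canonical such datum. Then for finitely generated projective W_n(R)-modules M and N, the
map sending a W_n(R)-linear map M → N to the induced morphism of canonical descent data is bijective
(the functor to descent data is fully faithful on such modules). -/
theorem result (p : ℕ) [Fact p.Prime] (n : ℕ)
    (R R' : Type u) [CommRing R] [CommRing R'] [Algebra R R'] [Module.FaithfullyFlat R R']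
    (hp : IsNilpotent (p : R))
    (M N : ModuleCat.{u} (TruncatedWittVector p n R))
    [Module.Finite (TruncatedWittVector p n R) M] [Module.Projective (TruncatedWittVector p n R) M]
    [Module.Finite (TruncatedWittVector p n R) N] [Module.Projective (TruncatedWittVector p n R) N] :
    Function.Bijective (fun φ : M ⟶ N =>
      ((W4c3truncdispsmooth.wittModPF.{u} p n).toDescentData (fun _ : PUnit.{u + 1} => (CommRingCat.ofHom (algebraMap R R')).op)).map φ) := by
  have hinj : Function.Injective (algebraMap R R') := FaithfulSMul.algebraMap_injective R R'
  refine Groth.Agent.WittDesc88.toDescentData_map_bijective_of_eq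
    ((unopUnop CommRingCat.{u}) ⋙ W4c3truncdispsmooth.wittTrunc p n)
    (W4c3truncdispsmooth.wittModPF.{u} p n) rfl
    ((CommRingCat.ofHom (algebraMap R R')).op)
    ((CommRingCat.ofHom (Algebra.TensorProduct.includeLeftRingHom : R' →+* TensorProduct R R' R')).op)
    ((CommRingCat.ofHom ((Algebra.TensorProduct.includeRight : R' →ₐ[R] TensorProduct R R' R') : R' →+* TensorProduct R R' R')).op)
    (Quiver.Hom.unop_inj (CommRingCat.hom_ext (RingHom.ext fun r =>
      (Algebra.TensorProduct.includeRight : R' →ₐ[R] TensorProduct R R' R').commutes r)))
    (show Function.Injective (WittGrp.truncMap p n (algebraMap R R')) from fun a b hab =>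
      TruncatedWittVector.ext fun t => hinj (by
        have := congrArg (fun y => TruncatedWittVector.coeff t y) hab
        simpa using this))
    (show ∀ b : TruncatedWittVector p n R',
        WittGrp.truncMap p n (Algebra.TensorProduct.includeLeftRingHom : R' →+* TensorProduct R R' R') b =
          WittGrp.truncMap p n ((Algebra.TensorProduct.includeRight : R' →ₐ[R] TensorProduct R R' R') : R' →+* TensorProduct R R' R') b →
        b ∈ Set.range (WittGrp.truncMap p n (algebraMap R R')) from fun b hb => ?_)
    M N (fun N' h => by
      cases eq_of_heq h
      exact inferInstanceAs (Module.Flat (TruncatedWittVector p n R) _))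
  have h' : ∀ t, TruncatedWittVector.coeff t b ∈ Set.range (algebraMap R R') := fun t => by
    refine (Groth.Agent.WittDesc88.mem_range_iff_of_faithfullyFlat (R := R) _).1 ?_
    have := congrArg (fun z => TruncatedWittVector.coeff t z) hb
    simp at this
    exact this
  choose r hr using h'
  refine ⟨TruncatedWittVector.mk p r, TruncatedWittVector.ext fun t => ?_⟩
  simp [hr]

end Groth.Agent.S16223
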