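import Groth.Statements.S16224
import Groth.Agent.WittDesc88.Matrices
import Groth.Agent.WittDesc88.Effective

set_option autoImplicit false
open CategoryTheory Opposite
universe u
open CAlg

namespace Groth.Agent.S16224

theorem witt_matrices (p : ℕ) [Fact p.Prime] (n : ℕ)
    (R R' : Type u) [CommRing R] [CommRing R'] [Algebra R R'] [Module.FaithfullyFlat R R']
    (hp : IsNilpotent (p : R)) (k : ℕ)
    (d : Groth.Agent.WittDesc88.MatrixDatum ((unopUnop CommRingCat.{u}) ⋙ W4c3truncdispsmooth.wittTrunc p n)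
      ((CommRingCat.ofHom (algebraMap R R')).op) k) :
    ∃ (l : ℕ) (Q : Matrix (Fin l) (Fin l)
        (((unopUnop CommRingCat.{u}) ⋙ W4c3truncdispsmooth.wittTrunc p n).obj (op (op (CommRingCat.of R)))))
      (U : Matrix (Fin k) (Fin l)
        (((unopUnop CommRingCat.{u}) ⋙ W4c3truncdispsmooth.wittTrunc p n).obj (op (op (CommRingCat.of R')))))
      (V : Matrix (Fin l) (Fin k)
        (((unopUnop CommRingCat.{u}) ⋙ W4c3truncdispsmooth.wittTrunc p n).obj (op (op (CommRingCat.of R'))))),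
      Q * Q = Q ∧ U * V = d.e ∧
        V * U = Q.map (((unopUnop CommRingCat.{u}) ⋙ W4c3truncdispsmooth.wittTrunc p n).map
          (CommRingCat.ofHom (algebraMap R R')).op.op).hom ∧
        ∀ {Y : CommRingCat.{u}ᵒᵖ} (q : Y ⟶ op (CommRingCat.of R)) (f₁ f₂ : Y ⟶ op (CommRingCat.of R'))
          (hf₁ : f₁ ≫ (CommRingCat.ofHom (algebraMap R R')).op = q)
          (hf₂ : f₂ ≫ (CommRingCat.ofHom (algebraMap R R')).op = q),
          d.t q f₁ f₂ hf₁ hf₂ * U.map (((unopUnop CommRingCat.{u}) ⋙ W4c3truncdispsmooth.wittTrunc p n).map f₁.op).hom =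
            U.map (((unopUnop CommRingCat.{u}) ⋙ W4c3truncdispsmooth.wittTrunc p n).map f₂.op).hom := by
  open Groth.Agent.WittDesc88 in
  let f : op (CommRingCat.of R') ⟶ op (CommRingCat.of R) := (CommRingCat.ofHom (algebraMap R R')).op
  let Y₂ : CommRingCat.{u}ᵒᵖ := op (CommRingCat.of (TensorProduct R R' R'))
  let Y₃ : CommRingCat.{u}ᵒᵖ := op (CommRingCat.of (TensorProduct R R' (TensorProduct R R' R')))
  let i₁ : Y₂ ⟶ op (CommRingCat.of R') := (CommRingCat.ofHom (RingHomClass.toRingHom (Groth.Agent.WittDesc88.inc₁ R R'))).op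
  let i₂ : Y₂ ⟶ op (CommRingCat.of R') := (CommRingCat.ofHom (RingHomClass.toRingHom (Groth.Agent.WittDesc88.inc₂ R R'))).op
  let dg : op (CommRingCat.of R') ⟶ Y₂ := (CommRingCat.ofHom (RingHomClass.toRingHom (Groth.Agent.WittDesc88.diag R R'))).op
  let a : Y₃ ⟶ Y₂ := (CommRingCat.ofHom (RingHomClass.toRingHom (Groth.Agent.WittDesc88.pr₁₂ R R'))).op
  let b : Y₃ ⟶ Y₂ := (CommRingCat.ofHom (RingHomClass.toRingHom (Groth.Agent.WittDesc88.pr₁₃ R R'))).op
  let c : Y₃ ⟶ Y₂ := (CommRingCat.ofHom (RingHomClass.toRingHom (Groth.Agent.WittDesc88.pr₂₃ R R'))).op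
  have hi : i₂ ≫ f = i₁ ≫ f := Quiver.Hom.unop_inj (CommRingCat.hom_ext (RingHom.ext fun x =>
    (Groth.Agent.WittDesc88.inc₂ R R').commutes x |>.trans ((Groth.Agent.WittDesc88.inc₁ R R').commutes x).symm))
  have hd₁ : dg ≫ i₁ = 𝟙 _ := Quiver.Hom.unop_inj (CommRingCat.hom_ext (RingHom.ext fun x =>
    Groth.Agent.WittDesc88.diag_inc₁ x))
  have hd₂ : dg ≫ i₂ = 𝟙 _ := Quiver.Hom.unop_inj (CommRingCat.hom_ext (RingHom.ext fun x =>
    Groth.Agent.WittDesc88.diag_inc₂ x))
  have hab : a ≫ i₁ = b ≫ i₁ := Quiver.Hom.unop_inj (CommRingCat.hom_ext (RingHom.ext fun x => by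
    show Groth.Agent.WittDesc88.pr₁₂ R R' (Groth.Agent.WittDesc88.inc₁ R R' x) =
      Groth.Agent.WittDesc88.pr₁₃ R R' (Groth.Agent.WittDesc88.inc₁ R R' x)
    simp [Algebra.TensorProduct.one_def]))
  have hac : a ≫ i₂ = c ≫ i₁ := Quiver.Hom.unop_inj (CommRingCat.hom_ext (RingHom.ext fun x => by
    show Groth.Agent.WittDesc88.pr₁₂ R R' (Groth.Agent.WittDesc88.inc₂ R R' x) =
      Groth.Agent.WittDesc88.pr₂₃ R R' (Groth.Agent.WittDesc88.inc₁ R R' x)
    simp))
  have hbc : b ≫ i₂ = c ≫ i₂ := Quiver.Hom.unop_inj (CommRingCat.hom_ext (RingHom.ext fun x => by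
    show Groth.Agent.WittDesc88.pr₁₃ R R' (Groth.Agent.WittDesc88.inc₂ R R' x) =
      Groth.Agent.WittDesc88.pr₂₃ R R' (Groth.Agent.WittDesc88.inc₂ R R' x)
    simp))
  have h₂₁ : (a ≫ i₂) ≫ f = (a ≫ i₁) ≫ f := by rw [Category.assoc, hi, ← Category.assoc]
  have h₂₂ : (b ≫ i₂) ≫ f = (a ≫ i₁) ≫ f := by rw [Category.assoc, hi, ← Category.assoc, hab]
  have hcoc : Groth.Agent.WittDesc88.IsWCocycle p R R' n d.e (d.t (i₁ ≫ f) i₁ i₂ rfl hi) :=
    { diag_eq := by
        have h := d.pull (i₁ ≫ f) i₁ i₂ rfl hi dg f (by rw [← Category.assoc, hd₁, Category.id_comp])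
          (𝟙 _) (𝟙 _) hd₁ hd₂ (Category.id_comp f) (Category.id_comp f)
        rw [d.self] at h
        refine h.symm.trans ?_
        rw [op_id, CategoryTheory.Functor.map_id]
        exact Matrix.map_id _
      cocycle := by
        have ha := d.pull (i₁ ≫ f) i₁ i₂ rfl hi a ((a ≫ i₁) ≫ f) (Category.assoc _ _ _).symm
          (a ≫ i₁) (a ≫ i₂) rfl rfl rfl h₂₁
        have hb := d.pull (i₁ ≫ f) i₁ i₂ rfl hi b ((a ≫ i₁) ≫ f) (by rw [hab, Category.assoc])
          (a ≫ i₁) (b ≫ i₂) hab.symm rfl rfl h₂₂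
        have hc := d.pull (i₁ ≫ f) i₁ i₂ rfl hi c ((a ≫ i₁) ≫ f) (by rw [← h₂₁, hac, Category.assoc])
          (a ≫ i₂) (b ≫ i₂) hac.symm hbc.symm h₂₁ h₂₂
        have h := d.comp ((a ≫ i₁) ≫ f) (a ≫ i₁) (a ≫ i₂) (b ≫ i₂) rfl h₂₁ h₂₂
        rw [ha, hb, hc] at h
        exact h
      left := by
        have h := d.comp (i₁ ≫ f) i₁ i₂ i₂ rfl hi hi
        rw [d.self] at h
        exact h
      right := by
        have h := d.comp (i₁ ≫ f) i₁ i₁ i₂ rfl rfl hi
        rw [d.self] at h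
        exact h }
  obtain ⟨l, Q, U, V, hQ, hUV, hVU, hU⟩ := Groth.Agent.WittDesc88.exists_matrices hp n hcoc
  refine ⟨l, Q, U, V, hQ, hUV, hVU, fun {Y} q f₁ f₂ hf₁ hf₂ => ?_⟩
  letI : Algebra R Y.unop := q.unop.hom.toAlgebra
  let g₁ : R' →ₐ[R] Y.unop := ⟨f₁.unop.hom, fun r => RingHom.congr_fun (congrArg (fun z : Y ⟶ op (CommRingCat.of R) => CommRingCat.Hom.hom (Quiver.Hom.unop z)) hf₁) r⟩
  let g₂ : R' →ₐ[R] Y.unop := ⟨f₂.unop.hom, fun r => RingHom.congr_fun (congrArg (fun z : Y ⟶ op (CommRingCat.of R) => CommRingCat.Hom.hom (Quiver.Hom.unop z)) hf₂) r⟩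
  let g : Y ⟶ Y₂ := (CommRingCat.ofHom
    (RingHomClass.toRingHom (Algebra.TensorProduct.lift g₁ g₂ fun _ _ => Commute.all _ _))).op
  have hg₁ : g ≫ i₁ = f₁ := Quiver.Hom.unop_inj (CommRingCat.hom_ext (RingHom.ext fun x => by
    show Algebra.TensorProduct.lift g₁ g₂ (fun _ _ => Commute.all _ _) (Groth.Agent.WittDesc88.inc₁ R R' x) = g₁ x
    simp))
  have hg₂ : g ≫ i₂ = f₂ := Quiver.Hom.unop_inj (CommRingCat.hom_ext (RingHom.ext fun x => by
    show Algebra.TensorProduct.lift g₁ g₂ (fun _ _ => Commute.all _ _) (Groth.Agent.WittDesc88.inc₂ R R' x) = g₂ x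
    simp))
  have h := d.pull (i₁ ≫ f) i₁ i₂ rfl hi g q (by rw [← Category.assoc, hg₁, hf₁]) f₁ f₂ hg₁ hg₂ hf₁ hf₂
  let G := (unopUnop CommRingCat.{u}) ⋙ W4c3truncdispsmooth.wittTrunc p n
  have m : ∀ (i : Y₂ ⟶ op (CommRingCat.of R')) (fi : Y ⟶ op (CommRingCat.of R')), g ≫ i = fi →
      U.map (G.map fi.op).hom = (U.map (G.map i.op).hom).map (G.map g.op).hom := fun i fi hfi => by
    rw [← hfi, op_comp, G.map_comp]
    exact Matrix.ext fun _ _ => rfl
  show d.t q f₁ f₂ hf₁ hf₂ * U.map (G.map f₁.op).hom = U.map (G.map f₂.op).hom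
  rw [h, m i₁ f₁ hg₁, m i₂ f₂ hg₂, ← Matrix.map_mul]
  exact congrArg (fun M : Matrix _ _ _ => M.map (G.map g.op).hom) hU

/-- Let p be a prime, n a natural number, and R → R' a faithfully flat homomorphism of commutative rings
in which p is nilpotent; write W_n for truncated Witt vectors of length n. A descent datum of
W_n(R')-modules relative to R → R' is a W_n(R')-module M' with, for every ring T and every pair of
maps R' ⇉ T agreeing on R, an isomorphism between the two base changes of M' to W_n(T), natural in T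
and satisfying the cocycle condition (equivalently an isomorphism over W_n(R' ⊗_R R') with the
cocycle condition over W_n(R' ⊗_R R' ⊗_R R')); base change W_n(R') ⊗_{W_n(R)} M of a W_n(R)-module M
carries the canonical such datum. Then every descent datum whose underlying W_n(R')-module is
finitely generated and projective is isomorphic to the canonical datum of W_n(R') ⊗ M for some
finitely generated projective W_n(R)-module M. (Here W_n(R) → W_n(R') is in general not flat, so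
this is not a case of faithfully flat descent.) -/
theorem result (p : ℕ) [Fact p.Prime] (n : ℕ)
    (R R' : Type u) [CommRing R] [CommRing R'] [Algebra R R'] [Module.FaithfullyFlat R R']
    (hp : IsNilpotent (p : R))
    (D : (W4c3truncdispsmooth.wittModPF.{u} p n).DescentData (fun _ : PUnit.{u + 1} => (CommRingCat.ofHom (algebraMap R R')).op))
    [Module.Finite (TruncatedWittVector p n R') (W4c3truncdispsmooth.descObj D)]
    [Module.Projective (TruncatedWittVector p n R') (W4c3truncdispsmooth.descObj D)] :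
    ∃ M : ModuleCat.{u} (TruncatedWittVector p n R),
      Module.Finite (TruncatedWittVector p n R) M ∧ Module.Projective (TruncatedWittVector p n R) M ∧
        Nonempty (((W4c3truncdispsmooth.wittModPF.{u} p n).toDescentData (fun _ : PUnit.{u + 1} => (CommRingCat.ofHom (algebraMap R R')).op)).obj M ≅ D) := by
  obtain ⟨M, hM, hiso⟩ := Groth.Agent.WittDesc88.exists_descends
    ((unopUnop CommRingCat.{u}) ⋙ W4c3truncdispsmooth.wittTrunc p n)
    (W4c3truncdispsmooth.wittModPF.{u} p n) rfl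
    ((CommRingCat.ofHom (algebraMap R R')).op) D
    (fun N hN => by
      cases eq_of_heq hN
      exact ⟨inferInstanceAs (Module.Finite (TruncatedWittVector p n R') (W4c3truncdispsmooth.descObj D)),
        inferInstanceAs (Module.Projective (TruncatedWittVector p n R') (W4c3truncdispsmooth.descObj D))⟩)
    (witt_matrices p n R R' hp)
  exact ⟨M, (hM M HEq.rfl).1, (hM M HEq.rfl).2, hiso⟩

end Groth.Agent.S16224
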