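import Groth.Statements.S16225
import Groth.Agent.WittDesc88.Basic

set_option autoImplicit false
open scoped TensorProduct
universe u v
open CAlg

namespace Groth.Agent.S16225

/-- Let p be a prime, n a natural number and R → R' a faithfully flat homomorphism of commutative rings
in which p is nilpotent. Regard W_n(R') and W_n(R' ⊗_R R') as W_n(R)-algebras through the
componentwise maps induced by R → R' and R → R' ⊗_R R', and let ψ₁, ψ₂ : W_n(R') → W_n(R' ⊗_R R') be
the componentwise maps induced by the two inclusions of R' (these are W_n(R)-algebra maps). Then for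
every flat W_n(R)-module M the sequence 0 → M → M ⊗_{W_n(R)} W_n(R') ⇉ M ⊗_{W_n(R)} W_n(R' ⊗_R R')
is exact: m ↦ m ⊗ 1 is injective and its image is the equalizer of id ⊗ ψ₁ and id ⊗ ψ₂. (This is the
beginning, in degrees 0 and 1, of a complex continued by the higher tensor powers of R', which the
published proof asserts to be exact throughout; W_n(R) → W_n(R') is not flat in general, so this is
not faithfully flat descent.) -/
theorem result (p : ℕ) [Fact p.Prime] (n : ℕ)
    (R R' : Type u) [CommRing R] [CommRing R'] [Algebra R R'] [Module.FaithfullyFlat R R']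
    (hp : IsNilpotent (p : R))
    [Algebra (TruncatedWittVector p n R) (TruncatedWittVector p n R')]
    (h₁ : algebraMap (TruncatedWittVector p n R) (TruncatedWittVector p n R') = WittGrp.truncMap p n (algebraMap R R'))
    [Algebra (TruncatedWittVector p n R) (TruncatedWittVector p n (TensorProduct R R' R'))]
    (h₂ : algebraMap (TruncatedWittVector p n R) (TruncatedWittVector p n (TensorProduct R R' R')) =
      WittGrp.truncMap p n (algebraMap R (TensorProduct R R' R')))
    (ψ₁ ψ₂ : TruncatedWittVector p n R' →ₐ[TruncatedWittVector p n R] TruncatedWittVector p n (TensorProduct R R' R'))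
    (hψ₁ : (ψ₁ : TruncatedWittVector p n R' →+* TruncatedWittVector p n (TensorProduct R R' R')) =
      WittGrp.truncMap p n (Algebra.TensorProduct.includeLeftRingHom : R' →+* TensorProduct R R' R'))
    (hψ₂ : (ψ₂ : TruncatedWittVector p n R' →+* TruncatedWittVector p n (TensorProduct R R' R')) =
      WittGrp.truncMap p n ((Algebra.TensorProduct.includeRight : R' →ₐ[R] TensorProduct R R' R') : R' →+* TensorProduct R R' R'))
    (M : Type v) [AddCommGroup M] [Module (TruncatedWittVector p n R) M] [Module.Flat (TruncatedWittVector p n R) M] :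
    Function.Injective (fun m : M => m ⊗ₜ[TruncatedWittVector p n R] (1 : TruncatedWittVector p n R')) ∧
      ∀ x : M ⊗[TruncatedWittVector p n R] TruncatedWittVector p n R',
        LinearMap.lTensor M ψ₁.toLinearMap x = LinearMap.lTensor M ψ₂.toLinearMap x →
          x ∈ Set.range (fun m : M => m ⊗ₜ[TruncatedWittVector p n R] (1 : TruncatedWittVector p n R')) := by
  have hinj : Function.Injective (algebraMap R R') := FaithfulSMul.algebraMap_injective R R'
  let i := Algebra.linearMap (TruncatedWittVector p n R) (TruncatedWittVector p n R')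
  have hi : Function.Injective i := fun a b hab => TruncatedWittVector.ext fun t => hinj (by
    have := congrArg (fun y => TruncatedWittVector.coeff t y) hab
    simpa [i, h₁] using this)
  have hc₁ : ∀ (y : TruncatedWittVector p n R') (t : Fin n), (ψ₁ y).coeff t = y.coeff t ⊗ₜ[R] (1 : R') := fun y t => by
    rw [show ψ₁ y = WittGrp.truncMap p n _ y from RingHom.congr_fun hψ₁ y, WittGrp.coeff_truncMap]
    rfl
  have hc₂ : ∀ (y : TruncatedWittVector p n R') (t : Fin n), (ψ₂ y).coeff t = (1 : R') ⊗ₜ[R] y.coeff t := fun y t => by
    rw [show ψ₂ y = WittGrp.truncMap p n _ y from RingHom.congr_fun hψ₂ y, WittGrp.coeff_truncMap]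
    rfl
  have he : ∀ y, ψ₁.toLinearMap y = ψ₂.toLinearMap y ↔ y ∈ Set.range i := by
    intro y
    constructor
    · intro h
      have h' : ∀ t, y.coeff t ∈ Set.range (algebraMap R R') := fun t =>
        (Groth.Agent.WittDesc88.mem_range_iff_of_faithfullyFlat _).1 (by
          rw [← hc₁, ← hc₂]; exact congrArg (fun z => TruncatedWittVector.coeff t z) h)
      choose r hr using h'
      refine ⟨TruncatedWittVector.mk p r, TruncatedWittVector.ext fun t => ?_⟩
      simp [i, h₁, hr]
    · rintro ⟨r, rfl⟩
      show ψ₁ (algebraMap _ _ r) = ψ₂ (algebraMap _ _ r)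
      rw [AlgHom.commutes, AlgHom.commutes]
  have h := Groth.Agent.WittDesc88.lTensor_equalizer M i ψ₁.toLinearMap ψ₂.toLinearMap hi he
  have h1 : i 1 = 1 := map_one (algebraMap (TruncatedWittVector p n R) (TruncatedWittVector p n R'))
  rw [h1] at h
  exact ⟨h.1, fun x hx => (h.2 x).1 hx⟩

end Groth.Agent.S16225
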