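import Groth.Statements.S1623
import Groth.Agent.BlowPerf.Global
import Groth.Agent.BlowUpProper.Basic
import Groth.Agent.S0010

set_option linter.style.haveILetI false
set_option backward.isDefEq.respectTransparency false
set_option backward.isDefEq.respectTransparency.types false
open Groth.Agent.BlowUp

set_option autoImplicit false
universe u
open CategoryTheory CategoryTheory.Limits AlgebraicGeometry
open Resolve

namespace Groth.Agent.S1623

/-- Let A be a regular local ring of dimension two and b : X → Spec A a blowing up in the maximal ideal.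
For every quasi-coherent O_X-module F and every p ≥ 2, H^p(X, F) = 0. -/
theorem result (A : Type u) [CommRing A] [IsRegularLocalRing A] (hA : ringKrullDim A = 2)
    (X : Scheme.{u}) (b : X ⟶ Spec (CommRingCat.of A)) (hb : BlowUp.IsBlowUp b (Curv2.idealSheaf A (IsLocalRing.maximalIdeal A)))
    (F : X.Modules) (hF : Coh.IsQCoh F) (p : ℕ) (hp : 2 ≤ p) : Subsingleton (Coh.HH X F p) := by
  classical
  haveI := hF
  let m := IsLocalRing.maximalIdeal A
  have hb' : _root_.BlowUp.IsBlowUp b (Existence.centre m) := hb
  obtain ⟨s, hcard, hs⟩ := Submodule.FG.exists_span_set_encard_eq_spanFinrank (Ideal.fg_of_isNoetherianRing m)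
  have hfin : s.Finite := Set.finite_of_encard_eq_coe hcard
  have htwo : m.spanFinrank = 2 := by
    have h := IsRegularLocalRing.spanFinrank_maximalIdeal (R := A)
    rw [hA] at h
    exact_mod_cast h
  let l := hfin.toFinset.toList
  have hl : m = Ideal.ofList l := by
    rw [← hs, Ideal.ofList]
    congr 1
    ext x
    simp [l]
  have hlen : l.length = 2 := by
    rw [Finset.length_toList, ← Nat.cast_inj (R := ℕ∞), ← Set.Finite.encard_eq_coe_toFinset_card, hcard, htwo]
  obtain ⟨e, he⟩ := BlowUp.Basic.exists_iso hb' (Existence.isBlowUp_proj m)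
  haveI : IsProper b := BlowUpProper.Basic.isProper hb fun U =>
    haveI := IsLocallyNoetherian.component_noetherian U; Ideal.fg_of_isNoetherianRing _
  have hmem : ∀ i : Fin l.length, l.get i ∈ m := fun i => hl ▸ Ideal.subset_span (List.get_mem _ _)
  let U : Fin l.length → X.Opens := fun i => e.inv ⁻¹ᵁ (ProjRees.chart m (hmem i)).opensRange
  refine Groth.Agent.S0010.result X l.length U (fun i => ?_) ?_ (fun V W hV hW => ?_) F p (by omega)
  · exact (isAffineOpen_opensRange _).preimage e.inv
  · refine top_unique fun x _ => ?_
    obtain ⟨a, hal, ha, hx⟩ := BlowPerf.Global.exists_chart l hl (e.inv x)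
    obtain ⟨i, rfl⟩ := List.get_of_mem hal
    exact TopologicalSpace.Opens.mem_iSup.2 ⟨i, hx⟩
  · haveI : X.IsSeparated := ⟨by rw [← Subsingleton.elim (b ≫ terminal.from _) (terminal.from X)]; infer_instance⟩
    exact hV.inf hW

end Groth.Agent.S1623
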