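import Groth.Statements.S16230
import Groth.Agent.QuadMorse.Normal
-- import your own Groth.Agent.* helpers here

set_option autoImplicit false
universe u
open VanCyc

namespace Groth.Agent.S16230

/-- Let A be a local ring, n and m natural numbers with 2 ≤ m, q an n × n coefficient table over A whose
quadratic form Q(x) = Σ_{i≤j} q_ij x_i x_j is non-degenerate (the polar bilinear form has unit Gram
determinant, i.e. is a perfect pairing — the reading of non-degeneracy over the local ring A used
here), a an element of A, and F a formal power series in x_1, …, x_n over A all of whose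
coefficients in total degree at most m agree with those of Q + a. Then there are power series h_1,
…, h_n with no terms of total degree less than m such that substituting x_i + h_i for x_i in F gives
exactly Q + a; consequently A[[x]]/(F) and A[[x]]/(Q + a) are isomorphic as A-algebras. -/
theorem result
    (A : Type u) [CommRing A] [IsLocalRing A] (n m : ℕ) (hm : 2 ≤ m)
    (q : Fin n → Fin n → A) (hq : VanCyc.QuadNondeg q) (a : A)
    (F : MvPowerSeries (Fin n) A)
    (hF : ∀ e : Fin n →₀ ℕ, e.degree ≤ m →
      MvPowerSeries.coeff e F = MvPowerSeries.coeff e ((VanCyc.quadPoly q + MvPolynomial.C a : MvPolynomial (Fin n) A) : MvPowerSeries (Fin n) A)) :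
    ∃ h : Fin n → MvPowerSeries (Fin n) A,
      (∀ (i : Fin n) (e : Fin n →₀ ℕ), e.degree < m → MvPowerSeries.coeff e (h i) = 0) ∧
      MvPowerSeries.HasSubst (fun i => MvPowerSeries.X i + h i) ∧
      MvPowerSeries.subst (fun i => MvPowerSeries.X i + h i) F = ((VanCyc.quadPoly q + MvPolynomial.C a : MvPolynomial (Fin n) A) : MvPowerSeries (Fin n) A) ∧
      Nonempty ((MvPowerSeries (Fin n) A ⧸ Ideal.span {F}) ≃ₐ[A]
        (MvPowerSeries (Fin n) A ⧸ Ideal.span {((VanCyc.quadPoly q + MvPolynomial.C a : MvPolynomial (Fin n) A) : MvPowerSeries (Fin n) A)})) := by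
  classical
  rw [QuadMorse.coe_eq] at hF ⊢
  let G := QuadMorse.quadT q (MvPowerSeries.X : Fin n → MvPowerSeries (Fin n) A) +
    algebraMap A (MvPowerSeries (Fin n) A) a
  have hR : QuadMorse.OrdGE (m + 1) (F - G) := fun e he => by
    rw [map_sub, sub_eq_zero]
    exact hF e (by omega)
  obtain ⟨h, hh, heq⟩ := QuadMorse.exists_shift hq hm a hR
  rw [add_sub_cancel] at heq
  have hh1 : ∀ i, h i ∈ (QuadMorse.ordFilt A n).I 1 := fun i =>
    (QuadMorse.ordFilt A n).anti (show 1 ≤ m by omega) (hh i)
  exact ⟨h, fun i e he => hh i e he, QuadMorse.hasSubst_shift hh1,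
    (QuadMorse.shiftHom_apply hh1 F).symm.trans heq,
    QuadMorse.nonempty_quotientEquiv (fun i => (QuadMorse.ordFilt A n).anti hm (hh i)) heq⟩

end Groth.Agent.S16230
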