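import Groth.Statements.S16231
import Groth.Agent.QuadMorse.Translate
-- import your own Groth.Agent.* helpers here

set_option autoImplicit false
universe u
open VanCyc

namespace Groth.Agent.S16231

/-- Let A be a local ring with maximal ideal m that is separated and complete for the m-adic topology (A
is not assumed Noetherian), n a natural number, q an n × n coefficient table over A whose quadratic
form Q(x) = Σ_{i≤j} q_ij x_i x_j is non-degenerate (unit Gram determinant of the polar bilinear
form), a and ℓ_1, …, ℓ_n elements of m, and F a formal power series in x_1, …, x_n over A whose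
coefficients in total degree at most 2 agree with those of a + Σ ℓ_i x_i + Q(x). Then there are an
element a' of m and a non-degenerate coefficient table q' such that A[[x]]/(F) and A[[x]]/(Q'(x) +
a') are isomorphic as A-algebras, Q' the quadratic form of q'. -/
theorem result
    (A : Type u) [CommRing A] [IsLocalRing A]
    [IsAdicComplete (IsLocalRing.maximalIdeal A) A] (n : ℕ)
    (q : Fin n → Fin n → A) (hq : VanCyc.QuadNondeg q)
    (a : A) (ha : a ∈ IsLocalRing.maximalIdeal A)
    (ℓ : Fin n → A) (hℓ : ∀ i, ℓ i ∈ IsLocalRing.maximalIdeal A)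
    (F : MvPowerSeries (Fin n) A)
    (hF : ∀ e : Fin n →₀ ℕ, e.degree ≤ 2 →
      MvPowerSeries.coeff e F = MvPowerSeries.coeff e ((VanCyc.quadPoly q + ∑ i, MvPolynomial.C (ℓ i) * MvPolynomial.X i + MvPolynomial.C a : MvPolynomial (Fin n) A) : MvPowerSeries (Fin n) A)) :
    ∃ (a' : A) (q' : Fin n → Fin n → A), a' ∈ IsLocalRing.maximalIdeal A ∧ VanCyc.QuadNondeg q' ∧
      Nonempty ((MvPowerSeries (Fin n) A ⧸ Ideal.span {F}) ≃ₐ[A]
        (MvPowerSeries (Fin n) A ⧸ Ideal.span {((VanCyc.quadPoly q' + MvPolynomial.C a' : MvPolynomial (Fin n) A) : MvPowerSeries (Fin n) A)})) := by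
  classical
  let : WithIdeal A := ⟨IsLocalRing.maximalIdeal A⟩
  obtain ⟨hC, hT⟩ := (IsAdic.isAdicComplete_iff (R := A) (I := IsLocalRing.maximalIdeal A) rfl).1 inferInstance
  have : IsAdicComplete (WithIdeal.i (R := A)) A := ‹IsAdicComplete (IsLocalRing.maximalIdeal A) A›
  let G := QuadMorse.quadT q (MvPowerSeries.X : Fin n → MvPowerSeries (Fin n) A) +
    ∑ i, algebraMap A (MvPowerSeries (Fin n) A) (ℓ i) * MvPowerSeries.X i +
    algebraMap A (MvPowerSeries (Fin n) A) a
  have hG : ((VanCyc.quadPoly q + ∑ i, MvPolynomial.C (ℓ i) * MvPolynomial.X i + MvPolynomial.C a :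
      MvPolynomial (Fin n) A) : MvPowerSeries (Fin n) A) = G := by
    rw [add_right_comm, MvPolynomial.coe_add, QuadMorse.coe_eq, ← MvPolynomial.coeToMvPowerSeries.ringHom_apply,
      map_sum]
    simp only [MvPolynomial.coeToMvPowerSeries.ringHom_apply, MvPolynomial.coe_mul, MvPolynomial.coe_C,
      MvPolynomial.coe_X, MvPowerSeries.c_eq_algebraMap, G]
    abel
  rw [hG] at hF
  have hR : QuadMorse.OrdGE 3 (F - G) := fun e he => by
    rw [map_sub, sub_eq_zero]
    exact hF e (by omega)
  obtain ⟨a', q', ha', hq', ⟨e⟩⟩ := QuadMorse.exists_quotientEquiv (q := q) rfl hq ha hℓ hR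
  refine ⟨a', q', ha', hq', ?_⟩
  rw [QuadMorse.coe_eq]
  rw [show QuadMorse.quadT q (MvPowerSeries.X : Fin n → MvPowerSeries (Fin n) A) +
    ∑ i, algebraMap A (MvPowerSeries (Fin n) A) (ℓ i) * MvPowerSeries.X i +
    algebraMap A (MvPowerSeries (Fin n) A) a + (F - G) = F from add_sub_cancel G F] at e
  exact ⟨e⟩

end Groth.Agent.S16231
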