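import Groth.Statements.S16232
import Groth.Agent.Hensel.CplTensor
import Mathlib.FieldTheory.Galois.Profinite
import Mathlib.FieldTheory.PurelyInseparable.Basic
import Mathlib.FieldTheory.Normal.Basic
import Mathlib.RingTheory.DedekindDomain.IntegralClosure
import Mathlib.RingTheory.DiscreteValuationRing.Basic
import Mathlib.RingTheory.Filtration
import Mathlib.RingTheory.IntegralDomain
import Mathlib.GroupTheory.Perm.Cycle.Type

set_option autoImplicit false
set_option linter.style.haveILetI false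
universe u v
open VanCyc

namespace Groth.Agent.S16232

open IsLocalRing

/-- An automorphism moving everything into the maximal ideal, the maximal ideal into its square and of
order invertible in the residue field, is trivial. -/
theorem eq_self_of_tame {B : Type u} [CommRing B] [IsDomain B] [IsLocalRing B] [IsNoetherianRing B]
    (g : B →+* B) (h0 : ∀ x, g x - x ∈ maximalIdeal B)
    (h1 : ∀ x ∈ maximalIdeal B, g x - x ∈ maximalIdeal B ^ 2) {l : ℕ} (hl : IsUnit (l : B))
    (hg : ∀ x, (⇑g)^[l] x = x) (x : B) : g x = x := by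
  have hfil : ∀ m : ℕ, ∀ y ∈ maximalIdeal B ^ m, g y - y ∈ maximalIdeal B ^ (m + 1) := by
    intro m
    induction m with
    | zero => intro y _; simpa using h0 y
    | succ m ih =>
      intro y hy
      rw [pow_succ] at hy
      refine Submodule.mul_induction_on hy (fun a ha b hb => ?_) fun a b ha hb => ?_
      · rw [map_mul, show g a * g b - a * b = g a * (g b - b) + (g a - a) * b by ring]
        refine add_mem ?_ ?_
        · have hga : g a ∈ maximalIdeal B ^ m := by
            rw [← sub_add_cancel (g a) a]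
            exact add_mem (Ideal.pow_le_pow_right (Nat.le_succ m) (ih a ha)) ha
          rw [show m + 1 + 1 = m + 2 from rfl, pow_add]
          exact Ideal.mul_mem_mul hga (h1 b hb)
        · rw [pow_succ]
          exact Ideal.mul_mem_mul (ih a ha) hb
      · rw [map_add, add_sub_add_comm]
        exact add_mem ha hb
  have hd : ∀ n : ℕ, ∀ y, g y - y ∈ maximalIdeal B ^ (n + 1) := by
    intro n
    induction n with
    | zero => intro y; simpa using h0 y
    | succ n ih =>
      intro y
      have hj : ∀ j : ℕ, (⇑g)^[j] y - y - (j : B) * (g y - y) ∈ maximalIdeal B ^ (n + 1 + 1) := by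
        intro j
        induction j with
        | zero => simp
        | succ j hj =>
          have hmem : (⇑g)^[j] y - y ∈ maximalIdeal B ^ (n + 1) := by
            rw [show (⇑g)^[j] y - y = ((⇑g)^[j] y - y - (j : B) * (g y - y)) + (j : B) * (g y - y) by ring]
            exact add_mem (Ideal.pow_le_pow_right (Nat.le_succ _) hj) (Ideal.mul_mem_left _ _ (ih y))
          have h2 := hfil _ _ hmem
          rw [map_sub] at h2
          rw [Function.iterate_succ_apply', show g ((⇑g)^[j] y) - y - ((j + 1 : ℕ) : B) * (g y - y)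
            = (g ((⇑g)^[j] y) - g y - ((⇑g)^[j] y - y)) + ((⇑g)^[j] y - y - (j : B) * (g y - y)) by
              push_cast; ring]
          exact add_mem h2 hj
      have h3 := hj l
      rw [hg, sub_self, zero_sub, Ideal.neg_mem_iff] at h3
      obtain ⟨c, hc⟩ := hl.exists_left_inv
      have h4 := Ideal.mul_mem_left _ c h3
      rwa [← mul_assoc, hc, one_mul] at h4
  have hmem : g x - x ∈ ⨅ i : ℕ, maximalIdeal B ^ i :=
    (Submodule.mem_iInf _).2 fun i => Ideal.pow_le_pow_right (Nat.le_succ i) (hd i x)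
  rw [Ideal.iInf_pow_eq_bot_of_isLocalRing _ (maximalIdeal.isMaximal B).ne_top] at hmem
  exact sub_eq_zero.1 hmem

/-- A root of unity of order invertible in the residue field and congruent to one is one. -/
theorem eq_one_of_residue {B : Type u} [CommRing B] [IsDomain B] [IsLocalRing B] {r : ℕ}
    (hr : IsUnit (r : B)) {z : B} (hz : z ^ r = 1) (h : residue B z = 1) : z = 1 := by
  by_contra hne
  have h1 : (∑ i ∈ Finset.range r, z ^ i) * (z - 1) = 0 := by rw [geom_sum_mul, hz, sub_self]
  have h2 := congrArg (residue B) ((mul_eq_zero.1 h1).resolve_right (sub_ne_zero.2 hne))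
  simp only [map_sum, map_pow, h, one_pow, Finset.sum_const, Finset.card_range, nsmul_one, map_zero] at h2
  exact (hr.map (residue B)).ne_zero (by rw [map_natCast]; exact h2)

section Layer

variable (R K : Type u) [CommRing R] [IsDomain R] [IsDiscreteValuationRing R] [HenselianLocalRing R]
  [IsSepClosed (ResidueField R)] [Field K] [Algebra R K] [IsFractionRing R K]
  (L : Type u) [Field L] [Algebra K L] [FiniteDimensional K L] [IsGalois K L]
  [Algebra R L] [IsScalarTower R K L]

/-- The structure of a Galois group over a strictly henselian discretely valued field. -/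
theorem exists_tame_generator (r : ℕ) (hr0 : 0 < r) (hr : IsUnit (r : ResidueField R)) (ϖ : R)
    (hϖ : Irreducible ϖ) (ρ : L) (hρ : ρ ^ r = algebraMap R L ϖ) :
    (∀ (g : L ≃ₐ[K] L) (z : L), z ^ r = 1 → g z = z) ∧
    ∃ g₀ : L ≃ₐ[K] L, (∀ ζ : L, ζ ^ r = 1 → ∃ j : ℕ, (g₀ ^ j) ρ = ζ * ρ) ∧
      ∀ g : L ≃ₐ[K] L, g ρ = ρ → ∃ a b : L ≃ₐ[K] L, g = a ^ r * b ^ r := by
  classical
  let B := integralClosure R L
  have : Algebra.IsSeparable K L := inferInstance
  haveI : Module.Finite R B := IsIntegralClosure.finite R K L B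
  haveI : IsDedekindDomain B := integralClosure.isDedekindDomain R K L
  haveI : IsFractionRing B L := IsIntegralClosure.isFractionRing_of_finite_extension R K L B
  haveI : FaithfulSMul R B := (faithfulSMul_iff_algebraMap_injective R B).2 (Function.Injective.of_comp
    (f := B.val) (by
      show Function.Injective (algebraMap R L)
      rw [IsScalarTower.algebraMap_eq R K L]
      exact (algebraMap K L).injective.comp (IsFractionRing.injective R K)))
  haveI : IsLocalRing B := Hensel.isLocalRing_of_isIntegral_domain R B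
  haveI : IsLocalHom (algebraMap R B) := Algebra.IsIntegral.isLocalHom R B
  haveI : IsNoetherianRing B := inferInstance
  haveI : IsPrincipalIdealRing B := inferInstance
  have hrR : IsUnit (r : R) := isUnit_of_map_unit (residue R) _ (by rwa [map_natCast])
  have hrB : IsUnit (r : B) := by rw [← map_natCast (algebraMap R B)]; exact hrR.map _
  -- the action on `B`
  let act : (L ≃ₐ[K] L) → B →+* B := fun g =>
    ((g : L →+* L).comp B.val.toRingHom).codRestrict B.toSubring fun b =>
      show IsIntegral R ((g.restrictScalars R) (b : L)) from b.2.map (g.restrictScalars R).toAlgHom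
  have act_coe : ∀ g b, ((act g b : B) : L) = g (b : L) := fun _ _ => rfl
  have act_mul : ∀ g h b, act (g * h) b = act g (act h b) := fun _ _ _ => Subtype.ext rfl
  have act_one : ∀ b, act 1 b = b := fun _ => Subtype.ext rfl
  have act_R : ∀ g (x : R), act g (algebraMap R B x) = algebraMap R B x := fun g x =>
    Subtype.ext (show g (algebraMap R L x) = algebraMap R L x by
      rw [IsScalarTower.algebraMap_apply R K L, AlgEquiv.commutes])
  -- residue triviality
  have hres : ∀ g b, residue B (act g b) = residue B b := by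
    intro g b
    haveI : Algebra.IsIntegral R (ResidueField B) := ⟨fun x => by
      obtain ⟨b, rfl⟩ := residue_surjective x
      exact (Algebra.IsIntegral.isIntegral (R := R) b).map (IsScalarTower.toAlgHom R B (ResidueField B))⟩
    haveI : Algebra.IsIntegral (ResidueField R) (ResidueField B) := Algebra.IsIntegral.tower_top R
    haveI : IsPurelyInseparable (ResidueField R) (ResidueField B) :=
      inferInstance
    obtain ⟨n, c, hc⟩ := IsPurelyInseparable.pow_mem (ResidueField R) (ringExpChar (ResidueField R)) (residue B b)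
    obtain ⟨c, rfl⟩ := residue_surjective c
    haveI : ExpChar (ResidueField B) (ringExpChar (ResidueField R)) :=
      expChar_of_injective_ringHom (algebraMap (ResidueField R) (ResidueField B)).injective _
    rw [ResidueField.algebraMap_residue] at hc
    refine iterateFrobenius_inj (ResidueField B) (ringExpChar (ResidueField R)) n ?_
    simp only [iterateFrobenius_def]
    rw [← hc, ← map_pow, ← map_pow, eq_comm, ← sub_eq_zero, ← map_sub, residue_eq_zero_iff]
    have h1 : algebraMap R B c - b ^ ringExpChar (ResidueField R) ^ n ∈ maximalIdeal B := by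
      rw [← residue_eq_zero_iff, map_sub, map_pow, hc, sub_self]
    have h2 : act g (algebraMap R B c - b ^ ringExpChar (ResidueField R) ^ n) ∈ maximalIdeal B := by
      intro hu
      have h3 := hu.map (act g⁻¹)
      rw [← act_mul, inv_mul_cancel, act_one] at h3
      exact h1 h3
    rw [map_sub, act_R] at h2
    exact h2
  have hmem : ∀ g b, act g b - b ∈ maximalIdeal B := fun g b => by
    rw [← residue_eq_zero_iff, map_sub, hres, sub_self]
  -- roots of unity are fixed
  have hμ : ∀ (g : L ≃ₐ[K] L) (z : L), z ^ r = 1 → g z = z := by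
    intro g z hz
    have hzint : IsIntegral R z := IsIntegral.of_pow hr0 (by rw [hz]; exact isIntegral_one)
    let zB : B := ⟨z, hzint⟩
    have hzB : zB ^ r = 1 := Subtype.ext (by simp [zB, hz])
    obtain ⟨w, hw⟩ := isUnit_iff_exists_inv.1 (IsUnit.of_pow_eq_one hzB hr0.ne')
    have h1 : act g zB * w = 1 := by
      refine eq_one_of_residue hrB ?_ ?_
      · have hwr : w ^ r = 1 := by
          have := congrArg (· ^ r) hw
          simpa [mul_pow, hzB] using this
        rw [mul_pow, ← map_pow, hzB, map_one, hwr, one_mul]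
      · rw [map_mul, hres, ← map_mul, hw, map_one]
    have h2 : act g zB = zB := by
      calc act g zB = act g zB * (zB * w) := by rw [hw, mul_one]
        _ = zB * (act g zB * w) := by ring
        _ = zB := by rw [h1, mul_one]
    exact congrArg Subtype.val h2
  refine ⟨hμ, ?_⟩
  -- the uniformiser upstairs
  have hρint : IsIntegral R ρ := IsIntegral.of_pow hr0 (by rw [hρ]; exact isIntegral_algebraMap)
  let ρB : B := ⟨ρ, hρint⟩
  have hρB : ρB ^ r = algebraMap R B ϖ := Subtype.ext (by simp [ρB, hρ])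
  have hϖB : ¬ IsUnit (algebraMap R B ϖ) := fun h => hϖ.not_isUnit (isUnit_of_map_unit (algebraMap R B) _ h)
  have hρB0 : ρB ≠ 0 := fun h => hϖ.ne_zero ((map_eq_zero_iff _ (FaithfulSMul.algebraMap_injective R B)).1
    (by rw [← hρB, h, zero_pow hr0.ne']))
  have hρ0 : ρ ≠ 0 := fun h => hρB0 (Subtype.ext h)
  obtain ⟨t, ht⟩ := (IsPrincipalIdealRing.principal (maximalIdeal B)).principal
  have htm : ∀ x, x ∈ maximalIdeal B ↔ ∃ b, b * t = x := fun x => by
    rw [ht]; exact Ideal.mem_span_singleton'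
  have ht0 : t ≠ 0 := fun h => by
    obtain ⟨b, hb⟩ := (htm (algebraMap R B ϖ)).1 hϖB
    rw [h, mul_zero] at hb
    exact hϖ.ne_zero ((map_eq_zero_iff _ (FaithfulSMul.algebraMap_injective R B)).1 hb.symm)
  have htP : t ∈ maximalIdeal B := (htm t).2 ⟨1, one_mul t⟩
  have ha : ∀ g, ∃ a, a * t = act g t := fun g => (htm _).1 (by
    rw [← sub_add_cancel (act g t) t]; exact add_mem (hmem g t) htP)
  choose a ha using ha
  have ha_mul : ∀ g h, a (g * h) = act g (a h) * a g := fun g h => mul_right_cancel₀ ht0 (by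
    rw [ha, act_mul, ← ha h, map_mul, mul_assoc, ha g])
  have ha_one : a 1 = 1 := mul_right_cancel₀ ht0 (by rw [ha, act_one, one_mul])
  let cM : (L ≃ₐ[K] L) →* ResidueField B :=
    { toFun := fun g => residue B (a g)
      map_one' := by rw [ha_one, map_one]
      map_mul' := fun g h => by rw [ha_mul, map_mul, hres, mul_comm] }
  let cU := cM.toHomUnits
  haveI : Finite (L ≃ₐ[K] L) := inferInstance
  haveI : Finite cU.range := Finite.of_surjective cU.rangeRestrict cU.rangeRestrict_surjective
  haveI : IsCyclic cU.range := isCyclic_subgroup_units _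
  obtain ⟨⟨_, g₀, rfl⟩, hgen⟩ := IsCyclic.exists_generator (α := cU.range)
  -- the kernel
  have hker : ∀ g, cU g = 1 → g ρ = ρ ∧ ∀ l : ℕ, l ≠ 0 → IsUnit (l : B) → g ^ l = 1 → g = 1 := by
    intro g hg
    have hcg : residue B (a g) = 1 := congrArg Units.val hg
    have h1 : ∀ x ∈ maximalIdeal B, act g x - x ∈ maximalIdeal B ^ 2 := by
      intro x hx
      obtain ⟨b, rfl⟩ := (htm x).1 hx
      rw [map_mul, ← ha g, show act g b * (a g * t) - b * t = (act g b * (a g - 1) + (act g b - b)) * t by ring,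
        pow_two]
      refine Ideal.mul_mem_mul (add_mem (Ideal.mul_mem_left _ _ ?_) (hmem g b)) htP
      rw [← residue_eq_zero_iff, map_sub, hcg, map_one, sub_self]
    refine ⟨?_, fun l hl0 hl hgl => ?_⟩
    · obtain ⟨n, v, hn⟩ : ∃ (n : ℕ) (v : Bˣ), ρB = v * t ^ n := by
        obtain ⟨n, b, hb, hρb⟩ : ∃ n b, ¬ t ∣ b ∧ ρB = t ^ n * b :=
          WfDvdMonoid.max_power_factor hρB0 (((Ideal.span_singleton_prime ht0).1 (by
            rw [← Ideal.submodule_span_eq, ← ht]
            exact (maximalIdeal.isMaximal B).isPrime)).irreducible)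
        have hbu : IsUnit b := by
          by_contra hbu
          obtain ⟨c, hc⟩ := (htm b).1 hbu
          exact hb ⟨c, by rw [← hc, mul_comm]⟩
        exact ⟨n, hbu.unit, by rw [hρb, IsUnit.unit_spec, mul_comm]⟩
      have hq : act g ρB = (act g v * ((v⁻¹ : Bˣ) : B) * a g ^ n) * ρB := by
        rw [hn, map_mul, map_pow, ← ha g, mul_pow,
          show act g v * ((v⁻¹ : Bˣ) : B) * a g ^ n * ((v : B) * t ^ n)
            = act g v * (a g ^ n * t ^ n) * (((v⁻¹ : Bˣ) : B) * (v : B)) by ring, Units.inv_mul, mul_one]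
      have hone : act g v * ((v⁻¹ : Bˣ) : B) * a g ^ n = 1 := by
        refine eq_one_of_residue hrB ?_ ?_
        · refine mul_right_cancel₀ (pow_ne_zero r hρB0) ?_
          rw [← mul_pow, ← hq, one_mul, ← map_pow, hρB, act_R]
        · rw [map_mul, map_mul, hres, map_pow, hcg, one_pow, mul_one, ← map_mul, Units.mul_inv, map_one]
      rw [hone, one_mul] at hq
      exact congrArg Subtype.val hq
    · have hit : ∀ j : ℕ, ∀ b, (⇑(act g))^[j] b = act (g ^ j) b := fun j => by
        induction j with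
        | zero => intro b; rw [pow_zero, act_one]; rfl
        | succ j ih => intro b; rw [Function.iterate_succ_apply', ih, pow_succ', act_mul]
      have htriv := eq_self_of_tame (act g) (hmem g) h1 hl fun b => by rw [hit, hgl, act_one]
      refine AlgEquiv.ext fun x => ?_
      obtain ⟨b, c, -, rfl⟩ := IsFractionRing.div_surjective B x
      rw [map_div₀, show algebraMap B L b = (b : L) from rfl, show algebraMap B L c = (c : L) from rfl,
        ← act_coe, ← act_coe, htriv, htriv]
      rfl
  have hcop : (Nat.card cU.ker).Coprime r := by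
    refine Nat.coprime_of_dvd fun l hl hdvd hlr => ?_
    haveI := Fact.mk hl
    obtain ⟨⟨n, hn⟩, hord⟩ := exists_prime_orderOf_dvd_card' l hdvd
    have hnl : n ^ l = 1 := by
      have := pow_orderOf_eq_one (⟨n, hn⟩ : cU.ker)
      rw [hord] at this
      exact congrArg Subtype.val this
    obtain ⟨d, rfl⟩ := hlr
    rw [Nat.cast_mul] at hrB
    have h1 := (hker n hn).2 l hl.ne_zero (isUnit_of_mul_isUnit_left hrB) hnl
    exact hl.ne_one (by rw [← hord, orderOf_eq_one_iff]; exact Subtype.ext h1)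
  have hdec : ∀ g, ∃ (j : ℕ) (n : cU.ker), g = g₀ ^ j * n := by
    intro g
    obtain ⟨j, hj⟩ := mem_powers_iff_mem_zpowers.2 (hgen ⟨cU g, g, rfl⟩)
    have hj' : cU g₀ ^ j = cU g := congrArg Subtype.val hj
    exact ⟨j, ⟨(g₀ ^ j)⁻¹ * g, by rw [MonoidHom.mem_ker, map_mul, map_inv, map_pow, hj', inv_mul_cancel]⟩,
      by rw [mul_inv_cancel_left]⟩
  let ε := g₀ ρ / ρ
  have hεr : ε ^ r = 1 := by
    rw [div_pow, ← map_pow, hρ, IsScalarTower.algebraMap_apply R K L, AlgEquiv.commutes, div_self]
    rw [← IsScalarTower.algebraMap_apply, ← hρ]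
    exact pow_ne_zero _ hρ0
  have hpow : ∀ j : ℕ, (g₀ ^ j) ρ = ε ^ j * ρ := by
    intro j
    induction j with
    | zero => simp
    | succ j ih =>
      rw [pow_succ', AlgEquiv.mul_apply, ih, map_mul, map_pow, hμ g₀ ε hεr,
        show g₀ ρ = ε * ρ from (div_mul_cancel₀ _ hρ0).symm, pow_succ, mul_assoc]
  have hnρ : ∀ n : cU.ker, (n : L ≃ₐ[K] L) ρ = ρ := fun n => (hker n n.2).1
  have hprim : IsPrimitiveRoot ε r := by
    refine (IsPrimitiveRoot.iff hr0).2 ⟨hεr, fun d hd0 hdr hεd => ?_⟩
    have hfix : ∀ g : L ≃ₐ[K] L, g (ρ ^ d) = ρ ^ d := fun g => by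
      obtain ⟨j, n, rfl⟩ := hdec g
      rw [AlgEquiv.mul_apply, map_pow n.1, hnρ, map_pow, hpow, mul_pow, ← pow_mul, mul_comm j d, pow_mul, hεd, one_pow,
        one_mul]
    obtain ⟨x, hx⟩ := (IsGalois.mem_range_algebraMap_iff_fixed (F := K) (ρ ^ d)).2 hfix
    have hxr : x ^ r = algebraMap R K (ϖ ^ d) := (algebraMap K L).injective (by
      rw [map_pow, hx, ← IsScalarTower.algebraMap_apply, map_pow, ← hρ, ← pow_mul, ← pow_mul, mul_comm])
    obtain ⟨y, rfl⟩ := IsIntegrallyClosed.exists_algebraMap_eq_of_isIntegral_pow hr0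
      (show IsIntegral R (x ^ r) by rw [hxr]; exact isIntegral_algebraMap)
    rw [← map_pow] at hxr
    have hy := IsFractionRing.injective R K hxr
    have hy0 : y ≠ 0 := fun h => pow_ne_zero d hϖ.ne_zero (by rw [← hy, h, zero_pow hr0.ne'])
    obtain ⟨e, v, rfl⟩ := IsDiscreteValuationRing.eq_unit_mul_pow_irreducible hy0 hϖ
    rw [mul_pow, ← pow_mul, ← Units.val_pow_eq_pow_val] at hy
    have hdiv : r ∣ d := by
      have := IsDiscreteValuationRing.unit_mul_pow_congr_pow hϖ hϖ (v ^ r) 1 (e * r) d (by simpa using hy)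
      exact ⟨e, by rw [← this, mul_comm]⟩
    exact absurd (Nat.le_of_dvd hd0 hdiv) (not_le.2 hdr)
  refine ⟨g₀, fun ζ hζ => ?_, fun g hg => ?_⟩
  · haveI : NeZero r := ⟨hr0.ne'⟩
    obtain ⟨j, -, hj⟩ := hprim.eq_pow_of_pow_eq_one hζ
    exact ⟨j, by rw [hpow, hj]⟩
  · obtain ⟨j, n, rfl⟩ := hdec g
    rw [AlgEquiv.mul_apply, hnρ, hpow] at hg
    obtain ⟨i, rfl⟩ := hprim.dvd_of_pow_eq_one j (mul_right_cancel₀ hρ0 (by rw [hg, one_mul]))
    refine ⟨g₀ ^ i, ((powCoprime hcop).symm n : cU.ker), ?_⟩
    rw [← pow_mul, mul_comm i r, ← Subgroup.coe_pow]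
    congr 2
    exact ((powCoprime hcop).apply_symm_apply n).symm

end Layer


set_option maxHeartbeats 1000000 in
/-- Let R be a strictly Henselian discrete valuation ring (Henselian, with separably closed residue
field), K its fraction field, Ω a separable closure of K and G the group of K-algebra automorphisms
of Ω; let r ≥ 1 be an integer invertible in the residue field of R, ϖ a uniformizer of R and ρ an
r-th root of ϖ in Ω, so that the fundamental character χ : G → μ_r(Ω) is σ ↦ σ(ρ)/ρ. Then every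
homomorphism φ of the abstract group G into an abelian group M with rM = 0 factors uniquely through
χ: there is exactly one homomorphism u : μ_r(Ω) → M with φ(σ) = u(χ(σ)) for every σ in G.
(Homomorphisms are written as maps respecting the group laws; χ(σ) is the root of unity ζ with ζρ =
σ(ρ).) -/
theorem result
    (R : Type u) [CommRing R] [IsDomain R] [IsDiscreteValuationRing R] [HenselianLocalRing R]
    [IsSepClosed (IsLocalRing.ResidueField R)]
    (K : Type u) [Field K] [Algebra R K] [IsFractionRing R K]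
    (Ω : Type u) [Field Ω] [Algebra K Ω] [IsSepClosure K Ω]
    (r : ℕ) [NeZero r] (hr : IsUnit (r : IsLocalRing.ResidueField R))
    (ϖ : R) (hϖ : Irreducible ϖ) (ρ : Ω) (hρ : ρ ^ r = algebraMap K Ω (algebraMap R K ϖ))
    (M : Type v) [AddCommGroup M] (hM : ∀ x : M, r • x = 0)
    (φ : (Ω ≃ₐ[K] Ω) → M) (hφ : ∀ σ τ : Ω ≃ₐ[K] Ω, φ (σ * τ) = φ σ + φ τ) :
    ∃! u : ↥(rootsOfUnity r Ω) → M, (∀ ζ ξ : ↥(rootsOfUnity r Ω), u (ζ * ξ) = u ζ + u ξ) ∧
      ∀ (σ : Ω ≃ₐ[K] Ω) (ζ : ↥(rootsOfUnity r Ω)), ((ζ : Ωˣ) : Ω) * ρ = σ ρ → φ σ = u ζ := by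
  classical
  letI : Algebra R Ω := ((algebraMap K Ω).comp (algebraMap R K)).toAlgebra
  haveI : IsScalarTower R K Ω := IsScalarTower.of_algebraMap_eq fun _ => rfl
  haveI : IsGalois K Ω := { to_isSeparable := IsSepClosure.separable, to_normal := inferInstance }
  have hr0 : 0 < r := Nat.pos_of_ne_zero (NeZero.ne r)
  have hρ0 : ρ ≠ 0 := fun h => hϖ.ne_zero (IsFractionRing.injective R K ((algebraMap K Ω).injective (by
    rw [map_zero, map_zero, ← hρ, h, zero_pow hr0.ne'])))
  -- finite layers containing `ρ` and a given root of unity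
  have hlayer : ∀ L : IntermediateField K Ω, FiniteDimensional K L → IsGalois K L → ∀ hL : ρ ∈ L,
      ((∀ (g : L ≃ₐ[K] L) (z : L), z ^ r = 1 → g z = z) ∧
      ∃ g₀ : L ≃ₐ[K] L, (∀ ζ : L, ζ ^ r = 1 → ∃ j : ℕ, (g₀ ^ j) ⟨ρ, hL⟩ = ζ * ⟨ρ, hL⟩) ∧
        ∀ g : L ≃ₐ[K] L, g ⟨ρ, hL⟩ = ⟨ρ, hL⟩ → ∃ a b : L ≃ₐ[K] L, g = a ^ r * b ^ r) := by
    intro L _ _ hL
    haveI : IsScalarTower R K L := IsScalarTower.of_algebraMap_eq fun x => Subtype.ext rfl
    exact exists_tame_generator R K L r hr0 hr ϖ hϖ ⟨ρ, hL⟩ (Subtype.ext hρ)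
  have hroot : ∀ ζ : Ω, ζ ^ r = 1 → (∀ σ : Ω ≃ₐ[K] Ω, σ ζ = ζ) ∧ ∃ σ : Ω ≃ₐ[K] Ω, σ ρ = ζ * ρ := by
    intro ζ hζ
    let L := FiniteGaloisIntermediateField.adjoin K ({ρ, ζ} : Set Ω)
    have hL : ({ρ, ζ} : Set Ω) ⊆ (L.toIntermediateField : Set Ω) :=
      FiniteGaloisIntermediateField.subset_adjoin K _
    have hρL : ρ ∈ L.toIntermediateField := hL (Set.mem_insert _ _)
    have hζL : ζ ∈ L.toIntermediateField := hL (Set.mem_insert_of_mem _ rfl)
    obtain ⟨hfix, g₀, hsurj, -⟩ := hlayer L.toIntermediateField inferInstance inferInstance hρL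
    refine ⟨fun σ => ?_, ?_⟩
    · have h := congrArg Subtype.val (hfix (σ.restrictNormal L.toIntermediateField) ⟨ζ, hζL⟩ (Subtype.ext hζ))
      exact (σ.restrictNormal_commutes L.toIntermediateField ⟨ζ, hζL⟩).symm.trans h
    · obtain ⟨j, hj⟩ := hsurj ⟨ζ, hζL⟩ (Subtype.ext hζ)
      exact ⟨(g₀ ^ j).liftNormal Ω,
        ((g₀ ^ j).liftNormal_commutes Ω ⟨ρ, hρL⟩).trans (congrArg Subtype.val hj)⟩
  -- the kernel of the fundamental character
  have hker : ∀ σ : Ω ≃ₐ[K] Ω, σ ρ = ρ → φ σ = 0 := by
    intro σ hσ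
    let C : FiniteGaloisIntermediateField K Ω → Set ((Ω ≃ₐ[K] Ω) × (Ω ≃ₐ[K] Ω)) := fun L =>
      (fun p => σ⁻¹ * (p.1 ^ r * p.2 ^ r)) ⁻¹' (L.toIntermediateField.fixingSubgroup : Set (Ω ≃ₐ[K] Ω))
    have hclosed : ∀ L, IsClosed (C L) := fun L =>
      (InfiniteGalois.fixingSubgroup_isClosed L.toIntermediateField).preimage (by fun_prop)
    have hmono : ∀ L L' : FiniteGaloisIntermediateField K Ω,
        L.toIntermediateField ≤ L'.toIntermediateField → C L' ⊆ C L := fun L L' h =>
      Set.preimage_mono (IntermediateField.fixingSubgroup_antitone h)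
    have hne : ∀ L, (C L).Nonempty := by
      intro L
      let L₀ := FiniteGaloisIntermediateField.adjoin K ({ρ} : Set Ω)
      let L' := L ⊔ L₀
      have hρL : ρ ∈ L'.toIntermediateField :=
        (show L₀.toIntermediateField ≤ L'.toIntermediateField from le_sup_right)
          (FiniteGaloisIntermediateField.subset_adjoin K _ rfl)
      obtain ⟨-, g₀, -, hdec⟩ := hlayer L'.toIntermediateField inferInstance inferInstance hρL
      obtain ⟨a, b, hab⟩ := hdec (σ.restrictNormal L'.toIntermediateField)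
        (Subtype.ext ((σ.restrictNormal_commutes L'.toIntermediateField ⟨ρ, hρL⟩).trans hσ))
      refine ⟨(a.liftNormal Ω, b.liftNormal Ω), hmono L L' le_sup_left ?_⟩
      rw [Set.mem_preimage, SetLike.mem_coe, ← IntermediateField.restrictNormalHom_ker L'.toIntermediateField,
        MonoidHom.mem_ker, map_mul, map_inv, map_mul, map_pow, map_pow, inv_mul_eq_one]
      rw [show AlgEquiv.restrictNormalHom L'.toIntermediateField (a.liftNormal Ω) = a from
          AlgEquiv.restrict_liftNormal Ω a,
        show AlgEquiv.restrictNormalHom L'.toIntermediateField (b.liftNormal Ω) = b from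
          AlgEquiv.restrict_liftNormal Ω b]
      exact hab
    haveI : Nonempty (FiniteGaloisIntermediateField K Ω) := ⟨FiniteGaloisIntermediateField.adjoin K ({ρ} : Set Ω)⟩
    obtain ⟨⟨a, b⟩, hab⟩ := IsCompact.nonempty_iInter_of_directed_nonempty_isCompact_isClosed C
      (fun L L' => ⟨L ⊔ L', hmono _ _ le_sup_left, hmono _ _ le_sup_right⟩) hne
      (fun L => (hclosed L).isCompact) hclosed
    have heq : σ = a ^ r * b ^ r := by
      refine AlgEquiv.ext fun x => ?_
      have h := Set.mem_iInter.1 hab (FiniteGaloisIntermediateField.adjoin K ({x} : Set Ω))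
      have hx := (IntermediateField.mem_fixingSubgroup_iff _ _).1 h x
        (FiniteGaloisIntermediateField.subset_adjoin K _ rfl)
      rw [AlgEquiv.mul_apply] at hx
      simpa using (congrArg σ hx).symm
    have hpow : ∀ (g : Ω ≃ₐ[K] Ω) (n : ℕ), φ (g ^ n) = n • φ g := by
      intro g n
      induction n with
      | zero =>
        have h := hφ 1 1
        rw [one_mul] at h
        rw [pow_zero, zero_smul]
        simpa using h
      | succ n ih => rw [pow_succ, hφ, ih, succ_nsmul]
    rw [heq, hφ, hpow, hpow, hM, hM, add_zero]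
  choose s hs using fun ζ : ↥(rootsOfUnity r Ω) => (hroot ((ζ : Ωˣ) : Ω) (by
    rw [← Units.val_pow_eq_pow_val, (mem_rootsOfUnity r _).1 ζ.2, Units.val_one])).2
  have hfix : ∀ (ζ : ↥(rootsOfUnity r Ω)) (σ : Ω ≃ₐ[K] Ω), σ ((ζ : Ωˣ) : Ω) = ((ζ : Ωˣ) : Ω) := fun ζ =>
    (hroot ((ζ : Ωˣ) : Ω) (by
      rw [← Units.val_pow_eq_pow_val, (mem_rootsOfUnity r _).1 ζ.2, Units.val_one])).1
  have hwd : ∀ σ τ : Ω ≃ₐ[K] Ω, σ ρ = τ ρ → φ σ = φ τ := fun σ τ h => by
    rw [show σ = τ * (τ⁻¹ * σ) from (mul_inv_cancel_left τ σ).symm, hφ, hker (τ⁻¹ * σ) (by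
      rw [AlgEquiv.mul_apply, h]; exact τ.symm_apply_apply ρ), add_zero]
  refine ⟨fun ζ => φ (s ζ), ⟨fun ζ ξ => ?_, fun σ ζ h => hwd σ _ (by rw [hs, h])⟩, fun u hu => ?_⟩
  · rw [← hφ]
    refine hwd _ _ ?_
    rw [hs, AlgEquiv.mul_apply, hs, map_mul, hfix ξ, hs]
    push_cast
    ring
  · funext ζ
    exact (hu.2 (s ζ) ζ (hs ζ).symm).symm

end Groth.Agent.S16232
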