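import Groth.Statements.S16235
import Groth.Agent.CAlg.MinPrime

set_option autoImplicit false
universe u
open CAlg

namespace Groth.Agent.S16235

/-- Let A be a Noetherian commutative ring and x_1, …, x_r a regular sequence on A (each x_i a
non-zero-divisor on A/(x_1, …, x_{i-1})) generating an ideal I ≠ A. Then the height of I, the
infimum of the heights of the minimal primes over I, equals r. -/
theorem result (A : Type u) [CommRing A] [IsNoetherianRing A]
    (r : ℕ) (x : Fin r → A) (hx : RingTheory.Sequence.IsWeaklyRegular A (List.ofFn x))
    (hI : Ideal.span (Set.range x) ≠ ⊤) :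
    (Ideal.span (Set.range x)).height = r := by
  classical
  refine le_antisymm ?_ ?_
  · refine (Ideal.height_le_spanFinrank _ hI).trans ?_
    have h1 : (Set.range x).ncard ≤ r := by
      rw [← Set.image_univ]
      exact (Set.ncard_image_le Set.finite_univ).trans (by simp)
    exact_mod_cast (Submodule.spanFinrank_span_le_ncard_of_finite (R := A) (Set.finite_range x)).trans h1
  · have key : ∀ j : ℕ, j ≤ r → ∀ p : Ideal A, p.IsPrime →
        Ideal.span {a | a ∈ (List.ofFn x).take j} ≤ p → (j : ℕ∞) ≤ p.height := by
      intro j
      induction j with
      | zero => intro _ p _ _; simp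
      | succ j ih =>
        intro hj p hp hle
        haveI := hp
        set J := Ideal.span {a | a ∈ (List.ofFn x).take j}
        have hlt : j < (List.ofFn x).length := by simp; omega
        have hJp : J ≤ p := le_trans (Ideal.span_mono fun a ha => List.take_subset_take_left _ (Nat.le_succ j) ha) hle
        obtain ⟨q, hq, hqp⟩ := Ideal.exists_minimalPrimes_le hJp
        haveI := hq.1.1
        have hxj : (List.ofFn x)[j] ∉ q := by
          intro hmem
          obtain ⟨z, hz0, hz⟩ := Groth.Agent.CAlg.MinPrime.exists_smul_eq_zero_of_mem_minimalPrimes hq hmem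
          have hreg := hx.regular_mod_prev j hlt
          have he : (Ideal.ofList ((List.ofFn x).take j) • ⊤ : Submodule A A) = J := by
            rw [smul_eq_mul, Ideal.mul_top]
          have hreg' : IsSMulRegular (A ⧸ J) (List.ofFn x)[j] :=
            ((Submodule.quotEquivOfEq _ _ he).isSMulRegular_congr _).1 hreg
          refine hz0 (hreg'.right_eq_zero_of_smul ?_)
          rw [Algebra.smul_def]
          exact hz
        have hxp : (List.ofFn x)[j] ∈ p := hle (Ideal.subset_span (by
          show (List.ofFn x)[j] ∈ (List.ofFn x).take (j + 1)
          rw [List.take_succ_eq_append_getElem hlt]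
          exact List.mem_append_right _ (List.mem_singleton_self _)))
        have hne : q < p := lt_of_le_of_ne hqp fun h => hxj (h ▸ hxp)
        refine le_trans ?_ (Ideal.height_add_one_le_of_lt_of_isPrime hne)
        push_cast
        exact add_le_add_left (ih (by omega) q inferInstance hq.1.2) 1
    rw [Ideal.height_eq_inf_minimalPrimes]
    refine le_iInf₂ fun p hp => key r le_rfl p hp.1.1 ((Ideal.span_mono ?_).trans hp.1.2)
    intro a ha
    exact List.mem_ofFn.1 (List.mem_of_mem_take ha)

end Groth.Agent.S16235
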