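import Groth.Statements.S16236
import Groth.Agent.CohDev.Nil

set_option autoImplicit false
universe u
open CategoryTheory CategoryTheory.Limits AlgebraicGeometry
attribute [local instance] HasDerivedCategory.standard
open SGA6

namespace Groth.Agent.S16236

open Groth.Agent.CohDev

lemma faithful_push {X X' : Scheme.{u}} (i : X' ⟶ X) [IsClosedImmersion i] :
    (Scheme.Modules.pushforward i).Faithful where
  map_injective {M N f g} h := by
    refine Scheme.Modules.hom_ext _ _ fun W => ?_
    obtain ⟨O, hO, hOW⟩ := i.isClosedEmbedding.isInducing.isOpen_iff.mp W.isOpen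
    obtain rfl : i ⁻¹ᵁ ⟨O, hO⟩ = W := TopologicalSpace.Opens.ext hOW
    exact congrArg (fun t => t.app ⟨O, hO⟩) h

lemma killed_push {X X' : Scheme.{u}} (i : X' ⟶ X) [IsClosedImmersion i] (M : X'.Modules) :
    Killed i.ker ((Scheme.Modules.pushforward i).obj M) := fun V a ha m => by
  rw [Scheme.Hom.ker_apply, RingHom.mem_ker] at ha
  change (show Γ(M, i ⁻¹ᵁ V.1) from i.app V.1 a • (show Γ(M, i ⁻¹ᵁ V.1) from m)) = 0
  rw [ha, zero_smul]

/-- Let X be a Noetherian scheme and i : X' ⟶ X a closed immersion which is surjective on points (a
closed subscheme with the same underlying space, such as X_red ⊂ X). Direct image along i is exact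
and preserves coherence (instance hypotheses and hypothesis hi); the induced homomorphism K₀(Coh X')
⟶ K₀(Coh X) between the Grothendieck groups of coherent modules is bijective. (The published
statement is the case X' = X_red; this row takes any closed immersion that is surjective on points.) -/
theorem result {X X' : Scheme.{u}} [IsNoetherian X]
    (i : X' ⟶ X) [IsClosedImmersion i] [Surjective i]
    [(Scheme.Modules.pushforward i).Additive] [PreservesFiniteLimits (Scheme.Modules.pushforward i)]
    [PreservesFiniteColimits (Scheme.Modules.pushforward i)]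
    (hi : ∀ M : X'.Modules, Coh.IsCoh M → Coh.IsCoh ((Scheme.Modules.pushforward i).obj M)) :
    Function.Bijective (SGA6.mapSub (Scheme.Modules.pushforward i) (fun M : (X').Modules => Coh.IsCoh M)
      (fun M : (X).Modules => Coh.IsCoh M) hi) := by
  have hI : ∀ x : X, i.ker ≤ IntMult.ptIdeal x := fun x =>
    Scheme.IdealSheafData.le_support_iff_le_vanishingIdeal.mp
      (closure_minimal (Set.singleton_subset_iff.mpr (i.range_subset_ker_support (i.surjective x)))
        i.ker.support.isClosed)
  haveI := faithful_push i
  let P := Scheme.Modules.pushforward i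
  let Q := Scheme.Modules.pullback i
  have hv : AdditiveOnKilled (fun J => kcl (Q.obj J)) i.ker := by
    intro S hS h₁ h₂ h₃ k₁ k₂ k₃
    let adj := Scheme.Modules.pullbackPushforwardAdjunction i
    let T := S.map Q
    let e : S ≅ T.map P := ShortComplex.isoMk (unitIsoOfKilled i k₁) (unitIsoOfKilled i k₂)
      (unitIsoOfKilled i k₃) (adj.unit.naturality S.f).symm (adj.unit.naturality S.g).symm
    have hT := ShortComplex.shortExact_of_iso e hS
    have hTs : T.ShortExact :=
      { exact := (ShortComplex.exact_map_iff_of_faithful T P).mp hT.exact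
        mono_f := P.mono_of_mono_map hT.mono_f
        epi_g := P.epi_of_epi_map hT.epi_g }
    exact kcl_add hTs (ZClosLib.CohDescent.isCoh_pullback i _ h₁)
      (ZClosLib.CohDescent.isCoh_pullback i _ h₂) (ZClosLib.CohDescent.isCoh_pullback i _ h₃)
  obtain ⟨φ, hφ⟩ := CohDev.exists_hom hI hv
  have hleft : ∀ z, φ (SGA6.mapSub P (fun M : (X').Modules => Coh.IsCoh M)
      (fun M : (X).Modules => Coh.IsCoh M) hi z) = z := by
    intro z
    induction z using kcl_induction with
    | h0 => rw [map_zero, map_zero]
    | hcl M hM =>
      rw [mapSub_kcl P hi hM, hφ _ (hi M hM) (killed_push i M)]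
      let adj := Scheme.Modules.pullbackPushforwardAdjunction i
      haveI : IsIso (adj.unit.app (P.obj M)) :=
        (ClUnit.isIso_unit_iff i _).mpr fun V a ha m => killed_push i M V a ha m
      haveI : IsIso (P.map (adj.counit.app M)) := by
        have h : adj.unit.app (P.obj M) ≫ P.map (adj.counit.app M) = 𝟙 (P.obj M) :=
          adj.right_triangle_components M
        have : IsIso (adj.unit.app (P.obj M) ≫ P.map (adj.counit.app M)) := by
          rw [h]; infer_instance
        exact IsIso.of_isIso_comp_left (adj.unit.app (P.obj M)) _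
      haveI : Mono (adj.counit.app M) := P.mono_of_mono_map inferInstance
      haveI : Epi (adj.counit.app M) := P.epi_of_epi_map inferInstance
      haveI : IsIso (adj.counit.app M) := isIso_of_mono_of_epi (adj.counit.app M)
      exact kcl_iso (asIso (adj.counit.app M)) (ZClosLib.CohDescent.isCoh_pullback i _ (hi M hM))
    | hneg a ha => rw [map_neg, map_neg, ha]
    | hadd a b ha hb => rw [map_add, map_add, ha, hb]
  refine ⟨Function.LeftInverse.injective hleft, fun z => ?_⟩
  induction z using kcl_induction with
  | h0 => exact ⟨0, map_zero _⟩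
  | hcl M hM => exact kcl_mem_range_push i hi hM (fun x _ => i.surjective x)
  | hneg a ha => obtain ⟨b, rfl⟩ := ha; exact ⟨-b, map_neg _ _⟩
  | hadd a b ha hb => obtain ⟨c, rfl⟩ := ha; obtain ⟨d, rfl⟩ := hb; exact ⟨c + d, map_add _ _ _⟩

end Groth.Agent.S16236
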