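import Groth.Statements.S3192
import Groth.Agent.CohDev.Loc

set_option autoImplicit false
universe u
open CategoryTheory CategoryTheory.Limits AlgebraicGeometry
attribute [local instance] HasDerivedCategory.standard
open SGA6

namespace Groth.Agent.S3192

open Groth.Agent.CohDev

/-- Let X be a Noetherian scheme, i : X' ⟶ X a closed immersion and j : U ⟶ X the open immersion of the
complement. With K_•(−) = K₀ of coherent modules, i_* (exact; carried as instance hypotheses, and
sending coherent modules to coherent modules — hypothesis hi) and j^* (exact, preserving coherence —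
hypothesis hj) induce homomorphisms K_•(X') ⟶ K_•(X) ⟶ K_•(U); then j^* is surjective and its kernel
is the image of i_*. -/
theorem result {X X' U : Scheme.{u}} [IsNoetherian X] (i : X' ⟶ X) [IsClosedImmersion i]
    (j : U ⟶ X) [IsOpenImmersion j] (hU : Set.range j = (Set.range i)ᶜ)
    [(Scheme.Modules.pushforward i).Additive] [PreservesFiniteLimits (Scheme.Modules.pushforward i)] [PreservesFiniteColimits (Scheme.Modules.pushforward i)]
    [PreservesFiniteLimits (Scheme.Modules.restrictFunctor j)]
    (hi : ∀ M : X'.Modules, Coh.IsCoh M → Coh.IsCoh ((Scheme.Modules.pushforward i).obj M))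
    (hj : ∀ M : X.Modules, Coh.IsCoh M → Coh.IsCoh ((Scheme.Modules.restrictFunctor j).obj M)) :
    Function.Surjective (SGA6.mapSub (Scheme.Modules.restrictFunctor j) (fun M : (X).Modules => Coh.IsCoh M) (fun M : (U).Modules => Coh.IsCoh M) hj) ∧
      (SGA6.mapSub (Scheme.Modules.restrictFunctor j) (fun M : (X).Modules => Coh.IsCoh M) (fun M : (U).Modules => Coh.IsCoh M) hj).ker =
        (SGA6.mapSub (Scheme.Modules.pushforward i) (fun M : (X').Modules => Coh.IsCoh M) (fun M : (X).Modules => Coh.IsCoh M) hi).range := by
  obtain ⟨hs, hk⟩ := CohDev.localization j hj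
  have hY : (Set.range j)ᶜ = Set.range i := by rw [hU, compl_compl]
  refine ⟨hs, le_antisymm ?_ ?_⟩
  · rw [hk, hY]
    refine (AddSubgroup.closure_le _).mpr ?_
    rintro _ ⟨G, hG, hG', rfl⟩
    exact kcl_mem_range_push i hi hG hG'
  · rintro _ ⟨z, rfl⟩
    rw [hk, hY]
    induction z using kcl_induction with
    | h0 => rw [map_zero]; exact zero_mem _
    | hcl M hM =>
      rw [mapSub_kcl _ hi hM]
      refine kcl_mem_clSpan (hi _ hM) fun x hx => ?_
      by_contra hn
      exact hx (ClUnit.subsingleton_stalk_pushforward i M x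
        ⟨(Set.range i)ᶜ, i.isClosedEmbedding.isClosed_range.isOpen_compl⟩ hn
        (le_bot_iff.mp fun z hz => hz ⟨z, rfl⟩))
    | hneg a ha => rw [map_neg]; exact neg_mem ha
    | hadd a b ha hb => rw [map_add]; exact add_mem ha hb

end Groth.Agent.S3192
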