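import Groth.Statements.S16237
import Groth.Agent.KRR49.AffLineZero
import Groth.Agent.S3192
import Groth.Agent.ChgRings.Basic
import Groth.Agent.ProperFin.FiniteMap
-- import your own Groth.Agent.* helpers here

set_option autoImplicit false
universe u
open CategoryTheory CategoryTheory.Limits AlgebraicGeometry
attribute [local instance] HasDerivedCategory.standard
open SGA6

namespace Groth.Agent.S16237

open Groth.Agent.KRR49.AffLineZero

theorem smulEnd_push_eq_zero {X : Scheme.{u}} (N : X.Modules) :
    CohBase.FlatBC.smulEnd ((Scheme.Modules.pushforward (zeroSec X)).obj N) (t X) = 0 := by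
  refine Scheme.Modules.hom_ext _ _ fun W => ?_
  ext z
  show (zeroSec X).app W (tAt X W) • (show Γ(N, zeroSec X ⁻¹ᵁ W) from z) = 0
  have e : (zeroSec X).app W (tAt X W) = 0 := by
    rw [tAt, ← CommRingCat.comp_apply, Scheme.Hom.naturality, CommRingCat.comp_apply]
    exact (congrArg _ zeroSec_t).trans (map_zero _)
  rw [e, zero_smul]

theorem kcl_push_eq_zero {X : Scheme.{u}} [IsNoetherian X] [IsAffineHom (p X)]
    [IsClosedImmersion (zeroSec X)] [IsNoetherian 𝔸(ULift.{u} (Fin 1); X)] (F : X.Modules) (hF : Coh.IsCoh F) :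
    CohDev.kcl ((Scheme.Modules.pushforward (zeroSec X)).obj F) = 0 := by
  haveI := hF.1
  let i := zeroSec X
  let adj := Scheme.Modules.pullbackPushforwardAdjunction i
  let M := (Scheme.Modules.pullback (p X)).obj F
  have hM : Coh.IsCoh M := ZClosLib.CohDescent.isCoh_pullback (p X) F hF
  let f := CohBase.FlatBC.smulEnd M (t X)
  haveI : Mono f := mono_smulEnd_pullback F
  let C := cokernel f
  let π : M ⟶ C := cokernel.π f
  have hC0 : CohBase.FlatBC.smulEnd C (t X) = 0 := by
    rw [← cancel_epi π, ← CohBase.FlatBC.smulEnd_comp, comp_zero]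
    exact cokernel.condition f
  have hk : CohDev.Killed i.ker C := killed_of_smul fun V m => by
    exact congr(($hC0).app V m)
  have hCc : Coh.IsCoh C := CohDev.isCoh_cokernel f hM.1 hM
  let ψ : C ⟶ (Scheme.Modules.pushforward i).obj ((Scheme.Modules.pullback i).obj M) :=
    cokernel.desc f (adj.unit.app M) (by
      rw [CohBase.FlatBC.smulEnd_comp]
      exact (congrArg _ (smulEnd_push_eq_zero _)).trans comp_zero)
  have hψ : π ≫ ψ = adj.unit.app M := cokernel.π_desc _ _ _
  let q := (adj.homEquiv C ((Scheme.Modules.pullback i).obj M)).symm ψ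
  have hq : (Scheme.Modules.pullback i).map π ≫ q = 𝟙 _ := by
    rw [← Adjunction.homEquiv_naturality_left_symm, hψ, ← adj.homEquiv_id, Equiv.symm_apply_apply]
  haveI : (Scheme.Modules.pullback i).IsLeftAdjoint := adj.isLeftAdjoint
  haveI : Epi ((Scheme.Modules.pullback i).map π) := inferInstance
  haveI : IsSplitMono ((Scheme.Modules.pullback i).map π) := ⟨⟨⟨q, hq⟩⟩⟩
  haveI : IsIso ((Scheme.Modules.pullback i).map π) := isIso_of_mono_of_epi _
  have hc := CohDev.kcl_mono f hM hM
  rw [left_eq_add] at hc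
  refine Eq.trans ?_ hc
  exact (CohDev.kcl_iso (CohDev.unitIsoOfKilled i hk ≪≫ (Scheme.Modules.pushforward i).mapIso
    ((asIso ((Scheme.Modules.pullback i).map π)).symm ≪≫ ((Scheme.Modules.pullbackComp i (p X)).app F) ≪≫
      (Scheme.Modules.pullbackCongr zeroSec_p).app F ≪≫ (Scheme.Modules.pullbackId X).app F)) hCc).symm


/-- Let X be a Noetherian scheme, 𝔸¹_X the affine line over X with coordinate t, and j : U ⟶ 𝔸¹_X an
open immersion whose image is the open subset D(t) where t is invertible (so U is X × Spec ℤ[t,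
t⁻¹]). Restriction along j is exact and preserves coherence (instance hypothesis and hypothesis hj);
the induced homomorphism K₀(Coh 𝔸¹_X) ⟶ K₀(Coh U) between Grothendieck groups of coherent modules is
bijective. -/
theorem result (X : Scheme.{u}) [IsNoetherian X] {U : Scheme.{u}}
    (j : U ⟶ 𝔸(ULift.{u} (Fin 1); X)) [IsOpenImmersion j]
    (hU : Set.range j = ((𝔸(ULift.{u} (Fin 1); X)).basicOpen (AffineSpace.coord X (ULift.up (0 : Fin 1))) : Set (𝔸(ULift.{u} (Fin 1); X))))
    [PreservesFiniteLimits (Scheme.Modules.restrictFunctor j)]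
    (hj : ∀ M : (𝔸(ULift.{u} (Fin 1); X)).Modules, Coh.IsCoh M → Coh.IsCoh ((Scheme.Modules.restrictFunctor j).obj M)) :
    Function.Bijective (SGA6.mapSub (Scheme.Modules.restrictFunctor j) (fun M : (𝔸(ULift.{u} (Fin 1); X)).Modules => Coh.IsCoh M)
      (fun M : (U).Modules => Coh.IsCoh M) hj) := by
  classical
  haveI : IsAffineHom (p X) := inferInstance
  haveI : IsClosedImmersion (zeroSec X) :=
    haveI : IsClosedImmersion (zeroSec X ≫ p X) := by rw [zeroSec_p]; infer_instance
    IsClosedImmersion.of_comp (zeroSec X) (p X)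
  haveI : IsLocallyNoetherian 𝔸(ULift.{u} (Fin 1); X) := LocallyOfFiniteType.isLocallyNoetherian (p X)
  haveI : CompactSpace 𝔸(ULift.{u} (Fin 1); X) := QuasiCompact.compactSpace_of_compactSpace (p X)
  haveI : IsNoetherian 𝔸(ULift.{u} (Fin 1); X) := ⟨⟩
  let i := zeroSec X
  let T := Scheme.Modules.pushforward i
  haveI : T.IsRightAdjoint := (Scheme.Modules.pullbackPushforwardAdjunction i).isRightAdjoint
  haveI : PreservesFiniteLimits T := inferInstance
  haveI : PreservesFiniteColimits T := ChgRings.pushPreservesFiniteColimits i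
  have hrange : Set.range i = ((𝔸(ULift.{u} (Fin 1); X)).basicOpen (t X) : Set _)ᶜ := by
    have h1 : (i.ker.support : Set _) = Set.range i := by
      rw [Scheme.Hom.support_ker, i.isClosedEmbedding.isClosed_range.closure_eq]
    rw [← h1, ker_zeroSec, Scheme.IdealSheafData.coe_support_ofIdealTop, Scheme.zeroLocus_span,
      Scheme.zeroLocus_singleton]
  have hUr : Set.range j = (Set.range i)ᶜ := by rw [hrange, compl_compl]; exact hU
  have hi : ∀ F : X.Modules, Coh.IsCoh F → Coh.IsCoh (T.obj F) := fun F hF =>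
    ProperFin.isCoh_push_of_isFinite i F hF
  obtain ⟨hs, hk⟩ := Groth.Agent.S3192.result i j hUr hi hj
  refine ⟨?_, hs⟩
  rw [← AddMonoidHom.ker_eq_bot_iff, hk, eq_bot_iff]
  rintro _ ⟨z, rfl⟩
  rw [AddSubgroup.mem_bot]
  induction z using CohDev.kcl_induction with
  | h0 => exact map_zero _
  | hneg a ha => rw [map_neg, ha, neg_zero]
  | hadd a b ha hb => rw [map_add, ha, hb, add_zero]
  | hcl F hF => rw [CohDev.mapSub_kcl _ hi hF]; exact kcl_push_eq_zero F hF

end Groth.Agent.S16237
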