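import Groth.Statements.S16239
import Groth.Agent.RefChK0.Common
import Groth.Agent.CycLib.ChowOp.DetFilt
import Groth.Agent.ExtPowSt.Modification
import Groth.Agent.DualAbs.DetSeq
import Groth.Agent.S3746
import Groth.Agent.S1109
import Groth.Agent.S3203
import Groth.Agent.PicLaw.Calc
import Groth.Agent.CurveDVR.Stalk
import Groth.Agent.RegLoc.UFD
import Groth.Agent.KRR49.ConnRank
import Groth.Agent.KRR49.CohCompat
import Groth.Agent.CycLib.FieldDelta
-- import your own Groth.Agent.* helpers here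

set_option autoImplicit false
universe u
open CategoryTheory CategoryTheory.Limits AlgebraicGeometry
attribute [local instance] HasDerivedCategory.standard
open SGA6

namespace Groth.Agent.S16239

open scoped Groth.Agent.PicLaw
open ZeroObject

variable {X : Scheme.{u}}


section Det

variable [AlgebraicGeometry.IsIntegral X] [IsLocallyNoetherian X]

noncomputable def rk (E : X.Modules) : ℕ :=
  Module.finrank (X.presheaf.stalk (genericPoint X)) (E.presheaf.stalk (genericPoint X))

theorem ofRank_rk {E : X.Modules} (h : FlatMod.IsFinLocFree E) : FlatMod.IsFinLocFreeOfRank (rk E) E := by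
  haveI := PerfTri.Betti.isQuasicoherent_of_isFinLocFree h
  obtain ⟨r, hr⟩ := KRR49.exists_ofRank h
  obtain ⟨U, hU, ⟨e⟩⟩ := hr (genericPoint X)
  rw [rk, KRR49.finrank_stalk_of_restrict_iso e hU]
  exact hr

theorem exists_basis {E : X.Modules} (h : FlatMod.IsFinLocFree E) (y : X) :
    Nonempty (Module.Basis (Fin (rk E)) (X.presheaf.stalk y) (E.presheaf.stalk y)) := by
  haveI := PerfTri.Betti.isQuasicoherent_of_isFinLocFree h
  obtain ⟨U, hU, ⟨e⟩⟩ := ofRank_rk h y
  haveI := (Props.QProj.free_stalk (M := E) h y).1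
  haveI := (Props.QProj.free_stalk (M := E) h y).2
  exact ⟨Module.finBasisOfFinrankEq _ _ (KRR49.finrank_stalk_of_restrict_iso e hU)⟩

theorem exists_det {E : X.Modules} (h : FlatMod.IsFinLocFree E) :
    ∃ L : X.Modules, ExtPow.IsExtPow (rk E) E L ∧ PicF.IsInvertible L := by
  haveI := PerfTri.Betti.isQuasicoherent_of_isFinLocFree h
  obtain ⟨L, hL⟩ := ExtPowSt.Exists.exists_isExtPow (rk E) E
  exact ⟨L, hL, CycLib.ChowOp.isInvertible_extPow (ofRank_rk h) hL⟩

theorem rk_add {S : ShortComplex X.Modules} (hS : S.ShortExact) (h₁ : FlatMod.IsFinLocFree S.X₁)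
    (h₂ : FlatMod.IsFinLocFree S.X₂) (h₃ : FlatMod.IsFinLocFree S.X₃) : rk S.X₂ = rk S.X₁ + rk S.X₃ := by
  obtain ⟨hi, he, hs⟩ := PullStalk.Exact.stalk_exact hS (genericPoint X)
  obtain ⟨b₁⟩ := exists_basis h₁ (genericPoint X)
  obtain ⟨b₃⟩ := exists_basis h₃ (genericPoint X)
  haveI := Module.Projective.of_basis b₃
  obtain ⟨σ, hσ⟩ := Module.projective_lifting_property (PullStalk.Exact.stalkLin S.g (genericPoint X)) LinearMap.id hs
  exact Module.finrank_eq_card_basis
    ((b₁.prod b₃).map (he.splitSurjectiveEquiv hi ⟨σ, hσ⟩).1.symm) |>.trans (by simp)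

theorem det_mul {S : ShortComplex X.Modules} (hS : S.ShortExact) (h₁ : FlatMod.IsFinLocFree S.X₁)
    (h₂ : FlatMod.IsFinLocFree S.X₂) (h₃ : FlatMod.IsFinLocFree S.X₃) {L₁ L₂ L₃ : X.Modules}
    (hL₁ : ExtPow.IsExtPow (rk S.X₁) S.X₁ L₁) (hL₂ : ExtPow.IsExtPow (rk S.X₂) S.X₂ L₂)
    (hL₃ : ExtPow.IsExtPow (rk S.X₃) S.X₃ L₃) : Nonempty (CohB1.tensorMod L₁ L₃ ≅ L₂) := by
  haveI := PerfTri.Betti.isQuasicoherent_of_isFinLocFree h₁
  haveI := PerfTri.Betti.isQuasicoherent_of_isFinLocFree h₂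
  haveI := PerfTri.Betti.isQuasicoherent_of_isFinLocFree h₃
  let ε : (Scheme.Modules.pullback (𝟙 X)).obj S.X₂ ≅ S.X₂ := (Scheme.Modules.pullbackId X).app _
  let S' := ShortComplex.mk (S.f ≫ ε.inv) (ε.hom ≫ S.g) (by simp)
  have hS' : S'.ShortExact := ShortComplex.shortExact_of_iso (S₁ := S)
    (ShortComplex.isoMk (S₁ := S) (S₂ := S') (Iso.refl _) ε.symm (Iso.refl _) (by simp [S']) (by simp [S'])) hS
  have hex := fun y => PullStalk.Exact.stalk_exact hS' y
  rw [rk_add hS h₁ h₂ h₃] at hL₂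
  obtain ⟨φ₁, hφ₁⟩ := hL₁
  obtain ⟨φ₂, hφ₂⟩ := hL₂
  obtain ⟨φ₃, hφ₃⟩ := hL₃
  obtain ⟨e⟩ := DualAbs.DetSeq.nonempty_det_iso (ι := 𝟙 X) (E := S.X₂) S'.f S'.g (fun y => (hex y).1)
    (fun y => (hex y).2.2) (fun y => (hex y).2.1) ⟨φ₁, hφ₁⟩ ⟨φ₃, hφ₃⟩ ⟨φ₂, hφ₂⟩
    (exists_basis h₁) (exists_basis h₃) (fun y => by rw [← rk_add hS h₁ h₂ h₃]; exact exists_basis h₂ _)
  exact ⟨e ≪≫ (Scheme.Modules.pullbackId X).app _⟩

theorem exists_hom : ∃ Ψ : SGA6.Kvb X →+ ℤ × Additive (PicLoc.PicSet X),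
    ∀ (E L : X.Modules), FlatMod.IsFinLocFree E → ExtPow.IsExtPow (rk E) E L → ∀ hL : PicF.IsInvertible L,
      Ψ (KZero.clSub (fun M : X.Modules => FlatMod.IsFinLocFree M) E) = ((rk E : ℤ), Additive.ofMul (PicGrp.cls L hL)) := by
  classical
  let f : ∀ E : X.Modules, (fun M : X.Modules => FlatMod.IsFinLocFree M) E → ℤ × Additive (PicLoc.PicSet X) := fun E hE =>
    ((rk E : ℤ), Additive.ofMul (PicGrp.cls (exists_det hE).choose (exists_det hE).choose_spec.2))
  have huniq : ∀ {E L : X.Modules} (hE : FlatMod.IsFinLocFree E), ExtPow.IsExtPow (rk E) E L →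
      ∀ hL : PicF.IsInvertible L, PicGrp.cls (exists_det hE).choose (exists_det hE).choose_spec.2 =
        PicGrp.cls L hL := by
    intro E L hE hEL hL
    have hZ : FlatMod.IsFinLocFree (0 : X.Modules) := S3205.flf_of_isZero (isZero_zero _)
    obtain ⟨L₀, hL₀, hi₀⟩ := exists_det hZ
    have hS : (ShortComplex.mk (𝟙 E) (0 : E ⟶ 0) comp_zero).ShortExact :=
      { exact := (ShortComplex.exact_iff_epi _ rfl).2 (inferInstanceAs (Epi (𝟙 E)))
        mono_f := inferInstanceAs (Mono (𝟙 E))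
        epi_g := ⟨fun _ _ _ => (isZero_zero _).eq_of_src _ _⟩ }
    obtain ⟨e₁⟩ := det_mul hS hE hE hZ (exists_det hE).choose_spec.1 hEL hL₀
    obtain ⟨e₂⟩ := det_mul hS hE hE hZ hEL hEL hL₀
    refine mul_right_cancel (b := PicGrp.cls L₀ hi₀) ?_
    rw [← PicLaw.cls_tensor, ← PicLaw.cls_tensor]
    exact (PicGrp.cls_eq_cls_iff _ _).2 ⟨e₁ ≪≫ e₂.symm⟩
  obtain ⟨Ψ, hΨ⟩ := S3203.exists_desc (X := X) f fun S h₁ h₂ h₃ hS => by
    obtain ⟨L₁, hL₁, i₁⟩ := exists_det h₁
    obtain ⟨L₂, hL₂, i₂⟩ := exists_det h₂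
    obtain ⟨L₃, hL₃, i₃⟩ := exists_det h₃
    obtain ⟨e⟩ := det_mul hS h₁ h₂ h₃ hL₁ hL₂ hL₃
    simp only [f, huniq h₁ hL₁ i₁, huniq h₂ hL₂ i₂, huniq h₃ hL₃ i₃, Prod.mk_add_mk, ← ofMul_mul,
      ← PicLaw.cls_tensor]
    refine Prod.ext (by simp [rk_add hS h₁ h₂ h₃]) (congrArg Additive.ofMul ?_)
    exact (PicGrp.cls_eq_cls_iff _ _).2 ⟨e.symm⟩
  exact ⟨Ψ, fun E L hE hEL hL => (hΨ E hE).trans (by simp only [f, huniq hE hEL hL])⟩

theorem rk_invertible {L : X.Modules} (hL : PicF.IsInvertible L) :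
    FlatMod.IsFinLocFree L ∧ rk L = 1 := by
  have h1 : FlatMod.IsFinLocFreeOfRank 1 L := fun x => by
    obtain ⟨U, hx, ⟨e⟩⟩ := hL x
    exact ⟨U, hx, ⟨e ≪≫ (coproductUniqueIso fun _ : Fin 1 => Coh.structureModule (U : Scheme.{u})).symm⟩⟩
  have h := CycLib.ChowOp.isFinLocFree_of_rank h1
  haveI := PerfTri.Betti.isQuasicoherent_of_isFinLocFree h
  obtain ⟨U, hU, ⟨e⟩⟩ := h1 (genericPoint X)
  exact ⟨h, KRR49.finrank_stalk_of_restrict_iso e hU⟩

end Det

theorem exists_toCoh {δ : X → ℤ} [IsNoetherian X] (a : ℤ) : ∃ T : KZero.K0sub (Cyc.CohLe δ a) →+ SGA6.Kcoh X,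
    ∀ F : X.Modules, Cyc.CohLe δ a F → T (RefChK0.kc δ a F) = CohDev.kcl F :=
  ⟨RefChK0.lift a (fun F => CohDev.kcl F) fun S hS h₁ h₂ h₃ => CohDev.kcl_add hS h₁.1 h₂.1 h₃.1,
    fun _ hF => RefChK0.lift_kc hF⟩


/-- Let X be a smooth proper integral curve (dimension one) over an algebraically closed field k, and
write K for the Grothendieck group of finite locally free O_X-modules. Then every element of K can
be written as (n − 1)·[O_X] + [L] with n an integer and L an invertible O_X-module, and in such an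
expression n and the isomorphism class of L are unique. (This is the bijection ℤ × Pic(X) → K
underlying the ring isomorphism K ≅ ℤ ⊕ Pic(X), α ↦ (rank α, det α), of the source, which identifies
K with K₀ of coherent modules via the Cartan isomorphism. The published statement takes X
projective; a proper curve over a field is projective, so this row takes X proper.) -/
theorem result (k : Type u) [Field k] [IsAlgClosed k]
    (X : Scheme.{u}) [X.Over (Spec (CommRingCat.of k))] [IsIntegral X]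
    [IsProper (X ↘ Spec (CommRingCat.of k))] [Smooth (X ↘ Spec (CommRingCat.of k))]
    (hdim : topologicalKrullDim ↥X = 1) :
    (∀ a : SGA6.Kvb X, ∃ (n : ℤ) (L : X.Modules), PicF.IsInvertible L ∧
        a = (n - 1) • KZero.clSub (fun M : X.Modules => FlatMod.IsFinLocFree M) (Coh.structureModule X) +
          KZero.clSub (fun M : X.Modules => FlatMod.IsFinLocFree M) L) ∧
      (∀ (n m : ℤ) (L L' : X.Modules), PicF.IsInvertible L → PicF.IsInvertible L' →
        (n - 1) • KZero.clSub (fun M : X.Modules => FlatMod.IsFinLocFree M) (Coh.structureModule X) +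
            KZero.clSub (fun M : X.Modules => FlatMod.IsFinLocFree M) L =
          (m - 1) • KZero.clSub (fun M : X.Modules => FlatMod.IsFinLocFree M) (Coh.structureModule X) +
            KZero.clSub (fun M : X.Modules => FlatMod.IsFinLocFree M) L' →
        n = m ∧ Nonempty (L ≅ L')) := by
  classical
  let f := X ↘ Spec (CommRingCat.of k)
  haveI : IsLocallyNoetherian X := LocallyOfFiniteType.isLocallyNoetherian f
  haveI : CompactSpace X := QuasiCompact.compactSpace_of_compactSpace f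
  haveI : IsNoetherian X := ⟨⟩
  haveI : X.IsSeparated := ⟨by
    rw [← terminalIsTerminal.hom_ext (f ≫ terminal.from _) (terminal.from X)]
    infer_instance⟩
  have hreg := fun x => CurveDVR.isRegularLocalRing_stalk f x
  have hnorm : Pi1.IsNormalScheme X := fun x => by
    haveI := hreg x
    haveI := RegLoc.UFD.uniqueFactorizationMonoid (X.presheaf.stalk x)
    exact ⟨inferInstance, inferInstance⟩
  have hR := Groth.Agent.S1109.result X hreg fun U V hU hV => IsAffineOpen.inf hU hV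
  have hX : KRR.HasEnoughLocFree X := fun F hF => hR F hF.1 hF.2
  have h : ∀ M : X.Modules, FlatMod.IsFinLocFree M → Coh.IsCoh M := fun M hM =>
    VBLib.isCoh_of_isFinLocFree hM
  let α := SGA6.mapSub (𝟭 X.Modules) (KRR.vbP X) (fun M : X.Modules => Coh.IsCoh M) h
  have hα : Function.Injective α := (Groth.Agent.S3746.result X hreg hX h).1
  have hαc : ∀ E, FlatMod.IsFinLocFree E → α (KZero.clSub (fun M : X.Modules => FlatMod.IsFinLocFree M) E) = CohDev.kcl E := fun E hE =>
    KRR49.mapSubCoh_cl h hE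
  let δ := CycLib.fdelta k f
  have hd : Cyc.IsDimFun X δ := CycLib.isDimFun_fdelta k f
  have hη : δ (genericPoint X) = 1 := CycLib.fdelta_genericPoint k f hdim
  obtain ⟨T, hT⟩ := exists_toCoh (δ := δ) (δ (genericPoint X))
  let cl := KZero.clSub (fun M : X.Modules => FlatMod.IsFinLocFree M)
  let O := Coh.structureModule X
  have hO : PicF.IsInvertible O := PicLoc.isInvertible_structureModule X
  have key : ∀ E : X.Modules, FlatMod.IsFinLocFree E → ∀ W : X.Modules, ExtPow.IsExtPow (rk E) E W →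
      PicF.IsInvertible W → cl E = ((rk E : ℤ) - 1) • cl O + cl W := by
    intro E hE W hW hWi
    haveI := PerfTri.Betti.isQuasicoherent_of_isFinLocFree hE
    have hEc := h E hE
    have hm := RefChK0.sub_rank_add_det_mem hd hnorm hEc
      (fun x => by haveI := (Props.QProj.free_stalk (M := E) hE x).1; infer_instance) rfl hW
    have hz := RefChK0.eq_zero_of_mem_filt (fun x => lt_of_lt_of_le (by omega)
      (RefChK0.δ_nonneg hd (n := 1) (by exact_mod_cast hdim) (by exact_mod_cast hη) x)) hm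
    have hR1 := ExtPowSt.isRef1_of_isInvertible hWi
    haveI : IsIso (RefHull.bidualMap W) := hR1.2.1
    rw [← RefChK0.kc_iso (asIso (RefHull.bidualMap W))] at hz
    have hOc := h O (rk_invertible hO).1
    have hWc := h W (rk_invertible hWi).1
    have hz' := congrArg T hz
    rw [map_sub, map_sub, map_sub, map_nsmul, map_zero, hT _ (RefChK0.cohLe_top hd hEc),
      hT _ (RefChK0.cohLe_top hd hOc), hT _ (RefChK0.cohLe_top hd hWc)] at hz'
    refine hα ?_
    rw [map_add, map_zsmul, hαc E hE, hαc O (rk_invertible hO).1, hαc W (rk_invertible hWi).1,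
      sub_smul, one_smul, natCast_zsmul]
    rw [← sub_eq_zero]
    refine Eq.trans ?_ hz'
    simp only [rk]
    abel
  obtain ⟨Ψ, hΨ⟩ := exists_hom (X := X)
  have hΨL : ∀ (L : X.Modules) (hL : PicF.IsInvertible L), Ψ (cl L) = ((1 : ℤ), Additive.ofMul (PicGrp.cls L hL)) := by
    intro L hL
    obtain ⟨hLf, hr⟩ := rk_invertible hL
    rw [hΨ L L hLf (by rw [hr]; exact S3203.isExtPow_one L) hL, hr, Nat.cast_one]
  have hΨe : ∀ (n : ℤ) (L : X.Modules) (hL : PicF.IsInvertible L),
      Ψ ((n - 1) • cl O + cl L) = (n, Additive.ofMul (PicGrp.cls L hL)) := by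
    intro n L hL
    rw [map_add, map_zsmul, hΨL O hO, hΨL L hL, PicLaw.cls_one]
    refine Prod.ext ?_ ?_
    · show (n - 1) • (1 : ℤ) + 1 = n
      simp
    · show (n - 1) • (0 : Additive (PicLoc.PicSet X)) + _ = _
      rw [smul_zero, zero_add]
  have hadd : ∀ L M : X.Modules, PicF.IsInvertible L → PicF.IsInvertible M →
      cl L + cl M = cl O + cl (CohB1.tensorMod L M) := by
    intro L M hL hM
    have hS : (ShortComplex.mk (biprod.inl : L ⟶ L ⊞ M) biprod.snd biprod.inl_snd).ShortExact :=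
      (ShortComplex.Splitting.ofHasBinaryBiproduct L M).shortExact
    have hE := ExtFilt.Stalkwise.isFinLocFree_X₂ hS (rk_invertible hL).1 (rk_invertible hM).1
    obtain ⟨W, hW, hWi⟩ := exists_det hE
    have hr := rk_add hS (rk_invertible hL).1 hE (rk_invertible hM).1
    dsimp only at hr
    rw [(rk_invertible hL).2, (rk_invertible hM).2] at hr
    obtain ⟨e⟩ := det_mul hS (rk_invertible hL).1 hE (rk_invertible hM).1
      (by rw [(rk_invertible hL).2]; exact S3203.isExtPow_one L) hW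
      (by rw [(rk_invertible hM).2]; exact S3203.isExtPow_one M)
    have := key _ hE W hW hWi
    rw [hr] at this
    refine Eq.trans ?_ (this.trans ?_)
    · exact (ResK0.Basic.clSub_add _ hS (rk_invertible hL).1 hE (rk_invertible hM).1).symm
    · rw [show cl (CohB1.tensorMod L M) = cl W from S3205.clSub_congr e.hom (rk_invertible hWi).1]
      norm_num
  refine ⟨fun a => ?_, fun n m L L' hL hL' e => ?_⟩
  · induction a using QuotientAddGroup.induction_on with | _ y => ?_
    induction y using FreeAbelianGroup.induction_on with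
    | zero => exact ⟨0, O, hO, by show (0 : SGA6.Kvb X) = _; rw [zero_sub, neg_one_zsmul, neg_add_cancel]⟩
    | of E =>
      obtain ⟨W, hW, hWi⟩ := exists_det E.2
      refine ⟨rk E.1, W, hWi, Eq.trans ?_ (key E.1 E.2 W hW hWi)⟩
      show _ = KZero.clSub (fun M : X.Modules => FlatMod.IsFinLocFree M) E.1
      rw [KZero.clSub, dif_pos E.2]
    | neg E ih =>
      obtain ⟨n, L, hL, e⟩ := ih
      obtain ⟨M, hM, hc⟩ := PicLaw.exists_cls_eq (PicGrp.cls L hL)⁻¹
      refine ⟨-n, M, hM, ?_⟩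
      have ho : cl L + cl M = cl O + cl O := by
        rw [hadd L M hL hM]
        congr 1
        have : PicGrp.cls _ (PicLaw.isInvertible_tensor hL hM) = PicGrp.cls O hO := by
          rw [PicLaw.cls_tensor hL hM, ← hc, mul_inv_cancel]
          exact (PicLaw.cls_one).symm
        obtain ⟨i⟩ := (PicGrp.cls_eq_cls_iff _ _).1 this
        exact S3205.clSub_congr i.hom (rk_invertible hO).1
      rw [QuotientAddGroup.mk_neg, e]
      show -((n - 1) • cl O + cl L) = (-n - 1) • cl O + cl M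
      simp only [sub_smul, neg_smul, one_smul]
      rw [← sub_eq_zero]
      refine Eq.trans ?_ (sub_eq_zero.2 ho.symm)
      abel
    | add p q hp hq =>
      obtain ⟨n, L, hL, e⟩ := hp
      obtain ⟨m, M, hM, e'⟩ := hq
      refine ⟨n + m, _, PicLaw.isInvertible_tensor hL hM, ?_⟩
      rw [QuotientAddGroup.mk_add, e, e']
      show ((n - 1) • cl O + cl L) + ((m - 1) • cl O + cl M) = (n + m - 1) • cl O + cl (CohB1.tensorMod L M)
      simp only [sub_smul, add_smul, one_smul]
      rw [← sub_eq_zero]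
      refine Eq.trans ?_ (sub_eq_zero.2 (hadd L M hL hM))
      abel
  · have e' := congrArg Ψ e
    rw [hΨe n L hL, hΨe m L' hL', Prod.mk.injEq] at e'
    exact ⟨e'.1, (PicGrp.cls_eq_cls_iff hL hL').1 (Additive.ofMul.injective e'.2)⟩

end Groth.Agent.S16239
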