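import Groth.Statements.S1624
import Groth.Agent.BlowPerf.Global
import Groth.Agent.BlowH1.TwoOpens
import Groth.Agent.FlatMor.CechH1.Global

set_option linter.style.haveILetI false
set_option backward.isDefEq.respectTransparency false
set_option backward.isDefEq.respectTransparency.types false
set_option maxHeartbeats 800000
set_option linter.unusedVariables false
open Groth.Agent.BlowUp TopologicalSpace

set_option autoImplicit false
universe u
open CategoryTheory CategoryTheory.Limits AlgebraicGeometry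
open Resolve

namespace Groth.Agent.S1624

/-- Restriction of functions. -/
noncomputable abbrev rs {X : Scheme.{u}} {U V : X.Opens} (h : V ≤ U) : Γ(X, U) →+* Γ(X, V) :=
  (X.presheaf.map (homOfLE h).op).hom

lemma rs_rs {X : Scheme.{u}} {U V W : X.Opens} (h : V ≤ U) (h' : W ≤ V) (x : Γ(X, U)) :
    rs h' (rs h x) = rs (h'.trans h) x := by
  show (X.presheaf.map _ ≫ X.presheaf.map _) x = _
  rw [← Functor.map_comp]
  rfl

/-- Functions on the intersection split when one chart is generated by a fraction inverted on it. -/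
theorem split_of_generated {A : Type u} [CommRing A] {X : Scheme.{u}} (g : A →+* Γ(X, ⊤)) {U V : X.Opens}
    (hU : IsAffineOpen U) (T : Γ(X, U)) (S : Γ(X, V)) (hbasic : U ⊓ V = X.basicOpen T)
    (hgen : ∀ r : Γ(X, U), ∃ p : Polynomial A, r = p.eval₂ ((rs le_top).comp g) T)
    (hST : rs (inf_le_right : U ⊓ V ≤ V) S * rs inf_le_left T = 1) (c : Γ(X, U ⊓ V)) :
    ∃ (α : Γ(X, U)) (β : Γ(X, V)), c = rs inf_le_left α + rs inf_le_right β := by
  haveI := hU.isLocalization_of_eq_basicOpen (f := T) (homOfLE (inf_le_left : U ⊓ V ≤ U)) hbasic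
  letI : Algebra Γ(X, U) Γ(X, U ⊓ V) := (rs inf_le_left).toAlgebra
  obtain ⟨⟨r, s⟩, hrs⟩ := IsLocalization.surj (Submonoid.powers T) c
  obtain ⟨n, hn⟩ := s.2
  have hn' : T ^ n = s.1 := hn
  rw [← hn'] at hrs
  have hr : c * rs inf_le_left T ^ n = rs inf_le_left r := by
    simpa [RingHom.algebraMap_toAlgebra] using hrs
  have hc : c = rs inf_le_left r * rs (inf_le_right : U ⊓ V ≤ V) S ^ n := by
    rw [← hr, mul_assoc, ← mul_pow, mul_comm (rs _ T), hST, one_pow, mul_one]
  obtain ⟨p, rfl⟩ := hgen r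
  rw [hc]
  clear hc hr hrs
  induction p using Polynomial.induction_on' with
  | add p q hp hq =>
    obtain ⟨α, β, h⟩ := hp
    obtain ⟨α', β', h'⟩ := hq
    exact ⟨α + α', β + β', by rw [Polynomial.eval₂_add, map_add, add_mul, h, h', map_add, map_add]; ring⟩
  | monomial j a =>
    rw [Polynomial.eval₂_monomial, map_mul, map_pow, RingHom.comp_apply, rs_rs]
    by_cases hjn : n ≤ j
    · refine ⟨rs le_top (g a) * T ^ (j - n), 0, ?_⟩
      obtain ⟨k, rfl⟩ := Nat.exists_eq_add_of_le hjn
      rw [map_zero, add_zero, map_mul, map_pow, rs_rs, Nat.add_sub_cancel_left, pow_add]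
      have : rs inf_le_left T ^ n * rs (inf_le_right : U ⊓ V ≤ V) S ^ n = 1 := by
        rw [← mul_pow, mul_comm, hST, one_pow]
      linear_combination (rs (le_top : U ⊓ V ≤ ⊤) (g a) * rs inf_le_left T ^ k) * this
    · refine ⟨0, rs le_top (g a) * S ^ (n - j), ?_⟩
      obtain ⟨k, rfl⟩ := Nat.exists_eq_add_of_le (Nat.le_of_not_le hjn)
      rw [map_zero, zero_add, map_mul, map_pow, rs_rs, Nat.add_sub_cancel_left, pow_add]
      have : rs inf_le_left T ^ j * rs (inf_le_right : U ⊓ V ≤ V) S ^ j = 1 := by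
        rw [← mul_pow, mul_comm, hST, one_pow]
      linear_combination (rs (le_top : U ⊓ V ≤ ⊤) (g a) * rs inf_le_right S ^ k) * this

lemma appIso_rs {X Y : Scheme.{u}} (j : Y ⟶ X) [IsOpenImmersion j] (z : Γ(X, ⊤)) :
    (j.appIso ⊤).hom (rs le_top z) = j.appTop z := by
  rw [Scheme.Hom.appIso_hom']
  show (X.presheaf.map _ ≫ j.appLE _ _ _) _ = _
  rw [Scheme.Hom.map_appLE]
  show j.appLE ⊤ ⊤ _ _ = _
  rw [show j.appLE ⊤ ⊤ le_top = j.appTop from (Scheme.Hom.app_eq_appLE j).symm]

/-- An affine chart of a blow-up with two generators. -/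
theorem exists_chart_data {A : Type u} [CommRing A] {I : Ideal A} {X : Scheme.{u}}
    (b : X ⟶ Spec (CommRingCat.of A)) (e : Proj (Rees.deg (reesAlgebra I)) ≅ X)
    (he : e.hom ≫ b = Proj (Rees.deg (reesAlgebra I)) ↘ Spec (CommRingCat.of A))
    {x y : A} (hI : I = Ideal.ofList [x, y]) (hx : x ∈ I) (hy : y ∈ I) :
    ∃ (U : X.Opens) (hU : IsAffineOpen U) (T : Γ(X, U)),
      U = (ProjRees.chart I hx ≫ e.hom).opensRange ∧
      U ⊓ (ProjRees.chart I hy ≫ e.hom).opensRange = X.basicOpen T ∧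
      rs le_top (AffineChart.glob b x) * T = rs le_top (AffineChart.glob b y) ∧
      rs (le_top : U ≤ ⊤) (AffineChart.glob b x) ∈ nonZeroDivisors Γ(X, U) ∧
      ∀ r : Γ(X, U), ∃ p : Polynomial A, r = p.eval₂ ((rs le_top).comp (AffineChart.glob b)) T := by
  let C := AffineChart.Chart I x
  let j : Spec (CommRingCat.of C) ⟶ X := ProjRees.chart I hx ≫ e.hom
  let V := (ProjRees.chart I hy ≫ e.hom).opensRange
  have hjb : j ≫ b = AffineChart.toBase I x := by
    rw [Category.assoc, he]; exact ProjRees.chart_over I hx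
  let U : X.Opens := j ''ᵁ ⊤
  let ψ : Γ(X, U) ≅ CommRingCat.of C := j.appIso ⊤ ≪≫ Scheme.ΓSpecIso (CommRingCat.of C)
  let ε := ψ.commRingCatIsoToRingEquiv
  have hψ : ∀ a : A, ε (rs le_top (AffineChart.glob b a)) = algebraMap A C a := by
    intro a
    have h1 : (j.appIso ⊤).hom (rs le_top (AffineChart.glob b a)) = AffineChart.glob (j ≫ b) a := by
      rw [AffineChart.glob_comp]
      exact appIso_rs j _
    show (Scheme.ΓSpecIso (CommRingCat.of C)).hom ((j.appIso ⊤).hom (rs le_top (AffineChart.glob b a))) = _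
    rw [h1, hjb, AffineChart.glob_toBase]
    exact (Scheme.ΓSpecIso (CommRingCat.of C)).commRingCatIsoToRingEquiv.apply_symm_apply _
  let t : C := AffineChart.div I x hy
  refine ⟨U, (isAffineOpen_top _).image_of_isOpenImmersion j, ε.symm t, Scheme.Hom.image_top_eq_opensRange j, ?_, ?_, ?_, ?_⟩
  · have hpre : j ⁻¹ᵁ V = PrimeSpectrum.basicOpen t := by
      rw [← ProjRees.chart_preimage_opensRange I hx hy]
      show (ProjRees.chart I hx ≫ e.hom) ⁻¹ᵁ (ProjRees.chart I hy ≫ e.hom).opensRange = _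
      rw [Scheme.Hom.comp_preimage, Scheme.Hom.opensRange_comp, Scheme.Hom.preimage_image_eq]
    show U ⊓ V = _
    rw [show ε.symm t = (j.appIso ⊤).inv ((Scheme.ΓSpecIso (CommRingCat.of C)).inv t) from rfl,
      ← Scheme.image_basicOpen, basicOpen_eq_of_affine]
    rw [← hpre, Scheme.Hom.image_preimage_eq_opensRange_inf, show U = j.opensRange from Scheme.Hom.image_top_eq_opensRange j]
  · refine ε.injective ?_
    rw [map_mul, hψ, hψ, RingEquiv.apply_symm_apply]
    exact AffineChart.algebraMap_mul_div I x hy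
  · rw [mem_nonZeroDivisors_iff_right]
    intro z hz
    refine ε.injective ?_
    rw [map_zero]
    refine mem_nonZeroDivisors_iff_right.1 (AffineChart.algebraMap_mem_nonZeroDivisors I x) _ ?_
    rw [← hψ x, ← map_mul, hz, map_zero]
  · intro r
    have hcl : ∀ c : C, ∃ p : Polynomial A, c = p.eval₂ (algebraMap A C) t := by
      suffices hle : BlowUp.affineAlgebra A I x ≤ ((BlowUp.affineAlgebra A I x).val.comp (Polynomial.aeval t)).range by
        intro c
        obtain ⟨p, hp⟩ := hle c.2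
        exact ⟨p, Subtype.ext hp.symm⟩
      refine Algebra.adjoin_le ?_
      rintro _ ⟨z, hz, rfl⟩
      rw [hI, Ideal.ofList, show {a | a ∈ [x, y]} = ({x, y} : Set A) by ext a; simp, Ideal.mem_span_pair] at hz
      obtain ⟨u, v, rfl⟩ := hz
      refine ⟨Polynomial.C u + Polynomial.C v * Polynomial.X, ?_⟩
      show ((Polynomial.aeval t (Polynomial.C u + Polynomial.C v * Polynomial.X) : C) : Localization.Away x) = _
      rw [map_add, map_mul, Polynomial.aeval_C, Polynomial.aeval_C, Polynomial.aeval_X]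
      show algebraMap A (Localization.Away x) u + algebraMap A _ v * IsLocalization.mk' _ y _ = _
      rw [IsLocalization.eq_mk'_iff_mul_eq, add_mul, mul_assoc, IsLocalization.mk'_spec, ← map_mul, ← map_mul, ← map_add]
    obtain ⟨p, hp⟩ := hcl (ε r)
    refine ⟨p, ε.injective ?_⟩
    rw [hp]
    show _ = ε.toRingHom (p.eval₂ _ (ε.symm t))
    rw [Polynomial.hom_eval₂]
    congr 1
    · exact RingHom.ext fun a => (hψ a).symm
    · exact (ε.apply_symm_apply t).symm

/-- Let A be a regular local ring of dimension two and b : X → Spec A the blowing up in the maximal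
ideal. If F is a quasi-coherent O_X-module which is globally generated, then H¹(X, F) = 0. -/
theorem result (A : Type u) [CommRing A] [IsRegularLocalRing A] (hA : ringKrullDim A = 2)
    (X : Scheme.{u}) (b : X ⟶ Spec (CommRingCat.of A)) (hb : BlowUp.IsBlowUp b (Curv2.idealSheaf A (IsLocalRing.maximalIdeal A)))
    (F : X.Modules) (hF : Coh.IsQCoh F) (hgg : Curv2.IsGloballyGenerated F) : Subsingleton (Coh.HH X F 1) := by
  classical
  haveI := hF
  haveI : F.IsQuasicoherent := hF
  let m := IsLocalRing.maximalIdeal A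
  have hb' : _root_.BlowUp.IsBlowUp b (Existence.centre m) := hb
  obtain ⟨s, hcard, hs⟩ := Submodule.FG.exists_span_set_encard_eq_spanFinrank (Ideal.fg_of_isNoetherianRing m)
  have htwo : m.spanFinrank = 2 := by
    have h := IsRegularLocalRing.spanFinrank_maximalIdeal (R := A)
    rw [hA] at h
    exact_mod_cast h
  rw [htwo, Nat.cast_ofNat, Set.encard_eq_two] at hcard
  obtain ⟨x, y, -, rfl⟩ := hcard
  have hl : m = Ideal.ofList [x, y] := by
    rw [← hs, Ideal.ofList]
    congr 1
    ext a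
    simp
  have hl' : m = Ideal.ofList [y, x] := by
    rw [hl, Ideal.ofList, Ideal.ofList]
    congr 1
    ext a
    simp [or_comm]
  have hx : x ∈ m := by rw [← hs]; exact Ideal.subset_span (by simp)
  have hy : y ∈ m := by rw [← hs]; exact Ideal.subset_span (by simp)
  obtain ⟨e, he⟩ := BlowUp.Basic.exists_iso hb' (Existence.isBlowUp_proj m)
  obtain ⟨U, hU, T, hUe, hbasic, hxT, hxU, hgen⟩ := exists_chart_data b e he hl hx hy
  obtain ⟨V, hV, S, hVe, -, hyS, -, -⟩ := exists_chart_data b e he hl' hy hx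
  rw [← hVe] at hbasic
  have hcov : U ⊔ V = ⊤ := by
    refine top_unique fun z _ => ?_
    obtain ⟨a, hal, ha, hz⟩ := BlowPerf.Global.exists_chart [x, y] hl (e.inv z)
    obtain ⟨w, hw⟩ := hz
    have hz' : (ProjRees.chart m ha ≫ e.hom) w = z := by
      rw [Scheme.Hom.comp_apply, hw, ← Scheme.Hom.comp_apply, Iso.inv_hom_id]; rfl
    rcases List.mem_cons.1 hal with rfl | h
    · exact Or.inl (hUe ▸ ⟨w, hz'⟩)
    · obtain rfl := List.mem_singleton.1 h
      exact Or.inr (hVe ▸ ⟨w, hz'⟩)
  have hST : rs (inf_le_right : U ⊓ V ≤ V) S * rs inf_le_left T = 1 := by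
    haveI := hU.isLocalization_of_eq_basicOpen (f := T) (homOfLE (inf_le_left : U ⊓ V ≤ U)) hbasic
    have hnz : rs (le_top : U ⊓ V ≤ ⊤) (AffineChart.glob b x) ∈ nonZeroDivisors Γ(X, U ⊓ V) := by
      rw [← rs_rs (le_top : U ≤ ⊤) inf_le_left]
      exact IdealSh.EffCartier.map_res_mem_nonZeroDivisors (U := ⟨U, hU⟩) (V := ⟨U ⊓ V, hbasic ▸ hU.basicOpen T⟩) (inf_le_left : U ⊓ V ≤ U) hxU
    refine sub_eq_zero.1 (mem_nonZeroDivisors_iff_right.1 hnz _ ?_)
    have h1 := congrArg (rs (inf_le_left : U ⊓ V ≤ U)) hxT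
    have h2 := congrArg (rs (inf_le_right : U ⊓ V ≤ V)) hyS
    rw [map_mul, rs_rs, rs_rs] at h1 h2
    linear_combination (rs (inf_le_right : U ⊓ V ≤ V) S) * h1 + h2
  obtain ⟨ι, p, hp⟩ := hgg
  refine BlowH1.subsingleton_HH_one F hU hV hcov fun c => ?_
  have hW : IsAffineOpen (U ⊓ V) := hbasic ▸ hU.basicOpen T
  obtain ⟨Sset, a, rfl⟩ := FlatMor.CechH1.exists_finset_sum (κ := ι) (show (∐ fun _ : ι => Coh.structureModule X) ⟶ F from p) hW c
  choose α β hαβ using fun i => split_of_generated (AffineChart.glob b) hU T S hbasic hgen hST (a i)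
  let sec : ι → Γ(F, ⊤) := fun i => (Sigma.ι (fun _ : ι => Coh.structureModule X) i ≫
    (show (∐ fun _ : ι => Coh.structureModule X) ⟶ F from p)).app ⊤ (1 : Γ(X, ⊤))
  refine ⟨∑ i ∈ Sset, α i • F.presheaf.map (homOfLE le_top).op (sec i),
    ∑ i ∈ Sset, β i • F.presheaf.map (homOfLE le_top).op (sec i), ?_⟩
  rw [map_sum, map_sum, ← Finset.sum_add_distrib]
  refine Finset.sum_congr rfl fun i _ => ?_
  have key : ∀ (O : X.Opens) (h : U ⊓ V ≤ O) (z : Γ(F, ⊤)), F.presheaf.map (homOfLE h).op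
      (F.presheaf.map (homOfLE (le_top : O ≤ ⊤)).op z) = F.presheaf.map (homOfLE le_top).op z := fun O h z => by
    rw [← CategoryTheory.comp_apply, ← Functor.map_comp]; rfl
  rw [Scheme.Modules.map_smul, Scheme.Modules.map_smul, key, key, hαβ i, add_smul]

end Groth.Agent.S1624
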