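import Groth.Statements.S16240
import Groth.Agent.CohDev.Coh
import Groth.Agent.VBLib.Basic
import Groth.Agent.Props.QProj
import Groth.Agent.S5791
import Groth.Agent.S0563
import Groth.Agent.RegLoc.PD
import Groth.Agent.DimIneq.Basic
import Mathlib.CategoryTheory.Abelian.Projective.Dimension
import Mathlib.Algebra.Category.ModuleCat.Projective
import Mathlib.Algebra.Homology.ExactSequence

set_option autoImplicit false
universe u
open CategoryTheory CategoryTheory.Limits AlgebraicGeometry
open Coh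

namespace Groth.Agent.S16240

section
open AlgebraicGeometry CategoryTheory CategoryTheory.Limits
open Groth.Agent

theorem pd_top_le {X : Scheme.{u}} [IsNoetherian X]
    (hreg : ∀ x : X, IsRegularLocalRing (X.presheaf.stalk x)) (m : ℕ)
    (hdim : topologicalKrullDim ↥X ≤ (m : WithBot ℕ∞)) {U : X.Opens} (hU : IsAffineOpen U)
    (M : Type u) [AddCommGroup M] [Module Γ(X, U) M] [Module.Finite Γ(X, U) M] :
    HasProjectiveDimensionLT (ModuleCat.of Γ(X, U) M) (m + 1) := by
  haveI := IsLocallyNoetherian.component_noetherian (X := X) ⟨U, hU⟩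
  refine (Groth.Agent.S5791.result Γ(X, U) M m).mpr fun p => ?_
  let x : U := ⟨hU.fromSpec p, hU.range_fromSpec.le ⟨p, rfl⟩⟩
  have hp : hU.primeIdealOf x = p := by
    apply hU.fromSpec.isOpenEmbedding.injective
    rw [hU.fromSpec_primeIdealOf]
  letI := X.presheaf.algebra_section_stalk x
  haveI h1 : IsLocalization.AtPrime (X.presheaf.stalk x.1) p.asIdeal := hp ▸ hU.isLocalization_stalk x
  let e := (IsLocalization.algEquiv p.asIdeal.primeCompl (X.presheaf.stalk x.1)
    (Localization.AtPrime p.asIdeal)).toRingEquiv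
  haveI := hreg x.1
  haveI : IsRegularLocalRing (Localization.AtPrime p.asIdeal) := IsRegularLocalRing.of_ringEquiv e
  have hd : ringKrullDim (Localization.AtPrime p.asIdeal) =
      ((IsLocalRing.maximalIdeal (Localization.AtPrime p.asIdeal)).spanFinrank : WithBot ℕ∞) :=
    (IsRegularLocalRing.spanFinrank_maximalIdeal (R := Localization.AtPrime p.asIdeal)).symm
  have hle : ringKrullDim (Localization.AtPrime p.asIdeal) ≤ (m : WithBot ℕ∞) := by
    rw [← ringKrullDim_eq_of_ringEquiv e]
    refine le_trans ?_ hdim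
    rw [Groth.Agent.DimIneq.topologicalKrullDim_eq_iSup_stalk X]
    exact le_iSup (fun y : X => ringKrullDim (X.presheaf.stalk y)) x.1
  have hdm : (IsLocalRing.maximalIdeal (Localization.AtPrime p.asIdeal)).spanFinrank ≤ m := by
    rw [hd] at hle
    exact_mod_cast hle
  exact Groth.Agent.RegLoc.PD.pd_mono _ hdm (Groth.Agent.S0563.result _ _ hd _)

/-- Sections of a kernel of an epimorphism out of a locally free module, in low projective dimension. -/
theorem pd_kernel_step {X : Scheme.{u}} {A B : X.Modules} (g : A ⟶ B) [Epi g]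
    (hA : FlatMod.IsFinLocFree A) (hB : Coh.IsQCoh B) {U : X.Opens} (hU : IsAffineOpen U) (n : ℕ) (hn : 0 < n)
    (h : HasProjectiveDimensionLT (ModuleCat.of Γ(X, U) Γ(B, U)) (n + 1)) :
    HasProjectiveDimensionLT (ModuleCat.of Γ(X, U) Γ(kernel g, U)) n := by
  haveI := (VBLib.isCoh_of_isFinLocFree hA).1
  haveI : B.IsQuasicoherent := hB
  let S₀ := ShortComplex.mk (kernel.ι g) g (kernel.condition g)
  let S : ShortComplex (ModuleCat.{u} Γ(X, U)) := ShortComplex.mk
    (ModuleCat.ofHom (CohDev.appLin (kernel.ι g) U)) (ModuleCat.ofHom (CohDev.appLin g U)) (by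
      ext a
      exact QCoh.app_app_eq_zero S₀ U a)
  have hS : S.ShortExact := by
    haveI : Mono S.f := (ModuleCat.mono_iff_injective _).2 (QCoh.app_injective_of_mono (kernel.ι g) U)
    haveI : Epi S.g := (ModuleCat.epi_iff_surjective _).2 (QCoh.app_surjective_of_epi g hU)
    refine ShortComplex.ShortExact.mk ?_
    rw [ShortComplex.moduleCat_exact_iff]
    intro a ha
    haveI : Mono S₀.f := inferInstanceAs (Mono (kernel.ι g))
    exact QCoh.exists_app_eq_of_app_eq_zero S₀ (ShortComplex.exact_of_f_is_kernel S₀ (kernelIsKernel g)) U a ha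
  haveI : Module.Projective Γ(X, U) Γ(A, U) := Props.QProj.projective_sections A hA hU
  haveI h2 : HasProjectiveDimensionLT S.X₂ 1 :=
    projective_iff_hasProjectiveDimensionLT_one.1
      ((IsProjective.iff_projective (R := Γ(X, U)) Γ(A, U)).1 inferInstance)
  exact hS.hasProjectiveDimensionLT_X₁ n (hasProjectiveDimensionLT_of_ge _ 1 n hn) h

theorem syzygy_sections {X : Scheme.{u}} [IsNoetherian X]
    (hreg : ∀ x : X, IsRegularLocalRing (X.presheaf.stalk x)) (m : ℕ)
    (hdim : topologicalKrullDim ↥X ≤ (m : WithBot ℕ∞))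
    (S : ComposableArrows X.Modules (m + 1)) (hS : S.Exact)
    (hepi : Epi (S.map' m (m + 1) (Nat.le_succ m) (le_refl (m + 1))))
    (hE : ∀ i : Fin m, FlatMod.IsFinLocFree (S.obj ⟨i.1 + 1, Nat.succ_lt_succ (Nat.lt_succ_of_lt i.2)⟩))
    (hF : Coh.IsCoh (S.obj (Fin.last (m + 1)))) {U : X.Opens} (hU : IsAffineOpen U) :
    ∀ j i : ℕ, i + j = m → ∀ (h1 : 1 ≤ i) (hi : i + 1 ≤ m + 1),
      Coh.IsCoh (kernel (S.map' i (i + 1) (Nat.le_succ i) hi)) ∧
        HasProjectiveDimensionLT (ModuleCat.of Γ(X, U) Γ(kernel (S.map' i (i + 1) (Nat.le_succ i) hi), U)) i := by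
  intro j
  induction j with
  | zero =>
    intro i hij h1 hi
    obtain rfl : i = m := by omega
    obtain ⟨i, rfl⟩ : ∃ i', i = i' + 1 := ⟨i - 1, by omega⟩
    have hAl := hE ⟨i, Nat.lt_succ_self i⟩
    refine ⟨CohDev.isCoh_kernel _ (VBLib.isCoh_of_isFinLocFree hAl) hF.1, ?_⟩
    haveI := hepi
    haveI : Module.Finite Γ(X, U) Γ(S.obj (Fin.last (i + 1 + 1)), U) := CohDev.finite_sections hF hU
    exact pd_kernel_step _ hAl hF.1 hU (i + 1) i.succ_pos
      (pd_top_le hreg (i + 1) hdim hU Γ(S.obj (Fin.last (i + 1 + 1)), U))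
  | succ j ih =>
    intro i hij h1 hi
    have hAl := hE ⟨i - 1, by omega⟩
    have hi' : i + 1 + 1 ≤ m + 1 := by omega
    have hobj : (⟨i - 1 + 1, by omega⟩ : Fin (m + 1 + 1)) = ⟨i, by omega⟩ := Fin.ext (by simp; omega)
    rw [hobj] at hAl
    have hBl := hE ⟨i, by omega⟩
    obtain ⟨hcoh, hpd⟩ := ih (i + 1) (by omega) (by omega) hi'
    let f := S.map' i (i + 1) (Nat.le_succ i) hi
    let g := S.map' (i + 1) (i + 1 + 1) (Nat.le_succ _) hi'
    refine ⟨CohDev.isCoh_kernel f (VBLib.isCoh_of_isFinLocFree hAl) (VBLib.isCoh_of_isFinLocFree hBl).1, ?_⟩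
    have hex : (ShortComplex.mk f g (hS.toIsComplex.zero i (by omega))).Exact := hS.exact i (by omega)
    haveI : Epi (kernel.lift g f (hS.toIsComplex.zero i (by omega))) :=
      (ShortComplex.exact_iff_epi_kernel_lift _).1 hex
    have h := pd_kernel_step (kernel.lift g f (hS.toIsComplex.zero i (by omega))) hAl hcoh.1 hU i h1 hpd
    let e : kernel (kernel.lift g f (hS.toIsComplex.zero i (by omega))) ≅ kernel f :=
      (kernelCompMono _ (kernel.ι g)).symm ≪≫ kernelIsoOfEq (kernel.lift_ι _ _ _)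
    exact hasProjectiveDimensionLT_of_iso (LinearEquiv.toModuleIso
      (LinearEquiv.ofBijective (CohDev.appLin e.hom U)
        (ConcreteCategory.bijective_of_isIso ((QCoh.sectionsFunctor X U).map e.hom)))) i

theorem isFinLocFree_of_sections {X : Scheme.{u}} (G : X.Modules) (hG : Coh.IsCoh G) [IsLocallyNoetherian X]
    (h : ∀ U : X.Opens, IsAffineOpen U → Module.Projective Γ(X, U) Γ(G, U)) : FlatMod.IsFinLocFree G := by
  intro x
  haveI := hG.1
  obtain ⟨U, hU, hx, -⟩ := exists_isAffineOpen_mem_and_subset (x := x) (U := ⊤) trivial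
  haveI := IsLocallyNoetherian.component_noetherian (X := X) ⟨U, hU⟩
  haveI := h U hU
  haveI : Module.Finite Γ(X, U) Γ(G, U) := CohDev.finite_sections hG hU
  exact Props.QProj.exists_free_nhd G hU hx (Module.finitePresentation_of_finite _ _)
    (Props.QProj.free_stalk_of_flat G hU hx)

theorem projective_of_pd_of_iso {X : Scheme.{u}} {G K : X.Modules} (e : G ≅ K) (U : X.Opens)
    (h : HasProjectiveDimensionLT (ModuleCat.of Γ(X, U) Γ(K, U)) 1) : Module.Projective Γ(X, U) Γ(G, U) := by
  have : Module.Projective Γ(X, U) Γ(K, U) :=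
    (IsProjective.iff_projective (R := Γ(X, U)) Γ(K, U)).2 (projective_iff_hasProjectiveDimensionLT_one.2 h)
  exact Module.Projective.of_equiv (LinearEquiv.ofBijective (CohDev.appLin e.inv U)
    (ConcreteCategory.bijective_of_isIso ((QCoh.sectionsFunctor X U).map e.inv)))

end

/-- Let X be a Noetherian scheme all of whose local rings are regular, of (topological Krull) dimension
at most m, and let S be an exact sequence of O_X-modules G ⟶ E_m ⟶ ⋯ ⟶ E_1 ⟶ F with m + 2 terms (G
in position 0, F in position m + 1), injective at the first map and surjective at the last, in which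
F is coherent and E_1, …, E_m are finite locally free. Then G is finite locally free. (The source
asks for p + 1 vector bundles with p ≥ dim X − 1, i.e. at least dim X of them, and finite dimension;
here m bounds the dimension.) -/
theorem result (X : Scheme.{u}) [IsNoetherian X]
    (hreg : ∀ x : X, IsRegularLocalRing (X.presheaf.stalk x)) (m : ℕ)
    (hdim : topologicalKrullDim ↥X ≤ (m : WithBot ℕ∞))
    (S : ComposableArrows X.Modules (m + 1)) (hS : S.Exact)
    (hmono : Mono (S.map' 0 1 (Nat.zero_le 1) (Nat.le_add_left 1 m)))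
    (hepi : Epi (S.map' m (m + 1) (Nat.le_succ m) (le_refl (m + 1))))
    (hE : ∀ i : Fin m, FlatMod.IsFinLocFree (S.obj ⟨i.1 + 1, Nat.succ_lt_succ (Nat.lt_succ_of_lt i.2)⟩))
    (hF : Coh.IsCoh (S.obj (Fin.last (m + 1)))) :
    FlatMod.IsFinLocFree (S.obj 0) := by
  obtain rfl | ⟨n, rfl⟩ : m = 0 ∨ ∃ n, m = n + 1 := by
    cases m with
    | zero => exact Or.inl rfl
    | succ n => exact Or.inr ⟨n, rfl⟩
  · haveI := hmono
    haveI := hepi
    haveI : IsIso (S.map' 0 1 (Nat.zero_le 1) (le_refl 1)) := isIso_of_mono_of_epi _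
    let e : S.obj 0 ≅ S.obj (Fin.last 1) := asIso (S.map' 0 1 (Nat.zero_le 1) (le_refl 1))
    refine isFinLocFree_of_sections _ (Groth.Agent.CohDev.isCoh_of_iso e.symm hF) fun U hU => ?_
    haveI := Groth.Agent.CohDev.finite_sections hF hU
    exact projective_of_pd_of_iso e U (pd_top_le hreg 0 hdim hU _)
  · let f := S.map' 0 1 (Nat.zero_le 1) (Nat.le_add_left 1 (n + 1))
    let g := S.map' 1 2 (Nat.le_succ 1) (by omega)
    have w : f ≫ g = 0 := hS.toIsComplex.zero 0 (by omega)
    haveI : Mono f := hmono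
    have hmL : Mono (kernel.lift g f w) := mono_of_mono_fac (kernel.lift_ι g f w)
    have heL : Epi (kernel.lift g f w) := (ShortComplex.exact_iff_epi_kernel_lift _).1 (hS.exact 0 (by omega))
    let e : S.obj 0 ≅ kernel g := @asIso _ _ _ _ (kernel.lift g f w) (@isIso_of_mono_of_epi _ _ _ _ _ (kernel.lift g f w) hmL heL)
    have hk : ∀ U : X.Opens, IsAffineOpen U → _ := fun U hU =>
      syzygy_sections hreg (n + 1) hdim S hS hepi hE hF hU n 1 (by omega) le_rfl (by omega)
    obtain ⟨U₀, hU₀⟩ : ∃ U : X.Opens, IsAffineOpen U := ⟨⊥, isAffineOpen_bot X⟩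
    exact isFinLocFree_of_sections _ (Groth.Agent.CohDev.isCoh_of_iso e.symm (hk U₀ hU₀).1)
      fun U hU => projective_of_pd_of_iso e U (hk U hU).2

end Groth.Agent.S16240
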