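import Groth.Statements.S16242
import Mathlib
import Groth.Agent.ResK0.Basic
open CategoryTheory CategoryTheory.Limits
-- import your own Groth.Agent.* helpers here

set_option autoImplicit false
set_option linter.style.haveILetI false
universe u
open CategoryTheory
open KZero

namespace Groth.Agent.S16242
variable {A : Type u} [CommRing A] [IsNoetherianRing A]

/-- Finite modules. -/
abbrev FinP (A : Type u) [CommRing A] : ObjectProperty (ModuleCat.{u} A) := fun M => Module.Finite A M

/-- The class of a finite module. -/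
noncomputable def cls (N : Type u) [AddCommGroup N] [Module A N] :
    KZero.K0sub (A := ModuleCat.{u} A) (FinP A) :=
  KZero.clSub (A := ModuleCat.{u} A) (FinP A) (ModuleCat.of A N)

theorem cls_exact {N₁ N₂ N₃ : Type u} [AddCommGroup N₁] [Module A N₁] [Module.Finite A N₁]
    [AddCommGroup N₂] [Module A N₂] [Module.Finite A N₂] [AddCommGroup N₃] [Module A N₃] [Module.Finite A N₃]
    (f : N₁ →ₗ[A] N₂) (g : N₂ →ₗ[A] N₃) (hf : Function.Injective f) (hg : Function.Surjective g)
    (h : Function.Exact f g) : cls (A := A) N₂ = cls (A := A) N₁ + cls (A := A) N₃ := by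
  let S : ShortComplex (ModuleCat.{u} A) := ShortComplex.moduleCatMk f g h.linearMap_comp_eq_zero
  have hS : S.ShortExact :=
    { exact := (ShortComplex.ShortExact.moduleCat_exact_iff_function_exact S).mpr h
      mono_f := (ModuleCat.mono_iff_injective _).mpr hf
      epi_g := (ModuleCat.epi_iff_surjective _).mpr hg }
  exact ResK0.Basic.clSub_add (FinP A) hS ‹Module.Finite A N₁› ‹Module.Finite A N₂› ‹Module.Finite A N₃›

theorem cls_subsingleton (N : Type u) [AddCommGroup N] [Module A N] [Subsingleton N] :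
    cls (A := A) N = 0 := by
  have h := cls_exact (A := A) (0 : N →ₗ[A] N) (0 : N →ₗ[A] N) (fun a b _ => Subsingleton.elim a b)
    (fun a => ⟨a, Subsingleton.elim _ _⟩) (fun a => ⟨fun _ => ⟨0, Subsingleton.elim _ _⟩, fun _ => rfl⟩)
  exact left_eq_add.mp h

theorem cls_congr {N N' : Type u} [AddCommGroup N] [Module A N] [Module.Finite A N]
    [AddCommGroup N'] [Module A N'] [Module.Finite A N'] (e : N ≃ₗ[A] N') :
    cls (A := A) N = cls (A := A) N' := by
  rw [cls_exact e.toLinearMap (0 : N' →ₗ[A] PUnit.{u + 1}) e.injective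
    (Function.surjective_to_subsingleton _) ((e.toLinearMap.exact_zero_iff_surjective _).mpr e.surjective),
    cls_subsingleton PUnit.{u + 1}, add_zero]

/-- Primes strictly above a prime `(x)` with principal ideals modulo it have trivial class. -/
theorem cls_quot_prime_eq (x : A) (hx : (Ideal.span {x}).IsPrime)
    [IsPrincipalIdealRing (A ⧸ Ideal.span {x})] (p : Ideal A) (hp : p.IsPrime) (hxp : x ∈ p) :
    cls (A := A) (A ⧸ p) = cls (A := A) (A ⧸ Ideal.span {x}) ∨ cls (A := A) (A ⧸ p) = 0 := by
  by_cases hpx : p = Ideal.span {x}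
  · subst hpx; exact Or.inl rfl
  refine Or.inr ?_
  haveI := hx
  let π := Ideal.Quotient.mk (Ideal.span {x})
  obtain ⟨f, hf⟩ := IsPrincipalIdealRing.principal (p.map π)
  obtain ⟨c, rfl⟩ := Ideal.Quotient.mk_surjective f
  have hle : Ideal.span {x} ≤ p := by rwa [Ideal.span_le, Set.singleton_subset_iff]
  have hc : π c ≠ 0 := by
    intro h0
    refine hpx (le_antisymm ?_ hle)
    intro a ha
    have : π a ∈ p.map π := Ideal.mem_map_of_mem _ ha
    rw [hf, show π c = 0 from h0, Submodule.span_singleton_eq_bot.mpr rfl, Submodule.mem_bot] at this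
    exact Ideal.Quotient.eq_zero_iff_mem.mp this
  let m : (A ⧸ Ideal.span {x}) →ₗ[A] (A ⧸ Ideal.span {x}) := LinearMap.mulLeft A (π c)
  let g : (A ⧸ Ideal.span {x}) →ₗ[A] (A ⧸ p) := (Ideal.Quotient.factorₐ A hle).toLinearMap
  have hex : Function.Exact m g := by
    intro b
    obtain ⟨b, rfl⟩ := Ideal.Quotient.mk_surjective b
    change Ideal.Quotient.mk p b = 0 ↔ _
    rw [Ideal.Quotient.eq_zero_iff_mem]
    constructor
    · intro hb
      have : π b ∈ p.map π := Ideal.mem_map_of_mem _ hb
      rw [hf] at this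
      obtain ⟨t, ht⟩ := Submodule.mem_span_singleton.mp this
      exact ⟨t, by rw [LinearMap.mulLeft_apply, mul_comm]; exact ht⟩
    · rintro ⟨t, ht⟩
      have : π b ∈ p.map π := by
        rw [hf]
        exact Submodule.mem_span_singleton.mpr ⟨t, by rw [smul_eq_mul, mul_comm]; exact ht⟩
      rwa [← Ideal.mem_comap, Ideal.comap_map_of_surjective _ Ideal.Quotient.mk_surjective,
        ← RingHom.ker_eq_comap_bot, Ideal.mk_ker, sup_eq_left.mpr hle] at this
  have h := cls_exact m g (mul_right_injective₀ hc) (Ideal.Quotient.factor_surjective hle) hex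
  exact left_eq_add.mp h

/-- The rank at a prime with Artinian localisation. -/
noncomputable def rk (P : Ideal A) [P.IsPrime] [IsArtinianRing (Localization.AtPrime P)] :
    KZero.K0sub (A := ModuleCat.{u} A) (FinP A) →+ ℤ :=
  QuotientAddGroup.lift _
    (FreeAbelianGroup.lift fun M : Subtype (FinP A) =>
      ((Module.length (Localization.AtPrime P) (LocalizedModule P.primeCompl M.1)).toNat : ℤ))
    (by
      rw [KZero.relSub, AddSubgroup.closure_le]
      rintro _ ⟨S, h₁, h₂, h₃, hS, rfl⟩
      haveI : Module.Finite A S.X₁ := h₁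
      haveI : Module.Finite A S.X₂ := h₂
      haveI : Module.Finite A S.X₃ := h₃
      let R' := Localization.AtPrime P
      have hadd := Module.length_eq_add_of_exact
        (LocalizedModule.map P.primeCompl S.f.hom) (LocalizedModule.map P.primeCompl S.g.hom)
        (LocalizedModule.map_injective _ _ ((ModuleCat.mono_iff_injective _).mp hS.mono_f))
        (LocalizedModule.map_surjective _ _ ((ModuleCat.epi_iff_surjective _).mp hS.epi_g))
        (LocalizedModule.map_exact _ _ _
          ((ShortComplex.ShortExact.moduleCat_exact_iff_function_exact S).mp hS.exact))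
      have hne : ∀ (N : Type u) [AddCommGroup N] [Module A N] [Module.Finite A N],
          Module.length R' (LocalizedModule P.primeCompl N) ≠ ⊤ := by
        intro N _ _ _
        haveI : Module.Finite R' (LocalizedModule P.primeCompl N) :=
          Module.Finite.of_isLocalizedModule P.primeCompl (LocalizedModule.mkLinearMap P.primeCompl N)
        rw [Module.length_ne_top_iff, isFiniteLength_iff_isNoetherian_isArtinian]
        exact ⟨inferInstance, inferInstance⟩
      simp only [SetLike.mem_coe, AddMonoidHom.mem_ker, map_sub, FreeAbelianGroup.lift_apply_of]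
      rw [hadd, ENat.toNat_add (hne S.X₁) (hne S.X₃)]
      push_cast
      ring)

theorem rk_cls (P : Ideal A) [P.IsPrime] [IsArtinianRing (Localization.AtPrime P)] (N : Type u)
    [AddCommGroup N] [Module A N] [Module.Finite A N] :
    rk P (cls (A := A) N) = ((Module.length (Localization.AtPrime P) (LocalizedModule P.primeCompl N)).toNat : ℤ) := by
  rw [cls, KZero.clSub, dif_pos (show (FinP A) (ModuleCat.of A N) from ‹Module.Finite A N›)]
  exact FreeAbelianGroup.lift_apply_of _ _

theorem isArtinian_atPrime (x y : A) (hxy : x * y = 0) [(Ideal.span {x}).IsPrime]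
    (hyx : y ∉ Ideal.span {x}) : IsArtinianRing (Localization.AtPrime (Ideal.span {x})) := by
  let L := Localization.AtPrime (Ideal.span {x})
  have hx0 : algebraMap A L x = 0 :=
    (IsLocalization.map_eq_zero_iff (Ideal.span {x}).primeCompl L x).mpr
      ⟨⟨y, hyx⟩, by rw [← hxy]; exact mul_comm y x⟩
  have hmax : IsLocalRing.maximalIdeal L = ⊥ := by
    rw [← IsLocalization.AtPrime.map_eq_maximalIdeal (Ideal.span {x}) L, Ideal.map_span,
      Set.image_singleton, hx0, Ideal.span_singleton_eq_bot.mpr rfl]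
  haveI : IsNoetherianRing L := IsLocalization.isNoetherianRing (Ideal.span {x}).primeCompl L inferInstance
  exact (isArtinianRing_iff_isNilpotent_maximalIdeal L).mpr ⟨1, by rw [hmax, pow_one]; rfl⟩

theorem rk_self_ne_zero (P : Ideal A) [P.IsPrime] [IsArtinianRing (Localization.AtPrime P)] :
    rk P (cls (A := A) (A ⧸ P)) ≠ 0 := by
  rw [rk_cls]
  let R' := Localization.AtPrime P
  haveI : Module.Finite R' (LocalizedModule P.primeCompl (A ⧸ P)) :=
    Module.Finite.of_isLocalizedModule P.primeCompl (LocalizedModule.mkLinearMap P.primeCompl (A ⧸ P))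
  have hnt : Nontrivial (LocalizedModule P.primeCompl (A ⧸ P)) := by
    refine ⟨LocalizedModule.mkLinearMap P.primeCompl _ 1, 0, fun h => ?_⟩
    obtain ⟨s, hs⟩ := LocalizedModule.mk_eq.mp (h.trans (LocalizedModule.zero_mk 1).symm)
    refine s.2 (Ideal.Quotient.eq_zero_iff_mem.mp ?_)
    simpa [Submonoid.smul_def, Algebra.smul_def] using hs
  simp only [ne_eq, Nat.cast_eq_zero, ENat.toNat_eq_zero, not_or]
  refine ⟨(Module.length_pos (R := R') (M := LocalizedModule P.primeCompl (A ⧸ P))).ne', ?_⟩
  exact Module.length_ne_top_iff.mpr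
    (isFiniteLength_iff_isNoetherian_isArtinian.mpr ⟨inferInstance, inferInstance⟩)

theorem rk_other_eq_zero (P : Ideal A) [P.IsPrime] [IsArtinianRing (Localization.AtPrime P)]
    (y : A) (hy : y ∉ P) : rk P (cls (A := A) (A ⧸ Ideal.span {y})) = 0 := by
  rw [rk_cls]
  haveI : Subsingleton (LocalizedModule P.primeCompl (A ⧸ Ideal.span {y})) := by
    rw [LocalizedModule.subsingleton_iff]
    intro m
    refine ⟨y, hy, ?_⟩
    obtain ⟨a, rfl⟩ := Ideal.Quotient.mk_surjective m
    rw [Algebra.smul_def]
    exact Ideal.Quotient.eq_zero_iff_mem.mpr (Ideal.mul_mem_right a _ (Ideal.mem_span_singleton_self y))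
  simp [Module.length_eq_zero]

/-- The classes of the two axes of a node form a basis. -/
theorem node_bijective (x y : A) (hxy : x * y = 0) [hx : (Ideal.span {x}).IsPrime]
    [hy : (Ideal.span {y}).IsPrime] (hyx : y ∉ Ideal.span {x}) (hxy' : x ∉ Ideal.span {y})
    [IsPrincipalIdealRing (A ⧸ Ideal.span {x})] [IsPrincipalIdealRing (A ⧸ Ideal.span {y})] :
    Function.Bijective (fun p : ℤ × ℤ =>
      p.1 • cls (A := A) (A ⧸ Ideal.span {x}) + p.2 • cls (A := A) (A ⧸ Ideal.span {y})) := by
  haveI := isArtinian_atPrime x y hxy hyx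
  haveI := isArtinian_atPrime y x (by rw [mul_comm, hxy]) hxy'
  refine ⟨fun p q h => ?_, fun z => ?_⟩
  · have h1 := congrArg (rk (Ideal.span {x})) h
    have h2 := congrArg (rk (Ideal.span {y})) h
    simp only [map_add, map_zsmul, rk_other_eq_zero _ y hyx, smul_zero, add_zero] at h1
    simp only [map_add, map_zsmul, rk_other_eq_zero _ x hxy', smul_zero, zero_add] at h2
    exact Prod.ext (smul_left_injective ℤ (rk_self_ne_zero (Ideal.span {x})) h1)
      (smul_left_injective ℤ (rk_self_ne_zero (Ideal.span {y})) h2)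
  · let H : AddSubgroup (KZero.K0sub (A := ModuleCat.{u} A) (FinP A)) :=
      AddSubgroup.closure {cls (A := A) (A ⧸ Ideal.span {x}), cls (A := A) (A ⧸ Ideal.span {y})}
    have hgen : ∀ (N : Type u) [AddCommGroup N] [Module A N] [Module.Finite A N],
        cls (A := A) N ∈ H := by
      intro N _ _ hN
      induction hN using IsNoetherianRing.induction_on_isQuotientEquivQuotientPrime A with
      | subsingleton N => rw [cls_subsingleton]; exact zero_mem _
      | quotient N p e =>
        rw [cls_congr e]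
        have hmem : x * y ∈ p.1 := by rw [hxy]; exact zero_mem _
        rcases p.2.mem_or_mem hmem with hm | hm
        · rcases cls_quot_prime_eq x hx p.1 p.2 hm with h | h <;> rw [h]
          · exact AddSubgroup.subset_closure (Set.mem_insert _ _)
          · exact zero_mem _
        · rcases cls_quot_prime_eq y hy p.1 p.2 hm with h | h <;> rw [h]
          · exact AddSubgroup.subset_closure (Set.mem_insert_of_mem _ rfl)
          · exact zero_mem _
      | exact N₁ N₂ N₃ f g hf hg hfg h₁ h₃ =>
        rw [cls_exact f g hf hg hfg]; exact add_mem h₁ h₃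
    have hz : z ∈ H := by
      induction z using QuotientAddGroup.induction_on with
      | H w =>
        induction w using FreeAbelianGroup.induction_on with
        | zero => exact zero_mem _
        | of M =>
          haveI : Module.Finite A M.1 := M.2
          have := hgen M.1
          rwa [cls, KZero.clSub, dif_pos (show (FinP A) (ModuleCat.of A M.1) from M.2)] at this
        | neg _ h => exact neg_mem h
        | add a b ha hb => exact add_mem ha hb
    obtain ⟨a, b, hab⟩ := AddSubgroup.mem_closure_pair.mp hz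
    exact ⟨(a, b), hab⟩

open MvPolynomial in
/-- `k[X₀, X₁]/(X₀ X₁)` modulo one coordinate is `k[T]`. -/
theorem axis (k : Type u) [Field k] (i j : Fin 2) (hij : i ≠ j) :
    let I : Ideal (MvPolynomial (Fin 2) k) := Ideal.span {X 0 * X 1}
    (Ideal.span {Ideal.Quotient.mk I (X i)}).IsPrime ∧
      IsPrincipalIdealRing ((MvPolynomial (Fin 2) k ⧸ I) ⧸ Ideal.span {Ideal.Quotient.mk I (X i)}) ∧
      Ideal.Quotient.mk I (X j) ∉ Ideal.span {Ideal.Quotient.mk I (X i)} := by
  intro I
  let A := MvPolynomial (Fin 2) k ⧸ I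
  let Q := A ⧸ Ideal.span {Ideal.Quotient.mk I (X i : MvPolynomial (Fin 2) k)}
  let φ : MvPolynomial (Fin 2) k →ₐ[k] Polynomial k := aeval fun l => if l = i then 0 else Polynomial.X
  have hI : ∀ a ∈ I, φ a = 0 := by
    intro a ha
    obtain ⟨t, rfl⟩ := Ideal.mem_span_singleton.mp ha
    have : i = 0 ∨ i = 1 := by omega
    rcases this with rfl | rfl <;> simp [φ]
  let φ₁ : A →ₐ[k] Polynomial k := Ideal.Quotient.liftₐ I φ hI
  have hφ1 : ∀ a ∈ Ideal.span {Ideal.Quotient.mk I (X i : MvPolynomial (Fin 2) k)}, φ₁ a = 0 := by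
    intro a ha
    obtain ⟨t, rfl⟩ := Ideal.mem_span_singleton.mp ha
    rw [map_mul, show φ₁ (Ideal.Quotient.mk I (X i)) = φ (X i) from rfl]
    simp [φ]
  let φ₂ : Q →ₐ[k] Polynomial k := Ideal.Quotient.liftₐ _ φ₁ hφ1
  let mkQ : MvPolynomial (Fin 2) k →ₐ[k] Q := (Ideal.Quotient.mkₐ k _).comp (Ideal.Quotient.mkₐ k I)
  let ψ : Polynomial k →ₐ[k] Q := Polynomial.aeval (mkQ (X j))
  have hψ : ψ.comp φ = mkQ := by
    ext l
    by_cases hl : l = i
    · subst hl
      rw [AlgHom.comp_apply, show φ (X l) = 0 by simp [φ], map_zero]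
      have hl0 : Ideal.Quotient.mk (Ideal.span {Ideal.Quotient.mk I (X l : MvPolynomial (Fin 2) k)})
          (Ideal.Quotient.mk I (X l)) = 0 :=
        Ideal.Quotient.eq_zero_iff_mem.mpr (Ideal.mem_span_singleton_self _)
      exact hl0.symm
    · have : l = j := by omega
      subst this
      simp [φ, ψ, hl]
  have hsurj : Function.Surjective ψ := fun q => by
    obtain ⟨a, rfl⟩ := Ideal.Quotient.mk_surjective q
    obtain ⟨b, rfl⟩ := Ideal.Quotient.mk_surjective a
    exact ⟨φ b, AlgHom.congr_fun hψ b⟩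
  have hinv : φ₂.comp ψ = AlgHom.id k _ := by
    refine Polynomial.algHom_ext ?_
    simp only [AlgHom.comp_apply, ψ, Polynomial.aeval_X, AlgHom.id_apply]
    change φ (X j) = _
    simp [φ, hij.symm]
  have hinj : Function.Injective ψ := fun a b h => by
    have := congrArg φ₂ h
    rwa [← AlgHom.comp_apply, ← AlgHom.comp_apply, hinv] at this
  have e := RingEquiv.ofBijective ψ.toRingHom ⟨hinj, hsurj⟩
  refine ⟨?_, IsPrincipalIdealRing.of_surjective ψ.toRingHom hsurj, fun h => ?_⟩
  · rw [← Ideal.Quotient.isDomain_iff_prime]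
    exact MulEquiv.isDomain (Polynomial k) e.symm.toMulEquiv
  · have h0 : ψ Polynomial.X = 0 := by
      rw [show ψ Polynomial.X = mkQ (X j) by simp [ψ]]
      exact Ideal.Quotient.eq_zero_iff_mem.mpr h
    exact Polynomial.X_ne_zero (hinj (h0.trans (map_zero ψ).symm))

/-- Let k be a field and A = k[x, y]/(xy) (polynomial ring in two variables x = X_0, y = X_1 modulo xy).
In the Grothendieck group of finitely generated A-modules (free abelian group on them modulo short
exact sequences), the classes of A/(x) ≅ k[y] and A/(y) ≅ k[x] form a basis: the homomorphism ℤ × ℤ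
⟶ K₀ sending (a, b) to a·[A/(x)] + b·[A/(y)] is bijective. -/
theorem result (k : Type u) [Field k] :
    Function.Bijective (fun p : ℤ × ℤ =>
      p.1 • KZero.clSub (fun M : ModuleCat.{u} (MvPolynomial (Fin 2) k ⧸ Ideal.span {(MvPolynomial.X 0 * MvPolynomial.X 1 : MvPolynomial (Fin 2) k)}) => Module.Finite (MvPolynomial (Fin 2) k ⧸ Ideal.span {(MvPolynomial.X 0 * MvPolynomial.X 1 : MvPolynomial (Fin 2) k)}) M)
          (ModuleCat.of (MvPolynomial (Fin 2) k ⧸ Ideal.span {(MvPolynomial.X 0 * MvPolynomial.X 1 : MvPolynomial (Fin 2) k)}) ((MvPolynomial (Fin 2) k ⧸ Ideal.span {(MvPolynomial.X 0 * MvPolynomial.X 1 : MvPolynomial (Fin 2) k)}) ⧸ Ideal.span {Ideal.Quotient.mk (Ideal.span {(MvPolynomial.X 0 * MvPolynomial.X 1 : MvPolynomial (Fin 2) k)}) (MvPolynomial.X 0)})) +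
        p.2 • KZero.clSub (fun M : ModuleCat.{u} (MvPolynomial (Fin 2) k ⧸ Ideal.span {(MvPolynomial.X 0 * MvPolynomial.X 1 : MvPolynomial (Fin 2) k)}) => Module.Finite (MvPolynomial (Fin 2) k ⧸ Ideal.span {(MvPolynomial.X 0 * MvPolynomial.X 1 : MvPolynomial (Fin 2) k)}) M)
          (ModuleCat.of (MvPolynomial (Fin 2) k ⧸ Ideal.span {(MvPolynomial.X 0 * MvPolynomial.X 1 : MvPolynomial (Fin 2) k)}) ((MvPolynomial (Fin 2) k ⧸ Ideal.span {(MvPolynomial.X 0 * MvPolynomial.X 1 : MvPolynomial (Fin 2) k)}) ⧸ Ideal.span {Ideal.Quotient.mk (Ideal.span {(MvPolynomial.X 0 * MvPolynomial.X 1 : MvPolynomial (Fin 2) k)}) (MvPolynomial.X 1)}))) := by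
  obtain ⟨hx, hxP, hyx⟩ := axis k 0 1 (by decide)
  obtain ⟨hy, hyP, hxy⟩ := axis k 1 0 (by decide)
  haveI := hx
  haveI := hy
  haveI := hxP
  haveI := hyP
  exact node_bijective _ _ (by
    rw [← map_mul, Ideal.Quotient.eq_zero_iff_mem]; exact Ideal.mem_span_singleton_self _) hyx hxy

end Groth.Agent.S16242
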