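import Groth.Statements.S16243
import Mathlib
import Groth.Agent.S16238
import Mathlib.CategoryTheory.Abelian.Projective.Dimension
import Mathlib.RingTheory.Length
import Mathlib.RingTheory.Flat.Basic

set_option autoImplicit false
universe u
open CategoryTheory
open CAlg

namespace Groth.Agent.S16243

open Groth.Agent.LocCoh.Tor CategoryTheory TensorProduct MonoidalCategory Limits in
theorem tor_vanish {A : Type u} [CommRing A] (N : ModuleCat.{u} A) : ∀ (n : ℕ) (M : ModuleCat.{u} A),
    HasProjectiveDimensionLT M n → ∀ i, n ≤ i → ∀ z : T (i + 1) M N, z = 0 := by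
  intro n
  induction n with
  | zero =>
    intro M hM i _ z
    haveI := ModuleCat.subsingleton_of_isZero (isZero_of_hasProjectiveDimensionLT_zero M)
    haveI : Module.Flat A M := inferInstance
    exact tor_succ_eq_zero_of_flat M i N z
  | succ n ih =>
    intro M hM i hi z
    rcases n with - | n
    · haveI : Projective M := projective_iff_hasProjectiveDimensionLT_one.2 hM
      haveI : Module.Projective A M := (IsProjective.iff_projective M).2 inferInstance
      exact tor_succ_eq_zero_of_flat M i N z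
    · let f : ((M : Type u) →₀ A) →ₗ[A] M := Finsupp.linearCombination A id
      have hS := LinearMap.shortExact_shortComplexKer (f := f) (fun m => ⟨Finsupp.single m 1, by simp [f]⟩)
      haveI : Projective (f.shortComplexKer).X₂ := (IsProjective.iff_projective (f.shortComplexKer).X₂).1 (inferInstanceAs (Module.Projective A ((M : Type u) →₀ A)))
      have hK : HasProjectiveDimensionLT (f.shortComplexKer).X₁ (n + 1) :=
        (hS.hasProjectiveDimensionLT_X₃_iff n inferInstance).1 hM
      obtain ⟨j, rfl⟩ : ∃ j, i = j + 1 := ⟨i - 1, by omega⟩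
      refine δ_injective_of_flat (S := f.shortComplexKer) hS (j + 1) N ?_
      exact ih _ hK j (by omega) _

theorem sub_mem_aux {A : Type u} [CommRing A] (I : Ideal A) (c : A) (z : A ⧸ I) (hc : c ∈ I) : c • z = 0 := by
  obtain ⟨z, rfl⟩ := Ideal.Quotient.mk_surjective z
  exact Ideal.Quotient.eq_zero_iff_mem.2 (I.mul_mem_right z hc)

open Groth.Agent.LocCoh.Tor CategoryTheory TensorProduct MonoidalCategory in
theorem node {A : Type u} [CommRing A] {m : Ideal A} (hm : m.IsMaximal) :
    ∀ (i : ℕ) (u v : A), u ∈ m → v ∈ m → (∀ a, a * v = 0 ↔ u ∣ a) → (∀ a, a * u = 0 ↔ v ∣ a) →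
      Module.length A (T i (ModuleCat.of A (A ⧸ Ideal.span {v})) (ModuleCat.of A (A ⧸ m))) = 1 ∧
      ∀ c ∈ m, ∀ z : T i (ModuleCat.of A (A ⧸ Ideal.span {v})) (ModuleCat.of A (A ⧸ m)), c • z = 0 := by
  have h1 : Module.length A (A ⧸ m) = 1 := by
    rw [Module.length_eq_one_iff]
    exact (isSimpleModule_iff_isCoatom).2 hm.out
  intro i
  induction i with
  | zero =>
    intro u v hu hv _ _
    have hle : (Ideal.span {v} • ⊤ : Submodule A (A ⧸ m)) = ⊥ := by
      rw [eq_bot_iff, Submodule.smul_le]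
      intro r hr z _
      obtain ⟨w, rfl⟩ := Ideal.mem_span_singleton.1 hr
      exact sub_mem_aux m _ z (m.mul_mem_right w hv)
    let e := ((t0 (ModuleCat.of A (A ⧸ Ideal.span {v})) (ModuleCat.of A (A ⧸ m))).toLinearEquiv.trans
      (TensorProduct.quotTensorEquivQuotSMul (A ⧸ m) (Ideal.span {v}))).trans (Submodule.quotEquivOfEqBot _ hle)
    refine ⟨e.length_eq.trans h1, fun c hc z => e.injective ?_⟩
    rw [map_smul, map_zero]
    exact sub_mem_aux m c _ hc
  | succ i ih =>
    intro u v hu hv huv hvu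
    let M := ModuleCat.of A (A ⧸ Ideal.span {u})
    let N := ModuleCat.of A (A ⧸ m)
    let f : (A ⧸ Ideal.span {u}) →ₗ[A] A := Submodule.liftQ (Ideal.span {u}) (LinearMap.mul A A v) (fun a ha => by
      show v * a = 0
      rw [mul_comm]
      exact (huv a).2 (Ideal.mem_span_singleton.1 ha))
    let S : ShortComplex (ModuleCat.{u} A) := ShortComplex.mk (X₁ := M) (X₂ := ModuleCat.of A A)
      (X₃ := ModuleCat.of A (A ⧸ Ideal.span {v})) (ModuleCat.ofHom f) (ModuleCat.ofHom (Submodule.mkQ _)) (by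
        refine ModuleCat.hom_ext (LinearMap.ext fun z => ?_)
        obtain ⟨a, rfl⟩ := Submodule.Quotient.mk_surjective _ z
        exact (Submodule.Quotient.mk_eq_zero _).2 (Ideal.mem_span_singleton.2 (Dvd.intro a rfl)))
    have hS : S.ShortExact := by
      refine { exact := (ShortComplex.ShortExact.moduleCat_exact_iff_function_exact S).2 ?_, mono_f := ?_, epi_g := ?_ }
      · intro z
        refine ⟨fun hz => ?_, ?_⟩
        · obtain ⟨w, rfl⟩ := Ideal.mem_span_singleton.1 ((Submodule.Quotient.mk_eq_zero _).1 hz)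
          exact ⟨Submodule.Quotient.mk w, rfl⟩
        · rintro ⟨w, rfl⟩
          exact congrArg (fun k => k.hom w) S.zero
      · refine (ModuleCat.mono_iff_injective _).2 ((injective_iff_map_eq_zero f).2 fun z hz => ?_)
        obtain ⟨a, rfl⟩ := Submodule.Quotient.mk_surjective _ z
        exact (Submodule.Quotient.mk_eq_zero _).2 (Ideal.mem_span_singleton.2 ((huv a).1 ((mul_comm a v).trans hz)))
      · exact (ModuleCat.epi_iff_surjective _).2 (Submodule.mkQ_surjective _)
    haveI : Module.Flat A S.X₂ := inferInstanceAs (Module.Flat A A)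
    obtain ⟨hlen, hkill⟩ := ih v u hv hu hvu huv
    have hinj : Function.Injective (torδ hS i N).hom :=
      (injective_iff_map_eq_zero _).2 fun z hz => δ_injective_of_flat hS i N hz
    have hzero : ∀ w : T i M N, (tf S.f i N).hom w = 0 := by
      intro w
      rcases i with - | i
      · apply eq_zero_of_hom (t0 S.X₂ N)
        refine (congrArg (fun k => k.hom w) (t0_naturality_left S.f N)).trans ?_
        show (S.f ▷ N).hom ((t0 M N).hom.hom w) = 0
        generalize (t0 M N).hom.hom w = t
        change (f.rTensor (A ⧸ m)) t = 0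
        induction t using TensorProduct.induction_on with
        | zero => exact map_zero _
        | tmul p q =>
          obtain ⟨a, rfl⟩ := Submodule.Quotient.mk_surjective _ p
          rw [LinearMap.rTensor_tmul]
          show (v * a : A) ⊗ₜ[A] q = 0
          rw [show (v * a : A) = v • a from rfl, TensorProduct.smul_tmul, sub_mem_aux m v q hv, tmul_zero]
        | add p q hp hq => rw [map_add, hp, hq, add_zero]
      · exact tor_succ_eq_zero_of_flat S.X₂ i N _
    have hbij : Function.Bijective (torδ hS i N).hom :=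
      ⟨hinj, fun w => ((tor_exact₁ hS i N w).1 (hzero w))⟩
    let e := LinearEquiv.ofBijective (torδ hS i N).hom hbij
    exact ⟨e.length_eq.trans hlen, fun c hc z => e.injective ((map_smul e c z).trans ((hkill c hc _).trans (map_zero e).symm))⟩

open Groth.Agent.LocCoh.Tor CategoryTheory TensorProduct MonoidalCategory in
theorem node_kappa {A : Type u} [CommRing A] {x y : A} (hm : (Ideal.span {x, y}).IsMaximal)
    (hxy : ∀ a, a * y = 0 ↔ x ∣ a) (hyx : ∀ a, a * x = 0 ↔ y ∣ a) (hreg : ∀ a, y ∣ a * x → y ∣ a) :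
    (∀ i, Module.length A (T (i + 1) (ModuleCat.of A (A ⧸ Ideal.span {x, y})) (ModuleCat.of A (A ⧸ Ideal.span {x, y}))) = 2) ∧
    ∀ n, ¬ HasProjectiveDimensionLT (ModuleCat.of A (A ⧸ Ideal.span {x, y})) n := by
  set m := Ideal.span {x, y}
  have hx : x ∈ m := Ideal.subset_span (by simp)
  have hy : y ∈ m := Ideal.subset_span (by simp)
  let M := ModuleCat.of A (A ⧸ Ideal.span {y})
  let N := ModuleCat.of A (A ⧸ m)
  have hle : Ideal.span {y} ≤ m := (Ideal.span_singleton_le_iff_mem _).2 hy
  let S : ShortComplex (ModuleCat.{u} A) := ShortComplex.mk (X₁ := M) (X₂ := M) (X₃ := N) (x • 𝟙 M)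
    (ModuleCat.ofHom (Submodule.factor hle)) (by
      refine ModuleCat.hom_ext (LinearMap.ext fun z => ?_)
      show Submodule.factor hle (x • z) = 0
      rw [map_smul]
      exact sub_mem_aux m x _ hx)
  have hS : S.ShortExact := by
    refine { exact := (ShortComplex.ShortExact.moduleCat_exact_iff_function_exact S).2 ?_, mono_f := ?_, epi_g := ?_ }
    · intro z
      refine ⟨fun hz => ?_, ?_⟩
      · obtain ⟨a, rfl⟩ := Submodule.Quotient.mk_surjective _ z
        obtain ⟨p, q, rfl⟩ := Ideal.mem_span_pair.1 ((Submodule.Quotient.mk_eq_zero _).1 hz : a ∈ m)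
        refine ⟨Submodule.Quotient.mk p, ?_⟩
        show x • (Submodule.Quotient.mk p : A ⧸ Ideal.span {y}) = Submodule.Quotient.mk (p * x + q * y)
        rw [← Submodule.Quotient.mk_smul, Submodule.Quotient.eq, smul_eq_mul, mul_comm x, sub_add_cancel_left]
        exact neg_mem (Ideal.mul_mem_left _ q (Ideal.mem_span_singleton_self y))
      · rintro ⟨w, rfl⟩
        exact congrArg (fun k => k.hom w) S.zero
    · refine (ModuleCat.mono_iff_injective _).2 ((injective_iff_map_eq_zero (x • 𝟙 M : M ⟶ M).hom).2 fun z hz => ?_)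
      obtain ⟨a, rfl⟩ := Submodule.Quotient.mk_surjective _ z
      have h : x * a ∈ Ideal.span {y} := (Submodule.Quotient.mk_eq_zero _).1 hz
      exact (Submodule.Quotient.mk_eq_zero _).2 (Ideal.mem_span_singleton.2 (hreg a (by rw [mul_comm]; exact Ideal.mem_span_singleton.1 h)))
    · exact (ModuleCat.epi_iff_surjective _).2 (Submodule.factor_surjective hle)
  have hf : ∀ i (z : T i M N), (tf S.f i N).hom z = 0 := fun i z => by
    show (tf (x • 𝟙 M) i N).hom z = 0
    rw [Groth.Agent.S16238.tf_smul]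
    exact (node hm i x y hx hy hxy hyx).2 x hx z
  have hlen : ∀ i, Module.length A (T (i + 1) N N) = 2 := by
    intro i
    have hinj : Function.Injective (tf S.g (i + 1) N).hom := (injective_iff_map_eq_zero _).2 fun z hz => by
      obtain ⟨w, rfl⟩ := (tor_exact₂ hS (i + 1) N z).1 hz
      exact hf _ w
    have hsurj : Function.Surjective (torδ hS i N).hom := fun z => (tor_exact₁ hS i N z).1 (hf i z)
    rw [Module.length_eq_add_of_exact _ _ hinj hsurj (tor_exact₃ hS i N),
      (node hm (i + 1) x y hx hy hxy hyx).1, (node hm i x y hx hy hxy hyx).1, one_add_one_eq_two]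
  refine ⟨hlen, fun n hn => ?_⟩
  haveI : Subsingleton (T (n + 1) N N) :=
    ⟨fun a b => (tor_vanish N n N hn n le_rfl a).trans (tor_vanish N n N hn n le_rfl b).symm⟩
  have h := hlen n
  rw [Module.length_eq_zero] at h
  exact absurd h (by decide)

/-- Let k be a field, A = k[x, y]/(xy) (x = X_0, y = X_1) and κ = A/(x, y) the residue field at the
origin, viewed as an A-module. Then for every i ≥ 1 the A-module Tor_i^A(κ, κ) has length 2 (it is a
two-dimensional κ-vector space; Tor_0 is κ), and κ admits no finite projective resolution over A: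
for no n is its projective dimension less than n. -/
theorem result (k : Type u) [Field k] :
    (∀ i : ℕ, 1 ≤ i →
      Module.length (MvPolynomial (Fin 2) k ⧸ Ideal.span {(MvPolynomial.X 0 * MvPolynomial.X 1 : MvPolynomial (Fin 2) k)}) ((((Tor (ModuleCat.{u} (MvPolynomial (Fin 2) k ⧸ Ideal.span {(MvPolynomial.X 0 * MvPolynomial.X 1 : MvPolynomial (Fin 2) k)})) i).obj (ModuleCat.of (MvPolynomial (Fin 2) k ⧸ Ideal.span {(MvPolynomial.X 0 * MvPolynomial.X 1 : MvPolynomial (Fin 2) k)}) ((MvPolynomial (Fin 2) k ⧸ Ideal.span {(MvPolynomial.X 0 * MvPolynomial.X 1 : MvPolynomial (Fin 2) k)}) ⧸ Ideal.span {Ideal.Quotient.mk (Ideal.span {(MvPolynomial.X 0 * MvPolynomial.X 1 : MvPolynomial (Fin 2) k)}) (MvPolynomial.X 0), Ideal.Quotient.mk (Ideal.span {(MvPolynomial.X 0 * MvPolynomial.X 1 : MvPolynomial (Fin 2) k)}) (MvPolynomial.X 1)}))).obj (ModuleCat.of (MvPolynomial (Fin 2) k ⧸ Ideal.span {(MvPolynomial.X 0 * MvPolynomial.X 1 : MvPolynomial (Fin 2) k)}) ((MvPolynomial (Fin 2) k ⧸ Ideal.span {(MvPolynomial.X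 0 * MvPolynomial.X 1 : MvPolynomial (Fin 2) k)}) ⧸ Ideal.span {Ideal.Quotient.mk (Ideal.span {(MvPolynomial.X 0 * MvPolynomial.X 1 : MvPolynomial (Fin 2) k)}) (MvPolynomial.X 0), Ideal.Quotient.mk (Ideal.span {(MvPolynomial.X 0 * MvPolynomial.X 1 : MvPolynomial (Fin 2) k)}) (MvPolynomial.X 1)}))) : Type u) = 2) ∧
    ∀ n : ℕ, ¬ HasProjectiveDimensionLT (ModuleCat.of (MvPolynomial (Fin 2) k ⧸ Ideal.span {(MvPolynomial.X 0 * MvPolynomial.X 1 : MvPolynomial (Fin 2) k)}) ((MvPolynomial (Fin 2) k ⧸ Ideal.span {(MvPolynomial.X 0 * MvPolynomial.X 1 : MvPolynomial (Fin 2) k)}) ⧸ Ideal.span {Ideal.Quotient.mk (Ideal.span {(MvPolynomial.X 0 * MvPolynomial.X 1 : MvPolynomial (Fin 2) k)}) (MvPolynomial.X 0), Ideal.Quotient.mk (Ideal.span {(MvPolynomial.X 0 * MvPolynomial.X 1 : MvPolynomial (Fin 2) k)}) (MvPolynomial.X 1)})) n := by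
  classical
  set P := MvPolynomial (Fin 2) k
  set J : Ideal P := Ideal.span {(MvPolynomial.X 0 * MvPolynomial.X 1 : P)} with hJ
  have hX : ∀ i j : Fin 2, i ≠ j → ∀ a : P, (MvPolynomial.X j : P) ∣ a * MvPolynomial.X i → (MvPolynomial.X j : P) ∣ a := by
    intro i j hij a h
    have hp : Prime (MvPolynomial.X j : P) := MvPolynomial.X_prime
    refine (hp.dvd_mul.1 h).resolve_right fun h' => hij ?_
    rw [MvPolynomial.X_dvd_X] at h'
    simpa [eq_comm] using h'
  have hann : ∀ i j : Fin 2, i ≠ j → (MvPolynomial.X i * MvPolynomial.X j : P) = MvPolynomial.X 0 * MvPolynomial.X 1 →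
      ∀ a : P ⧸ J, a * Ideal.Quotient.mk J (MvPolynomial.X j) = 0 ↔ Ideal.Quotient.mk J (MvPolynomial.X i) ∣ a := by
    intro i j hij hJ' a
    obtain ⟨a, rfl⟩ := Ideal.Quotient.mk_surjective a
    constructor
    · intro h
      rw [← map_mul, Ideal.Quotient.eq_zero_iff_mem, hJ, Ideal.mem_span_singleton, ← hJ'] at h
      exact map_dvd _ ((mul_dvd_mul_iff_right (MvPolynomial.X_ne_zero j)).1 h)
    · rintro ⟨c, hc⟩
      rw [hc, mul_comm _ c, mul_assoc, ← map_mul, hJ', Ideal.Quotient.eq_zero_iff_mem.2 (Ideal.mem_span_singleton_self _), mul_zero]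
  have hm : (Ideal.span {Ideal.Quotient.mk J (MvPolynomial.X 0), Ideal.Quotient.mk J (MvPolynomial.X 1)}).IsMaximal := by
    have hmax : (RingHom.ker (MvPolynomial.constantCoeff (σ := Fin 2) (R := k))).IsMaximal :=
      RingHom.ker_isMaximal_of_surjective _ (fun c => ⟨MvPolynomial.C c, MvPolynomial.constantCoeff_C _ c⟩)
    have hker : RingHom.ker (MvPolynomial.constantCoeff (σ := Fin 2) (R := k)) = Ideal.span {(MvPolynomial.X 0 : P), MvPolynomial.X 1} := by
      refine le_antisymm (fun p hp => ?_) (Ideal.span_le.2 ?_)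
      · rw [show ({(MvPolynomial.X 0 : P), MvPolynomial.X 1} : Set P) = MvPolynomial.X '' Set.univ by ext; simp [Fin.exists_fin_two, eq_comm]]
        rw [MvPolynomial.mem_ideal_span_X_image]
        intro d hd
        by_contra h
        push Not at h
        have hd0 : d = 0 := Finsupp.ext fun i => h i (Set.mem_univ i)
        rw [hd0, MvPolynomial.mem_support_iff] at hd
        exact hd hp
      · rintro p (rfl | rfl) <;> simp
    rw [hker] at hmax
    rw [show Ideal.span {Ideal.Quotient.mk J (MvPolynomial.X 0), Ideal.Quotient.mk J (MvPolynomial.X 1)} =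
      (Ideal.span {(MvPolynomial.X 0 : P), MvPolynomial.X 1}).map (Ideal.Quotient.mk J) by
      rw [Ideal.map_span, Set.image_pair]]
    refine Ideal.IsMaximal.map_of_surjective_of_ker_le Ideal.Quotient.mk_surjective ?_
    rw [Ideal.mk_ker, hJ, Ideal.span_singleton_le_iff_mem]
    exact Ideal.mul_mem_right _ _ (Ideal.subset_span (Set.mem_insert _ _))
  obtain ⟨h1, h2⟩ := node_kappa hm (hann 0 1 (by decide) rfl) (hann 1 0 (by decide) (mul_comm _ _)) (fun a h => by
    obtain ⟨a, rfl⟩ := Ideal.Quotient.mk_surjective a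
    obtain ⟨c, hc⟩ := h
    obtain ⟨c, rfl⟩ := Ideal.Quotient.mk_surjective c
    rw [← map_mul, ← map_mul, Ideal.Quotient.mk_eq_mk_iff_sub_mem, hJ, Ideal.mem_span_singleton] at hc
    refine map_dvd _ (hX 0 1 (by decide) a ?_)
    obtain ⟨d, hd⟩ := hc
    exact ⟨c + MvPolynomial.X 0 * d, by linear_combination hd⟩)
  refine ⟨fun i hi => ?_, h2⟩
  obtain ⟨j, rfl⟩ : ∃ j, i = j + 1 := ⟨i - 1, by omega⟩
  exact h1 j

end Groth.Agent.S16243
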