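import Groth.Statements.S16244
import Mathlib.AlgebraicGeometry.EllipticCurve.NormalForms
import Mathlib.RingTheory.RootsOfUnity.EnoughRootsOfUnity
import Mathlib.RingTheory.RootsOfUnity.AlgebraicallyClosed
import Mathlib.Tactic.FieldSimp
import Mathlib.Tactic.LinearCombination
import Mathlib.Tactic.NormNum

set_option autoImplicit false
universe u
open Curves

namespace Groth.Agent.S16244

/-- the stabilizer, given by its defining equations, as a group of roots of unity -/
def stabilizerEquiv (k : Type u) [Field k] (W : WeierstrassCurve k) (n : ℕ)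
    (hC : ∀ C : WeierstrassCurve.VariableChange k, C • W = W ↔
      (C.r = 0 ∧ C.s = 0 ∧ C.t = 0 ∧ C.u ^ n = 1)) :
    ↥(MulAction.stabilizer (WeierstrassCurve.VariableChange k) W) ≃* rootsOfUnity n k where
  toFun C := ⟨C.1.u, ((hC C.1).1 C.2).2.2.2⟩
  invFun u := ⟨⟨u.1, 0, 0, 0⟩, (hC _).2 ⟨rfl, rfl, rfl, u.2⟩⟩
  left_inv C := by
    obtain ⟨hr, hs, ht, -⟩ := (hC C.1).1 C.2
    exact Subtype.ext (WeierstrassCurve.VariableChange.ext rfl hr.symm hs.symm ht.symm)
  right_inv u := rfl
  map_mul' C D := rfl

/-- Let k be an algebraically closed field in which 2 and 3 are nonzero, and W a short Weierstrass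
equation y² = x³ + a₄x + a₆ over k with nonzero discriminant. The admissible changes of variables
(u, r, s, t) that fix W form a cyclic group, of order 6 when a₄ = 0, of order 4 when a₆ = 0, and of
order 2 when a₄ and a₆ are both nonzero. (The published statement says the automorphism group of the
elliptic curve is cyclic of order 2, 4 or 6; the automorphisms are rendered here as the changes of
variables preserving the equation, and the case distinction is the one the computation gives.) -/
theorem result
    (k : Type u) [Field k] [IsAlgClosed k] (h2 : (2 : k) ≠ 0) (h3 : (3 : k) ≠ 0)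
    (W : WeierstrassCurve k) [W.IsShortNF] (hΔ : W.Δ ≠ 0) :
    IsCyclic ↥(MulAction.stabilizer (WeierstrassCurve.VariableChange k) W) ∧
      (W.a₄ = 0 → Nat.card ↥(MulAction.stabilizer (WeierstrassCurve.VariableChange k) W) = 6) ∧
      (W.a₆ = 0 → Nat.card ↥(MulAction.stabilizer (WeierstrassCurve.VariableChange k) W) = 4) ∧
      (W.a₄ ≠ 0 → W.a₆ ≠ 0 → Nat.card ↥(MulAction.stabilizer (WeierstrassCurve.VariableChange k) W) = 2) := by
  have h : ∀ n : ℕ, (n : k) ≠ 0 → (∀ C : WeierstrassCurve.VariableChange k, C • W = W ↔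
      (C.r = 0 ∧ C.s = 0 ∧ C.t = 0 ∧ C.u ^ n = 1)) →
      IsCyclic ↥(MulAction.stabilizer (WeierstrassCurve.VariableChange k) W) ∧
        Nat.card ↥(MulAction.stabilizer (WeierstrassCurve.VariableChange k) W) = n := by
    intro n hn hC
    haveI : NeZero (n : k) := ⟨hn⟩
    haveI : NeZero n := NeZero.of_neZero_natCast k
    let e := stabilizerEquiv k W n hC
    refine ⟨isCyclic_of_surjective e.symm.toMonoidHom e.symm.surjective, ?_⟩
    rw [Nat.card_congr e.toEquiv, HasEnoughRootsOfUnity.natCard_rootsOfUnity]
  have key : ∀ C : WeierstrassCurve.VariableChange k, C • W = W ↔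
      (C.r = 0 ∧ C.s = 0 ∧ C.t = 0 ∧ W.a₄ * ((C.u : k) ^ 4 - 1) = 0 ∧ W.a₆ * ((C.u : k) ^ 6 - 1) = 0) := by
    intro C
    have hu : (C.u : k) ≠ 0 := C.u.ne_zero
    constructor
    · intro hC
      rw [WeierstrassCurve.variableChange_def] at hC
      have e1 := congrArg WeierstrassCurve.a₁ hC
      have e2 := congrArg WeierstrassCurve.a₂ hC
      have e3 := congrArg WeierstrassCurve.a₃ hC
      have e4 := congrArg WeierstrassCurve.a₄ hC
      have e6 := congrArg WeierstrassCurve.a₆ hC
      simp only [WeierstrassCurve.a₁_of_isShortNF, WeierstrassCurve.a₂_of_isShortNF,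
        WeierstrassCurve.a₃_of_isShortNF, Units.val_inv_eq_inv_val] at e1 e2 e3 e4 e6
      have hs : C.s = 0 := by
        field_simp at e1
        have : (2 : k) * C.s = 0 := by linear_combination e1
        exact (mul_eq_zero.1 this).resolve_left h2
      have hr : C.r = 0 := by
        rw [hs] at e2
        field_simp at e2
        have : (3 : k) * C.r = 0 := by linear_combination e2
        exact (mul_eq_zero.1 this).resolve_left h3
      have ht : C.t = 0 := by
        rw [hr] at e3
        field_simp at e3
        have : (2 : k) * C.t = 0 := by linear_combination e3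
        exact (mul_eq_zero.1 this).resolve_left h2
      rw [hr, hs, ht] at e4
      rw [hr, ht] at e6
      field_simp at e4 e6
      exact ⟨hr, hs, ht, by linear_combination -e4, by linear_combination -e6⟩
    · rintro ⟨hr, hs, ht, h4, h6⟩
      rw [WeierstrassCurve.variableChange_def]
      ext <;> simp [hr, hs, ht]
      · field_simp
        linear_combination -h4
      · field_simp
        linear_combination -h6
  have hn6 : ((6 : ℕ) : k) ≠ 0 := by
    rw [show ((6 : ℕ) : k) = 2 * 3 by norm_num]
    exact mul_ne_zero h2 h3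
  have hn4 : ((4 : ℕ) : k) ≠ 0 := by
    rw [show ((4 : ℕ) : k) = 2 * 2 by norm_num]
    exact mul_ne_zero h2 h2
  have hn2 : ((2 : ℕ) : k) ≠ 0 := by exact_mod_cast h2
  rw [WeierstrassCurve.Δ_of_isShortNF] at hΔ
  by_cases h4 : W.a₄ = 0
  · have h6 : W.a₆ ≠ 0 := fun h6 => hΔ (by simp [h4, h6])
    obtain ⟨hc, hn⟩ := h 6 hn6 (fun C => by
      rw [key C, h4, ← Units.val_inj]
      simp [h6, sub_eq_zero])
    exact ⟨hc, fun _ => hn, fun h => absurd h h6, fun h => absurd h4 h⟩
  · by_cases h6 : W.a₆ = 0
    · obtain ⟨hc, hn⟩ := h 4 hn4 (fun C => by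
        rw [key C, h6, ← Units.val_inj]
        simp [h4, sub_eq_zero])
      exact ⟨hc, fun h => absurd h h4, fun _ => hn, fun _ h => absurd h6 h⟩
    · obtain ⟨hc, hn⟩ := h 2 hn2 (fun C => by
        rw [key C, ← Units.val_inj]
        simp only [mul_eq_zero, h4, h6, false_or, sub_eq_zero, Units.val_pow_eq_pow_val, Units.val_one]
        constructor
        · rintro ⟨a, b, c, e4, e6⟩
          exact ⟨a, b, c, by linear_combination e6 - (C.u : k) ^ 2 * e4⟩
        · rintro ⟨a, b, c, e⟩
          exact ⟨a, b, c, by linear_combination ((C.u : k) ^ 2 + 1) * e,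
            by linear_combination ((C.u : k) ^ 4 + (C.u : k) ^ 2 + 1) * e⟩)
      exact ⟨hc, fun h => absurd h h4, fun h => absurd h h6, fun _ _ => hn⟩

end Groth.Agent.S16244
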