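import Groth.Statements.S16247
import Groth.Agent.VanFlat12.IdealLocus

set_option autoImplicit false
set_option linter.style.haveILetI false
universe u
open CategoryTheory CategoryTheory.Limits AlgebraicGeometry MonObj
open AgPol

namespace Groth.Agent.S16247

/-- An effective Cartier divisor is of finite presentation in the ambient scheme. -/
theorem lfp_of_isEffCartierIdeal {X : Scheme.{u}} {I : X.IdealSheafData}
    (hI : BlowUp.IsEffCartierIdeal I) : LocallyOfFinitePresentation I.subschemeι := by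
  refine (HasRingHomProperty.iff_exists_appLE (P := @LocallyOfFinitePresentation)
    (RingHom.finitePresentation_stableUnderComposition.stableUnderCompositionWithLocalizationAway
      RingHom.finitePresentation_holdsForLocalizationAway).left).mpr fun d => ?_
  obtain ⟨V, hV, t, -, ht⟩ := hI (I.subschemeι d)
  refine ⟨V, ⟨_, V.2.preimage I.subschemeι⟩, hV, le_rfl, ?_⟩
  rw [← Scheme.Hom.app_eq_appLE, I.subschemeι_app V]
  refine (RingHom.finitePresentation_respectsIso).1 _ (I.subschemeObjIso V).symm.commRingCatIsoToRingEquiv ?_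
  refine RingHom.FinitePresentation.of_surjective _ Ideal.Quotient.mk_surjective ?_
  show (RingHom.ker (Ideal.Quotient.mk (I.ideal V))).FG
  rw [Ideal.mk_ker, ht]
  exact Submodule.fg_span_singleton t

/-- Factoring through a closed subscheme, in terms of inverse images of its ideal. -/
theorem factors_iff {X T : Scheme.{u}} (I : X.IdealSheafData) (m : T ⟶ X) :
    (∃ d, d ≫ I.subschemeι = m) ↔ I.comap m = ⊥ := by
  rw [← le_bot_iff, ← Scheme.IdealSheafData.le_map_iff_comap_le, Scheme.IdealSheafData.map_bot]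
  refine ⟨?_, fun h => ⟨IsClosedImmersion.lift I.subschemeι m (I.ker_subschemeι.le.trans h),
    IsClosedImmersion.lift_fac _ _ _⟩⟩
  rintro ⟨d, rfl⟩
  exact I.ker_subschemeι.ge.trans (Scheme.Hom.le_ker_comp _ _)

/-- The locus over which a universal point of `E` lies in a closed subscheme. -/
theorem exists_point_locus {S : Scheme.{u}} (E : Over S) (I : E.left.IdealSheafData) {D : Scheme.{u}}
    (q : D ⟶ S) [IsProper q] [LocallyOfFinitePresentation q] [Flat q] (x₀ : Over.mk q ⟶ E) :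
    ∃ Z : S.IdealSheafData, ∀ (T : Scheme.{u}) (g : T ⟶ S),
      Z.comap g = ⊥ ↔ ∀ (T' : Scheme.{u}) (a : T' ⟶ T) (d : Over.mk (a ≫ g) ⟶ Over.mk q),
        ∃ d', d' ≫ I.subschemeι = (d ≫ x₀).left := by
  obtain ⟨Z, i, hi, hZ⟩ := VanFlat12.exists_ideal_vanishing q (I.comap x₀.left)
  obtain ⟨𝓩, h𝓩⟩ := VanFlat12.exists_idealSheafData_iff i
  refine ⟨𝓩, fun T g => ((factors_iff 𝓩 g).symm.trans ((h𝓩 T g).trans (hZ T g))).trans ?_⟩
  rw [← Scheme.IdealSheafData.comap_comp, ← factors_iff]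
  refine ⟨fun ⟨d', hd'⟩ T' a d => ?_, fun h => ?_⟩
  · refine ⟨pullback.lift (f := q) (g := g) d.left a (Over.w d) ≫ d', ?_⟩
    rw [Category.assoc, hd', pullback.lift_fst_assoc]
    rfl
  · exact h _ (pullback.snd q g) (Over.homMk (pullback.fst q g) pullback.condition)


/-- Let E be an S-group scheme which is smooth and proper over S with geometrically connected fibres of
dimension one (a family of elliptic curves over S with its group law), and let D ⊆ E be an effective
Cartier divisor with ideal sheaf 𝓓 such that D is flat over S (a relative effective Cartier divisor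
on E/S). Then there is a closed subscheme Z ⊆ S such that a morphism g : T → S factors through Z
exactly when the pulled-back closed subscheme D_T ⊆ E_T is a subgroup scheme of E_T over T, that is,
when for every scheme T' over T the T'-valued points of E (over S) that factor through D form a
subgroup of the group of all T'-valued points. This universal property determines Z, and
compatibility of Z with base change follows from it. -/
theorem result
    {S : Scheme.{u}} (E : Over S) [GrpObj E] (hE : AgPol.IsAbSch E 1)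
    (𝓓 : E.left.IdealSheafData) (hD : BlowUp.IsEffCartierIdeal 𝓓) [Flat (𝓓.subschemeι ≫ E.hom)] :
    ∃ 𝓩 : S.IdealSheafData, ∀ (T : Scheme.{u}) (g : T ⟶ S),
      (∃ t : T ⟶ 𝓩.subscheme, t ≫ 𝓩.subschemeι = g) ↔
        ∀ (T' : Scheme.{u}) (a : T' ⟶ T), ∃ H : Subgroup (Over.mk (a ≫ g) ⟶ E),
          (H : Set (Over.mk (a ≫ g) ⟶ E)) =
            {x | ∃ d : T' ⟶ 𝓓.subscheme, d ≫ 𝓓.subschemeι = x.left} := by
  haveI := hE.proper
  haveI := hE.smooth
  haveI := lfp_of_isEffCartierIdeal hD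
  let q := 𝓓.subschemeι ≫ E.hom
  let ιD : Over.mk q ⟶ E := Over.homMk 𝓓.subschemeι rfl
  let q₂ := pullback.fst q q ≫ q
  let p₁ : Over.mk q₂ ⟶ Over.mk q := Over.homMk (pullback.fst q q) rfl
  let p₂ : Over.mk q₂ ⟶ Over.mk q := Over.homMk (pullback.snd q q) pullback.condition.symm
  obtain ⟨Z₁, h₁⟩ := exists_point_locus E 𝓓 (𝟙 S) (1 : Over.mk (𝟙 S) ⟶ E)
  obtain ⟨Z₂, h₂⟩ := exists_point_locus E 𝓓 q (ιD⁻¹)
  obtain ⟨Z₃, h₃⟩ := exists_point_locus E 𝓓 q₂ ((p₁ ≫ ιD) * (p₂ ≫ ιD))
  refine ⟨Z₁ ⊔ Z₂ ⊔ Z₃, fun T g => (factors_iff _ g).trans ?_⟩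
  rw [Scheme.IdealSheafData.comap_sup, Scheme.IdealSheafData.comap_sup, sup_eq_bot_iff, sup_eq_bot_iff,
    h₁, h₂, h₃]
  have hmem : ∀ {T' : Scheme.{u}} {a : T' ⟶ T} (x : Over.mk (a ≫ g) ⟶ E),
      (∃ d, d ≫ 𝓓.subschemeι = x.left) → ∃ d : Over.mk (a ≫ g) ⟶ Over.mk q, d ≫ ιD = x := by
    rintro T' a x ⟨d, hd⟩
    refine ⟨Over.homMk d (show d ≫ 𝓓.subschemeι ≫ E.hom = a ≫ g by
      rw [← Category.assoc, hd]; exact Over.w x), ?_⟩
    ext
    exact hd
  constructor
  · rintro ⟨⟨h1, h2⟩, h3⟩ T' a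
    refine ⟨{ carrier := {x | ∃ d : T' ⟶ 𝓓.subscheme, d ≫ 𝓓.subschemeι = x.left}
              one_mem' := ?_
              mul_mem' := ?_
              inv_mem' := ?_ }, rfl⟩
    · intro x y hx hy
      obtain ⟨d, rfl⟩ := hmem x hx
      obtain ⟨e, rfl⟩ := hmem y hy
      let de : Over.mk (a ≫ g) ⟶ Over.mk q₂ := Over.homMk (pullback.lift d.left e.left ((Over.w d).trans (Over.w e).symm))
        (show _ ≫ pullback.fst q q ≫ q = _ by rw [pullback.lift_fst_assoc]; exact Over.w d)
      have hd : de ≫ p₁ = d := by ext; exact pullback.lift_fst _ _ _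
      have he : de ≫ p₂ = e := by ext; exact pullback.lift_snd _ _ _
      obtain ⟨w, hw⟩ := h3 T' a de
      refine ⟨w, hw.trans ?_⟩
      rw [MonObj.comp_mul, ← Category.assoc, ← Category.assoc, hd, he]
    · obtain ⟨w, hw⟩ := h1 T' a (Over.homMk (a ≫ g) (Category.comp_id _))
      refine ⟨w, hw.trans ?_⟩
      rw [MonObj.comp_one]
    · intro x hx
      obtain ⟨d, rfl⟩ := hmem x hx
      obtain ⟨w, hw⟩ := h2 T' a d
      refine ⟨w, hw.trans ?_⟩
      rw [GrpObj.comp_inv]
  · intro h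
    have key : ∀ (T' : Scheme.{u}) (a : T' ⟶ T) (d : Over.mk (a ≫ g) ⟶ Over.mk q),
        (d ≫ ιD) ∈ {x : Over.mk (a ≫ g) ⟶ E | ∃ d', d' ≫ 𝓓.subschemeι = x.left} :=
      fun T' a d => ⟨d.left, rfl⟩
    refine ⟨⟨fun T' a d => ?_, fun T' a d => ?_⟩, fun T' a d => ?_⟩
    · obtain ⟨H, hH⟩ := h T' a
      rw [MonObj.comp_one]
      exact hH.le H.one_mem
    · obtain ⟨H, hH⟩ := h T' a
      rw [GrpObj.comp_inv]
      exact hH.le (H.inv_mem (hH.ge (key T' a d)))
    · obtain ⟨H, hH⟩ := h T' a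
      rw [MonObj.comp_mul, ← Category.assoc, ← Category.assoc]
      exact hH.le (H.mul_mem (hH.ge (key T' a _)) (hH.ge (key T' a _)))

end Groth.Agent.S16247
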