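import Groth.Statements.S16251
import Groth.Agent.EtConsAb.SubFLC

set_option autoImplicit false
open CategoryTheory CategoryTheory.Limits AlgebraicGeometry Opposite
universe u
open EtPBC

namespace Groth.Agent.S16251

/-- Let ℓ be a prime, X a locally Noetherian scheme and F = (F_n) an ℓ-adic projective system of abelian
sheaves on the small étale site of X, indexed from 0 (so ℓ^(n+1) F_n = 0 and, for n ≤ m, the
transition map F_m ⟶ F_n is a quotient map modulo ℓ^(n+1)). If the first member F_0 is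
constructible, then every member F_n is constructible. (The converse is trivial. The published
statement indexes the system from 1, with ℓ^n killing the n-th member; the statement here indexes it
from 0.) -/
theorem result (ℓ : ℕ) [Fact ℓ.Prime]
    (X : Scheme.{u}) [IsLocallyNoetherian X]
    (F : ARSys.PS (EtCoh.Ab X)) (hF : ARSys.IsAdic (Ideal.span {(ℓ : ℤ)}) F)
    (h0 : EtPBC.IsConstructible (F.obj (op 0))) (n : ℕ) :
    EtPBC.IsConstructible (F.obj (op n)) := by
  induction n with
  | zero => exact h0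
  | succ n ih =>
    let p := ARSys.tr F (Nat.le_succ n)
    let p₀ := ARSys.tr F (Nat.zero_le (n + 1))
    have hp := hF.2 n (n + 1) (Nat.le_succ n)
    have hp₀ := hF.2 0 (n + 1) (Nat.zero_le _)
    have hmem : ∀ k : ℕ, (ℓ : ℤ) ^ k ∈ Ideal.span {(ℓ : ℤ)} ^ k := fun k =>
      Ideal.pow_mem_pow (Ideal.mem_span_singleton_self _) k
    let c : ℤ := (ℓ : ℤ) ^ (n + 1)
    have hkill : ARSys.HomKilledBy (Ideal.span {(ℓ : ℤ)} ^ (0 + 1))
        (c • 𝟙 (F.obj (op (n + 1)))) := fun a ha => by
      rw [smul_smul]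
      refine hF.1 (n + 1) _ ?_
      have h := Ideal.mul_mem_mul ha (hmem (n + 1))
      rw [← pow_add, show 0 + 1 + (n + 1) = n + 1 + 1 by omega] at h
      exact h
    obtain ⟨ψ, hψ, -⟩ := hp₀.2 _ _ hkill
    have := Groth.Agent.ARLib.quot_epi hp₀
    have := Groth.Agent.ARLib.quot_epi hp
    have hψφ : ∀ {W : EtCoh.Ab X} (φ : F.obj (op (n + 1)) ⟶ W), p₀ ≫ ψ ≫ φ = c • φ := fun φ => by
      rw [← Category.assoc, hψ, Linear.smul_comp, Category.id_comp]
    have w : ψ ≫ p = 0 := by
      rw [← cancel_epi p₀, comp_zero, hψφ]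
      have h := congrArg (p ≫ ·) (hp.1 c (hmem (n + 1)))
      simpa using h
    have hk : ∀ {W : EtCoh.Ab X} (φ : F.obj (op (n + 1)) ⟶ W), ψ ≫ φ = 0 →
        ARSys.HomKilledBy (Ideal.span {(ℓ : ℤ)} ^ (n + 1)) φ := fun φ hφ a ha => by
      rw [Ideal.span_singleton_pow, Ideal.mem_span_singleton'] at ha
      obtain ⟨b, rfl⟩ := ha
      rw [← smul_smul, show (ℓ : ℤ) ^ (n + 1) • φ = 0 by rw [← hψφ φ, hφ, comp_zero], smul_zero]
    have hc : IsColimit (CokernelCofork.ofπ p w) :=
      CokernelCofork.IsColimit.ofπ _ _ (fun φ hφ => (hp.2 _ φ (hk φ hφ)).choose)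
        (fun φ hφ => (hp.2 _ φ (hk φ hφ)).choose_spec.1)
        (fun φ hφ m hm => (hp.2 _ φ (hk φ hφ)).choose_spec.2 m hm)
    let T := ShortComplex.mk ψ p w
    have hT : T.Exact := T.exact_of_g_is_cokernel hc
    have : Epi (kernel.lift p ψ w) := hT.epi_kernelLift
    have hK := Groth.Agent.EtConsAb.isConstructible_quotient (kernel.lift p ψ w) h0
    exact Groth.Agent.EtConsAb.isConstructible_extension
      (ShortComplex.mk (kernel.ι p) p (kernel.condition p))
      { exact := ShortComplex.exact_of_f_is_kernel _ (kernelIsKernel p) } hK ih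

end Groth.Agent.S16251
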