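import Groth.Statements.S16253
import Groth.Agent.SmoothEmb.Basic
import Groth.Agent.S8917
import Groth.Agent.FittLib.Sheaf
import Mathlib.RingTheory.Smooth.StandardSmoothCotangent

set_option autoImplicit false
universe u
open CategoryTheory CategoryTheory.Limits AlgebraicGeometry TopologicalSpace
open SDiv

namespace Groth.Agent.S16253

open TensorProduct

/-- A quotient of a standard smooth algebra of relative dimension `p` has fibre rank of `Ω` at most `p`. -/
theorem finrank_le_of_surjective {A B D : Type u} [CommRing A] [CommRing B] [Algebra A B] [CommRing D]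
    [Algebra A D] [Algebra.FiniteType A B] (p : ℕ) [Algebra.IsStandardSmoothOfRelativeDimension p A D]
    (ψ : D →ₐ[A] B) (hψ : Function.Surjective ψ) (q : Ideal B) [q.IsPrime] :
    Module.finrank q.ResidueField (q.ResidueField ⊗[B] Ω[B⁄A]) ≤ p := by
  letI := ψ.toRingHom.toAlgebra
  haveI : IsScalarTower A D B := IsScalarTower.of_algebraMap_eq fun a => (ψ.commutes a).symm
  haveI : Algebra.IsStandardSmooth A D := Algebra.IsStandardSmoothOfRelativeDimension.isStandardSmooth p
  haveI : Nontrivial B := ⟨0, 1, fun h => q.ne_top_iff_one.mp Ideal.IsPrime.ne_top'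
    (h ▸ q.zero_mem)⟩
  haveI : Nontrivial D := RingHom.domain_nontrivial (ψ : D →+* B)
  have hrk : Module.finrank D Ω[D⁄A] = p := by
    rw [Module.finrank,
      Algebra.IsStandardSmoothOfRelativeDimension.rank_kaehlerDifferential (R := A) p,
      Cardinal.toNat_natCast]
  let b := Module.finBasisOfFinrankEq D Ω[D⁄A] hrk
  have hsurj := KaehlerDifferential.map_surjective_of_surjective A A D B hψ
  let v : Fin p → q.ResidueField ⊗[B] Ω[B⁄A] := fun i => 1 ⊗ₜ KaehlerDifferential.map A A D B (b i)
  refine (le_of_eq ?_).trans ((finrank_range_le_card (R := q.ResidueField) v).trans_eq (Fintype.card_fin p))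
  rw [Set.finrank]
  suffices h : Submodule.span q.ResidueField (Set.range v) = ⊤ by rw [h, finrank_top]
  rw [eq_top_iff]
  rintro z -
  induction z using TensorProduct.induction_on with
  | zero => exact zero_mem _
  | add a c ha hc => exact add_mem ha hc
  | tmul r w =>
    obtain ⟨w, rfl⟩ := hsurj w
    rw [← b.sum_repr w, map_sum, TensorProduct.tmul_sum]
    refine sum_mem fun i _ => ?_
    rw [map_smul, ← algebraMap_smul B (b.repr w i), TensorProduct.tmul_smul, TensorProduct.smul_tmul']
    rw [show ((algebraMap D B (b.repr w i)) • r) ⊗ₜ[B] KaehlerDifferential.map A A D B (b i) =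
      ((algebraMap D B (b.repr w i)) • r) • v i by
        rw [TensorProduct.smul_tmul', smul_eq_mul, mul_one]]
    exact Submodule.smul_mem _ _ (Submodule.subset_span ⟨i, rfl⟩)

theorem not_mem_support_iff {X Y : Scheme.{u}} (f : X ⟶ Y) [LocallyOfFiniteType f] [QuasiSeparated f]
    (p : ℕ) {U : Y.Opens} (hU : IsAffineOpen U) {V : X.Opens} (hV : IsAffineOpen V) (e : V ≤ f ⁻¹ᵁ U)
    (x : X) (hx : x ∈ V) :
    letI := (f.appLE U V e).hom.toAlgebra
    x ∉ (Fitt.sheafIdeal (Omega.sheaf f) p).support ↔
      Module.finrank (hV.primeIdealOf ⟨x, hx⟩).asIdeal.ResidueField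
        ((hV.primeIdealOf ⟨x, hx⟩).asIdeal.ResidueField ⊗[Γ(X, V)] Ω[Γ(X, V)⁄Γ(Y, U)]) ≤ p := by
  letI := (f.appLE U V e).hom.toAlgebra
  haveI := Groth.Agent.S8917.isQCoh_omega f
  haveI := Groth.Agent.S8917.isFT_omega f
  haveI : Algebra.FiniteType Γ(Y, U) Γ(X, V) := f.finiteType_appLE hU hV e
  rw [Groth.Agent.FittLib.mem_support_iff (Omega.sheaf f) p ⟨V, hV⟩ x hx,
    Groth.Agent.S8917.ideal_omega_sections f hU hV e p]
  exact Groth.Agent.FittLib.not_le_iff_finrank_le _ p

/-- Let f : X ⟶ Y be locally of finite presentation and quasi-separated and p ≥ 0, and let J^p(X/Y) ⊆ X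
be the closed subset cut out by the p-th Fitting ideal of the module of differentials Ω_{X/Y} (the
p-th Jacobian locus). Then a point x of X lies outside J^p(X/Y) if and only if x has an open
neighbourhood U admitting a closed immersion over Y into a Y-scheme U' which is smooth of relative
dimension p over Y. (The published statement takes f of finite presentation and asks U' smooth over
Y with fibre dimension p at x; after shrinking U' this is smoothness of relative dimension p.
Quasi-separatedness of f is assumed because the module Ω_{X/Y} used here is defined for such f.) -/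
theorem result
    {X Y : Scheme.{u}} (f : X ⟶ Y) [LocallyOfFinitePresentation f] [QuasiSeparated f] (p : ℕ) (x : ↥X) :
    x ∉ (Fitt.sheafIdeal (Omega.sheaf f) p).support ↔
      ∃ (U : X.Opens) (U' : Scheme.{u}) (i : (U : Scheme.{u}) ⟶ U') (g : U' ⟶ Y),
        x ∈ U ∧ IsClosedImmersion i ∧ SmoothOfRelativeDimension p g ∧ i ≫ g = U.ι ≫ f := by
  constructor
  · intro hx
    obtain ⟨A, hA, V, hV, hxV, -, e⟩ :=
      Groth.Agent.Omega.Chart.exists_affine_pair f x (W := ⊤) (Set.mem_univ _)
    letI := (f.appLE A V e).hom.toAlgebra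
    haveI : Algebra.FiniteType Γ(Y, A) Γ(X, V) := f.finiteType_appLE hA hV e
    obtain ⟨g, hg, D, iD1, iD2, hD, φ, hφ⟩ :=
      Groth.Agent.SmoothEmb.Basic.exists_surjection_standardSmooth Γ(Y, A) Γ(X, V)
        (hV.primeIdealOf ⟨x, hxV⟩).asIdeal p ((not_mem_support_iff f p hA hV e x hxV).mp hx)
    letI := iD2
    let W : X.Opens := X.basicOpen g
    have hW : IsAffineOpen W := hV.basicOpen g
    have eW : W ≤ f ⁻¹ᵁ A := (X.basicOpen_le g).trans e
    haveI : IsLocalization.Away g Γ(X, W) := hV.isLocalization_basicOpen g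
    let κ : Localization.Away g ≃ₐ[Γ(X, V)] Γ(X, W) := IsLocalization.algEquiv (Submonoid.powers g) _ _
    let ψ : D →+* Γ(X, W) := κ.toAlgHom.toRingHom.comp φ.toRingHom
    have hψ : Function.Surjective ψ := κ.surjective.comp hφ
    have hcomp : ψ.comp (algebraMap Γ(Y, A) D) = (f.appLE A W eW).hom := by
      ext a
      show κ (φ (algebraMap Γ(Y, A) D a)) = _
      rw [φ.commutes, IsScalarTower.algebraMap_apply Γ(Y, A) Γ(X, V) (Localization.Away g), κ.commutes]
      show (X.presheaf.map (homOfLE (X.basicOpen_le g)).op) (f.appLE A V e a) = _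
      rw [← CommRingCat.comp_apply, Scheme.Hom.appLE_map]
    refine ⟨W, Spec (CommRingCat.of D), hW.isoSpec.hom ≫ Spec.map (CommRingCat.ofHom ψ),
      Spec.map (CommRingCat.ofHom (algebraMap Γ(Y, A) D)) ≫ hA.fromSpec, ?_, ?_, ?_, ?_⟩
    · exact (Groth.Agent.RegImm44.mem_basicOpen_iff hV ⟨x, hxV⟩ g).2 hg
    · haveI : IsClosedImmersion (Spec.map (CommRingCat.ofHom ψ)) :=
        IsClosedImmersion.spec_of_surjective _ hψ
      infer_instance
    · haveI : SmoothOfRelativeDimension p (Spec.map (CommRingCat.ofHom (algebraMap Γ(Y, A) D))) := by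
        rw [HasRingHomProperty.Spec_iff (P := @SmoothOfRelativeDimension p)]
        refine RingHom.locally_of
          (RingHom.isStandardSmoothOfRelativeDimension_respectsIso (n := p)) _ ?_
        exact (RingHom.isStandardSmoothOfRelativeDimension_algebraMap (n := p)).mpr hD
      exact (show SmoothOfRelativeDimension (p + 0) _ from inferInstance)
    · rw [Category.assoc, ← Spec.map_comp_assoc,
        show CommRingCat.ofHom (algebraMap Γ(Y, A) D) ≫ CommRingCat.ofHom ψ = f.appLE A W eW from
          CommRingCat.hom_ext hcomp,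
        IsAffineOpen.SpecMap_appLE_fromSpec f hA hW eW, ← hW.isoSpec_inv_ι, ← Category.assoc,
        ← Category.assoc, Iso.hom_inv_id, Category.id_comp]
  · rintro ⟨U, U', i, g, hxU, hi, hg, hcomm⟩
    obtain ⟨A, hA, V', hV', hix, e, hsm⟩ :=
      SmoothOfRelativeDimension.exists_isStandardSmoothOfRelativeDimension (n := p) (f := g) (i ⟨x, hxU⟩)
    let W : U.toScheme.Opens := i ⁻¹ᵁ V'
    have hW : IsAffineOpen W := hV'.preimage i
    have hW' : IsAffineOpen (U.ι ''ᵁ W) := hW.image_of_isOpenImmersion U.ι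
    have hxW : x ∈ U.ι ''ᵁ W := ⟨⟨x, hxU⟩, hix, rfl⟩
    have eW : W ≤ (i ≫ g) ⁻¹ᵁ A := fun z hz => e hz
    have eW' : U.ι ''ᵁ W ≤ f ⁻¹ᵁ A := by
      rintro _ ⟨z, hz, rfl⟩
      have h1 := eW hz
      rw [hcomm] at h1
      exact h1
    letI := (f.appLE A (U.ι ''ᵁ W) eW').hom.toAlgebra
    letI := (g.appLE A V' e).hom.toAlgebra
    haveI : Algebra.IsStandardSmoothOfRelativeDimension p Γ(Y, A) Γ(U', V') := hsm
    haveI : Algebra.FiniteType Γ(Y, A) Γ(X, U.ι ''ᵁ W) := f.finiteType_appLE hA hW' eW'
    rw [not_mem_support_iff f p hA hW' eW' x hxW]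
    have hcompat : (i.app V').hom.comp (g.appLE A V' e).hom = (f.appLE A (U.ι ''ᵁ W) eW').hom := by
      rw [← CommRingCat.hom_comp]
      congr 1
      rw [Scheme.Hom.app_eq_appLE, Scheme.Hom.appLE_comp_appLE]
      simp_rw [hcomm]
      rw [Scheme.Hom.comp_appLE, U.ι_appLE]
      rfl
    let ψ : Γ(U', V') →ₐ[Γ(Y, A)] Γ(X, U.ι ''ᵁ W) :=
      { toRingHom := (i.app V').hom
        commutes' := fun a => RingHom.congr_fun hcompat a }
    exact finrank_le_of_surjective p ψ (i.app_surjective _ hV') _

end Groth.Agent.S16253
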