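import Groth.Statements.S16254
import Mathlib.LinearAlgebra.Matrix.SchurComplement

set_option autoImplicit false
universe u
open scoped BigOperators
open LefPen

namespace Groth.Agent.S16254

section

open Matrix MvPolynomial

theorem det_mul_mem {R : Type u} [CommRing R] {n q : ℕ} (M : Matrix (Fin n) (Fin q) R) (Q : Matrix (Fin q) (Fin n) R)
    {I : Ideal R} (hI : ∀ c : Fin n → Fin q, (Matrix.of fun i j => M i (c j)).det ∈ I) : (M * Q).det ∈ I := by
  classical
  have e : (M * Q).det = ∑ c : Fin n → Fin q, (∏ i, Q (c i) i) * (Matrix.of fun i j => M i (c j)).det := by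
    rw [← det_transpose]
    have h1 : ((M * Q)ᵀ : Fin n → Fin n → R) = fun j => ∑ l, Q l j • (fun i => M i l) := by
      funext j i
      simp [Matrix.mul_apply, Finset.sum_apply, mul_comm]
    show Matrix.detRowAlternating ((M * Q)ᵀ : Fin n → Fin n → R) = _
    rw [h1]
    refine ((Matrix.detRowAlternating (R := R) (n := Fin n)).toMultilinearMap.map_sum
      (g := fun j l => Q l j • fun i => M i l)).trans ?_
    refine Finset.sum_congr rfl fun c _ => ?_
    rw [MultilinearMap.map_smul_univ, smul_eq_mul]
    congr 1
    show Matrix.det (Matrix.of fun j i => M i (c j)) = _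
    rw [← det_transpose]
    rfl
  rw [e]
  exact sum_mem fun c _ => I.mul_mem_left _ (hI c)

end

/-- Let A be a commutative ring and m_1, …, m_s ∈ A^(N+1) linearly independent vectors whose span M has
projective (that is, locally free) quotient A^(N+1)/M. Write a_0, …, a_N for the coordinate
functions, so that restricting linear forms to M and expressing them in the basis dual to the m_i
gives the A-algebra map A[a_0, …, a_N] ⟶ A[y_1, …, y_s], a_j ↦ Σ_i (m_i)_j y_i (the map
Sym((A^(N+1))^∨) ⟶ Sym(M^∨)). Its kernel is the ideal generated by the (s+1) × (s+1) minors of the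
(s+1) × (N+1) matrix whose first s rows are the coordinate rows of m_1, …, m_s and whose last row is
(a_0, …, a_N). The minors are indexed here by all maps c from Fin (s+1) to Fin (N+1) choosing the
columns (non-injective choices give zero). -/
theorem result
    (A : Type u) [CommRing A] (N s : ℕ) (m : Fin s → (Fin (N + 1) → A))
    (hli : LinearIndependent A m)
    (hproj : Module.Projective A ((Fin (N + 1) → A) ⧸ Submodule.span A (Set.range m))) :
    RingHom.ker (MvPolynomial.aeval (R := A) (S₁ := MvPolynomial (Fin s) A)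
        (fun j : Fin (N + 1) => ∑ i : Fin s, MvPolynomial.C (m i j) * MvPolynomial.X i)) =
      Ideal.span (Set.range fun c : Fin (s + 1) → Fin (N + 1) =>
        (Matrix.of fun (i : Fin (s + 1)) (j : Fin (s + 1)) =>
          (Fin.snoc (α := fun _ => MvPolynomial (Fin (N + 1)) A)
            (fun i' : Fin s => MvPolynomial.C (m i' (c j))) (MvPolynomial.X (c j)) i)).det) := by
  classical
  open Matrix MvPolynomial in
  set φ := MvPolynomial.aeval (R := A) (S₁ := MvPolynomial (Fin s) A)
    (fun j : Fin (N + 1) => ∑ i : Fin s, MvPolynomial.C (m i j) * MvPolynomial.X i)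
  set I := Ideal.span (Set.range fun c : Fin (s + 1) → Fin (N + 1) =>
        (Matrix.of fun (i : Fin (s + 1)) (j : Fin (s + 1)) =>
          (Fin.snoc (α := fun _ => MvPolynomial (Fin (N + 1)) A)
            (fun i' : Fin s => MvPolynomial.C (m i' (c j))) (MvPolynomial.X (c j)) i)).det)
  haveI := hproj
  obtain ⟨sec, hsec⟩ := Module.projective_lifting_property (Submodule.span A (Set.range m)).mkQ LinearMap.id
    (Submodule.mkQ_surjective _)
  let pr : (Fin (N + 1) → A) →ₗ[A] Submodule.span A (Set.range m) :=
    (LinearMap.id - sec ∘ₗ (Submodule.span A (Set.range m)).mkQ).codRestrict _ fun x => by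
      rw [← Submodule.Quotient.mk_eq_zero, ← Submodule.mkQ_apply, LinearMap.sub_apply, map_sub]
      simpa [sub_eq_zero] using (LinearMap.congr_fun hsec (Submodule.Quotient.mk x)).symm
  let b := Module.Basis.span hli
  let P : Fin s → Fin (N + 1) → A := fun i j => b.repr (pr (Pi.single j 1)) i
  have hP : ∀ i i', ∑ j, m i' j * P i j = if i' = i then 1 else 0 := fun i i' => by
    have h1 : pr (m i') = b i' := Subtype.ext (by
      have hm : (Submodule.span A (Set.range m)).mkQ (m i') = 0 :=
        (Submodule.Quotient.mk_eq_zero _).2 (Submodule.subset_span ⟨i', rfl⟩)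
      simp [pr, b, Module.Basis.span_apply, hm])
    have h2 := congrArg (fun x => b.repr x i) h1
    conv at h2 => lhs; rw [pi_eq_sum_univ' (m i')]
    simpa [map_sum, P, Finsupp.single_apply] using h2
  let ψ : MvPolynomial (Fin s) A →ₐ[A] MvPolynomial (Fin (N + 1)) A :=
    MvPolynomial.aeval fun i => ∑ j, MvPolynomial.C (P i j) * MvPolynomial.X j
  have hgen : ∀ j, MvPolynomial.X j - ψ (φ (MvPolynomial.X j)) ∈ I := fun j => by
    let M : Matrix (Fin (s + 1)) (Fin (N + 1)) (MvPolynomial (Fin (N + 1)) A) :=
      Matrix.of fun i l => Fin.snoc (α := fun _ => MvPolynomial (Fin (N + 1)) A)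
            (fun i' : Fin s => MvPolynomial.C (m i' l)) (MvPolynomial.X l) i
    let Q : Matrix (Fin (N + 1)) (Fin (s + 1)) (MvPolynomial (Fin (N + 1)) A) :=
      Matrix.of fun l c => Fin.snoc (α := fun _ => MvPolynomial (Fin (N + 1)) A)
            (fun i : Fin s => MvPolynomial.C (P i l)) (if l = j then 1 else 0) c
    have hmem : (M * Q).det ∈ I := det_mul_mem M Q fun c => Ideal.subset_span ⟨c, rfl⟩
    have hblk : (M * Q).submatrix finSumFinEquiv finSumFinEquiv =
        Matrix.fromBlocks 1 (Matrix.of fun i (_ : Fin 1) => MvPolynomial.C (m i j))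
          (Matrix.of fun (_ : Fin 1) i => ∑ l, MvPolynomial.C (P i l) * MvPolynomial.X l)
          (Matrix.of fun (_ _ : Fin 1) => MvPolynomial.X j) := by
      have hi : ∀ i : Fin 1, Fin.natAdd s i = Fin.last s := fun i => by
        ext; simp [Fin.val_eq_zero i]
      ext1 a c
      rcases a with a | a <;> rcases c with c | c <;>
        simp only [Matrix.submatrix_apply, finSumFinEquiv_apply_left, finSumFinEquiv_apply_right, hi,
          show ∀ i : Fin s, Fin.castAdd 1 i = i.castSucc from fun _ => rfl, Fin.snoc_castSucc,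
          Matrix.mul_apply, M, Q, Matrix.of_apply, Fin.snoc_last, Matrix.fromBlocks_apply₁₁,
          Matrix.fromBlocks_apply₁₂, Matrix.fromBlocks_apply₂₁, Matrix.fromBlocks_apply₂₂]
      · simp only [← map_mul]
        rw [← map_sum, hP, Matrix.one_apply]
        split_ifs <;> simp
      · simp
      · exact Finset.sum_congr rfl fun l _ => by ring
      · simp
    rw [← Matrix.det_submatrix_equiv_self finSumFinEquiv (M * Q), hblk, Matrix.det_fromBlocks_one₁₁,
      Matrix.det_unique] at hmem
    convert hmem using 1
    simp [φ, ψ, Matrix.mul_apply, mul_comm]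
  refine le_antisymm (fun F hF => ?_) (Ideal.span_le.2 ?_)
  · have hall : F - ψ (φ F) ∈ I := by
      clear hF
      induction F using MvPolynomial.induction_on with
      | C a => simp [φ, ψ]
      | add p q hp hq =>
        rw [map_add, map_add, add_sub_add_comm]
        exact add_mem hp hq
      | mul_X p j hp =>
        rw [map_mul, map_mul, show p * MvPolynomial.X j - ψ (φ p) * ψ (φ (MvPolynomial.X j)) =
          (p - ψ (φ p)) * MvPolynomial.X j + ψ (φ p) * (MvPolynomial.X j - ψ (φ (MvPolynomial.X j))) by ring]
        exact add_mem (I.mul_mem_right _ hp) (I.mul_mem_left _ (hgen j))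
    have h0 : φ F = 0 := hF
    simpa [h0] using hall
  · rintro _ ⟨c, rfl⟩
    show φ _ = 0
    rw [AlgHom.map_det]
    have h := Matrix.det_updateRow_sum (φ.mapMatrix (Matrix.of fun (i : Fin (s + 1)) (j : Fin (s + 1)) =>
      (Fin.snoc (α := fun _ => MvPolynomial (Fin (N + 1)) A)
        (fun i' : Fin s => MvPolynomial.C (m i' (c j))) (MvPolynomial.X (c j)) i)))
      (Fin.last s) (Fin.snoc (α := fun _ => MvPolynomial (Fin s) A) (fun i => MvPolynomial.X i) 0)
    rw [Fin.snoc_last, zero_smul] at h
    refine Eq.trans (congrArg Matrix.det ?_) h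
    ext1 i j
    refine Fin.lastCases ?_ (fun i => ?_) i
    · simp [Matrix.updateRow_self, Fin.sum_univ_castSucc, φ, Finset.sum_apply, mul_comm]
    · simp [Matrix.updateRow_ne (Fin.castSucc_lt_last i).ne]

end Groth.Agent.S16254
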