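import Groth.Statements.S16255
import Groth.Agent.NodeForm.Completion
import Groth.Agent.QuadMorse.Filt
import Mathlib.RingTheory.Nullstellensatz
import Mathlib.RingTheory.MvPowerSeries.Derivative
import Mathlib.RingTheory.Filtration
-- import your own Groth.Agent.* helpers here

set_option autoImplicit false
universe u
open VanCyc

namespace Groth.Agent.S16255

open MvPowerSeries IsLocalRing
open scoped Matrix

section PS

variable {k : Type u} [Field k] {n : ℕ}

/-- The linear coefficient. -/
noncomputable def lin (a : Fin n) (s : MvPowerSeries (Fin n) k) : k := constantCoeff (pderiv k a s)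

/-- The Hessian at the origin. -/
noncomputable def hess (s : MvPowerSeries (Fin n) k) : Matrix (Fin n) (Fin n) k :=
  fun a b => lin a (pderiv k b s)

theorem lin_eq (a : Fin n) (s : MvPowerSeries (Fin n) k) : lin a s = coeff (Finsupp.single a 1) s := by
  rw [lin, ← coeff_zero_eq_constantCoeff_apply, coeff_pderiv]
  simp

theorem lin_add (a : Fin n) (s t : MvPowerSeries (Fin n) k) : lin a (s + t) = lin a s + lin a t := by
  simp [lin]

theorem lin_sum (a : Fin n) {ι : Type*} (T : Finset ι) (s : ι → MvPowerSeries (Fin n) k) :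
    lin a (∑ i ∈ T, s i) = ∑ i ∈ T, lin a (s i) := by
  simp [lin]

theorem lin_mul (a : Fin n) (s t : MvPowerSeries (Fin n) k) :
    lin a (s * t) = constantCoeff s * lin a t + constantCoeff t * lin a s := by
  simp [lin, Derivation.leibniz]

theorem lin_X (a b : Fin n) : lin a (X b : MvPowerSeries (Fin n) k) = if a = b then 1 else 0 := by
  classical
  rcases eq_or_ne a b with rfl | h
  · simp [lin, pderiv_X_self]
  · simp [lin, pderiv_X_of_ne h.symm, h]

theorem polarMatrix_quadPart (s : MvPowerSeries (Fin n) k) :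
    (VanCyc.polarMatrix (VanCyc.quadPart s) : Matrix (Fin n) (Fin n) k) = hess s := by
  classical
  ext a b
  show _ = lin a (pderiv k b s)
  rw [lin_eq, coeff_pderiv]
  rcases lt_trichotomy a b with h | h | h
  · simp [VanCyc.polarMatrix, VanCyc.quadPart, h, h.ne, h.ne']
  · subst h
    simp [VanCyc.polarMatrix, VanCyc.quadPart, ← Finsupp.single_add, mul_comm (2 : k)]
    norm_num
  · simp [VanCyc.polarMatrix, VanCyc.quadPart, h, h.ne, h.ne', not_lt.2 h.le, add_comm]

theorem hess_mul {s t : MvPowerSeries (Fin n) k} (hs : constantCoeff s = 0) (ht : constantCoeff t = 0)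
    (a b : Fin n) : hess (s * t) a b = lin a s * lin b t + lin b s * lin a t := by
  show lin a (pderiv k b (s * t)) = _
  rw [Derivation.leibniz, smul_eq_mul, smul_eq_mul, lin_add, lin_mul, lin_mul, hs, ht]
  simp only [lin]
  ring

theorem hess_mul_of_noLow (u : MvPowerSeries (Fin n) k) {F : MvPowerSeries (Fin n) k}
    (hF : VanCyc.NoLowTerms F) (a b : Fin n) : hess (u * F) a b = constantCoeff u * hess F a b := by
  have hl : ∀ c, lin c F = 0 := fun c => (lin_eq c F).trans (hF.2 c)
  show lin a (pderiv k b (u * F)) = constantCoeff u * lin a (pderiv k b F)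
  rw [Derivation.leibniz, smul_eq_mul, smul_eq_mul, lin_add, lin_mul, lin_mul, hl a, hF.1,
    show constantCoeff (pderiv k b F) = 0 from hl b]
  ring

theorem noLow_mul {F : MvPowerSeries (Fin n) k} (hF : VanCyc.NoLowTerms F) (u : MvPowerSeries (Fin n) k)
    (a : Fin n) : lin a (u * F) = 0 := by
  rw [lin_mul, (lin_eq a F).trans (hF.2 a), hF.1]
  ring

theorem sub_C_mem (d : MvPowerSeries (Fin n) k) :
    d - C (constantCoeff d) ∈ maximalIdeal (MvPowerSeries (Fin n) k) := by
  simp [mem_maximalIdeal, mem_nonunits_iff, isUnit_iff_constantCoeff]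

theorem constantCoeff_eq_zero_of_mem {d : MvPowerSeries (Fin n) k}
    (h : d ∈ maximalIdeal (MvPowerSeries (Fin n) k)) : constantCoeff d = 0 := by
  simpa [mem_maximalIdeal, mem_nonunits_iff, isUnit_iff_constantCoeff] using h

theorem decomp' {s : MvPowerSeries (Fin n) k} (hs : constantCoeff s = 0) :
    s = ∑ j, X j * QuadMorse.div j s := by
  conv_lhs => rw [QuadMorse.decomp s, hs, map_zero, zero_add]

/-- A presentation with a non-degenerate quadratic relation forces non-degeneracy. -/
theorem isUnit_hess_of_surjective {F g : MvPowerSeries (Fin n) k} (hF : VanCyc.NoLowTerms F)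
    (hg : VanCyc.NondegQuadSeries g)
    (α : MvPowerSeries (Fin n) k →ₐ[k] MvPowerSeries (Fin n) k ⧸ Ideal.span {F})
    (hα : Function.Surjective α) (hαg : α g = 0) : IsUnit (hess F).det := by
  classical
  have hcc : ∀ {s t : MvPowerSeries (Fin n) k}, Ideal.Quotient.mk (Ideal.span {F}) s =
      Ideal.Quotient.mk _ t → ∃ u, s = t + u * F := fun {s t} h => by
    obtain ⟨u, hu⟩ := Ideal.mem_span_singleton'.mp (Ideal.Quotient.eq.mp h)
    exact ⟨u, by rw [hu]; ring⟩
  choose Λ hΛ using fun s : MvPowerSeries (Fin n) k => Ideal.Quotient.mk_surjective (α s)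
  have hconst : ∀ d, constantCoeff (Λ d) = constantCoeff d := by
    intro d
    have hne : Ideal.span {F} ≤ maximalIdeal (MvPowerSeries (Fin n) k) := by
      rw [Ideal.span_singleton_le_iff_mem]
      simp [mem_maximalIdeal, mem_nonunits_iff, isUnit_iff_constantCoeff, hF.1]
    by_contra h
    have h1 : ¬ IsUnit (α (d - C (constantCoeff d))) := by
      intro hu
      obtain ⟨v, hv⟩ := hα (hu.unit⁻¹ : _)
      have hk : α ((d - C (constantCoeff d)) * v - 1) = 0 := by
        rw [map_sub, map_mul, hv, map_one, IsUnit.mul_val_inv, sub_self]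
      have hm : (d - C (constantCoeff d)) * v - 1 ∉ maximalIdeal (MvPowerSeries (Fin n) k) := fun h' =>
        (maximalIdeal.isMaximal _).ne_top ((Ideal.eq_top_iff_one _).mpr (by
          have := sub_mem (Ideal.mul_mem_right v _ (sub_C_mem d)) h'
          rwa [sub_sub_cancel] at this))
      rw [mem_maximalIdeal, mem_nonunits_iff, not_not] at hm
      have h0 := hm.map α
      rw [hk, isUnit_zero_iff] at h0
      have h01 : (0 : MvPowerSeries (Fin n) k ⧸ Ideal.span {F}) = 1 := h0
      rw [← map_zero (Ideal.Quotient.mk (Ideal.span {F})), ← map_one (Ideal.Quotient.mk (Ideal.span {F})),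
        Ideal.Quotient.eq, zero_sub, Ideal.neg_mem_iff] at h01
      exact (maximalIdeal.isMaximal _).ne_top ((Ideal.eq_top_iff_one _).mpr (hne h01))
    refine h1 ?_
    rw [map_sub, ← hΛ d, show α (C (constantCoeff d)) =
      Ideal.Quotient.mk _ (C (constantCoeff d)) from α.commutes _, ← map_sub]
    exact IsUnit.map _ (isUnit_iff_constantCoeff.mpr (isUnit_iff_ne_zero.mpr (by
      simpa [sub_eq_zero] using h)))
  let L : Matrix (Fin n) (Fin n) k := fun a j => lin a (Λ (X j))
  have hX : ∀ j, constantCoeff (Λ (X j : MvPowerSeries (Fin n) k)) = 0 := fun j => by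
    rw [hconst, constantCoeff_X]
  have hlin : ∀ s, constantCoeff s = 0 → ∀ a, lin a (Λ s) = ∑ j, L a j * lin j s := by
    intro s hs a
    obtain ⟨u, hu⟩ := hcc (s := Λ s) (t := ∑ j, Λ (X j) * Λ (QuadMorse.div j s)) (by
      rw [hΛ, map_sum]
      conv_lhs => rw [decomp' hs, map_sum]
      exact Finset.sum_congr rfl fun j _ => by rw [map_mul, map_mul, hΛ, hΛ])
    rw [hu, lin_add, noLow_mul hF, add_zero, lin_sum]
    refine Finset.sum_congr rfl fun j _ => ?_
    rw [lin_mul, hX, zero_mul, zero_add, hconst, mul_comm]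
    congr 1
    conv_rhs => rw [decomp' hs, lin_sum]
    simp [lin_mul, lin_X]
  have hL : IsUnit L.det := by
    choose σ hσ using fun b => hα (Ideal.Quotient.mk _ (X b))
    have key : ∀ b, ∃ u, Λ (σ b) = X b + u * F := fun b => hcc ((hΛ _).trans (hσ b))
    let B₀ : Matrix (Fin n) (Fin n) k := fun j b => lin j (σ b)
    refine Matrix.isUnit_det_of_right_inverse (B := B₀) ?_
    ext a b
    obtain ⟨u, hu⟩ := key b
    have hs : constantCoeff (σ b) = 0 := by
      rw [← hconst, hu]
      simp [hF.1]
    rw [Matrix.mul_apply]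
    show ∑ j, L a j * lin j (σ b) = _
    rw [← hlin (σ b) hs a, hu, lin_add, noLow_mul hF, lin_X, add_zero,
      Matrix.one_apply]
  let M : Matrix (Fin n) (Fin n) k := fun i j => lin j (QuadMorse.div i g)
  have hd : ∀ i, constantCoeff (QuadMorse.div i g) = 0 := fun i => by
    have h1 : lin i g = 0 := (lin_eq i g).trans (hg.1.2 i)
    rw [decomp' hg.1.1, lin_sum] at h1
    simpa [lin_mul, lin_X] using h1
  have hHg : hess g = Mᵀ + M := by
    ext a b
    conv_lhs => rw [decomp' hg.1.1]
    show lin a (pderiv k b (∑ i, X i * QuadMorse.div i g)) = _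
    rw [map_sum, lin_sum]
    calc ∑ i, hess (X i * QuadMorse.div i g) a b
        = ∑ i, ((if a = i then 1 else 0) * M i b + (if b = i then 1 else 0) * M i a) :=
          Finset.sum_congr rfl fun i _ => by rw [hess_mul (constantCoeff_X i) (hd i), lin_X, lin_X]
      _ = _ := by simp [Finset.sum_add_distrib, add_comm]
  obtain ⟨u, hu⟩ := hcc (s := ∑ i, Λ (X i) * Λ (QuadMorse.div i g)) (t := 0) (by
    rw [map_zero, ← hαg]
    conv_rhs => rw [decomp' hg.1.1]
    rw [map_sum, map_sum]
    exact Finset.sum_congr rfl fun i _ => by rw [map_mul, map_mul, hΛ, hΛ])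
  have hH : constantCoeff u • hess F = L * (Mᵀ + M) * Lᵀ := by
    ext a b
    have h1 : hess (∑ i, Λ (X i) * Λ (QuadMorse.div i g)) a b = constantCoeff u * hess F a b := by
      rw [hu, zero_add, hess_mul_of_noLow u hF]
    have h2 : ∀ i, hess (Λ (X i) * Λ (QuadMorse.div i g)) a b =
        L a i * (∑ j, L b j * M i j) + L b i * (∑ j, L a j * M i j) := fun i => by
      rw [hess_mul (hX i) ((hconst _).trans (hd i)), hlin _ (hd i), hlin _ (hd i)]
    rw [show hess (∑ i, Λ (X i) * Λ (QuadMorse.div i g)) a b =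
      ∑ i, hess (Λ (X i) * Λ (QuadMorse.div i g)) a b by
        show lin a (pderiv k b _) = _; rw [map_sum, lin_sum]; rfl] at h1
    rw [Matrix.smul_apply, smul_eq_mul, ← h1]
    simp only [h2, Finset.mul_sum, Finset.sum_add_distrib, Matrix.mul_apply, Matrix.add_apply,
      Matrix.transpose_apply, Finset.sum_mul, mul_add, add_mul]
    rw [add_comm]
    refine congrArg₂ (· + ·) ?_ ?_
    · exact Finset.sum_congr rfl fun _ _ => Finset.sum_congr rfl fun _ _ => by ring
    · rw [Finset.sum_comm]
      exact Finset.sum_congr rfl fun _ _ => Finset.sum_congr rfl fun _ _ => by ring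
  have hdet := congrArg Matrix.det hH
  rw [Matrix.det_smul, Matrix.det_mul, Matrix.det_mul, Matrix.det_transpose, ← hHg] at hdet
  have hgu : IsUnit (hess g).det := polarMatrix_quadPart g ▸ hg.2
  have h3 := (hL.mul hgu).mul hL
  rw [← hdet] at h3
  exact isUnit_of_mul_isUnit_right h3

variable (c : Fin n → k)

/-- Expansion at a point. -/
noncomputable def tr : MvPolynomial (Fin n) k →ₐ[k] MvPowerSeries (Fin n) k :=
  MvPolynomial.aeval fun i => X i + C (c i)

theorem tr_C (r : k) : tr c (MvPolynomial.C r) = C r :=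
  (tr c).commutes r

theorem tr_X (i : Fin n) : tr c (MvPolynomial.X i) = X i + C (c i) := by simp [tr]

theorem cc_tr (p : MvPolynomial (Fin n) k) : constantCoeff (tr c p) = MvPolynomial.eval c p := by
  induction p using MvPolynomial.induction_on with
  | C r => rw [tr_C, constantCoeff_C, MvPolynomial.eval_C]
  | add p q hp hq => simp [hp, hq]
  | mul_X p i hp => simp [tr_X, hp]

theorem pderiv_tr (a : Fin n) (p : MvPolynomial (Fin n) k) :
    pderiv k a (tr c p) = tr c (MvPolynomial.pderiv a p) := by
  classical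
  induction p using MvPolynomial.induction_on with
  | C r => simp [tr_C]
  | add p q hp hq => simp [hp, hq]
  | mul_X p i hp =>
    rw [map_mul, Derivation.leibniz, Derivation.leibniz, hp]
    simp only [tr_X, map_add, smul_eq_mul, map_mul, pderiv_C, add_zero]
    rcases eq_or_ne a i with rfl | h
    · simp [pderiv_X_self, MvPolynomial.pderiv_X_self, tr_X]
    · simp [pderiv_X_of_ne h.symm, MvPolynomial.pderiv_X_of_ne h.symm, tr_X]

theorem lin_tr (a : Fin n) (p : MvPolynomial (Fin n) k) :
    lin a (tr c p) = MvPolynomial.eval c (MvPolynomial.pderiv a p) := by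
  rw [lin, pderiv_tr, cc_tr]

theorem exists_approx (N : ℕ) : ∀ g : MvPowerSeries (Fin n) k,
    ∃ p : MvPolynomial (Fin n) k, g - tr c p ∈ maximalIdeal (MvPowerSeries (Fin n) k) ^ N := by
  induction N with
  | zero => exact fun g => ⟨0, by simp⟩
  | succ N ih =>
    intro g
    choose p hp using fun j => ih (QuadMorse.div j g)
    refine ⟨MvPolynomial.C (constantCoeff g) +
      ∑ j, (MvPolynomial.X j - MvPolynomial.C (c j)) * p j, ?_⟩
    have : g - tr c (MvPolynomial.C (constantCoeff g) +
        ∑ j, (MvPolynomial.X j - MvPolynomial.C (c j)) * p j) =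
        ∑ j, X j * (QuadMorse.div j g - tr c (p j)) := by
      conv_lhs => enter [1]; rw [QuadMorse.decomp g]
      simp only [map_add, map_sum, map_mul, map_sub, tr_X, tr_C, add_sub_cancel_right, mul_sub,
        Finset.sum_sub_distrib]
      ring
    rw [this, pow_succ']
    refine Submodule.sum_mem _ fun j _ => Ideal.mul_mem_mul ?_ (hp j)
    simp [mem_maximalIdeal, mem_nonunits_iff, isUnit_iff_constantCoeff]

theorem sub_C_mem_span (p : MvPolynomial (Fin n) k) :
    p - MvPolynomial.C (MvPolynomial.eval c p) ∈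
      Ideal.span (Set.range fun i => MvPolynomial.X i - MvPolynomial.C (c i)) := by
  induction p using MvPolynomial.induction_on with
  | C r => simp
  | add p q hp hq =>
    have := add_mem hp hq
    rw [map_add, map_add]
    convert this using 1
    ring
  | mul_X p i hp =>
    rw [map_mul, MvPolynomial.eval_X, map_mul]
    have h1 : MvPolynomial.X i - MvPolynomial.C (c i) ∈
        Ideal.span (Set.range fun i => MvPolynomial.X i - MvPolynomial.C (c i)) :=
      Ideal.subset_span ⟨i, rfl⟩
    convert add_mem (Ideal.mul_mem_right (MvPolynomial.X i) _ hp)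
      (Ideal.mul_mem_left _ (MvPolynomial.C (MvPolynomial.eval c p)) h1) using 1
    ring

theorem mem_span_sq {p : MvPolynomial (Fin n) k} (h0 : MvPolynomial.eval c p = 0)
    (h1 : ∀ a, MvPolynomial.eval c (MvPolynomial.pderiv a p) = 0) :
    p ∈ Ideal.span (Set.range fun i => MvPolynomial.X i - MvPolynomial.C (c i)) ^ 2 := by
  classical
  have h := sub_C_mem_span c p
  rw [h0, map_zero, sub_zero] at h
  obtain ⟨q, hq⟩ := Ideal.mem_span_range_iff_exists_fun.1 h
  rw [← hq, pow_two]
  refine Submodule.sum_mem _ fun i _ => Ideal.mul_mem_mul ?_ (Ideal.subset_span ⟨i, rfl⟩)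
  have h2 := h1 i
  rw [← hq, map_sum, map_sum] at h2
  have h3 : MvPolynomial.eval c (q i) = 0 := by
    simpa [Derivation.leibniz, MvPolynomial.pderiv_X, Pi.single_apply, apply_ite (MvPolynomial.eval c)] using h2
  have h4 := sub_C_mem_span c (q i)
  rwa [h3, map_zero, sub_zero] at h4

theorem nonempty_cpl (f : MvPolynomial (Fin n) k) (hF : VanCyc.NoLowTerms (tr c f))
    (O : Type u) [CommRing O] [IsLocalRing O] [IsNoetherianRing O] [Algebra k O]
    (ι : MvPolynomial (Fin n) k →ₐ[k] O)
    (ψ : O →+* MvPowerSeries (Fin n) k ⧸ Ideal.span {tr c f})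
    (hψ : ∀ p, ψ (ι p) = Ideal.Quotient.mk _ (tr c p))
    (hM : maximalIdeal O = Ideal.span (Set.range fun i => ι (MvPolynomial.X i - MvPolynomial.C (c i))))
    (hres : ∀ z : O, ∃ r : k, z - algebraMap k O r ∈ maximalIdeal O) (hιf : ι f = 0) :
    Nonempty ((MvPowerSeries (Fin n) k ⧸ Ideal.span {tr c f}) ≃ₐ[k] AdicCompletion (maximalIdeal O) O) := by
  classical
  let F := tr c f
  let M := maximalIdeal O
  let ξ : Fin n → O := fun i => ι (MvPolynomial.X i - MvPolynomial.C (c i))
  let Q := MvPowerSeries (Fin n) k ⧸ Ideal.span {F}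
  let mkQ := Ideal.Quotient.mkₐ k (Ideal.span {F})
  -- completion
  let R := AdicCompletion (maximalIdeal O) O
  haveI : IsNoetherianRing R := RegLoc.Completion.isNoetherianRing_adicCompletion' _
  let j := algebraMap O R
  have hξ : ∀ i, j (ξ i) ∈ maximalIdeal R := fun i => by
    rw [AdicCompletion.maximalIdeal_eq_map (R := O)]
    exact Ideal.mem_map_of_mem _ (hM.ge (Ideal.subset_span ⟨i, rfl⟩) : ξ i ∈ M)
  obtain ⟨θ, hθ⟩ := CAlg48.PSEval.exists_algHom (k := k) (maximalIdeal R) (fun i => j (ξ i)) hξ
  have hθtr : ∀ p, θ (tr c p) = j (ι p) := by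
    intro p
    induction p using MvPolynomial.induction_on with
    | C r =>
      rw [tr_C, show ι (MvPolynomial.C r) = algebraMap k O r from ι.commutes r]
      exact (θ.commutes r).trans (IsScalarTower.algebraMap_apply k O R r)
    | add p q hp hq => simp only [map_add, hp, hq]
    | mul_X p i hp =>
      rw [map_mul, map_mul, hp, map_mul, map_mul, tr_X, map_add, hθ,
        show θ (C (c i)) = algebraMap k R (c i) from θ.commutes _, IsScalarTower.algebraMap_apply k O R,
        ← map_add]
      congr 2
      show ι (MvPolynomial.X i - MvPolynomial.C (c i)) + algebraMap k O (c i) = _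
      rw [map_sub, show ι (MvPolynomial.C (c i)) = algebraMap k O (c i) from ι.commutes _, sub_add_cancel]
  let mPS := maximalIdeal (MvPowerSeries (Fin n) k)
  have himg : mPS.map (θ : MvPowerSeries (Fin n) k →+* R) = maximalIdeal R := by
    refine Eq.trans ?_ (((congrArg (Ideal.map (algebraMap O R)) hM).symm).trans
      (AdicCompletion.maximalIdeal_eq_map (R := O)).symm)
    rw [show mPS = _ from PSLoc.maximalIdeal_eq k, Ideal.map_span, Ideal.map_span, ← Set.range_comp,
      ← Set.range_comp]
    congr 2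
    exact funext hθ
  haveI : IsAdicComplete (maximalIdeal k) k := by
    rw [IsLocalRing.maximalIdeal_eq_bot]; infer_instance
  haveI := ArtFunLib.isAdicComplete_ps (σ := Fin n) (C := k)
  have hsurj : Function.Surjective θ := by
    refine PSLoc.surjective_of_cotangent mPS (θ : MvPowerSeries (Fin n) k →+* R) himg.le
      (le_sup_of_le_left himg.ge) fun r => ?_
    obtain ⟨z, rfl⟩ := residue_surjective r
    obtain ⟨a, ha⟩ := NodeForm.exists_sub_mem 1 z
    rw [pow_one] at ha
    obtain ⟨t, ht⟩ := hres a
    refine ⟨C t, ?_⟩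
    show residue R (θ (C t)) = residue R z
    rw [show θ (C t) = algebraMap k R t from θ.commutes t, IsScalarTower.algebraMap_apply k O R]
    refine (Ideal.Quotient.eq.2 ?_).symm
    have := add_mem ha (Ideal.mem_map_of_mem j ht |> (AdicCompletion.maximalIdeal_eq_map (R := O)).ge)
    rw [map_sub, sub_add_sub_cancel] at this
    exact this
  have hker : ∀ g, θ g = 0 → g ∈ Ideal.span {F} := by
    intro g hg
    have hN : ∀ N, Ideal.Quotient.mk (Ideal.span {F}) g ∈ mPS.map (Ideal.Quotient.mk (Ideal.span {F})) ^ N := by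
      intro N
      obtain ⟨p, hp⟩ := exists_approx c N g
      have h1 : θ (g - tr c p) ∈ maximalIdeal R ^ N := by
        rw [← himg, ← Ideal.map_pow]
        exact Ideal.mem_map_of_mem (θ : MvPowerSeries (Fin n) k →+* R) hp
      rw [map_sub, hg, zero_sub, Ideal.neg_mem_iff, hθtr] at h1
      have h2 : ι p ∈ M ^ N := by rw [← NodeForm.comap_pow]; exact h1
      have h3 : ψ (ι p) ∈ mPS.map (Ideal.Quotient.mk (Ideal.span {F})) ^ N := by
        have hle : M.map ψ ≤ mPS.map (Ideal.Quotient.mk (Ideal.span {F})) := by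
          rw [show M = _ from hM, Ideal.map_span, Ideal.span_le]
          rintro _ ⟨_, ⟨i, rfl⟩, rfl⟩
          rw [SetLike.mem_coe, show ψ (ξ i) = _ from hψ _, map_sub, tr_X, tr_C, add_sub_cancel_right]
          exact Ideal.mem_map_of_mem _ (by simp [mPS, mem_maximalIdeal, mem_nonunits_iff, isUnit_iff_constantCoeff])
        exact Ideal.pow_right_mono hle N (Ideal.map_pow ψ M N ▸ Ideal.mem_map_of_mem ψ h2)
      rw [hψ] at h3
      rw [← Ideal.map_pow] at h3 ⊢
      have h4 := add_mem (Ideal.mem_map_of_mem (Ideal.Quotient.mk (Ideal.span {F})) hp) h3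
      show Ideal.Quotient.mk (Ideal.span {F}) g ∈ _
      rw [map_sub] at h4
      rwa [show Ideal.Quotient.mk (Ideal.span {tr c f}) = Ideal.Quotient.mk (Ideal.span {F}) from rfl,
        sub_add_cancel] at h4
    have hne : Ideal.span {F} ≠ ⊤ := fun h => by
      have : F ∈ mPS := by simp [mPS, F, mem_maximalIdeal, mem_nonunits_iff, isUnit_iff_constantCoeff, hF.1]
      exact (maximalIdeal.isMaximal _).ne_top (top_le_iff.1 (h ▸ (Ideal.span_singleton_le_iff_mem _).2 this))
    have := PSLoc.isRegularLocalRing k n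
    have : Nontrivial Q := Ideal.Quotient.nontrivial_iff.2 hne
    have : IsLocalRing Q := .of_surjective' (Ideal.Quotient.mk _) Ideal.Quotient.mk_surjective
    have hK := Ideal.iInf_pow_eq_bot_of_isLocalRing (mPS.map (Ideal.Quotient.mk (Ideal.span {F})))
      (fun h => by
        have := (IsLocalRing.map_maximalIdeal_of_surjective (Ideal.Quotient.mk (Ideal.span {F}))
          Ideal.Quotient.mk_surjective).symm.trans h
        exact (maximalIdeal.isMaximal _).ne_top this)
    exact Ideal.Quotient.eq_zero_iff_mem.1 ((Submodule.mem_bot Q).1 (hK ▸ Submodule.mem_iInf _ |>.2 hN))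
  have hθF : θ F = 0 := by
    rw [show F = tr c f from rfl, hθtr, hιf, map_zero]
  let θ' : Q →ₐ[k] R := Ideal.Quotient.liftₐ _ θ fun x hx => by
    obtain ⟨y, rfl⟩ := Ideal.mem_span_singleton'.mp hx
    rw [map_mul, hθF, mul_zero]
  have hbij : Function.Bijective θ' := by
    refine ⟨(injective_iff_map_eq_zero _).2 fun z hz => ?_, fun z => ?_⟩
    · obtain ⟨g, rfl⟩ := Ideal.Quotient.mk_surjective z
      exact Ideal.Quotient.eq_zero_iff_mem.2 (hker g hz)
    · obtain ⟨g, rfl⟩ := hsurj z
      exact ⟨Ideal.Quotient.mk _ g, rfl⟩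
  exact ⟨AlgEquiv.ofBijective θ' hbij⟩

theorem le_of_le_sup_sq {O : Type u} [CommRing O] [IsLocalRing O] [IsNoetherianRing O] {J : Ideal O}
    (h : maximalIdeal O ≤ J ⊔ maximalIdeal O ^ 2) : maximalIdeal O ≤ J := by
  refine Submodule.le_of_le_smul_of_le_jacobson_bot (IsNoetherian.noetherian _)
    (maximalIdeal_le_jacobson _) ?_
  rw [smul_eq_mul, ← pow_two]
  exact h

end PS


/-- (b) ⇔ (c): let k be an algebraically closed field, m ≥ 0, f ∈ k[x_0, …, x_m], B = k[x_0, …, x_m]/(f)
and P a maximal ideal of B (a closed point y of the hypersurface Y = V(f)) containing the classes of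
all partial derivatives ∂f/∂x_j, so that y lies in the m-th Jacobian locus of Y (cut out in Y by the
m-th Fitting ideal of Ω_{Y/k}, which is generated by these classes). Then the following are
equivalent: (b) the classes of the ∂f/∂x_j generate the maximal ideal of the local ring B_P, i.e.
near y the Jacobian locus is the reduced point y; (c) y is a non-degenerate quadratic singularity of
Y of dimension m: the completion of B_P is k-isomorphic to k[[x_0, …, x_m]]/(g) for a power series g
without constant or linear terms whose quadratic part has unit polar discriminant. (The published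
statement is for Y a local complete intersection of virtual dimension m over k and a point of the
m-th but not the (m+1)-st Jacobian locus; the statement here is its affine hypersurface case, to
which its proof reduces by an étale chart. A third equivalent condition there, on the differentials
of the Jacobian scheme at y, is not stated here.) -/
theorem result
    (k : Type u) [Field k] [IsAlgClosed k] (m : ℕ) (f : MvPolynomial (Fin (m + 1)) k)
    (P : Ideal (MvPolynomial (Fin (m + 1)) k ⧸ Ideal.span {f})) [P.IsMaximal]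
    (hP : ∀ j : Fin (m + 1), Ideal.Quotient.mk (Ideal.span {f}) (MvPolynomial.pderiv j f) ∈ P) :
    Ideal.map (algebraMap (MvPolynomial (Fin (m + 1)) k ⧸ Ideal.span {f}) (Localization.AtPrime P))
        (Ideal.span (Set.range fun j : Fin (m + 1) =>
          Ideal.Quotient.mk (Ideal.span {f}) (MvPolynomial.pderiv j f))) =
      IsLocalRing.maximalIdeal (Localization.AtPrime P) ↔
    VanCyc.IsNondegQuadSing k (Localization.AtPrime P) m := by
  classical
  let S := MvPolynomial (Fin (m + 1)) k
  let π : S →+* S ⧸ Ideal.span {f} := Ideal.Quotient.mk _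
  have : (P.comap π).IsMaximal := Ideal.comap_isMaximal_of_surjective π Ideal.Quotient.mk_surjective
  obtain ⟨c, hc⟩ := MvPolynomial.isMaximal_iff_eq_vanishingIdeal_singleton.mp this
  have hev : ∀ p : S, π p ∈ P ↔ MvPolynomial.eval c p = 0 := fun p => by
    rw [← Ideal.mem_comap, hc, MvPolynomial.mem_vanishingIdeal_singleton_iff, ← MvPolynomial.coe_aeval_eq_eval]
    rfl
  have hf0 : MvPolynomial.eval c f = 0 := (hev f).1 (by
    rw [show π f = 0 from Ideal.Quotient.eq_zero_iff_mem.2 (Ideal.subset_span rfl)]; exact zero_mem _)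
  let F := tr c f
  have hF : VanCyc.NoLowTerms F := ⟨by rw [cc_tr, hf0], fun i => by
    rw [← lin_eq, lin_tr]; exact (hev _).1 (hP i)⟩
  have : IsNoetherianRing (Localization.AtPrime P) := IsLocalization.isNoetherianRing P.primeCompl (Localization.AtPrime P) inferInstance
  let ι : S →ₐ[k] (Localization.AtPrime P) := (IsScalarTower.toAlgHom k (S ⧸ Ideal.span {f}) (Localization.AtPrime P)).comp (Ideal.Quotient.mkₐ k _)
  have hι : ∀ p : S, ι p = algebraMap (S ⧸ Ideal.span {f}) (Localization.AtPrime P) (π p) := fun p => rfl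
  let ξ : Fin (m + 1) → (Localization.AtPrime P) := fun i => ι (MvPolynomial.X i - MvPolynomial.C (c i))
  let Q := MvPowerSeries (Fin (m + 1)) k ⧸ Ideal.span {F}
  let mkQ := Ideal.Quotient.mkₐ k (Ideal.span {F})
  let β : (S ⧸ Ideal.span {f}) →ₐ[k] Q := Ideal.Quotient.liftₐ _ (mkQ.comp (tr c)) fun x hx => by
    obtain ⟨y, rfl⟩ := Ideal.mem_span_singleton'.mp hx
    show Ideal.Quotient.mk _ (tr c (y * f)) = 0
    rw [map_mul, Ideal.Quotient.eq_zero_iff_mem]
    exact Ideal.mul_mem_left _ _ (Ideal.subset_span rfl)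
  have hβ : ∀ p, β (π p) = mkQ (tr c p) := fun p => rfl
  have hu : ∀ y : P.primeCompl, IsUnit (β y) := by
    rintro ⟨y, hy⟩
    obtain ⟨p, rfl⟩ := Ideal.Quotient.mk_surjective y
    rw [hβ]
    refine IsUnit.map _ (isUnit_iff_constantCoeff.mpr (isUnit_iff_ne_zero.mpr ?_))
    rw [cc_tr]
    exact fun h => hy ((hev p).2 h)
  let ψ : (Localization.AtPrime P) →+* Q := IsLocalization.lift hu
  have hψ : ∀ p : S, ψ (ι p) = mkQ (tr c p) := fun p =>
    (IsLocalization.lift_eq hu (π p)).trans (hβ p)
  let M := maximalIdeal (Localization.AtPrime P)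
  have hM : M = Ideal.span (Set.range ξ) := by
    show maximalIdeal (Localization.AtPrime P) = _
    rw [← Localization.AtPrime.map_eq_maximalIdeal]
    refine le_antisymm (Ideal.map_le_iff_le_comap.2 fun y hy => ?_) (Ideal.span_le.2 ?_)
    · obtain ⟨p, rfl⟩ := Ideal.Quotient.mk_surjective y
      have h := sub_C_mem_span c p
      rw [(hev p).1 hy, map_zero, sub_zero] at h
      have h2 := Ideal.mem_map_of_mem ι h
      rw [Ideal.map_span, ← Set.range_comp] at h2
      exact h2
    · rintro _ ⟨i, rfl⟩
      exact Ideal.mem_map_of_mem _ ((hev _).2 (by simp))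
  have hres : ∀ z : (Localization.AtPrime P), ∃ r : k, z - algebraMap k (Localization.AtPrime P) r ∈ M := by
    intro z
    obtain ⟨⟨y, s⟩, hys⟩ := IsLocalization.surj P.primeCompl z
    obtain ⟨p, rfl⟩ := Ideal.Quotient.mk_surjective y
    obtain ⟨q, hq⟩ := Ideal.Quotient.mk_surjective (s : S ⧸ Ideal.span {f})
    have hq0 : MvPolynomial.eval c q ≠ 0 := fun h => s.2 (hq ▸ (hev q).2 h)
    refine ⟨MvPolynomial.eval c p / MvPolynomial.eval c q, ?_⟩
    refine (Ideal.mul_unit_mem_iff_mem _ (IsLocalization.map_units (Localization.AtPrime P) s)).1 ?_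
    have h : π (p - MvPolynomial.C (MvPolynomial.eval c p / MvPolynomial.eval c q) * q) ∈ P :=
      (hev _).2 (by simp [div_mul_cancel₀ _ hq0])
    have h2 : ι (p - MvPolynomial.C (MvPolynomial.eval c p / MvPolynomial.eval c q) * q) ∈ M := by
      show _ ∈ maximalIdeal (Localization.AtPrime P)
      rw [← Localization.AtPrime.map_eq_maximalIdeal, hι]
      exact Ideal.mem_map_of_mem _ h
    rw [map_sub, map_mul, hι, hι q, hq, show ι (MvPolynomial.C _) = algebraMap k (Localization.AtPrime P) _ from ι.commutes _] at h2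
    show (z - _) * algebraMap _ _ (s : MvPolynomial (Fin (m + 1)) k ⧸ Ideal.span {f}) ∈ _
    refine (congrArg (· ∈ M) (?_ : _ = _)).mp h2
    rw [← hys]
    ring
  obtain ⟨e⟩ := nonempty_cpl c f hF (Localization.AtPrime P) ι ψ hψ hM hres (by
    rw [hι, show π f = 0 from Ideal.Quotient.eq_zero_iff_mem.2 (Ideal.subset_span rfl), map_zero])
  let H : Matrix (Fin (m + 1)) (Fin (m + 1)) k := fun a b =>
    MvPolynomial.eval c (MvPolynomial.pderiv a (MvPolynomial.pderiv b f))
  have hH : hess F = H := by
    ext a b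
    show lin a (pderiv k b (tr c f)) = _
    rw [pderiv_tr, lin_tr]
  rw [Ideal.map_span, ← Set.range_comp]
  let J : Ideal (Localization.AtPrime P) := Ideal.span (Set.range fun j => ι (MvPolynomial.pderiv j f))
  show J = M ↔ _
  constructor
  · intro hJ
    refine ⟨F, ⟨hF, ?_⟩, ⟨e.symm⟩⟩
    show IsUnit _
    rw [polarMatrix_quadPart]
    have hx : ∀ i, ξ i ∈ J := fun i => hJ ▸ hM ▸ Ideal.subset_span ⟨i, rfl⟩
    choose r hr using fun i => Ideal.mem_span_range_iff_exists_fun.1 (hx i)
    choose R' hR' using fun i l => Ideal.Quotient.mk_surjective (ψ (r i l))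
    let B₀ : Matrix (Fin (m + 1)) (Fin (m + 1)) k := fun l i => constantCoeff (R' i l)
    refine Matrix.isUnit_det_of_right_inverse (B := B₀) ?_
    ext a i
    have h1 : Ideal.Quotient.mk (Ideal.span {F}) (∑ l, R' i l * tr c (MvPolynomial.pderiv l f)) =
        Ideal.Quotient.mk (Ideal.span {F}) (X i) := by
      have h2 := congrArg ψ (hr i)
      rw [map_sum, show ψ (ξ i) = _ from hψ _, map_sub, tr_X, tr_C, add_sub_cancel_right] at h2
      rw [map_sum]
      refine Eq.trans (Finset.sum_congr rfl fun l _ => ?_) h2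
      rw [map_mul, map_mul, hR', hψ]
      rfl
    obtain ⟨v, hv⟩ := Ideal.mem_span_singleton'.mp (Ideal.Quotient.eq.mp h1)
    have h3 := congrArg (lin a) (show ∑ l, R' i l * tr c (MvPolynomial.pderiv l f) = X i + v * F by rw [hv]; ring)
    rw [lin_add, noLow_mul hF, lin_X, add_zero, lin_sum] at h3
    rw [Matrix.mul_apply, Matrix.one_apply, ← h3]
    refine Finset.sum_congr rfl fun l _ => ?_
    rw [lin_mul, cc_tr, (hev _).1 (hP l), zero_mul, add_zero, hH, lin_tr, mul_comm]
  · rintro ⟨g, hg, ⟨e'⟩⟩
    have hU : IsUnit H.det := by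
      rw [← hH]
      refine isUnit_hess_of_surjective hF hg
        ((e.symm.toAlgHom.comp e'.symm.toAlgHom).comp (Ideal.Quotient.mkₐ k _))
        ((e.symm.surjective.comp e'.symm.surjective).comp Ideal.Quotient.mk_surjective) ?_
      show e.symm (e'.symm (Ideal.Quotient.mk _ g)) = 0
      rw [Ideal.Quotient.eq_zero_iff_mem.2 (Ideal.subset_span (Set.mem_singleton g)), map_zero, map_zero]
    refine le_antisymm (Ideal.span_le.2 ?_) ?_
    · rintro _ ⟨l, rfl⟩
      show ι _ ∈ maximalIdeal (Localization.AtPrime P)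
      rw [← Localization.AtPrime.map_eq_maximalIdeal, hι]
      exact Ideal.mem_map_of_mem _ (hP l)
    · refine le_of_le_sup_sq (O := Localization.AtPrime P) (J := J) ?_
      refine hM.trans_le (Ideal.span_le.2 ?_)
      rintro _ ⟨i, rfl⟩
      let p : S := MvPolynomial.X i - MvPolynomial.C (c i) -
        ∑ l, MvPolynomial.C (H⁻¹ l i) * MvPolynomial.pderiv l f
      have hp : ι p ∈ M ^ 2 := by
        have hp2 : p ∈ Ideal.span (Set.range fun i => MvPolynomial.X i - MvPolynomial.C (c i)) ^ 2 := by
          refine mem_span_sq c ?_ fun a => ?_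
          · simp [p, fun l => (hev _).1 (hP l)]
          · have hHa : ∑ l, H a l * H⁻¹ l i = if a = i then 1 else 0 := by
              rw [← Matrix.mul_apply, Matrix.mul_nonsing_inv _ hU, Matrix.one_apply]
            rcases eq_or_ne a i with rfl | hne
            · simp [p, MvPolynomial.pderiv_X_self] at hHa ⊢
              rw [show (∑ x, H⁻¹ x a * _) = ∑ l, H a l * H⁻¹ l a from
                Finset.sum_congr rfl fun l _ => mul_comm _ _, hHa, sub_self]
            · simp [p, MvPolynomial.pderiv_X_of_ne hne.symm, hne] at hHa ⊢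
              rw [show (∑ x, H⁻¹ x i * _) = ∑ l, H a l * H⁻¹ l i from
                Finset.sum_congr rfl fun l _ => mul_comm _ _, hHa]
        have h2 := Ideal.mem_map_of_mem ι hp2
        rw [Ideal.map_pow, Ideal.map_span, ← Set.range_comp] at h2
        rw [hM]
        exact h2
      have hx : ξ i = ι p + ∑ l, ι (MvPolynomial.C (H⁻¹ l i)) * ι (MvPolynomial.pderiv l f) := by
        simp [ξ, p]
      refine (congrArg (· ∈ J ⊔ maximalIdeal (Localization.AtPrime P) ^ 2) (hx.trans (add_comm _ _))).mpr ?_
      exact Submodule.add_mem_sup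
        (Submodule.sum_mem _ fun l _ => Ideal.mul_mem_left _ _ (Ideal.subset_span ⟨l, rfl⟩)) hp

end Groth.Agent.S16255
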