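import Groth.Statements.S16256
import Groth.Agent.S16253
import Groth.Agent.JacCrit.Quotient
import Groth.Agent.AlgSpEN.RegKinds
import Groth.Agent.RegImm44.Affine
import Groth.Agent.RegImm44.Local
import Groth.Agent.RegImm44.Comp
import Groth.Agent.EtStruct.BaseChangeDescentScheme

set_option autoImplicit false
universe u
open CategoryTheory CategoryTheory.Limits AlgebraicGeometry TopologicalSpace
open SDiv

namespace Groth.Agent.S16256

open TensorProduct KaehlerDifferential

/-- For a quotient of a smooth algebra of relative rank `m + c` by a quasi-regular sequence of length `c`,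
smoothness at a prime is the rank condition `≤ m` on the differentials. -/
theorem formallySmooth_iff_finrank_le {A B C : Type u} [CommRing A] [CommRing B] [CommRing C]
    [Algebra A B] [Algebra B C] [Algebra A C] [IsScalarTower A B C] [Algebra.FormallySmooth A B]
    (hsurj : Function.Surjective (algebraMap B C)) {c : ℕ} (f : Fin c → B)
    (hker : RingHom.ker (algebraMap B C) = Ideal.span (Set.range f))
    (hqr : CAlgX.IsQuasiRegular f) (m : ℕ) [Module.Free B Ω[B⁄A]] [Module.Finite B Ω[B⁄A]]
    (hrk : Module.finrank B Ω[B⁄A] = m + c) (q : Ideal C) [q.IsPrime] :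
    Algebra.FormallySmooth A (Localization.AtPrime q) ↔
      Module.finrank q.ResidueField (q.ResidueField ⊗[C] Ω[C⁄A]) ≤ m := by
  haveI : Nontrivial B := RingHom.domain_nontrivial (algebraMap B q.ResidueField)
  set κ := q.ResidueField
  let I := RingHom.ker (algebraMap B C)
  let g : Fin c → I := fun j => ⟨f j, hker.ge (Ideal.subset_span ⟨j, rfl⟩)⟩
  haveI : Module.Finite B I :=
    Module.Finite.of_fg (by show (RingHom.ker (algebraMap B C)).FG; rw [hker];
                            exact Submodule.fg_span (Set.finite_range f))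
  haveI : Module.Finite B I.Cotangent := Module.Finite.of_surjective _ I.toCotangent_surjective
  rw [Groth.Agent.JacCrit.Quotient.formallySmooth_atPrime_iff (A := A) hsurj q]
  let L := cotangentComplexBaseChange A C B κ
  -- the source has dimension `c`
  let π : (Fin c → B) →ₗ[B] I := Fintype.linearCombination B g
  have hπ : Function.Surjective π := by
    intro x
    obtain ⟨a, ha⟩ := Ideal.mem_span_range_iff_exists_fun.1 (hker.le x.2)
    refine ⟨a, Subtype.ext ?_⟩
    simp [π, g, Fintype.linearCombination_apply, ha]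
  let ρ : (Fin c → B) →ₗ[B] (Fin c → κ) :=
    LinearMap.pi fun j => (Algebra.linearMap B κ) ∘ₗ LinearMap.proj j
  have hρ : LinearMap.ker π ≤ LinearMap.ker ρ := by
    intro a ha
    rw [LinearMap.mem_ker] at ha ⊢
    have h0 : ∑ j, a j * f j = 0 := by
      have := congrArg Subtype.val ha
      simpa [π, g, Fintype.linearCombination_apply] using this
    funext j
    have hP : (∑ k, MvPolynomial.C (a k) * MvPolynomial.X k).IsHomogeneous 1 :=
      MvPolynomial.IsHomogeneous.sum _ _ _ fun k _ => MvPolynomial.isHomogeneous_C_mul_X _ _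
    have hev : MvPolynomial.eval f (∑ k, MvPolynomial.C (a k) * MvPolynomial.X k) ∈
        Ideal.span (Set.range f) ^ (1 + 1) := by
      rw [map_sum]
      simp [h0]
    have h1 := hqr 1 _ hP hev (Finsupp.single j 1)
    rw [MvPolynomial.coeff_sum, Finset.sum_eq_single j (fun k _ hk => by
      simp [MvPolynomial.coeff_X', hk, Finsupp.single_left_inj one_ne_zero])
      (fun h => absurd (Finset.mem_univ j) h)] at h1
    simp only [MvPolynomial.coeff_C_mul, MvPolynomial.coeff_X, if_true, mul_one] at h1
    rw [← hker] at h1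
    show algebraMap B κ (a j) = 0
    rw [IsScalarTower.algebraMap_apply B C κ, RingHom.mem_ker.mp h1, map_zero]
  let θ : I →ₗ[B] (Fin c → κ) :=
    (LinearMap.ker π).liftQ ρ hρ ∘ₗ (π.quotKerEquivOfSurjective hπ).symm.toLinearMap
  have hθ : ∀ a, θ (π a) = ρ a := fun a => by
    show (LinearMap.ker π).liftQ ρ hρ ((π.quotKerEquivOfSurjective hπ).symm (π a)) = ρ a
    rw [show (π.quotKerEquivOfSurjective hπ).symm (π a) = Submodule.Quotient.mk a from
      (LinearEquiv.symm_apply_eq _).2 rfl]
    rfl
  let v : Fin c → κ ⊗[B] I := fun j => 1 ⊗ₜ g j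
  have hv : Submodule.span κ (Set.range v) = ⊤ := by
    rw [eq_top_iff]
    rintro z -
    induction z using TensorProduct.induction_on with
    | zero => exact zero_mem _
    | add a b ha hb => exact add_mem ha hb
    | tmul r x =>
      obtain ⟨a, rfl⟩ := hπ x
      rw [show π a = ∑ j, a j • g j from rfl, TensorProduct.tmul_sum]
      refine sum_mem fun j _ => ?_
      rw [TensorProduct.tmul_smul, TensorProduct.smul_tmul',
        show (a j • r) ⊗ₜ[B] g j = (a j • r) • v j by rw [TensorProduct.smul_tmul', smul_eq_mul, mul_one]]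
      exact Submodule.smul_mem _ _ (Submodule.subset_span ⟨j, rfl⟩)
  haveI : Module.Finite κ (κ ⊗[B] I) := inferInstance
  have hsrc : Module.finrank κ (κ ⊗[B] I) = c := by
    refine le_antisymm ?_ ?_
    · rw [← finrank_top κ (κ ⊗[B] I), ← hv]
      exact (finrank_range_le_card v).trans_eq (Fintype.card_fin c)
    · have hsur : Function.Surjective (LinearMap.liftBaseChange κ θ) := by
        rw [← LinearMap.range_eq_top, eq_top_iff]
        intro y _
        rw [pi_eq_sum_univ y]
        refine sum_mem fun j _ => Submodule.smul_mem _ _ ⟨1 ⊗ₜ π (Pi.single j 1), ?_⟩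
        rw [LinearMap.liftBaseChange_tmul, one_smul, hθ]
        funext k
        by_cases h : j = k
        · subst h; simp [ρ]
        · simp [ρ, h, Ne.symm h]
      have := LinearMap.finrank_le_finrank_of_surjective hsur
      rwa [Module.finrank_fin_fun] at this
  -- exactness
  let M := C ⊗[B] Ω[B⁄A]
  let w : (Fin c → C) →ₗ[C] M :=
    Fintype.linearCombination C fun j => (1 : C) ⊗ₜ[B] D A B (f j)
  have hexact : Function.Exact w (mapBaseChange A B C) := by
    intro z
    constructor
    · intro hz
      obtain ⟨x, rfl⟩ := ((exact_kerCotangentToTensor_mapBaseChange A B C hsurj) z).1 hz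
      obtain ⟨x, rfl⟩ := Ideal.toCotangent_surjective _ x
      obtain ⟨a, rfl⟩ := hπ x
      refine ⟨fun j => algebraMap B C (a j), ?_⟩
      rw [kerCotangentToTensor_toCotangent]
      simp only [w, Fintype.linearCombination_apply, π, g]
      have : ((∑ j, a j • (⟨f j, hker.ge (Ideal.subset_span ⟨j, rfl⟩)⟩ : I) : I) : B) = ∑ j, a j * f j := by
        simp
      rw [this, map_sum, TensorProduct.tmul_sum]
      refine Finset.sum_congr rfl fun j _ => ?_
      rw [Derivation.leibniz, TensorProduct.tmul_add, TensorProduct.tmul_smul, TensorProduct.tmul_smul,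
        TensorProduct.smul_tmul', TensorProduct.smul_tmul', TensorProduct.smul_tmul']
      have h0 : (f j • (1 : C)) = 0 := by
        rw [Algebra.smul_def, mul_one]
        exact RingHom.mem_ker.mp (hker.ge (Ideal.subset_span ⟨j, rfl⟩))
      rw [h0, TensorProduct.zero_tmul, add_zero, smul_eq_mul, Algebra.smul_def]
    · rintro ⟨a, rfl⟩
      simp only [w, Fintype.linearCombination_apply, map_sum, map_smul]
      refine Finset.sum_eq_zero fun j _ => ?_
      rw [mapBaseChange_tmul, one_smul, map_D, RingHom.mem_ker.mp (g j).2, map_zero, smul_zero]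
  let T : κ ⊗[C] M →ₗ[κ] κ ⊗[C] Ω[C⁄A] := (mapBaseChange A B C).baseChange κ
  have hTs : Function.Surjective T := LinearMap.baseChange_surjective κ (mapBaseChange_surjective A B C hsurj)
  let E : κ ⊗[C] M ≃ₗ[κ] κ ⊗[B] Ω[B⁄A] := AlgebraTensorModule.cancelBaseChange B C κ κ Ω[B⁄A]
  have hkerT : (LinearMap.ker T).map E.toLinearMap = LinearMap.range L := by
    have h1 : LinearMap.ker T = LinearMap.range (w.baseChange κ) :=
      LinearMap.exact_iff.mp (lTensor_exact κ hexact (mapBaseChange_surjective A B C hsurj))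
    have hgen : Submodule.span κ (Set.range fun j : Fin c => (1 : κ) ⊗ₜ[C] (Pi.single j (1 : C) : Fin c → C)) = ⊤ := by
      rw [eq_top_iff]
      rintro z -
      induction z using TensorProduct.induction_on with
      | zero => exact zero_mem _
      | add a b ha hb => exact add_mem ha hb
      | tmul r x =>
        rw [pi_eq_sum_univ x, TensorProduct.tmul_sum]
        refine sum_mem fun j _ => ?_
        rw [TensorProduct.tmul_smul, TensorProduct.smul_tmul']
        rw [show (x j • r) = (x j • r) • (1 : κ) by rw [smul_eq_mul, mul_one], ← TensorProduct.smul_tmul']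
        refine Submodule.smul_mem _ _ (Submodule.subset_span ⟨j, ?_⟩)
        simp only
        congr 1
        funext k
        simp [Pi.single_apply, eq_comm]
    rw [h1, LinearMap.range_eq_map (w.baseChange κ), ← hgen, Submodule.map_span, Submodule.map_span,
      LinearMap.range_eq_map L, ← hv, Submodule.map_span, ← Set.range_comp, ← Set.range_comp,
      ← Set.range_comp]
    congr 2
    funext j
    simp [E, L, v, g, w, Fintype.linearCombination_apply, Pi.single_apply]
    rw [AlgebraTensorModule.cancelBaseChange_tmul, cotangentComplexBaseChange_tmul, kerToTensor_apply, one_smul, one_smul]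
  have hNκ : Module.finrank κ (κ ⊗[B] Ω[B⁄A]) = m + c := by rw [Module.finrank_baseChange, hrk]
  haveI : Module.Finite κ (κ ⊗[C] M) := Module.Finite.equiv E.symm
  have hsum : Module.finrank κ (κ ⊗[C] Ω[C⁄A]) + Module.finrank κ (LinearMap.range L) = m + c := by
    rw [← hkerT, LinearEquiv.finrank_map_eq, ← hNκ, ← E.finrank_eq]
    have := LinearMap.finrank_range_add_finrank_ker T
    rwa [LinearMap.range_eq_top.mpr hTs, finrank_top] at this
  have hrn := LinearMap.finrank_range_add_finrank_ker L
  rw [hsrc] at hrn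
  change Function.Injective L ↔ Module.finrank κ (κ ⊗[C] Ω[C⁄A]) ≤ m
  rw [← LinearMap.ker_eq_bot, ← Submodule.finrank_eq_zero]
  omega

/-- Let f : Y ⟶ X be locally of finite presentation and quasi-separated, m ≥ 0, and y a point of Y near
which f is a local complete intersection of virtual dimension m, in the factorisation sense: some
open neighbourhood U of y admits a Koszul-regular immersion i of constant codimension c into a
scheme P smooth of relative dimension m + c over X, compatibly with f. Then f is smooth on some open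
neighbourhood of y if and only if y does not lie in the m-th Jacobian locus of Y over X, the closed
subset cut out by the m-th Fitting ideal of Ω_{Y/X}. (Quasi-separatedness of f is assumed because
the module Ω_{Y/X} used here is defined for such f.) -/
theorem result
    {Y X : Scheme.{u}} (f : Y ⟶ X) [LocallyOfFinitePresentation f] [QuasiSeparated f] (m : ℕ) (y : ↥Y)
    (hlci : ∃ (U : Y.Opens) (P : Scheme.{u}) (i : (U : Scheme.{u}) ⟶ P) (π : P ⟶ X) (c : ℕ),
      y ∈ U ∧ RegImm.IsRegularImmersionOfCodim RegImm.Kind.koszul c i ∧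
        SmoothOfRelativeDimension (m + c) π ∧ i ≫ π = U.ι ≫ f) :
    (∃ V : Y.Opens, y ∈ V ∧ Smooth (V.ι ≫ f)) ↔ y ∉ (Fitt.sheafIdeal (Omega.sheaf f) m).support := by
  obtain ⟨U, P, i, π, c, hyU, ⟨hi, hreg⟩, hπ, hcomm⟩ := hlci
  haveI := hi
  obtain ⟨W, hzW, hci, rs, hlen, hseq, hker⟩ := hreg ⟨y, hyU⟩
  obtain ⟨A, hA, V, hV, hzV, eV, hsm⟩ :=
    SmoothOfRelativeDimension.exists_isStandardSmoothOfRelativeDimension (n := m + c) (f := π) (i ⟨y, hyU⟩)
  obtain ⟨h, hle, hzD⟩ := hV.exists_basicOpen_le (V := W.1) ⟨_, hzW⟩ hzV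
  let D : P.Opens := P.basicOpen h
  have hD : IsAffineOpen D := hV.basicOpen h
  have eD : D ≤ π ⁻¹ᵁ A := (P.basicOpen_le h).trans eV
  have hsmD : (π.appLE A D eD).hom.IsStandardSmoothOfRelativeDimension (m + c) := by
    rw [← Scheme.Hom.appLE_map π eV (homOfLE (P.basicOpen_le h)).op, CommRingCat.hom_comp]
    letI := hV.isLocalization_basicOpen h
    exact (RingHom.isStandardSmoothOfRelativeDimension_stableUnderCompositionWithLocalizationAway
      (m + c)).right Γ(P, D) h _ hsm
  haveI := hci
  haveI hciD : IsClosedImmersion (i ∣_ D) := Groth.Agent.RegImm44.isClosedImmersion_restrict_of_le i hle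
  have hkerD : RingHom.ker (i.app D).hom =
      (RingHom.ker (i.app W.1).hom).map (P.presheaf.map (homOfLE hle).op).hom :=
    Groth.Agent.RegImm44.ker_app_restrict i W.2 hD hle
  have hsurj : Function.Surjective (i.app D).hom := by
    haveI : IsAffine D.toScheme := hD
    have h1 := (i ∣_ D).app_surjective ⊤ (isAffineOpen_top _)
    rw [morphismRestrict_app] at h1
    have h2 : Function.Surjective (i.app (D.ι ''ᵁ ⊤)).hom := by
      intro x
      obtain ⟨w, hw⟩ := h1 (U.toScheme.presheaf.map (eqToHom (image_morphismRestrict_preimage i D ⊤)).op x)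
      exact ⟨w, (ConcreteCategory.bijective_of_isIso _).1 hw⟩
    rwa [Scheme.Opens.ι_image_top] at h2
  let Z : U.toScheme.Opens := i ⁻¹ᵁ D
  have hZ : IsAffineOpen Z := by
    haveI : IsAffine D.toScheme := hD
    exact isAffine_of_isAffineHom (i ∣_ D)
  have hZ' : IsAffineOpen (U.ι ''ᵁ Z) := hZ.image_of_isOpenImmersion U.ι
  have hyZ : y ∈ U.ι ''ᵁ Z := ⟨⟨y, hyU⟩, hzD, rfl⟩
  have eZ' : U.ι ''ᵁ Z ≤ f ⁻¹ᵁ A := by
    rintro _ ⟨z, hz, rfl⟩
    have h1 : π (i z) ∈ A := eD hz
    rw [← Scheme.Hom.comp_apply, hcomm] at h1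
    exact h1
  letI := (f.appLE A (U.ι ''ᵁ Z) eZ').hom.toAlgebra
  letI := (π.appLE A D eD).hom.toAlgebra
  letI : Algebra Γ(P, D) Γ(Y, U.ι ''ᵁ Z) := (i.app D).hom.toAlgebra
  haveI : IsScalarTower Γ(X, A) Γ(P, D) Γ(Y, U.ι ''ᵁ Z) := IsScalarTower.of_algebraMap_eq' (by
    show (f.appLE A (U.ι ''ᵁ Z) eZ').hom = (i.app D).hom.comp (π.appLE A D eD).hom
    rw [← CommRingCat.hom_comp]
    congr 1
    rw [Scheme.Hom.app_eq_appLE, Scheme.Hom.appLE_comp_appLE]
    simp_rw [hcomm]
    rw [Scheme.Hom.comp_appLE, U.ι_appLE]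
    rfl)
  haveI : Algebra.IsStandardSmoothOfRelativeDimension (m + c) Γ(X, A) Γ(P, D) := hsmD
  haveI : Algebra.IsStandardSmooth Γ(X, A) Γ(P, D) :=
    Algebra.IsStandardSmoothOfRelativeDimension.isStandardSmooth (m + c)
  rw [Groth.Agent.EtStruct.smooth_nhd_iff f y,
    formallySmooth_stalkMap_iff A hA (U.ι ''ᵁ Z) hZ' eZ' hyZ,
    Groth.Agent.S16253.not_mem_support_iff f m hA hZ' eZ' y hyZ]
  have hq : CAlgX.IsQuasiRegular fun j => (P.presheaf.map (homOfLE hle).op).hom (rs.get (Fin.cast hlen.symm j)) := by
    subst hlen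
    letI := (P.presheaf.map (homOfLE hle).op).hom.toAlgebra
    haveI : Module.Flat Γ(P, W.1) Γ(P, D) := Groth.Agent.RegImm44.flat_restrictionMap W.2 hD hle
    exact Groth.Agent.CAlg48.QRBase.isQuasiRegular_of_flat (f := rs.get)
      (Groth.Agent.AlgSpEN.seq_quasi_of_h1 (Groth.Agent.AlgSpEN.seq_h1_of_koszul hseq))
  haveI : Nontrivial Γ(P, D) := RingHom.domain_nontrivial (algebraMap Γ(P, D)
    (hZ'.primeIdealOf ⟨y, hyZ⟩).asIdeal.ResidueField)
  refine formallySmooth_iff_finrank_le hsurj _ ?_ hq m ?_ _
  · show RingHom.ker (i.app D).hom = _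
    rw [hkerD, hker, Ideal.ofList, Ideal.map_span]
    subst hlen
    congr 1
    ext z
    simp [List.mem_iff_get]
  · exact Module.finrank_eq_of_rank_eq
      (Algebra.IsStandardSmoothOfRelativeDimension.rank_kaehlerDifferential (R := Γ(X, A)) (m + c))

end Groth.Agent.S16256
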