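import Groth.Statements.S16257
import Groth.Agent.GalCohAux.EtSuppClosed
import Groth.Agent.CAlg76.FibreDim

set_option autoImplicit false
universe u
open CategoryTheory CategoryTheory.Limits AlgebraicGeometry Opposite
open FinFr

namespace Groth.Agent.S16257

set_option linter.style.haveILetI false
set_option backward.isDefEq.respectTransparency false

section Aux

open EtaleSite Groth.Agent.EtaleSite Groth.Agent.GalCohAux.EtDimVanA

attribute [-instance] Groth.Agent.GalCohAux.EtFin.instUniqueCarrierCarrierCommRingCatSpecOf_groth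

/-- Points of an integral scheme over a field are closed. -/
theorem isClosed_of_integral {W : Scheme.{u}} {L : Type u} [Field L]
    (f : W ⟶ Spec (CommRingCat.of L)) [IsIntegralHom f] (w : W) : IsClosed ({w} : Set W) := by
  haveI : IsAffine W := isAffine_of_isAffineHom f
  obtain ⟨φ, hφ⟩ := Spec.map_surjective (W.isoSpec.inv ≫ f)
  haveI : IsIntegralHom (Spec.map φ) := hφ ▸ inferInstance
  have hint : φ.hom.IsIntegral := IsIntegralHom.SpecMap_iff.1 inferInstance
  have hcl : IsClosed ({W.isoSpec.hom w} : Set (Spec Γ(W, ⊤))) := by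
    rw [PrimeSpectrum.isClosed_singleton_iff_isMaximal]
    letI := φ.hom.toAlgebra
    haveI : Algebra.IsIntegral L Γ(W, ⊤) := ⟨hint⟩
    refine Ideal.isMaximal_of_isIntegral_of_isMaximal_comap (R := L) _ ?_
    have hb : ((W.isoSpec.hom w).asIdeal.comap (algebraMap L Γ(W, ⊤))) = ⊥ :=
      (Ideal.eq_bot_or_top _).resolve_right (Ideal.IsPrime.ne_top inferInstance)
    rw [hb]
    exact Ideal.bot_isMaximal
  have h := hcl.preimage W.isoSpec.hom.continuous
  rwa [show ⇑W.isoSpec.hom ⁻¹' {W.isoSpec.hom w} = ({w} : Set W) from by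
    ext y
    exact ⟨fun hy => W.isoSpec.hom.isOpenEmbedding.injective hy, fun hy => congrArg _ hy⟩] at h

/-- Over a closed point, an integral morphism has closed points. -/
theorem isClosed_of_over_closed {P' P : Scheme.{u}} (π : P' ⟶ P) [IsIntegralHom π] (z : P')
    (hz : IsClosed ({π z} : Set P)) : IsClosed ({z} : Set P') := by
  let e := P.fromSpecResidueField (π z)
  haveI : IsClosedImmersion e := IsClosedImmersion.of_isPreimmersion e (by
    rw [Scheme.range_fromSpecResidueField]; exact hz)
  obtain ⟨w, hw⟩ : z ∈ Set.range (pullback.fst π e) := by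
    rw [Scheme.Pullback.range_fst, Set.mem_preimage, Scheme.range_fromSpecResidueField]
    exact Set.mem_singleton _
  haveI : IsIntegralHom (pullback.snd π e) := MorphismProperty.pullback_snd _ _ inferInstance
  have := (pullback.fst π e).isClosedEmbedding.isClosedMap _
    (isClosed_of_integral (L := P.residueField (π z)) (pullback.snd π e) w)
  rwa [Set.image_singleton, hw] at this

/-- Off the generic point, a smooth curve has closed points only. -/
theorem isClosed_of_ne_generic {k : Type u} [Field k] {X : Scheme.{u}}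
    (a : X ⟶ Spec (CommRingCat.of k)) [SmoothOfRelativeDimension 1 a] [IrreducibleSpace X]
    {x : X} (hx : x ≠ genericPoint X) : IsClosed ({x} : Set X) := by
  refine closure_eq_iff_isClosed.mp (Set.Subset.antisymm (fun w hw => ?_) subset_closure)
  by_contra hne
  obtain ⟨V, hV, hwV, -⟩ := exists_isAffineOpen_mem_and_subset (X := X) (x := w) (U := ⊤) trivial
  have hxw : x ⤳ w := specializes_iff_mem_closure.2 hw
  have hxV : x ∈ V := hxw.mem_open V.isOpen hwV
  have hgV : genericPoint X ∈ V := (genericPoint_specializes x).mem_open V.isOpen hxV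
  have hlt : ∀ {p q : X} (hp : p ∈ V) (hq : q ∈ V), p ⤳ q → p ≠ q →
      hV.primeIdealOf ⟨p, hp⟩ < hV.primeIdealOf ⟨q, hq⟩ := by
    intro p q hp hq h hn
    refine lt_of_le_of_ne ((PrimeSpectrum.le_iff_specializes _ _).2 ?_) fun e => hn ?_
    · refine hV.fromSpec.isOpenEmbedding.isInducing.specializes_iff.1 ?_
      rwa [hV.fromSpec_primeIdealOf, hV.fromSpec_primeIdealOf]
    · have := congrArg hV.fromSpec e
      rwa [hV.fromSpec_primeIdealOf, hV.fromSpec_primeIdealOf] at this
  obtain ⟨φ, hφ⟩ := Spec.map_surjective (hV.fromSpec ≫ a)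
  letI := φ.hom.toAlgebra
  have hs : SmoothOfRelativeDimension 1 (Spec.map (CommRingCat.ofHom (algebraMap k Γ(X, V)))) := by
    have h : SmoothOfRelativeDimension 1 (hV.fromSpec ≫ a) :=
      inferInstanceAs (SmoothOfRelativeDimension (0 + 1) (hV.fromSpec ≫ a))
    rw [← hφ] at h
    exact h
  have hd := Groth.Agent.CAlg76.FibreDim.ringKrullDim_le_of_smooth hs
  let ser : LTSeries (PrimeSpectrum Γ(X, V)) :=
    LTSeries.mk 2 ![hV.primeIdealOf ⟨_, hgV⟩, hV.primeIdealOf ⟨x, hxV⟩, hV.primeIdealOf ⟨w, hwV⟩]
      (Fin.strictMono_iff_lt_succ.2 fun i => by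
        fin_cases i
        · exact hlt hgV hxV (genericPoint_specializes x) (Ne.symm hx)
        · exact hlt hxV hwV hxw fun h => hne h.symm)
  have h2 := (Order.LTSeries.length_le_krullDim ser).trans hd
  change ((2 : ℕ) : WithBot ℕ∞) ≤ ((1 : ℕ) : WithBot ℕ∞) at h2
  exact absurd (by exact_mod_cast h2 : (2 : ℕ) ≤ 1) (by norm_num)

/-- Closed points of a scheme of finite type over an algebraically closed field. -/
theorem isSepClosed_residue {K : Type u} [Field K] [IsAlgClosed K] {X : Scheme.{u}}
    (a : X ⟶ Spec (CommRingCat.of K)) [LocallyOfFiniteType a] (x : X) (hx : IsClosed ({x} : Set X)) :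
    IsSepClosed (X.residueField x) := by
  have : IsClosedImmersion (X.fromSpecResidueField x) :=
    .of_isPreimmersion _ (by rw [Scheme.range_fromSpecResidueField]; exact hx)
  obtain ⟨ψ, hψ⟩ := Spec.map_surjective (X.fromSpecResidueField x ≫ a)
  have hft : ψ.hom.FiniteType := by
    rw [← HasRingHomProperty.Spec_iff (P := @LocallyOfFiniteType), hψ]; infer_instance
  algebraize [ψ.hom]
  have : Module.Finite K (X.residueField x) := finite_of_finite_type_of_isJacobsonRing K _
  let e := AlgEquiv.ofBijective (Algebra.ofId K (X.residueField x))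
    (IsAlgClosed.algebraMap_bijective_of_isIntegral (k := K) (K := X.residueField x))
  haveI : IsAlgClosed (X.residueField x) := IsAlgClosed.of_ringEquiv K _ e.toRingEquiv
  infer_instance

theorem main (k K : Type u) [Field k] [Field K] [Algebra k K] [IsAlgClosed K] [Algebra.IsAlgebraic k K]
    {X₀ P₀ U₀ : Scheme.{u}} (a : X₀ ⟶ Spec (CommRingCat.of k))
    [SmoothOfRelativeDimension 1 a] [GeometricallyIrreducible a]
    (j : X₀ ⟶ P₀) [IsOpenImmersion j] [EtShriek.JCont j] (b : P₀ ⟶ Spec (CommRingCat.of k)) [IsProper b]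
    (i : U₀ ⟶ X₀) [IsOpenImmersion i] [EtShriek.JCont i] [Nonempty ↥U₀] (F : EtCoh.Ab X₀) :
    Function.Bijective (Sheaf.H.map ((EtCoh.pull (FinFr.extπ K b)).map
      ((EtShriek.extZero j).map ((EtShriek.extZeroAdj i).counit.app F))) 2) := by
  haveI : IsIntegralHom (FinFr.specι k K) := by
    refine IsIntegralHom.SpecMap_iff.2 ?_
    exact algebraMap_isIntegral_iff.2 (Algebra.IsAlgebraic.isIntegral (K := k) (A := K))
  haveI hπ : IsIntegralHom (FinFr.extπ K b) := MorphismProperty.pullback_fst _ _ inferInstance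
  haveI : IsProper (FinFr.extStr K b) := MorphismProperty.pullback_snd _ _ inferInstance
  haveI : CompactSpace ↥(FinFr.ext K b) := QuasiCompact.compactSpace_of_compactSpace (FinFr.extStr K b)
  haveI : IsLocallyNoetherian (FinFr.ext K b) := LocallyOfFiniteType.isLocallyNoetherian (FinFr.extStr K b)
  haveI : IsNoetherian (FinFr.ext K b) := {}
  haveI : Nonempty ↥X₀ := Nonempty.map i inferInstance
  haveI : IrreducibleSpace ↥X₀ := GeometricallyIrreducible.irreducibleSpace_of_subsingleton a
  haveI : JacobsonSpace ↥P₀ := LocallyOfFiniteType.jacobsonSpace b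
  let φ := (EtCoh.pull (FinFr.extπ K b)).map ((EtShriek.extZero j).map ((EtShriek.extZeroAdj i).counit.app F))
  show Function.Bijective (Sheaf.H.map φ 2)
  haveI : Mono ((EtShriek.extZeroAdj i).counit.app F) := by
    refine mono_of_stalk _ fun Ω _ _ ξ => ?_
    refine (AddCommGrpCat.mono_iff_injective _).mp ?_
    by_cases hξ : ξ default ∈ Set.range i
    · haveI := isIso_stalk_counit_extZero i F ξ hξ
      infer_instance
    · exact ⟨fun _ _ _ => (EtSupp.isZero_stalk_extZero i _ ξ hξ).eq_of_tgt _ _⟩
  haveI : Mono ((EtShriek.extZero j).map ((EtShriek.extZeroAdj i).counit.app F)) :=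
    EtSupp.mono_extZero_map j _
  haveI : Mono φ := (EtCoh.pull (FinFr.extπ K b)).map_mono _
  let S : ShortComplex (EtCoh.Ab (FinFr.ext K b)) := ShortComplex.mk φ (cokernel.π φ) (cokernel.condition φ)
  have hS : S.ShortExact := { exact := ShortComplex.exact_of_g_is_cokernel _ (cokernelIsCokernel φ) }
  have hsupp : ∀ z ∈ EtPBC.supp (cokernel φ), IsClosed ({z} : Set ↥(FinFr.ext K b)) := by
    intro z hz
    refine isClosed_of_over_closed (FinFr.extπ K b) z ?_
    rw [mem_supp] at hz
    let ξ := geomPointAt (FinFr.ext K b) z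
    have hξz : (ξ ≫ FinFr.extπ K b) default = FinFr.extπ K b z :=
      (Scheme.Hom.comp_apply _ _ _).trans (congrArg _ (geomPointAt_apply _ z _))
    have hiso : IsIso ((EtCoh.stalk (ξ ≫ FinFr.extπ K b)).map
        ((EtShriek.extZero j).map ((EtShriek.extZeroAdj i).counit.app F))) → False := fun h => hz (by
      haveI : IsIso ((EtCoh.stalk ξ).map φ) :=
        (NatIso.isIso_map_iff (stalkPullIso (FinFr.extπ K b) ξ) _).2 h
      have hex := hS.map_of_exact (EtCoh.stalk ξ)
      haveI : Epi ((EtCoh.stalk ξ).map (cokernel.π φ)) := hex.epi_g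
      have hg : (EtCoh.stalk ξ).map (cokernel.π φ) = 0 := (cancel_epi ((EtCoh.stalk ξ).map φ)).1 (by
        rw [← Functor.map_comp, cokernel.condition, Functor.map_zero, comp_zero])
      exact IsZero.of_epi_eq_zero _ hg)
    by_contra hnc
    refine hiso ?_
    rcases EtSupp.exists_lift_or_notMem j (ξ ≫ FinFr.extπ K b) with ⟨ζ, hζ⟩ | hout
    · rw [← hζ]
      refine (NatIso.isIso_map_iff (EtSupp.stalkExtZeroIso j ζ) _).2 ?_
      refine isIso_stalk_counit_extZero i F ζ ?_
      by_contra hU
      refine hnc ?_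
      have hgen : genericPoint ↥X₀ ∈ Set.range i :=
        (genericPoint_spec ↥X₀).mem_open_set_iff i.isOpenEmbedding.isOpen_range |>.2
          ⟨_, trivial, ⟨(Classical.arbitrary ↥U₀), rfl⟩⟩
      have hcl := isClosed_of_ne_generic a (x := ζ default) fun h => hU (by rw [h]; exact hgen)
      have hmem : ζ default ∈ j ⁻¹' closedPoints ↥P₀ := by
        rw [j.isOpenEmbedding.preimage_closedPoints]; exact hcl
      rw [← hξz, ← hζ, Scheme.Hom.comp_apply]
      exact hmem
    · exact (EtSupp.isZero_stalk_extZero j _ _ hout).isIso (EtSupp.isZero_stalk_extZero j _ _ hout) _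
  have hC : ∀ q, 0 < q → Subsingleton (EtCoh.H (FinFr.ext K b) (cokernel φ) q) := fun q hq =>
    Groth.Agent.GalCohAux.EtSuppClosed.subsingleton_H_of_supp_closed _ hsupp q fun z hz M =>
      @Groth.Agent.GalCohAux.EtSuppClosed.subsingleton_sepClosed _ _ (isSepClosed_residue (FinFr.extStr K b) z (hsupp z hz)) M q hq
  refine ⟨(injective_iff_map_eq_zero _).2 fun x hx => ?_, fun y => ?_⟩
  · obtain ⟨w, rfl⟩ := Abelian.Ext.covariant_sequence_exact₁ _ hS x hx (rfl : 1 + 1 = 2)
    rw [@Subsingleton.elim _ (hC 1 one_pos) w 0]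
    simp
  · exact Abelian.Ext.covariant_sequence_exact₂ _ hS y (@Subsingleton.elim _ (hC 2 two_pos) _ _)

end Aux


/-- Let k be a field, K an algebraic closure of k, X₀ a smooth, separated, geometrically irreducible
k-curve of finite type, j : X₀ ⟶ P₀ an open immersion into a proper k-scheme (a compactification,
through which compactly supported cohomology is computed as H^*(P₀ ⊗_k K, j_!(-))), i : U₀ ⟶ X₀ the
inclusion of a non-empty open subscheme, and F an abelian étale sheaf on X₀ killed by an integer ν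
invertible in k. Then the canonical map H^2_c(U₀ ⊗_k K, F|U) ⟶ H^2_c(X₀ ⊗_k K, F), namely the map
induced on H^2(P₀ ⊗_k K, -) by j_! of the counit i_! i^{-1} F ⟶ F, is bijective. (The published
statement is for an arbitrary constructible ℓ-adic sheaf with Q̄_ℓ-coefficients; the statement here
is the finite-coefficient form of its excision argument, over any base field.) -/
theorem result
    (k K : Type u) [Field k] [Field K] [Algebra k K] [IsAlgClosed K] [Algebra.IsAlgebraic k K]
    {X₀ P₀ U₀ : Scheme.{u}} (a : X₀ ⟶ Spec (CommRingCat.of k))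
    [SmoothOfRelativeDimension 1 a] [IsSeparated a] [QuasiCompact a] [GeometricallyIrreducible a]
    (j : X₀ ⟶ P₀) [IsOpenImmersion j] [EtShriek.JCont j] (b : P₀ ⟶ Spec (CommRingCat.of k)) [IsProper b]
    (hj : j ≫ b = a) (i : U₀ ⟶ X₀) [IsOpenImmersion i] [EtShriek.JCont i] [Nonempty ↥U₀]
    (ν : ℕ) (hν : (ν : k) ≠ 0) (F : EtCoh.Ab X₀) (hF : EtCoh.KilledBy ν F) :
    Function.Bijective (Sheaf.H.map ((EtCoh.pull (FinFr.extπ K b)).map
      ((EtShriek.extZero j).map ((EtShriek.extZeroAdj i).counit.app F))) 2) :=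
  main k K a j b i F

end Groth.Agent.S16257
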