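import Groth.Statements.S16258
import Groth.Agent.EtConsAb.SpecialCrit
import Groth.Agent.EtConsAb.ExtZero
import Groth.Agent.EtShriekLib.Supp
import Groth.Agent.EtSupp.Basic

set_option autoImplicit false
universe u
open CategoryTheory CategoryTheory.Limits AlgebraicGeometry Opposite
open FinFr

namespace Groth.Agent.S16258

open Groth.Agent.EtaleSite Groth.Agent.EtConsAb Groth.Agent.EtShriekLib
open EtShriek (sectSupp)

/-- Supports of global sections are open where the sheaf is finite locally constant. -/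
theorem exists_nhd_subset_supp {P : Scheme.{u}} {G : EtCoh.Ab P} (O : P.Opens)
    (hG : EtCoh.IsFiniteLocallyConstant ((EtCoh.pull O.ι).obj G))
    (s : EtCoh.sect G (EtCoh.top P)) {x : P} (hxO : x ∈ O) (hx : x ∈ sectSupp G (EtCoh.top P) s) :
    ∃ D : Set P, IsOpen D ∧ x ∈ D ∧ D ⊆ sectSupp G (EtCoh.top P) s := by
  let ξ := geomPointAt P x
  have hξ : ξ default = x := geomPointAt_apply _ _ _
  obtain ⟨V, φ, M, _, _, m, hm⟩ := exists_isTriv_of_open O hG ξ (by rw [hξ]; exact hxO)
  obtain ⟨a, ha⟩ := (hm _ ξ φ).2 (germ ξ G V φ (G.obj.map ((EtCore.topIsTerminal P).from V).op s))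
  obtain ⟨W, g, y, hy, hW⟩ := (germ_eq_iff ξ G V φ _ _).1 ha
  let k : W ⟶ EtCoh.top P := g ≫ (EtCore.topIsTerminal P).from V
  have hk : G.obj.map k.op s = G.obj.map g.op (m a) := by
    rw [op_comp, Functor.map_comp]
    exact hW.symm
  let y₀ : W.left := y.left (default : Spec (CommRingCat.of _))
  have hy₀ : k.left y₀ = x := by
    have hw : y.left ≫ W.hom = ξ := Over.w (show Over.mk ξ ⟶ _ from y)
    have hk' : k.left ≫ (EtCoh.top P).hom = W.hom := MorphismProperty.Over.w k
    refine Eq.trans ?_ hξ
    rw [← hw, ← hk']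
    rfl
  have ha0 : a ≠ 0 := fun h0 => by
    rw [h0, map_zero, map_zero] at hk
    exact hx W k ⟨y₀, hy₀⟩ hk
  haveI := Groth.Agent.EtShriekLib.etale_left k
  refine ⟨Set.range k.left.base, k.left.isOpenMap.isOpen_range, ⟨y₀, hy₀⟩, ?_⟩
  rintro _ ⟨w, rfl⟩
  by_contra hw
  have h1 : w ∉ sectSupp G W (G.obj.map k.op s) := by rw [sectSupp_map]; exact hw
  obtain ⟨ψ, hψ⟩ := exists_fiber_point (geomPointAt W.left w ≫ W.hom) W w
    (by rw [Scheme.Hom.comp_apply, geomPointAt_apply])
  have h2 := (germ_eq_zero_iff G (G.obj.map k.op s) _ ψ).2 (by rw [hψ]; exact h1)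
  rw [hk, germ_res] at h2
  exact ha0 ((hm _ _ _).1 (h2.trans ((congrArg _ (map_zero m)).trans (map_zero _)).symm))


/-- Let k be a field, K an algebraic closure of k, X₀ a smooth, separated, geometrically irreducible
k-curve of finite type which is NOT proper over k, j : X₀ ⟶ P₀ an open immersion into a proper
k-scheme, and F a finite locally constant abelian étale sheaf on X₀. Then the compactly supported
cohomology in degree 0, H^0_c(X₀ ⊗_k K, F) = H^0(P₀ ⊗_k K, j_! F), is zero. (The published statement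
is for a smooth ℓ-adic sheaf with Q̄_ℓ-coefficients, together with H^0_c = H^0 for proper curves;
the statement here is the finite locally constant case of the non-proper half.) -/
theorem result
    (k K : Type u) [Field k] [Field K] [Algebra k K] [IsAlgClosed K] [Algebra.IsAlgebraic k K]
    {X₀ P₀ : Scheme.{u}} (a : X₀ ⟶ Spec (CommRingCat.of k))
    [SmoothOfRelativeDimension 1 a] [IsSeparated a] [QuasiCompact a] [GeometricallyIrreducible a]
    (ha : ¬ IsProper a)
    (j : X₀ ⟶ P₀) [IsOpenImmersion j] [EtShriek.JCont j] (b : P₀ ⟶ Spec (CommRingCat.of k)) [IsProper b]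
    (hj : j ≫ b = a) (F : EtCoh.Ab X₀) (hF : EtCoh.IsFiniteLocallyConstant F) :
    Subsingleton (EtCoh.H (FinFr.ext K b) ((EtCoh.pull (FinFr.extπ K b)).obj ((EtShriek.extZero j).obj F)) 0) := by
  classical
  let π := FinFr.extπ K b
  let P := FinFr.ext K b
  let G := (EtShriek.extZero j).obj F
  let F' := (EtCoh.pull π).obj G
  let O : P.Opens := π ⁻¹ᵁ j.opensRange
  haveI : IsIntegralHom (FinFr.specι k K) := by
    refine IsIntegralHom.SpecMap_iff.2 ?_
    exact algebraMap_isIntegral_iff.2 inferInstance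
  haveI : Surjective (FinFr.specι k K) := inferInstance
  haveI : IsIntegralHom π := inferInstance
  haveI : Surjective π := inferInstance
  have hFlc : EtCoh.IsFiniteLocallyConstant ((EtCoh.pull O.ι).obj F') := by
    haveI : Surjective (pullback.snd j (O.ι ≫ π)) := ⟨by
      rw [← Set.range_eq_univ, Scheme.Pullback.range_snd, Set.eq_univ_iff_forall]
      intro z
      exact z.2⟩
    haveI : IsIso (pullback.snd j (O.ι ≫ π)) :=
      (isIso_iff_isOpenImmersion_and_surjective _).2 ⟨inferInstance, inferInstance⟩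
    haveI : IsFinite (pullback.snd j (O.ι ≫ π)) := inferInstance
    exact isFLC_of_iso ((EtCore.pullComp O.ι π).app G) (isFLC_pull_extZero j (O.ι ≫ π) F hF)
  have hout : ∀ (s : EtCoh.sect F' (EtCoh.top P)), sectSupp F' (EtCoh.top P) s ⊆ (O : Set P) := by
    intro s x hx
    by_contra hxO
    rw [mem_sectSupp_iff] at hx
    apply hx
    let ζ := geomPointAt (EtCoh.top P).left x ≫ (EtCoh.top P).hom
    have hz : IsZero ((EtCoh.stalk ζ).obj F') :=
      (EtSupp.isZero_stalk_extZero j F (ζ ≫ π) fun hmem => hxO (by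
        show π x ∈ Set.range j
        have e : ζ default = x := by
          show (EtCoh.top P).hom (geomPointAt (EtCoh.top P).left x default) = x
          rw [geomPointAt_apply]; rfl
        rwa [Scheme.Hom.comp_apply, e] at hmem)).of_iso ((stalkPullIso π ζ).app G)
    haveI := AddCommGrpCat.subsingleton_of_isZero hz
    exact Subsingleton.elim _ _
  suffices h : Subsingleton (EtCoh.sect F' (EtCoh.top P)) from
    (Sheaf.H.equiv₀ F' (EtCore.topIsTerminal P)).injective.subsingleton
  refine subsingleton_of_forall_eq 0 fun s => eq_zero_of_sectSupp_empty _ _ ?_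
  by_contra hne
  obtain ⟨x, hx⟩ := Set.nonempty_iff_ne_empty.2 hne
  let C := sectSupp F' (EtCoh.top P) s
  have hCc : IsClosed C := isClosed_sectSupp _ _ _
  have hCo : IsOpen C := isOpen_iff_forall_mem_open.2 fun z hz => by
    obtain ⟨D, h1, h2, h3⟩ := exists_nhd_subset_supp O hFlc s (hout s hz) hz
    exact ⟨D, h3, h1, h2⟩
  let jK : FinFr.ext K a ⟶ P := pullback.map a (FinFr.specι k K) b (FinFr.specι k K) j (𝟙 _) (𝟙 _)
    (by rw [Category.comp_id]; exact hj.symm) (by simp)
  haveI : IrreducibleSpace (FinFr.ext K a) := inferInstance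
  have hrange : Set.range jK.base = (O : Set P) := by
    rw [show Set.range jK.base = _ from Scheme.Pullback.range_map _ _ _ _ _ _ _ _ _]
    simp
    rfl
  have hOC : C = (O : Set P) := subset_antisymm (hout s) fun z hz => by
    obtain ⟨z', rfl⟩ := hrange.symm ▸ hz
    obtain ⟨x', hx'⟩ := hrange.symm ▸ hout s hx
    rcases (isClopen_iff (s := jK.base ⁻¹' C)).1
      ⟨hCc.preimage jK.continuous, hCo.preimage jK.continuous⟩ with h | h
    · exact absurd (show x' ∈ jK.base ⁻¹' C by show jK x' ∈ C; rw [hx']; exact hx) (by rw [h]; exact Set.notMem_empty _)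
    · exact Set.eq_univ_iff_forall.1 h z'
  have hjc : IsClosed (Set.range j.base) := by
    have h1 : IsClosed (π.base '' (O : Set P)) := π.isClosedMap _ (hOC ▸ hCc)
    rwa [show (O : Set P) = π.base ⁻¹' Set.range j.base from rfl,
      Set.image_preimage_eq _ π.surjective] at h1
  haveI : IsClosedImmersion j := IsClosedImmersion.of_isPreimmersion j hjc
  exact ha (hj ▸ inferInstance)

end Groth.Agent.S16258
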