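import Groth.Statements.S16259
import Mathlib

set_option autoImplicit false
open W4c3wronskmg

namespace Groth.Agent.S16259

section

open Polynomial

theorem le_one_of_ode {k : Type*} [Field k] [CharZero k] (P : k[X]) (c : k) (hc0 : c ≠ 0) (hc1 : c ≠ 1) (α β γ : k)
    (h : X * (1 - X) * derivative (derivative P) + (C α + C β * X) * derivative P + C γ * P = 0) :
    rootMultiplicity c P ≤ 1 := by
  by_contra hlt
  have hP : P ≠ 0 := fun e => hlt (by simp [e])
  obtain ⟨e, he⟩ : ∃ e, rootMultiplicity c P = e + 2 := ⟨rootMultiplicity c P - 2, by omega⟩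
  obtain ⟨R, hR, hndvd⟩ := exists_eq_pow_rootMultiplicity_mul_and_not_dvd P hP c
  rw [he] at hR
  rw [dvd_iff_isRoot] at hndvd
  have hd1 : derivative P = (X - C c) ^ (e + 1) * (((e + 2 : ℕ) : k[X]) * R + (X - C c) * derivative R) := by
    rw [hR, derivative_mul, derivative_X_sub_C_pow]
    simp only [Nat.add_sub_cancel, map_natCast, show e + 2 - 1 = e + 1 from rfl]
    ring
  have hd2 : derivative (derivative P) = (X - C c) ^ e * (((e + 2 : ℕ) : k[X]) * ((e + 1 : ℕ) : k[X]) * R
      + (X - C c) * (2 * ((e + 2 : ℕ) : k[X]) * derivative R + (X - C c) * derivative (derivative R))) := by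
    rw [hd1, derivative_mul, derivative_X_sub_C_pow]
    simp only [Nat.add_sub_cancel, map_natCast, derivative_add, derivative_mul, derivative_sub, derivative_X,
      derivative_C, derivative_natCast]
    push_cast
    ring
  have h' : (X - C c) ^ e * (X * (1 - X) * (((e + 2 : ℕ) : k[X]) * ((e + 1 : ℕ) : k[X]) * R
      + (X - C c) * (2 * ((e + 2 : ℕ) : k[X]) * derivative R + (X - C c) * derivative (derivative R)))
      + (C α + C β * X) * ((X - C c) * (((e + 2 : ℕ) : k[X]) * R + (X - C c) * derivative R))
      + C γ * ((X - C c) ^ 2 * R)) = 0 := by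
    rw [hd2, hd1, hR] at h
    linear_combination h
  have h'' := congrArg (eval c) ((mul_eq_zero.1 h').resolve_left (pow_ne_zero e (X_sub_C_ne_zero c)))
  simp only [eval_mul, eval_add, eval_sub, eval_X, eval_C, eval_pow, eval_one, eval_natCast, eval_zero, sub_self,
    zero_mul, mul_zero, add_zero, zero_pow (show 2 ≠ 0 by norm_num)] at h''
  exact mul_ne_zero (mul_ne_zero hc0 (sub_ne_zero.2 hc1.symm)) (mul_ne_zero (mul_ne_zero
    (Nat.cast_ne_zero.2 (by omega)) (Nat.cast_ne_zero.2 (by omega))) hndvd) h''

end

open Polynomial in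
/-- Over a field of characteristic zero, for positive integers `i, j` and a natural number `n`, the
polynomial `h(W) = ∑_{l=0}^{n} (i choose l) (j choose (n-l)) W^(n-l)`, the coefficient of
`X^(i+j-n)` in `(X+1)^i (X+W)^j`, has no multiple root other than possibly `0` and `1`: every `c ≠
0, 1` has root multiplicity at most one. -/
theorem result
    (k : Type*) [Field k] [CharZero k] (i j n : ℕ) (hi : 0 < i) (hj : 0 < j) (c : k) (hc0 : c ≠ 0) (hc1 : c ≠ 1) :
    Polynomial.rootMultiplicity c
      (∑ l ∈ Finset.range (n + 1),
        Polynomial.C (((i.choose l) * (j.choose (n - l)) : ℕ) : k) * Polynomial.X ^ (n - l)) ≤ 1 := by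
  set P : Polynomial k := ∑ l ∈ Finset.range (n + 1),
        Polynomial.C (((i.choose l) * (j.choose (n - l)) : ℕ) : k) * Polynomial.X ^ (n - l)
  refine le_one_of_ode P c hc0 hc1 ((i : k) - n + 1) ((n : k) + j - 1) (-((n : k) * j)) ?_
  have hcoeff : ∀ m, P.coeff m = if m ≤ n then ((i.choose (n - m) * j.choose m : ℕ) : k) else 0 := fun m => by
    simp only [P, Polynomial.finsetSum_coeff, Polynomial.coeff_C_mul_X_pow]
    split_ifs with hm
    · rw [Finset.sum_eq_single (n - m)]
      · rw [if_pos (by omega), show n - (n - m) = m by omega]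
      · intro b hb hne
        have := Finset.mem_range.1 hb
        rw [if_neg (by omega)]
      · intro h; exact absurd (Finset.mem_range.2 (by omega)) h
    · exact Finset.sum_eq_zero fun b _ => if_neg (by omega)
  have hrec : ∀ m : ℕ, ((m : k) + 1) * ((m : k) + 1 + i - n) * P.coeff (m + 1) = ((n : k) - m) * ((j : k) - m) * P.coeff m := by
    intro m
    rw [hcoeff, hcoeff]
    rcases lt_trichotomy m n with hm | rfl | hm
    · rw [if_pos (by omega), if_pos hm.le, show n - m = n - (m + 1) + 1 by omega]
      obtain ⟨q, hq⟩ : ∃ q, n = m + 1 + q := ⟨n - (m + 1), by omega⟩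
      subst hq
      rw [Nat.add_sub_cancel_left]
      have h1 : ((i.choose (q + 1) : k)) * (q + 1) = (i.choose q : k) * ((i : k) - q) := by
        have := congrArg (fun x : ℕ => (x : k)) (Nat.choose_succ_right_eq i q)
        simp only [Nat.cast_mul, Nat.cast_add, Nat.cast_one] at this
        rcases le_or_gt q i with h | h
        · rw [this, Nat.cast_sub h]
        · rw [this]; simp [Nat.choose_eq_zero_of_lt h]
      have h2 : ((j.choose (m + 1) : k)) * (m + 1) = (j.choose m : k) * ((j : k) - m) := by
        have := congrArg (fun x : ℕ => (x : k)) (Nat.choose_succ_right_eq j m)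
        simp only [Nat.cast_mul, Nat.cast_add, Nat.cast_one] at this
        rcases le_or_gt m j with h | h
        · rw [this, Nat.cast_sub h]
        · rw [this]; simp [Nat.choose_eq_zero_of_lt h]
      push_cast
      linear_combination ((i : k) - q) * (i.choose q : k) * h2 - ((j : k) - m) * (j.choose m : k) * h1
    · rw [if_neg (by omega)]; simp
    · rw [if_neg (by omega), if_neg (by omega)]; simp
  ext m
  simp only [Polynomial.coeff_add, Polynomial.coeff_zero, mul_sub, sub_mul, mul_one, add_mul, mul_assoc,
    Polynomial.coeff_sub, Polynomial.coeff_C_mul]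
  rcases m with _ | _ | m
  · simp [Polynomial.coeff_derivative]
    linear_combination hrec 0
  · simp [Polynomial.coeff_derivative]
    have := hrec 1
    norm_num at this
    linear_combination this
  · simp [Polynomial.coeff_derivative, Polynomial.coeff_X_mul]
    have := hrec (m + 2)
    push_cast at this ⊢
    linear_combination this

end Groth.Agent.S16259
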