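import Groth.Statements.S16260
import Mathlib

set_option autoImplicit false
open W4c3wronskmg

namespace Groth.Agent.S16260

section
open Polynomial
variable {k : Type*} [Field k]

/-- `D * (U / E)'` for `E = X^a (X-1)^b`, `D = X^(a+1) (X-1)^(b+1)`. -/
noncomputable def delta (a b : ℕ) : k[X] →ₗ[k] k[X] :=
  (LinearMap.mulLeft k ((X : k[X]) * (X - 1))).comp derivative -
    LinearMap.mulLeft k ((a : k[X]) * (X - 1) + (b : k[X]) * X)

lemma delta_apply (a b : ℕ) (U : k[X]) :
    delta a b U = X * (X - 1) * derivative U - ((a : k[X]) * (X - 1) + (b : k[X]) * X) * U := rfl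

lemma mul_delta (a b n m : ℕ) :
    delta a b ((X : k[X]) ^ n * (X - 1) ^ m) =
      ((n : k[X]) * (X - 1) + (m : k[X]) * X - ((a : k[X]) * (X - 1) + (b : k[X]) * X)) *
        (X ^ n * (X - 1) ^ m) := by
  rw [delta_apply, derivative_mul]
  rcases n with _ | n <;> rcases m with _ | m <;>
    simp [derivative_pow, derivative_sub] <;> ring

lemma dvd_of_dvd_delta [CharZero k] (a b : ℕ) {p : k} (hp0 : p ≠ 0) (hp1 : p ≠ 1) {U : k[X]}
    (hU : U.eval p = 0) : ∀ {m : ℕ}, (X - C p) ^ m ∣ delta a b U → (X - C p) ^ (m + 1) ∣ U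
  | 0, _ => by simpa using dvd_iff_isRoot.2 hU
  | m + 1, h => by
    obtain ⟨W, rfl⟩ := dvd_of_dvd_delta a b hp0 hp1 hU ((pow_dvd_pow _ m.le_succ).trans h)
    have he : delta a b ((X - C p) ^ (m + 1) * W) = (X - C p) ^ m *
        (X * (X - 1) * (C ((m : k) + 1) * W + (X - C p) * derivative W) -
          ((a : k[X]) * (X - 1) + (b : k[X]) * X) * ((X - C p) * W)) := by
      rw [delta_apply, derivative_mul, derivative_X_sub_C_pow]
      simp only [Nat.add_sub_cancel, Nat.cast_add, Nat.cast_one, map_add, map_one, map_natCast]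
      ring
    rw [he, pow_succ] at h
    have h1 := (mul_dvd_mul_iff_left (pow_ne_zero m (X_sub_C_ne_zero p))).1 h
    rw [dvd_iff_isRoot] at h1
    simp only [IsRoot.def, eval_sub, eval_mul, eval_add, eval_X, eval_one, eval_C, sub_self, zero_mul,
      mul_zero, add_zero, sub_zero, mul_eq_zero, sub_eq_zero] at h1
    have hm : (m : k) + 1 ≠ 0 := by exact_mod_cast m.succ_ne_zero
    rw [pow_succ (X - C p) (m + 1)]
    refine mul_dvd_mul_left _ (dvd_iff_isRoot.2 ?_)
    rcases h1 with (h1 | h1) | (h1 | h1)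
    · exact absurd h1 hp0
    · exact absurd h1 hp1
    · exact absurd h1 hm
    · exact h1

end

open Polynomial in
/-- Let `k` be a field of characteristic zero, `a, b, i` positive integers with `i ≤ a + b`, and `j = a
+ b + 2 - i`. On the projective line with three marked points `A = 0`, `B = 1`, `C = ∞`, the
`(a+b+1)`-dimensional linear system `V = H⁰(ω((1+a)A)) ⊕ H⁰(ω((1+b)B)) ⊕ H⁰(ω(2C)) ⊆ H⁰(ω((1+a)A +
(1+b)B + 2C)) ≅ H⁰(O(a+b+2))` becomes, in the affine coordinate, the span of the multiples of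
`X^(a+1)` of degree at most `a+b`, the multiples of `(X-1)^(b+1)` of degree at most `a+b`, and
`X^(a+1) (X-1)^(b+1)`; and `V(-iP-jQ)` is the subspace of members divisible by `(X-p)^i (X-q)^j`.
Then there are no points `P = p`, `Q = q` other than `A, B, C` (that is, `p, q ∉ {0, 1}`; `p = q`
allowed) with both `dim V(-iP-jQ) ≥ 1` and `dim V(-(i-1)P-(j-1)Q) ≥ 2`. (The published statement is
over the complex numbers.) -/
theorem result
    (k : Type*) [Field k] [CharZero k] (a b i j : ℕ) (ha : 0 < a) (hb : 0 < b) (hi : 0 < i) (hiab : i ≤ a + b)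
    (hj : i + j = a + b + 2)
    (V : Submodule k (Polynomial k))
    (hV : V = ((Ideal.span {(X : Polynomial k) ^ (a + 1)}).restrictScalars k ⊓ Polynomial.degreeLE k ↑(a + b)) ⊔
      ((Ideal.span {((X : Polynomial k) - 1) ^ (b + 1)}).restrictScalars k ⊓ Polynomial.degreeLE k ↑(a + b)) ⊔
      Submodule.span k {(X : Polynomial k) ^ (a + 1) * (X - 1) ^ (b + 1)})
    (p q : k) (hp0 : p ≠ 0) (hp1 : p ≠ 1) (hq0 : q ≠ 0) (hq1 : q ≠ 1) :
    ¬ (1 ≤ Module.finrank k ↥(V ⊓ (Ideal.span {(X - C p) ^ i * (X - C q) ^ j}).restrictScalars k) ∧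
       2 ≤ Module.finrank k ↥(V ⊓ (Ideal.span {(X - C p) ^ (i - 1) * (X - C q) ^ (j - 1)}).restrictScalars k)) := by
  classical
  rintro ⟨-, h2⟩
  let Δ : k[X] →ₗ[k] k[X] := delta a b
  let E : k[X] := X ^ a * (X - 1) ^ b
  have hE0 : E ≠ 0 := mul_ne_zero (pow_ne_zero _ X_ne_zero) (pow_ne_zero _ (X_sub_C_ne_zero (1 : k) |> fun h => by simpa using h))
  have hdegE : ∀ n m : ℕ, n + m ≤ a + b + 1 → (X : k[X]) ^ n * (X - 1) ^ m ∈ degreeLE k ↑(a + b + 1) := by
    intro n m hnm
    rw [mem_degreeLE, ← C_1]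
    refine le_trans (degree_mul_le _ _) ?_
    rw [degree_X_pow, degree_pow, degree_X_sub_C, nsmul_one]
    exact_mod_cast hnm
  let L : Submodule k k[X] := degreeLE k ↑(a + b + 1)
  -- every element of `V` is a derivative
  have hVL : V ≤ L.map Δ := by
    have hcoef : ∀ (e : ℕ) (c : k) (A : k[X]), A.natDegree < e →
        ∀ Φ : k[X], (∀ m < e, Φ * (X - C c) ^ m ∈ L.map Δ) → Φ * A ∈ L.map Δ := by
      intro e c A hA Φ hΦ
      have hA' : A = ∑ m ∈ Finset.range e, C ((taylor c A).coeff m) * (X - C c) ^ m := by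
        conv_lhs => rw [← sum_taylor_eq A c]
        rw [sum_over_range' _ (fun n => by simp) e (by rwa [natDegree_taylor])]
      rw [hA', Finset.mul_sum]
      refine Submodule.sum_mem _ fun m hm => ?_
      rw [mul_left_comm, ← smul_eq_C_mul]
      exact Submodule.smul_mem _ _ (hΦ m (Finset.mem_range.1 hm))
    rw [hV]
    refine sup_le (sup_le ?_ ?_) ?_
    · rintro f ⟨hf, hfd⟩
      obtain ⟨A, rfl⟩ := Ideal.mem_span_singleton.1 (Submodule.restrictScalars_mem k _ _ |>.1 hf)
      by_cases hA : A = 0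
      · simp [hA]
      refine hcoef b 1 A ?_ _ fun m hm => ?_
      · have hd := natDegree_le_of_degree_le (mem_degreeLE.1 hfd)
        rw [natDegree_mul (pow_ne_zero _ X_ne_zero) hA, natDegree_X_pow] at hd
        omega
      · refine ⟨C ((m : k) - b)⁻¹ * (X ^ a * (X - 1) ^ m), ?_, ?_⟩
        · rw [← smul_eq_C_mul]
          exact Submodule.smul_mem _ _ (hdegE _ _ (by omega))
        · rw [← smul_eq_C_mul, map_smul, smul_eq_C_mul]
          show C ((m : k) - b)⁻¹ * delta a b _ = _
          have hne : (m : k) - b ≠ 0 := sub_ne_zero.2 (by exact_mod_cast hm.ne)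
          rw [mul_delta, show ((a : k[X]) * (X - 1) + (m : k[X]) * X - ((a : k[X]) * (X - 1) + (b : k[X]) * X))
            = C ((m : k) - b) * X by simp; ring, mul_assoc (C ((m : k) - b)), ← mul_assoc, ← map_mul,
            inv_mul_cancel₀ hne, map_one, pow_succ]
          ring
    · rintro f ⟨hf, hfd⟩
      obtain ⟨A, rfl⟩ := Ideal.mem_span_singleton.1 (Submodule.restrictScalars_mem k _ _ |>.1 hf)
      by_cases hA : A = 0
      · simp [hA]
      refine hcoef a 0 A ?_ _ fun m hm => ?_
      · have hd := natDegree_le_of_degree_le (mem_degreeLE.1 hfd)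
        rw [← C_1, natDegree_mul (pow_ne_zero _ (X_sub_C_ne_zero _)) hA, natDegree_pow,
          natDegree_X_sub_C] at hd
        omega
      · refine ⟨C ((m : k) - a)⁻¹ * (X ^ m * (X - 1) ^ b), ?_, ?_⟩
        · rw [← smul_eq_C_mul]
          exact Submodule.smul_mem _ _ (hdegE _ _ (by omega))
        · rw [← smul_eq_C_mul, map_smul, smul_eq_C_mul]
          show C ((m : k) - a)⁻¹ * delta a b _ = _
          have hne : (m : k) - a ≠ 0 := sub_ne_zero.2 (by exact_mod_cast hm.ne)
          rw [mul_delta, show ((m : k[X]) * (X - 1) + (b : k[X]) * X - ((a : k[X]) * (X - 1) + (b : k[X]) * X))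
            = C ((m : k) - a) * (X - 1) by simp; ring, mul_assoc (C ((m : k) - a)), ← mul_assoc, ← map_mul,
            inv_mul_cancel₀ hne, map_one, map_zero, sub_zero, pow_succ]
          ring
    · rw [Submodule.span_le, Set.singleton_subset_iff]
      refine ⟨X ^ (a + 1) * (X - 1) ^ b, hdegE _ _ (by omega), ?_⟩
      show delta a b _ = _
      rw [mul_delta, pow_succ (X - 1 : k[X]) b]
      push_cast
      ring
  let G : k[X] := (X - C p) ^ (i - 1) * (X - C q) ^ (j - 1)
  let I : Submodule k k[X] := (Ideal.span {G}).restrictScalars k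
  let T : Submodule k k[X] := L ⊓ I.comap Δ
  haveI hLfin : Module.Finite k L := by
    show Module.Finite k (degreeLE k ↑(a + b + 1))
    rw [degreeLE_eq_span_X_pow]
    exact Module.Finite.span_of_finite k (Finset.finite_toSet _)
  haveI : Module.Finite k T := Submodule.finiteDimensional_of_le inf_le_left
  let g : T →ₗ[k] k[X] := Δ.domRestrict T
  have hrange : V ⊓ I ≤ LinearMap.range g := by
    rintro f ⟨hfV, hfI⟩
    obtain ⟨U, hU, rfl⟩ := hVL hfV
    exact ⟨⟨U, hU, hfI⟩, rfl⟩
  have hΔE : Δ E = 0 := by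
    show delta a b _ = 0
    rw [mul_delta, sub_self, zero_mul]
  have hET : E ∈ T := ⟨hdegE a b (by omega), by
    show Δ E ∈ I
    rw [hΔE]; exact zero_mem _⟩
  have hker : 1 ≤ Module.finrank k (LinearMap.ker g) := by
    rw [Submodule.one_le_finrank_iff]
    intro hbot
    have : (⟨E, hET⟩ : T) ∈ LinearMap.ker g := hΔE
    rw [hbot, Submodule.mem_bot] at this
    exact hE0 (congrArg Subtype.val this)
  have h2' : 2 ≤ Module.finrank k (LinearMap.range g) := h2.trans (Submodule.finrank_mono hrange)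
  have hT : 3 ≤ Module.finrank k T := by
    have := g.finrank_range_add_finrank_ker
    omega
  -- a polynomial in `T` vanishing at `p` and `q` vanishes to high order there
  have hdvdΔ : ∀ U ∈ T, G ∣ Δ U := fun U hU =>
    Ideal.mem_span_singleton.1 ((Submodule.restrictScalars_mem k _ _).1 hU.2)
  have hdeg : ∀ U ∈ T, U.natDegree ≤ a + b + 1 := fun U hU =>
    natDegree_le_of_degree_le (mem_degreeLE.1 hU.1)
  by_cases hpq : p = q
  · subst hpq
    let e : T →ₗ[k] k := (leval p).comp T.subtype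
    have he1 : Module.finrank k (LinearMap.range e) ≤ 1 :=
      (Submodule.finrank_le _).trans (Module.finrank_self k).le
    have he2 : 2 ≤ Module.finrank k (LinearMap.ker e) := by
      have := e.finrank_range_add_finrank_ker
      omega
    have hle : (LinearMap.ker e).map T.subtype ≤ Submodule.span k {(X - C p) ^ (a + b + 1)} := by
      rintro _ ⟨⟨U, hU⟩, hUe, rfl⟩
      have hd : (X - C p) ^ (a + b + 1) ∣ U := by
        refine dvd_of_dvd_delta a b hp0 hp1 hUe ?_
        have := hdvdΔ U hU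
        rwa [show G = (X - C p) ^ (a + b) by
          show _ * _ = _
          rw [← pow_add]; congr 1; omega] at this
      obtain ⟨W, hW⟩ := hd
      show U ∈ _
      rw [Submodule.mem_span_singleton]
      by_cases hW0 : W = 0
      · exact ⟨0, by simp [hW, hW0]⟩
      have hnd := hdeg U hU
      rw [hW, natDegree_mul (pow_ne_zero _ (X_sub_C_ne_zero _)) hW0, natDegree_pow,
        natDegree_X_sub_C] at hnd
      refine ⟨W.coeff 0, ?_⟩
      rw [hW, smul_eq_C_mul, ← eq_C_of_natDegree_eq_zero (p := W) (by omega), mul_comm]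
    have h3 := Submodule.finrank_mono hle
    rw [← LinearEquiv.finrank_eq (Submodule.equivMapOfInjective _ T.injective_subtype _),
      finrank_span_singleton (pow_ne_zero _ (X_sub_C_ne_zero p))] at h3
    omega
  · let e : T →ₗ[k] k × k := ((leval p).prod (leval q)).comp T.subtype
    have he1 : Module.finrank k (LinearMap.range e) ≤ 2 :=
      (Submodule.finrank_le _).trans (by simp)
    have he2 : 1 ≤ Module.finrank k (LinearMap.ker e) := by
      have := e.finrank_range_add_finrank_ker
      omega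
    obtain ⟨⟨U, hU⟩, hUe, hU0⟩ := Submodule.exists_mem_ne_zero_of_ne_bot (Submodule.one_le_finrank_iff.1 he2)
    have hU0' : U ≠ 0 := fun h => hU0 (Subtype.ext h)
    have hev : U.eval p = 0 ∧ U.eval q = 0 := Prod.mk.inj hUe
    have hjpos : 1 ≤ j := by omega
    have dp : (X - C p) ^ i ∣ U := by
      have := dvd_of_dvd_delta a b hp0 hp1 hev.1 ((dvd_mul_right _ _).trans (hdvdΔ U hU))
      rwa [Nat.sub_add_cancel hi] at this
    have dq : (X - C q) ^ j ∣ U := by
      have := dvd_of_dvd_delta a b hq0 hq1 hev.2 ((dvd_mul_left _ _).trans (hdvdΔ U hU))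
      rwa [Nat.sub_add_cancel hjpos] at this
    have hcop : IsCoprime ((X - C p) ^ i) ((X - C q) ^ j) :=
      (isCoprime_X_sub_C_of_isUnit_sub (sub_ne_zero.2 hpq).isUnit).pow
    have h3 := natDegree_le_of_dvd (hcop.mul_dvd dp dq) hU0'
    rw [natDegree_mul (pow_ne_zero _ (X_sub_C_ne_zero _)) (pow_ne_zero _ (X_sub_C_ne_zero _)),
      natDegree_pow, natDegree_pow, natDegree_X_sub_C, natDegree_X_sub_C] at h3
    have := hdeg U hU
    omega

end Groth.Agent.S16260
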