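import Groth.Statements.S16261
import Mathlib

set_option autoImplicit false
open W4c3wronskmg

namespace Groth.Agent.S16261

open Polynomial in
/-- With `k` of characteristic zero, `a, b, i` positive, `i ≤ a + b`, `j = a + b + 2 - i` and `V ⊆ k[X]`
the linear system of the first assertion (marked points `A = 0`, `B = 1`, `C = ∞`; `V` spanned by
the multiples of `X^(a+1)` of degree at most `a+b`, the multiples of `(X-1)^(b+1)` of degree at most
`a+b`, and `X^(a+1) (X-1)^(b+1)`): if the point `P` is put at `A` and `Q = q` is any point other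
than `C`, and both `dim V(-iA-jQ) ≥ 1` and `dim V(-(i-1)A-(j-1)Q) ≥ 2` hold, then `i ≥ a + 1`. (The
published statement is over the complex numbers.) -/
theorem result
    (k : Type*) [Field k] [CharZero k] (a b i j : ℕ) (ha : 0 < a) (hb : 0 < b) (hi : 0 < i) (hiab : i ≤ a + b)
    (hj : i + j = a + b + 2)
    (V : Submodule k (Polynomial k))
    (hV : V = ((Ideal.span {(X : Polynomial k) ^ (a + 1)}).restrictScalars k ⊓ Polynomial.degreeLE k ↑(a + b)) ⊔
      ((Ideal.span {((X : Polynomial k) - 1) ^ (b + 1)}).restrictScalars k ⊓ Polynomial.degreeLE k ↑(a + b)) ⊔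
      Submodule.span k {(X : Polynomial k) ^ (a + 1) * (X - 1) ^ (b + 1)})
    (q : k)
    (h1 : 1 ≤ Module.finrank k ↥(V ⊓ (Ideal.span {(X : Polynomial k) ^ i * (X - C q) ^ j}).restrictScalars k))
    (h2 : 2 ≤ Module.finrank k ↥(V ⊓ (Ideal.span {(X : Polynomial k) ^ (i - 1) * (X - C q) ^ (j - 1)}).restrictScalars k)) :
    a + 1 ≤ i := by
  by_contra! hia
  obtain ⟨n, hn⟩ : ∃ n, a + 1 - i = n := ⟨_, rfl⟩
  set T : Polynomial k := (X : Polynomial k) ^ (a + 1) * (X - 1) ^ (b + 1)
  have hstr : ∀ P ∈ V, ∃ (A B : Polynomial k) (l : k), A.natDegree + 1 ≤ b ∧ B.natDegree + 1 ≤ a ∧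
      P = X ^ (a + 1) * A + (X - 1) ^ (b + 1) * B + C l * T := by
    intro P hP
    rw [hV, Submodule.mem_sup] at hP
    obtain ⟨y, hy, z, hz, rfl⟩ := hP
    obtain ⟨y₁, ⟨hy₁, hd₁⟩, y₂, ⟨hy₂, hd₂⟩, rfl⟩ := Submodule.mem_sup.1 hy
    obtain ⟨A, rfl⟩ := Ideal.mem_span_singleton.1 hy₁
    obtain ⟨B, rfl⟩ := Ideal.mem_span_singleton.1 hy₂
    obtain ⟨l, rfl⟩ := Submodule.mem_span_singleton.1 hz
    refine ⟨A, B, l, ?_, ?_, by rw [Polynomial.smul_eq_C_mul]⟩
    · by_cases h : A = 0
      · simp [h]; omega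
      have := Polynomial.natDegree_le_of_degree_le (Polynomial.mem_degreeLE.1 hd₁)
      rw [Polynomial.natDegree_mul (pow_ne_zero _ Polynomial.X_ne_zero) h, Polynomial.natDegree_X_pow] at this
      omega
    · by_cases h : B = 0
      · simp [h]; omega
      have := Polynomial.natDegree_le_of_degree_le (Polynomial.mem_degreeLE.1 hd₂)
      rw [← map_one (C : k →+* Polynomial k), Polynomial.natDegree_mul (pow_ne_zero _ (Polynomial.X_sub_C_ne_zero _)) h,
        Polynomial.natDegree_pow, Polynomial.natDegree_X_sub_C] at this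
      omega
  have hTd : T.natDegree ≤ a + b + 2 := by
    refine Polynomial.natDegree_mul_le.trans ?_
    have := Polynomial.natDegree_pow_le (p := (X - 1 : Polynomial k)) (n := b + 1)
    have h1 : (X - 1 : Polynomial k).natDegree ≤ 1 := by rw [← map_one (C : k →+* Polynomial k), Polynomial.natDegree_X_sub_C]
    rw [Polynomial.natDegree_X_pow]
    nlinarith
  have hone : ∀ (m : ℕ) (x : k), ((X - C x : Polynomial k) ^ m).coeff m = 1 := fun m x => by
    have hd : ((X - C x : Polynomial k) ^ m).natDegree = m := by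
      rw [Polynomial.natDegree_pow, Polynomial.natDegree_X_sub_C, mul_one]
    conv_lhs => arg 2; rw [← hd]
    exact ((Polynomial.monic_X_sub_C x).pow m).coeff_natDegree
  have htop : ∀ (m : ℕ) (x : k), ((X - C x) ^ (m + 1)).coeff m = -((m : k) + 1) * x := by
    intro m x
    induction m with
    | zero => simp
    | succ m ih =>
      rw [pow_succ, mul_sub, Polynomial.coeff_sub, Polynomial.coeff_mul_X, Polynomial.coeff_mul_C, ih, hone]
      push_cast; ring
  have hdeg : ∀ P ∈ V, P.natDegree ≤ a + b + 2 ∧ P.coeff (a + b + 1) + ((b : k) + 1) * P.coeff (a + b + 2) = 0 := by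
    intro P hP
    obtain ⟨A, B, l, hA, hB, rfl⟩ := hstr P hP
    have d1 : (X ^ (a + 1) * A).natDegree ≤ a + b := by
      refine Polynomial.natDegree_mul_le.trans ?_; rw [Polynomial.natDegree_X_pow]; omega
    have d2 : ((X - 1 : Polynomial k) ^ (b + 1) * B).natDegree ≤ a + b := by
      refine Polynomial.natDegree_mul_le.trans ?_
      rw [← map_one (C : k →+* Polynomial k), Polynomial.natDegree_pow, Polynomial.natDegree_X_sub_C]; omega
    refine ⟨(Polynomial.natDegree_add_le _ _).trans (max_le ((Polynomial.natDegree_add_le _ _).trans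
      (max_le (by omega) (by omega))) ((Polynomial.natDegree_C_mul_le _ _).trans hTd)), ?_⟩
    rw [Polynomial.coeff_add, Polynomial.coeff_add, Polynomial.coeff_add, Polynomial.coeff_add,
      Polynomial.coeff_eq_zero_of_natDegree_lt (lt_of_le_of_lt d1 (by omega : a + b < a + b + 1)),
      Polynomial.coeff_eq_zero_of_natDegree_lt (lt_of_le_of_lt d2 (by omega : a + b < a + b + 1)),
      Polynomial.coeff_eq_zero_of_natDegree_lt (lt_of_le_of_lt d1 (by omega : a + b < a + b + 2)),
      Polynomial.coeff_eq_zero_of_natDegree_lt (lt_of_le_of_lt d2 (by omega : a + b < a + b + 2)),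
      Polynomial.coeff_C_mul, Polynomial.coeff_C_mul]
    simp only [T, ← map_one (C : k →+* Polynomial k)]
    rw [show a + b + 1 = b + (a + 1) by omega, Polynomial.coeff_X_pow_mul, htop, show a + b + 2 = (b + 1) + (a + 1) by omega,
      Polynomial.coeff_X_pow_mul]
    have hm := (Polynomial.monic_X_sub_C (1 : k)).pow (b + 1)
    have hd : ((X - C (1 : k)) ^ (b + 1)).natDegree = b + 1 := by
      rw [Polynomial.natDegree_pow, Polynomial.natDegree_X_sub_C, mul_one]
    rw [hone]
    ring
  -- `P₀ ∈ V`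
  obtain ⟨j', rfl⟩ : ∃ j', j = j' + 1 := ⟨j - 1, by omega⟩
  obtain ⟨i', rfl⟩ : ∃ i', i = i' + 1 := ⟨i - 1, by omega⟩
  try simp only [Nat.add_sub_cancel] at h2
  set Q : Polynomial k := (X : Polynomial k) ^ i' * (X - C q) ^ j'
  have hQm : Q.Monic := (Polynomial.monic_X_pow _).mul ((Polynomial.monic_X_sub_C q).pow _)
  have hQd : Q.natDegree = i' + j' := by
    rw [(Polynomial.monic_X_pow _).natDegree_mul ((Polynomial.monic_X_sub_C q).pow _), Polynomial.natDegree_X_pow,
      Polynomial.natDegree_pow, Polynomial.natDegree_X_sub_C, mul_one]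
  have hq : ((j' : k) + 1) * q = (b : k) + 1 := by
    haveI := Module.nontrivial_of_finrank_pos (R := k) h1
    obtain ⟨⟨P, hP, hPI⟩, hne⟩ := exists_ne (0 : ↥(V ⊓ (Ideal.span {(X : Polynomial k) ^ (i' + 1) * (X - C q) ^ (j' + 1)}).restrictScalars k))
    obtain ⟨R, rfl⟩ := Ideal.mem_span_singleton.1 hPI
    have hR : R ≠ 0 := fun e => hne (Subtype.ext (by simp [e]))
    have hP0 : ((X : Polynomial k) ^ (i' + 1) * (X - C q) ^ (j' + 1)).natDegree = a + b + 2 := by
      rw [(Polynomial.monic_X_pow _).natDegree_mul ((Polynomial.monic_X_sub_C q).pow _), Polynomial.natDegree_X_pow,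
        Polynomial.natDegree_pow, Polynomial.natDegree_X_sub_C]
      omega
    obtain ⟨hd, hc⟩ := hdeg _ hP
    rw [Polynomial.natDegree_mul (fun e => by simp [e] at hP0) hR, hP0] at hd
    obtain ⟨r, rfl⟩ : ∃ r, R = C r := ⟨_, Polynomial.eq_C_of_natDegree_le_zero (by omega)⟩
    have hr : r ≠ 0 := by simpa using hR
    rw [mul_comm _ (C r), Polynomial.coeff_C_mul, Polynomial.coeff_C_mul, show a + b + 1 = j' + (i' + 1) by omega,
      Polynomial.coeff_X_pow_mul, htop, show a + b + 2 = (j' + 1) + (i' + 1) by omega, Polynomial.coeff_X_pow_mul] at hc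
    have hm := (Polynomial.monic_X_sub_C q).pow (j' + 1)
    have hd' : ((X - C q) ^ (j' + 1)).natDegree = j' + 1 := by
      rw [Polynomial.natDegree_pow, Polynomial.natDegree_X_sub_C, mul_one]
    rw [hone] at hc
    refine sub_eq_zero.1 ((mul_eq_zero.1 (?_ : r * (((j' : k) + 1) * q - ((b : k) + 1)) = 0)).resolve_left hr)
    linear_combination -hc
  have hQV : Q ∈ V := by
    let gens : Fin 2 → Polynomial k := ![Q, Q * (X ^ 2 - C q * X)]
    have hle : V ⊓ (Ideal.span {Q}).restrictScalars k ≤ Submodule.span k (Set.range gens) := by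
      rintro P ⟨hP, hPI⟩
      obtain ⟨R, rfl⟩ := Ideal.mem_span_singleton.1 hPI
      obtain ⟨hd, hc⟩ := hdeg _ hP
      have hR2 : R.natDegree ≤ 2 := by
        by_cases hR : R = 0
        · simp [hR]
        rw [Polynomial.natDegree_mul hQm.ne_zero hR, hQd] at hd; omega
      have hR : R = C (R.coeff 2) * X ^ 2 + C (R.coeff 1) * X + C (R.coeff 0) :=
        Polynomial.eq_quadratic_of_degree_le_two (Polynomial.degree_le_of_natDegree_le hR2)
      set r0 := R.coeff 0; set r1 := R.coeff 1; set r2 := R.coeff 2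
      have hr1 : r1 = -(q * r2) := by
        have eQ : a + b = i' + j' := by omega
        have c0 : Q.coeff (i' + j') = 1 := hQd ▸ hQm.coeff_natDegree
        have c1 : Q.coeff (i' + j' + 1) = 0 := Polynomial.coeff_eq_zero_of_natDegree_lt (by omega)
        have c2 : Q.coeff (i' + j' + 2) = 0 := Polynomial.coeff_eq_zero_of_natDegree_lt (by omega)
        have cm : j' ≠ 0 → Q.coeff (i' + j' - 1) = -((j' : k)) * q := by
          intro hj0
          obtain ⟨l, rfl⟩ : ∃ l, j' = l + 1 := ⟨j' - 1, by omega⟩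
          rw [show i' + (l + 1) - 1 = l + i' by omega, Polynomial.coeff_X_pow_mul, htop]; push_cast; ring
        rw [hR, show Q * (C r2 * X ^ 2 + C r1 * X + C r0) = C r2 * (Q * X ^ 2) + C r1 * (Q * X ^ 1) + C r0 * Q by ring,
          eQ] at hc
        simp only [Polynomial.coeff_add, Polynomial.coeff_C_mul, Polynomial.coeff_mul_X_pow', c0, c1, c2] at hc
        rw [if_pos (by omega), if_pos (by omega), if_pos (by omega), if_pos (by omega),
          show i' + j' + 1 - 2 = i' + j' - 1 by omega, cm (by omega), Nat.add_sub_cancel, Nat.add_sub_cancel,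
          show i' + j' + 2 - 1 = i' + j' + 1 by omega, c0, c1] at hc
        linear_combination hc + r2 * hq
      rw [Submodule.mem_span_range_iff_exists_fun]
      refine ⟨![r0, r2], ?_⟩
      conv_rhs => rw [hR, hr1]
      simp [gens, Fin.sum_univ_two, Polynomial.smul_eq_C_mul]
      ring
    have hfin : Module.finrank k (Submodule.span k (Set.range gens)) ≤ 2 := (finrank_range_le_card gens).trans (by simp)
    haveI := FiniteDimensional.span_of_finite k (Set.finite_range gens)
    have heq := Submodule.eq_of_le_of_finrank_le hle (hfin.trans h2)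
    exact (heq.ge (Submodule.subset_span ⟨0, rfl⟩) : Q ∈ V ⊓ _).1
  obtain ⟨A, B, l, hA, hB, hAB⟩ := hstr Q hQV
  have hl : l = 0 := by
    have h := congrArg (fun P => Polynomial.coeff P (a + b + 2)) hAB
    simp only [Polynomial.coeff_add, Polynomial.coeff_C_mul] at h
    rw [Polynomial.coeff_eq_zero_of_natDegree_lt (p := Q) (by omega),
      Polynomial.coeff_eq_zero_of_natDegree_lt (p := X ^ (a + 1) * A) (lt_of_le_of_lt Polynomial.natDegree_mul_le (by
        rw [Polynomial.natDegree_X_pow]; omega)),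
      Polynomial.coeff_eq_zero_of_natDegree_lt (p := (X - 1 : Polynomial k) ^ (b + 1) * B) (lt_of_le_of_lt Polynomial.natDegree_mul_le (by
        rw [← map_one (C : k →+* Polynomial k), Polynomial.natDegree_pow, Polynomial.natDegree_X_sub_C]; omega)),
      show a + b + 2 = (b + 1) + (a + 1) by omega, Polynomial.coeff_X_pow_mul] at h
    have hm := ((Polynomial.monic_X_sub_C (1 : k)).pow (b + 1)).coeff_natDegree
    rw [Polynomial.natDegree_pow, Polynomial.natDegree_X_sub_C, mul_one, map_one] at hm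
    simpa [hm] using h.symm
  rw [hl, map_zero, zero_mul, add_zero] at hAB
  have hcop : IsCoprime ((X : Polynomial k) ^ i') ((X - 1) ^ (b + 1)) :=
    IsCoprime.pow ⟨1, -1, by ring⟩
  have hBd : (X : Polynomial k) ^ i' ∣ B := hcop.dvd_of_dvd_mul_left (by
    rw [show (X - 1 : Polynomial k) ^ (b + 1) * B = Q - X ^ (a + 1) * A by rw [hAB]; ring]
    exact dvd_sub (dvd_mul_right _ _) (dvd_mul_of_dvd_left (pow_dvd_pow _ (by omega)) _))
  obtain ⟨B', rfl⟩ := hBd
  have han : a + 1 = i' + (n + 1) := by omega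
  have hAB' : (X - C q) ^ j' = X ^ (n + 1) * A + (X - 1) ^ (b + 1) * B' := by
    refine mul_left_cancel₀ (pow_ne_zero i' (Polynomial.X_ne_zero (R := k))) ?_
    rw [show X ^ i' * (X - C q) ^ j' = Q from rfl, hAB, han, pow_add]
    ring
  have hj' : j' = n + b := by omega
  have hB' : B'.natDegree < n ∨ B' = 0 := by
    by_cases h : B' = 0
    · exact Or.inr h
    rw [Polynomial.natDegree_mul (pow_ne_zero _ Polynomial.X_ne_zero) h, Polynomial.natDegree_X_pow] at hB
    omega
  let c : k := (j'.choose n : k) * (1 - q) ^ n * q ^ b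
  -- the binomial expansion leaves only the middle term
  let Hi : Polynomial k := ∑ m ∈ Finset.Ico (n + 1) (j' + 1),
    C ((j'.choose m : k) * (1 - q) ^ m * q ^ (j' - m)) * X ^ (m - (n + 1)) * (X - 1) ^ (j' - m)
  let Lo : Polynomial k := ∑ m ∈ Finset.range n,
    C ((j'.choose m : k) * (1 - q) ^ m * q ^ (j' - m)) * X ^ m * (X - 1) ^ (j' - m - (b + 1))
  have hexp : (X - C q) ^ j' = X ^ (n + 1) * Hi + C c * X ^ n * (X - 1) ^ b + (X - 1) ^ (b + 1) * Lo := by
    rw [show (X - C q : Polynomial k) = C (1 - q) * X + C q * (X - 1) by rw [map_sub, map_one]; ring, add_pow,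
      ← Finset.sum_range_add_sum_Ico _ (show n ≤ j' + 1 by omega), Finset.sum_eq_sum_Ico_succ_bot (show n < j' + 1 by omega)]
    simp only [Hi, Lo, Finset.mul_sum]
    rw [show j' - n = b by omega, add_comm (∑ m ∈ Finset.range n, _), add_comm _ (∑ m ∈ Finset.Ico (n + 1) (j' + 1), _)]
    refine congrArg₂ (· + ·) (congrArg₂ (· + ·) (Finset.sum_congr rfl fun m hm => ?_) ?_)
      (Finset.sum_congr rfl fun m hm => ?_)
    · obtain ⟨e, rfl⟩ : ∃ e, m = n + 1 + e := ⟨m - (n + 1), by have := (Finset.mem_Ico.1 hm).1; omega⟩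
      rw [Nat.add_sub_cancel_left, mul_pow, mul_pow, map_mul, map_mul, map_pow, map_pow, map_natCast, pow_add (X : Polynomial k)]
      ring
    · simp only [c, map_mul, map_pow, map_natCast, mul_pow, show j' - n = b by omega]; ring
    · have := Finset.mem_range.1 hm
      obtain ⟨e, he⟩ : ∃ e, j' - m = b + 1 + e := ⟨j' - m - (b + 1), by omega⟩
      rw [he, Nat.add_sub_cancel_left, mul_pow, mul_pow, map_mul, map_mul, map_pow, map_pow, map_natCast,
        pow_add (X - 1 : Polynomial k)]
      ring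
  have hLo : Lo.natDegree < n ∨ n = 0 := by
    by_cases h0 : n = 0
    · exact Or.inr h0
    refine Or.inl (Nat.lt_of_le_pred (Nat.pos_of_ne_zero h0) (Polynomial.natDegree_sum_le_of_forall_le _ _ fun m hm => ?_))
    have := Finset.mem_range.1 hm
    refine Polynomial.natDegree_mul_le.trans ?_
    refine le_trans (add_le_add (Polynomial.natDegree_C_mul_le _ _) le_rfl) ?_
    rw [Polynomial.natDegree_X_pow, ← map_one (C : k →+* Polynomial k), Polynomial.natDegree_pow,
      Polynomial.natDegree_X_sub_C, Nat.pred_eq_sub_one]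
    omega
  have heq : X ^ n * (C c * (X - 1) ^ b + X * (Hi - A)) = (X - 1) ^ (b + 1) * (B' - Lo) := by
    linear_combination hAB'.symm.trans hexp |>.symm
  have hcop' : IsCoprime ((X : Polynomial k) ^ n) ((X - 1) ^ (b + 1)) := IsCoprime.pow ⟨1, -1, by ring⟩
  have hzero : B' - Lo = 0 := by
    by_contra hne
    have hdvd : (X : Polynomial k) ^ n ∣ B' - Lo := hcop'.dvd_of_dvd_mul_left (heq ▸ dvd_mul_right _ _)
    have hd := Polynomial.natDegree_le_of_dvd hdvd hne
    rw [Polynomial.natDegree_X_pow] at hd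
    rcases hLo with hL | h0
    · rcases hB' with hB' | hB'
      · have := Polynomial.natDegree_sub_le B' Lo; omega
      · rw [hB', zero_sub, Polynomial.natDegree_neg] at hd; omega
    · subst h0
      have : Lo = 0 := by simp [Lo]
      rw [this, sub_zero] at hne
      rcases hB' with hB' | hB'
      · omega
      · exact hne hB'
  rw [hzero, mul_zero, mul_eq_zero] at heq
  have h0 := congrArg (Polynomial.eval 0) (heq.resolve_left (pow_ne_zero _ Polynomial.X_ne_zero))
  simp at h0
  have hj1 : ((j' : k) + 1) ≠ 0 := Nat.cast_add_one_ne_zero j'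
  have hq0 : q ≠ 0 := fun e => by rw [e, mul_zero] at hq; exact Nat.cast_add_one_ne_zero b hq.symm
  have hq1 : 1 - q ≠ 0 := fun e => by
    rw [show q = 1 by linear_combination -e, mul_one] at hq
    have hjb : j' = b := by exact_mod_cast (by linear_combination hq : (j' : k) = (b : k))
    have hn0 : n = 0 := by omega
    omega
  have hc : c ≠ 0 := mul_ne_zero (mul_ne_zero (Nat.cast_ne_zero.2 (Nat.choose_pos (by omega)).ne') (pow_ne_zero _ hq1)) (pow_ne_zero _ hq0)
  exact hc h0

end Groth.Agent.S16261
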