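import Groth.Statements.S16262
import Mathlib

set_option autoImplicit false
open W4c3wronskmg

namespace Groth.Agent.S16262

open Polynomial in
/-- Let `k` be a field of characteristic zero and `a, b, i` positive integers with `i < a + b`. On the
projective line with `A = 0`, `B = ∞`, `P = -1`, the system `V_{a,b} = H⁰(ω((1+a)A)) ⊕ H⁰(ω((1+b)B))
⊆ H⁰(O(a+b))` is the space of polynomials of degree at most `a+b` with vanishing coefficient of
`X^a`, and `V = V_{a,b}(-iP)` (divided by `(X+1)^i`) is the space of `G` of degree at most `a+b-i`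
such that the coefficient of `X^a` in `(X+1)^i G` vanishes; it is a linear system of dimension and
degree `a+b-i`. Then no point of the projective line other than `A` and `B` is a special
ramification point of `V` (a point of weight at least two); for such a system a point `q` of the
affine line is special exactly when two independent members are divisible by `(X-q)^(a+b-i-1)`, so
the statement is that this fails for every `q ≠ 0`. (The published statement does not except `A` and
`B`, but `A` has weight `max(b-i, 0)` in `V`, which is `2` for `a = 1, b = 3, i = 1`: there `X^3`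
and `X^2` both lie in `V`. It is stated over the complex numbers.) -/
theorem result
    (k : Type*) [Field k] [CharZero k] (a b i : ℕ) (ha : 0 < a) (hb : 0 < b) (hi : 0 < i) (hiab : i < a + b)
    (V : Submodule k (Polynomial k))
    (hV : V = Polynomial.degreeLE k ↑(a + b - i) ⊓
      LinearMap.ker ((Polynomial.lcoeff k a).comp (LinearMap.mulLeft k (((X : Polynomial k) + 1) ^ i))))
    (q : k) (hq : q ≠ 0) :
    Module.finrank k ↥(V ⊓ (Ideal.span {(X - C q) ^ (a + b - i - 1)}).restrictScalars k) ≤ 1 := by
  obtain ⟨n, hn⟩ : ∃ n, a + b - i = n + 1 := ⟨a + b - i - 1, by omega⟩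
  let P : Polynomial k := (X + 1) ^ i * (X - C q) ^ n
  have hP1 : (X + 1 : Polynomial k).Monic := Polynomial.monic_X_add_C 1
  have hPm : P.Monic := (hP1.pow i).mul ((Polynomial.monic_X_sub_C q).pow n)
  have hPd : P.natDegree = i + n := by
    have h1 : ((X + 1 : Polynomial k)).natDegree = 1 := Polynomial.natDegree_X_add_C 1
    rw [(hP1.pow i).natDegree_mul ((Polynomial.monic_X_sub_C q).pow n), hP1.natDegree_pow,
      (Polynomial.monic_X_sub_C q).natDegree_pow, h1, Polynomial.natDegree_X_sub_C]
    omega
  have hode : (X + 1) * (X - C q) * derivative P = (C (i : k) * (X - C q) + C (n : k) * (X + 1)) * P := by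
    rcases i with _ | i
    · omega
    rcases n with _ | n
    · simp [P, Polynomial.derivative_pow]; ring
    · simp [P, Polynomial.derivative_pow, Polynomial.derivative_mul]; ring
  have hne : P.coeff a ≠ 0 ∨ P.coeff (a - 1) ≠ 0 := by
    by_contra! hc
    have key : ∀ m, P.coeff (a - 1 + m) = 0 ∧ P.coeff (a - 1 + m + 1) = 0 := by
      intro m
      induction m with
      | zero => exact ⟨hc.2, by rw [add_zero, Nat.sub_add_cancel ha]; exact hc.1⟩
      | succ m ih =>
        refine ⟨ih.2, ?_⟩
        have h := congrArg (fun R => Polynomial.coeff R (a - 1 + m + 1)) hode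
        simp only [add_mul, mul_sub, sub_mul, one_mul, mul_assoc, Polynomial.coeff_add, Polynomial.coeff_sub,
          Polynomial.coeff_X_mul, Polynomial.coeff_C_mul, Polynomial.coeff_derivative, ih.1, ih.2, mul_zero, zero_mul,
          sub_zero, add_zero] at h
        rcases Nat.eq_zero_or_pos (a - 1 + m) with h0 | hpos
        · rw [h0] at h ih
          simp [Polynomial.coeff_X_mul, Polynomial.coeff_derivative, ih.1, ih.2, hq] at h
          have h2 : ((1 : k) + 1) ≠ 0 := by norm_num
          rw [show a - 1 + (m + 1) + 1 = 2 by omega]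
          simpa [h2] using h
        · obtain ⟨l, hl⟩ : ∃ l, a - 1 + m = l + 1 := ⟨a - 1 + m - 1, by omega⟩
          rw [hl] at h ih
          simp [Polynomial.coeff_X_mul, Polynomial.coeff_derivative, ih.1, ih.2, hq] at h
          rw [show a - 1 + (m + 1) + 1 = l + 1 + 1 + 1 by omega]
          rcases h with h | h
          · exact h
          · exfalso
            have : ((l + 1 + 1 + 1 : ℕ) : k) ≠ 0 := Nat.cast_ne_zero.2 (by omega)
            exact this (by push_cast; linear_combination h)
    have h1 := (key (P.natDegree - (a - 1))).1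
    rw [Nat.add_sub_cancel' (by omega), hPm.coeff_natDegree] at h1
    exact one_ne_zero h1
  let cA := P.coeff (a - 1)
  let cB := P.coeff a
  refine le_trans (Submodule.finrank_mono (t := k ∙ ((X - C q) ^ n * (C cB * X + C (-cA)))) ?_)
    (finrank_span_le_card _ |>.trans (by simp))
  rintro G ⟨hG, hGI⟩
  rw [show a + b - i - 1 = n by omega] at hGI
  obtain ⟨Z, rfl⟩ := Ideal.mem_span_singleton.1 hGI
  rw [hV] at hG
  obtain ⟨hdeg, hker⟩ := hG
  have hZ : Z.natDegree ≤ 1 := by
    by_cases hz : Z = 0
    · simp [hz]
    have := Polynomial.natDegree_le_of_degree_le (Polynomial.mem_degreeLE.1 hdeg)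
    rw [Polynomial.natDegree_mul (pow_ne_zero _ (Polynomial.X_sub_C_ne_zero q)) hz, Polynomial.natDegree_pow,
      Polynomial.natDegree_X_sub_C] at this
    omega
  obtain ⟨s, t, rfl⟩ : ∃ s t, Z = C s * X + C t := ⟨_, _, Polynomial.eq_X_add_C_of_natDegree_le_one hZ⟩
  have e : s * cA + t * cB = 0 := by
    have h : ((X + 1) ^ i * ((X - C q) ^ n * (C s * X + C t))).coeff a = 0 := hker
    rw [show (X + 1 : Polynomial k) ^ i * ((X - C q) ^ n * (C s * X + C t)) = C s * (X * P) + C t * P by simp only [P]; ring,
      Polynomial.coeff_add, Polynomial.coeff_C_mul, Polynomial.coeff_C_mul] at h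
    conv at h => enter [1, 1, 2]; rw [← Nat.sub_add_cancel ha]
    rw [Polynomial.coeff_X_mul] at h
    exact h
  obtain ⟨l, hl1, hl2⟩ : ∃ l, s = l * cB ∧ t = -(l * cA) := by
    rcases hne with h | h
    · exact ⟨s / cB, by field_simp [cB], by field_simp [cB]; linear_combination e⟩
    · exact ⟨-t / cA, by field_simp [cA]; linear_combination e, by field_simp [cA]⟩
  refine Submodule.mem_span_singleton.2 ⟨l, ?_⟩
  rw [Polynomial.smul_eq_C_mul, hl1, hl2]
  simp
  ring

end Groth.Agent.S16262
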