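import Groth.Statements.S16263
import Mathlib

set_option autoImplicit false
open W4c3wronskmg

namespace Groth.Agent.S16263

open Polynomial in
/-- Let `k` be a field of characteristic zero and `a` a positive integer. On the projective line with `A
= 0`, `B = -1`, `C = ∞`, the `(a+1)`-dimensional system `V = H⁰(ω((1+a)C)) ⊕ H⁰(ω(A+B)) ⊆
H⁰(ω((1+a)C + A + B)) ≅ H⁰(O(a+1))` is, in the affine coordinate, the space of polynomials `c + X
(X+1) F` with `c` a constant and `deg F ≤ a - 1`. Then `V` has no special ramification point (no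
point of weight at least two): since the members have degree at most `a + 1`, this says that for
every point `p` of the affine line at most a one-dimensional subspace of `V` is divisible by
`(X-p)^a`, and at `C` that at most a one-dimensional subspace has degree at most one (degree less
than two). (The published statement carries two further positive integers `i, j` with `i + j = a -
1`, used only in its second assertion, and is over the complex numbers.) -/
theorem result
    (k : Type*) [Field k] [CharZero k] (a : ℕ) (ha : 0 < a)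
    (V : Submodule k (Polynomial k))
    (hV : V = Submodule.span k {(1 : Polynomial k)} ⊔
      ((Ideal.span {(X : Polynomial k) * (X + 1)}).restrictScalars k ⊓ Polynomial.degreeLE k ↑(a + 1))) :
    (∀ p : k, Module.finrank k ↥(V ⊓ (Ideal.span {(X - C p) ^ a}).restrictScalars k) ≤ 1) ∧
      Module.finrank k ↥(V ⊓ Polynomial.degreeLT k 2) ≤ 1 := by
  have hV' : ∀ P ∈ V, P.eval 0 = P.eval (-1) ∧ P ∈ Polynomial.degreeLE k ↑(a + 1) := by
    intro P hP
    rw [hV, Submodule.mem_sup] at hP
    obtain ⟨x, hx, y, ⟨hy, hy'⟩, rfl⟩ := hP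
    obtain ⟨c, rfl⟩ := Submodule.mem_span_singleton.1 hx
    obtain ⟨z, rfl⟩ := Ideal.mem_span_singleton.1 hy
    refine ⟨by simp, add_mem (Submodule.smul_mem _ _ (Polynomial.mem_degreeLE.2 ?_)) hy'⟩
    exact Polynomial.degree_one_le.trans (by exact_mod_cast Nat.zero_le _)
  refine ⟨fun p => ?_, ?_⟩
  · let Q : Polynomial k := (X - C p) ^ a
    let cA : k := Q.eval (-1)
    let cB : k := Q.eval 0 - Q.eval (-1)
    have hne : cA ≠ 0 ∨ cB ≠ 0 := by
      by_contra! h
      simp only [cA, cB, Q, Polynomial.eval_pow, Polynomial.eval_sub, Polynomial.eval_X, Polynomial.eval_C] at h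
      obtain ⟨h1, h2⟩ := h
      rw [h1, sub_zero] at h2
      have e1 := eq_zero_of_pow_eq_zero h1
      have e2 := eq_zero_of_pow_eq_zero h2
      exact one_ne_zero (α := k) (by linear_combination e2 - e1)
    refine le_trans (Submodule.finrank_mono
      (t := k ∙ (Q * (C cB * X + C (-cA)))) ?_) (finrank_span_le_card _ |>.trans (by simp))
    rintro P ⟨hP, hPI⟩
    obtain ⟨Z, rfl⟩ := Ideal.mem_span_singleton.1 hPI
    obtain ⟨h0, hdeg⟩ := hV' _ hP
    have hZ : Z.natDegree ≤ 1 := by
      by_cases hz : Z = 0
      · simp [hz]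
      have hQ : (X - C p) ^ a ≠ 0 := pow_ne_zero _ (Polynomial.X_sub_C_ne_zero p)
      have := Polynomial.natDegree_le_of_degree_le (Polynomial.mem_degreeLE.1 hdeg)
      rw [Polynomial.natDegree_mul hQ hz, Polynomial.natDegree_pow, Polynomial.natDegree_X_sub_C] at this
      omega
    obtain ⟨s, t, rfl⟩ : ∃ s t, Z = C s * X + C t := ⟨_, _, Polynomial.eq_X_add_C_of_natDegree_le_one hZ⟩
    have e : s * cA + t * cB = 0 := by
      simp only [cA, cB, Q]
      simp only [Polynomial.eval_mul, Polynomial.eval_add, Polynomial.eval_C, Polynomial.eval_X] at h0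
      linear_combination h0
    obtain ⟨l, hl1, hl2⟩ : ∃ l, s = l * cB ∧ t = -(l * cA) := by
      rcases hne with h | h
      · exact ⟨-t / cA, by field_simp; linear_combination e, by field_simp⟩
      · exact ⟨s / cB, by field_simp, by field_simp; linear_combination e⟩
    refine Submodule.mem_span_singleton.2 ⟨l, ?_⟩
    rw [Polynomial.smul_eq_C_mul, hl1, hl2]
    simp [Q]
    ring
  · refine le_trans (Submodule.finrank_mono (t := k ∙ (1 : Polynomial k)) ?_)
      (finrank_span_le_card _ |>.trans (by simp))
    rintro P ⟨hP, hP2⟩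
    obtain ⟨h0, -⟩ := hV' _ hP
    obtain ⟨s, t, rfl⟩ : ∃ s t, P = C s * X + C t := by
      refine ⟨_, _, Polynomial.eq_X_add_C_of_natDegree_le_one ?_⟩
      by_cases hz : P = 0
      · simp [hz]
      · have := (Polynomial.natDegree_lt_iff_degree_lt hz).2 (Polynomial.mem_degreeLT.1 hP2); omega
    have hs : s = 0 := by simpa using h0
    exact Submodule.mem_span_singleton.2 ⟨t, by simp [hs, Polynomial.smul_eq_C_mul]⟩

end Groth.Agent.S16263
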