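import Groth.Statements.S16264
import Mathlib

set_option autoImplicit false
open W4c3wronskmg

namespace Groth.Agent.S16264

open Polynomial in
/-- Let `k` be a field of characteristic zero and `a, i, j` positive integers with `i + j = a - 1`. With
`A = 0`, `B = -1`, `C = ∞` on the projective line and `V` the `(a+1)`-dimensional system of
polynomials `c + X (X+1) F`, `deg F ≤ a - 1` (that is, `H⁰(ω((1+a)C)) ⊕ H⁰(ω(A+B)) ⊆ H⁰(O(a+1))`),
the pairs of points `(P, Q) = (p, q)` of the affine line with `dim V(-iP-jQ) ≥ 3`, i.e. with at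
least a three-dimensional subspace of `V` divisible by `(X-p)^i (X-q)^j`, are exactly `(A, B)` and
`(B, A)`. (Here `P, Q` range over the points other than `C`; when one of them is `C` the dimension
is at most two for degree reasons. The published statement is over the complex numbers.) -/
theorem result
    (k : Type*) [Field k] [CharZero k] (a i j : ℕ) (hi : 0 < i) (hj : 0 < j) (hij : i + j + 1 = a)
    (V : Submodule k (Polynomial k))
    (hV : V = Submodule.span k {(1 : Polynomial k)} ⊔
      ((Ideal.span {(X : Polynomial k) * (X + 1)}).restrictScalars k ⊓ Polynomial.degreeLE k ↑(a + 1)))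
    (p q : k) :
    3 ≤ Module.finrank k ↥(V ⊓ (Ideal.span {(X - C p) ^ i * (X - C q) ^ j}).restrictScalars k) ↔
      (p = 0 ∧ q = -1) ∨ (p = -1 ∧ q = 0) := by
  let Q : Polynomial k := (X - C p) ^ i * (X - C q) ^ j
  have hQd : Q.natDegree = i + j := by
    rw [Polynomial.natDegree_mul (pow_ne_zero _ (Polynomial.X_sub_C_ne_zero p)) (pow_ne_zero _ (Polynomial.X_sub_C_ne_zero q)),
      Polynomial.natDegree_pow, Polynomial.natDegree_pow, Polynomial.natDegree_X_sub_C, Polynomial.natDegree_X_sub_C]
    omega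
  have hQ0 : Q ≠ 0 := mul_ne_zero (pow_ne_zero _ (Polynomial.X_sub_C_ne_zero p)) (pow_ne_zero _ (Polynomial.X_sub_C_ne_zero q))
  have hV' : ∀ P ∈ V, P.eval 0 = P.eval (-1) ∧ P ∈ Polynomial.degreeLE k ↑(a + 1) := by
    intro P hP
    rw [hV, Submodule.mem_sup] at hP
    obtain ⟨x, hx, y, ⟨hy, hy'⟩, rfl⟩ := hP
    obtain ⟨c, rfl⟩ := Submodule.mem_span_singleton.1 hx
    obtain ⟨z, rfl⟩ := Ideal.mem_span_singleton.1 hy
    refine ⟨by simp, add_mem (Submodule.smul_mem _ _ (Polynomial.mem_degreeLE.2 ?_)) hy'⟩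
    exact Polynomial.degree_one_le.trans (by exact_mod_cast Nat.zero_le _)
  let U := (Polynomial.degreeLT k 3).map (LinearMap.mulLeft k Q)
  have hU : Module.finrank k U = 3 := by
    rw [← (Submodule.equivMapOfInjective (LinearMap.mulLeft k Q) (fun _ _ h => mul_left_cancel₀ hQ0 h) _).finrank_eq,
      (Polynomial.degreeLTEquiv k 3).finrank_eq, Module.finrank_fin_fun]
  haveI : Module.Finite k U := Module.finite_of_finrank_eq_succ hU
  have hle : V ⊓ (Ideal.span {Q}).restrictScalars k ≤ U := by
    rintro P ⟨hP, hPI⟩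
    obtain ⟨R, rfl⟩ := Ideal.mem_span_singleton.1 hPI
    refine ⟨R, Polynomial.mem_degreeLT.2 ?_, rfl⟩
    by_cases hR : R = 0
    · simp [hR]; exact WithBot.bot_lt_coe _
    have := Polynomial.natDegree_le_of_degree_le (Polynomial.mem_degreeLE.1 (hV' _ hP).2)
    rw [Polynomial.natDegree_mul hQ0 hR, hQd] at this
    exact (Polynomial.natDegree_lt_iff_degree_lt hR).1 (by omega)
  have hev : ∀ x : k, Q.eval x = 0 → x = p ∨ x = q := fun x h => by
    simp only [Q, Polynomial.eval_mul, Polynomial.eval_pow, Polynomial.eval_sub, Polynomial.eval_X, Polynomial.eval_C,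
      mul_eq_zero, pow_eq_zero_iff hi.ne', pow_eq_zero_iff hj.ne', sub_eq_zero] at h
    exact h
  constructor
  · intro h3
    have heq : V ⊓ (Ideal.span {Q}).restrictScalars k = U := Submodule.eq_of_le_of_finrank_le hle (hU ▸ h3)
    have hm : ∀ R : Polynomial k, R.natDegree ≤ 2 → Q * R ∈ V := fun R hR => by
      have : Q * R ∈ U := ⟨R, Polynomial.mem_degreeLT.2 (lt_of_le_of_lt Polynomial.degree_le_natDegree
        (by exact_mod_cast (show R.natDegree < 3 by omega))), rfl⟩
      exact (heq ▸ this).1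
    have e1 := (hV' _ (hm 1 (by simp))).1
    have e2 := (hV' _ (hm X (by simp))).1
    simp at e1 e2
    have h0 : Q.eval 0 = 0 := by rw [e1]; exact e2
    rcases hev 0 h0 with h | h <;> rcases hev (-1) e2 with h' | h'
    · exact absurd (h.trans h'.symm) (by simp)
    · exact Or.inl ⟨h.symm, h'.symm⟩
    · exact Or.inr ⟨h'.symm, h.symm⟩
    · exact absurd (h.trans h'.symm) (by simp)
  · intro hpq
    refine hU.ge.trans (le_of_eq (congrArg (fun W : Submodule k (Polynomial k) => Module.finrank k W) (le_antisymm ?_ hle)))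
    rintro _ ⟨R, hR, rfl⟩
    refine ⟨?_, Ideal.mem_span_singleton.2 (dvd_mul_right _ _)⟩
    rw [hV]
    refine Submodule.mem_sup_right ⟨Ideal.mem_span_singleton.2 (dvd_mul_of_dvd_left ?_ _), Polynomial.mem_degreeLE.2 ?_⟩
    · rcases hpq with ⟨rfl, rfl⟩ | ⟨rfl, rfl⟩
      · simp [Q]; exact mul_dvd_mul (dvd_pow_self _ hi.ne') (dvd_pow_self _ hj.ne')
      · simp [Q]; rw [mul_comm ((X + 1 : Polynomial k) ^ i)]; exact mul_dvd_mul (dvd_pow_self _ hj.ne') (dvd_pow_self _ hi.ne')
    · refine Polynomial.degree_le_natDegree.trans ?_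
      have h2 : R.natDegree ≤ 2 := by
        by_cases hR0 : R = 0
        · simp [hR0]
        · have := (Polynomial.natDegree_lt_iff_degree_lt hR0).2 (Polynomial.mem_degreeLT.1 hR); omega
      exact_mod_cast (Polynomial.natDegree_mul_le (p := Q) (q := R)).trans (by omega)

end Groth.Agent.S16264
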