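import Groth.Statements.S16266
import Groth.Agent.FF.Small
-- import your own Groth.Agent.* helpers here

set_option autoImplicit false
open FunFld

namespace Groth.Agent.S16266

/-- Let `K/k` be a function field of one variable over an algebraically closed field `k` of
characteristic zero, `D` a divisor, `V ⊆ L(D)` a linear system of dimension `r + 1` with `r ≥ 1`,
and `P` a place with `V' = V(-P) = V ∩ L(D - P) ≠ V`, an `r`-dimensional system in `L(D - P)`.
Assume that neither `V` nor `V'` has a special ramification point (a place of weight at least two):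
for every place `R`, `dim V ∩ L(D - rR) ≤ 1`, `V ∩ L(D - (r+2)R) = 0`, `dim V' ∩ L(D - P - (r-1)R) ≤
1` and `V' ∩ L(D - P - (r+1)R) = 0`. Then no place `Q ≠ P` is a ramification point of both `V` and
`V'`: for no such `Q` are both `V ∩ L(D - (r+1)Q)` and `V' ∩ L(D - P - rQ)` nonzero. (The published
statement is for a smooth curve over the complex numbers.) -/
theorem result
    (k K : Type*) [Field k] [IsAlgClosed k] [CharZero k] [Field K] [Algebra k K]
    (hK : FunFld.IsFunctionField k K) (D : FunFld.Divisor k K)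
    (V : Submodule k K) (hVD : V ≤ FunFld.L D) (r : ℕ) (hr : Module.finrank k ↥V = r + 1) (hr1 : 1 ≤ r)
    (P : FunFld.Place k K) (hP : V ⊓ FunFld.L (D - Finsupp.single P 1) ≠ V)
    (hns : ∀ R : FunFld.Place k K,
      Module.finrank k ↥(V ⊓ FunFld.L (D - Finsupp.single R (r : ℤ))) ≤ 1 ∧
        V ⊓ FunFld.L (D - Finsupp.single R ((r : ℤ) + 2)) = ⊥)
    (hns' : ∀ R : FunFld.Place k K,
      Module.finrank k ↥(V ⊓ FunFld.L (D - Finsupp.single P 1 - Finsupp.single R ((r : ℤ) - 1))) ≤ 1 ∧
        V ⊓ FunFld.L (D - Finsupp.single P 1 - Finsupp.single R ((r : ℤ) + 1)) = ⊥)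
    (Q : FunFld.Place k K) (hQP : Q ≠ P) :
    ¬ (V ⊓ FunFld.L (D - Finsupp.single Q ((r : ℤ) + 1)) ≠ ⊥ ∧
       V ⊓ FunFld.L (D - Finsupp.single P 1 - Finsupp.single Q (r : ℤ)) ≠ ⊥) := by
  classical
  rintro ⟨hf, hg⟩
  haveI : FiniteDimensional k V := Module.finite_of_finrank_pos (by omega)
  haveI : FiniteDimensional k ↥(V ⊓ FunFld.L (D - Finsupp.single Q (r : ℤ))) :=
    Submodule.finiteDimensional_of_le inf_le_left
  have hQle : V ⊓ FunFld.L (D - Finsupp.single Q ((r : ℤ) + 1)) ≤
      V ⊓ FunFld.L (D - Finsupp.single Q (r : ℤ)) := inf_le_inf_left _ (Groth.Agent.FF.L_mono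
        (sub_le_sub_left (Finsupp.single_le_single.2 (by omega)) _))
  have hgle : V ⊓ FunFld.L (D - Finsupp.single P 1 - Finsupp.single Q (r : ℤ)) ≤
      V ⊓ FunFld.L (D - Finsupp.single Q (r : ℤ)) := inf_le_inf_left _ (Groth.Agent.FF.L_mono
        (sub_le_sub_right (sub_le_self _ (Finsupp.single_nonneg.2 zero_le_one)) _))
  have key : ∀ W, W ≤ V ⊓ FunFld.L (D - Finsupp.single Q (r : ℤ)) → W ≠ ⊥ →
      W = V ⊓ FunFld.L (D - Finsupp.single Q (r : ℤ)) := fun W hW hW0 =>
    haveI : FiniteDimensional k W := Submodule.finiteDimensional_of_le hW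
    Submodule.eq_of_le_of_finrank_le hW ((hns Q).1.trans (Submodule.one_le_finrank_iff.2 hW0))
  have heq := (key _ hQle hf).trans (key _ hgle hg).symm
  refine hf (eq_bot_iff.2 fun x hx => ?_)
  rw [← (hns' Q).2]
  refine ⟨hx.1, ?_⟩
  have h2 : x ∈ FunFld.L (D - Finsupp.single P 1 - Finsupp.single Q (r : ℤ)) := (heq.le hx).2
  intro R
  have h3 := hx.2 R
  have h4 := h2 R
  simp only [Finsupp.sub_apply, Finsupp.single_apply] at h3 h4 ⊢
  by_cases e : Q = R
  · subst e
    simp only [if_pos rfl, if_neg hQP.symm, sub_zero] at h3 h4 ⊢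
    simpa using h3
  · simp only [if_neg e, sub_zero] at h3 h4 ⊢
    exact h4

end Groth.Agent.S16266
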