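import Groth.Statements.S16268
-- import your own Groth.Agent.* helpers here

set_option autoImplicit false
universe u w
open CategoryTheory CategoryTheory.Limits AlgebraicGeometry Opposite
open EtCore

namespace Groth.Agent.S16268

/-- Let X be a scheme, Y an etale X-scheme with Y -> X surjective, and G a finite group acting on Y by
X-automorphisms such that the morphisms (id, g) : Y -> Y x_X Y exhibit Y x_X Y as the coproduct of
copies of Y indexed by G (Y -> X is a Galois covering with group G). Let P be a presheaf of sets on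
the small etale site of X which takes this coproduct to a product: s |-> (g |-> (id, g)^* s) is a
bijection from P(Y x_X Y) onto the G-indexed families in P(Y). Then P satisfies the sheaf condition
for the covering consisting of the single morphism Y -> X if and only if the restriction P(X) ->
P(Y) is injective and its image is the set of G-invariant elements of P(Y). -/
theorem result (X : Scheme.{u})
    (Y : X.Etale) (hY : Function.Surjective Y.hom.base)
    {G : Type u} [Group G] [Finite G] (σ : G →* Aut Y)
    (hgal : Nonempty (IsColimit (Cofan.mk (Y ⨯ Y) (fun g : G => prod.lift (𝟙 Y) (σ g).hom))))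
    (P : X.Etaleᵒᵖ ⥤ Type w)
    (hP : Function.Bijective (fun s : P.obj (op (Y ⨯ Y)) => fun g : G => P.map (prod.lift (𝟙 Y) (σ g).hom).op s)) :
    Presieve.IsSheafFor P (Presieve.singleton ((EtCore.topIsTerminal X).from Y)) ↔
      (Function.Injective (P.map ((EtCore.topIsTerminal X).from Y).op) ∧
        Set.range (P.map ((EtCore.topIsTerminal X).from Y).op) = {s | ∀ g : G, P.map (σ g).hom.op s = s}) := by
  let π := (EtCore.topIsTerminal X).from Y
  have key : ∀ {Z : X.Etale} (a b : Z ⟶ (EtCoh.top X)), a = b := fun a b =>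
    (EtCore.topIsTerminal X).hom_ext a b
  have hm : ∀ {A B C : X.Etale} (f : A ⟶ B) (g : B ⟶ C) (x : P.obj (op C)),
      P.map f.op (P.map g.op x) = P.map (f ≫ g).op x := fun f g x => by
    rw [op_comp, P.map_comp]; rfl
  rw [Presieve.isSheafFor_singleton]
  constructor
  · intro h
    have hcomp : ∀ (t : P.obj (op (EtCoh.top X))) {Z : X.Etale} (p₁ p₂ : Z ⟶ Y), p₁ ≫ π = p₂ ≫ π →
        P.map p₁.op (P.map π.op t) = P.map p₂.op (P.map π.op t) := fun t Z p₁ p₂ e => by
      rw [hm, hm, e]
    refine ⟨fun a b hab => (h _ (hcomp a)).unique rfl hab.symm, Set.ext fun s => ⟨?_, fun hs => ?_⟩⟩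
    · rintro ⟨t, rfl⟩ g
      rw [hm, (key ((σ g).hom ≫ π) π :)]
    · have h1 : P.map (prod.fst : Y ⨯ Y ⟶ Y).op s = P.map (prod.snd : Y ⨯ Y ⟶ Y).op s :=
        hP.1 (funext fun g => by
          show P.map _ (P.map _ s) = P.map _ (P.map _ s)
          rw [hm, hm, prod.lift_fst, prod.lift_snd, op_id, P.map_id, hs g]
          rfl)
      refine (h s fun {Z} p₁ p₂ _ => ?_).exists
      rw [← prod.lift_fst p₁ p₂, ← hm, h1, hm, prod.lift_snd]
  · rintro ⟨hinj, hrange⟩ s hs
    have : s ∈ Set.range (P.map π.op) := by
      rw [hrange]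
      intro g
      exact (hs (σ g).hom (𝟙 Y) (key _ _)).trans (by rw [op_id, P.map_id]; rfl)
    obtain ⟨t, ht⟩ := this
    exact ⟨t, ht, fun t' ht' => hinj (ht'.trans ht.symm)⟩

end Groth.Agent.S16268
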