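import Groth.Statements.S16269
import Groth.Agent.S16268
import Groth.Agent.EtaleSite.Clopen
import Groth.Agent.EtaleSite.SplitScheme
-- import your own Groth.Agent.* helpers here

set_option autoImplicit false
universe u w
open CategoryTheory CategoryTheory.Limits AlgebraicGeometry Opposite
open EtCore

namespace Groth.Agent.S16269

/-- Let X be a scheme, Y an etale X-scheme with Y -> X surjective, and G a finite group acting on Y by
X-automorphisms such that the morphisms (id, g) : Y -> Y x_X Y exhibit Y x_X Y as the coproduct of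
copies of Y indexed by G (a Galois covering with group G). For an abelian sheaf F on the small etale
site of X, the restriction map F(X) -> F(Y) is injective and its image is the set of sections of F
over Y fixed by every element of G. -/
theorem result (X : Scheme.{u})
    (Y : X.Etale) (hY : Function.Surjective Y.hom.base)
    {G : Type u} [Group G] [Finite G] (σ : G →* Aut Y)
    (hgal : Nonempty (IsColimit (Cofan.mk (Y ⨯ Y) (fun g : G => prod.lift (𝟙 Y) (σ g).hom))))
    (F : EtCoh.Ab X) :
    Function.Injective (F.obj.map ((EtCore.topIsTerminal X).from Y).op) ∧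
      Set.range (F.obj.map ((EtCore.topIsTerminal X).from Y).op) =
        {s : EtCoh.sect F Y | ∀ g : G, F.obj.map (σ g).hom.op s = s} := by
  let P := F.obj ⋙ forget AddCommGrpCat.{u + 1}
  -- the decomposition of `Y ⨯ Y`
  haveI : AlgebraicGeometry.Etale Y.hom := Y.prop
  let d : (∐ fun _ : G => Y.left) ⟶ X := Sigma.desc (f := fun _ : G => Y.left) fun _ => Y.hom
  haveI : AlgebraicGeometry.Etale d :=
    Groth.Agent.EtaleSite.etale_sigmaDesc (U := fun _ : G => Y.left) fun _ => Y.hom
  let C : X.Etale := Scheme.Etale.mk d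
  let inj : G → (Y ⟶ C) := fun g => MorphismProperty.Over.homMk
    (Sigma.ι (fun _ : G => Y.left) g) (Sigma.ι_desc _ g) trivial
  let hC : IsColimit (Cofan.mk C inj) := Cofan.IsColimit.mk _
    (fun c => MorphismProperty.Over.homMk (Sigma.desc fun g => (c.inj g).left) (by
      refine Sigma.hom_ext _ _ fun g => ?_
      exact ((Category.assoc _ _ _).symm.trans ((congrArg (· ≫ c.pt.hom) (Sigma.ι_desc _ g)).trans
        (MorphismProperty.Over.w (c.inj g)))).trans (Sigma.ι_desc (f := fun _ : G => Y.left) (fun _ => Y.hom) g).symm) trivial)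
    (fun c g => MorphismProperty.Over.Hom.ext (Sigma.ι_desc _ g))
    (fun c m hm => MorphismProperty.Over.Hom.ext (Sigma.hom_ext _ _ fun g =>
      (congrArg (fun k => k.left) (hm g)).trans (Sigma.ι_desc (fun g => (c.inj g).left) g).symm))
  obtain ⟨hD⟩ := hgal
  let e : C ≅ Y ⨯ Y := hC.coconePointUniqueUpToIso hD
  have he : ∀ g, inj g ≫ e.hom = prod.lift (𝟙 Y) (σ g).hom := fun g =>
    hC.comp_coconePointUniqueUpToIso_hom hD ⟨g⟩
  -- the pieces
  let ι' : G → (Y.left ⟶ ∐ fun _ : G => Y.left) := fun g => Sigma.ι (fun _ : G => Y.left) g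
  haveI : ∀ g, IsOpenImmersion (ι' g) := fun g =>
    inferInstanceAs (IsOpenImmersion (Sigma.ι (fun _ : G => Y.left) g))
  let W : G → C.left.Opens := fun g => (ι' g).opensRange
  have hd : ∀ a b, a ≠ b → Disjoint (W a) (W b) :=
    fun a b h => disjoint_opensRange_sigmaι (fun _ : G => Y.left) a b h
  have hc : ∀ z, ∃ a, z ∈ W a := fun z =>
    ⟨(sigmaOpenCover fun _ : G => Y.left).idx z, (sigmaOpenCover fun _ : G => Y.left).covers z⟩
  have hl : ∀ g, (ι' g).isoOpensRange.inv ≫ ι' g = (W g).ι := fun g =>
    (Iso.inv_comp_eq _).2 (Scheme.Hom.isoOpensRange_hom_ι (ι' g)).symm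
  let k : ∀ g, Groth.Agent.EtaleSite.piece C (W g) ⟶ Y := fun g =>
    MorphismProperty.Over.homMk (ι' g).isoOpensRange.inv
      (((congrArg ((ι' g).isoOpensRange.inv ≫ ·) (MorphismProperty.Over.w (inj g))).symm).trans
        ((Category.assoc _ _ _).symm.trans (congrArg (· ≫ C.hom) (hl g)))) trivial
  let i : ∀ g, Y ⟶ Groth.Agent.EtaleSite.piece C (W g) := fun g =>
    MorphismProperty.Over.homMk (ι' g).isoOpensRange.hom
      ((Category.assoc _ _ _).symm.trans ((congrArg (· ≫ C.hom)
        (Scheme.Hom.isoOpensRange_hom_ι (ι' g))).trans (MorphismProperty.Over.w (inj g)))) trivial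
  have hik : ∀ g, i g ≫ k g = 𝟙 Y := fun g =>
    MorphismProperty.Over.Hom.ext (Iso.hom_inv_id _)
  have hi : ∀ g, i g ≫ Groth.Agent.EtaleSite.pieceHom C (W g) = inj g := fun g =>
    MorphismProperty.Over.Hom.ext (Scheme.Hom.isoOpensRange_hom_ι (ι' g))
  have hk : ∀ g, k g ≫ inj g = Groth.Agent.EtaleSite.pieceHom C (W g) := fun g =>
    MorphismProperty.Over.Hom.ext (hl g)
  have hm : ∀ {A B D : X.Etale} (f : A ⟶ B) (g : B ⟶ D) (x : F.obj.obj (op D)),
      F.obj.map f.op (F.obj.map g.op x) = F.obj.map (f ≫ g).op x := fun f g x => by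
    rw [op_comp, F.obj.map_comp]; rfl
  have hP : Function.Bijective (fun s : P.obj (op (Y ⨯ Y)) => fun g : G =>
      P.map (prod.lift (𝟙 Y) (σ g).hom).op s) := by
    constructor
    · intro a b hab
      have hg : ∀ g, F.obj.map (inj g).op (F.obj.map e.hom.op a) =
          F.obj.map (inj g).op (F.obj.map e.hom.op b) := fun g => by
        rw [hm, hm, he]; exact congrFun hab g
      have : F.obj.map e.hom.op a = F.obj.map e.hom.op b :=
        Groth.Agent.EtaleSite.eq_of_pieces F W hc _ _ fun g => by
          rw [← hk g, ← hm (k g) (inj g) (F.obj.map e.hom.op a),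
            ← hm (k g) (inj g) (F.obj.map e.hom.op b), hg]
      exact (ConcreteCategory.bijective_of_isIso (F.obj.map e.hom.op)).1 this
    · intro t
      obtain ⟨r, hr⟩ := Groth.Agent.EtaleSite.exists_glue_disjoint F W hd hc
        fun g => F.obj.map (k g).op (t g)
      refine ⟨F.obj.map e.inv.op r, funext fun g => ?_⟩
      show F.obj.map _ (F.obj.map _ r) = t g
      rw [hm, ← he g, Category.assoc, e.hom_inv_id, Category.comp_id, ← hi g, ← hm, hr g, hm,
        hik g, op_id, F.obj.map_id]
      rfl
  refine (Groth.Agent.S16268.result X Y hY σ ⟨hD⟩ P hP).1 ?_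
  rw [Presieve.isSheafFor_iff_generate]
  refine Groth.Agent.EtaleSite.isSheaf_forget F _
    (Groth.Agent.EtaleSite.mem_topology_of_forall_exists _ fun x => ?_)
  obtain ⟨y, hy⟩ := hY x
  exact ⟨Y, _, y, Sieve.le_generate _ _ _ (Presieve.singleton_self _),
    (congrArg (fun q : Y.left ⟶ X => q y) ((Category.comp_id _).symm.trans
      (MorphismProperty.Over.w ((EtCore.topIsTerminal X).from Y)))).trans hy⟩

end Groth.Agent.S16269
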