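import Groth.Statements.S16272
import Groth.Agent.NATorsor.Basic

set_option autoImplicit false
universe w' w v u
open CategoryTheory
open NonAbH1

namespace Groth.Agent.S16272

open Opposite Groth.Agent.NATorsor

/-- The class map is well defined: let C be a category with a Grothendieck topology J, G a sheaf of
groups and U a family of objects. A G-torsor P with a section over every U_i has exactly one Cech
class on U: choosing sections s_i of P over the U_i cuts out a 1-cocycle of G on U, and its class in
the Cech cohomology set H^1(U, G) does not depend on the choice. (The published statement is for an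
etale covering of a scheme; this row is stated for any family of objects of any site.) -/
theorem result {C : Type u} [Category.{v} C]
    {J : GrothendieckTopology C} {G : Sheaf J GrpCat.{w}} (P : NonAbH1.Torsor G)
    {I : Type w'} (U : I → C) (hP : P.TrivialisedBy U) :
    ∃! c : PresheafOfGroups.H1 G.obj U, P.HasCechClass U c := by
  have hs := fun i => Classical.choice (hP i)
  let hT := P.isTorsor.1
  let γ : PresheafOfGroups.OneCocycle G.obj U :=
    { ev := fun i j T a b => diff hT (P.P.obj.map b.op (hs j)) (P.P.obj.map a.op (hs i))
      ev_precomp := fun i j T T' φ a b => by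
        rw [map_diff, map_map, map_map]
      ev_trans := fun i j k T a b c => diff_mul_diff hT _ _ _ }
  refine ⟨γ.class, ⟨hs, γ, fun i j T a b => diff_smul hT _ _, rfl⟩, ?_⟩
  rintro c ⟨s, δ, hδ, rfl⟩
  refine Quot.sound ⟨fun i => diff hT (s i) (hs i), fun i j T a b => ?_⟩
  refine smul_left_cancel hT (p := P.P.obj.map b.op (s j)) ?_
  show P.smul _ _ = P.smul _ _
  rw [P.mul_smul, P.mul_smul, hδ i j a b]
  change P.smul (G.obj.map a.op (diff hT (s i) (hs i))) _ = P.smul (γ.ev i j a b) (P.smul (G.obj.map b.op (diff hT (s j) (hs j))) _)
  rw [← P.map_smul, ← P.map_smul, diff_smul, diff_smul]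
  exact (diff_smul hT _ _).symm

end Groth.Agent.S16272
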