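import Groth.Statements.S16274
import Groth.Agent.NATorsor.Basic

set_option autoImplicit false
universe w' w v u
open CategoryTheory
open NonAbH1

namespace Groth.Agent.S16274

open Opposite Groth.Agent.NATorsor

section
variable {C : Type u} [Category.{v} C] {J : GrothendieckTopology C} {G : Sheaf J GrpCat.{w}}
  {I : Type w'} {U : I → C} (γ : PresheafOfGroups.OneCocycle G.obj U)

/-- The value at `V` of the sheaf twisted by the cocycle, before shrinking. -/
def Big (V : C) : Type (max u v w w') :=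
  { f : ∀ (i : I) (T : C) (_ : T ⟶ V) (_ : T ⟶ U i), G.obj.obj (op T) //
    (∀ (i : I) (T T' : C) (ψ : T' ⟶ T) (φ : T ⟶ V) (a : T ⟶ U i),
      G.obj.map ψ.op (f i T φ a) = f i T' (ψ ≫ φ) (ψ ≫ a)) ∧
    ∀ (i j : I) (T : C) (φ : T ⟶ V) (a : T ⟶ U i) (b : T ⟶ U j),
      f i T φ a * γ.ev i j a b = f j T φ b }

variable {γ}

def Big.smul {V : C} (g : G.obj.obj (op V)) (p : Big γ V) : Big γ V :=
  ⟨fun i T φ a => G.obj.map φ.op g * p.1 i T φ a,
    fun i T T' ψ φ a => by rw [map_mul, p.2.1, grp_map_map],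
    fun i j T φ a b => by rw [mul_assoc, p.2.2]⟩

def Big.res {V W : C} (g : W ⟶ V) (p : Big γ V) : Big γ W :=
  ⟨fun i T φ a => p.1 i T (φ ≫ g) a,
    fun i T T' ψ φ a => by simp only [p.2.1, Category.assoc],
    fun i j T φ a b => p.2.2 i j T (φ ≫ g) a b⟩

theorem Big.res_id {V : C} (p : Big γ V) : Big.res (𝟙 V) p = p :=
  Subtype.ext (by funext i T φ a; simp [Big.res])

theorem Big.res_res {V W X : C} (g : W ⟶ V) (h : X ⟶ W) (p : Big γ V) :
    Big.res h (Big.res g p) = Big.res (h ≫ g) p :=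
  Subtype.ext (by funext i T φ a; simp only [Big.res, Category.assoc])

theorem Big.smul_one {V : C} (p : Big γ V) : Big.smul 1 p = p :=
  Subtype.ext (by funext i T φ a; simp [Big.smul])

theorem Big.smul_mul {V : C} (g h : G.obj.obj (op V)) (p : Big γ V) :
    Big.smul (g * h) p = Big.smul g (Big.smul h p) :=
  Subtype.ext (by funext i T φ a; simp [Big.smul, mul_assoc])

theorem Big.res_smul {V W : C} (f : W ⟶ V) (g : G.obj.obj (op V)) (p : Big γ V) :
    Big.res f (Big.smul g p) = Big.smul (G.obj.map f.op g) (Big.res f p) :=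
  Subtype.ext (by
    funext i T φ a
    show G.obj.map (φ ≫ f).op g * _ = G.obj.map φ.op (G.obj.map f.op g) * _
    rw [grp_map_map]
    rfl)

theorem Big.existsUnique_smul (hU : J.CoversTop U) {V : C} (p q : Big γ V) :
    ∃! g : G.obj.obj (op V), Big.smul g p = q := by
  have indep : ∀ (T : C) (φ : T ⟶ V) (i j : I) (a : T ⟶ U i) (b : T ⟶ U j),
      q.1 i T φ a * (p.1 i T φ a)⁻¹ = q.1 j T φ b * (p.1 j T φ b)⁻¹ := by
    intro T φ i j a b
    rw [← q.2.2 i j T φ a b, ← p.2.2 i j T φ a b, mul_inv_rev, mul_assoc, mul_inv_cancel_left]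
  obtain ⟨g, hg⟩ := grp_glue G (hU V)
    (fun T φ h => q.1 h.choose T φ h.choose_spec.some * (p.1 h.choose T φ h.choose_spec.some)⁻¹)
    (fun T T' ψ φ h => by
      rw [map_mul, map_inv, q.2.1, p.2.1]
      exact indep _ _ _ _ _ _)
  refine ⟨g, Subtype.ext ?_, fun g' hg' => grp_ext G (hU V) fun T φ h => ?_⟩
  · funext i T φ a
    show G.obj.map φ.op g * p.1 i T φ a = _
    rw [hg φ ⟨i, ⟨a⟩⟩, indep T φ _ i _ a, inv_mul_cancel_right]
  · have := congrArg (fun r : Big γ V => r.1 h.choose T φ h.choose_spec.some) hg'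
    rw [hg φ h]
    exact eq_mul_inv_of_mul_eq this

theorem Big.small (hU : J.CoversTop U) (V : C) : Small.{w} (Big γ V) := by
  rcases isEmpty_or_nonempty (Big γ V) with h | ⟨⟨p⟩⟩
  · exact small_of_injective (f := fun x : Big γ V => (h.elim x : PUnit.{w + 1})) fun x => h.elim x
  · refine small_of_injective (f := fun q => (Big.existsUnique_smul hU p q).choose) fun q q' e => ?_
    dsimp at e
    rw [← (Big.existsUnique_smul hU p q).choose_spec.1, e, (Big.existsUnique_smul hU p q').choose_spec.1]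

theorem Big.glue (V : C) (S : Sieve V) (hS : S ∈ J V)
    (x : ∀ ⦃T : C⦄ (φ : T ⟶ V), S φ → Big γ T)
    (hx : ∀ ⦃T T' : C⦄ (ψ : T' ⟶ T) (φ : T ⟶ V) (h : S φ),
      Big.res ψ (x φ h) = x (ψ ≫ φ) (S.downward_closed h ψ)) :
    ∃! p : Big γ V, ∀ ⦃T : C⦄ (φ : T ⟶ V) (h : S φ), Big.res φ p = x φ h := by
  have hx' : ∀ ⦃T T' T'' : C⦄ (ψ : T' ⟶ T) (φ : T ⟶ V) (h : S φ) (χ : T'' ⟶ T') (i : I) (a : T'' ⟶ U i)
      (h' : S (ψ ≫ φ)), (x (ψ ≫ φ) h').1 i T'' χ a = (x φ h).1 i T'' (χ ≫ ψ) a := by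
    intro T T' T'' ψ φ h χ i a h'
    exact (congrArg (fun r : Big γ T' => r.1 i T'' χ a) (hx ψ φ h)).symm
  have key : ∀ (i : I) (T : C) (φ : T ⟶ V) (a : T ⟶ U i), ∃ c : G.obj.obj (op T),
      ∀ ⦃T' : C⦄ (ψ : T' ⟶ T) (h : S (ψ ≫ φ)), G.obj.map ψ.op c = (x (ψ ≫ φ) h).1 i T' (𝟙 _) (ψ ≫ a) := by
    intro i T φ a
    obtain ⟨c, hc⟩ := grp_glue G (J.pullback_stable φ hS) (fun T' ψ h => (x (ψ ≫ φ) h).1 i T' (𝟙 _) (ψ ≫ a))
      (fun T₁ T₂ χ ψ h => by
        rw [(x (ψ ≫ φ) h).2.1]
        have := hx' χ (ψ ≫ φ) h (𝟙 T₂) i ((χ ≫ ψ) ≫ a) (S.downward_closed h χ)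
        simp only [Category.assoc, Category.id_comp, Category.comp_id] at this ⊢
        exact this.symm)
    exact ⟨c, fun T' ψ h => hc ψ h⟩
  choose c hc using key
  have det : ∀ (p : Big γ V), (∀ ⦃T : C⦄ (φ : T ⟶ V) (h : S φ), Big.res φ p = x φ h) →
      ∀ i T φ a, p.1 i T φ a = c i T φ a := by
    intro p hp i T φ a
    refine grp_ext G (J.pullback_stable φ hS) fun T' ψ h => ?_
    rw [hc i T φ a ψ h, p.2.1]
    have := congrArg (fun r : Big γ T' => r.1 i T' (𝟙 _) (ψ ≫ a)) (hp (ψ ≫ φ) h)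
    simpa [Big.res] using this
  let p : Big γ V := ⟨c, fun i T T' ψ φ a => by
      refine grp_ext G (J.pullback_stable (ψ ≫ φ) hS) fun T'' χ h => ?_
      rw [grp_map_map, hc i T' (ψ ≫ φ) (ψ ≫ a) χ h, hc i T φ a (χ ≫ ψ) (by simpa using h)]
      simp only [Category.assoc],
    fun i j T φ a b => by
      refine grp_ext G (J.pullback_stable φ hS) fun T' ψ h => ?_
      rw [map_mul, hc i T φ a ψ h, hc j T φ b ψ h, γ.ev_precomp]
      exact (x (ψ ≫ φ) h).2.2 i j T' (𝟙 _) _ _⟩
  refine ⟨p, fun T φ h => Subtype.ext ?_, fun q hq => Subtype.ext ?_⟩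
  · funext i T' χ a
    show c i T' (χ ≫ φ) a = _
    refine grp_ext G (J.pullback_stable (χ ≫ φ) hS) fun T'' ψ h' => ?_
    have h'' : S ((ψ ≫ χ) ≫ φ) := by simpa using h'
    rw [hc i T' (χ ≫ φ) a ψ h', (x φ h).2.1]
    have := hx' (ψ ≫ χ) φ h (𝟙 T'') i (ψ ≫ a) h''
    simp only [Category.assoc, Category.id_comp] at this ⊢
    exact this
  · funext i T φ a
    exact det q hq i T φ a

end

/-- Let C be a category with a Grothendieck topology J, G a sheaf of groups and U a family of objects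
which covers every object of the site. Every class in the Cech cohomology set H^1(U, G) is the Cech
class of some G-torsor that has a section over every U_i. (The published statement is for an etale
covering of a scheme; this row is stated for any family of objects covering the site.) -/
theorem result {C : Type u} [Category.{v} C]
    {J : GrothendieckTopology C} (G : Sheaf J GrpCat.{w}) {I : Type w'} (U : I → C) (hU : J.CoversTop U)
    (c : PresheafOfGroups.H1 G.obj U) :
    ∃ P : NonAbH1.Torsor G, P.TrivialisedBy U ∧ P.HasCechClass U c := by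
  obtain ⟨γ, rfl⟩ := Quot.exists_rep c
  haveI : ∀ V : C, Small.{w} (Big γ V) := fun V => Big.small hU V
  let e := fun V : C => equivShrink.{w} (Big γ V)
  let F : Cᵒᵖ ⥤ Type w :=
    { obj := fun V => Shrink.{w} (Big γ V.unop)
      map := fun {V W} f => TypeCat.ofHom fun p => e W.unop (Big.res f.unop ((e V.unop).symm p))
      map_id := fun V => by
        refine ConcreteCategory.hom_ext _ _ fun p => ?_
        show e V.unop (Big.res (𝟙 V.unop) ((e V.unop).symm p)) = p
        rw [Big.res_id, Equiv.apply_symm_apply]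
      map_comp := fun {V W X} f g => by
        refine ConcreteCategory.hom_ext _ _ fun p => ?_
        show e X.unop (Big.res (f ≫ g).unop _) =
          e X.unop (Big.res g.unop ((e W.unop).symm (e W.unop (Big.res f.unop _))))
        rw [Equiv.symm_apply_apply, Big.res_res]
        rfl }
  have hF : Presieve.IsSheaf J F := by
    intro V S hS x hx
    have hx' : ∀ ⦃T T' : C⦄ (ψ : T' ⟶ T) (φ : T ⟶ V) (h : S φ),
        Big.res ψ ((e T).symm (x φ h)) = (e T').symm (x (ψ ≫ φ) (S.downward_closed h ψ)) := by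
      intro T T' ψ φ h
      have h2 : F.map ψ.op (x φ h) = x (ψ ≫ φ) (S.downward_closed h ψ) := by
        have := hx ψ (𝟙 T') h (S.downward_closed h ψ) (Category.id_comp _).symm
        simpa using this
      rw [← h2]
      simp [F, e]
    obtain ⟨p, hp, hu⟩ := Big.glue V S hS (fun T φ h => (e T).symm (x φ h)) hx'
    refine ⟨e V p, fun T φ h => ?_, fun q hq => ?_⟩
    · refine (e T).symm.injective ?_
      rw [← hp φ h]
      simp [F, e]
    · refine (e V).symm.injective ((hu _ fun T φ h => ?_).trans (Equiv.symm_apply_apply _ _).symm)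
      show Big.res φ ((e V).symm q) = (e T).symm (x φ h)
      rw [← hq φ h]
      simp [F, e]
  let P : NonAbH1.GSheaf G :=
    { P := ⟨F, (isSheaf_iff_isSheaf_of_type _ _).2 hF⟩
      smul := fun {V} g p => e V.unop (Big.smul g ((e V.unop).symm p))
      one_smul := fun {V} p => by
        show e V.unop (Big.smul 1 ((e V.unop).symm p)) = p
        rw [Big.smul_one, Equiv.apply_symm_apply]
      mul_smul := fun {V} g h p => by
        show e V.unop _ = e V.unop (Big.smul g ((e V.unop).symm (e V.unop _)))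
        rw [Equiv.symm_apply_apply]
        exact congrArg _ (Big.smul_mul g h _)
      map_smul := fun {V W} f g p => by
        show e W.unop (Big.res f.unop ((e V.unop).symm (e V.unop _))) =
          e W.unop (Big.smul _ ((e W.unop).symm (e W.unop _)))
        rw [Equiv.symm_apply_apply, Equiv.symm_apply_apply, Big.res_smul]
        rfl }
  let sB : ∀ k : I, Big γ (U k) := fun k =>
    ⟨fun i T φ a => γ.ev k i φ a, fun i T T' ψ φ a => γ.ev_precomp k i ψ φ a,
      fun i j T φ a b => γ.ev_trans k i j φ a b⟩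
  have hps : P.IsPseudoTorsor := by
    intro V p q
    obtain ⟨g, hg, hu⟩ := Big.existsUnique_smul hU ((e V.unop).symm p) ((e V.unop).symm q)
    refine ⟨g, (congrArg (e V.unop) hg).trans (Equiv.apply_symm_apply _ _), fun g' hg' => hu g' ?_⟩
    exact (Equiv.symm_apply_apply _ _).symm.trans (congrArg (e V.unop).symm hg')
  refine ⟨⟨P, hps, fun V => ⟨Sieve.ofObjects U V, hU V, fun W f hf => ?_⟩⟩, ?_, ?_⟩
  · obtain ⟨i, ⟨a⟩⟩ := hf
    exact ⟨F.map a.op (e (U i) (sB i))⟩
  · exact fun i => ⟨e (U i) (sB i)⟩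
  · refine ⟨fun i => e (U i) (sB i), γ, fun i j T a b => ?_, rfl⟩
    show e T (Big.smul _ ((e T).symm (e T (Big.res b ((e (U j)).symm (e (U j) (sB j))))))) =
      e T (Big.res a ((e (U i)).symm (e (U i) (sB i))))
    rw [Equiv.symm_apply_apply, Equiv.symm_apply_apply, Equiv.symm_apply_apply]
    refine congrArg _ (Subtype.ext ?_)
    funext l T' φ c'
    show G.obj.map φ.op (γ.ev i j a b) * γ.ev j l (φ ≫ b) c' = γ.ev i l (φ ≫ a) c'
    rw [γ.ev_precomp, γ.ev_trans]

end Groth.Agent.S16274
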