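import Groth.Statements.S16275
import Groth.Agent.DualAbs.HodgeLef
-- import your own Groth.Agent.* helpers here

set_option autoImplicit false
universe u
open CategoryTheory CategoryTheory.Limits AlgebraicGeometry
open HodgeNum

namespace Groth.Agent.S16275

/-- Let k be an algebraically closed field of characteristic p > 0 and X a smooth projective k-variety
of dimension n + 1 (an integral k-scheme, smooth of relative dimension n + 1 over k, with a closed
immersion into some P^N_k over k). Let L be an invertible O_X-module and d₀ ≥ 1 an integer such that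
H^q(X, Ω^p_{X/k} ⊗ L^{-d}) = 0 for all d ≥ d₀ and all p, q with p + q ≤ n; here Ω^p_{X/k} ⊗ L^{-d}
is any module E ⊗ M with E a p-th exterior power of the sheaf of differentials and M a tensor
inverse of L^{⊗d}. Let d ≥ d₀ and let Y ⊆ X be a closed subscheme, smooth of relative dimension n
over k, whose ideal sheaf is isomorphic to such an M (a smooth divisor in the linear system of
L^{⊗d}). Then h^{p,q}(Y) = h^{p,q}(X) for all p, q with p + q ≤ n - 1: for F a p-th exterior power
of Ω_{Y/k} and E a p-th exterior power of Ω_{X/k}, the k-vector spaces H^q(Y, F) and H^q(X, E) have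
the same dimension. (The source takes L very ample; that hypothesis is not used by its argument and
is dropped here.) -/
theorem result (k : Type u) [Field k] [IsAlgClosed k]
    (pc : ℕ) [Fact pc.Prime] [CharP k pc] (n N : ℕ)
    (X : Scheme.{u}) [X.Over (Spec (CommRingCat.of k))] [IsIntegral X]
    [SmoothOfRelativeDimension (n + 1) (X ↘ Spec (CommRingCat.of k))]
    (ι : X ⟶ CohB1.ProjSpace N k) [IsClosedImmersion ι] (hι : ι ≫ CohB1.ProjSpace.toSpec N k = X ↘ Spec (CommRingCat.of k))
    (L : X.Modules) (hL : PicF.IsInvertible L) (d₀ : ℕ) (hd₀ : 1 ≤ d₀)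
    (hvan : ∀ d : ℕ, d₀ ≤ d → ∀ M : X.Modules, ClSub.IsInverseOf M (CohB1.tensorPow L d) →
      ∀ p q : ℕ, p + q ≤ n → ∀ E : X.Modules, ExtPow.IsExtPow p (Omega.sheaf (X ↘ Spec (CommRingCat.of k))) E →
        Subsingleton (Coh.HH X (CohB1.tensorMod E M) q))
    (d : ℕ) (hd : d₀ ≤ d) (M : X.Modules) (hM : ClSub.IsInverseOf M (CohB1.tensorPow L d))
    (I : X.IdealSheafData) (hI : Nonempty (ClSub.idealMod I ≅ M))
    [I.subscheme.Over (Spec (CommRingCat.of k))] (hover : I.subscheme ↘ Spec (CommRingCat.of k) = I.subschemeι ≫ X ↘ Spec (CommRingCat.of k))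
    [SmoothOfRelativeDimension n (I.subscheme ↘ Spec (CommRingCat.of k))]
    (p q : ℕ) (hpq : p + q + 1 ≤ n)
    (F : I.subscheme.Modules) (hF : ExtPow.IsExtPow p (Omega.sheaf (I.subscheme ↘ Spec (CommRingCat.of k))) F)
    (E : X.Modules) (hE : ExtPow.IsExtPow p (Omega.sheaf (X ↘ Spec (CommRingCat.of k))) E) :
    Module.finrank k (Coh.HH I.subscheme F q) = Module.finrank k (Coh.HH X E q) := by
  haveI : IsProper (X ↘ Spec (CommRingCat.of k)) := by
    rw [← hι]
    haveI := Groth.Agent.ProjProper.Basic.isProper_toSpec N k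
    infer_instance
  haveI : SmoothOfRelativeDimension n (I.subschemeι ≫ (X ↘ Spec (CommRingCat.of k))) := by
    have hh := ‹SmoothOfRelativeDimension n (I.subscheme ↘ Spec (CommRingCat.of k))›
    rwa [hover] at hh
  have hLd := Groth.Agent.AmpleLib.isInvertible_tensorPow hL d
  have hMi : PicF.IsInvertible M :=
    Groth.Agent.NegVan.isInvertible_of_inverse hLd
      (hM.map fun e => Groth.Agent.ProjTwist.tensComm _ _ ≪≫ e)
  obtain ⟨eI⟩ := hI
  have eJ : Nonempty (ClSub.idealMod I.subschemeι.ker ≅ M) := by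
    rw [Scheme.IdealSheafData.ker_subschemeι]; exact ⟨eI⟩
  rw [hover] at hF
  refine Groth.Agent.DualAbs.HodgeLef.finrank_eq I.subschemeι hover.symm hMi eJ.some ?_ hpq hF hE
  intro t ht p' q' hpq' E' hE'
  haveI := hvan (d * t) (le_trans hd (Nat.le_mul_of_pos_right d ht)) _
    (Groth.Agent.DualAbs.HodgeLef.isInverseOf_pow hL hMi hM t) p' q' hpq' E' hE'
  exact (Groth.Agent.SurfRR.hhEquiv k (Groth.Agent.ProjTwist.tensComm E' (CohB1.tensorPow M t)) q').toEquiv.symm.subsingleton

end Groth.Agent.S16275
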