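import Groth.Statements.S16277
import Groth.Agent.DualAbs.HodgeLef
import Groth.Agent.S10931
import Groth.Agent.S15517
import Groth.Agent.S10829
import Groth.Agent.S0051
-- import your own Groth.Agent.* helpers here

set_option autoImplicit false
set_option linter.style.haveILetI false
universe u
open CategoryTheory CategoryTheory.Limits AlgebraicGeometry
open HodgeNum

namespace Groth.Agent.S16277

open Groth.Agent

/-- The negative powers of an ample module kill the low Hodge cohomology. -/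
theorem exists_hvan (k : Type u) [Field k] (n N : ℕ) (X : Scheme.{u}) [X.Over (Spec (CommRingCat.of k))]
    [Nonempty X] [IsProper (X ↘ Spec (CommRingCat.of k))]
    [SmoothOfRelativeDimension (n + 1) (X ↘ Spec (CommRingCat.of k))]
    (ι : X ⟶ CohB1.ProjSpace N k) [IsClosedImmersion ι]
    (hι : ι ≫ CohB1.ProjSpace.toSpec N k = X ↘ Spec (CommRingCat.of k))
    (L : X.Modules) (hL : CohB1.IsAmple L) :
    ∃ d₀ : ℕ, ∀ d : ℕ, d₀ ≤ d → ∀ M : X.Modules, ClSub.IsInverseOf M (CohB1.tensorPow L d) →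
      ∀ p q : ℕ, p + q ≤ n → ∀ E : X.Modules,
        ExtPow.IsExtPow p (Omega.sheaf (X ↘ Spec (CommRingCat.of k))) E →
          Subsingleton (Coh.HH X (CohB1.tensorMod E M) q) := by
  classical
  haveI := EulerChar.isLocallyNoetherian k (X := X)
  haveI := EulerChar.isNoetherian k (X := X)
  let g := X ↘ Spec (CommRingCat.of k)
  haveI : QuasiSeparated g := inferInstance
  haveI : HasExt.{u} X.Modules := Groth.Agent.ModShf.schemeModulesHasExt _
  have hdim := DualAbs.SmoothDual.topologicalKrullDim_eq k (r := n + 1) (X := X)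
  have hle : n + 1 ≤ N := by
    have h := ι.isEmbedding.isInducing.topologicalKrullDim_le
    rw [hdim, S10829.result k N] at h
    exact_mod_cast h
  have cΩ : Coh.IsCoh (Omega.sheaf g) := VBLib.isCoh_of_ofRank (CanonTriv.isFinLocFreeOfRank_omega g (n + 1))
  haveI := cΩ.1
  have hb := DualAbs.SmoothImm.exists_basis_omega g (n + 1)
  choose P hP using fun p : ℕ => ExtPowSt.Exists.exists_isExtPow p (Omega.sheaf g)
  have cP : ∀ p, Coh.IsCoh (P p) := fun p => ExtPowSt.isCoh ⟨(hP p).choose, (hP p).choose_spec⟩ cΩ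
  choose m hm using fun p : ℕ => (S0051.result k X g L hL.1).1 hL (P p) (cP p)
  refine ⟨(Finset.range (n + 2)).sup m, fun d hd M hM p q hpq E hE => ?_⟩
  obtain ⟨j, hj⟩ : ∃ j, n + 1 = p + j := ⟨n + 1 - p, by omega⟩
  have hmj : m j ≤ d := (Finset.le_sup (Finset.mem_range.2 (by omega))).trans hd
  have hLd := AmpleLib.isInvertible_tensorPow hL.1 d
  have hMi : PicF.IsInvertible M :=
    NegVan.isInvertible_of_inverse hLd (hM.map fun e => ProjTwist.tensComm _ _ ≪≫ e)
  have fE : FlatMod.IsFinLocFree E := DualAbs.WedgePair.isFinLocFree ⟨hE.choose, hE.choose_spec⟩ cΩ hb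
  have fEM : FlatMod.IsFinLocFree (CohB1.tensorMod E M) :=
    LimTop.TensorQC.tensM_eq (F := E) (G := M) ▸ KFlat.TensorLocFree.isFinLocFree_tensM fE
      (ProjForm.isFinLocFree_of_isInvertible hMi)
  have cEM := VBLib.isCoh_of_isFinLocFree fEM
  haveI : DCoh.HasSheafHom E := KFlat.hasSheafHom_scheme E
  haveI : DCoh.HasSheafHom M := KFlat.hasSheafHom_scheme M
  haveI : DCoh.HasSheafHom (CohB1.tensorMod E M) := KFlat.hasSheafHom_scheme _
  have hW := hP (n + 1)
  obtain ⟨t, ht⟩ := DualAbs.SmoothDual.exists_isDualizing k ι hι hle (P (n + 1)) hW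
  obtain ⟨e₁⟩ := (S15517.result k (n := n + 1) N _ ι hι hdim (fun x hx => DualAbs.SmoothDual.cm_closed k x hx)
    (P (n + 1)) (DualAbs.SmoothDual.isCoh_top k ι hι (P (n + 1)) hW) t ht (CohB1.tensorMod E M) cEM).1
      (n + 1 - q) (Nat.sub_le _ _)
  rw [Nat.sub_sub_self (by omega)] at e₁
  obtain ⟨e₂⟩ := ExtHom.nonempty_ext_linearEquiv k fEM (P (n + 1)) (n + 1 - q)
  have hW' : ExtPow.IsExtPow (p + j) (Omega.sheaf g) (P (n + 1)) := by rw [← hj]; exact hW
  have hb' : ∀ x, Nonempty (Module.Basis (Fin (p + j)) (X.presheaf.stalk x) ((Omega.sheaf g).presheaf.stalk x)) := by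
    rw [← hj]; exact hb
  obtain ⟨wp⟩ := DualAbs.WedgePair.nonempty_iso (i := p) (j := j) ⟨hE.choose, hE.choose_spec⟩
    ⟨(hP j).choose, (hP j).choose_spec⟩ ⟨hW'.choose, hW'.choose_spec⟩
    (HomShEval.QCoh.isFP_of_isCoh _ (VBLib.isCoh_of_isFinLocFree fE)) hb'
  obtain ⟨st⟩ := S10931.nonempty_sheafHom_tensor E M (P (n + 1))
  obtain ⟨eM⟩ := hM
  obtain ⟨b⟩ := DualAbs.nonempty_sheafHom_invertible M (CohB1.tensorPow L d) (ProjTwist.tensComm _ _ ≪≫ eM)
    ((DCoh.sheafHom E).obj (P (n + 1)))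
  let f : (DCoh.sheafHom (CohB1.tensorMod E M)).obj (P (n + 1)) ≅ CohB1.tensorMod (P j) (CohB1.tensorPow L d) :=
    st ≪≫ b ≪≫ ProjTwist.tensCongr (Iso.refl _) wp.symm ≪≫ ProjTwist.tensComm _ _
  haveI := hm j d hmj (n + 1 - q) (by omega)
  haveI := EulerChar.finite_HH k _ cEM q
  refine (Module.finrank_zero_iff (R := k)).1 ?_
  rw [← Subspace.dual_finrank_eq, (e₁.symm ≪≫ₗ e₂ ≪≫ₗ SurfRR.hhEquiv k f (n + 1 - q)).finrank_eq,
    Module.finrank_zero_of_subsingleton]

end Groth.Agent.S16277

namespace Groth.Agent.S16277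

/-- Let k be an algebraically closed field of characteristic p > 0, X a smooth projective k-variety of
dimension n + 1 (an integral k-scheme, smooth of relative dimension n + 1 over k, with a closed
immersion into some P^N_k over k) and L an ample invertible O_X-module. Then for d large enough
every smooth divisor Y in the linear system of L^{⊗d} satisfies h^{p,q}(Y) = h^{p,q}(X) for p + q ≤
n - 1: there is d₀ such that for all d ≥ d₀, every M with M ⊗ L^{⊗d} ≅ O_X, every closed subscheme Y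
of X which is smooth of relative dimension n over k and whose ideal sheaf is isomorphic to M, all p,
q with p + q ≤ n - 1, every p-th exterior power F of Ω_{Y/k} and every p-th exterior power E of
Ω_{X/k}, the k-vector spaces H^q(Y, F) and H^q(X, E) have the same dimension. (The published
statement assumes L very ample; its argument only uses that L is ample, which is what is assumed
here.) -/
theorem result (k : Type u) [Field k] [IsAlgClosed k]
    (pc : ℕ) [Fact pc.Prime] [CharP k pc] (n N : ℕ)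
    (X : Scheme.{u}) [X.Over (Spec (CommRingCat.of k))] [IsIntegral X]
    [SmoothOfRelativeDimension (n + 1) (X ↘ Spec (CommRingCat.of k))]
    (ι : X ⟶ CohB1.ProjSpace N k) [IsClosedImmersion ι] (hι : ι ≫ CohB1.ProjSpace.toSpec N k = X ↘ Spec (CommRingCat.of k))
    (L : X.Modules) (hL : CohB1.IsAmple L) :
    ∃ d₀ : ℕ, ∀ d : ℕ, d₀ ≤ d → ∀ M : X.Modules, ClSub.IsInverseOf M (CohB1.tensorPow L d) →
      ∀ (I : X.IdealSheafData) [I.subscheme.Over (Spec (CommRingCat.of k))],
        I.subscheme ↘ Spec (CommRingCat.of k) = I.subschemeι ≫ X ↘ Spec (CommRingCat.of k) → Nonempty (ClSub.idealMod I ≅ M) →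
        SmoothOfRelativeDimension n (I.subscheme ↘ Spec (CommRingCat.of k)) →
        ∀ p q : ℕ, p + q + 1 ≤ n →
          ∀ F : I.subscheme.Modules, ExtPow.IsExtPow p (Omega.sheaf (I.subscheme ↘ Spec (CommRingCat.of k))) F →
          ∀ E : X.Modules, ExtPow.IsExtPow p (Omega.sheaf (X ↘ Spec (CommRingCat.of k))) E →
            Module.finrank k (Coh.HH I.subscheme F q) = Module.finrank k (Coh.HH X E q) := by
  haveI : IsProper (X ↘ Spec (CommRingCat.of k)) := by
    rw [← hι]
    haveI := Groth.Agent.ProjProper.Basic.isProper_toSpec N k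
    infer_instance
  obtain ⟨d₀, hd₀⟩ := exists_hvan k n N X ι hι L hL
  refine ⟨d₀ + 1, ?_⟩
  intro d hd M hM I hov hover hI hsm p q hpq F hF E hE
  haveI : SmoothOfRelativeDimension n (I.subschemeι ≫ (X ↘ Spec (CommRingCat.of k))) := by
    rwa [hover] at hsm
  have hMi : PicF.IsInvertible M :=
    Groth.Agent.NegVan.isInvertible_of_inverse (Groth.Agent.AmpleLib.isInvertible_tensorPow hL.1 d)
      (hM.map fun e => Groth.Agent.ProjTwist.tensComm _ _ ≪≫ e)
  obtain ⟨eI⟩ := hI
  have eJ : Nonempty (ClSub.idealMod I.subschemeι.ker ≅ M) := by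
    rw [Scheme.IdealSheafData.ker_subschemeι]; exact ⟨eI⟩
  rw [hover] at hF
  refine Groth.Agent.DualAbs.HodgeLef.finrank_eq I.subschemeι hover.symm hMi eJ.some ?_ hpq hF hE
  intro t ht p' q' hpq' E' hE'
  haveI := hd₀ (d * t) (le_trans (by omega) (Nat.le_mul_of_pos_right d ht)) _
    (Groth.Agent.DualAbs.HodgeLef.isInverseOf_pow hL.1 hMi hM t) p' q' hpq' E' hE'
  exact (Groth.Agent.SurfRR.hhEquiv k (Groth.Agent.ProjTwist.tensComm E' (CohB1.tensorPow M t)) q').toEquiv.symm.subsingleton

end Groth.Agent.S16277
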