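import Groth.Statements.S16282
import Groth.Agent.InjMod.ProjFramed
import Groth.Agent.InjMod.HomComp
-- import your own Groth.Agent.* helpers here

set_option autoImplicit false
universe u
open CategoryTheory CategoryTheory.Limits AlgebraicGeometry
open Coherent

namespace Groth.Agent.S16282

/-- Let f : X → Y be a morphism of schemes, F and G O_X-modules, L a finite locally free O_X-module with
dual L^∨ = Hom_{O_X}(L, O_X), N a finite locally free O_Y-module and p ≥ 0. Write Ext^p_f(M, -) for
the p-th right derived functor of the left exact functor G ↦ f_* Hom_{O_X}(M, G) from O_X-modules to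
O_Y-modules. Then Ext^p_f(F ⊗ L, G ⊗ f^*N) is isomorphic to Ext^p_f(F, G ⊗ L^∨) ⊗ N. (Stated for
schemes, the published statement being for ringed spaces and a chain of two functorial isomorphisms;
existence of an isomorphism of O_Y-modules only. The internal Hom functors, injective resolutions
and additivity of the composite functors are the stated instance hypotheses, all true.) -/
theorem result (X Y : Scheme.{u}) (f : X ⟶ Y) (F G L : X.Modules) (N : Y.Modules)
    (hL : FlatMod.IsFinLocFree L) (hN : FlatMod.IsFinLocFree N) (p : ℕ)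
    [ModSite.HasSheafHom (O := X.sheaf) F] [ModSite.HasSheafHom (O := X.sheaf) L]
    [ModSite.HasSheafHom (O := X.sheaf) (CohB1.tensorMod F L)] [HasInjectiveResolutions (ModSite.Mod X.sheaf)]
    [(ModSite.sheafHom (O := X.sheaf) F ⋙ Scheme.Modules.pushforward f).Additive]
    [(ModSite.sheafHom (O := X.sheaf) (CohB1.tensorMod F L) ⋙ Scheme.Modules.pushforward f).Additive] :
    Nonempty (((ModSite.sheafHom (O := X.sheaf) (CohB1.tensorMod F L) ⋙ Scheme.Modules.pushforward f).rightDerived p).obj
        (CohB1.tensorMod G ((Scheme.Modules.pullback f).obj N)) ≅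
      CohB1.tensorMod (((ModSite.sheafHom (O := X.sheaf) F ⋙ Scheme.Modules.pushforward f).rightDerived p).obj
        (CohB1.tensorMod G ((ModSite.sheafHom (O := X.sheaf) L).obj (Coh.structureModule X)))) N) := by
  have : ModSite.HasSheafHom (O := X.sheaf) (KFlat.StalkTensor.tensM F L) :=
    ‹ModSite.HasSheafHom (O := X.sheaf) (CohB1.tensorMod F L)›
  let P := (Scheme.Modules.pullback f).obj N
  have hL' := InjMod.hasFrames_of_isFinLocFree hL
  have hN' := InjMod.hasFrames_of_isFinLocFree hN
  have hP : InjMod.HasFrames P := fun x => by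
    obtain ⟨U, n, e, hx, he⟩ := hN' (f x)
    exact ⟨f ⁻¹ᵁ U, n, _, hx, he.pullback f⟩
  -- `ℋom(L, -)`
  obtain ⟨aL, lL, rL⟩ := InjMod.preservesFiniteColimits_homF (E := L) hL'
  have : (InjMod.homF L).PreservesInjectiveObjects := ⟨fun {Q} _ => InjMod.injective_homF hL' Q⟩
  -- `- ⊗ N` on `Y`
  have hSN : ModSite.HasSheafHom (O := Y.sheaf) N := KFlat.hasSheafHom Y.sheaf N
  have hSN' : ModSite.HasSheafHom (O := Y.sheaf) (InjMod.dualMod N) := KFlat.hasSheafHom Y.sheaf _
  obtain ⟨iN⟩ := InjMod.nonempty_doubleDualIso (E := N) hN'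
  obtain ⟨aN, lN, rN⟩ :=
    InjMod.preservesFiniteColimits_homF (E := InjMod.dualMod N) (InjMod.hasFrames_dual hN')
  have : (ChgRings.tensR N).Additive := KFlat.additive_tensorBi_flip N
  have : PreservesFiniteLimits (ChgRings.tensR N) := preservesFiniteLimits_of_natIso iN.symm
  have : PreservesFiniteColimits (ChgRings.tensR N) := preservesFiniteColimits_of_natIso iN.symm
  -- `- ⊗ f^* N` on `X`
  have hSP : ModSite.HasSheafHom (O := X.sheaf) P := KFlat.hasSheafHom X.sheaf P
  have hSP' : ModSite.HasSheafHom (O := X.sheaf) (InjMod.dualMod P) := KFlat.hasSheafHom X.sheaf _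
  obtain ⟨iP⟩ := InjMod.nonempty_doubleDualIso (E := P) hP
  obtain ⟨aP, lP, rP⟩ :=
    InjMod.preservesFiniteColimits_homF (E := InjMod.dualMod P) (InjMod.hasFrames_dual hP)
  have : (ChgRings.tensR P).Additive := KFlat.additive_tensorBi_flip P
  have : PreservesFiniteLimits (ChgRings.tensR P) := preservesFiniteLimits_of_natIso iP.symm
  have : PreservesFiniteColimits (ChgRings.tensR P) := preservesFiniteColimits_of_natIso iP.symm
  have : (ChgRings.tensR P).PreservesInjectiveObjects :=
    ⟨fun {Q} _ => Injective.of_iso (iP.app Q).symm (InjMod.injective_homF (InjMod.hasFrames_dual hP) Q)⟩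
  let T := InjMod.homF F ⋙ Scheme.Modules.pushforward f
  have : T.Additive := ‹(ModSite.sheafHom (O := X.sheaf) F ⋙ Scheme.Modules.pushforward f).Additive›
  let D := InjMod.dualMod L
  let e₁ : InjMod.homF (KFlat.StalkTensor.tensM F L) ⋙ Scheme.Modules.pushforward f ≅ InjMod.homF L ⋙ T :=
    Functor.isoWhiskerRight (InjMod.homCompIso F L) _ ≪≫ Functor.associator _ _ _
  let e₂ : ChgRings.tensR P ⋙ T ≅ T ⋙ ChgRings.tensR N :=
    Functor.isoWhiskerRight iP T ≪≫ (Functor.associator _ _ _).symm ≪≫
      Functor.isoWhiskerRight (InjMod.homSwapIso F (InjMod.dualMod P)) _ ≪≫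
      Functor.associator _ _ _ ≪≫
      Functor.isoWhiskerLeft (InjMod.homF F) (Functor.isoWhiskerRight iP.symm _ ≪≫
        (InjMod.projFramedIso f hN').symm) ≪≫ (Functor.associator _ _ _).symm
  let e₃ : (InjMod.homF L).obj ((ChgRings.tensR P).obj G) ≅
      (ChgRings.tensR P).obj ((ChgRings.tensR D).obj G) :=
    ((InjMod.dualIso hL').app _).symm ≪≫ (ChgRings.tensRComp D P).app G ≪≫
      ((ModSite.tensorBi X.sheaf).obj G).mapIso (ChgRings.commIso P D) ≪≫
      ((ChgRings.tensRComp P D).app G).symm
  exact ⟨(ExtSuppLib.rightDerivedMapIso e₁ p).app _ ≪≫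
    DerFun.rightDerivedCompIso (InjMod.homF L) T p _ ≪≫ (T.rightDerived p).mapIso e₃ ≪≫
    (DerFun.rightDerivedCompIso (ChgRings.tensR P) T p _).symm ≪≫
    (ExtSuppLib.rightDerivedMapIso e₂ p).app _ ≪≫
    (ModShf.rightDerivedCompIso T (ChgRings.tensR N) p).app _⟩

end Groth.Agent.S16282
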