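import Groth.Statements.S16283
import Groth.Agent.ExtSuppLib.Flasque
-- import your own Groth.Agent.* helpers here

set_option autoImplicit false
universe u
open CategoryTheory CategoryTheory.Limits AlgebraicGeometry ZeroObject
open Coherent

open CategoryTheory.Limits Opposite

namespace Groth.Agent.S16283

/-- Let f : X → Y and g : Y → Z be morphisms of schemes, h = g ∘ f, and F, G O_X-modules. For a morphism
u out of X write Ext^b_u(F, -) for the b-th right derived functor of the left exact functor G ↦ u_*
Hom_{O_X}(F, G) from O_X-modules. Then there is an E₂ spectral sequence of O_Z-modules with E₂^{a,b}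
≅ R^a g_*(Ext^b_f(F, G)) for a, b ≥ 0 (and 0 otherwise), bounded, abutting with finite filtrations
to Ext^n_h(F, G) (n ≥ 0; 0 for n < 0). (Stated for schemes, the published statement being for ringed
spaces. Existence only: the E₂ identifications and the abutment are some isomorphisms. The internal
Hom functor of F, injective resolutions on X and Y and additivity of the composite functors are the
stated instance hypotheses, all true.) -/
theorem result (X Y Z : Scheme.{u}) (f : X ⟶ Y) (g : Y ⟶ Z)
    (F G : X.Modules)
    [ModSite.HasSheafHom (O := X.sheaf) F] [HasInjectiveResolutions (ModSite.Mod X.sheaf)] [HasInjectiveResolutions Y.Modules]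
    [(ModSite.sheafHom (O := X.sheaf) F ⋙ Scheme.Modules.pushforward f).Additive]
    [(ModSite.sheafHom (O := X.sheaf) F ⋙ Scheme.Modules.pushforward (f ≫ g)).Additive] :
    ∃ (E : E₂CohomologicalSpectralSequence Z.Modules)
      (a : SpSeq.Abutment E (fun n : ℤ =>
        if 0 ≤ n then ((ModSite.sheafHom (O := X.sheaf) F ⋙ Scheme.Modules.pushforward (f ≫ g)).rightDerived n.toNat).obj G else (0 : Z.Modules))),
      (∀ n : ℤ, a.IsFinite n) ∧ SpSeq.IsBounded E ∧
      ∀ p q : ℤ, Nonempty ((E.page 2 le_rfl).X (p, q) ≅
        (if 0 ≤ p ∧ 0 ≤ q then (Coh.Rpush g p.toNat).obj (((ModSite.sheafHom (O := X.sheaf) F ⋙ Scheme.Modules.pushforward f).rightDerived q.toNat).obj G)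
          else (0 : Z.Modules))) := by
  let T := ModSite.sheafHom (O := X.sheaf) F ⋙ Scheme.Modules.pushforward f
  let S := Scheme.Modules.pushforward g
  have : PreservesFiniteLimits S :=
    ⟨fun K _ _ => ((Scheme.Modules.pullbackPushforwardAdjunction g).rightAdjoint_preservesLimits.preservesLimitsOfShape :
      PreservesLimitsOfShape K S)⟩
  have hT : ∀ Q : ModSite.Mod X.sheaf, Injective Q → ∀ q : ℕ, 0 < q →
      IsZero ((S.rightDerived q).obj (T.obj Q)) := fun Q _ q hq => by
    obtain ⟨k, rfl⟩ : ∃ k, q = k + 1 := ⟨q - 1, by omega⟩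
    refine ExtSuppLib.isZero_Rpush_of_isFlasque g _ ?_ k
    have h : TopCat.Sheaf.IsFlasque (X := X.toTopCat)
        (Coh.toAb ((ModSite.sheafHom (O := X.sheaf) F).obj Q)) :=
      ModShf.isFlasque_of_surjective (X := X.toTopCat) _ fun i => by
        exact ExtSuppLib.surjective_map_of_extP (ExtSuppLib.extP_sheafHom (O := X.sheaf) F Q) i
    have : TopCat.Presheaf.IsFlasque (X := X.toTopCat)
        (Coh.toAb ((ModSite.sheafHom (O := X.sheaf) F).obj Q)).obj := h
    exact TopCat.Presheaf.IsFlasque.pushforward_isFlasque (X := X.toTopCat)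
      (Coh.toAb ((ModSite.sheafHom (O := X.sheaf) F).obj Q)).obj f.base
  obtain ⟨E, a, ha, hb, he⟩ := GrothSS.Main.exists_spectralSequence T S hT G
  obtain ⟨a', ha'⟩ := SiteCoh.AbutTransport.exists_abutment a ha
    (H' := fun n : ℤ => if 0 ≤ n then ((ModSite.sheafHom (O := X.sheaf) F ⋙
      Scheme.Modules.pushforward (f ≫ g)).rightDerived n.toNat).obj G else (0 : Z.Modules)) (fun n => by
      by_cases hn : 0 ≤ n
      · simp only [if_pos hn]
        exact ⟨(ExtSuppLib.rightDerivedMapIso (Functor.associator _ _ _ ≪≫ Functor.isoWhiskerLeft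
          (ModSite.sheafHom (O := X.sheaf) F) (Scheme.Modules.pushforwardComp f g)) n.toNat).app G⟩
      · simp only [if_neg hn]
        exact ⟨Iso.refl _⟩)
  exact ⟨E, a', ha', hb, he⟩

end Groth.Agent.S16283
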