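import Groth.Statements.S16284
import Groth.Agent.InjMod.RelExtTwist
import Groth.Agent.InjMod.DimShift
import Groth.Agent.ProjProper.Basic
import Groth.Agent.ProjForm.Unit

set_option autoImplicit false
universe u
open CategoryTheory CategoryTheory.Limits AlgebraicGeometry
open Coherent

namespace Groth.Agent.S16284

/-- Let Z be a Noetherian scheme, g : Y → Z a morphism factoring through a closed immersion e' : Y →
P^m_Z followed by the projection, O_Y(l) = e'^*O(l), f : X → Y a morphism factoring through a closed
immersion X → P^n_Y followed by the projection, h = g ∘ f, and F, G coherent O_X-modules. For a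
morphism u out of X write Ext^p_u(F, -) for the p-th right derived functor of the left exact functor
G ↦ u_* Hom_{O_X}(F, G). Then for every p ≥ 0 there is l₀ such that for all l ≥ l₀ the O_Z-module
g_* Ext^p_f(F, G ⊗ f^*O_Y(l)) is isomorphic to Ext^p_h(F, G ⊗ f^*O_Y(l)). (Existence of an
isomorphism of O_Z-modules only. The internal Hom functor of F, injective resolutions and additivity
of the composite functors are the stated instance hypotheses, all true.) -/
theorem result (Z : Scheme.{u}) [IsNoetherian Z] (m : ℕ)
    (Y : Scheme.{u}) (g : Y ⟶ Z) (e' : Y ⟶ CohB1.ProjSpaceOver m Z) [IsClosedImmersion e']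
    (he' : e' ≫ CohB1.ProjSpaceOver.toBase m Z = g)
    (n : ℕ) (X : Scheme.{u}) (f : X ⟶ Y) (e : X ⟶ CohB1.ProjSpaceOver n Y) [IsClosedImmersion e]
    (he : e ≫ CohB1.ProjSpaceOver.toBase n Y = f)
    (F G : X.Modules) (hF : Coh.IsCoh F) (hG : Coh.IsCoh G) (p : ℕ)
    [ModSite.HasSheafHom (O := X.sheaf) F] [HasInjectiveResolutions (ModSite.Mod X.sheaf)]
    [(ModSite.sheafHom (O := X.sheaf) F ⋙ Scheme.Modules.pushforward f).Additive]
    [(ModSite.sheafHom (O := X.sheaf) F ⋙ Scheme.Modules.pushforward (f ≫ g)).Additive] :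
    ∃ l₀ : ℕ, ∀ l : ℕ, l₀ ≤ l →
      Nonempty ((Scheme.Modules.pushforward g).obj (((ModSite.sheafHom (O := X.sheaf) F ⋙ Scheme.Modules.pushforward f).rightDerived p).obj
          (CohB1.tensorMod G ((Scheme.Modules.pullback f).obj
            ((Scheme.Modules.pullback e').obj (Twist.twistOver m Z (l : ℤ)))))) ≅
        ((ModSite.sheafHom (O := X.sheaf) F ⋙ Scheme.Modules.pushforward (f ≫ g)).rightDerived p).obj
          (CohB1.tensorMod G ((Scheme.Modules.pullback f).obj
            ((Scheme.Modules.pullback e').obj (Twist.twistOver m Z (l : ℤ)))))) := by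
  have : HasInjectiveResolutions X.Modules := ‹HasInjectiveResolutions (ModSite.Mod X.sheaf)›
  have := Groth.Agent.ProjProper.Basic.isProper_toBase m Z
  have : IsProper g := he' ▸ inferInstance
  have : IsLocallyNoetherian Y := LocallyOfFiniteType.isLocallyNoetherian g
  have : CompactSpace Y := QuasiCompact.compactSpace_of_compactSpace g
  have : IsNoetherian Y := {}
  have := Groth.Agent.ProjProper.Basic.isProper_toBase n Y
  have : IsProper f := he ▸ inferInstance
  have : IsLocallyNoetherian X := LocallyOfFiniteType.isLocallyNoetherian f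
  have : CompactSpace X := QuasiCompact.compactSpace_of_compactSpace f
  have : IsNoetherian X := {}
  have : (Groth.Agent.InjMod.relF f F).Additive :=
    ‹(ModSite.sheafHom (O := X.sheaf) F ⋙ Scheme.Modules.pushforward f).Additive›
  have : HasInjectiveResolutions Y.Modules := inferInstance
  choose l₀ hl₀ using fun b : Fin (p + 1) =>
    Groth.Agent.InjMod.exists_twist_bound g e' he' (Groth.Agent.InjMod.isCoh_relExt f F hF G hG b)
  obtain ⟨L, hL⟩ := Finite.exists_le l₀
  refine ⟨L, fun l hl => ?_⟩
  let N := (Scheme.Modules.pullback e').obj (Twist.twistOver m Z (l : ℤ))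
  have hN := Groth.Agent.InjMod.hasFrames_of_isFinLocFree
    (Groth.Agent.ProjForm.isFinLocFree_of_isInvertible (Groth.Agent.InjMod.isInvertible_twist e' (l : ℤ)))
  have := Groth.Agent.InjMod.preservesFiniteLimits_relF f F
  have := Groth.Agent.InjMod.preservesFiniteLimits_pushforward g
  let R := Groth.Agent.InjMod.relF f F
  let S := Scheme.Modules.pushforward g
  obtain ⟨e₁⟩ := Groth.Agent.DimShift.nonempty_comp_rightDerived_iso R S
    (fun Q _ k => Groth.Agent.InjMod.isZero_rpush_relF_injective f F g Q k) p
    (CohB1.tensorMod G ((Scheme.Modules.pullback f).obj N)) (fun a b hab => by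
      obtain ⟨eb⟩ := Groth.Agent.InjMod.nonempty_relExt_tensor f F hN G b
      exact (hl₀ ⟨b, by omega⟩ l ((hL _).trans hl) a).of_iso ((Coh.Rpush g (a + 1)).mapIso eb))
  exact ⟨e₁ ≪≫ (Groth.Agent.ExtSuppLib.rightDerivedMapIso (Functor.associator _ _ _ ≪≫
    Functor.isoWhiskerLeft (ModSite.sheafHom (O := X.sheaf) F) (Scheme.Modules.pushforwardComp f g)) p).app _⟩

end Groth.Agent.S16284
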