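import Groth.Statements.S16287
import Mathlib.Topology.Sheaves.MayerVietoris
-- import your own Groth.Agent.* helpers here

set_option autoImplicit false
universe u
open CategoryTheory CategoryTheory.Limits TopologicalSpace
open LocCohZ

namespace Groth.Agent.S16287

section Quot

open CategoryTheory.Limits

variable {C : Type*} [Category C] [Abelian C] {A₁ A₂ A₃ A₄ T : C}
  (a₁₂ : A₁ ⟶ A₂) (a₁₃ : A₁ ⟶ A₃) (a₂₄ : A₂ ⟶ A₄) (a₃₄ : A₃ ⟶ A₄)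
  (i₁ : A₁ ⟶ T) (i₂ : A₂ ⟶ T) (i₃ : A₃ ⟶ T) (i₄ : A₄ ⟶ T)
  {Q₁ Q₂ Q₃ Q₄ : C} (p₁ : T ⟶ Q₁) (p₂ : T ⟶ Q₂) (p₃ : T ⟶ Q₃) (p₄ : T ⟶ Q₄)
  (q₁₂ : Q₁ ⟶ Q₂) (q₁₃ : Q₁ ⟶ Q₃) (q₂₄ : Q₂ ⟶ Q₄) (q₃₄ : Q₃ ⟶ Q₄)

/-- A Mayer–Vietoris square of subobjects of `T` gives a short exact sequence of the quotients of
`T`. -/
theorem shortExact_quot [Mono i₂] [Mono i₃] [Mono i₄] [Epi p₁] [Epi p₂] [Epi p₃]
    (zA : biprod.lift a₁₂ (-a₁₃) ≫ biprod.desc a₂₄ a₃₄ = 0)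
    (hA : (ShortComplex.mk _ _ zA).ShortExact)
    (h₁₂ : a₁₂ ≫ i₂ = i₁) (h₂₄ : a₂₄ ≫ i₄ = i₂) (h₃₄ : a₃₄ ≫ i₄ = i₃)
    (z₁ : i₁ ≫ p₁ = 0) (z₂ : i₂ ≫ p₂ = 0) (z₃ : i₃ ≫ p₃ = 0) (z₄ : i₄ ≫ p₄ = 0)
    (e₂ : (ShortComplex.mk _ _ z₂).Exact) (e₃ : (ShortComplex.mk _ _ z₃).Exact)
    (e₄ : IsColimit (CokernelCofork.ofπ p₄ z₄))
    (k₁₂ : p₁ ≫ q₁₂ = p₂) (k₁₃ : p₁ ≫ q₁₃ = p₃) (k₂₄ : p₂ ≫ q₂₄ = p₄) (k₃₄ : p₃ ≫ q₃₄ = p₄)
    (zQ : biprod.lift q₁₂ (-q₁₃) ≫ biprod.desc q₂₄ q₃₄ = 0) :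
    (ShortComplex.mk _ _ zQ).ShortExact := by
  have : Epi p₄ := Cofork.IsColimit.epi e₄
  have hepi : Epi (biprod.desc q₂₄ q₃₄) := by
    have : Epi ((p₂ ≫ biprod.inl) ≫ biprod.desc q₂₄ q₃₄) := by
      rw [Category.assoc, biprod.inl_desc, k₂₄]; infer_instance
    exact epi_of_epi (p₂ ≫ biprod.inl) _
  have hmono : Mono (biprod.lift q₁₂ (-q₁₃)) := by
    refine Preadditive.mono_of_cancel_zero _ fun {A} t ht => ?_
    have h2 : t ≫ q₁₂ = 0 := by simpa using ht =≫ biprod.fst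
    have h3 : t ≫ q₁₃ = 0 := by simpa using ht =≫ biprod.snd
    rw [← cancel_epi (pullback.snd p₁ t), comp_zero, ← pullback.condition]
    have s2 : pullback.fst p₁ t ≫ p₂ = 0 := by
      rw [← k₁₂, ← Category.assoc, pullback.condition, Category.assoc, h2, comp_zero]
    have s3 : pullback.fst p₁ t ≫ p₃ = 0 := by
      rw [← k₁₃, ← Category.assoc, pullback.condition, Category.assoc, h3, comp_zero]
    obtain ⟨a, ha⟩ : ∃ a, a ≫ i₂ = pullback.fst p₁ t :=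
      have : Mono (ShortComplex.mk _ _ z₂).f := ‹Mono i₂›
      ⟨e₂.lift _ s2, e₂.lift_f _ s2⟩
    obtain ⟨b, hb⟩ : ∃ b, b ≫ i₃ = pullback.fst p₁ t :=
      have : Mono (ShortComplex.mk _ _ z₃).f := ‹Mono i₃›
      ⟨e₃.lift _ s3, e₃.lift_f _ s3⟩
    have hab : biprod.lift a (-b) ≫ biprod.desc a₂₄ a₃₄ = 0 := by
      rw [← cancel_mono i₄, zero_comp, biprod.lift_desc]
      simp [h₂₄, h₃₄, ha, hb]
    obtain ⟨c, hc⟩ : ∃ c, c ≫ biprod.lift a₁₂ (-a₁₃) = biprod.lift a (-b) :=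
      have : Mono (ShortComplex.mk _ _ zA).f := hA.mono_f
      ⟨hA.exact.lift _ hab, hA.exact.lift_f _ hab⟩
    have hc2 : c ≫ a₁₂ = a := by simpa using hc =≫ biprod.fst
    rw [← ha, ← hc2, Category.assoc, Category.assoc, ← Category.assoc a₁₂, h₁₂, z₁, comp_zero]
  refine { exact := ?_, mono_f := hmono, epi_g := hepi }
  refine ShortComplex.exact_of_g_is_cokernel _ (CokernelCofork.IsColimit.ofπ' _ _ fun {A} k hk => ?_)
  dsimp at k hk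
  have h1 : p₂ ≫ biprod.inl ≫ k = p₃ ≫ biprod.inr ≫ k := by
    have h0 : q₁₂ ≫ biprod.inl ≫ k - q₁₃ ≫ biprod.inr ≫ k = 0 := by
      rw [← hk, biprod.lift_eq]
      simp [sub_eq_add_neg]
    rw [← k₁₂, ← k₁₃, Category.assoc, Category.assoc, sub_eq_zero.1 h0]
  have h4 : i₄ ≫ p₂ ≫ biprod.inl ≫ k = 0 := by
    have : Epi (biprod.desc a₂₄ a₃₄) := hA.epi_g
    rw [← cancel_epi (biprod.desc a₂₄ a₃₄), comp_zero]
    apply biprod.hom_ext'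
    · rw [biprod.inl_desc_assoc, reassoc_of% h₂₄, reassoc_of% z₂]
      simp
    · rw [biprod.inr_desc_assoc, reassoc_of% h₃₄, h1, reassoc_of% z₃]
      simp
  obtain ⟨l, hl⟩ := CokernelCofork.IsColimit.desc' e₄ _ h4
  dsimp at l hl
  refine ⟨l, biprod.hom_ext' _ _ ?_ ?_⟩
  · rw [biprod.inl_desc_assoc, ← cancel_epi p₂, reassoc_of% k₂₄]; exact hl
  · rw [biprod.inr_desc_assoc, ← cancel_epi p₃, reassoc_of% k₃₄, ← h1]; exact hl

end Quot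

end Groth.Agent.S16287

namespace Groth.Agent.S16287

/-- Let X be a topological space, F an abelian sheaf on X, and U, U' open subsets with closed
complements Z = X ∖ U and Z' = X ∖ U' (so Z ∩ Z' = X ∖ (U ∪ U') and Z ∪ Z' = X ∖ (U ∩ U')). With
H^i_{X∖W}(X, F) = Ext^i(Z_X/Z_W, F) and the enlargement-of-support maps r : H^i_{Z∩Z'} → H^i_Z, r' :
H^i_{Z∩Z'} → H^i_{Z'}, s : H^i_Z → H^i_{Z∪Z'}, s' : H^i_{Z'} → H^i_{Z∪Z'}: the map H^0_{Z∩Z'} →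
H^0_Z ⊕ H^0_{Z'}, x ↦ (r x, r' x), is injective, and there are connecting homomorphisms δ_i :
H^i_{Z∪Z'}(X, F) → H^{i+1}_{Z∩Z'}(X, F) such that for every i the sequence H^i_{Z∩Z'} → H^i_Z ⊕
H^i_{Z'} → H^i_{Z∪Z'} → H^{i+1}_{Z∩Z'} → H^{i+1}_Z ⊕ H^{i+1}_{Z'} is exact, the middle map being (y,
y') ↦ s y − s' y'. -/
theorem result {X : TopCat.{u}} (F : CohTop.Ab X) (U U' : Opens X) :
    Function.Injective (fun x : LocCohZ.HZc F 0 (U ⊔ U') =>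
      (LocCohZ.resZ F 0 (le_top : U ⊔ U' ≤ ⊤) (le_top : U ≤ ⊤) le_sup_left le_rfl x,
       LocCohZ.resZ F 0 (le_top : U ⊔ U' ≤ ⊤) (le_top : U' ≤ ⊤) le_sup_right le_rfl x)) ∧
    ∃ δ : ∀ i : ℕ, LocCohZ.HZc F i (U ⊓ U') →+ LocCohZ.HZc F (i + 1) (U ⊔ U'),
      ∀ i : ℕ,
        (∀ y : LocCohZ.HZc F i U × LocCohZ.HZc F i U',
          LocCohZ.resZ F i (le_top : U ≤ ⊤) (le_top : U ⊓ U' ≤ ⊤) inf_le_left le_rfl y.1 -
              LocCohZ.resZ F i (le_top : U' ≤ ⊤) (le_top : U ⊓ U' ≤ ⊤) inf_le_right le_rfl y.2 = 0 ↔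
            ∃ x : LocCohZ.HZc F i (U ⊔ U'),
              LocCohZ.resZ F i (le_top : U ⊔ U' ≤ ⊤) (le_top : U ≤ ⊤) le_sup_left le_rfl x = y.1 ∧
              LocCohZ.resZ F i (le_top : U ⊔ U' ≤ ⊤) (le_top : U' ≤ ⊤) le_sup_right le_rfl x = y.2) ∧
        (∀ w : LocCohZ.HZc F i (U ⊓ U'),
          δ i w = 0 ↔ ∃ y : LocCohZ.HZc F i U × LocCohZ.HZc F i U',
            LocCohZ.resZ F i (le_top : U ≤ ⊤) (le_top : U ⊓ U' ≤ ⊤) inf_le_left le_rfl y.1 -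
              LocCohZ.resZ F i (le_top : U' ≤ ⊤) (le_top : U ⊓ U' ≤ ⊤) inf_le_right le_rfl y.2 = w) ∧
        (∀ x : LocCohZ.HZc F (i + 1) (U ⊔ U'),
          (LocCohZ.resZ F (i + 1) (le_top : U ⊔ U' ≤ ⊤) (le_top : U ≤ ⊤) le_sup_left le_rfl x = 0 ∧
            LocCohZ.resZ F (i + 1) (le_top : U ⊔ U' ≤ ⊤) (le_top : U' ≤ ⊤) le_sup_right le_rfl x = 0) ↔
            ∃ w : LocCohZ.HZc F i (U ⊓ U'), δ i w = x) := by
  let J := Opens.grothendieckTopology X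
  let q₁₂ : LocCohZ.zq (le_top : U ⊓ U' ≤ ⊤) ⟶ LocCohZ.zq (le_top : U ≤ ⊤) := LocCohZ.zqMap le_top le_top inf_le_left le_rfl
  let q₁₃ : LocCohZ.zq (le_top : U ⊓ U' ≤ ⊤) ⟶ LocCohZ.zq (le_top : U' ≤ ⊤) := LocCohZ.zqMap le_top le_top inf_le_right le_rfl
  let q₂₄ : LocCohZ.zq (le_top : U ≤ ⊤) ⟶ LocCohZ.zq (le_top : U ⊔ U' ≤ ⊤) := LocCohZ.zqMap le_top le_top le_sup_left le_rfl
  let q₃₄ : LocCohZ.zq (le_top : U' ≤ ⊤) ⟶ LocCohZ.zq (le_top : U ⊔ U' ≤ ⊤) := LocCohZ.zqMap le_top le_top le_sup_right le_rfl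
  have hk : ∀ {W W' : Opens X} (h : W ≤ W'),
      cokernel.π (CohCx.freeSheafMap J (homOfLE (le_top : W ≤ ⊤))) ≫
        LocCohZ.zqMap (le_top : W' ≤ ⊤) (le_top : W ≤ ⊤) h le_rfl =
      cokernel.π (CohCx.freeSheafMap J (homOfLE (le_top : W' ≤ ⊤))) := by
    intro W W' h
    refine (cokernel.π_desc _ _ _).trans ?_
    have : homOfLE (le_refl (⊤ : Opens X)) = 𝟙 _ := Subsingleton.elim _ _
    simp only [this]
    erw [CohFree.freeSheafMap_id, Category.id_comp]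
  have hq : q₁₂ ≫ q₂₄ = q₁₃ ≫ q₃₄ := by
    rw [← cancel_epi (cokernel.π (CohCx.freeSheafMap J (homOfLE (le_top : U ⊓ U' ≤ ⊤))))]
    simp only [q₁₂, q₁₃, q₂₄, q₃₄, ← Category.assoc]
    rw [hk, hk, hk, hk]
  have zQ : biprod.lift q₁₂ (-q₁₃) ≫ biprod.desc q₂₄ q₃₄ = 0 := by
    rw [biprod.lift_desc, hq, Preadditive.neg_comp, add_neg_cancel]
  have hS : (ShortComplex.mk _ _ zQ).ShortExact :=
    shortExact_quot
      (CohCx.freeSheafMap J (homOfLE inf_le_left)) (CohCx.freeSheafMap J (homOfLE inf_le_right))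
      (CohCx.freeSheafMap J (homOfLE le_sup_left)) (CohCx.freeSheafMap J (homOfLE le_sup_right))
      (CohCx.freeSheafMap J (homOfLE (le_top : U ⊓ U' ≤ ⊤))) (CohCx.freeSheafMap J (homOfLE (le_top : U ≤ ⊤)))
      (CohCx.freeSheafMap J (homOfLE (le_top : U' ≤ ⊤))) (CohCx.freeSheafMap J (homOfLE (le_top : U ⊔ U' ≤ ⊤)))
      _ _ _ _ q₁₂ q₁₃ q₂₄ q₃₄
      (Opens.mayerVietorisSquare U U').shortComplex.zero
      (Opens.mayerVietorisSquare U U').shortComplex_shortExact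
      (CohFree.freeSheafMap_comp _ _ _).symm (CohFree.freeSheafMap_comp _ _ _).symm
      (CohFree.freeSheafMap_comp _ _ _).symm
      (cokernel.condition _) (cokernel.condition _) (cokernel.condition _) (cokernel.condition _)
      (LocCohZ.zqSeq_shortExact _).exact (LocCohZ.zqSeq_shortExact _).exact
      (cokernelIsCokernel _) (hk _) (hk _) (hk _) (hk _) zQ
  refine ⟨fun x y hxy => ?_, fun i => hS.extClass.precomp F (add_comm 1 i), fun i => ⟨fun y => ?_, fun w => ?_, fun x => ?_⟩⟩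
  · simp only [Prod.mk.injEq] at hxy
    have : Epi (biprod.desc q₂₄ q₃₄) := hS.epi_g
    refine Abelian.Ext.precomp_mk₀_injective_of_epi F (biprod.desc q₂₄ q₃₄) ?_
    apply Abelian.Ext.biprod_ext
    · simpa [LocCohZ.resZ, q₂₄] using hxy.1
    · simpa [LocCohZ.resZ, q₃₄] using hxy.2
  · constructor
    · intro h
      obtain ⟨x, hx⟩ := Abelian.Ext.contravariant_sequence_exact₂ hS F
        ((Abelian.Ext.mk₀ (biprod.fst : LocCohZ.zq (le_top : U ≤ ⊤) ⊞ LocCohZ.zq (le_top : U' ≤ ⊤) ⟶ _)).comp y.1 (zero_add i) +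
          (Abelian.Ext.mk₀ (biprod.snd : LocCohZ.zq (le_top : U ≤ ⊤) ⊞ LocCohZ.zq (le_top : U' ≤ ⊤) ⟶ _)).comp y.2 (zero_add i))
          (by simpa [q₁₂, q₁₃, sub_eq_add_neg, Abelian.Ext.mk₀_neg] using h)
      refine ⟨x, ?_, ?_⟩
      · simpa [q₂₄] using congrArg (fun z => (Abelian.Ext.mk₀ biprod.inl).comp z (zero_add i)) hx
      · simpa [q₃₄] using congrArg (fun z => (Abelian.Ext.mk₀ biprod.inr).comp z (zero_add i)) hx
    · rintro ⟨x, h1, h2⟩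
      rw [← h1, ← h2]
      change (Abelian.Ext.mk₀ q₁₂).comp ((Abelian.Ext.mk₀ q₂₄).comp x (zero_add i)) (zero_add i) -
        (Abelian.Ext.mk₀ q₁₃).comp ((Abelian.Ext.mk₀ q₃₄).comp x (zero_add i)) (zero_add i) = 0
      rw [Abelian.Ext.mk₀_comp_mk₀_assoc, Abelian.Ext.mk₀_comp_mk₀_assoc, hq, sub_self]
  · constructor
    · intro h
      obtain ⟨z, hz⟩ := Abelian.Ext.contravariant_sequence_exact₁ hS F w (add_comm 1 i) h
      refine ⟨⟨(Abelian.Ext.mk₀ biprod.inl).comp z (zero_add i), (Abelian.Ext.mk₀ biprod.inr).comp z (zero_add i)⟩, ?_⟩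
      rw [← hz]
      simp [q₁₂, q₁₃, biprod.lift_eq, Abelian.Ext.mk₀_add, Abelian.Ext.mk₀_neg, sub_eq_add_neg]
    · rintro ⟨y, rfl⟩
      have h0 := hS.extClass_comp
      have e : LocCohZ.resZ F i (le_top : U ≤ ⊤) (le_top : U ⊓ U' ≤ ⊤) inf_le_left le_rfl y.1 -
          LocCohZ.resZ F i (le_top : U' ≤ ⊤) (le_top : U ⊓ U' ≤ ⊤) inf_le_right le_rfl y.2 =
          (Abelian.Ext.mk₀ (biprod.lift q₁₂ (-q₁₃))).comp
            ((Abelian.Ext.mk₀ biprod.fst).comp y.1 (zero_add i) +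
              (Abelian.Ext.mk₀ biprod.snd).comp y.2 (zero_add i)) (zero_add i) := by
        simp [q₁₂, q₁₃, sub_eq_add_neg, Abelian.Ext.mk₀_neg]
      rw [e]
      exact hS.extClass_comp_assoc _ (h := add_comm 1 i)
  · constructor
    · rintro ⟨h1, h2⟩
      refine Abelian.Ext.contravariant_sequence_exact₃ hS F x ?_ (add_comm 1 i)
      apply Abelian.Ext.biprod_ext
      · simpa [q₂₄] using h1
      · simpa [q₃₄] using h2
    · rintro ⟨w, rfl⟩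
      have h0 : (Abelian.Ext.mk₀ (biprod.desc q₂₄ q₃₄)).comp
          (hS.extClass.comp w (add_comm 1 i)) (zero_add (i + 1)) = 0 :=
        hS.comp_extClass_assoc _ _
      constructor
      · simpa [q₂₄] using congrArg (fun z => (Abelian.Ext.mk₀ biprod.inl).comp z (zero_add (i + 1))) h0
      · simpa [q₃₄] using congrArg (fun z => (Abelian.Ext.mk₀ biprod.inr).comp z (zero_add (i + 1))) h0

end Groth.Agent.S16287
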