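import Groth.Statements.S16290
import Groth.Agent.NodeCplFam.Scheme
import Groth.Agent.S16231

set_option autoImplicit false
universe u
open CategoryTheory CategoryTheory.Limits AlgebraicGeometry
open Curves

namespace Groth.Agent.S16290

section Aux

open IsLocalRing

noncomputable abbrev qform {R : Type u} [CommRing R] (a b c : R) : MvPowerSeries (Fin 2) R :=
  MvPowerSeries.C a * MvPowerSeries.X 0 ^ 2 + MvPowerSeries.C b * MvPowerSeries.X 0 * MvPowerSeries.X 1 +
    MvPowerSeries.C c * MvPowerSeries.X 1 ^ 2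

theorem quadPoly_coe {R : Type u} [CommRing R] (q : Fin 2 → Fin 2 → R) :
    ((VanCyc.quadPoly q : MvPolynomial (Fin 2) R) : MvPowerSeries (Fin 2) R) = qform (q 0 0) (q 0 1) (q 1 1) := by
  simp only [VanCyc.quadPoly, Fin.sum_univ_two, Fin.isValue, le_refl, if_true, Fin.zero_le,
    show ¬ ((1 : Fin 2) ≤ 0) by decide, if_false, add_zero, zero_add, MvPolynomial.coe_add,
    MvPolynomial.coe_mul, MvPolynomial.coe_C, MvPolynomial.coe_X, qform]
  ring

theorem qform_eq {R : Type u} [CommRing R] (a b c : R) : qform a b c =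
    MvPowerSeries.monomial (Finsupp.single 0 1 + Finsupp.single 0 1) a +
      MvPowerSeries.monomial (Finsupp.single 0 1 + Finsupp.single 1 1) b +
        MvPowerSeries.monomial (Finsupp.single 1 1 + Finsupp.single 1 1) c := by
  simp only [qform, pow_two, MvPowerSeries.X_def, mul_assoc, MvPowerSeries.monomial_mul_monomial, mul_one,
    ← MvPowerSeries.smul_eq_C_mul, ← map_smul, smul_eq_mul]

theorem coeff_qform_deg2 {R : Type u} [CommRing R] (q : Fin 2 → Fin 2 → R) {i j : Fin 2} (h : i ≤ j) :
    MvPowerSeries.coeff (Finsupp.single i 1 + Finsupp.single j 1) (qform (q 0 0) (q 0 1) (q 1 1)) = q i j := by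
  classical
  rw [qform_eq, map_add, map_add, MvPowerSeries.coeff_monomial, MvPowerSeries.coeff_monomial,
    MvPowerSeries.coeff_monomial]
  fin_cases i <;> fin_cases j <;> simp_all [Finsupp.ext_iff, Fin.forall_fin_two]

theorem coeff_qform_low {R : Type u} [CommRing R] (a b c : R) {e : Fin 2 →₀ ℕ} (he : e.degree ≤ 1) :
    MvPowerSeries.coeff e (qform a b c) = 0 := by
  classical
  rw [qform_eq, map_add, map_add, MvPowerSeries.coeff_monomial, MvPowerSeries.coeff_monomial,
    MvPowerSeries.coeff_monomial, if_neg, if_neg, if_neg, add_zero, add_zero] <;>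
  · rintro rfl
    simp at he

theorem det_polar {R : Type u} [CommRing R] (q : Fin 2 → Fin 2 → R) :
    (VanCyc.polarMatrix q : Matrix (Fin 2) (Fin 2) R).det = 4 * q 0 0 * q 1 1 - q 0 1 ^ 2 := by
  rw [Matrix.det_fin_two]
  simp [VanCyc.polarMatrix]
  ring

theorem core {A B : Type u} [CommRing A] [IsLocalRing A] [IsNoetherianRing A] [CommRing B] [IsLocalRing B]
    [IsNoetherianRing B] [Algebra A B] [IsLocalHom (algebraMap A B)] [Module.Flat A B]
    (a b c : ResidueField A) (hd : b ^ 2 - 4 * a * c ≠ 0)
    (χ : AdicCompletion (maximalIdeal B) B →+* MvPowerSeries (Fin 2) (ResidueField A) ⧸ Ideal.span {qform a b c})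
    (hχ : Function.Surjective χ)
    (hχk : RingHom.ker χ = (maximalIdeal A).map (algebraMap A (AdicCompletion (maximalIdeal B) B)))
    (hχA : ∀ r, χ (algebraMap A (AdicCompletion (maximalIdeal B) B) r) =
      Ideal.Quotient.mk _ (MvPowerSeries.C (residue A r))) :
    ∃ a b c : AdicCompletion (maximalIdeal A) A, IsUnit (b ^ 2 - 4 * a * c) ∧
      ∃ h ∈ maximalIdeal (AdicCompletion (maximalIdeal A) A),
        ∃ e : AdicCompletion (maximalIdeal B) B ≃+*
            (MvPowerSeries (Fin 2) (AdicCompletion (maximalIdeal A) A) ⧸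
              Ideal.span {qform a b c - MvPowerSeries.C h}),
          ∀ r : A, e (algebraMap A (AdicCompletion (maximalIdeal B) B) r) =
            Ideal.Quotient.mk _ (MvPowerSeries.C (algebraMap A (AdicCompletion (maximalIdeal A) A) r)) := by
  classical
  have hq0 : MvPowerSeries.constantCoeff (qform a b c) = 0 := by simp [qform]
  obtain ⟨ψ, hψ, hψC, hψX⟩ := NodeCplFam.exists_psi hq0 χ hχ hχk hχA
  obtain ⟨F, hF, hFq⟩ := NodeCplFam.exists_relation hq0 χ hχk hχA ψ hψC hψX hψ
  have hker := NodeCplFam.ker_eq hq0 χ hχk hχA ψ hψC hψX hψ hF hFq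
  haveI : IsNoetherianRing (AdicCompletion (maximalIdeal A) A) :=
    RegLoc.Completion.isNoetherianRing_adicCompletion' _
  set ev := NodeCompl.cplResidue A with hev
  have hmax : ∀ z, z ∈ maximalIdeal (AdicCompletion (maximalIdeal A) A) ↔ ev z = 0 := fun z => by
    rw [← RingHom.mem_ker, NodeCompl.ker_cplResidue, AdicCompletion.maximalIdeal_eq_map (R := A)]
  have hcoef : ∀ d, ev (MvPowerSeries.coeff d F) = MvPowerSeries.coeff d (qform a b c) := fun d => by
    rw [← MvPowerSeries.coeff_map, hFq]
  let δ : Fin 2 → Fin 2 →₀ ℕ := fun i => Finsupp.single i 1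
  let Q : Fin 2 → Fin 2 → AdicCompletion (maximalIdeal A) A := fun i j => MvPowerSeries.coeff (δ i + δ j) F
  let q₀ : Fin 2 → Fin 2 → ResidueField A := ![![a, b], ![0, c]]
  have hqc : qform a b c = ((VanCyc.quadPoly q₀ : MvPolynomial (Fin 2) (ResidueField A)) : MvPowerSeries (Fin 2) _) := by
    rw [quadPoly_coe]; simp [q₀]
  have hQ : ∀ i j, i ≤ j → ev (Q i j) = q₀ i j := fun i j h => by
    rw [hcoef, hqc, quadPoly_coe, coeff_qform_deg2 q₀ h]
  have hnd : VanCyc.QuadNondeg Q := by
    show IsUnit _
    rw [det_polar, ← notMem_maximalIdeal, hmax]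
    simp only [map_sub, map_mul, map_pow, map_ofNat, hQ 0 0 le_rfl, hQ 0 1 (Fin.zero_le _), hQ 1 1 le_rfl]
    simp only [q₀, Matrix.cons_val_zero, Matrix.cons_val_one]
    intro h0
    exact hd (by linear_combination -h0)
  have hcc : MvPowerSeries.constantCoeff F ∈ maximalIdeal (AdicCompletion (maximalIdeal A) A) := by
    rw [hmax, ← MvPowerSeries.constantCoeff_map, hFq, hq0]
  have hlin : ∀ i, MvPowerSeries.coeff (δ i) F ∈ maximalIdeal (AdicCompletion (maximalIdeal A) A) := fun i => by
    rw [hmax, hcoef, coeff_qform_low _ _ _ (by simp [δ])]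
  obtain ⟨a', q', ha', hq', ⟨e⟩⟩ := S16231.result (AdicCompletion (maximalIdeal A) A) 2 Q hnd
    (MvPowerSeries.constantCoeff F) hcc (fun i => MvPowerSeries.coeff (δ i) F) hlin F fun d hd2 => by
      rw [MvPolynomial.coe_add, MvPolynomial.coe_add, quadPoly_coe, map_add, map_add]
      have hne : ∀ i, δ i ≠ 0 := fun i => Finsupp.single_ne_zero.2 one_ne_zero
      have hl : ∀ e : Fin 2 →₀ ℕ, MvPowerSeries.coeff e
          (((∑ i, MvPolynomial.C (MvPowerSeries.coeff (δ i) F) * MvPolynomial.X i : MvPolynomial (Fin 2) _)) :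
            MvPowerSeries (Fin 2) (AdicCompletion (maximalIdeal A) A)) =
          ∑ i, if e = δ i then MvPowerSeries.coeff (δ i) F else 0 := fun e => by
        rw [MvPolynomial.coeff_coe, MvPolynomial.coeff_sum]
        refine Finset.sum_congr rfl fun i _ => ?_
        rw [MvPolynomial.coeff_C_mul, MvPolynomial.coeff_X']
        simp [δ, eq_comm]
      rw [hl, MvPolynomial.coeff_coe, MvPolynomial.coeff_C]
      by_cases h0 : d = 0
      · subst h0
        rw [coeff_qform_low _ _ _ (by simp)]
        simp [(hne _).symm, MvPowerSeries.coeff_zero_eq_constantCoeff_apply]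
      rw [if_neg (Ne.symm h0), add_zero]
      obtain ⟨i, z, rfl⟩ : ∃ i z, d = δ i + z := by
        obtain ⟨i, hi⟩ : ∃ i, d i ≠ 0 := by
          by_contra h
          push_neg at h
          exact h0 (Finsupp.ext h)
        exact ⟨i, d - δ i, (add_tsub_cancel_of_le
          (by simpa [δ, Finsupp.single_le_iff] using Nat.one_le_iff_ne_zero.2 hi)).symm⟩
      by_cases hz : z = 0
      · subst hz
        rw [add_zero, coeff_qform_low _ _ _ (by simp [δ])]
        fin_cases i <;> simp [δ, Finsupp.single_left_inj]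
      obtain ⟨j, rfl⟩ : ∃ j, z = δ j := by
        obtain ⟨j, hj⟩ : ∃ j, z j ≠ 0 := by
          by_contra h
          push_neg at h
          exact hz (Finsupp.ext h)
        have hle : δ j ≤ z := by simpa [δ, Finsupp.single_le_iff] using Nat.one_le_iff_ne_zero.2 hj
        refine ⟨j, ?_⟩
        have hsub : z - δ j = 0 := by
          rw [← Finsupp.degree_eq_zero_iff]
          have h2 := congrArg Finsupp.degree (tsub_add_cancel_of_le hle)
          simp only [map_add, δ, Finsupp.degree_single] at h2 hd2 ⊢
          omega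
        conv_lhs => rw [← tsub_add_cancel_of_le hle, hsub, zero_add]
      have hne2 : ∀ k, δ i + δ j ≠ δ k := fun k h => by
        have := congrArg Finsupp.degree h
        simp [δ] at this
      simp only [hne2, if_false, Finset.sum_const_zero, add_zero]
      rcases le_total i j with h | h
      · exact (coeff_qform_deg2 Q h).symm
      · rw [add_comm (δ i)]
        exact (coeff_qform_deg2 Q h).symm
  refine ⟨q' 0 0, q' 0 1, q' 1 1, ?_, -a', neg_mem ha', ?_⟩
  · have h1 : q' 0 1 ^ 2 - 4 * q' 0 0 * q' 1 1 = -(VanCyc.polarMatrix q' : Matrix _ _ _).det := by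
      rw [det_polar]; ring
    rw [h1]
    exact IsUnit.neg hq'
  have hG : ((VanCyc.quadPoly q' + MvPolynomial.C a' : MvPolynomial (Fin 2) (AdicCompletion (maximalIdeal A) A)) :
      MvPowerSeries (Fin 2) (AdicCompletion (maximalIdeal A) A)) =
      qform (q' 0 0) (q' 0 1) (q' 1 1) - MvPowerSeries.C (-a') := by
    rw [MvPolynomial.coe_add, quadPoly_coe, MvPolynomial.coe_C, map_neg, sub_neg_eq_add]
  let e₁ : (MvPowerSeries (Fin 2) (AdicCompletion (maximalIdeal A) A) ⧸ Ideal.span {F}) ≃+*
      AdicCompletion (maximalIdeal B) B :=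
    (Ideal.quotEquivOfEq hker.symm).trans (RingHom.quotientKerEquivOfSurjective hψ)
  refine ⟨(e₁.symm.trans e.toRingEquiv).trans (Ideal.quotEquivOfEq (by rw [hG])), fun r => ?_⟩
  have h1 : e₁.symm (algebraMap A (AdicCompletion (maximalIdeal B) B) r) =
      Ideal.Quotient.mk _ (MvPowerSeries.C (algebraMap A (AdicCompletion (maximalIdeal A) A) r)) := by
    rw [RingEquiv.symm_apply_eq]
    exact (hψC r).symm
  rw [RingEquiv.trans_apply, RingEquiv.trans_apply, h1]
  show Ideal.quotEquivOfEq _ (e (Ideal.Quotient.mk _ (MvPowerSeries.C _))) = _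
  have h2 := e.commutes (algebraMap A (AdicCompletion (maximalIdeal A) A) r)
  simp only [← Ideal.Quotient.mk_algebraMap, ← MvPowerSeries.c_eq_algebraMap] at h2
  rw [h2]
  rfl

end Aux

/-- Let f : T → S be a morphism of schemes, locally of finite type, t ∈ T a point with image s such that
f is flat at t and O_{S,s} is Noetherian. Suppose t is a node of the fibre T_s with residue field
κ(s), taken in the form: t is a closed point of T_s and the completion of O_{T_s,t} is isomorphic,
compatibly with κ(s), to κ(s)[[u,v]]/(q) for a binary quadratic form q = a u^2 + b uv + c v^2 over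
κ(s) with b^2 - 4ac ≠ 0 (q need not split). Then there are a binary quadratic form Q = a u^2 + b uv
+ c v^2 over the completion Â of O_{S,s} whose discriminant b^2 - 4ac is a unit of Â, an element h
of the maximal ideal of Â, and an isomorphism of the completion of O_{T,t} with Â[[u,v]]/(Q - h)
compatible with the maps from O_{S,s}. (The published statement assumes f is a nodal relative curve,
i.e. flat, of finite presentation and of relative dimension one with nodal geometric fibres, over a
Noetherian base; here only f locally of finite type and flat at t with O_{S,s} Noetherian is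
assumed, and the node is taken in completed form, which is what the argument uses.) -/
theorem result {T S : Scheme.{u}} (f : T ⟶ S) [LocallyOfFiniteType f] (t : T)
    [IsNoetherianRing (S.presheaf.stalk (f t))] (hfl : (f.stalkMap t).hom.Flat)
    (ht : letI : (f.fiber (f t)).Over (Spec (CommRingCat.of (S.residueField (f t)))) := ⟨f.fiberToSpecResidueField (f t)⟩
      letI := Curv2.stalkAlgebra (S.residueField (f t)) (f.fiber (f t)) (f.asFiber t)
      IsClosed ({f.asFiber t} : Set (f.fiber (f t))) ∧
        ∃ a b c : S.residueField (f t), b ^ 2 - 4 * a * c ≠ 0 ∧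
          ∃ e : Curv2.cpl ((f.fiber (f t)).presheaf.stalk (f.asFiber t)) ≃+*
              (MvPowerSeries (Fin 2) (S.residueField (f t)) ⧸ Ideal.span
                {(MvPowerSeries.C a * MvPowerSeries.X 0 ^ 2 + MvPowerSeries.C b * MvPowerSeries.X 0 * MvPowerSeries.X 1 +
                  MvPowerSeries.C c * MvPowerSeries.X 1 ^ 2 : MvPowerSeries (Fin 2) (S.residueField (f t)))}),
            ∀ r : S.residueField (f t),
              e (algebraMap ((f.fiber (f t)).presheaf.stalk (f.asFiber t)) _
                  (algebraMap (S.residueField (f t)) ((f.fiber (f t)).presheaf.stalk (f.asFiber t)) r)) =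
                Ideal.Quotient.mk _ (MvPowerSeries.C r)) :
    ∃ a b c : Curv2.cpl (S.presheaf.stalk (f t)), IsUnit (b ^ 2 - 4 * a * c) ∧
      ∃ h ∈ IsLocalRing.maximalIdeal (Curv2.cpl (S.presheaf.stalk (f t))),
        ∃ e : Curv2.cpl (T.presheaf.stalk t) ≃+*
            (MvPowerSeries (Fin 2) (Curv2.cpl (S.presheaf.stalk (f t))) ⧸ Ideal.span
              {(MvPowerSeries.C a * MvPowerSeries.X 0 ^ 2 + MvPowerSeries.C b * MvPowerSeries.X 0 * MvPowerSeries.X 1 +
                MvPowerSeries.C c * MvPowerSeries.X 1 ^ 2 - MvPowerSeries.C h : MvPowerSeries (Fin 2) (Curv2.cpl (S.presheaf.stalk (f t))))}),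
          ∀ r : S.presheaf.stalk (f t),
            e (algebraMap (T.presheaf.stalk t) (Curv2.cpl (T.presheaf.stalk t)) ((f.stalkMap t).hom r)) =
              Ideal.Quotient.mk _ (MvPowerSeries.C (algebraMap (S.presheaf.stalk (f t)) (Curv2.cpl (S.presheaf.stalk (f t))) r)) := by
  letI := (f.stalkMap t).hom.toAlgebra
  haveI := NodeCplFam.isNoetherianRing_stalk f t
  haveI : Module.Flat (S.presheaf.stalk (f t)) (T.presheaf.stalk t) := hfl
  haveI : IsLocalHom (algebraMap (S.presheaf.stalk (f t)) (T.presheaf.stalk t)) :=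
    inferInstanceAs <| IsLocalHom (f.stalkMap t).hom
  obtain ⟨-, a, b, c, hd, he⟩ := ht
  obtain ⟨χ, h1, h2, h3⟩ := NodeCplFam.exists_data f t he
  obtain ⟨a', b', c', hu, h, hh, e, he'⟩ := core a b c hd χ h1 h2 h3
  exact ⟨a', b', c', hu, h, hh, e, fun r => he' r⟩

end Groth.Agent.S16290
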