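import Groth.Statements.S16296
import Groth.Agent.CBC.H1Zero.Ample

set_option autoImplicit false
universe u
open CategoryTheory CategoryTheory.Limits AlgebraicGeometry
open Curves

namespace Groth.Agent.S16296

/-- Let k be a field and X a proper scheme over k of dimension one (not assumed reduced or irreducible)
with H^1(X, O_X) = 0, and L a nef invertible O_X-module (nonnegative degree over k on every integral
one-dimensional closed subscheme of X). Then dim_k H^0(X, L) = dim_k H^0(X, O_X) + deg_k L, where
deg_k L = χ(X, L) - χ(X, O_X). -/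
theorem result (k : Type u) [Field k] (X : Scheme.{u}) [X.Over (Spec (CommRingCat.of k))]
    [IsProper (X ↘ (Spec (CommRingCat.of k)))] (hdim : topologicalKrullDim X = 1)
    (h1 : Subsingleton (Coh.HH X (Coh.structureModule X) 1))
    (L : X.Modules) (hL : PicF.IsInvertible L)
    (hnef : ∀ J : X.IdealSheafData, IsIntegral J.subscheme → topologicalKrullDim J.subscheme = 1 →
      0 ≤ @Curv2.deg k _ J.subscheme ⟨J.subschemeι ≫ (X ↘ (Spec (CommRingCat.of k)))⟩
        ((Scheme.Modules.pullback J.subschemeι).obj L) 1) :
    (Module.finrank k (Coh.HH X L 0) : ℤ) =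
      Module.finrank k (Coh.HH X (Coh.structureModule X) 0) + Curv2.deg k X L 1 := by
  haveI := (CBC.H1Zero.field_main k hdim h1 hL hnef).1
  haveI := h1
  have hv : ∀ (M : X.Modules) p, 2 ≤ p → Subsingleton (Coh.HH X M p) := fun M p hp =>
    EulerChar.subsingleton_HH_two_le k hdim M (by omega)
  rw [Curv2.deg, EulerChar.euler_eq_sum k (hv L), EulerChar.euler_eq_sum k (hv (Coh.structureModule X))]
  simp [Finset.sum_range_succ, Module.finrank_zero_of_subsingleton]

end Groth.Agent.S16296
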