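import Groth.Statements.S16297
import Groth.Agent.CBC.H1Zero.Ample
import Groth.Agent.CBC.ProjPic

set_option autoImplicit false
universe u
open CategoryTheory CategoryTheory.Limits AlgebraicGeometry
open Curves

namespace Groth.Agent.S16297

/-- Let k be a field and X a proper scheme over k of dimension one (not assumed reduced or irreducible)
with H^1(X, O_X) = 0, and let L be an ample invertible O_X-module. Then L is very ample: for some n
there is a closed immersion i : X → P^n_k over k with i^*O(1) isomorphic to L (existence of an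
isomorphism only). -/
theorem result (k : Type u) [Field k] (X : Scheme.{u}) [X.Over (Spec (CommRingCat.of k))]
    [IsProper (X ↘ (Spec (CommRingCat.of k)))] (hdim : topologicalKrullDim X = 1)
    (h1 : Subsingleton (Coh.HH X (Coh.structureModule X) 1))
    (L : X.Modules) (hA : CohB1.IsAmple L) :
    ∃ (n : ℕ) (i : X ⟶ CohB1.ProjSpace n k), IsClosedImmersion i ∧
      i ≫ CohB1.ProjSpace.toSpec n k = X ↘ (Spec (CommRingCat.of k)) ∧
      Nonempty ((Scheme.Modules.pullback i).obj (Twist.twistProjSpace n k 1) ≅ L) := by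
  have hgg := (CBC.H1Zero.field_main k hdim h1 hA.1 (CBC.H1Zero.nef_field_of_isAmple k hA)).2
  haveI := EulerChar.isNoetherian k (X := X)
  have hgen := CBC.H1Zero.gen (fun M _ q hq => EulerChar.subsingleton_HH_two_le k hdim M (by omega))
    h1 hA.1 hgg
  obtain ⟨n, j, hj, hjt, ⟨e⟩⟩ := CBC.NormGen.isRelVeryAmplePn (X ↘ Spec (CommRingCat.of k)) hA hgen
  let K : CommRingCat.{u} := CommRingCat.of k
  let ρ := CBC.ProjPic.chartAt n (𝟙 (Spec K))
  haveI : IsIso ρ := (CBC.ProjPic.isPullback_chartAt n (𝟙 (Spec K))).isIso_fst_of_isIso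
  haveI := hj
  haveI := ProjProper.Basic.isProper_toSpec n (ULift.{u} ℤ)
  haveI hp : IsProper (pullback.snd (CohB1.ProjSpace.toSpec n (ULift.{u} ℤ)) (specULiftZIsTerminal.from (Spec K))) :=
    MorphismProperty.pullback_snd (P := @IsProper) _ _ inferInstance
  haveI : IsProper j := by
    haveI : IsProper (j ≫ pullback.snd (CohB1.ProjSpace.toSpec n (ULift.{u} ℤ))
        (specULiftZIsTerminal.from (Spec K))) := by rw [hjt]; infer_instance
    exact @IsProper.of_comp _ _ _ j _ inferInstance hp.toIsSeparated
  haveI : IsClosedImmersion j := IsClosedImmersion.of_isPreimmersion j j.isClosedMap.isClosed_range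
  refine ⟨n, j ≫ inv ρ, inferInstance, ?_, ⟨?_⟩⟩
  · have hw := ((CBC.ProjPic.isPullback_chartAt n (𝟙 (Spec K))).w.trans (Category.comp_id _))
    rw [← hjt, Category.assoc]
    congr 1
    rw [IsIso.inv_comp_eq]
    exact hw.symm
  · exact ((Scheme.Modules.pullbackComp j (inv ρ)).app _).symm ≪≫
      (Scheme.Modules.pullback j).mapIso
        ((Scheme.Modules.pullback (inv ρ)).mapIso (CBC.ProjPic.pullback_twistOver n (𝟙 (Spec K)) 1).some.symm ≪≫
          (Scheme.Modules.pullbackComp (inv ρ) ρ).app _ ≪≫
          (Scheme.Modules.pullbackCongr (IsIso.inv_hom_id ρ)).app _ ≪≫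
          (Scheme.Modules.pullbackId _).app _) ≪≫ e.symm

end Groth.Agent.S16297
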