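import Groth.Statements.S4717
import Groth.Agent.Dim.Topology
import Groth.Agent.S7552
import Mathlib.AlgebraicGeometry.Morphisms.QuasiFinite
import Mathlib.AlgebraicGeometry.Morphisms.Finite

set_option autoImplicit false
set_option linter.style.haveILetI false
universe u
open EGA4

namespace Groth.Agent.S4717

open AlgebraicGeometry CategoryTheory in
/-- Let f : X → Y be a finite morphism of locally Noetherian schemes. Then dim X equals the dimension of
the image f(X); in particular if f is surjective then dim X = dim Y. -/
theorem result {X Y : Scheme.{u}} (f : X ⟶ Y) [IsLocallyNoetherian X] [IsLocallyNoetherian Y]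
    [IsFinite f] :
    topologicalKrullDim X = topologicalKrullDim (Set.range f.base) ∧
      (Function.Surjective f.base → topologicalKrullDim X = topologicalKrullDim Y) := by
  have hle : topologicalKrullDim X ≤ topologicalKrullDim (Set.range f.base) :=
    Groth.Agent.Dim.topologicalKrullDim_le_subspace f.base f.base.hom.continuous _
      (fun x => ⟨x, rfl⟩) fun x x' h he =>
        Groth.Agent.Dim.eq_of_specializes_of_isDiscrete (f.isDiscrete_preimage_singleton (f.base x')) he rfl h
  have hcl : IsClosedMap f.base := f.isClosedMap
  haveI : QuasiSober (Set.range f.base) := hcl.isClosed_range.isClosedEmbedding_subtypeVal.quasiSober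
  have hg : IsClosedMap (Set.rangeFactorization f.base) := by
    intro C hC
    rw [Topology.IsInducing.subtypeVal.isClosed_iff]
    refine ⟨f.base '' C, hcl C hC, ?_⟩
    ext ⟨z, hz⟩
    simp [Set.rangeFactorization, Subtype.ext_iff]
  have hge : topologicalKrullDim (Set.range f.base) ≤ topologicalKrullDim X :=
    Groth.Agent.S7552.result (Set.rangeFactorization f.base)
      (f.base.hom.continuous.codRestrict _) Set.rangeFactorization_surjective (Or.inl hg.specializingMap)
  refine ⟨le_antisymm hle hge, fun hs => ?_⟩
  rw [le_antisymm hle hge]
  exact le_antisymm (topologicalKrullDim_subspace_le _ _)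
    ((IsHomeomorph.topologicalKrullDim_eq _ (Homeomorph.Set.univ Y).isHomeomorph).ge.trans (by rw [hs.range_eq]))

end Groth.Agent.S4717
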