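import Groth.Statements.S16298
import Groth.Agent.TFCurvLib.StabPush
import Groth.Agent.FormalFun.StalkBase
import Groth.Agent.FormalFun.HomLift
import Groth.Agent.CycLib.DevDegVan
import Groth.Agent.CurveCoh.Euler
import Groth.Agent.CycLib.DevK0Class
import Groth.Agent.Props.AffineCritFT
import Groth.Agent.S1585

set_option autoImplicit false
universe u
open CategoryTheory CategoryTheory.Limits AlgebraicGeometry
open Curves

namespace Groth.Agent.S16298
open Groth.Agent.PullStalk.Sky Groth.Agent.PullStalk.Exact TopologicalSpace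

lemma subsingleton_of_exact {k A B C : Type u} [Field k] [AddCommGroup A] [AddCommGroup B] [AddCommGroup C]
    [Module k A] [Module k B] [Module k C] {f : A →ₗ[k] B} {g : B →ₗ[k] C} (h : Function.Exact f g)
    (hA : Subsingleton A) (hC : Subsingleton C) : Subsingleton B :=
  subsingleton_of_forall_eq 0 fun b => by
    obtain ⟨a, rfl⟩ := (h b).mp (Subsingleton.elim _ _)
    rw [Subsingleton.elim a 0, map_zero]

open Groth.Agent.CurveCoh in
/-- If `u : A ⟶ B` is generically surjective on a curve and `H¹(A) = 0` then `H¹(B) = 0`. -/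
lemma subsingleton_HH_one (k : Type u) [Field k] {X : Scheme.{u}} [X.Over (Spec (CommRingCat.of k))] [IsIntegral X]
    [IsProper (X ↘ Spec (CommRingCat.of k))] (hdim : topologicalKrullDim X = 1) {A B : X.Modules} (u : A ⟶ B)
    (hA : Coh.IsCoh A) (hB : Coh.IsCoh B) (h : Function.Surjective (stalkLin u (genericPoint X)))
    (h1 : Subsingleton (Coh.HH X A 1)) : Subsingleton (Coh.HH X B 1) := by
  haveI := Groth.Agent.EulerChar.isLocallyNoetherian k (X := X)
  haveI := Groth.Agent.EulerChar.isNoetherian k (X := X)
  haveI := hA.1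
  haveI := hB.1
  let ι := Abelian.image.ι u
  let π := Abelian.factorThruImage u
  have hS : (ShortComplex.mk ι (cokernel.π ι) (cokernel.condition ι)).ShortExact :=
    { exact := ShortComplex.exact_of_g_is_cokernel _ (cokernelIsCokernel ι) }
  have hT : (ShortComplex.mk (kernel.ι π) π (kernel.condition π)).ShortExact :=
    { exact := ShortComplex.exact_of_f_is_kernel _ (kernelIsKernel π) }
  have hI := Groth.Agent.CohDev.isCoh_image u hA hB.1
  have hC := Groth.Agent.CohDev.isCoh_cokernel ι hI.1 hB
  have hη : genericPoint X ∉ CohB1.support (cokernel ι) := fun hmem => hmem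
    (Groth.Agent.CycLib.Dev.subsingleton_stalk_cokernel ι (genericPoint X) fun t => by
      obtain ⟨a, rfl⟩ := h t
      exact ⟨stalkLin π _ a, by
        rw [← Groth.Agent.Omega.Stalks.stalkLin_comp]
        exact congrArg (fun φ : A ⟶ B => stalkLin φ (genericPoint X) a) (Abelian.image.fac u)⟩)
  have hI1 : Subsingleton (Coh.HH X (Abelian.image u) 1) :=
    subsingleton_of_exact (exact_mapL_deltaL k hT 1 2 rfl |> fun e => e) (by exact h1)
      (Groth.Agent.CycLib.Dev.subsingleton_HH_of_support_dim (kernel π) (S := Set.univ) isClosed_univ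
        (fun x hx => absurd (Set.mem_univ x) hx) (d := 1)
        (by rw [IsHomeomorph.topologicalKrullDim_eq _ (Homeomorph.Set.univ X).isHomeomorph, hdim]; rfl) 2 one_lt_two)
  exact subsingleton_of_exact (exact_mapL k hS 1) hI1
    (Groth.Agent.EulerChar.subsingleton_HH_of_support k hC (Groth.Agent.EulerChar.dim_support_le_zero k hdim hC hη) 0)

open Groth.Agent.TFCurvLib in
/-- The unit is surjective at points over which the morphism is an isomorphism. -/
lemma surjective_stalk_unit {X Y : Scheme.{u}} (ν : Y ⟶ X) [IsAffineHom ν] (M : X.Modules) [M.IsQuasicoherent]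
    (V : X.Opens) [IsIso (ν ∣_ V)] {x : X} (hx : x ∈ V) :
    Function.Surjective (stalkLin ((Scheme.Modules.pullbackPushforwardAdjunction ν).unit.app M) x) := fun t => by
  obtain ⟨W, hW, m, rfl⟩ := exists_germM_eq _ x t
  obtain ⟨U, hU, hxU, hUV⟩ := exists_isAffineOpen_mem_and_subset (show x ∈ W ⊓ V from ⟨hW, hx⟩)
  obtain ⟨m₀, hm₀⟩ := (bijective_eta ν M hU (bijective_app_of_le ν (U := V) (hUV.trans inf_le_right))).2
    (Groth.Agent.QCoh.res ((Scheme.Modules.pushforward ν).obj ((Scheme.Modules.pullback ν).obj M))
      (hUV.trans inf_le_left : U ≤ W) m)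
  refine ⟨germM M U x hxU m₀, ?_⟩
  refine (stalkLin_germ _ U x hxU m₀).trans ?_
  exact (congrArg (germM _ U x hxU) ((eta_eq ν M U m₀).symm.trans hm₀)).trans
    (Groth.Agent.HomShQC.germM_res _ _ x hxU m)

/-- Let k be a field and X a genus-zero curve over k, that is, an integral scheme proper over k of
dimension one with H^1(X, O_X) = 0. Then the normalization Y of X again satisfies H^1(Y, O_Y) = 0,
so Y is again a genus-zero curve. (The two instance binders on the morphism from the generic point
always hold; they are only needed to form the normalization.) -/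
theorem result (k : Type u) [Field k] (X : Scheme.{u}) [X.Over (Spec (CommRingCat.of k))]
    [IsIntegral X] [IsProper (X ↘ (Spec (CommRingCat.of k)))] (hdim : topologicalKrullDim X = 1)
    (h1 : Subsingleton (Coh.HH X (Coh.structureModule X) 1))
    [QuasiCompact (X.fromSpecStalk (genericPoint X))] [QuasiSeparated (X.fromSpecStalk (genericPoint X))] :
    Subsingleton (Coh.HH (Curv2.normalization X) (Coh.structureModule (Curv2.normalization X)) 1) := by
  letI : (Curv2.normalization X).Over (Spec (CommRingCat.of k)) := ⟨Curv2.normalizationι X ≫ X ↘ Spec (CommRingCat.of k)⟩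
  haveI := Groth.Agent.EulerChar.isLocallyNoetherian k (X := X)
  haveI : IsFinite (Curv2.normalizationι X) := (Groth.Agent.S1585.result k X).1
  obtain ⟨V, hVd, hViso⟩ := Groth.Agent.Curv2Norm.exists_dense_isIso X
  obtain ⟨y, hy⟩ := hVd.nonempty
  have hO : Coh.IsCoh (Coh.structureModule X) := Groth.Agent.HomShQC.isCoh_structureModule
  haveI := hO.1
  haveI : IsLocallyNoetherian (Curv2.normalization X) :=
    LocallyOfFiniteType.isLocallyNoetherian (Curv2.normalizationι X)
  have hM := Groth.Agent.ZClosLib.CohDescent.isCoh_pullback (Curv2.normalizationι X) _ hO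
  haveI := hM.1
  have h := subsingleton_HH_one k hdim ((Scheme.Modules.pullbackPushforwardAdjunction (Curv2.normalizationι X)).unit.app
    (Coh.structureModule X)) hO (Groth.Agent.ProperFin.isCoh_push_of_isFinite _ _ hM)
    (surjective_stalk_unit (Curv2.normalizationι X) _ V ((genericPoint_specializes y).mem_open V.2 hy)) h1
  obtain ⟨e⟩ := Groth.Agent.EulerChar.nonempty_pushEquiv (A := k) (Curv2.normalizationι X) rfl
    ((Scheme.Modules.pullback (Curv2.normalizationι X)).obj (Coh.structureModule X)) hM.1 1
  exact Groth.Agent.FormalFun.subsingleton_HH_iso (Groth.Agent.QCoh.pullbackUnitIso _) 1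
    (subsingleton_of_forall_eq 0 fun z => e.symm.injective (h.elim _ _))

end Groth.Agent.S16298
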