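import Groth.Statements.S1630
import Groth.Agent.VarBC.Basic
-- import your own Groth.Agent.* helpers here

set_option autoImplicit false
universe u
open CategoryTheory CategoryTheory.Limits AlgebraicGeometry
open Variety

namespace Groth.Agent.S1630

open Groth.Agent.VarBC Groth.Agent.FBase.BC Groth.Agent.FBase.BC2

/-- Let X be a scheme over k. If X has a cover by a nonempty family of open subschemes, each
geometrically irreducible over k and any two of which meet, then X is geometrically irreducible over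
k. -/
theorem result (k : Type u) [Field k] (X : Scheme.{u}) [X.Over (Spec (CommRingCat.of k))]
    (ι : Type u) (U : ι → X.Opens) (hne : Nonempty ι) (hcov : (⨆ i, U i) = ⊤)
    (hmeet : ∀ i j, ((U i : Set X) ∩ (U j : Set X)).Nonempty)
    (hU : ∀ i, GeometricallyIrreducible ((U i).ι ≫ (X ↘ (Spec (CommRingCat.of k))))) : GeometricallyIrreducible (X ↘ (Spec (CommRingCat.of k))) := by
  obtain ⟨i₀⟩ := hne
  have hcov' : ∀ x : X, ∃ i, x ∈ U i := fun x ↦
    TopologicalSpace.Opens.mem_iSup.mp (hcov ▸ TopologicalSpace.Opens.mem_top x)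
  refine ⟨geometrically_iff_of_commRing_of_isClosedUnderIsomorphisms.mpr fun K _ _ ↦ ?_⟩
  let f := X ↘ Spec (CommRingCat.of k)
  let p := pullback.fst f (specMap k K)
  have := surjective_pullback_fst (K := K) f
  have hirr : ∀ i, IsIrreducible (p ⁻¹' (U i : Set X)) := by
    intro i
    have := hU i
    have : IrreducibleSpace ↥(pullback ((U i).ι ≫ f) (specMap k K)) :=
      pullback_of_geometrically GeometricallyIrreducible.geometrically_irreducibleSpace K _
    let φ := pullback.map ((U i).ι ≫ f) (specMap k K) f (specMap k K) (U i).ι (𝟙 _) (𝟙 _)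
      (by simp) (by simp)
    have e : p ⁻¹' (U i : Set X) = Set.range φ := by
      rw [Scheme.Pullback.range_map]
      simp [p]
    rw [e, ← Set.image_univ]
    exact (IrreducibleSpace.isIrreducible_univ _).image _ φ.continuous.continuousOn
  refine (irreducibleSpace_def _).mpr ⟨?_, fun A B hA hB hAne hBne ↦ ?_⟩
  · obtain ⟨y, hy⟩ := (hirr i₀).nonempty
    exact ⟨y, trivial⟩
  · obtain ⟨a, -, ha⟩ := hAne
    obtain ⟨b, -, hb⟩ := hBne
    obtain ⟨i, hi⟩ := hcov' (p a)
    obtain ⟨j, hj⟩ := hcov' (p b)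
    obtain ⟨x, hx1, hx2⟩ := hmeet i j
    obtain ⟨c, hc⟩ := p.surjective x
    have hoi : IsOpen (p ⁻¹' (U i : Set X)) := (U i).isOpen.preimage p.continuous
    have hoj : IsOpen (p ⁻¹' (U j : Set X)) := (U j).isOpen.preimage p.continuous
    obtain ⟨d, hdi, hda, hdj⟩ := (hirr i).2 A (p ⁻¹' (U j : Set X)) hA hoj ⟨a, hi, ha⟩
      ⟨c, show p c ∈ (U i : Set X) from hc ▸ hx1, show p c ∈ (U j : Set X) from hc ▸ hx2⟩
    obtain ⟨e, hej, ⟨hea, hei⟩, heb⟩ := (hirr j).2 (A ∩ p ⁻¹' (U i : Set X)) B (hA.inter hoi) hB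
      ⟨d, hdj, hda, hdi⟩ ⟨b, hj, hb⟩
    exact ⟨e, trivial, hea, heb⟩

end Groth.Agent.S1630
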