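import Groth.Statements.S16301
import Groth.Agent.GenusZeroPts92.Basic

set_option autoImplicit false
universe u
open CategoryTheory CategoryTheory.Limits AlgebraicGeometry
open Curves

set_option linter.style.haveILetI false
open CategoryTheory AlgebraicGeometry
set_option maxHeartbeats 800000
namespace Groth.Agent.S16301


lemma vanishing_eq {X : Scheme.{u}} (Q : X) (hQ : IsClosed ({Q} : Set X)) :
    Scheme.IdealSheafData.vanishingIdeal ⟨{Q}, hQ⟩ = IntMult.ptIdeal Q := by
  unfold IntMult.ptIdeal
  congr 1
  exact TopologicalSpace.Closeds.ext hQ.closure_eq.symm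


/-- Let k be an infinite field and X a genus-zero curve over k, that is, an integral scheme proper over
k of dimension one with H^1(X, O_X) = 0. Let P be a closed point of X whose local ring is regular
and whose degree deg_k P = dim_k H^0(P, O_P) is least among all closed points of X with regular
local ring, and let I_P be the ideal sheaf of the reduced point P (an invertible module, P being a
regular point of a curve; this is carried as a hypothesis). Then the Picard group of X is generated
by the class of I_P, equivalently by O_X(P): every class of an invertible O_X-module is an integer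
power of the class of I_P (the group law on the Picard group is the tensor product, supplied by the
binder). (The published statement is for an arbitrary base field; this row assumes k infinite, the
case in which the published argument applies: it twice replaces an ample divisor by a member of its
base-point-free complete linear system whose support avoids the finitely many non-regular points of
X, and over a finite field such a member need not exist.) -/
theorem result (k : Type u) [Field k] [Infinite k] (X : Scheme.{u}) [X.Over (Spec (CommRingCat.of k))]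
    [IsIntegral X] [IsProper (X ↘ (Spec (CommRingCat.of k)))] (hdim : topologicalKrullDim X = 1)
    (h1 : Subsingleton (Coh.HH X (Coh.structureModule X) 1))
    (P : X) (hPc : IsClosed ({P} : Set X)) (hPreg : IsRegularLocalRing (X.presheaf.stalk P))
    (hmin : ∀ (Q : X) (hQc : IsClosed ({Q} : Set X)), IsRegularLocalRing (X.presheaf.stalk Q) →
      Module.finrank k (Coh.HH X (ClSub.quotMod (Scheme.IdealSheafData.vanishingIdeal ⟨{P}, hPc⟩)) 0) ≤ Module.finrank k (Coh.HH X (ClSub.quotMod (Scheme.IdealSheafData.vanishingIdeal ⟨{Q}, hQc⟩)) 0))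
    (hI : PicF.IsInvertible (ClSub.idealMod (Scheme.IdealSheafData.vanishingIdeal ⟨{P}, hPc⟩))) [PicGrp.Law X]
    (c : PicLoc.PicSet X) :
    c ∈ Subgroup.zpowers (PicGrp.cls (ClSub.idealMod (Scheme.IdealSheafData.vanishingIdeal ⟨{P}, hPc⟩)) hI) := by

  classical
  obtain ⟨M, hM, rfl⟩ := PicGrp.exists_eq_cls c
  have hD : ∀ a : PicLoc.PicSet X, ∃ D : ℤ, ∀ (N : X.Modules) (hN : PicF.IsInvertible N),
      PicGrp.cls N hN = a → Curv2.deg k X N 1 = D := fun a => by
    obtain ⟨N₀, hN₀, rfl⟩ := PicGrp.exists_eq_cls a
    exact ⟨Curv2.deg k X N₀ 1, fun N hN h => EulerChar.deg_iso k ((PicGrp.cls_eq_cls_iff hN hN₀).1 h).some⟩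
  choose D hD using hD
  let φ : PicLoc.PicSet X →* Multiplicative ℤ := MonoidHom.mk' (fun a => Multiplicative.ofAdd (D a)) fun a b => by
    obtain ⟨A, hA, rfl⟩ := PicGrp.exists_eq_cls a
    obtain ⟨B, hB, rfl⟩ := PicGrp.exists_eq_cls b
    have hAB := AmpleLib.isInvertible_tensorMod hA hB
    rw [← ofAdd_add, ← hD _ A hA rfl, ← hD _ B hB rfl, ← GenusZeroPts92.deg_tensor k hdim hA hB,
      hD (PicGrp.cls A hA * PicGrp.cls B hB) _ hAB (Subtype.ext (PicGrp.cls_mul_cls_val hA hB).symm)]
  obtain ⟨hI', hdI⟩ := GenusZeroPts92.deg_ideal k hdim hPc hPreg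
  have hpos := GenusZeroPts92.dp_pos k hdim hPc
  set d := GenusZeroPts92.dp k P with hd
  have hIdeg : Curv2.deg k X (ClSub.idealMod (Scheme.IdealSheafData.vanishingIdeal ⟨{P}, hPc⟩)) 1 = -d := by
    rw [vanishing_eq P hPc]; exact hdI
  set cI := PicGrp.cls (ClSub.idealMod (Scheme.IdealSheafData.vanishingIdeal ⟨{P}, hPc⟩)) hI
  obtain ⟨N, hN, hNc⟩ := PicGrp.exists_eq_cls (PicGrp.cls M hM * cI ^ (Curv2.deg k X M 1 / d))
  have hdN : Curv2.deg k X N 1 = Curv2.deg k X M 1 % d := by
    have h := congrArg φ hNc
    rw [map_mul, map_zpow] at h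
    have h' := congrArg Multiplicative.toAdd h
    rw [toAdd_mul, toAdd_zpow] at h'
    change D _ + _ • D _ = D _ at h'
    rw [← hD _ M hM rfl, ← hD cI _ hI rfl, hIdeg, ← hD _ N hN rfl, smul_eq_mul] at h'
    rw [← h', Int.emod_def]
    ring
  rcases (Int.emod_nonneg (Curv2.deg k X M 1) hpos.ne').eq_or_lt with h0 | hlt
  · obtain ⟨e⟩ := GenusZeroPts92.nonempty_iso_of_deg_zero k hdim h1 hN (hdN.trans h0.symm)
    refine ⟨-(Curv2.deg k X M 1 / d), ?_⟩
    show cI ^ _ = _
    rw [zpow_neg]
    exact inv_eq_of_mul_eq_one_left (hNc.trans ((PicGrp.cls_eq_one_iff hN).2 ⟨e⟩))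
  · obtain ⟨Q, -, hQc, hQr, hQd⟩ := GenusZeroPts92.exists_regular_point k hdim h1 hN (by omega) Set.finite_empty
    have hm := hmin Q hQc hQr
    rw [vanishing_eq P hPc, vanishing_eq Q hQc] at hm
    have hlt' := Int.emod_lt_of_pos (Curv2.deg k X M 1) hpos
    simp only [hd, GenusZeroPts92.dp] at hQd hlt' hdN
    omega


end Groth.Agent.S16301
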