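import Groth.Statements.S16302
import Groth.Agent.GenusZeroPts92.Basic

set_option autoImplicit false
universe u
open CategoryTheory CategoryTheory.Limits AlgebraicGeometry
open Curves

set_option linter.style.haveILetI false
open CategoryTheory AlgebraicGeometry
set_option maxHeartbeats 800000
namespace Groth.Agent.S16302


lemma vanishing_eq {X : Scheme.{u}} (Q : X) (hQ : IsClosed ({Q} : Set X)) :
    Scheme.IdealSheafData.vanishingIdeal ⟨{Q}, hQ⟩ = IntMult.ptIdeal Q := by
  unfold IntMult.ptIdeal
  congr 1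
  exact TopologicalSpace.Closeds.ext hQ.closure_eq.symm


/-- Let k be an infinite field and X a genus-zero curve over k, that is, an integral scheme proper over
k of dimension one with H^1(X, O_X) = 0. Then the set of closed points P of X whose local ring is
regular and whose degree deg_k P = dim_k H^0(P, O_P) is least among all closed points with regular
local ring is infinite. -/
theorem result (k : Type u) [Field k] (X : Scheme.{u}) [X.Over (Spec (CommRingCat.of k))] [Infinite k]
    [IsIntegral X] [IsProper (X ↘ (Spec (CommRingCat.of k)))] (hdim : topologicalKrullDim X = 1)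
    (h1 : Subsingleton (Coh.HH X (Coh.structureModule X) 1)) :
    {P : X | ∃ hPc : IsClosed ({P} : Set X), IsRegularLocalRing (X.presheaf.stalk P) ∧
      ∀ (Q : X) (hQc : IsClosed ({Q} : Set X)), IsRegularLocalRing (X.presheaf.stalk Q) →
        Module.finrank k (Coh.HH X (ClSub.quotMod (Scheme.IdealSheafData.vanishingIdeal ⟨{P}, hPc⟩)) 0) ≤ Module.finrank k (Coh.HH X (ClSub.quotMod (Scheme.IdealSheafData.vanishingIdeal ⟨{Q}, hQc⟩)) 0)}.Infinite := by

  classical
  have hgen : ¬ IsClosed ({genericPoint X} : Set X) := fun h => by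
    have h2 := CurveDVR.coheight_eq_one (X ↘ Spec (CommRingCat.of k)) hdim h
    rw [Order.coheight_eq_zero.2 (fun z _ => genericPoint_specializes z)] at h2
    exact zero_ne_one h2
  haveI : JacobsonSpace X := LocallyOfFiniteType.jacobsonSpace (X ↘ Spec (CommRingCat.of k))
  obtain ⟨P₀, hP₀, hP₀c⟩ := nonempty_inter_closedPoints (X := X)
    (Z := {x : X | IsRegularLocalRing (X.presheaf.stalk x)}) ⟨genericPoint X, GenusZeroPts92.regular_genericPoint⟩
    (GenusZeroPts92.isOpen_regular k).isLocallyClosed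
  intro hfin
  obtain ⟨P, ⟨hPc, hPr⟩, hmin⟩ := (InvImage.wf (fun Q : X =>
    Module.finrank k (Coh.HH X (ClSub.quotMod (IntMult.ptIdeal Q)) 0)) wellFounded_lt).has_min
    {Q : X | IsClosed ({Q} : Set X) ∧ IsRegularLocalRing (X.presheaf.stalk Q)} ⟨P₀, hP₀c, hP₀⟩
  obtain ⟨hI, hdI⟩ := GenusZeroPts92.deg_ideal k hdim hPc hPr
  obtain ⟨hL, ⟨e⟩⟩ := AbSch51.InvSection.tensor_dual hI
  have hdL := GenusZeroPts92.deg_tensor k hdim hI hL
  rw [EulerChar.deg_iso k e, hdI, show Curv2.deg k X (Coh.structureModule X) 1 = 0 by simp [Curv2.deg]] at hdL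
  have hpos := GenusZeroPts92.dp_pos k hdim hPc
  obtain ⟨Q, hQE, hQc, hQr, hQd⟩ := GenusZeroPts92.exists_regular_point k hdim h1 hL (by linarith) hfin
  refine hQE ⟨hQc, hQr, fun R hRc hRr => ?_⟩
  rw [vanishing_eq Q hQc, vanishing_eq R hRc]
  have h1' : (Module.finrank k (Coh.HH X (ClSub.quotMod (IntMult.ptIdeal Q)) 0)) ≤
      Module.finrank k (Coh.HH X (ClSub.quotMod (IntMult.ptIdeal P)) 0) := by
    simp only [GenusZeroPts92.dp] at hQd hdL
    omega
  exact h1'.trans (not_lt.1 (hmin R ⟨hRc, hRr⟩))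


end Groth.Agent.S16302
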