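import Groth.Statements.S16304
import Groth.Agent.RelGenStage.Basic
import Groth.Agent.IdealSh.IdealMod
import Groth.Agent.IdealSh.Comap
import Groth.Agent.Hens.SteinNormal
import Groth.Agent.IdealSh.Extend
import Groth.Agent.TorsorClos.Hartogs
-- import your own Groth.Agent.* helpers here

set_option linter.style.haveILetI false
set_option backward.isDefEq.respectTransparency false
set_option backward.isDefEq.respectTransparency.types false
set_option autoImplicit false
universe u
open CategoryTheory CategoryTheory.Limits AlgebraicGeometry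
open Resolve
open TopologicalSpace Groth.Agent.Omega Groth.Agent.Omega.Stalks Groth.Agent.IdealSh OmegaSh

namespace Groth.Agent.S16304

/-- Let k be a field and X a normal surface over k (an integral normal scheme, separated and of finite
type over k, of dimension two) whose only non-regular point is the closed point P, and f : Y → X a
resolution: a proper morphism from an integral scheme Y of dimension two with all local rings
regular, restricting to an isomorphism over the complement of P. Let V be an effective Cartier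
divisor on Y, given by a quasi-coherent ideal sheaf O_Y(-V) that is an invertible module, such that
P lies in f(Supp V) and O_Y(-V) is f-free, that is, the counit f^* f_* O_Y(-V) → O_Y(-V) is an
epimorphism. Then O_Y(-V) is contained in m_P O_Y, the inverse image ideal sheaf of the ideal of the
reduced point P. -/
theorem result (k : Type u) [Field k] (X : Scheme.{u}) [X.Over (Spec (CommRingCat.of k))]
    [IsIntegral X] [IsSeparated (X ↘ (Spec (CommRingCat.of k)))] [LocallyOfFiniteType (X ↘ (Spec (CommRingCat.of k)))]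
    [CompactSpace X] (hdim : topologicalKrullDim X = 2) (hnorm : Pi1.IsNormalScheme X)
    (P : X) (hPc : IsClosed ({P} : Set X)) (hP : ¬ IsRegularLocalRing (X.presheaf.stalk P))
    (hreg : ∀ x : X, x ≠ P → IsRegularLocalRing (X.presheaf.stalk x))
    (Y : Scheme.{u}) (f : Y ⟶ X) [IsIntegral Y] (hdimY : topologicalKrullDim Y = 2)
    (hregY : ∀ y : Y, IsRegularLocalRing (Y.presheaf.stalk y)) [IsProper f]
    (hiso : IsIso (f ∣_ ⟨({P} : Set X)ᶜ, hPc.isOpen_compl⟩))
    (V : Y.IdealSheafData) (hV : PicF.IsInvertible (ClSub.idealMod V)) (hPV : P ∈ f.base '' (V.support : Set Y))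
    (hfree : Epi ((Scheme.Modules.pullbackPushforwardAdjunction f).counit.app (ClSub.idealMod V))) :
    V ≤ (Scheme.IdealSheafData.vanishingIdeal ⟨{P}, hPc⟩).comap f := by
  classical
  have hEC := IdealMod.isEffCartierIdeal_of_isInvertible V hV
  set m := Scheme.IdealSheafData.vanishingIdeal ⟨{P}, hPc⟩
  have hm : (m.support : Set X) = {P} := Scheme.IdealSheafData.coe_support_vanishingIdeal _
  obtain ⟨W, hW, hPW, -⟩ := exists_isAffineOpen_mem_and_subset (x := P) (U := ⊤) trivial
  haveI : Nonempty (W : Scheme.{u}) := ⟨⟨P, hPW⟩⟩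
  haveI := hiso
  let U₀ : X.Opens := ⟨({P} : Set X)ᶜ, hPc.isOpen_compl⟩
  -- functions over `W` upstairs come from downstairs
  haveI : IsDomain Γ(X, W) := IsIntegral.component_integral W
  haveI : IsIntegrallyClosed Γ(X, W) := (S9821.result X).1 hnorm W hW
  letI := (X.germToFunctionField W).hom.toAlgebra
  haveI : IsFractionRing Γ(X, W) X.functionField := functionField_isFractionRing_of_isAffineOpen X W hW
  have hsurj : ∀ c : Γ(Y, f ⁻¹ᵁ W), ∃ a, f.app W a = c := by
    intro c
    have hξP : genericPoint X ≠ P := fun h => hP (h ▸ (inferInstanceAs (IsRegularLocalRing X.functionField)))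
    let O : X.Opens := W ⊓ U₀
    have hξO : genericPoint X ∈ O := ⟨(genericPoint_specializes P).mem_open W.2 hPW, hξP⟩
    haveI : Nonempty (O : Scheme.{u}) := ⟨⟨_, hξO⟩⟩
    have hOb : Function.Bijective (f.app O).hom := by
      haveI : IsIso (f ∣_ O) := by
        have he : U₀.ι ''ᵁ (U₀.ι ⁻¹ᵁ O) = O := by
          rw [Scheme.Hom.image_preimage_eq_opensRange_inf, Scheme.Opens.opensRange_ι, inf_eq_right.2 inf_le_right]
        have h1 : IsIso ((f ∣_ U₀) ∣_ (U₀.ι ⁻¹ᵁ O)) := inferInstance
        have h2 := (MorphismProperty.arrow_mk_iso_iff (MorphismProperty.isomorphisms Scheme)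
          (morphismRestrictRestrict f U₀ _)).1 h1
        rw [he] at h2
        exact h2
      haveI : IsIso (f ∣_ O).appTop := inferInstanceAs (IsIso ((f ∣_ O).app ⊤))
      exact TorsorClos.app_bijective_of_restrict f O (ConcreteCategory.bijective_of_isIso (f ∣_ O).appTop)
    let e := RingEquiv.ofBijective (f.app O).hom hOb
    let res := (Y.presheaf.map (homOfLE (f.preimage_mono (inf_le_left : O ≤ W))).op).hom
    let ψ : Γ(Y, f ⁻¹ᵁ W) →+* X.functionField :=
      ((X.germToFunctionField O).hom.comp e.symm.toRingHom).comp res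
    have hψ : ψ.comp (f.app W).hom = algebraMap Γ(X, W) X.functionField := by
      ext a
      show X.germToFunctionField O (e.symm (Y.presheaf.map (homOfLE (f.preimage_mono (inf_le_left : O ≤ W))).op (f.app W a))) =
        X.germToFunctionField W a
      have h1 : Y.presheaf.map (homOfLE (f.preimage_mono (inf_le_left : O ≤ W))).op (f.app W a) =
          f.app O (X.presheaf.map (homOfLE (inf_le_left : O ≤ W)).op a) := by
        have := congr($(f.naturality (homOfLE (inf_le_left : O ≤ W)).op) a)
        exact this.symm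
      rw [h1]
      show X.germToFunctionField O (e.symm (e (X.presheaf.map (homOfLE (inf_le_left : O ≤ W)).op a))) = _
      rw [e.symm_apply_apply]
      exact X.presheaf.germ_res_apply _ _ hξO a
    have hint : IsIntegral Γ(X, W) (ψ c) := by
      have h := (S1340.integralClosure_top f hW) c
      obtain ⟨p, hp, hp0⟩ := h
      refine ⟨p, hp, ?_⟩
      have h2 := congrArg ψ hp0
      rw [map_zero, Polynomial.hom_eval₂, hψ] at h2
      exact h2
    obtain ⟨a, ha⟩ := IsIntegrallyClosed.isIntegral_iff.1 hint
    refine ⟨a, ?_⟩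
    have hψinj : Function.Injective ψ := by
      refine ((X.germToFunctionField_injective O).comp e.symm.injective).comp ?_
      haveI : Nonempty (f ⁻¹ᵁ O : Y.Opens).toScheme := by
        obtain ⟨q, hq⟩ := hPV
        by_contra hne
        haveI hE : IsEmpty (f ⁻¹ᵁ O : Y.Opens).toScheme := not_nonempty_iff.1 hne
        haveI : Subsingleton Γ(Y, f ⁻¹ᵁ O) := CommRingCat.subsingleton_of_isTerminal
          (Y.sheaf.isTerminalOfEqEmpty (by ext x; exact ⟨fun hx => (hE.false ⟨x, hx⟩).elim, fun h => h.elim⟩))
        haveI : Subsingleton Γ(X, O) := e.toEquiv.subsingleton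
        exact not_subsingleton Γ(X, O) inferInstance
      exact map_injective_of_isIntegral Y _
    refine hψinj ?_
    rw [← ha, ← RingHom.comp_apply, hψ]
  -- compare the ideals on a cover adapted to generating sections
  have key : ∀ y : Y, ∃ T : Y.affineOpens, y ∈ T.1 ∧ V.ideal T ≤ (m.comap f).ideal T := by
    intro y
    by_cases hy : f y = P
    · obtain ⟨τ, hτ⟩ := RelGenStage.exists_locus_of_epi_counit f hV hfree hW (x := y) (hy ▸ hPW)
      obtain ⟨T, hyT, hTL⟩ := IdealSh.Comap.exists_affine_le y (AmpleLib.locus τ) hτ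
      refine ⟨T, hyT, fun t ht => ?_⟩
      obtain ⟨s, hs⟩ := IdealMod.exists_sect V T.1 t ((IdealMod.mem_ideal_iff V T t).1 ht)
      obtain ⟨a', ha', -⟩ := (AmpleLib.isGen_locus τ).exists_eq hTL s
      obtain ⟨a, ha⟩ := hsurj (idealSect V (f ⁻¹ᵁ W) τ)
      have hle : T.1 ≤ f ⁻¹ᵁ W := hTL.trans (AmpleLib.locus_le τ)
      have haP : a ∈ m.ideal ⟨W, hW⟩ := by
        show a ∈ PrimeSpectrum.vanishingIdeal (hW.fromSpec ⁻¹' ({P} : Set X))
        refine (PrimeSpectrum.mem_vanishingIdeal _ _).2 fun q hq => ?_
        by_contra hna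
        have hPa : P ∈ X.basicOpen a := by
          rw [← (show hW.fromSpec q = P from hq)]
          have h := hW.fromSpec_preimage_basicOpen a
          show q ∈ hW.fromSpec ⁻¹ᵁ X.basicOpen a
          rw [h]; exact hna
        obtain ⟨y₁, hy₁V, hy₁⟩ := hPV
        have hy₁W : f y₁ ∈ W := hy₁ ▸ hPW
        have h1 : y₁ ∈ Y.basicOpen (idealSect V (f ⁻¹ᵁ W) τ) := by
          rw [← ha, ← Scheme.preimage_basicOpen]
          exact show f y₁ ∈ X.basicOpen a from hy₁ ▸ hPa
        obtain ⟨T₁, hyT₁, hT₁⟩ := IdealSh.Comap.exists_affine_le y₁ (f ⁻¹ᵁ W) hy₁W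
        have h2 : Y.presheaf.map (homOfLE hT₁).op (idealSect V (f ⁻¹ᵁ W) τ) ∈ V.ideal T₁ := by
          rw [← idealSect_map]
          exact IdealMod.sect_mem V T₁ _
        have h3 : y₁ ∈ Y.basicOpen (Y.presheaf.map (homOfLE hT₁).op (idealSect V (f ⁻¹ᵁ W) τ)) := by
          rw [Scheme.basicOpen_res]; exact ⟨hyT₁, h1⟩
        have h4 : y₁ ∈ ((T₁.1 : Y.Opens) : Set Y) ∩ (V.support : Set Y) := ⟨hyT₁, hy₁V⟩
        rw [Set.inter_comm, Scheme.IdealSheafData.coe_support_inter] at h4
        have h5 : y₁ ∈ Y.zeroLocus (U := T₁.1) (V.ideal T₁ : Set Γ(Y, T₁.1)) := h4.1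
        rw [Scheme.mem_zeroLocus_iff] at h5
        exact h5 _ h2 h3
      rw [← hs, ha', idealSect_smul]
      refine Ideal.mul_mem_left _ _ ?_
      rw [QCoh.res_res]
      show idealSect V T.1 ((ClSub.idealMod V).presheaf.map (homOfLE hle).op τ) ∈ _
      rw [idealSect_map, ← ha, IdealSh.Comap.ideal_comap m f ⟨W, hW⟩ T hle]
      exact Ideal.mem_map_of_mem (f.appLE W T.1 hle).hom haP
    · obtain ⟨T, hyT, hTU⟩ := IdealSh.Comap.exists_affine_le y (f ⁻¹ᵁ U₀) hy
      refine ⟨T, hyT, le_top.trans_eq (IdealSh.Extend.ideal_eq_top_of_disjoint (U := f ⁻¹ᵁ U₀) ?_ T hTU).symm⟩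
      rw [Scheme.IdealSheafData.support_comap]
      exact Set.disjoint_left.2 fun x hx hx' => hx' (hm.le hx)
  choose T hT hle using key
  exact Scheme.IdealSheafData.le_of_iSup_eq_top T
    (top_unique fun y _ => TopologicalSpace.Opens.mem_iSup.2 ⟨y, hT y⟩) hle

end Groth.Agent.S16304
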