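import Groth.Statements.S16305
import Groth.Agent.ProjMorph.Sections
import Groth.Agent.ProjLcm70.Embed
import Groth.Agent.ProjConst.Forms
import Groth.Agent.HTor95.HHModel
import Groth.Agent.AlgSp.LqfDiscrete
import Groth.Agent.ProjTwist.Pn.Finite
import Groth.Agent.ProjProper.Basic

set_option autoImplicit false
universe u
open CategoryTheory CategoryTheory.Limits AlgebraicGeometry
open ProjSp

namespace Groth.Agent.S16305

open TopologicalSpace Opposite
open Groth.Agent.QCoh Groth.Agent.Props.GenLocus Groth.Agent.Props.ProjFrame Groth.Agent.Props.GenPull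

set_option backward.isDefEq.respectTransparency.types false
set_option maxHeartbeats 1000000

/-- A functional killing the products from a set of codimension one. -/
theorem exists_proportional {k A : Type*} [Field k] [CommRing A] [Algebra k A] (V : Set A) (v : A)
    (hV : ∀ a, ∃ u ∈ V, ∃ c : k, a = u + c • v) (lam : A →ₗ[k] k)
    (hlam : ∀ u ∈ V, ∀ u' ∈ V, lam (u * u') = 0) (u u' : A) (hu : u ∈ V) (hu' : u' ∈ V) (b : A) :
    lam ((lam (u' * v) • u - lam (u * v) • u') * b) = 0 := by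
  obtain ⟨w, hw, c, rfl⟩ := hV b
  simp only [mul_add, sub_mul, smul_mul_assoc, mul_smul_comm, map_add, map_sub, map_smul, smul_eq_mul,
    hlam u hu w hw, hlam u' hu' w hw]
  ring

/-- Coordinates of sections on a discrete scheme with respect to local generators. -/
theorem exists_coef {Y : Scheme.{u}} [DiscreteTopology Y] (M : Y.Modules) (O : Y → Y.Opens)
    (hmem : ∀ z, z ∈ O z) (hO : ∀ z z', z ≠ z' → O z ⊓ O z' = ⊥) (e : ∀ z, Γ(M, O z))
    (he : ∀ z, IsGen M (O z) (e z)) :
    ∃ Φ : Γ(M, ⊤) → (∀ z : Y, Γ(Y, O z)), Function.Bijective Φ ∧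
      ∀ t z, res M (le_top : O z ≤ ⊤) t = Φ t z • e z := by
  have h : ∀ t z, ∃ a, res M (le_top : O z ≤ ⊤) t = a • e z := fun t z => by
    obtain ⟨a, ha, -⟩ := (he z).exists_eq le_rfl (res M (le_top : O z ≤ ⊤) t)
    exact ⟨a, by rwa [res_self] at ha⟩
  choose Φ hΦ using h
  have hcov : (⊤ : Y.Opens) ≤ ⨆ z, O z := fun z _ => Opens.mem_iSup.mpr ⟨z, hmem z⟩
  refine ⟨Φ, ⟨fun t t' htt => eq_of_locally_eq M (fun _ => le_top) hcov t t' fun z => ?_, fun a => ?_⟩, hΦ⟩
  · rw [hΦ t z, hΦ t' z, htt]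
  · obtain ⟨t, ht⟩ := exists_glue M (fun _ => le_top) hcov (fun z => a z • e z) (fun z z' => by
      by_cases hzz : z = z'
      · subst hzz; rfl
      · refine eq_of_locally_eq M (U := fun i : PEmpty.{u + 1} => (i.elim : Y.Opens)) (fun i => i.elim) ?_ _ _
          (fun i => i.elim)
        rw [hO z z' hzz]; exact bot_le)
    refine ⟨t, funext fun z => (he z).injective le_rfl ?_⟩
    rw [res_self, ← hΦ t z, ht z]

/-- The algebra of a closed finite subscheme: the products of coordinates span. -/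
theorem core {k : Type*} [Field k] {Y : Type*} [Finite Y] (R : Y → Type*) [∀ z, CommRing (R z)]
    [∀ z, IsLocalRing (R z)] [Algebra k (∀ z, R z)] {m : ℕ} (y : Fin m → ∀ z, R z) (i : Y → Fin m)
    (hy : ∀ z, y (i z) z = 1) (V : Set (∀ z, R z)) (hyV : ∀ l, y l ∈ V) (v : ∀ z, R z)
    (hV : ∀ a, ∃ u ∈ V, ∃ c : k, a = u + c • v) (T : Submodule k (∀ z, R z))
    (hT : ∀ u ∈ V, ∀ u' ∈ V, u * u' ∈ T)
    (hgen : ∀ j (b : ∀ z, R z), ∃ a ∈ Algebra.adjoin k
        (Set.range fun l => y l * fun z => Ring.inverse (y j z)),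
      ∀ z, IsUnit (y j z) → a z = b z) (a₀ : ∀ z, R z) : a₀ ∈ T := by
  classical
  cases nonempty_fintype Y
  by_contra ha₀
  obtain ⟨lam, hlam0, hlamT⟩ := Submodule.exists_dual_map_eq_bot_of_notMem ha₀ inferInstance
  have hlam : ∀ u ∈ V, ∀ u' ∈ V, lam (u * u') = 0 := fun u hu u' hu' =>
    LinearMap.le_ker_iff_map.mpr hlamT (hT u hu u' hu')
  let I : Ideal (∀ z, R z) :=
    { carrier := {a | ∀ b, lam (a * b) = 0}
      add_mem' := fun ha hb b => by rw [add_mul, map_add, ha b, hb b, add_zero]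
      zero_mem' := fun b => by rw [zero_mul, map_zero]
      smul_mem' := fun c a ha b => by rw [smul_eq_mul, mul_comm c a, mul_assoc]; exact ha _ }
  let δ : ∀ z', ∀ z, R z := fun z => Pi.single z 1
  have hsum : ∀ a : ∀ z, R z, a = ∑ z, δ z * a := fun a => by
    rw [← Finset.sum_mul, show ∑ z, δ z = 1 from Finset.univ_sum_single 1, one_mul]
  have hvan : ∀ a : ∀ z, R z, (∀ z, δ z ∉ I → a z = 0) → a ∈ I := fun a ha => by
    rw [hsum a]
    refine sum_mem fun z _ => ?_
    by_cases hz : δ z ∈ I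
    · exact I.mul_mem_right _ hz
    · have : δ z * a = 0 := funext fun z' => by
        by_cases hz' : z' = z
        · subst hz'; simp [δ, ha _ hz]
        · simp [δ, Pi.single_eq_of_ne hz']
      rw [this]; exact zero_mem _
  let gv : (∀ z, R z) → k := fun u => lam (u * v)
  obtain ⟨j, hj⟩ : ∃ j, gv (y j) ≠ 0 := by
    by_contra h
    push Not at h
    have hI : ∀ z, δ z ∈ I := fun z => by
      have hmem : y (i z) ∈ I := fun b => by
        obtain ⟨u, hu, c, rfl⟩ := hV b
        rw [mul_add, map_add, hlam _ (hyV _) u hu, mul_smul_comm, map_smul,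
          show lam (y (i z) * v) = 0 from h (i z), smul_zero, add_zero]
      have : δ z = δ z * y (i z) := funext fun z' => by
        by_cases hz : z' = z
        · subst hz; simp [δ, hy]
        · simp [δ, Pi.single_eq_of_ne hz]
      rw [this]; exact I.mul_mem_left _ hmem
    have := hvan a₀ (fun z hz => absurd (hI z) hz) 1
    rw [mul_one] at this
    exact hlam0 this
  have hprop : ∀ l, gv (y j) • y l - gv (y l) • y j ∈ I :=
    fun l => exists_proportional V v hV lam hlam (y l) (y j) (hyV l) (hyV j)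
  have hunit : ∀ z, δ z ∉ I → IsUnit (y j z) := fun z hz => by
    by_contra hu
    refine hz ?_
    set d := gv (y j) • y (i z) - gv (y (i z)) • y j with hd
    have hdu : IsUnit (d z) := by
      have e : d z = algebraMap k (∀ z, R z) (gv (y j)) z -
          algebraMap k (∀ z, R z) (gv (y (i z))) z * y j z := by
        rw [hd, Algebra.smul_def, Algebra.smul_def, Pi.sub_apply, Pi.mul_apply, Pi.mul_apply, hy, mul_one]
      rw [e]
      have h1 : IsUnit (algebraMap k (∀ z, R z) (gv (y j)) z) :=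
        ((isUnit_iff_ne_zero.mpr hj).map (algebraMap k (∀ z, R z))).map (Pi.evalRingHom R z)
      by_contra hn
      refine (IsLocalRing.mem_maximalIdeal _).mp ?_ h1
      have := add_mem ((IsLocalRing.mem_maximalIdeal _).mpr hn)
        (Ideal.mul_mem_left _ (algebraMap k (∀ z, R z) (gv (y (i z))) z)
          ((IsLocalRing.mem_maximalIdeal _).mpr hu))
      rwa [sub_add_cancel] at this
    obtain ⟨w, hw⟩ := hdu
    have : δ z = Pi.single z (↑w⁻¹ : R z) * d := funext fun z' => by
      by_cases hz' : z' = z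
      · subst hz'; simp [δ, ← hw]
      · simp [δ, Pi.single_eq_of_ne hz']
    rw [this]
    exact I.mul_mem_left _ (hprop (i z))
  let w : ∀ z, R z := fun z => Ring.inverse (y j z)
  let S : Subalgebra k (∀ z, R z) :=
    { carrier := {a | ∃ c : k, a - algebraMap k (∀ z, R z) c ∈ I}
      add_mem' := by
        rintro a b ⟨c, hc⟩ ⟨c', hc'⟩
        refine ⟨c + c', ?_⟩
        convert add_mem hc hc' using 1
        rw [map_add]; ring
      mul_mem' := by
        rintro a b ⟨c, hc⟩ ⟨c', hc'⟩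
        refine ⟨c * c', ?_⟩
        convert add_mem (I.mul_mem_right b hc) (I.mul_mem_left (algebraMap k (∀ z, R z) c) hc') using 1
        rw [map_mul]; ring
      algebraMap_mem' := fun c => ⟨c, by rw [sub_self]; exact zero_mem _⟩ }
  have hle : Algebra.adjoin k (Set.range fun l => y l * w) ≤ S := by
    refine Algebra.adjoin_le ?_
    rintro _ ⟨l, rfl⟩
    refine ⟨(gv (y j))⁻¹ * gv (y l), ?_⟩
    have h1 := I.mul_mem_left (algebraMap k (∀ z, R z) (gv (y j))⁻¹ * w) (hprop l)
    have h2 : algebraMap k (∀ z, R z) ((gv (y j))⁻¹ * gv (y l)) * (w * y j - 1) ∈ I :=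
      I.mul_mem_left _ (hvan _ fun z hz => by
        simp only [Pi.sub_apply, Pi.mul_apply, Pi.one_apply, w, Ring.inverse_mul_cancel _ (hunit z hz), sub_self])
    have h3 : algebraMap k (∀ z, R z) (gv (y j))⁻¹ * algebraMap k (∀ z, R z) (gv (y j)) = 1 := by
      rw [← map_mul, inv_mul_cancel₀ hj, map_one]
    convert add_mem h1 h2 using 1
    rw [Algebra.smul_def, Algebra.smul_def, map_mul]
    linear_combination (-(w * y l)) * h3
  have hconst : ∀ b : ∀ z, R z, ∃ c : k, b - algebraMap k (∀ z, R z) c ∈ I := fun b => by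
    obtain ⟨a, ha, hab⟩ := hgen j b
    obtain ⟨c, hc⟩ := hle ha
    refine ⟨c, ?_⟩
    convert add_mem (hvan (b - a) fun z hz => by rw [Pi.sub_apply, hab z (hunit z hz), sub_self]) hc using 1
    ring
  have hI : ∀ a ∈ I, lam a = 0 := fun a ha => by rw [← mul_one a]; exact ha 1
  obtain ⟨c, hc⟩ := hconst (y j)
  have hc0 : c ≠ 0 := fun h => hj (by
    rw [h, map_zero, sub_zero] at hc
    exact hc _)
  have hsq : lam (algebraMap k (∀ z, R z) (c * c)) = 0 := by
    have h1 : y j * y j - algebraMap k (∀ z, R z) (c * c) ∈ I := by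
      convert I.mul_mem_right (y j + algebraMap k (∀ z, R z) c) hc using 1
      rw [map_mul]; ring
    have := hI _ h1
    rwa [map_sub, hlam _ (hyV _) _ (hyV _), zero_sub, neg_eq_zero] at this
  rw [Algebra.algebraMap_eq_smul_one, map_smul, smul_eq_mul] at hsq
  have h1 : lam 1 = 0 := (mul_eq_zero.mp hsq).resolve_left (mul_ne_zero hc0 hc0)
  obtain ⟨c', hc'⟩ := hconst a₀
  have := hI _ hc'
  rw [map_sub, Algebra.algebraMap_eq_smul_one, map_smul, h1, smul_zero, sub_zero] at this
  exact hlam0 this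

/-- Coordinates of the twisted sections restricted to a discrete closed subscheme. -/
theorem exists_coords {k : Type u} [Field k] {N : ℕ} {Y : Scheme.{u}} [DiscreteTopology Y]
    (ι : Y ⟶ CohB1.ProjSpace N k) (d : ℕ) (O : Y → Y.Opens) (hmem : ∀ z, z ∈ O z)
    (hdisj : ∀ z z', z ≠ z' → O z ⊓ O z' = ⊥) (G : Y → MvPolynomial (Fin (N + 1)) k)
    (hG : ∀ z, G z ∈ CohB1.polyGrading N k d) (D : Y → (Proj (CohB1.polyGrading N k)).Opens)
    (hD : ∀ z, D z ≤ Proj.basicOpen (CohB1.polyGrading N k) (G z)) (hle : ∀ z, O z ≤ ι ⁻¹ᵁ D z) :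
    ∃ Φ : Γ((Scheme.Modules.pullback ι).obj (Twist.twist (CohB1.polyGrading N k) (d : ℤ)), ⊤) →
        (∀ z, Γ(Y, O z)),
      Function.Bijective Φ ∧ (∀ t t', Φ (t + t') = Φ t + Φ t') ∧
      (∀ (r : Γ(Y, ⊤)) t z, Φ (r • t) z = rres (le_top : O z ≤ ⊤) r * Φ t z) ∧
      ∀ (a : MvPolynomial (Fin (N + 1)) k) (ha : a ∈ CohB1.polyGrading N k d) (z : Y),
        Φ (LFFrame.unitSec ι _ ⊤ (Twist.globalOf (CohB1.polyGrading N k) ⟨a, ha⟩)) z =
          ι.appLE (D z) (O z) (hle z) (coeff ha (hG z) _ (hD z)) := by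
  let fr : ∀ z, Γ(Twist.twist (CohB1.polyGrading N k) (d : ℤ), D z) := fun z =>
    res _ (hD z) (frac (𝒜 := CohB1.polyGrading N k) (hG z) _)
  let e : ∀ z, Γ((Scheme.Modules.pullback ι).obj (Twist.twist (CohB1.polyGrading N k) (d : ℤ)), O z) :=
    fun z => res _ (hle z) (pb ι (fr z))
  have he : ∀ z, IsGen _ (O z) (e z) := fun z =>
    (isGen_pb ι ((isGen_frac (𝒜 := CohB1.polyGrading N k) (hG z)).restrict (hD z))).restrict (hle z)
  obtain ⟨Φ, hΦb, hΦ⟩ := exists_coef _ O hmem hdisj e he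
  refine ⟨Φ, hΦb, fun t t' => funext fun z => (he z).injective le_rfl ?_,
    fun r t z => (he z).injective le_rfl ?_, fun a ha z => (he z).injective le_rfl ?_⟩
  · rw [res_self, ← hΦ, map_add, hΦ, hΦ, ← add_smul, Pi.add_apply]
  · rw [res_self, ← hΦ, res_smul, hΦ, smul_smul]
  · rw [res_self, ← hΦ]
    have h : res (Twist.twist (CohB1.polyGrading N k) (d : ℤ)) (le_top : D z ≤ ⊤)
        (Twist.globalOf (CohB1.polyGrading N k) ⟨a, ha⟩) = coeff ha (hG z) _ (hD z) • fr z := by
      refine Groth.Agent.ProjTwist.sectN_ext fun x => Eq.trans ?_ (Groth.Agent.ProjTwist.smul_coe _ _ x).symm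
      change Localization.mk a ⟨1, _⟩ = valAt (coeff ha (hG z) _ (hD z)) x * Localization.mk _ ⟨1, _⟩
      rw [valAt_coeff, Groth.Agent.ProjTwist.mk_mul_mk, Localization.mk_eq_mk_iff, Localization.r_iff_exists]
      exact ⟨1, by simp [mul_comm]⟩
    have h2 := (LFFrame.unitSec_res ι _ le_top _).symm.trans
      ((congrArg (LFFrame.unitSec ι _ (D z)) h).trans (LFFrame.unitSec_smul ι _ _ _ _))
    have h3 := congrArg (res _ (hle z)) h2
    rw [res_res, res_smul] at h3
    exact h3

/-- Change of chart for the ratios. -/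
theorem rres_coeff_mul {R A : Type u} [CommRing R] [CommRing A] [Algebra R A] {𝒜 : ℕ → Submodule R A}
    [GradedAlgebra 𝒜] {a b c : A} (ha : a ∈ 𝒜 1) (hb : b ∈ 𝒜 1) (hc : c ∈ 𝒜 1) (U : (Proj 𝒜).Opens)
    (h : U ≤ Proj.basicOpen 𝒜 b) (h' : U ≤ Proj.basicOpen 𝒜 c) :
    rres h (coeff ha hb _ le_rfl) * rres h' (coeff hb hc _ le_rfl) = rres h' (coeff ha hc _ le_rfl) := by
  refine valAt_ext fun x => ?_
  rw [valAt_mul, valAt_rres, valAt_rres, valAt_rres, valAt_coeff, valAt_coeff, valAt_coeff,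
    Groth.Agent.ProjTwist.mk_mul_mk, Localization.mk_eq_mk_iff, Localization.r_iff_exists]
  exact ⟨1, by simp; ring⟩

/-- The functions on a singleton open form a local ring. -/
theorem isLocalRing_singleton {Y : Scheme.{u}} {U : Y.Opens} {z : Y} (hU : (U : Set Y) = {z}) :
    IsLocalRing Γ(Y, U) := by
  have hz : z ∈ U := hU.ge rfl
  let γ := (Y.presheaf.germ U z hz).hom
  have hiff : ∀ a, IsUnit (γ a) → IsUnit a := fun a ha =>
    RingedSpace.isUnit_of_isUnit_germ Y.toRingedSpace _ _ fun w hw => by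
      obtain rfl : w = z := hU.le hw
      exact ha
  haveI : Nontrivial Γ(Y, U) := RingHom.domain_nontrivial γ
  refine IsLocalRing.of_isUnit_or_isUnit_of_isUnit_add fun {a b} h => ?_
  have := h.map γ
  rw [map_add] at this
  exact (IsLocalRing.isUnit_or_isUnit_of_isUnit_add this).imp (hiff a) (hiff b)

/-- Let k be a field and Z a zero-dimensional closed subscheme of projective N-space P^N_k, with closed
immersion i : Z → P^N_k. For an integer n write ρ_n : H^0(P^N_k, O(n)) → H^0(P^N_k, i_* i^* O(n)) =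
H^0(Z, O(n)|_Z) for the map induced on global sections by the unit O(n) → i_* i^* O(n) (restriction
of sections to Z). If the image of ρ_1 has codimension at most one in H^0(Z, O(1)|_Z), in the sense
that for some v every element is of the form ρ_1(s) + c v with c in k, then ρ_2 is surjective. -/
theorem result (k : Type u) [Field k] (N : ℕ)
    (Z : (CohB1.ProjSpace N k).IdealSheafData)
    (hZ : topologicalKrullDim (Z.support : Set (CohB1.ProjSpace N k)) ≤ 0) :
    letI : (CohB1.ProjSpace N k).Over (Spec (CommRingCat.of k)) := ⟨CohB1.ProjSpace.toSpec N k⟩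
    (∃ v : (Coh.HH (CohB1.ProjSpace N k) ((Scheme.Modules.pushforward Z.subschemeι).obj
        ((Scheme.Modules.pullback Z.subschemeι).obj (Twist.twistProjSpace N k 1))) 0),
      ∀ t : (Coh.HH (CohB1.ProjSpace N k) ((Scheme.Modules.pushforward Z.subschemeι).obj
        ((Scheme.Modules.pullback Z.subschemeι).obj (Twist.twistProjSpace N k 1))) 0),
        ∃ (s : Coh.HH (CohB1.ProjSpace N k) (Twist.twistProjSpace N k 1) 0) (c : k),
        t = @id (Coh.HH (CohB1.ProjSpace N k) ((Scheme.Modules.pushforward Z.subschemeι).obj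
        ((Scheme.Modules.pullback Z.subschemeι).obj (Twist.twistProjSpace N k 1))) 0)
          (Sheaf.H.map ((SheafOfModules.toSheaf (CohB1.ProjSpace N k).ringCatSheaf).map
            ((Scheme.Modules.pullbackPushforwardAdjunction Z.subschemeι).unit.app (Twist.twistProjSpace N k 1))) 0 s) + c • v) →
    Function.Surjective (fun s : Coh.HH (CohB1.ProjSpace N k) (Twist.twistProjSpace N k 2) 0 =>
      @id (Coh.HH (CohB1.ProjSpace N k) ((Scheme.Modules.pushforward Z.subschemeι).obj
        ((Scheme.Modules.pullback Z.subschemeι).obj (Twist.twistProjSpace N k 2))) 0)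
          (Sheaf.H.map ((SheafOfModules.toSheaf (CohB1.ProjSpace N k).ringCatSheaf).map
            ((Scheme.Modules.pullbackPushforwardAdjunction Z.subschemeι).unit.app (Twist.twistProjSpace N k 2))) 0 s)) := by
  letI : (CohB1.ProjSpace N k).Over (Spec (CommRingCat.of k)) := ⟨CohB1.ProjSpace.toSpec N k⟩
  classical
  rintro ⟨v, hv⟩
  let P := CohB1.ProjSpace N k
  let 𝒜 := CohB1.polyGrading N k
  let ι := Z.subschemeι
  let Y := Z.subscheme
  let f : P ⟶ Spec (CommRingCat.of k) := CohB1.ProjSpace.toSpec N k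
  have hdimY : topologicalKrullDim Y ≤ 0 := by
    refine le_trans ?_ hZ
    exact le_of_eq ((ι.isClosedEmbedding.isEmbedding.toHomeomorph.trans
      (Homeomorph.setCongr Z.range_subschemeι)).isHomeomorph.topologicalKrullDim_eq _)
  haveI : LocallyOfFiniteType f := ProjTwist.Pn.locallyOfFiniteType_toSpec N k
  haveI : DiscreteTopology Y := by
    refine AlgSp.discreteTopology_of_closed_points (ι ≫ f) fun x => ?_
    let a : IrreducibleCloseds Y := ⟨closure {x}, isIrreducible_singleton.closure, isClosed_closure⟩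
    refine isClosed_of_closure_subset fun y hy => ?_
    let b : IrreducibleCloseds Y := ⟨closure {y}, isIrreducible_singleton.closure, isClosed_closure⟩
    have hba : b ≤ a := closure_minimal (Set.singleton_subset_iff.mpr hy) isClosed_closure
    have hmin : IsMin a := by
      rw [← Order.height_eq_zero]
      have h1 := Order.height_le_krullDim a
      have h2 : (Order.height a : WithBot ℕ∞) ≤ ((0 : ℕ∞) : WithBot ℕ∞) := h1.trans hdimY
      exact le_antisymm (WithBot.coe_le_coe.mp h2) bot_le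
    have hxy : x ⤳ y := specializes_iff_mem_closure.mpr hy
    have hyx : y ⤳ x := specializes_iff_mem_closure.mpr ((hmin hba) (subset_closure rfl))
    exact Set.mem_singleton_iff.mpr ((hxy.antisymm hyx).eq).symm
  haveI : IsProper f := ProjProper.Basic.isProper_toSpec N k
  haveI : CompactSpace P := QuasiCompact.compactSpace_of_compactSpace f
  haveI : CompactSpace Y := ι.isClosedEmbedding.compactSpace
  haveI : Finite Y := finite_of_compact_of_discrete
  have hX : ∀ i, (MvPolynomial.X i : MvPolynomial (Fin (N + 1)) k) ∈ 𝒜 1 :=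
    fun i => MvPolynomial.isHomogeneous_X k i
  let D : Fin (N + 1) → (Proj (CohB1.polyGrading N k)).Opens := fun i => Proj.basicOpen 𝒜 (MvPolynomial.X i)
  have hD : ⨆ i, D i = ⊤ := ProjMorph.iSup_basicOpen_gen _ hX MvPolynomial.adjoin_range_X
  choose i hi using fun z : Y => Opens.mem_iSup.mp (hD.ge (Opens.mem_top (ι z)))
  let O : Y → Y.Opens := fun z => ⟨{z}, isOpen_discrete _⟩
  have hle : ∀ z, O z ≤ ι ⁻¹ᵁ D (i z) := fun z w hw => by
    obtain rfl : w = z := hw
    exact hi _
  have hdisj : ∀ z z', z ≠ z' → O z ⊓ O z' = ⊥ := fun z z' h =>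
    eq_bot_iff.mpr fun w hw => absurd (hw.1.symm.trans hw.2) h
  haveI : ∀ z, IsLocalRing Γ(Y, O z) := fun z => isLocalRing_singleton (z := z) rfl
  let g0 : k →+* Γ(Y, ⊤) := Coh.toGlobal (ι ≫ f)
  letI : Algebra k (∀ z : Y, Γ(Y, O z)) :=
    (RingHom.pi fun z => (rres (le_top : O z ≤ ⊤)).hom.comp g0).toAlgebra
  have hX2 : ∀ j, (MvPolynomial.X j * MvPolynomial.X j : MvPolynomial (Fin (N + 1)) k) ∈ 𝒜 2 :=
    fun j => SetLike.mul_mem_graded (hX j) (hX j)
  have hD2 : ∀ j, D j ≤ Proj.basicOpen 𝒜 (MvPolynomial.X j * MvPolynomial.X j) := fun j =>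
    (le_inf le_rfl le_rfl).trans (Proj.basicOpen_mul 𝒜 _ _).ge
  obtain ⟨Φ1, hΦ1b, hadd1, hsm1, hform1⟩ := exists_coords ι 1 O (fun z => rfl) hdisj
    (fun z => MvPolynomial.X (i z)) (fun z => hX (i z)) (fun z => D (i z)) (fun z => le_rfl) hle
  obtain ⟨Φ2, hΦ2b, hadd2, hsm2, hform2⟩ := exists_coords ι 2 O (fun z => rfl) hdisj
    (fun z => MvPolynomial.X (i z) * MvPolynomial.X (i z)) (fun z => hX2 (i z)) (fun z => D (i z))
    (fun z => hD2 (i z)) hle
  have alg : ∀ (r : k) z, (algebraMap k (∀ z : Y, Γ(Y, O z)) r) z = rres (le_top : O z ≤ ⊤) (g0 r) :=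
    fun r z => rfl
  have hg0 : ∀ r, ι.appTop (Coh.toGlobal f r) = g0 r := fun r => by
    simp only [g0, Coh.toGlobal, RingHom.comp_apply, Scheme.Hom.comp_appTop, CommRingCat.hom_comp]
    rfl
  have hsmul1 : ∀ (r : k) t, Φ1 (g0 r • t) = r • Φ1 t := fun r t => funext fun z => by
    rw [hsm1, Algebra.smul_def, Pi.mul_apply, alg]
  have hsmul2 : ∀ (r : k) t, Φ2 (g0 r • t) = r • Φ2 t := fun r t => funext fun z => by
    rw [hsm2, Algebra.smul_def, Pi.mul_apply, alg]
  let ψ1 : Γ(Twist.twist 𝒜 ((1 : ℕ) : ℤ), ⊤) → (∀ z : Y, Γ(Y, O z)) :=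
    fun σ => Φ1 (LFFrame.unitSec ι _ ⊤ σ)
  let ψ2 : Γ(Twist.twist 𝒜 ((2 : ℕ) : ℤ), ⊤) → (∀ z : Y, Γ(Y, O z)) :=
    fun σ => Φ2 (LFFrame.unitSec ι _ ⊤ σ)
  let vv : Γ((Scheme.Modules.pullback ι).obj (Twist.twistProjSpace N k 1), ⊤) :=
    HTor95.HHModel.h0 ((Scheme.Modules.pushforward ι).obj
      ((Scheme.Modules.pullback ι).obj (Twist.twistProjSpace N k 1))) v
  have hv' : ∀ a, ∃ u ∈ Set.range ψ1, ∃ c : k, a = u + c • Φ1 vv := by
    intro a
    obtain ⟨t, rfl⟩ := hΦ1b.2 a
    obtain ⟨s, c, hsc⟩ := hv ((HTor95.HHModel.h0 ((Scheme.Modules.pushforward ι).obj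
      ((Scheme.Modules.pullback ι).obj (Twist.twistProjSpace N k 1)))).symm t)
    refine ⟨_, ⟨HTor95.HHModel.h0 _ s, rfl⟩, c, ?_⟩
    have h := congrArg (HTor95.HHModel.h0 ((Scheme.Modules.pushforward ι).obj
      ((Scheme.Modules.pullback ι).obj (Twist.twistProjSpace N k 1)))) hsc
    rw [AddEquiv.apply_symm_apply, map_add] at h
    rw [← hsmul1, ← hadd1]
    refine congrArg Φ1 (h.trans (congrArg₂ (· + ·) ?_ ?_))
    · exact HTor95.HHModel.h0_map
        ((Scheme.Modules.pullbackPushforwardAdjunction ι).unit.app (Twist.twistProjSpace N k 1)) s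
    · refine (HTor95.HHModel.h0_smul _ _ v).trans ?_
      exact congrArg (fun r : Γ(Y, ⊤) => r • vv) (hg0 c)
  have hmul : ∀ u ∈ Set.range ψ1, ∀ u' ∈ Set.range ψ1, u * u' ∈ Set.range ψ2 := by
    rintro _ ⟨σ, rfl⟩ _ ⟨σ', rfl⟩
    obtain ⟨⟨a, ha⟩, rfl⟩ := ProjConst.globalOf_surjective N k 1 σ
    obtain ⟨⟨b, hb⟩, rfl⟩ := ProjConst.globalOf_surjective N k 1 σ'
    refine ⟨Twist.globalOf 𝒜 ⟨a * b, (SetLike.mul_mem_graded ha hb : a * b ∈ 𝒜 2)⟩, funext fun z => ?_⟩
    refine (hform2 (a * b) (SetLike.mul_mem_graded ha hb) z).trans ?_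
    refine Eq.trans ?_ (congrArg₂ (· * ·) (hform1 a ha z) (hform1 b hb z)).symm
    rw [← map_mul]
    refine congrArg _ (valAt_ext fun x => ?_)
    refine Eq.trans ?_ (valAt_mul _ _ x).symm
    rw [valAt_coeff, valAt_coeff, valAt_coeff, Groth.Agent.ProjTwist.mk_mul_mk]
    rfl
  let T : Submodule k (∀ z : Y, Γ(Y, O z)) :=
    { carrier := Set.range ψ2
      add_mem' := by
        rintro _ _ ⟨σ, rfl⟩ ⟨σ', rfl⟩
        refine ⟨σ + σ', ?_⟩
        simp only [ψ2]
        rw [← hadd2]
        exact congrArg Φ2 (map_add _ σ σ')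
      zero_mem' := by
        refine ⟨0, ?_⟩
        have h0 := hadd2 0 0
        rw [add_zero] at h0
        simp only [ψ2]
        exact (congrArg Φ2 (map_zero _)).trans (left_eq_add.mp h0)
      smul_mem' := by
        rintro r _ ⟨σ, rfl⟩
        refine ⟨(show Γ(Proj (CohB1.polyGrading N k), ⊤) from Coh.toGlobal f r) • σ, ?_⟩
        simp only [ψ2]
        rw [← hsmul2, ← hg0]
        exact congrArg Φ2 (LFFrame.unitSec_smul ι _ _ _ _) }
  intro t
  obtain ⟨σ, hσ⟩ : Φ2 (show Γ((Scheme.Modules.pullback ι).obj (Twist.twistProjSpace N k 2), ⊤) from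
      HTor95.HHModel.h0 ((Scheme.Modules.pushforward ι).obj
        ((Scheme.Modules.pullback ι).obj (Twist.twistProjSpace N k 2))) t) ∈ T := by
    refine core (fun z : Y => Γ(Y, O z)) (fun j => ψ1 (Twist.globalOf 𝒜 ⟨MvPolynomial.X j, hX j⟩)) i
      (fun z => ?_) (Set.range ψ1) (fun l => ⟨_, rfl⟩) (Φ1 vv) hv' T hmul (fun j b => ?_) _
    · exact (hform1 _ (hX (i z)) z).trans
        ((congrArg _ (ProjMorph.ratio_self (hX (i z)))).trans (map_one _))
    set y : Fin (N + 1) → ∀ z : Y, Γ(Y, O z) := fun j => ψ1 (Twist.globalOf 𝒜 ⟨MvPolynomial.X j, hX j⟩)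
    have hchart : ∀ z, IsUnit (y j z) → O z ≤ ι ⁻¹ᵁ D j := fun z hu w hw => by
      have hu' : IsUnit (ι.appLE (D (i z)) (O z) (hle z) (coeff (hX j) (hX (i z)) _ le_rfl)) :=
        (hform1 _ (hX j) z) ▸ hu
      have := Y.basicOpen_of_isUnit hu'
      rw [Scheme.basicOpen_appLE] at this
      have h2 := (this.ge hw).2
      have h3 := (Scheme.Hom.preimage_mono ι (basicOpen_coeff (hX j) (hX (i z)) (D (i z)) le_rfl).le) h2
      exact h3.2
    have hgenr : ∀ r : Γ(Proj (CohB1.polyGrading N k), D j), ∃ a ∈ Algebra.adjoin k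
        (Set.range fun l => y l * fun z => Ring.inverse (y j z)),
        ∀ z (hu : IsUnit (y j z)), a z = ι.appLE (D j) (O z) (hchart z hu) r := by
      intro r
      haveI : IsIso (Proj.awayToSection 𝒜 (MvPolynomial.X j)) := by
        rw [← Proj.basicOpenIsoAway_hom _ _ (hX j) one_pos]
        infer_instance
      obtain ⟨w, rfl⟩ := (ConcreteCategory.bijective_of_isIso
        (Proj.awayToSection 𝒜 (MvPolynomial.X j))).2 r
      obtain ⟨F, rfl⟩ := ProjMorph.exists_eval_eq_away (𝒜 := 𝒜) (fun l => MvPolynomial.X l) hX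
        MvPolynomial.adjoin_range_X j w
      induction F using MvPolynomial.induction_on with
      | C a =>
        refine ⟨algebraMap k _ a, Subalgebra.algebraMap_mem _ a, fun z hu => ?_⟩
        rw [MvPolynomial.eval₂Hom_C, RingHom.comp_apply,
          ← ProjLcm70.str_appLE_basicOpen (hX j) one_pos a, alg, ← hg0]
        exact (congr($(ι.map_appLE (hchart z hu) (homOfLE (le_top : D j ≤ ⊤)).op) (Coh.toGlobal f a))).symm
      | add F F' hF hF' =>
        obtain ⟨a, ha, hae⟩ := hF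
        obtain ⟨a', ha', hae'⟩ := hF'
        refine ⟨a + a', add_mem ha ha', fun z hu => ?_⟩
        rw [map_add, map_add, Pi.add_apply, hae z hu, hae' z hu]
        exact (map_add (ι.appLE (D j) (O z) (hchart z hu)).hom _ _).symm
      | mul_X F l hF =>
        obtain ⟨a, ha, hae⟩ := hF
        refine ⟨a * (y l * fun z => Ring.inverse (y j z)),
          mul_mem ha (Algebra.subset_adjoin ⟨l, rfl⟩), fun z hu => ?_⟩
        rw [map_mul, map_mul, MvPolynomial.eval₂Hom_X', ProjMorph.awayToSection_mk_one, Pi.mul_apply,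
          hae z hu]
        refine Eq.trans ?_ (map_mul (ι.appLE (D j) (O z) (hchart z hu)).hom _ _).symm
        congr 1
        rw [Pi.mul_apply]
        have hq : ι.appLE (D j) (O z) (hchart z hu) (ProjMorph.ratio (hX j) (hX l)) * y j z = y l z := by
          refine (congrArg (_ * ·) (hform1 _ (hX j) z)).trans (Eq.trans ?_ (hform1 _ (hX l) z).symm)
          have hh : O z ≤ ι ⁻¹ᵁ (D j ⊓ D (i z)) := fun w hw => ⟨hchart z hu hw, hle z hw⟩
          have key1 : ∀ (U : (Proj (CohB1.polyGrading N k)).Opens) (hU : D j ⊓ D (i z) ≤ U)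
              (hz : O z ≤ ι ⁻¹ᵁ U) (r : Γ(Proj (CohB1.polyGrading N k), U)),
              ι.appLE U (O z) hz r = ι.appLE (D j ⊓ D (i z)) (O z) hh (rres hU r) := fun U hU hz r =>
            (congr($(Scheme.Hom.map_appLE ι hh (homOfLE hU).op) r)).symm
          rw [key1 _ inf_le_left (hchart z hu), key1 _ inf_le_right (hle z), key1 _ inf_le_right (hle z)]
          exact (map_mul (ι.appLE _ (O z) hh).hom _ _).symm.trans
            (congrArg _ (rres_coeff_mul (hX l) (hX j) (hX (i z)) _ inf_le_left inf_le_right))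
        rw [← hq, mul_assoc, Ring.mul_inverse_cancel _ hu, mul_one]
    let J := {z : Y // IsUnit (y j z)}
    let W := ι ⁻¹ᵁ D j
    have hOW : ∀ z : {z : Y // z ∈ W}, O z.1 ≤ W := fun z w hw => by
      obtain rfl : w = z.1 := hw
      exact z.2
    obtain ⟨s, hs⟩ := exists_glue (Coh.structureModule Y) (U := fun z : {z : Y // z ∈ W} => O z.1) hOW
      (fun z hz => Opens.mem_iSup.mpr ⟨⟨z, hz⟩, rfl⟩) (fun z => b z.1) (fun z z' => by
        by_cases hzz : z = z'
        · subst hzz; rfl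
        · refine eq_of_locally_eq _ (U := fun i : PEmpty.{u + 1} => (i.elim : Y.Opens)) (fun i => i.elim) ?_ _ _
            (fun i => i.elim)
          rw [hdisj _ _ (fun e => hzz (Subtype.ext e))]; exact bot_le)
    obtain ⟨r, hr⟩ := ι.app_surjective (U := D j) (Proj.isAffineOpen_basicOpen 𝒜 _ (hX j) one_pos) s
    obtain ⟨a, ha, hae⟩ := hgenr r
    refine ⟨a, ha, fun z hu => (hae z hu).trans ?_⟩
    refine Eq.trans ?_ (hs ⟨z, hchart z hu rfl⟩)
    rw [← hr]
    rfl
  refine ⟨(HTor95.HHModel.h0 (Twist.twistProjSpace N k 2)).symm σ, ?_⟩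
  refine (HTor95.HHModel.h0 ((Scheme.Modules.pushforward ι).obj
    ((Scheme.Modules.pullback ι).obj (Twist.twistProjSpace N k 2)))).injective ?_
  refine Eq.trans ?_ (hΦ2b.1 hσ)
  refine (HTor95.HHModel.h0_map
    ((Scheme.Modules.pullbackPushforwardAdjunction ι).unit.app (Twist.twistProjSpace N k 2)) _).trans ?_
  exact congrArg _ (AddEquiv.apply_symm_apply _ _)

end Groth.Agent.S16305
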