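import Groth.Statements.S16307
import Groth.Agent.GenusOneGen92.Immersion

set_option autoImplicit false
universe u
open CategoryTheory CategoryTheory.Limits AlgebraicGeometry
open Curves

set_option linter.style.haveILetI false
set_option linter.unusedSectionVars false
set_option backward.isDefEq.respectTransparency false
set_option backward.isDefEq.respectTransparency.types false
set_option maxHeartbeats 1000000
open Groth.Agent.QCoh
namespace Groth.Agent.S16307

theorem infinite_of_sepClosed (k : Type u) [Field k] [IsSepClosed k] : Infinite k := by
  by_contra h
  haveI := not_infinite_iff_finite.1 h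
  haveI : IsAlgClosed k := IsSepClosed.isAlgClosed_of_perfectField k
  exact h inferInstance



/-- In the case of a separably closed base field and a curve that is not geometrically integral (the
case proved in the text), let k be a separably closed field and X a Gorenstein genus-one curve over
k: an integral scheme, proper over k, of dimension one, all of whose local rings are Gorenstein,
with dim_k H^1(X, O_X) = 1 (so H^0(X, O_X) = k). Assume that X is not geometrically integral over k.
Let L be an invertible O_X-module of degree at least 3 over k. Then the section ring ⊕_{m ≥ 0}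
H^0(X, L^{⊗ m}) is generated in degree one: for every m, the global sections of L^{⊗ m} ⊗ L = L^{⊗
(m+1)} are spanned over H^0(X, O_X) by the sections a ⊗ b with a a global section of L^{⊗ m} and b a
global section of L; and L is very ample: for some n there is a closed immersion i : X → P^n_k over
k with i^*O(1) isomorphic to L (existence of an isomorphism only). (The published statement is for
an arbitrary base field and any Gorenstein genus-one curve; the text reduces to a separably closed
field, cites the literature for the geometrically integral case, and proves the remaining case,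
which is the one stated here.) -/
theorem result (k : Type u) [Field k] (X : Scheme.{u}) [X.Over (Spec (CommRingCat.of k))] [IsSepClosed k]
    [IsIntegral X] [IsProper (X ↘ (Spec (CommRingCat.of k)))] (hdim : topologicalKrullDim X = 1)
    (hgor : ∀ x : X, LocCoh.IsGorensteinLocalRing (X.presheaf.stalk x)) (hg : Curv2.genus k X = 1)
    (hngi : ¬ GeometricallyIntegral (X ↘ (Spec (CommRingCat.of k))))
    (L : X.Modules) (hL : PicF.IsInvertible L) (hdeg : 3 ≤ Curv2.deg k X L 1) :
    (∀ m : ℕ, Submodule.span (X.ringCatSheaf.obj.obj (Opposite.op ⊤))
        (Set.range (fun p : (CohB1.tensorPow L m).val.obj (Opposite.op ⊤) × L.val.obj (Opposite.op ⊤) =>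
          SecTwist.tmul (CohB1.tensorPow L m) L ⊤ p.1 p.2)) = ⊤) ∧
    ∃ (n : ℕ) (i : X ⟶ CohB1.ProjSpace n k), IsClosedImmersion i ∧
      i ≫ CohB1.ProjSpace.toSpec n k = X ↘ (Spec (CommRingCat.of k)) ∧
      Nonempty ((Scheme.Modules.pullback i).obj (Twist.twistProjSpace n k 1) ≅ L) := by
  haveI : Infinite k := infinite_of_sepClosed k
  have h1 := GenusOneGen92.h1_eq_zero k hdim hg hL (by omega)
  have hgg := GenusZeroPts92.gg_of_genus_one k hdim hg hL (by omega)
  have hgn : GenusOneGen92.Gen L := GenusOneGen92.gen_of_two (k := k) hdim hL hgg h1
    (GenusOneGen92.closure_tmul_eq_top k hdim hg hL hdeg)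
  refine ⟨fun m => eq_top_iff.2 fun x _ => ?_, GenusOneGen92.exists_closedImmersion (k := k) hdim hL hgg hgn
    (EulerChar.isAmple_of_deg_pos k hdim hL (by omega))⟩
  rcases m with _ | j
  · obtain ⟨σ, rfl⟩ := GenusOneGen92.exists_pw_one hL x
    exact Submodule.subset_span ⟨((1 : Γ(X, ⊤)), σ), rfl⟩
  · refine (AddSubgroup.closure_le (K := (Submodule.span (X.ringCatSheaf.obj.obj (Opposite.op ⊤)) _).toAddSubgroup)).2
      ?_ ((hgn j).ge (AddSubgroup.mem_top x))
    rintro _ ⟨p, rfl⟩
    exact Submodule.subset_span ⟨p, rfl⟩


end Groth.Agent.S16307
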