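import Groth.Statements.S16308
import Groth.Agent.S14054
import Groth.Agent.DefAmple27.Basic
import Groth.Agent.PicLaw.Basic

set_option autoImplicit false
universe u
open CategoryTheory CategoryTheory.Limits AlgebraicGeometry
open Curves

set_option linter.style.haveILetI false
set_option backward.isDefEq.respectTransparency false
set_option backward.isDefEq.respectTransparency.types false
open CategoryTheory AlgebraicGeometry
namespace Groth.Agent.S16308

/-- Let k be a field and X a proper scheme over k of dimension one (a one-dimensional projective scheme)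
with H^0(X, O_X) = k. Let A be a globally generated ample invertible O_X-module and m ≥ 0 an integer
with H^1(X, A^{⊗ m}) = 0. Then for every n ≥ m + 1 the global sections of A^{⊗ n} ⊗ A = A^{⊗ (n+1)}
are spanned over H^0(X, O_X) = k by the sections a ⊗ b with a a global section of A^{⊗ n} and b a
global section of A; consequently the section ring ⊕_{n ≥ 0} H^0(X, A^{⊗ n}) is generated as a
k-algebra by its homogeneous pieces of degrees 1, …, m + 1. -/
theorem result (k : Type u) [Field k] (X : Scheme.{u}) [X.Over (Spec (CommRingCat.of k))]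
    [IsProper (X ↘ (Spec (CommRingCat.of k)))] (hdim : topologicalKrullDim X = 1)
    (h0 : Module.finrank k (Coh.HH X (Coh.structureModule X) 0) = 1)
    (A : X.Modules) (hA : CohB1.IsAmple A) (hgg : Curv2.IsGloballyGenerated A)
    (m : ℕ) (hm : Subsingleton (Coh.HH X (CohB1.tensorPow A m) 1))
    (n : ℕ) (hn : m + 1 ≤ n) :
    Submodule.span (X.ringCatSheaf.obj.obj (Opposite.op ⊤))
        (Set.range (fun p : (CohB1.tensorPow A n).val.obj (Opposite.op ⊤) × A.val.obj (Opposite.op ⊤) =>
          SecTwist.tmul (CohB1.tensorPow A n) A ⊤ p.1 p.2)) = ⊤ := by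
  have hAi : PicF.IsInvertible A := hA.1
  haveI := hA.2.1
  haveI := EulerChar.isNoetherian k (X := X)
  obtain ⟨M, hM, ⟨eM⟩⟩ := PicLaw.exists_inverse hAi
  have hmono : ∀ j, m ≤ j → Subsingleton (Coh.HH X (CohB1.tensorPow A j) 1) := by
    intro j hj
    induction j, hj using Nat.le_induction with
    | base => exact hm
    | succ j hj ih =>
      obtain ⟨ι, hι, p, hp⟩ := DefAmple27.exists_epi_tensor (CohB1.tensorPow A j) (BigVol.RelBound.isCoh_invertible hAi) hgg
      haveI := hp
      haveI : ∀ _ : ι, Subsingleton (Coh.HH X (CohB1.tensorPow A j) 1) := fun _ => ih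
      exact DefAmple27.h1_of_epi (k := k) hdim p (CohLin.subsingleton_sigma _ 1)
  have hsurj := S14054.result k X A hAi hgg M ⟨ProjTwist.tensComm M A ≪≫ eM⟩ n (by omega) (fun q h1 h2 _ => by
      rcases eq_or_lt_of_le h1 with rfl | h1'
      · exact hmono (n - 1) (by omega)
      · exact EulerChar.subsingleton_HH_two_le k hdim _ h1')
    (fun q h1 _ => EulerChar.subsingleton_HH_two_le k hdim _ (by omega))
  rw [eq_top_iff]
  intro x _
  obtain ⟨t, rfl⟩ := hsurj x
  rw [← Props.GenTensor.η_eq]
  induction t using TensorProduct.induction_on with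
  | zero =>
    have := map_zero ((Props.GenTensor.η (CohB1.tensorPow A n) A).app (Opposite.op ⊤)).hom
    exact this.symm ▸ Submodule.zero_mem _
  | tmul a b => exact Submodule.subset_span ⟨(a, b), rfl⟩
  | add a b ha hb =>
    have := map_add ((Props.GenTensor.η (CohB1.tensorPow A n) A).app (Opposite.op ⊤)).hom a b
    exact this.symm ▸ Submodule.add_mem _ (ha trivial) (hb trivial)

end Groth.Agent.S16308
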