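import Groth.Statements.S16309
import Groth.Agent.CBC.H1Zero.Ample

set_option autoImplicit false
universe u
open CategoryTheory CategoryTheory.Limits AlgebraicGeometry
open Curves

namespace Groth.Agent.S16309

/-- Let k be a field and X a proper scheme over k of dimension one (not assumed reduced or irreducible)
with H^1(X, O_X) = 0 and H^0(X, O_X) = k, and let L be an ample invertible O_X-module. Then the
section ring ⊕_{n ≥ 0} H^0(X, L^{⊗ n}) is generated by H^0(X, L) as a k-algebra: for every n, the
global sections of L^{⊗ n} ⊗ L = L^{⊗ (n+1)} are spanned over H^0(X, O_X) = k by the sections a ⊗ b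
with a a global section of L^{⊗ n} and b a global section of L. -/
theorem result (k : Type u) [Field k] (X : Scheme.{u}) [X.Over (Spec (CommRingCat.of k))]
    [IsProper (X ↘ (Spec (CommRingCat.of k)))] (hdim : topologicalKrullDim X = 1)
    (h1 : Subsingleton (Coh.HH X (Coh.structureModule X) 1))
    (h0 : Module.finrank k (Coh.HH X (Coh.structureModule X) 0) = 1)
    (L : X.Modules) (hA : CohB1.IsAmple L) (n : ℕ) :
    Submodule.span (X.ringCatSheaf.obj.obj (Opposite.op ⊤))
        (Set.range (fun p : (CohB1.tensorPow L n).val.obj (Opposite.op ⊤) × L.val.obj (Opposite.op ⊤) =>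
          SecTwist.tmul (CohB1.tensorPow L n) L ⊤ p.1 p.2)) = ⊤ := by
  rcases Nat.eq_zero_or_pos n with rfl | hn
  · refine eq_top_iff.2 fun σ _ => ?_
    obtain ⟨τ, rfl⟩ := CBC.NormGen.exists_eq_one_tmul hA.1 σ
    exact Submodule.subset_span ⟨((1 : Γ(X, ⊤)), τ), rfl⟩
  · haveI := EulerChar.isNoetherian k (X := X)
    have hgg := (CBC.H1Zero.field_main k hdim h1 hA.1 (CBC.H1Zero.nef_field_of_isAmple k hA)).2
    have hgen := CBC.H1Zero.gen (fun M _ q hq => EulerChar.subsingleton_HH_two_le k hdim M (by omega))
      h1 hA.1 hgg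
    refine eq_top_iff.2 fun σ _ => ?_
    refine (AddSubgroup.closure_le (K := (Submodule.span _ _).toAddSubgroup)).2 ?_ (hgen n hn σ)
    rintro t ⟨m, s, rfl⟩
    exact Submodule.subset_span ⟨(m, s), rfl⟩

end Groth.Agent.S16309
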