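import Groth.Statements.S16312
import Mathlib
-- import your own Groth.Agent.* helpers here

set_option autoImplicit false
universe u
open W4c3irrattreebun

namespace Groth.Agent.S16312

/-- Let N be a closed cone in real n-space, f a function continuous on N, positive at the nonzero points
of N and homogeneous of degree one under scaling by nonnegative reals, and Λ a discrete additive
subgroup. Then for every real c the set of points H of Λ lying in N with f(H) ≤ c is finite. (The
published statement takes Λ to be a lattice; this row allows any discrete additive subgroup.) -/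
theorem result (n : ℕ)
    (N : Set (EuclideanSpace ℝ (Fin n))) (hN : IsClosed N)
    (hcone : ∀ x ∈ N, ∀ r : ℝ, 0 ≤ r → r • x ∈ N)
    (f : EuclideanSpace ℝ (Fin n) → ℝ) (hf : ContinuousOn f N)
    (hpos : ∀ x ∈ N, x ≠ 0 → 0 < f x)
    (hhom : ∀ x ∈ N, ∀ r : ℝ, 0 ≤ r → f (r • x) = r * f x)
    (Λ : Submodule ℤ (EuclideanSpace ℝ (Fin n))) [DiscreteTopology Λ] (c : ℝ) :
    ({x : EuclideanSpace ℝ (Fin n) | x ∈ N ∧ f x ≤ c} ∩ (Λ : Set (EuclideanSpace ℝ (Fin n)))).Finite := by
  have hdiscr : DiscreteTopology Λ.toAddSubgroup := inferInstanceAs (DiscreteTopology Λ)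
  have hΛ : IsClosed (Λ : Set (EuclideanSpace ℝ (Fin n))) :=
    AddSubgroup.isClosed_of_discrete (H := Λ.toAddSubgroup)
  have hb : Bornology.IsBounded {x : EuclideanSpace ℝ (Fin n) | x ∈ N ∧ f x ≤ c} := by
    have hS : IsCompact (N ∩ Metric.sphere (0 : EuclideanSpace ℝ (Fin n)) 1) :=
      (isCompact_sphere _ _).inter_left hN
    rcases Set.eq_empty_or_nonempty (N ∩ Metric.sphere (0 : EuclideanSpace ℝ (Fin n)) 1) with he | hne
    · refine Bornology.IsBounded.subset (Metric.isBounded_closedBall (x := 0) (r := 0)) ?_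
      rintro x ⟨hx, -⟩
      by_contra h0
      have hx0 : x ≠ 0 := fun h => h0 (by simp [h])
      exact Set.eq_empty_iff_forall_notMem.1 he (‖x‖⁻¹ • x)
        ⟨hcone x hx _ (by positivity), by simp [norm_smul, hx0]⟩
    · obtain ⟨z, hz, hmin⟩ := hS.exists_isMinOn hne (hf.mono Set.inter_subset_left)
      have hz0 : z ≠ 0 := fun h => by simpa [h] using hz.2
      have hm : 0 < f z := hpos z hz.1 hz0
      refine Bornology.IsBounded.subset (Metric.isBounded_closedBall (x := 0) (r := max (c / f z) 0)) ?_
      rintro x ⟨hx, hxc⟩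
      rw [mem_closedBall_zero_iff]
      by_cases hx0 : x = 0
      · simp [hx0]
      have hu : ‖x‖⁻¹ • x ∈ N ∩ Metric.sphere (0 : EuclideanSpace ℝ (Fin n)) 1 :=
        ⟨hcone x hx _ (by positivity), by simp [norm_smul, hx0]⟩
      have h1 : f z ≤ ‖x‖⁻¹ * f x := by rw [← hhom x hx _ (by positivity)]; exact hmin hu
      refine le_max_of_le_left ?_
      rw [le_div_iff₀ hm]
      have hn : 0 < ‖x‖ := norm_pos_iff.2 hx0
      rw [le_inv_mul_iff₀ hn] at h1
      linarith
  exact Metric.finite_isBounded_inter_isClosed (isDiscrete_iff_discreteTopology.2 ‹DiscreteTopology Λ›) hb hΛ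

end Groth.Agent.S16312
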