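import Groth.Statements.S16313
import Groth.Agent.CvgBC84Setup
-- import your own Groth.Agent.* helpers here

set_option autoImplicit false
universe u
open scoped TensorProduct
open W4c3irrattreebun

namespace Groth.Agent.S16313
theorem sInf_le_le {S T : Set ℕ} (h1 : ∀ e ∈ S, ∃ e' ∈ T, e' ≤ e) (h2 : ∀ e ∈ T, ∃ e' ∈ S, e' ≤ e) :
    sInf T = sInf S := by
  rcases T.eq_empty_or_nonempty with rfl | hT
  · rw [(Set.eq_empty_iff_forall_notMem.2 fun e he => by obtain ⟨_, h, _⟩ := h1 e he; exact h : S = ∅)]
  · obtain ⟨a, ha, hle⟩ := h2 _ (Nat.sInf_mem hT)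
    obtain ⟨b, hb, hle'⟩ := h1 _ (Nat.sInf_mem ⟨a, ha⟩)
    exact le_antisymm ((Nat.sInf_le hb).trans hle') ((Nat.sInf_le ha).trans hle)


/-- Let K/k be a finitely generated field extension whose field of constants is k (k is algebraically
closed in K), let L/k be any field extension, and let K' be a field which is the fraction field of K
⊗_k L, the L-algebra structure of K' being the one through the tensor product. Then the covering
gonality of K' over L equals the covering gonality of K over k. (The extension of K to L is taken to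
be the fraction field of the tensor product; when the tensor product has nonzero nilpotents there is
no such field and nothing is asserted.) -/
theorem result (k K L K' : Type u) [Field k] [Field K] [Field L]
    [Field K'] [Algebra k K] [Algebra k L]
    (hfg : (⊤ : IntermediateField k K).FG) (hconst : algebraicClosure k K = ⊥)
    [Algebra (K ⊗[k] L) K'] [IsFractionRing (K ⊗[k] L) K'] [Algebra L K']
    (hL : ∀ x : L, algebraMap L K' x = algebraMap (K ⊗[k] L) K' ((1 : K) ⊗ₜ[k] x)) :
    W4c3irrattreebun.cvg L K' = W4c3irrattreebun.cvg k K := by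
  let aK : Algebra K K' := ((algebraMap (K ⊗[k] L) K').comp
    (Algebra.TensorProduct.includeLeftRingHom : K →+* K ⊗[k] L)).toAlgebra
  let ak : Algebra k K' := ((algebraMap K K').comp (algebraMap k K)).toAlgebra
  have : IsScalarTower k K K' := IsScalarTower.of_algebraMap_eq fun _ => rfl
  have hK : ∀ x : K, algebraMap K K' x = algebraMap (K ⊗[k] L) K' (x ⊗ₜ[k] (1 : L)) := fun _ => rfl
  have : IsScalarTower k L K' := IsScalarTower.of_algebraMap_eq fun c => by
    rw [IsScalarTower.algebraMap_apply k K K', hK, hL]
    congr 1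
    rw [Algebra.algebraMap_eq_smul_one, Algebra.algebraMap_eq_smul_one, TensorProduct.smul_tmul]
  have hgen := Groth.Agent.CvgBC84.adjoin_range_eq_top hL hK
  have hn := Groth.Agent.CvgBC84.trdeg_lt_aleph0 hfg
  refine sInf_le_le ?_ ?_
  · rintro e ⟨D⟩
    obtain ⟨e', he', D', -⟩ := Groth.Agent.CvgBC84.up hgen
      (fun x hx => Groth.Agent.CvgBC84.algebraicIndependent_map hL hK x hx) hn D
    exact ⟨e', ⟨D'⟩, he'⟩
  · rintro e ⟨D⟩
    obtain ⟨e', he', hD'⟩ := Groth.Agent.CvgBC84.down hgen hfg D
    exact ⟨e', hD', he'⟩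

end Groth.Agent.S16313
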