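import Groth.Statements.S16315
import Groth.Agent.FFCurve.Noether
import Groth.Agent.FFCurve.MulSurj
import Groth.Agent.FFCurve.CliffOneCurve
import Groth.Agent.PicCl.Basic

set_option autoImplicit false
open CategoryTheory CategoryTheory.Limits AlgebraicGeometry
universe u
open Curves

set_option linter.style.haveILetI false
set_option backward.isDefEq.respectTransparency false
set_option backward.isDefEq.respectTransparency.types false
open CategoryTheory AlgebraicGeometry
namespace Groth.Agent.S16315

/-- Let k be an algebraically closed field of characteristic zero and X a smooth proper integral curve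
over k (integral, proper and smooth over k, of dimension one) of genus g ≥ 3 which is
non-hyperelliptic (every invertible module of degree 2 has at most a one-dimensional space of global
sections), and let K be a module isomorphic to the sheaf of differentials of X over k. Then the
canonical ring ⊕_m H^0(X, K^{⊗ m}) is generated in degree one: for every m ≥ 0 the multiplication
map H^0(X, K^{⊗ m}) ⊗ H^0(X, K) → H^0(X, K^{⊗ (m+1)}) is surjective (written as the map from the
global sections of the sectionwise tensor product presheaf to the global sections of its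
sheafification). (The published statement phrases this as the canonical ring being the homogeneous
coordinate ring of the canonically embedded curve; its further assertion on the vanishing of the
first cohomology of the twisted ideal sheaves is not restated.) -/
theorem result
    (k : Type u) [Field k] [IsAlgClosed k] [CharZero k]
    (X : Scheme.{u}) [X.Over (Spec (CommRingCat.of k))] [IsIntegral X]
    [IsProper (X ↘ Spec (CommRingCat.of k))] [Smooth (X ↘ Spec (CommRingCat.of k))]
    (hdim : topologicalKrullDim X = 1) (hg : 3 ≤ Curv2.genus k X)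
    (hnh : ∀ M : X.Modules, PicF.IsInvertible M → Curv2.deg k X M 1 = 2 →
      Module.finrank k (Coh.HH X M 0) ≤ 1)
    (K : X.Modules) (eK : K ≅ Omega.sheaf (X ↘ Spec (CommRingCat.of k))) (m : ℕ) :
    Function.Surjective
      ((toSheafify (Opens.grothendieckTopology X)
        (CohB1.tensorPre (CohB1.tensorPow K m) K).presheaf).app (Opposite.op ⊤)) := by
  haveI := FFCurve.regCurve_of_smooth (X := X) k hdim
  have hK := FFCurve.isFunctionField_of_isAlgClosed (X := X) k hdim
  have hgen := FFCurve.genus_eq_genus (X := X) k hdim hK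
  have hΩ := FFCurve.isInvertible_omega (X := X) k hdim
  have hC := FFCurve.isCanonical_omega (X := X) k hdim
  rw [hgen] at hg
  have hg' : 3 ≤ FunFld.genus k X.functionField := by exact_mod_cast hg
  have hnh' : ∀ E : FunFld.Divisor k X.functionField, E.deg = 2 → FunFld.ell E < 2 := fun E hE => by
    obtain ⟨N, hN, a, ha, hND⟩ := FFCurve.exists_divOf_eq k hdim E
    have := hnh N hN (by rw [FFCurve.deg_eq k hdim hK hN, hND, FF.deg_sub, FF.deg_div hK.1, sub_zero, hE])
    rw [FFCurve.finrank_zero k hdim hK hN, hND, sub_eq_add_neg, ← FF.div_inv hK.1,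
      FF.ell_add_div hK (inv_ne_zero ha)] at this
    omega
  have hKi := PicCl.isInvertible_of_iso eK.symm hΩ
  obtain ⟨a, ha, hKD⟩ := FFCurve.exists_div_of_iso k hdim hΩ hKi eK.symm
  set C := FFCurve.divOf k hdim hΩ
  have hpow : ∀ n : ℕ, ∃ (hM : PicF.IsInvertible (CohB1.tensorPow K n)) (f : X.functionField), f ≠ 0 ∧
      FFCurve.divOf k hdim hM = n • C + FunFld.div k f := by
    intro n
    induction n with
    | zero =>
      obtain ⟨f, hf, hfD⟩ := FFCurve.exists_divOf_structure k hdim hK (AmpleLib.isInvertible_tensorPow hKi 0)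
      exact ⟨AmpleLib.isInvertible_tensorPow hKi 0, f, hf, hfD.trans (by rw [zero_smul, zero_add])⟩
    | succ n ih =>
      obtain ⟨hM, f, hf, hfD⟩ := ih
      obtain ⟨c, hc, hcD⟩ := FFCurve.exists_div_tensor k hdim hM hKi (AmpleLib.isInvertible_tensorMod hM hKi)
      refine ⟨AmpleLib.isInvertible_tensorMod hM hKi, f * (a * c)⁻¹,
        mul_ne_zero hf (inv_ne_zero (mul_ne_zero ha hc)), hcD.trans ?_⟩
      rw [hfD, hKD, FF.div_mul hK.1 hf (inv_ne_zero (mul_ne_zero ha hc)), FF.div_inv hK.1,
        FF.div_mul hK.1 ha hc, add_smul, one_smul]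
      abel
  obtain ⟨hM, f, hf, hfD⟩ := hpow m
  refine FFCurve.surjective_mul k hdim hM hKi ?_
  rw [hfD, hKD, sub_eq_add_neg C, ← FF.div_inv hK.1]
  intro z hz
  have hy : (f * a⁻¹) * z ∈ FunFld.L ((m + 1) • C) := by
    rw [FF.mul_mem_L_iff hK (mul_ne_zero hf (inv_ne_zero ha)), FF.div_mul hK.1 hf (inv_ne_zero ha), add_smul, one_smul]
    convert hz using 2; abel
  have h1 := FF.noether hK hC hg' hnh' m hy
  have h2 : ∀ y ∈ FunFld.L C * FunFld.L (m • C),
      (f * a⁻¹)⁻¹ * y ∈ FunFld.L (m • C + FunFld.div k f) * FunFld.L (C + FunFld.div k a⁻¹) := by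
    intro y hy
    induction hy using Submodule.mul_induction_on' with
    | mem_mul_mem p hp q hq =>
      rw [show (f * a⁻¹)⁻¹ * (p * q) = (f⁻¹ * q) * (a * p) by field_simp]
      refine Submodule.mul_mem_mul ?_ ?_
      · rw [FF.mul_mem_L_iff hK (inv_ne_zero hf), FF.div_inv hK.1, add_neg_cancel_right]
        exact hq
      · rw [FF.mul_mem_L_iff hK ha, FF.div_inv hK.1, neg_add_cancel_right]
        exact hp
    | add p _ q _ hp hq => rw [mul_add]; exact add_mem hp hq
  have := h2 _ h1
  rwa [inv_mul_cancel_left₀ (mul_ne_zero hf (inv_ne_zero ha))] at this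

end Groth.Agent.S16315
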