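import Groth.Statements.S16317
import Groth.Agent.FFCurve.CliffTwo
import Groth.Agent.FFCurve.CliffOneCurve

set_option autoImplicit false
open CategoryTheory CategoryTheory.Limits AlgebraicGeometry
universe u
open Curves

set_option linter.style.haveILetI false
set_option backward.isDefEq.respectTransparency false
set_option backward.isDefEq.respectTransparency.types false
open AlgebraicGeometry
namespace Groth.Agent.S16317

/-- Let k be an algebraically closed field of characteristic zero and X a smooth proper integral curve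
over k (integral, proper and smooth over k, of dimension one) of genus 9 whose Clifford index is 2:
some invertible module M with h^0(M) ≥ 2 and h^1(M) ≥ 2 has deg M − 2(h^0(M) − 1) = 2, and every
invertible module M with h^0(M) ≥ 2 and h^1(M) ≥ 2 has deg M − 2(h^0(M) − 1) ≥ 2 (degrees are χ(M) −
χ(O_X); in particular X is not hyperelliptic). Then X is tetragonal: it carries a g^1_4, an
invertible module of degree 4 together with two k-linearly independent global sections. -/
theorem result
    (k : Type u) [Field k] [IsAlgClosed k] [CharZero k]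
    (X : Scheme.{u}) [X.Over (Spec (CommRingCat.of k))] [IsIntegral X]
    [IsProper (X ↘ Spec (CommRingCat.of k))] [Smooth (X ↘ Spec (CommRingCat.of k))]
    (hdim : topologicalKrullDim X = 1) (hg : Curv2.genus k X = 9)
    (hex : ∃ M : X.Modules, PicF.IsInvertible M ∧ 2 ≤ Module.finrank k (Coh.HH X M 0) ∧
      2 ≤ Module.finrank k (Coh.HH X M 1) ∧ Curv2.deg k X M 1 = 2 * (Module.finrank k (Coh.HH X M 0) : ℤ))
    (hmin : ∀ M : X.Modules, PicF.IsInvertible M → 2 ≤ Module.finrank k (Coh.HH X M 0) →
      2 ≤ Module.finrank k (Coh.HH X M 1) → 2 * (Module.finrank k (Coh.HH X M 0) : ℤ) ≤ Curv2.deg k X M 1) :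
    ∃ (L : X.Modules) (s : Fin (1 + 1) → LinSer.Sect X L), LinSer.IsLinSer k X L 4 1 s := by
  haveI := FFCurve.regCurve_of_smooth (X := X) k hdim
  have hK := FFCurve.isFunctionField_of_isAlgClosed (X := X) k hdim
  have hgen := FFCurve.genus_eq_genus (X := X) k hdim hK
  obtain ⟨C, hC⟩ := FF.exists_canonical hK
  have hlift : ∀ E : FunFld.Divisor k X.functionField, ∃ (M : X.Modules) (_ : PicF.IsInvertible M),
      Module.finrank k (Coh.HH X M 0) = FunFld.ell E ∧
      (Module.finrank k (Coh.HH X M 1) : ℤ) = FunFld.ell (C - E) ∧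
        Curv2.deg k X M 1 = E.deg := by
    intro E
    obtain ⟨M, hM, a, ha, hMD⟩ := FFCurve.exists_divOf_eq k hdim E
    have hlE : FunFld.ell (FFCurve.divOf k hdim hM) = FunFld.ell E := by
      rw [hMD, sub_eq_add_neg, ← FF.div_inv hK.1, FF.ell_add_div hK (inv_ne_zero ha)]
    have hdE : (FFCurve.divOf k hdim hM).deg = E.deg := by rw [hMD, FF.deg_sub, FF.deg_div hK.1, sub_zero]
    refine ⟨M, hM, by rw [FFCurve.finrank_zero k hdim hK hM, hlE], ?_, by rw [FFCurve.deg_eq k hdim hK hM, hdE]⟩
    have hrr := FF.riemann_roch hK hC E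
    rw [FFCurve.finrank_one k hdim hK hM, hlE, hdE]
    omega
  obtain ⟨M₀, hM₀, a0, a1, ad⟩ := hex
  have hrr₀ := FF.riemann_roch hK hC (FFCurve.divOf k hdim hM₀)
  have e1 := FFCurve.finrank_one k hdim hK hM₀
  rw [FFCurve.finrank_zero k hdim hK hM₀] at a0 ad
  rw [FFCurve.deg_eq k hdim hK hM₀] at ad
  obtain ⟨E, hEd, hEl⟩ := FF.exists_tetragonal hK hC (fun E h1 h2 => by
      obtain ⟨M, hM, f0, f1, fd⟩ := hlift E
      have := hmin M hM (by omega) (by omega)
      omega)
    two_ne_zero (by omega) ⟨_, a0, by omega, ad⟩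
  obtain ⟨M, hM, f0, -, fd⟩ := hlift E
  obtain ⟨s, hs⟩ := FFCurve.exists_linSer k hdim hM (n := 4) fd (by rw [hEd]; norm_num) (by omega)
  exact ⟨M, s, hs⟩

end Groth.Agent.S16317
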