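import Groth.Statements.S1632
import Groth.Agent.S1597
import Groth.Agent.S1599
import Groth.Agent.S1600
import Groth.Agent.S2102
import Groth.Agent.CplBC.Sections
import Groth.Agent.EGA4Lib.CompletionFinite

set_option linter.style.haveILetI false
set_option backward.isDefEq.respectTransparency false
set_option backward.isDefEq.respectTransparency.types false

set_option autoImplicit false
universe u
open CategoryTheory CategoryTheory.Limits AlgebraicGeometry
open Resolve

namespace Groth.Agent.S1632

/-- Let (A, m) be a Noetherian local domain such that Spec A admits an alteration X → Spec A with X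
regular, and let B be the integral closure of A in its fraction field. Then the m-adic completion of
B is a normal ring. -/
theorem result (A : Type u) [CommRing A] [IsDomain A] [IsLocalRing A] [IsNoetherianRing A]
    (X : Scheme.{u}) (f : X ⟶ Spec (CommRingCat.of A)) (hf : Curv2.IsAlteration f)
    (hreg : ∀ x : X, IsRegularLocalRing (X.presheaf.stalk x)) :
    EGA4.IsNormalRing (AdicCompletion ((IsLocalRing.maximalIdeal A).map
      (algebraMap A (integralClosure A (FractionRing A)))) (integralClosure A (FractionRing A))) := by
  classical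
  have hp := hf.1
  haveI := hf.1
  haveI := hf.2.1
  haveI := hf.2.2.2.1
  haveI := IsSchemeTheoreticallyDominant.of_isDominant f
  haveI : IsLocallyNoetherian X := LocallyOfFiniteType.isLocallyNoetherian f
  haveI : CompactSpace X := QuasiCompact.compactSpace_of_compactSpace f
  haveI : IsNoetherian X := {}
  have hnorm : ∀ {R : Type u} [CommRing R] [IsRegularLocalRing R], IsDomain R ∧ IsIntegrallyClosed R :=
    fun {R} _ _ => by
      obtain ⟨h1, h2⟩ := Groth.Agent.S2821.result R
      exact ⟨h1, inferInstance⟩
  have hXn : Pi1.IsNormalScheme X := fun x => haveI := hreg x; hnorm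
  let C : Type u := Γ(X, ⊤)
  letI : Algebra A C := (Coh.toGlobal f).toAlgebra
  haveI : Module.Finite A C := RingHom.finite_algebraMap.1 (Hens.CoupleProper.finite_toGlobal f)
  haveI : IsIntegrallyClosed C := Groth.Agent.S2102.result X hXn
  have hinj : Function.Injective (algebraMap A C) :=
    (f.app_injective ⊤).comp (Scheme.ΓSpecIso (CommRingCat.of A)).symm.commRingCatIsoToRingEquiv.injective
  let K := FractionRing A
  let B : Type u := integralClosure A K
  let L := FractionRing C
  have hinjL : Function.Injective (algebraMap A L) := by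
    rw [IsScalarTower.algebraMap_eq A C L]
    exact (IsFractionRing.injective C L).comp hinj
  let ψ : K →ₐ[A] L := IsFractionRing.liftAlgHom (K := K) (g := Algebra.ofId A L) hinjL
  have hmem : ∀ z : B, ∃ c : C, algebraMap C L c = ψ z.1 := fun z =>
    IsIntegrallyClosed.algebraMap_eq_of_integral ((z.2.map ψ).tower_top)
  choose g hg using hmem
  have hgl : ∀ z, algebraMap C L (g z) = ψ z.1 := hg
  have hCL := IsFractionRing.injective C L
  let G : B →ₐ[A] C :=
    { toFun := g
      map_one' := hCL (by rw [hgl, map_one]; exact map_one ψ)
      map_mul' := fun x y => hCL (by rw [map_mul, hgl, hgl, hgl]; exact map_mul ψ _ _)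
      map_zero' := hCL (by rw [hgl, map_zero]; exact map_zero ψ)
      map_add' := fun x y => hCL (by rw [map_add, hgl, hgl, hgl]; exact map_add ψ _ _)
      commutes' := fun a => hCL (by rw [hgl, ← IsScalarTower.algebraMap_apply A C L]; exact ψ.commutes a) }
  letI : Algebra B C := G.toRingHom.toAlgebra
  haveI : IsScalarTower A B C := IsScalarTower.of_algebraMap_eq fun a => (G.commutes a).symm
  haveI : Module.Finite A B := (Groth.Agent.S1600.result A X f hf hreg).1
  haveI : IsNoetherianRing (Curv2.cpl A) :=
    Groth.Agent.RegLoc.Completion.isNoetherianRing_adicCompletion' (IsLocalRing.maximalIdeal A)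
  haveI : IsLocallyNoetherian (Curv2.bcCpl A f) := LocallyOfFiniteType.isLocallyNoetherian (Curv2.bcCplSnd A f)
  haveI : CompactSpace (Curv2.bcCpl A f) := QuasiCompact.compactSpace_of_compactSpace (Curv2.bcCplSnd A f)
  haveI : IsNoetherian (Curv2.bcCpl A f) := {}
  have hbn : Pi1.IsNormalScheme (Curv2.bcCpl A f) := fun y =>
    haveI := (Groth.Agent.S1597.result A X f).1 hreg y; hnorm
  obtain ⟨e₁⟩ := CplBC.nonempty_sections_equiv A f
  obtain ⟨e₂⟩ := EGA4Lib.nonempty_adicCompletion_finite (IsLocalRing.maximalIdeal A) C
    ((IsLocalRing.maximalIdeal A).map (algebraMap A C)) rfl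
  have hC := EGA4Lib.isNormalRing_of_ringEquiv (e₁.trans e₂.symm.toRingEquiv)
    (CplBC.isNormalRing_sections _ hbn)
  exact Groth.Agent.S1599.result A B C
    (fun x y h => Subtype.ext (ψ.toRingHom.injective (by
      show ψ x.1 = ψ y.1
      rw [← hgl, ← hgl]; exact congrArg _ h)))
    (haveI : IsIntegrallyClosed B := integralClosure.isIntegrallyClosedOfFiniteExtension K (L := K)
     GeomFieldLib.isNormalRing_of_isDomain B) hC

end Groth.Agent.S1632
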