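import Groth.Statements.S16320
import Groth.Agent.JacPts.CliffG9

set_option autoImplicit false
open CategoryTheory CategoryTheory.Limits AlgebraicGeometry
universe u
open Curves
set_option backward.isDefEq.respectTransparency false
set_option backward.isDefEq.respectTransparency.types false
set_option maxHeartbeats 800000
open FunFld Groth.Agent Groth.Agent.FFCurve Groth.Agent.JacPts

namespace Groth.Agent.S16320

/-- Let k be an algebraically closed field of characteristic zero and X a smooth proper integral curve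
over k (integral, proper and smooth over k, of dimension one) of genus 9 whose Clifford index is 3:
some invertible module M with h^0(M) ≥ 2 and h^1(M) ≥ 2 has deg M − 2(h^0(M) − 1) = 3, and every
invertible module M with h^0(M) ≥ 2 and h^1(M) ≥ 2 has deg M − 2(h^0(M) − 1) ≥ 3 (degrees are χ(M) −
χ(O_X); in particular X is not hyperelliptic), and let D be a globally generated invertible module
of degree 5 with h^0(D) = 2 (a base-point-free complete g^1_5). Then h^0(D^{⊗2}) is 3 or 4,
h^0(D^{⊗3}) is 7 or 8, and h^0(D^{⊗3}) = 7 whenever h^0(D^{⊗2}) = 3. (The published statement says,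
equivalently by Riemann–Roch applied to the numbers h^0(K − iD) − h^0(K − (i+1)D) for a canonical
module K, that the rational normal fourfold scroll formed by the linear spans of the pencil's
divisors in the canonical embedding has type S(2,1,1,1), S(2,2,1,0) or S(3,1,1,0); the scroll itself
is not restated here.) -/
theorem result
    (k : Type u) [Field k] [IsAlgClosed k] [CharZero k]
    (X : Scheme.{u}) [X.Over (Spec (CommRingCat.of k))] [IsIntegral X]
    [IsProper (X ↘ Spec (CommRingCat.of k))] [Smooth (X ↘ Spec (CommRingCat.of k))]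
    (hdim : topologicalKrullDim X = 1) (hg : Curv2.genus k X = 9)
    (hex : ∃ M : X.Modules, PicF.IsInvertible M ∧ 2 ≤ Module.finrank k (Coh.HH X M 0) ∧
      2 ≤ Module.finrank k (Coh.HH X M 1) ∧ Curv2.deg k X M 1 = 2 * (Module.finrank k (Coh.HH X M 0) : ℤ) + 1)
    (hmin : ∀ M : X.Modules, PicF.IsInvertible M → 2 ≤ Module.finrank k (Coh.HH X M 0) →
      2 ≤ Module.finrank k (Coh.HH X M 1) → 2 * (Module.finrank k (Coh.HH X M 0) : ℤ) + 1 ≤ Curv2.deg k X M 1)
    (D : X.Modules) (hD : PicF.IsInvertible D) (hgD : Curv2.IsGloballyGenerated D)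
    (hdD : Curv2.deg k X D 1 = 5) (h0D : Module.finrank k (Coh.HH X D 0) = 2) :
    (Module.finrank k (Coh.HH X (CohB1.tensorPow D 2) 0) = 3 ∨
        Module.finrank k (Coh.HH X (CohB1.tensorPow D 2) 0) = 4) ∧
      (Module.finrank k (Coh.HH X (CohB1.tensorPow D 3) 0) = 7 ∨
        Module.finrank k (Coh.HH X (CohB1.tensorPow D 3) 0) = 8) ∧
      (Module.finrank k (Coh.HH X (CohB1.tensorPow D 2) 0) = 3 →
        Module.finrank k (Coh.HH X (CohB1.tensorPow D 3) 0) = 7) := by
  haveI := regCurve_of_smooth (X := X) k hdim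
  have hK := isFF' (X := X) k hdim
  have hg9 := CliffG9.genus_ff k hdim hg
  rw [finrank_zero k hdim hK hD] at h0D
  rw [deg_eq k hdim hK hD] at hdD
  have hpow : ∀ n, Module.finrank k (Coh.HH X (CohB1.tensorPow D n) 0) = ell (n • divOf k hdim hD) := fun n => by
    rw [finrank_zero k hdim hK (AmpleLib.isInvertible_tensorPow hD n),
      DivEq.ell_eq k hdim (divEq_tensorPow k hdim hD (divEq_refl k hdim _) n)]
  rw [hpow 2, hpow 3]
  set E := divOf k hdim hD
  rw [two_nsmul, show (3 : ℕ) • E = E + E + E from by rw [succ_nsmul, two_nsmul]]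
  have h1 := Pencil.two_mul_ell_le k hdim h0D (Pencil.ell_sub_lt_of_globGen k hdim hD hgD) E
  rw [h0D, sub_self, FF.ell_zero hK] at h1
  have h2 := CliffG9.ell_le_of_deg_ten k hdim hg hmin (D := E + E) (by rw [FF.deg_add, hdD]; rfl)
  obtain ⟨W, hW⟩ := FF.exists_canonical hK
  have hdW := FF.deg_canonical hK hW
  have r2 := rr k hdim hW (E + E)
  have r3 := rr k hdim hW (E + E + E)
  rw [FF.deg_add, hdD, hg9] at r2
  rw [FF.deg_add, FF.deg_add, hdD, hg9] at r3
  have h3 : ell (W - (E + E + E)) ≤ 1 := FF.ell_le_one_of_deg_one hK (by omega) (by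
    rw [FF.deg_sub, FF.deg_add, FF.deg_add, hdD, hdW, hg9]; rfl)
  refine ⟨by omega, by omega, fun h => ?_⟩
  by_contra h8
  obtain ⟨P, -⟩ := exists_place_not_mem hK (∅ : Finset (Place k X.functionField))
  have h4 := FF.ell_add_ell_le hK (FF.deg_eq_one hK P) (A := E) (B := W - (E + E + E)) (by omega) (by omega)
  rw [show E + (W - (E + E + E)) = W - (E + E) from by abel] at h4
  omega

end Groth.Agent.S16320
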