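import Groth.Statements.S16324
import Groth.Agent.GrSyz.DepthPd
import Groth.Agent.GrSyz.StdField
import Groth.Agent.GrLC.PolyChar
-- import your own Groth.Agent.* helpers here

set_option autoImplicit false
set_option maxRecDepth 20000
universe u
open GrSyz

namespace Groth.Agent.S16324

/-- Let k be an algebraically closed field of characteristic zero, S = k[x_0, …, x_n] graded by degree,
𝔪 = (x_0, …, x_n), and M a finitely generated ℤ-graded S-module which is Cohen–Macaulay: the Krull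
dimension of its support equals its 𝔪-depth. Let F be a minimal graded free resolution of M of
length exactly ℓ (F_ℓ ≠ 0, F_i = 0 for i > ℓ; so ℓ = pd M) and let ρ be its regularity: every basis
vector of F_i has degree at most ρ + i, with equality for some i and some basis vector (so ρ = reg
M). Let P be the Hilbert polynomial of M, i.e. a polynomial over ℚ with dim_k M_d = P(d) for all
sufficiently large d. Then dim_k M_d ≠ P(d) for d = ρ + ℓ − n − 1: the bound d ≥ reg M + pd M − n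
beyond which the Hilbert function agrees with the Hilbert polynomial is sharp for Cohen–Macaulay
modules. (Part (1) of the published statement, the agreement for d ≥ reg M + pd M − n, follows from
the agreement for d at least the largest generator degree minus n and is not restated.) -/
theorem result (k : Type u) [Field k] [IsAlgClosed k] [CharZero k] (n : ℕ)
    (M : Type u) [AddCommGroup M] [Module k M] [Module (MvPolynomial (Fin (n + 1)) k) M]
    [IsScalarTower k (MvPolynomial (Fin (n + 1)) k) M] [Module.Finite (MvPolynomial (Fin (n + 1)) k) M]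
    (ℳ : ℤ → Submodule k M) [DirectSum.Decomposition ℳ] [SetLike.GradedSMul (GrSyz.stdGr k (Fin (n + 1))) ℳ]
    (hCM : Module.supportDim (MvPolynomial (Fin (n + 1)) k) M = ((LocCoh.idealDepth (GrSyz.irrel (GrSyz.stdGr k (Fin (n + 1)))).toIdeal M : ℕ∞) : WithBot ℕ∞))
    (F : GrSyz.FreeRes (GrSyz.stdGr k (Fin (n + 1))) ℳ) (hF : F.IsMinimal (GrSyz.irrel (GrSyz.stdGr k (Fin (n + 1)))).toIdeal)
    (ℓ : ℕ) (hℓ : F.HasLengthLE ℓ) (hℓ' : F.rk ℓ ≠ 0)
    (ρ : ℤ) (hρ : F.IsGenLE ρ) (hρ' : ∃ (i : ℕ) (b : Fin (F.rk i)), F.deg i b = ρ + i)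
    (P : Polynomial ℚ) (hP : ∃ d₁ : ℤ, ∀ d : ℤ, d₁ ≤ d → ((Module.finrank k ↥(ℳ d) : ℤ) : ℚ) = P.eval (d : ℚ)) :
    ((Module.finrank k ↥(ℳ (ρ + ℓ - n - 1)) : ℤ) : ℚ) ≠ P.eval ((ρ + ℓ - n - 1 : ℤ) : ℚ) := by
  have hAB := Groth.Agent.GrSyz.idealDepth_eq F hF hℓ hℓ'
  have hlN : ℓ ≤ n + 1 := by
    have h : (ℓ : ℕ∞) ≤ ((n + 1 : ℕ) : ℕ∞) := hAB ▸ le_self_add
    exact_mod_cast h
  obtain ⟨δ, hδ⟩ : ∃ δ, δ + ℓ = n + 1 := ⟨n + 1 - ℓ, by omega⟩
  have hdep : LocCoh.idealDepth (GrSyz.irrel (GrSyz.stdGr k (Fin (n + 1)))).toIdeal M = (δ : ℕ∞) := by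
    have hc : ((n + 1 : ℕ) : ℕ∞) = (ℓ : ℕ∞) + (δ : ℕ∞) := by
      rw [← Nat.cast_add]; exact congrArg Nat.cast (by omega)
    exact WithTop.add_left_cancel (WithTop.natCast_ne_top ℓ) (hAB.trans hc)
  rw [hdep] at hCM
  haveI := Groth.Agent.GrSyz.isArtinianRing_deg0_stdGr k (n + 1)
  have hpos := Groth.Agent.GrSyz.stdGr_eq_zero_of_neg (k := k) (σ := Fin (n + 1))
  have hm := Groth.Agent.GrLC.isStarLocal_irrel hpos (Groth.Agent.GrSyz.isField_deg0_stdGr k (n + 1))
  have hdS : ringKrullDim (MvPolynomial (Fin (n + 1)) k) = (n + 1 : ℕ) := by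
    rw [MvPolynomial.ringKrullDim_of_isNoetherianRing, ringKrullDim_eq_zero_of_field]
    simp
  let X := Groth.Agent.GrLC.toGMod (GrSyz.stdGr k (Fin (n + 1))) ℳ
  let t : M →ₗ[MvPolynomial (Fin (n + 1)) k] X.carrier := LinearMap.id
  have ht : GrLC.IsGrHom ℳ X.gr t := fun _ _ h => h
  have hX : Module.Finite (MvPolynomial (Fin (n + 1)) k) X.carrier :=
    inferInstanceAs (Module.Finite (MvPolynomial (Fin (n + 1)) k) M)
  -- all local cohomology away from `δ` vanishes
  have hvan : ∀ (i : ℕ), i ≠ δ → ∀ e, Groth.Agent.GrLC.LC.gr ℳ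
      (GrSyz.irrel (GrSyz.stdGr k (Fin (n + 1)))) i e = ⊥ := by
    intro i hi e
    rcases Nat.lt_or_gt_of_ne hi with h | h
    · exact Groth.Agent.GrSyz.gr_eq_bot_of_lt F hℓ (by omega) e
    · haveI := Groth.Agent.LocCoh.subsingleton_H_of_supportDim_lt
        (GrSyz.irrel (GrSyz.stdGr k (Fin (n + 1)))).toIdeal (δ + 1) M
        (by rw [hCM]; exact_mod_cast Nat.lt_succ_self δ) i h
      exact (AddSubgroup.eq_bot_iff_forall _).2 fun y _ => Subsingleton.elim y 0
  -- the critical piece is nonzero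
  have hne : Groth.Agent.GrLC.LC.gr ℳ (GrSyz.irrel (GrSyz.stdGr k (Fin (n + 1)))) δ (ρ - δ) ≠ ⊥ := by
    intro hb
    obtain ⟨i, b, hib⟩ := hρ'
    have := Groth.Agent.GrSyz.isGenLE_of_gr_eq_bot F hF (d := ρ - 1) (fun p e he => by
      by_cases hp : p = δ
      · subst hp
        by_cases he' : e = ρ - p
        · rw [he']; exact hb
        · exact Groth.Agent.GrSyz.gr_eq_bot_of_isGenLE F hℓ hρ (by omega)
      · exact hvan p hp e) i b
    have h2 : F.deg i b ≤ ρ - 1 + (i : ℤ) := this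
    omega
  have hlen : ∀ e, (Groth.Agent.GrLC.mlen X e : ℚ) = ((Module.finrank k ↥(ℳ e) : ℤ) : ℚ) := by
    intro e
    haveI : Module.Finite k (ℳ e) :=
      Module.Finite.of_surjective _ (Groth.Agent.GrSyz.augPiece_surjective F e)
    rw [Int.cast_natCast]
    exact congrArg _ ((Groth.Agent.GrLC.PolyChar.mlen_toGMod ℳ e).trans
      (Groth.Agent.GrLC.PolyChar.length_toNat_eq_finrank (S := MvPolynomial (Fin (n + 1)) k)
        (GrLC.deg0 (GrSyz.stdGr k (Fin (n + 1)))) (Groth.Agent.GrSyz.mem_deg0_stdGr_iff k (n + 1))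
        (GrLC.comp (GrSyz.stdGr k (Fin (n + 1))) ℳ e) (ℳ e) fun _ => Iff.rfl))
  obtain ⟨d₁, hd₁⟩ := hP
  have hHS := Groth.Agent.GrLC.hilbertSerre hpos _ hm hdS X hX P
    ⟨d₁, fun e he => by rw [hlen, hd₁ e he]⟩ (ρ + ℓ - n - 1)
  rw [Finset.sum_eq_single δ (fun j _ hj => by
      rw [Groth.Agent.GrLC.hlen_eq_zero _ ((Groth.Agent.GrLC.LC.gr_eq_bot_iff_of_bijective (f := t)
        (GrSyz.irrel (GrSyz.stdGr k (Fin (n + 1)))) j Function.bijective_id ht _).1 (hvan j hj _))]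
      simp) (fun h => absurd (Finset.mem_range.2 (by omega)) h), hlen] at hHS
  intro heq
  rw [heq, sub_self] at hHS
  have h0 : Groth.Agent.GrLC.hlen (GrSyz.irrel (GrSyz.stdGr k (Fin (n + 1)))) X δ (ρ + ℓ - n - 1) = 0 := by
    exact_mod_cast (mul_eq_zero.1 hHS.symm).resolve_left (pow_ne_zero δ (by norm_num))
  refine hne ?_
  rw [show ρ - (δ : ℤ) = ρ + ℓ - n - 1 by omega]
  exact (Groth.Agent.GrLC.LC.gr_eq_bot_iff_of_bijective (f := t) _ δ Function.bijective_id ht _).2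
    ((Groth.Agent.GrLC.hlen_eq_zero_iff hpos _ hm X hX δ _).1 h0)

end Groth.Agent.S16324
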