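import Groth.Statements.S16325
import Groth.Agent.BiextChow.HomologyElem

set_option autoImplicit false
universe u v
open CategoryTheory
open W4c3biextchow

namespace Groth.Agent.S16325

/-- Let f : C ⟶ D be a chain map of ℕ-indexed chain complexes of modules over a ring R, and consider the
functor it induces between the groupoids attached to C and D (objects: degree-0 elements; morphisms
a ⟶ b: degree-1 elements with boundary b - a, modulo boundaries of degree-2 elements). This functor
is faithful if and only if f is injective on homology in degree 1. (The published statement is for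
complexes of abelian groups; this row allows modules over any ring R.) -/
theorem result
    (R : Type u) [Ring R] (C D : ChainComplex (ModuleCat.{v} R) ℕ) (f : C ⟶ D) :
    (W4c3biextchow.cxFunctor f).Faithful ↔ Mono (HomologicalComplex.homologyMap f 1) := by
  rw [BiextChow.mono_homologyMap_one_iff]
  constructor
  · rintro hF x hx ⟨y, hy⟩
    let a : Obj C := ⟨0⟩
    let φ : Hom C a a := ⟨Submodule.Quotient.mk x, by simp [hx, a]⟩
    have h : (φ : a ⟶ a) = 𝟙 a := (cxFunctor f).map_injective (Hom.ext (by
      rw [cxFunctor_map_cl, cxFunctor_map_cl, id_cl, map_zero, q1Map_mk,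
        Submodule.Quotient.mk_eq_zero]
      exact ⟨y, hy⟩))
    have h' : (Submodule.Quotient.mk x : Q1 C) = 0 := congrArg (fun ψ : Hom C a a => ψ.cl) h
    exact (Submodule.Quotient.mk_eq_zero _).1 h'
  · intro hm
    refine ⟨fun {a b} φ ψ h => ?_⟩
    have h' : q1Map f (φ : Hom C a b).cl = q1Map f (ψ : Hom C a b).cl :=
      congrArg (fun χ : Hom D _ _ => χ.cl) h
    obtain ⟨x, hx⟩ := Submodule.Quotient.mk_surjective _ ((φ : Hom C a b).cl - (ψ : Hom C a b).cl)
    have h1 : (C.d 1 0).hom x = 0 := by
      rw [← delta_mk, hx, map_sub, (φ : Hom C a b).delta_cl, (ψ : Hom C a b).delta_cl, sub_self]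
    have h2 : (Submodule.Quotient.mk ((f.f 1).hom x) : Q1 D) = 0 := by
      rw [← q1Map_mk, hx, map_sub, h', sub_self]
    obtain ⟨w, hw⟩ := hm x h1 ((Submodule.Quotient.mk_eq_zero _).1 h2)
    refine Hom.ext (sub_eq_zero.1 ?_)
    rw [← hx, Submodule.Quotient.mk_eq_zero]
    exact ⟨w, hw⟩

end Groth.Agent.S16325
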