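import Groth.Statements.S16326
import Groth.Agent.BiextChow.HomologyElem

set_option autoImplicit false
universe u v
open CategoryTheory
open W4c3biextchow

namespace Groth.Agent.S16326

/-- Let f : C ⟶ D be a chain map of ℕ-indexed chain complexes of modules over a ring R, and consider the
functor it induces between the groupoids attached to C and D (objects: degree-0 elements; morphisms
a ⟶ b: degree-1 elements with boundary b - a, modulo boundaries of degree-2 elements). This functor
is full if and only if f is surjective on homology in degree 1 and injective on homology in degree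
0. (The published statement is for complexes of abelian groups; this row allows modules over any
ring R.) -/
theorem result
    (R : Type u) [Ring R] (C D : ChainComplex (ModuleCat.{v} R) ℕ) (f : C ⟶ D) :
    (W4c3biextchow.cxFunctor f).Full ↔
      Epi (HomologicalComplex.homologyMap f 1) ∧ Mono (HomologicalComplex.homologyMap f 0) := by
  rw [BiextChow.epi_homologyMap_one_iff, BiextChow.mono_homologyMap_zero_iff]
  constructor
  · intro hF
    refine ⟨fun y hy => ?_, ?_⟩
    · let a : Obj C := ⟨0⟩
      let ψ : Hom D ((cxFunctor f).obj a) ((cxFunctor f).obj a) :=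
        ⟨Submodule.Quotient.mk y, by simp [hy]⟩
      obtain ⟨φ, hφ⟩ := (cxFunctor f).map_surjective (X := a) (Y := a) ψ
      obtain ⟨x, hx⟩ := Submodule.Quotient.mk_surjective _ (φ : Hom C a a).cl
      have h1 : (C.d 1 0).hom x = 0 := by
        rw [← delta_mk, hx, (φ : Hom C a a).delta_cl, sub_self]
      have h2 : q1Map f (φ : Hom C a a).cl = Submodule.Quotient.mk y :=
        congrArg (fun χ : Hom D _ _ => χ.cl) hφ
      rw [← hx, q1Map_mk, eq_comm, Submodule.Quotient.eq] at h2
      obtain ⟨w, hw⟩ := h2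
      exact ⟨x, h1, w, by rw [hw]; abel⟩
    · rintro x ⟨y, hy⟩
      let a : Obj C := ⟨0⟩
      let b : Obj C := ⟨x⟩
      let ψ : Hom D ((cxFunctor f).obj a) ((cxFunctor f).obj b) :=
        ⟨Submodule.Quotient.mk y, by simp [hy, a, b]⟩
      obtain ⟨φ, -⟩ := (cxFunctor f).map_surjective (X := a) (Y := b) ψ
      obtain ⟨w, hw⟩ := Submodule.Quotient.mk_surjective _ (φ : Hom C a b).cl
      exact ⟨w, by rw [← delta_mk, hw, (φ : Hom C a b).delta_cl]; simp [a, b]⟩
  · rintro ⟨he, hm⟩
    refine ⟨fun {a b} ψ => ?_⟩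
    obtain ⟨y, hy⟩ := Submodule.Quotient.mk_surjective _ (ψ : Hom D _ _).cl
    have hd : (D.d 1 0).hom y = (f.f 0).hom (b.pt - a.pt) := by
      rw [← delta_mk, hy, (ψ : Hom D _ _).delta_cl]; simp
    obtain ⟨x₀, hx₀⟩ := hm _ ⟨y, hd⟩
    have hc : (D.d 1 0).hom ((f.f 1).hom x₀) = (f.f 0).hom (b.pt - a.pt) := by
      rw [← hx₀]; exact congrArg (fun χ => χ.hom x₀) (f.comm 1 0)
    obtain ⟨x, hx, w, hw⟩ := he (y - (f.f 1).hom x₀) (by rw [map_sub, hd, hc, sub_self])
    refine ⟨(⟨Submodule.Quotient.mk (x₀ + x), by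
      rw [delta_mk, map_add, hx₀, hx, add_zero]⟩ : Hom C a b), Hom.ext ?_⟩
    rw [cxFunctor_map_cl, ← hy, q1Map_mk, Submodule.Quotient.eq]
    refine ⟨-w, ?_⟩
    have hy' : y = (f.f 1).hom x + (D.d 2 1).hom w + (f.f 1).hom x₀ := by rw [hw, sub_add_cancel]
    rw [map_neg, hy', map_add]; abel

end Groth.Agent.S16326
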