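import Groth.Statements.S1633
import Groth.Agent.NormFinCpl.Scheme
import Groth.Agent.S0566
import Groth.Agent.S9407
import Mathlib.AlgebraicGeometry.Morphisms.Etale

set_option linter.style.haveILetI false
set_option backward.isDefEq.respectTransparency false
set_option backward.isDefEq.respectTransparency.types false

open TensorProduct TopologicalSpace

set_option autoImplicit false
universe u
open CategoryTheory CategoryTheory.Limits AlgebraicGeometry
open Resolve

namespace Groth.Agent.S1633

/-- Let (A, m) be a Noetherian local ring whose m-adic completion is reduced, and X an integral scheme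
locally of finite type over Spec A such that some open neighbourhood of the generic point of X is
étale over Spec A. Then the normalization morphism of X is finite. -/
theorem result (A : Type u) [CommRing A] [IsLocalRing A] [IsNoetherianRing A]
    [IsReduced (AdicCompletion (IsLocalRing.maximalIdeal A) A)]
    (X : Scheme.{u}) [IsIntegral X] (f : X ⟶ Spec (CommRingCat.of A)) [LocallyOfFiniteType f]
    (U : X.Opens) (hU : genericPoint X ∈ U) [Etale (U.ι ≫ f)]
    [QuasiCompact (X.fromSpecStalk (genericPoint X))] [QuasiSeparated (X.fromSpecStalk (genericPoint X))] :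
    IsFinite (Curv2.normalizationι X) := by
  refine NormFinCpl.isFinite_normalizationι X fun V hV hne => ?_
  haveI := functionField_isFractionRing_of_isAffineOpen X V hV
  let B : Type u := Γ(X, V)
  letI : Algebra A B := (NormFinCpl.strHom f hV).toAlgebra
  haveI : Algebra.FiniteType A B := NormFinCpl.finiteType_strHom f hV
  haveI : IsDomain B := IsIntegral.component_integral V
  have hgV : genericPoint X ∈ V := by
    obtain ⟨⟨x, hx⟩⟩ := hne
    exact (genericPoint_specializes x).mem_open V.2 hx
  obtain ⟨b, hbU, hgb⟩ := hV.exists_basicOpen_le (V := U) ⟨genericPoint X, hU⟩ hgV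
  let R := Localization.Away b
  have hb0 : b ≠ 0 := by
    rintro rfl
    rw [Scheme.basicOpen_zero] at hgb
    exact hgb.elim
  let j : Spec (CommRingCat.of R) ⟶ X := Spec.map (CommRingCat.ofHom (algebraMap B R)) ≫ hV.fromSpec
  haveI : IsOpenImmersion (Spec.map (CommRingCat.ofHom (algebraMap B R))) :=
    IsOpenImmersion.of_isLocalization b
  haveI : IsOpenImmersion j := inferInstance
  have hj : Set.range j ⊆ Set.range U.ι := by
    rintro _ ⟨z, rfl⟩
    rw [Scheme.Opens.range_ι]
    refine hbU ?_
    rw [← hV.fromSpec_image_basicOpen]
    refine ⟨Spec.map (CommRingCat.ofHom (algebraMap B R)) z, ?_, rfl⟩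
    have : Spec.map (CommRingCat.ofHom (algebraMap B R)) z ∈ Set.range (PrimeSpectrum.comap (algebraMap B R)) := ⟨z, rfl⟩
    rw [PrimeSpectrum.localization_away_comap_range R b] at this
    exact this
  haveI : Etale (j ≫ f) := by
    rw [← IsOpenImmersion.lift_fac U.ι j hj, Category.assoc]
    infer_instance
  have hRf : Spec.map (CommRingCat.ofHom (algebraMap A R)) = j ≫ f := by
    rw [Category.assoc, ← NormFinCpl.map_strHom f hV, ← Spec.map_comp]
    rfl
  haveI : Algebra.Etale A R := RingHom.etale_algebraMap.1
    ((HasRingHomProperty.Spec_iff (P := @Etale) (φ := CommRingCat.ofHom (algebraMap A R))).1 (hRf ▸ inferInstance))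
  haveI : Algebra.Smooth A R := inferInstance
  haveI : IsReduced (Curv2.cpl A ⊗[A] R) := Groth.Agent.S9407.result (Curv2.cpl A) _
  haveI : Module.Flat A (Curv2.cpl A) := AdicCompletion.flat_of_isNoetherian _
  haveI : IsReduced (B ⊗[A] Curv2.cpl A) := by
    let φ : B ⊗[A] Curv2.cpl A →ₐ[A] R ⊗[A] Curv2.cpl A :=
      Algebra.TensorProduct.map (IsScalarTower.toAlgHom A B R) (AlgHom.id A _)
    have hφ : Function.Injective φ := Module.Flat.rTensor_preserves_injective_linearMap
      (M := Curv2.cpl A) (IsScalarTower.toAlgHom A B R).toLinearMap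
      (IsLocalization.injective R (powers_le_nonZeroDivisors_of_noZeroDivisors hb0))
    exact isReduced_of_injective ((Algebra.TensorProduct.comm A R (Curv2.cpl A)).toAlgHom.comp φ)
      ((Algebra.TensorProduct.comm A R (Curv2.cpl A)).injective.comp hφ)
  exact NormFinCpl.finite_of_isReduced A B X.functionField

end Groth.Agent.S1633
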