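import Groth.Statements.S16331
import Groth.Agent.BiextChow.Contract

set_option autoImplicit false
universe v
open CategoryTheory
open W4c3biextchow

namespace Groth.Agent.S16331

/-- Let f : A' ⟶ A be a chain map of ℕ-indexed chain complexes of free abelian groups which is injective
in every degree, with free degreewise quotients A_q / f(A'_q), and a quasi-isomorphism; let h' : A'
⟶ B be a chain map to another complex of free abelian groups and g₁, g₂ : A ⟶ A' two chain maps with
f ≫ g₁ = f ≫ g₂ = 𝟙. Consider the functors induced by g₁ ≫ h' and g₂ ≫ h' between the groupoids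
attached to A and B (objects: degree-0 elements; morphisms a ⟶ b: degree-1 elements with boundary b
- a, modulo boundaries of degree-2 elements). Then there is a natural isomorphism between these two
functors whose component at every object of the form f(a'), a' a degree-0 element of A', is the zero
class, i.e. the identity morphism of h'(a'). -/
theorem result
    (A' A B : ChainComplex (ModuleCat.{v} ℤ) ℕ) (f : A' ⟶ A) (h' : A' ⟶ B)
    [∀ q, Module.Free ℤ (A'.X q)] [∀ q, Module.Free ℤ (A.X q)] [∀ q, Module.Free ℤ (B.X q)]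
    (hf : ∀ q, Function.Injective (f.f q).hom)
    (hq : ∀ q, Module.Free ℤ ((A.X q) ⧸ LinearMap.range (f.f q).hom)) [QuasiIso f]
    (g₁ g₂ : A ⟶ A') (h₁ : f ≫ g₁ = 𝟙 A') (h₂ : f ≫ g₂ = 𝟙 A') :
    ∃ N : W4c3biextchow.cxFunctor (g₁ ≫ h') ≅ W4c3biextchow.cxFunctor (g₂ ≫ h'),
      ∀ a : W4c3biextchow.Obj A',
        (N.hom.app ((W4c3biextchow.cxFunctor f).obj a) : W4c3biextchow.Hom B _ _).cl = 0 := by
  haveI := BiextChow.projective_quotComplex_int f hq
  obtain ⟨H, hH⟩ := BiextChow.exists_homotopy_rel f (BiextChow.quotProj f) hf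
    (BiextChow.quotProj_surjective f) (BiextChow.quotProj_exact f) g₁ g₂ (h₁.trans h₂.symm)
  have e0 : ∀ x, (g₁.f 0).hom x = (A'.d 1 0).hom ((H.hom 0 1).hom x) + (g₂.f 0).hom x := by
    intro x
    have h := H.comm 0
    rw [dNext_eq_zero _ _ (by simp), prevD_eq _ (show (ComplexShape.down ℕ).Rel 1 0 from rfl),
      zero_add] at h
    exact congrArg (fun φ : A.X 0 ⟶ A'.X 0 => φ.hom x) h
  have e1 : ∀ x, (g₁.f 1).hom x = (H.hom 0 1).hom ((A.d 1 0).hom x) +
      (A'.d 2 1).hom ((H.hom 1 2).hom x) + (g₂.f 1).hom x := by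
    intro x
    have h := H.comm 1
    rw [dNext_eq _ (show (ComplexShape.down ℕ).Rel 1 0 from rfl),
      prevD_eq _ (show (ComplexShape.down ℕ).Rel 2 1 from rfl)] at h
    exact congrArg (fun φ : A.X 1 ⟶ A'.X 1 => φ.hom x) h
  let c : Obj A → Q1 B := fun a => -Submodule.Quotient.mk ((h'.f 1).hom ((H.hom 0 1).hom a.pt))
  have hc : ∀ a, delta B (c a) =
      ((cxFunctor (g₂ ≫ h')).obj a).pt - ((cxFunctor (g₁ ≫ h')).obj a).pt := by
    intro a
    change delta B (c a) = (h'.f 0).hom ((g₂.f 0).hom a.pt) - (h'.f 0).hom ((g₁.f 0).hom a.pt)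
    simp only [c, map_neg, delta_mk]
    rw [e0, map_add, BiextChow.f_apply_d h']
    abel
  have iso : ∀ a, ∃ e : (cxFunctor (g₁ ≫ h')).obj a ≅ (cxFunctor (g₂ ≫ h')).obj a,
      (e.hom : Hom B _ _).cl = c a := fun a =>
    ⟨⟨(⟨c a, hc a⟩ : Hom B _ _),
      (⟨-c a, by rw [map_neg, hc, neg_sub]⟩ : Hom B _ _),
      Hom.ext (by rw [comp_cl]; simp), Hom.ext (by rw [comp_cl]; simp)⟩, rfl⟩
  choose e he using iso
  refine ⟨NatIso.ofComponents e (fun {a b} φ => Hom.ext ?_), fun a => ?_⟩
  · rw [comp_cl, comp_cl, he, he, cxFunctor_map_cl, cxFunctor_map_cl]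
    obtain ⟨x, hx⟩ := Submodule.Quotient.mk_surjective _ (φ : Hom A a b).cl
    have hdx : (A.d 1 0).hom x = b.pt - a.pt := by
      rw [← delta_mk, hx, (φ : Hom A a b).delta_cl]
    rw [← hx, q1Map_mk, q1Map_mk]
    simp only [c, HomologicalComplex.comp_f, ModuleCat.hom_comp, LinearMap.comp_apply]
    rw [e1 x, hdx, map_sub, map_add, map_add, map_sub, Submodule.Quotient.mk_add,
      Submodule.Quotient.mk_add, Submodule.Quotient.mk_sub]
    have : (Submodule.Quotient.mk ((h'.f 1).hom ((A'.d 2 1).hom ((H.hom 1 2).hom x))) : Q1 B) = 0 :=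
      (Submodule.Quotient.mk_eq_zero _).2
        ⟨(h'.f 2).hom ((H.hom 1 2).hom x), BiextChow.f_apply_d h' 2 1 _⟩
    rw [this]
    abel
  · change ((e ((cxFunctor f).obj a)).hom : Hom B _ _).cl = 0
    rw [he]
    have hz : (H.hom 0 1).hom ((f.f 0).hom a.pt) = 0 :=
      congrArg (fun φ : A'.X 0 ⟶ A'.X 1 => φ.hom a.pt) (hH 0 1)
    simp [c, hz]

end Groth.Agent.S16331
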