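import Groth.Statements.S16333
import Groth.Agent.GalCohAux.TsenNorm

set_option autoImplicit false
universe u
open GalCoh

namespace Groth.Agent.S16333

/-- Let k be an algebraically closed field, K an extension field of k which is finitely generated of
transcendence degree 1 (the function field of an irreducible curve over k), and L a finite Galois
extension of K. Then (1) the norm map from L to K is surjective, and (2) a nonzero element of L has
norm 1 if and only if it lies in the subgroup of units generated by the elements w / g(w), w a unit
of L and g an automorphism of L over K. (The published statement is for the function fields of an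
irreducible curve and of a component of its preimage under a finite abelian étale cover of the
ambient variety; this row takes any finite Galois extension of a function field of transcendence
degree 1 over an algebraically closed field.) -/
theorem result
    (k : Type u) [Field k] [IsAlgClosed k] (K L : Type u) [Field K] [Field L]
    [Algebra k K] [Algebra K L] [FiniteDimensional K L] [IsGalois K L]
    (hfg : (⊤ : IntermediateField k K).FG) (htr : Algebra.trdeg k K = 1) :
    Function.Surjective (Algebra.norm K : L → K) ∧
      ∀ u : Lˣ, Algebra.norm K (u : L) = 1 ↔
        u ∈ Subgroup.closure {v : Lˣ | ∃ (w : Lˣ) (g : L ≃ₐ[K] L), (v : L) = (w : L) / g (w : L)} := by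
  have hK : Curves.IsCi K 1 := CiFields.tsen_lang 1 (by simpa using htr)
  refine ⟨GalCohAux.TsenNorm.norm_surjective hK, fun u => ?_⟩
  have hset : {v : Lˣ | ∃ (w : Lˣ) (g : L ≃ₐ[K] L), (v : L) = (w : L) / g (w : L)} =
      {v | ∃ w : Lˣ, ∃ g ∈ (⊤ : Subgroup (L ≃ₐ[K] L)), v = w / GalCohAux.TsenNorm.act g w} := by
    ext v
    simp [Units.ext_iff, Units.val_div_eq_div_val]
  rw [hset]
  constructor
  · intro hu
    refine GalCohAux.TsenNorm.mem_aug_top hK u (Units.ext ?_)
    rw [GalCohAux.TsenNorm.nrm_top, hu, map_one, Units.val_one]
  · intro hu
    have h : u ∈ (Units.map (Algebra.norm K : L →* K)).ker := by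
      refine (Subgroup.closure_le _).2 ?_ hu
      rintro _ ⟨w, g, -, rfl⟩
      rw [SetLike.mem_coe, MonoidHom.mem_ker, map_div, div_eq_one]
      exact Units.ext (Algebra.norm_eq_of_algEquiv g (w : L)).symm
    exact congrArg Units.val h

end Groth.Agent.S16333
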