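import Groth.Statements.S16335
import Mathlib

set_option autoImplicit false
universe u v w w'
open TensorProduct
open InvTh

namespace Groth.Agent.S16335

open TensorProduct

/-- Let `R` be a commutative ring with an action of a finite group `Γ` by ring automorphisms such that
the order of `Γ` is invertible in `R`, and let `A → R` be injective with image exactly the
invariants `R^Γ`, the action being `A`-linear. Then for every commutative `A`-algebra `S`, with `Γ`
acting on `S ⊗_A R` through the factor `R`, the map `S → S ⊗_A R`, `s ↦ s ⊗ 1`, is injective and its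
image is exactly the set of `Γ`-fixed elements: `S ≅ (S ⊗_A R)^Γ`. No flatness of `S` over `A` is
assumed; the invertibility of the order of `Γ` replaces it. This is the affine statement that for a
tame quotient the coarse space commutes with arbitrary base change. (The published lemma is the
statement that the coarse moduli space of a tame Deligne–Mumford stack commutes with arbitrary base
change, whose proof reduces to this ring statement. The published lemma also asserts the analogous
statement for the reduced fibre product when the base-change scheme is reduced; that clause is not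
part of this row.) -/
theorem result
    (A : Type u) [CommRing A] (R : Type v) [CommRing R] [Algebra A R]
    (Γ : Type w) [Group Γ] [Finite Γ] [MulSemiringAction Γ R] [SMulCommClass Γ A R]
    [Algebra.IsInvariant A R Γ] (hinj : Function.Injective (algebraMap A R))
    (hΓ : IsUnit (Nat.card Γ : R))
    (S : Type w') [CommRing S] [Algebra A S] :
    Function.Injective (fun s : S => s ⊗ₜ[A] (1 : R)) ∧
      ∀ x : S ⊗[A] R,
        (∀ γ : Γ, Algebra.TensorProduct.map (AlgHom.id A S) (MulSemiringAction.toAlgHom A R γ) x = x) →
          x ∈ Set.range (fun s : S => s ⊗ₜ[A] (1 : R)) := by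
  cases nonempty_fintype Γ
  rw [Nat.card_eq_fintype_card] at hΓ
  obtain ⟨c, hc⟩ := isUnit_iff_exists_inv'.mp hΓ
  let P : R →ₗ[A] R := LinearMap.mulLeft A c ∘ₗ ∑ γ : Γ, DistribSMul.toLinearMap A R γ
  have hcfix : ∀ δ : Γ, δ • c = c := by
    intro δ
    have h := congrArg (δ • ·) hc
    simp only [smul_mul', smul_one] at h
    have e : δ • ((Fintype.card Γ : R)) = (Fintype.card Γ : R) :=
      map_natCast (MulSemiringAction.toRingHom Γ R δ) _
    rw [e] at h
    calc δ • c = δ • c * (c * Fintype.card Γ) := by rw [hc, mul_one]
      _ = c := by linear_combination c * h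
  have hfix : ∀ (x : R) (δ : Γ), δ • P x = P x := by
    intro x δ
    simp only [P, LinearMap.comp_apply, LinearMap.mulLeft_apply, LinearMap.coe_sum, Finset.sum_apply,
      DistribSMul.toLinearMap_apply, smul_mul', hcfix, Finset.smul_sum]
    congr 1
    exact Fintype.sum_equiv (Equiv.mulLeft δ) _ _ (fun γ => (mul_smul δ γ x).symm)
  choose ρ hρ using fun x : R => Algebra.IsInvariant.isInvariant (A := A) (G := Γ) (P x) (hfix x)
  let ρl : R →ₗ[A] A :=
    { toFun := ρ
      map_add' := fun x y => hinj (by rw [map_add, hρ, hρ, hρ, map_add])
      map_smul' := fun a x => hinj (by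
        rw [RingHom.id_apply, smul_eq_mul, map_mul, hρ, hρ, map_smul, Algebra.smul_def]) }
  have hρ1 : ρ 1 = 1 := hinj (by simp [hρ, P, hc])
  refine ⟨fun s t h => ?_, fun x hx => ?_⟩
  · have := congrArg (fun z => TensorProduct.rid A S (ρl.lTensor S z)) h
    simpa [ρl, hρ1] using this
  · refine ⟨TensorProduct.rid A S (ρl.lTensor S x), ?_⟩
    have hx' : ∀ γ : Γ, (DistribSMul.toLinearMap A R γ).lTensor S x = x := by
      intro γ
      have e : (DistribSMul.toLinearMap A R γ).lTensor S =
          (Algebra.TensorProduct.map (AlgHom.id A S) (MulSemiringAction.toAlgHom A R γ)).toLinearMap := by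
        apply TensorProduct.ext'; intro u v; simp
      rw [e]; exact hx γ
    have hm : ((TensorProduct.mk A S R).flip 1) ∘ₗ (TensorProduct.rid A S).toLinearMap ∘ₗ ρl.lTensor S = P.lTensor S := by
      apply TensorProduct.ext'
      intro u v
      simp [ρl, ← hρ, TensorProduct.smul_tmul, Algebra.algebraMap_eq_smul_one]
    have h2 := LinearMap.congr_fun hm x
    simp only [LinearMap.comp_apply, LinearMap.flip_apply, TensorProduct.mk_apply, LinearEquiv.coe_coe] at h2
    change (TensorProduct.rid A S (ρl.lTensor S x)) ⊗ₜ[A] (1 : R) = x
    rw [h2]
    simp only [P, LinearMap.lTensor_comp_apply]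
    have hs : (∑ γ : Γ, DistribSMul.toLinearMap A R γ).lTensor S x = (Fintype.card Γ) • x := by
      rw [← LinearMap.coe_lTensorHom, map_sum, LinearMap.sum_apply]
      simp [hx']
    rw [hs, map_nsmul]
    have hc2 : ∀ z : S ⊗[A] R, (Fintype.card Γ) • (LinearMap.mulLeft A c).lTensor S z = z := by
      intro z
      induction z using TensorProduct.induction_on with
      | zero => simp
      | tmul u v =>
        rw [LinearMap.lTensor_tmul, LinearMap.mulLeft_apply, ← TensorProduct.tmul_smul, nsmul_eq_mul,
          ← mul_assoc, mul_comm _ c, hc, one_mul]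
      | add u v hu hv => rw [map_add, smul_add, hu, hv]
    exact hc2 x

end Groth.Agent.S16335
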