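import Groth.Statements.S16337
import Mathlib

set_option autoImplicit false
universe u v w
open InvTh

namespace Groth.Agent.S16337

/-- Let `A` be a commutative ring, `Γ` a finite group whose order is invertible in `A`, `M` an
`A`-module with an `A`-linear action of `Γ`, and `I` an ideal of `A`. Then reduction modulo `I`
induces a bijection `M^Γ / I·M^Γ ≅ (M / IM)^Γ`: (a) an element of `M` fixed by `Γ` modulo `IM` is
congruent modulo `IM` to a `Γ`-fixed element, and (b) a `Γ`-fixed element lying in `IM` lies in
`I·M^Γ`, where `M^Γ` is the submodule of `Γ`-fixed elements. (The published lemma says that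
push-forward to the coarse space of a tame stack over a complete local base commutes with reduction
modulo powers of the maximal ideal; this row is the module statement its proof establishes, for an
arbitrary ideal.) -/
theorem result
    (A : Type u) [CommRing A] (Γ : Type v) [Group Γ] [Finite Γ] (hΓ : IsUnit (Nat.card Γ : A))
    (M : Type w) [AddCommGroup M] [Module A M] [DistribMulAction Γ M] [SMulCommClass Γ A M]
    (I : Ideal A) :
    (∀ x : M, (∀ γ : Γ, γ • x - x ∈ I • (⊤ : Submodule A M)) →
        ∃ y : M, (∀ γ : Γ, γ • y = y) ∧ x - y ∈ I • (⊤ : Submodule A M)) ∧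
      ∀ y : M, (∀ γ : Γ, γ • y = y) → y ∈ I • (⊤ : Submodule A M) →
        y ∈ I • Submodule.span A {m : M | ∀ γ : Γ, γ • m = m} := by
  cases nonempty_fintype Γ
  rw [Nat.card_eq_fintype_card] at hΓ
  obtain ⟨c, hc⟩ := isUnit_iff_exists_inv'.mp hΓ
  let P : M →ₗ[A] M := c • ∑ γ : Γ, DistribSMul.toLinearMap A M γ
  have hP : ∀ x, P x = c • ∑ γ : Γ, γ • x := fun x => by simp [P]
  have hfix : ∀ (x : M) (δ : Γ), δ • P x = P x := fun x δ => by
    rw [hP, smul_comm, Finset.smul_sum]
    congr 1
    exact Fintype.sum_equiv (Equiv.mulLeft δ) _ _ (fun γ => (mul_smul δ γ x).symm)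
  have hid : ∀ x : M, (∀ γ : Γ, γ • x = x) → P x = x := fun x hx => by
    rw [hP]; simp only [hx, Finset.sum_const, Finset.card_univ]
    rw [← Nat.cast_smul_eq_nsmul A, smul_smul, hc, one_smul]
  refine ⟨fun x hx => ⟨P x, hfix x, ?_⟩, fun y hy hyI => ?_⟩
  · have : x - P x = c • ∑ γ : Γ, (x - γ • x) := by
      rw [Finset.sum_sub_distrib, Finset.sum_const, Finset.card_univ, smul_sub, hP,
        ← Nat.cast_smul_eq_nsmul A, smul_smul, hc, one_smul]
    rw [this]
    exact Submodule.smul_mem _ _ (Submodule.sum_mem _ fun γ _ => by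
      rw [← neg_sub]; exact Submodule.neg_mem _ (hx γ))
  · rw [← hid y hy]
    refine Submodule.smul_induction_on hyI ?_ ?_
    · intro a ha x _
      rw [map_smul]
      exact Submodule.smul_mem_smul ha (Submodule.subset_span (hfix x))
    · intro a b ha hb; rw [map_add]; exact Submodule.add_mem _ ha hb

end Groth.Agent.S16337
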