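import Groth.Statements.S16338
import Groth.Agent.StFib.EndTrans
import Groth.Agent.StFib.RepProps

set_option autoImplicit false
set_option backward.isDefEq.respectTransparency false
set_option backward.isDefEq.respectTransparency.types false
universe u
open CategoryTheory
open AlgSt

namespace Groth.Agent.S16338

/-- Let `S` be a scheme, `𝒳` and `𝒴` Deligne–Mumford stacks over `(Sch/S)` (fppf topology) such that the
diagonal of `𝒴` is representable by algebraic spaces and separated (the isomorphism spaces of `𝒴`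
are separated), and `F : 𝒳 → 𝒴` a functor over `(Sch/S)` representable by algebraic spaces. Suppose
`i : 𝒰 → 𝒳` and `j : 𝒱 → 𝒴` are open immersions with `𝒰`, `𝒱` representable by algebraic spaces, the
image of `|𝒰|` is dense in `|𝒳|`, and `F` maps `𝒰` into `𝒱`: there is `G : 𝒰 → 𝒱` with a
2-isomorphism `G ⋙ j ≅ i ⋙ F` over `(Sch/S)`. Then every 2-endomorphism `α : F ⇒ F` over `(Sch/S)`
(all of which are invertible, the fibres being groupoids) equals the identity. Density is taken in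
the topological space of points of `𝒳` (topological, not scheme-theoretic, density). (The published
statement works over a Noetherian base with Deligne–Mumford stacks whose isomorphism spaces are
separated and of finite type; this row keeps only the separatedness of the isomorphism spaces of
`𝒴`, which its proof uses.) -/
theorem result
    (S : AlgebraicGeometry.Scheme.{u}) (𝒳 𝒴 𝒰 𝒱 : AlgSt.Cat S)
    (h𝒳 : AlgSt.IsDM AlgebraicGeometry.Scheme.fppfPrecoverage 𝒳)
    (h𝒴 : AlgSt.IsDM AlgebraicGeometry.Scheme.fppfPrecoverage 𝒴)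
    (hΔ : AlgSt.RepByAlgSpWith AlgSp.IsSeparatedMor (FibCat.diag (FibCat.toSelf 𝒴)))
    (F : 𝒳 ⥤ᵇ 𝒴) (hF : AlgSt.RepByAlgSp1 F)
    (i : 𝒰 ⥤ᵇ 𝒳) (hi : AlgSt.IsOpenImm i) (h𝒰 : AlgSt.RepByAlgSp 𝒰)
    (hdense : Dense (Set.range (AlgSt.Points.map i)))
    (j : 𝒱 ⥤ᵇ 𝒴) (hj : AlgSt.IsOpenImm j) (h𝒱 : AlgSt.RepByAlgSp 𝒱)
    (G : 𝒰 ⥤ᵇ 𝒱) (e : BasedFunctor.comp G j ≅ BasedFunctor.comp i F)
    (α : F ⟶ F) : α = 𝟙 F := by
  have := Groth.Agent.StFib.isIso_based h𝒴.1.isStack.1 α
  let β : F ≅ F := asIso α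
  have hjm : AlgSt.IsMono j := Groth.Agent.StFib.repByAlgSpWith_mono hj fun X T m hm => by
    obtain ⟨Z, g, ι, hι, hg⟩ := Groth.Agent.StFib.exists_iso_yon_of_repWith _ hm
    have : AlgebraicGeometry.IsOpenImmersion g.left := hg
    have : Mono ((Over.forget S).map g) := inferInstanceAs (Mono g.left)
    have : Mono g := (Over.forget S).mono_of_mono_map this
    have : m = ι.inv ≫ (AlgSp.yon S).map g := by rw [← hι, Iso.inv_hom_id_assoc]
    rw [MorphismProperty.monomorphisms.iff, this]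
    infer_instance
  obtain ⟨_, _⟩ := Groth.Agent.StFib.fullyFaithful_of_isMono (Groth.Agent.StFib.isFibSetoid_of_repByAlgSp h𝒱).1 h𝒴.1.isStack.1 j hjm
  obtain ⟨n⟩ := Groth.Agent.StFib.neutral_section (FibCat.toSelf 𝒴)
  have hc : AlgSt.IsClosedImm (FibCat.inertiaNeutral (FibCat.toSelf 𝒴)) :=
    Groth.Agent.StFib.section_mem n (((Groth.Agent.StFib.tfae_separated
      (Groth.Agent.StFib.repByAlgSp1_of_with (Groth.Agent.StFib.inertiaToBase_mem _ hΔ))).out 0 1).1
      (Groth.Agent.StFib.inertiaToBase_mem _ hΔ))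
  have ho : AlgSt.IsOpenImm (FibCat.inertiaNeutral (FibCat.toSelf 𝒴)) :=
    (Groth.Agent.StFib.inertiaNeutral_mem_iff _ _).2 (Groth.Agent.StFib.isOpenImm_diag_diag _
      (Groth.Agent.StFib.isDMOver_of_etale_atlas h𝒴.1 h𝒴.2))
  refine Groth.Agent.StFib.based_hom_ext fun a => ?_
  refine Groth.Agent.StFib.endTrans_eq_id h𝒳.1 (Groth.Agent.StFib.isFibSetoid_of_repByAlgSp h𝒰).1 hc ho hi hdense β ?_ a
  intro u
  let k := Groth.Agent.StFib.isoApp e u
  obtain ⟨q, hq⟩ := j.toFunctor.map_surjective (k.hom ≫ (Groth.Agent.StFib.isoApp β (i.obj u)).hom ≫ k.inv)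
  have hv : Groth.Agent.StFib.Vert q := Groth.Agent.StFib.Vert.of_map j (by
    rw [hq]
    exact (Groth.Agent.StFib.vert_isoApp e u).comp ((Groth.Agent.StFib.vert_isoApp β _).comp
      (Groth.Agent.StFib.vert_isoApp_inv e u)))
  rw [Groth.Agent.StFib.vert_unique_of_isFibSetoid (Groth.Agent.StFib.isFibSetoid_of_repByAlgSp h𝒱) hv
    (Groth.Agent.StFib.Vert.id _), j.toFunctor.map_id] at hq
  rw [← cancel_epi k.hom, ← cancel_mono k.inv]
  exact (Category.assoc _ _ _).trans (hq.symm.trans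
    ((congrArg (· ≫ k.inv) (Category.comp_id k.hom)).trans k.hom_inv_id).symm)

end Groth.Agent.S16338
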