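import Groth.Statements.S16341
import Groth.Agent.NodalLib.NormEmbed

set_option autoImplicit false
universe u
open CategoryTheory CategoryTheory.Limits AlgebraicGeometry
open Curves

namespace Groth.Agent.S16341

open Groth.Agent.PullStalk.Sky Groth.Agent.PullStalk.Exact TopologicalSpace

/-- Let C be a proper scheme over an algebraically closed field k, all of whose irreducible components
have dimension one and whose singularities are at worst nodal. Let π : C' → C be a finite morphism
from a normal scheme which is an isomorphism over a dense open subset of C whose preimage is dense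
in C' (so C' is the normalisation of C). Then for every coherent O_C-module F which is pure of
dimension one there are a coherent, finite locally free O_{C'}-module F' and a monomorphism f : F →
π_*F' whose cokernel has support inside the node set of C. (The published statement is for a stable
curve of genus at least two and phrases the middle term as a direct sum over the irreducible
components; the argument uses only that the curve is nodal and produces the push-forward from the
normalisation.) -/
theorem result (k : Type u) [Field k] [IsAlgClosed k]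
    (C : Scheme.{u}) [C.Over (Spec (CommRingCat.of k))] [IsProper (C ↘ (Spec (CommRingCat.of k)))]
    (hdim : ∀ Z ∈ irreducibleComponents (C : Type u), topologicalKrullDim Z = 1) (hC : Curv2.AtWorstNodal k C)
    (C' : Scheme.{u}) (π : C' ⟶ C) [IsFinite π] (hC' : Pi1.IsNormalScheme C')
    (U : C.Opens) (hU : Dense (U : Set C)) (hU' : Dense ((π ⁻¹ᵁ U : C'.Opens) : Set C')) (hπU : IsIso (π ∣_ U))
    (F : C.Modules) (hF : Coh.IsCoh F) (hpure : ShStab.IsPure C F 1) :
    ∃ (F' : C'.Modules) (f : F ⟶ (Scheme.Modules.pushforward π).obj F'),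
      Coh.IsCoh F' ∧ FlatMod.IsFinLocFree F' ∧ Mono f ∧
        CohB1.support (cokernel f) ⊆ {x : C | Curv2.IsNode k C x} := by
  letI : C'.Over (Spec (CommRingCat.of k)) := ⟨π ≫ (C ↘ (Spec (CommRingCat.of k)))⟩
  haveI : IsProper (C' ↘ Spec (CommRingCat.of k)) :=
    inferInstanceAs (IsProper (π ≫ (C ↘ (Spec (CommRingCat.of k)))))
  haveI := hπU
  haveI : IsReduced C' := @isReduced_of_isReduced_stalk C' fun x => by
    haveI := (hC' x).1
    infer_instance
  haveI := EulerChar.isNoetherian k (X := C)
  haveI := EulerChar.isNoetherian k (X := C')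
  haveI := S15926.isReduced_of_atWorstNodal k C (fun Z hZ => (hdim Z hZ).le) hC
  have hdim1 : topologicalKrullDim C ≤ 1 := EquidimPt.topDim_le_of_components fun Z hZ => (hdim Z hZ).le
  have hdim1' : topologicalKrullDim C' ≤ 1 := (AlgSpCov.IntegralDim.topologicalKrullDim_le_of_strictMono π
    (AlgSpCov.IntegralDim.strictMono_of_isIntegralHom π)).trans hdim1
  have hg : genericPoints (C : Type u) ⊆ (U : Set C) := fun η hη =>
    FlatMor.GenericPts.mem_of_dense_of_finite NoetherianSpace.finite_irreducibleComponents U.2 hU hη
  have hg' : genericPoints (C' : Type u) ⊆ ((π ⁻¹ᵁ U : C'.Opens) : Set C') := fun η hη =>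
    FlatMor.GenericPts.mem_of_dense_of_finite NoetherianSpace.finite_irreducibleComponents (π ⁻¹ᵁ U).2 hU' hη
  have hdom : ∀ y : C', IsDomain (C'.presheaf.stalk y) := fun y => (hC' y).1
  have hP : ∀ y : C', IsPrincipalIdealRing (C'.presheaf.stalk y) := by
    intro y
    obtain ⟨hd, hic⟩ := hC' y
    haveI := hd
    haveI := hic
    haveI : Ring.KrullDimLE 1 (C'.presheaf.stalk y) := Ring.krullDimLE_iff.mpr (by
      rw [DimIneq.topologicalKrullDim_eq_iSup_stalk] at hdim1'
      exact_mod_cast (le_iSup (fun z : C' => ringKrullDim (C'.presheaf.stalk z)) y).trans hdim1')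
    have hmax : ∀ P : Ideal (C'.presheaf.stalk y), P ≠ ⊥ → P.IsPrime → P = IsLocalRing.maximalIdeal (C'.presheaf.stalk y) :=
      fun P hP hP' => IsLocalRing.eq_maximalIdeal (Ring.krullDimLE_one_iff_of_noZeroDivisors.mp ‹_› P hP hP')
    have hiff : (IsIntegrallyClosed (C'.presheaf.stalk y) ∧ ∀ P : Ideal (C'.presheaf.stalk y), P ≠ ⊥ → P.IsPrime → P = IsLocalRing.maximalIdeal (C'.presheaf.stalk y)) ↔ IsPrincipalIdealRing (C'.presheaf.stalk y) :=
      (tfae_of_isNoetherianRing_of_isLocalRing_of_isDomain (R := C'.presheaf.stalk y)).out 3 0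
    exact hiff.1 ⟨inferInstance, hmax⟩
  have hPc : Coh.IsCoh ((Scheme.Modules.pullback π).obj F) := ZClosLib.CohDescent.isCoh_pullback π F hF
  refine ⟨_, NodalLib.normEmbed π F, HomShQC.isCoh_dual _ (HomShQC.isCoh_dual _ hPc),
    NodalLib.isFinLocFree_ddual _ hPc hdom hP, NodalLib.mono_normEmbed π U hg F hF hpure hdim1, fun x hne => ?_⟩
  by_contra hx
  haveI := NodalLib.mono_normEmbed π U hg F hF hpure hdim1
  obtain ⟨-, hex, hq⟩ := stalk_exact (ShortComplex.ShortExact.mk'
    (ShortComplex.exact_of_g_is_cokernel (ShortComplex.mk (NodalLib.normEmbed π F) (cokernel.π _)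
      (cokernel.condition (NodalLib.normEmbed π F))) (cokernelIsCokernel _)) inferInstance inferInstance) x
  refine hne (subsingleton_of_forall_eq 0 fun t => ?_)
  obtain ⟨t, rfl⟩ := hq t
  exact (hex t).2 (NodalLib.surjective_normEmbed π U hg hg' k F hF hdom hP
    (StrictSSLib.mem_smoothLocus_of_atWorstNodal C (fun Z hZ => (hdim Z hZ).le) hC hx) t)

end Groth.Agent.S16341
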