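import Groth.Statements.S16343
import Mathlib.Algebra.Category.Grp.Injective
import Mathlib.Data.Nat.Factorization.Induction

set_option autoImplicit false
open KatoHom

namespace Groth.Agent.S16343

lemma hbez {a b : ℕ} (hab : a.Coprime b) {M : Type*} [AddCommGroup M] (t : M) :
    ∃ u v : ℤ, t = u • (a • t) + v • (b • t) := by
  refine ⟨a.gcdA b, a.gcdB b, ?_⟩
  rw [← natCast_zsmul t a, ← natCast_zsmul t b, smul_smul, smul_smul, ← add_smul,
    mul_comm _ (a : ℤ), mul_comm _ (b : ℤ), ← Nat.gcd_eq_gcd_ab, hab.gcd_eq_one, Nat.cast_one,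
    one_smul]

/-- Let P be a set of primes and π : A → T a surjection of abelian groups whose kernel is ℓ-divisible
for every ℓ ∈ P, with T a torsion group; let T(P) be the subgroup of elements of T killed by a
positive integer all of whose prime factors lie in P, and T' the subgroup of elements killed by a
positive integer none of whose prime factors lies in P. Then the preimage π⁻¹(T') is ℓ-divisible for
every ℓ ∈ P, and π has a section s over T(P) for which (d, t) ↦ d + s(t) is a bijection from π⁻¹(T')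
× T(P) onto A, so that A is the direct sum of π⁻¹(T') and a copy of T(P). (The decomposition is
expressed through a section of π over T(P).) -/
theorem result
    {A T : Type*} [AddCommGroup A] [AddCommGroup T] (P : Set ℕ) (hP : ∀ p ∈ P, p.Prime)
    (π : A →+ T) (hπ : Function.Surjective π) (hT : ∀ t : T, ∃ n : ℕ, 0 < n ∧ n • t = 0)
    (hD : ∀ ℓ ∈ P, ∀ x ∈ π.ker, ∃ y ∈ π.ker, ℓ • y = x)
    (TP T' : AddSubgroup T)
    (hTP : ∀ t, t ∈ TP ↔ ∃ n : ℕ, 0 < n ∧ (∀ p : ℕ, p.Prime → p ∣ n → p ∈ P) ∧ n • t = 0)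
    (hT' : ∀ t, t ∈ T' ↔ ∃ n : ℕ, 0 < n ∧ (∀ p : ℕ, p.Prime → p ∣ n → p ∉ P) ∧ n • t = 0) :
    (∀ ℓ ∈ P, ∀ x ∈ T'.comap π, ∃ y ∈ T'.comap π, ℓ • y = x) ∧
    ∃ s : TP →+ A, (∀ t : TP, π (s t) = (t : T)) ∧
      Function.Bijective (fun q : (T'.comap π) × TP => (q.1 : A) + s q.2) := by
  classical
  let IsP : ℕ → Prop := fun n => 0 < n ∧ ∀ p : ℕ, p.Prime → p ∣ n → p ∈ P
  let NotP : ℕ → Prop := fun n => 0 < n ∧ ∀ p : ℕ, p.Prime → p ∣ n → p ∉ P
  have hcop : ∀ {a b}, IsP a → NotP b → a.Coprime b := fun {a b} ha hb =>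
    Nat.coprime_of_dvd fun q hq hqa hqb => hb.2 q hq hqb (ha.2 q hq hqa)
  have hDn : ∀ n, IsP n → ∀ x ∈ π.ker, ∃ y ∈ π.ker, n • y = x := by
    intro n
    induction n using induction_on_primes with
    | zero => exact fun h => absurd h.1 (lt_irrefl 0)
    | one => exact fun _ x hx => ⟨x, hx, one_smul _ _⟩
    | prime_mul q m hq ih =>
      intro h x hx
      obtain ⟨y, hy, rfl⟩ := hD q (h.2 q hq (dvd_mul_right _ _)) x hx
      obtain ⟨z, hz, rfl⟩ := ih ⟨Nat.pos_of_mul_pos_left h.1,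
        fun r hr hrd => h.2 r hr (hrd.mul_left q)⟩ y hy
      exact ⟨z, hz, mul_smul _ _ _⟩
  refine ⟨fun ℓ hℓ x hx => ?_, ?_⟩
  · obtain ⟨n, hn, hnP, hnx⟩ := (hT' _).mp (AddSubgroup.mem_comap.mp hx)
    have hk : n • x ∈ π.ker := by simpa using hnx
    obtain ⟨y, hy, hxy⟩ := hD ℓ hℓ _ hk
    have hℓP : IsP ℓ := ⟨(hP ℓ hℓ).pos, fun q hq hqd =>
      ((Nat.prime_dvd_prime_iff_eq hq (hP ℓ hℓ)).mp hqd) ▸ hℓ⟩
    obtain ⟨a, b, hab⟩ := hbez (hcop hℓP ⟨hn, hnP⟩) x
    have hyT : y ∈ T'.comap π := by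
      rw [AddSubgroup.mem_comap, show π y = 0 from hy]; exact zero_mem _
    refine ⟨a • x + b • y, add_mem (zsmul_mem hx a) (zsmul_mem hyT b), ?_⟩
    conv_rhs => rw [hab, ← hxy]
    rw [smul_add, smul_comm ℓ a x, smul_comm ℓ b y]
  -- the `P`-power torsion of `A`
  let AP : AddSubgroup A :=
    { carrier := {a | ∃ n, IsP n ∧ n • a = 0}
      zero_mem' := ⟨1, ⟨one_pos, fun q hq h => absurd h hq.not_dvd_one⟩, smul_zero _⟩
      add_mem' := by
        rintro x y ⟨n, hn, hx⟩ ⟨m, hm, hy⟩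
        refine ⟨n * m, ⟨Nat.mul_pos hn.1 hm.1, fun q hq h =>
          (hq.dvd_mul.mp h).elim (hn.2 q hq) (hm.2 q hq)⟩, ?_⟩
        rw [smul_add, mul_comm, mul_smul, hx, smul_zero, mul_comm, mul_smul, hy, smul_zero, add_zero]
      neg_mem' := by rintro x ⟨n, hn, hx⟩; exact ⟨n, hn, by rw [smul_neg, hx, neg_zero]⟩ }
  let q : AP →+ TP := (π.comp AP.subtype).codRestrict TP fun a => by
    obtain ⟨n, hn, hna⟩ := a.2
    exact (hTP _).mpr ⟨n, hn.1, hn.2, by simp [← map_nsmul, hna]⟩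
  have hq : Function.Surjective q := by
    rintro ⟨t, ht⟩
    obtain ⟨n, hn, hnP, hnt⟩ := (hTP t).mp ht
    obtain ⟨a, rfl⟩ := hπ t
    obtain ⟨d, hd, hda⟩ := hDn n ⟨hn, hnP⟩ (n • a) (by simpa using hnt)
    exact ⟨⟨a - d, n, ⟨hn, hnP⟩, by rw [smul_sub, hda, sub_self]⟩,
      Subtype.ext (by simp [q, show π d = 0 from hd])⟩
  have hdiv : ∀ k : ℕ, k ≠ 0 → ∀ x : q.ker, ∃ y : q.ker, k • y = x := by
    intro k
    induction k using induction_on_primes with
    | zero => exact fun h => absurd rfl h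
    | one => exact fun _ x => ⟨x, one_smul _ _⟩
    | prime_mul r m hr ih =>
      intro hk x
      obtain ⟨⟨⟨a, n, hn, hna⟩, hax⟩, rfl⟩ : ∃ y : q.ker, r • y = x := by
        obtain ⟨⟨a, n, hn, hna⟩, hax⟩ := x
        have haπ : π a = 0 := congrArg Subtype.val hax
        by_cases hrP : r ∈ P
        · obtain ⟨y, hy, hya⟩ := hD r hrP a haπ
          refine ⟨⟨⟨y, n * r, ⟨Nat.mul_pos hn.1 hr.pos, fun s hs h =>
            (hs.dvd_mul.mp h).elim (hn.2 s hs) fun h' =>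
              (Nat.prime_dvd_prime_iff_eq hs hr).mp h' ▸ hrP⟩,
              by rw [mul_smul, hya, hna]⟩, Subtype.ext hy⟩, Subtype.ext (Subtype.ext hya)⟩
        · obtain ⟨u, v, huv⟩ := hbez (hcop hn ⟨hr.pos, fun s hs h =>
            (Nat.prime_dvd_prime_iff_eq hs hr).mp h ▸ hrP⟩) a
          rw [hna, smul_zero, zero_add] at huv
          refine ⟨v • ⟨⟨a, n, hn, hna⟩, hax⟩, Subtype.ext (Subtype.ext ?_)⟩
          conv_rhs => rw [show (((⟨⟨a, n, hn, hna⟩, hax⟩ : q.ker) : AP) : A) = a from rfl, huv]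
          simp [smul_comm r v a]
      obtain ⟨z, hz⟩ := ih (right_ne_zero_of_mul hk) ⟨⟨a, n, hn, hna⟩, hax⟩
      exact ⟨z, by rw [mul_smul, hz]⟩
  let _ : DivisibleBy q.ker ℤ := divisibleByOfSMulRightSurj q.ker ℤ fun {m} hm x => by
    obtain ⟨y, hy⟩ := hdiv m.natAbs (Int.natAbs_ne_zero.mpr hm) x
    refine ⟨m.sign • y, ?_⟩
    show m • m.sign • y = x
    rw [smul_smul, mul_comm, Int.sign_mul_self_eq_natAbs, natCast_zsmul, hy]
  obtain ⟨ρ, hρ⟩ := (Module.Baer.of_divisible (A := q.ker)).extension_property_addMonoidHom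
    q.ker.subtype Subtype.val_injective (AddMonoidHom.id _)
  let σ : AP →+ AP := AddMonoidHom.id AP - q.ker.subtype.comp ρ
  have hσq : ∀ a, q (σ a) = q a := fun a => by
    rw [show σ a = a - (ρ a : AP) from rfl, map_sub, show q (ρ a : AP) = 0 from (ρ a).2, sub_zero]
  have hσ0 : ∀ a, q a = 0 → σ a = 0 := fun a ha => by
    have := DFunLike.congr_fun hρ ⟨a, ha⟩
    rw [show σ a = a - (ρ a : AP) from rfl, sub_eq_zero]
    exact (congrArg Subtype.val this).symm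
  let s₀ : TP → AP := fun t => σ (hq t).choose
  have hs₀ : ∀ a, s₀ (q a) = σ a := fun a => by
    rw [← sub_eq_zero, ← map_sub]
    exact hσ0 _ (by rw [map_sub, (hq (q a)).choose_spec, sub_self])
  let s : TP →+ A := AP.subtype.comp (AddMonoidHom.mk' s₀ fun x y => by
    obtain ⟨a, rfl⟩ := hq x
    obtain ⟨b, rfl⟩ := hq y
    rw [← map_add, hs₀, hs₀, hs₀, map_add])
  have hs : ∀ t : TP, π (s t) = (t : T) := fun t => by
    obtain ⟨a, rfl⟩ := hq t
    show π ((s₀ (q a) : AP) : A) = _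
    rw [hs₀]
    exact congrArg Subtype.val (hσq a)
  refine ⟨s, hs, ?_, fun a => ?_⟩
  · rintro ⟨x, t⟩ ⟨x', t'⟩ h
    have hd : (t : T) - t' ∈ T' := by
      have : π (x' : A) - π (x : A) = (t : T) - t' := by
        have := congrArg π h
        simp only [map_add, hs] at this
        rw [sub_eq_sub_iff_add_eq_add, ← this, add_comm]
      exact this ▸ sub_mem x'.2 x.2
    have hd' : (t : T) - t' ∈ TP := sub_mem t.2 t'.2
    obtain ⟨n, hn, hnP, h₁⟩ := (hT' _).mp hd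
    obtain ⟨m, hm, hmP, h₂⟩ := (hTP _).mp hd'
    obtain ⟨u, v, huv⟩ := hbez (hcop (a := m) (b := n) ⟨hm, hmP⟩ ⟨hn, hnP⟩) ((t : T) - t')
    rw [h₁, h₂, smul_zero, smul_zero, add_zero, sub_eq_zero] at huv
    obtain rfl := Subtype.ext huv
    exact Prod.ext (Subtype.ext (add_right_cancel h)) rfl
  · have hdec : ∀ n, 0 < n → ∀ t : T, n • t = 0 → ∃ u ∈ TP, ∃ w ∈ T', u + w = t := by
      intro n
      induction n using Nat.recOnPrimeCoprime with
      | zero => exact fun h => absurd h (lt_irrefl 0)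
      | prime_pow r k hr =>
        intro hk t ht
        by_cases hrP : r ∈ P
        · exact ⟨t, (hTP t).mpr ⟨_, hk, fun s hs h =>
            (Nat.prime_dvd_prime_iff_eq hs hr).mp (hs.dvd_of_dvd_pow h) ▸ hrP, ht⟩, 0,
            zero_mem _, add_zero _⟩
        · exact ⟨0, zero_mem _, t, (hT' t).mpr ⟨_, hk, fun s hs h =>
            (Nat.prime_dvd_prime_iff_eq hs hr).mp (hs.dvd_of_dvd_pow h) ▸ hrP, ht⟩, zero_add _⟩
      | coprime a b ha hb hab iha ihb =>
        intro _ t ht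
        obtain ⟨u, v, huv⟩ := hbez hab t
        obtain ⟨u₁, hu₁, w₁, hw₁, e₁⟩ := ihb (by omega) (u • a • t) (by
          rw [smul_comm b u, ← mul_smul b, mul_comm, ht, smul_zero])
        obtain ⟨u₂, hu₂, w₂, hw₂, e₂⟩ := iha (by omega) (v • b • t) (by
          rw [smul_comm a v, ← mul_smul a, ht, smul_zero])
        exact ⟨u₁ + u₂, add_mem hu₁ hu₂, w₁ + w₂, add_mem hw₁ hw₂, by
          rw [huv, ← e₁, ← e₂]; abel⟩
    obtain ⟨n, hn, hna⟩ := hT (π a)
    obtain ⟨u, hu, w, hw, huw⟩ := hdec n hn (π a) hna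
    refine ⟨(⟨a - s ⟨u, hu⟩, ?_⟩, ⟨u, hu⟩), sub_add_cancel a _⟩
    rw [AddSubgroup.mem_comap, map_sub, hs, ← huw, add_sub_cancel_left]
    exact hw

end Groth.Agent.S16343
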