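import Groth.Statements.S16344
import Mathlib
-- import your own Groth.Agent.* helpers here

set_option autoImplicit false
universe u v
open IdeleMod

namespace Groth.Agent.S16344

/-- Let (G_i) be an inverse system, indexed by a directed preorder, of compact Hausdorff topological
abelian groups with continuous surjective transition maps, let G be its limit (the group of
compatible families) and let m be a natural number. Then the canonical map G/mG → lim G_i/mG_i is
bijective: a compatible family that lies in mG_i at every index is m times a compatible family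
(injectivity), and every family that is compatible modulo m agrees modulo m, index by index, with a
compatible family (surjectivity). -/
theorem result
    {ι : Type u} [Preorder ι] [IsDirected ι (· ≤ ·)]
    (G : ι → Type v) [∀ i, AddCommGroup (G i)] [∀ i, TopologicalSpace (G i)]
    [∀ i, IsTopologicalAddGroup (G i)] [∀ i, CompactSpace (G i)] [∀ i, T2Space (G i)]
    (f : ∀ ⦃i j : ι⦄, i ≤ j → (G j →+ G i)) (hf : ∀ i j (h : i ≤ j), Continuous (f h))
    (hid : ∀ i (x : G i), f (le_refl i) x = x)
    (hcomp : ∀ i j k (hij : i ≤ j) (hjk : j ≤ k) (x : G k), f hij (f hjk x) = f (hij.trans hjk) x)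
    (hsurj : ∀ i j (h : i ≤ j), Function.Surjective (f h)) (m : ℕ) :
    (∀ x : ∀ i, G i, (∀ i j (h : i ≤ j), f h (x j) = x i) → (∀ i, ∃ y : G i, m • y = x i) →
        ∃ z : ∀ i, G i, (∀ i j (h : i ≤ j), f h (z j) = z i) ∧ ∀ i, m • z i = x i) ∧
    (∀ y : ∀ i, G i, (∀ i j (h : i ≤ j), ∃ w : G i, f h (y j) - y i = m • w) →
        ∃ x : ∀ i, G i, (∀ i j (h : i ≤ j), f h (x j) = x i) ∧ ∀ i, ∃ w : G i, x i - y i = m • w) := by
  classical
  have key : ∀ T : ∀ i, Set (G i), (∀ i, IsClosed (T i)) → (∀ i, (T i).Nonempty) →
      (∀ i j (h : i ≤ j), ∀ y ∈ T j, f h y ∈ T i) →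
      ∃ z : ∀ i, G i, (∀ i j (h : i ≤ j), f h (z j) = z i) ∧ ∀ i, z i ∈ T i := by
    intro T hTc hTn hTf
    rcases isEmpty_or_nonempty ι with he | hne
    · exact ⟨fun i => 0, fun i => he.elim i, fun i => he.elim i⟩
    let C : ι → Set (∀ i, G i) := fun k => {z | (∀ i (h : i ≤ k), f h (z k) = z i) ∧ z k ∈ T k}
    have hC : ∀ k, IsClosed (C k) := fun k => by
      have : C k = (⋂ i, ⋂ h : i ≤ k, {z : ∀ i, G i | f h (z k) = z i}) ∩
          (fun z : ∀ i, G i => z k) ⁻¹' T k := by
        ext z
        simp [C]
      rw [this]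
      exact (isClosed_iInter fun i => isClosed_iInter fun h =>
        isClosed_eq ((hf i k h).comp (continuous_apply k)) (continuous_apply i)).inter
        ((hTc k).preimage (continuous_apply k))
    obtain ⟨z, hz⟩ := IsCompact.nonempty_iInter_of_directed_nonempty_isCompact_isClosed C
      (fun i j => by
        obtain ⟨k, hik, hjk⟩ := exists_ge_ge i j
        have sub : ∀ i, i ≤ k → C k ⊆ C i := by
          rintro i hik z ⟨h1, h2⟩
          refine ⟨fun l hl => ?_, ?_⟩
          · rw [← h1 i hik, hcomp l i k hl hik, h1]
          · rw [← h1 i hik]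
            exact hTf i k hik _ h2
        exact ⟨k, sub i hik, sub j hjk⟩)
      (fun k => by
        obtain ⟨y, hy⟩ := hTn k
        refine ⟨fun i => if h : i ≤ k then f h y else 0, fun i h => ?_, ?_⟩
        · simp only [dif_pos (le_refl k), dif_pos h, hid]
        · simpa [dif_pos (le_refl k), hid] using hy)
      (fun k => (hC k).isCompact) hC
    rw [Set.mem_iInter] at hz
    exact ⟨z, fun i j h => (hz j).1 i h, fun i => (hz i).2⟩
  constructor
  · intro x hx hxy
    obtain ⟨z, hz, hzT⟩ := key (fun i => {y | m • y = x i})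
      (fun i => isClosed_eq (continuous_nsmul m) continuous_const) hxy
      (fun i j h y (hy : m • y = x j) => show m • f h y = x i by rw [← map_nsmul, hy, hx])
    exact ⟨z, hz, hzT⟩
  · intro y hy
    obtain ⟨x, hx, hxT⟩ := key (fun i => {t | ∃ w : G i, t - y i = m • w})
      (fun i => by
        have : {t : G i | ∃ w : G i, t - y i = m • w} =
            (fun t => t - y i) ⁻¹' Set.range (fun w : G i => m • w) := by
          ext t
          simp [eq_comm]
        rw [this]
        exact ((isCompact_range (continuous_nsmul m)).isClosed).preimage (by fun_prop))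
      (fun i => ⟨y i, 0, by simp⟩)
      (fun i j h t ⟨w, hw⟩ => by
        obtain ⟨w', hw'⟩ := hy i j h
        refine ⟨f h w + w', ?_⟩
        rw [smul_add, ← map_nsmul, ← hw, map_sub, ← hw']
        abel)
    exact ⟨x, hx, hxT⟩

end Groth.Agent.S16344
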