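import Groth.Statements.S16346
import Mathlib.Data.Nat.Factorization.Induction
import Mathlib.Tactic.Abel

set_option autoImplicit false
universe u v
open KatoHom

namespace Groth.Agent.S16346

/-- Let P be a set of primes and I_P the set of positive integers all of whose prime factors lie in P.
Let A be an abelian group, (B_n)_{n ∈ I_P} an inverse system of abelian groups with transition maps
B_n → B_m for m ∣ n, and φ_n : A → B_n homomorphisms vanishing on nA and compatible with the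
transition maps, so that they induce φ̂ : Â → B̂ on the limits Â = lim A/nA and B̂ = lim B_n (limits
taken as compatible families). Suppose some N ∈ I_P kills the torsion subgroup of B̂ and kills the
kernel of φ̂ (the latter meaning: a compatible family of residues (a_n) with φ_n(a_n) = 0 for all n
has N a_n ∈ nA for all n). Then the subgroup ⋂_{n ∈ I_P} nA is ℓ-divisible for every ℓ ∈ P, and it
contains every subgroup of A that is ℓ-divisible for all ℓ ∈ P; that is, it is the largest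
P-divisible subgroup of A. -/
theorem result
    {A : Type u} [AddCommGroup A] (P : Set ℕ) (hP : ∀ p ∈ P, p.Prime)
    (IP : Set ℕ) (hIP : ∀ n, n ∈ IP ↔ 0 < n ∧ ∀ p : ℕ, p.Prime → p ∣ n → p ∈ P)
    (B : IP → Type v) [∀ n, AddCommGroup (B n)]
    (g : ∀ ⦃m n : IP⦄, (m : ℕ) ∣ (n : ℕ) → (B n →+ B m))
    (hgid : ∀ (n : IP) (b : B n), g (dvd_refl (n : ℕ)) b = b)
    (hgcomp : ∀ (k m n : IP) (hkm : (k : ℕ) ∣ (m : ℕ)) (hmn : (m : ℕ) ∣ (n : ℕ)) (b : B n),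
      g hkm (g hmn b) = g (hkm.trans hmn) b)
    (φ : ∀ n : IP, A →+ B n) (hφ : ∀ (n : IP) (a : A), φ n ((n : ℕ) • a) = 0)
    (hφg : ∀ (m n : IP) (h : (m : ℕ) ∣ (n : ℕ)) (a : A), g h (φ n a) = φ m a)
    (N : ℕ) (hN : N ∈ IP)
    (htor : ∀ b : ∀ n : IP, B n, (∀ (m n : IP) (h : (m : ℕ) ∣ (n : ℕ)), g h (b n) = b m) →
      (∃ k : ℕ, 0 < k ∧ ∀ n, k • b n = 0) → ∀ n, N • b n = 0)
    (hker : ∀ a : IP → A, (∀ m n : IP, (m : ℕ) ∣ (n : ℕ) → ∃ c : A, a n - a m = (m : ℕ) • c) →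
      (∀ n, φ n (a n) = 0) → ∀ n : IP, ∃ c : A, N • a n = (n : ℕ) • c) :
    (∀ ℓ ∈ P, ∀ x : A, (∀ n ∈ IP, ∃ y : A, x = n • y) →
        ∃ y : A, (∀ n ∈ IP, ∃ z : A, y = n • z) ∧ ℓ • y = x) ∧
    (∀ H : AddSubgroup A, (∀ ℓ ∈ P, ∀ x ∈ H, ∃ y ∈ H, ℓ • y = x) →
        ∀ x ∈ H, ∀ n ∈ IP, ∃ y : A, x = n • y) := by
  have hmul : ∀ a ∈ IP, ∀ b ∈ IP, a * b ∈ IP := fun a ha b hb => by
    rw [hIP] at ha hb ⊢
    exact ⟨Nat.mul_pos ha.1 hb.1, fun q hq h => (hq.dvd_mul.mp h).elim (ha.2 q hq) (hb.2 q hq)⟩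
  have htors : ∀ (t : A) (k : ℕ), 0 < k → k • t = 0 → ∀ n ∈ IP, ∃ c : A, N • N • t = n • c := by
    intro t k hk hkt n hn
    refine hker (fun _ => N • t) (fun m n _ => ⟨0, by simp⟩) (fun m => ?_) ⟨n, hn⟩
    rw [map_nsmul]
    exact htor (fun j => φ j t) (fun a b h => hφg a b h t)
      ⟨k, hk, fun j => by rw [← map_nsmul, hkt, map_zero]⟩ m
  refine ⟨fun ℓ hℓ x hx => ?_, fun H hH x hx n hn => ?_⟩
  · have hℓI : ℓ ∈ IP := (hIP ℓ).mpr ⟨(hP ℓ hℓ).pos, fun q hq h =>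
      (Nat.prime_dvd_prime_iff_eq hq (hP ℓ hℓ)).mp h ▸ hℓ⟩
    have hM : ℓ * (N * N) ∈ IP := hmul ℓ hℓI _ (hmul N hN N hN)
    obtain ⟨y₀, hy₀⟩ := hx _ hM
    refine ⟨(N * N) • y₀, fun n hn => ?_, by rw [hy₀, mul_smul ℓ]⟩
    obtain ⟨yn, hyn⟩ := hx _ (hmul _ hM n hn)
    obtain ⟨c, hc⟩ := htors (y₀ - n • yn) _ ((hIP _).mp hM).1
      (by rw [smul_sub, ← hy₀, ← mul_smul, ← hyn, sub_self]) n hn
    refine ⟨(N * N) • yn + c, ?_⟩
    rw [smul_add, ← hc, smul_comm n (N * N) yn, mul_smul N N y₀, mul_smul N N (n • yn), smul_sub,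
      smul_sub]
    abel
  · suffices ∀ n, 0 < n → (∀ q : ℕ, q.Prime → q ∣ n → q ∈ P) → ∃ y ∈ H, x = n • y by
      obtain ⟨y, -, hy⟩ := this n ((hIP n).mp hn).1 ((hIP n).mp hn).2
      exact ⟨y, hy⟩
    intro k
    induction k using induction_on_primes with
    | zero => exact fun h => absurd h (lt_irrefl 0)
    | one => exact fun _ _ => ⟨x, hx, (one_smul _ _).symm⟩
    | prime_mul q m hq ih =>
      intro h0 h
      obtain ⟨y, hy, rfl⟩ := ih (Nat.pos_of_mul_pos_left h0)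
        fun r hr hrd => h r hr (hrd.mul_left q)
      obtain ⟨z, hz, rfl⟩ := hH q (h q hq (dvd_mul_right _ _)) y hy
      exact ⟨z, hz, by rw [mul_comm, mul_smul]⟩

end Groth.Agent.S16346
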