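import Groth.Statements.S16347
import Groth.Agent.Cubic.Restrict
import Mathlib.LinearAlgebra.Matrix.ToLinearEquiv
import Mathlib.Algebra.MvPolynomial.Nilpotent

set_option autoImplicit false
universe u
open Cubic

namespace Groth.Agent.S16347

open Groth.Agent.Cubic MvPolynomial
open Groth.Agent.Cubic.Basic (B)

variable {K : Type*} [Field K] [IsAlgClosed K] [CharZero K]

/-- A frame in the hyperplane `ker μ`. -/
structure Frame3 (μ : (Fin 4 → K) →ₗ[K] K) (a : Fin 4 → K) where
  e : Fin 3 → (Fin 4 → K)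
  c : Fin 3 → ((Fin 4 → K) →ₗ[K] K)
  he : ∀ i, μ (e i) = 0
  decomp : ∀ x, x = μ x • a + (c 0 x • e 0 + c 1 x • e 1 + c 2 x • e 2)
  coord : ∀ i j, c i (e j) = if i = j then 1 else 0
  coord_a : ∀ i, c i a = 0

theorem mkFrame {μ : (Fin 4 → K) →ₗ[K] K} {a : Fin 4 → K} (hμa : μ a = 1)
    {e : Fin 3 → (Fin 4 → K)} (he : ∀ i, μ (e i) = 0)
    (hli : ∀ g : Fin 3 → K, g 0 • e 0 + g 1 • e 1 + g 2 • e 2 = 0 → g = 0) :
    Nonempty {F : Frame3 μ a // F.e = e} := by
  have hb : LinearIndependent K ![a, e 0, e 1, e 2] := by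
    rw [Fintype.linearIndependent_iff]
    intro g hg
    simp [Fin.sum_univ_four] at hg
    have g0 : g 0 = 0 := by
      have := congrArg μ hg
      simpa [hμa, he] using this
    simp only [g0, zero_smul, zero_add] at hg
    have h3 := hli ![g 1, g 2, g 3] (by simpa using hg)
    intro i
    fin_cases i
    · exact g0
    · exact congrFun h3 0
    · exact congrFun h3 1
    · exact congrFun h3 2
  let b := basisOfLinearIndependentOfCardEqFinrank hb (by simp)
  have hb' : ⇑b = ![a, e 0, e 1, e 2] := coe_basisOfLinearIndependentOfCardEqFinrank _ _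
  have hc : ∀ i j, b.coord i (![a, e 0, e 1, e 2] j) = if j = i then 1 else 0 := fun i j => by
    rw [← hb']
    simp [Finsupp.single_apply]
  have hrepr : ∀ x, b.coord 0 x • a + b.coord 1 x • e 0 + b.coord 2 x • e 1 + b.coord 3 x • e 2 = x :=
    fun x => by
      have := b.sum_repr x
      simpa [Fin.sum_univ_four, hb'] using this
  refine ⟨⟨⟨e, fun i => b.coord i.succ, he, fun x => ?_, fun i j => ?_, fun i => ?_⟩, rfl⟩⟩
  · have h0 : b.coord 0 x = μ x := by
      conv_rhs => rw [← hrepr x]
      simp [hμa, he]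
    conv_lhs => rw [← hrepr x]
    rw [h0]
    simp only [Fin.succ_zero_eq_one, Fin.succ_one_eq_two, show (Fin.succ 2 : Fin 4) = 3 from rfl]
    module
  · have := hc i.succ j.succ
    fin_cases j <;> fin_cases i <;> simpa using this
  · simpa [Fin.succ_ne_zero, eq_comm] using hc i.succ 0

theorem Frame3.combo {μ : (Fin 4 → K) →ₗ[K] K} {a : Fin 4 → K} (F : Frame3 μ a) (i : Fin 3) (x y z : K) :
    F.c i (x • F.e 0 + y • F.e 1 + z • F.e 2) = ![x, y, z] i := by
  fin_cases i <;> simp [F.coord]

theorem Frame3.mu_combo {μ : (Fin 4 → K) →ₗ[K] K} {a : Fin 4 → K} (F : Frame3 μ a) (x y z : K) :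
    μ (x • F.e 0 + y • F.e 1 + z • F.e 2) = 0 := by
  simp [F.he]

/-- A product of two forms of positive degree is reducible. -/
theorem not_irreducible_mul {A G : MvPolynomial (Fin 4) K} {d e : ℕ} (hA : A.IsHomogeneous d)
    (hG : G.IsHomogeneous e) (hd : 0 < d) (he : 0 < e) : ¬ Irreducible (A * G) := by
  intro hirr
  rcases hirr.isUnit_or_isUnit rfl with h | h
  · have h0 : A.totalDegree = 0 := by
      obtain ⟨c, -, rfl⟩ := MvPolynomial.isUnit_iff_eq_C_of_isReduced.mp h
      simp
    have := hA.totalDegree h.ne_zero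
    omega
  · have h0 : G.totalDegree = 0 := by
      obtain ⟨c, -, rfl⟩ := MvPolynomial.isUnit_iff_eq_C_of_isReduced.mp h
      simp
    have := hG.totalDegree h.ne_zero
    omega

theorem expand3 {f : MvPolynomial (Fin 4) K} (hf : f.IsHomogeneous 3) (p r s : Fin 4 → K) (x y z : K) :
    MvPolynomial.eval (x • p + y • r + z • s) f =
      MvPolynomial.eval p f * x ^ 3 + B f p r * (x ^ 2 * y) + B f r p * (x * y ^ 2) +
      MvPolynomial.eval r f * y ^ 3 + B f p s * (x ^ 2 * z) + B (Basic.dd r f) p s * (x * y * z) +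
      B f r s * (y ^ 2 * z) + B f s p * (x * z ^ 2) + B f s r * (y * z ^ 2) +
      MvPolynomial.eval s f * z ^ 3 := by
  rw [Basic.eval_line hf, Restrict.eval_pair hf, Basic.B_add_right, Basic.B_smul_right,
    Basic.B_smul_right, Basic.B_line_left hf, Basic.B_smul_left hf]
  have e : B (Basic.dd r f) (x • p) s = x * B (Basic.dd r f) p s := by
    rw [Basic.B_symm_deg_two (Basic.isHomogeneous_dd _ hf), Basic.B_smul_right,
      Basic.B_symm_deg_two (Basic.isHomogeneous_dd _ hf)]
  rw [e]
  ring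

theorem expand3_quad {g : MvPolynomial (Fin 4) K} (hg : g.IsHomogeneous 2) (p r s : Fin 4 → K) (x y z : K) :
    MvPolynomial.eval (x • p + y • r + z • s) g =
      MvPolynomial.eval p g * x ^ 2 + B g p r * (x * y) + MvPolynomial.eval r g * y ^ 2 +
      B g p s * (x * z) + B g r s * (y * z) + MvPolynomial.eval s g * z ^ 2 := by
  have hsm : ∀ (c : K) (u : Fin 4 → K), MvPolynomial.eval (c • u) g = c ^ 2 * MvPolynomial.eval u g := by
    intro c u
    have h1 := Basic.euler hg (c • u)
    have h2 := Basic.euler hg u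
    rw [Basic.dd_smul_left, smul_eval, Basic.eval_smul_deg_one (Basic.isHomogeneous_dd u hg)] at h1
    push_cast at h1 h2
    linear_combination -h1 / 2 + c ^ 2 / 2 * h2
  have e1 : B g (x • p) r = x * B g p r := by
    rw [Basic.B_symm_deg_two hg, Basic.B_smul_right, Basic.B_symm_deg_two hg]
  have e2 : B g (x • p + y • r) s = x * B g p s + y * B g r s := by
    rw [Basic.B_symm_deg_two hg, Basic.B_add_right, Basic.B_smul_right, Basic.B_smul_right,
      Basic.B_symm_deg_two hg s p, Basic.B_symm_deg_two hg s r]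
  rw [Basic.eval_line_deg_two hg, Basic.eval_line_deg_two hg, hsm, e1, e2]
  ring

/-- The quadric cone at the singular point, in normal form. -/
theorem normal_form {g : MvPolynomial (Fin 4) K} (hg : g.IsHomogeneous 2)
    {μ : (Fin 4 → K) →ₗ[K] K} {a : Fin 4 → K} (hμa : μ a = 1)
    (hg0 : ∃ w, μ w = 0 ∧ MvPolynomial.eval w g ≠ 0) :
    ∃ F : Frame3 μ a,
      (∃ p₁ q₁ r₁ p₂ q₂ r₂ : K, (p₁ ≠ 0 ∨ q₁ ≠ 0 ∨ r₁ ≠ 0) ∧ (p₂ ≠ 0 ∨ q₂ ≠ 0 ∨ r₂ ≠ 0) ∧
        ∀ x y z : K, MvPolynomial.eval (x • F.e 0 + y • F.e 1 + z • F.e 2) g =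
          (p₁ * x + q₁ * y + r₁ * z) * (p₂ * x + q₂ * y + r₂ * z)) ∨
      (∀ x y z : K, MvPolynomial.eval (x • F.e 0 + y • F.e 1 + z • F.e 2) g = x * z - y ^ 2) := by
  have hμ0 : μ ≠ 0 := fun h => by simp [h] at hμa
  have h3 := Eckardt.finrank_ker_eq_three μ hμ0
  let b := Module.finBasisOfFinrankEq K ↥(LinearMap.ker μ) h3
  have hbi : ∀ i, μ (b i : Fin 4 → K) = 0 := fun i => LinearMap.mem_ker.mp (b i).2
  have hbli : ∀ x y z : K, x • (b 0 : Fin 4 → K) + y • (b 1 : Fin 4 → K) + z • (b 2 : Fin 4 → K) = 0 →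
      x = 0 ∧ y = 0 ∧ z = 0 := fun x y z h => by
    have h' : x • b 0 + y • b 1 + z • b 2 = 0 := Subtype.ext (by simpa using h)
    have := Fintype.linearIndependent_iff.mp b.linearIndependent ![x, y, z]
      (by simpa [Fin.sum_univ_three] using h')
    exact ⟨this 0, this 1, this 2⟩
  obtain ⟨s, t, hst, hz⟩ := Restrict.exists_binary_zero (MvPolynomial.eval (b 0 : Fin 4 → K) g)
    (B g (b 0 : Fin 4 → K) (b 1)) (MvPolynomial.eval (b 1 : Fin 4 → K) g)
  set p := s • (b 0 : Fin 4 → K) + t • (b 1 : Fin 4 → K) with hp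
  have hμp : μ p = 0 := by simp [hp, hbi]
  have hgp : MvPolynomial.eval p g = 0 := by
    have := expand3_quad hg (b 0 : Fin 4 → K) (b 1) 0 s t 0
    rw [zero_smul, add_zero, ← hp] at this
    rw [this]
    linear_combination hz
  have hp0 : p ≠ 0 := fun h => by
    obtain ⟨e1, e2, -⟩ := hbli s t 0 (by rw [zero_smul, add_zero]; exact h)
    tauto
  by_cases hpol : ∀ w, μ w = 0 → B g p w = 0
  · -- two lines through `p`
    obtain ⟨e₁, he₁, he₁'⟩ := Restrict.exists_notMem_of_finrank_lt (U := Submodule.span K {p})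
      (W := LinearMap.ker μ) (by rw [finrank_span_singleton hp0, h3]; norm_num)
    have hli2 : LinearIndependent K ![p, e₁] := (LinearIndependent.pair_iff' hp0).mpr fun c hc =>
      he₁' (Submodule.mem_span_singleton.mpr ⟨c, hc⟩)
    have h2 : Module.finrank K ↥(Submodule.span K ({p, e₁} : Set (Fin 4 → K))) = 2 := by
      have := finrank_span_eq_card hli2
      rwa [Matrix.range_cons_cons_empty, Fintype.card_fin] at this
    obtain ⟨e₂, he₂, he₂'⟩ := Restrict.exists_notMem_of_finrank_lt
      (U := Submodule.span K ({p, e₁} : Set (Fin 4 → K))) (W := LinearMap.ker μ) (by rw [h2, h3]; norm_num)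
    rw [LinearMap.mem_ker] at he₁ he₂
    obtain ⟨⟨F, hF⟩⟩ := mkFrame (a := a) hμa (e := ![p, e₁, e₂])
      (fun i => by fin_cases i <;> simp [hμp, he₁, he₂]) fun c hc => by
        simp at hc
        have c2 : c 2 = 0 := by
          by_contra h
          apply he₂'
          refine Submodule.mem_span_pair.mpr ⟨-(c 2)⁻¹ * c 0, -(c 2)⁻¹ * c 1, ?_⟩
          have h' := congrArg (fun z => (c 2)⁻¹ • z) hc
          simp only [smul_add, smul_zero, smul_smul, inv_mul_cancel₀ h, one_smul] at h'
          linear_combination (norm := module) -h'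
        rw [c2, zero_smul, add_zero] at hc
        obtain ⟨c0, c1⟩ := LinearIndependent.pair_iff.mp hli2 _ _ hc
        funext i; fin_cases i <;> assumption
    obtain ⟨p₁, q₁, p₂, q₂, hq⟩ := Restrict.binary_quad (MvPolynomial.eval e₁ g) (B g e₁ e₂)
      (MvPolynomial.eval e₂ g)
    have hval : ∀ x y z : K, MvPolynomial.eval (x • F.e 0 + y • F.e 1 + z • F.e 2) g =
        (p₁ * y + q₁ * z) * (p₂ * y + q₂ * z) := fun x y z => by
      rw [expand3_quad hg, hF]
      simp [hgp, hpol _ he₁, hpol _ he₂]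
      linear_combination hq y z
    obtain ⟨w, hw, hwne⟩ := hg0
    have hne : (p₁ ≠ 0 ∨ q₁ ≠ 0) ∧ (p₂ ≠ 0 ∨ q₂ ≠ 0) := by
      by_contra hc
      apply hwne
      rw [F.decomp w, hw, zero_smul, zero_add, hval]
      rcases not_and_or.mp hc with h | h <;> push Not at h <;> rw [h.1, h.2] <;> ring
    exact ⟨F, Or.inl ⟨0, p₁, q₁, 0, p₂, q₂, Or.inr hne.1, Or.inr hne.2, fun x y z => by rw [hval]; ring⟩⟩
  · push Not at hpol
    obtain ⟨p', hp', hpp'⟩ := hpol
    set s₁ := (B g p p')⁻¹ • p' with hs₁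
    have hBs₁ : B g p s₁ = 1 := by rw [hs₁, Basic.B_smul_right, inv_mul_cancel₀ hpp']
    have hμs₁ : μ s₁ = 0 := by simp [hs₁, hp']
    have hBpp : B g p p = 0 := by rw [Basic.B_self hg, hgp, mul_zero]
    set q := s₁ - MvPolynomial.eval s₁ g • p with hq
    have hμq : μ q = 0 := by simp [hq, hμp, hμs₁]
    have hBq : B g p q = 1 := by
      rw [hq, Basic.B_sub_right, hBs₁, Basic.B_smul_right, hBpp]; ring
    have hgq : MvPolynomial.eval q g = 0 := by
      rw [hq, sub_eq_add_neg, ← neg_smul, Basic.eval_line_deg_two hg, hgp, Basic.B_symm_deg_two hg, hBs₁]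
      ring
    -- the orthogonal direction
    obtain ⟨r₀, hr₀, hr₀'⟩ : ∃ r₀, μ r₀ = 0 ∧ r₀ ∉ Submodule.span K ({p, q} : Set (Fin 4 → K)) := by
      have hcard : Module.finrank K ↥(Submodule.span K ({p, q} : Set (Fin 4 → K))) ≤ 2 := by
        classical
        refine (finrank_span_le_card _).trans ?_
        simp [Set.toFinset_insert]
        exact Finset.card_le_two
      obtain ⟨r₀, h1, h2⟩ := Restrict.exists_notMem_of_finrank_lt
        (U := Submodule.span K ({p, q} : Set (Fin 4 → K))) (W := LinearMap.ker μ) (by rw [h3]; omega)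
      exact ⟨r₀, h1, h2⟩
    set r₁ := r₀ - B g p r₀ • q with hr₁
    set r := r₁ - B g r₁ q • p with hr
    have hμr : μ r = 0 := by simp [hr, hr₁, hr₀, hμq, hμp]
    have hBpr₁ : B g p r₁ = 0 := by rw [hr₁, Basic.B_sub_right, Basic.B_smul_right, hBq]; ring
    have hBpr : B g p r = 0 := by rw [hr, Basic.B_sub_right, Basic.B_smul_right, hBpr₁, hBpp]; ring
    have hBrq : B g r q = 0 := by
      rw [Basic.B_symm_deg_two hg, hr, Basic.B_sub_right, Basic.B_smul_right,
        Basic.B_symm_deg_two hg q p, hBq, Basic.B_symm_deg_two hg q r₁]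
      ring
    have hli : ∀ (σ : K), σ ≠ 0 → ∀ c : Fin 3 → K, c 0 • p + c 1 • (σ • r) + c 2 • q = 0 → c = 0 := by
      intro σ hσ c hc
      have c1 : c 1 = 0 := by
        by_contra h
        apply hr₀'
        refine Submodule.mem_span_pair.mpr ⟨-((c 1 * σ)⁻¹ * c 0) + B g r₁ q,
          -((c 1 * σ)⁻¹ * c 2) + B g p r₀, ?_⟩
        have h' := congrArg (fun z => (c 1 * σ)⁻¹ • z) hc
        simp only [smul_add, smul_zero, smul_smul] at h'
        rw [show (c 1 * σ)⁻¹ * (c 1 * σ) = 1 from inv_mul_cancel₀ (mul_ne_zero h hσ), one_smul] at h'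
        rw [hr, hr₁] at h'
        linear_combination (norm := module) -h'
      rw [c1, zero_smul, add_zero] at hc
      have h2 := congrArg (Basic.Bₗ g p) hc
      rw [map_add, map_smul, map_smul, map_zero] at h2
      simp [hBpp, hBq] at h2
      rw [h2, zero_smul, add_zero, smul_eq_zero] at hc
      funext i
      fin_cases i
      · exact hc.resolve_right hp0
      · exact c1
      · exact h2
    rcases eq_or_ne (MvPolynomial.eval r g) 0 with hgr | hgr
    · obtain ⟨⟨F, hF⟩⟩ := mkFrame (a := a) hμa (e := ![p, r, q])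
        (fun i => by fin_cases i <;> simp [hμp, hμr, hμq]) fun c hc =>
          hli 1 one_ne_zero c (by simpa using hc)
      refine ⟨F, Or.inl ⟨1, 0, 0, 0, 0, 1, Or.inl one_ne_zero, Or.inr (Or.inr one_ne_zero), fun x y z => ?_⟩⟩
      rw [expand3_quad hg, hF]
      simp [hgp, hgr, hgq, hBpr, hBrq, hBq]
    · obtain ⟨σ, hσ⟩ := IsAlgClosed.exists_pow_nat_eq (-(MvPolynomial.eval r g)⁻¹) (n := 2) (by norm_num)
      have hσ0 : σ ≠ 0 := fun h => by simp [h, hgr] at hσ
      obtain ⟨⟨F, hF⟩⟩ := mkFrame (a := a) hμa (e := ![p, σ • r, q])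
        (fun i => by fin_cases i <;> simp [hμp, hμr, hμq]) (fun c hc => hli σ hσ0 c (by simpa using hc))
      have hgσ : MvPolynomial.eval (σ • r) g = -1 := by
        have := expand3_quad hg r 0 0 σ 0 0
        simp at this
        rw [this, hσ]
        field_simp
      refine ⟨F, Or.inr fun x y z => ?_⟩
      rw [expand3_quad hg, hF]
      simp [hgp, hgq, hBq, hgσ]
      rw [Basic.B_smul_right, hBpr, Basic.B_symm_deg_two hg (σ • r), Basic.B_smul_right,
        Basic.B_symm_deg_two hg q r, hBrq]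
      ring


/-- Let K be an algebraically closed field of characteristic zero and S = V(F) ⊂ P^3_K a cubic surface,
F a homogeneous cubic in four variables which is irreducible and not a cone (there is no nonzero
vector v with Σ_i v_i ∂F/∂x_i = 0). If a is a singular point of S (a nonzero vector with F(a) = 0
and every ∂F/∂x_i(a) = 0), then at most six lines through a lie on S; here a line through a on S is
a 2-dimensional subspace of K^4 containing a on which F vanishes identically. -/
theorem result (K : Type u) [Field K] [IsAlgClosed K] [CharZero K]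
    (F : MvPolynomial (Fin 4) K) (hF : F.IsHomogeneous 3) (hirr : Irreducible F)
    (hcone : ¬ ∃ v : Fin 4 → K, v ≠ 0 ∧ ∑ i : Fin 4, v i • MvPolynomial.pderiv i F = 0)
    (a : Fin 4 → K) (ha : a ≠ 0) (hFa : MvPolynomial.eval a F = 0)
    (hsing : ∀ i : Fin 4, MvPolynomial.eval a (MvPolynomial.pderiv i F) = 0) :
    {U : Submodule K (Fin 4 → K) | a ∈ U ∧ Module.finrank K ↥U = 2 ∧ ∀ u ∈ U, MvPolynomial.eval u F = 0}.encard ≤ 6 := by
  classical
  have hB0 : ∀ w, B F a w = 0 := fun w => by simp [B, Basic.eval_dd, hsing]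
  obtain ⟨μ, hμa⟩ : ∃ μ : (Fin 4 → K) →ₗ[K] K, μ a = 1 := by
    obtain ⟨i, hi⟩ := Function.ne_iff.mp ha
    exact ⟨(a i)⁻¹ • LinearMap.proj i, by simp [inv_mul_cancel₀ hi]⟩
  have hline : ∀ w t, MvPolynomial.eval (w + t • a) F = MvPolynomial.eval w F + t * B F w a := fun w t => by
    rw [Basic.eval_line hF, hFa, hB0]; ring
  have hg := Basic.isHomogeneous_dd a hF
  have hqshift : ∀ w t, B F (w + t • a) a = B F w a := fun w t => by
    rw [Basic.B_line_left hF, Eckardt.mixed hF, hB0, hB0]
    ring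
  have hg0 : ∃ w, μ w = 0 ∧ MvPolynomial.eval w (Basic.dd a F) ≠ 0 := by
    by_contra hc
    push Not at hc
    refine hcone ⟨a, ha, ?_⟩
    refine MvPolynomial.funext fun x => ?_
    have h1 := hc (x - μ x • a) (by simp [hμa])
    have h2 := hqshift (x - μ x • a) (μ x)
    rw [sub_add_cancel] at h2
    rw [map_zero]
    exact h2.trans h1
  obtain ⟨Fr, hnf⟩ := normal_form hg hμa hg0
  have hfull : ∀ x, MvPolynomial.eval x F =
      MvPolynomial.eval (Fr.c 0 x • Fr.e 0 + Fr.c 1 x • Fr.e 1 + Fr.c 2 x • Fr.e 2) F +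
      μ x * B F (Fr.c 0 x • Fr.e 0 + Fr.c 1 x • Fr.e 1 + Fr.c 2 x • Fr.e 2) a := fun x => by
    conv_lhs => rw [Fr.decomp x, add_comm, hline]
  -- the directions
  obtain ⟨T, hT6, hT⟩ : ∃ T : Finset (Fin 4 → K), T.card ≤ 6 ∧ ∀ x y z : K,
      MvPolynomial.eval (x • Fr.e 0 + y • Fr.e 1 + z • Fr.e 2) F = 0 →
      MvPolynomial.eval (x • Fr.e 0 + y • Fr.e 1 + z • Fr.e 2) (Basic.dd a F) = 0 →
      x • Fr.e 0 + y • Fr.e 1 + z • Fr.e 2 ≠ 0 →
      ∃ e ∈ T, ∃ s : K, x • Fr.e 0 + y • Fr.e 1 + z • Fr.e 2 = s • e := by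
    rcases hnf with ⟨p₁, q₁, r₁, p₂, q₂, r₂, h1, h2, hval⟩ | hval
    · have side : ∀ p q r : K, (p ≠ 0 ∨ q ≠ 0 ∨ r ≠ 0) →
          (∀ x y z : K, p * x + q * y + r * z = 0 →
            MvPolynomial.eval (x • Fr.e 0 + y • Fr.e 1 + z • Fr.e 2) (Basic.dd a F) = 0) →
          ∃ T : Finset (Fin 4 → K), T.card ≤ 3 ∧ ∀ x y z : K, p * x + q * y + r * z = 0 →
            MvPolynomial.eval (x • Fr.e 0 + y • Fr.e 1 + z • Fr.e 2) F = 0 →
            ∃ e ∈ T, ∃ s : K, x • Fr.e 0 + y • Fr.e 1 + z • Fr.e 2 = s • e := by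
        intro p q r hpqr hq0
        set Λ : (Fin 4 → K) →ₗ[K] K := p • Fr.c 0 + q • Fr.c 1 + r • Fr.c 2 with hΛ
        have hΛc : ∀ x y z : K, Λ (x • Fr.e 0 + y • Fr.e 1 + z • Fr.e 2) = p * x + q * y + r * z :=
          fun x y z => by
            rw [hΛ]
            simp only [LinearMap.add_apply, LinearMap.smul_apply, Fr.combo, smul_eq_mul]
            simp
        have hΛ0 : Λ ≠ 0 := fun h => by
          rcases hpqr with hh | hh | hh
          · exact hh (by simpa [h] using (hΛc 1 0 0).symm)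
          · exact hh (by simpa [h] using (hΛc 0 1 0).symm)
          · exact hh (by simpa [h] using (hΛc 0 0 1).symm)
        have hΛa : Λ a = 0 := by simp [hΛ, Fr.coord_a]
        obtain ⟨G⟩ := Restrict.nonempty_frame Λ a hΛ0 ha hΛa
        let w₁ := G.u₁ - μ G.u₁ • a
        let w₂ := G.u₂ - μ G.u₂ • a
        obtain ⟨r₁', s₁', r₂', s₂', r₃', s₃', hC⟩ := Restrict.binary_cubic (MvPolynomial.eval w₁ F)
          (B F w₁ w₂) (B F w₂ w₁) (MvPolynomial.eval w₂ F)
        have hspan : ∀ x, Λ x = 0 → μ x = 0 → ∃ y z : K, x = y • w₁ + z • w₂ := by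
          intro x hx hμx
          have hd := G.decomp x
          rw [hx, zero_smul, sub_zero] at hd
          refine ⟨G.c₂ x, G.c₃ x, ?_⟩
          have hμd := congrArg μ hd
          simp [hμx, hμa] at hμd
          have h1 : G.c₁ x = -(G.c₂ x * μ G.u₁) - G.c₃ x * μ G.u₂ := by linear_combination -hμd
          rw [h1] at hd
          conv_lhs => rw [hd]
          simp only [w₁, w₂]
          module
        by_cases hall : (r₁' ≠ 0 ∨ s₁' ≠ 0) ∧ (r₂' ≠ 0 ∨ s₂' ≠ 0) ∧ (r₃' ≠ 0 ∨ s₃' ≠ 0)
        · let pt : K → K → (Fin 4 → K) := fun r s => s • w₁ + (-r) • w₂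
          refine ⟨{pt r₁' s₁', pt r₂' s₂', pt r₃' s₃'}, Finset.card_le_three, fun x y z hL hF0 => ?_⟩
          obtain ⟨u, v, huv⟩ := hspan _ (by rw [hΛc]; exact hL) (Fr.mu_combo x y z)
          rw [huv] at hF0 ⊢
          rw [Restrict.eval_pair hF, hC] at hF0
          have hpt : ∀ r s : K, (r ≠ 0 ∨ s ≠ 0) → r * u + s * v = 0 →
              ∃ c : K, u • w₁ + v • w₂ = c • pt r s := by
            intro r s h0 h
            obtain ⟨c, rfl, rfl⟩ := Restrict.binary_linear_zero h0 h
            exact ⟨c, by simp only [pt]; module⟩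
          rcases mul_eq_zero.mp hF0 with h' | h'
          · rcases mul_eq_zero.mp h' with h' | h'
            · exact ⟨_, by simp, hpt _ _ hall.1 h'⟩
            · exact ⟨_, by simp, hpt _ _ hall.2.1 h'⟩
          · exact ⟨_, by simp, hpt _ _ hall.2.2 h'⟩
        · -- a plane of the surface
          exfalso
          have hC0 : ∀ y z, MvPolynomial.eval (y • w₁ + z • w₂) F = 0 := fun y z => by
            rw [Restrict.eval_pair hF, hC]
            rcases not_and_or.mp hall with h' | h' <;> [skip; rcases not_and_or.mp h' with h' | h'] <;>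
              push Not at h' <;> rw [h'.1, h'.2] <;> ring
          have hvan : ∀ x, Λ x = 0 → MvPolynomial.eval x F = 0 := by
            intro x hx
            set w := Fr.c 0 x • Fr.e 0 + Fr.c 1 x • Fr.e 1 + Fr.c 2 x • Fr.e 2 with hwdef
            have hLw : p * Fr.c 0 x + q * Fr.c 1 x + r * Fr.c 2 x = 0 := by
              simpa [hΛ] using hx
            obtain ⟨u, v, huv⟩ := hspan w (by rw [hwdef, hΛc]; exact hLw) (Fr.mu_combo _ _ _)
            rw [hfull, show B F w a = 0 from hq0 _ _ _ hLw, ← hwdef, huv, hC0]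
            ring
          have hmem : F - 0 ∈ Ideal.span {Restrict.lin Λ} :=
            Restrict.sub_mem_span_linear F 0 _ G.u₀ fun x => by
              rw [hvan _ (by simp [Restrict.eval_lin, G.l₀]), map_zero]
          rw [sub_zero, Ideal.mem_span_singleton] at hmem
          obtain ⟨H, hH⟩ := hmem
          have hlin0 : Restrict.lin Λ ≠ 0 := fun h => hΛ0 (LinearMap.ext fun y => by
            rw [← Restrict.eval_lin Λ y, h]; simp)
          have hdeg := hF.totalDegree hirr.ne_zero
          rcases hirr.isUnit_or_isUnit hH with h | h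
          · have := (Restrict.isHomogeneous_lin Λ).totalDegree hlin0
            obtain ⟨c, -, hc⟩ := MvPolynomial.isUnit_iff_eq_C_of_isReduced.mp h
            rw [hc, totalDegree_C] at this
            omega
          · obtain ⟨c, -, hc⟩ := MvPolynomial.isUnit_iff_eq_C_of_isReduced.mp h
            rw [hH, hc, mul_comm, ← smul_eq_C_mul] at hdeg
            have := (totalDegree_smul_le c (Restrict.lin Λ)).trans
              ((Restrict.isHomogeneous_lin Λ).totalDegree_le)
            omega
      have hq₁ : ∀ x y z : K, p₁ * x + q₁ * y + r₁ * z = 0 →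
          MvPolynomial.eval (x • Fr.e 0 + y • Fr.e 1 + z • Fr.e 2) (Basic.dd a F) = 0 :=
        fun x y z h => by rw [hval, h, zero_mul]
      have hq₂ : ∀ x y z : K, p₂ * x + q₂ * y + r₂ * z = 0 →
          MvPolynomial.eval (x • Fr.e 0 + y • Fr.e 1 + z • Fr.e 2) (Basic.dd a F) = 0 :=
        fun x y z h => by rw [hval, h, mul_zero]
      obtain ⟨T₁, hT₁, h₁⟩ := side _ _ _ h1 hq₁
      obtain ⟨T₂, hT₂, h₂⟩ := side _ _ _ h2 hq₂
      refine ⟨T₁ ∪ T₂, (Finset.card_union_le _ _).trans (by omega), fun x y z hF0 hq _ => ?_⟩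
      rw [hval] at hq
      rcases mul_eq_zero.mp hq with h | h
      · obtain ⟨e, he, hs⟩ := h₁ x y z h hF0
        exact ⟨e, Finset.mem_union_left _ he, hs⟩
      · obtain ⟨e, he, hs⟩ := h₂ x y z h hF0
        exact ⟨e, Finset.mem_union_right _ he, hs⟩
    · -- a smooth conic
      set p := Fr.e 0
      set r := Fr.e 1
      set s := Fr.e 2
      let P : Polynomial K := Polynomial.C (MvPolynomial.eval p F) * Polynomial.X ^ 6 +
        (Polynomial.C (B F p r) * Polynomial.X ^ 5 +
          Polynomial.C (B F r p + B F p s) * Polynomial.X ^ 4 +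
          Polynomial.C (MvPolynomial.eval r F + B (Basic.dd r F) p s) * Polynomial.X ^ 3 +
          Polynomial.C (B F r s + B F s p) * Polynomial.X ^ 2 + Polynomial.C (B F s r) * Polynomial.X +
          Polynomial.C (MvPolynomial.eval s F))
      have hP : P ≠ 0 := by
        intro h0
        have co : ∀ n, P.coeff n = 0 := fun n => by rw [h0, Polynomial.coeff_zero]
        have c0 := co 0; have c1 := co 1; have c2 := co 2; have c3 := co 3
        have c4 := co 4; have c5 := co 5; have c6 := co 6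
        simp [P, Polynomial.coeff_C_mul, Polynomial.coeff_X_pow, Polynomial.coeff_X, Polynomial.coeff_C, -map_add]
          at c0 c1 c2 c3 c4 c5 c6
        let A : MvPolynomial (Fin 4) K :=
          Restrict.lin (Fr.c 0) * Restrict.lin (Fr.c 2) - Restrict.lin (Fr.c 1) * Restrict.lin (Fr.c 1)
        let G : MvPolynomial (Fin 4) K :=
          Restrict.lin (μ - B F r p • Fr.c 0 - MvPolynomial.eval r F • Fr.c 1 - B F r s • Fr.c 2)
        have hFA : F = A * G := MvPolynomial.funext fun x => by
          rw [hfull, expand3 hF, show B F (Fr.c 0 x • Fr.e 0 + Fr.c 1 x • Fr.e 1 + Fr.c 2 x • Fr.e 2) a =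
            Fr.c 0 x * Fr.c 2 x - Fr.c 1 x ^ 2 from hval _ _ _]
          simp only [A, G, map_mul, map_sub, Restrict.eval_lin, LinearMap.sub_apply, LinearMap.smul_apply,
            smul_eq_mul]
          linear_combination (Fr.c 0 x ^ 3) * c6 + (Fr.c 0 x ^ 2 * Fr.c 1 x) * c5 +
            (Fr.c 0 x ^ 2 * Fr.c 2 x) * c4 + (Fr.c 0 x * Fr.c 1 x * Fr.c 2 x) * c3 +
            (Fr.c 0 x * Fr.c 2 x ^ 2) * c2 + (Fr.c 1 x * Fr.c 2 x ^ 2) * c1 + (Fr.c 2 x ^ 3) * c0
        exact not_irreducible_mul (((Restrict.isHomogeneous_lin _).mul (Restrict.isHomogeneous_lin _)).sub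
          ((Restrict.isHomogeneous_lin _).mul (Restrict.isHomogeneous_lin _)))
          (Restrict.isHomogeneous_lin _) two_pos one_pos (hFA ▸ hirr)
      let T : Finset (Fin 4 → K) := P.roots.toFinset.image (fun t => t ^ 2 • p + t • r + (1 : K) • s) ∪
        (if MvPolynomial.eval p F = 0 then {p} else ∅)
      refine ⟨T, ?_, fun x y z hF0 hq hne => ?_⟩
      · refine (Finset.card_union_le _ _).trans ?_
        have h := (Finset.card_image_le (s := P.roots.toFinset)
          (f := fun t => t ^ 2 • p + t • r + (1 : K) • s)).trans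
            ((Multiset.toFinset_card_le _).trans (Polynomial.card_roots' P))
        split_ifs with hp
        · have hd : P.natDegree ≤ 5 := by
            simp only [P, hp, map_zero, zero_mul, zero_add]
            compute_degree
          rw [Finset.card_singleton]
          omega
        · have hd : P.natDegree ≤ 6 := by
            simp only [P]
            compute_degree
          rw [Finset.card_empty]
          omega
      · rw [hval] at hq
        rcases eq_or_ne z 0 with rfl | hz
        · have hy : y = 0 := by simpa using hq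
          subst hy
          rcases eq_or_ne x 0 with rfl | hx
          · simp at hne
          · rw [zero_smul, zero_smul, add_zero, add_zero, Basic.eval_smul_cubic hF] at hF0
            have hp : MvPolynomial.eval p F = 0 := by simpa [hx] using hF0
            exact ⟨p, by simp [T, hp], x, by simp⟩
        · have hx : x = (y / z) ^ 2 * z := by field_simp; linear_combination hq
          have he : x • p + y • r + z • s = z • ((y / z) ^ 2 • p + (y / z) • r + (1 : K) • s) := by
            rw [smul_add, smul_add, smul_smul, smul_smul, smul_smul, mul_one, mul_div_cancel₀ y hz,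
              mul_comm z, ← hx]
          refine ⟨_, Finset.mem_union_left _ (Finset.mem_image.mpr ⟨y / z, ?_, rfl⟩), z, he⟩
          rw [Multiset.mem_toFinset, Polynomial.mem_roots hP, Polynomial.IsRoot]
          rw [he, Basic.eval_smul_cubic hF, expand3 hF] at hF0
          have h0 := (mul_eq_zero.mp hF0).resolve_left (pow_ne_zero 3 hz)
          simp [P]
          linear_combination h0
  refine le_trans (Set.encard_le_encard (t := ↑(T.image fun e => Submodule.span K ({a, e} : Set (Fin 4 → K)))) ?_) ?_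
  · rintro U ⟨haU, hU2, hUS⟩
    obtain ⟨u, hu, hu'⟩ := Restrict.exists_notMem_of_finrank_lt (U := Submodule.span K {a}) (W := U)
      (by rw [finrank_span_singleton ha, hU2]; norm_num)
    set w := Fr.c 0 u • Fr.e 0 + Fr.c 1 u • Fr.e 1 + Fr.c 2 u • Fr.e 2 with hw
    have huw : u = μ u • a + w := Fr.decomp u
    have hwU : w ∈ U := by
      have e : w = u - μ u • a := eq_sub_of_add_eq (by rw [add_comm]; exact huw.symm)
      rw [e]
      exact U.sub_mem hu (U.smul_mem _ haU)
    have hwnot : w ∉ Submodule.span K {a} := fun h => hu' (by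
      rw [huw]
      exact Submodule.add_mem _ (Submodule.smul_mem _ _ (Submodule.mem_span_singleton_self a)) h)
    obtain ⟨e, he, c, hc⟩ := hT _ _ _ (hUS w hwU) (Restrict.line_props hF hFa haU hUS hwU).2
      (fun h => hwnot (by rw [show w = 0 from h]; exact Submodule.zero_mem _))
    rw [← hw] at hc
    have hc0 : c ≠ 0 := fun h => hwnot (by rw [hc, h, zero_smul]; exact Submodule.zero_mem _)
    have heU : e ∈ U := by
      have := U.smul_mem c⁻¹ hwU
      rwa [hc, smul_smul, inv_mul_cancel₀ hc0, one_smul] at this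
    simp only [Finset.coe_image, Set.mem_image, Finset.mem_coe]
    refine ⟨e, he, Submodule.eq_of_le_of_finrank_le (Submodule.span_le.mpr ?_) ?_⟩
    · rintro x (rfl | rfl)
      · exact haU
      · exact heU
    · have hli : LinearIndependent K ![a, e] := (LinearIndependent.pair_iff' ha).mpr fun t ht =>
        hwnot (Submodule.mem_span_singleton.mpr ⟨c * t, by rw [hc, ← ht, smul_smul]⟩)
      have h2 := finrank_span_eq_card hli
      rw [Matrix.range_cons_cons_empty, Fintype.card_fin] at h2
      omega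
  · rw [Set.encard_coe_eq_coe_finsetCard]
    exact_mod_cast Finset.card_image_le.trans hT6

end Groth.Agent.S16347
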