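import Groth.Statements.S16351
import Mathlib.Tactic
import Mathlib.Algebra.CharZero.Infinite
import Mathlib.Data.Fin.SuccPred

set_option autoImplicit false
universe u
open Cubic

namespace Groth.Agent.S16351

open MvPolynomial Finset


/-- Let K be a field of characteristic zero and S = V(F) ⊂ P^3_K a cone over a plane cubic curve C,
normalised so that the vertex is [1 : 0 : 0 : 0], i.e. F is a homogeneous cubic in K[x_0, …, x_3]
not involving x_0 and C = V(F) in the plane P^2 of the coordinates x_1, x_2, x_3. If C has five
K-rational points no three of which are collinear, then S has five K-rational points in general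
position (no four coplanar: any four representing vectors linearly independent). -/
theorem result (K : Type u) [Field K] [CharZero K]
    (G : MvPolynomial (Fin 3) K) (hG : G.IsHomogeneous 3) (F : MvPolynomial (Fin 4) K)
    (hF : F = MvPolynomial.rename Fin.succ G)
    (b : Fin 5 → (Fin 3 → K)) (hb : ∀ j : Fin 5, MvPolynomial.eval (b j) G = 0)
    (h3 : ∀ i j l : Fin 5, i ≠ j → j ≠ l → i ≠ l → LinearIndependent K ![b i, b j, b l]) :
    ∃ p : Fin 5 → (Fin 4 → K), (∀ j : Fin 5, MvPolynomial.eval (p j) F = 0) ∧
      ∀ j : Fin 5, LinearIndependent K (fun i : Fin 4 => p (j.succAbove i)) := by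
  classical
  have hli : ∀ i j l : Fin 5, i ≠ j → j ≠ l → i ≠ l → ∀ x y z : K,
      x • b i + y • b j + z • b l = 0 → x = 0 ∧ y = 0 ∧ z = 0 := by
    intro i j l h1 h2 h3' x y z hz
    have := Fintype.linearIndependent_iff.mp (h3 i j l h1 h2 h3') ![x, y, z]
      (by simpa [Fin.sum_univ_three] using hz)
    exact ⟨this 0, this 1, this 2⟩
  have hbad : ∀ i j : Fin 5, ∃ c : K, i ≠ j → 1 < (i : ℕ) → 1 < (j : ℕ) →
      ∀ x y u w : K, x • b 0 + y • b 1 + u • b i + w • b j = 0 → x = c * y := by
    intro i j
    by_cases h : ∃ x y u w : K, y ≠ 0 ∧ x • b 0 + y • b 1 + u • b i + w • b j = 0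
    · obtain ⟨x₀, y₀, u₀, w₀, hy, hr⟩ := h
      refine ⟨x₀ / y₀, fun hij hi hj x y u w hh => ?_⟩
      have h' : (x - y / y₀ * x₀) • b 0 + (u - y / y₀ * u₀) • b i + (w - y / y₀ * w₀) • b j = 0 := by
        have h2 := congrArg (fun q => (y / y₀) • q) hr
        simp only [smul_add, smul_zero, smul_smul, div_mul_cancel₀ _ hy] at h2
        linear_combination (norm := module) hh - h2
      have := (hli 0 i j (fun e => by simp [← e] at hi) hij (fun e => by simp [← e] at hj) _ _ _ h').1
      linear_combination this
    · push Not at h
      refine ⟨0, fun hij hi hj x y u w hh => ?_⟩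
      have hy : y = 0 := by
        by_contra hy
        exact h x y u w hy hh
      subst hy
      rw [zero_smul, add_zero] at hh
      rw [(hli 0 i j (fun e => by simp [← e] at hi) hij (fun e => by simp [← e] at hj) _ _ _ hh).1]
      ring
  choose c hc using hbad
  obtain ⟨x, hx⟩ := Infinite.exists_notMem_finset
    ({0} ∪ Finset.image (fun q : Fin 5 × Fin 5 => -c q.1 q.2) univ)
  simp only [mem_union, Finset.mem_singleton, mem_image, mem_univ, true_and, not_or, not_exists] at hx
  let t : Fin 5 → K := ![1, x, 0, 0, 0]
  refine ⟨fun j => Fin.cons (t j) (b j), fun j => ?_, fun m => ?_⟩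
  · rw [hF, eval_rename]
    have e : (Fin.cons (t j) (b j) : Fin 4 → K) ∘ Fin.succ = b j := by ext i; simp
    rw [e]
    exact hb j
  · rw [Fintype.linearIndependent_iff]
    intro g hg
    let L : Fin 5 → K := Fin.insertNth m 0 g
    have hL : ∑ j, L j • (Fin.cons (t j) (b j) : Fin 4 → K) = 0 := by
      rw [Fin.sum_univ_succAbove _ m]
      simpa [L] using hg
    have h0 : L 0 + x * L 1 = 0 := by
      have := congrFun hL 0
      simp [Fin.sum_univ_five, t] at this
      linear_combination this
    have hb' : L 0 • b 0 + L 1 • b 1 + L 2 • b 2 + L 3 • b 3 + L 4 • b 4 = 0 := by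
      ext i
      have := congrFun hL i.succ
      simp [Fin.sum_univ_five] at this
      simpa using this
    have hm : L m = 0 := by simp [L]
    suffices hall : ∀ j, L j = 0 by
      intro i
      have := hall (m.succAbove i)
      simpa [L] using this
    have h01 : L 0 = 0 ∧ L 1 = 0 := by
      rcases eq_or_ne (L 1) 0 with h1 | h1
      · exact ⟨by simpa [h1] using h0, h1⟩
      exfalso
      fin_cases m
      · simp only [Fin.reduceFinMk, Fin.isValue] at hm
        rw [hm, zero_add, mul_eq_zero] at h0
        exact h0.elim hx.1 h1
      · exact h1 (by simpa using hm)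
      all_goals simp only [Fin.reduceFinMk, Fin.isValue] at hm
      all_goals rw [hm, zero_smul, add_zero] at hb'
      · exact hx.2 (3, 4) (by
          have := hc 3 4 (by decide) (by decide) (by decide) _ _ _ _ hb'
          exact mul_right_cancel₀ h1 (by linear_combination this - h0))
      · exact hx.2 (2, 4) (by
          have := hc 2 4 (by decide) (by decide) (by decide) _ _ _ _ hb'
          exact mul_right_cancel₀ h1 (by linear_combination this - h0))
      · exact hx.2 (2, 3) (by
          have := hc 2 3 (by decide) (by decide) (by decide) _ _ _ _ hb'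
          exact mul_right_cancel₀ h1 (by linear_combination this - h0))
    rw [h01.1, h01.2, zero_smul, zero_smul, add_zero, zero_add] at hb'
    have h234 := hli 2 3 4 (by decide) (by decide) (by decide) _ _ _ hb'
    intro j
    fin_cases j
    · exact h01.1
    · exact h01.2
    · exact h234.1
    · exact h234.2.1
    · exact h234.2.2

end Groth.Agent.S16351
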