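import Groth.Statements.S16352
import Groth.Agent.Cubic.Restrict

set_option autoImplicit false
universe u
open Cubic

namespace Groth.Agent.S16352

open Groth.Agent.Cubic MvPolynomial
open Groth.Agent.Cubic.Basic (B)


/-- Let K be an algebraically closed field of characteristic zero and S = V(F) ⊂ P^3_K a cubic surface
which is irreducible and not a cone (no nonzero vector v has Σ_i v_i ∂F/∂x_i = 0). Let a be a smooth
point of S which is not a T-point: with ℓ = Σ_i ∂F/∂x_i(a) · x_i the (nonzero) linear form of the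
tangent plane T_a S, F is not congruent modulo ℓ to a product of three linear forms (i.e. T_a S ∩ S
is not set-theoretically a union of lines). Let P = Σ_i a_i ∂F/∂x_i be the first polar of a. Then
V(P) ∩ T_a S is a union of at most two lines through a, and every line through a lying on S lies in
V(P) ∩ T_a S; lines are 2-dimensional subspaces of K^4 and T_a S is the 3-dimensional subspace where
ℓ vanishes. -/
theorem result (K : Type u) [Field K] [IsAlgClosed K] [CharZero K]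
    (F : MvPolynomial (Fin 4) K) (hF : F.IsHomogeneous 3) (hirr : Irreducible F)
    (hcone : ¬ ∃ v : Fin 4 → K, v ≠ 0 ∧ ∑ i : Fin 4, v i • MvPolynomial.pderiv i F = 0)
    (a : Fin 4 → K) (ha : a ≠ 0) (hFa : MvPolynomial.eval a F = 0)
    (hsm : ∃ i : Fin 4, MvPolynomial.eval a (MvPolynomial.pderiv i F) ≠ 0)
    (ℓ : MvPolynomial (Fin 4) K)
    (hℓ : ℓ = ∑ i : Fin 4, MvPolynomial.C (MvPolynomial.eval a (MvPolynomial.pderiv i F)) * MvPolynomial.X i)
    (hT : ¬ ∃ L₁ L₂ L₃ : MvPolynomial (Fin 4) K, L₁.IsHomogeneous 1 ∧ L₂.IsHomogeneous 1 ∧ L₃.IsHomogeneous 1 ∧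
      F - L₁ * L₂ * L₃ ∈ Ideal.span {ℓ})
    (P : MvPolynomial (Fin 4) K) (hP : P = ∑ i : Fin 4, a i • MvPolynomial.pderiv i F)
    (H : Submodule K (Fin 4 → K)) (hH : ∀ x : Fin 4 → K, x ∈ H ↔ MvPolynomial.eval x ℓ = 0) :
    (∃ U₁ U₂ : Submodule K (Fin 4 → K), Module.finrank K ↥U₁ = 2 ∧ Module.finrank K ↥U₂ = 2 ∧ a ∈ U₁ ∧ a ∈ U₂ ∧
        U₁ ≤ H ∧ U₂ ≤ H ∧ {x : Fin 4 → K | x ∈ H ∧ MvPolynomial.eval x P = 0} = (U₁ : Set (Fin 4 → K)) ∪ (U₂ : Set (Fin 4 → K))) ∧
      ∀ U : Submodule K (Fin 4 → K), a ∈ U → Module.finrank K ↥U = 2 → (∀ u ∈ U, MvPolynomial.eval u F = 0) →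
        U ≤ H ∧ ∀ u ∈ U, MvPolynomial.eval u P = 0 := by
  subst hP
  set l := Basic.Bₗ F a with hldef
  have hlev : ∀ x, MvPolynomial.eval x ℓ = B F a x := fun x => by
    rw [hℓ]
    simp only [B, Basic.eval_dd, map_sum, map_mul, eval_C, eval_X]
    exact Finset.sum_congr rfl fun i _ => mul_comm _ _
  have hne := Basic.exists_B_ne_of_pderiv_ne hsm
  have hl0 : l ≠ 0 := fun hz => by
    obtain ⟨w, hw⟩ := hne
    exact hw (by simpa [hldef] using LinearMap.congr_fun hz w)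
  have hla : l a = 0 := by
    show B F a a = 0
    rw [Basic.B_self hF, hFa, mul_zero]
  obtain ⟨Fr⟩ := Restrict.nonempty_frame l a hl0 ha hla
  have hB : ∀ t w : K, B F a (t • Fr.u₁ + w • Fr.u₂) = 0 := fun t w => by
    show l _ = 0
    simp [Fr.l₁, Fr.l₂]
  have hmemH : ∀ s t w : K, s • a + t • Fr.u₁ + w • Fr.u₂ ∈ H := fun s t w => by
    rw [hH, hlev]
    show l _ = 0
    simp [hla, Fr.l₁, Fr.l₂]
  have hdec : ∀ x ∈ H, x = Fr.c₁ x • a + Fr.c₂ x • Fr.u₁ + Fr.c₃ x • Fr.u₂ := fun x hx => by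
    rw [← Fr.decomp x]
    have : l x = 0 := by
      have := (hH x).mp hx
      rwa [hlev] at this
    rw [this, zero_smul, sub_zero]
  have hq : ∀ s t w : K, B F (s • a + t • Fr.u₁ + w • Fr.u₂) a =
      B F Fr.u₁ a * t ^ 2 + B (Basic.dd a F) Fr.u₁ Fr.u₂ * (t * w) + B F Fr.u₂ a * w ^ 2 := by
    intro s t w
    have e0 := Restrict.eval_frame hF hFa Fr hB
    have e1 := e0 (s + 1) t w
    have e2 := e0 s t w
    rw [show (s + 1) • a + t • Fr.u₁ + w • Fr.u₂ = (s • a + t • Fr.u₁ + w • Fr.u₂) + (1 : K) • a by module,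
      Basic.eval_line hF, hFa,
      show B F a (s • a + t • Fr.u₁ + w • Fr.u₂) = 0 by show l _ = 0; simp [hla, Fr.l₁, Fr.l₂], e2] at e1
    linear_combination e1
  obtain ⟨p₁, q₁, p₂, q₂, hfac⟩ :=
    Restrict.binary_quad (B F Fr.u₁ a) (B (Basic.dd a F) Fr.u₁ Fr.u₂) (B F Fr.u₂ a)
  have hne0 : (p₁ ≠ 0 ∨ q₁ ≠ 0) ∧ (p₂ ≠ 0 ∨ q₂ ≠ 0) := by
    by_contra hc
    have hz : ∀ t w : K, B F Fr.u₁ a * t ^ 2 + B (Basic.dd a F) Fr.u₁ Fr.u₂ * (t * w) +
        B F Fr.u₂ a * w ^ 2 = 0 := fun t w => by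
      rw [hfac]
      rcases not_and_or.mp hc with h | h <;> push Not at h <;> rw [h.1, h.2] <;> ring
    obtain ⟨r₁, s₁, r₂, s₂, r₃, s₃, hcub⟩ := Restrict.binary_cubic (MvPolynomial.eval Fr.u₁ F)
      (B F Fr.u₁ Fr.u₂) (B F Fr.u₂ Fr.u₁) (MvPolynomial.eval Fr.u₂ F)
    apply hT
    refine ⟨Restrict.lin (r₁ • Fr.c₂ + s₁ • Fr.c₃), Restrict.lin (r₂ • Fr.c₂ + s₂ • Fr.c₃),
      Restrict.lin (r₃ • Fr.c₂ + s₃ • Fr.c₃), Restrict.isHomogeneous_lin _,
      Restrict.isHomogeneous_lin _, Restrict.isHomogeneous_lin _,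
      Restrict.sub_mem_span_linear _ _ _ Fr.u₀ fun x => ?_⟩
    rw [hlev, show B F a x = l x from rfl, Fr.decomp, Restrict.eval_frame hF hFa Fr hB, hz,
      Restrict.eval_pair hF, hcub]
    simp only [map_mul, Restrict.eval_lin, LinearMap.add_apply, LinearMap.smul_apply, smul_eq_mul]
    ring
  let u : K → K → (Fin 4 → K) := fun p q => q • Fr.u₁ + (-p) • Fr.u₂
  have hrank : ∀ p q : K, (p ≠ 0 ∨ q ≠ 0) →
      Module.finrank K ↥(Submodule.span K ({a, u p q} : Set (Fin 4 → K))) = 2 := by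
    intro p q hpq
    have hli : LinearIndependent K ![a, u p q] := by
      refine LinearIndependent.pair_iff.mpr fun s t hst => ?_
      obtain ⟨h1, h2, h3⟩ := Restrict.frame_li Fr (s := s) (t := t * q) (w := t * -p)
        (by rw [← hst]; simp only [u]; module)
      refine ⟨h1, ?_⟩
      rcases hpq with h | h
      · simpa [h] using h3
      · simpa [h] using h2
    have h2 := finrank_span_eq_card hli
    rwa [Matrix.range_cons_cons_empty, Fintype.card_fin] at h2
  have hle : ∀ p q : K, Submodule.span K ({a, u p q} : Set (Fin 4 → K)) ≤ H := fun p q => by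
    refine Submodule.span_le.mpr ?_
    rintro x (rfl | rfl)
    · simpa using hmemH 1 0 0
    · simpa [u] using hmemH 0 q (-p)
  refine ⟨⟨Submodule.span K {a, u p₁ q₁}, Submodule.span K {a, u p₂ q₂}, hrank _ _ hne0.1,
    hrank _ _ hne0.2, Submodule.subset_span (by simp), Submodule.subset_span (by simp),
    hle _ _, hle _ _, ?_⟩, fun U haU _ hUS => ?_⟩
  · ext x
    simp only [Set.mem_ofPred_eq, Set.mem_union, SetLike.mem_coe]
    change x ∈ H ∧ B F x a = 0 ↔ _
    constructor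
    · rintro ⟨hx, hxP⟩
      rw [hdec x hx, hq, hfac] at hxP
      have side : ∀ p q : K, (p ≠ 0 ∨ q ≠ 0) → p * Fr.c₂ x + q * Fr.c₃ x = 0 →
          x ∈ Submodule.span K ({a, u p q} : Set (Fin 4 → K)) := by
        intro p q hpq h
        obtain ⟨t, ht1, ht2⟩ := Restrict.binary_linear_zero hpq h
        refine Submodule.mem_span_pair.mpr ⟨Fr.c₁ x, t, ?_⟩
        conv_rhs => rw [hdec x hx, ht1, ht2]
        simp only [u]
        module
      rcases mul_eq_zero.mp hxP with h | h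
      · exact Or.inl (side _ _ hne0.1 h)
      · exact Or.inr (side _ _ hne0.2 h)
    · intro hx
      have mk : ∀ s t p q : K, B F (s • a + t • u p q) a =
          (p₁ * (t * q) + q₁ * (t * -p)) * (p₂ * (t * q) + q₂ * (t * -p)) := fun s t p q => by
        rw [show s • a + t • u p q = s • a + (t * q) • Fr.u₁ + (t * -p) • Fr.u₂ by simp only [u]; module,
          hq, hfac]
      rcases hx with h | h
      · refine ⟨hle _ _ h, ?_⟩
        obtain ⟨s, t, rfl⟩ := Submodule.mem_span_pair.mp h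
        rw [mk]; ring
      · refine ⟨hle _ _ h, ?_⟩
        obtain ⟨s, t, rfl⟩ := Submodule.mem_span_pair.mp h
        rw [mk]; ring
  · have := fun u hu => Restrict.line_props hF hFa haU hUS (u := u) hu
    exact ⟨fun u hu => by rw [hH, hlev]; exact (this u hu).1, fun u hu => (this u hu).2⟩

end Groth.Agent.S16352
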