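import Groth.Statements.S16353
import Mathlib
-- import your own Groth.Agent.* helpers here

set_option autoImplicit false
universe u
open DegLoci

namespace Groth.Agent.S16353

/-- Let k be a field of characteristic zero, R = k[y_0, …, y_{m−1}] acting on S = k[∂_0, …, ∂_{m−1}] by
apolarity (y_i acts as the derivative with respect to ∂_i), F ∈ S homogeneous of degree e and d ≤ e.
Then the degree-d part of the apolar ideal of F is the orthogonal complement of the partial
derivatives of F of order e − d: a homogeneous D ∈ R_d satisfies D(F) = 0 if and only if D(y^α(F)) =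
0 for every multi-index α with |α| = e − d (each D(y^α(F)) being a constant, the value of the
apolarity pairing of D with y^α(F)). -/
theorem result (k : Type u) [Field k] [CharZero k] (m : ℕ)
    (F : MvPolynomial (Fin m) k) (e : ℕ) (hF : F.IsHomogeneous e) (d : ℕ) (hd : d ≤ e)
    (D : MvPolynomial (Fin m) k) (hD : D.IsHomogeneous d) :
    W4c3degenlocivb.contract D F = 0 ↔
      ∀ α : Fin m →₀ ℕ, α.degree = e - d → W4c3degenlocivb.contract D (W4c3degenlocivb.contract (MvPolynomial.monomial α 1) F) = 0 := by
  classical
  let P : (Fin m →₀ ℕ) → (Fin m →₀ ℕ) → ℕ := fun β α => ∏ i, Nat.descFactorial (β i) (α i)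
  have hcoeff : ∀ (D G : MvPolynomial (Fin m) k) (μ : Fin m →₀ ℕ),
      (W4c3degenlocivb.contract D G).coeff μ =
        ∑ α ∈ D.support, D.coeff α * G.coeff (α + μ) * (P (α + μ) α : k) := by
    intro D G μ
    rw [W4c3degenlocivb.contract, MvPolynomial.coeff_sum]
    refine Finset.sum_congr rfl fun α _ => ?_
    rw [MvPolynomial.coeff_sum]
    have hP : ∀ β : Fin m →₀ ℕ, α ≤ β →
        (β.support.prod fun i => Nat.descFactorial (β i) (α i)) = P β α := fun β hle =>
      Finset.prod_subset (Finset.subset_univ _) fun i _ hi => by
        have hb : β i = 0 := Finsupp.notMem_support_iff.1 hi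
        have ha : α i = 0 := by have := hle i; omega
        rw [hb, ha, Nat.descFactorial_zero]
    rw [Finset.sum_eq_single (α + μ)]
    · rw [if_pos le_self_add, hP _ le_self_add, add_tsub_cancel_left, MvPolynomial.coeff_monomial,
        if_pos rfl]
    · intro β _ hβ
      split_ifs with hle
      · rw [MvPolynomial.coeff_monomial, if_neg]
        intro h
        exact hβ (by rw [← h, add_tsub_cancel_of_le hle])
      · exact MvPolynomial.coeff_zero _
    · intro h
      rw [MvPolynomial.notMem_support_iff] at h
      rw [if_pos le_self_add, h]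
      simp
  have hfac : ∀ a g : Fin m →₀ ℕ, P (a + g) a * P g g = (P (g + a) g) * P a a := by
    intro a g
    simp only [P, ← Finset.prod_mul_distrib, Finsupp.add_apply, Nat.descFactorial_self]
    refine Finset.prod_congr rfl fun i _ => ?_
    have h1 := Nat.factorial_mul_descFactorial (n := a i + g i) (k := a i) (by omega)
    have h2 := Nat.factorial_mul_descFactorial (n := g i + a i) (k := g i) (by omega)
    rw [Nat.add_sub_cancel_left] at h1 h2
    rw [add_comm (g i)] at h2 ⊢
    linarith
  have hDF : ∀ μ : Fin m →₀ ℕ, μ.degree ≠ e - d → (W4c3degenlocivb.contract D F).coeff μ = 0 := by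
    intro μ hμ
    rw [hcoeff]
    refine Finset.sum_eq_zero fun α hα => ?_
    have h1 : α.degree = d := hD.degree_eq_sum_deg_support hα ▸ rfl
    rw [hF.coeff_eq_zero (d := α + μ) (by rw [map_add]; omega), mul_zero, zero_mul]
  have key : ∀ α μ : Fin m →₀ ℕ, α.degree = e - d →
      (W4c3degenlocivb.contract D (W4c3degenlocivb.contract (MvPolynomial.monomial α 1) F)).coeff μ =
        if μ = 0 then (P α α : k) * (W4c3degenlocivb.contract D F).coeff α else 0 := by
    intro α μ hα
    simp only [hcoeff, MvPolynomial.support_monomial, one_ne_zero, if_false, Finset.sum_singleton,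
      MvPolynomial.coeff_monomial, if_true, one_mul]
    split_ifs with hμ
    · subst hμ
      rw [Finset.mul_sum]
      refine Finset.sum_congr rfl fun γ _ => ?_
      simp only [add_zero]
      rw [add_comm γ α]
      have h := congrArg (Nat.cast : ℕ → k) (hfac α γ)
      push_cast at h
      rw [add_comm γ α] at h
      linear_combination (D.coeff γ * F.coeff (α + γ)) * h
    · refine Finset.sum_eq_zero fun γ hγ => ?_
      have h1 : γ.degree = d := hD.degree_eq_sum_deg_support hγ ▸ rfl
      have h2 : μ.degree ≠ 0 := fun h => hμ ((Finsupp.degree_eq_zero_iff μ).1 h)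
      rw [hF.coeff_eq_zero (d := α + (γ + μ)) (by rw [map_add, map_add]; omega)]
      simp
  constructor
  · intro h α hα
    ext μ
    rw [key α μ hα, h]
    simp
  · intro h
    ext μ
    rw [MvPolynomial.coeff_zero]
    by_cases hμ : μ.degree = e - d
    · have h1 := key μ 0 hμ
      rw [h μ hμ, MvPolynomial.coeff_zero, if_pos rfl] at h1
      refine (mul_eq_zero.1 h1.symm).resolve_left (Nat.cast_ne_zero.2 ?_)
      exact Finset.prod_ne_zero_iff.2 fun i _ => by
        rw [Nat.descFactorial_self]; exact Nat.factorial_ne_zero _
    · exact hDF μ hμ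

end Groth.Agent.S16353
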