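import Groth.Statements.S16355
import Mathlib
import Groth.Agent.Pf84
-- import your own Groth.Agent.* helpers here

set_option autoImplicit false
universe u
open DegLoci

namespace Groth.Agent.S16355

/-- Let k be an algebraically closed field of characteristic zero and n = 2r + 1 ≥ 3 odd. For a general
n × n alternating matrix N of linear forms in k[y_0, y_1], the n principal sub-Pfaffians of size n −
1 (delete row i and column i, take the Pfaffian) span the whole space k[y_0, y_1]_r of binary forms
of degree r. Here such matrices are parametrised by antisymmetric coefficient arrays c (entry (i, j)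
of N is Σ_l c_{i j l} y_l with c_{j i l} = −c_{i j l}), and 'general' means: outside the zero set of
some polynomial Φ in the coefficients which does not vanish at every antisymmetric array. -/
theorem result (k : Type u) [Field k] [IsAlgClosed k] [CharZero k]
    (r : ℕ) (hr : 1 ≤ r) :
    ∃ Φ : MvPolynomial (Fin (2 * r + 1) × Fin (2 * r + 1) × Fin 2) k,
      (∃ c : Fin (2 * r + 1) → Fin (2 * r + 1) → Fin 2 → k, (∀ i j l, c j i l = -c i j l) ∧
        MvPolynomial.eval (fun p => c p.1 p.2.1 p.2.2) Φ ≠ 0) ∧
      ∀ c : Fin (2 * r + 1) → Fin (2 * r + 1) → Fin 2 → k, (∀ i j l, c j i l = -c i j l) →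
        MvPolynomial.eval (fun p => c p.1 p.2.1 p.2.2) Φ ≠ 0 →
        Submodule.span k (Set.range fun i : Fin (2 * r + 1) =>
            W4c3degenlocivb.pf (2 * r) ((Matrix.of fun a b => ∑ l : Fin 2, MvPolynomial.C (c a b l) * MvPolynomial.X l).submatrix i.succAbove i.succAbove)) =
          MvPolynomial.homogeneousSubmodule (Fin 2) k r := by
  classical
  let idx := Fin (2 * r + 1) × Fin (2 * r + 1) × Fin 2
  let A := MvPolynomial idx k
  let ex : Fin (r + 1) → (Fin 2 →₀ ℕ) := fun s =>
    Finsupp.single 0 s.val + Finsupp.single 1 (r - s.val)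
  let pos : Fin (r + 1) → Fin (2 * r + 1) := fun s => ⟨2 * s.val, by omega⟩
  let N : Matrix (Fin (2 * r + 1)) (Fin (2 * r + 1)) (MvPolynomial (Fin 2) A) := Matrix.of fun a b =>
    ∑ l : Fin 2, MvPolynomial.C (MvPolynomial.X (a, b, l)) * MvPolynomial.X l
  let P : Fin (r + 1) → MvPolynomial (Fin 2) A := fun s =>
    W4c3degenlocivb.pf (2 * r) (N.submatrix (pos s).succAbove (pos s).succAbove)
  let M : Matrix (Fin (r + 1)) (Fin (r + 1)) A := Matrix.of fun s' s => (P s).coeff (ex s')
  let Nc : (Fin (2 * r + 1) → Fin (2 * r + 1) → Fin 2 → k) →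
      Matrix (Fin (2 * r + 1)) (Fin (2 * r + 1)) (MvPolynomial (Fin 2) k) := fun c =>
    Matrix.of fun a b => ∑ l : Fin 2, MvPolynomial.C (c a b l) * MvPolynomial.X l
  let Q : (Fin (2 * r + 1) → Fin (2 * r + 1) → Fin 2 → k) → Fin (2 * r + 1) → MvPolynomial (Fin 2) k :=
    fun c i => W4c3degenlocivb.pf (2 * r) ((Nc c).submatrix i.succAbove i.succAbove)
  have heval : ∀ c : Fin (2 * r + 1) → Fin (2 * r + 1) → Fin 2 → k,
      MvPolynomial.eval (fun p => c p.1 p.2.1 p.2.2) M.det =
        (Matrix.of fun s' s => (Q c (pos s)).coeff (ex s')).det := by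
    intro c
    rw [RingHom.map_det]
    congr 1
    ext s' s
    show MvPolynomial.eval _ ((P s).coeff (ex s')) = _
    rw [← MvPolynomial.coeff_map]
    show MvPolynomial.coeff (ex s') (MvPolynomial.map _ (P s)) = _
    rw [Groth.Agent.Pf84.map_pf]
    congr 2
    ext a b
    simp [N, Nc]
    erw [MvPolynomial.eval_X, MvPolynomial.eval_X]
  refine ⟨M.det, ?_, ?_⟩
  · let w : ℕ → ℕ → Fin 2 → k := fun a b l =>
      if a + 1 = b then (if a % 2 = l.val then 1 else 0)
      else if b + 1 = a then -(if b % 2 = l.val then 1 else 0) else 0
    have hw : ∀ a b l, w b a l = -w a b l := by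
      intro a b l
      simp only [w]
      rcases eq_or_ne (a + 1) b with h | h
      · rw [if_pos h, if_neg (by omega), if_pos h]
      · rw [if_neg h]
        by_cases h' : b + 1 = a
        · simp [h, h']
        · simp [h, h']
    refine ⟨fun a b l => w a.val b.val l, fun i j l => hw _ _ l, ?_⟩
    refine ne_of_eq_of_ne (heval fun a b l => w a.val b.val l) ?_
    set c : Fin (2 * r + 1) → Fin (2 * r + 1) → Fin 2 → k := fun a b l => w a.val b.val l
    have hQ : ∀ s : Fin (r + 1), Q c (pos s) = MvPolynomial.monomial (ex s) 1 := by
      intro s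
      have hsa : ∀ a : Fin (2 * r), ((pos s).succAbove a).val =
          if a.val < 2 * s.val then a.val else a.val + 1 := by
        intro a
        simp only [Fin.succAbove, pos, Fin.lt_def, Fin.val_castSucc]
        split <;> simp
      show W4c3degenlocivb.pf (2 * r) _ = _
      rw [Groth.Agent.Pf84.pf_tridiagonal r _ (fun a b h1 h2 => ?_) (fun a b => ?_)]
      · have hterm : ∀ i : Fin r, (Nc c).submatrix (pos s).succAbove (pos s).succAbove
            ⟨2 * i.val, by omega⟩ ⟨2 * i.val + 1, by omega⟩ =
            (MvPolynomial.X (if i.val < s.val then 0 else 1) : MvPolynomial (Fin 2) k) := by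
          intro i
          simp only [Matrix.submatrix_apply, Nc, Matrix.of_apply, c, hsa, w, Fin.sum_univ_two]
          by_cases hi : i.val < s.val
          · rw [if_pos (show 2 * i.val < 2 * s.val by omega),
              if_pos (show 2 * i.val + 1 < 2 * s.val by omega), if_pos rfl, if_pos rfl]
            simp [hi, Nat.mul_mod_right]
          · rw [if_neg (show ¬ 2 * i.val < 2 * s.val by omega),
              if_neg (show ¬ 2 * i.val + 1 < 2 * s.val by omega), if_pos rfl, if_pos rfl]
            simp [hi, Nat.add_mod, Nat.mul_mod_right]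
        rw [Finset.prod_congr rfl (fun i _ => hterm i)]
        simp only [apply_ite MvPolynomial.X, Finset.prod_ite, Finset.prod_const,
          MvPolynomial.X_pow_eq_monomial, MvPolynomial.monomial_mul, one_mul]
        have e1 : (Finset.univ.filter fun i : Fin r => i.val < s.val).card = s.val := by
          rw [Fin.card_filter_val_lt]
          omega
        have e2 : (Finset.univ.filter fun i : Fin r => ¬ i.val < s.val).card = r - s.val := by
          have := Finset.card_filter_add_card_filter_not (s := (Finset.univ : Finset (Fin r)))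
            (fun i : Fin r => i.val < s.val)
          rw [Finset.card_univ, Fintype.card_fin, e1] at this
          omega
        rw [e1, e2]
      · simp only [Matrix.submatrix_apply, Nc, Matrix.of_apply, c, hsa, w, Fin.sum_univ_two]
        rw [if_neg (by split_ifs <;> omega), if_neg (by split_ifs <;> omega),
          if_neg (by split_ifs <;> omega), if_neg (by split_ifs <;> omega)]
        simp
      · simp only [Matrix.submatrix_apply, Nc, Matrix.of_apply, c]
        rw [← Finset.sum_neg_distrib]
        refine Finset.sum_congr rfl fun l _ => ?_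
        rw [hw, map_neg, neg_mul]
    have hone : (Matrix.of fun s' s => (Q c (pos s)).coeff (ex s') :
        Matrix (Fin (r + 1)) (Fin (r + 1)) k) = 1 := by
      ext s' s
      rw [Matrix.of_apply, hQ, MvPolynomial.coeff_monomial, Matrix.one_apply]
      refine if_congr ⟨fun h => ?_, fun h => by rw [h]⟩ rfl rfl
      have := DFunLike.congr_fun h 0
      simp [ex] at this
      exact Fin.ext this.symm
    rw [hone, Matrix.det_one]
    exact one_ne_zero
  · intro c _ hdet
    rw [heval] at hdet
    let H := MvPolynomial.homogeneousSubmodule (Fin 2) k r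
    have hle : Submodule.span k (Set.range (Q c)) ≤ H := by
      rw [Submodule.span_le]
      rintro _ ⟨i, rfl⟩
      refine Groth.Agent.Pf84.isHomogeneous_pf r _ fun a b => ?_
      simp only [Nc, Matrix.submatrix_apply, Matrix.of_apply]
      exact MvPolynomial.IsHomogeneous.sum _ _ _ fun l _ => MvPolynomial.isHomogeneous_C_mul_X _ _
    let L : MvPolynomial (Fin 2) k →ₗ[k] (Fin (r + 1) → k) :=
      LinearMap.pi fun s => MvPolynomial.lcoeff k (ex s)
    have hinj : Function.Injective (L.domRestrict H) := by
      rw [← LinearMap.ker_eq_bot, eq_bot_iff]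
      rintro ⟨F, hF⟩ hker
      refine Subtype.ext (MvPolynomial.ext _ _ fun d => ?_)
      by_cases hd : d.degree = r
      · have hd2 : d 0 + d 1 = r := by
          rw [Finsupp.degree_eq_sum, Fin.sum_univ_two] at hd; exact hd
        have : d = ex ⟨d 0, by omega⟩ := by
          ext i
          fin_cases i <;> simp [ex] <;> omega
        rw [this]
        exact congrFun (LinearMap.mem_ker.1 hker) ⟨d 0, by omega⟩
      · exact ((MvPolynomial.mem_homogeneousSubmodule r F).1 hF).coeff_eq_zero hd
    have : Module.Finite k H := Module.Finite.of_injective (L.domRestrict H) hinj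
    refine Submodule.eq_of_le_of_finrank_le hle ?_
    have h1 : Module.finrank k H ≤ r + 1 :=
      (LinearMap.finrank_le_finrank_of_injective hinj).trans (by simp)
    have hcols : LinearIndependent k fun s => L (Q c (pos s)) :=
      Matrix.linearIndependent_cols_of_det_ne_zero hdet
    have hli : LinearIndependent k fun s => Q c (pos s) := LinearIndependent.of_comp L hcols
    have : Module.Finite k ↥(Submodule.span k (Set.range (Q c))) :=
      Module.Finite.span_of_finite k (Set.finite_range _)
    refine h1.trans ?_
    rw [← Fintype.card_fin (r + 1), ← finrank_span_eq_card hli]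
    exact Submodule.finrank_mono (Submodule.span_mono (Set.range_comp_subset_range pos (Q c)))

end Groth.Agent.S16355
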