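import Mathlib.RingTheory.WittVector.Basic
import Mathlib.FieldTheory.Perfect
import Mathlib.NumberTheory.Multiplicity
import Mathlib.RingTheory.WittVector.Identities
import Mathlib.RingTheory.WittVector.DiscreteValuationRing

set_option autoImplicit false
universe u
namespace OrdAV
end OrdAV
open OrdAV

namespace Groth.Agent.S16356

/-- For an odd prime p and a perfect field k of characteristic p, a root of unity in the ring of Witt
vectors W(k) whose residue in k is 1 is itself 1: if x ^ n = 1 with n ≥ 1 and the zeroth Witt
component of x is 1, then x = 1. (For p = 2 this fails: -1 in W(F_2).) -/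
theorem result (p : ℕ) [Fact p.Prime] (hp : p ≠ 2)
    (k : Type u) [Field k] [CharP k p] [PerfectRing k p]
    (x : WittVector p k) (n : ℕ) (hn : 0 < n) (hx : x ^ n = 1) (h0 : x.coeff 0 = 1) : x = 1 := by
  induction n using Nat.strong_induction_on generalizing x with
  | _ n ih =>
    rcases eq_or_ne n 1 with rfl | hn1
    · rwa [pow_one] at hx
    obtain ⟨q, hq, m, rfl⟩ := Nat.exists_prime_and_dvd hn1
    have hm : 0 < m := pos_of_mul_pos_right hn (Nat.zero_le _)
    have h0' : (x ^ q).coeff 0 = 1 := by
      show WittVector.constantCoeff (x ^ q) = 1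
      rw [map_pow, show WittVector.constantCoeff x = 1 from h0, one_pow]
    have hxq : x ^ q = 1 := ih m (lt_mul_left hm hq.one_lt) (x ^ q) hm (by rw [← pow_mul, hx]) h0'
    have hgeom : (∑ i ∈ Finset.range q, x ^ i) * (x - 1) = 0 := by rw [geom_sum_mul, hxq, sub_self]
    suffices hne : ∑ i ∈ Finset.range q, x ^ i ≠ 0 from
      sub_eq_zero.1 ((mul_eq_zero.1 hgeom).resolve_left hne)
    intro hs
    by_cases hqp : q = p
    · subst hqp
      have hodd : Odd q := hq.odd_of_ne_two hp
      have hmem : x - 1 ∈ Ideal.span {(q : WittVector q k)} := by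
        rw [← (WittVector.irreducible q (k := k)).maximalIdeal_eq, IsLocalRing.mem_maximalIdeal,
          mem_nonunits_iff]
        intro hu
        have := hu.map (WittVector.constantCoeff (p := q) (R := k))
        rw [map_sub, map_one, show WittVector.constantCoeff x = 1 from h0, sub_self] at this
        exact not_isUnit_zero this
      obtain ⟨y, hy⟩ := Ideal.mem_span_singleton.1 hmem
      have hd := odd_sq_dvd_geom_sum₂_sub (R := WittVector q k) (a := 1) (b := y) hodd
      rw [← hy, add_sub_cancel, one_pow, mul_one,
        Finset.sum_congr rfl (fun i _ => by rw [one_pow, mul_one] : ∀ i ∈ Finset.range q,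
          x ^ i * 1 ^ (q - 1 - i) = x ^ i), hs, zero_sub, dvd_neg, pow_two] at hd
      have hq0 : (q : WittVector q k) ≠ 0 := (WittVector.irreducible q (k := k)).ne_zero
      obtain ⟨z, hz⟩ := hd
      refine (WittVector.irreducible q (k := k)).not_isUnit (IsUnit.of_mul_eq_one z ?_)
      exact mul_left_cancel₀ hq0 (by rw [← mul_assoc, ← hz, mul_one])
    · have := congrArg (WittVector.constantCoeff (p := p) (R := k)) hs
      rw [map_sum, Finset.sum_congr rfl fun i _ => by
        rw [map_pow, show WittVector.constantCoeff x = 1 from h0, one_pow]] at this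
      rw [Finset.sum_const, Finset.card_range, nsmul_one, map_zero, CharP.cast_eq_zero_iff k p] at this
      exact hqp (((Nat.prime_dvd_prime_iff_eq Fact.out hq).1 this).symm)

end Groth.Agent.S16356
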