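import Mathlib.Algebra.Polynomial.AlgebraMap
import Mathlib.Algebra.Polynomial.Lifts
import Mathlib.Algebra.Algebra.Rat

set_option autoImplicit false
universe u
namespace OrdAV
end OrdAV
open OrdAV

namespace Groth.Agent.S16357

/-- Over a field L of characteristic zero, a monic polynomial h whose square has rational coefficients
has rational coefficients itself. -/
theorem result (L : Type u) [Field L] [CharZero L]
    (h : Polynomial L) (hm : h.Monic) (f : Polynomial ℚ)
    (hf : h ^ 2 = Polynomial.map (algebraMap ℚ L) f) :
    ∃ g : Polynomial ℚ, Polynomial.map (algebraMap ℚ L) g = h := by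
  have key : ∀ j : ℕ, j ≤ h.natDegree →
      h.coeff (h.natDegree - j) ∈ (algebraMap ℚ L).range := by
    intro j
    induction j using Nat.strong_induction_on with
    | _ j ih =>
      intro hj
      rcases Nat.eq_zero_or_pos j with rfl | hpos
      · rw [Nat.sub_zero, hm.coeff_natDegree]
        exact one_mem _
      have hc : (h ^ 2).coeff (2 * h.natDegree - j) ∈ (algebraMap ℚ L).range := by
        rw [hf, Polynomial.coeff_map]
        exact ⟨_, rfl⟩
      rw [sq, Polynomial.coeff_mul] at hc
      have hsplit : ∑ x ∈ Finset.antidiagonal (2 * h.natDegree - j), h.coeff x.1 * h.coeff x.2 -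
          2 * h.coeff (h.natDegree - j) ∈ (algebraMap ℚ L).range := by
        classical
        have h1 : (h.natDegree - j, h.natDegree) ∈ Finset.antidiagonal (2 * h.natDegree - j) := by
          simp; omega
        have h2 : (h.natDegree, h.natDegree - j) ∈
            (Finset.antidiagonal (2 * h.natDegree - j)).erase (h.natDegree - j, h.natDegree) := by
          simp; omega
        rw [← Finset.add_sum_erase _ _ h1, ← Finset.add_sum_erase _ _ h2, hm.coeff_natDegree]
        ring_nf
        refine sum_mem fun x hx => ?_
        simp only [Finset.mem_erase, Finset.mem_antidiagonal, Ne, Prod.ext_iff, not_and] at hx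
        by_cases hbig : h.natDegree < x.1 ∨ h.natDegree < x.2
        · rcases hbig with hb | hb <;> rw [Polynomial.coeff_eq_zero_of_natDegree_lt hb] <;> simp
        · have e1 : x.1 = h.natDegree - (h.natDegree - x.1) := by omega
          have e2 : x.2 = h.natDegree - (h.natDegree - x.2) := by omega
          rw [e1, e2]
          exact mul_mem (ih _ (by omega) (by omega)) (ih _ (by omega) (by omega))
      have h2 : 2 * h.coeff (h.natDegree - j) ∈ (algebraMap ℚ L).range := by
        have := sub_mem hc hsplit
        rwa [sub_sub_cancel] at this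
      obtain ⟨t, ht⟩ := h2
      exact ⟨t / 2, by rw [map_div₀, ht, map_ofNat, mul_div_cancel_left₀ _ two_ne_zero]⟩
  have hlift : h ∈ Polynomial.lifts (algebraMap ℚ L) := by
    rw [Polynomial.lifts_iff_coeff_lifts]
    intro i
    by_cases hi : i ≤ h.natDegree
    · obtain ⟨t, ht⟩ := key (h.natDegree - i) (Nat.sub_le _ _)
      exact ⟨t, by rw [ht, Nat.sub_sub_self hi]⟩
    · exact ⟨0, by rw [map_zero, Polynomial.coeff_eq_zero_of_natDegree_lt (by omega)]⟩
  exact (Polynomial.mem_lifts h).1 hlift

end Groth.Agent.S16357
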