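import Mathlib.RingTheory.WittVector.Basic
import Mathlib.FieldTheory.Perfect
import Mathlib.RepresentationTheory.Invariants
import Mathlib.LinearAlgebra.TensorProduct.Tower
import Mathlib.RingTheory.Ideal.Quotient.Defs
import Mathlib.LinearAlgebra.FreeModule.Basic
import Mathlib.RingTheory.WittVector.DiscreteValuationRing
import Mathlib.LinearAlgebra.FreeModule.PID
import Mathlib.LinearAlgebra.Quotient.Basic
import Mathlib.Algebra.Module.Projective

set_option autoImplicit false
universe u v w
namespace OrdAV
end OrdAV
open OrdAV

namespace Groth.Agent.S16358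

/-- Let k be a perfect field of characteristic p > 0 and W = W(k); let M be a finitely generated free
W-module on which a finite group G acts W-linearly, with invariant submodule M^G. Then the map
(W/pW) ⊗ M^G → (W/pW) ⊗ M induced by the inclusion is injective. Since M^G is free, this implies
rank_W M^G ≤ dim_k (M/pM)^G; the published statement is that inequality, and this row states the
stronger injectivity. -/
theorem result (p : ℕ) [Fact p.Prime]
    (k : Type u) [Field k] [CharP k p] [PerfectRing k p]
    (M : Type v) [AddCommGroup M] [Module (WittVector p k) M]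
    [Module.Free (WittVector p k) M] [Module.Finite (WittVector p k) M]
    (G : Type w) [Group G] [Finite G] (ρ : Representation (WittVector p k) G M) :
    Function.Injective
      (LinearMap.lTensor (WittVector p k ⧸ Ideal.span {(p : WittVector p k)}) ρ.invariants.subtype) := by
  let W := WittVector p k
  have htf : Module.IsTorsionFree W (M ⧸ ρ.invariants) := by
    refine Module.isTorsionFree_iff_smul_eq_zero.2 fun r x hrx => ?_
    obtain ⟨m, rfl⟩ := Submodule.Quotient.mk_surjective _ x
    rw [← Submodule.Quotient.mk_smul, Submodule.Quotient.mk_eq_zero] at hrx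
    rw [Submodule.Quotient.mk_eq_zero]
    refine or_iff_not_imp_left.2 fun hr g => smul_right_injective M hr ?_
    show r • ρ g m = r • m
    rw [← map_smul]
    exact hrx g
  have : Module.Free W (M ⧸ ρ.invariants) := inferInstance
  obtain ⟨s, hs⟩ := Module.projective_lifting_property ρ.invariants.mkQ LinearMap.id
    (Submodule.mkQ_surjective _)
  let r : M →ₗ[W] ρ.invariants := (LinearMap.id - s ∘ₗ ρ.invariants.mkQ).codRestrict _ fun m => by
    rw [← Submodule.Quotient.mk_eq_zero (p := ρ.invariants), LinearMap.sub_apply, Submodule.Quotient.mk_sub,
      LinearMap.id_apply, LinearMap.comp_apply]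
    show _ - ρ.invariants.mkQ (s _) = 0
    rw [← LinearMap.comp_apply, hs, LinearMap.id_apply]
    exact sub_self _
  have hr : r ∘ₗ ρ.invariants.subtype = LinearMap.id := LinearMap.ext fun m => Subtype.ext <| by
    show m.1 - s (ρ.invariants.mkQ m.1) = m.1
    rw [Submodule.mkQ_apply, (Submodule.Quotient.mk_eq_zero _).2 m.2, map_zero, sub_zero]
  refine Function.LeftInverse.injective (g := LinearMap.lTensor _ r) fun z => ?_
  rw [← LinearMap.comp_apply, ← LinearMap.lTensor_comp, hr, LinearMap.lTensor_id, LinearMap.id_apply]

end Groth.Agent.S16358
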