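import Groth.Statements.S16360
import Groth.Agent.StrictHens.Basic
import Mathlib.FieldTheory.KummerPolynomial
import Mathlib.FieldTheory.IsAlgClosed.AlgebraicClosure
import Mathlib.RingTheory.AdjoinRoot

set_option autoImplicit false
set_option linter.style.haveILetI false
set_option backward.isDefEq.respectTransparency.types false
universe u
open Hensel

namespace Groth.Agent.S16360

open IsLocalRing Polynomial

variable (R : Type u) [CommRing R] [IsLocalRing R] {Ω : Type u} [Field Ω] [Algebra R Ω]

/-- A finite subring, unramified of `p`-power rank with purely inseparable residue extension. -/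
structure IsStage (p : ℕ) (T : Subalgebra R Ω) : Prop where
  finite : Module.Finite R T
  free : Module.Free R T
  isLocal : IsLocalRing T
  maxEq : ∀ M : Ideal T, M.IsMaximal → M = (maximalIdeal R).map (algebraMap R T)
  rank : ∃ j : ℕ, Module.finrank R T = p ^ j
  residue : ∀ y : T, ∃ (j : ℕ) (r : R), algebraMap R T r - y ^ p ^ j ∈ (maximalIdeal R).map (algebraMap R T)

theorem step [IsNoetherianRing R] {ϖ : R} (hϖ : maximalIdeal R = Ideal.span {ϖ}) (hϖ0 : ϖ ≠ 0) (hinj : Function.Injective (algebraMap R Ω))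
    {p : ℕ} (hp : p.Prime) [CharP (ResidueField R) p] {T : Subalgebra R Ω} (hT : IsStage R p T)
    (y : T) (hy : ∀ w : T, w ^ p - y ∉ (maximalIdeal R).map (algebraMap R T))
    (z : Ω) (hz : z ^ p = y) :
    IsStage R p ((Algebra.adjoin T {z}).restrictScalars R) := by
  classical
  haveI := hT.isLocal
  haveI := hT.finite
  haveI := hT.free
  haveI : Fact p.Prime := ⟨hp⟩
  set f : T[X] := X ^ p - C y with hf
  have hfm : f.Monic := monic_X_pow_sub_C y hp.ne_zero
  have hev : aeval z f = 0 := by
    show aeval z (X ^ p - C y) = 0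
    rw [map_sub, aeval_C, map_pow, aeval_X, hz]
    exact sub_self _
  set W := AdjoinRoot f
  haveI : Module.Free T W := Module.Free.of_basis (AdjoinRoot.powerBasis' hfm).basis
  haveI : Module.Finite T W := (AdjoinRoot.powerBasis' hfm).finite
  haveI : Module.Finite R W := Module.Finite.trans T W
  haveI : Module.Free R W := Module.Free.trans (R := R) (S := T) (M := W)
  have hmT : (maximalIdeal R).map (algebraMap R T) = maximalIdeal T := (hT.maxEq _ (maximalIdeal.isMaximal T)).symm
  -- the special fibre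
  let kT := ResidueField T
  have hirr : Irreducible (f.map (residue T)) := by
    rw [hf, Polynomial.map_sub, Polynomial.map_pow, map_X, map_C]
    refine X_pow_sub_C_irreducible_of_prime hp fun b hb => ?_
    obtain ⟨w, rfl⟩ := residue_surjective b
    refine hy w ?_
    rw [hmT, ← residue_eq_zero_iff, map_sub, map_pow, hb, sub_self]
  let N : Ideal W := (maximalIdeal R).map (algebraMap R W)
  have hN : N = (maximalIdeal T).map (AdjoinRoot.of f) := by
    rw [← hmT, Ideal.map_map]
    rfl
  haveI hNmax : N.IsMaximal := by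
    letI := Ideal.Quotient.field (maximalIdeal T)
    haveI : IsPrincipalIdealRing (T ⧸ maximalIdeal T)[X] := EuclideanDomain.to_principal_ideal_domain
    haveI : (Ideal.span {f.map (Ideal.Quotient.mk (maximalIdeal T))}).IsMaximal :=
      PrincipalIdealRing.isMaximal_of_irreducible (R := (T ⧸ maximalIdeal T)[X]) hirr
    rw [hN]
    refine Ideal.Quotient.maximal_of_isField _ ?_
    exact MulEquiv.isField ((Ideal.Quotient.maximal_ideal_iff_isField_quotient (Ideal.span {f.map (Ideal.Quotient.mk (maximalIdeal T))})).1 inferInstance)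
      (AdjoinRoot.quotAdjoinRootEquivQuotPolynomialQuot (maximalIdeal T) f).toMulEquiv
  haveI : Nontrivial W := Ideal.Quotient.nontrivial_iff.2 hNmax.ne_top |> fun h =>
    (Ideal.Quotient.mk N).domain_nontrivial
  haveI : Algebra.IsIntegral R W := Algebra.IsIntegral.of_finite R W
  have hMax : ∀ M : Ideal W, M.IsMaximal → M = N := fun M hM => by
    refine (hNmax.eq_of_le hM.ne_top (Ideal.map_le_iff_le_comap.2 ?_)).symm
    exact (IsLocalRing.eq_maximalIdeal (Ideal.isMaximal_comap_of_isIntegral_of_isMaximal (R := R) M)).ge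
  haveI : IsLocalRing W := IsLocalRing.of_unique_max_ideal ⟨N, hNmax, hMax⟩
  haveI : IsNoetherianRing W := IsNoetherianRing.of_finite R W
  -- the map to Ω is injective
  let ψ : W →ₐ[R] Ω := (AdjoinRoot.liftAlgHom f (Algebra.ofId T Ω) z hev).restrictScalars R
  have hψrange : ψ.range = (Algebra.adjoin T {z}).restrictScalars R := by
    refine le_antisymm ?_ ?_
    · rintro _ ⟨x, rfl⟩
      obtain ⟨g, rfl⟩ := AdjoinRoot.mk_surjective x
      show AdjoinRoot.liftAlgHom f (Algebra.ofId T Ω) z hev (AdjoinRoot.mk f g) ∈ Algebra.adjoin T {z}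
      rw [Algebra.adjoin_singleton_eq_range_aeval]
      exact ⟨g, by rw [AdjoinRoot.liftAlgHom_mk]; rfl⟩
    · intro x hx
      rw [Subalgebra.mem_restrictScalars, Algebra.adjoin_singleton_eq_range_aeval] at hx
      obtain ⟨g, rfl⟩ := hx
      refine ⟨AdjoinRoot.mk f g, ?_⟩
      show AdjoinRoot.liftAlgHom f (Algebra.ofId T Ω) z hev (AdjoinRoot.mk f g) = _
      rw [AdjoinRoot.liftAlgHom_mk]; rfl
  have hNϖ : N = Ideal.span {algebraMap R W ϖ} := by
    show Ideal.map _ _ = _
    rw [hϖ, Ideal.map_span, Set.image_singleton]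
  have hψinj : Function.Injective ψ := by
    rw [injective_iff_map_eq_zero]
    intro x hx
    by_contra hx0
    have hfin : FiniteMultiplicity (algebraMap R W ϖ) x := by
      by_contra hc
      refine hx0 ?_
      have h1 : x ∈ ⨅ n : ℕ, N ^ n := Ideal.mem_iInf.2 fun n => by
        rw [hNϖ, Ideal.span_singleton_pow, Ideal.mem_span_singleton]
        exact FiniteMultiplicity.not_iff_forall.1 hc n
      rwa [Ideal.iInf_pow_eq_bot_of_isLocalRing N hNmax.ne_top] at h1
    obtain ⟨c, hc, hcu⟩ := hfin.exists_eq_pow_mul_and_not_dvd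
    have hcu' : IsUnit c := by
      by_contra hcn
      refine hcu (Ideal.mem_span_singleton.1 ?_)
      rw [← hNϖ, ← hMax _ (maximalIdeal.isMaximal W)]
      exact (mem_maximalIdeal _).2 hcn
    rw [hc, map_mul, map_pow, AlgHom.commutes] at hx
    exact pow_ne_zero _ ((map_ne_zero_iff _ hinj).2 hϖ0) (((hcu'.map ψ).mul_left_eq_zero).1 hx)
  let e : W ≃ₐ[R] ((Algebra.adjoin T {z}).restrictScalars R : Subalgebra R Ω) :=
    (AlgEquiv.ofInjective ψ hψinj).trans (Subalgebra.equivOfEq _ _ hψrange)
  have hmap : ((maximalIdeal R).map (algebraMap R ((Algebra.adjoin T {z}).restrictScalars R : Subalgebra R Ω))) =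
      N.map e.toRingEquiv := by
    show _ = Ideal.map e.toRingEquiv (Ideal.map _ _)
    rw [← e.toAlgHom.comp_algebraMap, ← Ideal.map_map]
    rfl
  refine ⟨Module.Finite.equiv e.toLinearEquiv, Module.Free.of_equiv e.toLinearEquiv, e.toRingEquiv.isLocalRing,
    fun M hM => ?_, ?_, fun a => ?_⟩
  · have h1 := hMax (M.comap e.toRingEquiv) (Ideal.comap_isMaximal_of_surjective e.toRingEquiv e.surjective)
    rw [hmap, ← h1]
    exact (Ideal.map_comap_of_surjective e.toRingEquiv e.surjective M).symm
  · obtain ⟨j, hj⟩ := hT.rank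
    refine ⟨j + 1, ?_⟩
    rw [← e.toLinearEquiv.finrank_eq, ← Module.finrank_mul_finrank R T W, hj,
      (AdjoinRoot.powerBasis' hfm).finrank, AdjoinRoot.powerBasis'_dim, hf, natDegree_X_pow_sub_C, pow_succ]
  · obtain ⟨w, rfl⟩ := e.surjective a
    haveI : ExpChar (W ⧸ N) p := by
      haveI : CharP (W ⧸ N) p := by
        refine (CharP.charP_iff_prime_eq_zero hp).2 ?_
        have h0 : Ideal.Quotient.mk (maximalIdeal R) (p : R) = 0 := by
          rw [map_natCast]
          exact CharP.cast_eq_zero (ResidueField R) p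
        have := congrArg (Ideal.quotientMap N (algebraMap R W) (Ideal.map_le_iff_le_comap.1 le_rfl)) h0
        rwa [Ideal.quotientMap_mk, map_natCast, map_natCast, map_zero] at this
      exact ExpChar.prime hp
    obtain ⟨g, rfl⟩ := AdjoinRoot.mk_surjective w
    obtain ⟨t, ht⟩ : ∃ t : T, (AdjoinRoot.mk f g) ^ p - AdjoinRoot.of f t ∈ N := by
      induction g using Polynomial.induction_on' with
      | add a b ha hb =>
        obtain ⟨t, ht⟩ := ha
        obtain ⟨t', ht'⟩ := hb
        refine ⟨t + t', Ideal.Quotient.eq_zero_iff_mem.1 ?_⟩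
        rw [← Ideal.Quotient.eq] at ht ht'
        rw [map_pow] at ht ht'
        rw [map_add (AdjoinRoot.mk f), map_add (AdjoinRoot.of f), map_sub, map_pow, map_add, map_add, add_pow_expChar,
          ht, ht', sub_self]
      | monomial n a =>
        refine ⟨a ^ p * y ^ n, ?_⟩
        have h1 : AdjoinRoot.root f ^ p = AdjoinRoot.of f y := by
          have h0 : AdjoinRoot.mk f f = 0 := AdjoinRoot.mk_self
          rw [show (AdjoinRoot.mk f) f = AdjoinRoot.mk f (X ^ p - C y) from rfl, map_sub, map_pow,
            AdjoinRoot.mk_X, AdjoinRoot.mk_C, sub_eq_zero] at h0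
          exact h0
        have h2 : (AdjoinRoot.mk f (monomial n a)) ^ p = AdjoinRoot.of f (a ^ p * y ^ n) := by
          rw [← C_mul_X_pow_eq_monomial, map_mul, map_pow, AdjoinRoot.mk_C, AdjoinRoot.mk_X, mul_pow, ← pow_mul,
            mul_comm n p, pow_mul, h1, map_mul, map_pow, map_pow]
        rw [h2, sub_self]
        exact Ideal.zero_mem _
    obtain ⟨j, r, hr⟩ := hT.residue t
    refine ⟨j + 1, r, ?_⟩
    have h3 : algebraMap R W r - (AdjoinRoot.of f t) ^ p ^ j ∈ N := by
      have h4 : AdjoinRoot.of f (algebraMap R T r - t ^ p ^ j) ∈ N := by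
        rw [hN, ← hmT]
        exact Ideal.mem_map_of_mem _ hr
      rw [map_sub, map_pow] at h4
      exact h4
    have h2 : algebraMap R W r - (AdjoinRoot.mk f g) ^ p ^ (j + 1) ∈ N := by
      rw [← Ideal.Quotient.eq] at ht h3 ⊢
      rw [map_pow] at ht
      simp only [map_pow] at h3 ⊢
      rw [pow_succ', pow_mul, ht]
      exact h3
    rw [hmap, ← map_pow, ← e.commutes, ← map_sub]
    exact Ideal.mem_map_of_mem e.toRingEquiv h2

set_option maxHeartbeats 1600000 in
/-- Let R be a discrete valuation ring that is Henselian and excellent, write k for its residue field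
and p for the characteristic exponent of k. There is a Henselian discrete valuation ring R' and an
injective ring map R → R' such that the maximal ideal of R generates that of R' (so a uniformizer of
R is a uniformizer of R'), R' is the directed union of R-subalgebras that are finite free R-modules
of rank a power of p, and the residue field k' of R' is a perfect closure of k: every element of k'
is a p-th power in k', and some p-power-th power of it lies in the image of k. (The published
statement also asserts that R' is excellent; that is not asserted here.) -/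
theorem result (R : Type u) [CommRing R] [IsDomain R]
    [IsDiscreteValuationRing R] [HenselianLocalRing R] (hR : EGA4.IsExcellent R) :
    ∃ (R' : Type u) (_ : CommRing R') (_ : IsDomain R') (_ : IsDiscreteValuationRing R')
      (_ : HenselianLocalRing R') (_ : Algebra R R'),
      Function.Injective (algebraMap R R') ∧
      Ideal.map (algebraMap R R') (IsLocalRing.maximalIdeal R) = IsLocalRing.maximalIdeal R' ∧
      (∀ s : Finset R', ∃ S : Subalgebra R R', (↑s : Set R') ⊆ ↑S ∧ Module.Finite R S ∧ Module.Free R S ∧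
        ∃ m : ℕ, Module.finrank R S = ringExpChar (IsLocalRing.ResidueField R) ^ m) ∧
      (∀ y : R', ∃ z : R', z ^ ringExpChar (IsLocalRing.ResidueField R) - y ∈ IsLocalRing.maximalIdeal R') ∧
      (∀ y : R', ∃ (m : ℕ) (z : R),
        algebraMap R R' z - y ^ (ringExpChar (IsLocalRing.ResidueField R) ^ m) ∈ IsLocalRing.maximalIdeal R') := by
  classical
  let k := ResidueField R
  let p := ringExpChar k
  let Ω := AlgebraicClosure (FractionRing R)
  have hinj : Function.Injective (algebraMap R Ω) := by
    rw [IsScalarTower.algebraMap_eq R (FractionRing R) Ω]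
    exact (algebraMap (FractionRing R) Ω).injective.comp (IsFractionRing.injective R (FractionRing R))
  have hbot : IsStage R p (⊥ : Subalgebra R Ω) := by
    let e : R ≃ₐ[R] (⊥ : Subalgebra R Ω) := (Algebra.botEquivOfInjective hinj).symm
    refine ⟨Module.Finite.equiv e.toLinearEquiv, Module.Free.of_equiv e.toLinearEquiv, e.toRingEquiv.isLocalRing,
      fun M hM => ?_, ⟨0, by rw [← e.toLinearEquiv.finrank_eq, Module.finrank_self, pow_zero]⟩, fun y => ?_⟩
    · have h1 := IsLocalRing.eq_maximalIdeal (Ideal.comap_isMaximal_of_surjective e.toRingEquiv e.surjective (K := M))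
      rw [show algebraMap R (⊥ : Subalgebra R Ω) = (e.toRingEquiv : R →+* (⊥ : Subalgebra R Ω)) from
        RingHom.ext fun r => (e.commutes r).symm, ← h1]
      exact (Ideal.map_comap_of_surjective e.toRingEquiv e.surjective M).symm
    · obtain ⟨r, rfl⟩ := e.surjective y
      exact ⟨0, r, by rw [pow_zero, pow_one, ← e.commutes, show algebraMap R R r = r from rfl, sub_self]; exact Ideal.zero_mem _⟩
  let good : Set (Subalgebra R Ω) :=
    {S | ∀ s : Finset Ω, (↑s : Set Ω) ⊆ S → ∃ T, T ≤ S ∧ IsStage R p T ∧ (↑s : Set Ω) ⊆ T}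
  obtain ⟨S, hS⟩ : ∃ S, Maximal (· ∈ good) S := by
    refine zorn_le₀ good fun c hc hchain => ?_
    rcases c.eq_empty_or_nonempty with rfl | hne
    · exact ⟨⊥, fun s hs => ⟨⊥, le_rfl, hbot, hs⟩, fun _ h => h.elim⟩
    refine ⟨sSup c, fun s hs => ?_, fun S hS => le_sSup hS⟩
    haveI : Nonempty c := hne.to_subtype
    rw [sSup_eq_iSup', Subalgebra.coe_iSup_of_directed hchain.directed] at hs
    obtain ⟨⟨S, hSc⟩, hsS⟩ := Directed.exists_mem_subset_of_finset_subset_biUnion
      (f := fun S : c => (S.1 : Set Ω)) (fun a b => by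
        obtain ⟨d, h1, h2⟩ := hchain.directed a b
        exact ⟨d, h1, h2⟩) hs
    obtain ⟨T, hTS, hT, hsT⟩ := hc hSc s hsS
    exact ⟨T, hTS.trans (le_sSup hSc), hT, hsT⟩
  have hgood : S ∈ good := hS.1
  obtain ⟨ϖ, hϖ⟩ := IsDiscreteValuationRing.exists_irreducible R
  have hmem : ∀ x : S, ∃ T, ∃ (h : T ≤ S) (x' : T), IsStage R p T ∧ Subalgebra.inclusion h x' = x := fun x => by
    obtain ⟨T, h, hT, hx⟩ := hgood {(x : Ω)} (by simp)
    exact ⟨T, h, ⟨x, hx (by simp)⟩, hT, rfl⟩
  let N : Ideal S := (maximalIdeal R).map (algebraMap R S)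
  have hmapN : ∀ (T : Subalgebra R Ω) (h : T ≤ S), ∀ a ∈ (maximalIdeal R).map (algebraMap R T),
      Subalgebra.inclusion h a ∈ N := fun T h a ha => by
    have := Ideal.mem_map_of_mem (Subalgebra.inclusion h).toRingHom ha
    rwa [Ideal.map_map, show (Subalgebra.inclusion h).toRingHom.comp (algebraMap R T) = algebraMap R S from
      (Subalgebra.inclusion h).comp_algebraMap] at this
  have hNspan : N = Ideal.span {algebraMap R S ϖ} := by
    show Ideal.map _ _ = _
    rw [hϖ.maximalIdeal_eq, Ideal.map_span, Set.image_singleton]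
  have hϖnu : ¬ IsUnit (algebraMap R S ϖ) := fun h => by
    obtain ⟨b, hb⟩ := h.exists_right_inv
    obtain ⟨T, hTS, b', hT, rfl⟩ := hmem b
    haveI := hT.finite
    haveI := hT.isLocal
    haveI : FaithfulSMul R T := (faithfulSMul_iff_algebraMap_injective R T).2 fun x y h =>
      hinj (congrArg Subtype.val h)
    haveI : Algebra.IsIntegral R T := Algebra.IsIntegral.of_finite R T
    exact hϖ.not_isUnit ((isUnit_map_iff (algebraMap R T) ϖ).1
      (IsUnit.of_mul_eq_one b' (Subalgebra.inclusion_injective hTS (by rw [map_mul, AlgHom.commutes, hb, map_one]))))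
  have hunit : ∀ x : S, x ∈ N ∨ IsUnit x := fun x => by
    obtain ⟨T, h, x', hT, rfl⟩ := hmem x
    haveI := hT.isLocal
    by_cases hu : IsUnit x'
    · exact Or.inr (hu.map _)
    · exact Or.inl (hmapN T h x' ((hT.maxEq _ (maximalIdeal.isMaximal T)) ▸ (mem_maximalIdeal _).2 hu))
  have hNtop : N ≠ ⊤ := by
    rw [hNspan, Ne, Ideal.span_singleton_eq_top]
    exact hϖnu
  haveI : IsLocalRing S := IsLocalRing.of_nonunits_add fun a b ha hb hab => by
    exact hNtop (Ideal.eq_top_of_isUnit_mem _ (N.add_mem ((hunit a).resolve_right ha) ((hunit b).resolve_right hb)) hab)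
  have hmax : maximalIdeal S = N := le_antisymm (fun x hx => (hunit x).resolve_right ((mem_maximalIdeal _).1 hx))
    (IsLocalRing.le_maximalIdeal hNtop)
  have hϖ0 : algebraMap R S ϖ ≠ 0 := fun h => hϖ.ne_zero (hinj ((congrArg Subtype.val h).trans (map_zero _).symm))
  haveI : IsDiscreteValuationRing S := by
    refine IsDiscreteValuationRing.ofHasUnitMulPowIrreducibleFactorization ⟨algebraMap R S ϖ, ?_, fun {x} hx => ?_⟩
    · haveI : (Ideal.span {algebraMap R S ϖ}).IsPrime := by
        rw [← hNspan, ← hmax]; infer_instance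
      exact ((Ideal.span_singleton_prime hϖ0).1 inferInstance).irreducible
    · obtain ⟨T, h, x', hT, rfl⟩ := hmem x
      haveI := hT.isLocal
      haveI := hT.finite
      haveI : IsNoetherianRing T := IsNoetherianRing.of_finite R T
      have hfin : FiniteMultiplicity (algebraMap R T ϖ) x' := by
        by_contra hc
        refine hx ?_
        have h1 : x' ∈ ⨅ n : ℕ, (maximalIdeal T) ^ n := Ideal.mem_iInf.2 fun n => by
          rw [hT.maxEq _ (maximalIdeal.isMaximal T), hϖ.maximalIdeal_eq, Ideal.map_span, Set.image_singleton,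
            Ideal.span_singleton_pow, Ideal.mem_span_singleton]
          exact FiniteMultiplicity.not_iff_forall.1 hc n
        rw [Ideal.iInf_pow_eq_bot_of_isLocalRing _ (maximalIdeal.isMaximal T).ne_top] at h1
        rw [show x' = 0 from h1, map_zero]
      obtain ⟨c, hc, hcu⟩ := hfin.exists_eq_pow_mul_and_not_dvd
      have hcu' : IsUnit c := by
        by_contra hcn
        refine hcu (Ideal.mem_span_singleton.1 ?_)
        rw [← Set.image_singleton, ← Ideal.map_span, ← hϖ.maximalIdeal_eq, ← hT.maxEq _ (maximalIdeal.isMaximal T)]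
        exact (mem_maximalIdeal _).2 hcn
      refine ⟨multiplicity (algebraMap R T ϖ) x', (hcu'.map (Subalgebra.inclusion h)).unit, ?_⟩
      conv_rhs => rw [hc]
      rw [IsUnit.unit_spec, map_mul, map_pow, AlgHom.commutes]
  haveI : Algebra.IsIntegral R S := ⟨fun x => by
    obtain ⟨T, h, x', hT, rfl⟩ := hmem x
    haveI := hT.finite
    exact (Algebra.IsIntegral.of_finite R T).isIntegral x' |>.map (Subalgebra.inclusion h)⟩
  haveI : HenselianLocalRing S := StrictHens.Basic.henselianLocalRing_of_integral (R := R)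
  refine ⟨S, inferInstance, inferInstance, inferInstance, inferInstance, inferInstance,
    fun a b h => hinj (congrArg Subtype.val h), hmax.symm, fun s => ?_, fun y => ?_, fun y => ?_⟩
  · obtain ⟨T, hTS, hT, hsT⟩ := hgood (s.image Subtype.val) (by
      rw [Finset.coe_image]; exact Set.image_subset_iff.2 fun x _ => x.2)
    let e : T ≃ₐ[R] T.comap S.val := AlgEquiv.ofBijective
      (((Subalgebra.inclusion hTS)).codRestrict _ fun x => x.2) ⟨fun a b h => Subtype.ext (congrArg
        (fun w : T.comap S.val => (w.1 : Ω)) h), fun w => ⟨⟨w.1.1, w.2⟩, rfl⟩⟩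
    haveI := hT.finite
    haveI := hT.free
    obtain ⟨j, hj⟩ := hT.rank
    exact ⟨T.comap S.val, fun x hx => hsT (Finset.mem_image_of_mem _ hx), Module.Finite.equiv e.toLinearEquiv,
      Module.Free.of_equiv e.toLinearEquiv, j, e.toLinearEquiv.finrank_eq.symm.trans hj⟩
  · by_contra hcon
    push Not at hcon
    rcases expChar_is_prime_or_one k p with hprime | hone
    swap
    · refine hcon y ?_
      show y ^ p - y ∈ _
      rw [hone, pow_one, sub_self]
      exact Ideal.zero_mem _
    haveI : Fact p.Prime := ⟨hprime⟩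
    haveI : CharP k p := by
      have h1 : max (ringChar k) 1 = p := rfl
      have h2 := hprime.one_lt
      rw [show p = ringChar k by omega]
      exact ringChar.charP k
    obtain ⟨z, hz⟩ := IsAlgClosed.exists_pow_nat_eq (y : Ω) hprime.pos
    let S' : Subalgebra R Ω := Algebra.adjoin R (↑S ∪ {z})
    have hstep : ∀ T, T ≤ S → IsStage R p T → (hyT : (y : Ω) ∈ T) →
        IsStage R p ((Algebra.adjoin T {z}).restrictScalars R) := fun T hTS hT hyT =>
      step R hϖ.maximalIdeal_eq hϖ.ne_zero hinj hprime hT ⟨y, hyT⟩ (fun w hw => hcon (Subalgebra.inclusion hTS w) (by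
        have := hmapN T hTS _ hw
        rw [map_sub, map_pow] at this
        rwa [hmax])) z hz
    have hle : ∀ T, T ≤ S → (Algebra.adjoin T {z}).restrictScalars R ≤ S' := fun T hTS x hx => by
      rw [Subalgebra.mem_restrictScalars] at hx
      induction hx using Algebra.adjoin_induction with
      | mem a ha => exact Algebra.subset_adjoin (Or.inr ha)
      | algebraMap a => exact Algebra.subset_adjoin (Or.inl (hTS a.2))
      | add a b _ _ ha hb => exact add_mem ha hb
      | mul a b _ _ ha hb => exact mul_mem ha hb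
    have hmono : ∀ T T' : Subalgebra R Ω, T ≤ T' →
        (Algebra.adjoin T {z}).restrictScalars R ≤ (Algebra.adjoin T' {z}).restrictScalars R := fun T T' hTT x hx => by
      rw [Subalgebra.mem_restrictScalars] at hx ⊢
      induction hx using Algebra.adjoin_induction with
      | mem a ha => exact Algebra.subset_adjoin ha
      | algebraMap a => exact Subalgebra.algebraMap_mem _ (⟨a, hTT a.2⟩ : T')
      | add a b _ _ ha hb => exact add_mem ha hb
      | mul a b _ _ ha hb => exact mul_mem ha hb
    have hdir : ∀ T₁ T₂, T₁ ≤ S → IsStage R p T₁ → T₂ ≤ S → IsStage R p T₂ →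
        ∃ T, T ≤ S ∧ IsStage R p T ∧ T₁ ≤ T ∧ T₂ ≤ T := fun T₁ T₂ h1 hT1 h2 hT2 => by
      haveI := hT1.finite
      haveI := hT2.finite
      obtain ⟨s1, hs1⟩ := (Module.Finite.fg_top (R := R) (M := T₁))
      obtain ⟨s2, hs2⟩ := (Module.Finite.fg_top (R := R) (M := T₂))
      obtain ⟨T, hTS, hT, hsT⟩ := hgood (s1.image Subtype.val ∪ s2.image Subtype.val) (by
        rw [Finset.coe_union, Finset.coe_image, Finset.coe_image]
        exact Set.union_subset (Set.image_subset_iff.2 fun x _ => h1 x.2) (Set.image_subset_iff.2 fun x _ => h2 x.2))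
      have key : ∀ (U : Subalgebra R Ω) (s : Finset U), Submodule.span R (↑s : Set U) = ⊤ →
          (∀ a ∈ s, (a : Ω) ∈ T) → U ≤ T := fun U s hs hsub x hx => by
        have h3 : Submodule.span R (↑s : Set U) ≤ (Subalgebra.toSubmodule (T.comap U.val)) :=
          Submodule.span_le.2 hsub
        rw [hs] at h3
        exact h3 (Submodule.mem_top (x := ⟨x, hx⟩))
      exact ⟨T, hTS, hT, key T₁ s1 hs1 fun a ha => hsT (Finset.mem_union_left _ (Finset.mem_image_of_mem _ ha)),
        key T₂ s2 hs2 fun a ha => hsT (Finset.mem_union_right _ (Finset.mem_image_of_mem _ ha))⟩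
    obtain ⟨T₀, hT₀S, hT₀, hy₀⟩ := hgood {(y : Ω)} (by simp)
    have hy₀' : (y : Ω) ∈ T₀ := hy₀ (by simp)
    have hall : ∀ x ∈ S', ∃ T, T ≤ S ∧ IsStage R p T ∧ T₀ ≤ T ∧
        x ∈ (Algebra.adjoin T {z}).restrictScalars R := fun x hx => by
      induction hx using Algebra.adjoin_induction with
      | mem a ha =>
        rcases ha with ha | ha
        · obtain ⟨T, hTS, x', hT, hx'⟩ := hmem ⟨a, ha⟩
          obtain ⟨T', h', hT', hle1, hle2⟩ := hdir T₀ T hT₀S hT₀ hTS hT
          have haT : a ∈ T := by
            have h5 : (x' : Ω) = a := congrArg Subtype.val hx'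
            exact h5 ▸ x'.2
          exact ⟨T', h', hT', hle1, Subalgebra.algebraMap_mem (Algebra.adjoin T' {z}) (⟨a, hle2 haT⟩ : T')⟩
        · exact ⟨T₀, hT₀S, hT₀, le_rfl, Algebra.subset_adjoin ha⟩
      | algebraMap r => exact ⟨T₀, hT₀S, hT₀, le_rfl, Subalgebra.algebraMap_mem _ r⟩
      | add a b _ _ ha hb =>
        obtain ⟨T1, h1, hT1, hl1, ha⟩ := ha
        obtain ⟨T2, h2, hT2, hl2, hb⟩ := hb
        obtain ⟨T, h, hT, hle1, hle2⟩ := hdir T1 T2 h1 hT1 h2 hT2
        exact ⟨T, h, hT, hl1.trans hle1, add_mem (hmono _ _ hle1 ha) (hmono _ _ hle2 hb)⟩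
      | mul a b _ _ ha hb =>
        obtain ⟨T1, h1, hT1, hl1, ha⟩ := ha
        obtain ⟨T2, h2, hT2, hl2, hb⟩ := hb
        obtain ⟨T, h, hT, hle1, hle2⟩ := hdir T1 T2 h1 hT1 h2 hT2
        exact ⟨T, h, hT, hl1.trans hle1, mul_mem (hmono _ _ hle1 ha) (hmono _ _ hle2 hb)⟩
    have hS'good : S' ∈ good := fun s hs => by
      obtain ⟨T, hTS, hT, hl, hsT⟩ : ∃ T, T ≤ S ∧ IsStage R p T ∧ T₀ ≤ T ∧
          (↑s : Set Ω) ⊆ (Algebra.adjoin T {z}).restrictScalars R := by
        induction s using Finset.induction with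
        | empty => exact ⟨T₀, hT₀S, hT₀, le_rfl, by simp⟩
        | insert a s _ ih =>
          rw [Finset.coe_insert, Set.insert_subset_iff] at hs
          obtain ⟨T1, h1, hT1, hl1, ha⟩ := hall a hs.1
          obtain ⟨T2, h2, hT2, hl2, hs2⟩ := ih hs.2
          obtain ⟨T, h, hT, hle1, hle2⟩ := hdir T1 T2 h1 hT1 h2 hT2
          refine ⟨T, h, hT, hl1.trans hle1, ?_⟩
          rw [Finset.coe_insert, Set.insert_subset_iff]
          exact ⟨hmono _ _ hle1 ha, fun b hb => hmono _ _ hle2 (hs2 hb)⟩
      exact ⟨_, hle T hTS, hstep T hTS hT (hl hy₀'), hsT⟩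
    have hzS : z ∈ S := hS.2 hS'good (fun x hx => Algebra.subset_adjoin (Or.inl hx))
      (Algebra.subset_adjoin (Or.inr rfl))
    refine hcon ⟨z, hzS⟩ ?_
    rw [show (⟨z, hzS⟩ : S) ^ p = y from Subtype.ext hz, sub_self]
    exact Ideal.zero_mem _
  · obtain ⟨T, h, y', hT, rfl⟩ := hmem y
    obtain ⟨j, r, hr⟩ := hT.residue y'
    refine ⟨j, r, ?_⟩
    rw [hmax]
    have := hmapN T h _ hr
    rwa [map_sub, AlgHom.commutes, map_pow] at this

end Groth.Agent.S16360
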