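import Groth.Statements.S16361
import Groth.Agent.FibC.Based
import Groth.Agent.S6416

set_option autoImplicit false
set_option backward.isDefEq.respectTransparency false
set_option backward.isDefEq.respectTransparency.types false
universe v u
open CategoryTheory CategoryTheory.Limits
open FibCat

namespace Groth.Agent.S16361

/-- Let S be a category, π_X : X ⥤ S and π_Y : Y ⥤ S be fibred in groupoids, and F : Y ⥤ X a functor
with F ⋙ π_X = π_Y. Consider the category of triples (y, x, φ) with φ : F y ≅ x an arbitrary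
isomorphism of X and morphisms the compatible pairs of morphisms (the categorical pullback of F and
the identity of X; the isomorphism φ is not required to lie over an identity of S). Its projection
to X is fibred in groupoids over X, and the composite of that projection with π_X is fibred in
groupoids over S. (The published statement also asserts that y ↦ (y, F y, id) and (y, x, φ) ↦ y form
an equivalence over S; that is not asserted here.) -/
theorem result {S : Type u} [Category.{v} S] {X : Type u} [Category.{v} X]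
    {Y : Type u} [Category.{v} Y] (πX : X ⥤ S) (πY : Y ⥤ S) (hX : FibCat.IsFibGrpd πX) (hY : FibCat.IsFibGrpd πY)
    (F : Y ⥤ X) (hF : F ⋙ πX = πY) :
    FibCat.IsFibGrpd (CategoricalPullback.π₂ F (𝟭 X)) ∧
      FibCat.IsFibGrpd (CategoricalPullback.π₂ F (𝟭 X) ⋙ πX) := by
  let 𝒳b : BasedCategory.{v, u} S := BasedCategory.ofFunctor πX
  let 𝒴b : BasedCategory.{v, u} S := BasedCategory.ofFunctor πY
  let Fb : 𝒴b ⥤ᵇ 𝒳b := ⟨F, hF⟩
  suffices h : FibCat.IsFibGrpd (CategoricalPullback.π₂ F (𝟭 X)) from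
    ⟨h, Groth.Agent.S6416.result _ _ h hX⟩
  constructor
  · intro a x' g
    change x' ⟶ a.snd at g
    let k : x' ⟶ F.obj a.fst := g ≫ a.iso.inv
    have e : πX.obj (F.obj a.fst) = πY.obj a.fst := Functor.congr_obj hF a.fst
    let f : πX.obj x' ⟶ πY.obj a.fst := πX.map k ≫ eqToHom e
    have hk : 𝒳b.p.IsHomLift f k := IsHomLift.of_fac πX f k rfl e (by simp [f])
    obtain ⟨y', φ, hφ⟩ := Groth.Agent.FibC.exists_lift' (p := 𝒴b.p) hY (x := a.fst) rfl f
    have : 𝒳b.p.IsHomLift f (Fb.toFunctor.map φ) := @BasedFunctor.preserves_isHomLift _ _ _ _ Fb _ _ _ _ f φ hφ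
    have := Groth.Agent.FibC.sc_of_fibGrpd (p := 𝒳b.p) hX f (Fb.toFunctor.map φ)
    obtain ⟨θ, ⟨hθ, hθ'⟩, -⟩ := Functor.IsStronglyCartesian.universal_property 𝒳b.p f (Fb.toFunctor.map φ)
      (𝟙 (πX.obj x')) f (Category.id_comp f).symm k
    have : IsIso θ := Groth.Agent.FibC.isIso_of_fibGrpd (p := 𝒳b.p) hX (𝟙 (πX.obj x')) θ
    let θ' : x' ≅ F.obj y' := @asIso _ _ _ _ θ this
    have hθ'' : θ'.hom ≫ F.map φ = g ≫ a.iso.inv := hθ'
    let a' : CategoricalPullback F (𝟭 X) := { fst := y', snd := x', iso := θ'.symm }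
    let Φ : a' ⟶ a :=
      { fst := φ, snd := g, w := by
          show F.map φ ≫ a.iso.hom = θ'.inv ≫ g
          rw [Iso.eq_inv_comp, reassoc_of% hθ'']
          simp }
    exact ⟨a', Φ, IsHomLift.map (CategoricalPullback.π₂ F (𝟭 X)) Φ⟩
  · intro b a φ
    refine @Functor.IsStronglyCartesian.mk _ _ _ _ _ _ _ _ _ _ φ inferInstance ?_
    intro z h ψ hψ
    let h₀ : z.snd ⟶ b.snd := h
    have e : h₀ ≫ φ.snd = ψ.snd :=
      IsHomLift.eq_of_isHomLift (CategoricalPullback.π₂ F (𝟭 X)) (h ≫ (CategoricalPullback.π₂ F (𝟭 X)).map φ) ψ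
    let k : F.obj z.fst ⟶ F.obj b.fst := z.iso.hom ≫ h₀ ≫ b.iso.inv
    have hk : k ≫ F.map φ.fst = F.map ψ.fst := by
      have w1 : F.map φ.fst ≫ a.iso.hom = b.iso.hom ≫ φ.snd := φ.w
      have w2 : F.map ψ.fst ≫ a.iso.hom = z.iso.hom ≫ ψ.snd := ψ.w
      rw [← cancel_mono a.iso.hom, Category.assoc, w1, w2, ← e]
      simp [k]
    have := Groth.Agent.FibC.sc_rel (𝒳 := 𝒴b) (𝒴 := 𝒳b) hY hX Fb φ.fst
    have : Fb.toFunctor.IsHomLift (k ≫ F.map φ.fst) ψ.fst := by rw [hk]; exact IsHomLift.map F ψ.fst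
    obtain ⟨χ, ⟨hχ, hχ'⟩, hu⟩ := Functor.IsStronglyCartesian.universal_property Fb.toFunctor
      (F.map φ.fst) φ.fst k _ rfl ψ.fst
    have ek : k = F.map χ := IsHomLift.eq_of_isHomLift Fb.toFunctor k χ
    let Χ : z ⟶ b :=
      { fst := χ, snd := h₀, w := by
          show F.map χ ≫ b.iso.hom = z.iso.hom ≫ h₀
          rw [← ek]
          simp [k] }
    refine ⟨Χ, ⟨IsHomLift.map (CategoricalPullback.π₂ F (𝟭 X)) Χ, CategoricalPullback.hom_ext hχ' e⟩, ?_⟩
    rintro ω ⟨hω, hω'⟩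
    have e2 : h₀ = ω.snd := IsHomLift.eq_of_isHomLift (CategoricalPullback.π₂ F (𝟭 X)) h ω
    have w3 : F.map ω.fst ≫ b.iso.hom = z.iso.hom ≫ ω.snd := ω.w
    refine CategoricalPullback.hom_ext (hu ω.fst ⟨?_, congrArg CategoricalPullback.Hom.fst hω'⟩) e2.symm
    have : k = F.map ω.fst := by
      show z.iso.hom ≫ h₀ ≫ b.iso.inv = _
      rw [e2, ← reassoc_of% w3]
      simp
    rw [this]
    exact IsHomLift.map F ω.fst

end Groth.Agent.S16361
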