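import Groth.Statements.S16362
import Mathlib.RingTheory.IntegralClosure.IsIntegral.Basic
import Mathlib.RingTheory.Polynomial.Basic
import Mathlib.Tactic.LinearCombination

set_option autoImplicit false
universe u
open MovLem

namespace Groth.Agent.S16362

/-- Let A be a commutative ring, p a prime ideal of A, and ζ, u elements of A with u not in p. Then the
quotient of the classes of ζ and u in the fraction field of the domain A ⧸ p is integral over A ⧸ p
if and only if there exist a natural number N and elements a_1, …, a_N of A such that ζ^N + a_1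
ζ^(N-1) u + ⋯ + a_N u^N lies in p; equivalently, some binary form of degree N with coefficients in
A, monic in the first variable, evaluated at (ζ, u), lies in p. -/
theorem result
    {A : Type u} [CommRing A] (p : Ideal A) [p.IsPrime] (ζ u : A) (hu : u ∉ p) :
    IsIntegral (A ⧸ p)
        (algebraMap (A ⧸ p) (FractionRing (A ⧸ p)) (Ideal.Quotient.mk p ζ) /
          algebraMap (A ⧸ p) (FractionRing (A ⧸ p)) (Ideal.Quotient.mk p u)) ↔
      ∃ (N : ℕ) (a : ℕ → A),
        ζ ^ N + ∑ i ∈ Finset.Icc 1 N, a i * ζ ^ (N - i) * u ^ i ∈ p := by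
  let R := A ⧸ p
  let K := FractionRing R
  let φ : A →+* K := (algebraMap R K).comp (Ideal.Quotient.mk p)
  have hu0 : φ u ≠ 0 := fun h => hu (Ideal.Quotient.eq_zero_iff_mem.1
    ((map_eq_zero_iff (algebraMap R K) (IsFractionRing.injective R K)).1 h))
  have hφ : ∀ x, φ x = 0 ↔ x ∈ p := fun x =>
    (map_eq_zero_iff (algebraMap R K) (IsFractionRing.injective R K)).trans Ideal.Quotient.eq_zero_iff_mem
  show IsIntegral R (φ ζ / φ u) ↔ _
  constructor
  · rintro ⟨P, hP, hP0⟩
    choose a ha using fun i => Ideal.Quotient.mk_surjective (P.coeff (P.natDegree - i))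
    refine ⟨P.natDegree, a, (hφ _).1 ?_⟩
    rw [Polynomial.eval₂_eq_sum_range, Finset.sum_range_succ, hP.coeff_natDegree, map_one, one_mul] at hP0
    have key : φ u ^ P.natDegree * (∑ j ∈ Finset.range P.natDegree, algebraMap R K (P.coeff j) * (φ ζ / φ u) ^ j +
        (φ ζ / φ u) ^ P.natDegree) = 0 := by rw [hP0, mul_zero]
    rw [mul_add, Finset.mul_sum, div_pow, mul_div_cancel₀ _ (pow_ne_zero _ hu0)] at key
    simp only [map_add, map_pow, map_sum, map_mul]
    rw [add_comm] at key
    refine Eq.trans ?_ key
    congr 1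
    refine Finset.sum_bij' (fun i _ => P.natDegree - i) (fun j _ => P.natDegree - j) ?_ ?_ ?_ ?_ ?_
    · intro i hi; simp at hi ⊢; omega
    · intro j hj; simp at hj ⊢; omega
    · intro i hi; simp at hi; omega
    · intro j hj; simp at hj; omega
    · intro i hi
      simp at hi
      have e : φ u ^ P.natDegree = φ u ^ (P.natDegree - i) * φ u ^ i := by rw [← pow_add]; congr 1; omega
      show φ (a i) * φ ζ ^ (P.natDegree - i) * φ u ^ i = _
      rw [show φ (a i) = algebraMap R K (P.coeff (P.natDegree - i)) from congrArg (algebraMap R K) (ha i), e, div_pow]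
      linear_combination (-(algebraMap R K (P.coeff (P.natDegree - i))) * φ u ^ i) * mul_div_cancel₀ (φ ζ ^ (P.natDegree - i)) (pow_ne_zero (P.natDegree - i) hu0)
  · rintro ⟨N, a, h⟩
    let P : Polynomial R := Polynomial.X ^ N + ∑ i ∈ Finset.Icc 1 N, Polynomial.C (Ideal.Quotient.mk p (a i)) * Polynomial.X ^ (N - i)
    refine ⟨P, ?_, ?_⟩
    · refine Polynomial.monic_X_pow_add ?_
      refine (Polynomial.degree_sum_le _ _).trans_lt ?_
      rw [Finset.sup_lt_iff (WithBot.bot_lt_coe _)]
      intro i hi
      simp at hi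
      exact (Polynomial.degree_C_mul_X_pow_le _ _).trans_lt (by exact_mod_cast (show N - i < N by omega))
    · have h0 := (hφ _).2 h
      simp only [map_add, map_pow, map_sum, map_mul] at h0
      simp only [P, Polynomial.eval₂_add, Polynomial.eval₂_finset_sum, Polynomial.eval₂_mul, Polynomial.eval₂_C,
        Polynomial.eval₂_X_pow]
      apply mul_left_cancel₀ (pow_ne_zero N hu0)
      rw [mul_zero, ← h0, mul_add, Finset.mul_sum, div_pow, mul_div_cancel₀ _ (pow_ne_zero _ hu0)]
      congr 1
      refine Finset.sum_congr rfl fun i hi => ?_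
      simp at hi
      have e : φ u ^ N = φ u ^ (N - i) * φ u ^ i := by rw [← pow_add]; congr 1; omega
      show _ * (φ (a i) * _) = _
      rw [e, div_pow]
      linear_combination (φ (a i) * φ u ^ i) * mul_div_cancel₀ (φ ζ ^ (N - i)) (pow_ne_zero (N - i) hu0)

end Groth.Agent.S16362
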