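import Groth.Statements.S16363
import Mathlib.RingTheory.AlgebraicIndependent.AlgebraicClosure
import Mathlib.RingTheory.Ideal.GoingUp
import Mathlib.RingTheory.AlgebraicIndependent.TranscendenceBasis
import Mathlib.AlgebraicGeometry.Pullbacks
import Mathlib.AlgebraicGeometry.Morphisms.FiniteType


set_option autoImplicit false
universe u
open CategoryTheory Limits
open MovLem

namespace Groth.Agent.S16363

open TensorProduct CategoryTheory Limits AlgebraicGeometry

/-- A minimal prime avoiding the ideal, lying over a minimal prime whose polynomial extension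
contains the contraction. -/
theorem exists_minimalPrime_ge {k A K : Type u} [Field k] [CommRing A] [Algebra k A] [Field K]
    [Algebra k K] {ι : Type u} (T : ι → K) (hT : IsTranscendenceBasis k T)
    (p : Ideal A) (hp : p ∈ minimalPrimes A) (J : Ideal (A ⊗[k] K))
    (hJ : ∀ g : MvPolynomial ι A, MvPolynomial.aeval (fun i => (1 : A) ⊗ₜ[k] T i) g ∈ J →
      ∀ d, g.coeff d ∈ p) :
    ∃ P ∈ minimalPrimes (A ⊗[k] K), J ≤ P := by
  classical
  let PP := MvPolynomial ι k
  letI algPK : Algebra PP K := (MvPolynomial.aeval T : PP →ₐ[k] K).toRingHom.toAlgebra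
  haveI : IsScalarTower k PP K := .of_algebraMap_eq fun c => by
    show algebraMap k K c = MvPolynomial.aeval T (algebraMap k PP c)
    rw [AlgHom.commutes]
  haveI : FaithfulSMul PP K := (faithfulSMul_iff_algebraMap_injective _ _).mpr hT.1
  haveI : Algebra.IsAlgebraic PP K := by
    haveI := hT.isAlgebraic
    refine ⟨fun c => ?_⟩
    refine IsAlgebraic.of_ringHom_of_comp_eq (S := Algebra.adjoin k (Set.range T))
      (f := hT.1.aevalEquiv.toRingEquiv.toRingHom) (g := RingHom.id K)
      (Algebra.IsAlgebraic.isAlgebraic c) hT.1.aevalEquiv.surjective Function.injective_id ?_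
    ext q <;> simp [AlgebraicIndependent.aevalEquiv, RingHom.algebraMap_toAlgebra]
  let R := FractionRing PP
  letI : Algebra R K := FractionRing.liftAlgebra PP K
  haveI : IsScalarTower PP R K := FractionRing.isScalarTower_liftAlgebra PP K
  haveI : IsScalarTower k R K := inferInstance
  haveI : Algebra.IsAlgebraic R K :=
    Algebra.IsAlgebraic.extendScalars (R := PP) (IsFractionRing.injective PP R)
  let θ : A ⊗[k] R →ₐ[A] A ⊗[k] K :=
    Algebra.TensorProduct.map (AlgHom.id A A) (IsScalarTower.toAlgHom k R K)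
  letI : Algebra (A ⊗[k] R) (A ⊗[k] K) := θ.toRingHom.toAlgebra
  haveI : Algebra.IsIntegral (A ⊗[k] R) (A ⊗[k] K) := by
    refine ⟨fun z => ?_⟩
    induction z with
    | zero => exact isIntegral_zero
    | add a b ha hb => exact ha.add hb
    | tmul a c =>
      have e : a ⊗ₜ[k] c = θ.toRingHom (a ⊗ₜ[k] (1 : R)) * ((1 : A) ⊗ₜ[k] c) := by
        simp [θ]
      rw [e]
      refine (isIntegral_algebraMap (x := a ⊗ₜ[k] (1 : R))).mul ?_
      obtain ⟨q, hq, hq0⟩ := (Algebra.IsIntegral.isIntegral (R := R) c)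
      refine ⟨q.map (Algebra.TensorProduct.includeRight : R →ₐ[k] A ⊗[k] R).toRingHom, hq.map _, ?_⟩
      rw [Polynomial.eval₂_map]
      have hc : (algebraMap (A ⊗[k] R) (A ⊗[k] K)).comp
          (Algebra.TensorProduct.includeRight : R →ₐ[k] A ⊗[k] R).toRingHom =
          (Algebra.TensorProduct.includeRight : K →ₐ[k] A ⊗[k] K).toRingHom.comp
            (algebraMap R K) := by
        ext r
        simp [RingHom.algebraMap_toAlgebra, θ]
      rw [hc]
      have h := Polynomial.hom_eval₂ q (algebraMap R K)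
        (Algebra.TensorProduct.includeRight : K →ₐ[k] A ⊗[k] K).toRingHom c
      rw [hq0, map_zero] at h
      exact h.symm
  haveI := hp.1.1
  -- the contraction map
  let φ : MvPolynomial ι A →ₐ[A] A ⊗[k] R :=
    MvPolynomial.aeval fun i => (1 : A) ⊗ₜ[k] algebraMap PP R (MvPolynomial.X i)
  have hθφ : ∀ g, θ (φ g) = MvPolynomial.aeval (fun i => (1 : A) ⊗ₜ[k] T i) g := by
    intro g
    simp only [φ]
    rw [MvPolynomial.comp_aeval_apply]
    congr 2
    funext i
    simp only [θ, Algebra.TensorProduct.map_tmul, IsScalarTower.coe_toAlgHom',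
      ← IsScalarTower.algebraMap_apply]
    exact congrArg _ (MvPolynomial.aeval_X T i)
  have hφmap : ∀ n : PP, φ (MvPolynomial.map (algebraMap k A) n) =
      (1 : A) ⊗ₜ[k] algebraMap PP R n := by
    intro n
    induction n using MvPolynomial.induction_on with
    | C c =>
      rw [MvPolynomial.map_C, MvPolynomial.aeval_C, Algebra.TensorProduct.algebraMap_apply,
        Algebra.algebraMap_self, RingHom.id_apply, ← MvPolynomial.algebraMap_eq,
        ← IsScalarTower.algebraMap_apply, Algebra.algebraMap_eq_smul_one,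
        Algebra.algebraMap_eq_smul_one, TensorProduct.tmul_smul, TensorProduct.smul_tmul']
    | add a b ha hb => simp only [map_add, ha, hb, TensorProduct.tmul_add]
    | mul_X a i ha => simp only [map_mul, MvPolynomial.map_X, ha, φ, MvPolynomial.aeval_X,
        Algebra.TensorProduct.tmul_mul_tmul, _root_.mul_one]
  have hden : ∀ b : A ⊗[k] R, ∃ (s : PP) (g : MvPolynomial ι A), s ≠ 0 ∧
      b * ((1 : A) ⊗ₜ[k] algebraMap PP R s) = φ g := by
    intro b
    induction b with
    | zero => exact ⟨1, 0, one_ne_zero, by simp⟩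
    | tmul a r =>
      obtain ⟨n, s, hs, rfl⟩ := IsFractionRing.div_surjective (A := PP) r
      refine ⟨s, MvPolynomial.C a * MvPolynomial.map (algebraMap k A) n,
        nonZeroDivisors.ne_zero hs, ?_⟩
      rw [map_mul, hφmap, MvPolynomial.aeval_C, Algebra.TensorProduct.algebraMap_apply,
        Algebra.TensorProduct.tmul_mul_tmul, Algebra.TensorProduct.tmul_mul_tmul]
      rw [_root_.mul_one, _root_.mul_one, _root_.one_mul,
        div_mul_cancel₀ _ (IsFractionRing.to_map_ne_zero_of_mem_nonZeroDivisors (K := R) hs)]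
      simp
    | add b c hb hc =>
      obtain ⟨s, g, hs, hg⟩ := hb
      obtain ⟨t, h, ht, hh⟩ := hc
      refine ⟨s * t, g * MvPolynomial.map (algebraMap k A) t +
        h * MvPolynomial.map (algebraMap k A) s, mul_ne_zero hs ht, ?_⟩
      simp only [map_add, map_mul, hφmap, ← hg, ← hh]
      rw [
        ← _root_.one_mul (1 : A), ← Algebra.TensorProduct.tmul_mul_tmul, _root_.one_mul]
      ring
  -- the prime
  let D := MvPolynomial ι (A ⧸ p)
  let L := FractionRing D
  have hinj : Function.Injective ((algebraMap D L).comp (MvPolynomial.map (algebraMap k (A ⧸ p)))) :=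
    (IsFractionRing.injective D L).comp
      (MvPolynomial.map_injective _ (algebraMap k (A ⧸ p)).injective)
  let jR0 : R →+* L := IsFractionRing.lift hinj
  let jR : R →ₐ[k] L := { jR0 with
    commutes' := fun c => by
      show jR0 (algebraMap k R c) = _
      rw [IsScalarTower.algebraMap_apply k PP R, IsFractionRing.lift_algebraMap,
        IsScalarTower.algebraMap_apply k D L, RingHom.comp_apply, MvPolynomial.algebraMap_eq,
        MvPolynomial.map_C]
      rfl }
  let ψ : A ⊗[k] R →ₐ[k] L :=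
    Algebra.TensorProduct.lift ((IsScalarTower.toAlgHom k D L).comp
      ((IsScalarTower.toAlgHom k (A ⧸ p) D).comp (Ideal.Quotient.mkₐ k p))) jR
      (fun _ _ => Commute.all _ _)
  have hψs : ∀ s : PP, ψ ((1 : A) ⊗ₜ[k] algebraMap PP R s) =
      algebraMap D L (MvPolynomial.map (algebraMap k (A ⧸ p)) s) := by
    intro s
    simp only [ψ, Algebra.TensorProduct.lift_tmul, map_one, _root_.one_mul]
    exact IsFractionRing.lift_algebraMap hinj s
  have hψφ : ∀ g, ψ (φ g) = algebraMap D L (MvPolynomial.map (Ideal.Quotient.mk p) g) := by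
    intro g
    induction g using MvPolynomial.induction_on with
    | C a =>
      rw [MvPolynomial.aeval_C, Algebra.TensorProduct.algebraMap_apply, Algebra.algebraMap_self,
        RingHom.id_apply, MvPolynomial.map_C]
      simp only [ψ, Algebra.TensorProduct.lift_tmul, map_one, _root_.mul_one]
      rfl
    | add a b ha hb => simp only [map_add, ha, hb]
    | mul_X a i ha =>
      rw [map_mul, map_mul, ha, map_mul (MvPolynomial.map _), map_mul (algebraMap D L),
        MvPolynomial.aeval_X, hψs, MvPolynomial.map_X, MvPolynomial.map_X]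
  have hker : ∀ g, φ g ∈ RingHom.ker ψ ↔ ∀ d, g.coeff d ∈ p := by
    intro g
    rw [RingHom.mem_ker, hψφ, map_eq_zero_iff _ (IsFractionRing.injective D L)]
    constructor
    · intro h d
      have := congrArg (MvPolynomial.coeff d) h
      rw [MvPolynomial.coeff_map, MvPolynomial.coeff_zero] at this
      exact Ideal.Quotient.eq_zero_iff_mem.mp this
    · intro h
      ext d
      rw [MvPolynomial.coeff_map, MvPolynomial.coeff_zero]
      exact Ideal.Quotient.eq_zero_iff_mem.mpr (h d)
  have hs1 : ∀ (s : PP), s ≠ 0 → ψ ((1 : A) ⊗ₜ[k] algebraMap PP R s) ≠ 0 := by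
    intro s hs
    rw [hψs, Ne, map_eq_zero_iff _ (IsFractionRing.injective D L),
      map_eq_zero_iff _ (MvPolynomial.map_injective _ (algebraMap k (A ⧸ p)).injective)]
    exact hs
  haveI : (RingHom.ker ψ).IsPrime := RingHom.ker_isPrime ψ
  have hJq : J.comap (algebraMap (A ⊗[k] R) (A ⊗[k] K)) ≤ RingHom.ker ψ := by
    intro b hb
    obtain ⟨s, g, hs, hg⟩ := hden b
    have h : φ g ∈ RingHom.ker ψ := (hker g).mpr (hJ g (by
      rw [← hθφ, ← hg, map_mul]
      exact J.mul_mem_right _ hb))
    rw [← hg, RingHom.mem_ker, map_mul] at h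
    exact (mul_eq_zero.mp h).resolve_right (hs1 s hs)
  obtain ⟨P, hJP, hP, hPq⟩ :=
    Ideal.exists_ideal_over_prime_of_isIntegral (RingHom.ker ψ) J hJq
  refine ⟨P, ?_, hJP⟩
  refine ⟨⟨hP, bot_le⟩, fun P' ⟨hP', _⟩ hle => ?_⟩
  by_contra hne
  haveI := hP'
  have hlt := Ideal.IsIntegral.comap_lt_comap (R := A ⊗[k] R) (lt_of_le_not_ge hle hne)
  rw [hPq] at hlt
  refine hlt.not_ge fun b hb => ?_
  set Q := P'.comap (algebraMap (A ⊗[k] R) (A ⊗[k] K)) with hQ
  haveI : Q.IsPrime := Ideal.IsPrime.comap _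
  have hp0 : ∀ a ∈ p, φ (MvPolynomial.C a) ∈ Q := by
    intro a ha
    have : Q.comap (φ.toRingHom.comp MvPolynomial.C) = p := by
      refine le_antisymm (fun a ha => ?_) (hp.2 ⟨Ideal.IsPrime.comap _, bot_le⟩ ?_)
      · have h := (hker (MvPolynomial.C a)).mp (hlt.le ha) 0
        simpa using h
      · intro a ha
        have h := (hker (MvPolynomial.C a)).mp (hlt.le ha) 0
        simpa using h
    rw [← this] at ha
    exact ha
  obtain ⟨s, g, hs, hg⟩ := hden b
  have hgQ : φ g ∈ Q := by
    have h : φ g ∈ RingHom.ker ψ := hg ▸ Ideal.mul_mem_right _ _ hb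
    rw [g.as_sum, map_sum]
    refine Q.sum_mem fun d _ => ?_
    rw [← _root_.mul_one (g.coeff d), ← MvPolynomial.C_mul_monomial, map_mul]
    exact Q.mul_mem_right _ (hp0 _ ((hker g).mp h d))
  refine ((Ideal.IsPrime.mem_or_mem inferInstance) (hg ▸ hgQ)).resolve_right fun h => ?_
  exact hs1 s hs (RingHom.mem_ker.mp (hlt.le h))

/-- The affine statement. -/
theorem affine_case {k A K : Type u} [Field k] [CommRing A] [Algebra k A]
    [Algebra.FiniteType k A] [Field K] [Algebra k K]
    (W : TopologicalSpace.Opens (PrimeSpectrum (A ⊗[k] K)))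
    (hW : Dense (W : Set (PrimeSpectrum (A ⊗[k] K)))) :
    ∃ U : TopologicalSpace.Opens (PrimeSpectrum A), Dense (U : Set (PrimeSpectrum A)) ∧
      ∀ (kb Ω : Type u) [Field kb] [Algebra k kb] [IsAlgClosure k kb]
        [Field Ω] [Algebra k Ω] [Algebra kb Ω] [Algebra K Ω] [IsScalarTower k kb Ω]
        [IsScalarTower k K Ω] (x : A →ₐ[k] kb) (ψ : A ⊗[k] K →+* Ω),
        (∀ a, ψ (a ⊗ₜ[k] 1) = algebraMap kb Ω (x a)) →
        (∀ c, ψ (1 ⊗ₜ[k] c) = algebraMap K Ω c) →
        PrimeSpectrum.comap x.toRingHom ⊥ ∈ U → PrimeSpectrum.comap ψ ⊥ ∈ W := by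
  classical
  obtain ⟨J, hJ⟩ : ∃ J : Ideal (A ⊗[k] K), (W : Set _)ᶜ = PrimeSpectrum.zeroLocus (J : Set (A ⊗[k] K)) :=
    (PrimeSpectrum.isClosed_iff_zeroLocus_ideal _).mp W.isOpen.isClosed_compl
  obtain ⟨ι, T, hT⟩ := exists_isTranscendenceBasis' k K
  let e := MvPolynomial.aeval (R := A) (fun i => (1 : A) ⊗ₜ[k] T i)
  let U : TopologicalSpace.Opens (PrimeSpectrum A) :=
    ⨆ (g : MvPolynomial ι A) (_ : e g ∈ J) (d : ι →₀ ℕ), PrimeSpectrum.basicOpen (g.coeff d)
  haveI : IsNoetherianRing A := Algebra.FiniteType.isNoetherianRing k A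
  haveI : Algebra.FiniteType K (K ⊗[k] A) := inferInstance
  haveI : IsNoetherianRing (A ⊗[k] K) :=
    haveI := Algebra.FiniteType.isNoetherianRing K (K ⊗[k] A)
    isNoetherianRing_of_ringEquiv _ (Algebra.TensorProduct.comm k K A).toRingEquiv
  have hmin : ∀ P ∈ minimalPrimes (A ⊗[k] K), ¬ J ≤ P := by
    intro P hP hJP
    haveI := hP.1.1
    have hfin := (minimalPrimes.finite_of_isNoetherianRing (A ⊗[k] K))
    let s := (hfin.toFinset.erase P)
    obtain ⟨t, ht, htP⟩ : ∃ t, t ∈ s.inf id ∧ t ∉ P := by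
      refine SetLike.not_le_iff_exists.mp fun hle => ?_
      obtain ⟨Q, hQ, hQP⟩ := (Ideal.IsPrime.inf_le' inferInstance).mp hle
      rw [Finset.mem_erase, Set.Finite.mem_toFinset] at hQ
      exact hQ.1 (le_antisymm hQP (hP.2 hQ.2.1 hQP))
    obtain ⟨Q, hQt, hQW⟩ := hW.inter_open_nonempty _ (PrimeSpectrum.basicOpen t).isOpen
      ⟨⟨P, inferInstance⟩, htP⟩
    obtain ⟨P', hP', hle⟩ := Ideal.exists_minimalPrimes_le (bot_le : ⊥ ≤ Q.asIdeal)
    have : P' = P := by
      by_contra hne
      have hmem : P' ∈ s := Finset.mem_erase.mpr ⟨hne, hfin.mem_toFinset.mpr hP'⟩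
      exact hQt (hle (Finset.inf_le (f := id) hmem ht))
    subst this
    have : Q ∈ PrimeSpectrum.zeroLocus (J : Set (A ⊗[k] K)) := fun z hz => hle (hJP hz)
    rw [← hJ] at this
    exact this hQW
  refine ⟨U, ?_, ?_⟩
  · intro Q
    obtain ⟨p, hp, hle⟩ := Ideal.exists_minimalPrimes_le (bot_le : ⊥ ≤ Q.asIdeal)
    haveI := hp.1.1
    have hpU : (⟨p, inferInstance⟩ : PrimeSpectrum A) ∈ U := by
      by_contra hpU
      obtain ⟨P, hP, hJP⟩ := exists_minimalPrime_ge T hT p hp J fun g hg d => by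
        by_contra hd
        exact hpU (by simp only [U, TopologicalSpace.Opens.mem_iSup]; exact ⟨g, hg, d, hd⟩)
      exact hmin P hP hJP
    exact ((PrimeSpectrum.le_iff_specializes ⟨p, inferInstance⟩ Q).mp hle).mem_closed
      isClosed_closure (subset_closure hpU)
  · intro kb Ω _ _ _ _ _ _ _ _ _ x ψ hψl hψr hx
    simp only [U, TopologicalSpace.Opens.mem_iSup] at hx
    obtain ⟨g, hg, d, hd⟩ := hx
    by_contra hnot
    have hker : PrimeSpectrum.comap ψ ⊥ ∈ PrimeSpectrum.zeroLocus (J : Set (A ⊗[k] K)) := by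
      rw [← hJ]; exact hnot
    have h0 : ψ (e g) = 0 := hker hg
    have hTΩ : AlgebraicIndependent kb fun i => algebraMap K Ω (T i) :=
      (hT.1.map' (f := IsScalarTower.toAlgHom k K Ω) (algebraMap K Ω).injective).extendScalars kb
    have hall : ∀ g, ψ (e g) = MvPolynomial.aeval (fun i => algebraMap K Ω (T i))
        (MvPolynomial.map x.toRingHom g) := by
      intro g
      induction g using MvPolynomial.induction_on with
      | C a => simp [e, hψl]
      | add a b ha hb => simp only [map_add, ha, hb]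
      | mul_X a i ha => simp only [map_mul, ha]; simp [e, hψr]
    have he := hall g
    rw [h0] at he
    have := hTΩ (he.symm.trans (map_zero _).symm)
    have h1 := congrArg (MvPolynomial.coeff d) this
    rw [MvPolynomial.coeff_map, MvPolynomial.coeff_zero] at h1
    exact hd h1

/-- The statement on one affine chart. -/
theorem chart {k K A : Type u} [Field k] [Field K] [Algebra k K] [CommRing A] [Algebra k A]
    [Algebra.FiniteType k A] (X : Scheme.{u}) (f : X ⟶ Spec (CommRingCat.of k))
    (j : Spec (CommRingCat.of A) ⟶ X) [IsOpenImmersion j]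
    (hj : j ≫ f = Spec.map (CommRingCat.ofHom (algebraMap k A)))
    (U' : (pullback f (Spec.map (CommRingCat.ofHom (algebraMap k K)))).Opens)
    (hU' : Dense (U' : Set ↥(pullback f (Spec.map (CommRingCat.ofHom (algebraMap k K)))))) :
    ∃ U : (Spec (CommRingCat.of A)).Opens, Dense (U : Set ↥(Spec (CommRingCat.of A))) ∧
      ∀ (kb Ω : Type u) [Field kb] [Algebra k kb] [IsAlgClosure k kb]
        [Field Ω] [Algebra k Ω] [Algebra kb Ω] [Algebra K Ω] [IsScalarTower k kb Ω]
        [IsScalarTower k K Ω] (x : Spec (CommRingCat.of kb) ⟶ X),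
        x ≫ f = Spec.map (CommRingCat.ofHom (algebraMap k kb)) →
        (∀ t : ↥(Spec (CommRingCat.of kb)), x.base t ∈ j ''ᵁ U) →
        ∀ (y : Spec (CommRingCat.of Ω) ⟶ pullback f (Spec.map (CommRingCat.ofHom (algebraMap k K)))),
          y ≫ pullback.fst f (Spec.map (CommRingCat.ofHom (algebraMap k K))) =
              Spec.map (CommRingCat.ofHom (algebraMap kb Ω)) ≫ x →
          y ≫ pullback.snd f (Spec.map (CommRingCat.ofHom (algebraMap k K))) =
              Spec.map (CommRingCat.ofHom (algebraMap K Ω)) →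
          ∀ t : ↥(Spec (CommRingCat.of Ω)), y.base t ∈ U' := by
  let g := Spec.map (CommRingCat.ofHom (algebraMap k K))
  let h : pullback (Spec.map (CommRingCat.ofHom (algebraMap k A))) g ⟶ pullback f g :=
    pullback.map _ _ _ _ j (𝟙 _) (𝟙 _) (by rw [Category.comp_id, hj]) (by simp)
  let m := (pullbackSpecIso k A K).inv ≫ h
  haveI : IsOpenImmersion h := inferInstance
  haveI : IsOpenImmersion m := inferInstance
  obtain ⟨U, hUd, hU⟩ := affine_case (k := k) (A := A) (K := K) (m ⁻¹ᵁ U')
    (hU'.preimage m.isOpenEmbedding.isOpenMap)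
  refine ⟨U, hUd, ?_⟩
  intro kb Ω _ _ _ _ _ _ _ _ _ x hxf hx y hy1 hy2 t
  have hxr : Set.range x.base ⊆ Set.range j.base := by
    rintro _ ⟨s, rfl⟩
    obtain ⟨q, _, hq⟩ := hx s
    exact ⟨q, hq⟩
  obtain ⟨φ, hφ⟩ := Spec.map_surjective (IsOpenImmersion.lift j x hxr)
  have hφx : Spec.map φ ≫ j = x := by rw [hφ, IsOpenImmersion.lift_fac]
  have hcomm : CommRingCat.ofHom (algebraMap k A) ≫ φ = CommRingCat.ofHom (algebraMap k kb) := by
    apply Spec.map_injective
    rw [Spec.map_comp, ← hj, ← Category.assoc, hφx, hxf]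
  let xa : A →ₐ[k] kb := ⟨φ.hom, fun c => congrArg (fun e => e.hom c) hcomm⟩
  let ψ : A ⊗[k] K →ₐ[k] Ω := Algebra.TensorProduct.lift
    ((IsScalarTower.toAlgHom k kb Ω).comp xa) (IsScalarTower.toAlgHom k K Ω)
    (fun _ _ => Commute.all _ _)
  have hy : y = Spec.map (CommRingCat.ofHom ψ.toRingHom) ≫ m := by
    apply pullback.hom_ext
    · rw [hy1, ← hφx]
      simp only [m, h, g, Category.assoc, pullback.map, pullback.lift_fst, pullback.lift_fst_assoc,
        pullbackSpecIso_inv_fst_assoc]
      rw [← Category.assoc, ← Category.assoc, ← Spec.map_comp, ← Spec.map_comp]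
      congr 2
      ext a
      simp [ψ, xa]
    · rw [hy2]
      simp only [m, h, g, Category.assoc, pullback.map, pullback.lift_snd,
        Category.comp_id, pullbackSpecIso_inv_snd]
      rw [← Spec.map_comp]
      congr 1
      ext c
      simp [ψ]
  have ht : t = (⊥ : PrimeSpectrum Ω) := Subsingleton.elim _ _
  rw [hy, Scheme.Hom.comp_apply, ht]
  refine hU kb Ω xa ψ.toRingHom (fun a => by simp [ψ]) (fun c => by simp [ψ]) ?_
  have h2 := hx (⊥ : PrimeSpectrum kb)
  rw [← hφx] at h2
  obtain ⟨q, hq, hqe⟩ := h2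
  rw [show (Spec.map φ ≫ j).base (⊥ : PrimeSpectrum kb) = j.base ((Spec.map φ).base (⊥ : PrimeSpectrum kb)) from Scheme.Hom.comp_apply _ _ _] at hqe
  rw [j.isOpenEmbedding.injective hqe] at hq
  exact hq

open AlgebraicGeometry in
/-- Let k be a field, X a k-scheme of finite type, K an extension field of k and U' ⊆ X_K = X ×_k Spec K
a dense open subset. There exists a dense open U ⊆ X with the following property: for every
algebraic closure k̄ of k, every field Ω that is simultaneously a k̄-algebra and a K-algebra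
compatibly with k, and every k-morphism x : Spec k̄ → X whose image point lies in U, every
K-morphism y : Spec Ω → X_K whose composite with the projection X_K → X is the composite Spec Ω →
Spec k̄ → X has image point in U'. (In words: the k̄-points of U, viewed as Ω-points of X_K, lie in
U'.) -/
theorem result
    {k K : Type u} [Field k] [Field K] [Algebra k K]
    (X : Scheme.{u}) (f : X ⟶ Spec (CommRingCat.of k)) [LocallyOfFiniteType f] [QuasiCompact f]
    (U' : (pullback f (Spec.map (CommRingCat.ofHom (algebraMap k K)))).Opens)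
    (hU' : Dense (U' : Set ↥(pullback f (Spec.map (CommRingCat.ofHom (algebraMap k K)))))) :
    ∃ U : X.Opens, Dense (U : Set ↥X) ∧
      ∀ (kb Ω : Type u) [Field kb] [Algebra k kb] [IsAlgClosure k kb]
        [Field Ω] [Algebra k Ω] [Algebra kb Ω] [Algebra K Ω] [IsScalarTower k kb Ω] [IsScalarTower k K Ω]
        (x : Spec (CommRingCat.of kb) ⟶ X),
        x ≫ f = Spec.map (CommRingCat.ofHom (algebraMap k kb)) →
        (∀ t : ↥(Spec (CommRingCat.of kb)), x.base t ∈ U) →
        ∀ (y : Spec (CommRingCat.of Ω) ⟶ pullback f (Spec.map (CommRingCat.ofHom (algebraMap k K)))),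
          y ≫ pullback.fst f (Spec.map (CommRingCat.ofHom (algebraMap k K))) =
              Spec.map (CommRingCat.ofHom (algebraMap kb Ω)) ≫ x →
          y ≫ pullback.snd f (Spec.map (CommRingCat.ofHom (algebraMap k K))) =
              Spec.map (CommRingCat.ofHom (algebraMap K Ω)) →
          ∀ t : ↥(Spec (CommRingCat.of Ω)), y.base t ∈ U' := by
  have aux : ∀ V : X.affineOpens, ∃ U : X.Opens, (U ≤ V.1 ∧ (V.1 : Set X) ⊆ closure U) ∧
      ∀ (kb Ω : Type u) [Field kb] [Algebra k kb] [IsAlgClosure k kb]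
        [Field Ω] [Algebra k Ω] [Algebra kb Ω] [Algebra K Ω] [IsScalarTower k kb Ω]
        [IsScalarTower k K Ω] (x : Spec (CommRingCat.of kb) ⟶ X),
        x ≫ f = Spec.map (CommRingCat.ofHom (algebraMap k kb)) →
        (∀ t : ↥(Spec (CommRingCat.of kb)), x.base t ∈ U) →
        ∀ (y : Spec (CommRingCat.of Ω) ⟶ pullback f (Spec.map (CommRingCat.ofHom (algebraMap k K)))),
          y ≫ pullback.fst f (Spec.map (CommRingCat.ofHom (algebraMap k K))) =
              Spec.map (CommRingCat.ofHom (algebraMap kb Ω)) ≫ x →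
          y ≫ pullback.snd f (Spec.map (CommRingCat.ofHom (algebraMap k K))) =
              Spec.map (CommRingCat.ofHom (algebraMap K Ω)) →
          ∀ t : ↥(Spec (CommRingCat.of Ω)), y.base t ∈ U' := by
    intro V
    haveI := V.2.isOpenImmersion_fromSpec
    obtain ⟨φ, hφ⟩ := Spec.map_surjective (V.2.fromSpec ≫ f)
    letI : Algebra k Γ(X, V.1) := φ.hom.toAlgebra
    haveI : Algebra.FiniteType k Γ(X, V.1) := by
      have h : LocallyOfFiniteType (Spec.map φ) := by rw [hφ]; infer_instance
      exact (HasRingHomProperty.Spec_iff (P := @LocallyOfFiniteType)).mp h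
    obtain ⟨U, hUd, hU⟩ := chart (A := Γ(X, V.1)) X f V.2.fromSpec hφ.symm U' hU'
    refine ⟨V.2.fromSpec ''ᵁ U, ⟨?_, ?_⟩, hU⟩
    · rintro _ ⟨q, _, rfl⟩
      exact V.2.range_fromSpec.subset ⟨q, rfl⟩
    · rw [← V.2.range_fromSpec]
      rintro _ ⟨q, rfl⟩
      exact map_mem_closure V.2.fromSpec.continuous (hUd q) fun a ha => ⟨a, ha, rfl⟩
  choose U hU hmem using aux
  refine ⟨⨆ V, U V, fun p => ?_, ?_⟩
  · obtain ⟨_, ⟨V, hV, rfl⟩, hp, -⟩ :=
      X.isBasis_affineOpens.exists_subset_of_mem_open (Set.mem_univ p) isOpen_univ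
    exact closure_mono (le_iSup U ⟨V, hV⟩ : U ⟨V, hV⟩ ≤ ⨆ V, U V) ((hU ⟨V, hV⟩).2 hp)
  · intro kb Ω _ _ _ _ _ _ _ _ _ x hxf hx y hy1 hy2 t
    obtain ⟨V, hV⟩ := TopologicalSpace.Opens.mem_iSup.mp (hx (⊥ : PrimeSpectrum kb))
    exact hmem V kb Ω x hxf (fun s => by rw [Subsingleton.elim s (⊥ : PrimeSpectrum kb)]; exact hV)
      y hy1 hy2 t

end Groth.Agent.S16363
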