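import Groth.Statements.S16365
import Groth.Agent.Mov16366.Alg
import Groth.Agent.MovSm.GenericForm
import Mathlib.AlgebraicGeometry.Noetherian
import Mathlib.Algebra.Polynomial.Laurent

set_option autoImplicit false
universe u
open CategoryTheory Limits
open MovLem

namespace Groth.Agent.S16365

open TensorProduct

open AlgebraicGeometry in
theorem mem_basicOpen_iff {X : Scheme.{u}} {V : X.Opens} (hV : IsAffineOpen V) (a : Γ(X, V)) (y : X)
    (hy : y ∈ V) : y ∈ X.basicOpen a ↔ a ∉ (hV.primeIdealOf ⟨y, hy⟩).asIdeal := by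
  conv_lhs => rw [show y = hV.fromSpec (hV.primeIdealOf ⟨y, hy⟩) from
    (hV.fromSpec_primeIdealOf ⟨y, hy⟩).symm]
  show hV.primeIdealOf ⟨y, hy⟩ ∈ hV.fromSpec ⁻¹ᵁ X.basicOpen a ↔ _
  rw [hV.fromSpec_preimage_basicOpen]
  exact Iff.rfl

/-- Differentials of generators of `A` span those of a localization. -/
theorem span_kaehler_localization {k A S : Type u} [Field k] [CommRing A] [Algebra k A] [CommRing S]
    [Algebra k S] [Algebra A S] [IsScalarTower k A S] (g : A) [IsLocalization.Away g S]
    {N : ℕ} (π : MvPolynomial (Fin N) k →ₐ[k] A) (hπ : Function.Surjective π) :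
    Submodule.span S (Set.range fun i => KaehlerDifferential.D k S
      (algebraMap A S (π (MvPolynomial.X i)))) = ⊤ := by
  set M := Submodule.span S (Set.range fun i => KaehlerDifferential.D k S
    (algebraMap A S (π (MvPolynomial.X i))))
  have hA : ∀ a : A, KaehlerDifferential.D k S (algebraMap A S a) ∈ M := by
    intro a
    obtain ⟨r, rfl⟩ := hπ a
    induction r using MvPolynomial.induction_on with
    | C c =>
      rw [← MvPolynomial.algebraMap_eq, π.commutes, ← IsScalarTower.algebraMap_apply,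
        Derivation.map_algebraMap]
      exact M.zero_mem
    | add p q hp hq => rw [map_add, map_add, map_add]; exact M.add_mem hp hq
    | mul_X p i hp =>
      rw [map_mul, map_mul, Derivation.leibniz]
      exact M.add_mem (M.smul_mem _ (Submodule.subset_span ⟨i, rfl⟩)) (M.smul_mem _ hp)
  rw [eq_top_iff, ← KaehlerDifferential.span_range_derivation, Submodule.span_le]
  rintro _ ⟨z, rfl⟩
  obtain ⟨⟨a, v⟩, hz⟩ := IsLocalization.surj (Submonoid.powers g) z
  obtain ⟨w, hw⟩ := (IsLocalization.map_units S v)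
  have h := congrArg (KaehlerDifferential.D k S) hz
  rw [Derivation.leibniz] at h
  have h2 : (algebraMap A S (v : A)) • KaehlerDifferential.D k S z ∈ M := by
    rw [eq_sub_of_add_eq' h]
    exact M.sub_mem (hA _) (M.smul_mem _ (hA _))
  rw [← hw] at h2
  have h3 := M.smul_mem (↑w⁻¹ : S) h2
  rwa [smul_smul, Units.inv_mul, one_smul] at h3

/-- Nonvanishing of a differential at a prime, in the localization. -/
theorem D_localization_ne_zero {k S : Type u} [Field k] [CommRing S] [Algebra k S] (q : Ideal S)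
    [q.IsPrime] (t : S) (h : (1 : q.ResidueField) ⊗ₜ[S] KaehlerDifferential.D k S t ≠ 0) :
    (1 : IsLocalRing.ResidueField (Localization.AtPrime q)) ⊗ₜ[Localization.AtPrime q]
      KaehlerDifferential.D k (Localization.AtPrime q) (algebraMap S (Localization.AtPrime q) t) ≠ 0 := by
  intro h0
  apply h
  haveI : Algebra.FormallyEtale S (Localization.AtPrime q) :=
    Algebra.FormallyEtale.of_isLocalization q.primeCompl
  let e := (KaehlerDifferential.tensorKaehlerEquivOfFormallyEtale k S (Localization.AtPrime q)).symm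
  have h1 := congrArg (LinearMap.lTensor (IsLocalRing.ResidueField (Localization.AtPrime q))
    e.toLinearMap) h0
  rw [LinearMap.lTensor_tmul, map_zero] at h1
  simp only [LinearEquiv.coe_coe, e] at h1
  rw [KaehlerDifferential.tensorKaehlerEquivOfFormallyEtale_symm_D_algebraMap] at h1
  have h2 := congrArg (TensorProduct.AlgebraTensorModule.cancelBaseChange S (Localization.AtPrime q)
    (Localization.AtPrime q) (IsLocalRing.ResidueField (Localization.AtPrime q)) Ω[S⁄k]) h1
  rw [TensorProduct.AlgebraTensorModule.cancelBaseChange_tmul, map_zero, one_smul] at h2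
  exact h2

/-- A closed point with no differentials in a finitely generated algebra is isolated. -/
theorem isOpen_singleton_of_subsingleton {k S : Type u} [Field k] [CommRing S] [Algebra k S]
    [Algebra.FiniteType k S] (q : PrimeSpectrum S) [hm : q.asIdeal.IsMaximal]
    (h : Subsingleton (q.asIdeal.ResidueField ⊗[S] Ω[S⁄k])) : IsOpen ({q} : Set (PrimeSpectrum S)) := by
  haveI : IsNoetherianRing S := Algebra.FiniteType.isNoetherianRing k S
  have hmin : ∀ p : Ideal S, p.IsPrime → p ≤ q.asIdeal → p.IsMaximal := by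
    intro p hp hle
    obtain ⟨t, ht⟩ := Omega.RankDim.exists_trdeg_eq k p
    have h1 := Omega.RankDim.trdeg_le_rank k p t ht
    have h2 := Omega.RankDim.finrank_fibre_mono Ω[S⁄k] hle
    have h3 : Omega.RankDim.rank k q.asIdeal = 0 := Module.finrank_zero_of_subsingleton
    have ht0 : t = 0 := by
      unfold Omega.RankDim.rank at h1 h3
      omega
    subst ht0
    have hd := TrdegDim.ringKrullDim_quotient_eq p 0 ht
    haveI : Ring.KrullDimLE 0 (S ⧸ p) := by
      rw [Ring.krullDimLE_iff, hd]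
    exact Ideal.Quotient.maximal_of_isField _ Ring.KrullDimLE.isField_of_isDomain
  have hset : ({q} : Set (PrimeSpectrum S))ᶜ =
      ⋃ p ∈ minimalPrimes S \ {q.asIdeal}, PrimeSpectrum.zeroLocus (p : Set S) := by
    ext r
    simp only [Set.mem_compl_iff, Set.mem_singleton_iff, Set.mem_iUnion, PrimeSpectrum.mem_zeroLocus,
      SetLike.coe_subset_coe, exists_prop, Set.mem_sdiff]
    constructor
    · intro hr
      obtain ⟨p, hp, hple⟩ := Ideal.exists_minimalPrimes_le (bot_le : ⊥ ≤ r.asIdeal)
      refine ⟨p, ⟨hp, fun hpq => hr (PrimeSpectrum.ext ?_)⟩, hple⟩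
      subst hpq
      exact (hm.eq_of_le r.isPrime.ne_top hple).symm
    · rintro ⟨p, ⟨hp, hpq⟩, hple⟩ rfl
      exact hpq ((hmin p hp.1.1 hple).eq_of_le hm.ne_top hple)
  rw [← isClosed_compl_iff, hset]
  exact Set.Finite.isClosed_biUnion ((minimalPrimes.finite_of_isNoetherianRing S).sdiff)
    fun p _ => PrimeSpectrum.isClosed_zeroLocus _

set_option maxHeartbeats 3000000 in
open AlgebraicGeometry in
/-- Let k be an infinite field, X a scheme of finite type over k, U an open subscheme of X which is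
smooth over k, and x a point of X. Assume that if x lies in U then x is not an isolated point of X.
Then there exist an open neighbourhood V of x in X and a k-morphism v from V to the multiplicative
group Spec k[T, T⁻¹] whose restriction to V ∩ U is a smooth morphism. (The published statement has
no hypothesis on x; when x is an isolated point of X lying in U the conclusion fails, since a
zero-dimensional scheme admits no smooth morphism to a curve, and in every other case an isolated
point can be discarded, so that case is excluded here.) -/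
theorem result
    {k : Type u} [Field k] [Infinite k]
    (X : Scheme.{u}) (f : X ⟶ Spec (CommRingCat.of k)) [LocallyOfFiniteType f] [QuasiCompact f]
    (U : X.Opens) [Smooth (U.ι ≫ f)] (x : ↥X) (hx : x ∈ U → ¬ IsOpen ({x} : Set ↥X)) :
    ∃ (V : X.Opens) (v : (↑V : Scheme.{u}) ⟶ Spec (CommRingCat.of (LaurentPolynomial k))),
      x ∈ V ∧
      v ≫ Spec.map (CommRingCat.ofHom (algebraMap k (LaurentPolynomial k))) = V.ι ≫ f ∧
      Smooth (X.homOfLE (inf_le_left : V ⊓ U ≤ V) ≫ v) := by
  classical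
  haveI : IsLocallyNoetherian X := LocallyOfFiniteType.isLocallyNoetherian f
  haveI : CompactSpace X := QuasiCompact.compactSpace_of_compactSpace f
  haveI : IsNoetherian X := ⟨⟩
  obtain ⟨V, hV, hxV, -⟩ := exists_isAffineOpen_mem_and_subset (X := X) (x := x) (U := ⊤) trivial
  let α : CommRingCat.of k ⟶ Γ(X, V) := Spec.preimage (hV.fromSpec ≫ f)
  have hα : Spec.map α = hV.fromSpec ≫ f := Spec.map_preimage _
  letI : Algebra k Γ(X, V) := α.hom.toAlgebra
  haveI : Algebra.FiniteType k Γ(X, V) := by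
    have h : LocallyOfFiniteType (Spec.map α) := by rw [hα]; infer_instance
    exact (HasRingHomProperty.Spec_iff (P := @LocallyOfFiniteType)).1 h
  have hres : ∀ (W : X.Opens) (hW : IsAffineOpen W) (h : W ≤ V),
      Spec.map (α ≫ X.presheaf.map (homOfLE h).op) = hW.fromSpec ≫ f := fun W hW h => by
    rw [Spec.map_comp, hα, hV.map_fromSpec_assoc hW]
  obtain ⟨N, π, hπ⟩ := (Algebra.FiniteType.iff_quotient_mvPolynomial'' (R := k) (S := Γ(X, V))).1 inferInstance
  let y : Fin N → Γ(X, V) := fun i => π (MvPolynomial.X i)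
  -- cover of `V ⊓ U` by basic opens
  have hcov : ∀ z : (V ⊓ U : X.Opens), ∃ g : Γ(X, V), X.basicOpen g ≤ U ∧ (z : X) ∈ X.basicOpen g := by
    rintro ⟨z, hzV, hzU⟩
    obtain ⟨g, hg, hzg⟩ := hV.exists_basicOpen_le ⟨z, hzU⟩ hzV
    exact ⟨g, hg, hzg⟩
  choose gz hgzU hgz using hcov
  obtain ⟨G, hG⟩ := (TopologicalSpace.NoetherianSpace.isCompact ((V ⊓ U : X.Opens) : Set X)).elim_finite_subcover
    (fun z : (V ⊓ U : X.Opens) => (X.basicOpen (gz z) : Set X)) (fun z => (X.basicOpen (gz z)).2)
    (fun z hz => Set.mem_iUnion.2 ⟨⟨z, hz⟩, hgz ⟨z, hz⟩⟩)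
  letI algS : ∀ z, Algebra k Γ(X, X.basicOpen (gz z)) := fun z =>
    ((algebraMap Γ(X, V) Γ(X, X.basicOpen (gz z))).comp α.hom).toAlgebra
  haveI towS : ∀ z, IsScalarTower k Γ(X, V) Γ(X, X.basicOpen (gz z)) := fun z =>
    IsScalarTower.of_algebraMap_eq fun _ => rfl
  haveI locS : ∀ z, IsLocalization.Away (gz z) Γ(X, X.basicOpen (gz z)) := fun z =>
    hV.isLocalization_basicOpen (gz z)
  haveI smS : ∀ z, Algebra.Smooth k Γ(X, X.basicOpen (gz z)) := fun z => by
    have hW := hV.basicOpen (gz z)
    have h : Smooth (Spec.map (α ≫ X.presheaf.map (homOfLE (X.basicOpen_le (gz z))).op)) := by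
      rw [hres _ hW, ← hW.isoSpec_inv_ι, Category.assoc, ← X.homOfLE_ι (hgzU z), Category.assoc]
      infer_instance
    exact RingHom.smooth_algebraMap.1 ((HasRingHomProperty.Spec_iff (P := @Smooth)).1 h)
  haveI : ∀ z, Algebra.FiniteType k Γ(X, X.basicOpen (gz z)) := fun z => inferInstance
  let ys : ∀ z, Fin N → Γ(X, X.basicOpen (gz z)) := fun z i => algebraMap _ _ (y i)
  let bad : ∀ z, (Fin N → k) → Set (PrimeSpectrum Γ(X, X.basicOpen (gz z))) := fun z c =>
    {q | (1 : q.asIdeal.ResidueField) ⊗ₜ[Γ(X, X.basicOpen (gz z))]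
      KaehlerDifferential.D k Γ(X, X.basicOpen (gz z)) (∑ i, c i • ys z i) = 0}
  have hfin : ∀ z, ∃ h : MvPolynomial (Fin N) k, h ≠ 0 ∧ ∀ c, MvPolynomial.eval c h ≠ 0 →
      (bad z c).Finite ∧ ∀ q ∈ bad z c, q.asIdeal.IsMaximal := fun z =>
    MovSm.exists_finite_zero_locus (ys z) (span_kaehler_localization (gz z) π hπ)
  choose hpoly hpoly0 hpolyP using hfin
  -- at `x` itself
  have hxpoly : ∀ z, ∃ h : MvPolynomial (Fin N) k, h ≠ 0 ∧ ∀ c, MvPolynomial.eval c h ≠ 0 →
      ∀ (hxz : x ∈ X.basicOpen (gz z)), ((hV.basicOpen (gz z)).primeIdealOf ⟨x, hxz⟩) ∉ bad z c := by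
    intro z
    by_cases hxz : x ∈ X.basicOpen (gz z)
    · let q := (hV.basicOpen (gz z)).primeIdealOf ⟨x, hxz⟩
      let b : Fin N → q.asIdeal.ResidueField ⊗[Γ(X, X.basicOpen (gz z))] Ω[Γ(X, X.basicOpen (gz z))⁄k] :=
        fun i => 1 ⊗ₜ KaehlerDifferential.D k _ (ys z i)
      by_cases hb : ∃ i, b i ≠ 0
      · obtain ⟨i₀, hi₀⟩ := hb
        obtain ⟨l, hl⟩ : ∃ l : Module.Dual k (q.asIdeal.ResidueField ⊗[Γ(X, X.basicOpen (gz z))]
            Ω[Γ(X, X.basicOpen (gz z))⁄k]), l (b i₀) ≠ 0 := by
          by_contra hl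
          push Not at hl
          exact hi₀ ((Module.forall_dual_apply_eq_zero_iff k _).1 hl)
        refine ⟨∑ i, MvPolynomial.C (l (b i)) * MvPolynomial.X i, fun h0 => hl ?_, fun c hc hxz hmem => hc ?_⟩
        · have := congrArg (MvPolynomial.eval (Pi.single i₀ (1 : k))) h0
          rw [map_zero, map_sum, Finset.sum_eq_single i₀
            (fun j _ hj => by simp [Pi.single_eq_of_ne hj])
            (fun h => absurd (Finset.mem_univ _) h)] at this
          simpa using this
        · have h1 : ∑ i, c i • b i = 0 := by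
            refine Eq.trans ?_ hmem
            simp only [map_sum, Derivation.map_smul, TensorProduct.tmul_sum, TensorProduct.tmul_smul]
            rfl
          have h2 := congrArg l h1
          rw [map_sum, map_zero] at h2
          rw [map_sum, ← h2]
          simp [mul_comm]
      · push Not at hb
        exfalso
        have hall : ∀ c, q ∈ bad z c := fun c => by
          show _ = (0 : _)
          simp only [map_sum, Derivation.map_smul, TensorProduct.tmul_sum, TensorProduct.tmul_smul]
          exact Finset.sum_eq_zero fun i _ => by rw [show (1 : q.asIdeal.ResidueField) ⊗ₜ[Γ(X, X.basicOpen (gz z))] KaehlerDifferential.D k _ (ys z i) = 0 from hb i, smul_zero]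
        obtain ⟨c₁, hc₁⟩ : ∃ c, MvPolynomial.eval c (hpoly z) ≠ 0 := by
          by_contra hc
          push Not at hc
          exact hpoly0 z (MvPolynomial.funext fun c => (hc c).trans (map_zero _).symm)
        haveI := (hpolyP z c₁ hc₁).2 q (hall c₁)
        have hsub : Subsingleton (q.asIdeal.ResidueField ⊗[Γ(X, X.basicOpen (gz z))]
            Ω[Γ(X, X.basicOpen (gz z))⁄k]) := by
          refine subsingleton_of_forall_eq 0 fun v => ?_
          have htop : Submodule.span q.asIdeal.ResidueField (Set.range b) = ⊤ := by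
            rw [← Submodule.baseChange_top q.asIdeal.ResidueField (R := Γ(X, X.basicOpen (gz z)))
              (M := Ω[Γ(X, X.basicOpen (gz z))⁄k]), ← span_kaehler_localization (gz z) π hπ,
              Submodule.baseChange_span, ← Set.range_comp]
            rfl
          have hv : v ∈ Submodule.span q.asIdeal.ResidueField (Set.range b) := htop ▸ Submodule.mem_top
          refine (Submodule.mem_bot q.asIdeal.ResidueField).1 (?_ : v ∈ ⊥)
          refine (Submodule.span_le.2 ?_) hv
          rintro _ ⟨i, rfl⟩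
          exact hb i
        have ho := (hV.basicOpen (gz z)).fromSpec.isOpenEmbedding.isOpenMap _
          (isOpen_singleton_of_subsingleton q hsub)
        erw [Set.image_singleton, (hV.basicOpen (gz z)).fromSpec_primeIdealOf] at ho
        exact hx (hgzU z hxz) ho
    · exact ⟨1, one_ne_zero, fun c _ h => absurd h hxz⟩
  choose xpoly xpoly0 xpolyP using hxpoly
  obtain ⟨c, hc⟩ : ∃ c, MvPolynomial.eval c (∏ z ∈ G, hpoly z * xpoly z) ≠ 0 := by
    by_contra hc
    push Not at hc
    exact (Finset.prod_ne_zero_iff.2 fun z _ => mul_ne_zero (hpoly0 z) (xpoly0 z))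
      (MvPolynomial.funext fun c => (hc c).trans (map_zero _).symm)
  rw [map_prod, Finset.prod_ne_zero_iff] at hc
  have hc1 : ∀ z ∈ G, MvPolynomial.eval c (hpoly z) ≠ 0 := fun z hz h => hc z hz (by simp [h])
  have hc2 : ∀ z ∈ G, MvPolynomial.eval c (xpoly z) ≠ 0 := fun z hz h => hc z hz (by simp [h])
  let P := (hV.primeIdealOf ⟨x, hxV⟩).asIdeal
  have hPp : P.IsPrime := (hV.primeIdealOf ⟨x, hxV⟩).isPrime
  let t₀ : Γ(X, V) := ∑ i, c i • y i
  obtain ⟨a, hta⟩ : ∃ a : k, t₀ + algebraMap k Γ(X, V) a ∉ P := by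
    by_cases h : t₀ ∈ P
    · refine ⟨1, fun h' => hPp.ne_top ((Ideal.eq_top_iff_one P).2 ?_)⟩
      have := P.sub_mem h' h
      simpa using this
    · exact ⟨0, by simpa using h⟩
  set t := t₀ + algebraMap k Γ(X, V) a with ht
  -- an element vanishing at the bad points but not at `x`
  have hsep : ∀ (z : (V ⊓ U : X.Opens)) (q : PrimeSpectrum Γ(X, X.basicOpen (gz z))), z ∈ G → q ∈ bad z c →
      ∃ e : Γ(X, V), e ∉ P ∧ algebraMap Γ(X, V) Γ(X, X.basicOpen (gz z)) e ∈ q.asIdeal := by
    intro z q hz hq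
    haveI := (hpolyP z c (hc1 z hz)).2 q hq
    let p := q.asIdeal.comap (algebraMap Γ(X, V) Γ(X, X.basicOpen (gz z)))
    have hpmax : p.IsMaximal := by
      letI := Ideal.Quotient.field q.asIdeal
      haveI : Algebra.FiniteType k (Γ(X, X.basicOpen (gz z)) ⧸ q.asIdeal) :=
        Algebra.FiniteType.of_surjective (Ideal.Quotient.mkₐ k q.asIdeal) Ideal.Quotient.mk_surjective
      haveI : Module.Finite k (Γ(X, X.basicOpen (gz z)) ⧸ q.asIdeal) :=
        finite_of_finite_type_of_isJacobsonRing k _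
      let ψ : Γ(X, V) →ₐ[k] Γ(X, X.basicOpen (gz z)) ⧸ q.asIdeal :=
        (Ideal.Quotient.mkₐ k q.asIdeal).comp (IsScalarTower.toAlgHom k Γ(X, V) _)
      have hp : RingHom.ker ψ = p := by
        ext r
        exact Ideal.Quotient.eq_zero_iff_mem
      haveI := RingHom.ker_isPrime ψ
      haveI : Algebra.IsIntegral k (Γ(X, V) ⧸ RingHom.ker ψ) :=
        Algebra.IsIntegral.of_injective (Ideal.kerLiftAlg ψ) (Ideal.kerLiftAlg_injective ψ)
      exact hp ▸ Ideal.Quotient.maximal_of_isField _
        (isField_of_isIntegral_of_isField' (R := k) (S := Γ(X, V) ⧸ RingHom.ker ψ) (Field.toIsField k))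
    by_contra hne
    push Not at hne
    have hle : p ≤ P := fun e he => by
      by_contra h
      exact hne e h he
    have hpP : p = P := hpmax.eq_of_le hPp.ne_top hle
    have hxz : hV.fromSpec (PrimeSpectrum.comap (algebraMap Γ(X, V) Γ(X, X.basicOpen (gz z))) q) = x := by
      rw [show PrimeSpectrum.comap (algebraMap Γ(X, V) Γ(X, X.basicOpen (gz z))) q = hV.primeIdealOf ⟨x, hxV⟩
        from PrimeSpectrum.ext hpP]
      exact hV.fromSpec_primeIdealOf ⟨x, hxV⟩
    have hW := hV.basicOpen (gz z)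
    have hqx : hW.fromSpec q = x := by
      rw [← hxz, ← hV.map_fromSpec hW (homOfLE (X.basicOpen_le (gz z))).op]
      rfl
    have hmem : x ∈ X.basicOpen (gz z) := by
      have : hW.fromSpec q ∈ Set.range hW.fromSpec := ⟨q, rfl⟩
      rw [hW.range_fromSpec, hqx] at this
      exact this
    refine xpolyP z c (hc2 z hz) hmem ?_
    have : hW.primeIdealOf ⟨x, hmem⟩ = q := hW.fromSpec.isOpenEmbedding.injective
      ((hW.fromSpec_primeIdealOf ⟨x, hmem⟩).trans hqx.symm)
    rw [this]
    exact hq
  choose! ef hef1 hef2 using hsep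
  let e : Γ(X, V) := ∏ z ∈ G.attach, ∏ q ∈ (hpolyP z.1 c (hc1 z.1 z.2)).1.toFinset, ef z.1 q
  have he : e ∉ P := by
    intro h
    obtain ⟨z, hz, h'⟩ := (Ideal.IsPrime.prod_mem_iff.1 h)
    obtain ⟨q, hq, h''⟩ := (Ideal.IsPrime.prod_mem_iff.1 h')
    exact hef1 z.1 q z.2 ((Set.Finite.mem_toFinset _).1 hq) h''
  let V₁ := X.basicOpen (t * e)
  have hV₁ : IsAffineOpen V₁ := hV.basicOpen _
  have hV₁V : V₁ ≤ V := X.basicOpen_le _
  have hunit : IsUnit (X.presheaf.map (homOfLE hV₁V).op t) :=
    (IsUnit.mul_iff.1 (by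
      rw [← map_mul]; exact RingedSpace.isUnit_res_basicOpen _ (t * e))).1
  let φ : CommRingCat.of (LaurentPolynomial k) ⟶ Γ(X, V₁) := CommRingCat.ofHom
    (LaurentPolynomial.eval₂ (α ≫ X.presheaf.map (homOfLE hV₁V).op).hom hunit.unit)
  refine ⟨V₁, V₁.toSpecΓ ≫ Spec.map φ, ?_, ?_, ?_⟩
  · refine (mem_basicOpen_iff hV (t * e) x hxV).2 fun h => ?_
    exact (hPp.mem_or_mem h).elim hta he
  · have hφC : CommRingCat.ofHom (algebraMap k (LaurentPolynomial k)) ≫ φ =
        α ≫ X.presheaf.map (homOfLE hV₁V).op := CommRingCat.hom_ext (RingHom.ext fun r => by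
      show LaurentPolynomial.eval₂ _ _ (algebraMap k (LaurentPolynomial k) r) = _
      rw [LaurentPolynomial.algebraMap_apply, Algebra.algebraMap_self, RingHom.id_apply,
        LaurentPolynomial.eval₂_C])
    rw [Category.assoc, ← Spec.map_comp, hφC, hres V₁ hV₁, hV₁.toSpecΓ_fromSpec_assoc]
  · -- smoothness near every point of `V₁ ⊓ U`
    have hloc : ∀ w : (V₁ ⊓ U : X.Opens), ∃ (D : X.Opens) (hD : D ≤ V₁), (w : X) ∈ D ∧
        Smooth (X.homOfLE hD ≫ V₁.toSpecΓ ≫ Spec.map φ) := by
      rintro ⟨w, hwV₁, hwU⟩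
      obtain ⟨z, hzG, hwz⟩ : ∃ z ∈ G, w ∈ X.basicOpen (gz z) := by
        have := hG (show w ∈ ((V ⊓ U : X.Opens) : Set X) from ⟨hV₁V hwV₁, hwU⟩)
        simp only [Set.mem_iUnion] at this
        obtain ⟨z, hz, hw⟩ := this
        exact ⟨z, hz, hw⟩
      have hW₀ := hV.basicOpen (gz z)
      have hW₀V : X.basicOpen (gz z) ≤ V := X.basicOpen_le _
      let q := hW₀.primeIdealOf ⟨w, hwz⟩
      haveI : q.asIdeal.IsPrime := q.isPrime
      have hte : t * e ∉ (hV.primeIdealOf ⟨w, hV₁V hwV₁⟩).asIdeal :=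
        (mem_basicOpen_iff hV (t * e) w (hV₁V hwV₁)).1 hwV₁
      have hcomap : q.asIdeal.comap (algebraMap Γ(X, V) Γ(X, X.basicOpen (gz z))) =
          (hV.primeIdealOf ⟨w, hV₁V hwV₁⟩).asIdeal := by
        refine congrArg PrimeSpectrum.asIdeal (?_ : PrimeSpectrum.comap (algebraMap Γ(X, V)
          Γ(X, X.basicOpen (gz z))) q = hV.primeIdealOf ⟨w, hV₁V hwV₁⟩)
        apply hV.fromSpec.isOpenEmbedding.injective
        rw [hV.fromSpec_primeIdealOf]
        show (Spec.map (X.presheaf.map (homOfLE hW₀V).op) ≫ hV.fromSpec) _ = _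
        rw [hV.map_fromSpec hW₀, hW₀.fromSpec_primeIdealOf]
      have hnb : q ∉ bad z c := by
        intro hq
        apply hte
        rw [← hcomap, Ideal.mem_comap, map_mul]
        refine q.asIdeal.mul_mem_left _ ?_
        have h1 := hef2 z q hzG hq
        have hdvd : ef z q ∣ e :=
          (Finset.dvd_prod_of_mem (fun q => ef z q)
            ((Set.Finite.mem_toFinset (hs := (hpolyP z c (hc1 z hzG)).1)).2 hq)).trans
            (Finset.dvd_prod_of_mem (fun z : {z // z ∈ G} => ∏ q ∈ (hpolyP z.1 c (hc1 z.1 z.2)).1.toFinset, ef z.1 q)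
              (Finset.mem_attach G ⟨z, hzG⟩))
        obtain ⟨r, hr⟩ := hdvd
        rw [hr, map_mul]
        exact q.asIdeal.mul_mem_right _ h1
      have hDt : KaehlerDifferential.D k Γ(X, X.basicOpen (gz z)) (algebraMap _ _ t) =
          KaehlerDifferential.D k Γ(X, X.basicOpen (gz z)) (∑ i, c i • ys z i) := by
        simp only [ht, t₀, map_add, map_sum, ← IsScalarTower.algebraMap_apply,
          Derivation.map_algebraMap, add_zero, ys]
        refine Finset.sum_congr rfl fun i _ => ?_
        rw [Algebra.smul_def, map_mul, ← IsScalarTower.algebraMap_apply, ← Algebra.smul_def]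
      have hd := D_localization_ne_zero q.asIdeal (algebraMap Γ(X, V) Γ(X, X.basicOpen (gz z)) t) (by
        rw [hDt]; exact hnb)
      obtain ⟨s, hs, hsm⟩ := Groth.Agent.Mov16366.exists_smooth_eval (k := k) q.asIdeal
        (L := Localization.AtPrime q.asIdeal) (algebraMap Γ(X, V) Γ(X, X.basicOpen (gz z)) t) hd
      let D := X.basicOpen s
      have hD : IsAffineOpen D := hW₀.basicOpen s
      have hDV : D ≤ V := (X.basicOpen_le s).trans hW₀V
      haveI : IsLocalization.Away s Γ(X, D) := hW₀.isLocalization_basicOpen s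
      let ψ : CommRingCat.of (Polynomial k) ⟶ Γ(X, D) := CommRingCat.ofHom
        ((algebraMap Γ(X, X.basicOpen (gz z)) Γ(X, D)).comp
          (Polynomial.eval₂RingHom (algebraMap k Γ(X, X.basicOpen (gz z))) (algebraMap Γ(X, V) _ t)))
      have hψ : Smooth (Spec.map ψ) := by
        refine (HasRingHomProperty.Spec_iff (P := @Smooth)).2 ?_
        let e' := IsLocalization.algEquiv (Submonoid.powers s) (Localization.Away s) Γ(X, D)
        have hcomp := hsm.comp (RingHom.Smooth.of_bijective
          (f := (e'.toRingEquiv : Localization.Away s →+* Γ(X, D))) e'.bijective)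
        rw [← RingHom.comp_assoc, show (e'.toRingEquiv : Localization.Away s →+* Γ(X, D)).comp
          (algebraMap _ _) = algebraMap Γ(X, X.basicOpen (gz z)) Γ(X, D) from RingHom.ext e'.commutes] at hcomp
        exact hcomp
      refine ⟨D ⊓ V₁, inf_le_right, ⟨(mem_basicOpen_iff hW₀ s _ hwz).2 hs, hwV₁⟩, ?_⟩
      let lau : CommRingCat.of (Polynomial k) ⟶ CommRingCat.of (LaurentPolynomial k) :=
        CommRingCat.ofHom Polynomial.toLaurent
      have key : ψ ≫ X.presheaf.map (homOfLE (inf_le_left : D ⊓ V₁ ≤ D)).op =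
          lau ≫ φ ≫ X.presheaf.map (homOfLE (inf_le_right : D ⊓ V₁ ≤ V₁)).op := by
        have hr : ∀ (W W' : X.Opens) (h₁ : W ≤ V) (h₂ : W' ≤ W) (a : Γ(X, V)),
            X.presheaf.map (homOfLE h₂).op (X.presheaf.map (homOfLE h₁).op a) =
              X.presheaf.map (homOfLE (h₂.trans h₁)).op a := fun W W' h₁ h₂ a => by
          rw [← CommRingCat.comp_apply, ← X.presheaf.map_comp]; rfl
        have hr' : ∀ a : Γ(X, V), algebraMap Γ(X, X.basicOpen (gz z)) Γ(X, D) (algebraMap Γ(X, V) _ a) =
            X.presheaf.map (homOfLE hDV).op a := fun a => hr _ D hW₀V (X.basicOpen_le s) a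
        refine CommRingCat.hom_ext (Polynomial.ringHom_ext (fun r => ?_) ?_)
        · simp only [ψ, φ, lau, CommRingCat.hom_comp, CommRingCat.hom_ofHom, RingHom.comp_apply,
            Polynomial.coe_eval₂RingHom, Polynomial.eval₂_C, Polynomial.toLaurent_C,
            LaurentPolynomial.eval₂_C]
          rw [show algebraMap k Γ(X, X.basicOpen (gz z)) r = algebraMap Γ(X, V) _ (α.hom r) from rfl,
            hr', hr, hr]
        · simp only [ψ, φ, lau, CommRingCat.hom_comp, CommRingCat.hom_ofHom, RingHom.comp_apply,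
            Polynomial.coe_eval₂RingHom, Polynomial.eval₂_X, LaurentPolynomial.eval₂_toLaurent,
            IsUnit.unit_spec]
          rw [hr', hr, hr]
      haveI : IsLocalization.Away (Polynomial.X : Polynomial k) (LaurentPolynomial k) :=
        LaurentPolynomial.isLocalization
      haveI hj : IsOpenImmersion (Spec.map lau) := by
        have h0 : lau = CommRingCat.ofHom (algebraMap (Polynomial k) (LaurentPolynomial k)) :=
          congrArg CommRingCat.ofHom (RingHom.ext fun p => (LaurentPolynomial.algebraMap_eq_toLaurent p).symm)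
        rw [h0]
        exact IsOpenImmersion.of_isLocalization (Polynomial.X : Polynomial k)
      have hsmc : Smooth ((X.homOfLE (inf_le_right : D ⊓ V₁ ≤ V₁) ≫ V₁.toSpecΓ ≫ Spec.map φ) ≫ Spec.map lau) := by
        simp only [Category.assoc]
        rw [← Spec.map_comp, ← Scheme.Opens.toSpecΓ_SpecMap_presheaf_map_assoc, ← Spec.map_comp,
          Category.assoc, ← key, Spec.map_comp, Scheme.Opens.toSpecΓ_SpecMap_presheaf_map_assoc]
        haveI := hψ
        haveI : IsIso D.toSpecΓ := inferInstanceAs (IsIso hD.isoSpec.hom)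
        infer_instance
      exact MorphismProperty.of_isPullback (P := @Smooth)
        (IsPullback.of_horiz_isIso_mono ⟨by rw [Category.id_comp]⟩ : IsPullback (𝟙 _)
          (X.homOfLE (inf_le_right : D ⊓ V₁ ≤ V₁) ≫ V₁.toSpecΓ ≫ Spec.map φ)
          ((X.homOfLE (inf_le_right : D ⊓ V₁ ≤ V₁) ≫ V₁.toSpecΓ ≫ Spec.map φ) ≫ Spec.map lau)
          (Spec.map lau)) hsmc
    choose D hDle hwD hDsm using hloc
    let Dw : (V₁ ⊓ U : X.Opens) → (V₁ ⊓ U : X.Opens).toScheme.Opens := fun w =>
      (V₁ ⊓ U : X.Opens).ι ⁻¹ᵁ D w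
    refine (IsZariskiLocalAtSource.iff_of_iSup_eq_top (P := @Smooth.{u}) Dw (eq_top_iff.2 fun w _ => ?_)).2 fun w => ?_
    · exact TopologicalSpace.Opens.mem_iSup.2 ⟨w, hwD w⟩
    · let j : (Dw w).toScheme ⟶ (D w).toScheme :=
        IsOpenImmersion.lift (D w).ι ((Dw w).ι ≫ (V₁ ⊓ U : X.Opens).ι) (by
          rintro _ ⟨p, rfl⟩
          rw [Scheme.Opens.range_ι]
          exact p.2)
      have hj : j ≫ (D w).ι = (Dw w).ι ≫ (V₁ ⊓ U : X.Opens).ι := IsOpenImmersion.lift_fac _ _ _
      haveI : IsOpenImmersion j := by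
        haveI : IsOpenImmersion (j ≫ (D w).ι) := by rw [hj]; infer_instance
        exact IsOpenImmersion.of_comp j (D w).ι
      have heq : (Dw w).ι ≫ X.homOfLE (inf_le_left : V₁ ⊓ U ≤ V₁) = j ≫ X.homOfLE (hDle w) := by
        rw [← cancel_mono V₁.ι]
        simp [hj]
      rw [reassoc_of% heq]
      haveI := hDsm w
      infer_instance

end Groth.Agent.S16365
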