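import Groth.Statements.S16366
import Groth.Agent.Mov16366.Alg

set_option autoImplicit false
universe u
open CategoryTheory Limits Opposite
open MovLem

namespace Groth.Agent.S16366

open AlgebraicGeometry in
theorem mem_basicOpen_iff {X : Scheme.{u}} {V : X.Opens} (hV : IsAffineOpen V) (a : Γ(X, V)) (y : X)
    (hy : y ∈ V) : y ∈ X.basicOpen a ↔ a ∉ (hV.primeIdealOf ⟨y, hy⟩).asIdeal := by
  conv_lhs => rw [show y = hV.fromSpec (hV.primeIdealOf ⟨y, hy⟩) from
    (hV.fromSpec_primeIdealOf ⟨y, hy⟩).symm]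
  show hV.primeIdealOf ⟨y, hy⟩ ∈ hV.fromSpec ⁻¹ᵁ X.basicOpen a ↔ _
  rw [hV.fromSpec_preimage_basicOpen]
  exact Iff.rfl

open AlgebraicGeometry in
/-- Let k be an infinite field, X a scheme of finite type over k and u a global function on X such that
the open subscheme X_u where u is invertible is smooth over k. Let x be a point of X at which u is
not invertible, and let x'_1, …, x'_n be finitely many points of X_u, each of which specializes to
x. Then there exist an open neighbourhood X' of x, a unit e among the functions on X', and the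
k-morphism g : X' → A^1_k = Spec k[T] whose pulled-back coordinate T is e·u restricted to X', such
that g is smooth on some open neighbourhood of each x'_i. (Equivalently: after shrinking X around x,
the equation u of the principal divisor D = (u) is replaced by another equation e·u of the same
divisor that is smooth at the chosen points. The published statement takes D an effective Cartier
divisor, i.e. u a non-zero-divisor; that is not assumed here, and the argument does not need it.) -/
theorem result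
    {k : Type u} [Field k] [Infinite k]
    (X : Scheme.{u}) (f : X ⟶ Spec (CommRingCat.of k)) [LocallyOfFiniteType f] [QuasiCompact f]
    (u : Γ(X, ⊤)) [Smooth ((X.basicOpen u).ι ≫ f)]
    (x : ↥X) (hx : x ∉ X.basicOpen u)
    {ι : Type} [Finite ι] (x' : ι → ↥X) (hx' : ∀ i, x' i ∈ X.basicOpen u) (hgen : ∀ i, x' i ⤳ x) :
    ∃ (X' : X.Opens) (e : Γ(X, X')) (g : (↑X' : Scheme.{u}) ⟶ Spec (CommRingCat.of (Polynomial k))),
      x ∈ X' ∧ IsUnit e ∧
      g ≫ Spec.map (CommRingCat.ofHom (Polynomial.C : k →+* Polynomial k)) = X'.ι ≫ f ∧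
      X'.topIso.hom (g.appTop ((Scheme.ΓSpecIso (CommRingCat.of (Polynomial k))).inv Polynomial.X)) =
        e * X.presheaf.map (homOfLE le_top).op u ∧
      ∀ i, ∃ (W : X.Opens) (hW : W ≤ X'), x' i ∈ W ∧ Smooth (X.homOfLE hW ≫ g) := by
  obtain ⟨V, hV, hxV, -⟩ := exists_isAffineOpen_mem_and_subset (X := X) (x := x) (U := ⊤) trivial
  have hx'V : ∀ i, x' i ∈ V := fun i => (hgen i).mem_open V.2 hxV
  let A := Γ(X, V)
  let α : CommRingCat.of k ⟶ A := Spec.preimage (hV.fromSpec ≫ f)
  have hα : Spec.map α = hV.fromSpec ≫ f := Spec.map_preimage _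
  letI : Algebra k A := α.hom.toAlgebra
  haveI : Algebra.FiniteType k A := by
    have h : LocallyOfFiniteType (Spec.map α) := by rw [hα]; infer_instance
    exact (HasRingHomProperty.Spec_iff (P := @LocallyOfFiniteType)).1 h
  have hres : ∀ (U : X.Opens) (hU : IsAffineOpen U) (h : U ≤ V),
      Spec.map (α ≫ X.presheaf.map (homOfLE h).op) = hU.fromSpec ≫ f := fun U hU h => by
    rw [Spec.map_comp, hα, hV.map_fromSpec_assoc hU]
  let uV : A := X.presheaf.map (homOfLE le_top).op u
  let W₀ := X.basicOpen uV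
  have hW₀V : W₀ ≤ V := X.basicOpen_le uV
  have hW₀ : IsAffineOpen W₀ := hV.basicOpen uV
  have hW₀eq : W₀ = V ⊓ X.basicOpen u := X.basicOpen_res u _
  have hxW₀ : ∀ i, x' i ∈ W₀ := fun i => hW₀eq ▸ ⟨hx'V i, hx' i⟩
  haveI : IsLocalization.Away uV Γ(X, W₀) := hV.isLocalization_basicOpen uV
  letI : Algebra k Γ(X, W₀) := ((algebraMap A Γ(X, W₀)).comp α.hom).toAlgebra
  haveI : IsScalarTower k A Γ(X, W₀) := IsScalarTower.of_algebraMap_eq fun _ => rfl
  haveI : Algebra.Smooth k Γ(X, W₀) := by
    have h : Smooth (Spec.map (α ≫ X.presheaf.map (homOfLE hW₀V).op)) := by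
      rw [hres W₀ hW₀, ← hW₀.isoSpec_inv_ι, Category.assoc,
        ← X.homOfLE_ι (hW₀eq.le.trans inf_le_right), Category.assoc]
      infer_instance
    exact RingHom.smooth_algebraMap.1 ((HasRingHomProperty.Spec_iff (P := @Smooth)).1 h)
  let P := (hV.primeIdealOf ⟨x, hxV⟩).asIdeal
  let q : ι → Ideal Γ(X, W₀) := fun i => (hW₀.primeIdealOf ⟨x' i, hxW₀ i⟩).asIdeal
  let p : ι → Ideal A := fun i => (hV.primeIdealOf ⟨x' i, hx'V i⟩).asIdeal
  haveI : ∀ i, (q i).IsPrime := fun i => (hW₀.primeIdealOf ⟨x' i, hxW₀ i⟩).isPrime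
  haveI : ∀ i, (p i).IsPrime := fun i => (hV.primeIdealOf ⟨x' i, hx'V i⟩).isPrime
  have hqp : ∀ i, (q i).comap (algebraMap A Γ(X, W₀)) = p i := fun i => by
    refine congrArg PrimeSpectrum.asIdeal (?_ : PrimeSpectrum.comap (algebraMap A Γ(X, W₀))
      (hW₀.primeIdealOf ⟨x' i, hxW₀ i⟩) = hV.primeIdealOf ⟨x' i, hx'V i⟩)
    apply hV.fromSpec.isOpenEmbedding.injective
    rw [hV.fromSpec_primeIdealOf]
    show (Spec.map (X.presheaf.map (homOfLE hW₀V).op) ≫ hV.fromSpec) _ = _
    rw [hV.map_fromSpec hW₀, hW₀.fromSpec_primeIdealOf]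
  haveI : ∀ i, IsLocalization.AtPrime (Localization.AtPrime (q i)) (p i) := fun i => by
    have h := IsLocalization.isLocalization_isLocalization_atPrime_isLocalization (Submonoid.powers uV)
      (Localization.AtPrime (q i)) (q i)
    simp only [hqp i] at h
    exact h
  have hup : ∀ i, uV ∉ p i := fun i => (mem_basicOpen_iff hV uV _ (hx'V i)).1 (hxW₀ i)
  have huP : uV ∈ P := by
    by_contra h
    exact hx ((hW₀eq.le ((mem_basicOpen_iff hV uV x hxV).2 h)).2)
  have hpP : ∀ i, p i ≤ P := fun i => by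
    refine (PrimeSpectrum.le_iff_specializes _ _).2 (hV.fromSpec.isOpenEmbedding.isInducing.specializes_iff.1 ?_)
    rw [hV.fromSpec_primeIdealOf, hV.fromSpec_primeIdealOf]
    exact hgen i
  obtain ⟨e₀, he₀, hd⟩ := Groth.Agent.Mov16366.exists_unit_multiple (k := k) uV P huP p hpP hup
    (fun i => Localization.AtPrime (q i))
  let X' := X.basicOpen e₀
  have hX' : IsAffineOpen X' := hV.basicOpen e₀
  have hX'V : X' ≤ V := X.basicOpen_le e₀
  let t : Γ(X, X') := X.presheaf.map (homOfLE hX'V).op e₀ * X.presheaf.map (homOfLE le_top).op u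
  let φ : CommRingCat.of (Polynomial k) ⟶ Γ(X, X') :=
    CommRingCat.ofHom (Polynomial.eval₂RingHom (α ≫ X.presheaf.map (homOfLE hX'V).op).hom t)
  refine ⟨X', X.presheaf.map (homOfLE hX'V).op e₀, X'.toSpecΓ ≫ Spec.map φ,
    (mem_basicOpen_iff hV e₀ x hxV).2 he₀, RingedSpace.isUnit_res_basicOpen _ e₀, ?_, ?_, fun i => ?_⟩
  · have hφC : CommRingCat.ofHom (Polynomial.C : k →+* Polynomial k) ≫ φ =
        α ≫ X.presheaf.map (homOfLE hX'V).op := CommRingCat.hom_ext (RingHom.ext fun c => by simp [φ])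
    rw [Category.assoc, ← Spec.map_comp, hφC, hres X' hX', hX'.toSpecΓ_fromSpec_assoc]
  · rw [Scheme.Hom.comp_appTop, Scheme.Opens.toSpecΓ_appTop, ← CommRingCat.comp_apply,
      ← CommRingCat.comp_apply]
    simp only [Category.assoc, Iso.inv_hom_id, Category.comp_id]
    rw [← Scheme.ΓSpecIso_inv_naturality_assoc, Iso.inv_hom_id, Category.comp_id]
    simp [φ, t]
  · obtain ⟨s, hs, hsm⟩ := Groth.Agent.Mov16366.exists_smooth_eval (k := k) (q i)
      (L := Localization.AtPrime (q i)) (algebraMap A Γ(X, W₀) (e₀ * uV))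
      (by rw [← IsScalarTower.algebraMap_apply]; exact hd i)
    let D := X.basicOpen s
    have hD : IsAffineOpen D := hW₀.basicOpen s
    have hDV : D ≤ V := (X.basicOpen_le s).trans hW₀V
    haveI : IsLocalization.Away s Γ(X, D) := hW₀.isLocalization_basicOpen s
    let ψ : CommRingCat.of (Polynomial k) ⟶ Γ(X, D) := CommRingCat.ofHom
      ((algebraMap Γ(X, W₀) Γ(X, D)).comp
        (Polynomial.eval₂RingHom (algebraMap k Γ(X, W₀)) (algebraMap A Γ(X, W₀) (e₀ * uV))))
    have hψ : Smooth (Spec.map ψ) := by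
      refine (HasRingHomProperty.Spec_iff (P := @Smooth)).2 ?_
      let e := IsLocalization.algEquiv (Submonoid.powers s) (Localization.Away s) Γ(X, D)
      have hcomp := hsm.comp (RingHom.Smooth.of_bijective
        (f := (e.toRingEquiv : Localization.Away s →+* Γ(X, D))) e.bijective)
      rw [← RingHom.comp_assoc, show (e.toRingEquiv : Localization.Away s →+* Γ(X, D)).comp
        (algebraMap _ _) = algebraMap Γ(X, W₀) Γ(X, D) from RingHom.ext e.commutes] at hcomp
      exact hcomp
    refine ⟨D ⊓ X', inf_le_right, ⟨(mem_basicOpen_iff hW₀ s _ (hxW₀ i)).2 hs,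
      (mem_basicOpen_iff hV e₀ _ (hx'V i)).2 fun h => he₀ (hpP i h)⟩, ?_⟩
    have key : ψ ≫ X.presheaf.map (homOfLE (inf_le_left : D ⊓ X' ≤ D)).op =
        φ ≫ X.presheaf.map (homOfLE (inf_le_right : D ⊓ X' ≤ X')).op := by
      have hr : ∀ (U W : X.Opens) (h₁ : U ≤ V) (h₂ : W ≤ U) (a : A),
          X.presheaf.map (homOfLE h₂).op (X.presheaf.map (homOfLE h₁).op a) =
            X.presheaf.map (homOfLE (h₂.trans h₁)).op a := fun U W h₁ h₂ a => by
        rw [← CommRingCat.comp_apply, ← X.presheaf.map_comp]; rfl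
      have hr' : ∀ a : A, algebraMap Γ(X, W₀) Γ(X, D) (algebraMap A Γ(X, W₀) a) =
          X.presheaf.map (homOfLE hDV).op a := fun a => hr W₀ D hW₀V (X.basicOpen_le s) a
      have hu' : X.presheaf.map (homOfLE (inf_le_right : D ⊓ X' ≤ X')).op
          (X.presheaf.map (homOfLE le_top).op u) =
          X.presheaf.map (homOfLE (inf_le_right.trans hX'V : D ⊓ X' ≤ V)).op uV := by
        simp only [uV, ← CommRingCat.comp_apply, ← X.presheaf.map_comp]; rfl
      refine CommRingCat.hom_ext (Polynomial.ringHom_ext (fun c => ?_) ?_)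
      · simp only [ψ, φ, CommRingCat.hom_comp, CommRingCat.hom_ofHom, RingHom.comp_apply,
          Polynomial.coe_eval₂RingHom, Polynomial.eval₂_C]
        rw [show algebraMap k Γ(X, W₀) c = algebraMap A Γ(X, W₀) (α.hom c) from rfl, hr', hr, hr]
      · simp only [ψ, φ, CommRingCat.hom_comp, CommRingCat.hom_ofHom, RingHom.comp_apply,
          Polynomial.coe_eval₂RingHom, Polynomial.eval₂_X]
        rw [hr', hr, map_mul _ e₀ uV]
        simp only [t, map_mul, hu', hr]
    rw [← Scheme.Opens.toSpecΓ_SpecMap_presheaf_map_assoc, ← Spec.map_comp, ← key, Spec.map_comp,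
      Scheme.Opens.toSpecΓ_SpecMap_presheaf_map_assoc]
    haveI := hψ
    haveI : IsIso D.toSpecΓ := inferInstanceAs (IsIso hD.isoSpec.hom)
    infer_instance

end Groth.Agent.S16366
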