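import Groth.Statements.S16367
import Mathlib

set_option autoImplicit false
universe u
open MovLem

namespace Groth.Agent.S16367

/-- The chart computation of its proof: let k be a commutative ring, P = k[x_1, …, x_d, w_1, …, w_n] a
polynomial ring in two groups of variables, u a polynomial in the x-variables alone, v a vector in
k^d, J a set of indices among the w-variables with ζ = ∏_{j ∈ J} w_j, and N ≤ s natural numbers. Let
(f_λ) be a finite family of elements of P, each of total degree at most N in the x-variables, and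
assume that ζ^N + c_1 ζ^(N-1) u + ⋯ + c_N u^N lies in the ideal generated by the f_λ for some c_1,
…, c_N ∈ P. For each λ let φ_λ ∈ P[τ] be the polynomial τ^N · f_λ(x + u^s v/τ, w), written out
monomial by monomial: a monomial a·x^m·w^m' of x-degree e = |m| contributes a · τ^(N-e) · ∏_i (τ x_i
+ u^s v_i)^(m_i) · w^m'. Then there are c'_1, …, c'_N ∈ P[τ] with (τζ)^N + c'_1 (τζ)^(N-1) u + ⋯ +
c'_N u^N in the ideal of P[τ] generated by the φ_λ. (This identity is what shows that translating a
cycle by t·u^s·v preserves the modulus condition on the chart whose coordinates are the z_i and the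
1/z_j, with τ = 1/t; integrality of ζ/u, resp. τζ/u, is expressed by such monic binary forms.) -/
theorem result
    {k : Type u} [CommRing k] (d n : ℕ) (u : MvPolynomial (Fin d) k) (v : Fin d → k)
    (J : Finset (Fin n)) (N s : ℕ) (hs : N ≤ s)
    {Λ : Type u} [Fintype Λ] (f : Λ → MvPolynomial (Fin d ⊕ Fin n) k)
    (hdeg : ∀ l, ∀ m ∈ (f l).support, ∑ i : Fin d, m (Sum.inl i) ≤ N)
    (c : ℕ → MvPolynomial (Fin d ⊕ Fin n) k)
    (hE : (∏ j ∈ J, MvPolynomial.X (Sum.inr j)) ^ N +
        ∑ i ∈ Finset.Icc 1 N, c i * (∏ j ∈ J, MvPolynomial.X (Sum.inr j)) ^ (N - i) *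
          MvPolynomial.rename Sum.inl u ^ i ∈ Ideal.span (Set.range f)) :
    ∃ c' : ℕ → Polynomial (MvPolynomial (Fin d ⊕ Fin n) k),
      (Polynomial.X * Polynomial.C (∏ j ∈ J, MvPolynomial.X (Sum.inr j))) ^ N +
        ∑ i ∈ Finset.Icc 1 N, c' i *
          (Polynomial.X * Polynomial.C (∏ j ∈ J, MvPolynomial.X (Sum.inr j))) ^ (N - i) *
            Polynomial.C (MvPolynomial.rename Sum.inl u) ^ i ∈
      Ideal.span (Set.range fun l : Λ =>
        ∑ m ∈ (f l).support,
          Polynomial.C (MvPolynomial.C (MvPolynomial.coeff m (f l))) *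
            Polynomial.X ^ (N - ∑ i : Fin d, m (Sum.inl i)) *
            (∏ i : Fin d, (Polynomial.X * Polynomial.C (MvPolynomial.X (Sum.inl i)) +
                Polynomial.C (MvPolynomial.rename Sum.inl u ^ s * MvPolynomial.C (v i))) ^ m (Sum.inl i)) *
            ∏ j : Fin n, Polynomial.C (MvPolynomial.X (Sum.inr j)) ^ m (Sum.inr j)) := by
  classical
  obtain ⟨a, ha⟩ := Ideal.mem_span_range_iff_exists_fun.1 hE
  set ζ : MvPolynomial (Fin d ⊕ Fin n) k := ∏ j ∈ J, MvPolynomial.X (Sum.inr j)
  set U : Polynomial (MvPolynomial (Fin d ⊕ Fin n) k) := Polynomial.C (MvPolynomial.rename Sum.inl u)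
  set φ : Λ → Polynomial (MvPolynomial (Fin d ⊕ Fin n) k) := fun l =>
        ∑ m ∈ (f l).support,
          Polynomial.C (MvPolynomial.C (MvPolynomial.coeff m (f l))) *
            Polynomial.X ^ (N - ∑ i : Fin d, m (Sum.inl i)) *
            (∏ i : Fin d, (Polynomial.X * Polynomial.C (MvPolynomial.X (Sum.inl i)) +
                Polynomial.C (MvPolynomial.rename Sum.inl u ^ s * MvPolynomial.C (v i))) ^ m (Sum.inl i)) *
            ∏ j : Fin n, Polynomial.C (MvPolynomial.X (Sum.inr j)) ^ m (Sum.inr j)
  set W : Polynomial (MvPolynomial (Fin d ⊕ Fin n) k) := if N = 0 then 0 else U ^ s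
  have hφ : ∀ l, φ l - Polynomial.X ^ N * Polynomial.C (f l) ∈ Ideal.span {W} := by
    intro l
    rw [← Ideal.Quotient.eq_zero_iff_mem, map_sub, sub_eq_zero]
    conv_rhs => rw [(f l).as_sum, map_sum, Finset.mul_sum, map_sum]
    simp only [φ, map_sum]
    refine Finset.sum_congr rfl fun m hm => ?_
    set π := Ideal.Quotient.mk (Ideal.span {W})
    have hfac : ∀ i : Fin d, π ((Polynomial.X * Polynomial.C (MvPolynomial.X (Sum.inl i)) +
        Polynomial.C (MvPolynomial.rename Sum.inl u ^ s * MvPolynomial.C (v i))) ^ m (Sum.inl i)) =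
        π ((Polynomial.X * Polynomial.C (MvPolynomial.X (Sum.inl i))) ^ m (Sum.inl i)) := fun i => by
      by_cases hN : N = 0
      · have h0 : m (Sum.inl i) = 0 := by
          have := (Finset.single_le_sum (fun x _ => Nat.zero_le (m (Sum.inl x))) (Finset.mem_univ i)).trans (hdeg l m hm)
          omega
        simp [h0]
      · rw [map_pow, map_pow, map_add]
        have hz : π (Polynomial.C (MvPolynomial.rename Sum.inl u ^ s * MvPolynomial.C (v i))) = 0 := by
          rw [Ideal.Quotient.eq_zero_iff_mem, map_mul, map_pow]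
          exact Ideal.mul_mem_right _ _ (Ideal.mem_span_singleton.2 (by simp [W, hN, U]))
        rw [hz, add_zero]
    rw [map_mul, map_mul, map_prod, Finset.prod_congr rfl fun i _ => hfac i, ← map_prod, ← map_mul, ← map_mul]
    refine congrArg π ?_
    rw [MvPolynomial.monomial_eq, Finsupp.prod_fintype _ _ (fun i => pow_zero _), Fintype.prod_sum_type, map_mul, map_mul,
      map_prod, map_prod, Finset.prod_congr rfl (fun i _ => mul_pow _ _ _), Finset.prod_mul_distrib, Finset.prod_pow_eq_pow_sum]
    simp only [map_pow]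
    have hp : (Polynomial.X : Polynomial (MvPolynomial (Fin d ⊕ Fin n) k)) ^ N =
        Polynomial.X ^ (N - ∑ i : Fin d, m (Sum.inl i)) * Polynomial.X ^ (∑ i : Fin d, m (Sum.inl i)) := by
      rw [← pow_add, Nat.sub_add_cancel (hdeg l m hm)]
    rw [hp]
    ring
  choose R hR using fun l => Ideal.mem_span_singleton.1 (hφ l)
  let T := ∑ l, Polynomial.C (a l) * R l
  refine ⟨fun i => Polynomial.X ^ i * Polynomial.C (c i) + if i = N then U ^ (s - N) * T else 0, ?_⟩
  have key : (Polynomial.X * Polynomial.C ζ) ^ N +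
      ∑ i ∈ Finset.Icc 1 N, (Polynomial.X ^ i * Polynomial.C (c i) + if i = N then U ^ (s - N) * T else 0) *
        (Polynomial.X * Polynomial.C ζ) ^ (N - i) * U ^ i =
      ∑ l, Polynomial.C (a l) * φ l := by
    have e1 : ∑ l, Polynomial.C (a l) * φ l = Polynomial.X ^ N * Polynomial.C (∑ l, a l * f l) + W * T := by
      simp only [T, map_sum, Finset.mul_sum, ← Finset.sum_add_distrib, map_mul]
      refine Finset.sum_congr rfl fun l _ => ?_
      linear_combination Polynomial.C (a l) * hR l
    have e2 : ∑ i ∈ Finset.Icc 1 N, (if i = N then U ^ (s - N) * T else 0) *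
        (Polynomial.X * Polynomial.C ζ) ^ (N - i) * U ^ i = W * T := by
      by_cases hN : N = 0
      · simp [hN, W]
      · rw [Finset.sum_eq_single N]
        · rw [if_pos rfl, Nat.sub_self, pow_zero, mul_one, show W = U ^ s by simp [W, hN]]
          conv_rhs => rw [← Nat.sub_add_cancel hs, pow_add]
          ring
        · intro i _ hi; simp [hi]
        · intro h; exact absurd (Finset.mem_Icc.2 ⟨by omega, le_rfl⟩) h
    have e3 : ∑ i ∈ Finset.Icc 1 N, Polynomial.X ^ i * Polynomial.C (c i) *
        (Polynomial.X * Polynomial.C ζ) ^ (N - i) * U ^ i =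
        Polynomial.X ^ N * Polynomial.C (∑ i ∈ Finset.Icc 1 N, c i * ζ ^ (N - i) * MvPolynomial.rename Sum.inl u ^ i) := by
      rw [map_sum, Finset.mul_sum]
      refine Finset.sum_congr rfl fun i hi => ?_
      conv_rhs => rw [← Nat.add_sub_cancel' (Finset.mem_Icc.1 hi).2, pow_add]
      simp only [map_mul, map_pow, mul_pow, U, Nat.add_sub_cancel_left]
      ring
    rw [e1, ha, Finset.sum_congr rfl (fun i _ => by rw [add_mul, add_mul]), Finset.sum_add_distrib, e2, e3, map_add,
      map_pow, mul_add, mul_pow]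
    ring
  rw [key]
  exact sum_mem fun l _ => Ideal.mul_mem_left _ _ (Ideal.subset_span ⟨l, rfl⟩)

end Groth.Agent.S16367
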