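import Groth.Statements.S16368
import Mathlib.RingTheory.LocalRing.MaximalIdeal.Basic
import Mathlib.RingTheory.Nakayama
import Mathlib.RingTheory.OrzechProperty
import Mathlib.RingTheory.FiniteType
import Mathlib.RingTheory.TensorProduct.Basic
import Mathlib.RingTheory.Ideal.Quotient.Operations


set_option autoImplicit false
universe u v
open TensorProduct
open FrobAlg

namespace Groth.Agent.S16368

/-- Let R be a local ring of prime characteristic p and M a finitely presented R-module. Write R' for R
regarded as an R-algebra through its Frobenius a ↦ a^p, so that R' ⊗_R M is the pull-back of M along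
the absolute Frobenius of Spec R, an R'-module. If this pull-back is isomorphic to M — there is a
bijective map e : R' ⊗_R M → M, additive and semilinear for the identification R' = R — then M is
free. -/
theorem result
    (p : ℕ) [Fact p.Prime] (R : Type u) [CommRing R] [IsLocalRing R] [CharP R p]
    (M : Type v) [AddCommGroup M] [Module R M] [Module.FinitePresentation R M]
    (e : (FrobAlg.Twist p R ⊗[R] M) →ₛₗ[((FrobAlg.toTwist p R).symm : FrobAlg.Twist p R →+* R)] M)
    (he : Function.Bijective e) :
    Module.Free R M := by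
  classical
  have hex : ∃ n, ∃ x : Fin n → M, Submodule.span R (Set.range x) = ⊤ := Module.Finite.exists_fin
  set n := Nat.find hex
  obtain ⟨x, hxs⟩ := Nat.find_spec hex
  let π : (Fin n → R) →ₗ[R] M := Fintype.linearCombination R x
  have hπ : Function.Surjective π := by
    rw [← LinearMap.range_eq_top, Fintype.range_linearCombination, hxs]
  set 𝔪 := IsLocalRing.maximalIdeal R
  have hker : ∀ c, π c = 0 → ∀ j, c j ∈ 𝔪 := by
    intro c hc j
    by_contra hj
    obtain ⟨w, hw⟩ : ∃ w, w * c j = 1 := (IsLocalRing.notMem_maximalIdeal.1 hj).exists_left_inv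
    have hn : n - 1 < n := Nat.sub_lt j.pos one_pos
    refine Nat.find_min hex hn ?_
    let e' : Fin (n - 1) ≃ {i : Fin n // i ≠ j} := Fintype.equivOfCardEq (by simp [Fintype.card_subtype_compl])
    refine ⟨fun i => x (e' i).1, top_unique (hxs ▸ Submodule.span_le.2 ?_)⟩
    rintro _ ⟨i, rfl⟩
    have hother : ∀ i, i ≠ j → x i ∈ Submodule.span R (Set.range fun i => x (e' i).1) := fun i hi =>
      Submodule.subset_span ⟨e'.symm ⟨i, hi⟩, by simp⟩
    by_cases hi : i = j
    · subst hi
      simp only [π, Fintype.linearCombination_apply] at hc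
      rw [← Finset.add_sum_erase _ _ (Finset.mem_univ i)] at hc
      have : x i = -(w • ∑ l ∈ Finset.univ.erase i, c l • x l) := by
        rw [eq_neg_of_add_eq_zero_right hc, smul_neg, neg_neg, smul_smul, hw, one_smul]
      rw [this]
      exact Submodule.neg_mem _ (Submodule.smul_mem _ _ (Submodule.sum_mem _ fun l hl => Submodule.smul_mem _ _ (hother l (Finset.ne_of_mem_erase hl))))
    · exact hother i hi
  let I : Ideal R := ⨆ j : Fin n, Submodule.map (LinearMap.proj j) (LinearMap.ker π)
  have hI : ∀ c, π c = 0 → ∀ j, c j ∈ I := fun c hc j =>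
    Submodule.mem_iSup_of_mem j ⟨c, hc, rfl⟩
  have hIle : I ≤ 𝔪 := iSup_le fun j => Submodule.map_le_iff_le_comap.2 fun c hc => hker c hc j
  have hIfg : I.FG := Submodule.fg_iSup _ fun j => (Module.FinitePresentation.fg_ker π hπ).map _
  let J : Ideal (FrobAlg.Twist p R) := I.map (algebraMap R (FrobAlg.Twist p R))
  -- coordinates modulo `J`
  have hlam : ∀ j, ∃ L : M →ₗ[R] FrobAlg.Twist p R ⧸ J, ∀ c, L (π c) = algebraMap R _ (c j) := by
    intro j
    let L₀ : (Fin n → R) →ₗ[R] FrobAlg.Twist p R ⧸ J := (Algebra.linearMap R _).comp (LinearMap.proj j)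
    have hle : LinearMap.ker π ≤ LinearMap.ker L₀ := fun c hc => by
      rw [LinearMap.mem_ker]
      change algebraMap R (FrobAlg.Twist p R ⧸ J) (c j) = 0
      rw [IsScalarTower.algebraMap_apply R (FrobAlg.Twist p R), Ideal.Quotient.algebraMap_eq, Ideal.Quotient.eq_zero_iff_mem]
      exact Ideal.mem_map_of_mem _ (hI c hc j)
    refine ⟨((LinearMap.ker π).liftQ L₀ hle).comp (π.quotKerEquivOfSurjective hπ).symm.toLinearMap, fun c => ?_⟩
    have : (π.quotKerEquivOfSurjective hπ).symm (π c) = Submodule.Quotient.mk c := by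
      rw [LinearEquiv.symm_apply_eq]; rfl
    simp only [LinearMap.comp_apply, LinearEquiv.coe_coe, this]
    rfl
  choose L hL using hlam
  let v : Fin n → M := fun i => e ((1 : FrobAlg.Twist p R) ⊗ₜ[R] x i)
  let ψ : (Fin n → R) →ₗ[R] M := Fintype.linearCombination R v
  have hψe : ∀ d, ψ d = e (∑ i, FrobAlg.toTwist p R (d i) ⊗ₜ[R] x i) := by
    intro d
    rw [map_sum]
    simp only [ψ, Fintype.linearCombination_apply]
    refine Finset.sum_congr rfl fun i _ => ?_
    rw [show FrobAlg.toTwist p R (d i) ⊗ₜ[R] x i = FrobAlg.toTwist p R (d i) • ((1 : FrobAlg.Twist p R) ⊗ₜ[R] x i) by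
      rw [TensorProduct.smul_tmul', smul_eq_mul, mul_one], map_smulₛₗ]
    rfl
  have hψ : Function.Surjective ψ := by
    intro m
    obtain ⟨z, rfl⟩ := he.surjective m
    induction z using TensorProduct.induction_on with
    | zero => exact ⟨0, by simp⟩
    | tmul c y =>
      obtain ⟨a, rfl⟩ := hπ y
      refine ⟨fun i => (FrobAlg.toTwist p R).symm c * a i ^ p, ?_⟩
      rw [hψe]
      congr 1
      simp only [π, Fintype.linearCombination_apply, TensorProduct.tmul_sum]
      refine Finset.sum_congr rfl fun i _ => ?_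
      rw [← TensorProduct.smul_tmul, map_mul, RingEquiv.apply_symm_apply, Algebra.smul_def, mul_comm]
      rfl
    | add a b ha hb =>
      obtain ⟨a', ha'⟩ := ha
      obtain ⟨b', hb'⟩ := hb
      exact ⟨a' + b', by rw [map_add, map_add, ha', hb']⟩
  choose s hs using fun i => hπ (v i)
  let σ : (Fin n → R) →ₗ[R] (Fin n → R) := Fintype.linearCombination R s
  have hπσ : ∀ d, π (σ d) = ψ d := fun d => by
    simp only [σ, ψ, Fintype.linearCombination_apply, map_sum, map_smul, hs]
  have hσ : Function.Surjective σ := by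
    rw [← LinearMap.range_eq_top]
    refine top_unique (Submodule.le_of_le_smul_of_le_jacobson_bot (I := 𝔪) Module.Finite.fg_top
      (by rw [IsLocalRing.jacobson_eq_maximalIdeal ⊥ bot_ne_top]) ?_)
    intro c _
    obtain ⟨d, hd⟩ := hψ (π c)
    refine Submodule.mem_sup.2 ⟨σ d, LinearMap.mem_range_self _ d, c - σ d, ?_, add_sub_cancel _ _⟩
    have hmem := hker (c - σ d) (by rw [map_sub, hπσ, hd, sub_self])
    rw [pi_eq_sum_univ (c - σ d)]
    exact Submodule.sum_mem _ fun i _ => Submodule.smul_mem_smul (hmem i) trivial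
  have hψker : ∀ d, ψ d = 0 → ∀ j, algebraMap R (FrobAlg.Twist p R ⧸ J) 1 * Ideal.Quotient.mk J (FrobAlg.toTwist p R (d j)) = 0 := by
    intro d hd j
    rw [hψe, map_eq_zero_iff e he.injective] at hd
    have := congrArg (LinearMap.liftBaseChange (FrobAlg.Twist p R) (L j)) hd
    rw [map_sum, map_zero] at this
    simp only [LinearMap.liftBaseChange_tmul] at this
    rw [map_one, one_mul]
    have hLx : ∀ i, L j (x i) = if i = j then 1 else 0 := fun i => by
      have h1 := hL j (Pi.single i 1)
      simp only [π, Fintype.linearCombination_apply_single, one_smul] at h1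
      rw [h1, Pi.single_apply]
      by_cases hij : i = j
      · rw [if_pos hij, if_pos hij.symm, map_one]
      · rw [if_neg hij, if_neg (Ne.symm hij), map_zero]
    simp only [hLx, smul_ite, smul_zero, Finset.sum_ite_eq', Finset.mem_univ, if_true] at this
    rw [← this, Algebra.smul_def, mul_one]
    rfl
  have hK : ∀ a, FrobAlg.toTwist p R a ∈ J → a ∈ 𝔪 • I := by
    intro a ha
    have h' : a ∈ Ideal.map (frobenius R p) I := by
      have := Ideal.mem_map_of_mem ((FrobAlg.toTwist p R).symm : FrobAlg.Twist p R →+* R) ha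
      rwa [Ideal.map_map, RingHom.coe_coe, RingEquiv.symm_apply_apply] at this
    refine (Ideal.map_le_iff_le_comap.2 (fun b hb => ?_) : Ideal.map (frobenius R p) I ≤ 𝔪 • I) h'
    rw [Ideal.mem_comap, frobenius_def, ← Nat.sub_add_cancel (Fact.out : p.Prime).one_le, pow_succ]
    exact Submodule.smul_mem_smul (Ideal.pow_mem_of_mem _ (hIle hb) _ (Nat.sub_pos_of_lt (Fact.out : p.Prime).one_lt)) hb
  have hIm : I ≤ 𝔪 • I := by
    refine iSup_le fun j => Submodule.map_le_iff_le_comap.2 fun c hc => ?_
    obtain ⟨d, rfl⟩ := hσ c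
    rw [Submodule.mem_comap, LinearMap.proj_apply]
    simp only [σ, Fintype.linearCombination_apply, Finset.sum_apply, Pi.smul_apply, smul_eq_mul]
    refine Submodule.sum_mem _ fun i _ => Ideal.mul_mem_right _ _ (hK _ ?_)
    have := hψker d (by rw [← hπσ]; exact hc) i
    rwa [map_one, one_mul, Ideal.Quotient.eq_zero_iff_mem] at this
  have hI0 : I = ⊥ := Submodule.eq_bot_of_le_smul_of_le_jacobson_bot 𝔪 I hIfg hIm
    (by rw [IsLocalRing.jacobson_eq_maximalIdeal ⊥ bot_ne_top])
  refine Module.Free.of_equiv (LinearEquiv.ofBijective π ⟨?_, hπ⟩)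
  rw [injective_iff_map_eq_zero]
  intro c hc
  funext j
  simpa [hI0] using hI c hc j

end Groth.Agent.S16368
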