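import Groth.Statements.S16369
import Groth.Agent.WeilSmooth.FrobSplit

set_option autoImplicit false
universe u
open CategoryTheory AlgebraicGeometry Opposite
open FrobSch

namespace Groth.Agent.S16369

/-- (i) ⇒ (ii): let k be a perfect field of characteristic p and X a scheme proper over k. Let φ be the
p-th power map on the sheaf of additive groups underlying O_X and B its cokernel in abelian sheaves
(for X smooth over k this is the sheaf B¹ of locally exact one-forms, pushed down along Frobenius).
If X is Frobenius split — φ admits a retraction s, an additive endomorphism of O_X with s(t^p) = t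
and s(a^p·b) = a·s(b) on every open — then H^i(X, B) = 0 for every i. (The source states this for X
normal; normality is not used for this implication, and a split X is reduced anyway.) -/
theorem result
    (p : ℕ) [Fact p.Prime] (k : Type u) [Field k] [CharP k p] [PerfectField k]
    (X : Scheme.{u}) [X.Over (Spec (CommRingCat.of k))] [IsProper (X ↘ Spec (CommRingCat.of k))]
    (φ : Coh.toAb (Coh.structureModule X) ⟶ Coh.toAb (Coh.structureModule X))
    (hφ : ∀ (U : X.Opens) (t : Γ(X, U)), φ.hom.app (op U) t = t ^ p)
    (s : Coh.toAb (Coh.structureModule X) ⟶ Coh.toAb (Coh.structureModule X))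
    (hs : φ ≫ s = 𝟙 _)
    (hlin : ∀ (U : X.Opens) (a b : Γ(X, U)),
      s.hom.app (op U) (a ^ p * b) = a * @id Γ(X, U) (s.hom.app (op U) b))
    (i : ℕ) : Subsingleton (Sheaf.H (Limits.cokernel φ) i) := by
  have : Subsingleton (Sheaf.H (Limits.cokernel φ) i) := by
    have hcoh : Coh.IsCoh (Coh.structureModule X) := by
      exact Groth.Agent.ProperFin.isCoh_structureModule X
    have := Groth.Agent.EulerChar.finite_HH k (Coh.structureModule X) hcoh i
    have : ExpChar k p := ExpChar.prime (Fact.out)
    have : PerfectRing k p := PerfectField.toPerfectRing p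
    refine Groth.Agent.FrobSplit.subsingleton_cokernel φ s hs i ?_
    let T : Coh.HH X (Coh.structureModule X) i →+ Coh.HH X (Coh.structureModule X) i := Sheaf.H.map φ i
    refine (Groth.Agent.FrobSplit.bijective_of_semilinear (p := p) (k := k) T (fun x y hxy => ?_) (fun c x => ?_)).2
    · have e := congrArg (Sheaf.H.map s i) hxy
      rwa [← Sheaf.H.map_comp_apply, ← Sheaf.H.map_comp_apply, hs, Sheaf.H.map_id_apply,
        Sheaf.H.map_id_apply] at e
    · exact Groth.Agent.FrobSplit.hmap_semilinear φ (Groth.Agent.FrobSplit.smulAb_comp φ fun U r m => by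
        show φ.hom.app (op U) ((show Γ(X, U) from r) * (show Γ(X, U) from m)) =
          (show Γ(X, U) from r) ^ p * (show Γ(X, U) from φ.hom.app (op U) m)
        rw [hφ, mul_pow]
        exact congrArg (_ * ·) (hφ U m).symm) i c x
  exact this

end Groth.Agent.S16369
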