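import Groth.Statements.S1637
import Groth.Agent.NodeStruct.Chart
import Groth.Agent.NodeStruct.Scheme

set_option autoImplicit false
universe u
open CategoryTheory CategoryTheory.Limits AlgebraicGeometry
open Curves

namespace Groth.Agent.S1637

noncomputable section Aux

variable {A' : Type u} [CommRing A']

abbrev base : Type u := MvPolynomial (Fin 1) (ULift.{u} ℤ)

abbrev univIdeal : Ideal (MvPolynomial (Fin 3) (ULift.{u} ℤ)) :=
  Ideal.span {(MvPolynomial.X 0 * MvPolynomial.X 1 - MvPolynomial.X 2 : MvPolynomial (Fin 3) (ULift.{u} ℤ))}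

def intHom (T : Type u) [CommRing T] : ULift.{u} ℤ →+* T :=
  (Int.castRingHom T).comp (ULift.ringEquiv : ULift.{u} ℤ ≃+* ℤ).toRingHom

theorem intHom_unique {T : Type u} [CommRing T] (f g : ULift.{u} ℤ →+* T) : f = g := by
  have h : f.comp (ULift.ringEquiv : ULift.{u} ℤ ≃+* ℤ).symm.toRingHom =
      g.comp (ULift.ringEquiv : ULift.{u} ℤ ≃+* ℤ).symm.toRingHom := RingHom.ext_int _ _
  exact RingHom.ext fun z => by obtain ⟨n⟩ := z; exact RingHom.congr_fun h n

noncomputable def baseToUniv : base.{u} →+* MvPolynomial (Fin 3) (ULift.{u} ℤ) ⧸ univIdeal.{u} :=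
  (Ideal.Quotient.mk _).comp (MvPolynomial.aeval (fun _ : Fin 1 => (MvPolynomial.X 2 : MvPolynomial (Fin 3) (ULift.{u} ℤ)))).toRingHom

noncomputable def baseTo (a : A') : base.{u} →+* A' := MvPolynomial.eval₂Hom (intHom A') fun _ => a

noncomputable def univTo (a : A') :
    (MvPolynomial (Fin 3) (ULift.{u} ℤ) ⧸ univIdeal.{u}) →+* MvPolynomial (Fin 2) A' ⧸ NodeStruct.modelIdeal a :=
  Ideal.Quotient.lift univIdeal
    (MvPolynomial.eval₂Hom (intHom _)
      ![Ideal.Quotient.mk _ (MvPolynomial.X 0), Ideal.Quotient.mk _ (MvPolynomial.X 1), Ideal.Quotient.mk _ (MvPolynomial.C a)])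
    (by
      intro z hz
      obtain ⟨r, rfl⟩ := Ideal.mem_span_singleton'.mp hz
      rw [map_mul]
      refine mul_eq_zero_of_right _ ?_
      simp only [map_sub, map_mul, MvPolynomial.eval₂Hom_X', Matrix.cons_val_zero, Matrix.cons_val_one, Matrix.cons_val]
      rw [← map_mul, ← map_sub, Ideal.Quotient.eq_zero_iff_mem]
      exact Ideal.mem_span_singleton_self _)

theorem isPushout_model (a : A') :
    IsPushout (CommRingCat.ofHom (S := MvPolynomial (Fin 3) (ULift.{u} ℤ) ⧸ univIdeal.{u}) baseToUniv.{u})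
      (CommRingCat.ofHom (baseTo a))
      (CommRingCat.ofHom (R := MvPolynomial (Fin 3) (ULift.{u} ℤ) ⧸ univIdeal.{u})
        (S := MvPolynomial (Fin 2) A' ⧸ NodeStruct.modelIdeal a) (univTo a))
      (CommRingCat.ofHom (algebraMap A' (MvPolynomial (Fin 2) A' ⧸ NodeStruct.modelIdeal a))) := by
  let M := MvPolynomial (Fin 2) A' ⧸ NodeStruct.modelIdeal a
  have hw : (univTo a).comp baseToUniv.{u} = (algebraMap A' M).comp (baseTo a) := by
    refine MvPolynomial.ringHom_ext' (intHom_unique _ _) fun i => ?_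
    simp [baseToUniv, baseTo, univTo]
    rfl
  refine ⟨⟨congrArg CommRingCat.ofHom hw⟩, ⟨PushoutCocone.IsColimit.mk _ ?_ ?_ ?_ ?_⟩⟩
  · intro c
    have hc : ∀ z, c.inl.hom (baseToUniv.{u} z) = c.inr.hom (baseTo a z) := fun z =>
      congrArg (fun g => g.hom z) c.condition
    refine CommRingCat.ofHom (Ideal.Quotient.lift _ (MvPolynomial.eval₂Hom c.inr.hom
      ![c.inl.hom (Ideal.Quotient.mk _ (MvPolynomial.X 0)), c.inl.hom (Ideal.Quotient.mk _ (MvPolynomial.X 1))]) ?_)
    intro z hz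
    obtain ⟨r, rfl⟩ := Ideal.mem_span_singleton'.mp hz
    rw [map_mul]
    refine mul_eq_zero_of_right _ ?_
    have h1 := hc (MvPolynomial.X 0)
    simp only [baseTo, MvPolynomial.eval₂Hom_X'] at h1
    simp only [map_sub, map_mul, MvPolynomial.eval₂Hom_X', MvPolynomial.eval₂Hom_C, Matrix.cons_val_zero, Matrix.cons_val_one]
    rw [← h1, ← map_mul, ← map_sub]
    refine (congrArg c.inl.hom ?_).trans (map_zero _)
    simp only [baseToUniv, RingHom.comp_apply, AlgHom.toRingHom_eq_coe, RingHom.coe_coe, MvPolynomial.aeval_X]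
    rw [← map_mul, ← map_sub, Ideal.Quotient.eq_zero_iff_mem]
    exact Ideal.mem_span_singleton_self _
  · intro c
    refine CommRingCat.hom_ext (Ideal.Quotient.ringHom_ext (MvPolynomial.ringHom_ext' (intHom_unique _ _) fun i => ?_))
    have hc : ∀ z, c.inl.hom (baseToUniv.{u} z) = c.inr.hom (baseTo a z) := fun z =>
      congrArg (fun g => g.hom z) c.condition
    fin_cases i
    · simp [univTo]
    · simp [univTo]
    · simp [univTo]
      simpa [baseTo, baseToUniv] using (hc (MvPolynomial.X 0)).symm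
  · intro c
    refine CommRingCat.hom_ext (RingHom.ext fun z => ?_)
    exact MvPolynomial.eval₂Hom_C c.inr.hom _ z
  · intro c m hm1 hm2
    refine CommRingCat.hom_ext (Ideal.Quotient.ringHom_ext (MvPolynomial.ringHom_ext' ?_ fun i => ?_))
    · refine RingHom.ext fun z => ?_
      have := congrArg (fun g => g.hom z) hm2
      simp at this ⊢
      exact this
    · fin_cases i
      · have := congrArg (fun g => g.hom (Ideal.Quotient.mk _ (MvPolynomial.X 0))) hm1
        simp [univTo] at this ⊢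
        exact this
      · have := congrArg (fun g => g.hom (Ideal.Quotient.mk _ (MvPolynomial.X 1))) hm1
        simp [univTo] at this ⊢
        exact this

end Aux

/-- Let f : X → S be at-worst-nodal of relative dimension one and x a point of X which is a node of its
fibre. Then there are étale morphisms U → X and V → S, a morphism U → V compatible with f, a
morphism V → Spec ℤ[a], and an étale morphism U → W over V where W → V is the base change of Spec
ℤ[u, v, a]/(uv - a) → Spec ℤ[a] along V → Spec ℤ[a], such that x is in the image of U. -/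
theorem result {X S : Scheme.{u}} (f : X ⟶ S) (hf : Curv2.IsNodalFamily f)
    (x : X) (hx : @Curv2.IsNode (S.residueField (f.base x)) _ (f.fiber (f.base x)) ⟨f.fiberToSpecResidueField (f.base x)⟩ (f.asFiber x)) :
    ∃ (U V W : Scheme.{u}) (gU : U ⟶ X) (gV : V ⟶ S) (p : U ⟶ V) (e : U ⟶ W) (q : W ⟶ V)
      (h : V ⟶ Spec (CommRingCat.of (MvPolynomial (Fin 1) (ULift.{u} ℤ)))) (r : W ⟶ Spec (CommRingCat.of (MvPolynomial (Fin 3) (ULift.{u} ℤ) ⧸ Ideal.span {(MvPolynomial.X 0 * MvPolynomial.X 1 - MvPolynomial.X 2 : MvPolynomial (Fin 3) (ULift.{u} ℤ))}))),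
      Etale gU ∧ Etale gV ∧ Etale e ∧ gU ≫ f = p ≫ gV ∧ e ≫ q = p ∧
      IsPullback r q (Spec.map (CommRingCat.ofHom ((Ideal.Quotient.mk _).comp (MvPolynomial.aeval (fun _ : Fin 1 => (MvPolynomial.X 2 : MvPolynomial (Fin 3) (ULift.{u} ℤ)))).toRingHom))) h ∧
      x ∈ Set.range gU.base := by
  obtain ⟨hflat, hfp, -⟩ := hf
  obtain ⟨V, hV, W, hW, hWV, q, _, hxW, hCfp, hCflat, hq, hnode⟩ := NodeStruct.exists_affine f x hx
  letI := (f.appLE V W hWV).hom.toAlgebra
  haveI := hCfp
  haveI := hCflat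
  obtain ⟨A', _, _, U, _, _, _, a, φ, hA', hU, hφ, hcomm, P, hP, hPq⟩ := NodeStruct.exists_chart q hnode
  haveI := hA'
  haveI := hU
  let gV : Spec (CommRingCat.of A') ⟶ S := Spec.map (CommRingCat.ofHom (algebraMap Γ(S, V) A')) ≫ hV.fromSpec
  let gU : Spec (CommRingCat.of U) ⟶ X := Spec.map (CommRingCat.ofHom (algebraMap Γ(X, W) U)) ≫ hW.fromSpec
  haveI : Etale (Spec.map (CommRingCat.ofHom (algebraMap Γ(S, V) A'))) := by
    rw [HasRingHomProperty.Spec_iff (P := @Etale)]
    exact RingHom.etale_algebraMap.mpr hA'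
  haveI : Etale (Spec.map (CommRingCat.ofHom (algebraMap Γ(X, W) U))) := by
    rw [HasRingHomProperty.Spec_iff (P := @Etale)]
    exact RingHom.etale_algebraMap.mpr hU
  refine ⟨Spec (CommRingCat.of U), Spec (CommRingCat.of A'),
    Spec (CommRingCat.of (MvPolynomial (Fin 2) A' ⧸ NodeStruct.modelIdeal a)), gU, gV,
    Spec.map (CommRingCat.ofHom (algebraMap A' U)), Spec.map (CommRingCat.ofHom φ.toRingHom),
    Spec.map (CommRingCat.ofHom (algebraMap A' _)), Spec.map (CommRingCat.ofHom (baseTo a)),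
    Spec.map (CommRingCat.ofHom (univTo a)), inferInstanceAs (Etale (_ ≫ _)),
    inferInstanceAs (Etale (_ ≫ _)), ?_, ?_, ?_,
    isPullback_SpecMap_of_isPushout _ _ _ _ (isPushout_model a), ?_⟩
  · rw [HasRingHomProperty.Spec_iff (P := @Etale)]
    exact hφ
  · show (_ ≫ hW.fromSpec) ≫ f = _ ≫ (_ ≫ hV.fromSpec)
    rw [Category.assoc, ← IsAffineOpen.SpecMap_appLE_fromSpec f hV hW hWV, ← Category.assoc, ← Category.assoc,
      ← Spec.map_comp, ← Spec.map_comp]
    congr 2
    exact CommRingCat.hom_ext hcomm.symm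
  · rw [← Spec.map_comp]
    congr 1
    exact CommRingCat.hom_ext (RingHom.ext fun z => φ.commutes z)
  · haveI := hP
    refine ⟨(⟨P, hP⟩ : PrimeSpectrum U), ?_⟩
    show hW.fromSpec (Spec.map (CommRingCat.ofHom (algebraMap Γ(X, W) U)) ⟨P, hP⟩) = x
    rw [show Spec.map (CommRingCat.ofHom (algebraMap Γ(X, W) U)) ⟨P, hP⟩ = hW.primeIdealOf ⟨x, hxW⟩ from
      PrimeSpectrum.ext (hPq.trans hq)]
    exact hW.fromSpec_primeIdealOf ⟨x, hxW⟩

end Groth.Agent.S1637
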