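import Groth.Statements.S16370
-- import your own Groth.Agent.* helpers here

set_option autoImplicit false
universe u
open CategoryTheory AlgebraicGeometry Opposite
open FrobSch

namespace Groth.Agent.S16370

/-- (ii) ⇒ (iii): let X be a reduced scheme of prime characteristic p, φ the p-th power map on the sheaf
of additive groups underlying O_X (a monomorphism, X being reduced) and B its cokernel in abelian
sheaves. If H^i(X, B) = 0 for all i ≥ 0, then the endomorphism of H^i(X, O_X) induced by φ — the
Hasse–Witt operation — is bijective for all i. (The source has X normal and proper over a perfect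
field; only reducedness enters this implication.) -/
theorem result
    (p : ℕ) [Fact p.Prime] (X : Scheme.{u}) [IsReduced X] (hp : (p : Γ(X, ⊤)) = 0)
    (φ : Coh.toAb (Coh.structureModule X) ⟶ Coh.toAb (Coh.structureModule X))
    (hφ : ∀ (U : X.Opens) (t : Γ(X, U)), φ.hom.app (op U) t = t ^ p)
    (hB : ∀ i : ℕ, Subsingleton (Sheaf.H (Limits.cokernel φ) i))
    (i : ℕ) : Function.Bijective (Sheaf.H.map φ i) := by
  haveI : Mono φ := by
    apply (CategoryTheory.sheafToPresheaf _ _).mono_of_mono_map
    apply (config := { allowSynthFailures := true }) NatTrans.mono_of_mono_app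
    intro U
    rw [AddCommGrpCat.mono_iff_injective]
    refine (injective_iff_map_eq_zero (φ.hom.app U).hom).2 fun t ht => ?_
    have h := hφ U.unop t
    have h' : φ.hom.app U t = 0 := ht
    rw [h] at h'
    exact IsReduced.eq_zero (R := Γ(X, U.unop)) t ⟨p, h'⟩
  let S : ShortComplex _ := ShortComplex.mk φ (Limits.cokernel.π φ) (Limits.cokernel.condition φ)
  have hS : S.ShortExact :=
    { exact := ShortComplex.exact_of_g_is_cokernel _ (Limits.cokernelIsCokernel φ) }
  constructor
  · rcases i with _ | n
    · exact Abelian.Ext.postcomp_mk₀_injective_of_mono _ φ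
    · rw [injective_iff_map_eq_zero]
      intro x hx
      obtain ⟨y, rfl⟩ := Abelian.Ext.covariant_sequence_exact₁ _ hS x hx (n₀ := n) rfl
      rw [@Subsingleton.elim _ (hB n) y 0, Abelian.Ext.zero_comp]
  · intro y
    obtain ⟨x, hx⟩ := Abelian.Ext.covariant_sequence_exact₂ _ hS y
      (@Subsingleton.elim _ (hB i) _ _)
    exact ⟨x, hx⟩

end Groth.Agent.S16370
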