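import Groth.Statements.S16372


set_option autoImplicit false
universe u
open FrobAlg

namespace Groth.Agent.S16372

/-- Let p be a prime, m ≥ 1 and R a commutative ring with p = 0 in R. A quasi-F-splitting of level m on
R is an additive map σ from the truncated Witt vectors W_m(R) to R with σ(1) = 1 and σ(F(x)·y) =
x₀·σ(y) for all x, y, where F raises every component to the p-th power and x₀ is the first
component. Then the image of ker σ under the shift V : W_m(R) → W_{m+1}(R) is an ideal of
W_{m+1}(R): it is stable under multiplication by arbitrary elements. (Stated for a ring; the source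
has a scheme over the prime field and its structure sheaf.) -/
theorem result
    (p : ℕ) [Fact p.Prime] (m : ℕ) (hm : 0 < m) (R : Type u) [CommRing R] (hp : (p : R) = 0)
    (σ : TruncatedWittVector p m R →+ R) (h1 : σ 1 = 1)
    (hF : ∀ x y : TruncatedWittVector p m R, σ (WittGrp.frob p m hp x * y) = x.coeff ⟨0, hm⟩ * σ y)
    (y : TruncatedWittVector p (m + 1) R) (x : TruncatedWittVector p m R) (hx : σ x = 0) :
    ∃ x' : TruncatedWittVector p m R, σ x' = 0 ∧
      y * WittGrp.shift p (Nat.le_succ m) x = WittGrp.shift p (Nat.le_succ m) x' := by
  haveI : Subsingleton R ∨ CharP R p := by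
    rcases subsingleton_or_nontrivial R with h | h
    · exact Or.inl h
    · exact Or.inr ((CharP.charP_iff_prime_eq_zero (Fact.out : p.Prime)).mpr hp)
  rcases this with hR | hR
  · haveI : Subsingleton (TruncatedWittVector p (m + 1) R) := ⟨fun a b => TruncatedWittVector.ext fun i => Subsingleton.elim _ _⟩
    exact ⟨x, hx, Subsingleton.elim _ _⟩
  obtain ⟨Y, rfl⟩ := WittVector.truncate_surjective p (m + 1) R y
  obtain ⟨X, rfl⟩ := WittVector.truncate_surjective p m R x
  refine ⟨WittVector.truncate m (WittVector.frobenius Y) * WittVector.truncate m X, ?_, ?_⟩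
  · rw [← WittGrp.frob_truncate p m hp Y, hF, hx, mul_zero]
  · rw [← map_mul (WittVector.truncate m), WittGrp.shift_truncate, WittGrp.shift_truncate, ← map_mul,
      show m.succ - m = 1 by omega, Function.iterate_one, mul_comm Y, mul_comm (WittVector.frobenius Y),
      WittVector.verschiebung_mul_frobenius]

end Groth.Agent.S16372
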