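import Groth.Statements.S16373
import Groth.Agent.FrobW.Witt

set_option autoImplicit false
universe u
open FrobAlg

namespace Groth.Agent.S16373

/-- Let p be a prime, m ≥ 1, R a commutative ring with p = 0 in R and σ : W_m(R) → R a quasi-F-splitting
of level m (additive, σ(1) = 1, σ(F(x)·y) = x₀·σ(y) with F the componentwise p-th power). Let I ⊆
W_{m+1}(R) be the ideal generated by the shifts V(x) of the x with σ(x) = 0, and Q = W_{m+1}(R)/I.
Then Q is a flat lifting of R modulo p²: an element of Q lies in pQ exactly when the first Witt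
component of a representative vanishes (so Q/pQ is R through the first component), and an element of
Q is killed by p exactly when it lies in pQ. (Stated for a ring; the source has a scheme over the
prime field. For m = 1 this is the lifting attached to a Frobenius splitting.) -/
theorem result
    (p : ℕ) [Fact p.Prime] (m : ℕ) (hm : 0 < m) (R : Type u) [CommRing R] (hp : (p : R) = 0)
    (σ : TruncatedWittVector p m R →+ R) (h1 : σ 1 = 1)
    (hF : ∀ x y : TruncatedWittVector p m R, σ (WittGrp.frob p m hp x * y) = x.coeff ⟨0, hm⟩ * σ y)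
    (I : Ideal (TruncatedWittVector p (m + 1) R))
    (hI : I = Ideal.span (WittGrp.shift p (Nat.le_succ m) '' {x : TruncatedWittVector p m R | σ x = 0})) :
    (∀ w : TruncatedWittVector p (m + 1) R,
        Ideal.Quotient.mk I w ∈ Ideal.span ({(p : TruncatedWittVector p (m + 1) R ⧸ I)} : Set _) ↔
          w.coeff 0 = 0) ∧
    (∀ q : TruncatedWittVector p (m + 1) R ⧸ I,
        (p : TruncatedWittVector p (m + 1) R ⧸ I) * q = 0 ↔
          q ∈ Ideal.span ({(p : TruncatedWittVector p (m + 1) R ⧸ I)} : Set _)) := by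
  set V := WittGrp.shift p (R := R) (Nat.le_succ m)
  have h0 : ∀ z, (Groth.Agent.FrobW.Witt.frobRestr hp z : TruncatedWittVector p m R) =
      WittGrp.frob p m hp (TruncatedWittVector.truncate (Nat.le_succ m) z) := fun z => rfl
  have hσ : ∀ z, σ (Groth.Agent.FrobW.Witt.frobRestr hp z) = z.coeff 0 := fun z => by
    have := hF (TruncatedWittVector.truncate (Nat.le_succ m) z) 1
    rw [mul_one, h1, mul_one] at this
    rw [h0, this, TruncatedWittVector.coeff_truncate]
    rfl
  have hσmul : ∀ z x, σ (Groth.Agent.FrobW.Witt.frobRestr hp z * x) = z.coeff 0 * σ x := fun z x => by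
    rw [h0, hF, TruncatedWittVector.coeff_truncate]
    rfl
  have hI' : ∀ w, w ∈ I → ∃ x, σ x = 0 ∧ V x = w := by
    intro w hw
    rw [hI] at hw
    induction hw using Submodule.span_induction with
    | mem w hw => obtain ⟨x, hx, rfl⟩ := hw; exact ⟨x, hx, rfl⟩
    | zero => exact ⟨0, map_zero _, map_zero _⟩
    | add a b _ _ ha hb =>
      obtain ⟨x, hx, rfl⟩ := ha
      obtain ⟨y, hy, rfl⟩ := hb
      exact ⟨x + y, by rw [map_add, hx, hy, add_zero], map_add _ _ _⟩
    | smul c a _ ha =>
      obtain ⟨x, hx, rfl⟩ := ha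
      exact ⟨_, by rw [hσmul, hx, mul_zero], (Groth.Agent.FrobW.Witt.mul_shift hp c x).symm⟩
  have hmem : ∀ x, V x ∈ I ↔ σ x = 0 := fun x => by
    refine ⟨fun h => ?_, fun h => hI ▸ Ideal.subset_span ⟨x, h, rfl⟩⟩
    obtain ⟨y, hy, he⟩ := hI' _ h
    rw [← Groth.Agent.FrobW.Witt.shift_injective he, hy]
  have h0I : ∀ w ∈ I, w.coeff 0 = 0 := fun w hw => by
    obtain ⟨x, -, rfl⟩ := hI' w hw
    exact Groth.Agent.FrobW.Witt.coeff_zero_shift x
  have hdiv : ∀ w : TruncatedWittVector p (m + 1) R,
      Ideal.Quotient.mk I w ∈ Ideal.span ({(p : TruncatedWittVector p (m + 1) R ⧸ I)} : Set _) ↔ w.coeff 0 = 0 := by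
    intro w
    rw [Ideal.mem_span_singleton']
    constructor
    · rintro ⟨q, hq⟩
      obtain ⟨z, rfl⟩ := Ideal.Quotient.mk_surjective q
      rw [← map_natCast (Ideal.Quotient.mk I), ← map_mul, Ideal.Quotient.eq, mul_comm,
        Groth.Agent.FrobW.Witt.natCast_mul hp] at hq
      obtain ⟨x, -, hx⟩ := hI' _ hq
      rw [eq_sub_iff_add_eq, ← eq_sub_iff_add_eq', ← map_sub] at hx
      rw [hx]
      exact Groth.Agent.FrobW.Witt.coeff_zero_shift _
    · intro hw
      obtain ⟨x, rfl⟩ := Groth.Agent.FrobW.Witt.exists_shift_eq hw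
      refine ⟨Ideal.Quotient.mk I (TruncatedWittVector.mk p fun _ => σ x), ?_⟩
      rw [← map_natCast (Ideal.Quotient.mk I), ← map_mul, Ideal.Quotient.eq, mul_comm,
        Groth.Agent.FrobW.Witt.natCast_mul hp, ← map_sub, hmem, map_sub, hσ, TruncatedWittVector.coeff_mk, sub_self]
  refine ⟨hdiv, fun q => ?_⟩
  obtain ⟨w, rfl⟩ := Ideal.Quotient.mk_surjective q
  rw [hdiv, ← map_natCast (Ideal.Quotient.mk I), ← map_mul, Ideal.Quotient.eq_zero_iff_mem,
    Groth.Agent.FrobW.Witt.natCast_mul hp, hmem, hσ]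

end Groth.Agent.S16373
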