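import Groth.Statements.S16374


set_option autoImplicit false
universe u v w
open FrobAlg

namespace Groth.Agent.S16374

/-- Let p be a prime, A a commutative ring, B and C commutative A-algebras with p² = 0 in B, and g : C →
B an A-algebra map such that every g(c) is congruent modulo p to an element of the A-subalgebra of B
generated by the p-th powers (g lifts a relative Frobenius). Then d(g(x)) = 0 in the module of
Kähler differentials of B over A for every x ∈ C that is congruent modulo p to an element of the
A-subalgebra of C generated by the p-th powers. (The source works with a lifting of the relative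
Frobenius of a smooth scheme over a ℤ/p²-thickening and the subsheaf of functions whose reduction
comes from the Frobenius twist; smoothness is not needed for this vanishing.) -/
theorem result
    (p : ℕ) [Fact p.Prime] (A : Type u) [CommRing A] (B : Type v) [CommRing B] [Algebra A B]
    (C : Type w) [CommRing C] [Algebra A C] (hp : (p : B) ^ 2 = 0)
    (g : C →ₐ[A] B)
    (hg : ∀ c : C, ∃ u ∈ Algebra.adjoin A (Set.range fun b : B => b ^ p),
      g c - u ∈ Ideal.span ({(p : B)} : Set B))
    (x y : C) (hy : y ∈ Algebra.adjoin A (Set.range fun c : C => c ^ p))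
    (hxy : x - y ∈ Ideal.span ({(p : C)} : Set C)) :
    KaehlerDifferential.D A B (g x) = 0 := by
  set d := KaehlerDifferential.D A B
  have hu : ∀ u ∈ Algebra.adjoin A (Set.range fun b : B => b ^ p), ∃ ω, d u = (p : B) • ω := by
    intro u hu
    induction hu using Algebra.adjoin_induction with
    | mem u hu =>
      obtain ⟨b, rfl⟩ := hu
      exact ⟨b ^ (p - 1) • d b, by rw [Derivation.leibniz_pow, Nat.cast_smul_eq_nsmul]⟩
    | algebraMap r => exact ⟨0, by rw [Derivation.map_algebraMap, smul_zero]⟩
    | add u v _ _ h1 h2 =>
      obtain ⟨a, ha⟩ := h1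
      obtain ⟨b, hb⟩ := h2
      exact ⟨a + b, by rw [map_add, ha, hb, smul_add]⟩
    | mul u v _ _ h1 h2 =>
      obtain ⟨a, ha⟩ := h1
      obtain ⟨b, hb⟩ := h2
      exact ⟨u • b + v • a, by rw [Derivation.leibniz, ha, hb, smul_add, smul_comm u, smul_comm v]⟩
  have hpd : ∀ w : B, d ((p : B) * w) = (p : B) • d w := fun w => by
    rw [← nsmul_eq_mul, map_nsmul, Nat.cast_smul_eq_nsmul]
  have hp' : ∀ c : C, (p : B) • d (g c) = 0 := by
    intro c
    obtain ⟨u, hu', hc⟩ := hg c
    obtain ⟨w, hw⟩ := Ideal.mem_span_singleton'.1 hc
    obtain ⟨ω, hω⟩ := hu u hu'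
    rw [show g c = u + (p : B) * w by rw [mul_comm, hw]; ring, map_add, hω, hpd, smul_add, smul_smul, smul_smul,
      ← pow_two, hp, zero_smul, zero_smul, add_zero]
  have hy0 : d (g y) = 0 := by
    clear hxy
    induction hy using Algebra.adjoin_induction with
    | mem u hu =>
      obtain ⟨c, rfl⟩ := hu
      change d (g (c ^ p)) = 0
      rw [map_pow, Derivation.leibniz_pow, ← Nat.cast_smul_eq_nsmul B, smul_comm, hp', smul_zero]
    | algebraMap r => rw [AlgHom.commutes, Derivation.map_algebraMap]
    | add u v _ _ h1 h2 =>
      change d (g (u + v)) = 0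
      rw [map_add, map_add, h1, h2, add_zero]
    | mul u v _ _ h1 h2 =>
      change d (g (u * v)) = 0
      rw [map_mul, Derivation.leibniz, h1, h2, smul_zero, smul_zero, add_zero]
  obtain ⟨t, ht⟩ := Ideal.mem_span_singleton'.1 hxy
  rw [show x = y + (p : C) * t by rw [mul_comm, ht]; ring, map_add, map_add, map_mul, map_natCast, hy0, hpd, hp', add_zero]

end Groth.Agent.S16374
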