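import Groth.Statements.S16375
import Groth.Agent.KFlat.ProjPerfect
import Groth.Agent.KFlat.PerfectTensor
import Groth.Agent.KFlat.RGamma

set_option autoImplicit false
universe u
open CategoryTheory CategoryTheory.Limits AlgebraicGeometry
attribute [local instance] HasDerivedCategory.standard
open FMK

namespace Groth.Agent.S16375


open Groth.Agent.KFlat Groth.Agent.KFlat.Pull Groth.Agent.KFlat.LTensor

/-- The derived tensor product only depends on the fixed complex up to quasi-isomorphism. -/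
noncomputable def ltResIso {S : Scheme.{u}} (E : CochainComplex S.Modules ℤ) [DCoh.HasLTensorCx E]
    [DCoh.HasLTensorCx ((resY S).obj E)] (Z : DCoh.D S) :
    (DCoh.LTensorCx E).obj Z ≅ (DCoh.LTensorCx ((resY S).obj E)).obj Z :=
  let W := DerivedCategory.Q.objPreimage Z
  let P := (resY S).obj W
  have := quasiIso_resYπ (Y := S) W
  let eZ : DerivedCategory.Q.obj P ≅ Z :=
    asIso (DerivedCategory.Q.map ((resYπ S).app W)) ≪≫ DerivedCategory.Q.objObjPreimageIso Z
  have : QuasiIso ((DCoh.tensorCx.obj P).map ((resYπ S).app E)) :=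
    quasiIso_tensorCx_map_right _ (isKFlat_resY W) ((resYπ S).app E) (hs := quasiIso_resYπ E)
  (DCoh.LTensorCx E).mapIso eZ.symm ≪≫
    @asIso _ _ _ _ ((toTensor E).app P) (isIso_toTensor E (isKFlat_resY W)) ≪≫
    (asIso (DerivedCategory.Q.map ((DCoh.tensorCx.obj P).map ((resYπ S).app E)))).symm ≪≫
    (@asIso _ _ _ _ ((toTensor ((resY S).obj E)).app P) (isIso_toTensor _ (isKFlat_resY W))).symm ≪≫
    (DCoh.LTensorCx ((resY S).obj E)).mapIso eZ

theorem isPerfect_res {S : Scheme.{u}} (E : CochainComplex S.Modules ℤ) (h : DCoh.IsPerfect (DCoh.toD S E)) :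
    DCoh.IsPerfect (DerivedCategory.Q.obj ((resY S).obj E)) := by
  have := quasiIso_resYπ (Y := S) E
  intro x
  obtain ⟨V, hV, hF⟩ := h x
  exact ⟨V, hV, fun F ⟨e⟩ => hF F ⟨e ≪≫ asIso (DerivedCategory.Q.map ((resYπ S).app E))⟩⟩

/-- One side of the formula as the global sections of a triple tensor product. -/
theorem side {S T Z : Scheme.{u}} (p : Z ⟶ S) (q : Z ⟶ T) (P : CochainComplex Z.Modules ℤ)
    [DCoh.HasLpull q] [DCoh.HasLTensorCx P] [DCoh.HasRpush p] [DCoh.HasRΓ S] [DCoh.HasRΓ Z]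
    (E : CochainComplex S.Modules ℤ) (hE : DCoh.IsPerfect (DCoh.toD S E)) [DCoh.HasLTensorCx E]
    (F : CochainComplex T.Modules ℤ) :
    Nonempty ((DCoh.RΓ S).obj ((DCoh.LTensorCx E).obj
        ((DCoh.Lpull q ⋙ DCoh.LTensorCx P ⋙ DCoh.Rpush p).obj (DCoh.toD T F))) ≅
      (DCoh.RΓ Z).obj (DerivedCategory.Q.obj ((DCoh.tensorCx.obj
        ((DCoh.tensorCx.obj ((pullCx q).obj ((resY T).obj F))).obj P)).obj
          ((pullCx p).obj ((resY S).obj E))))) := by
  let E₀ := (resY S).obj E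
  let F₀ := (resY T).obj F
  let A := (pullCx q).obj F₀
  let B := (pullCx p).obj E₀
  have hA : DCoh.IsKFlat A := isKFlat_pullCx q (isKFlat_resY F)
  have hB : DCoh.IsKFlat B := isKFlat_pullCx p (isKFlat_resY E)
  have := hasLTensorCx E₀
  have := hasLTensorCx B
  let M := (DCoh.LTensorCx P).obj ((DCoh.Lpull q).obj (DCoh.toD T F))
  obtain ⟨e⟩ := ProjPerfect.nonempty_iso p E₀ (isKFlat_resY E) (isPerfect_res E hE) M
  have := quasiIso_resYπ (Y := T) F
  let eM : M ≅ DerivedCategory.Q.obj ((DCoh.tensorCx.obj A).obj P) :=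
    (DCoh.LTensorCx P).mapIso ((DCoh.Lpull q).mapIso
        (asIso (DerivedCategory.Q.map ((resYπ T).app F))).symm ≪≫
      @asIso _ _ _ _ ((toPull q).app F₀) (isIso_toPull q (isKFlat_resY F))) ≪≫
    @asIso _ _ _ _ ((toTensor P).app A) (isIso_toTensor P hA)
  exact ⟨(DCoh.RΓ S).mapIso (ltResIso E _ ≪≫ e) ≪≫ (RPushBase.gammaRpushIso p).app _ ≪≫
    (DCoh.RΓ Z).mapIso ((DCoh.LTensorCx B).mapIso eM ≪≫
      @asIso _ _ _ _ ((toTensor B).app ((DCoh.tensorCx.obj A).obj P)) (isIso_toTensor_of_kflat B hB _))⟩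

/-- Reversal of a triple tensor product. -/
noncomputable def revIso {Z : Scheme.{u}} (A P B : CochainComplex Z.Modules ℤ) :
    (DCoh.tensorCx.obj ((DCoh.tensorCx.obj A).obj P)).obj B ≅
      (DCoh.tensorCx.obj ((DCoh.tensorCx.obj B).obj P)).obj A :=
  tensAssocIso Z.sheaf A P B ≪≫ PerfectTensor.flipIso A _ ≪≫
    (DCoh.tensorCx.mapIso (PerfectTensor.flipIso P B)).app A

/-- Let k be an algebraically closed field, X and Y schemes over k with structure morphisms a and b, and
P a cochain complex of modules on the fibre product X ×_k Y (no condition on P, X or Y). Write Φ_P =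
Rpr_{Y,*}(Lpr_X^*(−) ⊗^L P) : D(O_X) → D(O_Y) and Ψ_P = Rpr_{X,*}(Lpr_Y^*(−) ⊗^L P) : D(O_Y) →
D(O_X), the derived functors involved being assumed to exist. Let E be a cochain complex of
O_X-modules and F a cochain complex of O_Y-modules whose images in the derived categories are
perfect. Then RΓ(X, Ψ_P(F) ⊗^L E) and RΓ(Y, Φ_P(E) ⊗^L F) are isomorphic objects of D(Ab) (existence
of an isomorphism only; the published statement records the resulting isomorphisms H^i(X, E ⊗ Ψ_P F)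
≅ H^i(Y, Φ_P E ⊗ F) of hypercohomology groups for every i). -/
theorem result (k : Type u) [Field k] [IsAlgClosed k]
    (X Y : Scheme.{u}) (a : X ⟶ Spec (CommRingCat.of k)) (b : Y ⟶ Spec (CommRingCat.of k))
    (P : CochainComplex (pullback a b).Modules ℤ)
    [DCoh.HasLpull (pullback.fst a b)] [DCoh.HasLpull (pullback.snd a b)] [DCoh.HasLTensorCx P]
    [DCoh.HasRpush (pullback.fst a b)] [DCoh.HasRpush (pullback.snd a b)]
    [DCoh.HasRΓ X] [DCoh.HasRΓ Y]
    (E : CochainComplex X.Modules ℤ) (hE : DCoh.IsPerfect (DCoh.toD X E)) [DCoh.HasLTensorCx E]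
    (F : CochainComplex Y.Modules ℤ) (hF : DCoh.IsPerfect (DCoh.toD Y F)) [DCoh.HasLTensorCx F] :
    Nonempty ((DCoh.RΓ X).obj ((DCoh.LTensorCx E).obj
        ((DCoh.Lpull (pullback.snd a b) ⋙ DCoh.LTensorCx P ⋙ DCoh.Rpush (pullback.fst a b)).obj (DCoh.toD Y F))) ≅
      (DCoh.RΓ Y).obj ((DCoh.LTensorCx F).obj ((FMK.phi a b P).obj (DCoh.toD X E)))) := by
  have := RGamma.hasRΓ (X := pullback a b)
  obtain ⟨l⟩ := side (pullback.fst a b) (pullback.snd a b) P E hE F
  obtain ⟨r⟩ := side (pullback.snd a b) (pullback.fst a b) P F hF E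
  exact ⟨l ≪≫ (DCoh.RΓ _).mapIso (DerivedCategory.Q.mapIso (revIso _ _ _)) ≪≫ r.symm⟩

end Groth.Agent.S16375
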