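import Groth.Statements.S1638
import Mathlib.Algebra.Algebra.Subalgebra.Centralizer
import Mathlib.RingTheory.Flat.Basic
import Mathlib.LinearAlgebra.Dimension.Finite
import Mathlib.LinearAlgebra.Basis.VectorSpace


set_option autoImplicit false
universe u
open Brauer

namespace Groth.Agent.S1638

/-- Let A and A' be algebras over a field k with subalgebras B ⊆ A and B' ⊆ A' having centralizers C and
C'. Then the centralizer of the image of B ⊗ B' in A ⊗_k A' is the image of C ⊗_k C'. -/
theorem result (k : Type u) [Field k] (A A' : Type u) [Ring A] [Ring A'] [Algebra k A] [Algebra k A']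
    (B : Subalgebra k A) (B' : Subalgebra k A') :
    Subalgebra.centralizer k ((Algebra.TensorProduct.map B.val B'.val).range : Set (TensorProduct k A A')) =
      (Algebra.TensorProduct.map (Subalgebra.centralizer k (B : Set A)).val (Subalgebra.centralizer k (B' : Set A')).val).range := by
  set C := Subalgebra.centralizer k (B : Set A)
  set C' := Subalgebra.centralizer k (B' : Set A')
  refine le_antisymm (fun x hx => ?_) ?_
  · have hx' := (Subalgebra.mem_centralizer_iff k).1 hx
    have hmem : ∀ (b : B) (b' : B'),
        (b : A) ⊗ₜ[k] (b' : A') ∈ ((Algebra.TensorProduct.map B.val B'.val).range : Set (TensorProduct k A A')) :=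
      fun b b' => ⟨b ⊗ₜ b', rfl⟩
    have h1 : x ∈ Subalgebra.centralizer k (Algebra.TensorProduct.includeLeft (S := k) '' (B : Set A) : Set (TensorProduct k A A')) := by
      rw [Subalgebra.mem_centralizer_iff]
      rintro _ ⟨b, hb, rfl⟩
      exact hx' _ (hmem ⟨b, hb⟩ 1)
    rw [Subalgebra.centralizer_coe_image_includeLeft_eq_center_tensorProduct k A A'] at h1
    obtain ⟨y, rfl⟩ := h1
    set ι := Algebra.TensorProduct.map C.val (AlgHom.id k A')
    have hι : Function.Injective ι := Module.Flat.rTensor_preserves_injective_linearMap C.val.toLinearMap Subtype.val_injective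
    have h2 : y ∈ Subalgebra.centralizer k (Algebra.TensorProduct.includeRight '' (B' : Set A') : Set (TensorProduct k C A')) := by
      rw [Subalgebra.mem_centralizer_iff]
      rintro _ ⟨b', hb', rfl⟩
      refine hι ?_
      rw [map_mul, map_mul]
      exact hx' _ (hmem 1 ⟨b', hb'⟩)
    rw [Subalgebra.centralizer_coe_image_includeRight_eq_center_tensorProduct k C A'] at h2
    obtain ⟨z, rfl⟩ := h2
    refine ⟨z, ?_⟩
    clear hx hx'
    induction z using TensorProduct.induction_on with
    | zero => simp
    | add p q hp hq => simp only [map_add] at hp hq ⊢; rw [hp, hq]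
    | tmul c c' => rfl
  · rintro _ ⟨z, rfl⟩
    rw [Subalgebra.mem_centralizer_iff]
    rintro _ ⟨w, rfl⟩
    induction z using TensorProduct.induction_on with
    | zero => simp
    | add p q hp hq => simp only [AlgHom.toRingHom_eq_coe, RingHom.coe_coe, map_add] at hp hq ⊢; rw [mul_add, add_mul, hp, hq]
    | tmul c c' =>
        induction w using TensorProduct.induction_on with
        | zero => simp
        | add p q hp hq => simp only [AlgHom.toRingHom_eq_coe, RingHom.coe_coe, map_add] at hp hq ⊢; rw [mul_add, add_mul, hp, hq]
        | tmul b b' =>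
            simp only [AlgHom.toRingHom_eq_coe, RingHom.coe_coe, Algebra.TensorProduct.map_tmul,
              Algebra.TensorProduct.tmul_mul_tmul, Subalgebra.val_apply]
            rw [(Subalgebra.mem_centralizer_iff k).1 c.2 _ b.2, (Subalgebra.mem_centralizer_iff k).1 c'.2 _ b'.2]

end Groth.Agent.S1638
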