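import Groth.Statements.S16386
import Groth.Agent.AVFin12.Ops

set_option autoImplicit false
universe u
open CategoryTheory MonoidalCategory CartesianMonoidalCategory MonObj GrpObj AlgebraicGeometry
open AbVar

namespace Groth.Agent.S16386

/-- (c₁) ⇒ (a₁): let k be a finite field with q elements and fix a polynomial P with integer
coefficients. Work with abelian varieties over k (proper, geometrically integral commutative group
schemes over k) together with their q-Frobenius endomorphism π (the identity on points and the q-th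
power map on sections; a homomorphism) such that P(π) = 0 in the endomorphism ring; for P the
product of the minimal polynomials of a finite set w of Weil q-numbers these are exactly the abelian
varieties with Weil support in w. Let A be such an abelian variety and suppose that every such Z
admits finitely many homomorphisms ψ_1, …, ψ_n : Z → A which are jointly monomorphic (two T-valued
points of Z over k with the same image under every ψ_i are equal; equivalently (ψ_i) : Z → A^n is an
injective homomorphism). Then the functor X ↦ Hom(X, A), with values in left End(A)-modules (End(A)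
acting by postcomposition), is fully faithful on these abelian varieties: for such X and Y, two
homomorphisms f, g : X → Y inducing the same map Hom(Y, A) → Hom(X, A) are equal, and every additive
End(A)-linear map Hom(Y, A) → Hom(X, A) is precomposition with some homomorphism X → Y. -/
theorem result (k : Type u) [Field k] [Finite k]
    (P : Polynomial ℤ) (A : Over (Spec (CommRingCat.of k))) [GrpObj A] [IsCommMonObj A] [IsProper A.hom] [GeometricallyIntegral A.hom]
    (πA : A ⟶ A) [IsMonHom πA] (hπAb : πA.left.base = 𝟙 _)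
    (hπAle : ∀ U : A.left.Opens, U ≤ πA.left ⁻¹ᵁ U)
    (hπAapp : ∀ (U : A.left.Opens) (s : Γ(A.left, U)), (πA.left.appLE U U (hπAle U)).hom s = s ^ Nat.card k)
    (hPA : Polynomial.eval₂ (Int.castRingHom (EndAV.End A)) (EndAV.End.of πA) P = 0)
    (hcog : ∀ (Z : Over (Spec (CommRingCat.of k))) [GrpObj Z] [IsCommMonObj Z] [IsProper Z.hom] [GeometricallyIntegral Z.hom]
      (πZ : Z ⟶ Z) [IsMonHom πZ] (hπZb : πZ.left.base = 𝟙 _) (hπZle : ∀ U : Z.left.Opens, U ≤ πZ.left ⁻¹ᵁ U)
      (hπZapp : ∀ (U : Z.left.Opens) (s : Γ(Z.left, U)), (πZ.left.appLE U U (hπZle U)).hom s = s ^ Nat.card k)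
      (hPZ : Polynomial.eval₂ (Int.castRingHom (EndAV.End Z)) (EndAV.End.of πZ) P = 0),
      ∃ (n : ℕ) (ψ : Fin n → EndAV.Hom Z A), ∀ (T : Over (Spec (CommRingCat.of k))) (x y : T ⟶ Z),
        (∀ i, x ≫ (ψ i).toHom = y ≫ (ψ i).toHom) → x = y)
    (X Y : Over (Spec (CommRingCat.of k))) [GrpObj X] [IsCommMonObj X] [IsProper X.hom] [GeometricallyIntegral X.hom]
    [GrpObj Y] [IsCommMonObj Y] [IsProper Y.hom] [GeometricallyIntegral Y.hom]
    (πX : X ⟶ X) [IsMonHom πX] (hπXb : πX.left.base = 𝟙 _)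
    (hπXle : ∀ U : X.left.Opens, U ≤ πX.left ⁻¹ᵁ U)
    (hπXapp : ∀ (U : X.left.Opens) (s : Γ(X.left, U)), (πX.left.appLE U U (hπXle U)).hom s = s ^ Nat.card k)
    (hPX : Polynomial.eval₂ (Int.castRingHom (EndAV.End X)) (EndAV.End.of πX) P = 0)
    (πY : Y ⟶ Y) [IsMonHom πY] (hπYb : πY.left.base = 𝟙 _)
    (hπYle : ∀ U : Y.left.Opens, U ≤ πY.left ⁻¹ᵁ U)
    (hπYapp : ∀ (U : Y.left.Opens) (s : Γ(Y.left, U)), (πY.left.appLE U U (hπYle U)).hom s = s ^ Nat.card k)
    (hPY : Polynomial.eval₂ (Int.castRingHom (EndAV.End Y)) (EndAV.End.of πY) P = 0) :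
    (∀ f g : EndAV.Hom X Y, (∀ φ : EndAV.Hom Y A, f ≫ φ = g ≫ φ) → f = g) ∧
      (∀ g : EndAV.Hom Y A →+ EndAV.Hom X A,
        (∀ (φ : EndAV.Hom Y A) (s : EndAV.Hom A A), g (φ ≫ s) = g φ ≫ s) →
          ∃ f : EndAV.Hom X Y, ∀ φ : EndAV.Hom Y A, g φ = f ≫ φ) := by

  classical
  have hA : Groth.Agent.AVFin12.Good P A := Groth.Agent.AVFin12.good_of πA ⟨hπAb, hπAle, hπAapp⟩ hPA
  have hY : Groth.Agent.AVFin12.Good P Y := Groth.Agent.AVFin12.good_of πY ⟨hπYb, hπYle, hπYapp⟩ hPY
  obtain ⟨n, ψ, hψ⟩ := hcog Y πY hπYb hπYle hπYapp hPY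
  obtain ⟨F, hF, -⟩ := Groth.Agent.AVFin12.exists_isFr (k := k)
  have hfaith : ∀ f g : EndAV.Hom X Y, (∀ φ : EndAV.Hom Y A, f ≫ φ = g ≫ φ) → f = g := fun f g h =>
    EndAV.Hom.ext (hψ X _ _ fun i => congrArg EndAV.Hom.toHom (h (ψ i)))
  refine ⟨hfaith, fun g hg => ?_⟩
  have key : ∀ (m : ℕ) (χ : Fin m → EndAV.Hom Y A),
      (∀ (T : Over (Spec (CommRingCat.of k))) (a b : T ⟶ Y),
        (∀ i, a ≫ (χ i).toHom = b ≫ (χ i).toHom) → a = b) →
      ∃ f : EndAV.Hom X Y, ∀ i, g (χ i) = f ≫ χ i := by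
    intro m χ hχ
    obtain ⟨B, _, _, _, _, pr, hB, hext, hlift⟩ := Groth.Agent.AVFin12.exists_power A hA m
    obtain ⟨μY, hμY⟩ := hlift Y χ
    haveI : Mono μY.toHom := ⟨fun a b h => hχ _ a b fun i => by
      rw [← hμY i, EndAV.Hom.toHom_comp, ← Category.assoc, ← Category.assoc, h]⟩
    haveI : Mono μY.toHom.left := inferInstanceAs (Mono ((Over.forget _).map μY.toHom))
    haveI : IsProper μY.toHom.left := by
      haveI : IsProper (μY.toHom.left ≫ B.hom) := by rw [Over.w]; infer_instance
      exact IsProper.of_comp μY.toHom.left B.hom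
    haveI : IsClosedImmersion μY.toHom.left := by
      have : LocallyQuasiFinite μY.toHom.left := LocallyQuasiFinite.of_injective μY.toHom.left.injective
      exact (IsClosedImmersion.iff_isFinite_and_mono _).2
        ⟨IsFinite.of_isProper_of_locallyQuasiFinite _, inferInstance⟩
    obtain ⟨Q, _, _, _, _, q, hQ, hker, -⟩ := Groth.Agent.AVFin12.exists_quotient B hB μY.toHom
    haveI := (hF Q).isMonHom
    obtain ⟨hb, hle, happ⟩ := hF Q
    obtain ⟨l, φ, hφ⟩ := hcog Q (F Q) hb hle happ (hQ (F Q) (hF Q))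
    obtain ⟨x, hx⟩ := hlift X fun i => g (χ i)
    choose inj hinj using fun i => hlift A fun j => if i = j then (𝟙 _ : EndAV.Hom A A) else 0
    have hdec : (∑ i, pr i ≫ inj i) = (𝟙 _ : EndAV.Hom B B) := by
      refine EndAV.Hom.ext (hext B _ _ fun j => ?_)
      rw [← EndAV.Hom.toHom_comp, ← EndAV.Hom.toHom_comp]
      refine congrArg EndAV.Hom.toHom ?_
      rw [Preadditive.sum_comp, Category.id_comp, Finset.sum_eq_single j]
      · rw [Category.assoc, hinj, if_pos rfl, Category.comp_id]
      · intro i _ hne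
        rw [Category.assoc, hinj, if_neg hne, Limits.comp_zero]
      · simp
    have hx0 : x.toHom ≫ q.toHom = 1 := by
      refine hφ X _ _ fun j => ?_
      have h0 : μY ≫ q = 0 := EndAV.Hom.ext (Groth.Agent.GrpdLib.GrpOver.kernel_comp hker)
      have h : x ≫ q ≫ φ j = 0 := by
        calc x ≫ q ≫ φ j = x ≫ (∑ i, pr i ≫ inj i) ≫ q ≫ φ j := by rw [hdec, Category.id_comp]
          _ = ∑ i, g (χ i) ≫ (inj i ≫ q ≫ φ j) := by
            rw [Preadditive.sum_comp, Preadditive.comp_sum]
            exact Finset.sum_congr rfl fun i _ => by rw [← hx i]; simp only [Category.assoc]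
          _ = g (∑ i, χ i ≫ (inj i ≫ q ≫ φ j)) := by
            rw [map_sum]; exact Finset.sum_congr rfl fun i _ => (hg _ _).symm
          _ = g (μY ≫ (∑ i, pr i ≫ inj i) ≫ q ≫ φ j) := by
            congr 1
            rw [Preadditive.sum_comp, Preadditive.comp_sum]
            exact Finset.sum_congr rfl fun i _ => by rw [← hμY i]; simp only [Category.assoc]
          _ = 0 := by rw [hdec, Category.id_comp, ← Category.assoc, h0, Limits.zero_comp, map_zero]
      have h' := congrArg EndAV.Hom.toHom h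
      rw [EndAV.Hom.toHom_comp, EndAV.Hom.toHom_comp, EndAV.Hom.toHom_zero, ← Category.assoc] at h'
      rw [h', MonObj.one_comp]
    obtain ⟨f, hf⟩ := Groth.Agent.GrpdLib.GrpOver.kernel_factor hker x.toHom hx0
    haveI : IsMonHom f := by
      refine ⟨?_, ?_⟩
      · rw [← cancel_mono μY.toHom, Category.assoc, hf, IsMonHom.one_hom, IsMonHom.one_hom]
      · rw [← cancel_mono μY.toHom, Category.assoc, hf, IsMonHom.mul_hom, Category.assoc, IsMonHom.mul_hom,
          ← Category.assoc, MonoidalCategory.tensorHom_comp_tensorHom, hf]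
    refine ⟨EndAV.Hom.of f, fun i => ?_⟩
    rw [← hx i, ← hμY i, ← Category.assoc]
    congr 1
    exact EndAV.Hom.ext hf.symm
  obtain ⟨f, hf⟩ := key n ψ hψ
  refine ⟨f, fun φ => ?_⟩
  obtain ⟨f', hf'⟩ := key (n + 1) (Fin.cons φ ψ) fun T a b h => hψ T a b fun i => by
    simpa using h i.succ
  have e : f' = f := EndAV.Hom.ext (hψ X _ _ fun i => by
    have h1 := hf' i.succ
    simp only [Fin.cons_succ] at h1
    exact congrArg EndAV.Hom.toHom (h1.symm.trans (hf i)))
  have h0 := hf' 0
  simp only [Fin.cons_zero] at h0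
  rw [h0, e]

end Groth.Agent.S16386
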