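import Groth.Statements.S16387
import Groth.Agent.AbExt.TateBC

set_option autoImplicit false
universe u
open CategoryTheory MonoidalCategory CartesianMonoidalCategory MonObj GrpObj AlgebraicGeometry
open AbVar

namespace Groth.Agent.S16387

/-- Let k be a finite field with algebraic closure Ω, l a prime number invertible in k, and A, B abelian
varieties over k (proper, geometrically integral commutative group schemes over k). If the
homomorphism i : A → B is injective (a closed immersion), then the induced ℤ_l-linear map between
the l-adic Tate modules of Ω-points T_l(i) : T_l A → T_l B is injective with torsion-free, hence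
free, cokernel: the quotient of T_l B by the image of T_l A is a free ℤ_l-module. -/
theorem result (k Ω : Type u) [Field k] [Finite k]
    [Field Ω] [Algebra k Ω] [IsAlgClosure k Ω] (l : ℕ) [Fact l.Prime] (hl : (l : k) ≠ 0)
    (A B : Over (Spec (CommRingCat.of k))) [GrpObj A] [IsCommMonObj A] [IsProper A.hom] [GeometricallyIntegral A.hom]
    [GrpObj B] [IsCommMonObj B] [IsProper B.hom] [GeometricallyIntegral B.hom]
    (i : A ⟶ B) [IsMonHom i] [IsClosedImmersion i.left] :
    Function.Injective (AbDual.tateMapₗ (l := l) (T := SGA7.pt Ω) i) ∧
      Module.Free ℤ_[l] (AbDual.TateMod B l (SGA7.pt Ω) ⧸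
        LinearMap.range (AbDual.tateMapₗ (l := l) (T := SGA7.pt Ω) i)) := by
  open Groth.Agent.AbExt Limits in
  exact by
    have : IsAlgClosed Ω := IsAlgClosure.isAlgClosed k
    let T : Over (Spec (CommRingCat.of k)) := SGA7.pt Ω
    have : Mono i := Over.mono_of_mono_left _
    have hi : ∀ a b : T ⟶ A, a ≫ i = b ≫ i → a = b := fun a b h => (cancel_mono i).mp h
    let f := AbDual.tateMapₗ (A := A) (B := B) (l := l) (T := T) i
    have hinj : Function.Injective f := fun x y h => AbDual.TateMod.ext fun n =>
      hi _ _ (congrArg (fun z : AbDual.TateMod B l T => (AbDual.TateMod.component B l T n z).toMul) h)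
    refine ⟨hinj, ?_⟩
    -- division by `l` inside the image
    have hdiv : ∀ y : AbDual.TateMod B l T, l • y ∈ LinearMap.range f → y ∈ LinearMap.range f := by
      rintro y ⟨x, hx⟩
      have hc : ∀ n, Additive.ofMul (((x : ℕ → Additive (T ⟶ A)) (n + 1)).toMul ≫ i) =
          (y : ℕ → Additive (T ⟶ B)) n := fun n => by
        refine (congrArg (fun z : AbDual.TateMod B l T => AbDual.TateMod.component B l T (n + 1) z) hx).trans ?_
        rw [map_nsmul]
        exact y.compat n
      let x' : AbDual.TateMod A l T := ⟨fun n => (x : ℕ → Additive (T ⟶ A)) (n + 1), fun n => by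
          apply Additive.toMul.injective
          apply hi
          apply Additive.ofMul.injective
          rw [AbDual.nsmul_comp, hc, y.torsion n, toMul_zero, MonObj.one_comp, ofMul_one],
        fun n => x.compat (n + 1)⟩
      exact ⟨x', AbDual.TateMod.ext fun n => hc n⟩
    have hpow : ∀ (m : ℕ) (y : AbDual.TateMod B l T),
        ((l : ℤ_[l]) ^ m) • y ∈ LinearMap.range f → y ∈ LinearMap.range f := fun m => by
      induction m with
      | zero => intro y hy; simpa using hy
      | succ m ih =>
        intro y hy
        rw [pow_succ, mul_smul] at hy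
        exact hdiv y (by rw [← Nat.cast_smul_eq_nsmul ℤ_[l]]; exact ih _ hy)
    have := TateBC.finite_tateMod (Ω := Ω) B l hl
    have : Module.IsTorsionFree ℤ_[l] (AbDual.TateMod B l T ⧸ LinearMap.range f) := by
      refine ⟨fun r hr => ?_⟩
      have hr0 : r ≠ 0 := hr.ne_zero
      intro a b h
      induction a using Submodule.Quotient.induction_on with | _ a => ?_
      induction b using Submodule.Quotient.induction_on with | _ b => ?_
      have h' : r • (a - b) ∈ LinearMap.range f := by
        rw [smul_sub]; exact (Submodule.Quotient.eq _).mp h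
      refine (Submodule.Quotient.eq _).mpr (hpow r.valuation _ ?_)
      have h'' := Submodule.smul_mem _ (↑(PadicInt.unitCoeff hr0)⁻¹ : ℤ_[l]) h'
      conv at h'' => rw [← mul_smul]; arg 2; arg 1; arg 2; rw [PadicInt.unitCoeff_spec hr0]
      rwa [Units.inv_mul_cancel_left] at h''
    exact Module.free_of_finite_type_torsion_free'

end Groth.Agent.S16387
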