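import Groth.Statements.S16389
import Mathlib.GroupTheory.FiniteAbelian.Basic
import Groth.Agent.AbVarLib.HomBC

set_option autoImplicit false
universe u
open CategoryTheory MonoidalCategory CartesianMonoidalCategory MonObj GrpObj AlgebraicGeometry
open AbVar

namespace Groth.Agent.S16389

/-- (b) ⇒ (c₂): let k be a finite field with q elements and fix a polynomial P with integer
coefficients. Work with abelian varieties over k (proper, geometrically integral commutative group
schemes over k) together with their q-Frobenius endomorphism π (the identity on points, the q-th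
power map on sections; a homomorphism) such that P(π) = 0 in the endomorphism ring (for suitable P:
the abelian varieties with Weil support in a given finite set of Weil q-numbers), and let A be one
of them. Assume (b₁): for every such Z and every finite closed subgroup scheme H ⊆ Z, a T-valued
point of Z over k that is sent to the unit by every homomorphism Z → A killing H factors through H
(H is the common kernel of the homomorphisms vanishing on it); and (b₂): for every such Z and every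
additive subgroup M of Hom(Z, A) of finite index which is stable under postcomposition with
endomorphisms of A (an End(A)-submodule), a homomorphism f : Z → A belongs to M as soon as it kills
the common kernel of M, i.e. every T-valued point of Z sent to the unit by all members of M is sent
to the unit by f. Then (c₂) holds: for such X and Y and a homomorphism φ : X → Y which is a closed
immersion, every homomorphism X → A extends along φ to a homomorphism Y → A. -/
theorem result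
    (k : Type u) [Field k] [Finite k]
    (P : Polynomial ℤ) (A : Over (Spec (CommRingCat.of k))) [GrpObj A] [IsCommMonObj A] [IsProper A.hom] [GeometricallyIntegral A.hom]
    (πA : A ⟶ A) [IsMonHom πA] (hπAb : πA.left.base = 𝟙 _)
    (hπAle : ∀ U : A.left.Opens, U ≤ πA.left ⁻¹ᵁ U)
    (hπAapp : ∀ (U : A.left.Opens) (s : Γ(A.left, U)), (πA.left.appLE U U (hπAle U)).hom s = s ^ Nat.card k)
    (hPA : Polynomial.eval₂ (Int.castRingHom (EndAV.End A)) (EndAV.End.of πA) P = 0)
    (hb1 : ∀ (Z : Over (Spec (CommRingCat.of k))) [GrpObj Z] [IsCommMonObj Z] [IsProper Z.hom] [GeometricallyIntegral Z.hom]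
      (πZ : Z ⟶ Z) [IsMonHom πZ] (hπZb : πZ.left.base = 𝟙 _) (hπZle : ∀ U : Z.left.Opens, U ≤ πZ.left ⁻¹ᵁ U)
      (hπZapp : ∀ (U : Z.left.Opens) (s : Γ(Z.left, U)), (πZ.left.appLE U U (hπZle U)).hom s = s ^ Nat.card k)
      (hPZ : Polynomial.eval₂ (Int.castRingHom (EndAV.End Z)) (EndAV.End.of πZ) P = 0)
      (H : Over (Spec (CommRingCat.of k))) [GrpObj H] [IsFinite H.hom] (i : H ⟶ Z) [IsMonHom i] [IsClosedImmersion i.left]
      (T : Over (Spec (CommRingCat.of k))) (x : T ⟶ Z), (∀ r : EndAV.Hom Z A, i ≫ r.toHom = 1 → x ≫ r.toHom = 1) → ∃ y : T ⟶ H, y ≫ i = x)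
    (hrec : ∀ (Z : Over (Spec (CommRingCat.of k))) [GrpObj Z] [IsCommMonObj Z] [IsProper Z.hom] [GeometricallyIntegral Z.hom]
      (πZ : Z ⟶ Z) [IsMonHom πZ] (hπZb : πZ.left.base = 𝟙 _) (hπZle : ∀ U : Z.left.Opens, U ≤ πZ.left ⁻¹ᵁ U)
      (hπZapp : ∀ (U : Z.left.Opens) (s : Γ(Z.left, U)), (πZ.left.appLE U U (hπZle U)).hom s = s ^ Nat.card k)
      (hPZ : Polynomial.eval₂ (Int.castRingHom (EndAV.End Z)) (EndAV.End.of πZ) P = 0)
      (M : AddSubgroup (EndAV.Hom Z A)), M.FiniteIndex → (∀ r ∈ M, ∀ s : EndAV.Hom A A, r ≫ s ∈ M) →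
      ∀ f : EndAV.Hom Z A,
        (∀ (T : Over (Spec (CommRingCat.of k))) (x : T ⟶ Z), (∀ r ∈ M, x ≫ EndAV.Hom.toHom r = 1) →
          x ≫ f.toHom = 1) → f ∈ M)
    (X Y : Over (Spec (CommRingCat.of k))) [GrpObj X] [IsCommMonObj X] [IsProper X.hom] [GeometricallyIntegral X.hom]
    [GrpObj Y] [IsCommMonObj Y] [IsProper Y.hom] [GeometricallyIntegral Y.hom]
    (πX : X ⟶ X) [IsMonHom πX] (hπXb : πX.left.base = 𝟙 _)
    (hπXle : ∀ U : X.left.Opens, U ≤ πX.left ⁻¹ᵁ U)
    (hπXapp : ∀ (U : X.left.Opens) (s : Γ(X.left, U)), (πX.left.appLE U U (hπXle U)).hom s = s ^ Nat.card k)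
    (hPX : Polynomial.eval₂ (Int.castRingHom (EndAV.End X)) (EndAV.End.of πX) P = 0)
    (πY : Y ⟶ Y) [IsMonHom πY] (hπYb : πY.left.base = 𝟙 _)
    (hπYle : ∀ U : Y.left.Opens, U ≤ πY.left ⁻¹ᵁ U)
    (hπYapp : ∀ (U : Y.left.Opens) (s : Γ(Y.left, U)), (πY.left.appLE U U (hπYle U)).hom s = s ^ Nat.card k)
    (hPY : Polynomial.eval₂ (Int.castRingHom (EndAV.End Y)) (EndAV.End.of πY) P = 0)
    (φ : EndAV.Hom X Y) [IsClosedImmersion φ.toHom.left] (f : EndAV.Hom X A) :
    ∃ g : EndAV.Hom Y A, φ ≫ g = f := by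
  classical
  let R : AddSubgroup (EndAV.Hom X A) :=
    (AddMonoidHom.mk' (fun r : EndAV.Hom Y A => φ ≫ r) fun r s =>
      Preadditive.comp_add _ _ _ φ r s).range
  -- the restrictions have trivial common kernel
  have hker : ∀ (T : Over (Spec (CommRingCat.of k))) (x : T ⟶ X),
      (∀ r ∈ R, x ≫ EndAV.Hom.toHom r = 1) → x = 1 := by
    intro T x hx
    haveI : IsFinite (𝟙_ (Over (Spec (CommRingCat.of k)))).hom :=
      inferInstanceAs (IsFinite (𝟙 _))
    haveI : IsClosedImmersion (η[Y] : 𝟙_ (Over (Spec (CommRingCat.of k))) ⟶ Y).left := by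
      haveI : IsClosedImmersion ((η[Y] : 𝟙_ (Over (Spec (CommRingCat.of k))) ⟶ Y).left ≫ Y.hom) := by
        rw [Over.w (η[Y] : 𝟙_ (Over (Spec (CommRingCat.of k))) ⟶ Y)]
        show IsClosedImmersion (𝟙 _)
        infer_instance
      exact IsClosedImmersion.of_comp _ Y.hom
    haveI : IsMonHom (η[Y] : 𝟙_ (Over (Spec (CommRingCat.of k))) ⟶ Y) :=
      { one_hom := (congrArg (· ≫ η[Y]) (toUnit_unique η[𝟙_ (Over (Spec (CommRingCat.of k)))] (𝟙 _))).trans
          (Category.id_comp _)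
        mul_hom := by
          rw [MonObj.mul_eq_mul (M := Y), MonObj.comp_mul, tensorHom_fst, tensorHom_snd, MonObj.one_eq_one,
            MonObj.comp_one, MonObj.comp_one, MonObj.comp_one, _root_.mul_one] }
    obtain ⟨y, hy⟩ := hb1 Y πY hπYb hπYle hπYapp hPY (𝟙_ _) η[Y] T (x ≫ φ.toHom) fun r _ => by
      rw [Category.assoc, ← EndAV.Hom.toHom_comp]
      exact hx _ ⟨r, rfl⟩
    have h1 : x ≫ φ.toHom = (1 : T ⟶ X) ≫ φ.toHom := by
      rw [← hy, MonObj.one_eq_one, MonObj.comp_one, MonObj.one_comp]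
    have : Mono φ.toHom := (Over.forget _).mono_of_mono_map (inferInstanceAs (Mono φ.toHom.left))
    exact (cancel_mono φ.toHom).1 h1
  obtain ⟨gX, hgX⟩ := AbVarLib.HomBC.exists_dim X
  obtain ⟨gA, hgA⟩ := AbVarLib.HomBC.exists_dim A
  obtain ⟨hfree, hfin, -⟩ := AbVarLib.HomBC.free_finite_finrank hgX hgA
  have hR : ∀ r ∈ R, ∀ s : EndAV.Hom A A, r ≫ s ∈ R := by
    rintro _ ⟨r, rfl⟩ s
    exact ⟨r ≫ s, (Category.assoc φ r s).symm⟩
  -- hence `Hom(X, A) = R + n Hom(X, A)` for all `n ≥ 1`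
  have hdiv : ∀ n : ℕ, n ≠ 0 → ∀ r : EndAV.Hom X A, ∃ s, r - n • s ∈ R := by
    intro n hn r
    let M := R ⊔ (nsmulAddMonoidHom (α := EndAV.Hom X A) n).range
    have hfi : M.FiniteIndex := by
      haveI : Finite (EndAV.Hom X A ⧸ M) := by
        haveI : Module.Finite ℤ (EndAV.Hom X A ⧸ M) :=
          Module.Finite.of_surjective (QuotientAddGroup.mk' M).toIntLinearMap
            (QuotientAddGroup.mk'_surjective M)
        haveI : AddGroup.FG (EndAV.Hom X A ⧸ M) := Module.Finite.iff_addGroup_fg.mp inferInstance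
        refine AddCommGroup.finite_of_fg_isAddTorsion _ fun q => ?_
        obtain ⟨a, rfl⟩ := QuotientAddGroup.mk'_surjective M q
        refine isOfFinAddOrder_iff_nsmul_eq_zero.mpr ⟨n, Nat.pos_of_ne_zero hn, ?_⟩
        rw [← map_nsmul, QuotientAddGroup.mk'_apply, QuotientAddGroup.eq_zero_iff]
        exact AddSubgroup.mem_sup_right ⟨a, rfl⟩
      exact AddSubgroup.finiteIndex_of_finite_quotient
    have hMS : ∀ r ∈ M, ∀ s : EndAV.Hom A A, r ≫ s ∈ M := by
      intro r hr s
      obtain ⟨a, ha, _, ⟨b, rfl⟩, rfl⟩ := AddSubgroup.mem_sup.mp hr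
      rw [Preadditive.add_comp]
      exact add_mem (AddSubgroup.mem_sup_left (hR a ha s))
        (AddSubgroup.mem_sup_right ⟨b ≫ s, (Preadditive.nsmul_comp b s n).symm⟩)
    have hmem : r ∈ M := hrec X πX hπXb hπXle hπXapp hPX M hfi hMS r fun T x hx => by
      rw [hker T x fun t ht => hx t (AddSubgroup.mem_sup_left ht), MonObj.one_comp]
    obtain ⟨a, ha, _, ⟨b, rfl⟩, hab⟩ := AddSubgroup.mem_sup.mp hmem
    exact ⟨b, by rwa [← hab, nsmulAddMonoidHom_apply, add_sub_cancel_right]⟩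
  -- a finitely generated divisible group is trivial
  haveI : Module.Finite ℤ (EndAV.Hom X A ⧸ R) :=
    Module.Finite.of_surjective (QuotientAddGroup.mk' R).toIntLinearMap
      (QuotientAddGroup.mk'_surjective R)
  haveI : AddGroup.FG (EndAV.Hom X A ⧸ R) := Module.Finite.iff_addGroup_fg.mp inferInstance
  obtain ⟨m, J, _, p, hp, ex, ⟨E⟩⟩ := AddCommGroup.equiv_free_prod_directSum_zmod (EndAV.Hom X A ⧸ R)
  have hq : ∀ n : ℕ, n ≠ 0 → ∀ z : (Fin m →₀ ℤ) × DirectSum J (fun i => ZMod (p i ^ ex i)), ∃ w : (Fin m →₀ ℤ) × DirectSum J (fun i => ZMod (p i ^ ex i)), z = n • w := by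
    intro n hn z
    obtain ⟨q, rfl⟩ := E.surjective z
    obtain ⟨r, rfl⟩ := QuotientAddGroup.mk'_surjective R q
    obtain ⟨s, hs⟩ := hdiv n hn r
    refine ⟨E (QuotientAddGroup.mk' R s), ?_⟩
    rw [← map_nsmul, ← map_nsmul, QuotientAddGroup.mk'_apply, QuotientAddGroup.mk'_apply]
    refine congrArg E (QuotientAddGroup.eq_iff_sub_mem.mpr hs)
  have hzero : ∀ z : EndAV.Hom X A ⧸ R, E z = 0 := by
    intro z
    refine Prod.ext (Finsupp.ext fun i => ?_) (DFinsupp.ext fun i => ?_)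
    · obtain ⟨w, hw⟩ := hq (((E z).1 i).natAbs + 1) (by omega) (E z)
      by_contra hne
      have hdvd : ((((E z).1 i).natAbs + 1 : ℕ) : ℤ) ∣ (E z).1 i :=
        ⟨w.1 i, by conv_lhs => rw [hw]
                   simp [nsmul_eq_mul]⟩
      have hle := Nat.le_of_dvd (Int.natAbs_pos.mpr hne) (Int.natCast_dvd.mp hdvd)
      omega
    · obtain ⟨w, hw⟩ := hq (p i ^ ex i) (pow_ne_zero _ (hp i).ne_zero) (E z)
      rw [hw]
      show ((p i ^ ex i) • w.2 : DirectSum J fun i => ZMod (p i ^ ex i)) i = 0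
      rw [DFinsupp.smul_apply, nsmul_eq_mul, ZMod.natCast_self, zero_mul]
  have h0 : (QuotientAddGroup.mk' R) f = 0 := E.injective (by rw [hzero, map_zero])
  obtain ⟨g, hg⟩ := (QuotientAddGroup.eq_zero_iff f).mp h0
  exact ⟨g, hg⟩

end Groth.Agent.S16389
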