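import Groth.Statements.S8881
import Groth.Agent.NormFLF.OfAffine
import Groth.Agent.NormGen.Basic
import Mathlib.AlgebraicGeometry.FunctionField
import Mathlib.RingTheory.Norm.Transitivity
import Mathlib.RingTheory.Localization.Integral
import Mathlib.FieldTheory.Minpoly.IsIntegrallyClosed

set_option autoImplicit false
set_option linter.style.haveILetI false
universe u
open CategoryTheory CategoryTheory.Limits AlgebraicGeometry TopologicalSpace
open SDiv

namespace Groth.Agent.S8881

open IntermediateField Polynomial Module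

theorem exists_norm_dvd {A B K L : Type u} [CommRing A] [IsDomain A] [IsIntegrallyClosed A] [CommRing B]
    [Field K] [Field L] [Algebra A B] [Algebra A K] [IsFractionRing A K] [Algebra K L] [Algebra A L]
    [Algebra B L] [IsScalarTower A K L] [IsScalarTower A B L] [FiniteDimensional K L]
    [Algebra.IsIntegral A B] (hBL : Function.Injective (algebraMap B L)) (b : B) :
    ∃ t : A, algebraMap A K t = Algebra.norm K (algebraMap B L b) ∧ b ∣ algebraMap A B t := by
  let x := algebraMap B L b
  have hb : IsIntegral A b := Algebra.IsIntegral.isIntegral b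
  have hxA : IsIntegral A x := hb.algebraMap
  have hxK : IsIntegral K x := IsIntegral.of_finite K x
  have hmin : minpoly K x = (minpoly A b).map (algebraMap A K) := by
    rw [minpoly.isIntegrallyClosed_eq_field_fractions' K hxA, minpoly.algebraMap_eq hBL]
  let m := finrank K⟮x⟯ L
  refine ⟨((-1) ^ (minpoly K x).natDegree * (minpoly A b).coeff 0) ^ m, ?_, ?_⟩
  · rw [Algebra.norm_eq_norm_adjoin K x, map_pow]
    congr 1
    have h := Algebra.PowerBasis.norm_gen_eq_coeff_zero_minpoly (IntermediateField.adjoin.powerBasis hxK)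
    rw [IntermediateField.adjoin.powerBasis_gen, IntermediateField.adjoin.powerBasis_dim,
      IntermediateField.minpoly_gen] at h
    refine Eq.trans ?_ h.symm
    rw [map_mul, map_pow, map_neg, map_one, ← coeff_map, hmin]
  · haveI : FiniteDimensional K⟮x⟯ L := FiniteDimensional.right K K⟮x⟯ L
    refine dvd_trans ?_ (map_dvd (algebraMap A B) (dvd_pow (dvd_mul_left _ _) finrank_pos.ne'))
    refine ⟨-aeval b (minpoly A b).divX, ?_⟩
    have h := minpoly.aeval A b
    rw [← X_mul_divX_add (minpoly A b), map_add, map_mul, aeval_X, aeval_C] at h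
    linear_combination h

variable {X Y : Scheme.{u}} (π : X ⟶ Y) [IsFinite π] [Surjective π] [IsIntegral X] [IsIntegral Y]

omit [IsFinite π] in
theorem apply_genericPoint_specializes : π (genericPoint X) ⤳ genericPoint Y := by
  obtain ⟨x, hx⟩ := π.surjective (genericPoint Y)
  rw [← hx]
  exact ((genericPoint_spec X).specializes trivial).map π.continuous

/-- The map of function fields. -/
noncomputable def φ : Y.functionField ⟶ X.functionField :=
  Y.presheaf.stalkSpecializes (apply_genericPoint_specializes π) ≫ π.stalkMap (genericPoint X)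

omit [IsFinite π] in
theorem germ_φ (W : Y.Opens) (hy : genericPoint Y ∈ W) (hx : genericPoint X ∈ π ⁻¹ᵁ W) (g : Γ(Y, W)) :
    φ π (Y.presheaf.germ W _ hy g) = X.presheaf.germ (π ⁻¹ᵁ W) _ hx (π.app W g) := by
  rw [φ, CommRingCat.comp_apply]
  erw [TopCat.Presheaf.germ_stalkSpecializes_apply, Scheme.Hom.germ_stalkMap_apply]

omit [IsFinite π] [Surjective π] [IsIntegral X] in
theorem generic_mem {W : Y.Opens} (h : Nonempty W) : genericPoint Y ∈ W :=
  ((genericPoint_spec Y).mem_open_set_iff W.isOpen).mpr (by simpa using h)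

omit [IsFinite π] in
theorem generic_mem' {W : Y.Opens} (h : Nonempty W) : genericPoint X ∈ π ⁻¹ᵁ W :=
  (apply_genericPoint_specializes π).mem_open W.isOpen (generic_mem h)

open scoped Classical in
theorem finite_functionField : letI := (φ π).hom.toAlgebra; FiniteDimensional Y.functionField X.functionField := by
  letI := (φ π).hom.toAlgebra
  obtain ⟨W, hW, hy, -⟩ :=
    exists_isAffineOpen_mem_and_subset (U := (⊤ : Y.Opens)) (x := genericPoint Y) trivial
  haveI : Nonempty W := ⟨⟨_, hy⟩⟩
  have hx : genericPoint X ∈ π ⁻¹ᵁ W := generic_mem' π inferInstance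
  haveI : Nonempty (π ⁻¹ᵁ W : X.Opens) := ⟨⟨_, hx⟩⟩
  letI := (π.app W).hom.toAlgebra
  letI : Algebra Γ(Y, W) X.functionField := ((φ π).hom.comp (algebraMap Γ(Y, W) Y.functionField)).toAlgebra
  haveI : IsScalarTower Γ(Y, W) Y.functionField X.functionField := .of_algebraMap_eq' rfl
  haveI : IsScalarTower Γ(Y, W) Γ(X, π ⁻¹ᵁ W) X.functionField := .of_algebraMap_eq fun g => germ_φ π W hy hx g
  haveI : Module.Finite Γ(Y, W) Γ(X, π ⁻¹ᵁ W) := π.finite_app W hW
  haveI := functionField_isFractionRing_of_isAffineOpen X (π ⁻¹ᵁ W) (hW.preimage π)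
  obtain ⟨S, hS⟩ := Module.Finite.fg_top (R := Γ(Y, W)) (M := Γ(X, π ⁻¹ᵁ W))
  have h := IsFractionRing.ideal_span_singleton_map_subset (K := Y.functionField) Γ(Y, W)
    (L := X.functionField) (a := (1 : Γ(X, π ⁻¹ᵁ W))) (b := (S : Set Γ(X, π ⁻¹ᵁ W)))
    ((φ π).hom.injective.comp (Scheme.germToFunctionField_injective Y W))
    (by rw [hS]; exact fun _ _ => trivial)
  exact ⟨⟨(S.image (algebraMap Γ(X, π ⁻¹ᵁ W) X.functionField)), top_unique fun z _ => by
    rw [Finset.coe_image]
    exact h (by rw [map_one, Ideal.span_singleton_one]; trivial)⟩⟩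

theorem exists_norm (hY : Pi1.IsNormalScheme Y) (W : Y.Opens) (hW : IsAffineOpen W) (s : Γ(X, π ⁻¹ᵁ W)) :
    ∃ t : Γ(Y, W), (∀ h : Nonempty W, Y.presheaf.germ W _ (generic_mem h) t =
      (letI := (φ π).hom.toAlgebra
       Algebra.norm Y.functionField
        (X.presheaf.germ (π ⁻¹ᵁ W) _ (generic_mem' π h) s : X.functionField))) ∧
      s ∣ π.app W t := by
  by_cases hne : Nonempty W
  · letI := (φ π).hom.toAlgebra
    have hx : genericPoint X ∈ π ⁻¹ᵁ W := generic_mem' π hne
    haveI : Nonempty (π ⁻¹ᵁ W : X.Opens) := ⟨⟨_, hx⟩⟩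
    letI := (π.app W).hom.toAlgebra
    letI : Algebra Γ(Y, W) X.functionField := ((φ π).hom.comp (algebraMap Γ(Y, W) Y.functionField)).toAlgebra
    haveI : IsScalarTower Γ(Y, W) Y.functionField X.functionField := .of_algebraMap_eq' rfl
    haveI : IsScalarTower Γ(Y, W) Γ(X, π ⁻¹ᵁ W) X.functionField :=
      .of_algebraMap_eq fun g => germ_φ π W (generic_mem hne) hx g
    haveI : Module.Finite Γ(Y, W) Γ(X, π ⁻¹ᵁ W) := π.finite_app W hW
    haveI := functionField_isFractionRing_of_isAffineOpen Y W hW
    haveI := finite_functionField π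
    haveI : IsIntegrallyClosed Γ(Y, W) := NormGen.Basic.isIntegrallyClosed_sections (fun y => (hY y).2) W
    obtain ⟨t, h1, h2⟩ := exists_norm_dvd (A := Γ(Y, W)) (K := Y.functionField) (L := X.functionField)
      (Scheme.germToFunctionField_injective X (π ⁻¹ᵁ W)) s
    exact ⟨t, fun _ => h1, h2⟩
  · refine ⟨0, fun h => absurd h hne, ?_⟩
    rw [map_zero]; exact dvd_zero s

/-- If π : X ⟶ Y is finite and surjective, X and Y are integral, and Y is normal, then π carries a norm
of some degree d ≥ 1. The published statement takes d to be the degree of the function field of X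
over that of Y; this row asserts only that a norm of some degree exists. -/
theorem result {X Y : Scheme.{u}} (π : X ⟶ Y) [IsFinite π] [Surjective π]
    [IsIntegral X] [IsIntegral Y] (hY : Pi1.IsNormalScheme Y) : ∃ d : ℕ, Nrm.HasNorm π d := by
  letI := (φ π).hom.toAlgebra
  haveI := finite_functionField π
  let d := finrank Y.functionField X.functionField
  have hsub : ∀ W : Y.Opens, ¬ Nonempty W → Subsingleton Γ(Y, W) := fun W h => by
    rw [show W = ⊥ from Opens.ext (Set.eq_empty_iff_forall_notMem.2 fun y hy => h ⟨⟨y, hy⟩⟩)]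
    exact CommRingCat.subsingleton_of_isTerminal (TopCat.Sheaf.isTerminalOfEmpty Y.sheaf)
  have hext : ∀ (W : Y.Opens) (t t' : Γ(Y, W)),
      (∀ h : Nonempty W, Y.presheaf.germ W _ (generic_mem h) t = Y.presheaf.germ W _ (generic_mem h) t') →
      t = t' := fun W t t' h => by
    by_cases hne : Nonempty W
    · exact germ_injective_of_isIntegral Y _ (generic_mem hne) (h hne)
    · haveI := hsub W hne; exact Subsingleton.elim _ _
  let N : ∀ W : Y.Opens, IsAffineOpen W → (Γ(X, π ⁻¹ᵁ W) →* Γ(Y, W)) := fun W hW =>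
    { toFun := fun s => (exists_norm π hY W hW s).choose
      map_one' := hext W _ _ fun h => by
        rw [(exists_norm π hY W hW 1).choose_spec.1 h]
        simp only [map_one]
      map_mul' := fun s t => hext W _ _ fun h => by
        rw [(exists_norm π hY W hW (s * t)).choose_spec.1 h]
        simp only [map_mul]
        rw [(exists_norm π hY W hW s).choose_spec.1 h, (exists_norm π hY W hW t).choose_spec.1 h] }
  refine ⟨d, NormFLF.OfAffine.hasNorm_of_affine π N ?_ finrank_pos ?_ ?_⟩
  · intro W W' hW hW' i s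
    refine hext W' _ _ fun h => ?_
    have h' : Nonempty W := ⟨⟨h.some.1, i.le h.some.2⟩⟩
    erw [TopCat.Presheaf.germ_res_apply, (exists_norm π hY W hW s).choose_spec.1 h',
      (exists_norm π hY W' hW' _).choose_spec.1 h, TopCat.Presheaf.germ_res_apply]
  · intro W hW g
    refine hext W _ _ fun h => ?_
    erw [(exists_norm π hY W hW _).choose_spec.1 h, ← germ_φ π W (generic_mem h), map_pow]
    exact Algebra.norm_algebraMap _
  · intro W hW s x hx hs
    obtain ⟨c, hc⟩ := (exists_norm π hY W hW s).choose_spec.2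
    rw [IsLocalRing.mem_maximalIdeal, mem_nonunits_iff] at hs ⊢
    intro hu
    apply hs
    have h2 := hu.map (π.stalkMap x).hom
    erw [Scheme.Hom.germ_stalkMap_apply, hc, map_mul] at h2
    exact isUnit_of_mul_isUnit_left h2

end Groth.Agent.S8881
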