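import Groth.Statements.S1639
import Groth.Agent.S8879
import Groth.Agent.S8881
import Groth.Agent.S16188
import Groth.Agent.AmpleLib.Functorial
import Groth.Agent.AmpleFam.Pullback

set_option autoImplicit false
universe u
open CategoryTheory CategoryTheory.Limits AlgebraicGeometry
open Divisors

namespace Groth.Agent.S1639

/-- Let π : X → Y be finite and surjective, with Y integral and normal. If X has an ample invertible
module then so does Y. -/
theorem result {X Y : Scheme.{u}} (π : X ⟶ Y) [IsFinite π] [Surjective π]
    [IsIntegral Y] (hY : Pi1.IsNormalScheme Y) (L : X.Modules) (hL : CohB1.IsAmple L) :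
    ∃ M : Y.Modules, CohB1.IsAmple M := by
  obtain ⟨x, hx⟩ := π.surjective (genericPoint Y)
  let Z : TopologicalSpace.Closeds X := ⟨closure {x}, isClosed_closure⟩
  let ι := (Scheme.IdealSheafData.vanishingIdeal Z).subschemeι
  haveI : IsIntegral (Scheme.IdealSheafData.vanishingIdeal Z).subscheme :=
    Groth.Agent.S16188.isIntegral_subscheme Z isIrreducible_singleton.closure
  haveI : Surjective (ι ≫ π) := by
    refine ⟨fun y => ?_⟩
    have hc : IsClosed (π '' (closure {x} : Set X)) := π.isClosedMap _ isClosed_closure
    have hy : y ∈ π '' (closure {x} : Set X) :=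
      hc.closure_subset_iff.mpr (Set.singleton_subset_iff.mpr ⟨x, subset_closure rfl, hx⟩)
        ((genericPoint_spec Y).specializes trivial).mem_closure
    obtain ⟨z, hz, hzy⟩ := hy
    have hz' : z ∈ Set.range ι := by
      rw [Scheme.IdealSheafData.range_subschemeι, Scheme.IdealSheafData.coe_support_vanishingIdeal]
      exact hz
    obtain ⟨w, hw⟩ := hz'
    exact ⟨w, by rw [Scheme.Hom.comp_apply, hw, hzy]⟩
  obtain ⟨d, hd⟩ := Groth.Agent.S8881.result (ι ≫ π) hY
  exact Groth.Agent.S8879.result (ι ≫ π) d hd _ (Groth.Agent.AmpleLib.isAmple_pullback_of_qaMor ι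
    (Groth.Agent.AmpleFam.Pullback.qaMor_of_isAffineHom ι) hL)

end Groth.Agent.S1639
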