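import Groth.Statements.S16390
import Mathlib

set_option autoImplicit false
open AbVar

namespace Groth.Agent.S16390

/-- Let p be a prime number, r > 2 and q = p^r. The polynomial x² − p x + q is irreducible over ℚ, each
of its complex roots has absolute value √q (so its roots are Weil q-numbers), and it has two
distinct roots in ℚ_p, of p-adic valuations 1 and r − 1. The published lemma also computes the index
of the endomorphism algebra of the simple abelian variety attached to a root; this row does not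
state that part. -/
theorem result (p r : ℕ) [Fact p.Prime] (hr : 2 < r) :
    Irreducible (Polynomial.X ^ 2 - Polynomial.C (p : ℚ) * Polynomial.X + Polynomial.C ((p : ℚ) ^ r)) ∧
      (∀ π : ℂ, π ^ 2 - (p : ℂ) * π + (p : ℂ) ^ r = 0 → ‖π‖ = Real.sqrt ((p : ℝ) ^ r)) ∧
      ∃ a b : ℚ_[p], a ≠ b ∧ a ^ 2 - (p : ℚ_[p]) * a + (p : ℚ_[p]) ^ r = 0 ∧
        b ^ 2 - (p : ℚ_[p]) * b + (p : ℚ_[p]) ^ r = 0 ∧ a.valuation = 1 ∧ b.valuation = (r : ℤ) - 1 := by
  have hp : p.Prime := Fact.out
  have hp0 : (0 : ℝ) < p := by exact_mod_cast hp.pos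
  have hdisc : (p : ℝ) ^ 2 < 4 * (p : ℝ) ^ r := by
    have : (p : ℝ) ^ 2 ≤ (p : ℝ) ^ r := pow_le_pow_right₀ (by exact_mod_cast hp.one_le) hr.le
    nlinarith [pow_pos hp0 r]
  have hnoreal : ∀ x : ℝ, x ^ 2 - p * x + (p : ℝ) ^ r ≠ 0 := fun x hx => by
    nlinarith [sq_nonneg (2 * x - p)]
  refine ⟨?_, ?_, ?_⟩
  · have hmon : (Polynomial.X ^ 2 - Polynomial.C (p : ℚ) * Polynomial.X + Polynomial.C ((p : ℚ) ^ r)).Monic := by
      monicity!
    have hdeg : (Polynomial.X ^ 2 - Polynomial.C (p : ℚ) * Polynomial.X + Polynomial.C ((p : ℚ) ^ r)).natDegree = 2 := by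
      compute_degree!
    rw [hmon.irreducible_iff_roots_eq_zero_of_degree_le_three hdeg.ge (by omega)]
    refine Multiset.eq_zero_of_forall_notMem (fun q hq => ?_)
    have h := (Polynomial.mem_roots'.mp hq).2
    simp only [Polynomial.IsRoot.def, Polynomial.eval_add, Polynomial.eval_sub, Polynomial.eval_pow,
      Polynomial.eval_X, Polynomial.eval_mul, Polynomial.eval_C] at h
    apply hnoreal (q : ℝ)
    have := congrArg (fun t : ℚ => (t : ℝ)) h
    push_cast at this
    simpa using this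
  · intro π hπ
    have hre := congrArg Complex.re hπ
    have him := congrArg Complex.im hπ
    simp [pow_two] at hre him
    have hpim : ((p : ℂ) ^ r).im = 0 := by
      rw [← Complex.ofReal_natCast, ← Complex.ofReal_pow, Complex.ofReal_im]
    have hpre : ((p : ℂ) ^ r).re = (p : ℝ) ^ r := by
      rw [← Complex.ofReal_natCast, ← Complex.ofReal_pow, Complex.ofReal_re]
    rw [hpre] at hre
    rw [hpim] at him
    have hi0 : π.im ≠ 0 := fun h0 => hnoreal π.re (by rw [h0] at hre; linarith [sq π.re])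
    have h2 : 2 * π.re = p := mul_left_cancel₀ hi0 (by linarith)
    have h3 : Complex.normSq π = (p : ℝ) ^ r := by
      rw [Complex.normSq_apply]
      nlinarith
    rw [Complex.norm_def, h3]
  · let F : Polynomial ℤ_[p] := Polynomial.X ^ 2 - Polynomial.X + Polynomial.C ((p : ℤ_[p]) ^ (r - 2))
    have hF0 : Polynomial.aeval (0 : ℤ_[p]) F = (p : ℤ_[p]) ^ (r - 2) := by simp [F]
    have hF'0 : Polynomial.aeval (0 : ℤ_[p]) (Polynomial.derivative F) = -1 := by simp [F, Polynomial.derivative_pow]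
    have hlt : ‖(p : ℤ_[p]) ^ (r - 2)‖ < 1 := by
      rw [norm_pow]
      exact pow_lt_one₀ (norm_nonneg _) (by rw [PadicInt.norm_p]; exact inv_lt_one_of_one_lt₀ (by exact_mod_cast hp.one_lt)) (by omega)
    obtain ⟨z, hz, hz0, -, -⟩ := hensels_lemma (F := F) (a := (0 : ℤ_[p]))
      (by rw [hF0, hF'0, norm_neg, norm_one, one_pow]; exact hlt)
    rw [hF'0, norm_neg, norm_one, sub_zero] at hz0
    simp [F] at hz
    have hzq : (z : ℚ_[p]) ^ 2 - z + (p : ℚ_[p]) ^ (r - 2) = 0 := by
      have := congrArg (fun t : ℤ_[p] => (t : ℚ_[p])) hz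
      simpa using this
    have hp0' : (p : ℚ_[p]) ≠ 0 := by exact_mod_cast hp.ne_zero
    have hzprod : (z : ℚ_[p]) * (1 - z) = (p : ℚ_[p]) ^ (r - 2) := by linear_combination (-1 : ℚ_[p]) * hzq
    have hzn : ‖(z : ℚ_[p])‖ < 1 := hz0
    have h1z : ‖(1 : ℚ_[p]) - z‖ = 1 := by
      rw [sub_eq_add_neg, IsUltrametricDist.norm_add_eq_max_of_norm_ne_norm]
      · rw [norm_neg, norm_one, max_eq_left hzn.le]
      · rw [norm_neg, norm_one]; exact hzn.ne'
    have h1z0 : (1 : ℚ_[p]) - z ≠ 0 := by intro h; rw [h, norm_zero] at h1z; exact zero_ne_one h1z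
    have hzne : (z : ℚ_[p]) ≠ 0 := by
      intro h; rw [h, zero_mul] at hzprod; exact pow_ne_zero _ hp0' hzprod.symm
    have hv1 : ((1 : ℚ_[p]) - z).valuation = 0 := by
      have h := Padic.norm_eq_zpow_neg_valuation h1z0
      rw [h1z] at h
      have h' := (zpow_eq_one_iff_right₀ (a := (p : ℝ)) hp0.le (by exact_mod_cast hp.ne_one)).mp h.symm
      omega
    have hvz : (z : ℚ_[p]).valuation = (r : ℤ) - 2 := by
      have h := congrArg Padic.valuation hzprod
      rw [Padic.valuation_mul hzne h1z0, hv1, Padic.valuation_pow, Padic.valuation_natCast] at h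
      rw [padicValNat.self hp.one_lt] at h
      simp only [Nat.cast_one, nsmul_eq_mul, mul_one, add_zero, Nat.cast_sub hr.le, Nat.cast_ofNat] at h
      linarith
    have hpow : (p : ℚ_[p]) ^ r = (p : ℚ_[p]) ^ 2 * (p : ℚ_[p]) ^ (r - 2) := by
      rw [← pow_add]; congr 1; omega
    refine ⟨p * (1 - z), p * z, ?_, ?_, ?_, ?_, ?_⟩
    · intro h
      have h' := mul_left_cancel₀ hp0' h
      have : ‖(1 : ℚ_[p]) - z‖ = ‖(z : ℚ_[p])‖ := by rw [h']
      rw [h1z] at this
      exact hzn.ne this.symm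
    · rw [hpow]; linear_combination ((p : ℚ_[p]) ^ 2) * hzq
    · rw [hpow]; linear_combination ((p : ℚ_[p]) ^ 2) * hzq
    · rw [Padic.valuation_mul hp0' h1z0, hv1, Padic.valuation_natCast]
      simp [padicValNat.self hp.one_lt]
    · rw [Padic.valuation_mul hp0' hzne, hvz, Padic.valuation_natCast]
      simp [padicValNat.self hp.one_lt]
      omega

end Groth.Agent.S16390
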