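import Groth.Statements.S16391
import Groth.Agent.AVFin12.Ops
import Groth.Agent.FBase.BC
import Groth.Agent.GrpScheme.RedIdComponent
import Groth.Agent.GrpScheme.Component
import Groth.Agent.GrpScheme.AffineHom
import Groth.Agent.GrpScheme.HomFlat
import Groth.Agent.AbVarLib.Basics
import Groth.Agent.AbVarLib.HomBC
import Groth.Agent.S7782
import Mathlib.FieldTheory.Perfect

set_option autoImplicit false
universe u
open CategoryTheory MonoidalCategory CartesianMonoidalCategory MonObj GrpObj AlgebraicGeometry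
open AbVar

namespace Groth.Agent.S16391

open Limits
open Groth.Agent.GrpScheme.IdComponent (e₀ zObj zι)

variable {k : Type u} [Field k]

local notation "Sk" => Spec (CommRingCat.of k)

/-- A proper commutative quotient by a closed subgroup. -/
theorem exists_quot (K : Over Sk) [GrpObj K] [IsCommMonObj K] [IsProper K.hom] {R : Over Sk} [GrpObj R]
    (r : R ⟶ K) [IsMonHom r] [IsClosedImmersion r.left] :
    ∃ (Q : Over Sk) (_ : GrpObj Q) (_ : IsCommMonObj Q) (p : K ⟶ Q),
      IsMonHom p ∧ AlgGrp.IsKernel r p ∧ IsProper Q.hom ∧ Flat p.left ∧ Surjective p.left ∧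
        LocallyOfFinitePresentation p.left := by
  haveI : Mono r := Over.mono_of_mono_left r
  haveI : LocallyOfFiniteType R.hom := by
    rw [← Over.w r]; infer_instance
  obtain ⟨Q, p, hf, hs, hp, hsq⟩ := GrpQuot19.Field.exists_quotient_of_closedSubgroup (G := K) r
  haveI := hf; haveI := hs; haveI := hp
  have hrel : ∀ {T : Over Sk} (x y : T ⟶ K), x ≫ p = y ≫ p ↔ ∃ z : T ⟶ R, z ≫ r = x⁻¹ * y := by
    intro T x y
    have hmul : ∀ (a : T ⟶ K ⊗ R), a ≫ (K ◁ r) ≫ μ[K] = (a ≫ fst K R) * ((a ≫ snd K R) ≫ r) := by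
      intro a
      rw [Hom.mul_def, ← Category.assoc]
      congr 1
      exact CartesianMonoidalCategory.hom_ext _ _ (by simp) (by simp)
    constructor
    · intro h
      refine ⟨hsq.lift y x h.symm ≫ snd K R, ?_⟩
      have h1 := hmul (hsq.lift y x h.symm)
      rw [IsPullback.lift_snd] at h1
      erw [IsPullback.lift_fst] at h1
      rw [eq_inv_mul_iff_mul_eq]; exact h1.symm
    · rintro ⟨z, hz⟩
      have h1 := hmul (lift x z)
      rw [lift_fst, lift_snd, hz, mul_inv_cancel_left] at h1
      have h2 := congrArg (lift x z ≫ ·) hsq.w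
      simp only [← Category.assoc, lift_fst] at h2
      rw [Category.assoc (lift x z), h1] at h2
      exact h2.symm
  have hN : AlgGrp.IsNormalHom r := fun T g n => ⟨n, by rw [_root_.mul_comm g, _root_.mul_assoc, mul_inv_cancel, _root_.mul_one]⟩
  obtain ⟨_, hmon, hker⟩ := AVFin12.exists_quotGroup r p hrel hN
  haveI := hmon
  haveI : IsSeparated Q.hom := GrpdLib.GrpOver.isSeparated_hom Q
  haveI : QuasiCompact p.left := by
    haveI : QuasiCompact (p.left ≫ Q.hom) := by rw [Over.w]; infer_instance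
    exact QuasiCompact.of_comp p.left Q.hom
  haveI : IsCommMonObj Q := ⟨GrpSGA.AbelianSub.cancel_tensor p hf hs ‹_› (by
    rw [← Category.assoc, BraidedCategory.braiding_naturality, Category.assoc, ← IsMonHom.mul_hom,
      ← Category.assoc, IsCommMonObj.mul_comm])⟩
  haveI : LocallyOfFiniteType Q.hom := by
    haveI : LocallyOfFiniteType (p.left ≫ Q.hom) := by rw [Over.w]; infer_instance
    exact GrpdLib.FppfSourceDescent.locallyOfFiniteType_of_comp_fppf p.left Q.hom
  haveI : IsProper Q.hom := by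
    haveI : UniversallyClosed (p.left ≫ Q.hom) := by rw [Over.w]; infer_instance
    haveI : UniversallyClosed Q.hom := UniversallyClosed.of_comp_surjective p.left Q.hom
    exact { toIsSeparated := inferInstance, toUniversallyClosed := inferInstance,
            toLocallyOfFiniteType := inferInstance }
  exact ⟨Q, inferInstance, inferInstance, p, hmon, hker, inferInstance, hf, hs, hp⟩

/-- The connected component of the unit of a proper group scheme is open. -/
theorem isOpen_component (K : Over Sk) [GrpObj K] [IsProper K.hom] :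
    IsOpen (connectedComponent (e₀ K)) := by
  haveI : IsLocallyNoetherian K.left := LocallyOfFiniteType.isLocallyNoetherian K.hom
  haveI : CompactSpace K.left := QuasiCompact.compactSpace_of_compactSpace K.hom
  haveI : IsNoetherian K.left := ⟨⟩
  let C := connectedComponent (e₀ K)
  have hfin : (irreducibleComponents K.left).Finite :=
    TopologicalSpace.NoetherianSpace.finite_irreducibleComponents
  have he : Cᶜ = ⋃₀ {Z ∈ irreducibleComponents K.left | ¬ Z ⊆ C} := by
    ext x
    constructor
    · intro hx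
      exact ⟨irreducibleComponent x, ⟨irreducibleComponent_mem_irreducibleComponents x,
        fun h => hx (h mem_irreducibleComponent)⟩, mem_irreducibleComponent⟩
    · rintro ⟨Z, ⟨hZ, hZC⟩, hxZ⟩ hxC
      refine hZC ?_
      have h := hZ.1.isConnected.2.subset_connectedComponent hxZ
      rwa [← connectedComponent_eq hxC] at h
  rw [← isClosed_compl_iff, he, Set.sUnion_eq_biUnion]
  exact (hfin.subset fun Z hZ => hZ.1).isClosed_biUnion fun Z hZ =>
    isClosed_of_mem_irreducibleComponents Z hZ.1

/-- The reduced identity component of a proper commutative group over a perfect field, and a power map into it. -/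
theorem exists_av [PerfectField k] (K : Over Sk) [GrpObj K] [IsCommMonObj K] [IsProper K.hom] :
    ∃ (R : Over Sk) (_ : GrpObj R) (_ : IsCommMonObj R) (_ : IsProper R.hom)
      (_ : GeometricallyIntegral R.hom) (r : R ⟶ K), IsMonHom r ∧ IsClosedImmersion r.left ∧
      ∃ N : ℕ, N ≠ 0 ∧ ∀ (T : Over Sk) (x : T ⟶ K), ∃ y : T ⟶ R, y ≫ r = x ^ N := by
  haveI : LocallyOfFiniteType (zObj K).hom := by rw [← Over.w (zι K)]; infer_instance
  haveI : IsProper (zObj K).hom := by rw [← Over.w (zι K)]; infer_instance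
  haveI : GeometricallyReduced (zObj K).hom :=
    FBase.BC.geometricallyReduced_of_isReduced_of_perfectField _
  haveI : IsReduced ((zObj K) ⊗ (zObj K)).left :=
    FBase.BC.isReduced_pullback (zObj K).hom (zObj K).hom
  haveI : IsReduced (𝟙_ (Over Sk)).left := inferInstanceAs (IsReduced Sk)
  haveI : Mono (zι K) := Over.mono_of_mono_left _
  have hr : Set.range (zι K).left = connectedComponent (e₀ K) := by
    rw [GrpScheme.IdComponent.range_zι, GrpScheme.IdComponent.connectedComponent_eq]
  have hmem : ∀ {T : Over Sk} (a : T ⟶ zObj K), Set.range (a ≫ zι K).left ⊆ connectedComponent (e₀ K) := by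
    rintro T a _ ⟨t, rfl⟩
    rw [← hr, Over.comp_left, Scheme.Hom.comp_apply]
    exact ⟨_, rfl⟩
  obtain ⟨_, hz⟩ := GrpScheme.SubgroupObj.exists_grpObj (zι K)
    (GrpScheme.RedIdComponent.exists_lift _ (by
      rw [MonObj.mul_eq_mul, MonObj.comp_mul, tensorHom_fst, tensorHom_snd]
      exact GrpScheme.IdSubgroup.mul_mem K _ _ (hmem _) (hmem _)))
    (GrpScheme.RedIdComponent.exists_lift _ (by
      rintro _ ⟨t, rfl⟩
      rw [Subsingleton.elim (α := PrimeSpectrum k) t (IsLocalRing.closedPoint k)]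
      exact mem_connectedComponent))
    (GrpScheme.RedIdComponent.exists_lift _ (by
      rintro _ ⟨t, rfl⟩
      rw [Over.comp_left, Scheme.Hom.comp_apply]
      exact GrpScheme.IdSubgroup.inv_mem K (hr.subset ⟨t, rfl⟩)))
  haveI := hz
  haveI : Smooth (zObj K).hom := GrpScheme.Smooth.smooth_of_perfectField (zObj K)
  haveI := GrpScheme.Component.geometricallyIrreducible_of_irreducibleSpace (zObj K)
  haveI : GeometricallyIntegral (zObj K).hom :=
    GeometricallyIntegral.of_geometricallyReduced_of_geometricallyIrreducible _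
  haveI : IsCommMonObj (zObj K) := ⟨by
    rw [← cancel_mono (zι K), Category.assoc, IsMonHom.mul_hom, ← Category.assoc,
      ← BraidedCategory.braiding_naturality, Category.assoc, IsCommMonObj.mul_comm]⟩
  obtain ⟨Q, _, _, p, hp, hker, hQ, hf, hs, hlfp⟩ := exists_quot K (zι K)
  haveI := hp; haveI := hQ; haveI := hf; haveI := hs; haveI := hlfp
  -- the unit of the quotient is an open point
  have hsq : IsPullback (zι K).left (toUnit (zObj K)).left p.left η[Q].left :=
    GrpdLib.GrpOver.isPullback_left hker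
  have hpre : p.left ⁻¹' {e₀ Q} = connectedComponent (e₀ K) := by
    have hη : Set.range η[Q].left = {e₀ Q} := Set.ext fun x => ⟨by
      rintro ⟨t, rfl⟩
      exact congrArg η[Q].left (Subsingleton.elim (α := PrimeSpectrum k) t _), by rintro rfl; exact ⟨_, rfl⟩⟩
    rw [← hr, ← hη, ← Scheme.Pullback.range_fst]
    ext x
    constructor
    · rintro ⟨t, rfl⟩
      refine ⟨hsq.isoPullback.inv t, ?_⟩
      rw [← Scheme.Hom.comp_apply, hsq.isoPullback_inv_fst]
    · rintro ⟨t, rfl⟩
      refine ⟨hsq.isoPullback.hom t, ?_⟩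
      rw [← Scheme.Hom.comp_apply, hsq.isoPullback_hom_fst]
  have hopen : IsOpen ({e₀ Q} : Set Q.left) := by
    have h := p.left.isOpenMap _ (isOpen_component K)
    rwa [← hpre, Set.image_preimage_eq _ p.left.surjective] at h
  haveI : IsSeparated Q.hom := inferInstance
  have hclosed : IsClosed ({e₀ Q} : Set Q.left) := by
    haveI : IsClosedImmersion η[Q].left := by
      haveI : IsClosedImmersion (η[Q].left ≫ Q.hom) := by
        rw [Over.w η[Q]]; exact inferInstanceAs (IsClosedImmersion (𝟙 _))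
      exact IsClosedImmersion.of_comp η[Q].left Q.hom
    have : Set.range η[Q].left = {e₀ Q} := Set.ext fun x => ⟨by
      rintro ⟨t, rfl⟩
      exact congrArg η[Q].left (Subsingleton.elim (α := PrimeSpectrum k) t _), by rintro rfl; exact ⟨_, rfl⟩⟩
    rw [← this]
    exact η[Q].left.isClosedEmbedding.isClosed_range
  have hdim : topologicalKrullDim Q.left ≤ 0 := by
    rw [← GrpScheme.Dimension.coheight_eq_topologicalKrullDim Q _ hclosed]
    have : Order.coheight (e₀ Q) = 0 := Order.coheight_eq_zero.mpr fun a ha =>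
      (Set.mem_singleton_iff.mp ((Scheme.le_iff_specializes.mp ha).mem_open hopen rfl)).le
    rw [this]
    exact le_rfl
  haveI : IsLocallyNoetherian Q.left := LocallyOfFiniteType.isLocallyNoetherian Q.hom
  haveI : CompactSpace Q.left := QuasiCompact.compactSpace_of_compactSpace Q.hom
  haveI : IsLocallyArtinian Q.left := IsLocallyArtinian.of_topologicalKrullDim_le_zero hdim
  haveI : Finite Q.left := finite_of_compact_of_discrete
  haveI : LocallyQuasiFinite Q.hom := LocallyQuasiFinite.of_finite_preimage_singleton _ fun _ => Set.toFinite _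
  haveI : IsFinite Q.hom := IsFinite.of_isProper_of_locallyQuasiFinite _
  let n := Q.hom.finrank (IsLocalRing.closedPoint k)
  have hn : (𝟙 Q : Q ⟶ Q) ^ n = 1 := S7782.pow_eq_one_affine (CommRingCat.of k) Q n fun s => by
    rw [Subsingleton.elim (α := PrimeSpectrum k) s (IsLocalRing.closedPoint k)]
  have hn0 : n ≠ 0 := by
    have h1 : 1 ≤ Q.hom.finrank (Q.hom (e₀ Q)) := Scheme.Hom.one_le_finrank_map Q.hom (e₀ Q)
    rw [Subsingleton.elim (α := PrimeSpectrum k) (Q.hom (e₀ Q)) (IsLocalRing.closedPoint k)] at h1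
    exact Nat.one_le_iff_ne_zero.mp h1
  refine ⟨zObj K, inferInstance, inferInstance, inferInstance, inferInstance, zι K, hz, inferInstance, n, hn0,
    fun T x => ?_⟩
  refine GrpdLib.GrpOver.kernel_factor hker (x ^ n) ?_
  have h : (x ≫ p) ^ n = 1 := by
    have := congrArg ((x ≫ p) ≫ ·) hn
    simpa [MonObj.comp_pow, MonObj.comp_one] using this
  rw [← h]
  exact map_pow (IsMonHom.monoidHom p T) x n


/-- (c) ⇒ (a₂): let k be a finite field with q elements and fix a polynomial P with integer
coefficients. Work with abelian varieties over k (proper, geometrically integral commutative group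
schemes over k) together with their q-Frobenius endomorphism π (the identity on points, the q-th
power map on sections; a homomorphism) such that P(π) = 0 in the endomorphism ring (for suitable P:
the abelian varieties with Weil support in a given finite set of Weil q-numbers); let A be one of
them and S = End(A) (product = composition). Assume that A is an injective cogenerator: (c₁) every
such Z admits finitely many homomorphisms Z → A which are jointly monomorphic on T-valued points
over k, and (c₂) for such X, Y and every homomorphism X → Y which is a closed immersion, the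
restriction map Hom(Y, A) → Hom(X, A) is surjective. Then the functor X ↦ Hom(X, A) is essentially
surjective onto left S-modules that are free of finite rank over ℤ: for every such module M there
are such an abelian variety X (with its Frobenius and P(π_X) = 0) and an additive bijection M ≅
Hom(X, A) carrying the action of s ∈ S to postcomposition with s. -/
theorem result
    (k : Type u) [Field k] [Finite k]
    (P : Polynomial ℤ) (A : Over (Spec (CommRingCat.of k))) [GrpObj A] [IsCommMonObj A] [IsProper A.hom] [GeometricallyIntegral A.hom]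
    (πA : A ⟶ A) [IsMonHom πA] (hπAb : πA.left.base = 𝟙 _)
    (hπAle : ∀ U : A.left.Opens, U ≤ πA.left ⁻¹ᵁ U)
    (hπAapp : ∀ (U : A.left.Opens) (s : Γ(A.left, U)), (πA.left.appLE U U (hπAle U)).hom s = s ^ Nat.card k)
    (hPA : Polynomial.eval₂ (Int.castRingHom (EndAV.End A)) (EndAV.End.of πA) P = 0)
    (hcog : ∀ (Z : Over (Spec (CommRingCat.of k))) [GrpObj Z] [IsCommMonObj Z] [IsProper Z.hom] [GeometricallyIntegral Z.hom]
      (πZ : Z ⟶ Z) [IsMonHom πZ] (hπZb : πZ.left.base = 𝟙 _) (hπZle : ∀ U : Z.left.Opens, U ≤ πZ.left ⁻¹ᵁ U)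
      (hπZapp : ∀ (U : Z.left.Opens) (s : Γ(Z.left, U)), (πZ.left.appLE U U (hπZle U)).hom s = s ^ Nat.card k)
      (hPZ : Polynomial.eval₂ (Int.castRingHom (EndAV.End Z)) (EndAV.End.of πZ) P = 0),
      ∃ (n : ℕ) (ψ : Fin n → EndAV.Hom Z A), ∀ (T : Over (Spec (CommRingCat.of k))) (x y : T ⟶ Z),
        (∀ i, x ≫ (ψ i).toHom = y ≫ (ψ i).toHom) → x = y)
    (hext : ∀ (X Y : Over (Spec (CommRingCat.of k))) [GrpObj X] [IsCommMonObj X] [IsProper X.hom] [GeometricallyIntegral X.hom]
      [GrpObj Y] [IsCommMonObj Y] [IsProper Y.hom] [GeometricallyIntegral Y.hom]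
      (πX : X ⟶ X) [IsMonHom πX] (hπXb : πX.left.base = 𝟙 _) (hπXle : ∀ U : X.left.Opens, U ≤ πX.left ⁻¹ᵁ U)
      (hπXapp : ∀ (U : X.left.Opens) (s : Γ(X.left, U)), (πX.left.appLE U U (hπXle U)).hom s = s ^ Nat.card k)
      (hPX : Polynomial.eval₂ (Int.castRingHom (EndAV.End X)) (EndAV.End.of πX) P = 0)
      (πY : Y ⟶ Y) [IsMonHom πY] (hπYb : πY.left.base = 𝟙 _) (hπYle : ∀ U : Y.left.Opens, U ≤ πY.left ⁻¹ᵁ U)
      (hπYapp : ∀ (U : Y.left.Opens) (s : Γ(Y.left, U)), (πY.left.appLE U U (hπYle U)).hom s = s ^ Nat.card k)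
      (hPY : Polynomial.eval₂ (Int.castRingHom (EndAV.End Y)) (EndAV.End.of πY) P = 0)
      (φ : EndAV.Hom X Y) [IsClosedImmersion φ.toHom.left] (f : EndAV.Hom X A), ∃ g : EndAV.Hom Y A, φ ≫ g = f)
    (M : Type u) [AddCommGroup M] [Module (EndAV.End A) M] [Module.Finite ℤ M] [Module.Free ℤ M] :
    ∃ (X : Over (Spec (CommRingCat.of k))) (_ : GrpObj X) (_ : IsCommMonObj X) (_ : IsProper X.hom)
      (_ : GeometricallyIntegral X.hom) (πX : X ⟶ X) (_ : IsMonHom πX) (_ : πX.left.base = 𝟙 _)
      (hπXle : ∀ U : X.left.Opens, U ≤ πX.left ⁻¹ᵁ U)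
      (_ : ∀ (U : X.left.Opens) (s : Γ(X.left, U)), (πX.left.appLE U U (hπXle U)).hom s = s ^ Nat.card k)
      (_ : Polynomial.eval₂ (Int.castRingHom (EndAV.End X)) (EndAV.End.of πX) P = 0)
      (e : M ≃+ EndAV.Hom X A), ∀ (s : EndAV.End A) (m : M), (e (s • m)).toHom = (e m).toHom ≫ s.toHom := by
  classical
  obtain ⟨F, hF, -⟩ := Groth.Agent.AVFin12.exists_isFr (k := k)
  have hA : Groth.Agent.AVFin12.Good P A := Groth.Agent.AVFin12.good_of πA ⟨hπAb, hπAle, hπAapp⟩ hPA
  obtain ⟨n, m, hm⟩ := Module.Finite.exists_fin (R := ℤ) (M := M)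
  obtain ⟨B, _, _, _, _, pr, hB, hextB, hliftB⟩ := Groth.Agent.AVFin12.exists_power A hA n
  choose inj hinj using fun i => hliftB A fun j => if i = j then (𝟙 _ : EndAV.Hom A A) else 0
  let toEnd : EndAV.Hom A A → EndAV.End A := fun s => s
  let Φ : EndAV.Hom B A →+ M :=
    AddMonoidHom.mk' (fun φ => ∑ i, toEnd (inj i ≫ φ) • m i) fun φ ψ => by
      rw [← Finset.sum_add_distrib]
      refine Finset.sum_congr rfl fun i _ => ?_
      rw [← add_smul]
      exact congrArg (fun t : EndAV.End A => t • m i) (Preadditive.comp_add _ _ _ _ φ ψ)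
  have hΦs : ∀ (φ : EndAV.Hom B A) (s : EndAV.End A), Φ (φ ≫ CategoryTheory.End.asHom s) = s • Φ φ := by
    intro φ s
    show (∑ i, toEnd (inj i ≫ φ ≫ CategoryTheory.End.asHom s) • m i) = s • ∑ i, toEnd (inj i ≫ φ) • m i
    rw [Finset.smul_sum]
    refine Finset.sum_congr rfl fun i _ => ?_
    rw [smul_smul]
    exact congrArg (fun t : EndAV.End A => t • m i) (Category.assoc _ _ _).symm
  have hΦ : Function.Surjective Φ := by
    intro x
    have hx : x ∈ Submodule.span ℤ (Set.range m) := hm ▸ Submodule.mem_top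
    obtain ⟨c, rfl⟩ := (Submodule.mem_span_range_iff_exists_fun ℤ).mp hx
    refine ⟨∑ i, c i • pr i, ?_⟩
    show (∑ i, toEnd (inj i ≫ ∑ j, c j • pr j) • m i) = _
    refine Finset.sum_congr rfl fun i _ => ?_
    have h : inj i ≫ (∑ j, c j • pr j) = c i • (𝟙 _ : EndAV.Hom A A) := by
      rw [Preadditive.comp_sum, Finset.sum_eq_single i]
      · rw [Preadditive.comp_zsmul, hinj, if_pos rfl]
      · intro j _ hne
        rw [Preadditive.comp_zsmul, hinj, if_neg (Ne.symm hne), smul_zero]
      · simp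
    rw [h]
    show (c i • (1 : EndAV.End A)) • m i = c i • m i
    rw [smul_assoc, one_smul]
  obtain ⟨gB, hgB⟩ := AbVarLib.HomBC.exists_dim B
  obtain ⟨gA, hgA⟩ := AbVarLib.HomBC.exists_dim A
  obtain ⟨-, hfin, -⟩ := AbVarLib.HomBC.free_finite_finrank hgB hgA
  obtain ⟨l, χ, hχ⟩ := Submodule.fg_iff_exists_fin_generating_family.mp
    (IsNoetherian.noetherian (LinearMap.ker Φ.toIntLinearMap))
  have hχ0 : ∀ i, Φ (χ i) = 0 := fun i => by
    have h : χ i ∈ LinearMap.ker Φ.toIntLinearMap := hχ ▸ Submodule.subset_span ⟨i, rfl⟩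
    exact h
  obtain ⟨B', _, _, _, _, pr', hB', hextB', hliftB'⟩ := Groth.Agent.AVFin12.exists_power A hA l
  obtain ⟨μB, hμB⟩ := hliftB' B χ
  choose inj' hinj' using fun i => hliftB' A fun j => if i = j then (𝟙 _ : EndAV.Hom A A) else 0
  have hdec' : (∑ i, pr' i ≫ inj' i) = (𝟙 _ : EndAV.Hom B' B') := by
    refine EndAV.Hom.ext (hextB' B' _ _ fun j => ?_)
    rw [← EndAV.Hom.toHom_comp, ← EndAV.Hom.toHom_comp]
    refine congrArg EndAV.Hom.toHom ?_
    rw [Preadditive.sum_comp, Category.id_comp, Finset.sum_eq_single j]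
    · rw [Category.assoc, hinj', if_pos rfl, Category.comp_id]
    · intro i _ hne
      rw [Category.assoc, hinj', if_neg hne, Limits.comp_zero]
    · simp
  -- a homomorphism killing the kernel of `μB` lies in the kernel of `Φ`
  have hL : ∀ φ : EndAV.Hom B A,
      (∀ (T : Over (Spec (CommRingCat.of k))) (x : T ⟶ B), x ≫ μB.toHom = 1 → x ≫ φ.toHom = 1) → Φ φ = 0 := by
    intro φ hφ
    obtain ⟨R', _, _, _, _, g, j, hR', hgj, hj, -, hfac⟩ :=
      Groth.Agent.AVFin12.exists_coimage B B' hB μB
    obtain ⟨φ', rfl⟩ := hfac A φ hφ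
    haveI : Mono j.toHom := hj
    haveI : Mono j.toHom.left := inferInstanceAs (Mono ((Over.forget _).map j.toHom))
    haveI : IsProper j.toHom.left := by
      haveI : IsProper (j.toHom.left ≫ B'.hom) := by rw [Over.w]; infer_instance
      exact IsProper.of_comp j.toHom.left B'.hom
    haveI : IsClosedImmersion j.toHom.left := by
      have : LocallyQuasiFinite j.toHom.left := LocallyQuasiFinite.of_injective j.toHom.left.injective
      exact (IsClosedImmersion.iff_isFinite_and_mono _).2
        ⟨IsFinite.of_isProper_of_locallyQuasiFinite _, inferInstance⟩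
    haveI := (hF R').isMonHom
    haveI := (hF B').isMonHom
    obtain ⟨hb, hle, happ⟩ := hF R'
    obtain ⟨hb', hle', happ'⟩ := hF B'
    obtain ⟨ψ, hψ⟩ := hext R' B' (F R') hb hle happ (hR' (F R') (hF R')) (F B') hb' hle' happ'
      (hB' (F B') (hF B')) j φ'
    have h : g ≫ φ' = ∑ i, χ i ≫ (inj' i ≫ ψ) := by
      have h' : g ≫ φ' = μB ≫ (∑ i, pr' i ≫ inj' i) ≫ ψ := by
        rw [hdec', Category.id_comp, ← hgj, Category.assoc, hψ]
      rw [h', Preadditive.sum_comp, Preadditive.comp_sum]
      refine Finset.sum_congr rfl fun i _ => ?_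
      rw [← hμB i]
      simp only [Category.assoc]
    rw [h, map_sum]
    refine Finset.sum_eq_zero fun i _ => ?_
    have hs := hΦs (χ i) (toEnd (inj' i ≫ ψ))
    rw [hχ0, smul_zero] at hs
    exact hs
  -- the reduced identity component of the kernel
  obtain ⟨K, _, iK, _, hK⟩ := Groth.Agent.GrpScheme.AffineHom.exists_kernel μB.toHom
  haveI : IsClosedImmersion η[B'].left := by
    haveI : IsClosedImmersion (η[B'].left ≫ B'.hom) := by
      rw [Over.w η[B']]
      exact inferInstanceAs (IsClosedImmersion (𝟙 _))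
    exact IsClosedImmersion.of_comp η[B'].left B'.hom
  haveI : IsClosedImmersion iK.left := MorphismProperty.of_isPullback (P := @IsClosedImmersion)
    (Groth.Agent.GrpdLib.GrpOver.isPullback_left hK).flip inferInstance
  haveI : IsProper K.hom := by rw [← Over.w iK]; infer_instance
  haveI : Mono iK := Over.mono_of_mono_left iK
  haveI : IsCommMonObj K := ⟨by
    rw [← cancel_mono iK, Category.assoc, IsMonHom.mul_hom, ← Category.assoc,
      ← BraidedCategory.braiding_naturality, Category.assoc, IsCommMonObj.mul_comm]⟩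
  obtain ⟨R, _, _, _, _, r, _, _, N, hN0, hN⟩ := exists_av K
  let ι₀ : EndAV.Hom R B := EndAV.Hom.of (r ≫ iK)
  haveI : IsClosedImmersion ι₀.toHom.left := inferInstanceAs (IsClosedImmersion (r.left ≫ iK.left))
  haveI : Mono ι₀.toHom := Over.mono_of_mono_left _
  have hR : Groth.Agent.AVFin12.Good P R := hB.of_mono (fun _ : Unit => ι₀) fun a b h =>
    (cancel_mono ι₀.toHom).1 (h ())
  haveI := (hF R).isMonHom
  haveI := (hF B).isMonHom
  obtain ⟨hb, hle, happ⟩ := hF R
  obtain ⟨hb', hle', happ'⟩ := hF B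
  let res : EndAV.Hom B A →+ EndAV.Hom R A :=
    AddMonoidHom.mk' (fun φ => ι₀ ≫ φ) fun φ ψ => Preadditive.comp_add _ _ _ ι₀ φ ψ
  have hres : Function.Surjective res := fun f =>
    hext R B (F R) hb hle happ (hR (F R) (hF R)) (F B) hb' hle' happ' (hB (F B) (hF B)) ι₀ f
  have hιμ : ι₀ ≫ μB = 0 := EndAV.Hom.ext (by
    show (r ≫ iK) ≫ μB.toHom = 1
    rw [Category.assoc, Groth.Agent.GrpdLib.GrpOver.kernel_comp hK, MonObj.comp_one])
  have hker : ∀ φ, res φ = 0 ↔ Φ φ = 0 := by
    intro φ
    constructor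
    · intro h
      have h' : (r ≫ iK) ≫ φ.toHom = 1 := congrArg EndAV.Hom.toHom h
      have hNφ : Φ (N • φ) = 0 := hL _ fun T x hx => by
        obtain ⟨z, hz⟩ := Groth.Agent.GrpdLib.GrpOver.kernel_factor hK x hx
        obtain ⟨y, hy⟩ := hN T z
        rw [EndAV.Hom.toHom_nsmul, MonObj.comp_pow, ← hz, Category.assoc]
        refine (map_pow (IsMonHom.monoidHom (iK ≫ φ.toHom) T) z N).symm.trans ?_
        show (z ^ N) ≫ iK ≫ φ.toHom = 1
        rw [← hy, Category.assoc, ← Category.assoc r, h', MonObj.comp_one]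
      rw [map_nsmul] at hNφ
      exact (smul_eq_zero.mp (show (N : ℤ) • Φ φ = 0 by rw [natCast_zsmul]; exact hNφ)).resolve_left
        (by exact_mod_cast hN0)
    · intro h
      have hφ : φ ∈ Submodule.span ℤ (Set.range χ) := by rw [hχ]; exact h
      obtain ⟨c, rfl⟩ := (Submodule.mem_span_range_iff_exists_fun ℤ).mp hφ
      rw [map_sum]
      refine Finset.sum_eq_zero fun i _ => ?_
      rw [map_zsmul]
      have hz : res (χ i) = 0 := by
        show ι₀ ≫ χ i = 0
        rw [← hμB i, ← Category.assoc, hιμ, Limits.zero_comp]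
      rw [hz, smul_zero]
  obtain ⟨sec, hsec⟩ := hΦ.hasRightInverse
  let e₁ : M →+ EndAV.Hom R A := AddMonoidHom.mk' (fun x => res (sec x)) fun x y => by
    rw [← map_add, ← sub_eq_zero, ← map_sub, hker, map_sub, map_add, hsec, hsec, hsec, sub_self]
  have hsp : ∀ φ, e₁ (Φ φ) = res φ := fun φ => by
    show res (sec (Φ φ)) = res φ
    rw [← sub_eq_zero, ← map_sub, hker, map_sub, hsec, sub_self]
  have he₁ : Function.Bijective e₁ := by
    refine ⟨(injective_iff_map_eq_zero e₁).mpr fun x hx => ?_, fun f => ?_⟩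
    · obtain ⟨φ, rfl⟩ := hΦ x
      exact (hker φ).mp ((hsp φ).symm.trans hx)
    · obtain ⟨φ, rfl⟩ := hres f
      exact ⟨Φ φ, hsp φ⟩
  refine ⟨R, inferInstance, inferInstance, inferInstance, inferInstance, F R, inferInstance, hb, hle, happ,
    hR (F R) (hF R), AddEquiv.ofBijective e₁ he₁, fun s x => ?_⟩
  obtain ⟨φ, rfl⟩ := hΦ x
  show (e₁ (s • Φ φ)).toHom = (e₁ (Φ φ)).toHom ≫ s.toHom
  rw [← hΦs, hsp, hsp]
  show EndAV.Hom.toHom (ι₀ ≫ φ ≫ CategoryTheory.End.asHom s) = _
  simp only [EndAV.Hom.toHom_comp, Category.assoc]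
  rfl

end Groth.Agent.S16391
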