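import Groth.Statements.S16393
import Groth.Agent.AVFin12.Ops

set_option autoImplicit false
universe u
open CategoryTheory MonoidalCategory CartesianMonoidalCategory MonObj GrpObj AlgebraicGeometry
open AbVar

namespace Groth.Agent.S16393

/-- (a₁) ⇒ (b₁): let k be a finite field with q elements and fix a polynomial P with integer
coefficients. Work with abelian varieties over k (proper, geometrically integral commutative group
schemes over k) with their q-Frobenius endomorphism π (identity on points, q-th power on sections; a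
homomorphism) such that P(π) = 0 in the endomorphism ring (for suitable P: the abelian varieties
with Weil support in a given finite set of Weil q-numbers); let A be one of them. Assume (a₁): the
functor X ↦ Hom(X, A), with values in left End(A)-modules (End(A) acting by postcomposition), is
fully faithful on these abelian varieties — for such X, Y, two homomorphisms X → Y agreeing after
composition with every homomorphism Y → A are equal, and every additive End(A)-linear map Hom(Y, A)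
→ Hom(X, A) is precomposition with a homomorphism X → Y. Then (b₁): for such X and every finite
closed subgroup scheme H ⊆ X, H equals the common kernel of the homomorphisms X → A vanishing on H;
on points: a T-valued point of X over k which is sent to the unit by every homomorphism X → A
killing H factors through H. -/
theorem result
    (k : Type u) [Field k] [Finite k]
    (P : Polynomial ℤ) (A : Over (Spec (CommRingCat.of k))) [GrpObj A] [IsCommMonObj A] [IsProper A.hom] [GeometricallyIntegral A.hom]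
    (πA : A ⟶ A) [IsMonHom πA] (hπAb : πA.left.base = 𝟙 _) (hπAle : ∀ U : A.left.Opens, U ≤ πA.left ⁻¹ᵁ U)
      (hπAapp : ∀ (U : A.left.Opens) (s : Γ(A.left, U)), (πA.left.appLE U U (hπAle U)).hom s = s ^ Nat.card k)
    (hPA : Polynomial.eval₂ (Int.castRingHom (EndAV.End A)) (EndAV.End.of πA) P = 0)
    (hff : ∀ (X Y : Over (Spec (CommRingCat.of k))) [GrpObj X] [IsCommMonObj X] [IsProper X.hom] [GeometricallyIntegral X.hom]
      [GrpObj Y] [IsCommMonObj Y] [IsProper Y.hom] [GeometricallyIntegral Y.hom]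
      (πX : X ⟶ X) [IsMonHom πX] (hπXb : πX.left.base = 𝟙 _) (hπXle : ∀ U : X.left.Opens, U ≤ πX.left ⁻¹ᵁ U)
      (hπXapp : ∀ (U : X.left.Opens) (s : Γ(X.left, U)), (πX.left.appLE U U (hπXle U)).hom s = s ^ Nat.card k)
      (hPX : Polynomial.eval₂ (Int.castRingHom (EndAV.End X)) (EndAV.End.of πX) P = 0)
      (πY : Y ⟶ Y) [IsMonHom πY] (hπYb : πY.left.base = 𝟙 _) (hπYle : ∀ U : Y.left.Opens, U ≤ πY.left ⁻¹ᵁ U)
      (hπYapp : ∀ (U : Y.left.Opens) (s : Γ(Y.left, U)), (πY.left.appLE U U (hπYle U)).hom s = s ^ Nat.card k)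
      (hPY : Polynomial.eval₂ (Int.castRingHom (EndAV.End Y)) (EndAV.End.of πY) P = 0),
      (∀ f g : EndAV.Hom X Y, (∀ φ : EndAV.Hom Y A, f ≫ φ = g ≫ φ) → f = g) ∧
        (∀ g : EndAV.Hom Y A →+ EndAV.Hom X A,
          (∀ (φ : EndAV.Hom Y A) (s : EndAV.Hom A A), g (φ ≫ s) = g φ ≫ s) →
            ∃ f : EndAV.Hom X Y, ∀ φ : EndAV.Hom Y A, g φ = f ≫ φ))
    (X : Over (Spec (CommRingCat.of k))) [GrpObj X] [IsCommMonObj X] [IsProper X.hom] [GeometricallyIntegral X.hom]
    (πX : X ⟶ X) [IsMonHom πX] (hπXb : πX.left.base = 𝟙 _) (hπXle : ∀ U : X.left.Opens, U ≤ πX.left ⁻¹ᵁ U)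
      (hπXapp : ∀ (U : X.left.Opens) (s : Γ(X.left, U)), (πX.left.appLE U U (hπXle U)).hom s = s ^ Nat.card k)
    (hPX : Polynomial.eval₂ (Int.castRingHom (EndAV.End X)) (EndAV.End.of πX) P = 0)
    (H : Over (Spec (CommRingCat.of k))) [GrpObj H] [IsFinite H.hom] (i : H ⟶ X) [IsMonHom i] [IsClosedImmersion i.left]
    (T : Over (Spec (CommRingCat.of k))) (x : T ⟶ X)
    (hx : ∀ f : EndAV.Hom X A, i ≫ f.toHom = 1 → x ≫ f.toHom = 1) :
    ∃ y : T ⟶ H, y ≫ i = x := by

  classical
  have hA : Groth.Agent.AVFin12.Good P A := Groth.Agent.AVFin12.good_of πA ⟨hπAb, hπAle, hπAapp⟩ hPA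
  have hX : Groth.Agent.AVFin12.Good P X := Groth.Agent.AVFin12.good_of πX ⟨hπXb, hπXle, hπXapp⟩ hPX
  obtain ⟨F, hF, -⟩ := Groth.Agent.AVFin12.exists_isFr (k := k)
  obtain ⟨Q, _, _, _, _, q, hQ, hker, -⟩ := Groth.Agent.AVFin12.exists_quotient X hX i
  refine Groth.Agent.GrpdLib.GrpOver.kernel_factor hker x ?_
  have hxq : ∀ φ : EndAV.Hom Q A, (x ≫ q.toHom) ≫ φ.toHom = 1 := fun φ => by
    rw [Category.assoc, ← EndAV.Hom.toHom_comp]
    refine hx _ ?_
    rw [EndAV.Hom.toHom_comp, ← Category.assoc, Groth.Agent.GrpdLib.GrpOver.kernel_comp hker, MonObj.one_comp]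
  obtain ⟨n, ψ, hψ⟩ := Groth.Agent.AVFin12.exists_finite_family Q A
  obtain ⟨B, _, _, _, _, pr, hB, hext, hlift⟩ := Groth.Agent.AVFin12.exists_power A hA n
  obtain ⟨m, hm⟩ := hlift Q ψ
  obtain ⟨R, _, _, _, _, g, j, hR, hgj, hj, hgepi, hdesc⟩ := Groth.Agent.AVFin12.exists_coimage Q B hQ m
  -- every homomorphism out of `Q` factors uniquely through `g`
  have hbij : ∀ φ : EndAV.Hom Q A, ∃ φ' : EndAV.Hom R A, g ≫ φ' = φ := fun φ => hdesc A φ fun T y hy => by
    refine hψ T y (fun i => ?_) φ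
    rw [← hm i, EndAV.Hom.toHom_comp, ← Category.assoc, hy, MonObj.one_comp]
  choose G hG using hbij
  have hinj : ∀ a b : EndAV.Hom R A, g ≫ a = g ≫ b → a = b := fun a b h =>
    EndAV.Hom.ext (hgepi _ _ (congrArg EndAV.Hom.toHom h))
  let G' : EndAV.Hom Q A →+ EndAV.Hom R A := AddMonoidHom.mk' G fun a b => hinj _ _ (by
    rw [Preadditive.comp_add, hG, hG, hG])
  haveI := (hF Q).isMonHom
  haveI := (hF R).isMonHom
  obtain ⟨hRb, hRle, hRapp⟩ := hF R
  obtain ⟨hQb, hQle, hQapp⟩ := hF Q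
  obtain ⟨h, hh⟩ := (hff R Q (F R) hRb hRle hRapp (hR (F R) (hF R)) (F Q) hQb hQle hQapp (hQ (F Q) (hF Q))).2
    G' fun φ s => hinj _ _ (by
      show g ≫ G (φ ≫ s) = g ≫ G φ ≫ s
      rw [hG, ← Category.assoc, hG])
  have hid : g ≫ h = 𝟙 _ :=
    (hff Q Q (F Q) hQb hQle hQapp (hQ (F Q) (hF Q)) (F Q) hQb hQle hQapp (hQ (F Q) (hF Q))).1 _ _ fun φ => by
      rw [Category.id_comp, Category.assoc, ← hh φ]
      exact hG φ
  have h1 : (x ≫ q.toHom) ≫ g.toHom = 1 := by
    haveI := hj
    rw [← cancel_mono j.toHom, MonObj.one_comp, Category.assoc, ← EndAV.Hom.toHom_comp, hgj]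
    refine hext T _ _ fun i => ?_
    rw [Category.assoc, ← EndAV.Hom.toHom_comp, hm, hxq, MonObj.one_comp]
  have h2 := congrArg EndAV.Hom.toHom hid
  rw [EndAV.Hom.toHom_comp, EndAV.Hom.toHom_id] at h2
  rw [← Category.comp_id (x ≫ q.toHom), ← h2, ← Category.assoc, h1, MonObj.one_comp]

end Groth.Agent.S16393
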