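import Groth.Statements.S16394
import Mathlib

set_option autoImplicit false
universe u
open CategoryTheory MonoidalCategory CartesianMonoidalCategory MonObj GrpObj AlgebraicGeometry
open AbVar

namespace Groth.Agent.S16394

theorem exists_finset_sup_eq {X : Scheme.{u}} [IsLocallyNoetherian X] [CompactSpace X] {σ : Type*}
    (I : σ → X.IdealSheafData) : ∃ s : Finset σ, ∀ i, I i ≤ s.sup I := by
  classical
  obtain ⟨t, ht⟩ := isCompact_univ.elim_finite_subcover (fun U : X.affineOpens => (U.1 : Set X))
    (fun U => U.1.2) (fun x _ => by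
      obtain ⟨U, hU⟩ := TopologicalSpace.Opens.mem_iSup.mp ((iSup_affineOpens_eq_top X).ge (Set.mem_univ x))
      exact Set.mem_iUnion.mpr ⟨U, hU⟩)
  have key : ∀ U : X.affineOpens, ∃ s : Finset σ, ∀ i, (I i).ideal U ≤ (s.sup I).ideal U := fun U => by
    haveI : IsNoetherianRing Γ(X, U.1) := IsLocallyNoetherian.component_noetherian U
    obtain ⟨M, ⟨s, rfl⟩, hmax⟩ := set_has_maximal_iff_noetherian.mpr (inferInstanceAs (IsNoetherian Γ(X, U.1) Γ(X, U.1)))
      {J : Ideal Γ(X, U.1) | ∃ s : Finset σ, J = (s.sup I).ideal U} ⟨_, ∅, rfl⟩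
    refine ⟨s, fun i => ?_⟩
    by_contra hi
    refine hmax _ ⟨insert i s, rfl⟩ ?_
    rw [Finset.sup_insert, Scheme.IdealSheafData.ideal_sup, Pi.sup_apply]
    exact lt_of_le_of_ne le_sup_right fun h => hi (h ▸ le_sup_left)
  choose s hs using key
  refine ⟨t.biUnion s, fun i => sup_eq_right.mp (Scheme.IdealSheafData.ext_of_iSup_eq_top (fun U : ↥t => U.1) ?_ fun U => ?_)⟩
  · refine eq_top_iff.mpr fun x _ => TopologicalSpace.Opens.mem_iSup.mpr ?_
    obtain ⟨U, hU⟩ := Set.mem_iUnion.mp (ht (Set.mem_univ x))
    obtain ⟨hUt, hx⟩ := Set.mem_iUnion.mp hU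
    exact ⟨⟨U, hUt⟩, hx⟩
  · rw [Scheme.IdealSheafData.ideal_sup, Pi.sup_apply, sup_eq_right]
    exact (hs U.1 i).trans (Scheme.IdealSheafData.le_def.mp (Finset.sup_mono (Finset.subset_biUnion_of_mem s U.2)) U.1)


/-- (b₁) ⇒ (c₁): let k be a finite field and X, A abelian varieties over k (proper, geometrically
integral commutative group schemes over k). Suppose the common kernel of all homomorphisms X → A is
trivial: every T-valued point of X over k that is sent to the unit by every homomorphism X → A is
the unit point (this is condition (b₁) for the trivial subgroup). Then there are finitely many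
homomorphisms ψ_1, …, ψ_n : X → A which are jointly monomorphic on T-valued points — two T-valued
points of X with the same image under every ψ_i are equal — so that (ψ_i) is an injective
homomorphism X → A^n. The published statement restricts X and A to abelian varieties whose Frobenius
is killed by a fixed polynomial; this row has no such restriction. -/
theorem result
    (k : Type u) [Field k] [Finite k] (X A : Over (Spec (CommRingCat.of k))) [GrpObj X] [IsCommMonObj X] [IsProper X.hom] [GeometricallyIntegral X.hom]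
    [GrpObj A] [IsCommMonObj A] [IsProper A.hom] [GeometricallyIntegral A.hom]
    (hsep : ∀ (T : Over (Spec (CommRingCat.of k))) (x : T ⟶ X), (∀ f : EndAV.Hom X A, x ≫ f.toHom = 1) → x = 1) :
    ∃ (n : ℕ) (ψ : Fin n → EndAV.Hom X A), ∀ (T : Over (Spec (CommRingCat.of k))) (x y : T ⟶ X),
      (∀ i, x ≫ (ψ i).toHom = y ≫ (ψ i).toHom) → x = y := by
  classical
  haveI : IsLocallyNoetherian X.left := LocallyOfFiniteType.isLocallyNoetherian X.hom
  haveI : CompactSpace X.left := QuasiCompact.compactSpace_of_compactSpace X.hom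
  haveI : IsClosedImmersion (η[A] : 𝟙_ (Over (Spec (CommRingCat.of k))) ⟶ A).left :=
    by
    haveI : IsClosedImmersion ((η[A] : 𝟙_ (Over (Spec (CommRingCat.of k))) ⟶ A).left ≫ A.hom) := by
      rw [Over.w (η[A] : 𝟙_ (Over (Spec (CommRingCat.of k))) ⟶ A)]
      show IsClosedImmersion (𝟙 _)
      infer_instance
    exact IsClosedImmersion.of_comp _ A.hom
  let K : EndAV.Hom X A → X.left.IdealSheafData := fun f =>
    (Limits.pullback.fst f.toHom.left (η[A] : 𝟙_ (Over (Spec (CommRingCat.of k))) ⟶ A).left).ker
  have hK : ∀ (T : Over (Spec (CommRingCat.of k))) (x : T ⟶ X) (f : EndAV.Hom X A),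
      x ≫ f.toHom = 1 ↔ K f ≤ x.left.ker := by
    intro T x f
    constructor
    · intro h
      have h' : x.left ≫ f.toHom.left = (toUnit T).left ≫ (η[A] : 𝟙_ (Over (Spec (CommRingCat.of k))) ⟶ A).left :=
        (congrArg CommaMorphism.left h).trans (congrArg CommaMorphism.left (Hom.one_def (M := A) (X := T)))
      rw [← Limits.pullback.lift_fst x.left (toUnit T).left h']
      exact Scheme.Hom.le_ker_comp _ _
    · intro h
      let z := IsClosedImmersion.lift (Limits.pullback.fst f.toHom.left (η[A] : 𝟙_ (Over (Spec (CommRingCat.of k))) ⟶ A).left) x.left h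
      have hz : z ≫ Limits.pullback.fst _ _ = x.left := IsClosedImmersion.lift_fac _ _ _
      have e1 : x.left ≫ f.toHom.left = (z ≫ Limits.pullback.snd _ _) ≫ (η[A] : 𝟙_ (Over (Spec (CommRingCat.of k))) ⟶ A).left := by
        rw [← hz, Category.assoc, Category.assoc, Limits.pullback.condition]
      have e2 : z ≫ Limits.pullback.snd _ _ = (toUnit T).left := by
        have h1 := congrArg (· ≫ A.hom) e1
        simp only [Category.assoc, Over.w f.toHom, Over.w (η[A] : 𝟙_ (Over (Spec (CommRingCat.of k))) ⟶ A)] at h1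
        change x.left ≫ X.hom = z ≫ Limits.pullback.snd _ _ ≫ 𝟙 _ at h1
        rw [Category.comp_id, Over.w x] at h1
        exact h1.symm.trans ((Category.comp_id (toUnit T).left).symm.trans (Over.w (toUnit T))).symm
      rw [Hom.one_def]
      exact Over.OverMorphism.ext (by rw [e2] at e1; exact e1)
  obtain ⟨s, hs⟩ := exists_finset_sup_eq K
  refine ⟨s.card, fun i => (s.equivFin.symm i).1, fun T x y h => ?_⟩
  refine div_eq_one.mp (hsep T (x / y) fun f => ?_)
  rw [hK]
  refine (hs f).trans (Finset.sup_le fun g hg => ?_)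
  rw [← hK, GrpObj.div_comp]
  have := h (s.equivFin ⟨g, hg⟩)
  simp only [Equiv.symm_apply_apply] at this
  exact div_eq_one.mpr this

end Groth.Agent.S16394
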