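import Groth.Statements.S16395
import Groth.Agent.AbVarLib.HomBC
import Groth.Agent.GrpScheme.AVPow
import Groth.Agent.GrpScheme.HomFlat
import Groth.Agent.GrpdLib.GrpOver

set_option autoImplicit false
universe u
open CategoryTheory MonoidalCategory CartesianMonoidalCategory MonObj GrpObj AlgebraicGeometry
open AbVar

namespace Groth.Agent.S16395

/-- A morphism descended along a faithfully flat homomorphism is a homomorphism. -/
lemma isMonHom_desc {k : Type u} [Field k] {X Y A : Over (Spec (CommRingCat.of k))} [GrpObj X] [GrpObj Y]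
    [GrpObj A] (u : X ⟶ Y) [IsMonHom u] [Flat u.left] [Surjective u.left] [QuasiCompact u.left]
    (χ : Y ⟶ A) [hf : IsMonHom (u ≫ χ)] : IsMonHom χ := by
  have : Surjective (u ⊗ₘ u).left := by
    rw [MonoidalCategory.tensorHom_def, Over.comp_left]
    have : Surjective (u ▷ X).left := GrpScheme.Basic.whiskerRight_mem @Surjective u _ ‹_›
    have : Surjective (Y ◁ u).left := GrpScheme.Basic.whiskerLeft_mem @Surjective u _ ‹_›
    infer_instance
  have : Flat (u ⊗ₘ u).left := by
    rw [MonoidalCategory.tensorHom_def, Over.comp_left]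
    exact MorphismProperty.comp_mem (@Flat) _ _ (GrpScheme.Basic.whiskerRight_mem @Flat u _ ‹_›)
      (GrpScheme.Basic.whiskerLeft_mem @Flat u _ ‹_›)
  have : QuasiCompact (u ⊗ₘ u).left := by
    rw [MonoidalCategory.tensorHom_def, Over.comp_left]
    exact MorphismProperty.comp_mem (@QuasiCompact) _ _ (GrpScheme.Basic.whiskerRight_mem @QuasiCompact u _ ‹_›)
      (GrpScheme.Basic.whiskerLeft_mem @QuasiCompact u _ ‹_›)
  exact
    { one_hom := by rw [← IsMonHom.one_hom (f := u), Category.assoc, IsMonHom.one_hom (f := u ≫ χ)]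
      mul_hom := GrpdLib.GrpOver.cancel_left (u ⊗ₘ u) (by
        rw [← Category.assoc, ← IsMonHom.mul_hom (f := u), Category.assoc,
          IsMonHom.mul_hom (f := u ≫ χ), tensorHom_comp_tensorHom_assoc]) }

/-- (a) ⇒ (b₂): let k be a finite field with q elements and fix a polynomial P with integer
coefficients. Work with abelian varieties over k (proper, geometrically integral commutative group
schemes over k) with their q-Frobenius endomorphism π (identity on points, q-th power on sections; a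
homomorphism) such that P(π) = 0 in the endomorphism ring (for suitable P: the abelian varieties
with Weil support in a given finite set of Weil q-numbers); let A be one of them and S = End(A)
(product = composition), acting on each Hom(X, A) by postcomposition. Assume (a): the functor X ↦
Hom(X, A) is an anti-equivalence from these abelian varieties onto left S-modules free of finite
rank over ℤ — (a₁) for such X, Y, homomorphisms X → Y agreeing after composition with every
homomorphism Y → A are equal and every additive S-linear map Hom(Y, A) → Hom(X, A) is precomposition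
with a homomorphism X → Y; (a₂) every left S-module whose additive group is free of finite rank over
ℤ is additively and S-linearly isomorphic to Hom(Y, A) for some such Y. Then (b₂): for every such X
and every additive subgroup M ⊆ Hom(X, A) of finite index stable under postcomposition with
endomorphisms of A, a homomorphism f : X → A lies in M as soon as it kills the common kernel of M,
i.e. every T-valued point of X over k sent to the unit by all members of M is sent to the unit by f. -/
theorem result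
    (k : Type u) [Field k] [Finite k]
    (P : Polynomial ℤ) (A : Over (Spec (CommRingCat.of k))) [GrpObj A] [IsCommMonObj A] [IsProper A.hom] [GeometricallyIntegral A.hom]
    (πA : A ⟶ A) [IsMonHom πA] (hπAb : πA.left.base = 𝟙 _) (hπAle : ∀ U : A.left.Opens, U ≤ πA.left ⁻¹ᵁ U)
      (hπAapp : ∀ (U : A.left.Opens) (s : Γ(A.left, U)), (πA.left.appLE U U (hπAle U)).hom s = s ^ Nat.card k)
    (hPA : Polynomial.eval₂ (Int.castRingHom (EndAV.End A)) (EndAV.End.of πA) P = 0)
    (hff : ∀ (X Y : Over (Spec (CommRingCat.of k))) [GrpObj X] [IsCommMonObj X] [IsProper X.hom] [GeometricallyIntegral X.hom]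
      [GrpObj Y] [IsCommMonObj Y] [IsProper Y.hom] [GeometricallyIntegral Y.hom]
      (πX : X ⟶ X) [IsMonHom πX] (hπXb : πX.left.base = 𝟙 _) (hπXle : ∀ U : X.left.Opens, U ≤ πX.left ⁻¹ᵁ U)
      (hπXapp : ∀ (U : X.left.Opens) (s : Γ(X.left, U)), (πX.left.appLE U U (hπXle U)).hom s = s ^ Nat.card k)
      (hPX : Polynomial.eval₂ (Int.castRingHom (EndAV.End X)) (EndAV.End.of πX) P = 0)
      (πY : Y ⟶ Y) [IsMonHom πY] (hπYb : πY.left.base = 𝟙 _) (hπYle : ∀ U : Y.left.Opens, U ≤ πY.left ⁻¹ᵁ U)
      (hπYapp : ∀ (U : Y.left.Opens) (s : Γ(Y.left, U)), (πY.left.appLE U U (hπYle U)).hom s = s ^ Nat.card k)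
      (hPY : Polynomial.eval₂ (Int.castRingHom (EndAV.End Y)) (EndAV.End.of πY) P = 0),
      (∀ f g : EndAV.Hom X Y, (∀ φ : EndAV.Hom Y A, f ≫ φ = g ≫ φ) → f = g) ∧
        (∀ g : EndAV.Hom Y A →+ EndAV.Hom X A,
          (∀ (φ : EndAV.Hom Y A) (s : EndAV.Hom A A), g (φ ≫ s) = g φ ≫ s) →
            ∃ f : EndAV.Hom X Y, ∀ φ : EndAV.Hom Y A, g φ = f ≫ φ))
    (hes : ∀ (M : Type u) [AddCommGroup M] [Module (EndAV.End A) M] [Module.Finite ℤ M] [Module.Free ℤ M],
      ∃ (Y : Over (Spec (CommRingCat.of k))) (_ : GrpObj Y) (_ : IsCommMonObj Y) (_ : IsProper Y.hom)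
        (_ : GeometricallyIntegral Y.hom) (πY : Y ⟶ Y) (_ : IsMonHom πY) (_ : πY.left.base = 𝟙 _)
        (hπYle : ∀ U : Y.left.Opens, U ≤ πY.left ⁻¹ᵁ U)
        (_ : ∀ (U : Y.left.Opens) (s : Γ(Y.left, U)), (πY.left.appLE U U (hπYle U)).hom s = s ^ Nat.card k)
        (_ : Polynomial.eval₂ (Int.castRingHom (EndAV.End Y)) (EndAV.End.of πY) P = 0)
        (e : M ≃+ EndAV.Hom Y A), ∀ (s : EndAV.End A) (m : M), (e (s • m)).toHom = (e m).toHom ≫ s.toHom)
    (X : Over (Spec (CommRingCat.of k))) [GrpObj X] [IsCommMonObj X] [IsProper X.hom] [GeometricallyIntegral X.hom]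
    (πX : X ⟶ X) [IsMonHom πX] (hπXb : πX.left.base = 𝟙 _) (hπXle : ∀ U : X.left.Opens, U ≤ πX.left ⁻¹ᵁ U)
      (hπXapp : ∀ (U : X.left.Opens) (s : Γ(X.left, U)), (πX.left.appLE U U (hπXle U)).hom s = s ^ Nat.card k)
    (hPX : Polynomial.eval₂ (Int.castRingHom (EndAV.End X)) (EndAV.End.of πX) P = 0)
    (M : AddSubgroup (EndAV.Hom X A)) (hM : M.FiniteIndex) (hMS : ∀ r ∈ M, ∀ s : EndAV.Hom A A, r ≫ s ∈ M)
    (f : EndAV.Hom X A)
    (hf : ∀ (T : Over (Spec (CommRingCat.of k))) (x : T ⟶ X), (∀ r ∈ M, x ≫ EndAV.Hom.toHom r = 1) → x ≫ f.toHom = 1) :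
    f ∈ M := by
  classical
  obtain ⟨gX, hgX⟩ := AbVarLib.HomBC.exists_dim X
  obtain ⟨gA, hgA⟩ := AbVarLib.HomBC.exists_dim A
  obtain ⟨hfree, hfin, -⟩ := AbVarLib.HomBC.free_finite_finrank hgX hgA
  letI : Module (EndAV.End A) M :=
    { smul := fun s m => ⟨m.1 ≫ s, hMS m.1 m.2 s⟩
      one_smul := fun m => Subtype.ext (Category.comp_id m.1)
      mul_smul := fun s t m => Subtype.ext (Category.assoc m.1 t s).symm
      smul_zero := fun s => Subtype.ext Limits.zero_comp
      smul_add := fun s m m' => Subtype.ext (Preadditive.add_comp _ _ _ m.1 m'.1 s)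
      add_smul := fun s t m => Subtype.ext (Preadditive.comp_add _ _ _ m.1 s t)
      zero_smul := fun m => Subtype.ext Limits.comp_zero }
  let eM : M.toIntSubmodule ≃+ M :=
    { toFun := fun x => ⟨x.1, x.2⟩
      invFun := fun x => ⟨x.1, x.2⟩
      left_inv := fun _ => rfl
      right_inv := fun _ => rfl
      map_add' := fun _ _ => rfl }
  have : Module.Free ℤ M := Module.Free.of_equiv eM.toIntLinearEquiv
  have : Module.Finite ℤ M := Module.Finite.equiv eM.toIntLinearEquiv
  obtain ⟨Y, _, _, _, _, πY, _, hπYb, hπYle, hπYapp, hPY, e, he⟩ := hes M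
  have hgs : ∀ (φ : EndAV.Hom Y A) (s : EndAV.Hom A A),
      (e.symm (φ ≫ s) : EndAV.Hom X A) = (e.symm φ : EndAV.Hom X A) ≫ s := by
    intro φ s
    have h : φ ≫ s = e ((show EndAV.End A from s) • e.symm φ) := EndAV.Hom.ext (by
      rw [he, AddEquiv.apply_symm_apply]
      rfl)
    rw [h, AddEquiv.symm_apply_apply]
    rfl
  obtain ⟨uH, hu⟩ := (hff X Y πX hπXb hπXle hπXapp hPX πY hπYb hπYle hπYapp hPY).2
    (M.subtype.comp e.symm.toAddMonoidHom) hgs
  replace hu : ∀ φ : EndAV.Hom Y A, (e.symm φ : EndAV.Hom X A) = uH ≫ φ := hu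
  let N := M.index
  have hN : 1 ≤ N := Nat.one_le_iff_ne_zero.mpr hM.index_ne_zero
  have hmem : ∀ r : EndAV.Hom X A, N • r ∈ M := fun r => AddSubgroup.nsmul_index_mem M r
  let h : EndAV.Hom X A →+ EndAV.Hom Y A :=
    e.toAddMonoidHom.comp (AddMonoidHom.mk' (fun r => (⟨N • r, hmem r⟩ : M))
      (fun r s => Subtype.ext (nsmul_add r s N)))
  have hhs : ∀ (r : EndAV.Hom X A) (s : EndAV.Hom A A), h (r ≫ s) = h r ≫ s := by
    intro r s
    have hsub : (⟨N • (r ≫ s), hmem _⟩ : M) = (show EndAV.End A from s) • (⟨N • r, hmem r⟩ : M) :=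
      Subtype.ext (Preadditive.nsmul_comp r s N).symm
    refine EndAV.Hom.ext ?_
    change (e ⟨N • (r ≫ s), hmem _⟩).toHom = (e ⟨N • r, hmem r⟩).toHom ≫ s.toHom
    rw [hsub, he]
  obtain ⟨vH, hv⟩ := (hff Y X πY hπYb hπYle hπYapp hPY πX hπXb hπXle hπXapp hPX).2 h hhs
  have hgh : ∀ r : EndAV.Hom X A, uH ≫ h r = N • r := fun r => by
    rw [← hu]
    exact congrArg Subtype.val (e.symm_apply_apply (⟨N • r, hmem r⟩ : M))
  have hvu : vH ≫ uH = N • 𝟙 (CommGrp.mk Y) := by
    refine (hff Y Y πY hπYb hπYle hπYapp hPY πY hπYb hπYle hπYapp hPY).1 _ _ fun φ => ?_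
    rw [Category.assoc, ← hu, ← hv, Preadditive.nsmul_comp, Category.id_comp]
    change e ⟨N • (e.symm φ : EndAV.Hom X A), hmem _⟩ = _
    have hsub : (⟨N • (e.symm φ : EndAV.Hom X A), hmem _⟩ : M) = N • e.symm φ := Subtype.ext rfl
    rw [hsub, map_nsmul, AddEquiv.apply_symm_apply]
  let u : X ⟶ Y := uH.toHom
  have hvu' : vH.toHom.left ≫ u.left = (𝟙 Y ^ N).left := by
    rw [← Over.comp_left]
    refine congrArg CommaMorphism.left ?_
    have := congrArg EndAV.Hom.toHom hvu
    rwa [EndAV.Hom.toHom_comp, EndAV.Hom.toHom_nsmul] at this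
  have : Surjective (vH.toHom.left ≫ u.left) := hvu' ▸ (GrpScheme.AVPow.isFinite_surjective_pow Y hN).2
  have hus : Surjective u.left := Surjective.of_comp vH.toHom.left u.left
  have : IsIntegral Y.left := GeometricallyIntegral.isIntegral_of_subsingleton Y.hom
  have : Flat u.left := GrpScheme.HomFlat.flat_of_surjective u
  have : QuasiCompact (u.left ≫ Y.hom) := by rw [Over.w u]; infer_instance
  have : QuasiCompact u.left := QuasiCompact.of_comp u.left Y.hom
  have hEE : EffectiveEpi u.left := inferInstance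
  obtain ⟨χ, hχ, -⟩ := GrpdLib.GrpOver.existsUnique_desc u f.toHom fun T a b hab => by
    refine div_eq_one.mp ?_
    rw [← GrpObj.div_comp]
    refine hf T (a / b) fun r hr => ?_
    have hr' : r = uH ≫ e ⟨r, hr⟩ := by
      rw [← hu, AddEquiv.symm_apply_apply]
    rw [hr', EndAV.Hom.toHom_comp, ← Category.assoc, GrpObj.div_comp, hab, div_self', MonObj.one_comp]
  have : IsMonHom (u ≫ χ) := by rw [hχ]; infer_instance
  have : IsMonHom χ := isMonHom_desc u χ
  have hfu : f = uH ≫ EndAV.Hom.of χ := EndAV.Hom.ext hχ.symm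
  rw [hfu, ← hu]
  exact (e.symm _).2

end Groth.Agent.S16395
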