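import Groth.Statements.S16396
-- imports

set_option autoImplicit false
universe u
open CAlg

namespace Groth.Agent.S16396

open Polynomial in
/-- For a commutative ℚ-algebra A, a ℚ-subalgebra B of the polynomial algebra A[X] that contains X and
is closed under d/dX consists exactly of the polynomials each of whose coefficients is the value at
0 of some element of B; in other words B = ev(B)[X], with ev the evaluation at 0. -/
theorem result
    (A : Type u) [CommRing A] [Algebra ℚ A] (B : Subalgebra ℚ A[X])
    (hX : (X : A[X]) ∈ B) (hD : ∀ P ∈ B, Polynomial.derivative P ∈ B) (P : A[X]) :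
    P ∈ B ↔ ∀ i : ℕ, ∃ Q ∈ B, Polynomial.eval 0 Q = P.coeff i := by
  constructor
  · intro hP i
    have key : ∀ i, derivative^[i] P ∈ B := by
      intro i
      induction i with
      | zero => simpa using hP
      | succ n ih => rw [Function.iterate_succ_apply']; exact hD _ ih
    refine ⟨(((i.factorial : ℚ))⁻¹) • derivative^[i] P, B.smul_mem (key i) _, ?_⟩
    have hi : (derivative^[i] P).coeff 0 = (i.factorial : ℕ) • P.coeff i := by
      rw [coeff_iterate_derivative, zero_add, Nat.descFactorial_self]
    rw [← coeff_zero_eq_eval_zero, coeff_smul, hi, ← Nat.cast_smul_eq_nsmul ℚ, smul_smul,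
      inv_mul_cancel₀ (by exact_mod_cast i.factorial_ne_zero), one_smul]
  · intro h
    have key : ∀ (n : ℕ) (Q : A[X]), Q ∈ B → Q.natDegree ≤ n → C (Q.eval 0) ∈ B := by
      intro n
      induction n with
      | zero =>
        intro Q hQ hn
        rw [← coeff_zero_eq_eval_zero, ← eq_C_of_natDegree_le_zero hn]
        exact hQ
      | succ n ih =>
        intro Q hQ hn
        have h1 : ∀ i, i ≤ n → C ((derivative Q).coeff i) ∈ B := by
          intro i _
          have hd : ∀ j, derivative^[j] (derivative Q) ∈ B := by
            intro j
            induction j with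
            | zero => simpa using hD _ hQ
            | succ m ihm => rw [Function.iterate_succ_apply']; exact hD _ ihm
          have hdeg : (derivative^[i] (derivative Q)).natDegree ≤ n := by
            refine le_trans (natDegree_iterate_derivative _ _) ?_
            have := natDegree_derivative_le Q
            omega
          have h2 := ih _ (hd i) hdeg
          rw [← coeff_zero_eq_eval_zero, coeff_iterate_derivative, zero_add, Nat.descFactorial_self] at h2
          have h3 := B.smul_mem h2 ((i.factorial : ℚ))⁻¹
          rwa [smul_C, ← Nat.cast_smul_eq_nsmul ℚ, smul_smul,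
            inv_mul_cancel₀ (by exact_mod_cast i.factorial_ne_zero), one_smul] at h3
        have hsum : C (Q.eval 0) = Q - ∑ i ∈ Finset.range (n + 1), ((i + 1 : ℕ) : ℚ)⁻¹ • (C ((derivative Q).coeff i) * X ^ (i + 1)) := by
          have hterm : ∀ i : ℕ, ((i + 1 : ℕ) : ℚ)⁻¹ • (C ((derivative Q).coeff i) * X ^ (i + 1)) = C (Q.coeff (i + 1)) * X ^ (i + 1) := by
            intro i
            have : (derivative Q).coeff i = ((i + 1 : ℕ) : ℚ) • Q.coeff (i + 1) := by
              rw [coeff_derivative, Nat.cast_smul_eq_nsmul, nsmul_eq_mul, mul_comm]; push_cast; ring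
            rw [this, ← smul_C, smul_mul_assoc, smul_smul, inv_mul_cancel₀ (by positivity), one_smul]
          rw [Finset.sum_congr rfl (fun i _ => hterm i)]
          have hQs := Q.as_sum_range_C_mul_X_pow' (n := n + 2) (by omega)
          rw [Finset.sum_range_succ'] at hQs
          rw [← coeff_zero_eq_eval_zero]
          nth_rewrite 2 [hQs]
          simp
        rw [hsum]
        refine B.sub_mem hQ (B.sum_mem fun i hi => B.smul_mem ?_ _)
        exact B.mul_mem (h1 i (by have := Finset.mem_range.1 hi; omega)) (B.pow_mem hX _)
    rw [P.as_sum_range_C_mul_X_pow]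
    refine B.sum_mem fun i _ => ?_
    obtain ⟨Q, hQ, hQi⟩ := h i
    exact B.mul_mem (hQi ▸ key _ Q hQ le_rfl) (B.pow_mem hX _)

end Groth.Agent.S16396
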