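import Groth.Statements.S16400
-- import your own Groth.Agent.* helpers here

set_option autoImplicit false
universe u v
open CAlgX

namespace Groth.Agent.S16400

/-- Let K be a field, N a finite index set and A a square matrix over K indexed by N whose linear map on
column vectors has kernel equal to its range (so A composed with A is zero and the three-term
sequence it defines is exact in the middle). Then there are subsets N₁₂, N₂₁, N₃₁ of N such that the
block of A with rows in N₃₁ and columns in N₂₁, and the block of A with rows outside N₂₁ and columns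
in N₁₂, both act bijectively on column vectors. (In the original setting K is the prime field and
middle exactness is supplied by the Cartier isomorphism; here exactness is the hypothesis and K is
any field.) -/
theorem result
    {K : Type u} [Field K] {N : Type v} [Fintype N] [DecidableEq N]
    (A : Matrix N N K)
    (hA : LinearMap.ker A.mulVecLin = LinearMap.range A.mulVecLin) :
    ∃ N₁₂ N₂₁ N₃₁ : Finset N,
      Function.Bijective (A.submatrix (Subtype.val : ↥N₃₁ → N) (Subtype.val : ↥N₂₁ → N)).mulVecLin ∧
      Function.Bijective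
        (A.submatrix (Subtype.val : {x : N // x ∉ N₂₁} → N) (Subtype.val : ↥N₁₂ → N)).mulVecLin := by
  classical
  set V := LinearMap.range A.mulVecLin with hV
  obtain ⟨κ, a, ha, hspan, hli⟩ := exists_linearIndependent' K
    (fun i : N => Submodule.Quotient.mk (p := V) (Pi.single i (1 : K)))
  let S : Finset N := Finset.univ.filter fun i => i ∈ Set.range a
  have hS : ∀ x : N → K, (∀ i, i ∉ S → x i = 0) → x ∈ V → x = 0 := by
    intro x hx hxV
    haveI : Fintype κ := Fintype.ofInjective a ha
    have hsum : x = ∑ k, x (a k) • Pi.single (a k) (1 : K) := by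
      funext i
      by_cases hi : i ∈ Set.range a
      · obtain ⟨k, rfl⟩ := hi
        rw [Finset.sum_apply, Finset.sum_eq_single k]
        · simp
        · intro b _ hb; simp [Pi.single_eq_of_ne (fun h => hb (ha h).symm)]
        · simp
      · rw [hx i (by simpa [S] using hi), Finset.sum_apply]
        refine (Finset.sum_eq_zero fun b _ => ?_).symm
        simp [Pi.single_eq_of_ne (fun h => hi ⟨b, h.symm⟩)]
    have h0 : ∑ k, x (a k) • Submodule.Quotient.mk (p := V) (Pi.single (a k) (1 : K)) = 0 := by
      have := congrArg (Submodule.mkQ V) hsum.symm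
      rw [map_sum] at this
      simpa [(Submodule.Quotient.mk_eq_zero V).2 hxV] using this
    have hz := Fintype.linearIndependent_iff.1 hli _ h0
    rw [hsum]
    simp [hz]
  have hdec : ∀ z : N → K, ∃ s : N → K, (∀ i, i ∉ S → s i = 0) ∧ z - s ∈ V := by
    intro z
    have hz : Submodule.Quotient.mk (p := V) z ∈ Submodule.span K (Set.range
        ((fun i : N => Submodule.Quotient.mk (p := V) (Pi.single i (1 : K))) ∘ a)) := by
      rw [hspan, pi_eq_sum_univ' z]
      change Submodule.mkQ V _ ∈ _
      rw [map_sum]
      exact sum_mem fun i _ => by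
        rw [map_smul]; exact Submodule.smul_mem _ _ (Submodule.subset_span ⟨i, rfl⟩)
    haveI : Fintype κ := Fintype.ofInjective a ha
    obtain ⟨c, hc⟩ := (Submodule.mem_span_range_iff_exists_fun K).1 hz
    refine ⟨∑ k, c k • Pi.single (a k) (1 : K), fun i hi => ?_, ?_⟩
    · rw [Finset.sum_apply]
      refine Finset.sum_eq_zero fun b _ => ?_
      have : i ≠ a b := fun h => hi (by simp [S, h])
      simp [Pi.single_eq_of_ne this]
    · rw [← Submodule.Quotient.eq]
      rw [← hc]
      exact (map_sum (Submodule.mkQ V) _ _).symm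
  have hAV : ∀ v ∈ V, A.mulVecLin v = 0 := fun v hv => by rwa [← LinearMap.mem_ker, hA]
  let ext0 : (↥S → K) → N → K := fun y i => if h : i ∈ S then y ⟨i, h⟩ else 0
  have hblock : ∀ (y : ↥S → K) (i : N),
      (∑ j : ↥S, A i j.1 * y j) = A.mulVecLin (ext0 y) i := by
    intro y i
    simp only [Matrix.mulVecLin_apply, Matrix.mulVec, dotProduct]
    rw [← Finset.sum_subset (Finset.subset_univ S) (fun j _ hj => by simp [ext0, hj]),
      ← Finset.sum_coe_sort S]
    exact Finset.sum_congr rfl fun j _ => by simp [ext0, j.2]
  have key : Function.Bijective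
      (A.submatrix (Subtype.val : {x : N // x ∉ S} → N) (Subtype.val : ↥S → N)).mulVecLin := by
    constructor
    · rw [← LinearMap.ker_eq_bot, LinearMap.ker_eq_bot']
      intro y hy
      have hout : ∀ i, i ∉ S → A.mulVecLin (ext0 y) i = 0 := fun i hi => by
        rw [← hblock]; exact congrFun hy ⟨i, hi⟩
      have h1 := hS _ hout ⟨_, rfl⟩
      have h2 : ext0 y = 0 := hS _ (fun i hi => by simp [ext0, hi])
        (by rw [← hA]; exact LinearMap.mem_ker.2 h1)
      funext j
      simpa [ext0, j.2] using congrFun h2 j.1
    · intro y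
      obtain ⟨s, hs, hv⟩ := hdec (fun i => if h : i ∉ S then y ⟨i, h⟩ else 0)
      obtain ⟨z, hz⟩ := hv
      obtain ⟨s', hs', hv'⟩ := hdec z
      refine ⟨fun j => s' j.1, funext fun i => ?_⟩
      change (∑ j : ↥S, A i.1 j.1 * s' j.1) = _
      rw [hblock]
      have he : ext0 (fun j => s' j.1) = s' := by
        funext k; by_cases hk : k ∈ S <;> simp [ext0, hk, hs' k]
      have hzz : A.mulVecLin z = A.mulVecLin s' := by
        have := hAV _ hv'
        rwa [map_sub, sub_eq_zero] at this
      rw [he, ← hzz, hz, Pi.sub_apply, hs _ i.2]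
      simp [i.2]
  refine ⟨S, S, Sᶜ, ?_, key⟩
  let e : ↥(Sᶜ) ≃ {x : N // x ∉ S} := Equiv.subtypeEquivRight fun x => Finset.mem_compl
  have hcomp : ⇑(A.submatrix (Subtype.val : ↥Sᶜ → N) (Subtype.val : ↥S → N)).mulVecLin =
      (fun w : {x : N // x ∉ S} → K => w ∘ e) ∘
        ⇑(A.submatrix (Subtype.val : {x : N // x ∉ S} → N) (Subtype.val : ↥S → N)).mulVecLin := by
    funext y i
    rfl
  rw [hcomp]
  exact (e.arrowCongr (Equiv.refl K)).symm.bijective.comp key

end Groth.Agent.S16400
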