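import Groth.Statements.S16401
-- import your own Groth.Agent.* helpers here

set_option autoImplicit false
universe u v
open CAlgX

namespace Groth.Agent.S16401

/-- Let R be a commutative ring and (E_a), a ∈ ι, a family of additive subgroups of R indexed by an
additive commutative group ι, with E_0 = R and E_a · E_b ⊆ E_{a+b}. Let β, γ : Fin r → ι be weight
vectors with Σ_j β_j = Σ_i γ_i, and let ϑ be an r × r matrix over R with ϑ_{ij} ∈ E_{γ_i − β_j} for
all i, j and with unit determinant. Then a column vector u satisfies u_j ∈ E_{β_j} for every j if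
and only if (ϑ u)_i ∈ E_{γ_i} for every i; since ϑ is invertible this says that ϑ maps the box Π_j
E_{β_j} bijectively onto the box Π_i E_{γ_i}. -/
theorem result
    {R : Type u} [CommRing R] {ι : Type v} [AddCommGroup ι]
    (E : ι → AddSubgroup R) (h0 : E 0 = ⊤)
    (hmul : ∀ a b : ι, ∀ x ∈ E a, ∀ y ∈ E b, x * y ∈ E (a + b))
    {r : ℕ} (wβ wγ : Fin r → ι) (hsum : ∑ j, wβ j = ∑ i, wγ i)
    (ϑ : Matrix (Fin r) (Fin r) R) (hϑ : ∀ i j, ϑ i j ∈ E (wγ i - wβ j))
    (hdet : IsUnit ϑ.det) (u : Fin r → R) :
    (∀ j, u j ∈ E (wβ j)) ↔ ∀ i, ϑ.mulVec u i ∈ E (wγ i) := by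
  classical
  have hprod : ∀ (s : Finset (Fin r)) (w : Fin r → ι) (x : Fin r → R),
      (∀ k ∈ s, x k ∈ E (w k)) → ∏ k ∈ s, x k ∈ E (∑ k ∈ s, w k) := by
    intro s w x
    induction s using Finset.induction_on with
    | empty => intro _; simp [h0]
    | insert a s ha ih =>
      intro hx
      rw [Finset.prod_insert ha, Finset.sum_insert ha]
      exact hmul _ _ _ (hx a (Finset.mem_insert_self a s)) _
        (ih fun k hk => hx k (Finset.mem_insert_of_mem hk))
  have hadj : ∀ i j, ϑ.adjugate j i ∈ E (wβ j - wγ i) := by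
    intro i j
    rw [Matrix.adjugate_apply, Matrix.det_apply]
    refine sum_mem fun σ _ => ?_
    have hterm : (∏ c, (ϑ.updateRow i (Pi.single j 1)) (σ c) c) ∈ E (wβ j - wγ i) := by
      by_cases hσ : σ j = i
      · have := hprod Finset.univ (fun c => if σ c = i then 0 else wγ (σ c) - wβ c)
          (fun c => (ϑ.updateRow i (Pi.single j 1)) (σ c) c) (by
            intro c _
            by_cases hc : σ c = i
            · simp [hc, h0]
            · simp [hc, Matrix.updateRow_ne hc, hϑ])
        convert this using 2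
        have e : ∀ c, (if σ c = i then (0 : ι) else wγ (σ c) - wβ c) =
            (wγ (σ c) - wβ c) + if c = j then wβ j - wγ i else 0 := by
          intro c
          by_cases hc : c = j
          · subst hc; simp [hσ]
          · simp [hc, show σ c ≠ i from fun hc' => hc (σ.injective (hc'.trans hσ.symm))]
        rw [Finset.sum_congr rfl fun c _ => e c, Finset.sum_add_distrib, Finset.sum_ite_eq',
          if_pos (Finset.mem_univ _), Finset.sum_sub_distrib, Equiv.sum_comp σ wγ, hsum]
        simp
      · rw [Finset.prod_eq_zero (Finset.mem_univ (σ.symm i))]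
        · exact zero_mem _
        · have : σ.symm i ≠ j := fun hj => hσ (by rw [← hj]; simp)
          simp [this]
    rcases Int.units_eq_one_or (Equiv.Perm.sign σ) with hs | hs
    · simpa [hs] using hterm
    · simpa [hs] using neg_mem hterm
  obtain ⟨e, he⟩ := hdet
  constructor
  · intro hu i
    simp only [Matrix.mulVec, dotProduct]
    refine sum_mem fun j _ => ?_
    have := hmul _ _ _ (hϑ i j) _ (hu j)
    simpa using this
  · intro hv j
    have hu : u = (↑e⁻¹ : R) • ϑ.adjugate.mulVec (ϑ.mulVec u) := by
      rw [Matrix.mulVec_mulVec, Matrix.adjugate_mul, ← he, Matrix.smul_mulVec, Matrix.one_mulVec,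
        smul_smul, Units.inv_mul, one_smul]
    rw [hu, Pi.smul_apply, smul_eq_mul, ← zero_add (wβ j)]
    refine hmul _ _ _ (by rw [h0]; trivial) _ ?_
    rw [Matrix.mulVec, dotProduct]
    refine sum_mem fun i _ => ?_
    have := hmul _ _ _ (hadj i j) _ (hv i)
    simpa using this

end Groth.Agent.S16401
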