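import Groth.Statements.S16402
import Mathlib
import Groth.Agent.SymBasis86.Basic

set_option autoImplicit false
open SymBasis

namespace Groth.Agent.S16402

open MvPolynomial

variable (n : ℕ)

/-- substitution of the elementary symmetric polynomials -/
noncomputable def ev : MvPolynomial (Fin n) (MvPolynomial (Fin n) ℤ) →+* MvPolynomial (Fin n) ℤ :=
  eval₂Hom (aeval (fun i : Fin n => esymm (Fin n) ℤ ((i : ℕ) + 1))).toRingHom X

theorem ev_comb (p : SymBasis86.D n → MvPolynomial (Fin n) ℤ) :
    ev n (SymBasis86.comb n p) = ∑ d : SymBasis86.D n,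
      (aeval (fun i : Fin n => esymm (Fin n) ℤ ((i : ℕ) + 1))) (p d) *
        ∏ i : Fin n, X i ^ ((d i : ℕ)) := by
  simp [ev, SymBasis86.comb, map_sum, map_mul, map_prod]

theorem ev_eq_zero_iff (x : MvPolynomial (Fin n) (MvPolynomial (Fin n) ℤ)) :
    ev n x = 0 ↔ x ∈ SymBasis86.rel n (SymBasis86.ext0 (fun i : Fin n => (X i : MvPolynomial (Fin n) ℤ))) := by
  rw [SymBasis86.rel_ext0]
  set I := Ideal.span (Set.range fun i : Fin n =>
    esymm (Fin n) (MvPolynomial (Fin n) ℤ) ((i : ℕ) + 1) - C (X i : MvPolynomial (Fin n) ℤ)) with hI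
  let sec : MvPolynomial (Fin n) ℤ →+* MvPolynomial (Fin n) (MvPolynomial (Fin n) ℤ) := map C
  have hsec : ((Ideal.Quotient.mk I).comp sec).comp (ev n) = Ideal.Quotient.mk I := by
    refine MvPolynomial.ringHom_ext (fun r => ?_) (fun i => by simp [ev, sec])
    have h2 : (((Ideal.Quotient.mk I).comp sec).comp (ev n)).comp C =
        (Ideal.Quotient.mk I).comp C := by
      refine MvPolynomial.ringHom_ext (fun z => by simp [ev, sec]) (fun i => ?_)
      simp only [RingHom.comp_apply, ev, eval₂Hom_C, AlgHom.toRingHom_eq_coe, RingHom.coe_coe,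
        aeval_X, sec, map_esymm]
      exact Ideal.Quotient.eq.2 (Ideal.subset_span ⟨i, rfl⟩)
    exact congrArg (fun f => f r) h2
  constructor
  · intro h
    have := congrArg (fun f => f x) hsec
    simp only [RingHom.comp_apply, h, map_zero] at this
    exact Ideal.Quotient.eq_zero_iff_mem.1 this.symm
  · intro h
    have hle : I ≤ RingHom.ker (ev n) := by
      refine Ideal.span_le.2 ?_
      rintro _ ⟨i, rfl⟩
      simp only [SetLike.mem_coe, RingHom.mem_ker, map_sub, sub_eq_zero]
      simp [ev, MvPolynomial.esymm, map_sum, map_prod]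
    exact hle h

theorem ev_surjective : Function.Surjective (ev n) := fun y => by
  refine ⟨map C y, ?_⟩
  have : (ev n).comp (map (C : ℤ →+* MvPolynomial (Fin n) ℤ)) = RingHom.id _ :=
    MvPolynomial.ringHom_ext (fun z => by simp [ev]) (fun i => by simp [ev])
  exact congrArg (fun f => f y) this


/-- For n ≥ 2, the polynomial ring ℤ[t_1, …, t_n] is a free module of rank n! over ℤ[c_1, …, c_n] acting
through c_i ↦ e_i(t), the i-th elementary symmetric polynomial in the t_j, and the monomials
t_1^{d_1} ⋯ t_n^{d_n} with 0 ≤ d_i ≤ n − i form a basis: every polynomial is in exactly one way a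
sum Σ_d f(p_d) · t^d with p_d ∈ ℤ[c_1, …, c_n], f the substitution c_i ↦ e_i(t). The published
statement is phrased for the Chow ring of the classifying stack of the diagonal torus as a module
over that of the classifying stack of GL_n, identified with ℤ[t_1, …, t_n] ⊇ ℤ[c_1, …, c_n] in this
way. -/
theorem result (n : ℕ) (hn : 2 ≤ n) :
    Function.Bijective (fun p : (Π i : Fin n, Fin (n - (i : ℕ))) → MvPolynomial (Fin n) ℤ =>
      ∑ d : (Π i : Fin n, Fin (n - (i : ℕ))),
        (MvPolynomial.aeval (fun i : Fin n => MvPolynomial.esymm (Fin n) ℤ ((i : ℕ) + 1))) (p d) *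
          ∏ i : Fin n, MvPolynomial.X i ^ ((d i : ℕ))) := by
  set a := SymBasis86.ext0 (fun i : Fin n => (MvPolynomial.X i : MvPolynomial (Fin n) ℤ))
  obtain ⟨h1, h2⟩ := SymBasis86.main n (MvPolynomial (Fin n) ℤ) a
  constructor
  · intro p p' h
    rw [← sub_eq_zero]
    refine h2 _ ?_
    rw [← ev_eq_zero_iff, ← SymBasis86.comb_sub, map_sub, ev_comb, ev_comb]
    exact sub_eq_zero.2 h
  · intro y
    obtain ⟨x, rfl⟩ := ev_surjective n y
    obtain ⟨γ, hγ⟩ := h1 x
    rw [← ev_eq_zero_iff, map_sub, ev_comb, sub_eq_zero] at hγ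
    exact ⟨γ, hγ.symm⟩

end Groth.Agent.S16402
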