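import Groth.Statements.S16405
import Mathlib

set_option autoImplicit false
universe u v
open InvQ

namespace Groth.Agent.S16405

/-- In weight form. Let b : L → ℤ^r be an injective homomorphism of abelian groups (the case in view: L
the character group of a maximal torus T of a semisimple group over ℂ and b the map dual to the
surjection of the rank-r split torus T' onto T that sends the i-th coordinate cocharacter to the
primitive generator of the i-th ray of the Weyl chamber; only the injectivity of b is used, and ℂ is
replaced by any commutative ring k). Grade the monoid algebra k[L × ℕ^r] (the coordinate ring of T ×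
𝔸^r) by ℤ^r, the monomial (w, n) having weight b(w) + n (the weights of the T'-action u·(t, v) =
(b^∨(u) t, u v)), and grade k[ℕ^r] by ℤ^r/b(L), the monomial n having weight the class of n (the
weights of the action on 𝔸^r of the diagonalizable kernel Z of T' → T, a finite group in the case in
view). For a diagonalizable group acting on an affine scheme the ring of invariants is the
weight-zero part, so the two weight-zero parts are the coordinate rings of the quotients (T ×
𝔸^r)//T' and 𝔸^r//Z. The statement: the algebra map k[L × ℕ^r] → k[ℕ^r] induced by the projection L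
× ℕ^r → ℕ^r (restriction to the slice 1 × 𝔸^r) maps the weight-zero part of k[L × ℕ^r] bijectively
onto the weight-zero part of k[ℕ^r]; hence it induces an isomorphism of k-algebras between them. -/
theorem result
    (k : Type u) [CommRing k] (r : ℕ) (L : Type v) [AddCommGroup L]
    (b : L →+ (Fin r → ℤ)) (hb : Function.Injective b) :
    Set.BijOn
      (AddMonoidAlgebra.mapDomainAlgHom k k (AddMonoidHom.snd L (Fin r → ℕ)))
      (AddMonoidAlgebra.gradeBy k
        (b.comp (AddMonoidHom.fst L (Fin r → ℕ)) +
          (AddMonoidHom.compLeft (Nat.castAddMonoidHom ℤ) (Fin r)).comp (AddMonoidHom.snd L (Fin r → ℕ))) 0 :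
        Set (AddMonoidAlgebra k (L × (Fin r → ℕ))))
      (AddMonoidAlgebra.gradeBy k
        ((QuotientAddGroup.mk' b.range).comp (AddMonoidHom.compLeft (Nat.castAddMonoidHom ℤ) (Fin r))) 0 :
        Set (AddMonoidAlgebra k (Fin r → ℕ))) := by
  classical
  let φ : (L × (Fin r → ℕ)) → (Fin r → ℕ) := Prod.snd
  let F := AddMonoidAlgebra.mapDomainAlgHom k k (AddMonoidHom.snd L (Fin r → ℕ))
  have hcoe : ∀ n : Fin r → ℕ, ((AddMonoidHom.compLeft (Nat.castAddMonoidHom ℤ) (Fin r)) n) = fun i => (n i : ℤ) :=
    fun n => rfl
  let S : Set (L × (Fin r → ℕ)) := {q | b q.1 + (fun i => (q.2 i : ℤ)) = 0}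
  have hinjS : Set.InjOn φ S := by
    rintro ⟨w, n⟩ h ⟨w', n'⟩ h' (e : n = n')
    subst e
    simp only [S, Set.mem_ofPred_eq] at h h'
    have : b w = b w' := add_right_cancel (h.trans h'.symm)
    rw [hb this]
  have hF : ∀ a : AddMonoidAlgebra k (L × (Fin r → ℕ)), (F a).coeff = a.coeff.mapDomain φ := fun a => rfl
  refine ⟨?_, ?_, ?_⟩
  · intro a ha
    simp only [SetLike.mem_coe, AddMonoidAlgebra.mem_gradeBy_iff] at ha ⊢
    intro n hn
    rw [hF] at hn
    obtain ⟨q, hq, rfl⟩ := Finset.mem_image.mp (Finsupp.mapDomain_support hn)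
    have h := ha hq
    simp only [Set.mem_preimage, Set.mem_singleton_iff, AddMonoidHom.add_apply, AddMonoidHom.comp_apply] at h ⊢
    rw [QuotientAddGroup.mk'_apply, QuotientAddGroup.eq_zero_iff]
    exact ⟨-q.1, by rw [map_neg]; exact neg_eq_of_add_eq_zero_right h⟩
  · intro a ha a' ha' e
    simp only [SetLike.mem_coe, AddMonoidAlgebra.mem_gradeBy_iff] at ha ha'
    refine AddMonoidAlgebra.coeff_injective ?_
    have e' := congrArg AddMonoidAlgebra.coeff e
    rw [hF, hF] at e'
    exact Finsupp.mapDomain_injOn S hinjS ha ha' e'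
  · intro c hc
    simp only [SetLike.mem_coe, AddMonoidAlgebra.mem_gradeBy_iff] at hc
    let s : (Fin r → ℕ) → L × (Fin r → ℕ) := fun n =>
      (Function.invFun b (-(fun i => (n i : ℤ))), n)
    refine ⟨AddMonoidAlgebra.ofCoeff (c.coeff.mapDomain s), ?_, ?_⟩
    · simp only [SetLike.mem_coe, AddMonoidAlgebra.mem_gradeBy_iff]
      intro q hq
      obtain ⟨n, hn, rfl⟩ := Finset.mem_image.mp (Finsupp.mapDomain_support hq)
      have h := hc hn
      simp only [Set.mem_preimage, Set.mem_singleton_iff, AddMonoidHom.comp_apply, QuotientAddGroup.mk'_apply,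
        QuotientAddGroup.eq_zero_iff] at h
      obtain ⟨w, hw⟩ := h
      have hex : ∃ w', b w' = -(fun i => (n i : ℤ)) := ⟨-w, by rw [map_neg, hw]; rfl⟩
      simp only [Set.mem_preimage, Set.mem_singleton_iff, AddMonoidHom.add_apply, AddMonoidHom.comp_apply]
      change b (Function.invFun b (-(fun i => (n i : ℤ)))) + (fun i => (n i : ℤ)) = 0
      rw [Function.invFun_eq hex, neg_add_cancel]
    · refine AddMonoidAlgebra.coeff_injective ?_
      change (c.coeff.mapDomain s).mapDomain φ = c.coeff
      rw [← Finsupp.mapDomain_comp]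
      exact Finsupp.mapDomain_id

end Groth.Agent.S16405
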