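import Groth.Statements.S16410
import Groth.Agent.MVTri.Basic

set_option autoImplicit false
universe v u
open CategoryTheory CategoryTheory.Limits CategoryTheory.Pretriangulated
open W4c3perfectstacks W4c3perfectstacks.MVSq

set_option backward.isDefEq.respectTransparency false

namespace Groth.Agent.S16410

open Groth.Agent.MVTri.Basic

/-- Glueing along a Mayer–Vietoris square of triangulated categories (single-square form). Given N_U
over U, N' over X' and an isomorphism δ between the restriction of N' to U' and the pullback of N_U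
to U', let N over X be the third vertex of a distinguished triangle N ⟶ j_* N_U ⊞ f_* N' ⟶ f_* j'_*
g^* N_U ⟶ N⟦1⟧ whose middle map has components (unit of f at j_* N_U followed by f_* of the exchange
map f^* j_* N_U ⟶ j'_* g^* N_U) and (minus f_* of: unit of j' at N' followed by j'_* δ). Then the
maps j^* N ⟶ N_U and f^* N ⟶ N' adjoint to the two components of the first arrow are isomorphisms.
(Equivalently, the third vertex may be taken to be f_* f^* j_* N_U, identified with f_* j'_* g^* N_U
through the invertible exchange map; the four categories are taken in common universes.) -/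
theorem result
    (S S' R R' : Type u) [Category.{v} S] [Category.{v} S'] [Category.{v} R] [Category.{v} R']
    [Preadditive S] [Preadditive S'] [Preadditive R] [Preadditive R']
    [HasZeroObject S] [HasZeroObject S'] [HasZeroObject R] [HasZeroObject R']
    [HasShift S ℤ] [HasShift S' ℤ] [HasShift R ℤ] [HasShift R' ℤ]
    [∀ n : ℤ, (shiftFunctor S n).Additive] [∀ n : ℤ, (shiftFunctor S' n).Additive]
    [∀ n : ℤ, (shiftFunctor R n).Additive] [∀ n : ℤ, (shiftFunctor R' n).Additive]
    [Pretriangulated S] [Pretriangulated S'] [Pretriangulated R] [Pretriangulated R']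
    [IsTriangulated S] [IsTriangulated S'] [IsTriangulated R] [IsTriangulated R']
    (q : W4c3perfectstacks.MVSq S S' R R')
    [q.jst.CommShift ℤ] [q.fst.CommShift ℤ] [q.jpst.CommShift ℤ] [q.gst.CommShift ℤ]
    [q.jst.IsTriangulated] [q.fst.IsTriangulated] [q.jpst.IsTriangulated] [q.gst.IsTriangulated]
    (hq : q.IsMV) (NU : R) (N' : S') (δ : q.jpst.obj N' ≅ q.gst.obj NU) (N : S)
    (a : N ⟶ q.jls.obj NU ⊞ q.fls.obj N')
    (d : q.fls.obj (q.jpls.obj (q.gst.obj NU)) ⟶ N⟦(1 : ℤ)⟧)
    (hT : Triangle.mk a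
      (biprod.desc (q.adjF.unit.app (q.jls.obj NU) ≫ q.fls.map (q.bc2App NU))
        (-(q.fls.map (q.adjJp.unit.app N' ≫ q.jpls.map δ.hom)))) d ∈ distTriang S) :
    IsIso ((q.adjJ.homEquiv N NU).symm (a ≫ biprod.fst)) ∧
      IsIso ((q.adjF.homEquiv N N').symm (a ≫ biprod.snd)) := by
  have := hq.isIso_counitJ
  have := hq.isIso_counitJp
  let s : N' ⟶ q.jpls.obj (q.gst.obj NU) := q.adjJp.unit.app N' ≫ q.jpls.map δ.hom
  let ψJ := q.jst.map (a ≫ biprod.fst) ≫ q.adjJ.counit.app NU
  let ψ := q.fst.map (a ≫ biprod.snd) ≫ q.adjF.counit.app N'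
  have hs : q.jpst.map s ≫ q.adjJp.counit.app (q.gst.obj NU) = δ.hom := by
    change q.jpst.map (q.adjJp.unit.app N' ≫ q.jpls.map δ.hom) ≫ _ = _
    rw [q.jpst.map_comp, Category.assoc]
    change _ ≫ (q.jpls ⋙ q.jpst).map δ.hom ≫ _ = _
    rw [q.adjJp.counit.naturality]
    exact q.adjJp.left_triangle_components_assoc _ δ.hom
  have hJs : IsIso (q.jpst.map s) := by
    have : IsIso (q.jpst.map s ≫ q.adjJp.counit.app (q.gst.obj NU)) := by
      rw [hs]
      infer_instance
    exact IsIso.of_isIso_comp_right _ (q.adjJp.counit.app (q.gst.obj NU))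
  have hJF : IsIso (q.jst.map (q.fls.map s)) := by
    have := hq.isIso_bcApp N'
    have := hq.isIso_bcApp (q.jpls.obj (q.gst.obj NU))
    have : IsIso (q.gls.map (q.jpst.map s)) := inferInstance
    have hn : q.jst.map (q.fls.map s) ≫ q.bcApp (q.jpls.obj (q.gst.obj NU)) =
        q.bcApp N' ≫ q.gls.map (q.jpst.map s) := by
      rw [MVSq.bcApp, MVSq.bcApp]
      have a1 := q.adjG.unit.naturality (q.jst.map (q.fls.map s))
      have a2 := q.e.hom.naturality (q.fls.map s)
      have a3 := q.adjF.counit.naturality s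
      dsimp at a1 a2 a3 ⊢
      rw [reassoc_of% a1]
      simp only [Category.assoc, ← Functor.map_comp]
      rw [reassoc_of% a2, ← Functor.map_comp, a3, Functor.map_comp]
    exact IsIso.of_isIso_fac_right hn
  let v : q.jls.obj NU ⊞ q.fls.obj N' ⟶ q.fls.obj (q.jpls.obj (q.gst.obj NU)) :=
    biprod.desc (q.adjF.unit.app (q.jls.obj NU) ≫ q.fls.map (q.bc2App NU)) (-(q.fls.map s))
  change Triangle.mk a v d ∈ distTriang S at hT
  have hT' := q.jst.map_distinguished _ hT
  have hi : q.jst.map biprod.inr ≫ q.jst.map v = -(q.jst.map (q.fls.map s)) := by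
    rw [← q.jst.map_comp, biprod.inr_desc, Functor.map_neg]
  have hi' : IsIso (q.jst.map biprod.inr ≫ q.jst.map v) := by
    rw [hi]
    exact ⟨-inv (q.jst.map (q.fls.map s)), by simp, by simp⟩
  have hepi : Epi (q.jst.map v) := epi_of_epi (q.jst.map biprod.inr) _
  have hJa : IsIso (q.jst.map (a ≫ biprod.fst)) := by
    have hmono : Mono (q.jst.map a) :=
      Triangle.mono₁ _ hT' (Triangle.mor₃_eq_zero_of_epi₂ _ hT' hepi)
    have htot : q.jst.map (𝟙 (q.jls.obj NU ⊞ q.fls.obj N')) =
        q.jst.map biprod.fst ≫ q.jst.map biprod.inl + q.jst.map biprod.snd ≫ q.jst.map biprod.inr := by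
      rw [← q.jst.map_comp, ← q.jst.map_comp, ← q.jst.map_add, biprod.total]
    have hz : q.jst.map a ≫ q.jst.map v = 0 := by
      rw [← q.jst.map_comp, show a ≫ v = 0 from comp_distTriang_mor_zero₁₂ _ hT, Functor.map_zero]
    let u := q.jst.map biprod.inl - q.jst.map biprod.inl ≫ q.jst.map v ≫
      inv (q.jst.map biprod.inr ≫ q.jst.map v) ≫ q.jst.map biprod.inr
    have hu : u ≫ q.jst.map v = 0 := by
      simp [u, Category.assoc]
    obtain ⟨g, hg⟩ : ∃ g, u = g ≫ q.jst.map a := Triangle.coyoneda_exact₂ _ hT' u hu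
    have hir : q.jst.map (biprod.inr : q.fls.obj N' ⟶ q.jls.obj NU ⊞ _) ≫ q.jst.map biprod.fst = 0 := by
      rw [← q.jst.map_comp, biprod.inr_fst, Functor.map_zero]
    have hgfst : g ≫ q.jst.map (a ≫ biprod.fst) = 𝟙 _ := by
      rw [q.jst.map_comp, ← Category.assoc, ← hg]
      simp only [u, Preadditive.sub_comp, Category.assoc, hir, comp_zero, sub_zero,
        ← q.jst.map_comp, biprod.inl_fst, q.jst.map_id]
    have : IsSplitEpi (q.jst.map (a ≫ biprod.fst)) := IsSplitEpi.mk' ⟨g, hgfst⟩
    have : Mono (q.jst.map (a ≫ biprod.fst)) := by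
      refine Preadditive.mono_of_cancel_zero _ fun {P} k hk => ?_
      rw [← cancel_mono (q.jst.map a), zero_comp]
      rw [q.jst.map_comp] at hk
      have h1 : k ≫ q.jst.map a =
          (k ≫ q.jst.map a ≫ q.jst.map biprod.snd) ≫ q.jst.map biprod.inr := by
        conv_lhs => rw [← Category.comp_id (q.jst.map a), ← q.jst.map_id, htot]
        simp [Preadditive.comp_add, reassoc_of% hk]
      have h2 : (k ≫ q.jst.map a ≫ q.jst.map biprod.snd) ≫
          (q.jst.map biprod.inr ≫ q.jst.map v) = 0 := by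
        rw [← Category.assoc, ← h1, Category.assoc, hz, comp_zero]
      have h3 : k ≫ q.jst.map a ≫ q.jst.map biprod.snd = 0 :=
        (cancel_mono (q.jst.map biprod.inr ≫ q.jst.map v)).mp (h2.trans zero_comp.symm)
      rw [h1, h3, zero_comp]
    exact isIso_of_mono_of_isSplitEpi _
  have hJ : IsIso ψJ := inferInstanceAs (IsIso (_ ≫ _))
  refine ⟨by rw [Adjunction.homEquiv_counit]; exact hJ, ?_⟩
  rw [Adjunction.homEquiv_counit]
  have hrel : q.fst.map (a ≫ biprod.fst) ≫ q.bc2App NU = ψ ≫ s := by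
    have h : a ≫ v = 0 := comp_distTriang_mor_zero₁₂ _ hT
    have h2 : (a ≫ biprod.fst) ≫ q.adjF.unit.app (q.jls.obj NU) ≫ q.fls.map (q.bc2App NU) =
        (a ≫ biprod.snd) ≫ q.fls.map s := by
      rw [show v = biprod.fst ≫ (q.adjF.unit.app (q.jls.obj NU) ≫ q.fls.map (q.bc2App NU)) +
          biprod.snd ≫ (-(q.fls.map s)) from by apply biprod.hom_ext' <;> simp [v]] at h
      simpa [← sub_eq_add_neg, sub_eq_zero] using h
    have n1 := q.adjF.unit.naturality (a ≫ biprod.fst)
    dsimp at n1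
    replace h2 : q.adjF.unit.app N ≫ q.fls.map (q.fst.map (a ≫ biprod.fst) ≫ q.bc2App NU) =
        (a ≫ biprod.snd) ≫ q.fls.map s := by
      refine Eq.trans ?_ h2
      rw [← Category.assoc (a ≫ biprod.fst), n1, Category.assoc, ← Functor.map_comp]
    have h3 := congrArg (fun k => q.fst.map k ≫ q.adjF.counit.app _) h2
    beta_reduce at h3
    have key : ∀ {X : S} {Y Z : S'} (f : X ⟶ q.fls.obj Y) (g : Y ⟶ Z),
        q.fst.map (f ≫ q.fls.map g) ≫ q.adjF.counit.app Z =
          (q.fst.map f ≫ q.adjF.counit.app Y) ≫ g := by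
      intro X Y Z f g
      simp
    rw [key, key] at h3
    erw [q.adjF.left_triangle_components N, Category.id_comp] at h3
    exact h3
  have hJψ : IsIso (q.jpst.map ψ) := by
    have e1 : q.jpst.map (q.bc2App NU) ≫ q.adjJp.counit.app (q.gst.obj NU) =
        q.e.inv.app (q.jls.obj NU) ≫ q.gst.map (q.adjJ.counit.app NU) := by
      rw [MVSq.bc2App, ← Functor.map_comp q.jpls, q.jpst.map_comp, Category.assoc]
      change _ ≫ (q.jpls ⋙ q.jpst).map _ ≫ _ = _
      rw [q.adjJp.counit.naturality]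
      exact q.adjJp.left_triangle_components_assoc _ _
    have e2 : q.jpst.map ψ ≫ δ.hom = q.e.inv.app N ≫ q.gst.map ψJ := by
      rw [← hs, ← Category.assoc, ← q.jpst.map_comp, ← hrel, q.jpst.map_comp, Category.assoc, e1]
      have n2 := q.e.inv.naturality (a ≫ biprod.fst)
      dsimp at n2
      rw [reassoc_of% n2, ← q.gst.map_comp]
    exact IsIso.of_isIso_fac_right e2
  refine isIso_of_killed q.jpst ψ fun {L} hL => ?_
  have := hq.isIso_counitF L hL
  have hX := isZero_jst_fls hq.isIso_bcApp hL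
  have hC : ∀ {X : S}, IsZero (q.jst.obj X) → ∀ f : X ⟶ q.fls.obj (q.jpls.obj (q.gst.obj NU)), f = 0 := by
    intro X hX f
    apply (q.adjF.homEquiv _ _).symm.injective
    rw [hom_jpls_eq_zero (isZero_jpst_fst hX) ((q.adjF.homEquiv _ _).symm f)]
    exact (hom_jpls_eq_zero (isZero_jpst_fst hX) _).symm
  have hb := comp_snd_bijective (q := q) hT (fun hX f => hom_jls_eq_zero hX f) hC hX
  have hF := fst_map_bijective hq hX N
  have hpre : ∀ {Y : S'}, Function.Bijective
      (fun k : q.fst.obj (q.fls.obj L) ⟶ Y => inv (q.adjF.counit.app L) ≫ k) :=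
    fun {Y} => ⟨fun k k' h => (cancel_epi _).mp h, fun k => ⟨q.adjF.counit.app L ≫ k, by simp⟩⟩
  let α : (L ⟶ q.fst.obj N) → (L ⟶ N') := fun g => g ≫ ψ
  have hcomp : Function.Bijective (fun g : q.fls.obj L ⟶ N =>
      α (inv (q.adjF.counit.app L) ≫ q.fst.map g)) := by
    have : (fun g : q.fls.obj L ⟶ N => α (inv (q.adjF.counit.app L) ≫ q.fst.map g)) =
        (fun k => inv (q.adjF.counit.app L) ≫ k) ∘ (q.adjF.homEquiv _ _).symm ∘
          (fun g : q.fls.obj L ⟶ N => g ≫ a ≫ biprod.snd) := by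
      funext g
      simp [α, ψ, Adjunction.homEquiv_counit]
    rw [this]
    exact hpre.comp ((Equiv.bijective _).comp hb)
  exact (Function.Bijective.of_comp_iff α (hpre.comp hF)).mp hcomp

end Groth.Agent.S16410
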