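import Groth.Statements.S16411
import Groth.Agent.MVTri.Basic

set_option autoImplicit false
universe v u
open CategoryTheory CategoryTheory.Limits CategoryTheory.Pretriangulated
open W4c3perfectstacks W4c3perfectstacks.MVSq

set_option backward.isDefEq.respectTransparency false

namespace Groth.Agent.S16411

open Groth.Agent.MVTri.Basic

section

variable {C : Type*} [Category.{v} C] [Preadditive C] {ι : Type v} (X : ι → C) [HasCoproduct X]

/-- The projection of a coproduct onto one of its summands. -/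
noncomputable def proj (i : ι) : ∐ X ⟶ X i := by
  classical exact Sigma.desc fun j => if h : j = i then eqToHom (congrArg X h) else 0

lemma ι_proj_self (i : ι) : Sigma.ι X i ≫ proj X i = 𝟙 _ := by simp [proj]

lemma ι_proj_ne {i j : ι} (h : j ≠ i) : Sigma.ι X j ≫ proj X i = 0 := by simp [proj, h]

/-- The endomorphism of a coproduct killing the summands in a finite set. -/
noncomputable def tail (s : Finset ι) : ∐ X ⟶ ∐ X := 𝟙 _ - ∑ i ∈ s, proj X i ≫ Sigma.ι X i

lemma ι_tail {s : Finset ι} {i : ι} (h : i ∈ s) : Sigma.ι X i ≫ tail X s = 0 := by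
  classical
  rw [tail, Preadditive.comp_sub, Preadditive.comp_sum, Category.comp_id, Finset.sum_eq_single i,
    reassoc_of% ι_proj_self X i, sub_self]
  · intro j _ hj
    rw [reassoc_of% ι_proj_ne X (Ne.symm hj), zero_comp]
  · exact fun h' => absurd h h'

lemma tail_comp_tail {s t : Finset ι} (h : s ⊆ t) : tail X s ≫ tail X t = tail X t := by
  rw [show tail X s = 𝟙 _ - ∑ i ∈ s, proj X i ≫ Sigma.ι X i from rfl, Preadditive.sub_comp,
    Category.id_comp, Preadditive.sum_comp, Finset.sum_eq_zero, sub_zero]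
  intro i hi
  rw [Category.assoc, ι_tail X (h hi), comp_zero]

lemma comp_tail_of_subset {A : C} {f : A ⟶ ∐ X} {s t : Finset ι} (h : s ⊆ t)
    (hs : f ≫ tail X s = 0) : f ≫ tail X t = 0 := by
  rw [← tail_comp_tail X h, reassoc_of% hs, zero_comp]

lemma homSum_proj (K : C) (x : DirectSum ι fun i => K ⟶ X i) (j : ι) :
    CohDer.homSumToHomCoprod K X x ≫ proj X j = x j := by
  classical
  induction x using DirectSum.induction_on with
  | zero => simp
  | of i f =>
    rw [CohDer.homSumToHomCoprod, DirectSum.toAddMonoid_of]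
    by_cases h : i = j
    · subst h
      rw [DirectSum.of_eq_same]
      simp [Preadditive.rightComp, ι_proj_self]
    · rw [DirectSum.of_eq_of_ne _ _ _ (Ne.symm h)]
      simp [Preadditive.rightComp, ι_proj_ne X h]
  | add x y hx hy => simp [hx, hy]

lemma homSum_injective (K : C) : Function.Injective (CohDer.homSumToHomCoprod K X) := by
  intro x y h
  refine DFunLike.ext _ _ fun j => ?_
  rw [← homSum_proj, h, homSum_proj]

lemma mem_range_of_comp_tail {K : C} {f : K ⟶ ∐ X} {s : Finset ι} (h : f ≫ tail X s = 0) :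
    ∃ x, CohDer.homSumToHomCoprod K X x = f := by
  classical
  refine ⟨∑ i ∈ s, DirectSum.of _ i (f ≫ proj X i), ?_⟩
  rw [map_sum]
  rw [tail, Preadditive.comp_sub, Category.comp_id, sub_eq_zero, Preadditive.comp_sum] at h
  refine Eq.trans (Finset.sum_congr rfl fun i _ => ?_) h.symm
  rw [CohDer.homSumToHomCoprod, DirectSum.toAddMonoid_of]
  simp [Preadditive.rightComp]

end

lemma exists_tail_id {C : Type*} [Category.{v} C] [Preadditive C] [HasCoproducts.{v} C] {K : C}
    (hK : CohDer.IsCompactObject K) {ι : Type v} (X : ι → C) (f : K ⟶ ∐ X) :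
    ∃ s : Finset ι, f ≫ tail X s = 0 := by
  classical
  obtain ⟨x, rfl⟩ := (hK ι X).2 f
  induction x using DirectSum.induction_on with
  | zero => exact ⟨∅, by simp⟩
  | of i g =>
    refine ⟨{i}, ?_⟩
    rw [CohDer.homSumToHomCoprod, DirectSum.toAddMonoid_of]
    simp [Preadditive.rightComp, ι_tail X (Finset.mem_singleton_self i)]
  | add x y hx hy =>
    obtain ⟨s, hs⟩ := hx
    obtain ⟨t, ht⟩ := hy
    refine ⟨s ∪ t, ?_⟩
    rw [map_add, Preadditive.add_comp, comp_tail_of_subset X Finset.subset_union_left hs,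
      comp_tail_of_subset X Finset.subset_union_right ht, add_zero]

lemma exists_tail_map {C D : Type*} [Category.{v} C] [Category.{v} D] [Preadditive C] [Preadditive D]
    [HasCoproducts.{v} D] {K : D} (hK : CohDer.IsCompactObject K) (H : C ⥤ D) [H.Additive]
    {ι : Type v} (X : ι → C) [HasCoproduct X] [PreservesColimit (Discrete.functor X) H]
    (f : K ⟶ H.obj (∐ X)) : ∃ s : Finset ι, f ≫ H.map (tail X s) = 0 := by
  classical
  obtain ⟨s, hs⟩ := exists_tail_id hK (fun i => H.obj (X i)) (f ≫ inv (sigmaComparison H X))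
  refine ⟨s, ?_⟩
  have hp : ∀ i, sigmaComparison H X ≫ H.map (proj X i) = proj (fun i => H.obj (X i)) i := by
    intro i
    refine Sigma.hom_ext _ _ fun j => ?_
    rw [ι_comp_sigmaComparison_assoc, ← H.map_comp]
    by_cases h : j = i
    · subst h
      rw [ι_proj_self, ι_proj_self, H.map_id]
    · rw [ι_proj_ne X h, ι_proj_ne _ h, H.map_zero]
  have ht : sigmaComparison H X ≫ H.map (tail X s) =
      tail (fun i => H.obj (X i)) s ≫ sigmaComparison H X := by
    simp only [tail, H.map_sub, H.map_id, H.map_sum, H.map_comp, Preadditive.comp_sub,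
      Preadditive.sub_comp, Category.comp_id, Category.id_comp, Preadditive.comp_sum,
      Preadditive.sum_comp, Category.assoc, ι_comp_sigmaComparison, reassoc_of% hp]
  calc f ≫ H.map (tail X s)
      = (f ≫ inv (sigmaComparison H X)) ≫ sigmaComparison H X ≫ H.map (tail X s) := by simp
    _ = ((f ≫ inv (sigmaComparison H X)) ≫ tail (fun i => H.obj (X i)) s) ≫ sigmaComparison H X := by
      rw [ht]; simp only [Category.assoc]
    _ = 0 := by rw [hs, zero_comp]


/-- In a Mayer–Vietoris square of triangulated categories with small coproducts (single-square form), an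
object over X whose restrictions to U, to X' and to U' are compact is compact. (The four categories
are taken in common universes; coproducts are indexed by types in the morphism universe.) -/
theorem result
    (S S' R R' : Type u) [Category.{v} S] [Category.{v} S'] [Category.{v} R] [Category.{v} R']
    [Preadditive S] [Preadditive S'] [Preadditive R] [Preadditive R']
    [HasZeroObject S] [HasZeroObject S'] [HasZeroObject R] [HasZeroObject R']
    [HasShift S ℤ] [HasShift S' ℤ] [HasShift R ℤ] [HasShift R' ℤ]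
    [∀ n : ℤ, (shiftFunctor S n).Additive] [∀ n : ℤ, (shiftFunctor S' n).Additive]
    [∀ n : ℤ, (shiftFunctor R n).Additive] [∀ n : ℤ, (shiftFunctor R' n).Additive]
    [Pretriangulated S] [Pretriangulated S'] [Pretriangulated R] [Pretriangulated R']
    [IsTriangulated S] [IsTriangulated S'] [IsTriangulated R] [IsTriangulated R']
    (q : W4c3perfectstacks.MVSq S S' R R')
    [q.jst.CommShift ℤ] [q.fst.CommShift ℤ] [q.jpst.CommShift ℤ] [q.gst.CommShift ℤ]
    [q.jst.IsTriangulated] [q.fst.IsTriangulated] [q.jpst.IsTriangulated] [q.gst.IsTriangulated]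
    (hq : q.IsMV)
    [HasCoproducts.{v} S] [HasCoproducts.{v} S'] [HasCoproducts.{v} R] [HasCoproducts.{v} R']
    (N : S) (hU : CohDer.IsCompactObject (q.jst.obj N)) (hX' : CohDer.IsCompactObject (q.fst.obj N))
    (hU' : CohDer.IsCompactObject (q.gst.obj (q.jst.obj N))) :
    CohDer.IsCompactObject N := by
  have : PreservesColimitsOfSize.{v, v} q.jst := q.adjJ.leftAdjoint_preservesColimits
  have : PreservesColimitsOfSize.{v, v} q.fst := q.adjF.leftAdjoint_preservesColimits
  have : PreservesColimitsOfSize.{v, v} (q.jst ⋙ q.gst) := (q.adjJ.comp q.adjG).leftAdjoint_preservesColimits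
  intro ι X
  refine ⟨homSum_injective X N, fun f => ?_⟩
  classical
  obtain ⟨s₁, h₁⟩ := exists_tail_map hU q.jst X (q.jst.map f)
  obtain ⟨s₂, h₂⟩ := exists_tail_map hX' q.fst X (q.fst.map f)
  let g := f ≫ tail X (s₁ ∪ s₂)
  have hgJ : q.jst.map g = 0 := by
    rw [show g = f ≫ tail X s₁ ≫ tail X (s₁ ∪ s₂) by
      rw [tail_comp_tail X Finset.subset_union_left], q.jst.map_comp, q.jst.map_comp,
      reassoc_of% h₁, zero_comp]
  have hgF : q.fst.map g = 0 := by
    rw [show g = f ≫ tail X s₂ ≫ tail X (s₁ ∪ s₂) by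
      rw [tail_comp_tail X Finset.subset_union_right], q.fst.map_comp, q.fst.map_comp,
      reassoc_of% h₂, zero_comp]
  have hgu : g ≫ mvu q (∐ X) = 0 := by
    have n1 := q.adjJ.unit.naturality g
    have n2 := q.adjF.unit.naturality g
    dsimp at n1 n2
    rw [hgJ, Functor.map_zero, comp_zero] at n1
    rw [hgF, Functor.map_zero, comp_zero] at n2
    apply biprod.hom_ext <;> simp [mvu, n1, n2]
  obtain ⟨d, hd⟩ := exists_mv hq (∐ X)
  obtain ⟨w, hw⟩ := Triangle.coyoneda_exact₁ _ hd (g⟦(1 : ℤ)⟧')
    (show g⟦(1 : ℤ)⟧' ≫ (mvu q (∐ X))⟦(1 : ℤ)⟧' = 0 by rw [← Functor.map_comp, hgu, Functor.map_zero])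
  change g⟦(1 : ℤ)⟧' = w ≫ d at hw
  let w' := (q.adjF.homEquiv _ _).symm w
  let w'' := (q.adjJp.homEquiv _ _).symm (w' ≫ q.bc2App (q.jst.obj (∐ X)))
  let i₀ : (q.gst.obj (q.jst.obj N))⟦(1 : ℤ)⟧ ≅ q.jpst.obj (q.fst.obj (N⟦(1 : ℤ)⟧)) :=
    ((q.jst ⋙ q.gst).commShiftIso (1 : ℤ)).symm.app N ≪≫ q.e.app (N⟦(1 : ℤ)⟧)
  let eqv := shiftEquiv R' (1 : ℤ)
  let H := (q.jst ⋙ q.gst) ⋙ eqv.inverse
  have : eqv.inverse.Additive := inferInstanceAs (shiftFunctor R' (-(1 : ℤ))).Additive
  have : PreservesColimitsOfSize.{v, v} eqv.inverse := inferInstance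
  obtain ⟨t, ht⟩ := exists_tail_map hU' H X
    (eqv.unitIso.hom.app _ ≫ eqv.inverse.map (i₀.hom ≫ w''))
  have ht' : w'' ≫ q.gst.map (q.jst.map (tail X t)) = 0 := by
    rw [Category.assoc] at ht
    change _ ≫ eqv.inverse.map _ ≫ eqv.inverse.map (q.gst.map (q.jst.map (tail X t))) = 0 at ht
    rw [← eqv.inverse.map_comp, Category.assoc] at ht
    have h5 : i₀.hom ≫ w'' ≫ q.gst.map (q.jst.map (tail X t)) = 0 := by
      apply eqv.inverse.map_injective
      rw [← cancel_epi (eqv.unitIso.hom.app _), ht, Functor.map_zero, comp_zero]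
    rwa [← cancel_epi i₀.hom, comp_zero]
  have hbc : ∀ {P P' : R} (φ : P ⟶ P'), q.fst.map (q.jls.map φ) ≫ q.bc2App P' =
      q.bc2App P ≫ q.jpls.map (q.gst.map φ) := by
    intro P P' φ
    have a1 := q.adjJp.unit.naturality (q.fst.map (q.jls.map φ))
    have a2 := q.e.inv.naturality (q.jls.map φ)
    have a3 := q.adjJ.counit.naturality φ
    dsimp at a1 a2 a3
    rw [MVSq.bc2App, MVSq.bc2App, reassoc_of% a1]
    simp only [Category.assoc, ← Functor.map_comp]
    rw [reassoc_of% a2, ← Functor.map_comp, a3, Functor.map_comp]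
  have hw0 : w ≫ q.fls.map (q.fst.map (q.jls.map (q.jst.map (tail X t)))) = 0 := by
    have := hq.isIso_bc2App (q.jst.obj (∐ X))
    apply (q.adjF.homEquiv _ _).symm.injective
    rw [Adjunction.homEquiv_naturality_right_symm, show (q.adjF.homEquiv _ _).symm w = w' from rfl,
      Adjunction.homEquiv_counit, Functor.map_zero, zero_comp, ← cancel_mono (q.bc2App _),
      Category.assoc, hbc, zero_comp, ← Category.assoc]
    apply (q.adjJp.homEquiv _ _).symm.injective
    rw [Adjunction.homEquiv_naturality_right_symm, show (q.adjJp.homEquiv _ _).symm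
      (w' ≫ q.bc2App (q.jst.obj (∐ X))) = w'' from rfl, Adjunction.homEquiv_counit,
      Functor.map_zero, zero_comp, ht']
  refine mem_range_of_comp_tail X (s := (s₁ ∪ s₂) ∪ t) ?_
  have hgt : g ≫ tail X t = 0 := by
    apply (shiftFunctor S (1 : ℤ)).map_injective
    rw [Functor.map_comp, hw, Category.assoc, mv_naturality hq _ hd hd, reassoc_of% hw0,
      zero_comp, Functor.map_zero]
  calc f ≫ tail X ((s₁ ∪ s₂) ∪ t)
      = (g ≫ tail X t) ≫ tail X ((s₁ ∪ s₂) ∪ t) := by
        simp only [g, Category.assoc]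
        rw [tail_comp_tail X Finset.subset_union_right, tail_comp_tail X Finset.subset_union_left]
    _ = 0 := by rw [hgt, zero_comp]

end Groth.Agent.S16411
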