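import Groth.Statements.S16414
import Mathlib
-- import your own Groth.Agent.* helpers here

set_option autoImplicit false
open Dieud

namespace Groth.Agent.S16414

/-- Let μ be a rational number with 0 < μ ≤ 1 and i an integer, and put f(i,j) = max(−i−j, −j, 0) for
integers j. Then min over all integers j of f(i,j) + jμ exists and equals max(−iμ, 0). -/
theorem result (μ : ℚ) (hμ0 : 0 < μ) (hμ1 : μ ≤ 1) (i : ℤ) :
    IsLeast (Set.range fun j : ℤ => ((max (max (-i - j) (-j)) 0 : ℤ) : ℚ) + (j : ℚ) * μ)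
      (max (-(i : ℚ) * μ) 0) := by
  constructor
  · refine ⟨max (-i) 0, ?_⟩
    have h : max (max (-i - max (-i) 0) (-max (-i) 0)) 0 = (0 : ℤ) := by omega
    simp only [h]
    rcases le_total (-i) 0 with hi | hi
    · rw [max_eq_right hi]
      have : (0 : ℚ) ≤ i := by exact_mod_cast (by omega : (0:ℤ) ≤ i)
      rw [max_eq_right (by nlinarith)]
      simp
    · rw [max_eq_left hi]
      have : (i : ℚ) ≤ 0 := by exact_mod_cast (by omega : i ≤ 0)
      rw [max_eq_left (by nlinarith)]
      push_cast; ring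
  · rintro _ ⟨j, rfl⟩
    simp only
    have h1 : (-i - j : ℚ) ≤ ((max (max (-i - j) (-j)) 0 : ℤ) : ℚ) := by
      exact_mod_cast (by omega : -i - j ≤ max (max (-i - j) (-j)) 0)
    have h2 : (-j : ℚ) ≤ ((max (max (-i - j) (-j)) 0 : ℤ) : ℚ) := by
      exact_mod_cast (by omega : -j ≤ max (max (-i - j) (-j)) 0)
    have h3 : (0 : ℚ) ≤ ((max (max (-i - j) (-j)) 0 : ℤ) : ℚ) := by
      exact_mod_cast (by omega : (0:ℤ) ≤ max (max (-i - j) (-j)) 0)
    apply max_le <;> nlinarith

end Groth.Agent.S16414
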