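import Groth.Statements.S16417
import Groth.Agent.FinLenLib.Adapted
import Mathlib.RingTheory.WittVector.DiscreteValuationRing
import Mathlib.RingTheory.WittVector.Frobenius
-- import your own Groth.Agent.* helpers here

set_option autoImplicit false
universe u v w
open Dieud

namespace Groth.Agent.S16417

/-- For a prime p and a perfect field k of characteristic p, write W = W(k) for the ring of Witt vectors
and σ for its Frobenius; let M and N be free W-modules of finite rank, each with additive maps F
(σ-semilinear) and V (with V(σ(a)m) = aV(m)) satisfying FV = VF = p, and H = Hom_W(M, N); write VM ⊆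
M and VN ⊆ N for the images of V. (a) A W-linear h : M → N maps VM into VN if and only if h(V m) =
V(h'(m)) for all m for some W-linear h' : M → N (so the maps with this property form H ∩ V·H). (b)
The natural map from H to the W-linear maps VM → N/VN has image exactly the maps vanishing on pM =
V(FM): every such map is induced by some h ∈ H. (c) The W-length of H/(H ∩ V·H) is r₂ s₁, where r₂
is the length of N/VN and s₁ = rank M − length(M/VM) is the length of VM/pM. (The published
statement is for the Cartier modules of two p-divisible formal groups over k, every slope of the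
first below every slope of the second, and phrases (b), (c) as an isomorphism of H/(H ∩ VH) with
Hom_k(VM/pM, N/VN); only the structure listed is used, so connectedness and the slope condition are
not assumed.) -/
theorem result
    (p : ℕ) [Fact p.Prime] (k : Type u) [Field k] [CharP k p] [PerfectRing k p]
    (M : Type v) [AddCommGroup M] [Module (WittVector p k) M]
    [Module.Free (WittVector p k) M] [Module.Finite (WittVector p k) M]
    (N : Type w) [AddCommGroup N] [Module (WittVector p k) N]
    [Module.Free (WittVector p k) N] [Module.Finite (WittVector p k) N]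
    (FM VM : M →+ M) (FN VN : N →+ N)
    (hFM : ∀ (a : WittVector p k) (m : M), FM (a • m) = WittVector.frobenius a • FM m)
    (hVM : ∀ (a : WittVector p k) (m : M), VM (WittVector.frobenius a • m) = a • VM m)
    (hFVM : ∀ m : M, FM (VM m) = (p : WittVector p k) • m)
    (hVFM : ∀ m : M, VM (FM m) = (p : WittVector p k) • m)
    (hFN : ∀ (a : WittVector p k) (n : N), FN (a • n) = WittVector.frobenius a • FN n)
    (hVN : ∀ (a : WittVector p k) (n : N), VN (WittVector.frobenius a • n) = a • VN n)
    (hFVN : ∀ n : N, FN (VN n) = (p : WittVector p k) • n)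
    (hVFN : ∀ n : N, VN (FN n) = (p : WittVector p k) • n)
    (r₂ s₁ : ℕ)
    (hr₂ : Module.length (WittVector p k) (N ⧸ Submodule.span (WittVector p k) (Set.range VN)) = r₂)
    (hs₁ : (Module.finrank (WittVector p k) M : ℕ∞) =
      Module.length (WittVector p k) (M ⧸ Submodule.span (WittVector p k) (Set.range VM)) + s₁) :
    (∀ h : M →ₗ[WittVector p k] N,
      (∀ m : M, h (VM m) ∈ Submodule.span (WittVector p k) (Set.range VN)) ↔
        ∃ h' : M →ₗ[WittVector p k] N, ∀ m : M, h (VM m) = VN (h' m)) ∧
    (∀ g : Submodule.span (WittVector p k) (Set.range VM) →ₗ[WittVector p k]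
        N ⧸ Submodule.span (WittVector p k) (Set.range VN),
      (∀ m : M, g ⟨VM (FM m), Submodule.subset_span ⟨FM m, rfl⟩⟩ = 0) →
      ∃ h : M →ₗ[WittVector p k] N, ∀ x : Submodule.span (WittVector p k) (Set.range VM),
        (Submodule.span (WittVector p k) (Set.range VN)).mkQ (h x) = g x) ∧
    Module.length (WittVector p k) ((M →ₗ[WittVector p k] N) ⧸
      ⨅ m : M, (Submodule.span (WittVector p k) (Set.range VN)).comap
        (LinearMap.applyₗ (VM m) : (M →ₗ[WittVector p k] N) →ₗ[WittVector p k] N)) = (r₂ * s₁ : ℕ) := by
  classical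
  have hσ := WittVector.frobenius_bijective p k
  have hp := WittVector.irreducible p (k := k)
  set S := Submodule.span (WittVector p k) (Set.range VM) with hSdef
  set T := Submodule.span (WittVector p k) (Set.range VN) with hTdef
  have hTm : ∀ x, x ∈ T → ∃ n, VN n = x := by
    intro x hx
    induction hx using Submodule.span_induction with
    | mem y hy => exact hy
    | zero => exact ⟨0, map_zero VN⟩
    | add a b _ _ ha hb => obtain ⟨u, rfl⟩ := ha; obtain ⟨v, rfl⟩ := hb; exact ⟨u + v, map_add VN u v⟩
    | smul c a _ ha => obtain ⟨u, rfl⟩ := ha; exact ⟨WittVector.frobenius c • u, hVN c u⟩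
  have hinj : Function.Injective VN := by
    intro a b hab
    have : (p : WittVector p k) • a = (p : WittVector p k) • b := by rw [← hFVN, hab, hFVN]
    exact smul_right_injective N hp.ne_zero this
  have hpS : ∀ m : M, (p : WittVector p k) • m ∈ S := fun m => by rw [← hVFM]; exact Submodule.subset_span ⟨_, rfl⟩
  have hpT : ∀ n : N, (p : WittVector p k) • n ∈ T := fun n => by rw [← hVFN]; exact Submodule.subset_span ⟨_, rfl⟩
  obtain ⟨b, U, hU⟩ := Groth.Agent.FinLenLib.exists_adapted hp S hpS
  have hbU : ∀ j : {j // j ∈ U}, b j.1 ∈ S := fun j => (hU _).2 fun i hi => by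
    rw [b.repr_self_apply, if_neg (fun h : j.1 = i => hi (by rw [← h]; exact j.2))]
    exact dvd_zero _
  refine ⟨fun h => ⟨fun hh => ?_, fun ⟨h', hh'⟩ m => hh' m ▸ Submodule.subset_span ⟨_, rfl⟩⟩, fun g hg => ?_, ?_⟩
  · choose u hu using fun m => hTm _ (hh m)
    refine ⟨{ toFun := u
              map_add' := fun a b => hinj (by rw [hu, map_add VN, hu, hu, map_add, map_add])
              map_smul' := fun c m => hinj ?_ }, fun m => (hu m).symm⟩
    obtain ⟨d, rfl⟩ := hσ.surjective c
    rw [hu, hVM, map_smul, RingHom.id_apply, hVN, hu]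
  · choose l hl using fun q => T.mkQ_surjective q
    let v : Fin (Module.finrank (WittVector p k) M) → N := fun j => if h : j ∈ U then l (g ⟨b j, hbU ⟨j, h⟩⟩) else 0
    refine ⟨b.constr (WittVector p k) v, fun x => ?_⟩
    have hterm : ∀ j, ∃ y : S, (y : M) = b.repr x j • b j ∧ T.mkQ (b.repr x j • v j) = g y := by
      intro j
      by_cases hj : j ∈ U
      · exact ⟨b.repr x j • ⟨b j, hbU ⟨j, hj⟩⟩, rfl, by simp only [v, dif_pos hj, map_smul, hl]⟩
      · obtain ⟨d, hd⟩ := (hU x).1 x.2 j hj
        refine ⟨⟨VM (FM (d • b j)), Submodule.subset_span ⟨_, rfl⟩⟩, ?_, ?_⟩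
        · show VM (FM (d • b j)) = _
          rw [hVFM, smul_smul, ← hd]
        · rw [hg]
          simp [v, dif_neg hj]
    choose y hy hy' using hterm
    have hx : x = ∑ j, y j := Subtype.ext (by
      rw [Submodule.coe_sum]
      simp only [hy]
      exact (b.sum_repr (x : M)).symm)
    rw [Module.Basis.constr_apply_fintype, map_sum]
    simp only [Module.Basis.equivFun_apply]
    conv_rhs => rw [hx, map_sum]
    exact Finset.sum_congr rfl fun j _ => by rw [← hy' j]
  · let Θ : (M →ₗ[WittVector p k] N) →ₗ[WittVector p k] ({j // j ∈ U} → N ⧸ T) :=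
      LinearMap.pi fun j => T.mkQ.comp (LinearMap.applyₗ (b j.1))
    have hΘ : Function.Surjective Θ := fun g => by
      choose l hl using fun q => T.mkQ_surjective q
      refine ⟨b.constr (WittVector p k) fun j => if h : j ∈ U then l (g ⟨j, h⟩) else 0, funext fun j => ?_⟩
      show T.mkQ (b.constr (WittVector p k) _ (b j.1)) = g j
      rw [b.constr_basis, dif_pos j.2, hl]
    have hk : LinearMap.ker Θ = ⨅ m : M, T.comap
        (LinearMap.applyₗ (VM m) : (M →ₗ[WittVector p k] N) →ₗ[WittVector p k] N) := by
      ext h
      rw [LinearMap.mem_ker, Submodule.mem_iInf]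
      constructor
      · intro h0 m
        have hS' := (hU _).1 (Submodule.subset_span ⟨m, rfl⟩ : VM m ∈ S)
        show h (VM m) ∈ T
        rw [← b.sum_repr (VM m), map_sum]
        refine Submodule.sum_mem _ fun j _ => ?_
        rw [map_smul]
        by_cases hj : j ∈ U
        · exact Submodule.smul_mem _ _ ((Submodule.Quotient.mk_eq_zero T).1 (congrFun h0 ⟨j, hj⟩))
        · obtain ⟨d, hd⟩ := hS' j hj
          rw [hd, mul_comm, mul_smul]
          exact Submodule.smul_mem _ _ (hpT _)
      · intro h0
        refine funext fun j => (Submodule.Quotient.mk_eq_zero T).2 ?_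
        suffices H : ∀ y ∈ S, h y ∈ T from H _ (hbU j)
        intro y hy
        induction hy using Submodule.span_induction with
        | mem y hy => obtain ⟨m, rfl⟩ := hy; exact h0 m
        | zero => rw [map_zero]; exact zero_mem _
        | add a b _ _ ha hb => rw [map_add]; exact add_mem ha hb
        | smul c a _ ha => rw [map_smul]; exact Submodule.smul_mem _ _ ha
    rw [((Submodule.quotEquivOfEq _ _ hk.symm).trans (Θ.quotKerEquivOfSurjective hΘ)).length_eq,
      Module.length_pi_of_fintype, Finset.sum_const, Finset.card_univ, Fintype.card_coe, hr₂]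
    have hlen := Groth.Agent.FinLenLib.length_quotient_adapted hp b U S hU
    rw [hlen, Fintype.card_fin, ← Nat.cast_add, Nat.cast_inj] at hs₁
    have hle : U.card ≤ Module.finrank (WittVector p k) M := by simpa using U.card_le_univ
    rw [show U.card = s₁ by omega, nsmul_eq_mul, ← Nat.cast_mul, mul_comm]

end Groth.Agent.S16417
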