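import Groth.Statements.S16418
import Mathlib.RingTheory.WittVector.DiscreteValuationRing
import Mathlib.RingTheory.WittVector.Frobenius
import Mathlib.RingTheory.Noetherian.Basic
import Mathlib.Order.PartialSups
-- import your own Groth.Agent.* helpers here

set_option autoImplicit false
universe u v
open Dieud

namespace Groth.Agent.S16418

/-- Step of the proof: for a prime p and a perfect field k of characteristic p, write W = W(k) and σ for
its Frobenius; let M be a W-module with additive maps F (σ-semilinear) and V (with V(σ(a)m) = aV(m))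
such that FV = VF = p, V is injective, ⋂_n V^n M = 0 and M/VM is finitely generated over W. Put M₁ =
{x ∈ M : for every n there is m with V^m x ∈ F^n M} and M₂ = {x ∈ M : F^n x = 0 for some n}. Then M₂
is killed by a single power of F, and F is injective on M₁. (The published text makes these
assertions inside a proof, for the V-reduced Cartier module of a connected smooth formal group of
finite dimension over k; only the listed structure is used, and V-adic completeness is not needed.) -/
theorem result
    (p : ℕ) [Fact p.Prime] (k : Type u) [Field k] [CharP k p] [PerfectRing k p]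
    (M : Type v) [AddCommGroup M] [Module (WittVector p k) M]
    (F V : M →+ M)
    (hF : ∀ (a : WittVector p k) (m : M), F (a • m) = WittVector.frobenius a • F m)
    (hV : ∀ (a : WittVector p k) (m : M), V (WittVector.frobenius a • m) = a • V m)
    (hFV : ∀ m : M, F (V m) = (p : WittVector p k) • m)
    (hVF : ∀ m : M, V (F m) = (p : WittVector p k) • m)
    (hVinj : Function.Injective V)
    (hsep : ∀ x : M, (∀ n : ℕ, ∃ y : M, x = (⇑V)^[n] y) → x = 0)
    (hfin : Module.Finite (WittVector p k) (M ⧸ Submodule.span (WittVector p k) (Set.range V))) :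
    (∃ c : ℕ, ∀ x : M, (∃ n : ℕ, (⇑F)^[n] x = 0) → (⇑F)^[c] x = 0) ∧
    (∀ x : M, (∀ n : ℕ, ∃ (m : ℕ) (y : M), (⇑V)^[m] x = (⇑F)^[n] y) → F x = 0 → x = 0) := by
  have hσ := WittVector.frobenius_bijective p k
  have := hfin
  have hcomm : ∀ (n : ℕ) x, (⇑F)^[n] (V x) = V ((⇑F)^[n] x) := by
    intro n
    induction n with
    | zero => intro x; rfl
    | succ n ih => intro x; rw [Function.iterate_succ_apply', ih, hFV, Function.iterate_succ_apply', hVF]
  let K : ℕ → Submodule (WittVector p k) M := fun n =>
    { carrier := {x | (⇑F)^[n] x = 0}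
      zero_mem' := iterate_map_zero F n
      add_mem' := fun {a b} ha hb => by
        show (⇑F)^[n] (a + b) = 0
        rw [iterate_map_add, show (⇑F)^[n] a = 0 from ha, show (⇑F)^[n] b = 0 from hb, add_zero]
      smul_mem' := fun c x hx => by
        have : ∀ (n : ℕ) (c : WittVector p k) (x : M), ∃ d : WittVector p k, (⇑F)^[n] (c • x) = d • (⇑F)^[n] x := by
          intro n
          induction n with
          | zero => exact fun c x => ⟨c, rfl⟩
          | succ n ih =>
            intro c x
            obtain ⟨d, hd⟩ := ih c x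
            exact ⟨_, by rw [Function.iterate_succ_apply', hd, hF, Function.iterate_succ_apply']⟩
        obtain ⟨d, hd⟩ := this n c x
        show (⇑F)^[n] (c • x) = 0
        rw [hd, show (⇑F)^[n] x = 0 from hx, smul_zero] }
  have hK : ∀ {a b}, a ≤ b → K a ≤ K b := fun {a b} hab x hx => by
    show (⇑F)^[b] x = 0
    rw [← Nat.sub_add_cancel hab, Function.iterate_add_apply, show (⇑F)^[a] x = 0 from hx, iterate_map_zero]
  let T := Submodule.span (WittVector p k) (Set.range V)
  have hT : ∀ x, x ∈ T → ∃ m, V m = x := by
    intro x hx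
    induction hx using Submodule.span_induction with
    | mem y hy => exact hy
    | zero => exact ⟨0, map_zero V⟩
    | add a b _ _ ha hb => obtain ⟨u, rfl⟩ := ha; obtain ⟨v, rfl⟩ := hb; exact ⟨u + v, map_add V u v⟩
    | smul c a _ ha =>
      obtain ⟨u, rfl⟩ := ha
      exact ⟨WittVector.frobenius c • u, hV c u⟩
  obtain ⟨c, hc⟩ := monotone_stabilizes_iff_noetherian.2 (inferInstance : IsNoetherian (WittVector p k) (M ⧸ T))
    ⟨fun n => (K n).map T.mkQ, fun a b hab => Submodule.map_mono (hK hab)⟩
  have hmem : ∀ n, ∀ x ∈ K n, (⇑F)^[c] x = 0 := by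
    intro n x hx
    have hx' : x ∈ K (max n c) := hK (le_max_left n c) hx
    clear hx
    have key : ∀ (j : ℕ), ∀ x ∈ K (max n c), ∃ y, (⇑F)^[c] x = (⇑V)^[j] y := by
      intro j
      induction j with
      | zero => exact fun x _ => ⟨_, rfl⟩
      | succ j ih =>
        intro x hx
        obtain ⟨y, hy, hxy⟩ : T.mkQ x ∈ (K c).map T.mkQ :=
          (congrArg (T.mkQ x ∈ ·) (hc (max n c) (le_max_right n c))).mpr ⟨x, hx, rfl⟩
        obtain ⟨m, hm⟩ := hT _ ((Submodule.Quotient.eq T).1 hxy.symm)
        have hm' : m ∈ K (max n c) := by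
          refine hVinj ?_
          rw [map_zero, ← hcomm, hm]
          have := sub_mem hx (hK (le_max_right n c) hy)
          exact this
        obtain ⟨z, hz⟩ := ih m hm'
        refine ⟨z, ?_⟩
        rw [show x = y + V m by rw [hm]; abel, iterate_map_add, show (⇑F)^[c] y = 0 from hy, zero_add, hcomm, hz,
          Function.iterate_succ_apply']
    exact hsep _ fun j => key j x hx'
  refine ⟨⟨c, fun x ⟨n, hn⟩ => hmem n x hn⟩, fun x hx hFx => ?_⟩
  obtain ⟨m, y, hy⟩ := hx c
  have hz : ∀ j, F ((⇑V)^[j] x) = 0 := by
    intro j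
    induction j with
    | zero => exact hFx
    | succ j ih => rw [Function.iterate_succ_apply', hFV, ← hVF, ih, map_zero]
  have h1 := hmem (c + 1) y (show (⇑F)^[c + 1] y = 0 by rw [Function.iterate_succ_apply', ← hy]; exact hz m)
  exact (hVinj.iterate m) (by rw [hy, h1, iterate_map_zero])

end Groth.Agent.S16418
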