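import Groth.Statements.S16419
import Groth.Agent.CAlg.SummandLift

set_option autoImplicit false
universe u v
open CAlg

namespace Groth.Agent.S16419

open Groth.Agent.CAlg.SummandLift in
theorem exists_section_in {R : Type u} [CommRing R] (𝔫 : Ideal R) {H H₂ : Type v}
    [AddCommGroup H] [Module R H] [AddCommGroup H₂] [Module R H₂]
    (g : H →ₗ[R] H₂) (hg : Function.Surjective g) (F₂ : Submodule R H₂) [Module.Projective R F₂]
    (Fb : Submodule (R ⧸ 𝔫) (TensorProduct R (R ⧸ 𝔫) H))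
    (h2 : Submodule.map (g.baseChange (R ⧸ 𝔫)) Fb = F₂.baseChange (R ⧸ 𝔫)) :
    ∃ σ : F₂ →ₗ[R] H, ∀ y, g (σ y) = y ∧ red 𝔫 (σ y) ∈ Fb := by
  let P : Submodule R H := F₂.comap g ⊓ (Fb.restrictScalars R).comap (red 𝔫)
  let gP : P →ₗ[R] F₂ := g.restrict fun x hx => hx.1
  have hgP : Function.Surjective gP := by
    rintro ⟨y, hy⟩
    have hy' : red 𝔫 y ∈ Submodule.map (g.baseChange (R ⧸ 𝔫)) Fb := by
      rw [h2, mem_baseChange]; exact ⟨y, hy, rfl⟩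
    obtain ⟨z, hz, hzy⟩ := hy'
    obtain ⟨x, rfl⟩ := red_surjective 𝔫 z
    rw [red_natural, red_eq] at hzy
    have : g x - y ∈ Submodule.map g (𝔫 • (⊤ : Submodule R H)) := by
      rw [Submodule.map_smul'', Submodule.map_top, LinearMap.range_eq_top.2 hg]; exact hzy
    obtain ⟨n, hn, hgn⟩ := this
    have h1 : g (x - n) = y := by rw [map_sub, hgn, sub_sub_cancel]
    refine ⟨⟨x - n, ⟨?_, ?_⟩⟩, Subtype.ext h1⟩
    · show g (x - n) ∈ F₂
      rw [h1]; exact hy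
    · show red 𝔫 (x - n) ∈ Fb
      rw [map_sub, (red_eq_zero 𝔫).2 hn, sub_zero]; exact hz
  obtain ⟨σ, hσ⟩ := Module.projective_lifting_property gP LinearMap.id hgP
  exact ⟨P.subtype ∘ₗ σ, fun y => ⟨congrArg Subtype.val (LinearMap.congr_fun hσ y), (σ y).2.2⟩⟩

open TensorProduct in
/-- For a commutative local Artinian ring R and an exact sequence 0 → H₁ → H → H₂ → 0 of finite free
R-modules, let F₁ ⊆ H₁ and F₂ ⊆ H₂ be submodules with H₁/F₁ and H₂/F₂ free; let 𝔫 be an ideal of R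
of square zero, R̄ = R/𝔫, and F̄ an R̄-submodule of H̄ = R̄ ⊗ H with free quotient such that F̄
meets the image of R̄ ⊗ H₁ in the image of R̄ ⊗ F₁ and the image of F̄ in R̄ ⊗ H₂ is the image of R̄
⊗ F₂. Then there is a direct summand F of H with F ∩ H₁ = F₁, whose image in H̄ is F̄ and whose
image in H₂ is F₂. -/
theorem result
    (R : Type u) [CommRing R] [IsArtinianRing R] [IsLocalRing R]
    (H₁ : Type v) (H : Type v) (H₂ : Type v)
    [AddCommGroup H₁] [Module R H₁] [AddCommGroup H] [Module R H] [AddCommGroup H₂] [Module R H₂]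
    [Module.Free R H₁] [Module.Finite R H₁] [Module.Free R H] [Module.Finite R H]
    [Module.Free R H₂] [Module.Finite R H₂]
    (f : H₁ →ₗ[R] H) (g : H →ₗ[R] H₂) (hf : Function.Injective f) (hg : Function.Surjective g)
    (hfg : Function.Exact f g)
    (F₁ : Submodule R H₁) (F₂ : Submodule R H₂) [Module.Free R (H₁ ⧸ F₁)] [Module.Free R (H₂ ⧸ F₂)]
    (𝔫 : Ideal R) (hn : 𝔫 * 𝔫 = ⊥)
    (Fb : Submodule (R ⧸ 𝔫) ((R ⧸ 𝔫) ⊗[R] H))
    [Module.Free (R ⧸ 𝔫) (((R ⧸ 𝔫) ⊗[R] H) ⧸ Fb)]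
    (h1 : Fb ⊓ LinearMap.range (f.baseChange (R ⧸ 𝔫)) =
      Submodule.map (f.baseChange (R ⧸ 𝔫)) (F₁.baseChange (R ⧸ 𝔫)))
    (h2 : Submodule.map (g.baseChange (R ⧸ 𝔫)) Fb = F₂.baseChange (R ⧸ 𝔫)) :
    ∃ F : Submodule R H, (∃ C : Submodule R H, IsCompl F C) ∧
      F ⊓ LinearMap.range f = Submodule.map f F₁ ∧
      F.baseChange (R ⧸ 𝔫) = Fb ∧ Submodule.map g F = F₂ := by
  classical
  open Groth.Agent.CAlg.SummandLift in
  obtain ⟨p₁, hp₁⟩ := exists_proj F₁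
  obtain ⟨p₂, hp₂⟩ := exists_proj F₂
  haveI := projective_of_projective_quotient F₂
  obtain ⟨σ, hσ⟩ := exists_section_in 𝔫 g hg F₂ Fb h2
  obtain ⟨s₀, hs₀⟩ := Module.projective_lifting_property g LinearMap.id hg
  -- a section of `g` extending `σ`
  let s : H₂ →ₗ[R] H := σ ∘ₗ p₂ + s₀ ∘ₗ (LinearMap.id - F₂.subtype ∘ₗ p₂)
  have hs : ∀ y, g (s y) = y := fun y => by
    have := LinearMap.congr_fun hs₀ (y - p₂ y)
    simp only [LinearMap.comp_apply, LinearMap.id_apply] at this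
    simp [s, (hσ (p₂ y)).1, map_sub, ← LinearMap.comp_apply g s₀, hs₀]
  have hsσ : ∀ y : F₂, s y = σ y := fun y => by simp [s, hp₂ y]
  have hker : ∀ x, x - s (g x) ∈ LinearMap.range f := fun x => (hfg _).1 (by rw [map_sub, hs, sub_self])
  let fi := LinearEquiv.ofInjective f hf
  let k : H →ₗ[R] H₁ := fi.symm.toLinearMap ∘ₗ (LinearMap.id - s ∘ₗ g).codRestrict (LinearMap.range f) hker
  have hk : ∀ x, f (k x) = x - s (g x) := fun x => LinearEquiv.ofInjective_symm_apply (h := hf) _ ⟨_, hker x⟩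
  have hgf : ∀ y, g (f y) = 0 := fun y => (hfg _).2 ⟨y, rfl⟩
  have hkf : ∀ y, k (f y) = y := fun y => hf (by rw [hk, hgf, map_zero, sub_zero])
  let F : Submodule R H := Submodule.map f F₁ ⊔ LinearMap.range σ
  have hmem : ∀ x ∈ F, ∃ a ∈ F₁, ∃ y : F₂, x = f a + σ y := by
    intro x hx
    obtain ⟨_, ⟨a, ha, rfl⟩, _, ⟨y, rfl⟩, rfl⟩ := Submodule.mem_sup.1 hx
    exact ⟨a, ha, y, rfl⟩
  refine ⟨F, ?_, ?_, ?_, ?_⟩
  · have hmem' : ∀ x, f (p₁ (k x)) + σ (p₂ (g x)) ∈ F := fun x =>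
      add_mem (Submodule.mem_sup_left ⟨_, (p₁ (k x)).2, rfl⟩) (Submodule.mem_sup_right ⟨_, rfl⟩)
    let r : H →ₗ[R] F := (f ∘ₗ F₁.subtype ∘ₗ p₁ ∘ₗ k + σ ∘ₗ p₂ ∘ₗ g).codRestrict F hmem'
    refine ⟨_, LinearMap.isCompl_of_proj (f := r) fun x => Subtype.ext ?_⟩
    obtain ⟨a, ha, y, hxy⟩ := hmem x x.2
    show f (p₁ (k x)) + σ (p₂ (g x)) = x
    have h1 : g (x : H) = y := by rw [hxy, map_add, hgf, zero_add, (hσ y).1]
    have h2' : k (x : H) = a := hf (by rw [hk, h1, hsσ, hxy, add_sub_cancel_right])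
    rw [h1, h2', hp₂ y, show p₁ a = ⟨a, ha⟩ from hp₁ ⟨a, ha⟩, hxy]
  · apply le_antisymm
    · rintro x ⟨hx, b, rfl⟩
      obtain ⟨a, ha, y, hxy⟩ := hmem _ hx
      have hy : (y : H₂) = 0 := by
        have := congrArg g hxy
        rw [hgf, map_add, hgf, zero_add, (hσ y).1] at this
        exact this.symm
      rw [show y = 0 from Subtype.ext hy, map_zero, add_zero] at hxy
      exact ⟨a, ha, hxy.symm⟩
    · rintro _ ⟨a, ha, rfl⟩
      exact ⟨Submodule.mem_sup_left ⟨a, ha, rfl⟩, a, rfl⟩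
  · apply le_antisymm
    · intro z hz
      obtain ⟨x, hx, rfl⟩ := (mem_baseChange 𝔫).1 hz
      obtain ⟨a, ha, y, rfl⟩ := hmem x hx
      rw [map_add]
      refine add_mem ?_ (hσ y).2
      have : red 𝔫 (f a) ∈ Submodule.map (f.baseChange (R ⧸ 𝔫)) (F₁.baseChange (R ⧸ 𝔫)) :=
        ⟨red 𝔫 a, (mem_baseChange 𝔫).2 ⟨a, ha, rfl⟩, red_natural 𝔫 f a⟩
      rw [← h1] at this
      exact this.1
    · intro z hz
      have hgz : g.baseChange (R ⧸ 𝔫) z ∈ F₂.baseChange (R ⧸ 𝔫) := h2 ▸ Submodule.mem_map_of_mem hz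
      obtain ⟨y, hy, hyz⟩ := (mem_baseChange 𝔫).1 hgz
      obtain ⟨x, rfl⟩ := red_surjective 𝔫 z
      rw [red_natural, red_eq] at hyz
      have hd : red 𝔫 (x - σ ⟨y, hy⟩) ∈ Fb ⊓ LinearMap.range (f.baseChange (R ⧸ 𝔫)) := by
        refine ⟨by rw [map_sub]; exact sub_mem hz (hσ _).2, red 𝔫 (k (x - σ ⟨y, hy⟩)), ?_⟩
        rw [red_natural, red_eq, hk, sub_sub_cancel_left, neg_mem_iff]
        apply mem_smul_top_map
        rw [map_sub, (hσ _).1]
        simpa using neg_mem hyz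
      rw [h1] at hd
      obtain ⟨w, hw, hwe⟩ := hd
      obtain ⟨a, ha, rfl⟩ := (mem_baseChange 𝔫).1 hw
      rw [red_natural, map_sub, eq_sub_iff_add_eq, ← map_add] at hwe
      rw [← hwe, mem_baseChange]
      exact ⟨_, add_mem (Submodule.mem_sup_left ⟨a, ha, rfl⟩) (Submodule.mem_sup_right ⟨_, rfl⟩), rfl⟩
  · apply le_antisymm
    · rintro _ ⟨x, hx, rfl⟩
      obtain ⟨a, ha, y, rfl⟩ := hmem x hx
      rw [map_add, hgf, zero_add, (hσ y).1]
      exact y.2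
    · intro y hy
      exact ⟨σ ⟨y, hy⟩, Submodule.mem_sup_right ⟨_, rfl⟩, (hσ _).1⟩

end Groth.Agent.S16419
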