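import Groth.Statements.S16420
import Groth.Agent.CAlg.SummandLift

set_option autoImplicit false
universe u v
open CAlg

namespace Groth.Agent.S16420

open TensorProduct in
/-- For a commutative local Artinian ring R and an exact sequence 0 → H₁ → H → H₂ → 0 of finite free
R-modules, let F₁ ⊆ H₁ and F₂ ⊆ H₂ be submodules with free quotients, 𝔫 an ideal of R of square
zero, R̄ = R/𝔫, and F̄ ⊆ H̄ = R̄ ⊗ H an R̄-submodule with free quotient meeting the image of R̄ ⊗ H₁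
in the image of R̄ ⊗ F₁ and mapping onto the image of R̄ ⊗ F₂; let L be the set of direct summands F
of H with F ∩ H₁ = F₁, with image F̄ in H̄ and with image F₂ in H₂. Then L is a torsor under
Hom_R(F₂, 𝔫(H₁/F₁)), acting as follows: an R-linear u : H₂ → H₁ with u(H₂) ⊆ 𝔫H₁ moves F ∈ L to the
image of F under x ↦ x + f(u(g(x))). Precisely, for F ∈ L: (1) that image again lies in L; (2) it
equals F if and only if u(F₂) ⊆ 𝔫F₁; (3) every F' ∈ L is obtained from F in this way for some such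
u. (The published statement phrases the torsor under the R̄-linear maps from F̄₂ to 𝔫 ⊗ (H̄₁/F̄₁), a
group identified with the maps u as above modulo those with u(F₂) ⊆ 𝔫F₁, and describes the action
through a lift F₂ → 𝔫 ⊗ H₁ composed with F → F/F₁ ≅ F₂; restricted to F this is x ↦ f(u(g(x))).) -/
theorem result
    (R : Type u) [CommRing R] [IsArtinianRing R] [IsLocalRing R]
    (H₁ : Type v) (H : Type v) (H₂ : Type v)
    [AddCommGroup H₁] [Module R H₁] [AddCommGroup H] [Module R H] [AddCommGroup H₂] [Module R H₂]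
    [Module.Free R H₁] [Module.Finite R H₁] [Module.Free R H] [Module.Finite R H]
    [Module.Free R H₂] [Module.Finite R H₂]
    (f : H₁ →ₗ[R] H) (g : H →ₗ[R] H₂) (hf : Function.Injective f) (hg : Function.Surjective g)
    (hfg : Function.Exact f g)
    (F₁ : Submodule R H₁) (F₂ : Submodule R H₂) [Module.Free R (H₁ ⧸ F₁)] [Module.Free R (H₂ ⧸ F₂)]
    (𝔫 : Ideal R) (hn : 𝔫 * 𝔫 = ⊥)
    (Fb : Submodule (R ⧸ 𝔫) ((R ⧸ 𝔫) ⊗[R] H))
    [Module.Free (R ⧸ 𝔫) (((R ⧸ 𝔫) ⊗[R] H) ⧸ Fb)]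
    (h1 : Fb ⊓ LinearMap.range (f.baseChange (R ⧸ 𝔫)) =
      Submodule.map (f.baseChange (R ⧸ 𝔫)) (F₁.baseChange (R ⧸ 𝔫)))
    (h2 : Submodule.map (g.baseChange (R ⧸ 𝔫)) Fb = F₂.baseChange (R ⧸ 𝔫))
    (F F' : Submodule R H)
    (hF : (∃ C : Submodule R H, IsCompl (F) C) ∧
      (F) ⊓ LinearMap.range f = Submodule.map f F₁ ∧
      Submodule.baseChange (R ⧸ 𝔫) (F) = Fb ∧ Submodule.map g (F) = F₂)
    (hF' : (∃ C : Submodule R H, IsCompl (F') C) ∧
      (F') ⊓ LinearMap.range f = Submodule.map f F₁ ∧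
      Submodule.baseChange (R ⧸ 𝔫) (F') = Fb ∧ Submodule.map g (F') = F₂) :
    (∀ u : H₂ →ₗ[R] H₁, (∀ y : H₂, u y ∈ 𝔫 • (⊤ : Submodule R H₁)) →
      (∃ C : Submodule R H, IsCompl (Submodule.map (LinearMap.id + f ∘ₗ u ∘ₗ g) F) C) ∧
      (Submodule.map (LinearMap.id + f ∘ₗ u ∘ₗ g) F) ⊓ LinearMap.range f = Submodule.map f F₁ ∧
      Submodule.baseChange (R ⧸ 𝔫) (Submodule.map (LinearMap.id + f ∘ₗ u ∘ₗ g) F) = Fb ∧ Submodule.map g (Submodule.map (LinearMap.id + f ∘ₗ u ∘ₗ g) F) = F₂) ∧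
    (∀ u : H₂ →ₗ[R] H₁, (∀ y : H₂, u y ∈ 𝔫 • (⊤ : Submodule R H₁)) →
      (Submodule.map (LinearMap.id + f ∘ₗ u ∘ₗ g) F = F ↔ ∀ y ∈ F₂, u y ∈ 𝔫 • F₁)) ∧
    (∃ u : H₂ →ₗ[R] H₁, (∀ y : H₂, u y ∈ 𝔫 • (⊤ : Submodule R H₁)) ∧
      F' = Submodule.map (LinearMap.id + f ∘ₗ u ∘ₗ g) F) := by
  classical
  open Groth.Agent.CAlg.SummandLift in
  obtain ⟨p₁, hp₁⟩ := exists_proj F₁
  obtain ⟨p₂, hp₂⟩ := exists_proj F₂
  haveI := projective_of_projective_quotient F₂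
  obtain ⟨⟨C, hC⟩, hF1, hFb, hF2⟩ := hF
  obtain ⟨-, hF1', hFb', hF2'⟩ := hF'
  have hgf : ∀ y, g (f y) = 0 := fun y => (hfg _).2 ⟨y, rfl⟩
  have hfF : ∀ b, f b ∈ F ↔ b ∈ F₁ := fun b => by
    constructor
    · intro hb
      have : f b ∈ Submodule.map f F₁ := hF1 ▸ ⟨hb, b, rfl⟩
      obtain ⟨a, ha, he⟩ := this
      exact hf he ▸ ha
    · intro hb
      exact (hF1 ▸ Submodule.mem_map_of_mem hb : f b ∈ F ⊓ LinearMap.range f).1
  let Φ : (H₂ →ₗ[R] H₁) → H ≃ₗ[R] H := fun u =>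
    LinearEquiv.ofLinear (LinearMap.id + f ∘ₗ u ∘ₗ g) (LinearMap.id - f ∘ₗ u ∘ₗ g)
      (LinearMap.ext fun x => by simp [hgf]) (LinearMap.ext fun x => by simp [hgf])
  have hΦ : ∀ u x, Φ u x = x + f (u (g x)) := fun u x => rfl
  have hgΦ : ∀ u x, g (Φ u x) = g x := fun u x => by rw [hΦ, map_add, hgf, add_zero]
  have hmapΦ : ∀ u, Submodule.map (LinearMap.id + f ∘ₗ u ∘ₗ g) F = Submodule.map (Φ u).toLinearMap F := fun u => rfl
  refine ⟨fun u hu => ⟨?_, ?_, ?_, ?_⟩, fun u hu => ⟨?_, ?_⟩, ?_⟩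
  · rw [hmapΦ]
    refine ⟨Submodule.map (Φ u).toLinearMap C, ?_⟩
    exact (OrderIso.isCompl_iff (Submodule.orderIsoMapComap (Φ u))).1 hC
  · apply le_antisymm
    · rintro _ ⟨⟨x, hx, rfl⟩, b, hb⟩
      have hgx : g x = 0 := by
        have h := congrArg g hb
        rw [hgf] at h
        simpa [hgf] using h.symm
      have : (LinearMap.id + f ∘ₗ u ∘ₗ g : H →ₗ[R] H) x = x := by simp [hgx]
      rw [this]
      exact hF1 ▸ ⟨hx, (hfg _).1 hgx⟩
    · rintro _ ⟨a, ha, rfl⟩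
      exact ⟨⟨f a, (hfF a).2 ha, by simp [hgf]⟩, a, rfl⟩
  · rw [← hFb]
    ext z
    simp only [mem_baseChange]
    constructor
    · rintro ⟨_, ⟨x, hx, rfl⟩, rfl⟩
      refine ⟨x, hx, ?_⟩
      simp [(red_eq_zero 𝔫).2 (mem_smul_top_map 𝔫 f (hu (g x)))]
    · rintro ⟨x, hx, rfl⟩
      refine ⟨_, ⟨x, hx, rfl⟩, ?_⟩
      simp [(red_eq_zero 𝔫).2 (mem_smul_top_map 𝔫 f (hu (g x)))]
  · rw [← Submodule.map_comp, show g ∘ₗ (LinearMap.id + f ∘ₗ u ∘ₗ g) = g from LinearMap.ext fun x => by simp [hgf], hF2]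
  · intro h y hy
    obtain ⟨x, hx, rfl⟩ := (hF2 ▸ hy : y ∈ Submodule.map g F)
    have : x + f (u (g x)) ∈ F := h ▸ ⟨x, hx, rfl⟩
    have h' : u (g x) ∈ F₁ := (hfF _).1 ((F.add_mem_iff_right hx).1 this)
    exact mem_smul_of_proj 𝔫 hp₁ h' (hu _)
  · intro h
    have key : ∀ x ∈ F, f (u (g x)) ∈ F := fun x hx =>
      (hfF _).2 (Submodule.smul_le_right (h _ (hF2 ▸ Submodule.mem_map_of_mem hx)))
    apply le_antisymm
    · rintro _ ⟨x, hx, rfl⟩
      exact add_mem hx (key x hx)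
    · intro x hx
      exact ⟨x - f (u (g x)), sub_mem hx (key x hx), by simp [hgf]⟩
  · let gF : F' →ₗ[R] F₂ := g.restrict fun x hx => hF2' ▸ Submodule.mem_map_of_mem hx
    have hgF : Function.Surjective gF := by
      rintro ⟨y, hy⟩
      obtain ⟨x, hx, rfl⟩ := (hF2' ▸ hy : y ∈ Submodule.map g F')
      exact ⟨⟨x, hx⟩, rfl⟩
    obtain ⟨τ, hτ⟩ := Module.projective_lifting_property gF LinearMap.id hgF
    let σ' : F₂ →ₗ[R] H := F'.subtype ∘ₗ τ
    have hσ'g : ∀ y, g (σ' y) = y := fun y => congrArg Subtype.val (LinearMap.congr_fun hτ y)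
    let Q : Submodule R (F₂ × H₁) := (𝔫 • (⊤ : Submodule R H₁)).comap (LinearMap.snd R F₂ H₁) ⊓
      F.comap (σ' ∘ₗ LinearMap.fst R F₂ H₁ - f ∘ₗ LinearMap.snd R F₂ H₁)
    let pr : Q →ₗ[R] F₂ := LinearMap.fst R F₂ H₁ ∘ₗ Q.subtype
    have hpr : Function.Surjective pr := by
      intro y
      have hσb : red 𝔫 (σ' y) ∈ Fb := hFb' ▸ (mem_baseChange 𝔫).2 ⟨σ' y, (τ y).2, rfl⟩
      rw [← hFb] at hσb
      obtain ⟨x, hx, hxe⟩ := (mem_baseChange 𝔫).1 hσb
      rw [red_eq] at hxe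
      -- make the `g`-components agree
      have hd : g x - y ∈ 𝔫 • F₂ := mem_smul_of_proj 𝔫 hp₂
        (sub_mem (hF2 ▸ Submodule.mem_map_of_mem hx) y.2)
        (by rw [← hσ'g y, ← map_sub]; exact mem_smul_top_map 𝔫 g hxe)
      have hd' : g x - y ∈ Submodule.map g (𝔫 • F) := by rw [Submodule.map_smul'', hF2]; exact hd
      obtain ⟨n, hn, hne⟩ := hd'
      have hnF : n ∈ F := Submodule.smul_le_right hn
      have hgx : g (x - n) = y := by rw [map_sub, hne, sub_sub_cancel]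
      obtain ⟨d, hd⟩ := (hfg (σ' y - (x - n))).1 (by rw [map_sub, hgx, hσ'g, sub_self])
      have hdn : d ∈ 𝔫 • (⊤ : Submodule R H₁) := by
        have h3 : red 𝔫 (f d) = 0 := by
          rw [hd, red_eq_zero, show σ' y - (x - n) = n - (x - σ' y) by abel]
          exact sub_mem (Submodule.smul_mono le_rfl le_top hn) hxe
        obtain ⟨s₀, hs₀⟩ := Module.projective_lifting_property g LinearMap.id hg
        have hker : ∀ z, z - s₀ (g z) ∈ LinearMap.range f := fun z => (hfg _).1 (by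
          rw [map_sub, ← LinearMap.comp_apply g s₀, hs₀, LinearMap.id_apply, sub_self])
        let k : H →ₗ[R] H₁ := (LinearEquiv.ofInjective f hf).symm.toLinearMap ∘ₗ (LinearMap.id - s₀ ∘ₗ g).codRestrict (LinearMap.range f) hker
        have hkd : k (f d) = d := hf (by
          rw [show f (k (f d)) = f d - s₀ (g (f d)) from LinearEquiv.ofInjective_symm_apply (h := hf) _ ⟨_, hker (f d)⟩, hgf, map_zero, sub_zero])
        rw [← hkd]
        exact mem_smul_top_map 𝔫 k ((red_eq_zero 𝔫).1 h3)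
      refine ⟨⟨(y, d), hdn, ?_⟩, rfl⟩
      show σ' y - f d ∈ F
      rw [hd, sub_sub_cancel]
      exact sub_mem hx hnF
    obtain ⟨δ, hδ⟩ := Module.projective_lifting_property pr LinearMap.id hpr
    let δ' : F₂ →ₗ[R] H₁ := LinearMap.snd R F₂ H₁ ∘ₗ Q.subtype ∘ₗ δ
    have hδn : ∀ y, δ' y ∈ 𝔫 • (⊤ : Submodule R H₁) := fun y => (δ y).2.1
    have hδF : ∀ y, σ' y - f (δ' y) ∈ F := fun y => by
      have h := (δ y).2.2
      have e : ((δ y : Q) : F₂ × H₁).1 = y := LinearMap.congr_fun hδ y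
      change σ' ((δ y : Q) : F₂ × H₁).1 - f (δ' y) ∈ F at h
      rwa [e] at h
    refine ⟨δ' ∘ₗ p₂, fun y => hδn _, ?_⟩
    have hfF' : ∀ x ∈ F, g x = 0 → x ∈ F' := fun x hx hgx => by
      have : x ∈ Submodule.map f F₁ := hF1 ▸ ⟨hx, (hfg _).1 hgx⟩
      rw [← hF1'] at this
      exact this.1
    apply le_antisymm
    · intro x hx
      have hgx : g x ∈ F₂ := hF2' ▸ Submodule.mem_map_of_mem hx
      set y : F₂ := ⟨g x, hgx⟩
      have hd : x - σ' y ∈ F := by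
        have h1 : g (x - σ' y) = 0 := by rw [map_sub, hσ'g]; exact sub_self _
        have : x - σ' y ∈ Submodule.map f F₁ := hF1' ▸ ⟨sub_mem hx (τ y).2, (hfg _).1 h1⟩
        rw [← hF1] at this
        exact this.1
      refine ⟨(x - σ' y) + (σ' y - f (δ' y)), add_mem hd (hδF y), ?_⟩
      have hp : p₂ (g x) = y := hp₂ y
      simp [hgf, hp]
    · rintro _ ⟨x, hx, rfl⟩
      have hgx : g x ∈ F₂ := hF2 ▸ Submodule.mem_map_of_mem hx
      set y : F₂ := ⟨g x, hgx⟩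
      have h1 : x - (σ' y - f (δ' y)) ∈ F' := hfF' _ (sub_mem hx (hδF y)) (by simp [hσ'g, hgf, y])
      have hp : p₂ (g x) = y := hp₂ y
      have e : (LinearMap.id + f ∘ₗ (δ' ∘ₗ p₂) ∘ₗ g : H →ₗ[R] H) x = (x - (σ' y - f (δ' y))) + σ' y := by
        simp [hp]; abel
      rw [e]
      exact add_mem h1 (τ y).2

end Groth.Agent.S16420
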