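import Groth.Statements.S16421
import Groth.Agent.FrobW.Perfect

set_option autoImplicit false
universe u
open FrobAlg

namespace Groth.Agent.S16421

theorem aux (p : ℕ) [Fact p.Prime] (R : Type u) [CommRing R] [CharP R p]
    (h1 : (frobenius R p).Flat) : (PerfectClosure.of R p).FaithfullyFlat := by
  have hfr : ∀ N, (iterateFrobenius R p N).Flat := by
    intro N
    induction N with
    | zero => rw [iterateFrobenius_zero]; exact RingHom.Flat.id R
    | succ N ih => rw [iterateFrobenius_add, iterateFrobenius_one]; exact h1.comp ih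
  let i := PerfectClosure.of R p
  have hflat : i.Flat := by
    refine Groth.Agent.FrobW.Perfect.flat_of_relations i fun {l} r x hx => ?_
    obtain ⟨N, h⟩ := Groth.Agent.FrobW.Perfect.exists_pow_mem_range_of_finite i p x
    choose β hβ using h N le_rfl
    have h0 : i (∑ k, r k ^ p ^ N * β k) = 0 := by
      have := congrArg (fun z : PerfectClosure R p => z ^ p ^ N) hx
      simp only [sum_pow_char_pow, mul_pow, zero_pow (pow_ne_zero _ (Fact.out : p.Prime).ne_zero)] at this
      simpa [map_sum, hβ, map_pow] using this
    obtain ⟨e, he⟩ := Groth.Agent.FrobW.Perfect.exists_pow_eq_zero_of_ker i p h0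
    simp only [sum_pow_char_pow, mul_pow, ← pow_mul, ← pow_add] at he
    obtain ⟨n, c, y, hy, hc⟩ := Groth.Agent.FrobW.Perfect.relations_of_flat (hfr (N + e)) r (fun k => β k ^ p ^ e)
      (by simpa [iterateFrobenius_def, ← pow_add] using he)
    refine ⟨n, c, fun m => (iterateFrobeniusEquiv (PerfectClosure R p) p (N + e)).symm (i (y m)), fun k => ?_, hc⟩
    apply (iterateFrobeniusEquiv (PerfectClosure R p) p (N + e)).injective
    simp only [map_sum, map_mul, RingEquiv.apply_symm_apply, iterateFrobeniusEquiv_apply, iterateFrobenius_def]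
    rw [pow_add, pow_mul, ← hβ, ← map_pow, hy]
    simp [iterateFrobenius_def, map_sum, pow_add]
  refine Groth.Agent.FrobW.Perfect.faithfullyFlat_of_map_ne_top hflat fun m hm htop => ?_
  obtain ⟨l, a, y, ha, hsum⟩ := Groth.Agent.FrobW.Perfect.exists_eq_one_of_map_eq_top htop
  obtain ⟨N, h⟩ := Groth.Agent.FrobW.Perfect.exists_pow_mem_range_of_finite i p y
  choose β hβ using h N le_rfl
  have h0 : i (∑ k, a k ^ p ^ N * β k - 1) = 0 := by
    have := congrArg (fun z : PerfectClosure R p => z ^ p ^ N) hsum
    simp only [sum_pow_char_pow, mul_pow, one_pow] at this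
    simpa [map_sum, hβ, map_pow, sub_eq_zero] using this
  obtain ⟨e, he⟩ := Groth.Agent.FrobW.Perfect.exists_pow_eq_zero_of_ker i p h0
  simp only [sub_pow_char_pow, sum_pow_char_pow, mul_pow, one_pow, sub_eq_zero, ← pow_mul, ← pow_add] at he
  refine hm.ne_top ((Ideal.eq_top_iff_one m).2 ?_)
  rw [← he]
  exact Ideal.sum_mem _ fun k _ => Ideal.mul_mem_right _ _
    (Ideal.pow_mem_of_mem _ (ha k) _ (pow_pos (Fact.out : p.Prime).pos _))

/-- Let p be a prime and R a commutative ring of characteristic p with a p-basis (x_i), meaning that the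
monomials ∏ x_i^(e i) with every exponent e i < p form a basis of R as a module over itself through
the Frobenius, i.e. the map sending a finitely supported family of coefficients c to ∑_e (c e)^p · ∏
x_i^(e i) is a bijection onto R. Then the canonical ring map from R to its perfect closure is
faithfully flat. -/
theorem result (p : ℕ) [Fact p.Prime]
    (R : Type u) [CommRing R] [CharP R p] (ι : Type u) (x : ι → R)
    (hx : Function.Bijective
      (fun c : {e : ι →₀ ℕ // ∀ i, e i < p} →₀ R =>
        c.sum (fun e r => r ^ p * e.1.prod (fun i n => x i ^ n)))) :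
    (PerfectClosure.of R p).FaithfullyFlat := by
  classical
  have hflat1 : (frobenius R p).Flat := by
    refine Groth.Agent.FrobW.Perfect.flat_of_relations _ fun {l} r y hy => ?_
    set Φ := fun c : {e : ι →₀ ℕ // ∀ i, e i < p} →₀ R => c.sum (fun e r => r ^ p * e.1.prod (fun i n => x i ^ n)) with hΦdef
    choose c hc using fun k => hx.surjective (y k)
    set s := Finset.univ.biUnion fun k => (c k).support with hs
    have hΦ : ∀ d : {e : ι →₀ ℕ // ∀ i, e i < p} →₀ R, d.support ⊆ s → Φ d = ∑ e ∈ s, frobenius R p (d e) * e.1.prod (fun i n => x i ^ n) := by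
      intro d hd
      rw [hΦdef]
      dsimp only
      rw [Finsupp.sum_of_support_subset d hd _ (fun e _ => by rw [zero_pow (Fact.out : p.Prime).ne_zero, zero_mul])]
      rfl
    have hsub : ∀ k, (c k).support ⊆ s := fun k => Finset.subset_biUnion_of_mem (fun k => (c k).support) (Finset.mem_univ k)
    have hzero : ∑ k, r k • c k = 0 := by
      apply hx.injective
      change Φ _ = Φ 0
      rw [hΦ _ ((Finsupp.support_finsetSum).trans (Finset.biUnion_subset.2 fun k _ => (Finsupp.support_smul).trans (hsub k))),
        hΦ 0 (by simp)]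
      simp only [Finsupp.finsetSum_apply, Finsupp.smul_apply, smul_eq_mul, map_sum, map_mul, Finset.sum_mul,
        Finsupp.coe_zero, Pi.zero_apply, map_zero, zero_mul, Finset.sum_const_zero]
      rw [Finset.sum_comm, ← hy]
      refine Finset.sum_congr rfl fun k _ => ?_
      rw [← hc k]
      change _ = _ * Φ (c k)
      rw [hΦ _ (hsub k), Finset.mul_sum]
      exact Finset.sum_congr rfl fun e _ => by ring
    refine ⟨s.card, fun k m => c k (s.equivFin.symm m).1, fun m => (s.equivFin.symm m).1.1.prod (fun i n => x i ^ n),
      fun k => ?_, fun m => ?_⟩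
    · rw [← hc k]
      change Φ (c k) = _
      rw [hΦ _ (hsub k), ← Finset.sum_coe_sort]
      exact (s.equivFin.symm.sum_comp fun e : s => frobenius R p (c k e.1) * e.1.1.prod (fun i n => x i ^ n)).symm
    · simpa using DFunLike.congr_fun hzero (s.equivFin.symm m).1
  exact Groth.Agent.S16421.aux p R hflat1

end Groth.Agent.S16421
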