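import Groth.Statements.S16422
import Mathlib.Algebra.Module.Projective
import Mathlib.RingTheory.GradedAlgebra.Homogeneous.Ideal
-- import your own Groth.Agent.* helpers here

set_option autoImplicit false
universe u
open GrMod

namespace Groth.Agent.S16422

/-- Let S be a commutative ring graded by ℤ with pieces 𝒜 n, and V a decreasing sequence of homogeneous
ideals for which S is graded-complete, i.e. for each degree n the map from 𝒜 n to the inverse limit
of the quotients 𝒜 n / (𝒜 n ∩ V m) is bijective (stated as: a degree-n element in every V m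
vanishes, and every sequence in 𝒜 n whose consecutive differences lie in the V m has a limit in 𝒜
n). Then every graded S-module M which is finitely generated and projective as an S-module is
graded-complete in the same sense for the submodules V m · M: for each n the map from ℳ n to the
inverse limit of ℳ n / (ℳ n ∩ V m · M) is bijective. -/
theorem result
    (S : Type u) [CommRing S] (𝒜 : ℤ → AddSubgroup S) [GradedRing 𝒜]
    (V : ℕ → HomogeneousIdeal 𝒜) (hV : ∀ m, (V (m + 1)).toIdeal ≤ (V m).toIdeal)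
    (hsep : ∀ (n : ℤ) (s : S), s ∈ 𝒜 n → (∀ m, s ∈ (V m).toIdeal) → s = 0)
    (hcpl : ∀ (n : ℤ) (f : ℕ → S), (∀ m, f m ∈ 𝒜 n) →
      (∀ m, f (m + 1) - f m ∈ (V m).toIdeal) → ∃ s ∈ 𝒜 n, ∀ m, s - f m ∈ (V m).toIdeal)
    (M : Type u) [AddCommGroup M] [Module S M] (ℳ : ℤ → AddSubgroup M)
    [DirectSum.Decomposition ℳ] [SetLike.GradedSMul 𝒜 ℳ]
    [Module.Finite S M] [Module.Projective S M] :
    (∀ (n : ℤ) (x : M), x ∈ ℳ n → (∀ m, x ∈ (V m).toIdeal • (⊤ : Submodule S M)) → x = 0) ∧
    (∀ (n : ℤ) (g : ℕ → M), (∀ m, g m ∈ ℳ n) →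
      (∀ m, g (m + 1) - g m ∈ (V m).toIdeal • (⊤ : Submodule S M)) →
      ∃ x ∈ ℳ n, ∀ m, x - g m ∈ (V m).toIdeal • (⊤ : Submodule S M)) := by
  classical
  obtain ⟨t, ht⟩ := (Module.Finite.fg_top : (⊤ : Submodule S M).FG)
  let P := t.sigma fun x => (DirectSum.decompose ℳ x).support
  let g₀ : P → M := fun p => DirectSum.decompose ℳ p.1.1 p.1.2
  let d : P → ℤ := fun p => p.1.2
  have hg₀ : ∀ p, g₀ p ∈ ℳ (d p) := fun p => (DirectSum.decompose ℳ p.1.1 p.1.2).2
  have hsurj : Function.Surjective (Fintype.linearCombination S g₀) := by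
    rw [← LinearMap.range_eq_top, Fintype.range_linearCombination, eq_top_iff, ← ht,
      Submodule.span_le]
    intro x hx
    rw [SetLike.mem_coe, ← DirectSum.sum_support_decompose ℳ x]
    exact Submodule.sum_mem _ fun i hi => Submodule.subset_span
      ⟨⟨⟨x, i⟩, Finset.mem_sigma.2 ⟨hx, hi⟩⟩, rfl⟩
  obtain ⟨σ, hσ⟩ := Module.projective_lifting_property (Fintype.linearCombination S g₀)
    LinearMap.id hsurj
  have hcomp : ∀ (a : S) (p : P) (n : ℤ),
      (DirectSum.decompose ℳ (a • g₀ p) n : M) = (DirectSum.decompose 𝒜 a (n - d p) : S) • g₀ p := by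
    intro a p n
    induction a using DirectSum.Decomposition.inductionOn 𝒜 with
    | zero => simp
    | @homogeneous l a =>
      have hm : (a : S) • g₀ p ∈ ℳ (l + d p) := SetLike.GradedSMul.smul_mem a.2 (hg₀ p)
      rcases eq_or_ne (l + d p) n with e | e
      · subst e
        rw [DirectSum.decompose_of_mem_same ℳ hm, add_sub_cancel_right,
          DirectSum.decompose_of_mem_same 𝒜 a.2]
      · rw [DirectSum.decompose_of_mem_ne ℳ hm e,
          DirectSum.decompose_of_mem_ne 𝒜 a.2 (fun h => e (by omega)), zero_smul]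
    | add a a' h h' =>
      simp only [add_smul, DirectSum.decompose_add, DirectSum.add_apply, AddSubgroup.coe_add, h, h']
  let cf : ℤ → P → M → S := fun n p x => DirectSum.decompose 𝒜 (σ x p) (n - d p)
  have hrep : ∀ n x, x ∈ ℳ n → x = ∑ p, cf n p x • g₀ p := by
    intro n x hx
    conv_lhs => rw [← DirectSum.decompose_of_mem_same ℳ hx,
      show x = ∑ p, σ x p • g₀ p from (LinearMap.congr_fun hσ x).symm]
    rw [DirectSum.decompose_sum, DFinsupp.finsetSum_apply, AddSubmonoidClass.coe_finsetSum]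
    exact Finset.sum_congr rfl fun p _ => hcomp _ p n
  have hV' : ∀ m n p, ∀ x ∈ (V m).toIdeal • (⊤ : Submodule S M), cf n p x ∈ (V m).toIdeal := by
    intro m n p x hx
    refine (V m).isHomogeneous _ ?_
    have h1 := Submodule.mem_map_of_mem (f := (LinearMap.proj p).comp σ) hx
    rw [Submodule.map_smul''] at h1
    have h2 := Submodule.smul_mono le_rfl (le_top (a := Submodule.map ((LinearMap.proj p).comp σ) ⊤)) h1
    simpa [Ideal.mul_top] using h2
  refine ⟨fun n x hx h => ?_, fun n g hg hdiff => ?_⟩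
  · rw [hrep n x hx]
    refine Finset.sum_eq_zero fun p _ => ?_
    rw [hsep (n - d p) (cf n p x) (DirectSum.decompose 𝒜 _ _).2 (fun m => hV' m n p x (h m)), zero_smul]
  · have hc : ∀ p, ∃ s ∈ 𝒜 (n - d p), ∀ m, s - cf n p (g m) ∈ (V m).toIdeal := fun p =>
      hcpl _ _ (fun m => (DirectSum.decompose 𝒜 _ _).2) fun m => by
        have := hV' m n p _ (hdiff m)
        simpa [cf, DirectSum.decompose_sub] using this
    choose s hs hs' using hc
    refine ⟨∑ p, s p • g₀ p, (ℳ n).sum_mem fun p _ => ?_, fun m => ?_⟩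
    · have := SetLike.GradedSMul.smul_mem (hs p) (hg₀ p)
      simpa using this
    · rw [hrep n (g m) (hg m), ← Finset.sum_sub_distrib]
      refine Submodule.sum_mem _ fun p _ => ?_
      rw [← sub_smul]
      exact Submodule.smul_mem_smul (hs' p m) Submodule.mem_top

end Groth.Agent.S16422
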