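import Groth.Statements.S16425
import Groth.Agent.VanFlat12.IdealLocus
import Groth.Agent.VanFlat12.Extend
import Groth.Agent.VanFlat12.CartierBC

set_option autoImplicit false
universe u
open CategoryTheory CategoryTheory.Limits AlgebraicGeometry TopologicalSpace
open RhoSh

namespace Groth.Agent.S16425

/-- Factoring through a closed subscheme, in terms of inverse images of its ideal. -/
theorem _root_.Groth.Agent.VanFlat12.factors_iff_comap {X T : Scheme.{u}} (I : X.IdealSheafData) (m : T ⟶ X) :
    (∃ d, d ≫ I.subschemeι = m) ↔ I.comap m = ⊥ := by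
  rw [← le_bot_iff, ← Scheme.IdealSheafData.le_map_iff_comap_le, Scheme.IdealSheafData.map_bot]
  refine ⟨?_, fun h => ⟨IsClosedImmersion.lift I.subschemeι m (I.ker_subschemeι.le.trans h),
    IsClosedImmersion.lift_fac _ _ _⟩⟩
  rintro ⟨d, rfl⟩
  exact I.ker_subschemeι.ge.trans (Scheme.Hom.le_ker_comp _ _)

/-- Let X be a smooth, proper, geometrically irreducible scheme over a field k with an ample invertible
sheaf L, let S be a k-scheme, p : Y ⟶ X ×_k S an affine morphism of finite presentation, D ⊂ X ×_k S
an effective Cartier divisor (given by its ideal sheaf I) which is flat over S, Q the open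
complement of D, and s a section of p defined over Q. Then the functor sending an affine S-scheme T
to the set of sections of the base change p_T over X ×_k T whose restriction to the preimage of Q is
the base change of s is represented by a closed subscheme Z of S: a morphism g : T ⟶ S from an
affine scheme factors through Z if and only if such a section exists over X ×_k T (such a section is
unique when it exists). -/
theorem result
    (k : Type u) [Field k] (X S Y : Scheme.{u})
    (a : X ⟶ Spec (CommRingCat.of k)) (b : S ⟶ Spec (CommRingCat.of k))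
    [Smooth a] [IsProper a] [GeometricallyIrreducible a]
    (L : X.Modules) (hL : CohB1.IsAmple L)
    (p : Y ⟶ pullback a b) [IsAffineHom p] [LocallyOfFinitePresentation p]
    (I : (pullback a b).IdealSheafData) (hI : FGA.IsEffCartier I)
    [Flat (I.subschemeι ≫ pullback.snd a b)]
    (Q : (pullback a b).Opens) (hQ : Q = I.support.compl)
    (s : (Q : Scheme.{u}) ⟶ Y) (hs : s ≫ p = Q.ι) :
    ∃ (Z : Scheme.{u}) (i : Z ⟶ S), IsClosedImmersion i ∧
      ∀ (T : Scheme.{u}) (g : T ⟶ S), IsAffine T →
        ((∃ h : T ⟶ Z, h ≫ i = g) ↔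
          ∃ f : pullback (pullback.snd a b) g ⟶ Y,
            f ≫ p = pullback.fst (pullback.snd a b) g ∧
            ((pullback.fst (pullback.snd a b) g) ⁻¹ᵁ Q).ι ≫ f =
              ((pullback.fst (pullback.snd a b) g) ∣_ Q) ≫ s) := by
  let π := pullback.snd a b
  haveI : Smooth π := MorphismProperty.pullback_snd _ _ ‹Smooth a›
  haveI : IsProper π := MorphismProperty.pullback_snd _ _ ‹IsProper a›
  haveI : LocallyOfFinitePresentation π := MorphismProperty.pullback_snd _ _ inferInstance
  haveI hfl : Flat (I.subschemeι ≫ π) := ‹_›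
  have hI₀ : BlowUp.IsEffCartierIdeal I := hI
  have key : ∀ n : ℕ, ∃ 𝓩 : S.IdealSheafData, ∀ (T : Scheme.{u}) (g : T ⟶ S),
      (∃ t : T ⟶ 𝓩.subscheme, t ≫ 𝓩.subschemeι = g) ↔
        (VanFlat12.Poles.num I hI₀ Q hQ p s hs n).comap (pullback.fst π g) ≤
          (I ^ n).comap (pullback.fst π g) := fun n => by
    haveI := VanFlat12.CartierBC.flat_pow π hI₀ n
    haveI := VanFlat12.CartierBC.lfp_subschemeι (IdealSh.EffCartier.pow hI₀ n)
    obtain ⟨Z, i, hi, hZ⟩ :=
      VanFlat12.exists_le_locus π (VanFlat12.Poles.num I hI₀ Q hQ p s hs n) (I ^ n)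
    obtain ⟨𝓩, h𝓩⟩ := VanFlat12.exists_idealSheafData_iff i
    exact ⟨𝓩, fun T g => (h𝓩 T g).trans (hZ T g)⟩
  choose 𝓩 h𝓩 using key
  refine ⟨(⨆ n, 𝓩 n).subscheme, (⨆ n, 𝓩 n).subschemeι, inferInstance, fun T g _ => ?_⟩
  have hI' : BlowUp.IsEffCartierIdeal (I.comap (pullback.fst π g)) :=
    VanFlat12.CartierBC.comap_of_isPullback hI₀ (IsPullback.of_hasPullback π g)
  refine Iff.trans ?_ (VanFlat12.Poles.extends_iff I Q hQ p s hs _ hI' hI₀).symm
  refine (VanFlat12.factors_iff_comap _ g).trans ?_
  rw [(Scheme.IdealSheafData.map_gc g).l_iSup, iSup_eq_bot]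
  exact forall_congr' fun n => (VanFlat12.factors_iff_comap _ g).symm.trans (h𝓩 n T g)

end Groth.Agent.S16425
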