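import Groth.Statements.S16426
import Groth.Agent.VanFlat12.Descent
import Groth.Agent.BigVol.HilbGlue

set_option autoImplicit false
universe u
open CategoryTheory CategoryTheory.Limits AlgebraicGeometry TopologicalSpace
open RhoSh

namespace Groth.Agent.S16426

/-- Let q : Y ⟶ S be proper and of finite presentation, G a quasi-coherent O_Y-module, F a finitely
presented quasi-coherent O_Y-module which is flat over S, and σ : G ⟶ F a morphism of O_Y-modules.
Then the subfunctor of S consisting of the morphisms g : T ⟶ S such that the pullback of σ along the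
projection Y ×_S T ⟶ Y vanishes is represented by a closed subscheme Z of S. -/
theorem result
    (Y S : Scheme.{u}) (q : Y ⟶ S) [IsProper q] [LocallyOfFinitePresentation q]
    (G F : Y.Modules) (hG : Coh.IsQCoh G) (hF : CohB1.IsFP F)
    (hFfl : FlatMod.IsFlatOver q F) (σ : G ⟶ F) :
    ∃ (Z : Scheme.{u}) (i : Z ⟶ S), IsClosedImmersion i ∧
      ∀ (T : Scheme.{u}) (g : T ⟶ S),
        ((∃ h : T ⟶ Z, h ≫ i = g) ↔
          (Scheme.Modules.pullback (pullback.fst q g)).map σ = 0) := by
  haveI : G.IsQuasicoherent := hG
  haveI : SheafOfModules.IsFinitePresentation.{u} F := hF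
  choose J hJ using fun V : S.affineOpens =>
    VanFlat12.exists_affine q σ hFfl V.2
  let w : ∀ V : S.affineOpens, Spec (CommRingCat.of (Γ(S, V.1) ⧸ J V)) ⟶ V.1.toScheme := fun V =>
    Spec.map (CommRingCat.ofHom (Ideal.Quotient.mk (J V))) ≫ V.2.isoSpec.inv
  haveI hwc : ∀ V, IsClosedImmersion (w V) := fun V => by
    haveI : IsClosedImmersion (Spec.map (CommRingCat.ofHom (Ideal.Quotient.mk (J V)))) :=
      IsClosedImmersion.spec_of_surjective _ Ideal.Quotient.mk_surjective
    infer_instance
  obtain ⟨Z, i, -, huniv, hP⟩ := BigVol.HilbGlue.exists_of_local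
    (fun g => VanFlat12.Van q σ g) (fun a g h => VanFlat12.van_comp q σ a g h)
    (fun g h => VanFlat12.van_of_cover q σ g fun t => by
      obtain ⟨T', a, ha, ht, h'⟩ := h t
      exact ⟨T', a, inferInstance, ht, h'⟩)
    _ w (fun V T φ => by
      have hw : w V ≫ V.1.ι = VanFlat12.cR V.2 (Γ(S, V.1) ⧸ J V) := by
        simp only [w, Category.assoc, IsAffineOpen.isoSpec_inv_ι]

      constructor
      · rintro ⟨h, rfl⟩
        rw [Category.assoc, hw]
        refine VanFlat12.van_comp q σ _ _ ((hJ V _).2 fun a ha => ?_)
        exact Ideal.Quotient.eq_zero_iff_mem.2 ha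
      · intro hV
        have hex : ∀ k, ∃ h, h ≫ w V = T.affineCover.f k ≫ φ := by
          intro k
          obtain ⟨α, hα⟩ := Spec.map_surjective (T.affineCover.f k ≫ φ ≫ V.2.isoSpec.hom)
          letI := α.hom.toAlgebra
          have hf : Spec.map α ≫ V.2.isoSpec.inv = T.affineCover.f k ≫ φ := by
            rw [hα, Category.assoc, Category.assoc, Iso.hom_inv_id, Category.comp_id]; rfl
          have h2 := VanFlat12.van_comp q σ (T.affineCover.f k) _ hV
          rw [← Category.assoc, ← hf] at h2
          replace h2 : VanFlat12.Van q σ (Spec.map α ≫ V.2.fromSpec) :=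
            ((Category.assoc _ _ _).trans (congrArg _ V.2.isoSpec_inv_ι)) ▸ h2
          have h1 : J V ≤ RingHom.ker α.hom := (hJ V _).1 h2
          refine ⟨Spec.map (CommRingCat.ofHom (Ideal.Quotient.lift (J V) α.hom fun a ha =>
            h1 ha)), ?_⟩
          rw [← hf]
          refine (Category.assoc _ _ _).symm.trans (congrArg (· ≫ V.2.isoSpec.inv) ?_)
          exact (Spec.map_comp _ _).symm.trans rfl
        choose h hh using hex
        refine ⟨T.affineCover.glueMorphisms h (fun x y => (cancel_mono (w V)).1 ?_), ?_⟩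
        · rw [Category.assoc, Category.assoc, hh, hh, pullback.condition_assoc]
        · refine T.affineCover.hom_ext _ _ fun k => ?_
          rw [Scheme.Cover.ι_glueMorphisms_assoc, hh])
  exact ⟨Z, i, hP @IsClosedImmersion hwc, huniv⟩

end Groth.Agent.S16426
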