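import Groth.Statements.S16429
import Groth.Agent.TFFree12.Dual
import Groth.Agent.BigOpen12.LocFree
import Groth.Agent.ExtPowSt.Stalk
import Groth.Agent.HomShEval.Reflexive
import Groth.Agent.FreeAlong.Stalk
import Groth.Agent.FDesc.QuasiFlat
import Groth.Agent.CohOps.FP
import Mathlib.LinearAlgebra.ExteriorPower.Basis
-- import your own Groth.Agent.* helpers here

set_option autoImplicit false
universe u
open CategoryTheory CategoryTheory.Limits AlgebraicGeometry TopologicalSpace
open RhoSh

namespace Groth.Agent.S16429

/-- Let X be a smooth, proper, geometrically irreducible scheme over a field k admitting an ample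
invertible sheaf, S a locally Noetherian k-scheme, and F a finitely presented quasi-coherent module
on X ×_k S, flat over S with torsion-free fibres. Let U be an open subset of X ×_k S off which every
point has fibre local ring of Krull dimension at least 2 and on which F is locally free of rank h,
and let L be an h-th exterior power of F. Then the determinant det F, i.e. the double dual of L, is
the direct image of the determinant of the locally free module F|_U: the unit map from the double
dual of L to j_* j^* of it (j the inclusion of U) is an isomorphism, and the biduality map L ⟶ L^**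
restricts to an isomorphism over U, identifying det F on U with the exterior power L|_U of F|_U. The
published statement allows any k-scheme S; this row assumes S locally Noetherian. -/
theorem result
    (k : Type u) [Field k] (X S : Scheme.{u})
    (a : X ⟶ Spec (CommRingCat.of k)) (b : S ⟶ Spec (CommRingCat.of k))
    [Smooth a] [IsProper a] [GeometricallyIrreducible a]
    (hproj : ∃ H : X.Modules, CohB1.IsAmple H) [IsLocallyNoetherian S]
    (F : (pullback a b).Modules) (hfp : CohB1.IsFP F)
    (hfl : FlatMod.IsFlatOver (pullback.snd a b) F)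
    (htf : ∀ s : ↥S, TorSh.IsTorsionFree
      ((Scheme.Modules.pullback ((pullback.snd a b).fiberι s)).obj F))
    (h : ℕ) (U : (pullback a b).Opens)
    (hU : ∀ x : ↥(pullback a b), x ∉ U →
      (2 : WithBot ℕ∞) ≤ ringKrullDim ↑(CInt.fiberStalk (pullback.snd a b) x))
    (hFU : FlatMod.IsFinLocFreeOfRank h (F.restrict U.ι))
    (L : (pullback a b).Modules) (hL : ExtPow.IsExtPow h F L) :
    IsIso ((Scheme.Modules.restrictAdjunction U.ι).unit.app (RefHull.ddual L)) ∧
      IsIso ((Scheme.Modules.restrictFunctor U.ι).map (RefHull.bidualMap L)) := by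
  let q := pullback.snd a b
  haveI : Smooth q := MorphismProperty.pullback_snd (P := @Smooth) _ _ inferInstance
  haveI : IsLocallyNoetherian (pullback a b) := LocallyOfFiniteType.isLocallyNoetherian q
  have hreg := Groth.Agent.BigOpen12.isRegularLocalRing_stalk_fiber q
  haveI : SheafOfModules.IsFinitePresentation.{u} F := hfp
  constructor
  · refine Groth.Agent.LFFrame.isIso_of_locally_bijective _ fun x => ⟨⊤, trivial, fun V _ => ?_⟩
    rw [Scheme.Modules.restrictAdjunction_unit_app_app]
    have hb := Groth.Agent.TFFree12.homSh_res_bijective (RefHull.dual L) (Coh.structureModule (pullback a b)) U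
      (fun W => ⟨Groth.Agent.BigOpen12.res_injective q hreg U hU W,
        Groth.Agent.BigOpen12.res_surjective q hreg U hU W⟩) V
    have key : ∀ (T : (pullback a b).Opens) (hT : T ≤ V), T = V ⊓ U →
        Function.Bijective ((RefHull.ddual L).presheaf.map (homOfLE hT).op) := by
      intro T hT hTU
      subst hTU
      exact hb
    exact key _ (U.ι.image_preimage_le V) (by
      rw [Scheme.Hom.image_preimage_eq_opensRange_inf, Scheme.Opens.opensRange_ι, inf_comm])
  · obtain ⟨Φ, hΦ⟩ := hL
    let Φ' : Groth.Agent.ExtPowSt.Sys h F L := ⟨Φ, hΦ⟩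
    have hF : Coh.IsCoh F := Groth.Agent.CohOps.FP.isCoh_of_isFP F
    have hLc := Groth.Agent.ExtPowSt.isCoh Φ' hF
    have hfl' : FlatMod.IsFinLocFree (F.restrict U.ι) := fun y => by
      obtain ⟨W, hy, e⟩ := hFU y
      exact ⟨W, h, hy, e⟩
    rw [Scheme.Modules.Hom.isIso_iff_isIso_app]
    intro W
    rw [ConcreteCategory.isIso_iff_bijective]
    refine TopCat.Presheaf.app_bijective_of_stalkFunctor_map_bijective
      (F := ⟨L.presheaf, L.isSheaf⟩) (G := ⟨(RefHull.ddual L).presheaf, (RefHull.ddual L).isSheaf⟩)
      ⟨(RefHull.bidualMap L).mapPresheaf⟩ (U.ι ''ᵁ W) fun x hx => ?_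
    have hxU : x ∈ U := U.ι_image_le W hx
    haveI : Module.Free ((pullback a b).presheaf.stalk x) (F.presheaf.stalk x) :=
      Groth.Agent.FreeAlong.free_stalk_of_restrict F hfl' hxU
    haveI : Module.Finite ((pullback a b).presheaf.stalk x) (L.presheaf.stalk x) :=
      Groth.Agent.FDesc.QuasiFlat.finite_stalk_of_isCoh L hLc x
    haveI : Module.Free ((pullback a b).presheaf.stalk x) (L.presheaf.stalk x) :=
      Module.Free.of_equiv (Groth.Agent.ExtPowSt.stalkEquiv Φ' x).symm
    exact (Groth.Agent.HomShEval.Reflexive.bijective_stalkMap_bidualMap_iff L hLc x).2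
      (inferInstance : Module.IsReflexive _ _)

end Groth.Agent.S16429
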