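import Groth.Statements.S1643
import Groth.Agent.CMReg.PolyBoundField
import Groth.Agent.ProjTwist.Pn.UniformVanish

set_option autoImplicit false
universe u
open CategoryTheory CategoryTheory.Limits AlgebraicGeometry
open Variety

namespace Groth.Agent.S1643

section

open Groth.Agent.ProjTwist Groth.Agent.ProjTwist.Pn Twist

theorem regular_kernel {n : ℕ} {k : Type u} [Field k] (r : ℕ) (P : Polynomial ℚ) (m : ℕ)
    (hm : ∀ (K : Type u) [Field K] [Infinite K] (G : (CohB1.ProjSpace n K).Modules)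
      (φ : G ⟶ FlatMod.freeMod (CohB1.ProjSpace n K) r), Mono φ → Coh.IsCoh G →
      (∀ t : ℤ, ((0 : ℕ) : ℤ) ≤ t → (chi G t : ℚ) = (freePoly n r - P).eval (t : ℚ)) →
      Curv2.IsMRegular K n G m)
    (G : (CohB1.ProjSpace n k).Modules) (ι : G ⟶ FlatMod.freeMod (CohB1.ProjSpace n k) r) [Mono ι]
    (hG : Coh.IsCoh G)
    (hchi : ∀ t : ℕ, (chi G (t : ℤ) : ℚ) = (freePoly n r - P).eval (t : ℚ)) :
    Curv2.IsMRegular k n G m := by
  let K := AlgebraicClosure k
  let g := ProperFin.pnMap n (algebraMap k K)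
  have hflat : Flat g := MorphismProperty.of_isPullback (P := @Flat)
    (ProperFin.isPullback_pnMap n (algebraMap k K)).flip
    (AlgebraicGeometry.Flat.SpecMap_iff.2 (RingHom.flat_algebraMap_iff.2 inferInstance))
  have hG' : Coh.IsCoh ((Scheme.Modules.pullback g).obj G) := ZClosLib.CohDescent.isCoh_pullback g G hG
  have hm' : Mono ((Scheme.Modules.pullback g).map ι) := Functor.map_mono _ _
  have hreg := hm K _ ((Scheme.Modules.pullback g).map ι ≫ (FrB.pullbackFreeIso g r).hom) (mono_comp _ _) hG'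
    fun t ht => by
      obtain ⟨s, rfl⟩ : ∃ s : ℕ, t = (s : ℤ) := ⟨t.toNat, (Int.toNat_of_nonneg (by simpa using ht)).symm⟩
      rw [CMReg.chi_baseChange k K G hG, hchi s, Int.cast_natCast]
  intro i hi hin
  have h := hreg i hi hin
  have : IsProper (CohB1.ProjSpace n k ↘ Spec (CommRingCat.of k)) := ProjProper.Basic.isProper_toSpec n k
  have := EulerChar.finite_HH k (twF G ((m : ℤ) - i)) (isCoh_tw hG _) i
  refine (Module.finrank_zero_iff (R := k)).1 ?_
  rw [← CMReg.finrank_twF_baseChange k K G hG]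
  exact Module.finrank_zero_of_subsingleton

end

/-- Fix n ≥ 0, r ≥ 1 and a rational polynomial P. There is an integer m, depending only on n, r and P,
such that for every field k and every epimorphism from the free module of rank r on P^n_k onto a
coherent module F whose Euler characteristics χ(F(t)) are given by P for all integers t, the kernel
is m-regular. -/
theorem result (n r : ℕ) (hr : 1 ≤ r) (P : Polynomial ℚ) :
    ∃ m : ℤ, ∀ (k : Type u) [Field k] (F : (CohB1.ProjSpace n k).Modules) (φ : FlatMod.freeMod (CohB1.ProjSpace n k) r ⟶ F), Coh.IsCoh F → Epi φ →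
      (∀ t : ℤ, (Curv2.euler k (CohB1.ProjSpace n k) (CohB1.tensorMod F (Twist.twistProjSpace n k t)) : ℚ) = P.eval (t : ℚ)) →
      Curv2.IsMRegular k n (kernel φ) m := by
  obtain ⟨m, hm⟩ := ProjTwist.Pn.exists_bound_submodule_free.{u} n r (ProjTwist.Pn.freePoly n r - P) 0
  refine ⟨m, fun k _ F φ hF hφ hchi => ?_⟩
  have := ProjTwist.Pn.isLocallyNoetherian_projSpace n k
  have hfree := Groth.Agent.PerfTri.Bounded.isCoh_freeMod (X := CohB1.ProjSpace n k) r
  have hker : Coh.IsCoh (kernel φ) := CohDev.isCoh_kernel φ hfree hF.1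
  refine regular_kernel r P m hm (kernel φ) (kernel.ι φ) hker fun t => ?_
  have h := ProjTwist.Pn.chi_add (n := n) (k := k) (S := ShortComplex.mk (kernel.ι φ) φ (kernel.condition φ))
    (ShortComplex.ShortExact.mk' (ShortComplex.exact_of_f_is_kernel _ (kernelIsKernel φ)) inferInstance hφ)
    hker hfree hF (t : ℤ)
  rw [ProjTwist.Pn.chi_free] at h
  have h2 : (ProjTwist.Pn.chi F (t : ℤ) : ℚ) = P.eval (t : ℚ) := by
    refine (hchi (t : ℤ)).trans ?_
    rw [Int.cast_natCast]
  have h3 : ((((r * (n + t).choose n : ℕ) : ℤ)) : ℚ) =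
      (ProjTwist.Pn.chi (kernel φ) (t : ℤ) : ℚ) + (ProjTwist.Pn.chi F (t : ℤ) : ℚ) := by
    exact_mod_cast congrArg (Int.cast : ℤ → ℚ) h
  rw [Polynomial.eval_sub, ProjTwist.Pn.freePoly_eval, ← h2]
  push_cast at h3 ⊢
  linarith

end Groth.Agent.S1643
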