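import Groth.Statements.S16430
import Groth.Agent.Hensel.Factor
import Mathlib.FieldTheory.PrimitiveElement
import Mathlib.RingTheory.Etale.StandardEtale
set_option linter.style.haveILetI false

set_option autoImplicit false
universe u
open Hensel

namespace Groth.Agent.S16430

/-- For a Noetherian local ring A with residue field k and a finite separable field extension l of k,
there is a local ring E, finite and etale over A with local structure map, whose residue field is
k-isomorphic to l. -/
theorem result (A : Type u)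
    [CommRing A] [IsLocalRing A] [IsNoetherianRing A] (l : Type u) [Field l]
    [Algebra (IsLocalRing.ResidueField A) l] [FiniteDimensional (IsLocalRing.ResidueField A) l]
    [Algebra.IsSeparable (IsLocalRing.ResidueField A) l] :
    ∃ (E : Type u) (_ : CommRing E) (_ : IsLocalRing E) (_ : Algebra A E)
      (_ : IsLocalHom (algebraMap A E)),
      Module.Finite A E ∧ Algebra.Etale A E ∧
        Nonempty (IsLocalRing.ResidueField E ≃ₐ[IsLocalRing.ResidueField A] l) := by
  let k := IsLocalRing.ResidueField A
  letI : Algebra A l := ((algebraMap k l).comp (IsLocalRing.residue A)).toAlgebra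
  haveI : IsScalarTower A k l := .of_algebraMap_eq' rfl
  obtain ⟨α, hα⟩ := Field.exists_primitive_element k l
  have hαi : IsIntegral k α := IsIntegral.of_finite k α
  obtain ⟨f, hf, -, hfm⟩ := Polynomial.lifts_and_degree_eq_and_monic
    ((Polynomial.lifts_iff_coeff_lifts (f := IsLocalRing.residue A) (minpoly k α)).2
      fun n => IsLocalRing.residue_surjective _) (minpoly.monic hαi)
  have hcop : IsCoprime f (Polynomial.derivative f) := by
    refine Groth.Agent.Hensel.isCoprime_of_map (IsLocalRing.maximalIdeal_le_jacobson _) hfm ?_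
    change IsCoprime (f.map (IsLocalRing.residue A)) ((Polynomial.derivative f).map (IsLocalRing.residue A))
    rw [← Polynomial.derivative_map, hf]
    exact Algebra.IsSeparable.isSeparable k α
  obtain ⟨p₂, p₁, hp⟩ := hcop
  let P : StandardEtalePair A := ⟨f, hfm, 1, p₁, p₂, 1, by rw [pow_one, ← hp]; ring⟩
  let E := AdjoinRoot f
  have hroot : P.HasMap (AdjoinRoot.root f) :=
    ⟨by show Polynomial.aeval (AdjoinRoot.root f) f = 0; rw [AdjoinRoot.aeval_eq, AdjoinRoot.mk_self],
      by show IsUnit (Polynomial.aeval (AdjoinRoot.root f) 1); simp⟩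
  let ψ : E →ₐ[A] P.Ring :=
    AdjoinRoot.liftAlgHom f (Algebra.ofId A P.Ring) P.X P.hasMap_X.1
  have hψ : ψ (AdjoinRoot.root f) = P.X := AdjoinRoot.liftAlgHom_root ..
  have hlift : P.lift _ hroot P.X = AdjoinRoot.root f := StandardEtalePair.lift_X ..
  let Φ : P.Ring ≃ₐ[A] E := AlgEquiv.ofAlgHom (P.lift _ hroot) ψ
    (AdjoinRoot.algHom_ext (by rw [AlgHom.comp_apply, hψ, hlift, AlgHom.id_apply]))
    (P.hom_ext (by rw [AlgHom.comp_apply, hlift, hψ, AlgHom.id_apply]))
  haveI : Algebra.Etale A E := Algebra.Etale.of_equiv Φ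
  haveI : Module.Finite A E := hfm.finite_adjoinRoot
  -- the residue field map
  let q : E →ₐ[A] l := AdjoinRoot.liftAlgHom f (Algebra.ofId A l) α (by
    show Polynomial.aeval α f = 0
    rw [← Polynomial.aeval_map_algebraMap k, IsLocalRing.ResidueField.algebraMap_eq, hf,
      minpoly.aeval])
  have hqsurj : Function.Surjective q := by
    intro y
    have hy : y ∈ Algebra.adjoin k {α} := by
      rw [← IntermediateField.adjoin_simple_toSubalgebra_of_isAlgebraic hαi.isAlgebraic, hα]
      trivial
    rw [Algebra.adjoin_singleton_eq_range_aeval] at hy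
    obtain ⟨P', rfl⟩ := hy
    obtain ⟨G, hG⟩ := (Polynomial.map_surjective (IsLocalRing.residue A)
      IsLocalRing.residue_surjective) P'
    refine ⟨AdjoinRoot.mk f G, ?_⟩
    show AdjoinRoot.liftAlgHom f (Algebra.ofId A l) α _ (AdjoinRoot.mk f G) = Polynomial.aeval α P'
    rw [AdjoinRoot.liftAlgHom_mk, ← hG, ← IsLocalRing.ResidueField.algebraMap_eq,
      Polynomial.aeval_map_algebraMap]
    rfl
  have hker : RingHom.ker q.toRingHom ≤ (IsLocalRing.maximalIdeal A).map (algebraMap A E) := by
    intro z hz
    obtain ⟨G, rfl⟩ := AdjoinRoot.mk_surjective z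
    have h0 : Polynomial.aeval α (G.map (IsLocalRing.residue A)) = 0 := by
      rw [← IsLocalRing.ResidueField.algebraMap_eq, Polynomial.aeval_map_algebraMap]
      have h := (RingHom.mem_ker (f := q.toRingHom)).1 hz
      rw [← h]
      exact (AdjoinRoot.liftAlgHom_mk (R := A) ..).symm
    obtain ⟨H, hH⟩ := minpoly.dvd k α h0
    obtain ⟨H', rfl⟩ := (Polynomial.map_surjective (IsLocalRing.residue A)
      IsLocalRing.residue_surjective) H
    rw [← hf, ← Polynomial.map_mul] at hH
    have hmem : G - f * H' ∈ (IsLocalRing.maximalIdeal A).map Polynomial.C := by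
      rw [Ideal.mem_map_C_iff]
      intro i
      rw [← IsLocalRing.residue_eq_zero_iff, Polynomial.coeff_sub, map_sub,
        ← Polynomial.coeff_map, ← Polynomial.coeff_map, hH, sub_self]
    have h2 := Ideal.mem_map_of_mem (AdjoinRoot.mk f) hmem
    rw [map_sub, map_mul, AdjoinRoot.mk_self, zero_mul, sub_zero, Ideal.map_map] at h2
    exact h2
  have hjac : (IsLocalRing.maximalIdeal A).map (algebraMap A E) ≤ Ideal.jacobson ⊥ :=
    Groth.Agent.Hensel.map_le_jacobson_bot_of_isIntegral (IsLocalRing.maximalIdeal_le_jacobson _)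
  haveI : IsLocalHom q.toRingHom := ⟨fun z hz => by
    obtain ⟨w, hw⟩ := isUnit_iff_exists_inv.1 hz
    obtain ⟨v, rfl⟩ := hqsurj w
    refine isUnit_of_mul_isUnit_left (y := v) ?_
    refine Groth.Agent.Hensel.isUnit_of_sub_one_mem hjac (hker ?_)
    rw [RingHom.mem_ker, map_sub, map_one, map_mul]
    exact sub_eq_zero.2 hw⟩
  haveI : IsLocalRing E := q.toRingHom.domain_isLocalRing
  haveI : IsLocalHom (algebraMap A E) := ⟨fun a ha => by
    have := ha.map q
    rw [AlgHom.commutes, IsScalarTower.algebraMap_apply A k l] at this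
    refine isUnit_of_map_unit (IsLocalRing.residue A) _ (IsUnit.mk0 _ fun h0 => this.ne_zero ?_)
    rw [IsLocalRing.ResidueField.algebraMap_eq, h0, map_zero]⟩
  refine ⟨E, inferInstance, inferInstance, inferInstance, inferInstance, inferInstance,
    inferInstance, ⟨AlgEquiv.ofRingEquiv (f := RingEquiv.ofBijective
      (IsLocalRing.ResidueField.lift q.toRingHom) ⟨RingHom.injective _, fun y => by
        obtain ⟨z, rfl⟩ := hqsurj y
        exact ⟨IsLocalRing.residue E z, IsLocalRing.ResidueField.lift_residue_apply _ _⟩⟩) ?_⟩⟩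
  intro x
  obtain ⟨a, rfl⟩ := IsLocalRing.residue_surjective x
  show IsLocalRing.ResidueField.lift q.toRingHom (IsLocalRing.residue E (algebraMap A E a)) = _
  rw [IsLocalRing.ResidueField.lift_residue_apply]
  show q (algebraMap A E a) = _
  rw [q.commutes, IsScalarTower.algebraMap_apply A k l, IsLocalRing.ResidueField.algebraMap_eq]

end Groth.Agent.S16430
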