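import Groth.Statements.S16431
import Groth.Agent.Hens.EtLikeTower
import Groth.Agent.Hens.BranchUnibranch
import Groth.Agent.S0540

set_option linter.style.haveILetI false

set_option autoImplicit false
universe u
open Hensel

namespace Groth.Agent.S16431

/-- Let A be an excellent reduced local ring with residue field k, let A' be the integral closure of A
in its total ring of fractions, let A^h be a henselization and A^hs a strict henselization of A, and
let A^h → A^hs be the A-algebra map between them (it is the unique one). Then the residue field of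
A' at every maximal ideal is purely inseparable over k — every element has some p^n-th power in the
image of A, p the characteristic exponent — if and only if every minimal prime ideal of A^hs is
generated by its contraction to A^h. -/
theorem result
    (A Ah Ash : Type u) [CommRing A] [IsLocalRing A] [IsReduced A] (hA : EGA4.IsExcellent A)
    [CommRing Ah] [IsLocalRing Ah] [Algebra A Ah] [IsLocalHom (algebraMap A Ah)]
    [Hensel.IsHenselization A Ah]
    [CommRing Ash] [IsLocalRing Ash] [Algebra A Ash] [IsLocalHom (algebraMap A Ash)]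
    [Hensel.IsStrictHenselization A Ash] [Algebra Ah Ash] [IsScalarTower A Ah Ash] :
    (∀ (M : Ideal (integralClosure A (FractionRing A))) [M.IsMaximal], ∀ x : (integralClosure A (FractionRing A)) ⧸ M, ∃ n : ℕ,
        x ^ (ringExpChar ((integralClosure A (FractionRing A)) ⧸ M)) ^ n ∈
          ((Ideal.Quotient.mk M).comp (algebraMap A (integralClosure A (FractionRing A)))).range) ↔
      (∀ Q ∈ minimalPrimes Ash, Q = Ideal.map (algebraMap Ah Ash) (Q.comap (algebraMap Ah Ash))) := by
  haveI : IsNoetherianRing A := hA.1
  haveI : IsNoetherianRing Ash := (Groth.Agent.S0540.result A Ash).1 inferInstance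
  haveI : HenselianLocalRing Ah := Hensel.IsHenselization.henselian (R := A)
  haveI : HenselianLocalRing Ash := Hensel.IsStrictHenselization.henselian (R := A)
  haveI : IsSepClosure (IsLocalRing.ResidueField A) (IsLocalRing.ResidueField Ash) :=
    Hensel.IsStrictHenselization.isSepClosure
  have h₁ := Groth.Agent.Hensel.isEtLike_of_isHenselization A Ah
  have h₂ := Groth.Agent.Hensel.isEtLike_of_isStrictHenselization A Ash
  have h₃ := Groth.Agent.Hens.isEtLike_tower_top h₁ h₂
  haveI := h₃.flat
  have hAfin : (minimalPrimes A).Finite := minimalPrimes.finite_of_isNoetherianRing A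
  haveI : Algebra.IsIntegral A (integralClosure A (FractionRing A)) := inferInstance
  obtain ⟨e₁⟩ := Groth.Agent.Hens.nonempty_minimalPrimes_equiv_maximalSpectrum_reduced h₁ hAfin
  obtain ⟨e₁', -⟩ := Groth.Agent.Hens.exists_maximalSpectrum_tensor_equiv (A := A) (S := Ah)
    (N := integralClosure A (FractionRing A))
    (Groth.Agent.Hens.residueMap_bijective_of_isHenselization (R := A) Ah)
  obtain ⟨e₂⟩ := Groth.Agent.Hens.nonempty_minimalPrimes_equiv_maximalSpectrum_reduced h₂ hAfin
  obtain ⟨e₂'⟩ := Groth.Agent.Hens.exists_sigma_emb_equiv (A := A) (S := Ash)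
    (N := integralClosure A (FractionRing A))
  let E := e₂.trans e₂'.symm
  let F := e₁.trans e₁'
  haveI : Finite (minimalPrimes Ash) := (minimalPrimes.finite_of_isNoetherianRing Ash).to_subtype
  let f : minimalPrimes Ash → minimalPrimes Ah := fun Q =>
    ⟨_, Groth.Agent.Hens.comap_mem_minimalPrimes_of_flat Q.2⟩
  have hsurj : Function.Surjective f := fun P => by
    haveI := P.2.1.1
    obtain ⟨Q, hQ⟩ := h₃.comap_surjective ⟨P.1, inferInstance⟩
    haveI := Q.2
    obtain ⟨R, hR, hle⟩ := Ideal.exists_minimalPrimes_le (bot_le : (⊥ : Ideal Ash) ≤ Q.asIdeal)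
    haveI := hR.1.1
    have h := (Ideal.comap_mono hle).trans (congrArg PrimeSpectrum.asIdeal hQ).le
    exact ⟨⟨R, hR⟩, Subtype.ext (le_antisymm h (P.2.2 ⟨inferInstance, bot_le⟩ h))⟩
  haveI : Finite (minimalPrimes Ah) := Finite.of_surjective f hsurj
  haveI : Finite (MaximalSpectrum (integralClosure A (FractionRing A))) := Finite.of_equiv _ F
  have hcrit : Function.Injective f ↔
      Nat.card (minimalPrimes Ash) ≤ Nat.card (minimalPrimes Ah) :=
    ⟨fun hi => Nat.card_le_card_of_injective f hi, fun hle => (hsurj.bijective_of_nat_card_le hle).1⟩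
  rw [Groth.Agent.Hens.forall_eq_map_comap_iff h₃,
    show Function.Injective (fun Q : minimalPrimes Ash => Q.1.comap (algebraMap Ah Ash)) ↔
      Function.Injective f from
      ⟨fun hi a b hab => hi (congrArg Subtype.val hab), fun hi a b hab => hi (Subtype.ext hab)⟩,
    hcrit, Nat.card_congr E, Nat.card_congr F]
  have hemb := fun m : MaximalSpectrum (integralClosure A (FractionRing A)) =>
    haveI := m.isMaximal
    Groth.Agent.Hens.emb_nonempty_and_subsingleton_iff A m.asIdeal
  constructor
  · intro hp
    refine Nat.card_le_card_of_injective Sigma.fst fun ⟨m, s⟩ ⟨m', s'⟩ hmm => ?_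
    obtain rfl : m = m' := hmm
    haveI := m.isMaximal
    haveI := (hemb m).2.2 (hp m.asIdeal)
    rw [Subsingleton.elim s s']
  · intro hle M hM
    refine (hemb ⟨M, hM⟩).2.1 ⟨fun s t => ?_⟩
    haveI := Finite.of_equiv _ E
    have hb := (show Function.Surjective (Sigma.fst : (Σ m : MaximalSpectrum (integralClosure A (FractionRing A)),
        {σ : integralClosure A (FractionRing A) ⧸ m.asIdeal →+* AlgebraicClosure (IsLocalRing.ResidueField A) //
          σ.comp ((Ideal.Quotient.mk m.asIdeal).comp (algebraMap A (integralClosure A (FractionRing A)))) =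
            (algebraMap (IsLocalRing.ResidueField A) (AlgebraicClosure (IsLocalRing.ResidueField A))).comp
              (IsLocalRing.residue A)}) → _) from fun m => ⟨⟨m, (hemb m).1.some⟩, rfl⟩).bijective_of_nat_card_le hle
    exact eq_of_heq (Sigma.mk.inj_iff.1 (@hb.1 ⟨⟨M, hM⟩, s⟩ ⟨⟨M, hM⟩, t⟩ rfl)).2

end Groth.Agent.S16431
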