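import Groth.Statements.S16434
import Groth.Agent.Hensel.GaloisStage

set_option autoImplicit false
universe u
open EGA4loc

namespace Groth.Agent.S16434

/-- Let A be an excellent henselian local domain such that a strict henselization S of A is again a
domain, let K be the fraction field of S, and let L be the subfield of K generated over the image of
A by a finite subset t of K (so L is an intermediate field between the fraction fields of A and of
S, finitely generated over the former). Then the intersection of L with S is (the underlying set of)
an A-subalgebra D of S which is a local ring with local inclusion into S and which is an essentially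
etale local A-algebra: A-isomorphic to the localization of an etale A-algebra at a prime over the
maximal ideal. -/
theorem result
    (A S : Type u) [CommRing A] [HenselianLocalRing A] [IsDomain A] (hA : EGA4.IsExcellent A)
    [CommRing S] [IsLocalRing S] [Algebra A S] [IsLocalHom (algebraMap A S)]
    [Hensel.IsStrictHenselization A S] [IsDomain S] (t : Finset (FractionRing S)) :
    ∃ D : Subalgebra A S, (D : Set S) = (algebraMap S (FractionRing S)) ⁻¹'
        (Subfield.closure (Set.range (algebraMap A (FractionRing S)) ∪ (t : Set (FractionRing S))) :
          Set (FractionRing S)) ∧
      ∃ _ : IsLocalRing D, IsLocalHom (algebraMap D S) ∧ EGA4loc.IsEssentiallyEtale A D := by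
  haveI : IsNoetherianRing A := hA.1
  haveI : HenselianLocalRing S := Hensel.IsStrictHenselization.henselian (R := A) (S := S)
  haveI := Hensel.IsStrictHenselization.isSepClosure (R := A) (S := S)
  haveI : Algebra.IsSeparable (IsLocalRing.ResidueField A) (IsLocalRing.ResidueField S) := IsSepClosure.separable
  have h := Groth.Agent.Hensel.isEtLike_of_isStrictHenselization A S
  obtain ⟨D, hD, heq⟩ := h.exists_essSub_eq_preimage t
  exact ⟨D, heq, hD.isLocalRing, hD.isLocalHom, hD.essEtale⟩

end Groth.Agent.S16434
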