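import Groth.Statements.S16435
import Groth.Agent.Hens.EtLikeTower
import Groth.Agent.Hens.GaloisStage
import Groth.Agent.StrictHens.Tensor
import Groth.Agent.S2747
import Groth.Agent.S0540

set_option linter.style.haveILetI false

set_option autoImplicit false
universe u
open Hensel

namespace Groth.Agent.S16435

open IsLocalRing TensorProduct

/-- Finitely many embeddings iff finite separable closure. -/
theorem finite_emb_iff (D N : Type u) [CommRing D] [IsLocalRing D] [CommRing N] [Algebra D N]
    [Algebra.IsIntegral D N] (M : Ideal N) [M.IsMaximal] :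
    Finite {σ : N ⧸ M →+* AlgebraicClosure (ResidueField D) //
      σ.comp ((Ideal.Quotient.mk M).comp (algebraMap D N)) =
        (algebraMap (ResidueField D) (AlgebraicClosure (ResidueField D))).comp (residue D)} ↔
      FiniteDimensional (Subfield.closure (Set.range ((algebraMap N M.ResidueField).comp (algebraMap D N))))
        (separableClosure (Subfield.closure (Set.range ((algebraMap N M.ResidueField).comp (algebraMap D N))))
          M.ResidueField) := by
  letI := Ideal.Quotient.field M
  let Ω := AlgebraicClosure (ResidueField D)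
  let e : N ⧸ M ≃+* M.ResidueField :=
    RingEquiv.ofBijective (algebraMap (N ⧸ M) M.ResidueField) M.bijective_algebraMap_quotient_residueField
  have he : ∀ n, e (Ideal.Quotient.mk M n) = algebraMap N M.ResidueField n := fun n =>
    (IsScalarTower.algebraMap_apply N (N ⧸ M) M.ResidueField n).symm
  let f := (algebraMap N M.ResidueField).comp (algebraMap D N)
  have hm : M.comap (algebraMap D N) = maximalIdeal D :=
    eq_maximalIdeal (Ideal.isMaximal_comap_of_isIntegral_of_isMaximal M)
  let α : ResidueField D →+* M.ResidueField :=
    Ideal.Quotient.lift (maximalIdeal D) f fun d hd => by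
      show algebraMap N M.ResidueField (algebraMap D N d) = 0
      rw [Ideal.algebraMap_residueField_eq_zero, ← Ideal.mem_comap, hm]
      exact hd
  set k₀ := Subfield.closure (Set.range f)
  have hk₀ : k₀ = α.fieldRange := by
    refine le_antisymm (Subfield.closure_le.2 (by rintro _ ⟨d, rfl⟩; exact ⟨residue D d, rfl⟩)) ?_
    rintro _ ⟨z, rfl⟩
    obtain ⟨d, rfl⟩ := residue_surjective z
    exact Subfield.subset_closure ⟨d, rfl⟩
  let β : ResidueField D ≃+* k₀ :=
    RingEquiv.ofBijective (α.codRestrict k₀ fun z => hk₀ ▸ ⟨z, rfl⟩)
      ⟨RingHom.injective _, fun y => by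
        obtain ⟨z, hz⟩ := hk₀.le y.2
        exact ⟨z, Subtype.ext hz⟩⟩
  have hβ : ∀ d, (β (residue D d) : M.ResidueField) = f d := fun d => rfl
  letI : Algebra k₀ Ω := ((algebraMap (ResidueField D) Ω).comp β.symm.toRingHom).toAlgebra
  haveI : Algebra.IsAlgebraic k₀ M.ResidueField := ⟨fun y => by
    obtain ⟨x, rfl⟩ := e.surjective y
    obtain ⟨n, rfl⟩ := Ideal.Quotient.mk_surjective x
    obtain ⟨P, hP, hP0⟩ := Algebra.IsIntegral.isIntegral (R := D) n
    refine ⟨P.map (β.toRingHom.comp (residue D)), (hP.map _).ne_zero, ?_⟩
    rw [he, Polynomial.aeval_def, Polynomial.eval₂_map]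
    have := congrArg (algebraMap N M.ResidueField) hP0
    rw [map_zero, Polynomial.hom_eval₂] at this
    exact this⟩
  let Φ : {σ : N ⧸ M →+* Ω //
      σ.comp ((Ideal.Quotient.mk M).comp (algebraMap D N)) =
        (algebraMap (ResidueField D) Ω).comp (residue D)} ≃ (M.ResidueField →ₐ[k₀] Ω) :=
    { toFun := fun σ =>
        { σ.1.comp e.symm.toRingHom with
          commutes' := fun y => by
            obtain ⟨z, rfl⟩ := β.surjective y
            obtain ⟨d, rfl⟩ := residue_surjective z
            show σ.1 (e.symm (β (residue D d) : M.ResidueField)) =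
              algebraMap (ResidueField D) Ω (β.symm (β (residue D d)))
            rw [β.symm_apply_apply, hβ, show f d = e (Ideal.Quotient.mk M (algebraMap D N d)) from (he _).symm,
              e.symm_apply_apply]
            exact RingHom.congr_fun σ.2 d }
      invFun := fun g => ⟨g.toRingHom.comp e.toRingHom, RingHom.ext fun d => by
        show g (e (Ideal.Quotient.mk M (algebraMap D N d))) = algebraMap (ResidueField D) Ω (residue D d)
        rw [he]
        refine (g.commutes (β (residue D d))).trans ?_
        show algebraMap (ResidueField D) Ω (β.symm (β (residue D d))) = _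
        rw [β.symm_apply_apply]⟩
      left_inv := fun σ => Subtype.ext (RingHom.ext fun x => congrArg σ.1 (e.symm_apply_apply x))
      right_inv := fun g => AlgHom.ext fun x => congrArg g (e.apply_symm_apply x) }
  have hcard : Nat.card {σ : N ⧸ M →+* Ω //
      σ.comp ((Ideal.Quotient.mk M).comp (algebraMap D N)) =
        (algebraMap (ResidueField D) Ω).comp (residue D)} =
      Module.finrank k₀ (separableClosure k₀ M.ResidueField) := by
    rw [Nat.card_congr (Φ.trans (Field.embEquivOfIsAlgClosed k₀ M.ResidueField Ω).symm)]
    exact Field.finSepDegree_eq k₀ M.ResidueField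
  haveI : Nonempty {σ : N ⧸ M →+* Ω //
      σ.comp ((Ideal.Quotient.mk M).comp (algebraMap D N)) =
        (algebraMap (ResidueField D) Ω).comp (residue D)} := ⟨Φ.symm IsAlgClosed.lift⟩
  constructor
  · intro h
    exact Module.finite_of_finrank_pos (hcard ▸ Nat.card_pos)
  · intro h
    exact (Nat.card_pos_iff.1 (hcard ▸ Module.finrank_pos)).2

/-- A quotient domain of the strict henselization of an intermediate ring comes from `S`. -/
theorem surjective_quotient {A S : Type u} [CommRing A] [HenselianLocalRing A] [IsNoetherianRing A]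
    [CommRing S] [IsLocalRing S] [Algebra A S] [IsLocalHom (algebraMap A S)]
    [Hensel.IsStrictHenselization A S] (D : Subalgebra A S)
    (F : Type u) [CommRing F] [IsDomain F] (h : S →+* F) (r : D →+* F)
    (hr : ∀ a, r (algebraMap A D a) = h (algebraMap A S a)) (d : D) : ∃ s, h s = r d := by
  classical
  obtain ⟨B, _, _, _, _, _, hBfin, hBet, hBgal, θ, _, -, hθinj, hθ⟩ :=
    Groth.Agent.Hens.exists_galois_stage A S {(d : S)}
  haveI := hBfin
  haveI := hBet
  haveI := hBgal
  haveI := Groth.Agent.Hens.finite_aut (A := A) (B := B)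
  haveI := Fintype.ofFinite (B ≃ₐ[A] B)
  haveI := Groth.Agent.Hens.isInvariant_aut (A := A) (B := B)
  obtain ⟨b, hb⟩ := hθ _ (Finset.mem_singleton_self _)
  let P : Polynomial B := ∏ σ : B ≃ₐ[A] B, (Polynomial.X - Polynomial.C (σ b))
  have hP : P ∈ Polynomial.lifts (algebraMap A B) := by
    rw [Polynomial.lifts_iff_coeff_lifts]
    intro n
    refine Algebra.IsInvariant.isInvariant (G := B ≃ₐ[A] B) _ fun g => ?_
    have hPg : P.map (g : B →+* B) = P := by
      simp only [P, Polynomial.map_prod, Polynomial.map_sub, Polynomial.map_X, Polynomial.map_C]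
      exact Fintype.prod_equiv (Equiv.mulLeft g) _ _ fun σ => rfl
    show g (P.coeff n) = P.coeff n
    conv_rhs => rw [← hPg, Polynomial.coeff_map]
    rfl
  obtain ⟨PA, hPA⟩ := hP
  have hPb : P.eval b = 0 := by
    simp only [P, Polynomial.eval_prod]
    exact Finset.prod_eq_zero (Finset.mem_univ 1) (by simp)
  have hd0 : Polynomial.eval₂ (algebraMap A D) d PA = 0 := by
    apply Subtype.val_injective
    have h1 := congrArg θ.toRingHom hPb
    rw [map_zero, ← hPA, Polynomial.coe_mapRingHom, Polynomial.eval_map, Polynomial.hom_eval₂,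
      show θ.toRingHom.comp (algebraMap A B) = algebraMap A S from θ.comp_algebraMap] at h1
    rw [show θ.toRingHom b = (d : S) from hb] at h1
    show D.val.toRingHom _ = D.val.toRingHom 0
    rw [map_zero, Polynomial.hom_eval₂,
      show D.val.toRingHom.comp (algebraMap A D) = algebraMap A S from D.val.comp_algebraMap]
    exact h1
  have hF : ∏ σ : B ≃ₐ[A] B, (r d - h (θ (σ b))) = 0 := by
    have h1 := congrArg r hd0
    rw [map_zero, Polynomial.hom_eval₂,
      show r.comp (algebraMap A D) = (h.comp θ.toRingHom).comp (algebraMap A B) from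
        RingHom.ext fun a => (hr a).trans (congrArg h (θ.commutes a).symm),
      ← Polynomial.eval₂_map, ← Polynomial.coe_mapRingHom, hPA] at h1
    simpa [P, Polynomial.eval₂_finsetProd] using h1
  obtain ⟨σ, -, hσ⟩ := Finset.prod_eq_zero_iff.1 hF
  exact ⟨θ (σ b), (sub_eq_zero.1 hσ).symm⟩

/-- Let A be an excellent henselian reduced local ring, S a strict henselization of A and D any
A-subalgebra of S (an intermediate ring between A and S). Write D' for the integral closure of D in
its total ring of fractions. Then D is Noetherian if and only if, for every maximal ideal M of D'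
with residue field l, writing k_0 for the subfield of l generated by the image of D (it is the image
itself, a copy of the residue field of the local ring D), the separable closure of k_0 in l has
finite degree over k_0. -/
theorem result
    (A S : Type u) [CommRing A] [HenselianLocalRing A] [IsReduced A] (hA : EGA4.IsExcellent A)
    [CommRing S] [IsLocalRing S] [Algebra A S] [IsLocalHom (algebraMap A S)]
    [Hensel.IsStrictHenselization A S] (D : Subalgebra A S) :
    IsNoetherianRing D ↔
      ∀ (M : Ideal (integralClosure D (FractionRing D))) [M.IsMaximal],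
        FiniteDimensional (Subfield.closure (Set.range ((algebraMap (integralClosure D (FractionRing D)) M.ResidueField).comp (algebraMap D (integralClosure D (FractionRing D)))))) (separableClosure (Subfield.closure (Set.range ((algebraMap (integralClosure D (FractionRing D)) M.ResidueField).comp (algebraMap D (integralClosure D (FractionRing D)))))) M.ResidueField) := by
  classical
  haveI : IsNoetherianRing A := hA.1
  haveI : IsNoetherianRing S := (Groth.Agent.S0540.result A S).1 inferInstance
  haveI : IsReduced S := (Groth.Agent.S2747.result A S).2 inferInstance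
  haveI : IsReduced D := isReduced_of_injective D.val Subtype.val_injective
  haveI : Algebra.IsIntegral A S := ⟨fun x => by
    obtain ⟨B, _, _, _, _, _, hBfin, -, -, θ, -, -, -, hθ⟩ := Groth.Agent.Hens.exists_galois_stage A S {x}
    haveI := hBfin
    obtain ⟨b, rfl⟩ := hθ x (Finset.mem_singleton_self x)
    exact (Algebra.IsIntegral.isIntegral (R := A) b).map θ⟩
  haveI : Algebra.IsIntegral A D :=
    ⟨fun d => (isIntegral_algHom_iff D.val Subtype.val_injective).1 (Algebra.IsIntegral.isIntegral (d : S))⟩
  haveI : Algebra.IsIntegral D S := Algebra.IsIntegral.tower_top A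
  haveI : Nontrivial D := D.val.toRingHom.domain_nontrivial
  have hinj : Function.Injective (algebraMap D S) := Subtype.val_injective
  have hmaxD : ∀ M : Ideal D, M.IsMaximal → M = (maximalIdeal S).comap (algebraMap D S) := fun M hM => by
    obtain ⟨Q, hQ, hQM⟩ := Ideal.exists_ideal_over_maximal_of_isIntegral (R := D) (S := S) M
      ((RingHom.injective_iff_ker_eq_bot _).1 hinj ▸ bot_le)
    rw [← hQM, eq_maximalIdeal hQ]
  haveI : IsLocalRing D := by
    obtain ⟨M, hM⟩ := Ideal.exists_maximal D
    exact IsLocalRing.of_unique_max_ideal ⟨M, hM, fun M' hM' => (hmaxD M' hM').trans (hmaxD M hM).symm⟩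
  haveI hlocD : IsLocalHom (algebraMap D S) := ⟨fun d hd => by
    by_contra hnd
    have h1 : d ∈ maximalIdeal D := hnd
    rw [hmaxD _ (maximalIdeal.isMaximal D)] at h1
    exact h1 hd⟩
  haveI : IsLocalHom (algebraMap A D) := ⟨fun a ha => isUnit_of_map_unit (algebraMap A S) a (ha.map D.val)⟩
  haveI : HenselianLocalRing D := Groth.Agent.StrictHens.Basic.henselianLocalRing_of_integral (R := A)
  have hminD : (minimalPrimes D).Finite := by
    refine ((minimalPrimes.finite_of_isNoetherianRing S).image fun Q => Q.comap (algebraMap D S)).subset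
      fun P hP => ?_
    obtain ⟨Q, hQ, hQP⟩ := Ideal.exists_minimalPrimes_comap_eq (algebraMap D S) P (I := ⊥) (by
      rw [← RingHom.ker_eq_comap_bot, (RingHom.injective_iff_ker_eq_bot _).1 hinj]
      exact hP)
    exact ⟨Q, hQ, hQP⟩
  -- the strict henselization of `D`
  let Sd := Groth.Agent.Hens.StrictHenselization D
  let algD : Algebra D Sd := inferInstance
  haveI : HenselianLocalRing Sd := Hensel.IsStrictHenselization.henselian (R := D)
  haveI : IsReduced Sd := (Groth.Agent.S2747.result D Sd).2 inferInstance
  have hEd := Groth.Agent.Hensel.isEtLike_of_isStrictHenselization D Sd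
  haveI := hEd.flat
  haveI : IsSepClosure (ResidueField D) (ResidueField Sd) :=
    (inferInstance : Hensel.IsStrictHenselization D Sd).isSepClosure
  obtain ⟨e₁⟩ := Groth.Agent.Hens.nonempty_minimalPrimes_equiv_maximalSpectrum_reduced hEd hminD
  obtain ⟨e₂⟩ := Groth.Agent.Hens.exists_sigma_emb_equiv (A := D) (S := Sd)
    (N := integralClosure D (FractionRing D))
  let E := e₁.trans e₂.symm
  have hEDD : Groth.Agent.Hensel.IsEtLike D D :=
    ⟨inferInstance, by rw [Algebra.algebraMap_self, Ideal.map_id],
      fun s => ⟨D, _, _, inferInstance, AlgHom.id D D, fun z _ => ⟨z, rfl⟩⟩⟩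
  haveI : Finite (MaximalSpectrum (integralClosure D (FractionRing D))) := by
    obtain ⟨e₃⟩ := Groth.Agent.Hens.nonempty_minimalPrimes_equiv_maximalSpectrum_reduced hEDD hminD
    obtain ⟨e₄, -⟩ := Groth.Agent.Hens.exists_maximalSpectrum_tensor_equiv (A := D) (S := D)
      (N := integralClosure D (FractionRing D)) (by
        rw [show ResidueField.map (algebraMap D D) = RingHom.id _ from ResidueField.map_id]
        exact Function.bijective_id)
    haveI := hminD.to_subtype
    exact Finite.of_equiv _ (e₃.trans e₄)
  constructor
  · intro hN M hM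
    haveI : IsNoetherianRing Sd := (Groth.Agent.S0540.result D Sd).1 hN
    haveI : Finite (minimalPrimes Sd) := (minimalPrimes.finite_of_isNoetherianRing Sd).to_subtype
    haveI := Finite.of_equiv _ E
    refine (finite_emb_iff D _ M).1 ?_
    exact Finite.of_injective (fun s => (Sigma.mk (⟨M, hM⟩ : MaximalSpectrum _) s : Σ m : MaximalSpectrum
      (integralClosure D (FractionRing D)), {σ : (integralClosure D (FractionRing D)) ⧸ m.asIdeal →+*
        AlgebraicClosure (ResidueField D) //
        σ.comp ((Ideal.Quotient.mk m.asIdeal).comp (algebraMap D (integralClosure D (FractionRing D)))) =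
          (algebraMap (ResidueField D) (AlgebraicClosure (ResidueField D))).comp (residue D)}))
      fun s t h => eq_of_heq (Sigma.mk.inj_iff.1 h).2
  · intro hfd
    haveI : ∀ m : MaximalSpectrum (integralClosure D (FractionRing D)),
        Finite {σ : (integralClosure D (FractionRing D)) ⧸ m.asIdeal →+* AlgebraicClosure (ResidueField D) //
          σ.comp ((Ideal.Quotient.mk m.asIdeal).comp (algebraMap D (integralClosure D (FractionRing D)))) =
            (algebraMap (ResidueField D) (AlgebraicClosure (ResidueField D))).comp (residue D)} := fun m =>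
      haveI := m.isMaximal
      (finite_emb_iff D _ m.asIdeal).2 (hfd m.asIdeal)
    haveI : Finite (minimalPrimes Sd) := Finite.of_equiv _ E.symm
    -- `ψ : S → Sd`
    letI algASd : Algebra A Sd := ((algebraMap D Sd).comp (algebraMap A D)).toAlgebra
    haveI : IsScalarTower A D Sd := .of_algebraMap_eq' rfl
    haveI hSA := (inferInstance : Hensel.IsStrictHenselization A S).isSepClosure
    haveI : IsSepClosed (ResidueField S) := hSA.sep_closed
    haveI : Algebra.IsSeparable (ResidueField A) (ResidueField S) := hSA.separable
    haveI : IsScalarTower (ResidueField A) (ResidueField D) (ResidueField S) := .of_algebraMap_eq fun z => by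
      obtain ⟨a, rfl⟩ := residue_surjective z
      exact congrArg (residue S) (IsScalarTower.algebraMap_apply A D S a)
    haveI : IsSepClosure (ResidueField D) (ResidueField S) :=
      ⟨inferInstance, Algebra.isSeparable_tower_top_of_isSeparable (ResidueField A) _ _⟩
    let σ : ResidueField Sd ≃ₐ[ResidueField D] ResidueField S := IsSepClosure.equiv (ResidueField D) _ _
    obtain ⟨ψ, ⟨hψ, hψr⟩, -⟩ := (inferInstance : Hensel.IsStrictHenselization A S).universal Sd
      ((algebraMap D Sd).comp (algebraMap A D)) σ.symm.toAlgHom.toRingHom (RingHom.ext fun z => by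
        obtain ⟨a, rfl⟩ := residue_surjective z
        show σ.symm (residue S (algebraMap A S a)) = residue Sd (algebraMap D Sd (algebraMap A D a))
        rw [IsScalarTower.algebraMap_apply A D S]
        exact σ.symm.commutes (residue D (algebraMap A D a)))
    letI : Algebra S Sd := ψ.toAlgebra
    letI : Algebra D Sd := algD
    haveI : IsScalarTower A S Sd := .of_algebraMap_eq fun a => (RingHom.congr_fun hψ a).symm
    haveI : IsLocalHom (algebraMap S Sd) := ⟨fun x hx => by
      rw [← residue_ne_zero_iff_isUnit]
      intro h0
      exact (hx.map (residue Sd)).ne_zero (by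
        show residue Sd (ψ x) = 0
        rw [hψr, h0, map_zero])⟩
    obtain ⟨-, hμ⟩ := Groth.Agent.StrictHens.Tensor.integral_of_isIntegral (A := A) (S := S) (B := D) (T := Sd)
      Groth.Agent.StrictHens.Basic.isSH_of_isStrictHenselization
      Groth.Agent.StrictHens.Basic.isSH_of_isStrictHenselization
    have hsurj : ∀ Q : minimalPrimes Sd, Function.Surjective ((Ideal.Quotient.mk Q.1).comp ψ) := by
      intro Q y
      haveI := Q.2.1.1
      obtain ⟨x, rfl⟩ := Ideal.Quotient.mk_surjective y
      obtain ⟨w, rfl⟩ := hμ x
      induction w using TensorProduct.induction_on with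
      | zero => exact ⟨0, by simp⟩
      | add v w hv hw =>
        obtain ⟨a, ha⟩ := hv
        obtain ⟨b, hb⟩ := hw
        exact ⟨a + b, by rw [map_add, ha, hb, map_add, map_add]⟩
      | tmul s d =>
        obtain ⟨s', hs'⟩ := surjective_quotient D (Sd ⧸ Q.1) ((Ideal.Quotient.mk Q.1).comp ψ)
          ((Ideal.Quotient.mk Q.1).comp (algebraMap D Sd))
          (fun a => congrArg (Ideal.Quotient.mk Q.1) (RingHom.congr_fun hψ a).symm) d
        refine ⟨s * s', ?_⟩
        rw [map_mul, hs', Algebra.TensorProduct.lift_tmul, map_mul]
        rfl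
    haveI : ∀ Q : minimalPrimes Sd, Module.Finite S (Sd ⧸ Q.1) := fun Q =>
      Module.Finite.of_surjective (Algebra.linearMap S (Sd ⧸ Q.1)) (hsurj Q)
    let ι : Sd →ₗ[S] ∀ Q : minimalPrimes Sd, Sd ⧸ Q.1 :=
      LinearMap.pi fun Q => (Ideal.Quotient.mkₐ S Q.1).toLinearMap
    have hι : Function.Injective ι := (injective_iff_map_eq_zero ι).2 fun x hx =>
      Groth.Agent.RedNorm.eq_zero_of_forall_mem fun Q => Ideal.Quotient.eq_zero_iff_mem.1 (congrFun hx Q)
    haveI : Module.Finite S Sd := Module.Finite.of_injective ι hι
    haveI : IsNoetherianRing Sd := IsNoetherianRing.of_finite S Sd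
    exact (Groth.Agent.S0540.result D Sd).2 inferInstance

end Groth.Agent.S16435
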