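import Groth.Statements.S16436
import Groth.Agent.S16431
import Groth.Agent.Hens.GRingFinite
import Groth.Agent.Hens.GaloisStage
import Groth.Agent.Hensel.Local
import Groth.Agent.FDesc.Algebra
import Groth.Agent.S2747
import Mathlib.RingTheory.Smooth.Fiber
import Mathlib.RingTheory.Unramified.LocalRing

set_option linter.style.haveILetI false

set_option autoImplicit false
universe u
open Hensel

namespace Groth.Agent.S16436

open IsLocalRing

/-- The separable closure condition in terms of `p`-th powers. -/
theorem separableClosure_eq_bot_iff_pow (D N : Type u) [CommRing D] [IsLocalRing D] [CommRing N] [Algebra D N]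
    [Algebra.IsIntegral D N] (M : Ideal N) [M.IsMaximal] :
    separableClosure (Subfield.closure (Set.range ((algebraMap N M.ResidueField).comp (algebraMap D N))))
        M.ResidueField = ⊥ ↔
      ∀ x : N ⧸ M, ∃ n : ℕ, x ^ (ringExpChar (N ⧸ M)) ^ n ∈
        ((Ideal.Quotient.mk M).comp (algebraMap D N)).range := by
  letI := Ideal.Quotient.field M
  let e : N ⧸ M ≃+* M.ResidueField :=
    RingEquiv.ofBijective (algebraMap (N ⧸ M) M.ResidueField) M.bijective_algebraMap_quotient_residueField
  let f := (algebraMap N M.ResidueField).comp (algebraMap D N)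
  have he : ∀ n, e (Ideal.Quotient.mk M n) = algebraMap N M.ResidueField n := fun n =>
    (IsScalarTower.algebraMap_apply N (N ⧸ M) M.ResidueField n).symm
  set k₀ := Subfield.closure (Set.range f)
  have hmem : ∀ y, y ∈ k₀ ↔ ∃ d, f d = y := by
    intro y
    refine ⟨fun hy => ?_, fun ⟨d, hd⟩ => hd ▸ Subfield.subset_closure ⟨d, rfl⟩⟩
    have hm : M.comap (algebraMap D N) = maximalIdeal D :=
      eq_maximalIdeal (Ideal.isMaximal_comap_of_isIntegral_of_isMaximal M)
    let α : ResidueField D →+* M.ResidueField :=
      Ideal.Quotient.lift (maximalIdeal D) f fun d hd => by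
        show algebraMap N M.ResidueField (algebraMap D N d) = 0
        rw [Ideal.algebraMap_residueField_eq_zero, ← Ideal.mem_comap, hm]
        exact hd
    have hle : k₀ ≤ α.fieldRange := Subfield.closure_le.2 (by rintro _ ⟨d, rfl⟩; exact ⟨residue D d, rfl⟩)
    obtain ⟨z, rfl⟩ := hle hy
    obtain ⟨d, rfl⟩ := residue_surjective z
    exact ⟨d, rfl⟩
  haveI : Algebra.IsAlgebraic k₀ M.ResidueField := ⟨fun y => by
    obtain ⟨x, rfl⟩ := e.surjective y
    obtain ⟨n, rfl⟩ := Ideal.Quotient.mk_surjective x
    obtain ⟨P, hP, hP0⟩ := Algebra.IsIntegral.isIntegral (R := D) n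
    let g : D →+* k₀ := f.codRestrict k₀ fun d => (hmem _).2 ⟨d, rfl⟩
    refine ⟨P.map g, (hP.map _).ne_zero, ?_⟩
    rw [he, Polynomial.aeval_def, Polynomial.eval₂_map]
    have := congrArg (algebraMap N M.ResidueField) hP0
    rw [map_zero, Polynomial.hom_eval₂] at this
    exact this⟩
  obtain ⟨q, hq⟩ := ExpChar.exists (N ⧸ M)
  haveI := hq
  haveI : ExpChar M.ResidueField q := expChar_of_injective_ringHom e.injective q
  haveI : ExpChar k₀ q := (algebraMap k₀ M.ResidueField).expChar (RingHom.injective _) q
  rw [separableClosure.eq_bot_iff, isPurelyInseparable_iff_pow_mem k₀ q, ringExpChar.eq (N ⧸ M) q]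
  constructor
  · intro h x
    obtain ⟨n, z, hz⟩ := h (e x)
    obtain ⟨d, hd⟩ := (hmem z.1).1 z.2
    exact ⟨n, d, e.injective (by rw [map_pow]; exact (he _).trans (hd.trans hz))⟩
  · intro h y
    obtain ⟨n, d, hd⟩ := h (e.symm y)
    refine ⟨n, ⟨f d, (hmem _).2 ⟨d, rfl⟩⟩, ?_⟩
    show f d = _
    have h2 := congrArg e hd
    rw [map_pow, e.apply_symm_apply] at h2
    exact (he _).symm.trans h2

/-- Let A be an excellent henselian reduced local ring, S a strict henselization of A and D an
A-subalgebra of S which is finitely generated as an A-module. Write D' for the integral closure of D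
in its total ring of fractions. Then D is etale over A and every minimal prime ideal of S is
generated by its contraction to D, if and only if, for every maximal ideal M of D' with residue
field l, writing k_0 for the subfield of l generated by the image of D (the image itself, a copy of
the residue field of D), k_0 is separably closed in l: every element of l separable over k_0 lies in
k_0. -/
theorem result
    (A S : Type u) [CommRing A] [HenselianLocalRing A] [IsReduced A] (hA : EGA4.IsExcellent A)
    [CommRing S] [IsLocalRing S] [Algebra A S] [IsLocalHom (algebraMap A S)]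
    [Hensel.IsStrictHenselization A S] (D : Subalgebra A S) [Module.Finite A D] :
    (Algebra.Etale A D ∧
        ∀ Q ∈ minimalPrimes S, Q = Ideal.map (algebraMap D S) (Q.comap (algebraMap D S))) ↔
      ∀ (M : Ideal (integralClosure D (FractionRing D))) [M.IsMaximal],
        separableClosure (Subfield.closure (Set.range ((algebraMap (integralClosure D (FractionRing D)) M.ResidueField).comp (algebraMap D (integralClosure D (FractionRing D)))))) M.ResidueField = ⊥ := by
  haveI : IsNoetherianRing A := hA.1
  haveI hSh : HenselianLocalRing S := Hensel.IsStrictHenselization.henselian (R := A)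
  haveI : IsReduced S := (Groth.Agent.S2747.result A S).2 inferInstance
  haveI : IsReduced D := isReduced_of_injective D.val Subtype.val_injective
  haveI : Nontrivial D := D.val.toRingHom.domain_nontrivial
  -- `D` is local henselian, excellent, and its inclusion is local
  haveI : IsLocalRing D := by
    obtain ⟨n, e, he, hloc⟩ := Groth.Agent.Hensel.exists_pi_local (R := A) D
    obtain ⟨i, hi⟩ : ∃ i, (e i : S) = 1 := by
      by_contra hne
      push Not at hne
      have h0 : ∀ i, e i = 0 := fun i => Subtype.ext (by
        have hidem : IsIdempotentElem (e i : S) := (he.idem i).map D.val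
        rcases IsLocalRing.isUnit_or_isUnit_one_sub_self (e i : S) with hu | hu
        · exact absurd ((IsIdempotentElem.iff_eq_one_of_isUnit hu).1 hidem) (hne i)
        · exact hu.mul_left_eq_zero.1 hidem.mul_one_sub_self)
      exact one_ne_zero (α := D) (he.complete ▸ Finset.sum_eq_zero fun i _ => h0 i)
    haveI := hloc i
    have he1 : e i = 1 := Subtype.ext hi
    exact (RingEquiv.ofBijective (Ideal.Quotient.mk (Ideal.span {1 - e i}))
      ⟨(RingHom.injective_iff_ker_eq_bot _).2 (by rw [Ideal.mk_ker, he1, sub_self, Ideal.span_singleton_eq_bot]),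
        Ideal.Quotient.mk_surjective⟩).symm.isLocalRing
  haveI : HenselianLocalRing D := Groth.Agent.Hens.henselianLocalRing_of_finite (A := A) D
  have hDexc : EGA4.IsExcellent D := Groth.Agent.Hens.isExcellent_of_finite hA
  haveI : IsNoetherianRing D := hDexc.1
  haveI : IsLocalHom (algebraMap A D) := ⟨fun a ha => isUnit_of_map_unit (algebraMap A S) a
    (ha.map D.val)⟩
  haveI : IsLocalHom (algebraMap D S) := ⟨fun d hd => by
    by_contra hnd
    have hmem : d ∈ maximalIdeal D := hnd
    obtain ⟨P, hP, hPmem⟩ : ∃ P : Ideal S, P.IsPrime ∧ P.comap (algebraMap D S) = maximalIdeal D := by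
      exact ⟨_, maximalIdeal.isMaximal S |>.isPrime, eq_maximalIdeal (by
        refine Ideal.isMaximal_of_isIntegral_of_isMaximal_comap (R := A) _ ?_
        convert maximalIdeal.isMaximal A
        ext a
        show algebraMap D S (algebraMap A D a) ∈ maximalIdeal S ↔ _
        rw [← IsScalarTower.algebraMap_apply, mem_maximalIdeal, mem_maximalIdeal, mem_nonunits_iff,
          mem_nonunits_iff]
        exact not_congr (isUnit_map_iff _ a))⟩
    have h1 : algebraMap D S d ∈ P := by rw [← Ideal.mem_comap, hPmem]; exact hmem
    exact hP.ne_top (P.eq_top_of_isUnit_mem h1 hd)⟩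
  -- a strict henselization of `D`
  let Sd := Groth.Agent.Hens.StrictHenselization D
  haveI hSdh : HenselianLocalRing Sd := Hensel.IsStrictHenselization.henselian (R := D)
  haveI : IsReduced Sd := (Groth.Agent.S2747.result D Sd).2 inferInstance
  have hEd := Groth.Agent.Hensel.isEtLike_of_isStrictHenselization D Sd
  haveI : Hensel.IsHenselization D D :=
    { henselian := inferInstance
      universal := fun T _ _ f _ => ⟨f, RingHom.comp_id f, fun g hg => hg⟩ }
  have hcrit := Groth.Agent.S16431.result D D Sd hDexc
  have hrhs : (∀ (M : Ideal (integralClosure D (FractionRing D))) [M.IsMaximal],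
      separableClosure (Subfield.closure (Set.range ((algebraMap (integralClosure D (FractionRing D)) M.ResidueField).comp
        (algebraMap D (integralClosure D (FractionRing D)))))) M.ResidueField = ⊥) ↔
      ∀ Q ∈ minimalPrimes Sd, Q = Ideal.map (algebraMap D Sd) (Q.comap (algebraMap D Sd)) := by
    rw [← hcrit]
    exact forall_congr' fun M => forall_congr' fun _ => separableClosure_eq_bot_iff_pow D _ M
  rw [hrhs]
  -- the map `φ : Sd → S`
  haveI hSA := (inferInstance : Hensel.IsStrictHenselization A S).isSepClosure
  haveI : IsSepClosed (ResidueField S) := hSA.sep_closed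
  haveI : Algebra.IsSeparable (ResidueField A) (ResidueField S) := hSA.separable
  haveI : IsScalarTower (ResidueField A) (ResidueField D) (ResidueField S) := .of_algebraMap_eq fun z => by
    obtain ⟨a, rfl⟩ := residue_surjective z
    exact congrArg (residue S) (IsScalarTower.algebraMap_apply A D S a)
  haveI : IsSepClosure (ResidueField D) (ResidueField S) :=
    ⟨inferInstance, Algebra.isSeparable_tower_top_of_isSeparable (ResidueField A) _ _⟩
  haveI : IsSepClosure (ResidueField D) (ResidueField Sd) :=
    (inferInstance : Hensel.IsStrictHenselization D Sd).isSepClosure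
  let σ : ResidueField Sd ≃ₐ[ResidueField D] ResidueField S := IsSepClosure.equiv (ResidueField D) _ _
  obtain ⟨φ, ⟨hφ, hφr⟩, -⟩ := (inferInstance : Hensel.IsStrictHenselization D Sd).universal S
    (algebraMap D S) σ.toAlgHom.toRingHom (RingHom.ext fun z => σ.commutes z)
  obtain ⟨ψ, ⟨hψ, hψr⟩, -⟩ := (inferInstance : Hensel.IsStrictHenselization A S).universal Sd
    ((algebraMap D Sd).comp (algebraMap A D)) σ.symm.toAlgHom.toRingHom (RingHom.ext fun z => by
      obtain ⟨a, rfl⟩ := residue_surjective z
      show σ.symm (residue S (algebraMap A S a)) = residue Sd (algebraMap D Sd (algebraMap A D a))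
      rw [IsScalarTower.algebraMap_apply A D S]
      exact σ.symm.commutes (residue D (algebraMap A D a)))
  have hφψ : ∀ x, φ (ψ x) = x := by
    obtain ⟨w, -, hw⟩ := (inferInstance : Hensel.IsStrictHenselization A S).universal S
      (algebraMap A S) (RingHom.id _) (RingHom.id_comp _)
    have h1 : φ.comp ψ = RingHom.id S :=
      (hw (φ.comp ψ) ⟨by rw [RingHom.comp_assoc, hψ, ← RingHom.comp_assoc, hφ,
          ← IsScalarTower.algebraMap_eq],
        fun x => by
          show residue S (φ (ψ x)) = residue S x
          rw [hφr, hψr]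
          exact σ.apply_symm_apply _⟩).trans
        (hw (RingHom.id S) ⟨RingHom.id_comp _, fun _ => rfl⟩).symm
    exact RingHom.congr_fun h1
  have hφsurj : Function.Surjective φ := fun x => ⟨ψ x, hφψ x⟩
  have transport : Function.Bijective φ →
      ((∀ Q ∈ minimalPrimes Sd, Q = Ideal.map (algebraMap D Sd) (Q.comap (algebraMap D Sd))) ↔
        ∀ Q ∈ minimalPrimes S, Q = Ideal.map (algebraMap D S) (Q.comap (algebraMap D S))) := by
    intro hb
    let e := RingEquiv.ofBijective φ hb
    have hker : RingHom.ker φ ≤ nilradical Sd := by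
      rw [(RingHom.injective_iff_ker_eq_bot φ).1 hb.1]
      exact bot_le
    obtain ⟨eq', heq'⟩ := Groth.Agent.Hens.exists_minimalPrimes_surjective_equiv φ hφsurj hker
    constructor
    · intro h Q hQ
      have h1 := h _ (eq' ⟨Q, hQ⟩).2
      rw [heq'] at h1
      have h2 := congrArg (Ideal.map φ) h1
      rw [Ideal.map_comap_of_surjective φ hφsurj, Ideal.map_map, Ideal.comap_comap, hφ] at h2
      exact h2
    · intro h Q hQ
      obtain ⟨⟨Q', hQ'⟩, hQQ⟩ := eq'.surjective ⟨Q, hQ⟩
      have hQ2 : Q'.comap φ = Q := (heq' ⟨Q', hQ'⟩).symm.trans (congrArg Subtype.val hQQ)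
      subst hQ2
      have hcm : ∀ I : Ideal Sd, (I.map φ).comap φ = I := fun I => Ideal.comap_map_of_bijective φ hb
      rw [← hcm (Ideal.map (algebraMap D Sd) _), Ideal.map_map, Ideal.comap_comap, hφ]
      congr 1
      exact h Q' hQ'
  constructor
  · rintro ⟨hEt, hext⟩
    -- `ψ` is `D`-linear as `D` is etale
    have hψD : ∀ d : D, ψ (algebraMap D S d) = algebraMap D Sd d := by
      letI : Algebra A Sd := ((algebraMap D Sd).comp (algebraMap A D)).toAlgebra
      haveI : IsScalarTower A D Sd := .of_algebraMap_eq' rfl
      let τ : D →ₐ[A] ResidueField Sd := IsScalarTower.toAlgHom A D _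
      obtain ⟨θ, -, huniq⟩ := Groth.Agent.Hensel.existsUnique_algHom_residue (R := A) (T := Sd) D τ
      let g₁ : D →ₐ[A] Sd := IsScalarTower.toAlgHom A D Sd
      let g₂ : D →ₐ[A] Sd :=
        { ψ.comp (algebraMap D S) with
          commutes' := fun a => by
            show ψ (algebraMap D S (algebraMap A D a)) = _
            rw [← IsScalarTower.algebraMap_apply]
            exact RingHom.congr_fun hψ a }
      have h1 : g₁ = θ := huniq g₁ fun d => rfl
      have h2 : g₂ = θ := huniq g₂ fun d => by
        show residue Sd (ψ (algebraMap D S d)) = residue Sd (algebraMap D Sd d)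
        rw [hψr]
        exact σ.symm.commutes (residue D d)
      exact fun d => AlgHom.congr_fun (h2.trans h1.symm) d
    have hψφ : ∀ x, ψ (φ x) = x := by
      obtain ⟨w, -, hw⟩ := (inferInstance : Hensel.IsStrictHenselization D Sd).universal Sd
        (algebraMap D Sd) (RingHom.id _) (RingHom.id_comp _)
      have h1 : ψ.comp φ = RingHom.id Sd :=
        (hw (ψ.comp φ) ⟨RingHom.ext fun d => (congrArg ψ (RingHom.congr_fun hφ d)).trans (hψD d),
          fun x => by
            show residue Sd (ψ (φ x)) = residue Sd x
            rw [hψr, hφr]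
            exact σ.symm_apply_apply _⟩).trans
          (hw (RingHom.id Sd) ⟨RingHom.id_comp _, fun _ => rfl⟩).symm
      exact RingHom.congr_fun h1
    exact (transport ⟨Function.LeftInverse.injective hψφ, hφsurj⟩).2 hext
  · intro hext
    have hinj := (Groth.Agent.Hens.forall_eq_map_comap_iff hEd).1 hext
    haveI := hEd.flat
    have hbij : Function.Bijective φ := by
      refine ⟨(RingHom.injective_iff_ker_eq_bot φ).2 (le_bot_iff.1 ?_), hφsurj⟩
      intro x hx
      show x = 0
      refine Groth.Agent.RedNorm.eq_zero_of_forall_mem fun R => ?_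
      haveI := R.2.1.1
      have hP := Groth.Agent.Hens.comap_mem_minimalPrimes_of_flat (R := D) R.2
      obtain ⟨Q, hQ, hQD⟩ : ∃ Q : Ideal S, Q.IsPrime ∧ Q.comap (algebraMap D S) = R.1.comap (algebraMap D Sd) := by
        obtain ⟨Q, hQ, hQD⟩ := Ideal.exists_minimalPrimes_comap_eq (algebraMap D S) (R.1.comap (algebraMap D Sd))
          (I := ⊥) (by
            rw [← RingHom.ker_eq_comap_bot,
              (RingHom.injective_iff_ker_eq_bot (algebraMap D S)).1 Subtype.val_injective]
            exact hP)
        exact ⟨Q, hQ.1.1, hQD⟩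
      obtain ⟨R', hR', hle⟩ := Ideal.exists_minimalPrimes_le (bot_le : (⊥ : Ideal Sd) ≤ Q.comap φ)
      haveI := hR'.1.1
      have hQc : (Q.comap φ).comap (algebraMap D Sd) = R.1.comap (algebraMap D Sd) := by
        rw [Ideal.comap_comap, hφ, hQD]
      have hR'c : R'.comap (algebraMap D Sd) = R.1.comap (algebraMap D Sd) :=
        have h := (Ideal.comap_mono (f := algebraMap D Sd) hle).trans hQc.le
        le_antisymm h (hP.2 ⟨inferInstance, bot_le⟩ h)
      have hR'R : R' = R.1 := congrArg Subtype.val (@hinj ⟨R', hR'⟩ R hR'c)
      have h := hEd.eq_of_le_of_comap_eq hle (hR'c.trans hQc.symm)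
      rw [← hR'R, h]
      show φ x ∈ Q
      rw [show φ x = 0 from hx]
      exact Q.zero_mem
    refine ⟨?_, (transport hbij).1 hext⟩
    let eS : Sd ≃ₐ[D] S := AlgEquiv.ofBijective { φ with commutes' := RingHom.congr_fun hφ } hbij
    haveI := hEd.faithfullyFlat
    haveI : Module.FaithfullyFlat D S := Module.FaithfullyFlat.of_linearEquiv _ _ eS.symm.toLinearEquiv
    haveI : Module.Flat A S := (Groth.Agent.Hensel.isEtLike_of_isStrictHenselization A S).flat
    haveI : Module.Flat A D := Groth.Agent.FDesc.Algebra.flat_of_comp_faithfullyFlat (A := A) (B := D) (C := S)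
    haveI : Algebra.FinitePresentation A D := Algebra.FinitePresentation.of_finiteType.1 inferInstance
    haveI : Algebra.IsSeparable (ResidueField A) (ResidueField D) :=
      Algebra.isSeparable_tower_bot_of_isSeparable (ResidueField A) (ResidueField D) (ResidueField S)
    haveI : Algebra.FormallyUnramified A D := Algebra.FormallyUnramified.of_map_maximalIdeal (by
      refine Ideal.map_injective_of_faithfullyFlat (A := D) (B := S) ?_
      rw [Ideal.map_map, ← IsScalarTower.algebraMap_eq,
        (Groth.Agent.Hensel.isEtLike_of_isStrictHenselization A S).map_max]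
      refine (le_antisymm (IsLocalRing.map_maximalIdeal_le _) ?_).symm
      rw [← (Groth.Agent.Hensel.isEtLike_of_isStrictHenselization A S).map_max,
        IsScalarTower.algebraMap_eq A D S, ← Ideal.map_map]
      exact Ideal.map_mono (IsLocalRing.map_maximalIdeal_le _))
    exact Algebra.Etale.of_formallyUnramified_of_flat

end Groth.Agent.S16436
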