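import Groth.Statements.S16437
import Groth.Agent.Hens.EtLikeTower
import Groth.Agent.Hens.GaloisStage
import Groth.Agent.Hensel.EssSub
import Groth.Agent.StrictHens.Basic
import Groth.Agent.StrictHens.Tensor
import Groth.Agent.S0540
import Mathlib.RingTheory.Spectrum.Prime.Homeomorph
import Mathlib.RingTheory.Unramified.Field

set_option linter.style.haveILetI false

set_option autoImplicit false
universe u
open Hensel

namespace Groth.Agent.S16437

open IsLocalRing TensorProduct

/-- A separable extension `K` of degree `n` has `n` points over `F` iff `F ⊗ K` has `n` maximal ideals. -/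
theorem card_algHom_eq_finrank_iff (k K F : Type u) [Field k] [Field K] [Field F] [Algebra k K] [Algebra k F]
    [FiniteDimensional k K] [Algebra.IsSeparable k K] :
    Nat.card (MaximalSpectrum (F ⊗[k] K)) ≤ Module.finrank k K ∧
      (Module.finrank k K ≤ Nat.card (MaximalSpectrum (F ⊗[k] K)) ↔
        Nat.card (K →ₐ[k] F) = Module.finrank k K) := by
  classical
  let R := F ⊗[k] K
  haveI : Algebra.FormallyEtale k K := Algebra.FormallyEtale.of_isSeparable k K
  haveI : IsReduced R := Algebra.FormallyUnramified.isReduced_of_field F R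
  haveI : Module.Finite F R := inferInstance
  haveI : IsArtinianRing R := IsArtinianRing.of_finite F R
  haveI := Fintype.ofFinite (MaximalSpectrum R)
  let Ψ : (K →ₐ[k] F) → MaximalSpectrum R := fun ψ =>
    ⟨RingHom.ker (Algebra.TensorProduct.lift (Algebra.ofId F F) ψ fun _ _ => Commute.all _ _).toRingHom,
      RingHom.ker_isMaximal_of_surjective _ fun z => ⟨z ⊗ₜ 1, (Algebra.TensorProduct.lift_tmul _ _ _ z 1).trans (by simp)⟩⟩
  have hΨ : Function.Injective Ψ := fun ψ ψ' h => AlgHom.ext fun y => by
    have hx : ∀ φ : K →ₐ[k] F, ((ψ y) ⊗ₜ 1 - 1 ⊗ₜ y : R) ∈ (Ψ φ).asIdeal ↔ ψ y = φ y := fun φ => by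
      show Algebra.TensorProduct.lift (Algebra.ofId F F) φ _ _ = 0 ↔ _
      rw [map_sub, Algebra.TensorProduct.lift_tmul, Algebra.TensorProduct.lift_tmul, map_one, map_one,
        mul_one, one_mul, sub_eq_zero]
      rfl
    exact (hx ψ').1 ((SetLike.ext_iff.1 (congrArg MaximalSpectrum.asIdeal h) _).1 ((hx ψ).2 rfl))
  let e : R ≃ₐ[R] ∀ M : MaximalSpectrum R, R ⧸ M.asIdeal := IsArtinianRing.equivPi R
  have hsum : Module.finrank k K = ∑ M : MaximalSpectrum R, Module.finrank F (R ⧸ M.asIdeal) := by
    rw [← Module.finrank_baseChange (R := F) (S := k) (M' := K),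
      (e.restrictScalars F).toLinearEquiv.finrank_eq, Module.finrank_pi_fintype]
  have hpos : ∀ M : MaximalSpectrum R, 1 ≤ Module.finrank F (R ⧸ M.asIdeal) := fun M =>
    haveI : Nontrivial (R ⧸ M.asIdeal) := Ideal.Quotient.nontrivial_iff.2 M.isMaximal.ne_top
    Module.finrank_pos
  have hle : Nat.card (MaximalSpectrum R) ≤ Module.finrank k K := by
    rw [hsum, Nat.card_eq_fintype_card, ← Finset.card_univ, Finset.card_eq_sum_ones]
    exact Finset.sum_le_sum fun M _ => hpos M
  refine ⟨hle, fun h => ?_, fun h => h ▸ Nat.card_le_card_of_injective Ψ hΨ⟩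
  refine le_antisymm ((Nat.card_le_card_of_injective Ψ hΨ).trans hle) (h.trans ?_)
  have hone : ∀ M : MaximalSpectrum R, Module.finrank F (R ⧸ M.asIdeal) = 1 := fun M => by
    by_contra hM
    have h2 : ∑ _M : MaximalSpectrum R, 1 < ∑ M : MaximalSpectrum R, Module.finrank F (R ⧸ M.asIdeal) :=
      Finset.sum_lt_sum (fun M _ => hpos M) ⟨M, Finset.mem_univ _, lt_of_le_of_ne (hpos M) (Ne.symm hM)⟩
    rw [← hsum, ← Finset.card_eq_sum_ones, Finset.card_univ, ← Nat.card_eq_fintype_card] at h2
    exact absurd h2 (not_lt.2 h)
  haveI : Finite (K →ₐ[k] F) := Finite.of_injective Ψ hΨ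
  refine Nat.card_le_card_of_surjective Ψ fun M => ?_
  haveI : Nontrivial (R ⧸ M.asIdeal) := Ideal.Quotient.nontrivial_iff.2 M.isMaximal.ne_top
  have hbij : Function.Bijective (algebraMap F (R ⧸ M.asIdeal)) :=
    ⟨RingHom.injective _, fun z => by
      obtain ⟨c, hc⟩ := exists_smul_eq_of_finrank_eq_one (hone M) one_ne_zero z
      exact ⟨c, by rw [← hc, Algebra.algebraMap_eq_smul_one]⟩⟩
  let g : R →ₐ[F] F := (AlgEquiv.ofBijective (Algebra.ofId F (R ⧸ M.asIdeal)) hbij).symm.toAlgHom.comp
    (Ideal.Quotient.mkₐ F M.asIdeal)
  refine ⟨(g.restrictScalars k).comp Algebra.TensorProduct.includeRight, MaximalSpectrum.ext ?_⟩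
  ext x
  have hgx : Algebra.TensorProduct.lift (Algebra.ofId F F)
      ((g.restrictScalars k).comp Algebra.TensorProduct.includeRight) (fun _ _ => Commute.all _ _) = g := by
    refine Algebra.TensorProduct.ext (AlgHom.ext fun z => ?_) (AlgHom.ext fun y => ?_)
    · simp only [AlgHom.comp_apply, Algebra.TensorProduct.includeLeft_apply,
        Algebra.TensorProduct.lift_tmul, map_one, mul_one]
      exact (g.commutes z).symm
    · simp only [AlgHom.comp_apply, AlgHom.restrictScalars_apply, Algebra.TensorProduct.includeRight_apply,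
        Algebra.TensorProduct.lift_tmul, map_one, one_mul]
      rfl
  show Algebra.TensorProduct.lift (Algebra.ofId F F) _ _ x = 0 ↔ x ∈ M.asIdeal
  rw [hgx]
  show (AlgEquiv.ofBijective (Algebra.ofId F (R ⧸ M.asIdeal)) hbij).symm (Ideal.Quotient.mk M.asIdeal x) = 0 ↔ _
  rw [map_eq_zero_iff _ (AlgEquiv.injective _), Ideal.Quotient.eq_zero_iff_mem]

/-- Maximal spectra along a surjection with kernel in all maximal ideals. -/
theorem card_maximalSpectrum_of_surjective {R T : Type u} [CommRing R] [CommRing T] (π : R →+* T)
    (hπ : Function.Surjective π) (hker : ∀ M : Ideal R, M.IsMaximal → RingHom.ker π ≤ M) :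
    Nat.card (MaximalSpectrum T) = Nat.card (MaximalSpectrum R) := by
  refine Nat.card_congr (Equiv.ofBijective (fun M => ⟨M.asIdeal.comap π,
    haveI := M.isMaximal; Ideal.comap_isMaximal_of_surjective π hπ⟩) ⟨fun M M' h => ?_, fun M => ?_⟩)
  · exact MaximalSpectrum.ext (Ideal.comap_injective_of_surjective π hπ (congrArg MaximalSpectrum.asIdeal h))
  · haveI := M.isMaximal
    refine ⟨⟨M.asIdeal.map π, Ideal.IsMaximal.map_of_surjective_of_ker_le hπ (hker _ M.isMaximal)⟩,
      MaximalSpectrum.ext ?_⟩
    show (M.asIdeal.map π).comap π = M.asIdeal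
    rw [Ideal.comap_map_of_surjective π hπ]
    exact sup_eq_left.2 (hker _ M.isMaximal)

open IsLocalRing in
/-- Maximal ideals of a tensor product of local integral algebras are those of the residue fields. -/
theorem card_maximalSpectrum_tensor_residue {A N E : Type u} [CommRing A] [IsLocalRing A] [CommRing N]
    [IsLocalRing N] [Algebra A N] [IsLocalHom (algebraMap A N)] [Algebra.IsIntegral A N]
    [CommRing E] [IsLocalRing E] [Algebra A E] [IsLocalHom (algebraMap A E)] :
    Nat.card (MaximalSpectrum (N ⊗[A] E)) =
      Nat.card (MaximalSpectrum (ResidueField N ⊗[ResidueField A] ResidueField E)) := by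
  let k := ResidueField A
  let k' := ResidueField N
  let kE := ResidueField E
  let T := k' ⊗[k] kE
  let π : N ⊗[A] E →ₐ[A] T := Algebra.TensorProduct.lift
    (((Algebra.TensorProduct.includeLeft : k' →ₐ[k] T).restrictScalars A).comp (IsScalarTower.toAlgHom A N k'))
    (((Algebra.TensorProduct.includeRight : kE →ₐ[k] T).restrictScalars A).comp (IsScalarTower.toAlgHom A E kE))
    fun _ _ => Commute.all _ _
  have hπ : Function.Surjective π := fun z => by
    induction z using TensorProduct.induction_on with
    | zero => exact ⟨0, map_zero _⟩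
    | add x y hx hy =>
      obtain ⟨a, ha⟩ := hx
      obtain ⟨b, hb⟩ := hy
      exact ⟨a + b, by rw [map_add, ha, hb]⟩
    | tmul x y =>
      obtain ⟨n, rfl⟩ := residue_surjective x
      obtain ⟨e, rfl⟩ := residue_surjective y
      refine ⟨n ⊗ₜ e, ?_⟩
      show ((residue N n) ⊗ₜ[k] (1 : kE)) * ((1 : k') ⊗ₜ[k] residue E e) = _
      simp
  have hker : ∀ M : Ideal (N ⊗[A] E), M.IsMaximal → RingHom.ker π.toRingHom ≤ M := by
    intro M hM x hx
    let F := (N ⊗[A] E) ⧸ M
    have hNM : M.comap (algebraMap N (N ⊗[A] E)) = maximalIdeal N :=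
      eq_maximalIdeal (Groth.Agent.Hens.isMaximal_comap_tensor M)
    let gN : k' →+* F := Ideal.Quotient.lift (maximalIdeal N)
      ((Ideal.Quotient.mk M).comp (algebraMap N (N ⊗[A] E))) fun n hn =>
        Ideal.Quotient.eq_zero_iff_mem.2 (by rw [← hNM] at hn; exact hn)
    let gE : kE →+* F := Ideal.Quotient.lift (maximalIdeal E)
      ((Ideal.Quotient.mk M).comp
        (Algebra.TensorProduct.includeRight : E →ₐ[A] N ⊗[A] E).toRingHom) fun e he =>
        Ideal.Quotient.eq_zero_iff_mem.2 (by
          rw [← Groth.Agent.Hens.comap_eq_maximalIdeal_of_isMaximal M] at he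
          exact he)
    letI : Algebra k F := (gN.comp (algebraMap k k')).toAlgebra
    let g : T →ₐ[k] F := Algebra.TensorProduct.lift
      { gN with commutes' := fun _ => rfl }
      { gE with
        commutes' := fun r => by
          obtain ⟨a, rfl⟩ := residue_surjective r
          show Ideal.Quotient.mk M ((1 : N) ⊗ₜ algebraMap A E a) =
            Ideal.Quotient.mk M (algebraMap A N a ⊗ₜ (1 : E))
          rw [Algebra.TensorProduct.tmul_one_eq_one_tmul] }
      fun _ _ => Commute.all _ _
    have hg : ∀ y, g (π y) = Ideal.Quotient.mk M y := fun y => by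
      induction y using TensorProduct.induction_on with
      | zero => simp
      | add v w hv hw => rw [map_add, map_add, hv, hw, map_add]
      | tmul n e =>
        show g (((residue N n) ⊗ₜ[k] (1 : kE)) * ((1 : k') ⊗ₜ[k] residue E e)) = _
        rw [map_mul, Algebra.TensorProduct.lift_tmul, Algebra.TensorProduct.lift_tmul, map_one, map_one,
          mul_one, one_mul]
        show Ideal.Quotient.mk M (n ⊗ₜ (1 : E)) * Ideal.Quotient.mk M ((1 : N) ⊗ₜ e) = _
        rw [← map_mul, Algebra.TensorProduct.tmul_mul_tmul, mul_one, one_mul]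
    rw [← Ideal.Quotient.eq_zero_iff_mem, ← hg, show π x = 0 from hx, map_zero]
  exact (card_maximalSpectrum_of_surjective π.toRingHom hπ hker).symm

/-- Let A be an excellent henselian local domain with residue field k, whose integral closure A' in its
fraction field is a local ring (as it is, A being henselian) with local inclusion A → A' and residue
field k'; let k^s be the separable closure of k in k', S a strict henselization of A, and E a local
ring which is an essentially etale local A-algebra with local structure map, together with an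
A-algebra map E → S. Then every minimal prime ideal of S is generated by its contraction to E if and
only if the number of k-algebra maps from k^s to the residue field of E equals the degree [k^s : k];
equivalently, the minimal polynomial of a primitive element of k^s over k splits into linear factors
over the residue field of E. -/
theorem result
    (A S E : Type u) [CommRing A] [HenselianLocalRing A] [IsDomain A] (hA : EGA4.IsExcellent A)
    [IsLocalRing (integralClosure A (FractionRing A))] [IsLocalHom (algebraMap A (integralClosure A (FractionRing A)))]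
    [CommRing S] [IsLocalRing S] [Algebra A S] [IsLocalHom (algebraMap A S)]
    [Hensel.IsStrictHenselization A S]
    [CommRing E] [IsLocalRing E] [Algebra A E] [IsLocalHom (algebraMap A E)]
    (hE : EGA4loc.IsEssentiallyEtale A E) [Algebra E S] [IsScalarTower A E S] :
    (∀ Q ∈ minimalPrimes S, Q = Ideal.map (algebraMap E S) (Q.comap (algebraMap E S))) ↔
      Nat.card (separableClosure (ResidueField A) (ResidueField (integralClosure A (FractionRing A))) →ₐ[ResidueField A]
          ResidueField E) =
        Module.finrank (ResidueField A)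
          (separableClosure (ResidueField A) (ResidueField (integralClosure A (FractionRing A)))) := by
  classical
  haveI : IsNoetherianRing A := hA.1
  haveI : IsNoetherianRing S := (Groth.Agent.S0540.result A S).1 inferInstance
  haveI : HenselianLocalRing S := Hensel.IsStrictHenselization.henselian (R := A)
  have hE₁ := Groth.Agent.Hensel.isEtLike_of_isEssentiallyEtale hE
  have hS₁ := Groth.Agent.Hensel.isEtLike_of_isStrictHenselization A S
  haveI : IsLocalHom (algebraMap E S) := ⟨fun x hx => by
    by_contra hnx
    have h1 : x ∈ maximalIdeal E := hnx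
    rw [← hE₁.map_max] at h1
    have h2 := Ideal.mem_map_of_mem (algebraMap E S) h1
    rw [Ideal.map_map, ← IsScalarTower.algebraMap_eq, hS₁.map_max] at h2
    exact h2 hx⟩
  have hES := Groth.Agent.Hens.isEtLike_tower_top hE₁ hS₁
  haveI : Algebra.IsIntegral A S := ⟨fun x => by
    obtain ⟨B, _, _, _, _, _, hBfin, -, -, θ, -, -, -, hθ⟩ := Groth.Agent.Hens.exists_galois_stage A S {x}
    haveI := hBfin
    obtain ⟨b, rfl⟩ := hθ x (Finset.mem_singleton_self x)
    exact (Algebra.IsIntegral.isIntegral (R := A) b).map θ⟩
  haveI : Algebra.IsIntegral A E :=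
    ⟨fun d => (isIntegral_algHom_iff (IsScalarTower.toAlgHom A E S) hES.algebraMap_injective).1
      (Algebra.IsIntegral.isIntegral _)⟩
  haveI : HenselianLocalRing E := Groth.Agent.StrictHens.Basic.henselianLocalRing_of_integral (R := A)
  haveI := hES.flat
  have hAfin : (minimalPrimes A).Finite := minimalPrimes.finite_of_isNoetherianRing A
  let k := ResidueField A
  let k' := ResidueField (integralClosure A (FractionRing A))
  let kE := ResidueField E
  let Ω := AlgebraicClosure k
  let Ks := separableClosure k k'
  haveI : IsSepClosure k (ResidueField S) := Hensel.IsStrictHenselization.isSepClosure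
  haveI : Algebra.IsAlgebraic k k' := Groth.Agent.StrictHens.Tensor.isAlgebraic_residueField A (integralClosure A (FractionRing A))
  -- minimal primes of `S`
  obtain ⟨eS⟩ := Groth.Agent.Hens.nonempty_minimalPrimes_equiv_maximalSpectrum_reduced hS₁ hAfin
  obtain ⟨eS'⟩ := Groth.Agent.Hens.exists_sigma_emb_equiv (A := A) (S := S) (N := (integralClosure A (FractionRing A)))
  letI : Unique (MaximalSpectrum (integralClosure A (FractionRing A))) :=
    { default := ⟨maximalIdeal (integralClosure A (FractionRing A)), maximalIdeal.isMaximal (integralClosure A (FractionRing A))⟩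
      uniq := fun M => MaximalSpectrum.ext (eq_maximalIdeal M.isMaximal) }
  let Φ : {σ : (integralClosure A (FractionRing A)) ⧸ maximalIdeal (integralClosure A (FractionRing A)) →+* Ω //
      σ.comp ((Ideal.Quotient.mk (maximalIdeal (integralClosure A (FractionRing A)))).comp (algebraMap A (integralClosure A (FractionRing A)))) =
        (algebraMap k Ω).comp (residue A)} ≃ (k' →ₐ[k] Ω) :=
    { toFun := fun σ =>
        { (σ.1 : k' →+* Ω) with
          commutes' := fun r => by
            obtain ⟨a, rfl⟩ := residue_surjective r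
            exact RingHom.congr_fun σ.2 a }
      invFun := fun f => ⟨f.toRingHom, RingHom.ext fun a => f.commutes (residue A a)⟩
      left_inv := fun _ => rfl
      right_inv := fun _ => rfl }
  have hcS : Nat.card (minimalPrimes S) = Module.finrank k Ks := by
    rw [Nat.card_congr ((eS.trans eS'.symm).trans (Equiv.uniqueSigma _))]
    exact (Nat.card_congr (Φ.trans (Field.embEquivOfIsAlgClosed k k' Ω).symm)).trans
      (Field.finSepDegree_eq k k')
  haveI : Finite (minimalPrimes S) := (minimalPrimes.finite_of_isNoetherianRing S).to_subtype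
  haveI : Nonempty (minimalPrimes S) :=
    (Ideal.exists_minimalPrimes_le (bot_le : (⊥ : Ideal S) ≤ maximalIdeal S)).elim fun P h => ⟨⟨P, h.1⟩⟩
  haveI : FiniteDimensional k Ks := Module.finite_of_finrank_pos (hcS ▸ Nat.card_pos)
  -- minimal primes of `E`
  obtain ⟨eE⟩ := Groth.Agent.Hens.nonempty_minimalPrimes_equiv_maximalSpectrum_reduced hE₁ hAfin
  have hcE : Nat.card (minimalPrimes E) = Nat.card (MaximalSpectrum (kE ⊗[k] Ks)) := by
    rw [Nat.card_congr eE]
    rw [card_maximalSpectrum_tensor_residue]
    let T := k' ⊗[k] kE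
    haveI : Algebra.IsAlgebraic k kE := Groth.Agent.StrictHens.Tensor.isAlgebraic_residueField A E
    have hprime : ∀ (R : Type u) [CommRing R] [Algebra k R] [Algebra.IsIntegral k R] (P : PrimeSpectrum R),
        P.asIdeal.IsMaximal := fun R _ _ _ P =>
      Ideal.isMaximal_of_isIntegral_of_isMaximal_comap (R := k) P.asIdeal (by
        rw [show P.asIdeal.comap (algebraMap k R) = ⊥ from
          (Ideal.eq_bot_or_top _).resolve_right (Ideal.comap_ne_top _ P.2.ne_top)]
        exact Ideal.bot_isMaximal)
    have hmp : ∀ (R : Type u) [CommRing R] [Algebra k R] [Algebra.IsIntegral k R],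
        Nat.card (MaximalSpectrum R) = Nat.card (PrimeSpectrum R) := fun R _ _ _ =>
      Nat.card_congr
        { toFun := fun M => ⟨M.asIdeal, M.isMaximal.isPrime⟩
          invFun := fun P => ⟨P.asIdeal, hprime R P⟩
          left_inv := fun _ => rfl
          right_inv := fun _ => rfl }
    haveI : Algebra.IsIntegral k T := Algebra.IsIntegral.trans k'
    haveI : Algebra.IsIntegral k (kE ⊗[k] Ks) := Algebra.IsIntegral.trans kE
    show Nat.card (MaximalSpectrum T) = _
    rw [hmp T, hmp (kE ⊗[k] Ks)]
    haveI : IsPurelyInseparable Ks k' := inferInstance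
    exact (Nat.card_congr (Equiv.ofBijective _
      (PrimeSpectrum.isHomeomorph_comap_tensorProductMap_of_isPurelyInseparable
        (R := k) (S := kE) Ks k').bijective)).trans
      (Nat.card_congr (Equiv.ofBijective _ (PrimeSpectrum.isHomeomorph_comap_of_bijective
        (f := (Algebra.TensorProduct.comm k kE Ks).toAlgHom.toRingHom)
        (Algebra.TensorProduct.comm k kE Ks).bijective).bijective))
  -- the comparison
  let f : minimalPrimes S → minimalPrimes E := fun Q =>
    ⟨_, Groth.Agent.Hens.comap_mem_minimalPrimes_of_flat Q.2⟩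
  have hsurj : Function.Surjective f := fun P => by
    haveI := P.2.1.1
    obtain ⟨Q, hQ⟩ := hES.comap_surjective ⟨P.1, inferInstance⟩
    haveI := Q.2
    obtain ⟨R, hR, hle⟩ := Ideal.exists_minimalPrimes_le (bot_le : (⊥ : Ideal S) ≤ Q.asIdeal)
    haveI := hR.1.1
    have h := (Ideal.comap_mono hle).trans (congrArg PrimeSpectrum.asIdeal hQ).le
    exact ⟨⟨R, hR⟩, Subtype.ext (le_antisymm h (P.2.2 ⟨inferInstance, bot_le⟩ h))⟩
  haveI : Finite (minimalPrimes E) := Finite.of_surjective f hsurj
  have hcrit : Function.Injective f ↔ Nat.card (minimalPrimes S) ≤ Nat.card (minimalPrimes E) :=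
    ⟨fun hi => Nat.card_le_card_of_injective f hi, fun hle => (hsurj.bijective_of_nat_card_le hle).1⟩
  rw [Groth.Agent.Hens.forall_eq_map_comap_iff hES,
    show Function.Injective (fun Q : minimalPrimes S => Q.1.comap (algebraMap E S)) ↔
      Function.Injective f from
      ⟨fun hi a b hab => hi (congrArg Subtype.val hab), fun hi a b hab => hi (Subtype.ext hab)⟩,
    hcrit, hcS, hcE]
  exact (card_algHom_eq_finrank_iff k Ks kE).2

end Groth.Agent.S16437
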