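import Groth.Statements.S16442
import Groth.Agent.Hensel.EssSub

set_option autoImplicit false
universe u
open EGA4loc

namespace Groth.Agent.S16442

/-- Let A be a reduced local ring with finitely many minimal prime ideals, S a strict henselization of
A, and D an A-subalgebra of S which is a local ring dominated by S (local inclusion) and essentially
of finite type over A. Then D is contained in some A-subalgebra E of S which is a local ring and an
essentially etale local A-algebra. -/
theorem result
    (A S : Type u) [CommRing A] [IsLocalRing A] [IsReduced A] (hmin : (minimalPrimes A).Finite)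
    [CommRing S] [IsLocalRing S] [Algebra A S] [IsLocalHom (algebraMap A S)]
    [Hensel.IsStrictHenselization A S] (D : Subalgebra A S) [IsLocalRing D]
    [IsLocalHom (algebraMap D S)] [Algebra.EssFiniteType A D] :
    ∃ E : Subalgebra A S, D ≤ E ∧ ∃ _ : IsLocalRing E, EGA4loc.IsEssentiallyEtale A E := by
  classical
  have h := Groth.Agent.Hensel.isEtLike_of_isStrictHenselization A S
  obtain ⟨E, hE, hsE⟩ := h.exists_essSub ((Algebra.EssFiniteType.finset A D).image Subtype.val)
  haveI := hE.isLocalRing
  haveI := hE.isLocalHom
  refine ⟨E, fun x hx => ?_, hE.isLocalRing, hE.essEtale⟩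
  have hadj : ∀ y : D, y ∈ Algebra.adjoin A (Algebra.EssFiniteType.finset A D : Set D) → (y : S) ∈ E := fun y hy =>
    Algebra.adjoin_le (S := E.comap D.val) (fun z hz => hsE (Finset.mem_coe.2 (Finset.mem_image_of_mem _ hz))) hy
  obtain ⟨⟨y, t, ht⟩, hty⟩ := IsLocalization.surj (Algebra.EssFiniteType.submonoid A D) (⟨x, hx⟩ : D)
  have htu : IsUnit ((⟨(t : D), hadj t t.2⟩ : E)) := by
    refine isUnit_of_map_unit (algebraMap E S) _ ?_
    exact (show IsUnit (t : D) from ht).map D.val
  obtain ⟨w, hw⟩ := htu.exists_right_inv
  have h1 : x * ((t : D) : S) = ((y : D) : S) := congrArg Subtype.val hty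
  have h2 : ((t : D) : S) * (w : S) = 1 := congrArg Subtype.val hw
  have h3 : x = ((y : D) : S) * (w : S) := by rw [← h1, mul_assoc, h2, mul_one]
  rw [h3]
  exact E.mul_mem (hadj y y.2) w.2

end Groth.Agent.S16442
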