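import Groth.Statements.S16443
import Groth.Agent.Hensel.EssSubFrac

set_option autoImplicit false
universe u
open EGA4loc

namespace Groth.Agent.S16443

/-- Let A be a reduced local ring with finitely many minimal prime ideals, E a local ring which is an
essentially etale local A-algebra with local structure map, K_E the total ring of fractions of E,
and L an A-subalgebra of K_E containing an inverse of the image of every non-zero-divisor of A (so L
is an intermediate ring between the total rings of fractions of A and of E). Then the preimage D of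
L in E is (the underlying set of) an A-subalgebra of E which is a local ring with local inclusion
into E — its maximal ideal lies under that of E — and L is the total ring of fractions of D in the
sense that every element of L is the image of an element of D times the inverse of the image of a
non-zero-divisor of A. -/
theorem result
    (A E : Type u) [CommRing A] [IsLocalRing A] [IsReduced A] (hmin : (minimalPrimes A).Finite)
    [CommRing E] [IsLocalRing E] [Algebra A E] [IsLocalHom (algebraMap A E)]
    (hE : EGA4loc.IsEssentiallyEtale A E) (L : Subalgebra A (FractionRing E))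
    (hL : ∀ s ∈ nonZeroDivisors A, ∃ y ∈ L, algebraMap A (FractionRing E) s * y = 1) :
    ∃ D : Subalgebra A E, (D : Set E) = (algebraMap E (FractionRing E)) ⁻¹' (L : Set (FractionRing E)) ∧
      ∃ _ : IsLocalRing D, IsLocalHom (algebraMap D E) ∧
        ∀ l ∈ L, ∃ d ∈ D, ∃ s ∈ nonZeroDivisors A, ∃ y ∈ L,
          algebraMap A (FractionRing E) s * y = 1 ∧ l = algebraMap E (FractionRing E) d * y := by
  have h := Groth.Agent.Hensel.isEtLike_of_isEssentiallyEtale hE
  let f : E →ₐ[A] FractionRing E := IsScalarTower.toAlgHom A E (FractionRing E)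
  let D : Subalgebra A E := L.comap f
  have hinv : ∀ d : D, IsUnit (d : E) → IsUnit d := by
    intro d hd
    have hreg : d ∈ nonZeroDivisors D := mem_nonZeroDivisors_iff_right.2 fun z hz => Subtype.ext
      (hd.mul_left_eq_zero.1 (congrArg Subtype.val hz))
    obtain ⟨a, ha, d', hd'⟩ := h.exists_mul_eq_algebraMap hmin D hreg
    obtain ⟨y, hy, hay⟩ := hL a ha
    obtain ⟨u, hu⟩ := hd.exists_right_inv
    have hdd : (d : E) * (d' : E) = algebraMap A E a := congrArg Subtype.val hd'
    have hmem : u ∈ D := by
      show f u ∈ L
      have h1 : f u = f d' * y := by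
        calc f u = f u * (algebraMap A (FractionRing E) a * y) := by rw [hay, mul_one]
          _ = f u * (f (algebraMap A E a) * y) := by rw [f.commutes]
          _ = f ((d : E) * u) * (f d' * y) := by rw [← hdd, map_mul, map_mul]; ring
          _ = f d' * y := by rw [hu, map_one, one_mul]
      rw [h1]
      exact L.mul_mem d'.2 hy
    exact IsUnit.of_mul_eq_one ⟨u, hmem⟩ (Subtype.ext hu)
  haveI : IsLocalRing D := IsLocalRing.of_isUnit_or_isUnit_one_sub_self fun d =>
    (IsLocalRing.isUnit_or_isUnit_one_sub_self (d : E)).imp (hinv d) (hinv (1 - d))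
  refine ⟨D, rfl, inferInstance, ⟨fun d hd => hinv d hd⟩, fun l hl => ?_⟩
  obtain ⟨⟨e, n, hn⟩, hen⟩ := IsLocalization.surj (nonZeroDivisors E) l
  let F : (⊤ : Subalgebra A E) ≃ₐ[A] E := Subalgebra.topEquiv
  obtain ⟨a, ha, n', hn'⟩ := h.exists_mul_eq_algebraMap hmin ⊤ (d := F.symm n)
    (mem_nonZeroDivisors_iff_right.2 fun x hx => F.injective (by
      rw [map_zero]
      refine (mem_nonZeroDivisors_iff_right.1 hn) _ ?_
      rw [← F.apply_symm_apply n, ← map_mul, hx, map_zero]))
  obtain ⟨y, hy, hay⟩ := hL a ha
  have hnn : n * (n' : E) = algebraMap A E a := congrArg Subtype.val hn'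
  have hle : f (e * (n' : E)) = l * algebraMap A (FractionRing E) a := by
    rw [map_mul, ← f.commutes, ← hnn, map_mul, ← mul_assoc]
    exact congrArg (· * f (n' : E)) hen.symm
  refine ⟨e * (n' : E), ?_, a, ha, y, hy, hay, ?_⟩
  · show f (e * (n' : E)) ∈ L
    rw [hle]
    exact L.mul_mem hl (L.algebraMap_mem a)
  · show l = f (e * (n' : E)) * y
    rw [hle, mul_assoc, hay, mul_one]

end Groth.Agent.S16443
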