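import Groth.Statements.S16444
import Groth.Agent.Hensel.EssEt
import Groth.Agent.MultType.HenselSep
import Groth.Agent.Adic.Basic

set_option autoImplicit false
set_option linter.style.haveILetI false
set_option backward.isDefEq.respectTransparency.types false
universe u
open scoped TensorProduct
open Hensel

namespace Groth.Agent.S16444

open IsLocalRing in
/-- Let A be a complete Noetherian local ring and R → A a local homomorphism from a henselian Noetherian
local ring R inducing a bijection on residue fields. Then every local ring E which is an essentially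
etale local A-algebra with local structure map is A-isomorphic to A ⊗_R S for some local ring S
which is a finite etale R-algebra (its residue field is then that of E). (The published statement
takes R to be a coefficient ring of A, that is a field or an image of a complete p-ring with the
same residue field; its proof uses only that R is henselian with the same residue field as A, which
is the hypothesis made here.) -/
theorem result
    (R A E : Type u) [CommRing R] [HenselianLocalRing R] [IsNoetherianRing R]
    [CommRing A] [IsLocalRing A] [IsNoetherianRing A] [IsAdicComplete (maximalIdeal A) A]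
    [Algebra R A] [IsLocalHom (algebraMap R A)]
    (hres : Function.Bijective (ResidueField.map (algebraMap R A)))
    [CommRing E] [IsLocalRing E] [Algebra A E] [IsLocalHom (algebraMap A E)]
    (hE : EGA4loc.IsEssentiallyEtale A E) :
    ∃ (S : Type u) (_ : CommRing S) (_ : IsLocalRing S) (_ : Algebra R S),
      Module.Finite R S ∧ Algebra.Etale R S ∧ Nonempty (E ≃ₐ[A] A ⊗[R] S) := by
  -- the residue field of `E` over that of `R`
  haveI : IsLocalHom (algebraMap R A) := inferInstance
  have hmE := Groth.Agent.Hensel.map_maximalIdeal_of_isEssentiallyEtale hE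
  haveI := Groth.Agent.Hensel.essFiniteType_of_isEssentiallyEtale hE
  haveI := Groth.Agent.Hensel.formallyEtale_of_isEssentiallyEtale hE
  haveI : Algebra.FormallyUnramified A E := inferInstance
  haveI : Module.Finite (ResidueField A) (ResidueField E) := inferInstance
  haveI : Algebra.IsSeparable (ResidueField A) (ResidueField E) := inferInstance
  letI : Algebra (ResidueField R) (ResidueField E) := ((algebraMap (ResidueField A) (ResidueField E)).comp (algebraMap (ResidueField R) (ResidueField A))).toAlgebra
  haveI : IsScalarTower (ResidueField R) (ResidueField A) (ResidueField E) := .of_algebraMap_eq' rfl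
  have hkA : Function.Surjective (Algebra.linearMap (ResidueField R) (ResidueField A)) := fun y => hres.2 y
  haveI : Module.Finite (ResidueField R) (ResidueField A) := by exact Module.Finite.of_surjective (M := (ResidueField R)) (Algebra.linearMap (ResidueField R) (ResidueField A)) hkA
  haveI : Module.Finite (ResidueField R) (ResidueField E) := Module.Finite.trans (ResidueField A) (ResidueField E)
  haveI : Algebra.IsSeparable (ResidueField R) (ResidueField A) :=
    ⟨fun x => by obtain ⟨y, rfl⟩ := hres.2 x; exact isSeparable_algebraMap y⟩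
  haveI : Algebra.IsSeparable (ResidueField R) (ResidueField E) := Algebra.IsSeparable.trans (ResidueField R) (ResidueField A) (ResidueField E)
  letI : Algebra R (ResidueField E) := ((algebraMap (ResidueField R) (ResidueField E)).comp (algebraMap R (ResidueField R))).toAlgebra
  haveI : IsScalarTower R (ResidueField R) (ResidueField E) := .of_algebraMap_eq' rfl
  haveI : IsScalarTower R A (ResidueField E) := .of_algebraMap_eq fun x => rfl
  obtain ⟨S, _, _, _, σ, hSet, hSfin, -, hσ, hσker, hSmax⟩ := MultType.HenselSep.exists_lift R (ResidueField E)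
  refine ⟨S, inferInstance, inferInstance, inferInstance, hSfin, hSet, ?_⟩
  let τ : A ⊗[R] S →ₐ[A] (ResidueField E) := Algebra.TensorProduct.lift (Algebra.ofId A (ResidueField E)) σ fun _ _ => .all _ _
  have hτ : Function.Surjective τ := fun y => ⟨1 ⊗ₜ Classical.choose (hσ y), by
    simpa [τ] using Classical.choose_spec (hσ y)⟩
  haveI hmax : (RingHom.ker τ).IsMaximal := RingHom.ker_isMaximal_of_surjective τ hτ
  have hker : RingHom.ker τ = (maximalIdeal A).map (algebraMap A (A ⊗[R] S)) := by
    refine le_antisymm (fun z hz => ?_) (Ideal.map_le_iff_le_comap.2 fun a ha => ?_)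
    · let J := (maximalIdeal A).map (algebraMap A (A ⊗[R] S))
      have key : ∀ z : A ⊗[R] S, ∃ s : S, z - 1 ⊗ₜ s ∈ J := by
        intro z
        induction z with
        | zero => exact ⟨0, by simp⟩
        | add x y hx hy =>
          obtain ⟨s, hs⟩ := hx
          obtain ⟨t, ht⟩ := hy
          exact ⟨s + t, by rw [TensorProduct.tmul_add, add_sub_add_comm]; exact J.add_mem hs ht⟩
        | tmul a s =>
          obtain ⟨y, hy⟩ := hres.2 (residue A a)
          obtain ⟨r, rfl⟩ := residue_surjective y
          refine ⟨r • s, ?_⟩
          have : a - algebraMap R A r ∈ maximalIdeal A := by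
            rw [← residue_eq_zero_iff, map_sub, sub_eq_zero]
            exact hy.symm
          rw [TensorProduct.tmul_smul, TensorProduct.smul_tmul', ← TensorProduct.sub_tmul,
            show (a - r • (1 : A)) ⊗ₜ[R] s = algebraMap A _ (a - algebraMap R A r) * (1 ⊗ₜ s) by
              simp [Algebra.smul_def]]
          exact J.mul_mem_right _ (Ideal.mem_map_of_mem _ this)
      obtain ⟨s, hs⟩ := key z
      have hJ : J ≤ RingHom.ker τ := Ideal.map_le_iff_le_comap.2 fun a ha => by
        rw [Ideal.mem_comap, RingHom.mem_ker, AlgHom.commutes, IsScalarTower.algebraMap_apply A (ResidueField A) (ResidueField E)]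
        exact (congrArg _ ((residue_eq_zero_iff a).2 ha)).trans (map_zero _)
      have h1 : σ s = 0 := by
        have := hJ hs
        rw [RingHom.mem_ker, map_sub, (RingHom.mem_ker).1 hz, zero_sub, neg_eq_zero] at this
        simpa [τ] using this
      have h2 : s ∈ maximalIdeal S := hσker ▸ h1
      rw [hSmax] at h2
      refine (Submodule.sub_mem_iff_left J ?_).1 hs
      have h3 : (1 : A) ⊗ₜ[R] s ∈ ((maximalIdeal R).map (algebraMap R S)).map
          (Algebra.TensorProduct.includeRight : S →ₐ[R] A ⊗[R] S).toRingHom := Ideal.mem_map_of_mem _ h2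
      rw [Ideal.map_map, AlgHom.toRingHom_eq_coe, AlgHom.comp_algebraMap, IsScalarTower.algebraMap_eq R A,
        ← Ideal.map_map] at h3
      exact Ideal.map_mono (((local_hom_TFAE _).out 0 2 rfl rfl).mp ‹IsLocalHom (algebraMap R A)›) h3
    · rw [Ideal.mem_comap, RingHom.mem_ker, AlgHom.commutes, IsScalarTower.algebraMap_apply A (ResidueField A) (ResidueField E)]
      exact (congrArg _ ((residue_eq_zero_iff a).2 ha)).trans (map_zero _)
  haveI : IsLocalRing (A ⊗[R] S) := IsLocalRing.of_unique_max_ideal ⟨RingHom.ker τ, hmax, fun M hM => by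
    have hc : (M.comap (algebraMap A (A ⊗[R] S))).IsMaximal := Ideal.isMaximal_comap_of_isIntegral_of_isMaximal M
    refine (hmax.eq_of_le hM.ne_top ?_).symm
    rw [hker, Ideal.map_le_iff_le_comap, IsLocalRing.eq_maximalIdeal hc]⟩
  have hTmax : maximalIdeal (A ⊗[R] S) = RingHom.ker τ := (IsLocalRing.eq_maximalIdeal hmax).symm
  haveI : IsLocalHom (algebraMap A (A ⊗[R] S)) :=
    ((local_hom_TFAE _).out 0 2 rfl rfl).mpr (hTmax ▸ hker ▸ le_rfl)
  haveI : HenselianLocalRing A := Groth.Agent.Hensel.henselianLocalRing_of_henselianRing inferInstance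
  haveI : HenselianLocalRing (A ⊗[R] S) := MultType.HenselSep.henselianLocalRing (R := A) (hTmax.trans hker)
  have hT : EGA4loc.IsEssentiallyEtale A (A ⊗[R] S) := by
    refine ⟨A ⊗[R] S, inferInstance, inferInstance, maximalIdeal _, inferInstance, inferInstance,
      ((local_hom_TFAE _).out 0 4 rfl rfl).mp ‹IsLocalHom (algebraMap A (A ⊗[R] S))›, ⟨?_⟩⟩
    exact (IsLocalization.atUnits (A ⊗[R] S) (maximalIdeal (A ⊗[R] S)).primeCompl fun x hx =>
      notMem_maximalIdeal.1 hx).restrictScalars A
  -- `E` is finite over `A`
  haveI : IsNoetherianRing E := Algebra.EssFiniteType.isNoetherianRing A E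
  haveI : IsHausdorff (maximalIdeal A) E := by
    refine (IsHausdorff.map_algebraMap_iff (R := A) (S := E)).1 ?_
    rw [hmE]
    infer_instance
  haveI : Module.Finite A E := by
    refine Adic.finite_of_finite_quot (maximalIdeal A) ?_
    haveI : Module.Finite A (E ⧸ maximalIdeal E) := by
      have h2 : (algebraMap A (E ⧸ maximalIdeal E)).Finite :=
        RingHom.Finite.comp (g := algebraMap (ResidueField A) (ResidueField E)) (f := residue A)
          (RingHom.finite_algebraMap.2 inferInstance) (RingHom.Finite.of_surjective _ residue_surjective)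
      exact RingHom.finite_algebraMap.1 h2
    haveI : Module.Finite A (E ⧸ (maximalIdeal E).restrictScalars A) :=
      Module.Finite.equiv (Submodule.Quotient.restrictScalarsEquiv A (maximalIdeal E)).symm
    refine Module.Finite.of_surjective (Submodule.liftQ ((maximalIdeal E).restrictScalars A)
      (Submodule.mkQ (maximalIdeal A • (⊤ : Submodule A E))) ?_) ?_
    · rw [Submodule.ker_mkQ, Ideal.smul_top_eq_map, hmE]
    · exact fun y => by
        obtain ⟨x, rfl⟩ := Submodule.mkQ_surjective _ y
        exact ⟨Submodule.Quotient.mk x, rfl⟩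
  haveI : HenselianLocalRing E := MultType.HenselSep.henselianLocalRing (R := A) hmE.symm
  -- compare
  let α : ResidueField (A ⊗[R] S) →+* (ResidueField E) := Ideal.Quotient.lift _ τ.toRingHom fun x hx => by rwa [hTmax] at hx
  have hα : ∀ x, α (residue _ x) = τ x := fun x => rfl
  have hαbij : Function.Bijective α :=
    ⟨α.injective, fun y => by obtain ⟨x, rfl⟩ := hτ y; exact ⟨residue _ x, rfl⟩⟩
  let β := (RingEquiv.ofBijective α hαbij).symm.toRingHom
  have hβ : ∀ y, α (β y) = y := fun y => (RingEquiv.ofBijective α hαbij).apply_symm_apply y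
  obtain ⟨ψ, ⟨-, hψA, hψr⟩, -⟩ := Groth.Agent.Hensel.existsUnique_of_isEssentiallyEtale hE (A ⊗[R] S)
    (algebraMap A _) β (RingHom.ext fun x => by
      obtain ⟨a, rfl⟩ := residue_surjective x
      refine α.injective ((hβ _).trans ?_)
      exact (τ.commutes a).symm)
  obtain ⟨χ, ⟨-, hχA, hχr⟩, -⟩ := Groth.Agent.Hensel.existsUnique_of_isEssentiallyEtale hT E
    (algebraMap A _) α (RingHom.ext fun x => by
      obtain ⟨a, rfl⟩ := residue_surjective x
      exact τ.commutes a)
  let ψ' : E →ₐ[A] A ⊗[R] S := { toRingHom := ψ, commutes' := RingHom.congr_fun hψA }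
  let χ' : A ⊗[R] S →ₐ[A] E := { toRingHom := χ, commutes' := RingHom.congr_fun hχA }
  refine ⟨AlgEquiv.ofAlgHom ψ' χ' ?_ ?_⟩
  · refine Groth.Agent.Hensel.algHom_eq_of_isEssentiallyEtale hT fun b => ?_
    refine α.injective ?_
    show α (residue _ (ψ (χ b))) = α (residue _ b)
    rw [hψr, hβ, hχr]
  · refine Groth.Agent.Hensel.algHom_eq_of_isEssentiallyEtale hE fun b => ?_
    show residue _ (χ (ψ b)) = residue _ b
    rw [hχr, hψr, hβ]

end Groth.Agent.S16444
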