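import Groth.Statements.S16446
import Groth.Agent.S0540
import Groth.Agent.Hens.StageQuotient
-- import your own Groth.Agent.* helpers here

set_option autoImplicit false
universe u
open Hensel

namespace Groth.Agent.S16446

/-- Let A be an excellent henselian reduced local ring, S a strict henselization of A and Q a minimal
prime ideal of S with contraction q to A; let K be the fraction field of S/Q and L the subfield of K
generated over the image of A by a finite subset t of K. Then there is an A-subalgebra E of S, a
local ring and an essentially etale local A-algebra, such that (i) every minimal prime ideal of S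
over the ideal qS is generated by its contraction to E, and (ii) every element of S/Q whose image in
K lies in L is the class of an element of E — so that the intersection of L with S/Q equals its
intersection with the image of E. -/
theorem result
    (A S : Type u) [CommRing A] [HenselianLocalRing A] [IsReduced A] (hA : EGA4.IsExcellent A)
    [CommRing S] [IsLocalRing S] [Algebra A S] [IsLocalHom (algebraMap A S)]
    [Hensel.IsStrictHenselization A S] (Q : Ideal S) (hQ : Q ∈ minimalPrimes S) [Q.IsPrime]
    (t : Finset (FractionRing (S ⧸ Q))) :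
    ∃ E : Subalgebra A S, ∃ _ : IsLocalRing E, EGA4loc.IsEssentiallyEtale A E ∧
      (∀ Q' ∈ ((Q.comap (algebraMap A S)).map (algebraMap A S)).minimalPrimes,
        Q' = Ideal.map (algebraMap E S) (Q'.comap (algebraMap E S))) ∧
      ∀ x : S, algebraMap (S ⧸ Q) (FractionRing (S ⧸ Q)) (Ideal.Quotient.mk Q x) ∈
          Subfield.closure (Set.range (algebraMap A (FractionRing (S ⧸ Q))) ∪
            (t : Set (FractionRing (S ⧸ Q)))) →
        ∃ e ∈ E, Ideal.Quotient.mk Q e = Ideal.Quotient.mk Q x := by
  haveI : IsNoetherianRing A := hA.1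
  haveI : IsNoetherianRing S := (Groth.Agent.S0540.result A S).1 inferInstance
  obtain ⟨B, _, _, _, _, _, _, _, -, θ, hloc, hflat, hinj, hQle, hQ', ht⟩ :=
    Groth.Agent.Hens.exists_stage_minimalPrime (A := A) S Q t
  let e : B ≃ₐ[A] θ.range := AlgEquiv.ofInjective θ hinj
  haveI : IsLocalRing θ.range := e.toRingEquiv.isLocalRing
  refine ⟨θ.range, inferInstance, ?_, fun Q' hq => le_antisymm ?_ ?_, fun x hx => ?_⟩
  · obtain ⟨C, _, _, q, _, het, hq, ⟨eC⟩⟩ := Groth.Agent.Hens.isEssentiallyEtale_of_stage (A := A) B
    exact ⟨C, inferInstance, inferInstance, q, inferInstance, het, hq, ⟨e.symm.trans eC⟩⟩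
  · refine (hQ' Q' hq).trans (Ideal.map_le_iff_le_comap.2 fun b hb => ?_)
    exact Ideal.mem_map_of_mem (algebraMap θ.range S) (show (⟨θ b, b, rfl⟩ : θ.range) ∈ _ from hb)
  · exact Ideal.map_comap_le
  · have hle : Subfield.closure (Set.range (algebraMap A (FractionRing (S ⧸ Q))) ∪
        (t : Set (FractionRing (S ⧸ Q)))) ≤ Subfield.closure (Set.range fun b : B =>
          algebraMap (S ⧸ Q) (FractionRing (S ⧸ Q)) (Ideal.Quotient.mk Q (θ b))) := by
      rw [Subfield.closure_le]
      rintro y (⟨a, rfl⟩ | hy)
      · refine Subfield.subset_closure ⟨algebraMap A B a, ?_⟩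
        show algebraMap (S ⧸ Q) _ (Ideal.Quotient.mk Q (θ (algebraMap A B a))) = _
        rw [θ.commutes, IsScalarTower.algebraMap_apply A (S ⧸ Q) (FractionRing (S ⧸ Q))]
        rfl
      · exact ht y hy
    obtain ⟨b, hb⟩ := Groth.Agent.Hens.exists_mk_eq_of_mem_closure Q θ hloc hflat hQle x (hle hx)
    exact ⟨θ b, ⟨b, rfl⟩, hb⟩

end Groth.Agent.S16446
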