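import Groth.Statements.S16447
import Groth.Agent.Hensel.NormSemilocal

set_option autoImplicit false
universe u
open EGA4loc

namespace Groth.Agent.S16447

/-- Let A be a Noetherian reduced local ring, E a local ring which is an essentially etale local
A-algebra with local structure map, K_E the total ring of fractions of E, E' the integral closure of
E in K_E (viewed as an A-subalgebra of K_E), and L an A-subalgebra of K_E containing an inverse of
the image of every non-zero-divisor of A. Let C be the A-subalgebra L ⊓ E' of K_E. Then C is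
integrally closed in L, C has only finitely many maximal ideals, the maximal ideals of C are exactly
the contractions of the maximal ideals of E', and every element of L is an element of C times the
inverse of the image of a non-zero-divisor of A. (The published statement assumes only that A is
reduced; its proof uses that the integral closure of E in K_E has finitely many maximal ideals,
which holds when A is Noetherian and can fail otherwise, so A is taken Noetherian here.) -/
theorem result
    (A E : Type u) [CommRing A] [IsLocalRing A] [IsReduced A] [IsNoetherianRing A]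
    [CommRing E] [IsLocalRing E] [Algebra A E] [IsLocalHom (algebraMap A E)]
    (hE : EGA4loc.IsEssentiallyEtale A E) (L : Subalgebra A (FractionRing E))
    (hL : ∀ s ∈ nonZeroDivisors A, ∃ y ∈ L, algebraMap A (FractionRing E) s * y = 1)
    (C : Subalgebra A (FractionRing E))
    (hC : C = L ⊓ (integralClosure E (FractionRing E)).restrictScalars A) :
    (∀ x ∈ L, IsIntegral C x → x ∈ C) ∧
      {N : Ideal C | N.IsMaximal}.Finite ∧
      (∀ N : Ideal C, N.IsMaximal ↔ ∃ M : Ideal ((integralClosure E (FractionRing E)).restrictScalars A),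
          M.IsMaximal ∧ N = M.comap (Subalgebra.inclusion (hC.trans_le inf_le_right))) ∧
      ∀ l ∈ L, ∃ c ∈ C, ∃ s ∈ nonZeroDivisors A, ∃ y ∈ L,
        algebraMap A (FractionRing E) s * y = 1 ∧ l = c * y := by
  classical
  have h := Groth.Agent.Hensel.isEtLike_of_isEssentiallyEtale hE
  haveI : IsArtinianRing (FractionRing A) :=
    Groth.Agent.Hensel.isArtinianRing_fractionRing (minimalPrimes.finite_of_isNoetherianRing A)
  have hgf := Groth.Agent.Hensel.finite_genericFibre hE
  haveI : IsReduced E := h.isReduced_iff.1 inferInstance
  haveI : IsNoetherianRing E := by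
    obtain ⟨B, _, _, q, _, hB, -, ⟨e⟩⟩ := hE
    haveI := hB
    haveI : IsNoetherianRing B := Algebra.FiniteType.isNoetherianRing A B
    haveI : IsNoetherianRing (Localization.AtPrime q) := IsLocalization.isNoetherianRing q.primeCompl _ inferInstance
    exact isNoetherianRing_of_ringEquiv _ e.symm.toRingEquiv
  have hWfin : {M : Ideal ((integralClosure E (FractionRing E)).restrictScalars A) | M.IsMaximal}.Finite :=
    Groth.Agent.Hensel.NormSub.finite_maximal_integralClosure E
  have hCW : C ≤ (integralClosure E (FractionRing E)).restrictScalars A := hC.trans_le inf_le_right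
  have hmax : ∀ M : Ideal ((integralClosure E (FractionRing E)).restrictScalars A), M.IsMaximal →
      (M.comap (Subalgebra.inclusion hCW)).IsMaximal := fun M hM => by
    haveI := hM
    exact Groth.Agent.Hensel.NormSub.isMaximal_comap hE (Subalgebra.inclusion hCW) M
  have hall : ∀ N : Ideal C, N.IsMaximal → ∃ M : Ideal ((integralClosure E (FractionRing E)).restrictScalars A),
      M.IsMaximal ∧ N = M.comap (Subalgebra.inclusion hCW) := by
    intro N hN
    let f : hWfin.toFinset → Ideal C := fun M => M.1.comap (Subalgebra.inclusion hCW)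
    by_cases hsub : (N : Set C) ⊆ ⋃ M ∈ ((Finset.univ : Finset hWfin.toFinset) : Set hWfin.toFinset), f M
    · rcases isEmpty_or_nonempty hWfin.toFinset with hemp | ⟨⟨a⟩⟩
      · exact absurd (hsub (show (0 : C) ∈ N from N.zero_mem)) (by simp)
      obtain ⟨M, -, hM⟩ := (Ideal.subset_union_prime a a (fun M _ _ _ => by
        haveI := (hWfin.mem_toFinset.1 M.2).isPrime
        exact Ideal.IsPrime.comap _)).1 hsub
      have hM' := hWfin.mem_toFinset.1 M.2
      exact ⟨M.1, hM', hN.eq_of_le (hmax _ hM').ne_top hM⟩
    · obtain ⟨x, hxN, hx⟩ := Set.not_subset.1 hsub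
      have hu : IsUnit (Subalgebra.inclusion hCW x) := by
        by_contra hnu
        obtain ⟨M, hM, hxM⟩ := exists_max_ideal_of_mem_nonunits hnu
        exact hx (Set.mem_iUnion₂.2 ⟨⟨M, hWfin.mem_toFinset.2 hM⟩, Finset.mem_univ _, hxM⟩)
      obtain ⟨v, hv⟩ := hu.exists_right_inv
      have hxv : (x : FractionRing E) * (v : FractionRing E) = 1 := congrArg Subtype.val hv
      have hvC : (v : FractionRing E) ∈ C := by
        rw [hC]
        exact ⟨Groth.Agent.Hensel.NormSub.inv_mem_of_fractions h hgf L hL (hC.trans_le inf_le_left x.2) hxv, v.2⟩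
      exact absurd (Ideal.eq_top_of_isUnit_mem N hxN
        (IsUnit.of_mul_eq_one ⟨(v : FractionRing E), hvC⟩ (Subtype.ext hxv))) hN.ne_top
  refine ⟨fun x hx hint => ?_, (hWfin.image fun M => M.comap (Subalgebra.inclusion hCW)).subset
    fun N hN => ?_, fun N => ⟨hall N, ?_⟩, fun l hl => ?_⟩
  · rw [hC]
    refine ⟨hx, ?_⟩
    obtain ⟨p, hp, hpx⟩ := hint
    let f : C →+* integralClosure E (FractionRing E) := (Subalgebra.inclusion hCW).toRingHom
    exact isIntegral_trans (A := integralClosure E (FractionRing E)) x
      ⟨p.map f, hp.map _, (Polynomial.eval₂_map _ _ _).trans hpx⟩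
  · obtain ⟨M, hM, rfl⟩ := hall N hN
    exact ⟨M, hM, rfl⟩
  · rintro ⟨M, hM, rfl⟩
    exact hmax M hM
  · obtain ⟨a, ha, e, he⟩ := Groth.Agent.Hensel.NormSub.exists_fraction_top h l
    obtain ⟨y, hy, hay⟩ := hL a ha
    refine ⟨algebraMap A (FractionRing E) a * l, ?_, a, ha, y, hy, hay, ?_⟩
    · rw [hC]
      refine ⟨mul_mem (L.algebraMap_mem a) hl, ?_⟩
      rw [he]
      exact (integralClosure E (FractionRing E)).algebraMap_mem e
    · linear_combination -l * hay

end Groth.Agent.S16447
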