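import Groth.Statements.S16448
import Groth.Agent.Hensel.EssSubFrac

set_option autoImplicit false
universe u
open EGA4loc

namespace Groth.Agent.S16448

/-- Let A be a reduced local ring with finitely many minimal prime ideals and E a local ring which is an
essentially etale local A-algebra with local structure map. Then the total ring of fractions K_E of
E is the localization of E at the images of the non-zero-divisors of A — that is, K_E = E ⊗_A K_A —
and K_E is finite over K_A: for some finite subset t of K_E, every element of K_E multiplied by the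
image of a suitable non-zero-divisor of A lies in the A-span of t. (The published statement is for a
reduced semilocal ring and a semilocal etale extension; this row treats a local ring and a local
etale extension.) -/
theorem result
    (A E : Type u) [CommRing A] [IsLocalRing A] [IsReduced A] (hmin : (minimalPrimes A).Finite)
    [CommRing E] [IsLocalRing E] [Algebra A E] [IsLocalHom (algebraMap A E)]
    (hE : EGA4loc.IsEssentiallyEtale A E) :
    IsLocalization ((nonZeroDivisors A).map (algebraMap A E)) (FractionRing E) ∧
      ∃ t : Finset (FractionRing E), ∀ x : FractionRing E, ∃ a ∈ nonZeroDivisors A,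
        algebraMap A (FractionRing E) a * x ∈ Submodule.span A (t : Set (FractionRing E)) := by
  classical
  have h := Groth.Agent.Hensel.isEtLike_of_isEssentiallyEtale hE
  let e : (⊤ : Subalgebra A E) ≃ₐ[A] E := Subalgebra.topEquiv
  haveI : IsLocalRing (⊤ : Subalgebra A E) := e.symm.toRingEquiv.isLocalRing
  have hEtop : EGA4loc.IsEssentiallyEtale A (⊤ : Subalgebra A E) := by
    obtain ⟨C, _, _, q, _, hC, hq, ⟨e'⟩⟩ := hE
    exact ⟨C, inferInstance, inferInstance, q, inferInstance, hC, hq, ⟨e.trans e'⟩⟩
  constructor
  · refine ⟨⟨fun y => ?_, fun z => ?_, fun {x y} hxy => ⟨1, by rw [IsFractionRing.injective E (FractionRing E) hxy]⟩⟩⟩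
    · obtain ⟨a, ha, hy⟩ := y.2
      exact IsLocalization.map_units (FractionRing E)
        (⟨y, hy ▸ h.algebraMap_mem_nonZeroDivisors ha⟩ : nonZeroDivisors E)
    · obtain ⟨⟨d, ⟨n, hn⟩⟩, hz⟩ := IsLocalization.surj (nonZeroDivisors E) z
      obtain ⟨a, ha, n', hn'⟩ := h.exists_mul_eq_algebraMap hmin ⊤ (d := e.symm n)
        (mem_nonZeroDivisors_iff_right.2 fun x hx => e.injective (by
          rw [map_zero]
          refine (mem_nonZeroDivisors_iff_right.1 hn) _ ?_
          rw [← e.apply_symm_apply n, ← map_mul, hx, map_zero]))
      have hn'' : n * (n' : E) = algebraMap A E a := congrArg Subtype.val hn'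
      refine ⟨⟨d * (n' : E), ⟨_, a, ha, rfl⟩⟩, ?_⟩
      show z * algebraMap E (FractionRing E) (algebraMap A E a) = algebraMap E (FractionRing E) (d * (n' : E))
      rw [← hn'', map_mul, ← mul_assoc, hz, map_mul]
  · obtain ⟨t, ht⟩ := h.exists_finset_span_of_le hmin (le_refl (⊤ : Subalgebra A E)) hEtop
    let φ : FractionRing (⊤ : Subalgebra A E) ≃ₐ[A] FractionRing E :=
      IsFractionRing.algEquivOfAlgEquiv e
    refine ⟨t.image φ, fun x => ?_⟩
    obtain ⟨a, ha, hx⟩ := ht (φ.symm x)
    refine ⟨a, ha, ?_⟩
    have h1 := Submodule.mem_map_of_mem (f := φ.toLinearMap) hx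
    rw [Submodule.map_span] at h1
    rw [Finset.coe_image]
    show algebraMap A (FractionRing E) a * x ∈ _
    have h2 : φ (algebraMap A (FractionRing (⊤ : Subalgebra A E)) a * φ.symm x) =
        algebraMap A (FractionRing E) a * x := by rw [map_mul, φ.commutes, φ.apply_symm_apply]
    rw [← h2]
    exact h1

end Groth.Agent.S16448
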