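import Groth.Statements.S16450
import Groth.Agent.Hensel.NormResidueFinal
import Groth.Agent.RedNorm.Nagata
import Groth.Agent.S2654

set_option autoImplicit false
universe u
open scoped TensorProduct
open EGA4loc

namespace Groth.Agent.S16450

open IsLocalRing in
/-- Let A be an excellent reduced local ring with maximal ideal m and residue field k, S a strict
henselization of A with total ring of fractions K, and D an A-subalgebra of S which is a local ring
dominated by S (local inclusion) and whose total ring of fractions is finitely generated over that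
of A. Inside K, let A' and D' be the normalizations of A and of D: the elements of K integral over A
(resp. over D) which are carried into A (resp. into D) by the image of some non-zero-divisor of A;
so A' ⊆ D', and let ι : D → D' be the inclusion. Then D is an essentially etale local A-algebra if
and only if D' has finitely many maximal ideals and the canonical map A' ⊗_A D → D'/Rad(D') is
surjective with kernel the ideal generated by Rad(A') ⊗ D and A' ⊗ m_D — in other words the residual
field products satisfy (A'/Rad A') ⊗_k (D/m_D) ≅ D'/Rad(D') via the canonical maps. -/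
theorem result
    (A S : Type u) [CommRing A] [IsLocalRing A] [IsReduced A] (hA : EGA4.IsExcellent A)
    [CommRing S] [IsLocalRing S] [Algebra A S] [IsLocalHom (algebraMap A S)]
    [Hensel.IsStrictHenselization A S] (D : Subalgebra A S) [IsLocalRing D]
    [IsLocalHom (algebraMap D S)]
    (hfg : ∃ t : Finset (FractionRing D), ∀ x : FractionRing D, ∃ a ∈ nonZeroDivisors A,
      algebraMap A (FractionRing D) a * x ∈ Algebra.adjoin A (t : Set (FractionRing D)))
    (A' D' : Subalgebra A (FractionRing S))
    (hA' : ∀ x : (FractionRing S), x ∈ A' ↔ (IsIntegral A x ∧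
      ∃ a ∈ nonZeroDivisors A, ∃ b : A, algebraMap A (FractionRing S) a * x = algebraMap A (FractionRing S) b))
    (hD' : ∀ x : (FractionRing S), x ∈ D' ↔ (IsIntegral D x ∧
      ∃ a ∈ nonZeroDivisors A, ∃ d ∈ D, algebraMap A (FractionRing S) a * x = algebraMap S (FractionRing S) d))
    (hle : A' ≤ D') (ι : D →ₐ[A] D') (hι : ∀ d : D, (ι d : (FractionRing S)) = algebraMap S (FractionRing S) d) :
    EGA4loc.IsEssentiallyEtale A D ↔
      ({N : Ideal D' | N.IsMaximal}.Finite ∧
        Function.Surjective ((Ideal.Quotient.mkₐ A (Ideal.jacobson (⊥ : Ideal D'))).comp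
          (Algebra.TensorProduct.productMap (Subalgebra.inclusion hle) ι)) ∧
        RingHom.ker ((Ideal.Quotient.mkₐ A (Ideal.jacobson (⊥ : Ideal D'))).comp
          (Algebra.TensorProduct.productMap (Subalgebra.inclusion hle) ι)) =
          (Ideal.jacobson (⊥ : Ideal A')).map
              (Algebra.TensorProduct.includeLeft : A' →ₐ[A] A' ⊗[A] D) ⊔
            (maximalIdeal D).map
              (Algebra.TensorProduct.includeRight : D →ₐ[A] A' ⊗[A] D)) := by
  haveI := hA.1
  haveI : HenselianLocalRing S := Hensel.IsStrictHenselization.henselian (R := A)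
  haveI : Algebra.IsSeparable (IsLocalRing.ResidueField A) (IsLocalRing.ResidueField S) :=
    (Hensel.IsStrictHenselization.isSepClosure (R := A) (S := S)).separable
  have h := Groth.Agent.Hensel.isEtLike_of_isStrictHenselization A S
  have hA'' := Groth.Agent.RedNorm.finite_integralClosure_of_isNagata A (Groth.Agent.S2654.result A ⟨hA.1, hA.2.2⟩)
  constructor
  · intro hD
    have hDsub : Groth.Agent.Hensel.IsEssSub D := ⟨inferInstance, inferInstance, hD⟩
    haveI := h.flat_of_isEssSub hDsub
    exact Groth.Agent.Hensel.NormRes.statement_of_stages h D A' D' hA' hD' hle ι hι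
      fun s hs => ⟨D, hDsub, hs, fun e he => ⟨e, he, by rw [sub_self]; exact zero_mem _⟩⟩
  · rintro ⟨-, hs, -⟩
    obtain ⟨w, hw, -⟩ := Hensel.IsHenselization.universal (R := D) (S := Groth.Agent.Hens.Henselization D) S
      (algebraMap D S) inferInstance
    letI : Algebra (Groth.Agent.Hens.Henselization D) S := w.toAlgebra
    haveI : IsScalarTower D (Groth.Agent.Hens.Henselization D) S :=
      IsScalarTower.of_algebraMap_eq fun d => (RingHom.congr_fun hw d).symm
    obtain ⟨hinj, hst⟩ := Groth.Agent.Hensel.NormRes.henselization_of_residue h D (Groth.Agent.Hens.Henselization D) hA''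
      (Groth.Agent.Hensel.NormRes.residue_of_surjective h D A' D' hA' hD' hle ι hι hs)
    obtain ⟨hff, -⟩ := Groth.Agent.Hensel.NormRes.stages_of_henselization h D (Groth.Agent.Hens.Henselization D)
      hinj hst
    haveI := hff
    haveI : IsNoetherianRing S := h.isNoetherianRing_of_base
    haveI : IsNoetherianRing D := Groth.Agent.Hensel.NormRes.isNoetherianRing_of_faithfullyFlat D S
    have hm := Groth.Agent.Hensel.NormRes.map_maximalIdeal_eq h D
    haveI := h.essFiniteType_of_isNoetherianRing D hfg hm
    exact h.isEssentiallyEtale_of_essFiniteType D hm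

end Groth.Agent.S16450
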