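import Groth.Statements.S16451
import Groth.Agent.Hensel.NormResidueFinal
import Groth.Agent.RedNorm.Nagata
import Groth.Agent.S2654

set_option autoImplicit false
universe u
open scoped TensorProduct
open EGA4loc

namespace Groth.Agent.S16451

open IsLocalRing in
/-- Let A be an excellent reduced local ring with maximal ideal m and residue field k, S a strict
henselization of A with total ring of fractions K, and D an A-subalgebra of S which is a local ring
dominated by S (local inclusion); let D^h be a henselization of D and θ : D^h → S the D-algebra map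
to S (the unique one, S being henselian). Inside K, let A' and D' be the normalizations of A and of
D — the elements of K integral over A (resp. over D) and carried into A (resp. into D) by the image
of some non-zero-divisor of A — so A' ⊆ D', and let ι : D → D' be the inclusion. Then θ is injective
and its image is a directed union of A-subalgebras of S which are local rings and essentially etale
local A-algebras (that is, D^h is a direct limit of local etale extensions of A) if and only if D'
has finitely many maximal ideals and the canonical map A' ⊗_A D → D'/Rad(D') is surjective with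
kernel the ideal generated by Rad(A') ⊗ D and A' ⊗ m_D (the residual field products satisfy (A'/Rad
A') ⊗_k (D/m_D) ≅ D'/Rad(D')). -/
theorem result
    (A S : Type u) [CommRing A] [IsLocalRing A] [IsReduced A] (hA : EGA4.IsExcellent A)
    [CommRing S] [IsLocalRing S] [Algebra A S] [IsLocalHom (algebraMap A S)]
    [Hensel.IsStrictHenselization A S] (D : Subalgebra A S) [IsLocalRing D]
    [IsLocalHom (algebraMap D S)]
    (Dh : Type u) [CommRing Dh] [IsLocalRing Dh] [Algebra D Dh] [IsLocalHom (algebraMap D Dh)]
    [Hensel.IsHenselization D Dh] [Algebra Dh S] [IsScalarTower D Dh S]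
    (A' D' : Subalgebra A (FractionRing S))
    (hA' : ∀ x : (FractionRing S), x ∈ A' ↔ (IsIntegral A x ∧
      ∃ a ∈ nonZeroDivisors A, ∃ b : A, algebraMap A (FractionRing S) a * x = algebraMap A (FractionRing S) b))
    (hD' : ∀ x : (FractionRing S), x ∈ D' ↔ (IsIntegral D x ∧
      ∃ a ∈ nonZeroDivisors A, ∃ d ∈ D, algebraMap A (FractionRing S) a * x = algebraMap S (FractionRing S) d))
    (hle : A' ≤ D') (ι : D →ₐ[A] D') (hι : ∀ d : D, (ι d : (FractionRing S)) = algebraMap S (FractionRing S) d) :
    (Function.Injective (algebraMap Dh S) ∧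
        ∀ s : Finset S, (s : Set S) ⊆ Set.range (algebraMap Dh S) →
          ∃ E : Subalgebra A S, (s : Set S) ⊆ (E : Set S) ∧ (E : Set S) ⊆ Set.range (algebraMap Dh S) ∧
            ∃ _ : IsLocalRing E, EGA4loc.IsEssentiallyEtale A E) ↔
      ({N : Ideal D' | N.IsMaximal}.Finite ∧
        Function.Surjective ((Ideal.Quotient.mkₐ A (Ideal.jacobson (⊥ : Ideal D'))).comp
          (Algebra.TensorProduct.productMap (Subalgebra.inclusion hle) ι)) ∧
        RingHom.ker ((Ideal.Quotient.mkₐ A (Ideal.jacobson (⊥ : Ideal D'))).comp
          (Algebra.TensorProduct.productMap (Subalgebra.inclusion hle) ι)) =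
          (Ideal.jacobson (⊥ : Ideal A')).map
              (Algebra.TensorProduct.includeLeft : A' →ₐ[A] A' ⊗[A] D) ⊔
            (maximalIdeal D).map
              (Algebra.TensorProduct.includeRight : D →ₐ[A] A' ⊗[A] D)) := by
  haveI := hA.1
  haveI : HenselianLocalRing S := Hensel.IsStrictHenselization.henselian (R := A)
  haveI : Algebra.IsSeparable (IsLocalRing.ResidueField A) (IsLocalRing.ResidueField S) :=
    (Hensel.IsStrictHenselization.isSepClosure (R := A) (S := S)).separable
  have h := Groth.Agent.Hensel.isEtLike_of_isStrictHenselization A S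
  have hA'' := Groth.Agent.RedNorm.finite_integralClosure_of_isNagata A (Groth.Agent.S2654.result A ⟨hA.1, hA.2.2⟩)
  constructor
  · rintro ⟨hinj, hst⟩
    obtain ⟨hff, hrepr⟩ := Groth.Agent.Hensel.NormRes.stages_of_henselization h D Dh hinj fun s hs => by
      obtain ⟨E, hsE, hEr, hloc, hE⟩ := hst s hs
      haveI := hloc
      exact ⟨E, ⟨hloc, Groth.Agent.Hensel.isLocalHom_algHom_of_isEssentiallyEtale hE E.val, hE⟩, hsE, hEr⟩
    haveI := hff
    exact Groth.Agent.Hensel.NormRes.statement_of_stages h D A' D' hA' hD' hle ι hι hrepr
  · rintro ⟨-, hs, -⟩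
    obtain ⟨hinj, hst⟩ := Groth.Agent.Hensel.NormRes.henselization_of_residue h D Dh hA''
      (Groth.Agent.Hensel.NormRes.residue_of_surjective h D A' D' hA' hD' hle ι hι hs)
    refine ⟨hinj, fun s hs => ?_⟩
    obtain ⟨E, hE, hsE, hEr⟩ := hst s hs
    exact ⟨E, hsE, hEr, hE.isLocalRing, hE.essEtale⟩

end Groth.Agent.S16451
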