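import Groth.Statements.S16452
import Mathlib
import Groth.Agent.AdicGrLib.Ring

set_option autoImplicit false
universe u
open CAlg

namespace Groth.Agent.S16452

theorem levels {R : Type u} [CommRing R] {S : Type u} [CommRing S] [Algebra R S]
    [Algebra.FormallyEtale R S] (J : Ideal S) (hJ : Function.Surjective (algebraMap R (S ⧸ J))) (n : ℕ) :
    ∃ g : S →ₐ[R] R ⧸ (J.comap (algebraMap R S)) ^ (n + 1),
      (∀ y ∈ J ^ (n + 1), g y = 0) ∧
      (∀ k, ∀ y ∈ J ^ k, g y ∈ ((J.comap (algebraMap R S)) ^ k).map (Ideal.Quotient.mk _)) ∧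
      (∀ y : S, ∀ a : R, Ideal.Quotient.mk _ a = g y → y - algebraMap R S a ∈ J ^ (n + 1)) := by
  let I := J.comap (algebraMap R S)
  let ψ : (R ⧸ I) →ₐ[R] S ⧸ J := Ideal.Quotient.liftₐ I (Algebra.ofId R (S ⧸ J)) fun a ha => by
    change algebraMap R (S ⧸ J) a = 0
    rw [← Ideal.Quotient.mk_algebraMap, Ideal.Quotient.eq_zero_iff_mem]
    exact ha
  have hψ : Function.Bijective ψ := by
    refine ⟨?_, fun y => ?_⟩
    · rw [injective_iff_map_eq_zero]
      intro x hx
      obtain ⟨a, rfl⟩ := Ideal.Quotient.mk_surjective x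
      change algebraMap R (S ⧸ J) a = 0 at hx
      rw [← Ideal.Quotient.mk_algebraMap, Ideal.Quotient.eq_zero_iff_mem] at hx
      exact Ideal.Quotient.eq_zero_iff_mem.mpr hx
    · obtain ⟨a, ha⟩ := hJ y
      exact ⟨Ideal.Quotient.mk I a, ha⟩
  let q : (R ⧸ I ^ (n + 1)) →ₐ[R] R ⧸ I := Ideal.Quotient.factorₐ R (Ideal.pow_le_self (Nat.succ_ne_zero n))
  have hq : Function.Surjective q := Ideal.Quotient.factor_surjective (Ideal.pow_le_self (Nat.succ_ne_zero n))
  have hker : RingHom.ker (q : R ⧸ I ^ (n + 1) →+* R ⧸ I) = I.map (Ideal.Quotient.mk (I ^ (n + 1))) :=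
    Ideal.Quotient.factor_ker (Ideal.pow_le_self (Nat.succ_ne_zero n))
  have hnil : IsNilpotent (RingHom.ker (q : R ⧸ I ^ (n + 1) →+* R ⧸ I)) := by
    refine ⟨n + 1, ?_⟩
    rw [hker, ← Ideal.map_pow, Ideal.map_quotient_self]
    rfl
  let f : S →ₐ[R] R ⧸ I := (AlgEquiv.ofBijective ψ hψ).symm.toAlgHom.comp (Ideal.Quotient.mkₐ R J)
  let g := Algebra.FormallySmooth.liftOfSurjective f q hq hnil
  have hg : ∀ y, q (g y) = f y := fun y => AlgHom.congr_fun
    (Algebra.FormallySmooth.comp_liftOfSurjective f q hq hnil) y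
  have hgJ : ∀ y ∈ J, g y ∈ I.map (Ideal.Quotient.mk (I ^ (n + 1))) := by
    intro y hy
    rw [← hker, RingHom.mem_ker]
    change q (g y) = 0
    rw [hg]
    change (AlgEquiv.ofBijective ψ hψ).symm (Ideal.Quotient.mk J y) = 0
    rw [Ideal.Quotient.eq_zero_iff_mem.mpr hy, map_zero]
  have hpow : ∀ k, ∀ y ∈ J ^ k, g y ∈ (I ^ k).map (Ideal.Quotient.mk (I ^ (n + 1))) := by
    intro k y hy
    rw [Ideal.map_pow]
    refine (?_ : (J ^ k).map g ≤ _) (Ideal.mem_map_of_mem _ hy)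
    rw [Ideal.map_pow]
    exact Ideal.pow_right_mono (Ideal.map_le_iff_le_comap.mpr hgJ) k
  have hzero : ∀ y ∈ J ^ (n + 1), g y = 0 := fun y hy => by
    have := hpow (n + 1) y hy
    rwa [Ideal.map_quotient_self, Ideal.mem_bot] at this
  refine ⟨g, hzero, hpow, fun y a ha => ?_⟩
  let r : (R ⧸ I ^ (n + 1)) →ₐ[R] S ⧸ J ^ (n + 1) :=
    Ideal.Quotient.liftₐ _ (Algebra.ofId R (S ⧸ J ^ (n + 1))) fun a ha => by
      change algebraMap R (S ⧸ J ^ (n + 1)) a = 0
      rw [← Ideal.Quotient.mk_algebraMap, Ideal.Quotient.eq_zero_iff_mem]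
      exact Ideal.pow_right_mono (Ideal.map_comap_le (f := algebraMap R S) (K := J)) (n + 1)
        (by rw [← Ideal.map_pow]; exact Ideal.mem_map_of_mem _ ha)
  have hnil' : IsNilpotent (J.map (Ideal.Quotient.mk (J ^ (n + 1)))) := by
    refine ⟨n + 1, ?_⟩
    rw [← Ideal.map_pow, Ideal.map_quotient_self]
    rfl
  have key : r.comp g = Ideal.Quotient.mkₐ R (J ^ (n + 1)) := by
    refine Algebra.FormallyUnramified.ext (I := J.map (Ideal.Quotient.mk (J ^ (n + 1)))) hnil' fun z => ?_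
    obtain ⟨b, hb⟩ := Ideal.Quotient.mk_surjective (g z)
    have h1 : f z = Ideal.Quotient.mk I b := by rw [← hg, ← hb]; rfl
    have h2 : Ideal.Quotient.mk J z = algebraMap R (S ⧸ J) b := by
      have := congrArg (AlgEquiv.ofBijective ψ hψ) h1
      change (AlgEquiv.ofBijective ψ hψ) ((AlgEquiv.ofBijective ψ hψ).symm (Ideal.Quotient.mk J z)) = _ at this
      rw [AlgEquiv.apply_symm_apply] at this
      exact this
    rw [Ideal.Quotient.eq, AlgHom.comp_apply, ← hb]
    change Ideal.Quotient.mk _ (algebraMap R S b) - Ideal.Quotient.mk _ z ∈ _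
    rw [← map_sub]
    refine Ideal.mem_map_of_mem _ ?_
    rw [← Ideal.Quotient.mk_eq_mk_iff_sub_mem, Ideal.Quotient.mk_algebraMap]
    exact h2.symm
  have := AlgHom.congr_fun key y
  rw [AlgHom.comp_apply, ← ha] at this
  rw [← Ideal.Quotient.mk_eq_mk_iff_sub_mem]
  exact this.symm

/-- Let R → S be formally étale and J an ideal of S such that the composite R → S → S/J is surjective;
let I ⊆ R be its kernel, the preimage of J in R. Then the homomorphism of associated graded rings ⊕ₙ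
Iⁿ/Iⁿ⁺¹ → ⊕ₙ Jⁿ/Jⁿ⁺¹ induced by R → S (which carries I into J) is bijective. -/
theorem result (R : Type u) [CommRing R] (S : Type u)
    [CommRing S] [Algebra R S] [Algebra.FormallyEtale R S] (J : Ideal S)
    (hJ : Function.Surjective (algebraMap R (S ⧸ J))) :
    Function.Bijective (AssocGr.map (AssocGr.IsFiltHom.adic
      (Ideal.map_comap_le : (J.comap (algebraMap R S)).map (algebraMap R S) ≤ J))) := by
  refine ⟨AdicGrLib.map_injective _ ?_, (AdicGrLib.map_surjective_iff _).mpr ?_⟩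
  · intro n a ha hφ
    obtain ⟨g, h0, -, -⟩ := levels J hJ n
    have := h0 _ hφ
    rw [AlgHom.commutes] at this
    exact Ideal.Quotient.eq_zero_iff_mem.mp this
  · intro n b hb
    obtain ⟨g, -, h1, h2⟩ := levels J hJ n
    obtain ⟨a, ha, hab⟩ := (Ideal.mem_map_iff_of_surjective _ Ideal.Quotient.mk_surjective).mp (h1 n b hb)
    exact ⟨a, ha, h2 b a hab⟩

end Groth.Agent.S16452
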