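import Groth.Prelude.Def_GrMap2
import Groth.Agent.AdicGrLib.Complete

set_option autoImplicit false
universe u
namespace AdicGr
end AdicGr
open AdicGr

namespace Groth.Agent.S16453

/-- Let A be a commutative ring, I an ideal and Â the I-adic completion, filtered by the kernels Âₙ of
the projections Â → A/Iⁿ. Then the homomorphism of associated graded rings ⊕ₙ Iⁿ/Iⁿ⁺¹ → ⊕ₙ Âₙ/Âₙ₊₁
induced by the canonical map A → Â is bijective. No hypothesis on A or I is needed. (The published
statement is for an arbitrary filtered ring and also asserts the analogous isomorphism for a
compatibly filtered module; this row is the ring assertion for the filtration by the powers of one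
ideal.) -/
theorem result (A : Type u) [CommRing A] (I : Ideal A) :
    Function.Bijective (AssocGr.map (AssocGr.isFiltHom_kerFilt I)) := by
  exact Groth.Agent.AdicGrLib.kerFilt_map_bijective I

end Groth.Agent.S16453
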