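import Groth.Statements.S16454
import Groth.Agent.S6000
import Mathlib.LinearAlgebra.TensorProduct.RightExactness
import Mathlib.LinearAlgebra.TensorProduct.Finiteness

set_option autoImplicit false
universe u
open TensorProduct
open EGA43

namespace Groth.Agent.S16454

/-- Let A be a commutative ring, I a nilpotent ideal of A and M an A-module, and form the associated
graded ring G = ⊕ₙ Iⁿ/Iⁿ⁺¹ and the associated graded G-module gr_I(M) = ⊕ₙ IⁿM/Iⁿ⁺¹M. Assume that
M/IM is flat over A/I and that the canonical homomorphism (M/IM) ⊗ G → gr_I(M), [x] ⊗ [a] ↦ [a·x],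
is injective: degree by degree, whenever elements a_i ∈ Iⁿ and x_i ∈ M satisfy Σ_i [a_i]·[x_i] = 0
in gr_I(M) (that is Σ a_i x_i ∈ Iⁿ⁺¹M), the element Σ_i [a_i] ⊗ [x_i] of (Iⁿ/Iⁿ⁺¹) ⊗ (M/IM) is zero.
Then M is a flat A-module. (The published lemma is stated for any finite decreasing multiplicative
filtration A = J₀ ⊇ J₁ ⊇ … ⊇ J_N₊₁ = 0 of A with M filtered by the submodules JₙM; this row is its
case Jₙ = Iⁿ.) -/
theorem result (A : Type u) [CommRing A] (I : Ideal A)
    (hI : IsNilpotent I) (M : Type u) [AddCommGroup M] [Module A M]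
    (hflat : Module.Flat (A ⧸ I) (M ⧸ (I • (⊤ : Submodule A M))))
    (hinj : ∀ (n k : ℕ) (a : Fin k → ↥((FiltBl.IdealFiltration.adic I).F n))
      (x : Fin k → ↥((Rees.powFilt I M).N 0)),
      (∑ i, (AssocGr.inDeg (FiltBl.IdealFiltration.adic I) n (a i) :
          AssocGr.GrRing (FiltBl.IdealFiltration.adic I)) •
        (AssocGr.inDegM (Rees.powFilt I M) 0 (x i) : AssocGr.GrMod (Rees.powFilt I M))) = 0 →
      (∑ i, (AssocGr.inDeg (FiltBl.IdealFiltration.adic I) n (a i)) ⊗ₜ[A]
          (Submodule.Quotient.mk (x i : M)) :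
        ↥(AssocGr.gr (FiltBl.IdealFiltration.adic I) n) ⊗[A] (M ⧸ (I • (⊤ : Submodule A M)))) = 0) :
    Module.Flat A M := by
  classical
  rw [S6000.result A I hI M]
  refine ⟨Module.Flat.of_linearEquiv (M := M ⧸ I • (⊤ : Submodule A M))
    ((TensorProduct.quotTensorEquivQuotSMul M I).extendScalarsOfSurjective Ideal.Quotient.mk_surjective), ?_⟩
  let 𝓕 := FiltBl.IdealFiltration.adic I
  let F := Rees.powFilt I M
  obtain ⟨N, hN⟩ := hI
  have key : ∀ (j n : ℕ), N ≤ n + j → ∀ t : ↥(I ^ n) ⊗[A] M,
      LinearMap.rTensor M (Submodule.subtype (I ^ n)) t = 0 → t = 0 := by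
    intro j
    induction j with
    | zero =>
      intro n hn t ht
      clear ht
      haveI : Subsingleton ↥(I ^ n) := by
        refine Submodule.subsingleton_iff_eq_bot.mpr (eq_bot_iff.mpr ?_)
        rw [← Ideal.zero_eq_bot, ← hN]
        exact Ideal.pow_le_pow_right (by omega)
      induction t with
      | zero => rfl
      | tmul a m => rw [Subsingleton.elim a 0, TensorProduct.zero_tmul]
      | add a b ha hb => rw [ha, hb, add_zero]
    | succ j ih =>
      intro n hn t ht
      obtain ⟨S, rfl⟩ := TensorProduct.exists_finset t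
      let e := S.equivFin.symm
      let a : Fin S.card → ↥(𝓕.F n) := fun i => (e i).1.1
      let x : Fin S.card → ↥(F.N 0) := fun i => ⟨(e i).1.2, by simp [F, Rees.powFilt]⟩
      have hsum : ∀ {X : Type u} [AddCommMonoid X] (f : ↥(I ^ n) × M → X),
          ∑ i, f (e i).1 = ∑ p ∈ S, f p := fun f => by
        rw [← Finset.sum_coe_sort S]
        exact Fintype.sum_equiv e _ _ fun i => rfl
      have h0 : ∑ i, (a i : A) • (x i : M) = 0 := by
        have h1 := congrArg (TensorProduct.lid A M) ht
        simp only [map_sum, LinearMap.rTensor_tmul, TensorProduct.lid_tmul, map_zero] at h1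
        exact (hsum fun p => (p.1 : A) • p.2).trans h1
      have hrel : (∑ i, (AssocGr.inDeg 𝓕 n (a i) : AssocGr.GrRing 𝓕) •
          (AssocGr.inDegM F 0 (x i) : AssocGr.GrMod F)) = 0 := by
        simp only [AssocGr.coe_inDeg, AssocGr.coe_inDegM, 𝓕, AssocGr.mkG_smul_mkGM]
        rw [← map_sum, AssocGr.mkGM_eq_zero_iff, AssocGr.mem_succMod_iff]
        intro m
        rw [← AssocGr.ReesM.coeffHom_apply, map_sum]
        simp only [AssocGr.ReesM.coeffHom_apply, AssocGr.ReesM.coeff_smul, AssocGr.ReesM.coeff_monomM,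
          AssocGr.coe_coe_monom, Polynomial.coeff_monomial, smul_ite, smul_zero]
        rw [Finset.sum_congr rfl (fun i _ => show _ = if m = n then (a i : A) • (x i : M) else 0 from ?_)]
        · split_ifs with hm
          · rw [h0]; exact zero_mem _
          · rw [Finset.sum_const_zero]; exact zero_mem _
        · split_ifs with hm
          · subst hm
            rw [Finset.sum_eq_single (m, 0)]
            · simp
            · rintro ⟨p, q⟩ hpq hne
              rw [Finset.HasAntidiagonal.mem_antidiagonal] at hpq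
              refine if_neg fun hq => hne ?_
              simp only at hq hpq
              subst hq
              exact Prod.ext (by omega) rfl
            · intro h; exact absurd (Finset.HasAntidiagonal.mem_antidiagonal.mpr (by simp)) h
          · refine Finset.sum_eq_zero fun p hp => ?_
            rw [Finset.HasAntidiagonal.mem_antidiagonal] at hp
            split_ifs with h1 h2
            · omega
            · rw [zero_smul]
            all_goals simp
      have hz := hinj n _ a x hrel
      let d : ↥(I ^ n) →ₗ[A] ↥(AssocGr.gr 𝓕 n) := AssocGr.inDeg 𝓕 n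
      have hker : ∀ (g : ↥(AssocGr.gr 𝓕 n)) (r : A), r ∈ I → r • g = 0 := fun g r hr => by
        obtain ⟨b, rfl⟩ := AssocGr.inDeg_surjective 𝓕 n g
        rw [← map_smul, AssocGr.inDeg_eq_zero_iff]
        show r * (b : A) ∈ I ^ (n + 1)
        rw [pow_succ']
        exact Ideal.mul_mem_mul hr b.2
      have hq : d.rTensor M (∑ p ∈ S, p.1 ⊗ₜ[A] p.2) = 0 := by
        have hexact := lTensor_exact ↥(AssocGr.gr 𝓕 n)
          (LinearMap.exact_subtype_mkQ (I • (⊤ : Submodule A M))) (Submodule.mkQ_surjective _)
        have hz' : (Submodule.mkQ (I • (⊤ : Submodule A M))).lTensor _ (d.rTensor M (∑ p ∈ S, p.1 ⊗ₜ[A] p.2)) = 0 := by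
          simp only [map_sum, LinearMap.rTensor_tmul, LinearMap.lTensor_tmul]
          exact (hsum fun p => (d p.1) ⊗ₜ[A] Submodule.mkQ (I • (⊤ : Submodule A M)) p.2).symm.trans hz
        obtain ⟨w, hw⟩ := (hexact _).mp hz'
        rw [← hw]
        clear hw
        induction w with
        | zero => simp
        | add u v hu hv => rw [map_add, hu, hv, add_zero]
        | tmul g m =>
          rw [LinearMap.lTensor_tmul]
          obtain ⟨m, hm⟩ := m
          show g ⊗ₜ[A] m = 0
          refine Submodule.smul_induction_on hm (fun r hr m _ => ?_) fun u v hu hv => ?_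
          · rw [← TensorProduct.smul_tmul, hker g r hr, TensorProduct.zero_tmul]
          · rw [TensorProduct.tmul_add, hu, hv, add_zero]
      let ι : ↥(I ^ (n + 1)) →ₗ[A] ↥(I ^ n) := Submodule.inclusion (Ideal.pow_le_pow_right n.le_succ)
      have hex2 : Function.Exact ι d := fun b => by
        constructor
        · intro hb
          exact ⟨⟨b, (AssocGr.inDeg_eq_zero_iff 𝓕 n b).mp hb⟩, rfl⟩
        · rintro ⟨c, rfl⟩
          exact (AssocGr.inDeg_eq_zero_iff 𝓕 n _).mpr c.2
      obtain ⟨w, hw⟩ := (rTensor_exact M hex2 (AssocGr.inDeg_surjective 𝓕 n) _).mp hq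
      have hw0 : w = 0 := ih (n + 1) (by omega) w (by
        rw [← ht, ← hw, ← LinearMap.rTensor_comp_apply]
        rfl)
      rw [← hw, hw0, map_zero]
  intro t t' htt'
  rw [← sub_eq_zero]
  let e1 : ↥I ≃ₗ[A] ↥(I ^ 1) := LinearEquiv.ofEq I (I ^ 1) (pow_one I).symm
  refine (LinearEquiv.rTensor M e1).injective ((key N 1 (by omega) _ ?_).trans (map_zero _).symm)
  show LinearMap.rTensor M _ (LinearMap.rTensor M e1.toLinearMap (t - t')) = 0
  rw [← LinearMap.rTensor_comp_apply, map_sub]
  exact sub_eq_zero.mpr htt'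

end Groth.Agent.S16454
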