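import Groth.Statements.S16455


set_option autoImplicit false
universe u
open EGA4

namespace Groth.Agent.S16455

abbrev Piece {A : Type u} [CommRing A] (I : Ideal A) (M : Type u) [AddCommGroup M] [Module A M] (n : ℕ) :=
  ↥(I ^ n • (⊤ : Submodule A M)) ⧸ (I • (⊤ : Submodule A ↥(I ^ n • (⊤ : Submodule A M))))

/-- For a commutative ring A, an ideal I of A and an A-module M, the following are equivalent: every
quotient IⁿM/Iⁿ⁺¹M (n ≥ 0) is a flat A/I-module; the associated graded module gr_I(M) = ⊕ₙ
IⁿM/Iⁿ⁺¹M, as one module over A/I, is flat. Either condition says that M is normally flat along I.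
(The source defines normal flatness for a coherent module on a locally Noetherian scheme through the
second condition and notes it amounts to the first; the equivalence holds for every ring and
module.) -/
theorem result (A : Type u) [CommRing A] (I : Ideal A) (M : Type u)
    [AddCommGroup M] [Module A M] :
    EGA4.IsNormallyFlat I M ↔ Module.Flat (A ⧸ I) (AssocGr.GrMod (Rees.powFilt I M)) := by
  classical
  set F := Rees.powFilt I M with hF
  have hN : ∀ n, F.N n = I ^ n • (⊤ : Submodule A M) := fun _ => rfl
  have hker : ∀ n (x : ↥(F.N n)), x ∈ I • (⊤ : Submodule A ↥(F.N n)) ↔ AssocGr.inDegM F n x = 0 := by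
    intro n x
    rw [AssocGr.inDegM_eq_zero_iff, hN (n + 1), Submodule.mem_smul_top_iff, pow_succ', Submodule.mul_smul]
    rfl
  haveI : ∀ n, IsScalarTower A (A ⧸ I) (Piece I M n) := fun n =>
    IsScalarTower.of_algebraMap_smul fun a x => rfl
  let j : ∀ n, (Piece I M) n →ₗ[A ⧸ I] AssocGr.GrMod F := fun n =>
    LinearMap.extendScalarsOfSurjective (R := A) (M := Piece I M n) Ideal.Quotient.mk_surjective
      ((I • (⊤ : Submodule A ↥(I ^ n • (⊤ : Submodule A M)))).liftQ
        ({ toFun := fun x => (AssocGr.inDegM F n x : AssocGr.GrMod F)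
           map_add' := fun x y => congrArg Subtype.val (map_add (AssocGr.inDegM F n) x y)
           map_smul' := fun a x => AssocGr.coe_inDegM_smul F n a x } :
          ↥(I ^ n • (⊤ : Submodule A M)) →ₗ[A] AssocGr.GrMod F)
        fun x hx => congrArg Subtype.val ((hker n x).1 hx))
  have hj : ∀ n, Function.Injective (j n) ∧ ∀ y : (Piece I M) n, j n y ∈ AssocGr.grM F n := fun n => by
    refine ⟨(injective_iff_map_eq_zero (j n)).2 fun y hy => ?_, fun y => ?_⟩
    · obtain ⟨x, rfl⟩ := Submodule.Quotient.mk_surjective _ y
      exact (Submodule.Quotient.mk_eq_zero _).2 ((hker n x).2 (Subtype.ext hy))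
    · obtain ⟨x, rfl⟩ := Submodule.Quotient.mk_surjective _ y
      exact (AssocGr.inDegM F n x).2
  let e : ∀ n, (Piece I M) n ≃+ ↥(AssocGr.grM F n) := fun n => AddEquiv.ofBijective
    ((j n).toAddMonoidHom.codRestrict (AssocGr.grM F n) (hj n).2)
    ⟨fun a b h => (hj n).1 (congrArg Subtype.val h), fun z => by
      obtain ⟨x, rfl⟩ := AssocGr.inDegM_surjective F n z
      exact ⟨Submodule.Quotient.mk x, rfl⟩⟩
  let Φ := DirectSum.toModule (A ⧸ I) ℕ (AssocGr.GrMod F) j
  let E := (DFinsupp.mapRange.addEquiv e).trans (DirectSum.decomposeAddEquiv (AssocGr.grM F)).symm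
  have hE : ∀ z, Φ z = E z := by
    intro z
    induction z using DirectSum.induction_on with
    | zero => simp
    | of n y =>
      show Φ (DirectSum.lof (A ⧸ I) ℕ (Piece I M) n y) = _
      rw [DirectSum.toModule_lof]
      simp only [E, AddEquiv.trans_apply]
      show j n y = (DirectSum.decompose (AssocGr.grM F)).symm (DFinsupp.mapRange (fun i => e i) (fun i => map_zero (e i)) (DFinsupp.single n y))
      rw [DFinsupp.mapRange_single]
      exact (DirectSum.decompose_symm_of _ (e n y)).symm
    | add a b ha hb => rw [map_add, map_add, ha, hb]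
  have hΦ : Function.Bijective Φ := by
    rw [show (Φ : _ → _) = E from funext hE]
    exact E.bijective
  rw [← (Module.Flat.equiv_iff (LinearEquiv.ofBijective Φ hΦ)), Module.Flat.directSum_iff]
  rfl

end Groth.Agent.S16455
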