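import Groth.Statements.S16466
import Groth.Agent.CBC.LocusBC
import Groth.Agent.ProjTwist.Tensor
import Groth.Agent.PerfTri.Betti
import Groth.Agent.FormalFun.HomMonoEpi
import Groth.Agent.Props.QProj

set_option autoImplicit false
universe u
open PicF

namespace Groth.Agent.S16466

open CategoryTheory AlgebraicGeometry AlgebraicGeometry.Scheme.Modules in
/-- Suppose f : X → S is a proper, flat morphism between Noetherian schemes, and L is an invertible
O_X-module. Then there is a locally closed subscheme Z of S (an immersion i : Z → S) with the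
following universal property: a morphism t : T → S factors through i if and only if, for a cartesian
square X_T = X ×_S T with projections f_T and g_T, the direct image (f_T)_*(g_T^* L) is an
invertible O_T-module whose formation commutes with every further base change T' → T (the
degree-zero base change morphism is an isomorphism for every cartesian square over T' → T). In
particular Z is unique and (f_Z)_*(L_Z) is invertible of formation compatible with base change.
(Characterising the factorisation by invertibility of the direct image alone is not correct: for a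
genus-two curve C over a field, p a point of C and S the spectrum of the local ring of C at the
hyperelliptic conjugate of p, the family C × S → S with L = O(p + q), q the tautological point, has
direct image free of rank one while the closed fibre has a two-dimensional space of sections, so S →
S does not factor through Z.) -/
theorem result {X S : Scheme.{u}} (f : X ⟶ S) [IsProper f] [Flat f]
    [IsNoetherian S] [IsNoetherian X] (L : X.Modules) (hL : PicF.IsInvertible L) :
    ∃ (Z : Scheme.{u}) (i : Z ⟶ S), IsImmersion i ∧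
      ∀ (T : Scheme.{u}) (t : T ⟶ S) (XT : Scheme.{u}) (fT : XT ⟶ T) (gT : XT ⟶ X)
        (hT : IsPullback gT fT f t),
        (∃ z : T ⟶ Z, z ≫ i = t) ↔
          (PicF.IsInvertible ((pushforward fT).obj ((pullback gT).obj L)) ∧
            ∀ (T' : Scheme.{u}) (u : T' ⟶ T) (XT' : Scheme.{u}) (fT' : XT' ⟶ T') (u' : XT' ⟶ XT)
              (hT' : IsPullback u' fT' fT u),
              IsIso (CohBC.bc0 fT u fT' u' hT'.w ((pullback gT).obj L))) := by
  have h1 : ∀ {Y : Scheme.{u}} {M : Y.Modules},
      FlatMod.IsFinLocFreeOfRank 1 M → PicF.IsInvertible M := fun {Y M} h y => by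
    obtain ⟨U, hy, ⟨φ⟩⟩ := h y
    exact ⟨U, hy, ⟨φ ≪≫ Limits.coproductUniqueIso fun _ : Fin 1 => Coh.structureModule (U : Scheme.{u})⟩⟩
  have hL1 := Groth.Agent.ProjTwist.isFinLocFreeOfRank_one hL
  have hLF : FlatMod.IsFinLocFree L := fun x => by
    obtain ⟨U, hx, h⟩ := hL1 x
    exact ⟨U, 1, hx, h⟩
  haveI : L.IsQuasicoherent := Groth.Agent.PerfTri.Betti.isQuasicoherent_of_isFinLocFree hLF
  have hfl := Groth.Agent.FormalFun.isFlatOver_of_isFinLocFree' f hLF
  obtain ⟨Z, i, hi, -, -, hU, -⟩ :=
    Groth.Agent.CBC.Locus.exists_immersion (f := f) (F := L) (r := 1) hfl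
      (Groth.Agent.Props.QProj.isFP L hLF)
  refine ⟨Z, i, hi, fun T t XT fT gT hT => ?_⟩
  rw [hU T t]
  constructor
  · intro hC
    have := Groth.Agent.CBC.Locus.CAt_of_local hfl hT fun x => by
      obtain ⟨N, hN⟩ := Groth.Agent.CBC.exists_nhd (Groth.Agent.Props.QProj.isFP L hLF) hfl (t x)
      obtain ⟨_, ⟨W, hW, rfl⟩, hxW, hWV⟩ :=
        T.isBasis_affineOpens.exists_subset_of_mem_open (show x ∈ t ⁻¹ᵁ N.V from hN) (t ⁻¹ᵁ N.V).2
      exact ⟨N, W, hWV, hW, hxW, Groth.Agent.CBC.Locus.goodOn_of_C hfl hC N hW hWV⟩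
    exact ⟨h1 this.1, fun T' u XT' fT' u' hT' => this.2 u' fT' u hT'⟩
  · rintro ⟨hinv, hbc⟩
    have hC : Groth.Agent.CBC.Locus.CAt L 1 gT fT :=
      ⟨Groth.Agent.ProjTwist.isFinLocFreeOfRank_one hinv,
        fun X'' T' v' f'' u' h => hbc T' u' X'' f'' v' h⟩
    refine Groth.Agent.CBC.Locus.C_of_local hfl fun x => ?_
    obtain ⟨N, hN⟩ := Groth.Agent.CBC.exists_nhd (Groth.Agent.Props.QProj.isFP L hLF) hfl (t x)
    obtain ⟨_, ⟨W, hW, rfl⟩, hxW, hWV⟩ :=
      T.isBasis_affineOpens.exists_subset_of_mem_open (show x ∈ t ⁻¹ᵁ N.V from hN) (t ⁻¹ᵁ N.V).2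
    exact ⟨N, W, hWV, hW, hxW, Groth.Agent.CBC.Locus.goodOn_of_CAt hfl hT hC N hW hWV⟩

end Groth.Agent.S16466
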