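import Groth.Statements.S16470
import Groth.Agent.VBLib.Slope

set_option autoImplicit false
universe u
open CategoryTheory CategoryTheory.Limits AlgebraicGeometry
open VBCurve

namespace Groth.Agent.S16470

/-- Let X be a smooth proper integral curve (integral, smooth and proper of dimension one) over an
algebraically closed field k and E a finite locally free O_X-module of rank r ≥ 1 (degree = χ −
rank·χ(O_X), slope = degree / rank). There is a finite locally free submodule E₁ ⊂ E (a monomorphism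
of O_X-modules) of some rank r₁ ≥ 1, the destabilising sub-bundle, such that: every finite locally
free submodule F ⊂ E of rank r' ≥ 1 has slope at most that of E₁ (deg F · r₁ ≤ deg E₁ · r'); and the
maximal slope drops in the quotient, i.e. every finite locally free submodule G of rank r' ≥ 1 of
the cokernel E/E₁ has deg G · r₁ < deg E₁ · r'. Moreover a submodule with these two properties is
unique: any two are the same subobject of E. (Such an E₁ is slope-semistable, every submodule of E₁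
being a submodule of E; the published statement lists semistability of E₁ as a third property, which
is therefore omitted here.) -/
theorem result (k : Type u) [Field k] [IsAlgClosed k] (X : Scheme.{u}) [X.Over (Spec (CommRingCat.of k))]
    [IsIntegral X] [IsProper (X ↘ Spec (CommRingCat.of k))] [Smooth (X ↘ Spec (CommRingCat.of k))]
    (hdim : topologicalKrullDim X = 1)
    (r : ℕ) (hr : 0 < r) (E : X.Modules) (hE : FlatMod.IsFinLocFreeOfRank r E) :
    (∃ (E₁ : X.Modules) (r₁ : ℕ) (i₁ : E₁ ⟶ E), Mono i₁ ∧ 0 < r₁ ∧ FlatMod.IsFinLocFreeOfRank r₁ E₁ ∧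
      (∀ (F : X.Modules) (r' : ℕ) (j : F ⟶ E), Mono j → 0 < r' → FlatMod.IsFinLocFreeOfRank r' F →
        Curv2.deg k X F r' * (r₁ : ℤ) ≤ Curv2.deg k X E₁ r₁ * (r' : ℤ)) ∧
      (∀ (Q : X.Modules) (s : ℕ) (j : Q ⟶ cokernel i₁), Mono j → 0 < s → FlatMod.IsFinLocFreeOfRank s Q →
        Curv2.deg k X Q s * (r₁ : ℤ) < Curv2.deg k X E₁ r₁ * (s : ℤ))) ∧
    (∀ (E₁ E₁' : X.Modules) (r₁ r₁' : ℕ) (i₁ : E₁ ⟶ E) (i₁' : E₁' ⟶ E),
      Mono i₁ → 0 < r₁ → FlatMod.IsFinLocFreeOfRank r₁ E₁ →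
      (∀ (F : X.Modules) (r' : ℕ) (j : F ⟶ E), Mono j → 0 < r' → FlatMod.IsFinLocFreeOfRank r' F →
        Curv2.deg k X F r' * (r₁ : ℤ) ≤ Curv2.deg k X E₁ r₁ * (r' : ℤ)) →
      (∀ (Q : X.Modules) (s : ℕ) (j : Q ⟶ cokernel i₁), Mono j → 0 < s → FlatMod.IsFinLocFreeOfRank s Q →
        Curv2.deg k X Q s * (r₁ : ℤ) < Curv2.deg k X E₁ r₁ * (s : ℤ)) →
      Mono i₁' → 0 < r₁' → FlatMod.IsFinLocFreeOfRank r₁' E₁' →
      (∀ (F : X.Modules) (r' : ℕ) (j : F ⟶ E), Mono j → 0 < r' → FlatMod.IsFinLocFreeOfRank r' F →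
        Curv2.deg k X F r' * (r₁' : ℤ) ≤ Curv2.deg k X E₁' r₁' * (r' : ℤ)) →
      (∀ (Q : X.Modules) (s : ℕ) (j : Q ⟶ cokernel i₁'), Mono j → 0 < s → FlatMod.IsFinLocFreeOfRank s Q →
        Curv2.deg k X Q s * (r₁' : ℤ) < Curv2.deg k X E₁' r₁' * (s : ℤ)) →
      ∃ e : E₁ ≅ E₁', e.hom ≫ i₁' = i₁) := by
  have hX : VBLib.GoodCurve k X := VBLib.goodCurve_of_smooth hdim
  haveI := hX.isLocallyNoetherian
  have hE' := VBLib.isFinLocFree_of_ofRank hE
  have hEc := VBLib.isCoh_of_ofRank hE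
  refine ⟨?_, ?_⟩
  · obtain ⟨E₁, i₁, hi₁, hE₁, hpos, hmax⟩ := hX.exists_max_slope hE' (VBLib.rk_eq hE ▸ hr)
    refine ⟨E₁, VBLib.rk E₁, i₁, hi₁, hpos, VBLib.ofRank_rk hE₁, fun F r' j hj h' hF => ?_,
      fun Q s j hj h' hQ => ?_⟩
    · have h := (hmax F j hj (VBLib.isFinLocFree_of_ofRank hF) (VBLib.rk_eq hF ▸ h')).1
      rwa [VBLib.rk_eq hF, ← VBLib.dg_eq hF] at h
    · haveI := hi₁; haveI := hj
      have hc₁ := VBLib.isCoh_of_isFinLocFree hE₁
      obtain ⟨P, i, hi, hP, p1, p2⟩ := hX.exists_preimage (cokernel.π i₁) j hE'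
        (VBLib.isCoh_cokernel i₁ hc₁ hEc) (VBLib.isCoh_of_ofRank hQ)
      obtain ⟨c1, c2⟩ := hX.dg_mono_cokernel i₁ hc₁ hEc
      rw [VBLib.rk_eq hQ] at p2
      rw [← VBLib.dg_eq hQ] at p1
      have hrP : VBLib.rk P = VBLib.rk E₁ + s := by omega
      have hdP : VBLib.dg k P = VBLib.dg k E₁ + Curv2.deg k X Q s := by omega
      obtain ⟨m1, m2⟩ := hmax P i hi hP (by omega)
      have m3 : VBLib.dg k P * (VBLib.rk E₁ : ℤ) ≠ VBLib.dg k E₁ * (VBLib.rk P : ℤ) := fun he => by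
        have := m2 he; omega
      have m4 := lt_of_le_of_ne m1 m3
      rw [hdP, hrP, Nat.cast_add] at m4
      change _ < VBLib.dg k E₁ * _
      linarith
  · -- a submodule with both properties factors through any other one
    have key : ∀ (E₁ E₂ : X.Modules) (r₁ r₂ : ℕ) (i₁ : E₁ ⟶ E) (i₂ : E₂ ⟶ E), Mono i₁ → 0 < r₁ →
        FlatMod.IsFinLocFreeOfRank r₁ E₁ →
        (∀ (F : X.Modules) (r' : ℕ) (j : F ⟶ E), Mono j → 0 < r' → FlatMod.IsFinLocFreeOfRank r' F →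
          Curv2.deg k X F r' * (r₁ : ℤ) ≤ Curv2.deg k X E₁ r₁ * (r' : ℤ)) →
        (∀ (Q : X.Modules) (s : ℕ) (j : Q ⟶ cokernel i₁), Mono j → 0 < s → FlatMod.IsFinLocFreeOfRank s Q →
          Curv2.deg k X Q s * (r₁ : ℤ) < Curv2.deg k X E₁ r₁ * (s : ℤ)) →
        Mono i₂ → 0 < r₂ → FlatMod.IsFinLocFreeOfRank r₂ E₂ →
        Curv2.deg k X E₂ r₂ * (r₁ : ℤ) = Curv2.deg k X E₁ r₁ * (r₂ : ℤ) →
        i₂ ≫ cokernel.π i₁ = 0 := by
      intro E₁ E₂ r₁ r₂ i₁ i₂ hi₁ hr₁ h₁ hmax hdrop hi₂ hr₂ h₂ hμ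
      haveI := hi₁; haveI := hi₂
      have c1 := VBLib.isCoh_of_ofRank h₁
      have c2 := VBLib.isCoh_of_ofRank h₂
      -- the maximal submodule is saturated
      obtain ⟨G', j, i', hji, hj, hi', hG', hQ', hrG, hdG⟩ := hX.exists_saturation i₁ c1 hE'
      haveI := hj
      have hGc := VBLib.isCoh_of_isFinLocFree hG'
      have hle := hmax G' (VBLib.rk G') i' hi' (by rw [hrG, VBLib.rk_eq h₁]; exact hr₁) (VBLib.ofRank_rk hG')
      change VBLib.dg k G' * _ ≤ _ at hle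
      rw [hrG, VBLib.rk_eq h₁, VBLib.dg_eq h₁] at hle
      have hdeq : VBLib.dg k E₁ = VBLib.dg k G' :=
        le_antisymm hdG (le_of_mul_le_mul_right hle (Int.natCast_pos.mpr hr₁))
      haveI : IsIso j := (hX.dg_le_of_mono j c1 hGc hrG.symm).2 hdeq
      have hC : FlatMod.IsFinLocFree (cokernel i₁) := by
        have e : cokernel i₁ ≅ cokernel i' :=
          cokernelIsoOfEq hji.symm ≪≫ cokernelEpiComp j i'
        intro x
        obtain ⟨U, n, hx, ⟨φ⟩⟩ := hQ' x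
        exact ⟨U, n, hx, ⟨(Scheme.Modules.restrictFunctor U.ι).mapIso e ≪≫ φ⟩⟩
      have hCc := VBLib.isCoh_of_isFinLocFree hC
      let f := i₂ ≫ cokernel.π i₁
      have hI := VBLib.isFinLocFree_image hX.pid f c2 hC
      refine VBLib.eq_zero_of_rk_image f hI (by_contra fun hne => ?_)
      have hIpos := Nat.pos_of_ne_zero hne
      have hK := VBLib.isFinLocFree_kernel hX.pid f (VBLib.isFinLocFree_of_ofRank h₂) hCc
      obtain ⟨e1, e2⟩ := hX.dg_kernel_image f c2 hCc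
      rw [← VBLib.dg_eq h₂] at e1
      rw [VBLib.rk_eq h₂] at e2
      have a1 := hdrop _ _ (Abelian.image.ι f) inferInstance hIpos (VBLib.ofRank_rk hI)
      have a2 : VBLib.dg k (kernel f) * (r₁ : ℤ) ≤ Curv2.deg k X E₁ r₁ * (VBLib.rk (kernel f) : ℤ) := by
        rcases Nat.eq_zero_or_pos (VBLib.rk (kernel f)) with h0 | hpos
        · rw [h0, hX.dg_eq_zero_of_isZero (VBLib.isCoh_of_isFinLocFree hK)
            (VBLib.isZero_of_rk_eq_zero hK h0)]
          simp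
        · exact hmax _ _ (kernel.ι f ≫ i₂) inferInstance hpos (VBLib.ofRank_rk hK)
      rw [e1, e2] at hμ
      change VBLib.dg k _ * _ < _ at a1
      push_cast at hμ
      linarith
    intro E₁ E₂ r₁ r₂ i₁ i₂ hi₁ hr₁ h₁ hmax₁ hdrop₁ hi₂ hr₂ h₂ hmax₂ hdrop₂
    have ha := hmax₁ E₂ r₂ i₂ hi₂ hr₂ h₂
    have hb := hmax₂ E₁ r₁ i₁ hi₁ hr₁ h₁
    have hμ := le_antisymm ha hb
    have z₁ := key E₁ E₂ r₁ r₂ i₁ i₂ hi₁ hr₁ h₁ hmax₁ hdrop₁ hi₂ hr₂ h₂ hμ
    have z₂ := key E₂ E₁ r₂ r₁ i₂ i₁ hi₂ hr₂ h₂ hmax₂ hdrop₂ hi₁ hr₁ h₁ hμ.symm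
    haveI := hi₁; haveI := hi₂
    have l₁ := Abelian.monoIsKernelOfCokernel (CokernelCofork.ofπ _ (cokernel.condition i₁))
      (cokernelIsCokernel i₁)
    have l₂ := Abelian.monoIsKernelOfCokernel (CokernelCofork.ofπ _ (cokernel.condition i₂))
      (cokernelIsCokernel i₂)
    obtain ⟨a, ha'⟩ := KernelFork.IsLimit.lift' l₁ i₂ z₁
    obtain ⟨b, hb'⟩ := KernelFork.IsLimit.lift' l₂ i₁ z₂
    change a ≫ i₁ = i₂ at ha'
    change b ≫ i₂ = i₁ at hb'
    refine ⟨{ hom := b, inv := a, hom_inv_id := ?_, inv_hom_id := ?_ }, hb'⟩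
    · rw [← cancel_mono i₁, Category.assoc, ha', hb', Category.id_comp]
    · rw [← cancel_mono i₂, Category.assoc, hb', ha', Category.id_comp]

end Groth.Agent.S16470
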