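import Groth.Statements.S16474
import Mathlib
import Groth.Agent.InvQLib.GLnRed
import Groth.Agent.S16475

set_option autoImplicit false
open LaurentPolynomial
open ComodTens

namespace Groth.Agent.S16474

open scoped TensorProduct
open CoordGrp Groth.Agent.Comod Groth.Agent.InvQLib.GLnRed
open Groth.Agent.S16475 (coef coef_hom coef_tensor coef_ofEquiv)

noncomputable section

variable {r : ℕ}

/-- evaluation of polynomials in the matrix entries -/
abbrev ev (r : ℕ) : MvPolynomial (Fin r × Fin r) ℂ →ₐ[ℂ] GLn r ℂ :=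
  MvPolynomial.aeval fun p : Fin r × Fin r => (GLn.X p.1 p.2 : GLn r ℂ)

lemma ev_det : ev r (Matrix.mvPolynomialX (Fin r) (Fin r) ℂ).det = GLn.det := by
  rw [GLn.det_eq, AlgHom.map_det]
  congr 1
  ext i j
  simp [Matrix.mvPolynomialX, GLn.genMat]

lemma det_pow_mul (e : ℕ) : (GLn.det : GLn r ℂ) ^ e * GLn.Dinv ^ e = 1 := by
  rw [← mul_pow, GLn.det_mul_Dinv, one_pow]

lemma exists_poly (a : GLn r ℂ) : ∃ N₀ : ℕ, ∀ N ≥ N₀, ∃ P, ev r P = a * GLn.det ^ N := by
  suffices h : ∃ N P, ev r P = a * GLn.det ^ N by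
    obtain ⟨N, P, hP⟩ := h
    refine ⟨N, fun M hM => ⟨P * (Matrix.mvPolynomialX (Fin r) (Fin r) ℂ).det ^ (M - N), ?_⟩⟩
    rw [map_mul, map_pow, ev_det, hP, mul_assoc, ← pow_add]
    congr 2
    omega
  obtain ⟨y, rfl⟩ : ∃ y, GLn.mk r ℂ y = a := Ideal.Quotient.mk_surjective a
  let ψ : MvPolynomial (GLPoly.Idx r) ℂ →ₐ[ℂ] GLn r ℂ := GLn.mk r ℂ
  change ∃ N P, ev r P = ψ y * _
  induction (y : MvPolynomial (GLPoly.Idx r) ℂ) using MvPolynomial.induction_on with
  | C c =>
    exact ⟨0, MvPolynomial.C c, by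
      rw [← MvPolynomial.algebraMap_eq, AlgHom.commutes, ← MvPolynomial.algebraMap_eq, AlgHom.commutes,
        pow_zero, mul_one]⟩
  | add p q hp hq =>
    obtain ⟨N, P, hp⟩ := hp
    obtain ⟨N', Q, hq⟩ := hq
    refine ⟨N + N', P * (Matrix.mvPolynomialX (Fin r) (Fin r) ℂ).det ^ N' +
      Q * (Matrix.mvPolynomialX (Fin r) (Fin r) ℂ).det ^ N, ?_⟩
    rw [map_add, map_mul, map_mul, map_pow, map_pow, ev_det, hp, hq, map_add, pow_add]
    ring
  | mul_X p i hp =>
    obtain ⟨N, P, hp⟩ := hp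
    rcases i with ⟨a, b⟩ | _
    · refine ⟨N, P * MvPolynomial.X (a, b), ?_⟩
      rw [map_mul, hp, map_mul, MvPolynomial.aeval_X]
      change _ * GLn.X a b = _ * GLn.X a b * _
      ring
    · refine ⟨N + 1, P, ?_⟩
      rw [hp, map_mul]
      change _ = ψ p * GLn.Dinv * _
      have := GLn.det_mul_Dinv (n := r) (k := ℂ)
      linear_combination -(ψ p * GLn.det ^ N) * this

/-- right translation by the scalar one-parameter subgroup -/
def σ (r : ℕ) : GLn r ℂ →ₐ[ℂ] GLn r ℂ ⊗[ℂ] ℂ[T;T⁻¹] :=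
  (Algebra.TensorProduct.map (AlgHom.id ℂ (GLn r ℂ)) (GLn.diag r ℂ (fun _ => 1) : GLn r ℂ →ₐ[ℂ] ℂ[T;T⁻¹])).comp
    (Bialgebra.comulAlgHom ℂ (GLn r ℂ))

lemma σ_X (i j : Fin r) : σ r (GLn.X i j) = GLn.X i j ⊗ₜ[ℂ] T 1 := by
  simp [σ, GLn.comul_X, map_sum, TensorProduct.tmul_ite, BialgHom.coe_toAlgHom]

lemma σ_det : σ r GLn.det = (GLn.det : GLn r ℂ) ⊗ₜ[ℂ] T (r : ℤ) := by
  simp [σ, GLn.comul_det, GLn.diag_det]

lemma σ_ev {d : ℕ} {P : MvPolynomial (Fin r × Fin r) ℂ} (hP : P.IsHomogeneous d) :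
    σ r (ev r P) = ev r P ⊗ₜ[ℂ] T (d : ℤ) := by
  rw [P.as_sum, map_sum, map_sum, TensorProduct.sum_tmul]
  refine Finset.sum_congr rfl fun e he => ?_
  have hd : ∑ p ∈ e.support, e p = d := by
    have h := hP (MvPolynomial.mem_support_iff.mp he)
    simpa [Finsupp.weight_apply, Finsupp.sum] using h
  rw [MvPolynomial.aeval_monomial, map_mul, AlgHom.commutes, Finsupp.prod, map_prod]
  simp only [map_pow, σ_X, Algebra.TensorProduct.tmul_pow, T_pow, mul_one]
  rw [Algebra.algebraMap_eq_smul_one, Algebra.algebraMap_eq_smul_one, smul_mul_assoc, smul_mul_assoc,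
    one_mul, one_mul, ← TensorProduct.smul_tmul']
  congr 1
  rw [← hd, Nat.cast_sum, ← CoordGrp.GLn.prod_T]
  induction e.support using Finset.induction_on with
  | empty => simp [Algebra.TensorProduct.one_def]
  | insert p s hps ih =>
    rw [Finset.prod_insert hps, Finset.prod_insert hps, Finset.prod_insert hps, ih,
      Algebra.TensorProduct.tmul_mul_tmul]

/-- a coefficient functional -/
def lco (e : ℤ) : ℂ[T;T⁻¹] →ₗ[ℂ] ℂ where
  toFun f := f.coeff e
  map_add' f g := by simp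
  map_smul' c f := by simp

lemma exists_homogeneous {a : GLn r ℂ} {h : ℤ} (ha : σ r a = a ⊗ₜ[ℂ] T h) {N d : ℕ}
    (hd : (d : ℤ) = h + (r : ℤ) * N) (hP : ∃ P, ev r P = a * GLn.det ^ N) :
    ∃ P : MvPolynomial (Fin r × Fin r) ℂ, P.IsHomogeneous d ∧ ev r P = a * GLn.det ^ N := by
  obtain ⟨P, hP⟩ := hP
  refine ⟨MvPolynomial.homogeneousComponent d P, MvPolynomial.homogeneousComponent_isHomogeneous d P, ?_⟩
  have h1 : σ r (ev r P) = ev r P ⊗ₜ[ℂ] T (d : ℤ) := by
    rw [hP, map_mul, map_pow, ha, σ_det, Algebra.TensorProduct.tmul_pow, T_pow,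
      Algebra.TensorProduct.tmul_mul_tmul, ← T_add, hd, mul_comm (N : ℤ)]
  have h2 := congrArg (slice (lco d)) h1
  rw [slice_tmul] at h2
  have hone : lco d (T (d : ℤ)) = 1 := by
    change (T (d : ℤ) : ℂ[T;T⁻¹]).coeff d = 1
    rw [T_apply, if_pos rfl]
  rw [hone, one_smul, hP] at h2
  rw [← h2, ← hP]
  conv_rhs => rw [← MvPolynomial.sum_homogeneousComponent P]
  rw [map_sum, map_sum, map_sum, Finset.sum_eq_single d]
  · rw [σ_ev (MvPolynomial.homogeneousComponent_isHomogeneous d P), slice_tmul, hone, one_smul]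
  · intro j _ hj
    rw [σ_ev (MvPolynomial.homogeneousComponent_isHomogeneous j P), slice_tmul]
    have h0 : lco d (T (j : ℤ)) = 0 := by
      change (T (j : ℤ) : ℂ[T;T⁻¹]).coeff d = 0
      rw [T_apply, if_neg (by exact_mod_cast hj)]
    rw [h0, zero_smul]
  · intro hnot
    rw [MvPolynomial.homogeneousComponent_eq_zero d P
      (by simpa [Nat.lt_succ_iff] using Finset.mem_range.not.mp hnot)]
    simp

lemma ev_mem_span {d : ℕ} {P : MvPolynomial (Fin r × Fin r) ℂ} (hP : P.IsHomogeneous d) :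
    ev r P ∈ Submodule.span ℂ
      (Set.range fun q : (Fin d → Fin r) × (Fin d → Fin r) => ∏ t, (GLn.X (q.1 t) (q.2 t) : GLn r ℂ)) := by
  classical
  rw [P.as_sum, map_sum]
  refine Submodule.sum_mem _ fun e he => ?_
  rw [MvPolynomial.aeval_monomial, ← Algebra.smul_def]
  refine Submodule.smul_mem _ _ (Submodule.subset_span ?_)
  have hd : e.toMultiset.toList.length = d := by
    have h := hP (MvPolynomial.mem_support_iff.mp he)
    rw [Multiset.length_toList, Finsupp.card_toMultiset]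
    simp only [Finsupp.weight_apply, Pi.one_apply, smul_eq_mul, mul_one] at h
    exact h
  refine ⟨(fun t => (e.toMultiset.toList.get (t.cast hd.symm)).1,
    fun t => (e.toMultiset.toList.get (t.cast hd.symm)).2), ?_⟩
  change ∏ t : Fin d, (GLn.X _ _ : GLn r ℂ) = _
  rw [← Fintype.prod_equiv (finCongr hd)
      (fun t => (GLn.X (e.toMultiset.toList.get t).1 (e.toMultiset.toList.get t).2 : GLn r ℂ)) _ (fun t => rfl),
    ← List.prod_ofFn]
  have hmap : (List.ofFn fun t => (GLn.X (e.toMultiset.toList.get t).1 (e.toMultiset.toList.get t).2 : GLn r ℂ)) =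
      e.toMultiset.toList.map fun p => (GLn.X p.1 p.2 : GLn r ℂ) := by
    conv_rhs => rw [← List.ofFn_get e.toMultiset.toList, List.map_ofFn]
    rfl
  rw [hmap, ← Multiset.prod_coe, ← Multiset.map_coe, Multiset.coe_toList, Finsupp.toMultiset_map,
    Finsupp.prod_toMultiset, Finsupp.prod_mapDomain_index (fun _ => pow_zero _) (fun _ _ _ => pow_add _ _ _)]

/-- the standard representation -/
abbrev std (r : ℕ) : HopfRep.Comod ℂ (GLn r ℂ) (Fin r → ℂ) :=
  GLin.comodAlong (Mat.toGLn r ℂ) (ComodTens.stdVec r ℂ)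

lemma coef_std (p q : Fin r) : coef (std r) (LinearMap.proj p) (Pi.single q 1) = GLn.X p q := by
  show sliceL _ ((Mat.toGLn r ℂ : Mat r ℂ →ₐc[ℂ] GLn r ℂ).toLinearMap.lTensor _ ((ComodTens.stdVec r ℂ).coact (Pi.single q 1))) = _
  rw [ComodTens.stdVec_coact_single]
  simp [Pi.single_apply, ite_smul]
  exact Mat.toGLn_X p q

section Step

variable {k : Type} [CommRing k] {A : Type} [CommRing A] [Bialgebra k A] {X : Type} [AddCommGroup X] [Module k X]

lemma exists_coef_zero (c : HopfRep.Comod k A X) :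
    ∃ (ξ : TensorPower k 0 X →ₗ[k] k) (x : TensorPower k 0 X), coef (ComodTens.Comod.tpow c 0) ξ x = 1 := by
  refine ⟨(PiTensorProduct.isEmptyEquiv (Fin 0) (R := k) (s := fun _ : Fin 0 => X)).toLinearMap,
    (PiTensorProduct.isEmptyEquiv (Fin 0) (R := k) (s := fun _ : Fin 0 => X)).symm 1, ?_⟩
  have h := coef_ofEquiv (PiTensorProduct.isEmptyEquiv (Fin 0) (R := k) (s := fun _ : Fin 0 => X)).symm
    (HopfRep.Comod.trivial k A k) LinearMap.id 1
  refine h.trans ?_
  show sliceL LinearMap.id ((1 : k) ⊗ₜ[k] (1 : A)) = 1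
  simp

lemma exists_coef_succ (c : HopfRep.Comod k A X) {m : ℕ} {a b : A}
    (ha : ∃ (ξ : TensorPower k m X →ₗ[k] k) (x : TensorPower k m X), coef (ComodTens.Comod.tpow c m) ξ x = a)
    (hb : ∃ (η : X →ₗ[k] k) (v : X), coef c η v = b) :
    ∃ (ξ : TensorPower k (m + 1) X →ₗ[k] k) (x : TensorPower k (m + 1) X),
      coef (ComodTens.Comod.tpow c (m + 1)) ξ x = a * b := by
  obtain ⟨ξ, x, rfl⟩ := ha
  obtain ⟨η, v, rfl⟩ := hb
  let e1 := (PiTensorProduct.subsingletonEquiv (R := k) (s := fun _ : Fin 1 => X) (0 : Fin 1)).symm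
  let e := TensorPower.mulEquiv (R := k) (M := X) (n := m) (m := 1)
  refine ⟨((TensorProduct.lid k k).toLinearMap ∘ₗ TensorProduct.map ξ (η ∘ₗ e1.symm.toLinearMap)) ∘ₗ
    e.symm.toLinearMap, e (x ⊗ₜ[k] e1 v), ?_⟩
  refine (coef_ofEquiv e (ComodTens.Comod.tensor (ComodTens.Comod.tpow c m) (ComodTens.Comod.tpowOne c)) _ _).trans ?_
  rw [coef_tensor]
  exact congrArg _ (coef_ofEquiv e1 c η v)

end Step

lemma exists_coef_tpow (d : ℕ) (I J : Fin d → Fin r) :
    ∃ (ξ : TensorPower ℂ d (Fin r → ℂ) →ₗ[ℂ] ℂ) (x : TensorPower ℂ d (Fin r → ℂ)),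
      coef (ComodTens.Comod.tpow (std r) d) ξ x = ∏ t, (GLn.X (I t) (J t) : GLn r ℂ) := by
  induction d with
  | zero => rw [Fin.prod_univ_zero]; exact exists_coef_zero (std r)
  | succ m ih =>
    rw [Fin.prod_univ_castSucc]
    exact exists_coef_succ (std r) (ih _ _) ⟨_, _, coef_std _ _⟩

section Twist

variable {k : Type} [CommRing k] {A : Type} [CommRing A] [Bialgebra k A] {X : Type} [AddCommGroup X] [Module k X]

lemma coef_twist (c : HopfRep.Comod k A X) (g : A) (hg : IsGroupLikeElem k g) (ξ : X →ₗ[k] k) (x : X) :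
    coef (ComodTens.Comod.twist c g hg) ξ x = coef c ξ x * g := by
  show sliceL ξ ((LinearMap.mulRight k g).lTensor X (c.coact x)) = sliceL ξ (c.coact x) * g
  induction c.coact x using TensorProduct.induction_on with
  | zero => simp
  | add a b ha hb => simp only [map_add, ha, hb, add_mul]
  | tmul v a => simp

lemma proj_hom {ι : Type} [Fintype ι] [DecidableEq ι] (c : HopfRep.Comod k A X) (g : A)
    (hg : IsGroupLikeElem k g) (s : ι) :
    @Hoch.IsComodHom k _ A _ _ _ (ι → X) _ _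
      (ComodTens.Comod.twist (ComodTens.Comod.pi fun _ : ι => c) g hg) X _ _
      (ComodTens.Comod.twist c g hg) (LinearMap.proj s) := by
  refine LinearMap.ext fun f => ?_
  show (LinearMap.mulRight k g).lTensor X (c.coact (f s)) = (LinearMap.proj s).rTensor A
    ((LinearMap.mulRight k g).lTensor (ι → X) ((ComodTens.Comod.pi fun _ : ι => c).coact f))
  rw [← ComodTens.lTensor_rTensor_comm, ComodTens.pi_coact, map_sum, Finset.sum_eq_single s]
  · rw [← LinearMap.rTensor_comp_apply, LinearMap.proj_comp_single_same, LinearMap.rTensor_id,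
      LinearMap.id_apply]
  · intro j _ hj
    rw [← LinearMap.rTensor_comp_apply, LinearMap.proj_comp_single_ne k _ _ _ hj.symm,
      LinearMap.rTensor_zero, LinearMap.zero_apply]
  · intro hs; exact absurd (Finset.mem_univ s) hs

end Twist

lemma semisimple (r : ℕ) (X : Type) [AddCommGroup X] [Module ℂ X] [HopfRep.Comod ℂ (GLn r ℂ) X] :
    IsSemisimpleModule (Dual ℂ (GLn r ℂ)) X :=
  isSemisimpleModule_of_finite X fun U hU hfin => by
    letI := ComodSub.Comod.restr ‹HopfRep.Comod ℂ (GLn r ℂ) X› U hU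
    exact (isSemisimpleComod_iff ℂ (GLn r ℂ) U).1
      (isLinearlyReductive_GLn (k := ℂ) (n := r) U hfin)

lemma sigma_mat {r : ℕ} (V : Type) [AddCommGroup V] [Module ℂ V] [c : HopfRep.Comod ℂ (GLn r ℂ) V]
    {ι : Type} [Fintype ι] [DecidableEq ι] (b : Module.Basis ι ℂ V) (h : ℤ)
    (hh : ∀ v : V, (GLn.diag r ℂ (fun _ => 1)).toLinearMap.lTensor V (c.coact v) = v ⊗ₜ[ℂ] T h)
    (i j : ι) : σ r (mat (GLn r ℂ) b i j) = mat (GLn r ℂ) b i j ⊗ₜ[ℂ] T h := by
  have hd : ∀ l j, GLn.diag r ℂ (fun _ => 1) (mat (GLn r ℂ) b l j) = if l = j then T h else 0 := fun l j => by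
    have h1 := hh (b j)
    rw [coact_basis, map_sum] at h1
    simp only [LinearMap.lTensor_tmul] at h1
    have h2 := congrArg (sliceL (b.coord l)) h1
    rw [map_sum, Finset.sum_eq_single l (fun m _ hm => by simp [Finsupp.single_apply, hm]) (by simp),
      sliceL_tmul, sliceL_tmul, Module.Basis.coord_apply, Module.Basis.repr_self, Finsupp.single_eq_same,
      one_smul] at h2
    refine Eq.trans h2 ?_
    simp [Finsupp.single_apply, eq_comm]
  show (Algebra.TensorProduct.map (AlgHom.id ℂ (GLn r ℂ))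
    (GLn.diag r ℂ (fun _ => 1) : GLn r ℂ →ₐ[ℂ] ℂ[T;T⁻¹]))
      (Coalgebra.comul (R := ℂ) (mat (GLn r ℂ) b i j)) = _
  rw [(isMat_mat b).comul, map_sum, Finset.sum_eq_single j]
  · simp [BialgHom.coe_toAlgHom, hd]
  · intro l _ hl
    simp [BialgHom.coe_toAlgHom, hd, hl]
  · simp

lemma main {r : ℕ} {V : Type} [AddCommGroup V] [Module ℂ V] [cV : HopfRep.Comod ℂ (GLn r ℂ) V]
    {ι : Type} [Fintype ι] [DecidableEq ι] (b : Module.Basis ι ℂ V) (d : ℕ) (g : GLn r ℂ)
    (hg : IsGroupLikeElem ℂ g)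
    (hmem : ∀ i j, mat (GLn r ℂ) b i j ∈ Submodule.span ℂ
      (Set.range fun q : (Fin d → Fin r) × (Fin d → Fin r) => (∏ t, (GLn.X (q.1 t) (q.2 t) : GLn r ℂ)) * g)) :
    ∃ n : ℕ, ∃ (i : V →ₗ[ℂ] (Fin n → TensorPower ℂ d (Fin r → ℂ)))
      (p : (Fin n → TensorPower ℂ d (Fin r → ℂ)) →ₗ[ℂ] V),
      p ∘ₗ i = LinearMap.id ∧
      @Hoch.IsComodHom ℂ _ (GLn r ℂ) _ _ _ V _ _ cV (Fin n → TensorPower ℂ d (Fin r → ℂ)) _ _
        (ComodTens.Comod.twist (ComodTens.Comod.pi fun _ : Fin n => ComodTens.Comod.tpow (std r) d) g hg) i ∧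
      @Hoch.IsComodHom ℂ _ (GLn r ℂ) _ _ _ (Fin n → TensorPower ℂ d (Fin r → ℂ)) _ _
        (ComodTens.Comod.twist (ComodTens.Comod.pi fun _ : Fin n => ComodTens.Comod.tpow (std r) d) g hg)
        V _ _ cV p := by
  classical
  let κ := ι × ((Fin d → Fin r) × (Fin d → Fin r))
  let e : Fin (Fintype.card κ) ≃ κ := (Fintype.equivFin κ).symm
  refine ⟨Fintype.card κ, ?_⟩
  choose ξ x hξ using fun q : (Fin d → Fin r) × (Fin d → Fin r) => exists_coef_tpow d q.1 q.2
  letI cT : HopfRep.Comod ℂ (GLn r ℂ) (TensorPower ℂ d (Fin r → ℂ)) :=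
    ComodTens.Comod.twist (ComodTens.Comod.tpow (std r) d) g hg
  letI cE : HopfRep.Comod ℂ (GLn r ℂ) (Fin (Fintype.card κ) → TensorPower ℂ d (Fin r → ℂ)) :=
    ComodTens.Comod.twist (ComodTens.Comod.pi fun _ : Fin (Fintype.card κ) => ComodTens.Comod.tpow (std r) d) g hg
  let G : (Fin d → Fin r) × (Fin d → Fin r) → (TensorPower ℂ d (Fin r → ℂ) →ₗ[Dual ℂ (GLn r ℂ)] GLn r ℂ) :=
    fun q => homToDual (coef cT (ξ q)) (coef_hom cT (ξ q))
  let pr : ∀ s, (Fin (Fintype.card κ) → TensorPower ℂ d (Fin r → ℂ)) →ₗ[Dual ℂ (GLn r ℂ)]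
      TensorPower ℂ d (Fin r → ℂ) :=
    fun s => homToDual (LinearMap.proj s) (proj_hom (ComodTens.Comod.tpow (std r) d) g hg s)
  let F : (Fin (Fintype.card κ) → TensorPower ℂ d (Fin r → ℂ)) →ₗ[Dual ℂ (GLn r ℂ)] (ι → GLn r ℂ) :=
    LinearMap.pi fun i => ∑ s, if (e s).1 = i then (G (e s).2).comp (pr s) else 0
  let Φ : V →ₗ[Dual ℂ (GLn r ℂ)] (ι → GLn r ℂ) :=
    LinearMap.pi fun i => homToDual (mc (GLn r ℂ) (b.coord i)) (isComodHom_mc _)
  have hΦ : Function.Injective Φ := fun v w hvw => b.ext_elem fun i => by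
    have := congrArg (Coalgebra.counit (R := ℂ)) (congrFun hvw i)
    simpa [Φ, counit_mc] using this
  have hF1 : ∀ i (q : (Fin d → Fin r) × (Fin d → Fin r)) y,
      F (Pi.single (e.symm (i, q)) y) = Pi.single i (coef cT (ξ q) y) := fun i q y => by
    funext i'
    simp only [F, LinearMap.pi_apply, LinearMap.sum_apply]
    rw [Finset.sum_eq_single (e.symm (i, q))]
    · rw [Equiv.apply_symm_apply]
      by_cases hi : i = i'
      · subst hi; simp [pr, G]
      · rw [if_neg hi, Pi.single_eq_of_ne (Ne.symm hi)]; simp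
    · intro s _ hs
      split_ifs with h1
      · simp [pr, Pi.single_eq_of_ne hs]
      · rfl
    · simp
  have hrange : ∀ v, Φ v ∈ (LinearMap.range F).restrictScalars ℂ := fun v => by
    rw [← Finset.univ_sum_single (Φ v)]
    refine Submodule.sum_mem _ fun i _ => ?_
    have hle : Submodule.span ℂ
        (Set.range fun q : (Fin d → Fin r) × (Fin d → Fin r) => (∏ t, (GLn.X (q.1 t) (q.2 t) : GLn r ℂ)) * g) ≤
        ((LinearMap.range F).restrictScalars ℂ).comap (LinearMap.single ℂ (fun _ : ι => GLn r ℂ) i) := by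
      rw [Submodule.span_le]
      rintro _ ⟨q, rfl⟩
      refine ⟨Pi.single (e.symm (i, q)) (x q), ?_⟩
      rw [hF1]
      show Pi.single (M := fun _ : ι => GLn r ℂ) i (coef (ComodTens.Comod.twist (ComodTens.Comod.tpow (std r) d) g hg) (ξ q) (x q)) = _
      rw [coef_twist, hξ]
      rfl
    refine hle ?_
    change mc (GLn r ℂ) (b.coord i) v ∈ _
    rw [← b.sum_repr v, map_sum]
    exact Submodule.sum_mem _ fun j _ => by
      rw [map_smul]; exact Submodule.smul_mem _ _ (hmem i j)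
  haveI := semisimple r (Fin (Fintype.card κ) → TensorPower ℂ d (Fin r → ℂ))
  let U := (LinearMap.range Φ).comap F
  let Fq : U →ₗ[Dual ℂ (GLn r ℂ)] V :=
    (LinearEquiv.ofInjective Φ hΦ).symm.toLinearMap ∘ₗ (F.comp U.subtype).codRestrict _ fun u => u.2
  have hq : Function.Surjective Fq := fun v => by
    obtain ⟨f, hf⟩ := hrange v
    refine ⟨⟨f, ⟨v, hf.symm⟩⟩, ?_⟩
    apply (LinearEquiv.ofInjective Φ hΦ).injective
    simp only [Fq, LinearMap.comp_apply, LinearEquiv.coe_coe, LinearEquiv.apply_symm_apply]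
    exact Subtype.ext hf
  obtain ⟨W, hW⟩ := exists_isCompl U
  let p := Fq.comp (Submodule.linearProjOfIsCompl U W hW)
  have hp : Function.Surjective p := fun v => by
    obtain ⟨u, hu⟩ := hq v
    exact ⟨u, by
      change Fq (Submodule.projectionOnto U W hW u) = v
      rw [Submodule.projectionOnto_apply_left, hu]⟩
  obtain ⟨s, hs⟩ := IsSemisimpleModule.lifting_property p hp LinearMap.id
  refine ⟨s.restrictScalars ℂ, p.restrictScalars ℂ, ?_, isComodHom_restrictScalars s,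
    isComodHom_restrictScalars p⟩
  exact LinearMap.ext fun v => LinearMap.congr_fun hs v
end

/-- Let r ≥ 1 and let V be a finite-dimensional rational representation of the general linear group GL_r
over the complex numbers (a finite-dimensional comodule over its coordinate Hopf algebra) which is
homogeneous of some integer degree h, i.e. restricted to the scalar one-parameter subgroup t ↦ t·1
every vector of V has weight h. Then there are natural numbers a, b, c with c > 0 such that V is a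
direct summand, as a representation, of ((ℂ^r)^(⊗a))^(⊕b) ⊗ det^(-c): there are equivariant linear
maps i : V → E and p : E → V with p ∘ i the identity, where E is the direct sum of b copies of the
a-th tensor power of the standard representation on ℂ^r, twisted by the (−c)-th power of the
determinant character. -/
theorem result (r : ℕ) (hr : 0 < r)
    (V : Type) [AddCommGroup V] [Module ℂ V] [Module.Finite ℂ V] (ρ : HopfRep.Comod ℂ (CoordGrp.GLn r ℂ) V)
    (h : ℤ)
    (hh : @HopfRep.eigenspace ℂ ℂ[T;T⁻¹] _ _ _ V _ _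
      (GLin.comodAlong (CoordGrp.GLn.diag r ℂ (fun _ => 1)) ρ) (T h) = ⊤) :
    ∃ (a b c : ℕ), 0 < c ∧
      ∃ (i : V →ₗ[ℂ] (Fin b → TensorPower ℂ a (Fin r → ℂ)))
        (p : (Fin b → TensorPower ℂ a (Fin r → ℂ)) →ₗ[ℂ] V),
        p ∘ₗ i = LinearMap.id ∧
        @Hoch.IsComodHom ℂ _ (CoordGrp.GLn r ℂ) _ _ _ V _ _ ρ (Fin b → TensorPower ℂ a (Fin r → ℂ)) _ _
          (ComodTens.Comod.twist
            (ComodTens.Comod.pi fun _ : Fin b =>
              ComodTens.Comod.tpow (GLin.comodAlong (CoordGrp.Mat.toGLn r ℂ) (ComodTens.stdVec r ℂ)) a)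
            (CoordGrp.GLn.Dinv ^ c) (IsGroupLikeElem.pow ⟨CoordGrp.GLn.counit_Dinv, CoordGrp.GLn.comul_Dinv⟩)) i ∧
        @Hoch.IsComodHom ℂ _ (CoordGrp.GLn r ℂ) _ _ _ (Fin b → TensorPower ℂ a (Fin r → ℂ)) _ _
          (ComodTens.Comod.twist
            (ComodTens.Comod.pi fun _ : Fin b =>
              ComodTens.Comod.tpow (GLin.comodAlong (CoordGrp.Mat.toGLn r ℂ) (ComodTens.stdVec r ℂ)) a)
            (CoordGrp.GLn.Dinv ^ c) (IsGroupLikeElem.pow ⟨CoordGrp.GLn.counit_Dinv, CoordGrp.GLn.comul_Dinv⟩)) V _ _ ρ p := by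
  classical
  letI := ρ
  let b := Module.finBasis ℂ V
  let a := Groth.Agent.Comod.mat (CoordGrp.GLn r ℂ) b
  choose N₀ hN₀ using fun q : Fin (Module.finrank ℂ V) × Fin (Module.finrank ℂ V) => exists_poly (a q.1 q.2)
  let N := Finset.univ.sup N₀ + h.natAbs + 1
  obtain ⟨d, hd⟩ : ∃ d : ℕ, (d : ℤ) = h + (r : ℤ) * N := by
    refine ⟨(h + (r : ℤ) * N).toNat, Int.toNat_of_nonneg ?_⟩
    have h1 : (N : ℤ) ≤ (r : ℤ) * N := le_mul_of_one_le_left (Int.natCast_nonneg N) (by exact_mod_cast hr)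
    have h2 : (h.natAbs : ℤ) + 1 ≤ N := by simp only [N]; push_cast; omega
    omega
  have hh' : ∀ v : V, (CoordGrp.GLn.diag r ℂ (fun _ => 1)).toLinearMap.lTensor V (ρ.coact v) = v ⊗ₜ[ℂ] T h := by
    intro v
    have h1 : v ∈ @HopfRep.eigenspace ℂ ℂ[T;T⁻¹] _ _ _ V _ _
        (GLin.comodAlong (CoordGrp.GLn.diag r ℂ (fun _ => 1)) ρ) (T h) := by
      rw [hh]; trivial
    exact h1
  obtain ⟨n, hn⟩ := main b d (CoordGrp.GLn.Dinv ^ N)
    (IsGroupLikeElem.pow ⟨CoordGrp.GLn.counit_Dinv, CoordGrp.GLn.comul_Dinv⟩) (fun i j => by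
      obtain ⟨P, hPh, hP⟩ := exists_homogeneous (sigma_mat V b h hh' i j) hd
        (hN₀ (i, j) N (le_trans (Finset.le_sup (f := N₀) (Finset.mem_univ (i, j))) (by simp only [N]; omega)))
      have hm := ev_mem_span hPh
      rw [hP] at hm
      have h2 := Submodule.mem_map_of_mem (f := LinearMap.mulRight ℂ (CoordGrp.GLn.Dinv ^ N : CoordGrp.GLn r ℂ)) hm
      rw [Submodule.map_span, ← Set.range_comp] at h2
      simp only [LinearMap.mulRight_apply, mul_assoc, det_pow_mul, mul_one] at h2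
      exact h2)
  exact ⟨d, n, N, Nat.succ_pos _, hn⟩

end Groth.Agent.S16474
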