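import Groth.Statements.S16478
import Mathlib.RingTheory.Bialgebra.GroupLike
-- import your own Groth.Agent.* helpers here

set_option autoImplicit false
universe u
open GaDual

namespace Groth.Agent.S16478

/-- Let A be a commutative ring of prime characteristic p and n ≥ 1, and let φ be the comorphism of the
closed immersion α_{p^n} → G_a over A: the bialgebra map from the Hopf algebra of the additive group
(generator t primitive) to A[x]/(x^(p^n)) (x primitive) sending t to x. Then the restriction map on
characters, from those of the additive group over A to those of α_{p^n} over A, is surjective: every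
group-like element of A[x]/(x^(p^n)) is the image under φ of a group-like element of the Hopf
algebra of the additive group. -/
theorem result (p : ℕ) [Fact p.Prime] (A : Type u) [CommRing A] [CharP A p]
    (n : ℕ) (hn : 1 ≤ n) (φ : SekSuwa.A A 0 →ₐc[A] AlphaPn.A p n A) (hφ : φ SekSuwa.A.t = AlphaPn.x p n A)
    (u : AlphaPn.A p n A) (hu : IsGroupLikeElem A u) :
    ∃ g : SekSuwa.A A 0, IsGroupLikeElem A g ∧ φ g = u := by
  classical
  haveI : Nontrivial A := CharP.nontrivial_of_char_ne_one (R := A) (Nat.Prime.ne_one (Fact.out : p.Prime))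
  let s : AlphaPn.A p n A →ₗ[A] SekSuwa.A A 0 := (AlphaPn.basis p n A).constr A fun i => (SekSuwa.A.t : SekSuwa.A A 0) ^ (i : ℕ)
  have hs : ∀ m : ℕ, m < p ^ n → s (AlphaPn.x p n A ^ m) = (SekSuwa.A.t : SekSuwa.A A 0) ^ m := fun m hm => by
    have h := (AlphaPn.basis p n A).constr_basis A (fun i => (SekSuwa.A.t : SekSuwa.A A 0) ^ (i : ℕ)) ⟨m, hm⟩
    rwa [AlphaPn.basis_apply] at h
  have hφs : φ.toCoalgHom.toLinearMap ∘ₗ s = LinearMap.id := (AlphaPn.basis p n A).ext fun i => by
    simp only [LinearMap.comp_apply, LinearMap.id_apply, AlphaPn.basis_apply, hs _ i.2]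
    show φ _ = _
    rw [map_pow, hφ]
  have hco : Coalgebra.comul ∘ₗ s = TensorProduct.map s s ∘ₗ Coalgebra.comul := (AlphaPn.basis p n A).ext fun i => by
    simp only [LinearMap.comp_apply, AlphaPn.basis_apply, hs _ i.2]
    rw [Bialgebra.comul_pow, Bialgebra.comul_pow, SekSuwa.A.comul_t, AlphaPn.comul_x, zero_smul, add_zero, add_pow, add_pow, map_sum]
    refine Finset.sum_congr rfl fun j hj => ?_
    have hj' : j ≤ (i : ℕ) := Nat.lt_succ_iff.1 (Finset.mem_range.1 hj)
    have h1 := hs j (lt_of_le_of_lt hj' i.2)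
    have h2 := hs ((i : ℕ) - j) (lt_of_le_of_lt (Nat.sub_le _ _) i.2)
    simp only [Algebra.TensorProduct.tmul_pow, Algebra.TensorProduct.tmul_mul_tmul, one_pow, one_mul, mul_one]
    rw [← nsmul_eq_mul', ← nsmul_eq_mul', map_nsmul, TensorProduct.map_tmul, h1, h2]
  have hcu : Coalgebra.counit ∘ₗ s = Coalgebra.counit := (AlphaPn.basis p n A).ext fun i => by
    simp only [LinearMap.comp_apply, AlphaPn.basis_apply, hs _ i.2]
    rw [Bialgebra.counit_pow, Bialgebra.counit_pow, SekSuwa.A.counit_t, AlphaPn.counit_x]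
  refine ⟨s u, ⟨?_, ?_⟩, LinearMap.congr_fun hφs u⟩
  · exact (LinearMap.congr_fun hcu u).trans hu.counit_eq_one
  · have h := LinearMap.congr_fun hco u
    simp only [LinearMap.comp_apply] at h
    rw [h, hu.comul_eq_tmul_self, TensorProduct.map_tmul]

end Groth.Agent.S16478
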