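import Groth.Statements.S1648
import Groth.Agent.ConormalTriv.RegularRat
import Groth.Agent.RegLoc.TwoDim
import Groth.Agent.CohTop.CechBasic
import Groth.Agent.LocCoh.Punctured
import Groth.Agent.WeakAssSch.Unit
import Groth.Agent.ZClosLib.HeightOneHull

set_option linter.style.haveILetI false
set_option backward.isDefEq.respectTransparency false
set_option backward.isDefEq.respectTransparency.types false
set_option maxHeartbeats 2000000

set_option autoImplicit false
universe u
open CategoryTheory CategoryTheory.Limits AlgebraicGeometry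
open Resolve

namespace Groth.Agent.S1648

open Groth.Agent.ConormalTriv Opposite TopologicalSpace

theorem isNormalScheme_Spec (A : Type u) [CommRing A] [IsDomain A] [IsIntegrallyClosed A] :
    Pi1.IsNormalScheme (Spec (CommRingCat.of A)) := fun x => by
  let e := (StructureSheaf.stalkIso A (x : PrimeSpectrum A)).toRingEquiv
  have : IsIntegrallyClosed (Localization.AtPrime (x : PrimeSpectrum A).asIdeal) :=
    isIntegrallyClosed_of_isLocalization _ (x : PrimeSpectrum A).asIdeal.primeCompl
      (Ideal.primeCompl_le_nonZeroDivisors _)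
  exact ⟨e.symm.toMulEquiv.isDomain _, IsIntegrallyClosed.of_equiv e⟩

/-- The first Čech cohomology of an affine family computes that of the union. -/
theorem exact_iff_subsingleton {X : Scheme.{u}} {ι : Type u} (U : ι → X.Opens)
    (haff : ∀ {n : ℕ} (x : Fin (n + 1) → ι), IsAffineOpen (CohAff.inter (X := X.toPresheafedSpace.carrier) U x)) :
    CohAff.CechExact (X := X.toPresheafedSpace.carrier) (Coh.structureModule X).presheaf U 0 ↔
      Subsingleton (CohTop.HU (Coh.toAb (Coh.structureModule X)) 1 (iSup U)) := by
  haveI : (Coh.structureModule X).IsQuasicoherent := WeakAssSch.isQuasicoherent_unit X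
  obtain ⟨c⟩ := CohTop.CechBasic.cech_eq_HU U 1 (Coh.toAb (Coh.structureModule X))
    (fun m x q => LocCoh.Punctured.subsingleton_HU_of_isAffineOpen _ (haff x) q)
  constructor
  · intro hex
    have h1 : Subsingleton (CohTop.cechH (Coh.toAb (Coh.structureModule X)).obj U 1) :=
      AddCommGrpCat.subsingleton_of_isZero ((CohAff.isZero_homology_iff_cechExact _ U 0).mpr hex)
    exact c.symm.toEquiv.subsingleton
  · intro h
    have h1 : Subsingleton (CohTop.cechH (Coh.toAb (Coh.structureModule X)).obj U 1) :=
      c.toEquiv.subsingleton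
    exact (CohAff.isZero_homology_iff_cechExact _ U 0).mp (@AddCommGrpCat.isZero_of_subsingleton _ h1)

/-- The germ at the generic point of a section of `O`. -/
noncomputable def gval {X : Scheme.{u}} [IsIntegral X] (O : X.Opens) (hO : genericPoint X ∈ O) :
    (Coh.structureModule X).presheaf.obj (op O) →+ X.functionField :=
  (X.presheaf.germ O (genericPoint X) hO).hom.toAddMonoidHom.comp (OmegaSh.fnSect X O)

theorem gval_res {X : Scheme.{u}} [IsIntegral X] {O O' : X.Opens} (h : O' ≤ O) (hO : genericPoint X ∈ O')
    (s : (Coh.structureModule X).presheaf.obj (op O)) :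
    gval O' hO (CohAff.res (X := X.toPresheafedSpace.carrier) (Coh.structureModule X).presheaf h s) = gval O (h hO) s :=
  X.presheaf.germ_res_apply (homOfLE h) _ hO (OmegaSh.fnSect X _ s)

theorem gval_congr {X : Scheme.{u}} [IsIntegral X] {ι : Type u} {U : ι → X.Opens} {m : ℕ}
    (t : CohAff.Cochain (X := X.toPresheafedSpace.carrier) (Coh.structureModule X).presheaf U m)
    {x x' : Fin (m + 1) → ι} (e : x = x') (h : genericPoint X ∈ CohAff.inter (X := X.toPresheafedSpace.carrier) U x)
    (h' : genericPoint X ∈ CohAff.inter (X := X.toPresheafedSpace.carrier) U x') :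
    gval _ h (t x) = gval _ h' (t x') := by
  subst e
  rfl

/-- The differential in degree zero, on rational functions. -/
theorem gval_cd {X : Scheme.{u}} [IsIntegral X] {ι : Type u} {U : ι → X.Opens} (hU : ∀ i, genericPoint X ∈ U i)
    (t : CohAff.Cochain (X := X.toPresheafedSpace.carrier) (Coh.structureModule X).presheaf U 0) (x : Fin 2 → ι)
    (hx : genericPoint X ∈ CohAff.inter (X := X.toPresheafedSpace.carrier) U x) :
    gval _ hx (CohAff.cd (X := X.toPresheafedSpace.carrier) (Coh.structureModule X).presheaf U 0 t x) =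
      gval _ (CohAff.mem_inter.2 fun _ => hU _) (t fun _ => x 1) -
        gval _ (CohAff.mem_inter.2 fun _ => hU _) (t fun _ => x 0) := by
  rw [CohAff.cd_apply]
  refine (map_sum (gval _ hx) _ _).trans ?_
  rw [Fin.sum_univ_two, map_zsmul, map_zsmul, gval_res, gval_res]
  simp only [Fin.val_zero, Fin.val_one, pow_zero, pow_one, one_zsmul, neg_one_zsmul]
  rw [← sub_eq_add_neg]
  congr 1 <;> exact gval_congr t (funext fun k => by fin_cases k; rfl) _ _

theorem height_one_eq {A : Type u} [CommRing A] [IsLocalRing A] [IsNoetherianRing A] [IsDomain A]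
    (hdim : ringKrullDim A = 2) {q : A} (hq : Prime q) {p : Ideal A} [p.IsPrime] (hqp : q ∈ p)
    (hpm : p ≠ IsLocalRing.maximalIdeal A) : p = Ideal.span {q} := by
  haveI := (Ideal.span_singleton_prime hq.ne_zero).2 hq
  by_contra hne
  have hlt : Ideal.span {q} < p := lt_of_le_of_ne ((Ideal.span_singleton_le_iff_mem _).2 hqp) (Ne.symm hne)
  have hlt' : p < IsLocalRing.maximalIdeal A := lt_of_le_of_ne (IsLocalRing.le_maximalIdeal Ideal.IsPrime.ne_top') hpm
  have e1 := Ideal.height_strict_mono_of_isPrime_of_isPrime hlt
  have e2 := Ideal.height_strict_mono_of_isPrime_of_isPrime hlt'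
  have e3 : (IsLocalRing.maximalIdeal A).height = 2 := by
    have := IsLocalRing.maximalIdeal_height_eq_ringKrullDim (R := A)
    rw [hdim] at this
    exact WithBot.coe_injective this
  have e0 : (1 : ℕ∞) ≤ (Ideal.span {q}).height := by
    refine Order.one_le_iff_pos.2 (pos_iff_ne_zero.2 fun h0 => ?_)
    rw [Ideal.height_eq_zero_iff_eq_bot, Ideal.span_singleton_eq_bot] at h0
    exact hq.ne_zero h0
  rw [e3] at e2
  have h2 : p.height ≤ 1 := Order.le_of_lt_succ (by rw [show Order.succ (1 : ℕ∞) = 2 from rfl]; exact e2)
  exact (not_lt.2 e0) (e1.trans_le h2)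


/-- A Nagata regular local ring of dimension two defines a rational singularity: every normal
modification of its spectrum has vanishing H^1 of the structure sheaf. -/
theorem result (A : Type u) [CommRing A] [IsRegularLocalRing A] (hN : CAlg.IsNagata A)
    (hdim : ringKrullDim A = 2) : Curv2.IsRationalSing A := by
  classical
  haveI : IsDomain A := RegLoc.isDomain A
  haveI : UniqueFactorizationMonoid A := RegLoc.TwoDim.uniqueFactorizationMonoid_of_dim_two hdim
  intro X f hfp hX hXn hbir
  haveI := hfp
  haveI := hX
  haveI : IsLocallyNoetherian (Spec (CommRingCat.of A)) := inferInstance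
  haveI : IsLocallyNoetherian X := LocallyOfFiniteType.isLocallyNoetherian f
  haveI : CompactSpace X := QuasiCompact.compactSpace_of_compactSpace f
  haveI : X.IsSeparated := (Scheme.isSeparated_iff _).2 (by
    rw [← terminal.comp_from f]; infer_instance)
  -- birationality and connected fibres
  obtain ⟨U₀, hU₀, hU₀iso⟩ := hbir
  haveI := hU₀iso
  have hgU : genericPoint (Spec (CommRingCat.of A)) ∈ U₀ :=
    ((genericPoint_spec _).mem_open_set_iff U₀.2).mpr ⟨hU₀.some, trivial, hU₀.some_mem⟩
  obtain ⟨x₀, hx₀⟩ := (f ∣_ U₀).homeomorph.surjective ⟨_, hgU⟩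
  have hgX : genericPoint X ∈ f ⁻¹ᵁ U₀ := (genericPoint_specializes x₀.1).mem_open (f ⁻¹ᵁ U₀).2 x₀.2
  have hfx₀ : f x₀.1 = genericPoint (Spec (CommRingCat.of A)) := by
    rw [← morphismRestrict_base_coe f U₀ x₀]
    exact congrArg Subtype.val hx₀
  have hgen : f (genericPoint X) = genericPoint (Spec (CommRingCat.of A)) := by
    have h1 : f (genericPoint X) ⤳ genericPoint (Spec (CommRingCat.of A)) :=
      hfx₀ ▸ (genericPoint_specializes x₀.1).map f.continuous
    exact (h1.antisymm (genericPoint_specializes _)).eq
  have hstalk : IsIso (f.stalkMap (genericPoint X)) :=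
    ((MorphismProperty.isomorphisms CommRingCat).arrow_mk_iso_iff
      (morphismRestrictStalkMap f U₀ ⟨genericPoint X, hgX⟩)).mp
      (inferInstance : IsIso ((f ∣_ U₀).stalkMap ⟨genericPoint X, hgX⟩))
  have hconn := fun y => S15544.result (isNormalScheme_Spec A) f hgen hstalk y
  have hgenbot : ((f (genericPoint X)) : PrimeSpectrum A).asIdeal = ⊥ := by
    rw [hgen]
    have h1 := (genericPoint_specializes (⟨⊥, Ideal.isPrime_bot⟩ : PrimeSpectrum A) : genericPoint (Spec (CommRingCat.of A)) ⤳ _)
    exact le_bot_iff.1 ((PrimeSpectrum.le_iff_specializes _ _).2 h1)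
  have hf : IsModif f := by
    refine ⟨fun b hb => ?_, fun k => ?_⟩
    · intro h
      have hu := (isUnit_germ_glob f (y := genericPoint X) (a := b) (by rw [hgenbot]; exact hb)).map (toK (genericPoint X))
      rw [toK_glob, h] at hu
      exact not_isUnit_zero hu
    · let x₁ : PrimeSpectrum A := f (genericPoint X)
      obtain ⟨k₀, hk₀⟩ := (ConcreteCategory.bijective_of_isIso (f.stalkMap (genericPoint X))).2 k
      letI : Algebra A ((Spec (CommRingCat.of A)).presheaf.stalk (f (genericPoint X))) := StructureSheaf.stalkAlgebra A x₁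
      haveI : IsLocalization.AtPrime ((Spec (CommRingCat.of A)).presheaf.stalk (f (genericPoint X))) x₁.asIdeal :=
        StructureSheaf.IsLocalization.to_stalk A x₁
      obtain ⟨⟨b, d⟩, hbd⟩ := IsLocalization.surj x₁.asIdeal.primeCompl k₀
      refine ⟨b, d, fun h0 => d.2 (h0 ▸ x₁.asIdeal.zero_mem), ?_⟩
      have hc : ∀ c : A, φK f c = f.stalkMap (genericPoint X) (algebraMap A _ c) := fun c => by
        refine (Scheme.Hom.germ_stalkMap_apply f ⊤ (genericPoint X) trivial _).symm.trans ?_
        rfl
      rw [hc, hc, ← hk₀, ← map_mul, hbd]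
  -- a coordinate
  obtain ⟨a, ha, hpir⟩ := RegLoc.TwoDim.exists_prime_quotient_pir hdim
  have hdvr : ∀ k : A, ∀ d : A, ¬ a ∣ d → (∃ P : Polynomial A, P.Monic ∧
      a ∣ ∑ i ∈ Finset.range (P.natDegree + 1), P.coeff i * k ^ i * d ^ (P.natDegree - i)) → ∃ c, a ∣ k - c * d := by
    rintro k d hd ⟨P, hP, hsum⟩
    haveI : (Ideal.span {a}).IsPrime := (Ideal.span_singleton_prime ha.ne_zero).2 ha
    let R := A ⧸ Ideal.span {a}
    let π : A →+* R := Ideal.Quotient.mk _
    haveI : IsPrincipalIdealRing R := hpir
    haveI : IsDomain R := Ideal.Quotient.isDomain _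
    have hdK : algebraMap R (FractionRing R) (π d) ≠ 0 := fun h => hd (Ideal.mem_span_singleton.1
      (Ideal.Quotient.eq_zero_iff_mem.1 ((map_eq_zero_iff _ (IsFractionRing.injective R (FractionRing R))).1 h)))
    have hint : IsIntegral R (algebraMap R (FractionRing R) (π k) / algebraMap R (FractionRing R) (π d)) := by
      refine ⟨P.map π, hP.map π, ?_⟩
      rw [Polynomial.eval₂_map, Polynomial.eval₂_eq_sum_range]
      have h0 : ((algebraMap R (FractionRing R)).comp π)
          (∑ i ∈ Finset.range (P.natDegree + 1), P.coeff i * k ^ i * d ^ (P.natDegree - i)) = 0 := by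
        rw [RingHom.comp_apply, show π _ = 0 from Ideal.Quotient.eq_zero_iff_mem.2 (Ideal.mem_span_singleton.2 hsum), map_zero]
      have h1 : (∑ i ∈ Finset.range (P.natDegree + 1), ((algebraMap R (FractionRing R)).comp π) (P.coeff i) *
          (algebraMap R (FractionRing R) (π k) / algebraMap R (FractionRing R) (π d)) ^ i) *
          algebraMap R (FractionRing R) (π d) ^ P.natDegree = 0 := by
        rw [← h0, map_sum, Finset.sum_mul]
        refine Finset.sum_congr rfl fun i hi => ?_
        have hle : i ≤ P.natDegree := by rw [Finset.mem_range] at hi; omega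
        simp only [RingHom.comp_apply, map_mul, map_pow, div_pow]
        rw [← pow_sub_mul_pow (algebraMap R (FractionRing R) (π d)) hle]
        field_simp
      exact (mul_eq_zero.1 h1).resolve_right (pow_ne_zero _ hdK)
    obtain ⟨c₀, hc₀⟩ := IsIntegrallyClosed.isIntegral_iff.1 hint
    obtain ⟨c, rfl⟩ := Ideal.Quotient.mk_surjective c₀
    refine ⟨c, Ideal.mem_span_singleton.1 (Ideal.Quotient.eq_zero_iff_mem.1 ?_)⟩
    show π (k - c * d) = 0
    rw [map_sub, map_mul, sub_eq_zero]
    apply IsFractionRing.injective R (FractionRing R)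
    rw [map_mul, hc₀, div_mul_cancel₀ _ hdK]
  -- the open set `D(a)` upstairs is affine
  let D : (Spec (CommRingCat.of A)).Opens := PrimeSpectrum.basicOpen a
  have hDaff : IsAffineOpen D := IsAffineOpen.Spec_basicOpen (R := CommRingCat.of A) a
  have hW : f ⁻¹ᵁ D = X.basicOpen (glob f a) := by
    ext x
    exact (mem_basicOpen_glob f a x).symm
  haveI : IsFinite (f ∣_ D) := by
    haveI : LocallyQuasiFinite (f ∣_ D) := by
      refine LocallyQuasiFinite.of_finite_preimage_singleton _ fun s => ?_
      have hs : a ∉ (s.1 : PrimeSpectrum A).asIdeal := s.2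
      have hsub : (f ⁻¹' {s.1}).Subsingleton := by
        rw [← f.range_fiberι]
        haveI : Subsingleton ↥(f.fiber s.1) := by
          by_cases hs0 : (s.1 : PrimeSpectrum A).asIdeal = ⊥
          · have hmem : ∀ p : f.fiber s.1, f.fiberι s.1 p = genericPoint X := fun p => by
              set y := f.fiberι s.1 p with hy
              have hfy : (f y : PrimeSpectrum A).asIdeal = ⊥ := by
                rw [(f.range_fiberι s.1).le (Set.mem_range_self p)]; exact hs0
              obtain ⟨q, hq⟩ : genericPoint X ∈ Set.range (X.fromSpecStalk y) := by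
                rw [Scheme.range_fromSpecStalk]; exact genericPoint_specializes _
              haveI := (hXn y).1
              have hfield : IsField (X.presheaf.stalk y) := by
                refine ⟨⟨0, 1, zero_ne_one⟩, mul_comm, fun {z} hz => ?_⟩
                obtain ⟨b, d, hd, hk⟩ := hf.frac (toK y z)
                have hdu := isUnit_germ_glob f (y := y) (a := d) (by rw [hfy]; exact hd)
                have hz' : z * X.presheaf.germ ⊤ y trivial (glob f d) = X.presheaf.germ ⊤ y trivial (glob f b) := by
                  apply toK_injective y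
                  rw [map_mul, toK_glob, toK_glob, hk]
                have hb : b ≠ 0 := by
                  rintro rfl
                  rw [map_zero] at hk
                  rcases mul_eq_zero.1 hk with h | h
                  · exact hz ((map_eq_zero_iff _ (toK_injective y)).1 h)
                  · exact hf.gen d hd h
                have hbu := isUnit_germ_glob f (y := y) (a := b) (by rw [hfy]; exact hb)
                rw [← hz'] at hbu
                exact (isUnit_of_mul_isUnit_left hbu).exists_right_inv
              letI := hfield.toField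
              haveI : Subsingleton ↥(Spec (X.presheaf.stalk y)) :=
                inferInstanceAs (Subsingleton (PrimeSpectrum (X.presheaf.stalk y)))
              rw [← hq, Subsingleton.elim q (IsLocalRing.closedPoint _), Scheme.fromSpecStalk_closedPoint]
            exact ⟨fun p q => (f.fiberι s.1).isEmbedding.injective ((hmem p).trans (hmem q).symm)⟩
          · obtain ⟨q, hqp, hq⟩ := RegLoc.TwoDim.exists_prime_mem hdim (s.1 : PrimeSpectrum A).asIdeal hs0
            refine subsingleton_fibre f hf hconn hq s.1 (height_one_eq hdim hq hqp fun h => hs ?_)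
            rw [h]; exact ha.not_isUnit
        exact Set.subsingleton_range _
      refine Set.Finite.of_finite_image (f := Subtype.val) ?_ Subtype.val_injective.injOn
      refine hsub.finite.subset ?_
      rintro _ ⟨x, hx, rfl⟩
      show f x.1 = s.1
      rw [← morphismRestrict_base_coe f D x, hx]
    exact (IsFinite.iff_isProper_and_locallyQuasiFinite _).2 ⟨inferInstance, inferInstance⟩
  have hWaff : IsAffineOpen (X.basicOpen (glob f a)) := by
    rw [← hW]
    haveI : IsAffine D.toScheme := hDaff
    exact isAffine_of_isAffineHom (f ∣_ D)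
  -- Čech cocycles
  haveI : (Coh.structureModule X).IsQuasicoherent := WeakAssSch.isQuasicoherent_unit X
  have hch : ∀ x : X, ∃ U : X.affineOpens, x ∈ U.1 := fun x => by
    obtain ⟨U, hxU, -⟩ := IdealSh.Comap.exists_affine_le x ⊤ trivial
    exact ⟨U, hxU⟩
  choose U hxU using hch
  obtain ⟨S, hS⟩ := isCompact_univ.elim_finite_subcover (fun x => ((U x).1 : Set X))
    (fun x => (U x).1.2) (fun x _ => Set.mem_iUnion.2 ⟨x, hxU x⟩)
  choose ix hixS hix using fun x : X => Set.mem_iUnion₂.1 (hS (Set.mem_univ x))
  let V : ↥S → X.Opens := fun i => (U i.1).1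
  have hV : ∀ i, IsAffineOpen (V i) := fun i => (U i.1).2
  have hVne : ∀ i, Nonempty (V i) := fun i => ⟨⟨i.1, hxU i.1⟩⟩
  have hcov : iSup V = ⊤ := top_le_iff.1 fun x _ => Opens.mem_iSup.2 ⟨⟨ix x, hixS x⟩, hix x⟩
  have hinter : ∀ {n : ℕ} (V : ↥S → X.Opens) (hV : ∀ i, IsAffineOpen (V i)) (x : Fin (n + 1) → ↥S),
      IsAffineOpen (CohAff.inter (X := X.toPresheafedSpace.carrier) V x) := by
    intro n V hV x
    induction n with
    | zero =>
      convert hV (x 0) using 1
      exact le_antisymm (CohAff.inter_le _ _ 0) (CohAff.le_inter fun i => by rw [Fin.eq_zero i])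
    | succ n ih =>
      convert (hV (x 0)).inf (ih (x ∘ Fin.succ)) using 1
      refine le_antisymm (le_inf (CohAff.inter_le _ _ 0) (CohAff.le_inter fun i => CohAff.inter_le _ _ _))
        (CohAff.le_inter fun i => ?_)
      induction i using Fin.cases with
      | zero => exact inf_le_left
      | succ j => exact inf_le_right.trans (CohAff.inter_le _ (x ∘ Fin.succ) j)
  have hex : CohAff.CechExact (X := X.toPresheafedSpace.carrier) (Coh.structureModule X).presheaf V 0 := by
    intro c hc
    let W : ↥S → X.Opens := fun i => X.basicOpen (glob f a) ⊓ V i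
    have hsupW : iSup W = X.basicOpen (glob f a) :=
      le_antisymm (iSup_le fun i => inf_le_left) fun x hx => Opens.mem_iSup.2 ⟨⟨ix x, hixS x⟩, hx, hix x⟩
    have hexW : CohAff.CechExact (X := X.toPresheafedSpace.carrier) (Coh.structureModule X).presheaf W 0 := by
      refine (exact_iff_subsingleton W (fun x => hinter W (fun i => hWaff.inf (hV i)) x)).2 ?_
      rw [hsupW]
      exact LocCoh.Punctured.subsingleton_HU_of_isAffineOpen _ hWaff 0
    have hle : ∀ {n : ℕ} (x : Fin n → ↥S), CohAff.inter (X := X.toPresheafedSpace.carrier) W x ≤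
        CohAff.inter (X := X.toPresheafedSpace.carrier) V x :=
      fun x => CohAff.le_inter fun i => (CohAff.inter_le W x i).trans inf_le_right
    obtain ⟨t, ht⟩ := hexW (fun x => CohAff.res _ (hle x) (c x)) (by
      funext x
      have h0 := congrArg (CohAff.res (X := X.toPresheafedSpace.carrier) (Coh.structureModule X).presheaf (hle x))
        (congrFun hc x)
      rw [CohAff.cd_apply] at h0 ⊢
      rw [map_sum] at h0
      simp only [map_zsmul, CohAff.res_res, Pi.zero_apply, map_zero] at h0 ⊢
      exact h0)
    have hgWV : ∀ i, genericPoint X ∈ W i := fun i =>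
      ⟨(mem_basicOpen_glob f a _).2 (by rw [hgenbot]; exact ha.ne_zero),
        ((genericPoint_spec X).mem_open_set_iff (V i).2).mpr ⟨i.1, trivial, hxU i.1⟩⟩
    have hgi : ∀ {n : ℕ} (x : Fin n → ↥S), genericPoint X ∈ CohAff.inter (X := X.toPresheafedSpace.carrier) W x :=
      fun x => CohAff.mem_inter.2 fun i => hgWV _
    let b : ↥S → X.functionField := fun i => gval _ (hgi _) (t fun _ => i)
    -- the cocycle in terms of rational functions
    have hb : ∀ x : Fin 2 → ↥S, gval _ (hle _ (hgi x)) (c x) = b (x 1) - b (x 0) := by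
      intro x
      rw [← gval_res (hle x) (hgi x) (c x)]
      refine (congrArg (gval _ (hgi x)) (congrFun ht x).symm).trans ?_
      exact gval_cd hgWV t x (hgi x)
    have hregc : ∀ (O : X.Opens) (hO : genericPoint X ∈ O) (s : (Coh.structureModule X).presheaf.obj (op O)) (y : X),
        y ∈ O → Reg y (gval O hO s) := fun O hO s y hy =>
      haveI : Nonempty O := ⟨⟨y, hy⟩⟩
      ⟨X.presheaf.germ O y hy (OmegaSh.fnSect X O s), toK_germ hy _⟩
    -- bounded pole order
    have hpole : ∀ i, ∃ n : ℕ, ∀ y ∈ V i, Reg y (φK f a ^ n * b i) := by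
      intro i
      haveI := hVne i
      let αi : Γ(X, V i) := X.presheaf.map (homOfLE le_top).op (glob f a)
      have hle' : X.basicOpen αi ≤ CohAff.inter (X := X.toPresheafedSpace.carrier) W (fun _ : Fin 1 => i) :=
        CohAff.le_inter fun _ => by
          rw [Scheme.basicOpen_res]
          exact le_inf inf_le_right inf_le_left
      haveI := (hV i).isLocalization_basicOpen αi
      obtain ⟨⟨g, ⟨_, n, rfl⟩⟩, hg⟩ := IsLocalization.surj (Submonoid.powers αi)
        (X.presheaf.map (homOfLE hle').op (OmegaSh.fnSect X _ (t fun _ => i)))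
      refine ⟨n, fun y hy => ⟨X.presheaf.germ (V i) y hy g, ?_⟩⟩
      rw [toK_germ]
      have hgb : genericPoint X ∈ X.basicOpen αi := by
        rw [Scheme.basicOpen_res]
        exact ⟨(hgWV i).2, (hgWV i).1⟩
      have h1 := congrArg (X.presheaf.germ (X.basicOpen αi) (genericPoint X) hgb) hg
      change X.presheaf.germ _ _ hgb (_ * X.presheaf.map (homOfLE (X.basicOpen_le αi)).op (αi ^ n)) =
        X.presheaf.germ _ _ hgb (X.presheaf.map (homOfLE (X.basicOpen_le αi)).op g) at h1
      rw [map_mul, TopCat.Presheaf.germ_res_apply, TopCat.Presheaf.germ_res_apply, TopCat.Presheaf.germ_res_apply,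
        map_pow] at h1
      refine h1.symm.trans ?_
      rw [mul_comm]
      congr 2
      exact X.presheaf.germ_res_apply _ _ _ _
    choose n hn using hpole
    let N := Finset.univ.sup n
    let r : X → X.functionField := fun x => b ⟨ix x, hixS x⟩
    obtain ⟨β, hβ⟩ := exists_global_part f hXn hf hconn hdim ha hdvr
      (fun x => V ⟨ix x, hixS x⟩) (fun x => hV _) hix N r
      (fun x x' y hy hy' => by
        show Reg y (b _ - b _)
        have e := hb ![⟨ix x', hixS x'⟩, ⟨ix x, hixS x⟩]
        simp only [Matrix.cons_val_zero, Matrix.cons_val_one] at e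
        rw [← e]
        exact hregc _ _ _ y (CohAff.mem_inter.2 fun k => by fin_cases k <;> assumption))
      (fun x y hy => by
        obtain ⟨v, hv⟩ := hn ⟨ix x, hixS x⟩ y hy
        obtain ⟨e, he⟩ : ∃ e, N = n ⟨ix x, hixS x⟩ + e :=
          Nat.exists_eq_add_of_le (Finset.le_sup (f := n) (Finset.mem_univ _))
        refine ⟨X.presheaf.germ ⊤ y trivial (glob f a) ^ e * v, ?_⟩
        rw [map_mul, map_pow, toK_glob, hv, he, pow_add]
        ring)
    have hsec : ∀ i, ∀ y ∈ V i, ringKrullDim (X.presheaf.stalk y) = 1 → Reg y (b i - β) := by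
      intro i y hy _
      have h2 : Reg y (b i - b ⟨ix y, hixS y⟩) := by
        have e := hb ![⟨ix y, hixS y⟩, i]
        simp only [Matrix.cons_val_zero, Matrix.cons_val_one] at e
        rw [← e]
        exact hregc _ _ _ y (CohAff.mem_inter.2 fun k => by fin_cases k <;> [exact hix y; exact hy])
      simpa [Reg, r] using (toK y).range.add_mem h2 (hβ y)
    choose u hu using fun i => (haveI := hVne i; exists_section hXn (hV i) (b i - β) (hsec i))
    let t' : CohAff.Cochain (X := X.toPresheafedSpace.carrier) (Coh.structureModule X).presheaf V 0 := fun x =>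
      CohAff.res (X := X.toPresheafedSpace.carrier) (Coh.structureModule X).presheaf
        (CohAff.inter_le V x 0) (OmegaSh.strSect X _ (u (x 0)))
    refine ⟨t', ?_⟩
    funext x
    have hgV : ∀ i, genericPoint X ∈ V i := fun i => (hgWV i).2
    have hgx : genericPoint X ∈ CohAff.inter (X := X.toPresheafedSpace.carrier) V x := hle x (hgi x)
    haveI : Nonempty (CohAff.inter (X := X.toPresheafedSpace.carrier) V x : X.Opens) := ⟨⟨_, hgx⟩⟩
    refine (X.germToFunctionField_injective (CohAff.inter (X := X.toPresheafedSpace.carrier) V x) :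
      Function.Injective _) ?_
    show gval _ hgx _ = gval _ hgx (c x)
    refine (gval_cd hgV t' x hgx).trans ?_
    rw [hb]
    simp only [t']
    rw [gval_res, gval_res]
    show X.germToFunctionField _ (u (x 1)) - X.germToFunctionField _ (u (x 0)) = _
    rw [hu, hu]
    ring
  have h1 := (exact_iff_subsingleton V (fun x => hinter V hV x)).1 hex
  rw [hcov] at h1
  exact (CohTop.Basic.HEquivHUTop (Coh.toAb (Coh.structureModule X)) 1).toEquiv.subsingleton

end Groth.Agent.S1648
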