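import Groth.Statements.S16482
-- import your own Groth.Agent.* helpers here

set_option autoImplicit false
open CategoryTheory CategoryTheory.Limits AlgebraicGeometry
universe u
open FrobSch

namespace Groth.Agent.S16482

/-- Let p be a prime and S a reduced scheme on which p = 0 whose absolute Frobenius is flat; let Y be a
reduced S-scheme with structure map a, Z an S-scheme with structure map b, and g₁, g₂ : Y ⟶ Z two
S-morphisms. For i = 1, 2 let h_i : Y ⟶ Z^(p) be the relative Frobenius F_{Y/S} : Y ⟶ Y^(p) followed
by the base change Y^(p) ⟶ Z^(p) of g_i along the absolute Frobenius of S. If h₁ = h₂, then g₁ = g₂.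
(The published statement works over the reduced special fibre of a flat formal scheme of finite type
over the Witt vectors of a perfect field; only reducedness of S and flatness of its absolute
Frobenius are kept here.) -/
theorem result (p : ℕ) [Fact p.Prime]
    {Y Z S : Scheme.{u}} [FrobSch.IsCharP S p] [IsReduced S] [Flat (FrobSch.frob S p)]
    [IsReduced Y] (a : Y ⟶ S) (b : Z ⟶ S) (g₁ g₂ : Y ⟶ Z) (hg₁ : g₁ ≫ b = a) (hg₂ : g₂ ≫ b = a)
    (h : FrobSch.relFrob a p ≫ pullback.map a (FrobSch.frob S p) b (FrobSch.frob S p) g₁ (𝟙 S) (𝟙 S)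
        ((Category.comp_id a).trans hg₁.symm) ((Category.comp_id _).trans (Category.id_comp _).symm) =
      FrobSch.relFrob a p ≫ pullback.map a (FrobSch.frob S p) b (FrobSch.frob S p) g₂ (𝟙 S) (𝟙 S)
        ((Category.comp_id a).trans hg₂.symm) ((Category.comp_id _).trans (Category.id_comp _).symm)) :
    g₁ = g₂ := by
  haveI : FrobSch.IsCharP Y p := FrobSch.IsCharP.of_hom a p
  have key : FrobSch.frob Y p ≫ g₁ = FrobSch.frob Y p ≫ g₂ := by
    have h' := congrArg (fun m => m ≫ pullback.fst b (FrobSch.frob S p)) h
    simp only [pullback.map] at h'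
    rwa [Category.assoc, Category.assoc, pullback.lift_fst, pullback.lift_fst, ← Category.assoc, ← Category.assoc,
      FrobSch.relFrob_fst] at h'
  have hinj : ∀ V : Y.Opens, Function.Injective (fun t : Γ(Y, V) => t ^ p) := by
    intro V x y hxy
    have hx : FrobSch.powHom p Γ(Y, V) (FrobSch.natCast_eq_zero_app Y p V) (x - y) = 0 := by
      rw [map_sub, sub_eq_zero]; exact hxy
    exact sub_eq_zero.1 (IsReduced.eq_zero _ ⟨p, hx⟩)
  have hbase : g₁.base = g₂.base := by
    have := congrArg (fun m : Y ⟶ Z => m.base) key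
    simpa using this
  refine (Scheme.Hom.ext hbase.symm fun U => ?_).symm
  ext s
  have e := congrArg (fun m => m s) (Scheme.Hom.congr_app key U)
  apply hinj (g₁ ⁻¹ᵁ U)
  simp only
  refine Eq.trans ?_ e.symm
  exact (map_pow (Y.presheaf.map (eqToHom _).op).hom _ p).symm

end Groth.Agent.S16482
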