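import Groth.Statements.S16485
import Groth.Agent.HomShEval.Basic
-- import your own Groth.Agent.* helpers here

set_option autoImplicit false
universe u
open CategoryTheory AlgebraicGeometry
open RefHull

namespace Groth.Agent.S16485

/-- Let X be a scheme, F and G O_X-modules with F of finite presentation, and x a point of X. Then the
canonical O_{X,x}-linear map 𝓗om_{O_X}(F, G)_x → Hom_{O_{X,x}}(F_x, G_x), which sends the germ at x
of a section of the sheaf Hom to the stalk map it induces at x, is bijective. (The source states
this for modules on an arbitrary ringed space; it is stated here for schemes, where the sheaf Hom of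
the statement is available.) -/
theorem result (X : Scheme.{u}) (F G : X.Modules) (hF : CohB1.IsFP F) (x : X) :
    Function.Bijective (RefHull.evalStalk F G x) := by
  suffices hT : CohB1.IsFT F from
    ⟨Groth.Agent.HomShEval.evalStalk_injective F G hT x, Groth.Agent.HomShEval.evalStalk_surjective F G hF x⟩
  haveI : SheafOfModules.IsFinitePresentation.{u} F := hF
  obtain ⟨σ, hσ⟩ := SheafOfModules.IsFinitePresentation.exists_quasicoherentData.{u} F
  haveI := hσ
  exact SheafOfModules.IsFiniteType.mk.{u} ⟨σ.localGeneratorsData,
    SheafOfModules.LocalGeneratorsData.IsFiniteType.mk.{u} fun i => (hσ.isFinite_presentation i).isFiniteType_generators⟩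

end Groth.Agent.S16485
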