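import Groth.Statements.S16489
import Groth.Agent.NormSh38.Basic
import Groth.Agent.S7862
import Groth.Agent.FreeAlong.Stalk

set_option autoImplicit false
universe u
open CategoryTheory CategoryTheory.Limits AlgebraicGeometry TopologicalSpace
open VBPn

namespace Groth.Agent.S16489

/-- Let X be an integral locally Noetherian scheme all of whose local rings are regular, and F a
coherent O_X-module. Call F normal when for all open subsets V ⊆ U of X such that every point of U
not in V has local ring O_{X,x} of dimension at least 2, the restriction map F(U) → F(V) is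
bijective. Then F is reflexive (the canonical map F → F^** is an isomorphism) if and only if F is
torsion-free (each stalk F_x is a torsion-free O_{X,x}-module) and normal. The published statement
is for coherent analytic sheaves on a complex manifold, a sheaf being called normal when for every
open U and every analytic subset A ⊆ U of codimension at least 2 the restriction F(U) → F(U ∖ A) is
bijective; this row is its statement for coherent sheaves on a regular integral locally Noetherian
scheme, with normality phrased through open subsets V ⊆ U whose complement in U consists of points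
with local ring of dimension at least 2, where the same argument applies. -/
theorem result (X : Scheme.{u}) [IsIntegral X] [IsLocallyNoetherian X]
    (hreg : ∀ x : X, IsRegularLocalRing (X.presheaf.stalk x)) (F : X.Modules) (hF : Coh.IsCoh F) :
    RefHull.IsReflexive F ↔
      TorSh.IsTorsionFree F ∧
      (∀ (U V : X.Opens) (hVU : V ≤ U), (∀ x : X, x ∈ U → x ∉ V → (2 : WithBot ℕ∞) ≤ ringKrullDim (X.presheaf.stalk x)) →
        Function.Bijective (F.presheaf.map (homOfLE hVU).op)) := by
  haveI := hF.1
  have hdep : ∀ (G : X.Modules), Coh.IsCoh G →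
      (∀ x, Module.IsReflexive (X.presheaf.stalk x) (G.presheaf.stalk x)) →
      ∀ x : X, (2 : WithBot ℕ∞) ≤ ringKrullDim (X.presheaf.stalk x) →
        (2 : ℕ∞) ≤ LocCoh.depth (X.presheaf.stalk x) (G.presheaf.stalk x) := by
    intro G hG hr x hx
    haveI := hreg x
    haveI := hr x
    haveI := Groth.Agent.HomShQC.finite_stalk G hG.2 x
    exact Groth.Agent.S1691.two_le_depth_of_isReflexive _ _ (Groth.Agent.NormSh38.two_le_depth_of_regular x hx)
  constructor
  · intro hrefl
    have hr := (Groth.Agent.HomShQC.isReflexive_iff_of_isCoh F hF).mp hrefl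
    refine ⟨fun x => ?_, fun U V hVU hbig =>
      Groth.Agent.NormSh38.bijective_restrict F hF (hdep F hF hr) U V hVU hbig⟩
    haveI : Module.IsReflexive (X.presheaf.stalk x) (F.presheaf.stalk x) := hr x
    exact (Module.bijective_dual_eval (X.presheaf.stalk x) (F.presheaf.stalk x)).1.moduleIsTorsionFree _
      (Module.Dual.eval _ _).map_smul
  · rintro ⟨htf, hnorm⟩
    obtain ⟨hD, hDr⟩ := Groth.Agent.Ref1.isReflexive_ddual F hF
    have hDx := (Groth.Agent.HomShQC.isReflexive_iff_of_isCoh _ hD).mp hDr
    let O : X.Opens := ⟨{x | ∃ (V : X.Opens) (n : ℕ), x ∈ V ∧ Nonempty (F.restrict V.ι ≅ FlatMod.freeMod V n)}, by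
      rw [isOpen_iff_forall_mem_open]
      rintro x ⟨V, n, hV, e⟩
      exact ⟨V, fun y hy => ⟨V, n, hy, e⟩, V.2, hV⟩⟩
    have hbig : ∀ x : X, x ∉ O → (2 : WithBot ℕ∞) ≤ ringKrullDim (X.presheaf.stalk x) := by
      intro x hx
      by_contra hlt
      apply hx
      haveI := hreg x
      haveI := Groth.Agent.RegLoc.UFD.uniqueFactorizationMonoid (X.presheaf.stalk x)
      haveI := htf x
      haveI : Ring.KrullDimLE 1 (X.presheaf.stalk x) := by
        rw [Ring.krullDimLE_iff]
        obtain ⟨d, hd⟩ := Groth.Agent.RegLoc.exists_natCast_eq_ringKrullDim (X.presheaf.stalk x)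
        rw [hd.1] at hlt ⊢
        have h1 : ¬ 2 ≤ d := fun h => hlt (by exact_mod_cast h)
        exact_mod_cast (show d ≤ 1 by omega)
      haveI := Groth.Agent.FDesc.QuasiFlat.finite_stalk_of_isCoh F hF x
      obtain ⟨_, ⟨W, hW, rfl⟩, hxW, -⟩ :=
        X.isBasis_affineOpens.exists_subset_of_mem_open (Set.mem_univ x) isOpen_univ
      haveI : IsNoetherianRing Γ(X, W) := IsLocallyNoetherian.component_noetherian ⟨W, hW⟩
      haveI := hF.2
      haveI := Groth.Agent.QCoh.finite_sections_of_isFiniteType F hW
      exact Groth.Agent.Props.QProj.exists_free_nhd F hW hxW (Module.finitePresentation_of_finite _ _)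
        (Groth.Agent.S7862.free_of_dim_le_one _ _)
    have hlf : FlatMod.IsFinLocFree (F.restrict O.ι) :=
      Groth.Agent.S7862.isFinLocFree_restrict_of_forall O fun x hx => hx
    have hbij : ∀ x ∈ O, Function.Bijective (RefHull.stalkMapₗ (RefHull.bidualMap F) x) := fun x hx => by
      refine (Groth.Agent.HomShEval.Reflexive.bijective_stalkMap_bidualMap_iff F hF x).mpr ?_
      haveI := Groth.Agent.FreeAlong.free_stalk_of_restrict F hlf hx
      haveI := Groth.Agent.HomShQC.finite_stalk F hF.2 x
      exact inferInstanceAs (Module.IsReflexive (X.presheaf.stalk x) (F.presheaf.stalk x))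
    refine Scheme.Modules.Hom.isIso_iff_isIso_app.mpr fun V => (ConcreteCategory.isIso_iff_bijective _).mpr ?_
    have h1 : Function.Bijective ((RefHull.bidualMap F).app (V ⊓ O)) := by
      let FM : TopCat.Sheaf AddCommGrpCat.{u} X := ⟨F.presheaf, F.isSheaf⟩
      let FD : TopCat.Sheaf AddCommGrpCat.{u} X :=
        ⟨(RefHull.ddual F).presheaf, (RefHull.ddual F).isSheaf⟩
      let φ : FM ⟶ FD := ⟨(RefHull.bidualMap F).mapPresheaf⟩
      exact ⟨TopCat.Presheaf.app_injective_of_stalkFunctor_map_injective (F := FM) φ.1 (V ⊓ O)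
          fun x hx => (hbij x hx.2).1,
        TopCat.Presheaf.app_surjective_of_stalkFunctor_map_bijective φ (V ⊓ O)
          fun x hx => hbij x hx.2⟩
    have hb : ∀ x : X, x ∈ V → x ∉ V ⊓ O → (2 : WithBot ℕ∞) ≤ ringKrullDim (X.presheaf.stalk x) :=
      fun x hx hxn => hbig x fun h => hxn ⟨hx, h⟩
    have h2 := Groth.Agent.NormSh38.bijective_restrict (RefHull.ddual F) hD (hdep _ hD hDx) V (V ⊓ O) inf_le_left hb
    have h3 := hnorm V (V ⊓ O) inf_le_left hb
    have h5 : ((RefHull.bidualMap F).app (V ⊓ O) : _ → _) ∘
        (F.presheaf.map (homOfLE (inf_le_left : V ⊓ O ≤ V)).op : _ → _) =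
        ((RefHull.ddual F).presheaf.map (homOfLE (inf_le_left : V ⊓ O ≤ V)).op : _ → _) ∘
          ((RefHull.bidualMap F).app V : _ → _) :=
      funext fun v => ConcreteCategory.congr_hom
        ((RefHull.bidualMap F).mapPresheaf.naturality (homOfLE (inf_le_left : V ⊓ O ≤ V)).op) v
    exact (Function.Bijective.of_comp_iff' h2 _).mp (h5 ▸ h1.comp h3)

end Groth.Agent.S16489
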