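import Groth.Statements.S16490
import Groth.Agent.NormSh38.Basic
import Groth.Agent.QCoh.Exact

set_option autoImplicit false
universe u
open CategoryTheory CategoryTheory.Limits AlgebraicGeometry TopologicalSpace
open VBPn

namespace Groth.Agent.S16490

open Groth.Agent.HomShQC Groth.Agent.Ref1 Groth.Agent.QCoh Groth.Agent.PullStalk.Sky

/-- Let X be an integral locally Noetherian scheme all of whose local rings are regular, and let 0 → F →
E → Q → 0 be a short exact sequence of coherent O_X-modules in which E is reflexive (the canonical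
map E → E^** is an isomorphism) and Q is torsion-free (every stalk Q_x is a torsion-free
O_{X,x}-module). Then F is normal: for all open subsets V ⊆ U of X such that every point of U not in
V has local ring of dimension at least 2, the restriction map F(U) → F(V) is bijective. The
published statement is for coherent analytic sheaves on a complex manifold, a sheaf being called
normal when for every open U and every analytic subset A ⊆ U of codimension at least 2 the
restriction F(U) → F(U ∖ A) is bijective; this row is its statement for coherent sheaves on a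
regular integral locally Noetherian scheme, with normality phrased through open subsets V ⊆ U whose
complement in U consists of points with local ring of dimension at least 2, where the same argument
applies. -/
theorem result (X : Scheme.{u}) [IsIntegral X] [IsLocallyNoetherian X]
    (hreg : ∀ x : X, IsRegularLocalRing (X.presheaf.stalk x)) (S : ShortComplex X.Modules) (hS : S.ShortExact)
    (hF : Coh.IsCoh S.X₁) (hE : Coh.IsCoh S.X₂) (hQ : Coh.IsCoh S.X₃)
    (hErefl : RefHull.IsReflexive S.X₂) (hQtf : TorSh.IsTorsionFree S.X₃) :
    (∀ (U V : X.Opens) (hVU : V ≤ U), (∀ x : X, x ∈ U → x ∉ V → (2 : WithBot ℕ∞) ≤ ringKrullDim (X.presheaf.stalk x)) →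
        Function.Bijective (S.X₁.presheaf.map (homOfLE hVU).op)) := by
  intro U V hVU hbig
  haveI := hQ.1
  haveI := hS.mono_f
  have hE2 : Function.Bijective (S.X₂.presheaf.map (homOfLE hVU).op) := by
    refine Groth.Agent.NormSh38.bijective_restrict S.X₂ hE (fun x hx => ?_) U V hVU hbig
    haveI := hreg x
    haveI : Module.IsReflexive (X.presheaf.stalk x) (S.X₂.presheaf.stalk x) :=
      (Groth.Agent.HomShQC.isReflexive_iff_of_isCoh _ hE).mp hErefl x
    haveI := Groth.Agent.HomShQC.finite_stalk S.X₂ hE.2 x
    exact Groth.Agent.S1691.two_le_depth_of_isReflexive _ _ (Groth.Agent.NormSh38.two_le_depth_of_regular x hx)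
  have hfU := Groth.Agent.QCoh.app_injective_of_mono S.f U
  have hfV := Groth.Agent.QCoh.app_injective_of_mono S.f V
  have hnat : ∀ a : Γ(S.X₁, U), S.f.app V (S.X₁.presheaf.map (homOfLE hVU).op a) =
      S.X₂.presheaf.map (homOfLE hVU).op (S.f.app U a) := fun a =>
    ConcreteCategory.congr_hom (S.f.mapPresheaf.naturality (homOfLE hVU).op) a
  have hnat' : ∀ a : Γ(S.X₂, U), S.g.app V (S.X₂.presheaf.map (homOfLE hVU).op a) =
      S.X₃.presheaf.map (homOfLE hVU).op (S.g.app U a) := fun a =>
    ConcreteCategory.congr_hom (S.g.mapPresheaf.naturality (homOfLE hVU).op) a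
  have hQ2 : ∀ q : Γ(S.X₃, U), S.X₃.presheaf.map (homOfLE hVU).op q = 0 → q = 0 := by
    intro q hq
    refine Groth.Agent.HomShQC.sec_ext S.X₃ fun y hy => ?_
    have hηU : genericPoint X ∈ U := (Groth.Agent.Ref1.hsp y).mem_open U.2 hy
    have hηV : genericPoint X ∈ V := by
      by_contra h
      have h2 := hbig _ hηU h
      rw [ringKrullDim_eq_zero_of_field (X.functionField)] at h2
      exact absurd h2 (by decide)
    refine Groth.Agent.Ref1.toη_injective S.X₃ y (hQtf y) ?_
    rw [Groth.Agent.Ref1.toη, Groth.Agent.Ref1.sp_germ, Groth.Agent.Ref1.sp_germ,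
      ← germM_res S.X₃ hVU _ hηV q, show res S.X₃ hVU q = 0 from hq]
    exact (map_zero _).trans (map_zero _).symm
  refine ⟨fun a b hab => hfU (hE2.1 ?_), fun w => ?_⟩
  · rw [← hnat, ← hnat]
    exact congrArg _ hab
  · obtain ⟨e, he⟩ := hE2.2 (S.f.app V w)
    have h0 : S.g.app U e = 0 := hQ2 _ (by
      rw [← hnat', he]
      exact Groth.Agent.QCoh.app_app_eq_zero S V w)
    obtain ⟨a, rfl⟩ := Groth.Agent.QCoh.exists_app_eq_of_app_eq_zero S hS.exact U e h0
    exact ⟨a, hfV ((hnat a).trans he)⟩

end Groth.Agent.S16490
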