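import Groth.Statements.S16491
import Groth.Agent.Ref1.Hull
import Groth.Agent.LFDesc.Invertible
import Groth.Agent.RegLoc.UFD
import Groth.Agent.DomMod.Basic

set_option autoImplicit false
universe u
open CategoryTheory CategoryTheory.Limits AlgebraicGeometry TopologicalSpace
open VBPn

namespace Groth.Agent.S16491

open Groth.Agent.HomShQC Groth.Agent.Ref1 Groth.Agent.QCoh Groth.Agent.PullStalk.Sky

/-- Over a Noetherian factorial domain a reflexive module embedded in the ring is free of rank one. -/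
theorem exists_basis_of_injective {R : Type u} [CommRing R] [IsDomain R] [UniqueFactorizationMonoid R]
    {M : Type u} [AddCommGroup M] [Module R M] [Module.Finite R M] [Module.IsReflexive R M]
    (i : M →ₗ[R] R) (hi : Function.Injective i) (m0 : M) (hm0 : m0 ≠ 0) :
    Nonempty (Module.Basis (Fin 1) R M) := by
  classical
  letI : StrongNormalizationMonoid R := UniqueFactorizationMonoid.normalizationMonoid
  letI : NormalizedGCDMonoid R := UniqueFactorizationMonoid.toNormalizedGCDMonoid R
  obtain ⟨s, hs⟩ := (‹Module.Finite R M›).fg_top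
  let d : R := s.gcd i
  have hdm : ∀ m : M, d ∣ i m := fun m => by
    have hm : m ∈ Submodule.span R (s : Set M) := hs ▸ Submodule.mem_top
    induction hm using Submodule.span_induction with
    | mem x hx => exact Finset.gcd_dvd hx
    | zero => rw [map_zero]; exact dvd_zero _
    | add x y _ _ hx hy => rw [map_add]; exact dvd_add hx hy
    | smul a x _ hx => rw [map_smul, smul_eq_mul]; exact dvd_mul_of_dvd_right hx a
  have hi0 : i m0 ≠ 0 := fun h => hm0 (hi (h.trans (map_zero i).symm))
  have hd0 : d ≠ 0 := fun h => hi0 (zero_dvd_iff.mp (h ▸ hdm m0))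
  have hsymm : ∀ (φ : Module.Dual R M) (m : M), φ m * i m0 = φ m0 * i m := fun φ m => by
    have hz : i m0 • m - i m • m0 = 0 := hi (by simp [mul_comm])
    have h1 := congrArg φ hz
    simp only [map_sub, map_smul, smul_eq_mul, map_zero, sub_eq_zero] at h1
    rw [mul_comm, h1, mul_comm]
  have hdiv : ∀ φ : Module.Dual R M, ∃ c : R, c * i m0 = φ m0 * d := fun φ => by
    have h1 : i m0 ∣ s.gcd (fun m => φ m0 * i m) :=
      Finset.dvd_gcd fun m _ => ⟨φ m, by rw [← hsymm φ m, mul_comm]⟩
    obtain ⟨c, hc⟩ := h1.trans (Finset.gcd_mul_left' (s := s) (f := i) (φ m0)).dvd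
    exact ⟨c, by rw [hc, mul_comm]⟩
  choose c hc using hdiv
  let Ξ : Module.Dual R (Module.Dual R M) :=
    { toFun := c
      map_add' := fun φ ψ => mul_right_cancel₀ hi0 (by
        rw [hc, add_mul, hc, hc, LinearMap.add_apply, add_mul])
      map_smul' := fun a φ => mul_right_cancel₀ hi0 (by
        rw [RingHom.id_apply, hc, smul_eq_mul, mul_assoc, hc, LinearMap.smul_apply, smul_eq_mul, mul_assoc]) }
  obtain ⟨m, hm⟩ := (Module.bijective_dual_eval R M).2 Ξ
  have him : i m = d := by
    have h1 : i m = c i := LinearMap.congr_fun hm i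
    rw [h1]
    exact mul_right_cancel₀ hi0 (by rw [hc, mul_comm])
  refine ⟨Module.Basis.mk (v := fun _ : Fin 1 => m) ?_ ?_⟩
  · rw [Fintype.linearIndependent_iff]
    intro g hg j
    have h1 := congrArg i hg
    rw [Fin.sum_univ_one, map_smul, map_zero, smul_eq_mul, him] at h1
    rw [Subsingleton.elim j 0]
    exact (mul_eq_zero.mp h1).resolve_right hd0
  · intro x _
    obtain ⟨a, ha⟩ := hdm x
    have : x = a • m := hi (by rw [map_smul, him, ha, smul_eq_mul, mul_comm])
    rw [this]
    exact Submodule.smul_mem _ _ (Submodule.subset_span ⟨0, rfl⟩)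

/-- Let X be an integral locally Noetherian scheme all of whose local rings are regular, and F a
coherent O_X-module which is reflexive (the canonical map F → F^** is an isomorphism) and of rank 1
(F restricts to an invertible module on some dense open subset of X). Then F is invertible: every
point has an open neighbourhood on which F is isomorphic to the structure sheaf. The published
statement is for reflexive coherent analytic sheaves of rank 1 on a complex manifold; this row is
its statement on a regular integral locally Noetherian scheme, whose local rings are factorial as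
the argument requires. -/
theorem result (X : Scheme.{u}) [IsIntegral X] [IsLocallyNoetherian X]
    (hreg : ∀ x : X, IsRegularLocalRing (X.presheaf.stalk x)) (F : X.Modules) (hF : Coh.IsCoh F)
    (hrefl : RefHull.IsReflexive F) (hrk : RefHull.GenInvertible F) :
    PicF.IsInvertible F := by
  haveI := hF.1
  obtain ⟨U, hUd, hUi⟩ := hrk
  set η := genericPoint X
  obtain ⟨z, -, hzU⟩ := hUd.inter_open_nonempty _ isOpen_univ ⟨η, trivial⟩
  have hηU : η ∈ U := (hsp z).mem_open U.2 hzU
  obtain ⟨W, e, hηW, he⟩ := Groth.Agent.LFDesc.exists_frame_one hUi ⟨η, hηU⟩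
  have hηW' : η ∈ U.ι ''ᵁ W := ⟨⟨η, hηU⟩, hηW, rfl⟩
  let e₀ : Γ(F, U.ι ''ᵁ W) := e 0
  let w₀ := germM F (U.ι ''ᵁ W) η hηW' e₀
  have hgen : ∀ w : F.presheaf.stalk η, ∃ a : X.presheaf.stalk η, w = a • w₀ := by
    intro w
    obtain ⟨O, hηO, m, rfl⟩ := exists_germM_eq F η w
    let W' : U.toScheme.Opens := W ⊓ U.ι ⁻¹ᵁ O
    have hηW'' : η ∈ U.ι ''ᵁ W' := ⟨⟨η, hηU⟩, ⟨hηW, hηO⟩, rfl⟩
    have hle : U.ι ''ᵁ W' ≤ O := by
      rintro _ ⟨y, hy, rfl⟩; exact hy.2
    have hle' : U.ι ''ᵁ W' ≤ U.ι ''ᵁ W := U.ι.image_mono inf_le_left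
    obtain ⟨a, ha⟩ := (he W' inf_le_left).2 (show Γ(F.restrict U.ι, W') from res F hle m)
    refine ⟨X.presheaf.germ (U.ι ''ᵁ W') η hηW'' ((U.ι.appIso W').inv (a 0)), ?_⟩
    rw [← germM_res F hle η hηW'' m, show w₀ = germM F (U.ι ''ᵁ W') η hηW'' (res F hle' e₀) from
      (germM_res F hle' η hηW'' e₀).symm, ← germM_smul]
    refine congrArg _ (ha.symm.trans ?_)
    rw [LFFrame.comb, Fin.sum_univ_one]
    exact QCoh.restrict_smul U.ι F (a 0) _
  have hne : w₀ ≠ 0 := by
    intro h0
    obtain ⟨O, hηO, i₁, i₂, heq⟩ := F.presheaf.germ_eq η hηW' hηW' e₀ 0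
      (by exact h0.trans (map_zero (F.presheaf.germ (U.ι ''ᵁ W) η hηW').hom).symm)
    let W' : U.toScheme.Opens := W ⊓ U.ι ⁻¹ᵁ O
    have hle : U.ι ''ᵁ W' ≤ O := by rintro _ ⟨y, hy, rfl⟩; exact hy.2
    have h1 : F.presheaf.map (homOfLE (U.ι.image_mono (inf_le_left : W' ≤ W))).op e₀ = 0 := by
      have h2 := congrArg (F.presheaf.map (homOfLE hle).op) heq
      rw [← ConcreteCategory.comp_apply, ← ConcreteCategory.comp_apply, ← Functor.map_comp,
        ← Functor.map_comp, map_zero] at h2
      exact h2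
    haveI : Nonempty (W' : U.toScheme.Opens) := ⟨⟨⟨η, hηU⟩, hηW, hηO⟩⟩
    haveI : Nonempty ↥(U.ι ''ᵁ W') := ⟨⟨η, ⟨η, hηU⟩, ⟨hηW, hηO⟩, rfl⟩⟩
    have h3 := (he W' inf_le_left).1 (a₁ := fun _ => 1) (a₂ := fun _ => 0) (by
      rw [LFFrame.comb, LFFrame.comb, Fin.sum_univ_one, Fin.sum_univ_one, zero_smul, one_smul]
      exact h1)
    exact one_ne_zero (α := Γ(X, U.ι ''ᵁ W')) (congrFun h3 0)
  refine Groth.Agent.LFDesc.isInvertible_of_stalks F (fun V hV => ?_) fun x => ?_
  · haveI := hF.2
    exact Groth.Agent.QCoh.finite_sections_of_isFiniteType F hV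
  haveI := hreg x
  haveI := Groth.Agent.RegLoc.UFD.uniqueFactorizationMonoid (X.presheaf.stalk x)
  haveI := finite_stalk F hF.2 x
  haveI : Module.IsReflexive (X.presheaf.stalk x) (F.presheaf.stalk x) :=
    (isReflexive_iff_of_isCoh F hF).mp hrefl x
  haveI htf : Module.IsTorsionFree (X.presheaf.stalk x) (F.presheaf.stalk x) :=
    (Module.bijective_dual_eval (X.presheaf.stalk x) (F.presheaf.stalk x)).1.moduleIsTorsionFree _
      (Module.Dual.eval _ _).map_smul
  have hinjη := toη_injective F x htf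
  obtain ⟨a₀, m0, ha₀, hm0⟩ := exists_smul_eq_toη F x w₀
  letI : Field (X.presheaf.stalk η) := inferInstanceAs (Field X.functionField)
  have hm0' : m0 ≠ 0 := by
    rintro rfl
    rw [map_zero] at hm0
    exact hne ((smul_eq_zero.mp hm0.symm).resolve_left (toK_ne_zero ha₀))
  obtain ⟨n, g, hg⟩ := Groth.Agent.DomMod.exists_injective_of_isTorsionFree (R := X.presheaf.stalk x)
    (M := F.presheaf.stalk x)
  obtain ⟨j, hj⟩ : ∃ j, g m0 j ≠ 0 := by
    by_contra hcon
    push Not at hcon
    exact hm0' (hg ((funext hcon).trans (map_zero g).symm))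
  refine exists_basis_of_injective ((LinearMap.proj j).comp g) ?_ m0 hm0'
  rw [injective_iff_map_eq_zero]
  intro m hm
  -- `m` and `m0` are dependent
  obtain ⟨b, hb⟩ := hgen (toη F x m)
  obtain ⟨⟨p, q⟩, hpq⟩ := IsLocalization.surj (nonZeroDivisors (X.presheaf.stalk x)) (b : X.functionField)
  have hdep : (q.1 * a₀) • m = p • m0 := hinjη (by
    rw [toη, sp_smul, sp_smul, ← toη, hm0, hb, smul_smul, smul_smul]
    congr 1
    rw [← toK, map_mul, toK_eq_algebraMap x p, ← hpq, toK_eq_algebraMap x q.1]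
    ring)
  have h1 := congrArg (fun v => g v j) hdep
  simp only [map_smul, Pi.smul_apply, smul_eq_mul] at h1
  rw [show g m j = 0 from hm, mul_zero] at h1
  have hp : p = 0 := (mul_eq_zero.mp h1.symm).resolve_right hj
  rw [hp, zero_smul] at hdep
  exact (smul_eq_zero.mp hdep).resolve_left (mul_ne_zero (nonZeroDivisors.ne_zero q.2) ha₀)

end Groth.Agent.S16491
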