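import Groth.Statements.S16496
import Groth.Agent.FlatHull19.Alg
import Groth.Agent.ZClosLib.StalkCrit
import Groth.Agent.WeilExt.Diag

set_option autoImplicit false
set_option linter.style.haveILetI false
universe u
open CategoryTheory AlgebraicGeometry
open SGA3

namespace Groth.Agent.S16496

/-- Let S be a Noetherian normal scheme, A a flat quasi-coherent O_S-module (not assumed of finite type)
and j : U → S the inclusion of an open subscheme containing every point of S whose local ring has
dimension at most 1. Then A = j_* j^* A: the unit A → j_*(A|_U) of the adjunction between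
restriction to U and direct image along j is an isomorphism. In the source U is the flatness locus
of a finite type submodule of A, an open which contains all points of codimension at most 1; the
printed argument uses only this property of U. -/
theorem result (S : Scheme.{u}) [IsNoetherian S]
    (hS : Pi1.IsNormalScheme S) (A : S.Modules) (hA : Coh.IsQCoh A) (hAfl : FlatMod.IsFlat A)
    (U : S.Opens) (hU : ∀ s : S, ringKrullDim (S.presheaf.stalk s) ≤ 1 → s ∈ U) :
    IsIso ((Scheme.Modules.restrictAdjunction U.ι).unit.app A) := by
  haveI : A.IsQuasicoherent := hA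
  refine (Groth.Agent.ZClosLib.isIso_unit_iff A U).mpr fun V => ?_
  let T : TopologicalSpace.Closeds S := ⟨(U : Set S)ᶜ, U.isOpen.isClosed_compl⟩
  have hTU : T.compl = U := TopologicalSpace.Opens.ext (compl_compl (U : Set S))
  suffices h : Function.Bijective (Groth.Agent.ZClosLib.resInf A T.compl V) by
    exact (congrArg (fun W => Function.Bijective (Groth.Agent.ZClosLib.resInf A W V)) hTU).mp h
  refine Groth.Agent.ZClosLib.StalkCrit.resInf_bijective T A fun y _ => ?_
  haveI := (hS y).1
  haveI := (hS y).2
  haveI : Module.Flat (S.presheaf.stalk y) (A.presheaf.stalk y) := hAfl y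
  refine Groth.Agent.FlatHull19.idealClosed_of_flat
    (Groth.Agent.FlatHull19.idealClosed_self fun p hp hp1 hle => ?_) _
  let q : PrimeSpectrum (S.presheaf.stalk y) := ⟨p, hp⟩
  have hq : q ∈ Groth.Agent.ZClosLib.StalkCrit.stalkPt y ⁻¹' (T : Set S) := by
    have h : q ∈ PrimeSpectrum.zeroLocus
        (Groth.Agent.ZClosLib.StalkCrit.stalkIdeal T y : Set (S.presheaf.stalk y)) := hle
    rw [Groth.Agent.ZClosLib.StalkCrit.stalkIdeal, PrimeSpectrum.zeroLocus_vanishingIdeal_eq_closure] at h
    exact (T.isClosed.preimage (S.fromSpecStalk y).continuous).closure_subset h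
  refine hq (hU _ ?_)
  exact (Groth.Agent.WeilExt.ringKrullDim_stalk_fromSpecStalk y q).le.trans (WithBot.coe_le_coe.mpr hp1)

end Groth.Agent.S16496
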