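import Groth.Statements.S16497
import Groth.Agent.NodalLib.GenusNorm
import Groth.Agent.NodalLib.FrobPush
import Groth.Agent.StrictSSLib.OdpEtale
import Groth.Agent.StrictSSLib.OdpDescent
import Groth.Agent.CurveCoh.Euler
import Groth.Agent.EulerChar.Torsion

set_option autoImplicit false
universe u
open CategoryTheory CategoryTheory.Limits AlgebraicGeometry Opposite
open Curves

namespace Groth.Agent.S16497

open Groth.Agent.PullStalk.Sky Groth.Agent.PullStalk.Exact
open Groth.Agent.NodalLib Groth.Agent.StrictSSLib IsLocalRing TopologicalSpace Opposite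
open Groth.Agent.Props.GenLocus Groth.Agent.QCoh

/-- The two axes of an element of the formal node have the same constant term. -/
theorem axes_constant {K : Type u} [Field K] (z : FormalNode K) :
    PowerSeries.constantCoeff (nodeAxis 0 z) = PowerSeries.constantCoeff (nodeAxis 1 z) := by
  obtain ⟨f, rfl⟩ := Ideal.Quotient.mk_surjective z
  rw [nodeAxis_mk, nodeAxis_mk, ← PowerSeries.coeff_zero_eq_constantCoeff_apply,
    ← PowerSeries.coeff_zero_eq_constantCoeff_apply, axisSeries, axisSeries, RingHom.coe_mk, MonoidHom.coe_mk,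
    OneHom.coe_mk, RingHom.coe_mk, MonoidHom.coe_mk, OneHom.coe_mk, PowerSeries.coeff_mk, PowerSeries.coeff_mk,
    Finsupp.single_zero, Finsupp.single_zero]

/-- A node is seminormal: a fraction whose `p`-th power is integral is integral. -/
theorem node_seminormal {K : Type u} [Field K] (p : ℕ) [Fact p.Prime] [CharP K p] {A : Type u} [CommRing A]
    [Algebra A (FormalNode K)] [Module.FaithfullyFlat A (FormalNode K)] {s a a₂ : A}
    (hs : ∀ i, nodeAxis i (algebraMap A (FormalNode K) s) ≠ 0)
    (hdiv : ∀ i, nodeAxis i (algebraMap A (FormalNode K) s) ∣ nodeAxis i (algebraMap A (FormalNode K) a))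
    (hp : a ^ p = s ^ p * a₂) : ∃ a', a = s * a' := by
  choose q hq using hdiv
  have hqp : ∀ i, q i ^ p = nodeAxis i (algebraMap A (FormalNode K) a₂) := fun i =>
    mul_left_cancel₀ (pow_ne_zero p (hs i)) (by rw [← mul_pow, ← hq, ← map_pow, ← map_pow, hp, map_mul, map_mul, map_pow, map_pow])
  have hc : PowerSeries.constantCoeff (q 0) = PowerSeries.constantCoeff (q 1) := by
    refine frobenius_inj K p ?_
    simp only [frobenius_def]
    rw [← map_pow, ← map_pow, hqp, hqp]
    exact axes_constant _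
  obtain ⟨n, hn⟩ := exists_node_axes q hc
  have h : algebraMap A (FormalNode K) a = algebraMap A (FormalNode K) s * n := sub_eq_zero.1 (node_ext fun i => by
    rw [map_sub, map_mul, hn, hq, sub_self])
  have hmem : a ∈ ((Ideal.span {s}).map (algebraMap A (FormalNode K))).comap (algebraMap A (FormalNode K)) := by
    rw [Ideal.mem_comap, Ideal.map_span, Set.image_singleton, h]
    exact Ideal.mem_span_singleton'.2 ⟨n, mul_comm _ _⟩
  rw [Ideal.comap_map_eq_self_of_faithfullyFlat] at hmem
  obtain ⟨a', ha'⟩ := Ideal.mem_span_singleton'.1 hmem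
  exact ⟨a', by rw [← ha', mul_comm]⟩

/-- Stalks of the abelian sheaf map. -/
noncomputable abbrev stk {C : Scheme.{u}} {F G : CohTop.Ab C.toTopCat} (ψ : F ⟶ G) (x : C) :
    TopCat.Presheaf.stalk F.obj x ⟶ TopCat.Presheaf.stalk G.obj x :=
  (TopCat.Presheaf.stalkFunctor AddCommGrpCat.{u} x).map ψ.hom

section

variable (p : ℕ) [Fact p.Prime] {C C' : Scheme.{u}} (π : C' ⟶ C)
  (φ' : Coh.toAb (Coh.structureModule C') ⟶ Coh.toAb (Coh.structureModule C'))
  (hφ' : ∀ (V : C'.Opens) (s : Γ(C', V)), (φ'.hom.app (op V)).hom s = s ^ p)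

/-- The `p`-th power map on the direct image. -/
noncomputable abbrev powPush : Coh.toAb (pushO π) ⟶ Coh.toAb (pushO π) := (CohTop.push π.base).map φ'

/-- The `p`-th power map on a stalk of the direct image. -/
noncomputable def powStalk (x : C) (m : (pushO π).presheaf.stalk x) : (pushO π).presheaf.stalk x := stk (powPush π φ') x m

include hφ' in
theorem powStalk_germ (W : C.Opens) (x : C) (hx : x ∈ W) (b : Γ(C', π ⁻¹ᵁ W)) :
    powStalk π φ' x (germM (pushO π) W x hx b) =
      germM (pushO π) W x hx (show Γ(pushO π, W) from b ^ p) :=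
  (TopCat.Presheaf.stalkFunctor_map_germ_apply W x hx (powPush π φ').hom b).trans
    (congrArg (fun z => germM (pushO π) W x hx z) (hφ' (π ⁻¹ᵁ W) b))

include hφ' in
theorem powStalk_smul (x : C) (a : C.presheaf.stalk x) (m : (pushO π).presheaf.stalk x) :
    powStalk π φ' x (a • m) = a ^ p • powStalk π φ' x m := by
  obtain ⟨W, hxW, b, rfl⟩ := exists_germM_eq (pushO π) x m
  obtain ⟨V, hxV, r, rfl⟩ := C.presheaf.exists_germ_eq a
  have h1 : germM (pushO π) W x hxW b = germM (pushO π) (V ⊓ W) x ⟨hxV, hxW⟩ (res (pushO π) inf_le_right b) :=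
    (GGDesc.germM_res_eq (pushO π) inf_le_right x ⟨hxV, hxW⟩ b).symm
  have h2 : C.presheaf.germ V x hxV r = C.presheaf.germ (V ⊓ W) x ⟨hxV, hxW⟩ (rres inf_le_left r) :=
    (C.presheaf.germ_res_apply _ _ _ _).symm
  rw [h1, h2, ← germM_smul, powStalk_germ p π φ' hφ', powStalk_germ p π φ' hφ', ← map_pow, ← germM_smul]
  exact congrArg (fun z => germM (pushO π) (V ⊓ W) x ⟨hxV, hxW⟩ z) (by
    show (π.app (V ⊓ W) _ * _) ^ p = π.app (V ⊓ W) _ * _
    rw [mul_pow, map_pow])

include hφ' in
theorem powStalk_one (x : C) : powStalk π φ' x (secGerm (unitMap π) x) = secGerm (unitMap π) x := by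
  rw [← germ_one π (U := ⊤) (x := x) trivial, powStalk_germ p π φ' hφ']
  exact congrArg (fun z => germM (pushO π) ⊤ x trivial z) (one_pow (M := Γ(C', π ⁻¹ᵁ ⊤)) p)

end

/-- On a reduced proper scheme every global function is a `p`-th power. -/
theorem exists_pow_eq_top (k : Type u) [Field k] [IsAlgClosed k] (p : ℕ) [Fact p.Prime] (X : Scheme.{u})
    [X.Over (Spec (CommRingCat.of k))] [IsProper (X ↘ Spec (CommRingCat.of k))] [IsReduced X] (z : Γ(X, ⊤)) :
    ∃ w : Γ(X, ⊤), w ^ p = z := by
  letI : Algebra k Γ(X, ⊤) := (Coh.toGlobal (X ↘ Spec (CommRingCat.of k))).toAlgebra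
  haveI := EulerChar.isNoetherian k (X := X)
  haveI := EulerChar.finite_HH k (Coh.structureModule X) (ProperFin.isCoh_structureModule X) 0
  let e : Coh.HH X (Coh.structureModule X) 0 ≃ₗ[k] Γ(X, ⊤) :=
    { Groth.Agent.AbVarLib.H0Field.h0Equiv X with
      map_smul' := fun c x ↦ Groth.Agent.AbVarLib.H0Field.h0Equiv_smul c x }
  haveI : Module.Finite k Γ(X, ⊤) := Module.Finite.equiv e
  haveI : IsArtinianRing Γ(X, ⊤) := IsArtinianRing.of_finite k _
  let d := IsArtinianRing.equivPi Γ(X, ⊤)
  have hroot : ∀ (I : MaximalSpectrum Γ(X, ⊤)) (a : Γ(X, ⊤) ⧸ I.asIdeal), ∃ b, b ^ p = a := fun I a => by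
    haveI := I.isMaximal
    letI : Field (Γ(X, ⊤) ⧸ I.asIdeal) := Ideal.Quotient.field _
    obtain ⟨c, rfl⟩ := (IsAlgClosed.algebraMap_bijective_of_isIntegral (k := k) (K := Γ(X, ⊤) ⧸ I.asIdeal)).2 a
    obtain ⟨c', rfl⟩ := IsAlgClosed.exists_pow_nat_eq c (Fact.out : p.Prime).pos
    exact ⟨algebraMap k _ c', (map_pow _ _ _).symm⟩
  choose b hb using fun I => hroot I (d z I)
  exact ⟨d.symm b, d.injective (by rw [map_pow, d.apply_symm_apply]; exact funext hb)⟩

/-- Let p be a prime, k an algebraically closed field with char k = p, and C a semi-stable curve over k,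
that is, C is reduced, proper over k and connected, every irreducible component of C has dimension
one, and the singularities of C are at worst nodal. Let π : C' → C be the normalisation of C, given
here as a finite morphism from a scheme all of whose local rings are integrally closed domains which
is an isomorphism over a dense open subset of C with dense preimage. Let φ and φ' be the
endomorphisms of the abelian sheaves underlying O_C and O_{C'} that raise sections to the p-th power
(they are pinned by this property). Call C ordinary when the additive map induced by φ on H^1(C,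
O_C) is bijective; for a proper curve over an algebraically closed field this is the same as asking
that the semisimple part of this p-linear endomorphism be all of H^1(C, O_C), and for a smooth curve
it is the classical notion (maximal p-rank of the Jacobian). Then C is ordinary precisely when the
map induced by φ' on H^1(C', O_{C'}) is bijective, i.e. if and only if every irreducible component
of the normalisation (a smooth proper curve) is ordinary, H^1(C', O_{C'}) being the direct sum of
the H^1 of the components. -/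
theorem result (k : Type u) [Field k] [IsAlgClosed k]
    (p : ℕ) [Fact p.Prime] [CharP k p]
    (C : Scheme.{u}) [C.Over (Spec (CommRingCat.of k))] [IsReduced C] [IsProper (C ↘ Spec (CommRingCat.of k))]
    [ConnectedSpace ↥C] (hdim : ∀ Z ∈ irreducibleComponents (C : Type u), topologicalKrullDim Z = 1)
    (hnod : Curv2.AtWorstNodal k C)
    (C' : Scheme.{u}) (π : C' ⟶ C) [IsFinite π] (hC' : Pi1.IsNormalScheme C')
    (U : C.Opens) (hU : Dense (U : Set C)) (hU' : Dense ((π ⁻¹ᵁ U : C'.Opens) : Set C')) (hπU : IsIso (π ∣_ U))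
    (φ : Coh.toAb (Coh.structureModule C) ⟶ Coh.toAb (Coh.structureModule C))
    (hφ : ∀ (V : C.Opens) (s : Γ(C, V)), (φ.hom.app (op V)).hom s = s ^ p)
    (φ' : Coh.toAb (Coh.structureModule C') ⟶ Coh.toAb (Coh.structureModule C'))
    (hφ' : ∀ (V : C'.Opens) (s : Γ(C', V)), (φ'.hom.app (op V)).hom s = s ^ p) :
    Function.Bijective (Sheaf.H.map φ 1) ↔ Function.Bijective (Sheaf.H.map φ' 1) := by
  classical
  letI : C'.Over (Spec (CommRingCat.of k)) := ⟨π ≫ (C ↘ (Spec (CommRingCat.of k)))⟩
  haveI : IsProper (C' ↘ Spec (CommRingCat.of k)) :=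
    inferInstanceAs (IsProper (π ≫ (C ↘ (Spec (CommRingCat.of k)))))
  haveI := hπU
  haveI : IsReduced C' := @isReduced_of_isReduced_stalk C' fun x => by
    haveI := (hC' x).1
    infer_instance
  haveI := EulerChar.isNoetherian k (X := C)
  haveI := EulerChar.isNoetherian k (X := C')
  haveI : CharP (AlgebraicClosure k) p := charP_of_injective_algebraMap' k p
  have hdimZ : ∀ Z ∈ irreducibleComponents (C : Type u), topologicalKrullDim Z ≤ 1 := fun Z hZ => (hdim Z hZ).le
  have hdim1 : topologicalKrullDim C ≤ 1 := EquidimPt.topDim_le_of_components hdimZ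
  have hg : genericPoints (C : Type u) ⊆ (U : Set C) := fun η hη =>
    FlatMor.GenericPts.mem_of_dense_of_finite NoetherianSpace.finite_irreducibleComponents U.2 hU hη
  have hg' : genericPoints (C' : Type u) ⊆ ((π ⁻¹ᵁ U : C'.Opens) : Set C') := fun η hη =>
    FlatMor.GenericPts.mem_of_dense_of_finite NoetherianSpace.finite_irreducibleComponents (π ⁻¹ᵁ U).2 hU' hη
  let u := unitMap π
  have hM : Coh.IsCoh (pushO π) := ProperFin.isCoh_push_of_isFinite π _ (ProperFin.isCoh_structureModule C')
  have hO : Coh.IsCoh (Coh.structureModule C) := ProperFin.isCoh_structureModule C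
  have hns : ∀ x, ¬ Curv2.IsNode k C x → Function.Bijective (stalkLin u x) := fun x hx =>
    bijective_unitMap π U hg hg' k (mem_smoothLocus_of_atWorstNodal C hdimZ hnod hx)
  haveI : Mono u := Omega.Stalks.mono_of_stalk fun x => (em (Curv2.IsNode k C x)).elim
    (fun h => (node_length π U hg hg' k hC' hdim1 h).1) fun h => (hns x h).1
  let S : ShortComplex C.Modules := ShortComplex.mk u (cokernel.π u) (cokernel.condition u)
  have hS : S.ShortExact :=
    ShortComplex.ShortExact.mk' (ShortComplex.exact_of_g_is_cokernel _ (cokernelIsCokernel u)) inferInstance inferInstance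
  have hQ : Coh.IsCoh (cokernel u) := CohDev.isCoh_cokernel _ hO.1 hM
  let T := S.map (CurveCoh.toAbF C)
  have hT : T.ShortExact := CurveCoh.shortExact_toAb hS
  let φM : Coh.toAb (pushO π) ⟶ Coh.toAb (pushO π) := powPush π φ'
  have hu : φ ≫ T.f = T.f ≫ φM := by
    ext V s
    show u.app V.unop ((φ.hom.app V).hom s) = (φM.hom.app V).hom (u.app V.unop s)
    have happ : ∀ (W : C.Opens) (r : Γ(C, W)), u.app W r = π.app W r * 1 := fun W r => by
      exact (Props.GenLocus.app_eq u W r).trans ((congrArg (r • ·) (sec_homOfSec _ W)).trans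
        (congrArg (π.app W r * ·) ((rres (π.preimage_mono (le_top : W ≤ ⊤))).hom.map_one)))
    have happ' : ∀ (W : C.Opens) (r : Γ(C, W)), u.app W r = π.app W r := fun W r => (happ W r).trans (mul_one (show Γ(C', π ⁻¹ᵁ W) from π.app W r))
    rw [hφ V.unop s, happ', happ']
    refine Eq.trans ?_ (hφ' _ _).symm
    rw [map_pow]
  haveI : Mono T.f := hT.mono_f
  haveI : Epi T.g := hT.epi_g
  let φQ : T.X₃ ⟶ T.X₃ := hT.exact.desc (φM ≫ T.g) ((Category.assoc _ _ _).symm.trans
    ((congrArg (· ≫ T.g) hu.symm).trans ((Category.assoc _ _ _).trans ((congrArg (φ ≫ ·) T.zero).trans comp_zero))))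
  have hg₃ : T.g ≫ φQ = φM ≫ T.g := hT.exact.g_desc _ _
  -- the map on the cokernel is an isomorphism
  have hstk : ∀ x : C, Function.Bijective (stk φQ x) := by
    intro x
    obtain ⟨-, hex, hπs⟩ := stalk_exact hS x
    have hcomm : ∀ m : (pushO π).presheaf.stalk x,
        stk φQ x (stalkLin S.g x m) = stalkLin S.g x (powStalk π φ' x m) := by
      intro m
      obtain ⟨W, hxW, b, rfl⟩ := exists_germM_eq (pushO π) x m
      rw [stalkLin_germ, powStalk_germ p π φ' hφ', stalkLin_germ]
      refine (TopCat.Presheaf.stalkFunctor_map_germ_apply W x hxW φQ.hom (S.g.app W b)).trans ?_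
      refine congrArg (fun z => germM (cokernel u) W x hxW z) ?_
      have h1 := congrArg (fun (χ : T.X₂ ⟶ T.X₃) => (χ.hom.app (op W)).hom b) hg₃
      exact h1.trans (congrArg (fun z => S.g.app W z) (hφ' (π ⁻¹ᵁ W) b))
    have hker : ∀ m, stalkLin S.g x m = 0 ↔ m ∈ Submodule.span (C.presheaf.stalk x) {secGerm u x} := by
      intro m
      rw [hex m, Submodule.mem_span_singleton]
      constructor
      · rintro ⟨t, rfl⟩
        obtain ⟨r, rfl⟩ := exists_smul_oneGerm x t
        exact ⟨r, (stalkLin_smul_oneGerm u x r).symm⟩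
      · rintro ⟨r, rfl⟩
        exact ⟨r • oneGerm x, stalkLin_smul_oneGerm u x r⟩
    by_cases hx : Curv2.IsNode k C x
    swap
    · haveI hsub : Subsingleton ((cokernel u).presheaf.stalk x) := subsingleton_of_forall_eq 0 fun t => by
        obtain ⟨t, rfl⟩ := hπs t
        exact (hex t).2 ((hns x hx).2 t)
      exact ⟨fun a b _ => hsub.elim a b, fun b => ⟨b, hsub.elim _ _⟩⟩
    obtain ⟨s, hsreg, he, hregM, hsM, hint⟩ := stalk_data π U hg hg' x
    obtain ⟨alg, hloc, hflat, hm⟩ := S15924.exists_formalNode k C x hx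
    letI := alg
    haveI := hloc
    haveI := hflat
    haveI : Module.FaithfullyFlat (C.presheaf.stalk x) (FormalNode (AlgebraicClosure k)) :=
      Module.FaithfullyFlat.of_flat_of_isLocalHom
    have hsN := nodeAxis_ne_zero (K := AlgebraicClosure k) hsreg
    have hd : ∀ (m : (pushO π).presheaf.stalk x) (a : C.presheaf.stalk x), s • m = a • secGerm u x → ∀ i,
        nodeAxis i (algebraMap (C.presheaf.stalk x) (FormalNode (AlgebraicClosure k)) s) ∣
          nodeAxis i (algebraMap (C.presheaf.stalk x) (FormalNode (AlgebraicClosure k)) a) := fun m a hma i =>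
      hint _ ((nodeAxis i).comp (algebraMap (C.presheaf.stalk x) (FormalNode (AlgebraicClosure k)))) (hsN i) m a hma
    have hsimple := node_simple (secGerm u x) s hsN he hregM hsM hd
    have hsemi : ∀ m, powStalk π φ' x m ∈ Submodule.span (C.presheaf.stalk x) {secGerm u x} →
        m ∈ Submodule.span (C.presheaf.stalk x) {secGerm u x} := by
      intro m hmem
      obtain ⟨a₂, ha₂⟩ := Submodule.mem_span_singleton.1 hmem
      obtain ⟨a, ha⟩ := hsM m
      have h1 := congrArg (powStalk π φ' x) ha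
      rw [powStalk_smul p π φ' hφ', powStalk_smul p π φ' hφ', powStalk_one p π φ' hφ', ← ha₂, smul_smul] at h1
      obtain ⟨a', ha'⟩ := node_seminormal (K := AlgebraicClosure k) p hsN (hd m a ha) (he h1).symm
      refine Submodule.mem_span_singleton.2 ⟨a', hregM ?_⟩
      show s • _ = s • m
      rw [ha, ha', mul_smul]
    have hmaxQ : ∀ (t : C.presheaf.stalk x), t ∈ maximalIdeal (C.presheaf.stalk x) →
        ∀ q : (cokernel u).presheaf.stalk x, t • q = 0 := by
      have hl : Module.length (C.presheaf.stalk x) ((cokernel u).presheaf.stalk x) = 1 :=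
        (hex.linearEquivOfSurjective hπs).length_eq.symm.trans (node_length π U hg hg' k hC' hdim1 hx).2
      haveI : IsSimpleModule (C.presheaf.stalk x) ((cokernel u).presheaf.stalk x) := Module.length_eq_one_iff.mp hl
      intro t ht q
      by_contra hne
      have hmax := IsSimpleModule.ker_toSpanSingleton_isMaximal (R := C.presheaf.stalk x)
        (show q ≠ 0 from fun h0 => hne (by rw [h0, smul_zero]))
      rw [← eq_maximalIdeal hmax] at ht
      exact hne ht
    have hadd : ∀ m m', powStalk π φ' x (m + m') = powStalk π φ' x m + powStalk π φ' x m' := map_add _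
    refine ⟨(injective_iff_map_eq_zero (stk φQ x).hom).2 fun q hq => ?_, fun q => ?_⟩
    · obtain ⟨m, rfl⟩ := hπs q
      exact (hker m).2 (hsemi m ((hker _).1 ((hcomm m).symm.trans hq)))
    · obtain ⟨w, rfl⟩ := hπs q
      by_cases hw : w ∈ Submodule.span (C.presheaf.stalk x) {secGerm u x}
      · exact ⟨0, (map_zero _).trans ((hker w).2 hw).symm⟩
      have hz : powStalk π φ' x w ∉ Submodule.span (C.presheaf.stalk x) {secGerm u x} := fun h => hw (hsemi w h)
      obtain ⟨a, b, hab⟩ := hsimple _ hz w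
      obtain ⟨c, hc⟩ := StrictSSLib.residue_surjective_of_isClosed (C ↘ Spec (CommRingCat.of k)) hx.1
        (residue (C.presheaf.stalk x) b)
      obtain ⟨d, rfl⟩ := IsAlgClosed.exists_pow_nat_eq c (Fact.out : p.Prime).pos
      let σ := StrictSSLib.strMap (C ↘ Spec (CommRingCat.of k)) x
      have hb : b - σ d ^ p ∈ maximalIdeal (C.presheaf.stalk x) := by
        rw [← residue_eq_zero_iff, map_sub, sub_eq_zero, ← hc, RingHom.comp_apply, map_pow]
      refine ⟨stalkLin S.g x (σ d • w), ?_⟩
      rw [hcomm, powStalk_smul p π φ' hφ', hab, map_add, map_smul, map_smul, map_smul,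
        (hker _).2 (Submodule.mem_span_singleton_self _), smul_zero, zero_add,
        ← hab]
      suffices key : ∀ q : (cokernel u).presheaf.stalk x, σ d ^ p • q = b • q from key _
      intro q
      refine sub_eq_zero.1 ((sub_smul _ _ q).symm.trans (hmaxQ _ ?_ q))
      simpa [neg_sub] using (maximalIdeal (C.presheaf.stalk x)).neg_mem hb
  haveI : IsIso φQ := by
    haveI : ∀ x : C.toTopCat, IsIso ((TopCat.Presheaf.stalkFunctor AddCommGrpCat.{u} x).map φQ.hom) := fun x =>
      (ConcreteCategory.isIso_iff_bijective _).mpr (hstk x)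
    exact TopCat.Presheaf.isIso_of_stalkFunctor_map_iso φQ
  -- the long exact sequence
  have hQbij : Function.Bijective (CohTop.HUmap φQ 0 ⊤) :=
    ⟨Function.LeftInverse.injective (g := CohTop.HUmap (inv φQ) 0 ⊤) fun a => by
      rw [← CohTop.Basic.HUmap_comp, IsIso.hom_inv_id, CohTop.Basic.HUmap_id],
    Function.RightInverse.surjective (g := CohTop.HUmap (inv φQ) 0 ⊤) fun a => by
      rw [← CohTop.Basic.HUmap_comp, IsIso.inv_hom_id, CohTop.Basic.HUmap_id]⟩
  let ψ : T ⟶ T := { τ₁ := φ, τ₂ := φM, τ₃ := φQ, comm₁₂ := hu, comm₂₃ := hg₃.symm }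
  have hδ : ∀ q, CohTop.Basic.δ hT ⊤ 0 1 rfl (CohTop.HUmap φQ 0 ⊤ q) =
      CohTop.HUmap φ 1 ⊤ (CohTop.Basic.δ hT ⊤ 0 1 rfl q) := fun q => δ_natural hT hT ψ ⊤ rfl q
  have hcu : ∀ y, CohTop.HUmap T.f 1 ⊤ (CohTop.HUmap φ 1 ⊤ y) = CohTop.HUmap φM 1 ⊤ (CohTop.HUmap T.f 1 ⊤ y) := fun y => by
    exact (CohTop.Basic.HUmap_comp φ T.f 1 ⊤ y).symm.trans
      ((congrArg (fun f => CohTop.HUmap f 1 ⊤ y) hu).trans (CohTop.Basic.HUmap_comp T.f φM 1 ⊤ y))
  -- `H¹` of the unit is surjective
  have hH1Q : ∀ z : CohTop.HU T.X₃ 1 ⊤, z = 0 := by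
    intro z
    have hsupp : topologicalKrullDim ↥(CohB1.support (cokernel u)) ≤ 0 := by
      have hfin := (DimOneAmple.finite_compl_and_dim hdim1 hg).1
      refine (TopDimLib.topDim_le_of_subset fun x (hx : x ∈ CohB1.support (cokernel u)) =>
        show x ∈ (U : Set C)ᶜ ∩ {x | Curv2.IsNode k C x} from ⟨fun hxU => ?_, ?_⟩).trans
        (EulerChar.topDim_le_zero_of_finite (hfin.inter_of_left _) fun z hz => hz.2.1)
      · obtain ⟨-, hex, hπs⟩ := stalk_exact hS x
        exact hx (subsingleton_of_forall_eq 0 fun t => by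
          obtain ⟨t, rfl⟩ := hπs t
          exact (hex t).2 (surjective_unitMap_of_mem π U hxU t))
      · by_contra hn
        obtain ⟨-, hex, hπs⟩ := stalk_exact hS x
        exact hx (subsingleton_of_forall_eq 0 fun t => by
          obtain ⟨t, rfl⟩ := hπs t
          exact (hex t).2 ((hns x hn).2 t))
    haveI : Subsingleton (Coh.HH C (cokernel u) 1) := EulerChar.subsingleton_HH_of_support k hQ hsupp 0
    exact (CohTop.Basic.HEquivHUTop T.X₃ 1).symm.injective (Subsingleton.elim (α := Coh.HH C (cokernel u) 1) _ _)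
  -- Frobenius is surjective on the functions of the normalisation
  have hM0 : Function.Surjective (CohTop.HUmap φM 0 ⊤) := by
    intro z
    obtain ⟨w, hw⟩ := exists_pow_eq_top k p C' (CohTop.Basic.HU0Equiv _ ⊤ z)
    refine ⟨(CohTop.Basic.HU0Equiv (Coh.toAb (pushO π)) ⊤).symm w, ?_⟩
    apply (CohTop.Basic.HU0Equiv (Coh.toAb (pushO π)) ⊤).injective
    rw [CohTop.Basic.HU0Equiv_map, AddEquiv.apply_symm_apply]
    exact (hφ' (π ⁻¹ᵁ ⊤) w).trans hw
  rw [H_map_bijective_iff, bijective_H_one_push_iff π.base (Coh.toAb (Coh.structureModule C'))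
    (higherVanish_of_isAffineHom π _) φ', H_map_bijective_iff]
  show Function.Bijective (CohTop.HUmap φ 1 ⊤) ↔ Function.Bijective (CohTop.HUmap φM 1 ⊤)
  constructor
  · intro hb
    refine ⟨(injective_iff_map_eq_zero _).2 fun w hw => ?_, fun w => ?_⟩
    · obtain ⟨y, rfl⟩ := CohTop.Basic.HU_exact₂ hT ⊤ w (hH1Q _)
      rw [← hcu] at hw
      obtain ⟨q, hq⟩ := CohTop.Basic.HU_exact₁ hT ⊤ (rfl : 0 + 1 = 1) _ hw
      obtain ⟨q', rfl⟩ := hQbij.2 q
      rw [hδ] at hq
      rw [← hb.1 hq]
      exact CohTop.Basic.f_δ hT ⊤ rfl q'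
    · obtain ⟨y, rfl⟩ := CohTop.Basic.HU_exact₂ hT ⊤ w (hH1Q _)
      obtain ⟨x, rfl⟩ := hb.2 y
      exact ⟨CohTop.HUmap T.f 1 ⊤ x, (hcu x).symm⟩
  · intro hb
    refine ⟨(injective_iff_map_eq_zero _).2 fun y hy => ?_, fun y => ?_⟩
    · have h1 : CohTop.HUmap φM 1 ⊤ (CohTop.HUmap T.f 1 ⊤ y) = 0 := by
        rw [← hcu, hy]
        exact map_zero _
      obtain ⟨q, rfl⟩ := CohTop.Basic.HU_exact₁ hT ⊤ (rfl : 0 + 1 = 1) y ((injective_iff_map_eq_zero _).1 hb.1 _ h1)
      rw [← hδ] at hy
      obtain ⟨m, hm⟩ := CohTop.Basic.HU_exact₃ hT ⊤ (rfl : 0 + 1 = 1) _ hy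
      obtain ⟨m', rfl⟩ := hM0 m
      have h2 : CohTop.HUmap φQ 0 ⊤ (CohTop.HUmap T.g 0 ⊤ m') = CohTop.HUmap φQ 0 ⊤ q := by
        rw [← hm]
        exact (CohTop.Basic.HUmap_comp T.g φQ 0 ⊤ m').symm.trans
          ((congrArg (fun f => CohTop.HUmap f 0 ⊤ m') hg₃).trans (CohTop.Basic.HUmap_comp φM T.g 0 ⊤ m'))
      rw [← hQbij.1 h2]
      exact CohTop.Basic.δ_g hT ⊤ rfl m'
    · obtain ⟨w, hw⟩ := hb.2 (CohTop.HUmap T.f 1 ⊤ y)
      obtain ⟨x, rfl⟩ := CohTop.Basic.HU_exact₂ hT ⊤ w (hH1Q _)
      rw [← hcu, ← sub_eq_zero] at hw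
      obtain ⟨q, hq⟩ := CohTop.Basic.HU_exact₁ hT ⊤ (rfl : 0 + 1 = 1) _ ((map_sub (CohTop.HUmap T.f 1 ⊤) _ _).trans hw)
      obtain ⟨q', rfl⟩ := hQbij.2 q
      rw [hδ] at hq
      refine ⟨x - CohTop.Basic.δ hT ⊤ 0 1 rfl q', ?_⟩
      exact (map_sub (CohTop.HUmap φ 1 ⊤) _ _).trans ((congrArg (CohTop.HUmap φ 1 ⊤ x - ·) hq).trans (sub_sub_cancel _ _))

end Groth.Agent.S16497
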