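import Groth.Statements.S16498
import Mathlib.Data.Nat.Choose.Lucas
import Mathlib.Algebra.Polynomial.Coeff
import Mathlib.Algebra.Polynomial.Degree.Lemmas
import Mathlib.Data.Matrix.Mul
import Mathlib.Tactic.Ring
import Mathlib.Algebra.CharP.Basic

set_option autoImplicit false
universe u
open Curves

namespace Groth.Agent.S16498

lemma div_mod_helper (p q r : ℕ) (h : r < p) : (q * p + r) / p = q := by
  rw [add_comm, Nat.add_mul_div_right _ _ (by omega), Nat.div_eq_of_lt h, Nat.zero_add]

lemma entry_index (p i j : ℕ) (hj : j + 1 ≤ p) : (i + 1) * p - (j + 1) = i * p + (p - (j + 1)) := by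
  rw [add_one_mul]; omega

lemma choose_lucas {k : Type u} [Field k] (p : ℕ) [Fact p.Prime] [CharP k p] (l m b c : ℕ)
    (hb : b < p) (hc : c < p) (hl : l % p = b) :
    ((l.choose (m * p + c) : ℕ) : k) = ((b.choose c : ℕ) : k) * (((l / p).choose m : ℕ) : k) := by
  rw [← Nat.cast_mul, CharP.natCast_eq_natCast k p]
  have h1 : (m * p + c) % p = c := by rw [Nat.mul_add_mod_self_right, Nat.mod_eq_of_lt hc]
  have h := Choose.choose_modEq_choose_mod_mul_choose_div_nat (p := p) (n := l) (k := m * p + c)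
  rwa [h1, div_mod_helper p m c hc, hl] at h

lemma coeff_comp_X_add_C {k : Type u} [Field k] (P : Polynomial k) (α : k) (N : ℕ)
    (hN : P.natDegree < N) (m : ℕ) :
    (P.comp (Polynomial.X + Polynomial.C α)).coeff m =
      ∑ l ∈ Finset.range N, P.coeff l * ((l.choose m : ℕ) : k) * α ^ (l - m) := by
  rw [Polynomial.comp, Polynomial.eval₂_eq_sum_range' _ hN, Polynomial.finsetSum_coeff]
  refine Finset.sum_congr rfl fun l _ => ?_
  rw [Polynomial.coeff_C_mul, Polynomial.coeff_X_add_C_pow]
  ring

lemma term_eq (k : Type u) [Field k] (p : ℕ) [Fact p.Prime] [CharP k p] (P : Polynomial k) (α : k)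
    (i j I J : ℕ) (hj : j + 1 ≤ p) (hJ : J + 1 ≤ p) :
    ((I.choose i : ℕ) : k) * α ^ ((I - i) * p) * P.coeff ((I + 1) * p - (J + 1)) *
        ((((p - (J + 1)).choose (p - (j + 1)) : ℕ) : k) * α ^ (j - J)) =
      P.coeff (I * p + (p - (J + 1))) *
        (((I * p + (p - (J + 1))).choose ((i + 1) * p - (j + 1)) : ℕ) : k) *
        α ^ (I * p + (p - (J + 1)) - ((i + 1) * p - (j + 1))) := by
  rw [entry_index p I J hJ, entry_index p i j hj,
    choose_lucas p _ i (p - (J + 1)) (p - (j + 1)) (by omega) (by omega)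
      (by rw [Nat.mul_add_mod_self_right, Nat.mod_eq_of_lt (by omega)]),
    div_mod_helper p I _ (by omega)]
  by_cases hi : i ≤ I
  · by_cases hJj : J ≤ j
    · have : I * p + (p - (J + 1)) - (i * p + (p - (j + 1))) = (I - i) * p + (j - J) := by
        have := Nat.mul_le_mul_right p hi
        rw [Nat.sub_mul]
        omega
      rw [this, pow_add]
      ring
    · rw [Nat.choose_eq_zero_of_lt (by omega : p - (J + 1) < p - (j + 1))]
      simp
  · rw [Nat.choose_eq_zero_of_lt (not_le.1 hi)]
    simp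

/-- Let k be a field of odd characteristic p, g ≤ p a natural number, f ∈ k[x] of degree at most 2g + 2,
and α ∈ k. Write f^((p-1)/2) = Σ_l c_l x^l and f(x + α)^((p-1)/2) = Σ_l d_l x^l, and form the g × g
Cartier–Manin matrices (c_{ip-j}) and (d_{ip-j}), indices i, j = 1, …, g (below written with i, j
ranging over Fin g, so that the entry at (i, j) is the coefficient of x^((i+1)p-(j+1))). Then
(d_{ip-j}) = L · (c_{ip-j}) · U with L_{i,I} = binom(I-1, i-1) α^((I-i)p) and U_{J,j} = binom(p-J,
p-j) α^(j-J); both L and U are unitriangular since a binomial coefficient vanishes when its lower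
index exceeds its upper index. (The source works over a perfect field, with f separable of degree 2g
+ 2 and α ∈ k^* a root of f, hypotheses this identity does not use.) -/
theorem result (k : Type u) [Field k] (p : ℕ) [Fact p.Prime] (hp : p ≠ 2) [CharP k p]
    (g : ℕ) (hg : g ≤ p) (f : Polynomial k) (hf : f.natDegree ≤ 2 * g + 2) (α : k) :
    (Matrix.of fun i j : Fin g =>
        ((f.comp (Polynomial.X + Polynomial.C α)) ^ ((p - 1) / 2)).coeff (((i : ℕ) + 1) * p - ((j : ℕ) + 1))) =
      (Matrix.of fun i I : Fin g => (((I : ℕ).choose (i : ℕ) : ℕ) : k) * α ^ (((I : ℕ) - (i : ℕ)) * p)) *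
        (Matrix.of fun i j : Fin g => (f ^ ((p - 1) / 2)).coeff (((i : ℕ) + 1) * p - ((j : ℕ) + 1))) *
        (Matrix.of fun J j : Fin g => (((p - ((J : ℕ) + 1)).choose (p - ((j : ℕ) + 1)) : ℕ) : k) * α ^ ((j : ℕ) - (J : ℕ))) := by
  ext i j
  simp only [Matrix.of_apply, Matrix.mul_apply, Finset.sum_mul]
  rw [← Polynomial.pow_comp]
  set P := f ^ ((p - 1) / 2) with hP
  have hpP : p.Prime := Fact.out
  have hp0 := hpP.pos
  obtain ⟨t, ht⟩ := hpP.odd_of_ne_two hp
  have hPdeg : P.natDegree + g + 1 ≤ (g + 1) * p := by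
    have h1 : P.natDegree ≤ (p - 1) / 2 * (2 * g + 2) :=
      Polynomial.natDegree_pow_le.trans (Nat.mul_le_mul_left _ hf)
    have h2 : (p - 1) / 2 = t := by omega
    have h3 : (g + 1) * p = t * (2 * g + 2) + (g + 1) := by rw [ht]; ring
    rw [h2] at h1
    omega
  rw [coeff_comp_X_add_C P α ((g + 1) * p) (by omega), Finset.sum_comm,
    ← Finset.sum_product']
  symm
  refine Finset.sum_bij_ne_zero (fun x _ _ => (x.1 : ℕ) * p + (p - ((x.2 : ℕ) + 1))) ?_ ?_ ?_ ?_
  · intro x _ _
    rw [Finset.mem_range]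
    have := Nat.mul_le_mul_right p (Nat.succ_le_of_lt x.1.2)
    rw [Nat.succ_mul] at this
    rw [add_one_mul]
    omega
  · intro x _ _ y _ _ hxy
    have hx := x.2.2
    have hy := y.2.2
    have hdiv := congrArg (· / p) hxy
    simp only [div_mod_helper p _ _ (by omega : p - ((x.2 : ℕ) + 1) < p),
      div_mod_helper p _ _ (by omega : p - ((y.2 : ℕ) + 1) < p)] at hdiv
    rw [hdiv] at hxy
    exact Prod.ext (Fin.ext hdiv) (Fin.ext (by omega))
  · intro l hl hne
    have hc : P.coeff l ≠ 0 := fun h => hne (by rw [h]; simp)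
    have hlP : l ≤ P.natDegree := Polynomial.le_natDegree_of_ne_zero hc
    have hch : ((l.choose (((i : ℕ) + 1) * p - ((j : ℕ) + 1)) : ℕ) : k) ≠ 0 :=
      fun h => hne (by rw [h]; simp)
    rw [entry_index p _ _ (by omega : (j : ℕ) + 1 ≤ p), choose_lucas p _ _ _ _ (Nat.mod_lt l hp0) (by omega) rfl] at hch
    have hs : p - ((j : ℕ) + 1) ≤ l % p := by
      by_contra h
      rw [Nat.choose_eq_zero_of_lt (not_le.1 h)] at hch
      simp at hch
    have hj := j.2
    have hlt : l % p < p := Nat.mod_lt l hp0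
    have hI : l / p < g := by
      by_contra h
      have h1 : g * p ≤ l / p * p := Nat.mul_le_mul_right p (not_lt.1 h)
      have h2 := Nat.div_add_mod' l p
      rw [add_one_mul] at hPdeg
      omega
    refine ⟨(⟨l / p, hI⟩, ⟨p - 1 - l % p, by omega⟩), by simp, ?_, ?_⟩
    · have key := term_eq k p P α i.1 j.1 (l / p) (p - 1 - l % p) (by omega) (by omega)
      have e : l / p * p + (p - (p - 1 - l % p + 1)) = l := by
        have := Nat.div_add_mod' l p
        omega
      rw [e] at key
      exact fun h => hne (key.symm.trans h)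
    · have := Nat.div_add_mod' l p
      simp only
      omega
  · intro x _ _
    exact term_eq k p P α i.1 j.1 x.1.1 x.2.1 (by omega) (by omega)

end Groth.Agent.S16498
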