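import Groth.Statements.S16500
import Mathlib.Algebra.Polynomial.Reverse
import Mathlib.Data.Nat.Prime.Basic
import Mathlib.Algebra.Ring.Parity
import Mathlib.Algebra.Polynomial.Degree.Lemmas
import Mathlib.Tactic.Ring

set_option autoImplicit false
universe u
open Curves

namespace Groth.Agent.S16500

lemma reflect_pow {k : Type u} [Field k] (f : Polynomial k) (N : ℕ) (hf : f.natDegree ≤ N) (e : ℕ) :
    Polynomial.reflect (e * N) (f ^ e) = Polynomial.reflect N f ^ e := by
  induction e with
  | zero => simp
  | succ e ih =>
    rw [pow_succ, pow_succ, add_one_mul, Polynomial.reflect_mul _ _ ?_ hf, ih]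
    exact Polynomial.natDegree_pow_le.trans (Nat.mul_le_mul_left e hf)

/-- Let k be a field of odd characteristic p, g ≤ p a natural number and f ∈ k[x] of degree at most 2g +
2. Let F be f with its coefficients reversed in degrees 0, …, 2g + 2, i.e. F(X) = X^(2g+2) f(1/X)
(Mathlib's reflect (2g+2) f), and write f^((p-1)/2) = Σ_l c_l x^l and F^((p-1)/2) = Σ_l C_l X^l.
Then C_{ip-j} = c_{(g+1-i)p-(g+1-j)} for all i, j = 1, …, g; that is, the g × g Cartier–Manin matrix
of F is that of f with the order of both rows and columns reversed (below the indices run over Fin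
g, the entry at (i, j) being the coefficient of degree (i+1)p-(j+1), and reversal is Fin.rev). In
particular the two matrices have the same determinant. (The source applies this to f with f(0) = 0,
separable of degree 2g + 2 over a perfect field, so that F has odd degree 2g + 1; the identity uses
none of that.) -/
theorem result (k : Type u) [Field k] (p : ℕ) [Fact p.Prime] (hp : p ≠ 2) [CharP k p]
    (g : ℕ) (hg : g ≤ p) (f : Polynomial k) (hf : f.natDegree ≤ 2 * g + 2) :
    (Matrix.of fun i j : Fin g =>
        ((Polynomial.reflect (2 * g + 2) f) ^ ((p - 1) / 2)).coeff (((i : ℕ) + 1) * p - ((j : ℕ) + 1))) =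
      Matrix.of fun i j : Fin g =>
        (f ^ ((p - 1) / 2)).coeff (((Fin.rev i : ℕ) + 1) * p - ((Fin.rev j : ℕ) + 1)) := by
  have hp2 : p = 2 * ((p - 1) / 2) + 1 := by
    obtain ⟨t, ht⟩ := (Fact.out : p.Prime).odd_of_ne_two hp
    omega
  set e := (p - 1) / 2
  ext i j
  simp only [Matrix.of_apply]
  rw [← reflect_pow f (2 * g + 2) hf e, Polynomial.coeff_reflect]
  congr 1
  have hi := i.2
  have hj := j.2
  rw [Polynomial.revAt_le, Fin.val_rev, Fin.val_rev]
  · have e1 : (i.val + 1) * p ≤ g * p := Nat.mul_le_mul_right p (by omega)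
    have e2 : (g - (i.val + 1) + 1) * p + i.val * p = g * p := by rw [← add_mul]; congr 1; omega
    have e3 : (i.val + 1) * p = i.val * p + p := by ring
    have e4 : e * (2 * g + 2) + g + 1 = g * p + p := by rw [hp2]; ring
    omega
  · have e1 : (i.val + 1) * p ≤ g * p := Nat.mul_le_mul_right p (by omega)
    have e4 : e * (2 * g + 2) + g + 1 = g * p + p := by rw [hp2]; ring
    omega

end Groth.Agent.S16500
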