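import Groth.Statements.S16501
import Groth.Agent.S14676
import Groth.Agent.Adic.Basic
import Mathlib.FieldTheory.PrimitiveElement
import Mathlib.LinearAlgebra.Dimension.Localization
import Mathlib.RingTheory.DedekindDomain.IntegralClosure

set_option autoImplicit false
set_option linter.style.haveILetI false
set_option backward.isDefEq.respectTransparency.types false
universe u
open Hensel

namespace Groth.Agent.S16501

open Polynomial IsLocalRing

/-- Hensel's lemma when `f(c)` is small compared to the square of `f'(c)`. -/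
theorem exists_root_of_sq {R : Type u} [CommRing R] (I : Ideal R) [IsAdicComplete I R] (f : R[X])
    (c z : R) (hz : z ∈ I) (h : f.eval c = (f.derivative.eval c) ^ 2 * z) : ∃ r, f.IsRoot r := by
  set d := f.derivative.eval c
  obtain ⟨Q, hQ⟩ : X ^ 2 ∣ taylor c f - C (f.eval c) - C d * X := by
    rw [X_pow_dvd_iff]
    intro j hj
    interval_cases j <;> simp [d, coeff_X]
  obtain ⟨y, hy, -⟩ := S14676.exists_root R I (C z + X + X ^ 2 * Q.comp (C d * X)) 0 (by simpa using hz)
    (by simp)
  refine ⟨d * y + c, ?_⟩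
  have h1 : (taylor c f).eval (d * y) = f.eval c + d * (d * y) + (d * y) ^ 2 * Q.eval (d * y) := by
    have := congr_arg (Polynomial.eval (d * y)) hQ
    simp only [eval_sub, eval_C, eval_mul, eval_X, eval_pow] at this
    linear_combination this
  have h2 : z + y + y ^ 2 * Q.eval (d * y) = 0 := by simpa using hy
  show f.eval (d * y + c) = 0
  rw [← taylor_eval, h1, h]
  linear_combination d ^ 2 * h2

theorem finrank_le_of_quotient {A : Type u} [CommRing A] [IsLocalRing A] (x : A)
    (hx : x ∈ maximalIdeal A) {M N : Type u} [CommRing M] [CommRing N] [Algebra A M] [Algebra A N]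
    [Module.Finite A M] [Module.Free A M] [Module.Finite A N]
    (σ : (M ⧸ Ideal.span {algebraMap A M x}) ≃ₐ[A] (N ⧸ Ideal.span {algebraMap A N x})) :
    Module.finrank A N ≤ Module.finrank A M := by
  let b := Module.Free.chooseBasis A M
  choose v hv using fun i => Ideal.Quotient.mk_surjective (σ (Ideal.Quotient.mk _ (b i)))
  let g : M →ₗ[A] N := b.constr A v
  have hg : (Ideal.Quotient.mkₐ A _).toLinearMap ∘ₗ g =
      σ.toLinearMap ∘ₗ (Ideal.Quotient.mkₐ A (Ideal.span {algebraMap A M x})).toLinearMap :=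
    b.ext fun i => by simpa [g] using hv i
  refine LinearMap.finrank_le_finrank_of_surjective (f := g) fun n => ?_
  have : (⊤ : Submodule A N) ≤ LinearMap.range g := by
    refine Submodule.le_of_le_smul_of_le_jacobson_bot Module.Finite.fg_top
      (maximalIdeal_le_jacobson ⊥) fun n _ => ?_
    obtain ⟨q, hq⟩ := σ.surjective (Ideal.Quotient.mk _ n)
    obtain ⟨m, rfl⟩ := Ideal.Quotient.mk_surjective q
    have h0 : n - g m ∈ Ideal.span {algebraMap A N x} := by
      rw [← Ideal.Quotient.eq]
      exact hq.symm.trans (LinearMap.congr_fun hg m).symm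
    obtain ⟨y, hy⟩ := Ideal.mem_span_singleton.1 h0
    rw [show n = g m + x • y by rw [Algebra.smul_def, ← hy, add_sub_cancel]]
    exact Submodule.add_mem_sup ⟨m, rfl⟩ (Submodule.smul_mem_smul hx trivial)
  exact this trivial

/-- Let A be a complete discrete valuation ring with uniformizer ϖ and fraction field K, let L be a
finite separable extension of K and B the integral closure of A in L. There is a positive integer m₀
such that for every discrete valuation ring C that is a module-finite A-algebra, B ≅ C as A-algebras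
if and only if B/ϖ^m B ≅ C/ϖ^m C as A-algebras for some m > m₀. (Finiteness of L over K is implicit
in the source, which takes a primitive element.) -/
theorem result
    (A : Type u) [CommRing A] [IsDomain A] [IsDiscreteValuationRing A]
    [IsAdicComplete (IsLocalRing.maximalIdeal A) A] (ϖ : A) (hϖ : Irreducible ϖ)
    (K : Type u) [Field K] [Algebra A K] [IsFractionRing A K]
    (L : Type u) [Field L] [Algebra K L] [Algebra A L] [IsScalarTower A K L]
    [FiniteDimensional K L] [Algebra.IsSeparable K L]
    (B : Type u) [CommRing B] [Algebra A B] [Algebra B L] [IsScalarTower A B L]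
    [IsIntegralClosure B A L] :
    ∃ m₀ : ℕ, 0 < m₀ ∧ ∀ (C : Type u) [CommRing C] [IsDomain C] [IsDiscreteValuationRing C]
      [Algebra A C] [Module.Finite A C],
      Nonempty (B ≃ₐ[A] C) ↔ ∃ m : ℕ, m₀ < m ∧
        Nonempty ((B ⧸ Ideal.span {algebraMap A B (ϖ ^ m)}) ≃ₐ[A]
          (C ⧸ Ideal.span {algebraMap A C (ϖ ^ m)})) := by
  classical
  haveI : Module.Finite A B := IsIntegralClosure.finite A K L B
  have hAL : Function.Injective (algebraMap A L) := by
    rw [IsScalarTower.algebraMap_eq A K L]
    exact (algebraMap K L).injective.comp (IsFractionRing.injective A K)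
  have hBL : Function.Injective (algebraMap B L) := IsIntegralClosure.algebraMap_injective B A L
  haveI : IsDomain B := hBL.isDomain
  have hAB : Function.Injective (algebraMap A B) := fun a b hab => hAL (by
    rw [IsScalarTower.algebraMap_apply A B L, hab, ← IsScalarTower.algebraMap_apply])
  haveI : FaithfulSMul A B := (faithfulSMul_iff_algebraMap_injective A B).2 hAB
  haveI : Module.IsTorsionFree A L := by
    haveI : FaithfulSMul A L := (faithfulSMul_iff_algebraMap_injective A L).2 hAL
    infer_instance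
  haveI : Module.Free A B := IsIntegralClosure.module_free A K L B
  -- a primitive integral element
  obtain ⟨θ₀, hθ₀⟩ := Field.exists_primitive_element K L
  obtain ⟨y, hy, hyint⟩ := exists_integral_multiples A K ({θ₀} : Finset L)
  set θ' : L := y • θ₀ with hθ'
  have hθ'int : IsIntegral A θ' := hyint θ₀ (by simp)
  have hgen : IntermediateField.adjoin K {θ'} = ⊤ := by
    refine le_antisymm le_top (hθ₀ ▸ IntermediateField.adjoin_le_iff.2 ?_)
    intro x hx
    rw [Set.mem_singleton_iff.1 hx]
    have h1 : θ₀ = (algebraMap K L (algebraMap A K y))⁻¹ * θ' := by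
      rw [hθ', Algebra.smul_def, IsScalarTower.algebraMap_apply A K L, inv_mul_cancel_left₀]
      exact fun h => hy ((injective_iff_map_eq_zero _).1 hAL y (by rw [IsScalarTower.algebraMap_apply A K L, h]))
    rw [SetLike.mem_coe, h1]
    exact mul_mem (inv_mem (IntermediateField.algebraMap_mem _ _))
      (IntermediateField.mem_adjoin_simple_self K θ')
  set θ : B := IsIntegralClosure.mk' B θ' hθ'int
  have hθL : algebraMap B L θ = θ' := IsIntegralClosure.algebraMap_mk' B θ' hθ'int
  have hθint : IsIntegral A θ := IsIntegralClosure.isIntegral A L θ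
  set f := minpoly A θ' with hf
  have hfK : minpoly K θ' = f.map (algebraMap A K) :=
    minpoly.isIntegrallyClosed_eq_field_fractions K L (s := θ') hθ'int
  have hfθ : aeval θ f = 0 := hBL (by rw [← aeval_algebraMap_apply, hθL, hf, minpoly.aeval, map_zero])
  have hdθ : aeval θ f.derivative ≠ 0 := fun h => by
    have h1 := (Algebra.IsSeparable.isSeparable K θ').aeval_derivative_ne_zero (minpoly.aeval K θ')
    rw [hfK, derivative_map, aeval_map_algebraMap, ← hθL, aeval_algebraMap_apply, h, map_zero] at h1
    exact h1 rfl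
  obtain ⟨e, hde⟩ : ∃ e : ℕ, aeval θ f.derivative ∣ algebraMap A B (ϖ ^ e) := by
    set d := aeval θ f.derivative
    have hne : (Ideal.span {d}).comap (algebraMap A B) ≠ ⊥ :=
      Ideal.comap_ne_bot_of_algebraic_mem hdθ (Ideal.mem_span_singleton_self d)
        (IsIntegralClosure.isIntegral A L d).isAlgebraic
    obtain ⟨a, ha, ha0⟩ := Submodule.exists_mem_ne_zero_of_ne_bot hne
    obtain ⟨n, u, rfl⟩ := IsDiscreteValuationRing.eq_unit_mul_pow_irreducible ha0 hϖ
    refine ⟨n, ?_⟩
    rw [Ideal.mem_comap, Ideal.mem_span_singleton, map_mul] at ha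
    exact ((u.isUnit.map _).dvd_mul_left).1 ha
  refine ⟨2 * e + 1, Nat.succ_pos _, fun C _ _ _ _ _ => ⟨fun ⟨φ⟩ => ⟨2 * e + 2, by omega, ⟨?_⟩⟩, ?_⟩⟩
  · exact Ideal.quotientEquivAlg _ _ φ (by rw [Ideal.map_span, Set.image_singleton]; simp)
  rintro ⟨m, hm, ⟨σ⟩⟩
  have hϖm : ϖ ∈ maximalIdeal A := hϖ.maximalIdeal_eq ▸ Ideal.mem_span_singleton_self ϖ
  have hnuB : ¬ IsUnit (algebraMap A B ϖ) := fun h => by
    haveI : Algebra.IsIntegral A B := ⟨IsIntegralClosure.isIntegral A L⟩
    exact hϖ.not_isUnit ((isUnit_map_iff (algebraMap A B) ϖ).1 h)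
  have hC0 : algebraMap A C ϖ ≠ 0 := fun h0 => by
    have hspan : Ideal.span {algebraMap A C (ϖ ^ m)} = ⊥ := by
      rw [map_pow, h0, zero_pow (by omega), Ideal.span_singleton_eq_bot]
    have hz : Ideal.Quotient.mk (Ideal.span {algebraMap A B (ϖ ^ m)}) (algebraMap A B ϖ) = 0 := by
      refine σ.injective ?_
      rw [map_zero, Ideal.Quotient.mk_algebraMap, AlgEquiv.commutes, ← Ideal.Quotient.mk_algebraMap, h0, map_zero]
    obtain ⟨b, hb⟩ := Ideal.mem_span_singleton.1 (Ideal.Quotient.eq_zero_iff_mem.1 hz)
    rw [show m = m - 1 + 1 by omega, pow_succ', map_mul, mul_assoc] at hb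
    have h1 : algebraMap A B (ϖ ^ (m - 1)) * b = 1 :=
      (mul_right_eq_self₀.1 hb.symm).resolve_right fun h => hϖ.ne_zero (hAB (h.trans (map_zero _).symm))
    rw [show m - 1 = m - 2 + 1 by omega, pow_succ', map_mul, mul_assoc] at h1
    exact hnuB (IsUnit.of_mul_eq_one _ h1)
  have hAC : Function.Injective (algebraMap A C) := by
    rw [injective_iff_map_eq_zero]
    intro a ha
    by_contra ha0
    obtain ⟨n, u, rfl⟩ := IsDiscreteValuationRing.eq_unit_mul_pow_irreducible ha0 hϖ
    rw [map_mul, map_pow] at ha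
    exact pow_ne_zero _ hC0 (((u.isUnit.map _).mul_right_eq_zero).1 ha)
  haveI : FaithfulSMul A C := (faithfulSMul_iff_algebraMap_injective A C).2 hAC
  haveI : Module.Free A C := by
    haveI : Module.IsTorsionFree A C := inferInstance
    infer_instance
  have hnuC : ¬ IsUnit (algebraMap A C ϖ) := fun h =>
    hϖ.not_isUnit ((isUnit_map_iff (algebraMap A C) ϖ).1 h)
  haveI : IsAdicComplete ((maximalIdeal A).map (algebraMap A C)) C :=
    (IsAdicComplete.map_algebraMap_iff _ _).2 (Adic.isAdicComplete_of_finite (maximalIdeal A))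
  have hrank : Module.finrank A C = Module.finrank A B :=
    le_antisymm (finrank_le_of_quotient (ϖ ^ m) (Ideal.pow_mem_of_mem _ hϖm m (by omega)) σ)
      (finrank_le_of_quotient (ϖ ^ m) (Ideal.pow_mem_of_mem _ hϖm m (by omega)) σ.symm)
  -- a root of `f` in `C`
  obtain ⟨c, hc⟩ := Ideal.Quotient.mk_surjective (σ (Ideal.Quotient.mk _ θ))
  have hev : ∀ g : A[X], Ideal.Quotient.mk (Ideal.span {algebraMap A C (ϖ ^ m)}) (aeval c g) =
      σ (Ideal.Quotient.mk _ (aeval θ g)) := fun g => by
    rw [← Ideal.Quotient.mkₐ_eq_mk A, ← Ideal.Quotient.mkₐ_eq_mk A, ← aeval_algHom_apply,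
      ← aeval_algHom_apply, Ideal.Quotient.mkₐ_eq_mk, hc, Ideal.Quotient.mkₐ_eq_mk,
      ← AlgEquiv.coe_toAlgHom, ← aeval_algHom_apply]
  obtain ⟨s, hs⟩ : algebraMap A C (ϖ ^ m) ∣ aeval c f :=
    Ideal.mem_span_singleton.1 (Ideal.Quotient.eq_zero_iff_mem.1 (by rw [hev, hfθ, map_zero, map_zero]))
  obtain ⟨q, hq⟩ : aeval c f.derivative ∣ algebraMap A C (ϖ ^ e) := by
    obtain ⟨q, hq⟩ := hde
    obtain ⟨q', hq'⟩ := Ideal.Quotient.mk_surjective (σ (Ideal.Quotient.mk _ q))
    obtain ⟨r, hr⟩ : algebraMap A C (ϖ ^ m) ∣ algebraMap A C (ϖ ^ e) - aeval c f.derivative * q' := by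
      refine Ideal.mem_span_singleton.1 (Ideal.Quotient.eq.1 ?_)
      rw [map_mul, hev, hq', ← map_mul, ← map_mul, ← hq, Ideal.Quotient.mk_algebraMap, Ideal.Quotient.mk_algebraMap,
        AlgEquiv.commutes]
    obtain ⟨w, hw⟩ : IsUnit (1 - algebraMap A C (ϖ ^ (m - e)) * r) := by
      refine (IsLocalRing.isUnit_or_isUnit_one_sub_self _).resolve_left fun h => hnuC ?_
      rw [map_pow] at h
      exact (isUnit_pow_iff (by omega)).1 (isUnit_of_mul_isUnit_left h)
    refine ⟨q' * ↑w⁻¹, ?_⟩
    have : algebraMap A C (ϖ ^ e) * (w : C) = aeval c f.derivative * q' := by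
      rw [hw, show ϖ ^ m = ϖ ^ e * ϖ ^ (m - e) by rw [← pow_add]; congr 1; omega, map_mul] at *
      linear_combination hr
    rw [← mul_assoc, ← this, mul_assoc, Units.mul_inv, mul_one]
  obtain ⟨c', hc'⟩ := exists_root_of_sq ((maximalIdeal A).map (algebraMap A C)) (f.map (algebraMap A C)) c
    (q ^ 2 * algebraMap A C (ϖ ^ (m - 2 * e)) * s)
    (Ideal.mul_mem_right _ _ (Ideal.mul_mem_left _ _
      (Ideal.mem_map_of_mem _ (Ideal.pow_mem_of_mem _ hϖm _ (by omega))))) (by
      rw [derivative_map, eval_map_algebraMap, eval_map_algebraMap, hs,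
        show ϖ ^ m = (ϖ ^ e) ^ 2 * ϖ ^ (m - 2 * e) by rw [← pow_mul, ← pow_add]; congr 1; omega,
        map_mul, map_pow, hq]
      ring)
  rw [IsRoot, eval_map_algebraMap] at hc'
  -- the extension to the fraction field
  let F := FractionRing C
  letI : Algebra K F := (IsFractionRing.lift (g := algebraMap A F) (by
    rw [IsScalarTower.algebraMap_eq A C F]
    exact (IsFractionRing.injective C F).comp hAC)).toAlgebra
  haveI : IsScalarTower A K F := .of_algebraMap_eq fun a => (IsFractionRing.lift_algebraMap _ a).symm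
  let pb : PowerBasis K L := (IntermediateField.adjoin.powerBasis (IsIntegral.of_finite K θ')).map
    ((IntermediateField.equivOfEq hgen).trans IntermediateField.topEquiv)
  have hpb : pb.gen = θ' := rfl
  let φ : L →ₐ[K] F := pb.lift (algebraMap C F c') (by
    rw [hpb, hfK, aeval_map_algebraMap, aeval_algebraMap_apply, hc', map_zero])
  have hφsurj : Function.Surjective φ := by
    haveI : Module.Finite K F := Module.finite_of_finrank_pos (by
      rw [IsFractionRing.finrank_eq A K C F, hrank, IsIntegralClosure.rank A K L B]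
      exact Module.finrank_pos)
    exact (LinearMap.injective_iff_surjective_of_finrank_eq_finrank (f := φ.toLinearMap) (by
      rw [IsFractionRing.finrank_eq A K C F, hrank, IsIntegralClosure.rank A K L B])).1 φ.toRingHom.injective
  -- restrict to the integral closures
  let φA : B →ₐ[A] F := (φ.restrictScalars A).comp (IsScalarTower.toAlgHom A B L)
  have hψ : ∀ b, ∃ x : C, algebraMap C F x = φA b := fun b =>
    IsIntegrallyClosed.isIntegral_iff.1 (((IsIntegralClosure.isIntegral A L b).map φA).tower_top)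
  choose ψ hψ using hψ
  have hinjF : Function.Injective (algebraMap C F) := IsFractionRing.injective C F
  let Ψ : B →ₐ[A] C :=
    { toFun := ψ
      map_one' := hinjF (by rw [hψ, map_one, map_one])
      map_mul' := fun a b => hinjF (by rw [hψ, map_mul, map_mul, hψ, hψ])
      map_zero' := hinjF (by rw [hψ, map_zero, map_zero])
      map_add' := fun a b => hinjF (by rw [hψ, map_add, map_add, hψ, hψ])
      commutes' := fun a => hinjF (by rw [hψ, AlgHom.commutes, ← IsScalarTower.algebraMap_apply]) }
  have hΨ : Function.Bijective Ψ := by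
    refine ⟨fun a b h => hBL (φ.toRingHom.injective ((hψ a).symm.trans
      ((congrArg (algebraMap C F) h).trans (hψ b)))), fun x => ?_⟩
    obtain ⟨l, hl⟩ := hφsurj (algebraMap C F x)
    have hlint : IsIntegral A l := by
      refine (isIntegral_algHom_iff (φ.restrictScalars A) φ.toRingHom.injective).1 ?_
      show IsIntegral A (φ l)
      rw [hl]
      exact (Algebra.IsIntegral.isIntegral x).map (IsScalarTower.toAlgHom A C F)
    refine ⟨IsIntegralClosure.mk' B l hlint, hinjF ?_⟩
    show algebraMap C F (ψ _) = _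
    rw [hψ]
    show φ (algebraMap B L _) = _
    rw [IsIntegralClosure.algebraMap_mk', hl]
  exact ⟨AlgEquiv.ofBijective Ψ hΨ⟩

end Groth.Agent.S16501
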