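import Groth.Statements.S1651
import Groth.Agent.BCPoint.Local
import Groth.Agent.BCPoint.DeltaLe
-- import your own Groth.Agent.* helpers here

set_option autoImplicit false
universe u
open CategoryTheory CategoryTheory.Limits AlgebraicGeometry
open Variety

namespace Groth.Agent.S1651

/-- Let X be locally of finite type over k, K a field extension, y a point of X_K with image x. Assume X
is geometrically reduced at x and the local rings at x and at y both have dimension one. Then the
δ-invariant of X at x is at most the δ-invariant of X_K at y. -/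
theorem result (k : Type u) [Field k] (X : Scheme.{u}) [X.Over (Spec (CommRingCat.of k))] [LocallyOfFiniteType (X ↘ (Spec (CommRingCat.of k)))] (K : Type u) [Field K] [Algebra k K]
    (y : Curv2.bc k X K) (hx : Curv2.IsGeomReducedAt k X (Curv2.bcFst k X K y))
    (hdx : ringKrullDim (X.presheaf.stalk (Curv2.bcFst k X K y)) = 1)
    (hdy : ringKrullDim ((Curv2.bc k X K).presheaf.stalk y) = 1) :
    Curv2.deltaInv (X.presheaf.stalk (Curv2.bcFst k X K y)) ≤ Curv2.deltaInv ((Curv2.bc k X K).presheaf.stalk y) := by
  obtain ⟨_, _⟩ := Groth.Agent.BCPoint.isNoetherianRing_stalk k X K y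
  haveI : _root_.IsReduced ((Curv2.bc k X K).presheaf.stalk y) := hx K y rfl
  letI : Algebra (X.presheaf.stalk (Curv2.bcFst k X K y)) ((Curv2.bc k X K).presheaf.stalk y) :=
    ((Curv2.bcFst k X K).stalkMap y).hom.toAlgebra
  haveI : Module.Flat (X.presheaf.stalk (Curv2.bcFst k X K y)) ((Curv2.bc k X K).presheaf.stalk y) :=
    Groth.Agent.BCPoint.flat_stalkMap k X K y
  haveI : IsLocalHom (algebraMap (X.presheaf.stalk (Curv2.bcFst k X K y)) ((Curv2.bc k X K).presheaf.stalk y)) :=
    inferInstanceAs (IsLocalHom ((Curv2.bcFst k X K).stalkMap y).hom)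
  haveI := Module.FaithfullyFlat.of_flat_of_isLocalHom
    (A := X.presheaf.stalk (Curv2.bcFst k X K y)) (B := (Curv2.bc k X K).presheaf.stalk y)
  haveI : _root_.IsReduced (X.presheaf.stalk (Curv2.bcFst k X K y)) :=
    isReduced_of_injective (algebraMap (X.presheaf.stalk (Curv2.bcFst k X K y)) ((Curv2.bc k X K).presheaf.stalk y))
      (FaithfulSMul.algebraMap_injective _ _)
  haveI := Groth.Agent.BCPoint.finite_normalization k X (Curv2.bcFst k X K y)
  exact Groth.Agent.BCPoint.deltaInv_le

end Groth.Agent.S1651
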