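import Groth.Statements.S16517
import Groth.Agent.Linkage88.Flat
import Mathlib

set_option autoImplicit false
universe u
open CAlg

namespace Groth.Agent.S16517

/-- Let R be a regular local ring, A a Gorenstein local ring which is a flat R-algebra through a local
homomorphism, I ⊂ A an ideal of codimension zero (the Krull dimension of A/I equals that of A) with
A/I Cohen–Macaulay, and J = (0 : I) the annihilator of I in A (the ideal of the residual subscheme).
Then A/I and A/J are flat over R. -/
theorem result (R A : Type u)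
    [CommRing R] [IsRegularLocalRing R] [CommRing A] [Algebra R A] [LocCoh.IsGorensteinLocalRing A]
    [IsLocalHom (algebraMap R A)] [Module.Flat R A] (I : Ideal A)
    (hI : ringKrullDim (A ⧸ I) = ringKrullDim A) [LocCoh.IsCohenMacaulayLocalRing (A ⧸ I)] :
    Module.Flat R (A ⧸ I) ∧ Module.Flat R (A ⧸ (Submodule.annihilator I)) := by
  obtain ⟨d, hd, hspan⟩ := RegLoc.exists_natCast_eq_ringKrullDim R
  have hfr := RegLoc.spanFinrank_eq_dim hd
  obtain ⟨x, hx⟩ : ∃ x : Fin d → R, Ideal.span (Set.range x) = IsLocalRing.maximalIdeal R :=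
    by
    obtain ⟨s, hs1, hs2⟩ := Submodule.FG.exists_span_finset_card_eq_spanFinrank
      (IsNoetherian.noetherian (IsLocalRing.maximalIdeal R))
    rw [hfr] at hs1
    refine ⟨fun i => ((s.equivFinOfCardEq hs1).symm i : R), ?_⟩
    rw [← hs2]
    congr 1
    rw [Set.range_comp' Subtype.val]
    simp
  have hreg := RegLoc.isRegular_ofFn hd x hx
  have hofList : Ideal.ofList (List.ofFn x) = IsLocalRing.maximalIdeal R := by
    rw [← hx]; exact congrArg Ideal.span (Set.ext fun y => List.mem_ofFn' x y)
  have hlen : ringKrullDim R = (List.ofFn x).length := by rw [List.length_ofFn]; exact hd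
  have hmcm := Linkage88.isMCMQuot hI
  obtain ⟨-, -, hregI, hregJ⟩ := Linkage88.link (List.ofFn x).length A I hmcm
    ((List.ofFn x).map (algebraMap R A)) (by simp) (fun y hy => by
      obtain ⟨r, hr, rfl⟩ := List.mem_map.mp hy
      refine (IsLocalRing.mem_maximalIdeal _).mpr ((map_mem_nonunits_iff (algebraMap R A) r).mpr ?_)
      exact (IsLocalRing.mem_maximalIdeal _).mp (hofList ▸ (Submodule.subset_span hr : r ∈ Ideal.ofList (List.ofFn x))))
    (RingTheory.Sequence.IsWeaklyRegular.of_flat hreg.toIsWeaklyRegular)
  have hIm : I ≤ IsLocalRing.maximalIdeal A := RegLoc.le_maximalIdeal_of_isLocalRing_quotient I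
  refine ⟨Linkage88.flat_quotient I hIm inferInstance hofList hlen hregI, ?_⟩
  rcases eq_or_ne (Submodule.annihilator I) ⊤ with h | h
  · rw [h]; infer_instance
  · exact Linkage88.flat_quotient _ (IsLocalRing.le_maximalIdeal h)
      (Linkage88.isCohenMacaulay_annihilator hmcm h) hofList hlen hregJ

end Groth.Agent.S16517
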