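import Groth.Statements.S16518
import Groth.Agent.Linkage88.Flat
import Mathlib

set_option autoImplicit false
universe u
open CAlg

namespace Groth.Agent.S16518

/-- Let R be a Noetherian local ring, A a Gorenstein local ring which is a flat R-algebra through a
local homomorphism, I ⊂ A an ideal of codimension zero (the Krull dimension of A/I equals that of A)
with A/I Cohen–Macaulay, and J = (0 : I) its annihilator. For every R-regular sequence r_1, …, r_n
generating an ideal 𝔯 of R, the module J/𝔯J is the annihilator of the image of I in A/𝔯A: the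
natural map J/𝔯J → A/𝔯A is injective (J ∩ 𝔯A = 𝔯J) with image the ideal quotient (𝔯A : I) modulo 𝔯A
(J + 𝔯A = (𝔯A : I)). -/
theorem result (R A : Type u)
    [CommRing R] [IsNoetherianRing R] [IsLocalRing R] [CommRing A] [Algebra R A]
    [LocCoh.IsGorensteinLocalRing A] [IsLocalHom (algebraMap R A)] [Module.Flat R A] (I : Ideal A)
    (hI : ringKrullDim (A ⧸ I) = ringKrullDim A) [LocCoh.IsCohenMacaulayLocalRing (A ⧸ I)]
    (rs : List R) (hrs : RingTheory.Sequence.IsRegular R rs) :
    Submodule.annihilator I ⊔ (Ideal.ofList rs).map (algebraMap R A) =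
        Submodule.colon ((Ideal.ofList rs).map (algebraMap R A)) (I : Set A) ∧
      Submodule.annihilator I ⊓ (Ideal.ofList rs).map (algebraMap R A) =
        (Ideal.ofList rs).map (algebraMap R A) * Submodule.annihilator I := by
  have hm : ∀ x ∈ rs, algebraMap R A x ∈ IsLocalRing.maximalIdeal A := fun x hx => by
    refine (IsLocalRing.mem_maximalIdeal _).mpr ((map_mem_nonunits_iff (algebraMap R A) x).mpr ?_)
    intro hu
    exact hrs.top_ne_smul (by
      rw [smul_eq_mul, Ideal.mul_top, Ideal.eq_top_of_isUnit_mem (Ideal.ofList rs) (Submodule.subset_span hx) hu])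
  obtain ⟨h1, h2, -, -⟩ := Linkage88.link rs.length A I (Linkage88.isMCMQuot hI) (rs.map (algebraMap R A))
    (by simp) (fun y hy => by obtain ⟨x, hx, rfl⟩ := List.mem_map.mp hy; exact hm x hx)
    (RingTheory.Sequence.IsWeaklyRegular.of_flat hrs.toIsWeaklyRegular)
  rw [Ideal.map_ofList]
  refine ⟨?_, ?_⟩
  · ext a
    rw [← h1 a, Submodule.mem_colon]
    simp only [SetLike.mem_coe, smul_eq_mul]
  · exact le_antisymm h2 (le_inf (Submodule.mul_le.mpr fun a _ b hb => Ideal.mul_mem_left _ a hb) (Submodule.mul_le.mpr fun a ha b _ => Ideal.mul_mem_right b _ ha))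

end Groth.Agent.S16518
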