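import Groth.Statements.S16519
import Mathlib.Tactic
import Mathlib.Data.Fintype.Pi
import Mathlib.Algebra.Order.Chebyshev

set_option autoImplicit false
open CubicSurf

namespace Groth.Agent.S16519

open Finset

/-- The finite model. -/
def model : Finset (Fin 5 × (Fin 6 → Fin 3)) :=
  univ.filter fun q => (q.2 0 : ℕ) + q.2 1 + q.2 2 + q.2 3 + q.2 4 + q.2 5 = 3 * (q.1 : ℕ) ∧
    (q.2 0 : ℕ) ^ 2 + (q.2 1 : ℕ) ^ 2 + (q.2 2 : ℕ) ^ 2 + (q.2 3 : ℕ) ^ 2 + (q.2 4 : ℕ) ^ 2 +
      (q.2 5 : ℕ) ^ 2 + 1 = ((q.1 : ℕ) + 1) ^ 2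

theorem model_card : model.card = 72 := by decide +kernel


/-- On a smooth cubic surface there are exactly 72 divisor classes L with L² = 1 and L · K = −3. Stated
in the lattice ℤ^{1,6} with basis l, e_1, …, e_6 (l² = 1, e_i² = −1, K = −3l + Σ e_i): the integer
vectors (a, b) ∈ ℤ × ℤ^6, standing for a·l − Σ b_i e_i, with 3a − Σ b_i = 3 and a² − Σ b_i² = 1 form
a set of exactly 72 elements. -/
theorem result :
    {p : ℤ × (Fin 6 → ℤ) | 3 * p.1 - (Finset.univ.sum fun i => p.2 i) = 3 ∧
        p.1 ^ 2 - (Finset.univ.sum fun i => p.2 i ^ 2) = 1}.ncard = 72 := by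
  let g : Fin 5 × (Fin 6 → Fin 3) → ℤ × (Fin 6 → ℤ) := fun q => ((q.1 : ℤ) + 1, fun i => ((q.2 i : ℕ) : ℤ))
  have hg : Function.Injective g := by
    rintro ⟨a, b⟩ ⟨a', b'⟩ h
    simp only [g, Prod.mk.injEq] at h
    obtain ⟨h1, h2⟩ := h
    exact Prod.ext (Fin.ext (by simpa using h1)) (funext fun i => Fin.ext (by simpa using congrFun h2 i))
  have hs : {p : ℤ × (Fin 6 → ℤ) | 3 * p.1 - (Finset.univ.sum fun i => p.2 i) = 3 ∧
        p.1 ^ 2 - (Finset.univ.sum fun i => p.2 i ^ 2) = 1} = ↑(model.image g) := by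
    ext ⟨a, b⟩
    simp only [Set.mem_ofPred_eq, Finset.coe_image, Set.mem_image, Finset.mem_coe]
    constructor
    · rintro ⟨h1, h2⟩
      have hC : (∑ i, b i) ^ 2 ≤ 6 * ∑ i, b i ^ 2 := by
        simpa using sq_sum_le_card_mul_sum_sq (s := (univ : Finset (Fin 6))) (f := b)
      rw [show ∑ i, b i = 3 * a - 3 by linarith, show ∑ i, b i ^ 2 = a ^ 2 - 1 by linarith] at hC
      have ha1 : 1 ≤ a := by
        by_contra h
        nlinarith
      have ha5 : a ≤ 5 := by
        by_contra h
        nlinarith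
      have hb : ∀ i, 0 ≤ b i ∧ b i ≤ 2 := by
        intro i
        have h5 : (∑ j ∈ univ.erase i, b j) ^ 2 ≤ 5 * ∑ j ∈ univ.erase i, b j ^ 2 := by
          simpa using sq_sum_le_card_mul_sum_sq (s := univ.erase i) (f := b)
        rw [Finset.sum_erase_eq_sub (mem_univ i), Finset.sum_erase_eq_sub (mem_univ i),
          show ∑ j, b j = 3 * a - 3 by linarith, show ∑ j, b j ^ 2 = a ^ 2 - 1 by linarith] at h5
        interval_cases a <;> constructor <;> nlinarith
      refine ⟨(⟨(a - 1).toNat, by omega⟩, fun i => ⟨(b i).toNat, by have := hb i; omega⟩), ?_, ?_⟩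
      · simp only [model, mem_filter, mem_univ, true_and]
        rw [Fin.sum_univ_six] at h1 h2
        have e0 : ∀ i, ((b i).toNat : ℤ) = b i := fun i => Int.toNat_of_nonneg (hb i).1
        have ea : ((a - 1).toNat : ℤ) = a - 1 := Int.toNat_of_nonneg (by omega)
        constructor
        · zify
          rw [e0, e0, e0, e0, e0, e0, ea]
          linarith
        · zify
          rw [e0, e0, e0, e0, e0, e0, ea]
          linarith
      · simp only [g]
        refine Prod.ext ?_ (funext fun i => ?_)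
        · simp only; omega
        · simp only; exact Int.toNat_of_nonneg (hb i).1
    · rintro ⟨q, hq, he⟩
      simp only [model, mem_filter, mem_univ, true_and] at hq
      simp only [g, Prod.mk.injEq] at he
      obtain ⟨rfl, rfl⟩ := he
      rw [Fin.sum_univ_six, Fin.sum_univ_six]
      obtain ⟨q1, q2⟩ := hq
      zify at q1 q2
      exact ⟨by linarith, by linarith⟩
  rw [hs, Set.ncard_coe_finset, card_image_of_injective _ hg, model_card]

end Groth.Agent.S16519
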