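import Groth.Statements.S1652
import Groth.Agent.CurveSimple.Degree

set_option autoImplicit false
universe u
open CategoryTheory CategoryTheory.Limits AlgebraicGeometry
open Variety

namespace Groth.Agent.S1652

/-- On a proper curve over a field, if L and M are invertible modules with L ⊗ M ≅ O_X and both L and M
have a nonzero global section, then L is isomorphic to the structure sheaf. -/
theorem result (k : Type u) [Field k] (X : Scheme.{u}) [X.Over (Spec (CommRingCat.of k))]
    [IsIntegral X] [IsProper (X ↘ (Spec (CommRingCat.of k)))] (hdim : topologicalKrullDim X = 1)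
    (L M : X.Modules) (hL : PicF.IsInvertible L) (hM : PicF.IsInvertible M) (hLM : ClSub.IsInverseOf L M)
    (s : Coh.structureModule X ⟶ L) (hs : s ≠ 0) (t : Coh.structureModule X ⟶ M) (ht : t ≠ 0) :
    Nonempty (L ≅ Coh.structureModule X) := by
  have hL' := ProjTwist.isFinLocFreeOfRank_one hL
  have hM' := ProjTwist.isFinLocFreeOfRank_one hM
  obtain ⟨h1, h2⟩ := CurveSimple.deg_nonneg_of_hom k hdim hL s hs
  obtain ⟨h3, -⟩ := CurveSimple.deg_nonneg_of_hom k hdim hM t ht
  have h4 := EulerChar.deg_tens k hL' (le_of_eq hdim) hM'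
  obtain ⟨e⟩ := hLM
  have h5 : Curv2.deg k X (CohDev.tens L M) (1 * 1) = 0 := by
    rw [Curv2.deg]
    rw [EulerChar.euler_iso k (M := CohDev.tens L M) (N := Coh.structureModule X) e]
    push_cast
    ring
  rw [h5] at h4
  push_cast at h4
  exact h2 (by linarith)

end Groth.Agent.S1652
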