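import Groth.Statements.S16520
import Groth.Agent.VBLib.GlobGen
import Groth.Agent.VBLib.SplitOne
import Groth.Agent.VBLib.PushEuler
import Groth.Agent.CurveCoh.Integral
import Groth.Agent.PicPn.LineSplit
import Groth.Agent.FFCurve.P1Map
import Groth.Agent.S4466
import Groth.Agent.ProjTwist.Zero
import Groth.Agent.FEtCat.Rank
import Groth.Agent.EulerChar.FiniteMap
import Groth.Agent.GRLocus.Basic
import Groth.Agent.PicCl.Basic
import Groth.Agent.RankLocus.Basic
import Groth.Agent.CohDev.Coh

set_option autoImplicit false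
universe u
open CategoryTheory CategoryTheory.Limits AlgebraicGeometry
open Curves

set_option linter.style.haveILetI false
namespace Groth.Agent.S16520

open Groth.Agent.VBLib

variable (k : Type u) [Field k]

lemma euler_twist [IsIntegral (CohB1.ProjSpace 1 k)] (n : ℤ) :
    Curv2.euler k (CohB1.ProjSpace 1 k) (Twist.twistProjSpace 1 k n) = n + 1 := by
  obtain ⟨hPp, hPs, -, hPd⟩ := FFCurve.p1_facts k
  haveI : IsProper ((CohB1.ProjSpace 1 k) ↘ Spec (CommRingCat.of k)) := hPp
  haveI : Smooth ((CohB1.ProjSpace 1 k) ↘ Spec (CommRingCat.of k)) := hPs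
  haveI : (Twist.twistProjSpace 1 k n).IsQuasicoherent :=
    ProjTwist.isQCoh_of_isInvertible (ProjTwist.isInvertible_twistProjSpace 1 k n)
  rw [CurveCoh.euler_eq _ (goodCurve_of_smooth (k := k) (X := CohB1.ProjSpace 1 k) hPd).val hPd]
  have h := S4466.result k 1 one_pos n
  simp only [Finset.sum_range_succ, Finset.sum_range_zero, zero_add, pow_zero, pow_one, one_mul, neg_mul,
    Ring.choose_one_right, Nat.cast_one] at h
  linarith

lemma euler_coprod [IsIntegral (CohB1.ProjSpace 1 k)] (d : Fin 2 → ℤ)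
    (h2 : Coh.IsCoh (∐ fun i : Fin 2 => Twist.twistProjSpace 1 k (d i))) :
    Curv2.euler k (CohB1.ProjSpace 1 k) (∐ fun i => Twist.twistProjSpace 1 k (d i)) = d 0 + d 1 + 2 := by
  classical
  obtain ⟨hPp, hPs, -, hPd⟩ := FFCurve.p1_facts k
  haveI : IsProper ((CohB1.ProjSpace 1 k) ↘ Spec (CommRingCat.of k)) := hPp
  haveI : Smooth ((CohB1.ProjSpace 1 k) ↘ Spec (CommRingCat.of k)) := hPs
  have hY := goodCurve_of_smooth (k := k) (X := CohB1.ProjSpace 1 k) hPd
  haveI := hY.isLocallyNoetherian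
  let T := fun i => Twist.twistProjSpace 1 k (d i)
  let r : (∐ T) ⟶ T 0 := Sigma.desc fun i => if h : i = 0 then eqToHom (by rw [h]) else 0
  let q : (∐ T) ⟶ T 1 := Sigma.desc fun i => if h : i = 1 then eqToHom (by rw [h]) else 0
  have w : Sigma.ι T 0 ≫ q = 0 := by simp [q]
  let S := ShortComplex.mk (Sigma.ι T 0) q w
  let sp : S.Splitting :=
    { r := r, s := Sigma.ι T 1
      f_r := by simp [S, r]
      s_g := by simp [S, q]
      id := by
        refine Sigma.hom_ext _ _ fun i => ?_
        fin_cases i <;> simp [S, r, q] }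
  have hinv := fun i => ProjTwist.isInvertible_twistProjSpace 1 k (d i)
  have h1 := GenusZero.isCoh_of_invertible (hinv 0)
  have h3 := GenusZero.isCoh_of_invertible (hinv 1)
  have := hY.euler_add sp.shortExact h1 h2 h3
  rw [show Curv2.euler k (CohB1.ProjSpace 1 k) S.X₁ = d 0 + 1 from euler_twist k _,
    show Curv2.euler k (CohB1.ProjSpace 1 k) S.X₃ = d 1 + 1 from euler_twist k _] at this
  refine this.trans ?_
  ring



/-- Let E be an elliptic curve over an algebraically closed field k of characteristic zero (in place of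
the complex numbers): smooth, proper and geometrically connected over k, of dimension one and genus
dim_k H^1(E, O_E) = 1; let π : E → P^1_k be a k-morphism which is finite and flat of constant rank
2, and L an invertible O_E-module of degree d = χ(L) − χ(O_E). If d = 2e + 1 then π_*L ≅ O(e) ⊕ O(e
− 1); if d = 2e and L ≅ π^*O(e) then π_*L ≅ O(e) ⊕ O(e − 2); if d = 2e and L is not isomorphic to
π^*O(e) then π_*L ≅ O(e − 1) ⊕ O(e − 1). (Existence of isomorphisms of O-modules on P^1_k; the
source states the isomorphisms abstractly.) -/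
theorem result (k : Type u) [Field k]
    [IsAlgClosed k] [CharZero k] (E : Scheme.{u}) [E.Over (Spec (CommRingCat.of k))] [IsProper (E ↘ Spec (CommRingCat.of k))]
    [Smooth (E ↘ Spec (CommRingCat.of k))] [GeometricallyConnected (E ↘ Spec (CommRingCat.of k))]
    (hE : topologicalKrullDim E = 1) (hg : Curv2.genus k E = 1)
    (π : E ⟶ CohB1.ProjSpace 1 k) (hπ : π ≫ CohB1.ProjSpace.toSpec 1 k = E ↘ Spec (CommRingCat.of k))
    [IsFinite π] [Flat π] (hrk : ∀ y : ↥(CohB1.ProjSpace 1 k), Scheme.Hom.finrank π y = 2)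
    (L : E.Modules) (hL : PicF.IsInvertible L) (d : ℤ) (hd : Curv2.deg k E L 1 = d) :
    (∀ e : ℤ, d = 2 * e + 1 → Nonempty ((Scheme.Modules.pushforward π).obj L ≅
        ∐ fun j : Fin 2 => Twist.twistProjSpace 1 k (![e, e - 1] j))) ∧
    (∀ e : ℤ, d = 2 * e → Nonempty (L ≅ (Scheme.Modules.pullback π).obj (Twist.twistProjSpace 1 k e)) →
        Nonempty ((Scheme.Modules.pushforward π).obj L ≅
          ∐ fun j : Fin 2 => Twist.twistProjSpace 1 k (![e, e - 2] j))) ∧
    (∀ e : ℤ, d = 2 * e → IsEmpty (L ≅ (Scheme.Modules.pullback π).obj (Twist.twistProjSpace 1 k e)) →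
        Nonempty ((Scheme.Modules.pushforward π).obj L ≅
          ∐ fun j : Fin 2 => Twist.twistProjSpace 1 k (![e - 1, e - 1] j))) := by
  classical
  haveI : IsIntegral E := CurveCoh.isIntegral_of_smooth k E
  obtain ⟨hPp, hPs, hPi, hPd⟩ := FFCurve.p1_facts k
  haveI := hPi
  haveI : IsProper ((CohB1.ProjSpace 1 k) ↘ Spec (CommRingCat.of k)) := hPp
  haveI : Smooth ((CohB1.ProjSpace 1 k) ↘ Spec (CommRingCat.of k)) := hPs
  have w : π ≫ ((CohB1.ProjSpace 1 k) ↘ Spec (CommRingCat.of k)) = E ↘ Spec (CommRingCat.of k) := hπ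
  have hX := VBLib.goodCurve_of_smooth (k := k) hE
  have hY := VBLib.goodCurve_of_smooth (k := k) (X := CohB1.ProjSpace 1 k) hPd
  haveI := hX.isLocallyNoetherian
  haveI := hY.isLocallyNoetherian
  have hb := VBLib.bijective_toGlobal_of_isAlgClosed (k := k) (X := E)
  haveI : LocallyOfFinitePresentation π := GRLocus.locallyOfFinitePresentation_of_lft π
  have hO := FEtCat.Rank.isFinLocFreeOfRank_of_finrank π 2 hrk
  haveI : Surjective π := Scheme.Hom.one_le_finrank_iff_surjective π |>.mp fun y => by simp [hrk]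
  have hξ : π (genericPoint E) = genericPoint (CohB1.ProjSpace 1 k) := by
    refine IsGenericPoint.eq ?_ (genericPoint_spec _)
    have := (genericPoint_spec E).image π.continuous
    rwa [Set.image_univ, Set.range_eq_univ.mpr π.surjective, closure_univ] at this
  have hres : π.residueDegree (genericPoint E) = 2 := by
    have hgen : ∀ y, y = π (genericPoint E) →
        Module.finrank ((CohB1.ProjSpace 1 k).presheaf.stalk y)
          (((Scheme.Modules.pushforward π).obj (Coh.structureModule E)).presheaf.stalk y) =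
        π.residueDegree (genericPoint E) := by
      rintro y rfl
      exact EulerChar.finrank_stalk_push π (fun x => EulerChar.eq_genericPoint_of_map_eq π w hE hPd hξ) hξ
    rw [← hgen _ hξ.symm]
    exact VBLib.rk_eq hO
  let T : ℤ → (CohB1.ProjSpace 1 k).Modules := fun n => Twist.twistProjSpace 1 k n
  have hT : ∀ n, PicF.IsInvertible (T n) := fun n => ProjTwist.isInvertible_twistProjSpace 1 k n
  have hTr : ∀ n, FlatMod.IsFinLocFreeOfRank 1 (T n) := fun n => VBLib.ofRank_one_of_invertible (hT n)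
  have hχO : Curv2.euler k (CohB1.ProjSpace 1 k) (Coh.structureModule (CohB1.ProjSpace 1 k)) = 1 := by
    have z : Coh.structureModule (CohB1.ProjSpace 1 k) ≅ Twist.twistProjSpace 1 k 0 :=
      ProjTwist.twistZeroIso (CohB1.polyGrading 1 k)
    rw [EulerChar.euler_iso k z]
    exact (euler_twist k 0).trans (by norm_num)
  have hTd : ∀ n, VBLib.dg k (T n) = n := fun n => by
    rw [← VBLib.dg_eq (hTr n), Curv2.deg, euler_twist k n, hχO]
    ring
  let P : ℤ → E.Modules := fun n => (Scheme.Modules.pullback π).obj (T n)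
  have hP : ∀ n, PicF.IsInvertible (P n) := fun n => PicCl.isInvertible_pullback π (hT n)
  have hPr : ∀ n, FlatMod.IsFinLocFreeOfRank 1 (P n) := fun n => VBLib.ofRank_one_of_invertible (hP n)
  have hPd' : ∀ n, VBLib.dg k (P n) = 2 * n := fun n => by
    rw [← VBLib.dg_eq (hPr n), EulerChar.deg_pullback π w hE hPd hξ (hTr n), hres, VBLib.dg_eq (hTr n), hTd]
    norm_num
  have hLr := VBLib.ofRank_one_of_invertible hL
  have hLf := VBLib.isFinLocFree_of_ofRank hLr
  rw [VBLib.dg_eq hLr] at hd
  -- nonzero maps between line bundles of positive difference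
  have hex : ∀ (A B : E.Modules), PicF.IsInvertible A → PicF.IsInvertible B → VBLib.dg k A < VBLib.dg k B →
      ∃ φ : A ⟶ B, Mono φ := by
    intro A B hA hB hlt
    have hAr := VBLib.ofRank_one_of_invertible hA
    have hBr := VBLib.ofRank_one_of_invertible hB
    have hAf := VBLib.isFinLocFree_of_ofRank hAr
    obtain ⟨e⟩ := VBLib.SerreGen.nonempty_iso A B hAf
    obtain ⟨hD, hDr⟩ := VBLib.DualDeg.isFinLocFree_dual hX.pid hAf
    obtain ⟨hTf, hTr', hTd'⟩ := hX.dg_tensor_line hD hB
    have hrr := hX.riemannRoch hb (VBLib.isCoh_of_isFinLocFree hTf)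
    rw [hTr', hTd', hDr, hX.dg_dual hAf, VBLib.rk_eq hAr, hg] at hrr
    push_cast at hrr
    have hne : ¬ Subsingleton (Coh.HH E (RefHull.homSh A B) 0) := fun hs => by
      haveI := hs
      haveI : Subsingleton (Coh.HH E (CohB1.tensorMod (RefHull.dual A) B) 0) :=
        (ProperFin.hMap_zero_injective e.hom).subsingleton
      rw [Module.finrank_zero_of_subsingleton (R := k) (M := Coh.HH E (CohB1.tensorMod (RefHull.dual A) B) 0)] at hrr
      push_cast at hrr
      linarith
    rw [not_subsingleton_iff_nontrivial] at hne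
    obtain ⟨c, hc⟩ := exists_ne (0 : Coh.HH E (RefHull.homSh A B) 0)
    refine ⟨VBLib.Serre.toHom A B (ProperFin.h0Sec _ c), (hX.line_hom hAf (VBLib.isFinLocFree_of_ofRank hBr)
      (VBLib.rk_eq hAr) (VBLib.rk_eq hBr) _ fun h0 => hc ((ProperFin.h0Sec _).injective ?_)).1⟩
    rw [map_zero]
    refine Subtype.ext (funext fun y => LinearMap.ext fun t => ?_)
    rw [← VBLib.Serre.stalkLin_toHom A B _ y.1 t, h0, Omega.Stalks.stalkLin_zero]
    rfl
  have hpp : ∀ n, FlatMod.IsFinLocFree ((Scheme.Modules.pushforward π).obj (P n)) ∧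
      VBLib.rk ((Scheme.Modules.pushforward π).obj (P n)) = 2 := fun n => by
    haveI : (Coh.structureModule E).IsQuasicoherent := ProjTwist.isQuasicoherent_structureModule _
    let θ : CohDev.tens (T n) ((Scheme.Modules.pushforward π).obj (Coh.structureModule E)) ≅
        (Scheme.Modules.pushforward π).obj (P n) :=
      ProjTwist.tensComm (T n) _ ≪≫
        (ProjForm.projNatIso π (VBLib.isFinLocFree_of_ofRank (hTr n))).app (Coh.structureModule E) ≪≫
        (Scheme.Modules.pushforward π).mapIso (ProjTwist.oneTens _)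
    have h2 : FlatMod.IsFinLocFreeOfRank 2 ((Scheme.Modules.pushforward π).obj (P n)) :=
      RankLocus.isFinLocFreeOfRank_of_iso θ (VBLib.ofRank_tensor (hTr n) hO)
    exact ⟨VBLib.isFinLocFree_of_ofRank h2, VBLib.rk_eq h2⟩
  let F := (Scheme.Modules.pushforward π).obj L
  have hLc := VBLib.isCoh_of_isFinLocFree hLf
  haveI := hLc.1
  have hFc : Coh.IsCoh F := ProperFin.isCoh_push_of_isFinite π _ hLc
  haveI := hFc.1
  obtain ⟨φ, hφ⟩ := hex L (P (d.natAbs + 1)) hL (hP _) (by rw [hd, hPd']; omega)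
  obtain ⟨ψ, hψ⟩ := hex (P (- (d.natAbs + 1 : ℤ))) L (hP _) hL (by rw [hd, hPd']; omega)
  haveI := hφ
  haveI := hψ
  haveI : (Scheme.Modules.pushforward π).IsRightAdjoint := (Scheme.Modules.pullbackPushforwardAdjunction π).isRightAdjoint
  have hFf : FlatMod.IsFinLocFree F := hY.sub ((Scheme.Modules.pushforward π).map φ) hFc.1 (hpp _).1
  have hF2 : VBLib.rk F = 2 := le_antisymm
    ((VBLib.rk_le_of_mono ((Scheme.Modules.pushforward π).map φ) (VBLib.isCoh_of_isFinLocFree (hpp _).1)).trans_eq (hpp _).2)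
    ((hpp _).2.symm.trans_le (VBLib.rk_le_of_mono ((Scheme.Modules.pushforward π).map ψ) hFc))
  obtain ⟨c, hanti, ⟨e⟩⟩ := PicPn.exists_splitting (k := k) (E := F) (r := 2) (hF2 ▸ VBLib.ofRank_rk hFf)
  have hχ : c 0 + c 1 + 2 = d := by
    rw [← euler_coprod k c (CohDev.isCoh_of_iso e hFc), ← EulerChar.euler_iso k e,
      show Curv2.euler k (CohB1.ProjSpace 1 k) F = Curv2.euler k E L from VBLib.PushEuler.euler_push π w L]
    have h1 : Curv2.euler k E (Coh.structureModule E) = 0 := by
      haveI : (Coh.structureModule E).IsQuasicoherent := ProjTwist.isQuasicoherent_structureModule _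
      rw [CurveCoh.euler_eq _ hX.val hX.dim, VBLib.finrank_H0_structure_eq_one hb,
        show Module.finrank k (Coh.HH E (Coh.structureModule E) 1) = 1 from hg]
      simp
    rw [← hd, VBLib.dg, Curv2.deg, h1]
    simp
  have hca : c 1 ≤ c 0 := hanti (Fin.zero_le 1)
  let adj := Scheme.Modules.pullbackPushforwardAdjunction π
  have htr : ∀ n (f : T n ⟶ F), f ≠ 0 → (adj.homEquiv (T n) L).symm f ≠ 0 := fun n f hf h0 => hf (by
    rw [← (adj.homEquiv (T n) L).apply_symm_apply f, h0, Adjunction.homEquiv_unit, Functor.map_zero, comp_zero])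
  have hup : 2 * c 0 ≤ d := by
    have hne : Sigma.ι (fun i => T (c i)) 0 ≫ e.inv ≠ 0 := fun h0 => by
      have h1 : Sigma.ι (fun i => T (c i)) 0 = 0 :=
        (cancel_mono e.inv).mp (by rw [h0, zero_comp])
      have h2 := congrArg (· ≫ Sigma.desc fun i : Fin 2 => if h : i = 0 then eqToHom (by rw [h]) else
        (0 : T (c i) ⟶ T (c 0))) h1
      simp at h2
      have := VBLib.rk_eq_zero_of_isZero ((IsZero.iff_id_eq_zero _).mpr h2)
      rw [VBLib.rk_eq (hTr (c 0))] at this
      omega
    have := (hX.line_hom (VBLib.isFinLocFree_of_ofRank (hPr (c 0))) hLf (VBLib.rk_eq (hPr _)) (VBLib.rk_eq hLr)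
      _ (htr _ _ hne)).2.1
    rw [hPd', hd] at this
    exact this
  have hiso : ∀ n, 2 * n = d → c 0 = n → Nonempty (L ≅ P n) := fun n hn hcn => by
    have hne : Sigma.ι (fun i => T (c i)) 0 ≫ e.inv ≠ 0 := fun h0 => by
      have h1 : Sigma.ι (fun i => T (c i)) 0 = 0 :=
        (cancel_mono e.inv).mp (by rw [h0, zero_comp])
      have h2 := congrArg (· ≫ Sigma.desc fun i : Fin 2 => if h : i = 0 then eqToHom (by rw [h]) else
        (0 : T (c i) ⟶ T (c 0))) h1
      simp at h2
      have := VBLib.rk_eq_zero_of_isZero ((IsZero.iff_id_eq_zero _).mpr h2)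
      rw [VBLib.rk_eq (hTr (c 0))] at this
      omega
    have hi := (hX.line_hom (VBLib.isFinLocFree_of_ofRank (hPr (c 0))) hLf (VBLib.rk_eq (hPr _)) (VBLib.rk_eq hLr)
      _ (htr _ _ hne)).2.2 (by rw [hPd', hd, hcn]; exact hn)
    exact ⟨(@asIso _ _ _ _ _ hi).symm ≪≫ eqToIso (congrArg P hcn)⟩
  have hlow : ∀ n, Nonempty (L ≅ P n) → n ≤ c 0 := fun n ⟨θ⟩ => by
    by_contra hlt
    push Not at hlt
    have hf : adj.homEquiv (T n) L θ.inv ≫ e.hom = 0 := by
      let π' : ∀ i : Fin 2, (∐ fun j => T (c j)) ⟶ T (c i) := fun i =>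
        Sigma.desc fun j => if h : j = i then eqToHom (by rw [h]) else 0
      have htot : (∑ i, π' i ≫ Sigma.ι (fun j => T (c j)) i) = 𝟙 _ := by
        refine Sigma.hom_ext _ _ fun j => ?_
        fin_cases j <;> simp [π', Fin.sum_univ_two]
      rw [← Category.comp_id (adj.homEquiv (T n) L θ.inv ≫ e.hom), ← htot, Preadditive.comp_sum]
      refine Finset.sum_eq_zero fun i _ => ?_
      rw [← Category.assoc, hY.line_hom_eq_zero (VBLib.isFinLocFree_of_ofRank (hTr n))
        (VBLib.isFinLocFree_of_ofRank (hTr (c i))) (VBLib.rk_eq (hTr n)) (VBLib.rk_eq (hTr _))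
        (by rw [hTd, hTd]; have := hanti (Fin.zero_le i); omega) (_ ≫ π' i), zero_comp]
    have h1 : adj.homEquiv (T n) L θ.inv = 0 := (cancel_mono e.hom).mp (by rw [hf, zero_comp])
    have h2 : θ.inv = 0 := by
      refine (adj.homEquiv (T n) L).injective ?_
      rw [h1, Adjunction.homEquiv_unit, Functor.map_zero, comp_zero]
    have h3 : 𝟙 L = 0 := by rw [← θ.hom_inv_id, h2, comp_zero]
    have := VBLib.rk_eq_zero_of_isZero ((IsZero.iff_id_eq_zero _).mpr h3)
    rw [VBLib.rk_eq hLr] at this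
    omega
  have fin : ∀ a b : ℤ, c 0 = a → c 1 = b →
      Nonempty (F ≅ ∐ fun j : Fin 2 => Twist.twistProjSpace 1 k (![a, b] j)) := fun a b ha hb' => by
    have : c = ![a, b] := by
      funext i
      fin_cases i <;> simp [ha, hb']
    exact ⟨e ≪≫ eqToIso (by rw [this])⟩
  refine ⟨fun n hn => fin _ _ (by omega) (by omega), fun n hn hθ => ?_, fun n hn hθ => ?_⟩
  · have := hlow n hθ
    exact fin _ _ (by omega) (by omega)
  · have hne : c 0 ≠ n := fun hcn => by
      obtain ⟨θ⟩ := hiso n hn.symm hcn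
      exact hθ.false θ
    exact fin _ _ (by omega) (by omega)

end Groth.Agent.S16520
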