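import Groth.Statements.S1653
import Groth.Agent.FibBound.Basic
import Groth.Agent.FlatMisc.FibreDimScheme


set_option autoImplicit false
universe u
open CategoryTheory CategoryTheory.Limits AlgebraicGeometry
open Variety

namespace Groth.Agent.S1653

/-- Let f : X → Y be a k-morphism of schemes locally of finite type over a field k, with X irreducible
of dimension a, and let the closure of the image of f have dimension b. Then the local fibre
dimension of f at every point of X is at least a - b, and the set of points where it equals a - b is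
open and dense. -/
theorem result (k : Type u) [Field k] (X Y : Scheme.{u}) [X.Over (Spec (CommRingCat.of k))] [Y.Over (Spec (CommRingCat.of k))]
    [LocallyOfFiniteType (X ↘ (Spec (CommRingCat.of k)))] [LocallyOfFiniteType (Y ↘ (Spec (CommRingCat.of k)))] [IrreducibleSpace X]
    (f : X ⟶ Y) (hf : f ≫ (Y ↘ (Spec (CommRingCat.of k))) = X ↘ (Spec (CommRingCat.of k))) (a b : ℕ) (ha : topologicalKrullDim X = a)
    (hb : topologicalKrullDim (closure (Set.range f.base)) = b) :
    (∀ x : X, ((a - b : ℕ) : WithBot ℕ∞) ≤ FlatMor.fibreDimAt f x) ∧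
      IsOpen {x : X | FlatMor.fibreDimAt f x = (a - b : ℕ)} ∧ Dense {x : X | FlatMor.fibreDimAt f x = (a - b : ℕ)} := by
  haveI : LocallyOfFiniteType (f ≫ (Y ↘ Spec (CommRingCat.of k))) := hf.symm ▸ inferInstance
  haveI : LocallyOfFiniteType f := locallyOfFiniteType_of_comp f (Y ↘ Spec (CommRingCat.of k))
  set η := genericPoint X
  have hηall : ∀ x : X, η ⤳ x := fun x => genericPoint_specializes x
  have hmax : ∀ z, z ⤳ η → z = η := fun z hz => (hz.antisymm (hηall z)).eq
  obtain ⟨e, he, hsum⟩ := FibBound.dimPt_eq_add f k hf η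
  rw [FibBound.krullDim_specs_of_max f hmax] at he
  have hrange : closure (Set.range f.base) = closure {f η} := by
    refine le_antisymm (closure_minimal ?_ isClosed_closure) (closure_mono (by simp))
    rintro _ ⟨x, rfl⟩
    exact specializes_iff_mem_closure.1 ((hηall x).map f.continuous)
  rw [hrange, FibBound.topDim_closure_singleton k] at hb
  rw [VarDim.topologicalKrullDim_eq_of_irreducible k] at ha
  have ha' : VarDim.dimPt k X η = a := by exact_mod_cast ha
  have hb' : VarDim.dimPt k Y (f η) = b := by exact_mod_cast hb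
  obtain rfl : e = a - b := by omega
  have hge : ∀ x : X, ((a - b : ℕ) : WithBot ℕ∞) ≤ FlatMor.fibreDimAt f x := fun x =>
    he ▸ FibBound.le_fibreDimAt_of_max f (hηall x) hmax
  have hset : {x : X | FlatMor.fibreDimAt f x = (a - b : ℕ)} =
      {x : X | FlatMor.fibreDimAt f x ≤ ((a - b : ℕ) : WithBot ℕ∞)} :=
    Set.ext fun x => ⟨fun h => h.le, fun h => le_antisymm h (hge x)⟩
  refine ⟨hge, hset ▸ FlatMisc.FibreDimScheme.isOpen_fibreDimAt_le f (a - b), ?_⟩
  rw [dense_iff_closure_eq, Set.eq_univ_iff_forall]
  intro x
  have hsub : ({η} : Set X) ⊆ {x : X | FlatMor.fibreDimAt f x = (a - b : ℕ)} :=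
    Set.singleton_subset_iff.2 he
  exact closure_mono hsub (specializes_iff_mem_closure.1 (hηall x))

end Groth.Agent.S1653
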