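import Groth.Statements.S16534
import Groth.Agent.FFCurve.CurveForms
import Groth.Agent.FFCurve.Canonical
import Groth.Agent.FF.Linear
import Groth.Agent.PicCl.Basic

set_option autoImplicit false
universe u
open CategoryTheory CategoryTheory.Limits AlgebraicGeometry
open Curves

set_option linter.style.haveILetI false
set_option backward.isDefEq.respectTransparency false
set_option backward.isDefEq.respectTransparency.types false
open CategoryTheory AlgebraicGeometry
namespace Groth.Agent.S16534

/-- Over an algebraically closed field k of characteristic zero (in place of the complex numbers), a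
smooth connected quintic curve of genus 2 in P^4 lies in a hyperplane and on a quadric surface in
that hyperplane. Here C is smooth, proper and integral of dimension one over k with dim_k H^1(C,
O_C) = 2, i : C → P^4_k is a closed immersion over k with deg i^*O(1) = χ(i^*O(1)) − χ(O_C) = 5, and
the conclusion provides a nonzero linear form l and a quadratic form q not divisible by l such that
i factors through V_+(l) ∩ V_+(q). -/
theorem result (k : Type u) [Field k] [IsAlgClosed k]
    [CharZero k] (C : Scheme.{u}) [C.Over (Spec (CommRingCat.of k))] [Smooth (C ↘ Spec (CommRingCat.of k))] [IsProper (C ↘ Spec (CommRingCat.of k))]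
    [IsIntegral C] (hC : topologicalKrullDim C = 1) (hg : Curv2.genus k C = 2)
    (i : C ⟶ CohB1.ProjSpace 4 k) [IsClosedImmersion i] (hi : i ≫ CohB1.ProjSpace.toSpec 4 k = C ↘ Spec (CommRingCat.of k))
    (hdeg : Curv2.deg k C ((Scheme.Modules.pullback i).obj (Twist.twistProjSpace 4 k 1)) 1 = 5) :
    ∃ (l : LefPen.Form 4 k 1) (q : LefPen.Form 4 k 2), l ≠ 0 ∧ q.1 ∉ Ideal.span {l.1} ∧
      ∃ j : C ⟶ (LefPen.hypIdeal l ⊔ LefPen.hypIdeal q).subscheme,
        j ≫ (LefPen.hypIdeal l ⊔ LefPen.hypIdeal q).subschemeι = i := by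
  classical
  haveI := FFCurve.regCurve_of_smooth (X := C) k hC
  have hK := FFCurve.isFunctionField_of_isAlgClosed (X := C) k hC
  have hgen := FFCurve.genus_eq_genus (X := C) k hC hK
  have hL : PicF.IsInvertible (SepTang48.Lf i) :=
    PicCl.isInvertible_pullback i (ProjTwist.isInvertible_twistProjSpace 4 k 1)
  change Curv2.deg k C (SepTang48.Lf i) 1 = 5 at hdeg
  rw [FFCurve.deg_eq k hC hK hL] at hdeg
  rw [hgen] at hg
  obtain ⟨q, hq, hvan⟩ := FFCurve.exists_coords k hC i hi hL
  set D := FFCurve.divOf k hC hL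
  have e1 : (FunFld.ell (1 • D) : ℤ) = 4 := by
    rw [one_smul, FF.ell_eq_of_deg_ge hK (by omega)]; omega
  have hd2 : (2 • D).deg = 10 := by rw [two_nsmul, FF.deg_add]; omega
  have e2 : (FunFld.ell (2 • D) : ℤ) = 9 := by
    rw [FF.ell_eq_of_deg_ge hK (by omega)]; omega
  haveI : FiniteDimensional k (LefPen.Form 4 k 1) := PlanePts.instFiniteForms (R := k) (n := 5) (d := 1)
  haveI : FiniteDimensional k (LefPen.Form 4 k 2) := PlanePts.instFiniteForms (R := k) (n := 5) (d := 2)
  haveI := FF.finiteDimensional_L hK.1 (1 • D)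
  haveI := FF.finiteDimensional_L hK.1 (2 • D)
  have f1 : Module.finrank k (LefPen.Form 4 k 1) = 5 := (PlanePts.finrank_forms k 4 _).trans (by decide)
  have f2 : Module.finrank k (LefPen.Form 4 k 2) = 15 := (PlanePts.finrank_forms k 4 _).trans (by decide)
  obtain ⟨N₁, hN₁, hv1⟩ := FFCurve.exists_forms k (d := 1) q hq
  obtain ⟨N₂, hN₂, hv2⟩ := FFCurve.exists_forms k (d := 2) q hq
  obtain ⟨l, hl, hl0⟩ := Submodule.exists_mem_ne_zero_of_ne_bot (p := N₁) fun h => by
    rw [h, finrank_bot, f1] at hN₁; omega
  let μ : LefPen.Form 4 k 1 →ₗ[k] LefPen.Form 4 k 2 :=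
    ((LinearMap.mulRight k l.1).comp (MvPolynomial.homogeneousSubmodule (Fin 5) k 1).subtype).codRestrict _ fun a =>
      (MvPolynomial.mem_homogeneousSubmodule 2 _).2
        (((MvPolynomial.mem_homogeneousSubmodule _ _).1 a.2).mul ((MvPolynomial.mem_homogeneousSubmodule _ _).1 l.2))
  obtain ⟨p, hp, hpr⟩ : ∃ p ∈ N₂, p ∉ LinearMap.range μ := by
    by_contra! h
    have h1 := Submodule.finrank_mono (show N₂ ≤ LinearMap.range μ from h)
    have h2 := LinearMap.finrank_range_le μ
    omega
  refine ⟨l, p, hl0, fun hmem => hpr ?_,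
    IsClosedImmersion.lift (LefPen.hypIdeal l ⊔ LefPen.hypIdeal p).subschemeι i ?_, IsClosedImmersion.lift_fac _ _ _⟩
  · obtain ⟨a, ha⟩ := Ideal.mem_span_singleton'.1 hmem
    have hl1 := (MvPolynomial.mem_homogeneousSubmodule _ _).1 l.2
    refine ⟨⟨MvPolynomial.homogeneousComponent 1 a, MvPolynomial.homogeneousComponent_mem 1 a⟩, Subtype.ext ?_⟩
    have key : ∀ j, MvPolynomial.homogeneousComponent 2 (MvPolynomial.homogeneousComponent j a * l.1) =
        if j = 1 then MvPolynomial.homogeneousComponent j a * l.1 else 0 := fun j => by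
      rw [MvPolynomial.homogeneousComponent_of_mem ((MvPolynomial.mem_homogeneousSubmodule _ _).2
        ((MvPolynomial.homogeneousComponent_isHomogeneous j a).mul hl1))]
      split_ifs with h1 h2 <;> first | rfl | omega
    have h3 := MvPolynomial.homogeneousComponent_of_mem (m := 2) p.2
    rw [if_pos rfl, ← ha] at h3
    conv_rhs => rw [← ha, ← h3]
    conv_rhs => rw [← MvPolynomial.sum_homogeneousComponent a, Finset.sum_mul, map_sum]
    rw [Finset.sum_congr rfl fun j _ => key j, Finset.sum_ite_eq']
    split_ifs with h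
    · rfl
    · show MvPolynomial.homogeneousComponent 1 a * l.1 = 0
      rw [MvPolynomial.homogeneousComponent_eq_zero 1 a (by simpa using h), zero_mul]
  · rw [Scheme.IdealSheafData.ker_subschemeι]
    exact sup_le (hvan 1 l (hv1 l hl)) (hvan 2 p (hv2 p hp))

end Groth.Agent.S16534
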