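import Groth.Statements.S16537
import Groth.Agent.DispLib.Iterate

set_option autoImplicit false
universe u v
open Disp

namespace Groth.Agent.S16537

/-- Let p be a prime and R a commutative ring in which p is nilpotent; write W = W(R) with Frobenius σ
and, for n ≥ 0, I_n ⊆ W for the kernel of the truncation W → W_n(R). Let (P, Q, F, V⁻¹) be a display
over R: a 3n-display whose operator V# : P → W ⊗_{σ,W} P (the W-linear map with V#(w·F x) = p·(w ⊗
x) and V#(w·V⁻¹ y) = w ⊗ y) satisfies the nilpotence condition. Then for every n there is an N such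
that the iterate V^{(N+1)#} : P → W ⊗_{σ^(N+1),W} P has image in I_n·(W ⊗_{σ^(N+1),W} P);
equivalently the map W_n(R) ⊗_W P → W_n(R) ⊗_{σ^(N+1),W} P induced by V^{(N+1)#} is zero. -/
theorem result (p : ℕ) [Fact p.Prime]
    (R : Type u) [CommRing R] (hp : IsNilpotent (p : R))
    (P : Type v) [AddCommGroup P] [Module (WittVector p R) P] (D : W4c1extbt610.Display3n p R P)
    (Vs : P →ₗ[WittVector p R] Dieu.BC (WittVector.frobenius : WittVector p R →+* WittVector p R) P) (hVs : Dieu.IsVSharp D Vs)
    (hnil : Dieu.IsVNilpotent Vs) (n : ℕ) :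
    ∃ N : ℕ, ∀ x : P, Dieu.vSharpPow Vs N x ∈
      (RingHom.ker (WittVector.truncate (p := p) (R := R) n)) •
        (⊤ : Submodule (WittVector p R) (Dieu.BC ((WittVector.frobenius : WittVector p R →+* WittVector p R) ^ (N + 1)) P)) := by
  obtain ⟨N, hN⟩ := hnil
  obtain ⟨e, he⟩ := hp
  set J : Ideal (WittVector p R) := W4c1extbt610.IV p R ⊔ Ideal.span {(p : WittVector p R)} with hJ
  have key : ∀ k : ℕ, ∀ x : P, Dieu.vSharpPow Vs (k * (N + 1) + N) x ∈
      (Ideal.span {(p : WittVector p R) ^ k} * J) • (⊤ : Submodule (WittVector p R)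
        (Dieu.BC ((WittVector.frobenius : WittVector p R →+* WittVector p R) ^ (k * (N + 1) + N + 1)) P)) := by
    intro k
    induction k with
    | zero =>
      intro x
      rw [show 0 * (N + 1) + N = N by simp, pow_zero, Ideal.span_singleton_one, Ideal.top_mul]
      exact hN x
    | succ k ih =>
      intro x
      rw [show (k + 1) * (N + 1) + N = k * (N + 1) + N + N + 1 by ring]
      refine Submodule.smul_mono_left ?_ (DispLib.vSharpPow_comp_mem Vs _ N ih hN x)
      rw [Ideal.map_mul, mul_comm J, pow_succ (p : WittVector p R) k, ← Ideal.span_singleton_mul_span_singleton]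
      refine Ideal.mul_mono (Ideal.mul_mono ?_ (DispLib.map_pow_frobenius_J N)) le_rfl
      rw [Ideal.map_span, Set.image_singleton, map_pow, map_natCast]
  refine ⟨e * n * (N + 1) + N, fun x => Submodule.smul_mono_left ?_ (key (e * n) x)⟩
  refine Ideal.mul_le_left.trans ((Ideal.span_singleton_le_iff_mem _).2 ?_)
  rw [WittVector.mem_ker_truncate]
  intro i hi
  have := DispLib.coeff_p_pow_mul_eq_zero (A := R) (m := e) he n 1 i hi
  rwa [mul_one] at this

end Groth.Agent.S16537
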