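import Groth.Statements.S16539
import Groth.Agent.DispLib.Iterate
import Groth.Agent.DispLib.PerfectDieu

set_option autoImplicit false
universe u v
open Disp

namespace Groth.Agent.S16539

/-- Let p be a prime, k a perfect commutative ring of characteristic p, W = W(k) with Frobenius
automorphism σ, and M a finitely generated projective W-module carrying a Dieudonné module
structure, a σ-semilinear F and a σ⁻¹-semilinear V with FV = VF = p. Let D be the associated
3n-display (M, VM, F, V⁻¹): the 3n-display structure on M whose submodule is the image of V, whose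
Frobenius operator is F and whose inverse operator sends V m to m. Then D is a display, i.e. its
operator V# satisfies the nilpotence condition, if and only if V is topologically nilpotent for the
p-adic topology on M: for every e some power of V maps M into p^e M. -/
theorem result (p : ℕ) [Fact p.Prime] (k : Type u) [CommRing k]
    [CharP k p] [PerfectRing k p]
    (M : Type v) [AddCommGroup M] [Module (WittVector p k) M] [Module.Finite (WittVector p k) M]
    [Module.Projective (WittVector p k) M] (Dm : Dieu.DieuMod p k M) (D : W4c1extbt610.Display3n p k M)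
    (hF : D.F = Dm.F) (hQ : ∀ x : M, x ∈ D.Q ↔ x ∈ Set.range Dm.V)
    (hV : ∀ (m : M) (h : Dm.V m ∈ D.Q), D.Vinv ⟨Dm.V m, h⟩ = m) :
    Dieu.IsDisplay D ↔ Dm.VTopNilp := by
  have hnil : IsNilpotent (p : k) := ⟨1, by simp [CharP.cast_eq_zero]⟩
  set τ : WittVector p k →+* WittVector p k :=
    ((WittVector.frobeniusEquiv p k).symm : WittVector p k →+* WittVector p k) with hτ
  have hστ : ∀ a : WittVector p k, WittVector.frobenius (τ a) = a := fun a =>
    (WittVector.frobeniusEquiv p k).apply_symm_apply a
  -- the candidate for `V^#`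
  let Vs : M →ₗ[WittVector p k] Dieu.BC (WittVector.frobenius : WittVector p k →+* WittVector p k) M :=
    { toFun := fun x => Dieu.BC.tmul _ 1 (Dm.V x)
      map_add' := fun x y => by rw [map_add, Dieu.BC.tmul_add]
      map_smul' := fun c x => by
        rw [map_smulₛₗ, ← Dieu.BC.tmul_apply_eq, Dieu.BC.tmul_eq_smul_tmul_one, RingHom.id_apply]
        exact congrArg (fun r : WittVector p k => r • _) (hστ c) }
  have hVs : Dieu.IsVSharp D Vs := by
    refine ⟨fun w x => ?_, fun w y => ?_⟩
    · rw [map_smul, hF]
      show w • Dieu.BC.tmul _ 1 (Dm.V (Dm.F x)) = _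
      rw [Dm.V_F, ← Dieu.BC.tmul_mul_apply, one_mul, map_natCast, Dieu.BC.smul_tmul, Dieu.BC.smul_tmul, mul_comm]
    · obtain ⟨m, hm⟩ := (hQ y).1 y.2
      have hm' : Dm.V m ∈ D.Q := hm ▸ y.2
      have hy : y = ⟨Dm.V m, hm'⟩ := Subtype.ext hm.symm
      rw [hy, hV, map_smul]
      show w • Dieu.BC.tmul _ 1 (Dm.V m) = _
      rw [Dieu.BC.smul_tmul, mul_one]
  have hpow : ∀ (n : ℕ) (x : M), Dieu.vSharpPow Vs n x = Dieu.BC.tmul _ 1 ((⇑Dm.V)^[n + 1] x) := by
    intro n
    induction n with
    | zero =>
      intro x
      rw [Dieu.vSharpPow_zero_apply]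
      show Dieu.BC.castHom _ (Dieu.BC.tmul _ 1 (Dm.V x)) = _
      rw [Dieu.BC.castHom_tmul]
      rfl
    | succ n ih =>
      intro x
      rw [Dieu.vSharpPow_succ_apply]
      show Dieu.BC.castHom _ (Dieu.BC.lift _ _ (Dieu.BC.map _ _ (Dieu.BC.tmul _ 1 (Dm.V x)))) = _
      rw [Dieu.BC.map_tmul, Dieu.BC.lift_tmul, one_smul, ih, Dieu.BC.push_tmul, map_one, Dieu.BC.castHom_tmul,
        Function.iterate_succ_apply (⇑Dm.V) (n + 1) x]
  have hJ : W4c1extbt610.IV p k ⊔ Ideal.span {(p : WittVector p k)} = Ideal.span {(p : WittVector p k)} := by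
    rw [DispLib.IV_eq_span_p, sup_idem]
  -- `x ↦ 1 ⊗ x` reflects membership in `p M`
  have hrefl : ∀ (n : ℕ) (x : M),
      Dieu.BC.tmul ((WittVector.frobenius : WittVector p k →+* WittVector p k) ^ n) 1 x ∈
        Ideal.span {(p : WittVector p k)} • (⊤ : Submodule (WittVector p k) _) →
      x ∈ Ideal.span {(p : WittVector p k)} • (⊤ : Submodule (WittVector p k) M) := by
    intro n x hx
    have hid : (τ ^ n).comp ((WittVector.frobenius : WittVector p k →+* WittVector p k) ^ n) =
        RingHom.id (WittVector p k) := by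
      refine RingHom.ext fun a => ?_
      clear hx x
      induction n generalizing a with
      | zero => rfl
      | succ n ih =>
        rw [pow_succ τ n, pow_succ' (WittVector.frobenius : WittVector p k →+* WittVector p k) n]
        show (τ ^ n) (τ (WittVector.frobenius (((WittVector.frobenius : WittVector p k →+* WittVector p k) ^ n) a))) = a
        rw [show τ (WittVector.frobenius (((WittVector.frobenius : WittVector p k →+* WittVector p k) ^ n) a)) =
          ((WittVector.frobenius : WittVector p k →+* WittVector p k) ^ n) a from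
          (WittVector.frobeniusEquiv p k).symm_apply_apply _]
        exact ih a
    have h1 := DispLib.push_mem_smul_top _ (τ ^ n) (J := Ideal.span {(p : WittVector p k)}) (fun a ha => by
      obtain ⟨c, rfl⟩ := Ideal.mem_span_singleton'.1 ha
      rw [map_mul, map_natCast]
      exact Ideal.mul_mem_left _ _ (Ideal.mem_span_singleton_self _)) hx
    have h2 := DispLib.linear_mem_smul_top ((Dieu.BC.lift (RingHom.id (WittVector p k)) LinearMap.id).comp
      (Dieu.BC.castHom hid)) _ h1
    simpa using h2
  constructor
  · rintro ⟨Vs', hVs', n, hn⟩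
    rw [DispLib.vSharp_unique D hVs' hVs] at hn
    have h1 : ∀ m : M, (⇑Dm.V)^[n + 1] m ∈ Ideal.span {(p : WittVector p k)} • (⊤ : Submodule (WittVector p k) M) := by
      intro m
      have h := hn m
      rw [hJ, hpow] at h
      exact hrefl _ _ h
    intro e
    refine ⟨e * (n + 1), fun m => ?_⟩
    induction e with
    | zero => simp
    | succ e ih =>
      rw [Nat.succ_mul, add_comm (e * (n + 1)), Function.iterate_add_apply]
      have hlin : ∀ (j : ℕ) (y : M), y ∈ Ideal.span {(p : WittVector p k)} ^ e • (⊤ : Submodule (WittVector p k) M) →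
          (⇑Dm.V)^[j] y ∈ Ideal.span {(p : WittVector p k)} ^ e • Submodule.span (WittVector p k) (Set.range (⇑Dm.V)^[j]) := by
        intro j y hy
        rw [Ideal.span_singleton_pow, Submodule.ideal_span_singleton_smul] at hy ⊢
        obtain ⟨z, -, rfl⟩ := (Submodule.mem_smul_pointwise_iff_exists _ _ _).1 hy
        have : ∀ (j : ℕ) (z : M), (⇑Dm.V)^[j] ((p : WittVector p k) ^ e • z) = (p : WittVector p k) ^ e • (⇑Dm.V)^[j] z := by
          intro j
          induction j with
          | zero => intro z; rfl
          | succ j ihj => intro z; rw [Function.iterate_succ_apply, map_smulₛₗ, map_pow, map_natCast, ihj, Function.iterate_succ_apply]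
        rw [this]
        exact Submodule.smul_mem_pointwise_smul _ _ _ (Submodule.subset_span ⟨z, rfl⟩)
      refine (Submodule.smul_mono le_rfl (Submodule.span_le.2 ?_ : _ ≤ Ideal.span {(p : WittVector p k)} • (⊤ : Submodule (WittVector p k) M))).trans (le_of_eq ?_) (hlin (n + 1) _ ih)
      · rintro _ ⟨z, rfl⟩
        exact h1 z
      · rw [← Submodule.smul_assoc, smul_eq_mul, ← pow_succ]
  · intro h
    obtain ⟨n, hn⟩ := h 1
    refine ⟨Vs, hVs, n, fun x => ?_⟩
    rw [hJ, hpow, Function.iterate_succ_apply]
    refine DispLib.bc_tmul_mem_smul_top _ (I := Ideal.span {(p : WittVector p k)}) (fun a ha => ?_) (by simpa using hn (Dm.V x)) 1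
    obtain ⟨c, rfl⟩ := Ideal.mem_span_singleton'.1 ha
    rw [map_mul, map_natCast]
    exact Ideal.mul_mem_left _ _ (Ideal.mem_span_singleton_self _)

end Groth.Agent.S16539
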