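import Groth.Statements.S16541
import Groth.Agent.WittDesc88.Basic

set_option autoImplicit false
universe u v
open CAlg

namespace Groth.Agent.S16541

open scoped TensorProduct

/-- A map of twisted restrictions of scalars. -/
noncomputable def resMap {A B C : Type u} [CommRing A] [CommRing B] [CommRing C] (g : A →+* B) (h : B →+* C)
    (k : A →+* C) (hk : h.comp g = k) : Dieu.Res g →ₗ[A] Dieu.Res k where
  toFun t := Dieu.Res.mk k (h t.val)
  map_add' s t := by apply Dieu.Res.ext; simp
  map_smul' a t := by subst hk; apply Dieu.Res.ext; simp

theorem castHom_push {A B C : Type u} [CommRing A] [CommRing B] [CommRing C] (g : A →+* B) (h : B →+* C)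
    (k : A →+* C) (hk : h.comp g = k) {P : Type v} [AddCommGroup P] [Module A P] (z : Dieu.BC g P) :
    Dieu.BC.castHom hk (Dieu.BC.push g h z) = (resMap g h k hk).rTensor P z := by
  induction z using Dieu.BC.induction_on g with
  | zero => rw [map_zero, map_zero]; exact (map_zero _).symm
  | tmul b x => rw [Dieu.BC.push_tmul, Dieu.BC.castHom_tmul]; rfl
  | add z₁ z₂ h₁ h₂ => rw [map_add, map_add, h₁, h₂]; exact (map_add _ z₁ z₂).symm

/-- Let p be a prime, S → R a faithfully flat homomorphism of commutative rings and M a flat
W(S)-module; write ι₁, ι₂ : R → R ⊗_S R for the two coprojections, M_R = W(R) ⊗_{W(S)} M and M_{R ⊗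
R} = W(R ⊗_S R) ⊗_{W(S)} M for the scalar extensions along W(S) → W(R) and W(S) → W(R ⊗_S R). Then 0
→ M → M_R ⇉ M_{R ⊗ R} is exact: the map x ↦ 1 ⊗ x from M to M_R is injective, and an element of M_R
has the same image under the two maps w ⊗ x ↦ W(ι₁)(w) ⊗ x and w ⊗ x ↦ W(ι₂)(w) ⊗ x exactly when it
is of the form 1 ⊗ x. The hypothesis e records that the two composite ring maps W(S) → W(R) → W(R
⊗_S R) agree (both coprojections are S-algebra maps); it serves to identify the two targets. -/
theorem result (p : ℕ) [Fact p.Prime]
    (S R : Type u) [CommRing S] [CommRing R] [Algebra S R] [Module.FaithfullyFlat S R]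
    (M : Type v) [AddCommGroup M] [Module (WittVector p S) M] [Module.Flat (WittVector p S) M]
    (e : (WittVector.map (Algebra.TensorProduct.includeLeftRingHom : R →+* TensorProduct S R R) : WittVector p R →+* WittVector p (TensorProduct S R R)).comp (WittVector.map (algebraMap S R) : WittVector p S →+* WittVector p R) = (WittVector.map ((Algebra.TensorProduct.includeRight : R →ₐ[S] TensorProduct S R R) : R →+* TensorProduct S R R) : WittVector p R →+* WittVector p (TensorProduct S R R)).comp (WittVector.map (algebraMap S R) : WittVector p S →+* WittVector p R)) :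
    Function.Injective (Dieu.BC.ι (WittVector.map (algebraMap S R) : WittVector p S →+* WittVector p R) M) ∧
      ∀ z : Dieu.BC (WittVector.map (algebraMap S R) : WittVector p S →+* WittVector p R) M,
        (Dieu.BC.castHom e (Dieu.BC.push (WittVector.map (algebraMap S R) : WittVector p S →+* WittVector p R) (WittVector.map (Algebra.TensorProduct.includeLeftRingHom : R →+* TensorProduct S R R) : WittVector p R →+* WittVector p (TensorProduct S R R)) z) = Dieu.BC.push (WittVector.map (algebraMap S R) : WittVector p S →+* WittVector p R) (WittVector.map ((Algebra.TensorProduct.includeRight : R →ₐ[S] TensorProduct S R R) : R →+* TensorProduct S R R) : WittVector p R →+* WittVector p (TensorProduct S R R)) z ↔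
          z ∈ Set.range (Dieu.BC.ι (WittVector.map (algebraMap S R) : WittVector p S →+* WittVector p R) M)) := by
  set g := (WittVector.map (algebraMap S R) : WittVector p S →+* WittVector p R)
  set f₁ := (WittVector.map (Algebra.TensorProduct.includeLeftRingHom : R →+* TensorProduct S R R) : WittVector p R →+* WittVector p (TensorProduct S R R))
  set f₂ := (WittVector.map ((Algebra.TensorProduct.includeRight : R →ₐ[S] TensorProduct S R R) : R →+* TensorProduct S R R) : WittVector p R →+* WittVector p (TensorProduct S R R))
  have hinj : Function.Injective (algebraMap S R) := FaithfulSMul.algebraMap_injective S R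
  let i : WittVector p S →ₗ[WittVector p S] Dieu.Res g := LinearMap.toSpanSingleton _ _ (Dieu.Res.mk g 1)
  have hiv : ∀ a, (i a).val = g a := fun a => by simp [i, LinearMap.toSpanSingleton_apply]
  have hi : Function.Injective i := fun a b hab => by
    have := congrArg Dieu.Res.val hab
    rw [hiv, hiv] at this
    exact WittVector.map_injective _ hinj this
  have he : ∀ b, resMap g f₁ (f₂.comp g) e b = resMap g f₂ (f₂.comp g) rfl b ↔ b ∈ Set.range i := by
    intro b
    constructor
    · intro hb
      have hb' : f₁ b.val = f₂ b.val := congrArg Dieu.Res.val hb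
      have hr : ∀ t, b.val.coeff t ∈ Set.range (algebraMap S R) := fun t => by
        refine (Groth.Agent.WittDesc88.mem_range_iff_of_faithfullyFlat (R := S) _).1 ?_
        have := congrArg (fun z => WittVector.coeff z t) hb'
        simp only [f₁, f₂, WittVector.map_coeff] at this
        exact this
      choose r hr using hr
      refine ⟨WittVector.mk p r, Dieu.Res.ext (g := g) ?_⟩
      rw [hiv]
      ext t
      simp [g, WittVector.map_coeff, hr]
    · rintro ⟨r, rfl⟩
      apply Dieu.Res.ext
      show f₁ (i r).val = f₂ (i r).val
      rw [hiv]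
      exact RingHom.congr_fun e r
  have h := Groth.Agent.WittDesc88.rTensor_equalizer M i _ _ hi he
  have h1 : i 1 = Dieu.Res.mk g 1 := by simp [i]
  rw [h1] at h
  refine ⟨h.1, fun z => ?_⟩
  rw [castHom_push g f₁ (f₂.comp g) e z]
  have : Dieu.BC.push g f₂ z = (resMap g f₂ (f₂.comp g) rfl).rTensor M z := castHom_push g f₂ _ rfl z
  rw [this]
  exact h.2 z

end Groth.Agent.S16541
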