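import Groth.Statements.S16543
import Groth.Agent.DispLib.Rigidity
import Groth.Agent.DispLib.Complete
import Groth.Agent.DispLib.Frob
import Mathlib.RingTheory.Ideal.Quotient.Nilpotent
-- import your own Groth.Agent.* helpers here

set_option autoImplicit false
universe u v
open Disp

namespace Groth.Agent.S16543

theorem exists_lift (p : ℕ) [Fact p.Prime]
    (S R : Type u) [CommRing S] [CommRing R] (hp : IsNilpotent (p : S))
    (f : S →+* R) (hf : Function.Surjective f) (hker : IsNilpotent (RingHom.ker f))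
    (P P' : Type v) [AddCommGroup P] [Module (WittVector p S) P] [AddCommGroup P'] [Module (WittVector p S) P']
    (D : W4c1extbt610.Display3n p S P) (D' : W4c1extbt610.Display3n p S P')
    (hD : Dieu.IsDisplay D)
    (DR : W4c1extbt610.Display3n p R (Dieu.BC (WittVector.map f : WittVector p S →+* WittVector p R) P)) (hDR : Dieu.IsDispBaseChange f D DR)
    (DR' : W4c1extbt610.Display3n p R (Dieu.BC (WittVector.map f : WittVector p S →+* WittVector p R) P')) (hDR' : Dieu.IsDispBaseChange f D' DR')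
    (χ : Dieu.BC (WittVector.map f : WittVector p S →+* WittVector p R) P →ₗ[WittVector p R] Dieu.BC (WittVector.map f : WittVector p S →+* WittVector p R) P')
    (hχ : W4c1extbt610.IsHom DR DR' χ) :
    ∃ (n : ℕ) (ψ : P →ₗ[WittVector p S] P'), W4c1extbt610.IsHom D D' ψ ∧
      Dieu.BC.map (WittVector.map f : WittVector p S →+* WittVector p R) ψ = ((p : WittVector p R) ^ n) • χ := by
  classical
  have := D.finite
  have := D.projective
  have := D'.finite
  have := D'.projective
  obtain ⟨Vs, hVs, -⟩ := hD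
  let g : WittVector p S →+* WittVector p R := WittVector.map f
  have hgsurj : Function.Surjective g := WittVector.map_surjective f hf
  -- a lift of `χ`
  have hι : Function.Surjective (fun x : P' => Dieu.BC.tmul g 1 x) := by
    intro z
    induction z using Dieu.BC.induction_on g with
    | zero => exact ⟨0, Dieu.BC.tmul_zero g 1⟩
    | tmul b x =>
      obtain ⟨a, rfl⟩ := hgsurj b
      exact ⟨a • x, (Dieu.BC.tmul_apply_eq g a x).symm⟩
    | add u v hu hv =>
      obtain ⟨a, rfl⟩ := hu
      obtain ⟨b, rfl⟩ := hv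
      exact ⟨a + b, Dieu.BC.tmul_add g 1 a b⟩
  obtain ⟨k, d, u, hdu⟩ := DispLib.exists_dualBasis (A := WittVector p S) (P := P)
  choose z hz using fun j => hι (χ (Dieu.BC.tmul g 1 (u j)))
  let ψ₀ : P →ₗ[WittVector p S] P' := ∑ j, (d j).smulRight (z j)
  have hψ₀ : Dieu.BC.map g ψ₀ = χ := by
    refine Dieu.BC.ext g fun x => ?_
    rw [Dieu.BC.map_tmul, ← Dieu.BC.ι_apply, ← Dieu.BC.ι_apply]
    conv_rhs => rw [hdu x, map_sum, map_sum]
    simp only [ψ₀, LinearMap.coe_sum, Finset.sum_apply, LinearMap.smulRight_apply, map_sum, map_smulₛₗ,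
      Dieu.BC.ι_apply, hz, RingHom.id_apply]
  -- the operator `T`
  let T : (P →ₗ[WittVector p S] P') → (P →ₗ[WittVector p S] P') :=
    fun φ => (Dieu.BC.lift (WittVector.frobenius : WittVector p S →+* WittVector p S) (D'.F.comp φ)).comp Vs
  have hT_F : ∀ φ x, T φ (D.F x) = (p : WittVector p S) • D'.F (φ x) := by
    intro φ x
    have h1 := hVs.app_smul_F 1 x
    rw [one_smul] at h1
    simp only [T, LinearMap.comp_apply, h1, map_smul, Dieu.BC.lift_tmul, one_smul]
  have hT_V : ∀ φ (y : D.Q), T φ (D.Vinv y) = D'.F (φ y) := by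
    intro φ y
    have h1 := hVs.app_smul_Vinv 1 y
    rw [one_smul] at h1
    simp only [T, LinearMap.comp_apply, h1, Dieu.BC.lift_tmul, one_smul]
  have hext : ∀ φ₁ φ₂ : P →ₗ[WittVector p S] P', (∀ y : D.Q, φ₁ (D.Vinv y) = φ₂ (D.Vinv y)) → φ₁ = φ₂ :=
    fun φ₁ φ₂ h => LinearMap.ext_on D.span_range_Vinv (by rintro _ ⟨y, rfl⟩; exact h y)
  have hT_sub : ∀ φ₁ φ₂, T (φ₁ - φ₂) = T φ₁ - T φ₂ := fun φ₁ φ₂ => hext _ _ fun y => by
    simp only [hT_V, LinearMap.sub_apply, map_sub]
  have hT_p : ∀ φ, T ((p : WittVector p S) • φ) = (p : WittVector p S) • T φ := fun φ => hext _ _ fun y => by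
    simp only [hT_V, LinearMap.smul_apply, map_smulₛₗ, map_natCast, RingHom.id_apply]
  -- `T^m` kills everything vanishing over `R`
  obtain ⟨K, hK⟩ := hker
  obtain ⟨m, hm⟩ := DispLib.exists_frobenius_iterate_ker_map_eq_zero f hp K (fun a ha => by
    have := Ideal.pow_mem_pow (show a ∈ RingHom.ker f from ha) K
    rw [hK] at this
    exact this)
  have hkill : ∀ δ : P →ₗ[WittVector p S] P', Dieu.BC.map g δ = 0 → T^[m] δ = 0 := by
    intro δ hδ
    have key : ∀ j, ∀ x, T^[j] δ x ∈
        Submodule.span (WittVector p S) {y | ∃ a ∈ RingHom.ker g, ∃ z : P', y = (⇑(WittVector.frobenius : WittVector p S →+* WittVector p S))^[j] a • z} := by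
      intro j
      induction j with
      | zero =>
        intro x
        refine Submodule.smul_induction_on ((DispLib.bc_map_eq_zero_iff g δ).1 hδ x)
          (fun a ha z _ => Submodule.subset_span ⟨a, ha, z, rfl⟩) (fun _ _ h₁ h₂ => add_mem h₁ h₂)
      | succ j ih =>
        intro x
        rw [Function.iterate_succ_apply']
        show (Dieu.BC.lift (WittVector.frobenius : WittVector p S →+* WittVector p S) (D'.F.comp (T^[j] δ))) (Vs x) ∈ _
        refine DispLib.forall_bc_mem _ _ (fun y => ?_) _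
        rw [Dieu.BC.lift_tmul, one_smul, LinearMap.comp_apply]
        generalize T^[j] δ y = w, ih y = hw
        clear ih
        induction hw using Submodule.span_induction with
        | mem w hw =>
          obtain ⟨a, ha, z, rfl⟩ := hw
          exact Submodule.subset_span ⟨a, ha, D'.F z, by rw [map_smulₛₗ, Function.iterate_succ_apply']⟩
        | zero => simp
        | add _ _ _ _ h₁ h₂ => rw [map_add]; exact add_mem h₁ h₂
        | smul a w _ h => rw [map_smulₛₗ]; exact Submodule.smul_mem _ _ h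
    refine LinearMap.ext fun x => ?_
    have hbot : Submodule.span (WittVector p S) {y | ∃ a ∈ RingHom.ker g, ∃ z : P', y = (⇑(WittVector.frobenius : WittVector p S →+* WittVector p S))^[m] a • z} = ⊥ := by
      rw [Submodule.span_eq_bot]
      rintro _ ⟨a, ha, z, rfl⟩
      rw [hm a ha, zero_smul]
    have := key m x
    rw [hbot, Submodule.mem_bot] at this
    exact this
  -- `T` over `R` is multiplication by `p`
  have hbase : ∀ (φ : P →ₗ[WittVector p S] P') (j : ℕ), Dieu.BC.map g φ = (p : WittVector p R) ^ j • χ →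
      Dieu.BC.map g (T φ) = (p : WittVector p R) ^ (j + 1) • χ := by
    intro φ j hφ
    refine Dieu.BC.ext g fun x => ?_
    have hx : x ∈ Submodule.span (WittVector p S) (Set.range D.Vinv) := D.span_range_Vinv ▸ Submodule.mem_top
    induction hx using Submodule.span_induction with
    | zero => simp
    | add a b _ _ ha hb => rw [Dieu.BC.tmul_add, map_add, map_add, ha, hb]
    | smul a b _ hb => rw [← Dieu.BC.tmul_apply_eq, Dieu.BC.tmul_eq_smul_tmul_one, map_smul, map_smul, hb]
    | mem a ha =>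
      obtain ⟨y, rfl⟩ := ha
      have hmem : Dieu.BC.tmul g 1 (y : P) ∈ DR.Q := by
        rw [hDR.Q_eq]; exact DispLib.bcQuotMap_tmul_eq_zero D f y.2 1
      have h1 := hDR.Vinv_tmul 1 y hmem
      rw [map_one] at h1
      have h2 := hDR'.F_tmul 1 (φ (y : P))
      rw [map_one] at h2
      have h3 : DR'.F (Dieu.BC.map g φ (Dieu.BC.tmul g 1 (y : P))) =
          (p : WittVector p R) ^ j • χ (DR.F (Dieu.BC.tmul g 1 (y : P))) := by
        rw [hφ, LinearMap.smul_apply, map_smulₛₗ, map_pow, map_natCast, hχ.comm_F]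
      rw [Dieu.BC.map_tmul] at h3
      rw [Dieu.BC.map_tmul, hT_V, LinearMap.smul_apply]
      refine h2.symm.trans (h3.trans ?_)
      rw [DispLib.F_coe DR ⟨_, hmem⟩, h1, map_smul, ← mul_smul, ← pow_succ]
  have hiter : ∀ j, Dieu.BC.map g (T^[j] ψ₀) = (p : WittVector p R) ^ j • χ := by
    intro j
    induction j with
    | zero => rw [Function.iterate_zero_apply, hψ₀, pow_zero, one_smul]
    | succ j ih => rw [Function.iterate_succ_apply']; exact hbase _ j ih
  have hbc_smul : ∀ (a : WittVector p S) (φ : P →ₗ[WittVector p S] P'),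
      Dieu.BC.map g (a • φ) = g a • Dieu.BC.map g φ := fun a φ => Dieu.BC.ext g fun x => by
    simp only [Dieu.BC.map_tmul, LinearMap.smul_apply]
    rw [← Dieu.BC.tmul_apply_eq, Dieu.BC.tmul_eq_smul_tmul_one]
  let Φ := T^[m] ψ₀
  have hΦ : T Φ = (p : WittVector p S) • Φ := by
    have h0 : Dieu.BC.map g (T ψ₀ - (p : WittVector p S) • ψ₀) = 0 := by
      refine Dieu.BC.ext g fun x => ?_
      have e1 := LinearMap.congr_fun (hbase ψ₀ 0 (by rw [hψ₀, pow_zero, one_smul])) (Dieu.BC.tmul g 1 x)
      have e2 := LinearMap.congr_fun (hbc_smul (p : WittVector p S) ψ₀) (Dieu.BC.tmul g 1 x)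
      rw [Dieu.BC.map_tmul] at e1 e2
      rw [Dieu.BC.map_tmul, LinearMap.sub_apply, ← Dieu.BC.ι_apply, map_sub, Dieu.BC.ι_apply, Dieu.BC.ι_apply, e1, e2,
        hψ₀, map_natCast, zero_add, pow_one, LinearMap.smul_apply, LinearMap.zero_apply, sub_self]
    have h1 := hkill _ h0
    have hsub : ∀ j φ₁ φ₂, T^[j] (φ₁ - φ₂) = T^[j] φ₁ - T^[j] φ₂ := by
      intro j
      induction j with
      | zero => intros; rfl
      | succ j ih => intro φ₁ φ₂; simp only [Function.iterate_succ_apply', ih, hT_sub]
    have hp' : ∀ j φ, T^[j] ((p : WittVector p S) • φ) = (p : WittVector p S) • T^[j] φ := by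
      intro j
      induction j with
      | zero => intros; rfl
      | succ j ih => intro φ; simp only [Function.iterate_succ_apply', ih, hT_p]
    rw [hsub, sub_eq_zero, hp', ← Function.iterate_succ_apply, Function.iterate_succ_apply'] at h1
    exact h1
  -- `p^(l+1) Φ` is a homomorphism, for `p^l ∈ IV`
  obtain ⟨l, hl⟩ := hp
  have hlIV : (p : WittVector p S) ^ l ∈ W4c1extbt610.IV p S := by
    rw [DispLib.IV_eq_ker, RingHom.mem_ker, map_pow, map_natCast]
    exact hl
  obtain ⟨c, hc⟩ := DispLib.mem_IV_iff.1 hlIV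
  have hpc : (p : WittVector p S) * c = (p : WittVector p S) ^ l := by
    rw [← DispLib.frobenius_verschiebung_mul, hc, map_pow, map_natCast]
  refine ⟨l + 1 + m, (p : WittVector p S) ^ (l + 1) • Φ, ?_, ?_⟩
  · have hΦF : ∀ x, (p : WittVector p S) • Φ (D.F x) = (p : WittVector p S) • D'.F (Φ x) := by
      intro x
      have := hT_F Φ x
      rwa [hΦ, LinearMap.smul_apply] at this
    have hQ : ∀ x : P, (p : WittVector p S) ^ (l + 1) • Φ x ∈ D'.Q := fun x => by
      rw [pow_succ, mul_smul, ← hc]
      exact D'.IV_smul_le (Submodule.smul_mem_smul (W4c1extbt610.verschiebung_mem_IV p S c) Submodule.mem_top)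
    refine ⟨fun q _ => hQ q, fun x => ?_, fun q => ?_⟩
    · simp only [LinearMap.smul_apply, map_smulₛₗ, map_pow, map_natCast]
      rw [pow_succ, mul_smul, hΦF, ← mul_smul]
    · simp only [LinearMap.smul_apply]
      have hmem : (p : WittVector p S) ^ l • ((p : WittVector p S) • Φ (q : P)) ∈ D'.Q := by
        rw [← hc]
        exact D'.IV_smul_le (Submodule.smul_mem_smul (W4c1extbt610.verschiebung_mem_IV p S c) Submodule.mem_top)
      have e : (⟨(p : WittVector p S) ^ (l + 1) • Φ (q : P), hQ q⟩ : D'.Q) = ⟨_, hmem⟩ :=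
        Subtype.ext (show (p : WittVector p S) ^ (l + 1) • Φ (q : P) = _ by rw [pow_succ, mul_smul])
      refine Eq.trans ?_ (congrArg D'.Vinv e).symm
      rw [DispLib.Vinv_eq D' c hc hmem, map_smulₛₗ, map_natCast, ← mul_smul, mul_comm c, hpc,
        ← hT_V, hΦ, LinearMap.smul_apply, ← mul_smul, ← pow_succ]
  · rw [hbc_smul, hiter m, smul_smul, map_pow, map_natCast, ← pow_add]

/-- Let p be a prime, S a commutative ring in which p is nilpotent, f : S → R a surjective homomorphism
of commutative rings whose kernel is a nilpotent ideal, and (P, Q, F, V⁻¹), (P', Q', F', V'⁻¹) two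
displays over S, i.e. 3n-displays whose operators V# satisfy the nilpotence condition. Let (P_R,
Q_R, F_R, V_R⁻¹) and (P'_R, Q'_R, F'_R, V'_R⁻¹) be their base changes along f, the 3n-display
structures on W(R) ⊗_{W(S)} P and W(R) ⊗_{W(S)} P' characterised by Q_R = ker(P_R → R ⊗_S P/Q),
F_R(w ⊗ x) = σ(w) ⊗ F x, V_R⁻¹(w ⊗ y) = σ(w) ⊗ V⁻¹ y for y ∈ Q and V_R⁻¹(V(w) ⊗ x) = w ⊗ F x (and
likewise for P'). Then the natural map ψ ↦ id ⊗ ψ from homomorphisms of 3n-displays P → P' to
homomorphisms P_R → P'_R is injective, and its cokernel is a p-torsion group: for every homomorphism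
χ of the base-changed 3n-displays there are n and a homomorphism ψ over S with id ⊗ ψ = p^n·χ. -/
theorem result (p : ℕ) [Fact p.Prime]
    (S R : Type u) [CommRing S] [CommRing R] (hp : IsNilpotent (p : S))
    (f : S →+* R) (hf : Function.Surjective f) (hker : IsNilpotent (RingHom.ker f))
    (P P' : Type v) [AddCommGroup P] [Module (WittVector p S) P] [AddCommGroup P'] [Module (WittVector p S) P']
    (D : W4c1extbt610.Display3n p S P) (D' : W4c1extbt610.Display3n p S P')
    (hD : Dieu.IsDisplay D) (hD' : Dieu.IsDisplay D')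
    (DR : W4c1extbt610.Display3n p R (Dieu.BC (WittVector.map f : WittVector p S →+* WittVector p R) P)) (hDR : Dieu.IsDispBaseChange f D DR)
    (DR' : W4c1extbt610.Display3n p R (Dieu.BC (WittVector.map f : WittVector p S →+* WittVector p R) P')) (hDR' : Dieu.IsDispBaseChange f D' DR') :
    (∀ ψ χ : P →ₗ[WittVector p S] P', W4c1extbt610.IsHom D D' ψ → W4c1extbt610.IsHom D D' χ →
        Dieu.BC.map (WittVector.map f : WittVector p S →+* WittVector p R) ψ = Dieu.BC.map (WittVector.map f : WittVector p S →+* WittVector p R) χ → ψ = χ) ∧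
      ∀ χ : Dieu.BC (WittVector.map f : WittVector p S →+* WittVector p R) P →ₗ[WittVector p R] Dieu.BC (WittVector.map f : WittVector p S →+* WittVector p R) P', W4c1extbt610.IsHom DR DR' χ →
        ∃ (n : ℕ) (ψ : P →ₗ[WittVector p S] P'), W4c1extbt610.IsHom D D' ψ ∧
          Dieu.BC.map (WittVector.map f : WittVector p S →+* WittVector p R) ψ = ((p : WittVector p R) ^ n) • χ := by
  classical
  refine ⟨fun ψ χ hψ hχ h => ?_, fun χ hχ => ?_⟩
  · have hsub : W4c1extbt610.IsHom D D' (ψ - χ) := {
      mapsTo := fun q hq => by simpa using sub_mem (hψ.mapsTo q hq) (hχ.mapsTo q hq)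
      comm_F := fun x => by simp [hψ.comm_F, hχ.comm_F, map_sub]
      comm_Vinv := fun q => by
        rw [LinearMap.sub_apply, hψ.comm_Vinv q, hχ.comm_Vinv q, ← map_sub]
        rfl }
    refine sub_eq_zero.1 (DispLib.isHom_eq_zero_of_bc_map_eq_zero f hp hker hD hsub (Dieu.BC.ext _ fun x => ?_))
    have := LinearMap.congr_fun h (Dieu.BC.tmul _ 1 x)
    simp only [Dieu.BC.map_tmul] at this
    rw [Dieu.BC.map_tmul, LinearMap.sub_apply, LinearMap.zero_apply, ← Dieu.BC.ι_apply, map_sub,
      Dieu.BC.ι_apply, Dieu.BC.ι_apply, this, sub_self]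
  exact exists_lift p S R hp f hf hker P P' D D' hD DR hDR DR' hDR' χ hχ

end Groth.Agent.S16543
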