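import Groth.Statements.S16544
import Groth.Agent.DispLib.Rigidity
import Groth.Agent.DispLib.Complete
import Groth.Agent.DispLib.Frob
import Mathlib.RingTheory.Ideal.Quotient.Nilpotent
-- import your own Groth.Agent.* helpers here

set_option autoImplicit false
universe u v
open Disp

namespace Groth.Agent.S16544

/-- Let p be a prime and S a commutative ring in which p is nilpotent and whose nilradical (the ideal of
nilpotent elements) is a nilpotent ideal; let (P, Q, F, V⁻¹) and (P', Q', F', V'⁻¹) be displays over
S, i.e. 3n-displays whose operators V# satisfy the nilpotence condition. Then the group of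
homomorphisms of displays from P to P' has no p-torsion: a W(S)-linear ψ : P → P' which is a
homomorphism of 3n-displays and satisfies p·ψ = 0 is zero. (The published statement says
torsion-free; primes other than p are units in S, and the published proof treats the prime p.) -/
theorem result (p : ℕ) [Fact p.Prime]
    (S : Type u) [CommRing S] (hp : IsNilpotent (p : S)) (hn : IsNilpotent (nilradical S))
    (P P' : Type v) [AddCommGroup P] [Module (WittVector p S) P] [AddCommGroup P'] [Module (WittVector p S) P']
    (D : W4c1extbt610.Display3n p S P) (D' : W4c1extbt610.Display3n p S P')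
    (hD : Dieu.IsDisplay D) (hD' : Dieu.IsDisplay D')
    (ψ : P →ₗ[WittVector p S] P') (hψ : W4c1extbt610.IsHom D D' ψ)
    (h : (p : WittVector p S) • ψ = 0) : ψ = 0 := by
  have := hD'.choose
  have := D'.finite
  have := D'.projective
  refine DispLib.isHom_eq_zero_of_bc_map_eq_zero (Ideal.Quotient.mk (nilradical S)) hp
    (by rwa [Ideal.mk_ker]) hD hψ ((DispLib.bc_map_eq_zero_iff _ ψ).2 fun x => ?_)
  obtain ⟨n, c, e, he⟩ := DispLib.exists_dualBasis (A := WittVector p S) (P := P')
  rw [he (ψ x)]
  refine sum_mem fun i _ => Submodule.smul_mem_smul (RingHom.mem_ker.2 ?_) Submodule.mem_top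
  rcases subsingleton_or_nontrivial (S ⧸ nilradical S) with hs | hs
  · exact WittVector.ext fun n => Subsingleton.elim _ _
  have hpR : (p : S ⧸ nilradical S) = 0 := by
    rw [← map_natCast (Ideal.Quotient.mk (nilradical S)), Ideal.Quotient.eq_zero_iff_mem]
    exact hp
  have : CharP (S ⧸ nilradical S) p := (CharP.charP_iff_prime_eq_zero Fact.out).2 hpR
  have : IsReduced (S ⧸ nilradical S) := by
    rw [← Ideal.isRadical_iff_quotient_reduced]
    exact Ideal.radical_isRadical _
  have h0 : (p : WittVector p S) * c i (ψ x) = 0 := by
    rw [← smul_eq_mul, ← map_smul]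
    have := LinearMap.congr_fun h x
    rw [LinearMap.smul_apply] at this
    rw [this, LinearMap.zero_apply, map_zero]
  have h1 := congrArg (WittVector.map (p := p) (Ideal.Quotient.mk (nilradical S))) h0
  rw [map_mul, map_natCast, map_zero, mul_comm] at h1
  refine WittVector.ext fun n => ?_
  have h2 := congrArg (fun w => WittVector.coeff w (n + 1)) h1
  simp only [WittVector.mul_charP_coeff_succ, WittVector.zero_coeff] at h2
  rw [WittVector.zero_coeff]
  exact eq_zero_of_pow_eq_zero h2

end Groth.Agent.S16544
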