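import Groth.Statements.S16545
import Groth.Agent.DispLib.Rigidity
import Mathlib.RingTheory.TensorProduct.IncludeLeftSubRight
-- import your own Groth.Agent.* helpers here

set_option autoImplicit false
universe u v
open Disp

namespace Groth.Agent.S16545

/-- Let p be a prime, S → R a faithfully flat homomorphism of commutative rings with p nilpotent in S,
ι₁, ι₂ : R → R ⊗_S R the two coprojections, and (P, Q, F, V⁻¹), (P', Q', F', V'⁻¹) displays over S
with base changes (P_R, Q_R, F_R, V_R⁻¹) and (P'_R, Q'_R, F'_R, V'_R⁻¹) along S → R (the 3n-display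
structures on W(R) ⊗_{W(S)} P and W(R) ⊗_{W(S)} P' with Q_R = ker(P_R → R ⊗_S P/Q), F_R(w ⊗ x) =
σ(w) ⊗ F x, V_R⁻¹(w ⊗ y) = σ(w) ⊗ V⁻¹ y for y ∈ Q, V_R⁻¹(V(w) ⊗ x) = w ⊗ F x, and likewise for P').
Let χ : P_R → P'_R be a homomorphism of 3n-displays whose two scalar extensions along W(ι₁) and
W(ι₂) agree, after the modules W(R ⊗_S R) ⊗_{W(ι_i),W(R)} (W(R) ⊗_{W(S)} P) are mapped to W(R ⊗_S R)
⊗_{W(S)} P by the canonical maps u ⊗ (w ⊗ x) ↦ u·W(ι_i)(w) ⊗ x (and likewise for P'). Then there is
exactly one homomorphism of 3n-displays ψ : P → P' over S with id ⊗ ψ = χ: the sequence 0 → Hom(P,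
P') → Hom(P_R, P'_R) ⇉ Hom(P_{R⊗R}, P'_{R⊗R}) is exact. The hypotheses e₁, e₂ record that both
composite ring maps W(S) → W(R) → W(R ⊗_S R) equal W(S → R ⊗_S R); they serve to identify targets. -/
theorem result (p : ℕ) [Fact p.Prime]
    (S R : Type u) [CommRing S] [CommRing R] [Algebra S R] [Module.FaithfullyFlat S R] (hp : IsNilpotent (p : S))
    (e₁ : (WittVector.map (Algebra.TensorProduct.includeLeftRingHom : R →+* TensorProduct S R R) : WittVector p R →+* WittVector p (TensorProduct S R R)).comp (WittVector.map (algebraMap S R) : WittVector p S →+* WittVector p R) = (WittVector.map (algebraMap S (TensorProduct S R R)) : WittVector p S →+* WittVector p (TensorProduct S R R)))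
    (e₂ : (WittVector.map ((Algebra.TensorProduct.includeRight : R →ₐ[S] TensorProduct S R R) : R →+* TensorProduct S R R) : WittVector p R →+* WittVector p (TensorProduct S R R)).comp (WittVector.map (algebraMap S R) : WittVector p S →+* WittVector p R) = (WittVector.map (algebraMap S (TensorProduct S R R)) : WittVector p S →+* WittVector p (TensorProduct S R R)))
    (P P' : Type v) [AddCommGroup P] [Module (WittVector p S) P] [AddCommGroup P'] [Module (WittVector p S) P']
    (D : W4c1extbt610.Display3n p S P) (D' : W4c1extbt610.Display3n p S P')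
    (hD : Dieu.IsDisplay D) (hD' : Dieu.IsDisplay D')
    (DR : W4c1extbt610.Display3n p R (Dieu.BC (WittVector.map (algebraMap S R) : WittVector p S →+* WittVector p R) P)) (hDR : Dieu.IsDispBaseChange (algebraMap S R) D DR)
    (DR' : W4c1extbt610.Display3n p R (Dieu.BC (WittVector.map (algebraMap S R) : WittVector p S →+* WittVector p R) P')) (hDR' : Dieu.IsDispBaseChange (algebraMap S R) D' DR')
    (χ : Dieu.BC (WittVector.map (algebraMap S R) : WittVector p S →+* WittVector p R) P →ₗ[WittVector p R] Dieu.BC (WittVector.map (algebraMap S R) : WittVector p S →+* WittVector p R) P') (hχ : W4c1extbt610.IsHom DR DR' χ)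
    (hdesc : ∀ (z₁ : Dieu.BC (WittVector.map (Algebra.TensorProduct.includeLeftRingHom : R →+* TensorProduct S R R) : WittVector p R →+* WittVector p (TensorProduct S R R)) (Dieu.BC (WittVector.map (algebraMap S R) : WittVector p S →+* WittVector p R) P)) (z₂ : Dieu.BC (WittVector.map ((Algebra.TensorProduct.includeRight : R →ₐ[S] TensorProduct S R R) : R →+* TensorProduct S R R) : WittVector p R →+* WittVector p (TensorProduct S R R)) (Dieu.BC (WittVector.map (algebraMap S R) : WittVector p S →+* WittVector p R) P)),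
      (Dieu.BC.castHom (P := P) e₁).comp (Dieu.BC.lift (WittVector.map (Algebra.TensorProduct.includeLeftRingHom : R →+* TensorProduct S R R) : WittVector p R →+* WittVector p (TensorProduct S R R)) (Dieu.BC.push (WittVector.map (algebraMap S R) : WittVector p S →+* WittVector p R) (WittVector.map (Algebra.TensorProduct.includeLeftRingHom : R →+* TensorProduct S R R) : WittVector p R →+* WittVector p (TensorProduct S R R)))) z₁ = (Dieu.BC.castHom (P := P) e₂).comp (Dieu.BC.lift (WittVector.map ((Algebra.TensorProduct.includeRight : R →ₐ[S] TensorProduct S R R) : R →+* TensorProduct S R R) : WittVector p R →+* WittVector p (TensorProduct S R R)) (Dieu.BC.push (WittVector.map (algebraMap S R) : WittVector p S →+* WittVector p R) (WittVector.map ((Algebra.TensorProduct.includeRight : R →ₐ[S] TensorProduct S R R) : R →+* TensorProduct S R R) : WittVector p R →+* WittVector p (TensorProduct S R R)))) z₂ →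
        (Dieu.BC.castHom (P := P') e₁).comp (Dieu.BC.lift (WittVector.map (Algebra.TensorProduct.includeLeftRingHom : R →+* TensorProduct S R R) : WittVector p R →+* WittVector p (TensorProduct S R R)) (Dieu.BC.push (WittVector.map (algebraMap S R) : WittVector p S →+* WittVector p R) (WittVector.map (Algebra.TensorProduct.includeLeftRingHom : R →+* TensorProduct S R R) : WittVector p R →+* WittVector p (TensorProduct S R R)))) (Dieu.BC.map (WittVector.map (Algebra.TensorProduct.includeLeftRingHom : R →+* TensorProduct S R R) : WittVector p R →+* WittVector p (TensorProduct S R R)) χ z₁) =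
          (Dieu.BC.castHom (P := P') e₂).comp (Dieu.BC.lift (WittVector.map ((Algebra.TensorProduct.includeRight : R →ₐ[S] TensorProduct S R R) : R →+* TensorProduct S R R) : WittVector p R →+* WittVector p (TensorProduct S R R)) (Dieu.BC.push (WittVector.map (algebraMap S R) : WittVector p S →+* WittVector p R) (WittVector.map ((Algebra.TensorProduct.includeRight : R →ₐ[S] TensorProduct S R R) : R →+* TensorProduct S R R) : WittVector p R →+* WittVector p (TensorProduct S R R)))) (Dieu.BC.map (WittVector.map ((Algebra.TensorProduct.includeRight : R →ₐ[S] TensorProduct S R R) : R →+* TensorProduct S R R) : WittVector p R →+* WittVector p (TensorProduct S R R)) χ z₂)) :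
    ∃! ψ : P →ₗ[WittVector p S] P', W4c1extbt610.IsHom D D' ψ ∧ Dieu.BC.map (WittVector.map (algebraMap S R) : WittVector p S →+* WittVector p R) ψ = χ := by
  classical
  have := D'.finite
  have := D'.projective
  let g : WittVector p S →+* WittVector p R := WittVector.map (algebraMap S R)
  let ι₁ : R →+* TensorProduct S R R := Algebra.TensorProduct.includeLeftRingHom
  let ι₂ : R →+* TensorProduct S R R := ((Algebra.TensorProduct.includeRight : R →ₐ[S] TensorProduct S R R) : R →+* TensorProduct S R R)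
  have hinj : Function.Injective g :=
    WittVector.map_injective _ (FaithfulSMul.algebraMap_injective S R)
  have hι : Function.Injective (fun x : P' => Dieu.BC.tmul g 1 x) := DispLib.bc_tmul_one_injective g hinj
  obtain ⟨k, c, e, he⟩ := DispLib.exists_dualBasis (A := WittVector p S) (P := P')
  have hdec : ∀ z : Dieu.BC g P', z = ∑ i, DispLib.formBC g (c i) z • Dieu.BC.tmul g 1 (e i) := by
    intro z
    induction z using Dieu.BC.induction_on g with
    | zero => simp
    | tmul b x =>
      conv_lhs => rw [Dieu.BC.tmul_eq_smul_tmul_one, ← Dieu.BC.ι_apply, he x, map_sum, Finset.smul_sum]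
      refine Finset.sum_congr rfl fun i _ => ?_
      rw [map_smulₛₗ, smul_smul, DispLib.formBC_tmul, Dieu.BC.ι_apply]
    | add u v hu hv =>
      conv_lhs => rw [hu, hv]
      simp only [map_add, add_smul, Finset.sum_add_distrib]
  -- the coordinates of `χ (1 ⊗ x)` are defined over `S`
  have hcoord : ∀ (x : P) (i : Fin k), ∃ a : WittVector p S,
      g a = DispLib.formBC g (c i) (χ (Dieu.BC.tmul g 1 x)) := by
    intro x i
    have h := hdesc (Dieu.BC.tmul _ 1 (Dieu.BC.tmul g 1 x)) (Dieu.BC.tmul _ 1 (Dieu.BC.tmul g 1 x))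
      (by simp only [LinearMap.comp_apply, Dieu.BC.lift_tmul, one_smul, Dieu.BC.push_tmul, Dieu.BC.castHom_tmul,
        map_one, g])
    simp only [LinearMap.comp_apply, Dieu.BC.map_tmul, Dieu.BC.lift_tmul, one_smul] at h
    have h' := congrArg (DispLib.formBC (WittVector.map (algebraMap S (TensorProduct S R R))) (c i)) h
    rw [DispLib.formBC_castHom, DispLib.formBC_castHom, DispLib.formBC_push, DispLib.formBC_push] at h'
    generalize DispLib.formBC g (c i) (χ (Dieu.BC.tmul g 1 x)) = r at h'
    have hn : ∀ n, ∃ a : S, algebraMap S R a = r.coeff n := by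
      intro n
      have h2 := congrArg (fun w => WittVector.coeff w n) h'
      simp only [WittVector.map_coeff] at h2
      exact ((Algebra.IsEffective.of_faithfullyFlat S R) (r.coeff n)).1
        ((Algebra.TensorProduct.includeLeftSubRight_apply (R := S) (r.coeff n)).trans (sub_eq_zero.2 h2))
    choose a ha using hn
    exact ⟨WittVector.mk p a, WittVector.ext fun n => by rw [WittVector.map_coeff, WittVector.coeff_mk, ha]⟩
  choose a ha using hcoord
  let ψ₀ : P → P' := fun x => ∑ i, a x i • e i
  have hψ₀ : ∀ x, Dieu.BC.tmul g 1 (ψ₀ x) = χ (Dieu.BC.tmul g 1 x) := by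
    intro x
    rw [← Dieu.BC.ι_apply, map_sum]
    refine Eq.trans (Finset.sum_congr rfl fun i _ => ?_) (hdec _).symm
    rw [map_smulₛₗ, ha, Dieu.BC.ι_apply]
  let ψ : P →ₗ[WittVector p S] P' :=
    { toFun := ψ₀
      map_add' := fun x y => hι (by
        show Dieu.BC.tmul g 1 _ = Dieu.BC.tmul g 1 _
        rw [hψ₀, Dieu.BC.tmul_add, map_add, Dieu.BC.tmul_add, hψ₀, hψ₀])
      map_smul' := fun b x => hι (by
        show Dieu.BC.tmul g 1 _ = Dieu.BC.tmul g 1 (b • ψ₀ x)
        rw [hψ₀, ← Dieu.BC.tmul_apply_eq, Dieu.BC.tmul_eq_smul_tmul_one, map_smul, ← hψ₀, ← Dieu.BC.tmul_eq_smul_tmul_one,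
          Dieu.BC.tmul_apply_eq]) }
  have hψ : ∀ x, Dieu.BC.tmul g 1 (ψ x) = χ (Dieu.BC.tmul g 1 x) := hψ₀
  have hmap : Dieu.BC.map g ψ = χ := Dieu.BC.ext g fun x => by rw [Dieu.BC.map_tmul, hψ]
  have hQR : ∀ y : D.Q, Dieu.BC.tmul g 1 (y : P) ∈ DR.Q := fun y => by
    rw [hDR.Q_eq]; exact DispLib.bcQuotMap_tmul_eq_zero D (algebraMap S R) y.2 1
  have hQ : ∀ q : P, q ∈ D.Q → ψ q ∈ D'.Q := by
    intro q hq
    obtain ⟨C⟩ := DispLib.nonempty_coords D'
    have h1 : Dieu.BC.tmul g 1 (ψ q) ∈ DR'.Q := hψ q ▸ hχ.mapsTo _ (hQR ⟨q, hq⟩)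
    rw [hDR'.Q_eq, ← DispLib.QR_eq D' (algebraMap S R) C, DispLib.mem_QR] at h1
    rw [C.decomp (ψ q)]
    refine add_mem (C.e_mem _) (sum_mem fun i _ => D'.IV_smul_le (Submodule.smul_mem_smul ?_ Submodule.mem_top))
    have h2 := h1 i
    rw [DispLib.formBC_tmul, one_mul, DispLib.IV_eq_ker, RingHom.mem_ker, WittVector.constantCoeff_apply,
      WittVector.map_coeff, map_eq_zero_iff _ (FaithfulSMul.algebraMap_injective S R)] at h2
    rw [DispLib.IV_eq_ker, RingHom.mem_ker]
    exact h2
  refine ⟨ψ, ⟨⟨hQ, fun x => hι ?_, fun q => hι ?_⟩, hmap⟩, fun ψ' hψ' => ?_⟩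
  · show Dieu.BC.tmul g 1 _ = Dieu.BC.tmul g 1 _
    have h1 := hDR.F_tmul 1 x
    have h2 := hDR'.F_tmul 1 (ψ x)
    rw [map_one] at h1 h2
    rw [hψ, ← h1, hχ.comm_F, ← hψ, h2]
  · show Dieu.BC.tmul g 1 _ = Dieu.BC.tmul g 1 _
    have h1 := hDR.Vinv_tmul 1 q (hQR q)
    rw [map_one] at h1
    have hm : Dieu.BC.tmul g 1 (ψ q) ∈ DR'.Q := hψ q ▸ hχ.mapsTo _ (hQR q)
    have h2 := hDR'.Vinv_tmul 1 ⟨ψ q, hQ q q.2⟩ hm
    rw [map_one] at h2
    rw [hψ, ← h1, hχ.comm_Vinv ⟨_, hQR q⟩, ← h2]
    exact congrArg DR'.Vinv (Subtype.ext (hψ q).symm)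
  · refine LinearMap.ext fun x => hι ?_
    show Dieu.BC.tmul g 1 _ = Dieu.BC.tmul g 1 _
    rw [hψ, ← hψ'.2, Dieu.BC.map_tmul]

end Groth.Agent.S16545
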