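import Groth.Statements.S16546
import Groth.Agent.DispLib.Iterate

set_option autoImplicit false
universe u v w
open Disp

namespace Groth.Agent.S16546

/-- Let p be a prime and R a commutative ring in which p is nilpotent (in particular every prime number
other than p is a unit in R); write W = W(R) with Frobenius σ, Verschiebung V, I_R = V(W) and w₀ : W
→ R for the zeroth Witt component. Let (P, Q, F, V⁻¹) be a 3n-display over R with a normal
decomposition P = L ⊕ T, Q = L + I_R·T in which T and L are free with finite bases (t_j) and (l_k).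
Let α be the square matrix over W, indexed by the disjoint union of the two index sets, such that
F(t_j) = Σ_i α_{i,j} e_i and V⁻¹(l_k) = Σ_i α_{i,k} e_i, where (e_i) is the basis of P formed by the
t_j followed by the l_k, and let β be a two-sided inverse of α. Let B be the square block of β on
the L-indices, reduced to R/pR through w₀, and write B^{(p^i)} for the matrix whose entries are the
p^i-th powers of those of B. Then (P, Q, F, V⁻¹) is a display, i.e. its operator V# satisfies the
nilpotence condition, if and only if B^{(p^{N-1})} ⋯ B^{(p)} · B = 0 for some N ≥ 1. -/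
theorem result (p : ℕ) [Fact p.Prime] (R : Type u) [CommRing R]
    (hR : ∀ ℓ : ℕ, ℓ.Prime → ℓ ≠ p → IsUnit (ℓ : R)) (hp : IsNilpotent (p : R))
    (P : Type v) [AddCommGroup P] [Module (WittVector p R) P] (D : W4c1extbt610.Display3n p R P)
    (L T : Submodule (WittVector p R) P) (hLT : IsCompl L T)
    (hQ : D.Q = L ⊔ W4c1extbt610.IV p R • T) (hLQ : L ≤ D.Q)
    (ιT ιL : Type w) [Fintype ιT] [Fintype ιL] [DecidableEq ιT] [DecidableEq ιL]
    (bT : Module.Basis ιT (WittVector p R) T) (bL : Module.Basis ιL (WittVector p R) L)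
    (α β : Matrix (ιT ⊕ ιL) (ιT ⊕ ιL) (WittVector p R)) (hαβ : α * β = 1) (hβα : β * α = 1)
    (hF : ∀ j : ιT, D.F (bT j : P) =
      Finset.univ.sum fun i : ιT ⊕ ιL => α i (Sum.inl j) • Sum.elim (fun a : ιT => (bT a : P)) (fun a : ιL => (bL a : P)) i)
    (hV : ∀ k : ιL, D.Vinv ⟨(bL k : P), hLQ (bL k).2⟩ =
      Finset.univ.sum fun i : ιT ⊕ ιL => α i (Sum.inr k) • Sum.elim (fun a : ιT => (bT a : P)) (fun a : ιL => (bL a : P)) i) :
    Dieu.IsDisplay D ↔
      ∃ N : ℕ, 0 < N ∧
        (((List.range N).reverse.map fun i : ℕ =>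
            (Matrix.of fun k l : ιL =>
                Ideal.Quotient.mk (Ideal.span {(p : R)}) (WittVector.constantCoeff (β (Sum.inr k) (Sum.inr l)))).map
              fun x : R ⧸ Ideal.span {(p : R)} => x ^ p ^ i).prod
          = 0) := by
  classical
  have := DispLib.isAdicComplete_of_isNilpotent hp
  obtain ⟨Vs, hVs⟩ := DispLib.exists_vSharp D
  have hdisp : Dieu.IsDisplay D ↔ Dieu.IsVNilpotent Vs :=
    ⟨fun ⟨Vs', h', hn⟩ => DispLib.vSharp_unique D h' hVs ▸ hn, fun hn => ⟨Vs, hVs, hn⟩⟩
  rw [hdisp]
  let b : Module.Basis (ιT ⊕ ιL) (WittVector p R) P :=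
    (bT.prod bL).map (Submodule.prodEquivOfIsCompl T L hLT.symm)
  have hb : ∀ i, b i = Sum.elim (fun a : ιT => (bT a : P)) (fun a : ιL => (bL a : P)) i := by
    rintro (a | a) <;> simp [b]
  set π : WittVector p R →+* R ⧸ Ideal.span {(p : R)} := DispLib.toModP with hπ
  let Bm : Matrix ιL ιL (R ⧸ Ideal.span {(p : R)}) := Matrix.of fun k l => π (β (Sum.inr k) (Sum.inr l))
  let tw : ℕ → Matrix ιL ιL (R ⧸ Ideal.span {(p : R)}) := fun i => Bm.map fun x => x ^ p ^ i
  let Pr : ℕ → Matrix ιL ιL (R ⧸ Ideal.span {(p : R)}) := fun N => ((List.range N).reverse.map tw).prod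
  change Dieu.IsVNilpotent Vs ↔ ∃ N, 0 < N ∧ Pr N = 0
  have hPr : ∀ N, Pr (N + 1) = tw N * Pr N := fun N => by
    simp [Pr, List.range_succ]
  have : IsScalarTower (WittVector p R) (WittVector p R) P := inferInstance
  -- Frobenius modulo `p`
  have hpow : ∀ x y : R ⧸ Ideal.span {(p : R)}, (x + y) ^ p = x ^ p + y ^ p := by
    intro x y
    have hp0 : (p : R ⧸ Ideal.span {(p : R)}) = 0 := by
      rw [← map_natCast (Ideal.Quotient.mk _), Ideal.Quotient.eq_zero_iff_mem]
      exact Ideal.mem_span_singleton_self _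
    rw [add_pow_prime_eq (Fact.out : p.Prime), hp0]
    simp
  let φ : (R ⧸ Ideal.span {(p : R)}) →+* (R ⧸ Ideal.span {(p : R)}) :=
    { toFun := fun x => x ^ p, map_one' := one_pow p, map_mul' := fun x y => mul_pow x y p
      map_zero' := zero_pow (Fact.out : p.Prime).ne_zero, map_add' := hpow }
  have htw : ∀ i, (tw i).map φ = tw (i + 1) := fun i => by
    ext k l
    simp [tw, φ, ← pow_mul, pow_succ]
  have htw0 : tw 0 = Bm := by ext k l; simp [tw]
  have hPr' : ∀ N, Pr (N + 1) = (Pr N).map φ * Bm := by
    intro N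
    induction N with
    | zero => simp [hPr 0, htw0, Pr]
    | succ N ih =>
      rw [hPr (N + 1)]
      conv_lhs => rw [ih]
      rw [← Matrix.mul_assoc, hPr N, Matrix.map_mul, htw N]
  -- the values of `V#` on the basis
  let sc : ιT ⊕ ιL → WittVector p R := Sum.elim (fun _ => (p : WittVector p R)) (fun _ => 1)
  have hVb : ∀ m, Vs (b m) = ∑ j, (β j m * sc j) • Dieu.BC.tmul (WittVector.frobenius : WittVector p R →+* WittVector p R) 1 (b j) := by
    intro m
    let e' : ιT ⊕ ιL → P := Sum.elim (fun j => D.F (bT j : P)) (fun k => D.Vinv ⟨(bL k : P), hLQ (bL k).2⟩)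
    have he' : ∀ j, e' j = ∑ i, α i j • b i := by
      rintro (j | j)
      · simp only [hb]; exact hF j
      · simp only [hb]; exact hV j
    have hbm : b m = ∑ j, β j m • e' j := by
      simp only [he', Finset.smul_sum, smul_smul]
      rw [Finset.sum_comm]
      have : ∀ i, ∑ j, (β j m * α i j) • b i = (if i = m then (1 : WittVector p R) else 0) • b i := fun i => by
        rw [← Finset.sum_smul, ← Matrix.one_apply, ← hαβ, Matrix.mul_apply]
        congr 1
        exact Finset.sum_congr rfl fun j _ => mul_comm _ _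
      simp [this]
    rw [hbm, map_sum]
    refine Finset.sum_congr rfl fun j _ => ?_
    rcases j with j | j
    · rw [hb]
      simp only [e', sc, Sum.elim_inl, hVs.app_smul_F, Dieu.BC.smul_tmul]
      rw [mul_comm, mul_one]
    · rw [hb]
      simp only [e', sc, Sum.elim_inr, hVs.app_smul_Vinv, Dieu.BC.smul_tmul]
      rw [mul_one, mul_one]
  -- coordinates modulo `p`
  let form : ∀ n : ℕ, (ιT ⊕ ιL) → P → R ⧸ Ideal.span {(p : R)} := fun n i x =>
    π (DispLib.formBC ((WittVector.frobenius : WittVector p R →+* WittVector p R) ^ (n + 1)) (b.coord i) (Dieu.vSharpPow Vs n x))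
  have hrec : ∀ n i m, form (n + 1) i (b m) =
      ∑ k : ιL, π (β (Sum.inr k) m) * φ (form n i (b (Sum.inr k))) := by
    intro n i m
    simp only [form, Dieu.vSharpPow_succ_apply, DispLib.formBC_castHom, hVb, map_sum, map_smul, Dieu.BC.map_tmul,
      Dieu.BC.lift_tmul, smul_eq_mul, map_mul, DispLib.formBC_push, one_smul]
    rw [Fintype.sum_sum_type]
    simp only [sc, Sum.elim_inl, Sum.elim_inr, map_natCast, map_one, mul_one]
    rw [show (p : R ⧸ Ideal.span {(p : R)}) = 0 from by
      rw [← map_natCast (Ideal.Quotient.mk _), Ideal.Quotient.eq_zero_iff_mem]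
      exact Ideal.mem_span_singleton_self _]
    simp only [mul_zero, zero_mul, Finset.sum_const_zero, zero_add]
    refine Finset.sum_congr rfl fun k _ => ?_
    rw [hπ, DispLib.toModP_frobenius]
    rfl
  have hzero : ∀ i m, form 0 i (b m) = Sum.elim (fun _ => 0) (fun l => π (β (Sum.inr l) m)) i := by
    intro i m
    simp only [form, Dieu.vSharpPow_zero_apply, DispLib.formBC_castHom, hVb, map_sum, map_smul, smul_eq_mul,
      map_mul, DispLib.formBC_tmul, one_mul, Module.Basis.coord_apply, Module.Basis.repr_self, Finsupp.single_apply]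
    rcases i with i | i
    · simp [Fintype.sum_sum_type, sc]
      all_goals simp [Ideal.Quotient.eq_zero_iff_mem.2, show (p : R ⧸ Ideal.span {(p : R)}) = 0 from by rw [← map_natCast (Ideal.Quotient.mk _), Ideal.Quotient.eq_zero_iff_mem]; exact Ideal.mem_span_singleton_self _]
    · simp [Fintype.sum_sum_type, sc]
  have hT0 : ∀ n i m, form n (Sum.inl i) (b m) = 0 := by
    intro n
    induction n with
    | zero => intro i m; rw [hzero]; rfl
    | succ n ih => intro i m; rw [hrec]; simp [ih]
  have hLL : ∀ n k l, form n (Sum.inr k) (b (Sum.inr l)) = Pr (n + 1) k l := by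
    intro n
    induction n with
    | zero => intro k l; rw [hzero, hPr 0, htw0]; simp [Pr, Bm]
    | succ n ih =>
      intro k l
      rw [hrec, hPr' (n + 1), Matrix.mul_apply]
      refine Finset.sum_congr rfl fun j _ => ?_
      rw [ih, Matrix.map_apply, mul_comm]
      rfl
  have hJ : ∀ (n : ℕ) (z : Dieu.BC ((WittVector.frobenius : WittVector p R →+* WittVector p R) ^ (n + 1)) P),
      z ∈ (W4c1extbt610.IV p R ⊔ Ideal.span {(p : WittVector p R)}) • (⊤ : Submodule (WittVector p R) _) ↔
        ∀ i, π (DispLib.formBC ((WittVector.frobenius : WittVector p R →+* WittVector p R) ^ (n + 1)) (b.coord i) z) = 0 := by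
    intro n z
    rw [← DispLib.ker_toModP]
    refine ⟨fun hz i => ?_, fun hz => ?_⟩
    · have := DispLib.linear_mem_smul_top (DispLib.formBC ((WittVector.frobenius : WittVector p R →+* WittVector p R) ^ (n + 1)) (b.coord i)) _ hz
      rw [smul_eq_mul, Ideal.mul_top, RingHom.mem_ker] at this
      exact this
    · have hdec : z = ∑ i, DispLib.formBC ((WittVector.frobenius : WittVector p R →+* WittVector p R) ^ (n + 1)) (b.coord i) z • Dieu.BC.tmul ((WittVector.frobenius : WittVector p R →+* WittVector p R) ^ (n + 1)) 1 (b i) := by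
        clear hz
        induction z using Dieu.BC.induction_on ((WittVector.frobenius : WittVector p R →+* WittVector p R) ^ (n + 1)) with
        | zero => simp
        | add u v hu hv => conv_lhs => rw [hu, hv]
                           simp only [map_add, add_smul, Finset.sum_add_distrib]
        | tmul w x =>
          let ψ : P →+ Dieu.BC ((WittVector.frobenius : WittVector p R →+* WittVector p R) ^ (n + 1)) P :=
            AddMonoidHom.mk' (fun u => Dieu.BC.tmul _ w u) (Dieu.BC.tmul_add _ w)
          conv_lhs => rw [← b.sum_repr x]; change ψ _; rw [map_sum]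
          refine Finset.sum_congr rfl fun i _ => ?_
          show Dieu.BC.tmul _ w _ = _
          rw [← Dieu.BC.tmul_mul_apply, DispLib.formBC_tmul, Dieu.BC.smul_tmul, mul_one]
          rfl
      rw [hdec]
      exact Submodule.sum_mem _ fun i _ => Submodule.smul_mem_smul (RingHom.mem_ker.2 (hz i)) Submodule.mem_top
  constructor
  · rintro ⟨n, hn⟩
    refine ⟨n + 1, n.succ_pos, ?_⟩
    ext k l
    rw [← hLL n k l]
    exact (hJ n _).1 (hn _) (Sum.inr k)
  · rintro ⟨N, hN, hN0⟩
    obtain ⟨n, rfl⟩ : ∃ n, N = n + 1 := ⟨N - 1, by omega⟩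
    refine ⟨n + 1, fun x => ?_⟩
    have hbas : ∀ m, Dieu.vSharpPow Vs (n + 1) (b m) ∈
        (W4c1extbt610.IV p R ⊔ Ideal.span {(p : WittVector p R)}) • (⊤ : Submodule (WittVector p R) _) := by
      intro m
      rw [hJ]
      intro i
      show form (n + 1) i (b m) = 0
      rcases i with i | i
      · exact hT0 _ i m
      · rw [hrec]
        simp [hLL, hN0]
    have : Submodule.span (WittVector p R) (Set.range b) ≤ Submodule.comap (Dieu.vSharpPow Vs (n + 1))
        ((W4c1extbt610.IV p R ⊔ Ideal.span {(p : WittVector p R)}) • (⊤ : Submodule (WittVector p R) _)) :=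
      Submodule.span_le.2 (by rintro _ ⟨m, rfl⟩; exact hbas m)
    exact this (b.span_eq ▸ Submodule.mem_top)

end Groth.Agent.S16546
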