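import Groth.Statements.S16547
import Groth.Agent.RegLoc.Basic
import Mathlib

set_option autoImplicit false
universe u
open CAlg

namespace Groth.Agent.S16547

section
open scoped Pointwise

/-- Eakin–Nagata: a Noetherian ring which is finite over a subring is a Noetherian module over it. -/
lemma eakin_nagata (B A : Type u) [CommRing B] [CommRing A] [Algebra B A] [Module.Finite B A]
    [IsNoetherianRing A] : IsNoetherian B A := by
  classical
  by_contra hc
  let 𝒮 : Set (Ideal A) := {J | (∃ I : Ideal B, J = I.map (algebraMap B A)) ∧ ¬ IsNoetherian B (A ⧸ J)}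
  have hne : 𝒮.Nonempty := by
    refine ⟨⊥, ⟨⊥, (Ideal.map_bot).symm⟩, fun h => hc ?_⟩
    exact isNoetherian_of_linearEquiv ((Submodule.quotEquivOfEqBot (⊥ : Ideal A) rfl).restrictScalars B)
  obtain ⟨J, ⟨⟨I, hI⟩, hJ⟩, hmax⟩ := set_has_maximal_iff_noetherian.mpr inferInstance 𝒮 hne
  let M := A ⧸ J
  have hbM : ∀ b : B, algebraMap B A b ∉ J →
      IsNoetherian B (M ⧸ LinearMap.range (b • (LinearMap.id : M →ₗ[B] M))) := by
    intro b hb
    let J' := J ⊔ Ideal.span {algebraMap B A b}
    have hlt : J < J' := lt_of_le_of_ne le_sup_left fun e =>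
      hb (e ▸ Ideal.mem_sup_right (Ideal.mem_span_singleton_self _))
    have hJ' : IsNoetherian B (A ⧸ J') := by
      by_contra h
      exact hmax J' ⟨⟨I ⊔ Ideal.span {b}, by
        rw [Ideal.map_sup, Ideal.map_span, Set.image_singleton, ← hI]⟩, h⟩ hlt
    let f : (A ⧸ J') →ₗ[B] M ⧸ LinearMap.range (b • (LinearMap.id : M →ₗ[B] M)) :=
      Submodule.liftQ (J'.restrictScalars B) ((Submodule.mkQ _).comp (Ideal.Quotient.mkₐ B J).toLinearMap) (by
        intro y hy
        obtain ⟨j, hj, z, hz, rfl⟩ := Submodule.mem_sup.mp (show y ∈ J' from hy)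
        obtain ⟨c, rfl⟩ := Ideal.mem_span_singleton'.mp hz
        rw [LinearMap.mem_ker, LinearMap.comp_apply, Submodule.mkQ_apply, Submodule.Quotient.mk_eq_zero]
        refine ⟨Ideal.Quotient.mk J c, ?_⟩
        show b • Ideal.Quotient.mk J c = Ideal.Quotient.mk J (j + c * algebraMap B A b)
        rw [Ideal.Quotient.eq.mpr (show j + c * algebraMap B A b - c * algebraMap B A b ∈ J by
          simpa using hj), mul_comm, ← Algebra.smul_def]
        rfl) ∘ₗ (Submodule.Quotient.restrictScalarsEquiv B J').symm.toLinearMap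
    refine isNoetherian_of_surjective f ?_
    rw [LinearMap.range_eq_top]
    intro y
    obtain ⟨y, rfl⟩ := Submodule.Quotient.mk_surjective _ y
    obtain ⟨y, rfl⟩ := Ideal.Quotient.mk_surjective y
    exact ⟨Ideal.Quotient.mk J' y, rfl⟩
  obtain ⟨k, g, hg⟩ := Module.Finite.exists_fin (R := B) (M := M)
  let 𝒩 : Set (Submodule B M) := {N | ∀ b : B, algebraMap B A b ∉ J → ∃ m, b • m ∉ N}
  have h0 : (⊥ : Submodule B M) ∈ 𝒩 := fun b hb => ⟨1, fun h => hb (by
    rw [Submodule.mem_bot, Algebra.smul_def, mul_one] at h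
    exact Ideal.Quotient.eq_zero_iff_mem.mp h)⟩
  obtain ⟨N0, -, hN0⟩ := zorn_le_nonempty₀ 𝒩 (fun c hc hchain y hy => by
    refine ⟨sSup c, fun b hb => ?_, fun z hz => le_sSup hz⟩
    by_contra hall
    push Not at hall
    have hi : ∀ i : Fin k, ∃ N ∈ c, b • g i ∈ N := fun i =>
      (Submodule.mem_sSup_of_directed ⟨y, hy⟩ hchain.directedOn).mp (hall (g i))
    choose Ni hNi hgi using hi
    haveI : Nonempty c := ⟨⟨y, hy⟩⟩
    haveI : IsDirectedOrder c := directedOn_iff_directed.mp hchain.directedOn |> fun h => ⟨h⟩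
    obtain ⟨⟨Z, hZc⟩, hZ'⟩ := (Finset.univ.image fun i => (⟨Ni i, hNi i⟩ : c)).exists_le
    have hZ : ∀ i, Ni i ≤ Z := fun i => hZ' ⟨Ni i, hNi i⟩ (Finset.mem_image_of_mem _ (Finset.mem_univ i))
    obtain ⟨m, hm⟩ := hc hZc b hb
    have hmem : m ∈ Submodule.span B (Set.range g) := hg ▸ Submodule.mem_top
    refine hm (Submodule.span_le (p := Z.comap (b • (LinearMap.id : M →ₗ[B] M))) |>.mpr ?_ hmem)
    rintro _ ⟨i, rfl⟩
    exact hZ i (hgi i)) ⊥ h0
  have hQ : ¬ IsNoetherian B (M ⧸ N0) := by
    intro hn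
    refine hJ ?_
    let ev : B →ₗ[B] (Fin k → M ⧸ N0) := LinearMap.pi fun i => LinearMap.toSpanSingleton B _ (N0.mkQ (g i))
    let a : Ideal B := Ideal.comap (algebraMap B A) J
    have hker : LinearMap.ker ev ≤ a := fun b hb => by
      by_contra hba
      obtain ⟨m, hm⟩ := hN0.1 b hba
      have hmem : m ∈ Submodule.span B (Set.range g) := hg ▸ Submodule.mem_top
      refine hm (Submodule.span_le (p := N0.comap (b • (LinearMap.id : M →ₗ[B] M))) |>.mpr ?_ hmem)
      rintro _ ⟨i, rfl⟩
      have := congrFun (LinearMap.mem_ker.mp hb) i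
      exact (Submodule.Quotient.mk_eq_zero N0).mp (by
        simpa [ev, ← Submodule.Quotient.mk_smul] using this)
    have hkn : IsNoetherian B (B ⧸ LinearMap.ker ev) :=
      isNoetherian_of_linearEquiv ev.quotKerEquivRange.symm
    have ha : IsNoetherian B (B ⧸ a) := isNoetherian_of_surjective (Submodule.factor hker)
      (LinearMap.range_eq_top.mpr (Submodule.factor_surjective hker))
    let F : (Fin k → B ⧸ a) →ₗ[B] M := ∑ i, (Submodule.liftQ a (LinearMap.toSpanSingleton B M (g i))
      (fun b hb => by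
        show b • g i = 0
        obtain ⟨y, hy⟩ := Ideal.Quotient.mk_surjective (g i)
        rw [← hy, Algebra.smul_def]
        show Ideal.Quotient.mk J (algebraMap B A b) * _ = 0
        rw [Ideal.Quotient.eq_zero_iff_mem.mpr (show algebraMap B A b ∈ J from hb), zero_mul])).comp (LinearMap.proj i)
    refine isNoetherian_of_surjective F (top_le_iff.mp (hg ▸ Submodule.span_le.mpr ?_))
    rintro _ ⟨i, rfl⟩
    refine ⟨Pi.single i (Submodule.Quotient.mk 1), ?_⟩
    rw [LinearMap.sum_apply, Finset.sum_eq_single i]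
    · rw [LinearMap.comp_apply, LinearMap.proj_apply, Pi.single_eq_same, Submodule.liftQ_apply,
        LinearMap.toSpanSingleton_apply, one_smul]
    · intro j _ hj
      rw [LinearMap.comp_apply, LinearMap.proj_apply, Pi.single_eq_of_ne hj, map_zero]
    · simp
  refine hQ ⟨fun N => ?_⟩
  rcases eq_or_ne N ⊥ with rfl | hN
  · exact Submodule.fg_bot
  let N' := N.comap N0.mkQ
  have hlt : N0 < N' := by
    refine lt_of_le_of_ne (fun x hx => by simp [N', (Submodule.Quotient.mk_eq_zero N0).mpr hx]) fun e => hN ?_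
    rw [eq_bot_iff]
    intro x hx
    obtain ⟨x, rfl⟩ := Submodule.Quotient.mk_surjective N0 x
    exact (Submodule.Quotient.mk_eq_zero N0).mpr (e ▸ (show x ∈ N' from hx))
  obtain ⟨b, hb, hbm⟩ : ∃ b : B, algebraMap B A b ∉ J ∧ ∀ m, b • m ∈ N' := by
    have : N' ∉ 𝒩 := fun h => hlt.not_ge (hN0.2 h hlt.le)
    simp only [𝒩, Set.mem_setOf_eq, not_forall, not_exists, not_not] at this
    obtain ⟨b, hb, hbm⟩ := this
    exact ⟨b, hb, hbm⟩
  have := hbM b hb
  let R0 := LinearMap.range (b • (LinearMap.id : M →ₗ[B] M))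
  have hR0 : R0 ≤ N' := by rintro _ ⟨m, rfl⟩; exact hbm m
  have hN' : N'.FG := by
    refine Submodule.fg_of_fg_map_of_fg_inf_ker R0.mkQ (IsNoetherian.noetherian _) ?_
    rw [Submodule.ker_mkQ, inf_eq_right.mpr hR0]
    show (LinearMap.range (b • (LinearMap.id : M →ₗ[B] M))).FG
    rw [← Submodule.map_top]
    exact Submodule.FG.map _ Module.Finite.fg_top
  have : N = N'.map N0.mkQ := (Submodule.map_comap_eq_of_surjective N0.mkQ_surjective N).symm
  exact this ▸ hN'.map _

variable {A B G : Type u} [CommRing A] [IsDomain A] [CommRing B] [Algebra B A] [Module.Finite B A]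
  [Group G] [Finite G] [MulSemiringAction G A] [FaithfulSMul G A] [SMulCommClass G B A]
  (q : Ideal B)

/-- `S` generates `A` modulo `a`, up to denominators outside `q`. -/
def Gen (S : Finset A) (a : Ideal A) : Prop :=
  ∀ y : A, ∃ c ∉ q, algebraMap B A c * y ∈ Submodule.span B (S : Set A) ⊔ a.restrictScalars B

open Classical in
omit [IsDomain A] [Module.Finite B A] in
lemma gen_mul [q.IsPrime] {S T : Finset A} {a b : A} (hS : Gen q S (Ideal.span {a}))
    (hT : Gen q T (Ideal.span {b})) :
    Gen q (S ∪ T.image (a * ·)) (Ideal.span {a * b}) := by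
  intro y
  obtain ⟨c, hc, hy⟩ := hS y
  obtain ⟨s, hs, z, hz, hsz⟩ := Submodule.mem_sup.mp hy
  obtain ⟨z, rfl⟩ := Ideal.mem_span_singleton'.mp hz
  obtain ⟨d, hd, hz'⟩ := hT z
  obtain ⟨t, ht, w, hw, htw⟩ := Submodule.mem_sup.mp hz'
  obtain ⟨w, rfl⟩ := Ideal.mem_span_singleton'.mp hw
  refine ⟨d * c, fun h => (Ideal.IsPrime.mem_or_mem inferInstance h).elim hd hc, ?_⟩
  have : algebraMap B A (d * c) * y = (d • s + a * t) + w * (a * b) := by
    rw [map_mul, mul_assoc, ← hsz, Algebra.smul_def, mul_add, ← mul_assoc (algebraMap B A d) z a, ← htw]; ring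
  rw [this]
  refine Submodule.add_mem_sup (add_mem (Submodule.smul_mem _ d (Submodule.span_mono (by simp) hs)) ?_)
    (Ideal.mem_span_singleton'.mpr ⟨w, rfl⟩)
  have h2 : a * t ∈ (Submodule.span B (T : Set A)).map (LinearMap.mulLeft B a) := ⟨t, ht, rfl⟩
  rw [Submodule.map_span] at h2
  refine Submodule.span_mono ?_ h2
  rintro _ ⟨u, hu, rfl⟩
  simp only [Finset.coe_union, Finset.coe_image, Set.mem_union]
  exact Or.inr ⟨u, hu, rfl⟩

open Classical in
omit [IsDomain A] [Module.Finite B A] in
lemma gen_prod [q.IsPrime] {ι : Type*} (l : Finset ι) (f : ι → A) (e : ℕ)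
    (h : ∀ i ∈ l, Gen q {1} (Ideal.span {f i})) :
    ∃ S : Finset A, S.card ≤ e * l.card ∧ Gen q S (Ideal.span {(∏ i ∈ l, f i ^ e : A)}) := by
  induction l using Finset.induction with
  | empty => exact ⟨∅, by simp, fun y => ⟨1, Ideal.IsPrime.one_notMem inferInstance,
      Submodule.mem_sup_right (by simp)⟩⟩
  | @insert i l hi ih =>
    obtain ⟨S, hS, hgS⟩ := ih fun j hj => h j (Finset.mem_insert_of_mem hj)
    have hpow : ∀ e : ℕ, ∃ T : Finset A, T.card ≤ e ∧ Gen q T (Ideal.span {f i ^ e}) := by
      intro e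
      induction e with
      | zero => exact ⟨∅, by simp, fun y => ⟨1, Ideal.IsPrime.one_notMem inferInstance,
          Submodule.mem_sup_right (by simp)⟩⟩
      | succ e ihe =>
        obtain ⟨T, hT, hgT⟩ := ihe
        refine ⟨{1} ∪ T.image (f i * ·), (Finset.card_union_le _ _).trans ?_, by
          rw [pow_succ']; exact gen_mul q (h i (Finset.mem_insert_self i l)) hgT⟩
        have := T.card_image_le (f := (f i * ·))
        simp only [Finset.card_singleton]; omega
    obtain ⟨T, hT, hgT⟩ := hpow e
    refine ⟨T ∪ S.image ((f i ^ e) * ·), ?_, by rw [Finset.prod_insert hi]; exact gen_mul q hgT hgS⟩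
    refine (Finset.card_union_le _ _).trans ?_
    rw [Finset.card_insert_of_notMem hi, mul_add, mul_one]
    have := S.card_image_le (f := ((f i ^ e) * ·))
    omega

omit [IsDomain A] in
lemma nakayama [q.IsPrime] {S : Finset A} {x : B} (hx : x ∈ q) (h : Gen q S (Ideal.span {algebraMap B A x}))
    (y : A) : ∃ c ∉ q, c • y ∈ Submodule.span B (S : Set A) := by
  let W := Submodule.span B (S : Set A)
  have hsub : Subsingleton (LocalizedModule q.primeCompl (A ⧸ W)) := by
    refine subsingleton_of_forall_eq 0 fun z => ?_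
    have htop : (⊤ : Submodule (Localization.AtPrime q) (LocalizedModule q.primeCompl (A ⧸ W))) ≤
        IsLocalRing.maximalIdeal (Localization.AtPrime q) • ⊤ := by
      intro z _
      induction z using LocalizedModule.induction_on with
      | _ m s =>
        obtain ⟨y, rfl⟩ := Submodule.Quotient.mk_surjective W m
        obtain ⟨c, hc, hy⟩ := h y
        obtain ⟨w, hw, v, hv, hwv⟩ := Submodule.mem_sup.mp hy
        obtain ⟨v, rfl⟩ := Ideal.mem_span_singleton'.mp hv
        have e : c • (Submodule.Quotient.mk y : A ⧸ W) = x • Submodule.Quotient.mk v := by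
          rw [← Submodule.Quotient.mk_smul, ← Submodule.Quotient.mk_smul, Submodule.Quotient.eq,
            Algebra.smul_def, Algebra.smul_def, ← hwv, mul_comm v, add_sub_cancel_right]
          exact hw
        have : LocalizedModule.mk (Submodule.Quotient.mk y : A ⧸ W) s =
            algebraMap B (Localization.AtPrime q) x • LocalizedModule.mk (Submodule.Quotient.mk v : A ⧸ W)
              (⟨c, hc⟩ * s : q.primeCompl) := by
          rw [algebraMap_smul, LocalizedModule.smul'_mk, ← e, ← LocalizedModule.smul'_mk]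
          show _ = c • LocalizedModule.mk _ _
          rw [LocalizedModule.smul'_mk, show c • (Submodule.Quotient.mk y : A ⧸ W) =
            (⟨c, hc⟩ : q.primeCompl) • (Submodule.Quotient.mk y : A ⧸ W) from rfl,
            LocalizedModule.mk_cancel_common_left]
        rw [this]
        exact Submodule.smul_mem_smul ((IsLocalization.AtPrime.to_map_mem_maximal_iff _ q x).mpr hx) trivial
    exact (Submodule.mem_bot (Localization.AtPrime q)).mp
      (Submodule.eq_bot_of_le_smul_of_le_jacobson_bot _ _ Module.Finite.fg_top htop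
        (IsLocalRing.maximalIdeal_le_jacobson _) ▸ Submodule.mem_top)
  obtain ⟨c, hc, hcy⟩ := LocalizedModule.subsingleton_iff.mp hsub (Submodule.Quotient.mk y)
  exact ⟨c, hc, (Submodule.Quotient.mk_eq_zero W).mp (by rw [Submodule.Quotient.mk_smul]; exact hcy)⟩

omit [Module.Finite B A] in
/-- Artin's bound. -/
lemma card_le (hinj : Function.Injective (algebraMap B A)) {S : Finset A}
    (h : ∀ y : A, ∃ c ∉ q, c • y ∈ Submodule.span B (S : Set A)) : Nat.card G ≤ S.card := by
  classical
  have := Fintype.ofFinite G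
  let χ : G → (A →* A) := fun g => (MulSemiringAction.toRingHom G A g : A →+* A).toMonoidHom
  have hχ : Function.Injective χ := fun g g' e =>
    eq_of_smul_eq_smul (α := A) fun a => DFunLike.congr_fun e a
  have hli : LinearIndependent A fun g : G => (fun a : A => g • a) :=
    (linearIndependent_monoidHom A A).comp χ hχ
  have hres : LinearIndependent A fun g : G => (fun s : (S : Set A) => g • (s : A)) := by
    rw [Fintype.linearIndependent_iff] at hli ⊢
    intro w hw
    refine hli w (funext fun a => ?_)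
    simp only [Finset.sum_apply, Pi.smul_apply, smul_eq_mul, Pi.zero_apply]
    obtain ⟨c, hc, hca⟩ := h a
    let Φ : A →ₗ[B] A := ∑ g, (LinearMap.mulLeft B (w g)).comp (DistribSMul.toLinearMap B A g)
    have hΦ : Submodule.span B (S : Set A) ≤ LinearMap.ker Φ := Submodule.span_le.mpr fun s hs => by
      have := congrFun hw ⟨s, hs⟩
      simpa [Φ] using this
    have h1 : Φ (c • a) = 0 := hΦ hca
    rw [map_smul, Algebra.smul_def, mul_eq_zero] at h1
    rcases h1 with h1 | h1
    · exact absurd ((map_eq_zero_iff _ hinj).mp h1 ▸ q.zero_mem) hc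
    · simpa [Φ] using h1
  have := hres.fintype_card_le_finrank
  rw [Module.finrank_fintype_fun_eq_card] at this
  simpa [Nat.card_eq_fintype_card] using this

end

/-- Let A be a Noetherian factorial local domain and G a finite group acting faithfully on A by ring
automorphisms; let B be a ring with an injective ring map to A whose image is exactly the ring of
invariants of G, and assume A is a finite B-module. Let q be a prime ideal of B of height one and p
a prime ideal of A lying over q such that the extension of residue fields of the local rings B_q and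
A_p is trivial (every element of A is congruent modulo p to some c⁻¹b with b, c in B, c outside q).
Then q is a principal ideal; and if moreover B/q is a regular local ring, then B is a regular local
ring. -/
theorem result
    {A B G : Type u} [CommRing A] [IsDomain A] [IsNoetherianRing A] [IsLocalRing A]
    [UniqueFactorizationMonoid A]
    [CommRing B] [Algebra B A] [FaithfulSMul B A] [Module.Finite B A]
    [Group G] [Finite G] [MulSemiringAction G A] [FaithfulSMul G A] [SMulCommClass G B A]
    [Algebra.IsInvariant B A G]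
    (q : Ideal B) [q.IsPrime] (hq : q.height = 1) (p : Ideal A) [p.IsPrime] [p.LiesOver q]
    (hres : ∀ a : A, ∃ b c : B, c ∉ q ∧ algebraMap B A c * a - algebraMap B A b ∈ p) :
    Submodule.IsPrincipal q ∧ (IsRegularLocalRing (B ⧸ q) → IsRegularLocalRing B) := by
  classical
  have := Fintype.ofFinite G
  have hinj := FaithfulSMul.algebraMap_injective B A
  have : IsDomain B := hinj.isDomain (algebraMap B A)
  have hint : Algebra.IsIntegral B A := Algebra.IsIntegral.of_finite B A
  have hfix : ∀ (g : G) (b : B), g • algebraMap B A b = algebraMap B A b := fun g b => smul_algebraMap g b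
  have hpc : p.comap (algebraMap B A) = q := (Ideal.LiesOver.over (P := p) (p := q)).symm
  have hq0 : q ≠ ⊥ := by
    rintro rfl
    rw [Ideal.height_bot] at hq
    exact zero_ne_one hq
  have hp0 : p ≠ ⊥ := by
    rintro rfl
    exact hq0 (by rw [← hpc, ← RingHom.ker_eq_comap_bot, (RingHom.injective_iff_ker_eq_bot _).mp hinj])
  obtain ⟨π, hπp, hπ⟩ := Ideal.IsPrime.exists_mem_prime_of_ne_bot ‹p.IsPrime› hp0
  have hπI : (Ideal.span {π}).IsPrime := (Ideal.span_singleton_prime hπ.ne_zero).mpr hπ
  have hspan : Ideal.span {π} = p := by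
    refine eq_of_le_of_not_lt ((Ideal.span_singleton_le_iff_mem _).mpr hπp) fun hlt => ?_
    have h1 := Ideal.comap_lt_comap_of_integral_mem_sdiff (R := B) hlt.le (SetLike.exists_of_lt hlt).choose_spec (hint.isIntegral _)
    rw [hpc] at h1
    have : q.FiniteHeight := q.finiteHeight_iff.mpr (Or.inr (by simp [hq]))
    have h2 := Ideal.height_strict_mono_of_isPrime_of_isPrime h1
    rw [hq] at h2
    have h0 : (Ideal.span {π}).comap (algebraMap B A) ≠ ⊥ :=
      Ideal.comap_ne_bot_of_integral_mem hπ.ne_zero (Ideal.mem_span_singleton_self π) (hint.isIntegral π)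
    rw [Order.lt_one_iff, Ideal.height_eq_zero_iff] at h2
    rw [IsDomain.minimalPrimes_eq_singleton_bot] at h2
    exact h0 h2
  -- the orbit
  have hπg : ∀ g : G, Prime (g • π) := fun g =>
    (MulEquiv.prime_iff (MulSemiringAction.toRingEquiv G A g).toMulEquiv).mpr hπ
  have hπmem : ∀ (g : G) (y : A), g • π ∣ y ↔ g⁻¹ • y ∈ p := fun g y => by
    rw [← hspan, Ideal.mem_span_singleton]
    constructor
    · rintro ⟨z, rfl⟩; exact ⟨g⁻¹ • z, by rw [smul_mul', inv_smul_smul]⟩
    · rintro ⟨z, hz⟩; exact ⟨g • z, by rw [← smul_mul', ← hz, smul_inv_smul]⟩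
  let cls : G → Associates A := fun g => Associates.mk (g • π)
  let O := Finset.univ.image cls
  have hrep : ∀ o ∈ O, ∃ g, cls g = o := fun o ho => by
    obtain ⟨g, -, hg⟩ := Finset.mem_image.mp ho; exact ⟨g, hg⟩
  choose rep hrep using hrep
  let f : {o // o ∈ O} → A := fun o => rep o.1 o.2 • π
  let N : A := ∏ g : G, g • π
  have hNfix : ∀ g : G, g • N = N := fun g => by
    rw [Finset.smul_prod']
    simp only [← mul_smul]
    exact Fintype.prod_equiv (Equiv.mulLeft g) _ _ fun _ => rfl
  obtain ⟨n, hn⟩ := Algebra.IsInvariant.isInvariant (A := B) (G := G) N hNfix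
  have hnq : n ∈ q := by
    rw [← hpc, Ideal.mem_comap, hn, ← hspan, Ideal.mem_span_singleton]
    exact (one_smul G π) ▸ Finset.dvd_prod_of_mem (fun g : G => g • π) (Finset.mem_univ 1)
  have hN0 : N ≠ 0 := Finset.prod_ne_zero_iff.mpr fun g _ => (hπg g).ne_zero
  have key : ∀ x ∈ q, N ∣ algebraMap B A x := by
    intro x hx
    rcases eq_or_ne x 0 with rfl | hx0
    · rw [map_zero]; exact dvd_zero N
    set X := algebraMap B A x with hX
    have hX0 : X ≠ 0 := (map_ne_zero_iff _ hinj).mpr hx0
    obtain ⟨e, y, hy, hXy⟩ := WfDvdMonoid.max_power_factor hX0 hπ.irreducible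
    -- the orbit product
    let P := ∏ o ∈ O.attach, f o ^ e
    have hne : ∀ o ∈ O.attach, ∀ o' ∈ O.attach, o ≠ o' → IsRelPrime (f o ^ e) (f o' ^ e) := by
      intro o _ o' _ hoo
      refine ((hπg _).irreducible.isRelPrime_iff_not_dvd.mpr fun hd => hoo (Subtype.ext ?_)).pow
      rw [← hrep o.1 o.2, ← hrep o'.1 o'.2]
      exact Associates.mk_eq_mk_iff_associated.mpr ((hπg _).associated_of_dvd (hπg _) hd)
    have hdvd : P ∣ X := Finset.prod_dvd_of_isRelPrime hne fun o _ => by
      refine ⟨rep o.1 o.2 • y, ?_⟩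
      conv_lhs => rw [hX, ← hfix (rep o.1 o.2) x, ← hX, hXy, smul_mul', smul_pow']
    obtain ⟨w, hw⟩ := hdvd
    have hwp : ∀ g : G, g • w ∉ p := by
      intro g hgw
      have hd : g⁻¹ • π ∣ w := (hπmem g⁻¹ w).mpr (by rwa [inv_inv])
      obtain ⟨o, ho, hgo⟩ : ∃ o, ∃ ho : o ∈ O, cls g⁻¹ = o := ⟨_, Finset.mem_image_of_mem cls (Finset.mem_univ g⁻¹), rfl⟩
      have hass : Associated (g⁻¹ • π) (f ⟨o, ho⟩) := Associates.mk_eq_mk_iff_associated.mp
        (hgo.trans (hrep o ho).symm)
      have hd1 : f ⟨o, ho⟩ ∣ w := hass.symm.dvd.trans hd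
      have hd2 : f ⟨o, ho⟩ ^ (e + 1) ∣ X := by
        rw [hw, pow_succ]
        exact mul_dvd_mul (Finset.dvd_prod_of_mem (fun o => f o ^ e) (Finset.mem_attach _ _)) hd1
      obtain ⟨z, hz⟩ := hd2
      refine hy ?_
      have hz' : π ^ (e + 1) ∣ X := ⟨(rep o ho)⁻¹ • z, by
        conv_lhs => rw [hX, ← hfix (rep o ho)⁻¹ x, ← hX, hz, smul_mul', smul_pow', inv_smul_smul]⟩
      rw [hXy, pow_succ] at hz'
      exact (mul_dvd_mul_iff_left (pow_ne_zero e hπ.ne_zero)).mp hz'
    -- a denominator for `w`
    let Nw : A := ∏ g : G, g • w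
    obtain ⟨c0, hc0⟩ := Algebra.IsInvariant.isInvariant (A := B) (G := G) Nw fun g => by
      rw [Finset.smul_prod']
      simp only [← mul_smul]
      exact Fintype.prod_equiv (Equiv.mulLeft g) _ _ fun _ => rfl
    have hc0q : c0 ∉ q := by
      rw [← hpc, Ideal.mem_comap, hc0]
      intro h
      obtain ⟨g, -, hg⟩ := Ideal.IsPrime.prod_mem_iff.mp h
      exact hwp g hg
    have hwdvd : w ∣ algebraMap B A c0 := hc0 ▸
      (one_smul G w) ▸ Finset.dvd_prod_of_mem (fun g : G => g • w) (Finset.mem_univ 1)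
    -- spanning sets
    obtain ⟨S, hS, hgen⟩ := gen_prod q O.attach f e fun o _ y => by
      obtain ⟨b, c, hc, hcb⟩ := hres ((rep o.1 o.2)⁻¹ • y)
      refine ⟨c, hc, ?_⟩
      rw [show algebraMap B A c * y = b • (1 : A) + (algebraMap B A c * y - algebraMap B A b) by
        rw [Algebra.smul_def, mul_one]; ring]
      refine Submodule.add_mem_sup (Submodule.smul_mem _ b (Submodule.subset_span (by simp)))
        (Ideal.mem_span_singleton.mpr ((hπmem _ _).mpr ?_))
      rw [smul_sub, smul_mul', hfix, hfix]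
      exact hcb
    have hgen' : Gen q S (Ideal.span {algebraMap B A x}) := by
      intro y
      obtain ⟨c, hc, hy'⟩ := hgen y
      obtain ⟨s, hs, v, hv, hsv⟩ := Submodule.mem_sup.mp hy'
      obtain ⟨v, rfl⟩ := Ideal.mem_span_singleton'.mp hv
      obtain ⟨u, hu⟩ := hwdvd
      refine ⟨c0 * c, fun h => (Ideal.IsPrime.mem_or_mem inferInstance h).elim hc0q hc, ?_⟩
      rw [show algebraMap B A (c0 * c) * y = c0 • s + u * v * X by
        rw [map_mul, mul_assoc, ← hsv, Algebra.smul_def, mul_add, hw, hu]; ring]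
      exact Submodule.add_mem_sup (Submodule.smul_mem _ c0 hs) (Ideal.mem_span_singleton'.mpr ⟨_, rfl⟩)
    have hcard := (card_le (G := G) q hinj (nakayama q hx hgen')).trans hS
    -- fibres of `cls` all have the same size
    have hfib : ∀ o ∈ O, (Finset.univ.filter fun g => cls g = o).card =
        (Finset.univ.filter fun g => cls g = cls 1).card := by
      intro o ho
      refine Finset.card_equiv (Equiv.mulLeft (rep o ho)⁻¹) fun g => ?_
      simp only [Finset.mem_filter, Finset.mem_univ, true_and, Equiv.coe_mulLeft]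
      have hr := hrep o ho
      generalize rep o ho = r at hr ⊢
      subst hr
      simp only [cls, Associates.mk_eq_mk_iff_associated, one_smul, mul_smul]
      constructor
      · intro h; simpa using h.map (MulSemiringAction.toRingHom G A r⁻¹)
      · intro h; simpa using h.map (MulSemiringAction.toRingHom G A r)
    set m := (Finset.univ.filter fun g => cls g = cls 1).card
    have hsum : Nat.card G = m * O.card := by
      rw [Nat.card_eq_fintype_card, ← Finset.card_univ,
        Finset.card_eq_sum_card_fiberwise (t := O) (f := cls) (fun g _ => Finset.mem_image_of_mem cls (Finset.mem_univ g)),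
        Finset.sum_congr rfl hfib, Finset.sum_const, smul_eq_mul, mul_comm]
    have hme : m ≤ e := by
      rw [hsum, Finset.card_attach] at hcard
      exact Nat.le_of_mul_le_mul_right hcard (Finset.card_pos.mpr ⟨cls 1, Finset.mem_image_of_mem cls (Finset.mem_univ 1)⟩)
    have hNP : Associated N (∏ o ∈ O.attach, f o ^ m) := by
      rw [← Associates.mk_eq_mk_iff_associated, ← Associates.finset_prod_mk, ← Associates.finset_prod_mk,
        show (∏ g : G, Associates.mk (g • π)) = ∏ g : G, id (cls g) from rfl,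
        Finset.prod_comp id cls, ← Finset.prod_attach (Finset.univ.image cls)]
      refine Finset.prod_congr rfl fun o _ => ?_
      rw [id, hfib o.1 o.2, Associates.mk_pow]
      exact congrArg (· ^ m) (hrep o.1 o.2).symm
    exact hNP.dvd.trans ((Finset.prod_dvd_prod_of_dvd _ _ fun o _ => pow_dvd_pow (f o) hme).trans ⟨w, hw⟩)
  have hqn : q = Ideal.span {n} := by
    refine le_antisymm (fun x hx => ?_) ((Ideal.span_singleton_le_iff_mem _).mpr hnq)
    obtain ⟨z, hz⟩ := key x hx
    obtain ⟨z', hz'⟩ := Algebra.IsInvariant.isInvariant (A := B) (G := G) z fun g => by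
      refine mul_left_cancel₀ hN0 ?_
      conv_lhs => rw [← hNfix g, ← smul_mul', ← hz, hfix, hz]
    exact Ideal.mem_span_singleton.mpr ⟨z', hinj (by rw [map_mul, hn, hz', hz])⟩
  refine ⟨⟨⟨n, hqn⟩⟩, fun hreg => ?_⟩
  have := eakin_nagata B A
  have hBn : IsNoetherianRing B :=
    isNoetherianRing_iff.mpr (isNoetherian_of_injective (Algebra.linearMap B A) hinj)
  have : IsLocalHom (algebraMap B A) := RingHom.IsIntegral.isLocalHom (algebraMap_isIntegral_iff.mpr hint) hinj
  have : IsLocalRing B := RingHom.domain_isLocalRing (algebraMap B A)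
  rw [hqn] at hreg
  haveI := hreg
  refine RegLoc.isRegularLocalRing_of_quotient_span_singleton (x := n) ?_ ?_
  · exact IsLocalRing.le_maximalIdeal (Ideal.IsPrime.ne_top ‹q.IsPrime›) hnq
  · exact mem_nonZeroDivisors_of_ne_zero fun h => hN0 (by rw [← hn, h, map_zero])

end Groth.Agent.S16547
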