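import Groth.Statements.S16548
import Groth.Agent.DualAbs.ExtCodim

set_option autoImplicit false
universe u
open CategoryTheory CategoryTheory.Limits AlgebraicGeometry
attribute [local instance] Curv2.resAlgebra
open Curves

set_option linter.style.haveILetI false
set_option backward.isDefEq.respectTransparency false
namespace Groth.Agent.S16548

open IsLocalRing KaehlerDifferential in
/-- A finite type extension of local algebras with cyclic differentials whose residue field is separable
over the lower residue field, but not over the base field, is unramified. -/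
lemma map_maximalIdeal_eq (k A B : Type u) [Field k] [CommRing A] [CommRing B] [IsLocalRing A] [IsLocalRing B]
    [Algebra k A] [Algebra k B] [Algebra A B] [IsScalarTower k A B] [IsLocalHom (algebraMap A B)]
    [Algebra.EssFiniteType k B] (ω : Ω[B⁄k]) (hω : ∀ y : Ω[B⁄k], ∃ b : B, b • ω = y)
    [Algebra.IsSeparable (ResidueField A) (ResidueField B)]
    (hns : ¬ Algebra.IsSeparable k (ResidueField B)) :
    (maximalIdeal A).map (algebraMap A B) = maximalIdeal B := by
  haveI : Algebra.EssFiniteType A B := Algebra.EssFiniteType.of_comp k A B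
  suffices h : Subsingleton Ω[B⁄A] by
    haveI : Algebra.FormallyUnramified A B := ⟨h⟩
    exact Algebra.FormallyUnramified.map_maximalIdeal
  by_contra hne
  apply hns
  have hmem : ∀ a : A, ∀ b : B, b • ω = KaehlerDifferential.map k k A B (D k A a) → b ∈ maximalIdeal B := by
    intro a b hb
    by_contra hu
    rw [IsLocalRing.mem_maximalIdeal, mem_nonunits_iff, not_not] at hu
    apply hne
    refine subsingleton_of_forall_eq 0 fun z => ?_
    obtain ⟨y, rfl⟩ := KaehlerDifferential.map_surjective k A B z
    obtain ⟨c, rfl⟩ := hω y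
    have h0 : KaehlerDifferential.map k A B B (b • ω) = 0 := by
      rw [hb, KaehlerDifferential.map_D, KaehlerDifferential.map_D, Algebra.algebraMap_self_apply,
        Derivation.map_algebraMap]
    rw [map_smul] at h0
    obtain ⟨u, rfl⟩ := hu
    have h1 : KaehlerDifferential.map k A B B ω = 0 := by
      have := congrArg (fun z => ((u⁻¹ : Bˣ) : B) • z) h0
      simpa [smul_smul] using this
    rw [map_smul, h1, smul_zero]
  haveI : Algebra.EssFiniteType k (ResidueField B) := Algebra.EssFiniteType.comp k B (ResidueField B)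
  haveI : Algebra.FormallyUnramified k (ResidueField B) := by
    refine ⟨subsingleton_of_forall_eq 0 fun z => ?_⟩
    haveI : Algebra.FormallyUnramified (ResidueField A) (ResidueField B) :=
      Algebra.FormallyUnramified.of_isSeparable _ _
    have hz : z ∈ LinearMap.range (KaehlerDifferential.mapBaseChange k (ResidueField A) (ResidueField B)) := by
      rw [KaehlerDifferential.range_mapBaseChange, LinearMap.mem_ker]
      exact Subsingleton.elim _ _
    obtain ⟨t, rfl⟩ := hz
    have hgen : ∀ w : Ω[ResidueField A⁄k],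
        KaehlerDifferential.map k k (ResidueField A) (ResidueField B) w = 0 := by
      suffices h : (⊤ : Submodule (ResidueField A) Ω[ResidueField A⁄k]) ≤
          LinearMap.ker (KaehlerDifferential.map k k (ResidueField A) (ResidueField B)) from
        fun w => h trivial
      rw [← KaehlerDifferential.span_range_derivation, Submodule.span_le]
      rintro _ ⟨α, rfl⟩
      obtain ⟨a, rfl⟩ := IsLocalRing.residue_surjective α
      obtain ⟨b, hb⟩ := hω (KaehlerDifferential.map k k A B (D k A a))
      have hb0 := hmem a b hb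
      rw [SetLike.mem_coe, LinearMap.mem_ker, KaehlerDifferential.map_D, IsLocalRing.ResidueField.algebraMap_residue]
      have e1 : D k (ResidueField B) (algebraMap B (ResidueField B) (algebraMap A B a)) =
          KaehlerDifferential.map k k B (ResidueField B) (D k B (algebraMap A B a)) :=
        (KaehlerDifferential.map_D k k B (ResidueField B) _).symm
      refine e1.trans ?_
      rw [show D k B (algebraMap A B a) = b • ω from ((KaehlerDifferential.map_D k k A B a).symm.trans hb.symm),
        map_smul, ← IsScalarTower.algebraMap_smul (ResidueField B) b]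
      rw [show algebraMap B (ResidueField B) b = 0 from (IsLocalRing.residue_eq_zero_iff b).2 hb0, zero_smul]
    induction t using TensorProduct.induction_on with
    | zero => rw [map_zero]
    | tmul c w => rw [KaehlerDifferential.mapBaseChange_tmul, hgen, smul_zero]
    | add s t hs ht => rw [map_add, hs, ht, add_zero]
  exact Algebra.FormallyUnramified.isSeparable k (ResidueField B)


/-- Let k be a field, X and Y smooth over k of relative dimension one (not necessarily proper), f : X ->
Y a finite k-morphism and x a closed point of X, with y = f(x). Suppose f is tamely ramified at x: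
m_y O_{X,x} = m_x^e for an integer e ≥ 2 prime to the characteristic of k, and κ(x) is separable
over κ(y). Then κ(x) is separable over k. (Consequently the field generated over k by the residue
fields of all such points is Galois over k.) -/
theorem result (k : Type u) [Field k]
    (X Y : Scheme.{u}) [X.Over (Spec (CommRingCat.of k))] [Y.Over (Spec (CommRingCat.of k))]
    [SmoothOfRelativeDimension 1 (X ↘ Spec (CommRingCat.of k))]
    [SmoothOfRelativeDimension 1 (Y ↘ Spec (CommRingCat.of k))]
    (f : X ⟶ Y) [IsFinite f] (hf : f ≫ (Y ↘ Spec (CommRingCat.of k)) = X ↘ Spec (CommRingCat.of k))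
    (x : X) (hx : IsClosed ({x} : Set X)) (e : ℕ)
    (he : (IsLocalRing.maximalIdeal (Y.presheaf.stalk (f.base x))).map (f.stalkMap x).hom =
      IsLocalRing.maximalIdeal (X.presheaf.stalk x) ^ e)
    (h2 : 2 ≤ e) (hp : ¬ ringChar k ∣ e)
    (hsep : @Algebra.IsSeparable (Y.residueField (f.base x)) (X.residueField x) _ _
      (f.residueFieldMap x).hom.toAlgebra) :
    Algebra.IsSeparable k (X.residueField x) := by
  obtain ⟨U, hU, V, hV, hxV, hle, hstd⟩ :=
    SmoothOfRelativeDimension.exists_isStandardSmoothOfRelativeDimension (n := 1)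
      (f := X ↘ Spec (CommRingCat.of k)) x
  have hUt : U = ⊤ := top_le_iff.1 fun z _ => by
    rw [Subsingleton.elim (α := PrimeSpectrum k) z ((X ↘ Spec (CommRingCat.of k)) x)]
    exact hle hxV
  subst hUt
  let φ : k →+* Γ(X, V) := ((Scheme.ΓSpecIso (CommRingCat.of k)).inv ≫
    (X ↘ Spec (CommRingCat.of k)).appLE ⊤ V hle).hom
  algebraize [φ]
  haveI : Algebra.IsStandardSmoothOfRelativeDimension 1 k Γ(X, V) :=
    RingHom.isStandardSmoothOfRelativeDimension_respectsIso.2
      ((X ↘ Spec (CommRingCat.of k)).appLE ⊤ V hle).hom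
      (Scheme.ΓSpecIso (CommRingCat.of k)).symm.commRingCatIsoToRingEquiv hstd
  haveI : Algebra.IsStandardSmooth k Γ(X, V) :=
    Algebra.IsStandardSmoothOfRelativeDimension.isStandardSmooth 1
  letI algB := Curv2.stalkAlgebra k X x
  let B := X.presheaf.stalk x
  letI := X.presheaf.algebra_section_stalk (⟨x, hxV⟩ : V)
  have hloc := hV.isLocalization_stalk (⟨x, hxV⟩ : V)
  haveI : IsScalarTower k Γ(X, V) (X.presheaf.stalk x) := IsScalarTower.of_algebraMap_eq fun c => by
    show X.presheaf.germ ⊤ x trivial (Coh.toGlobal (X ↘ Spec (CommRingCat.of k)) c) =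
      X.presheaf.germ V x hxV ((X ↘ Spec (CommRingCat.of k)).appLE ⊤ V hle
        ((Scheme.ΓSpecIso (CommRingCat.of k)).inv c))
    exact (X.presheaf.germ_res_apply (homOfLE (le_top : V ≤ ⊤)) x hxV _).symm
  haveI : Algebra.EssFiniteType k (X.presheaf.stalk x) := by
    haveI : Algebra.EssFiniteType Γ(X, V) (X.presheaf.stalk x) :=
      Algebra.EssFiniteType.of_isLocalization _ (hV.primeIdealOf ⟨x, hxV⟩).asIdeal.primeCompl
    exact Algebra.EssFiniteType.comp k Γ(X, V) (X.presheaf.stalk x)
  haveI : Nontrivial Γ(X, V) := (algebraMap Γ(X, V) (X.presheaf.stalk x)).domain_nontrivial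
  have hrank : Module.finrank Γ(X, V) Ω[Γ(X, V)⁄k] = 1 :=
    Module.finrank_eq_of_rank_eq
      (Algebra.IsStandardSmoothOfRelativeDimension.rank_kaehlerDifferential 1)
  haveI : Module.Free Γ(X, V) Ω[Γ(X, V)⁄k] := inferInstance
  let bas := Module.finBasisOfFinrankEq Γ(X, V) Ω[Γ(X, V)⁄k] hrank
  let ψ := KaehlerDifferential.map k k Γ(X, V) (X.presheaf.stalk x)
  have hω : ∀ y : Ω[X.presheaf.stalk x⁄k], ∃ b : X.presheaf.stalk x, b • ψ (bas 0) = y := by
    intro y
    haveI : IsLocalizedModule (hV.primeIdealOf ⟨x, hxV⟩).asIdeal.primeCompl ψ :=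
      KaehlerDifferential.isLocalizedModule_map k Γ(X, V) (X.presheaf.stalk x) _
    obtain ⟨⟨m, s⟩, hms⟩ := IsLocalizedModule.surj (hV.primeIdealOf ⟨x, hxV⟩).asIdeal.primeCompl ψ y
    have hm : m = bas.repr m 0 • bas 0 := by
      conv_lhs => rw [← bas.sum_repr m]
      rw [Fin.sum_univ_one]
    refine ⟨IsLocalization.mk' (X.presheaf.stalk x) (bas.repr m 0) s, ?_⟩
    have hu : IsUnit (algebraMap Γ(X, V) (X.presheaf.stalk x) (s : Γ(X, V))) :=
      IsLocalization.map_units _ s
    refine hu.smul_left_cancel.1 ?_
    rw [smul_smul, IsLocalization.mk'_spec', IsScalarTower.algebraMap_smul, IsScalarTower.algebraMap_smul,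
      ← map_smul, ← hm]
    exact hms.symm
  let algA := Curv2.stalkAlgebra k Y (f x)
  letI := algA
  letI algAB : Algebra (Y.presheaf.stalk (f x)) (X.presheaf.stalk x) := (f.stalkMap x).hom.toAlgebra
  haveI : IsLocalHom (algebraMap (Y.presheaf.stalk (f x)) (X.presheaf.stalk x)) :=
    inferInstanceAs (IsLocalHom (f.stalkMap x).hom)
  haveI : IsScalarTower k (Y.presheaf.stalk (f x)) (X.presheaf.stalk x) :=
    IsScalarTower.of_algebraMap_eq fun c => by
      show X.presheaf.germ ⊤ x trivial (Coh.toGlobal (X ↘ Spec (CommRingCat.of k)) c) =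
        f.stalkMap x (Y.presheaf.germ ⊤ (f x) trivial (Coh.toGlobal (Y ↘ Spec (CommRingCat.of k)) c))
      rw [Scheme.Hom.germ_stalkMap_apply]
      congr 1
      simp only [Coh.toGlobal, ← hf, Scheme.Hom.comp_appTop]
      rfl
  by_contra hns
  haveI : Algebra.IsSeparable (IsLocalRing.ResidueField (Y.presheaf.stalk (f x)))
      (IsLocalRing.ResidueField (X.presheaf.stalk x)) := by
    have he' : (inferInstance : Algebra (IsLocalRing.ResidueField (Y.presheaf.stalk (f x)))
        (IsLocalRing.ResidueField (X.presheaf.stalk x))) = (f.residueFieldMap x).hom.toAlgebra :=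
      Algebra.algebra_ext _ _ fun a => by
        obtain ⟨a, rfl⟩ := IsLocalRing.residue_surjective a
        rfl
    exact Eq.mpr (congrArg (fun i => @Algebra.IsSeparable (IsLocalRing.ResidueField (Y.presheaf.stalk (f x)))
      (IsLocalRing.ResidueField (X.presheaf.stalk x)) _ _ i) he') hsep
  have hmax := map_maximalIdeal_eq k (Y.presheaf.stalk (f x)) (X.presheaf.stalk x) (ψ (bas 0)) hω hns
  rw [show (IsLocalRing.maximalIdeal (Y.presheaf.stalk (f x))).map
    (algebraMap (Y.presheaf.stalk (f x)) (X.presheaf.stalk x)) = _ from he] at hmax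
  haveI : IsLocallyNoetherian X := by
    haveI : Smooth (X ↘ Spec (CommRingCat.of k)) := SmoothOfRelativeDimension.smooth (n := 1) _
    exact LocallyOfFiniteType.isLocallyNoetherian (X ↘ Spec (CommRingCat.of k))
  have hsq : IsLocalRing.maximalIdeal (X.presheaf.stalk x) =
      IsLocalRing.maximalIdeal (X.presheaf.stalk x) * IsLocalRing.maximalIdeal (X.presheaf.stalk x) := by
    refine le_antisymm ?_ Ideal.mul_le_left
    rw [← pow_two]
    exact hmax.symm.le.trans (Ideal.pow_le_pow_right h2)
  have hbot : IsLocalRing.maximalIdeal (X.presheaf.stalk x) = ⊥ :=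
    Submodule.eq_bot_of_le_smul_of_le_jacobson_bot _ _ (IsNoetherian.noetherian _) (by rw [Ideal.smul_eq_mul]; exact hsq.le)
      (IsLocalRing.maximalIdeal_le_jacobson _)
  obtain ⟨a, b, ha, hb, hab⟩ := DualAbs.ringKrullDim_stalk_smooth k (n := 1) x
  rw [ringKrullDim_eq_zero_of_isField (IsLocalRing.isField_iff_maximalIdeal_eq.2 hbot)] at ha
  have hb0 : Order.height x = 0 := Order.height_eq_zero.2 fun y hy =>
    (Set.mem_singleton_iff.1 ((hy : x ⤳ y).mem_closed hx rfl)) ▸ le_rfl
  rw [hb0] at hb
  have ha' : a = 0 := by exact_mod_cast ha.symm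
  have hb' : b = 0 := by exact_mod_cast hb.symm
  omega

end Groth.Agent.S16548
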