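import Groth.Statements.S16551
import Groth.Agent.NormGen.Basic
import Mathlib.AlgebraicGeometry.Morphisms.QuasiFinite
-- import your own Groth.Agent.* helpers here

set_option autoImplicit false
universe u
open CategoryTheory CategoryTheory.Limits AlgebraicGeometry
open Models

namespace Groth.Agent.S16551

/-- A component of the special fibre of the target lifts through any point above. -/
theorem exists_component {R : Type u} [CommRing R] [IsDomain R] [IsDiscreteValuationRing R]
    {W Z : Over (Spec (CommRingCat.of R))} [IsIntegral W.left] [IsIntegral Z.left]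
    (hZ : ∀ q : Z.left, IsIntegrallyClosed (Z.left.presheaf.stalk q))
    (ψ : W ⟶ Z) [IsFinite ψ.left] [Surjective ψ.left]
    (w : W.left) (Δ : Set Z.left) (hΔ : Δ ∈ Models.fibreComponents R Z) (hw : ψ.left w ∈ Δ) :
    ∃ Γ ∈ Models.fibreComponents R W, w ∈ Γ ∧ ψ.left.base '' Γ = Δ := by
  obtain ⟨⟨hirr, hsub⟩, hmax⟩ := hΔ
  have hfib : ∀ x, ψ.left x ∈ Models.specialFibreSet R Z ↔ x ∈ Models.specialFibreSet R W :=
    fun x => by
      change Z.hom (ψ.left x) = _ ↔ W.hom x = _
      rw [← Scheme.Hom.comp_apply, Over.w]
  have hZc : IsClosed (Models.specialFibreSet R Z) := Models.isClosed_specialFibreSet R Z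
  have hWc : IsClosed (Models.specialFibreSet R W) := Models.isClosed_specialFibreSet R W
  have hΔc : closure Δ = Δ :=
    le_antisymm (hmax ⟨hirr.closure, closure_minimal hsub hZc⟩ subset_closure) subset_closure
  obtain ⟨δ, hδ⟩ : ∃ δ, IsGenericPoint δ Δ := ⟨_, hΔc ▸ hirr.isGenericPoint_genericPoint_closure⟩
  obtain ⟨γ, hγw, hγ⟩ := Groth.Agent.NormGen.Basic.generalizingMap ψ.left hZ (hδ.specializes hw)
  have hγs : γ ∈ Models.specialFibreSet R W := (hfib γ).mp (hγ ▸ hsub hδ.mem)
  refine ⟨closure {γ}, ⟨⟨isIrreducible_singleton.closure,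
    closure_minimal (Set.singleton_subset_iff.mpr hγs) hWc⟩, ?_⟩, hγw.mem_closure, ?_⟩
  · rintro T ⟨hT, hTs⟩ hle
    obtain ⟨t, ht⟩ : ∃ t, IsGenericPoint t (closure T) :=
      ⟨_, hT.isGenericPoint_genericPoint_closure⟩
    have htγ : t ⤳ γ := ht.specializes (subset_closure (hle (subset_closure rfl)))
    have hts : t ∈ Models.specialFibreSet R W := closure_minimal hTs hWc ht.mem
    have hd : δ ⤳ ψ.left t := by
      refine hδ.specializes ?_
      have hle' : Δ ≤ closure {ψ.left t} := by
        rw [← hδ.def, ← hγ]
        exact closure_minimal (Set.singleton_subset_iff.mpr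
          (htγ.map ψ.left.continuous).mem_closure) isClosed_closure
      exact hmax ⟨isIrreducible_singleton.closure,
        closure_minimal (Set.singleton_subset_iff.mpr ((hfib t).mpr hts)) hZc⟩ hle'
          (subset_closure rfl)
    have heq : ψ.left t = δ := by
      refine (Specializes.antisymm ?_ hd).eq
      rw [← hγ]
      exact htγ.map ψ.left.continuous
    have : t = γ :=
      (ψ.left.isDiscrete_preimage_singleton δ).eq_of_specializes htγ heq hγ
    rw [← this, ht.def]
    exact subset_closure
  · rw [← ψ.left.isClosedMap.closure_image_eq_of_continuous ψ.left.continuous, Set.image_singleton,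
      hγ, hδ.def]

/-- Let R be a discrete valuation ring, W and Z integral normal schemes which are flat, of finite type
and of dimension 2 over Spec R, and ψ : W -> Z a finite surjective R-morphism. Let z be a closed
point of Z lying in the special fibre, w a point of W with ψ(w) = z, and Δ an irreducible component
of the special fibre of Z with z ∈ Δ. Then some irreducible component Γ of the special fibre of W
contains w and satisfies ψ(Γ) = Δ. (The published statement asks W and Z only to be normal; they are
taken integral as well here.) -/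
theorem result
    (R : Type u) [CommRing R] [IsDomain R] [IsDiscreteValuationRing R]
    (W Z : Over (Spec (CommRingCat.of R))) [IsIntegral W.left] [IsIntegral Z.left]
    (hWn : Pi1.IsNormalScheme W.left) (hZn : Pi1.IsNormalScheme Z.left)
    [Flat W.hom] [LocallyOfFiniteType W.hom] [QuasiCompact W.hom]
    [Flat Z.hom] [LocallyOfFiniteType Z.hom] [QuasiCompact Z.hom]
    (hdW : topologicalKrullDim W.left = 2) (hdZ : topologicalKrullDim Z.left = 2)
    (ψ : W ⟶ Z) [IsFinite ψ.left] [Surjective ψ.left]
    (z : Z.left) (hzc : IsClosed ({z} : Set Z.left)) (hz : z ∈ Models.specialFibreSet R Z)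
    (w : W.left) (hw : ψ.left.base w = z)
    (Δ : Set Z.left) (hΔ : Δ ∈ Models.fibreComponents R Z) (hzΔ : z ∈ Δ) :
    ∃ Γ ∈ Models.fibreComponents R W, w ∈ Γ ∧ ψ.left.base '' Γ = Δ := by
  exact exists_component (fun q => (hZn q).2) ψ w Δ hΔ (hw.symm ▸ hzΔ)

end Groth.Agent.S16551
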