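import Groth.Statements.S16552
import Groth.Agent.S15140
import Groth.Agent.S15544
import Groth.Agent.BirSp.Normal
import Groth.Agent.DimIneq.Basic
import Groth.Agent.VarDim.Curve
import Groth.Agent.CycLib.DimFormula
import Groth.Agent.VertInter.Global
import Groth.Agent.AlgSpCov.IntegralDim
import Groth.Agent.CDivLib.Generisation
import Groth.Agent.S3313
import Groth.Agent.S9802

set_option autoImplicit false
universe u
open CategoryTheory CategoryTheory.Limits AlgebraicGeometry
open Models

namespace Groth.Agent.S16552

open TopologicalSpace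

variable {R : Type u} [CommRing R] [IsDomain R] [IsDiscreteValuationRing R]

/-- A model of a curve has dimension at most two. -/
theorem dim_le_two {C : Scheme.{u}} [IsIntegral C] (fC : C ⟶ Spec (CommRingCat.of (FractionRing R)))
    [LocallyOfFiniteType fC] (hdim : topologicalKrullDim C = 1)
    (W : Over (Spec (CommRingCat.of R))) [IsIntegral W.left] [LocallyOfFiniteType W.hom]
    (iW : C ⟶ W.left) [IsPreimmersion iW]
    (hw : iW ≫ W.hom = fC ≫ Spec.map (CommRingCat.ofHom (algebraMap R (FractionRing R))))
    (hgen : iW (genericPoint C) = genericPoint W.left) : topologicalKrullDim W.left ≤ 2 := by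
  let j := Spec.map (CommRingCat.ofHom (algebraMap R (FractionRing R)))
  haveI : IsPreimmersion j := IsPreimmersion.of_isLocalization (nonZeroDivisors R)
  have hres : ∀ {A B : Scheme.{u}} (a : A ⟶ B) [IsPreimmersion a] (p : A),
      Function.Bijective (a.residueFieldMap p).hom := fun {A B} a _ p => by
    refine ⟨(a.residueFieldMap p).hom.injective, fun y => ?_⟩
    obtain ⟨y, rfl⟩ := A.residue_surjective p y
    obtain ⟨t, rfl⟩ := a.stalkMap_surjective p y
    exact ⟨B.residue (a p) t, ConcreteCategory.congr_hom (Scheme.residue_residueFieldMap a p) t⟩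
  have h := DimIneq.topologicalKrullDim_le W.hom 1 fun ξ hξ => by
    have hξg : ξ = iW (genericPoint C) := by
      rw [irreducibleComponents_eq_singleton, Set.mem_singleton_iff] at hξ
      rw [hgen]
      exact ((show IsGenericPoint ξ (Set.univ : Set W.left) from hξ).eq (genericPoint_spec _))
    subst hξg
    letI : C.Over (Spec (CommRingCat.of (FractionRing R))) := ⟨fC⟩
    haveI : LocallyOfFiniteType (C ↘ Spec (CommRingCat.of (FractionRing R))) := ‹LocallyOfFiniteType fC›
    letI := Curv2.resAlgebra (FractionRing R) C (genericPoint C)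
    have hK : Algebra.trdeg (FractionRing R) (C.residueField (genericPoint C)) ≤ 1 := by
      rw [VarDim.trdeg_residueField (FractionRing R) C, VarDim.dimPt_genericPoint_of_curve (FractionRing R) hdim,
        Nat.cast_one]
    letI algW := (W.hom.residueFieldMap (iW (genericPoint C))).hom.toAlgebra
    show @Algebra.trdeg _ _ _ _ algW ≤ _
    haveI : FaithfulSMul (FractionRing R) (C.residueField (genericPoint C)) :=
      (faithfulSMul_iff_algebraMap_injective _ _).2 (algebraMap (FractionRing R) _).injective
    -- identify both extensions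
    let eS := RingEquiv.ofBijective (iW.residueFieldMap (genericPoint C)).hom (hres iW _)
    let ev : FractionRing R →+* (Spec (CommRingCat.of (FractionRing R))).residueField (fC (genericPoint C)) :=
      ((Spec (CommRingCat.of (FractionRing R))).Γevaluation (fC (genericPoint C))).hom.comp
        (Scheme.ΓSpecIso (CommRingCat.of (FractionRing R))).inv.hom
    have hev : Function.Bijective ev := by
      refine ⟨ev.injective, fun y => ?_⟩
      obtain ⟨y, rfl⟩ := (Spec (CommRingCat.of (FractionRing R))).residue_surjective _ y
      letI := (isAffineOpen_top (Spec (CommRingCat.of (FractionRing R)))).isLocalization_stalk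
      have hb : Function.Bijective ((StructureSheaf.toStalk (FractionRing R) (fC (genericPoint C))).hom) := by
        haveI : IsLocalization.AtPrime ((Spec.structureSheaf (FractionRing R)).presheaf.stalk (fC (genericPoint C)))
            (fC (genericPoint C)).asIdeal := inferInstance
        exact (IsLocalization.atUnits (FractionRing R) (fC (genericPoint C)).asIdeal.primeCompl
          (fun x hx => Ne.isUnit fun h0 => hx (h0 ▸ zero_mem _)) :
            FractionRing R ≃ₐ[FractionRing R] (Spec.structureSheaf (FractionRing R)).presheaf.stalk (fC (genericPoint C))).bijective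
      obtain ⟨t, rfl⟩ := hb.2 y
      exact ⟨t, rfl⟩
    let eR₁ := RingEquiv.ofBijective ev hev
    have hj1 : (iW ≫ W.hom) (genericPoint C) = (fC ≫ j) (genericPoint C) := by rw [hw]
    let eR := ((Spec (CommRingCat.of R)).residueFieldCongr hj1).commRingCatIsoToRingEquiv.trans
      ((RingEquiv.ofBijective (j.residueFieldMap (fC (genericPoint C))).hom (hres j _)).trans eR₁.symm)
    refine le_trans (le_of_eq (CycLib.trdeg_congr eR eS fun x => ?_)) hK
    show iW.residueFieldMap (genericPoint C) (W.hom.residueFieldMap (iW (genericPoint C)) x) =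
      algebraMap (FractionRing R) (C.residueField (genericPoint C)) (eR x)
    have h2 : ∀ {f g : C ⟶ Spec (CommRingCat.of R)} (e : f = g) (h : f (genericPoint C) = g (genericPoint C)) x,
        f.residueFieldMap (genericPoint C) x =
          g.residueFieldMap (genericPoint C) (((Spec (CommRingCat.of R)).residueFieldCongr h).commRingCatIsoToRingEquiv x) := by
      intro f g e h x; subst e; rfl
    have h3 := h2 hw hj1 x
    rw [Scheme.residueFieldMap_comp, Scheme.residueFieldMap_comp] at h3
    refine h3.trans ?_
    show fC.residueFieldMap (genericPoint C) _ = _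
    set y := eR x with hy
    have h4 : j.residueFieldMap (fC (genericPoint C))
        (((Spec (CommRingCat.of R)).residueFieldCongr hj1).commRingCatIsoToRingEquiv x) = ev y :=
      (eR₁.apply_symm_apply _).symm
    refine (congrArg (fC.residueFieldMap (genericPoint C)) h4).trans ?_
    exact Scheme.Γevaluation_naturality_apply fC (genericPoint C) _
  refine h.trans ?_
  show topologicalKrullDim (PrimeSpectrum R) + _ ≤ _
  rw [PrimeSpectrum.topologicalKrullDim_eq_ringKrullDim,
    IsPrincipalIdealRing.ringKrullDim_eq_one R (IsDiscreteValuationRing.not_isField R)]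
  exact le_of_eq (by norm_num)

/-- There is no chain of four points in a scheme of dimension at most two. -/
theorem no_chain4 {X : Scheme.{u}} (hd : topologicalKrullDim X ≤ 2) {a b c d : X} (h1 : a ⤳ b) (h2 : b ⤳ c)
    (h3 : c ⤳ d) (n1 : a ≠ b) (n2 : b ≠ c) (n3 : c ≠ d) : False := by
  have lt : ∀ {p q : X}, p ⤳ q → p ≠ q → q < p := fun {p q} h n =>
    lt_iff_le_not_ge.2 ⟨h, fun h' => n (h.antisymm h').eq⟩
  let q₁ : LTSeries X := (RelSeries.singleton _ a).cons b (lt h1 n1)
  let q₂ : LTSeries X := q₁.cons c (lt h2 n2)
  let q₃ : LTSeries X := q₂.cons d (lt h3 n3)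
  have h := Order.LTSeries.length_le_krullDim q₃
  rw [Order.krullDim_eq_of_orderIso (irreducibleSetEquivPoints (α := X)).symm] at h
  have h' : ((q₃.length : ℕ) : WithBot ℕ∞) ≤ 2 := h.trans hd
  simp [q₃, q₂, q₁] at h'
  exact absurd h' (by decide)

/-- A point which is maximal in the closed fibre has a local ring of dimension at most one. -/
theorem ringKrullDim_le_one (W : Over (Spec (CommRingCat.of R))) [IsLocallyNoetherian W.left] (y : W.left)
    (hys : y ∈ specialFibreSet R W) (hmax : ∀ z ∈ specialFibreSet R W, z ⤳ y → z = y) :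
    ringKrullDim (W.left.presheaf.stalk y) ≤ 1 := by
  obtain ⟨ϖ, hϖ⟩ := IsDiscreteValuationRing.exists_irreducible R
  set A := W.left.presheaf.stalk y
  set τ := stalkHom R W y ϖ
  have hτm : τ ∈ IsLocalRing.maximalIdeal A := (S3313.mem_fibre_iff W hϖ y).mp hys
  obtain ⟨P, hP, hPle⟩ := Ideal.exists_minimalPrimes_le (I := Ideal.span {τ}) (J := IsLocalRing.maximalIdeal A)
    ((Ideal.span_singleton_le_iff_mem _).mpr hτm)
  haveI := hP.1.1
  obtain ⟨z, hz, hzP⟩ := CDivLib.exists_genPrime_eq P
  have hzs : z ∈ specialFibreSet R W := by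
    rw [S3313.mem_fibre_iff W hϖ, ← S3313.stalkHom_specializes W hz]
    exact (hzP.ge (hP.1.2 (Ideal.subset_span rfl)) :)
  have hzy := hmax z hzs hz
  subst hzy
  have hPm : P = IsLocalRing.maximalIdeal A := by
    rw [← hzP]
    unfold CDivLib.genPrime
    rw [TopCat.Presheaf.stalkSpecializes_refl]
    exact Ideal.comap_id _
  subst hPm
  rw [← IsLocalRing.maximalIdeal_height_eq_ringKrullDim]
  exact_mod_cast Ideal.height_le_one_of_isPrincipal_of_mem_minimalPrimes _ _ hP

/-- Proper birational maps are isomorphisms on local rings of dimension at most one. -/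
theorem eq_of_specializes_of_dim_le_one {X Y : Scheme.{u}} [IsIntegral X] [IsIntegral Y] [IsLocallyNoetherian Y]
    (g : X ⟶ Y) [IsDominant g] (hY : ∀ y : Y, IsIntegrallyClosed (Y.presheaf.stalk y))
    (hη : g (genericPoint X) = genericPoint Y) (hbir : IsIso (g.stalkMap (genericPoint X)))
    {x x' : X} (hxx : x ⤳ x') (e : g x = g x') (hdim : ringKrullDim (Y.presheaf.stalk (g x)) ≤ 1) : x = x' := by
  have hbij : ∀ p : X, g p = g x → Function.Bijective (g.stalkMap p).hom := by
    intro p hp
    haveI : IsIntegrallyClosed (Y.presheaf.stalk (g p)) := hY _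
    have hfl := S15140.flat_stalkMap g p (by rw [hp]; exact hdim)
    refine ⟨ZCorrLib.stalkMap_injective g p, fun b => ?_⟩
    letI := (g.stalkMap p).hom.toAlgebra
    haveI : Module.Flat (Y.presheaf.stalk (g p)) (X.presheaf.stalk p) := hfl
    haveI : IsLocalHom (algebraMap (Y.presheaf.stalk (g p)) (X.presheaf.stalk p)) :=
      inferInstanceAs (IsLocalHom (g.stalkMap p).hom)
    haveI := Module.FaithfullyFlat.of_flat_of_isLocalHom (A := Y.presheaf.stalk (g p)) (B := X.presheaf.stalk p)
    have hsp' : g (genericPoint X) ⤳ g p := (genericPoint_specializes p).map g.continuous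
    obtain ⟨q, hq⟩ := ((ConcreteCategory.isIso_iff_bijective _).mp hbir).2
      (X.presheaf.stalkSpecializes (genericPoint_specializes p) b)
    obtain ⟨a, c, hc, hac⟩ : ∃ a c : Y.presheaf.stalk (g p), c ≠ 0 ∧
        q * Y.presheaf.stalkSpecializes hsp' c = Y.presheaf.stalkSpecializes hsp' a := by
      obtain ⟨⟨a, c⟩, h⟩ := IsLocalization.surj (nonZeroDivisors (Y.presheaf.stalk (g p)))
        (Y.presheaf.stalkSpecializes (hη ▸ specializes_rfl : genericPoint Y ⤳ g (genericPoint X)) q)
      refine ⟨a, c, nonZeroDivisors.ne_zero c.2, ?_⟩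
      have hb : Function.Injective (Y.presheaf.stalkSpecializes (hη ▸ specializes_rfl : genericPoint Y ⤳ g (genericPoint X))).hom := by
        have hf : IsField (Y.presheaf.stalk (g (genericPoint X))) := by rw [hη]; exact Field.toIsField Y.functionField
        letI := hf.toField
        exact RingHom.injective _
      refine hb ?_
      rw [map_mul, TopCat.Presheaf.stalkSpecializes_comp_apply, TopCat.Presheaf.stalkSpecializes_comp_apply]
      exact h
    have hbc : b * g.stalkMap p c = g.stalkMap p a := by
      refine (IsFractionRing.injective (X.presheaf.stalk p) X.functionField) ?_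
      show X.presheaf.stalkSpecializes (genericPoint_specializes p) _ = X.presheaf.stalkSpecializes (genericPoint_specializes p) _
      rw [map_mul, ← hq, ← Scheme.Hom.stalkSpecializes_stalkMap_apply, ← Scheme.Hom.stalkSpecializes_stalkMap_apply,
        ← map_mul]
      exact congrArg _ hac
    have hmem : a ∈ Ideal.span {c} := by
      rw [← Ideal.comap_map_eq_self_of_faithfullyFlat (B := X.presheaf.stalk p) (Ideal.span {c}), Ideal.mem_comap,
        Ideal.map_span, Set.image_singleton, Ideal.mem_span_singleton]
      exact ⟨b, (mul_comm _ _).trans hbc |>.symm⟩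
    obtain ⟨d, rfl⟩ := Ideal.mem_span_singleton.mp hmem
    refine ⟨d, mul_left_cancel₀ (fun h => hc (ZCorrLib.stalkMap_injective g p (h.trans (map_zero _).symm))) ?_⟩
    exact ((map_mul _ _ _).symm.trans hbc.symm).trans (mul_comm _ _)
  refine CDivLib.genPrime_injective hxx specializes_rfl ?_
  refine ((IsLocalRing.maximalIdeal.isMaximal _).eq_of_le (CDivLib.genPrime_isPrime hxx).ne_top ?_).symm.trans ?_
  · intro m hm
    obtain ⟨a, rfl⟩ := (hbij x' e.symm).2 m
    have ha : ¬ IsUnit a := fun h => hm (h.map _)
    show X.presheaf.stalkSpecializes hxx (g.stalkMap x' a) ∈ IsLocalRing.maximalIdeal _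
    rw [← Scheme.Hom.stalkSpecializes_stalkMap_apply]
    intro hu
    have h1 : IsUnit (Y.presheaf.stalkSpecializes (hxx.map g.continuous) a) :=
      (isUnit_map_iff (g.stalkMap x).hom _).mp hu
    haveI : IsIso (Y.presheaf.stalkSpecializes (hxx.map g.continuous)) := by
      have : ∀ {u v : Y} (h : u ⤳ v), u = v → IsIso (Y.presheaf.stalkSpecializes h) := by
        intro u v h huv; subst huv; rw [TopCat.Presheaf.stalkSpecializes_refl]; infer_instance
      exact this _ e
    exact ha ((isUnit_map_iff (Y.presheaf.stalkSpecializes (hxx.map g.continuous)).hom a).mp h1)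
  · unfold CDivLib.genPrime
    rw [TopCat.Presheaf.stalkSpecializes_refl]
    exact (Ideal.comap_id _).symm

/-- The map to the function field of the curve, computed through an intermediate scheme. -/
theorem stalkMap_chain {C G W : Scheme.{u}} (t : C ⟶ G) (q : G ⟶ W) (iW : C ⟶ W) (h : t ≫ q = iW)
    (η : C) (g : G) (hg : t η ⤳ g) (hw : iW η ⤳ q g) :
    q.stalkMap g ≫ G.presheaf.stalkSpecializes hg ≫ t.stalkMap η =
      W.presheaf.stalkSpecializes hw ≫ iW.stalkMap η := by
  subst h
  rw [Scheme.Hom.stalkMap_comp, ← Scheme.Hom.stalkSpecializes_stalkMap_assoc]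
  rfl

/-- Let R be a discrete valuation ring with fraction field K, C a smooth proper curve over K with H^0(C,
O_C) = K, and XR, WR two models of C over R — integral normal schemes, proper and flat over Spec R,
with generic fibres identified with C through iX and iW. For a point x of either model, view its
local ring inside the function field of C (the stalk of C at its generic point η) through the
specialization map to the stalk at the image of η followed by the stalk map of iX or iW. Suppose
that for every point ξ of WR whose closure is an irreducible component of the special fibre there is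
a point ξ' of XR whose closure is an irreducible component of the special fibre and whose local ring
has the same image in the function field as that of ξ (the centre of the discrete valuation ring
O_{WR,ξ} on XR is a generic point of the special fibre). Then the identification of generic fibres
extends to an R-morphism XR -> WR. The published statement takes both models projective over R; this
row asks them only to be proper, which the argument allows. -/
theorem result
    (R : Type u) [CommRing R] [IsDomain R] [IsDiscreteValuationRing R]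
    (C : Scheme.{u}) [IsIntegral C] (fC : C ⟶ Spec (CommRingCat.of (FractionRing R)))
    (hC : Curve.IsSmoothProperCurve (FractionRing R) C fC) (hC0 : IsIso fC.appTop)
    (XR WR : Over (Spec (CommRingCat.of R))) [IsIntegral XR.left] [IsIntegral WR.left]
    (hXn : Pi1.IsNormalScheme XR.left) (hWn : Pi1.IsNormalScheme WR.left)
    [IsProper XR.hom] [Flat XR.hom] [IsProper WR.hom] [Flat WR.hom]
    (iX : C ⟶ XR.left) (hiX : IsPullback iX fC XR.hom (Spec.map (CommRingCat.ofHom (algebraMap R (FractionRing R)))))
    (iW : C ⟶ WR.left) (hiW : IsPullback iW fC WR.hom (Spec.map (CommRingCat.ofHom (algebraMap R (FractionRing R)))))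
    (H : ∀ (ξ : WR.left) (hξ : iW.base (genericPoint C) ⤳ ξ),
      closure ({ξ} : Set WR.left) ∈ Models.fibreComponents R WR →
        ∃ (ξ' : XR.left) (hξ' : iX.base (genericPoint C) ⤳ ξ'),
          closure ({ξ'} : Set XR.left) ∈ Models.fibreComponents R XR ∧
          Set.range ((iX.stalkMap (genericPoint C)).hom.comp (XR.left.presheaf.stalkSpecializes hξ').hom) =
            Set.range ((iW.stalkMap (genericPoint C)).hom.comp (WR.left.presheaf.stalkSpecializes hξ).hom)) :
    ∃ φ : XR ⟶ WR, iX ≫ φ.left = iW := by
  classical
  haveI : IsLocallyNoetherian XR.left := LocallyOfFiniteType.isLocallyNoetherian XR.hom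
  haveI : IsLocallyNoetherian WR.left := LocallyOfFiniteType.isLocallyNoetherian WR.hom
  haveI : IsProper fC := hC.1
  let j := Spec.map (CommRingCat.ofHom (algebraMap R (FractionRing R)))
  haveI : IsPreimmersion j := IsPreimmersion.of_isLocalization (nonZeroDivisors R)
  haveI : Flat j := by
    rw [HasRingHomProperty.Spec_iff (P := @Flat)]
    exact RingHom.flat_algebraMap_iff.mpr (IsLocalization.flat (FractionRing R) (nonZeroDivisors R))
  haveI : IsPreimmersion iX := MorphismProperty.of_isPullback hiX.flip ‹IsPreimmersion j›
  haveI : IsPreimmersion iW := MorphismProperty.of_isPullback hiW.flip ‹IsPreimmersion j›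
  haveI : QuasiCompact iX := MorphismProperty.of_isPullback hiX.flip (inferInstance : QuasiCompact j)
  set η := genericPoint C
  have hgenI : ∀ (W : Over (Spec (CommRingCat.of R))) [IsIntegral W.left] [Flat W.hom] (i : C ⟶ W.left)
      (hi : IsPullback i fC W.hom j) [IsPreimmersion i], i η = genericPoint W.left := by
    intro W _ _ i hi _
    obtain ⟨a, ha⟩ : genericPoint W.left ∈ Set.range i := by
      refine (VertInter.mem_range_iff hi _).mpr fun hs => ?_
      obtain ⟨z, hz, hzb⟩ := Flat.generalizingMap W.hom
        ((PrimeSpectrum.le_iff_specializes _ _).mp bot_le :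
          (⟨⊥, Ideal.isPrime_bot⟩ : Spec (CommRingCat.of R)) ⤳ W.hom (genericPoint W.left))
      rw [(hz.antisymm (genericPoint_specializes z)).eq] at hzb
      exact IsDiscreteValuationRing.not_a_field R
        (congrArg PrimeSpectrum.asIdeal ((show W.hom (genericPoint W.left) = IsLocalRing.closedPoint R from hs).symm.trans hzb))
    refine ((?_ : i η ⤳ genericPoint W.left).antisymm (genericPoint_specializes _)).eq
    exact ha ▸ (genericPoint_specializes a).map i.continuous
  have hXgen := hgenI XR iX hiX
  have hWgen := hgenI WR iW hiW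
  have hdX := dim_le_two fC hC.2.2.2 XR iX hiX.w hXgen
  have hdW := dim_le_two fC hC.2.2.2 WR iW hiW.w hWgen
  -- the closure of the graph
  let P := pullback XR.hom WR.hom
  let c : C ⟶ P := pullback.lift iX iW (hiX.w.trans hiW.w.symm)
  haveI : QuasiCompact c := by
    haveI : QuasiCompact (c ≫ pullback.fst XR.hom WR.hom) := by rw [pullback.lift_fst]; infer_instance
    exact QuasiCompact.of_comp c (pullback.fst XR.hom WR.hom)
  have hw : IsSchemeTheoreticallyDominant c.toImage :=
    Groth.Agent.FlatMor.SchDom.toImage_dominant _ (Or.inl inferInstance)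
  haveI : IsIntegral c.image := S9802.isIntegral_image c
  haveI : IsDominant c.toImage := inferInstance
  let π₁ : c.image ⟶ XR.left := c.imageι ≫ pullback.fst _ _
  let π₂ : c.image ⟶ WR.left := c.imageι ≫ pullback.snd _ _
  have hπ₁ : c.toImage ≫ π₁ = iX := by rw [← Category.assoc, c.toImage_imageι, pullback.lift_fst]
  have hπ₂ : c.toImage ≫ π₂ = iW := by rw [← Category.assoc, c.toImage_imageι, pullback.lift_snd]
  have hπw : π₁ ≫ XR.hom = π₂ ≫ WR.hom := by simp only [π₁, π₂, Category.assoc, pullback.condition]
  haveI : IsProper π₁ := inferInstance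
  haveI : IsLocallyNoetherian c.image := LocallyOfFiniteType.isLocallyNoetherian (π₁ ≫ XR.hom)
  have htη : c.toImage η = genericPoint c.image := by
    have hd := c.toImage.denseRange
    refine ((?_ : c.toImage η ⤳ genericPoint c.image).antisymm (genericPoint_specializes _)).eq
    refine specializes_iff_mem_closure.mpr ?_
    have h1 : Set.range c.toImage ⊆ closure {c.toImage η} := by
      rintro _ ⟨a, rfl⟩
      exact ((genericPoint_specializes a).map c.toImage.continuous).mem_closure
    exact (closure_minimal h1 isClosed_closure) (hd.closure_eq.ge trivial)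
  have hη₁ : π₁ (genericPoint c.image) = genericPoint XR.left := by
    rw [← htη, ← Scheme.Hom.comp_apply, hπ₁, hXgen]
  haveI : IsDominant π₁ := ⟨by
    have h : genericPoint XR.left ∈ Set.range π₁ := ⟨_, hη₁⟩
    rw [DenseRange, dense_iff_closure_eq, Set.eq_univ_iff_forall]
    exact fun y => closure_mono (Set.singleton_subset_iff.mpr h) (genericPoint_specializes y).mem_closure⟩
  have hfield : IsField (c.image.presheaf.stalk (c.toImage η)) := by
    rw [htη]; exact Field.toIsField c.image.functionField
  have htinj : Function.Injective (c.toImage.stalkMap η).hom := by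
    letI := hfield.toField
    exact RingHom.injective _
  have hbir : IsIso (π₁.stalkMap (genericPoint c.image)) := by
    have hs : Function.Surjective ((c.toImage ≫ π₁).stalkMap η) := by rw [hπ₁]; exact iX.stalkMap_surjective η
    rw [Scheme.Hom.stalkMap_comp] at hs
    rw [← htη]
    refine (ConcreteCategory.isIso_iff_bijective _).mpr ⟨ZCorrLib.stalkMap_injective π₁ _, fun b => ?_⟩
    obtain ⟨a, ha⟩ := hs (c.toImage.stalkMap η b)
    exact ⟨a, htinj ha⟩
  -- no specializations inside the fibres
  have key : ∀ g g' : c.image, g ⤳ g' → π₁ g = π₁ g' → g = g' := by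
    intro g g' hgg e
    by_cases hx : π₁ g ∈ specialFibreSet R XR
    swap
    · -- over the generic fibre the graph is closed
      obtain ⟨a, ha⟩ := (VertInter.mem_range_iff hiX _).mpr hx
      let d : C ⟶ pullback (pullback.fst XR.hom WR.hom ≫ XR.hom) j := pullback.lift c fC (by
        rw [← Category.assoc, pullback.lift_fst, hiX.w])
      haveI : IsProper d := by
        haveI : IsProper (d ≫ pullback.snd (pullback.fst XR.hom WR.hom ≫ XR.hom) j) := by
          rw [pullback.lift_snd]; infer_instance
        exact IsProper.of_comp d (pullback.snd (pullback.fst XR.hom WR.hom ≫ XR.hom) j)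
      have hgr : ∀ z : c.image, π₁ z ∉ specialFibreSet R XR → z ∈ Set.range c.toImage := by
        intro z hz
        obtain ⟨w, hw⟩ : c.imageι z ∈ Set.range (pullback.fst (pullback.fst XR.hom WR.hom ≫ XR.hom) j) := by
          rw [Scheme.Pullback.range_fst]
          refine ⟨⟨⊥, Ideal.isPrime_bot⟩, PrimeSpectrum.ext ?_⟩
          show Ideal.comap (algebraMap R (FractionRing R)) ⊥ = (XR.hom (π₁ z)).asIdeal
          rw [VertInter.asIdeal_eq_bot_of_not_mem XR hz]
          exact Ideal.comap_bot_of_injective _ (IsFractionRing.injective R (FractionRing R))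
        have hzc : c.imageι z ∈ closure (Set.range c) := by
          have h1 := image_closure_subset_closure_image c.imageι.continuous
            (show c.imageι z ∈ c.imageι '' closure (Set.range c.toImage) from ⟨z, c.toImage.denseRange z, rfl⟩)
          rwa [← Set.range_comp, ← TopCat.coe_comp, ← Scheme.Hom.comp_base, c.toImage_imageι] at h1
        have hwd : w ∈ closure (Set.range d) := by
          rw [(pullback.fst (pullback.fst XR.hom WR.hom ≫ XR.hom) j).isEmbedding.closure_eq_preimage_closure_image,
            Set.mem_preimage, hw, ← Set.range_comp, ← TopCat.coe_comp, ← Scheme.Hom.comp_base, pullback.lift_fst]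
          exact hzc
        rw [d.isClosedMap.isClosed_range.closure_eq] at hwd
        obtain ⟨b, hb⟩ := hwd
        refine ⟨b, c.imageι.isClosedEmbedding.injective ?_⟩
        rw [← hw, ← hb, ← Scheme.Hom.comp_apply, c.toImage_imageι, ← Scheme.Hom.comp_apply, pullback.lift_fst]
      obtain ⟨b, rfl⟩ := hgr g hx
      obtain ⟨b', rfl⟩ := hgr g' (e ▸ hx)
      rw [← Scheme.Hom.comp_apply, ← Scheme.Hom.comp_apply, hπ₁] at e
      exact congrArg _ (iX.isEmbedding.injective e)
    set x := π₁ g with hxdef
    by_cases hmaxx : ∀ z ∈ specialFibreSet R XR, z ⤳ x → z = x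
    · exact eq_of_specializes_of_dim_le_one π₁ (fun y => (hXn y).2) hη₁ hbir hgg e (ringKrullDim_le_one XR x hx hmaxx)
    by_cases hne : g = g'
    · exact hne
    exfalso
    push Not at hmaxx
    obtain ⟨x₀, hx₀s, hx₀, hx₀ne⟩ := hmaxx
    -- `x` is closed
    have hnotη : ∀ (W : Over (Spec (CommRingCat.of R))) (i : C ⟶ W.left) (hi : IsPullback i fC W.hom j),
        i η ∉ specialFibreSet R W := fun W i hi => (VertInter.mem_range_iff hi _).mp ⟨η, rfl⟩
    have hxc : IsClosed ({x} : Set XR.left) := by
      rw [← closure_subset_iff_isClosed]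
      intro z hz
      by_contra hzx
      exact no_chain4 hdX (hXgen ▸ genericPoint_specializes x₀ : iX η ⤳ x₀) hx₀ (specializes_iff_mem_closure.mpr hz)
        (fun h => hnotη XR iX hiX (h ▸ hx₀s)) hx₀ne (fun h => hzx h.symm)
    set w := π₂ g with hwdef
    set w' := π₂ g' with hw'def
    have hws : w ∈ specialFibreSet R WR := by
      show WR.hom (π₂ g) = IsLocalRing.closedPoint R
      rw [← Scheme.Hom.comp_apply, ← hπw, Scheme.Hom.comp_apply]
      exact hx
    have hw's : w' ∈ specialFibreSet R WR := by
      show WR.hom (π₂ g') = IsLocalRing.closedPoint R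
      rw [← Scheme.Hom.comp_apply, ← hπw, Scheme.Hom.comp_apply, ← e]
      exact hx
    have hsp : w ⤳ w' := hgg.map π₂.continuous
    have hww : w ≠ w' := by
      intro heq
      haveI : IsClosedImmersion (XR.left.fromSpecResidueField x) := IsClosedImmersion.of_isPreimmersion _
        (by rw [Scheme.range_fromSpecResidueField]; exact hxc)
      haveI : LocallyQuasiFinite (XR.left.fromSpecResidueField x ≫ XR.hom) :=
        LocallyQuasiFinite.of_finite_preimage_singleton _ fun y => Set.toFinite _
      haveI : IsFinite (XR.left.fromSpecResidueField x ≫ XR.hom) := IsFinite.of_isProper_of_locallyQuasiFinite _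
      let Q := pullback (pullback.fst XR.hom WR.hom) (XR.left.fromSpecResidueField x)
      let q : Q ⟶ P := pullback.fst _ _
      haveI : IsFinite (q ≫ pullback.snd XR.hom WR.hom) := MorphismProperty.of_isPullback
        ((IsPullback.of_hasPullback (pullback.fst XR.hom WR.hom) (XR.left.fromSpecResidueField x)).paste_horiz
          (IsPullback.of_hasPullback XR.hom WR.hom).flip).flip
        ‹IsFinite (XR.left.fromSpecResidueField x ≫ XR.hom)›
      have hmem : ∀ z : c.image, π₁ z = x → c.imageι z ∈ Set.range q := fun z hz => by
        rw [Scheme.Pullback.range_fst, Set.mem_preimage, Scheme.range_fromSpecResidueField]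
        exact hz
      obtain ⟨p, hp⟩ := hmem g rfl
      obtain ⟨p', hp'⟩ := hmem g' e.symm
      have h1 : p ⤳ p' := q.isEmbedding.isInducing.specializes_iff.mp
        (hp.symm ▸ hp'.symm ▸ hgg.map c.imageι.continuous)
      refine hne (c.imageι.isClosedEmbedding.injective ?_)
      rw [← hp, ← hp', AlgSpCov.IntegralDim.eq_of_specializes_of_apply_eq (q ≫ pullback.snd XR.hom WR.hom) h1 ?_]
      rw [Scheme.Hom.comp_apply, Scheme.Hom.comp_apply, hp, hp']
      exact heq
    have hwmax : ∀ z ∈ specialFibreSet R WR, z ⤳ w → z = w := by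
      intro z hzs hzw
      by_contra hzne
      exact no_chain4 hdW (hWgen ▸ genericPoint_specializes z : iW η ⤳ z) hzw hsp
        (fun h => hnotη WR iW hiW (h ▸ hzs)) hzne hww
    have hwc : closure ({w} : Set WR.left) ∈ fibreComponents R WR := by
      refine ⟨⟨isIrreducible_singleton.closure,
        closure_minimal (Set.singleton_subset_iff.mpr hws) (isClosed_specialFibreSet R WR)⟩, ?_⟩
      rintro S ⟨hS, hSf⟩ hle
      obtain ⟨v, hv⟩ : ∃ v, IsGenericPoint v (closure S) := ⟨_, hS.isGenericPoint_genericPoint_closure⟩
      have e1 := hwmax v (closure_minimal hSf (isClosed_specialFibreSet R WR) hv.mem)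
        (hv.specializes (subset_closure (hle (subset_closure rfl))))
      rw [← e1, hv.def]
      exact subset_closure
    obtain ⟨ξ, hξ, hξc, hrange⟩ := H w (hWgen ▸ genericPoint_specializes w) hwc
    have hξs : ξ ∈ specialFibreSet R XR := hξc.1.2 (subset_closure rfl)
    have hξmax : ∀ z ∈ specialFibreSet R XR, z ⤳ ξ → z = ξ := fun z hz hzξ => by
      have h1 := hξc.2 ⟨isIrreducible_singleton.closure,
        closure_minimal (Set.singleton_subset_iff.mpr hz) (isClosed_specialFibreSet R XR)⟩
        (closure_minimal (Set.singleton_subset_iff.mpr hzξ.mem_closure) isClosed_closure) (subset_closure rfl)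
      exact (hzξ.antisymm (specializes_iff_mem_closure.mpr h1)).eq
    suffices x = ξ from hx₀ne (this ▸ hξmax x₀ hx₀s (this ▸ hx₀))
    -- separatedness
    let ιX := (iX.stalkMap η).hom.comp (XR.left.presheaf.stalkSpecializes hξ).hom
    let ιW := (iW.stalkMap η).hom.comp (WR.left.presheaf.stalkSpecializes (hWgen ▸ genericPoint_specializes w : iW η ⤳ w)).hom
    have hinjι : ∀ (W : Over (Spec (CommRingCat.of R))) [IsIntegral W.left] (i : C ⟶ W.left) (hi : i η = genericPoint W.left)
        (v : W.left) (hv : i η ⤳ v), Function.Injective ((i.stalkMap η).hom.comp (W.left.presheaf.stalkSpecializes hv).hom) := by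
      intro W _ i hi v hv
      have hf : IsField (W.left.presheaf.stalk (i η)) := by rw [hi]; exact Field.toIsField W.left.functionField
      letI := hf.toField
      refine (RingHom.injective (i.stalkMap η).hom).comp ?_
      intro a b hab
      refine IsFractionRing.injective (W.left.presheaf.stalk v) W.left.functionField ?_
      have h1 := congrArg (W.left.presheaf.stalkSpecializes (hi ▸ specializes_rfl : genericPoint W.left ⤳ i η)) hab
      rw [TopCat.Presheaf.stalkSpecializes_comp_apply, TopCat.Presheaf.stalkSpecializes_comp_apply] at h1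
      exact h1
    let φ : XR.left.presheaf.stalk ξ ≃+* WR.left.presheaf.stalk w :=
      ((RingHom.rangeRestrict ιX |> fun _ => RingEquiv.ofBijective ιX.rangeRestrict
          ⟨fun a b h => hinjι XR iX hXgen ξ hξ (congrArg Subtype.val h), ιX.rangeRestrict_surjective⟩).trans
        (RingEquiv.subringCongr (SetLike.coe_injective hrange : ιX.range = ιW.range))).trans
        (RingEquiv.ofBijective ιW.rangeRestrict
          ⟨fun a b h => hinjι WR iW hWgen w _ (congrArg Subtype.val h), ιW.rangeRestrict_surjective⟩).symm
    have hφ : ∀ a, ιW (φ a) = ιX a := fun a => congrArg Subtype.val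
      ((RingEquiv.ofBijective ιW.rangeRestrict
          ⟨fun a b h => hinjι WR iW hWgen w _ (congrArg Subtype.val h), ιW.rangeRestrict_surjective⟩).apply_symm_apply _)
    have hgη : c.toImage η ⤳ g := htη ▸ genericPoint_specializes g
    let ψ := c.image.presheaf.stalkSpecializes hgη ≫ c.toImage.stalkMap η
    have hψinj : Function.Injective ψ.hom := by
      refine htinj.comp ?_
      intro a b hab
      refine IsFractionRing.injective (c.image.presheaf.stalk g) c.image.functionField ?_
      have h1 := congrArg (c.image.presheaf.stalkSpecializes (htη ▸ specializes_rfl : genericPoint c.image ⤳ c.toImage η)) hab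
      erw [TopCat.Presheaf.stalkSpecializes_comp_apply, TopCat.Presheaf.stalkSpecializes_comp_apply] at h1
      exact h1
    let u₂ : Spec (c.image.presheaf.stalk g) ⟶ XR.left :=
      Spec.map (CommRingCat.ofHom φ.toRingHom ≫ π₂.stalkMap g) ≫ XR.left.fromSpecStalk ξ
    haveI : IsDominant (Spec.map ψ) := ⟨(PrimeSpectrum.denseRange_comap_iff_ker_le_nilRadical ψ.hom).mpr (by
      rw [(RingHom.injective_iff_ker_eq_bot _).mp hψinj]; exact bot_le)⟩
    haveI : XR.left.IsSeparated := ⟨by
      rw [← terminal.comp_from XR.hom]; infer_instance⟩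
    have hu : c.image.fromSpecStalk g ≫ π₁ = u₂ := by
      haveI : IsReduced (Spec (c.image.presheaf.stalk g)) := inferInstance
      refine ext_of_isDominant (Spec.map ψ) ?_
      have h1 : CommRingCat.ofHom φ.toRingHom ≫ π₂.stalkMap g ≫ ψ = XR.left.presheaf.stalkSpecializes hξ ≫ iX.stalkMap η := by
        refine CommRingCat.hom_ext (RingHom.ext fun a => ?_)
        refine Eq.trans ?_ (hφ a)
        exact ConcreteCategory.congr_hom
          (stalkMap_chain c.toImage π₂ iW hπ₂ η g hgη (hWgen ▸ genericPoint_specializes w)) (φ a)
      rw [← Category.assoc (Spec.map ψ) (Spec.map _), ← Spec.map_comp, Category.assoc, h1]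
      simp only [ψ, Spec.map_comp, Category.assoc, Scheme.SpecMap_stalkSpecializes_fromSpecStalk,
        Scheme.SpecMap_stalkMap_fromSpecStalk, Scheme.SpecMap_stalkSpecializes_fromSpecStalk_assoc,
        Scheme.SpecMap_stalkMap_fromSpecStalk_assoc, hπ₁]
    have h2 := congrArg (fun f => f.base (IsLocalRing.closedPoint (c.image.presheaf.stalk g))) hu
    haveI : IsLocalHom (CommRingCat.ofHom φ.toRingHom ≫ π₂.stalkMap g).hom := by
      rw [CommRingCat.hom_comp]
      haveI : IsLocalHom (CommRingCat.ofHom φ.toRingHom).hom := ⟨fun a ha => (isUnit_map_iff φ a).mp ha⟩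
      exact RingHom.isLocalHom_comp _ _
    simp only [Scheme.Hom.comp_apply, u₂, Scheme.fromSpecStalk_closedPoint, Spec_closedPoint] at h2
    exact h2.trans Scheme.fromSpecStalk_closedPoint
  haveI : LocallyQuasiFinite π₁ := by
    refine LocallyQuasiFinite.of_finite_preimage_singleton π₁ fun y => ?_
    rw [← Scheme.Hom.range_fiberι π₁ y]
    haveI : IsLocallyNoetherian (π₁.fiber y) :=
      LocallyOfFiniteType.isLocallyNoetherian (π₁.fiberToSpecResidueField y)
    haveI : CompactSpace (π₁.fiber y) :=
      QuasiCompact.compactSpace_of_compactSpace (π₁.fiberToSpecResidueField y)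
    haveI : AlgebraicGeometry.IsNoetherian (π₁.fiber y) := {}
    haveI : Finite (π₁.fiber y) := by
      obtain ⟨T, hTf, hTc, hTi, hT⟩ := TopologicalSpace.NoetherianSpace.exists_finite_set_isClosed_irreducible
        (isClosed_univ : IsClosed (Set.univ : Set (π₁.fiber y)))
      refine Set.finite_univ_iff.mp (hT ▸ hTf.sUnion fun W hW => ?_)
      obtain ⟨w, hw⟩ : ∃ w, IsGenericPoint w W := ⟨_, (hTi W hW).isGenericPoint_genericPoint (hTc W hW)⟩
      refine (Set.finite_singleton w).subset fun z hz => ?_
      have hy : ∀ v : π₁.fiber y, π₁ (π₁.fiberι y v) = y := fun v =>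
        (Scheme.Hom.range_fiberι π₁ y).le ⟨v, rfl⟩
      exact (π₁.fiberι y).isEmbedding.injective
        (key _ _ ((hw.specializes hz).map (π₁.fiberι y).continuous) ((hy w).trans (hy z).symm)).symm
    exact Set.finite_range _
  haveI : IsFinite π₁ := IsFinite.of_isProper_of_locallyQuasiFinite _
  haveI : IsIso π₁ := by
    refine BirSp.isIso_of_birational π₁ (fun t => hXn t) ?_ ⟨?_, ?_, ?_⟩ fun p hp => ?_
    · rw [irreducibleComponents_eq_singleton]; exact Set.finite_singleton _
    · intro p hp
      rw [show p = genericPoint c.image from (hp _ (genericPoint_specializes p)).symm]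
      intro z hz
      show z = π₁ (genericPoint c.image)
      have hz : z ⤳ π₁ (genericPoint c.image) := hz
      rw [hη₁] at hz ⊢
      exact (hz.antisymm (genericPoint_specializes z)).eq
    · intro p hp q hq _
      rw [← hp _ (genericPoint_specializes p), ← hq _ (genericPoint_specializes q)]
    · intro v hv
      refine ⟨genericPoint c.image, fun z hz => (hz.antisymm (genericPoint_specializes z)).eq, ?_⟩
      show π₁ (genericPoint c.image) = v
      rw [hη₁]
      exact hv _ (genericPoint_specializes v)
    · rw [← hp _ (genericPoint_specializes p)]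
      exact hbir
  refine ⟨Over.homMk (inv π₁ ≫ π₂) (by rw [Category.assoc, ← hπw, IsIso.inv_hom_id_assoc]), ?_⟩
  show iX ≫ inv π₁ ≫ π₂ = iW
  rw [← hπ₁, Category.assoc, IsIso.hom_inv_id_assoc, hπ₂]


end Groth.Agent.S16552
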