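import Groth.Statements.S16554
import Groth.Agent.VertInter.Global
import Groth.Agent.FBase.Dim
import Mathlib.RingTheory.LocalRing.Length
import Mathlib.RingTheory.Algebraic.Integral

set_option autoImplicit false
universe u
open CategoryTheory CategoryTheory.Limits AlgebraicGeometry
attribute [local instance] Curv2.resAlgebra
open Models

namespace Groth.Agent.S16554

section Helpers

open TopologicalSpace Groth.Agent.CDivLib

variable {R : Type u} [CommRing R] [IsDomain R] [IsDiscreteValuationRing R]
  (X : Over (Spec (CommRingCat.of R)))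

/-- The prime of a prime divisor of a uniformizer is the generic point of a fibre component. -/
theorem exists_component_of_prime [Flat X.hom] {ϖ : R} (hϖ : Irreducible ϖ) (x : X.left)
    [IsDomain (X.left.presheaf.stalk x)] [UniqueFactorizationMonoid (X.left.presheaf.stalk x)]
    {q : X.left.presheaf.stalk x} (hq : Prime q) (hqt : q ∣ stalkHom R X x ϖ) :
    ∃ (z : X.left) (h : z ⤳ x), genPrime h = Ideal.span {q} ∧ closure ({z} : Set X.left) ∈ fibreComponents R X := by
  haveI : (Ideal.span {q}).IsPrime := (Ideal.span_singleton_prime hq.ne_zero).mpr hq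
  obtain ⟨z, h, hz⟩ := exists_genPrime_eq (Ideal.span {q})
  have htz : stalkHom R X x ϖ ∈ genPrime h := by rw [hz]; exact Ideal.mem_span_singleton.mpr hqt
  have hzf : z ∈ specialFibreSet R X := by
    rw [S3313.mem_fibre_iff X hϖ, ← S3313.stalkHom_specializes X h]
    exact htz
  have hmax : ∀ w ∈ specialFibreSet R X, w ⤳ z → w = z := by
    intro w hw hwz
    have hwx := hwz.trans h
    haveI := genPrime_isPrime hwx
    have hb : genPrime hwx ≠ ⊥ := by
      intro hb
      have : stalkHom R X x ϖ ∈ genPrime hwx := by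
        show ¬ IsUnit _
        rw [S3313.stalkHom_specializes X hwx]
        exact (S3313.mem_fibre_iff X hϖ w).mp hw
      rw [hb] at this
      exact S3313.stalkHom_ne_zero X hϖ x this
    obtain ⟨r, hr, hrp⟩ := Ideal.IsPrime.exists_mem_prime_of_ne_bot ‹_› hb
    have hle := (S3313.genPrime_le_iff hwx h).mpr hwz
    have hqr : q ∣ r := Ideal.mem_span_singleton.mp (hz ▸ hle hr)
    refine genPrime_injective hwx h (le_antisymm hle ?_)
    rw [hz, Ideal.span_singleton_le_iff_mem]
    exact Ideal.mem_of_dvd _ ((hq.associated_of_dvd hrp hqr).symm.dvd) hr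
  refine ⟨z, h, hz, ⟨isIrreducible_singleton.closure,
      closure_minimal (Set.singleton_subset_iff.mpr hzf) (isClosed_specialFibreSet R X)⟩, ?_⟩
  rintro S ⟨hS, hSf⟩ hle
  obtain ⟨w, hw⟩ : ∃ w, IsGenericPoint w (closure S) := ⟨_, hS.isGenericPoint_genericPoint_closure⟩
  have e := hmax w (closure_minimal hSf (isClosed_specialFibreSet R X) hw.mem)
    (hw.specializes (subset_closure (hle (subset_closure rfl))))
  rw [← e, hw.def]
  exact subset_closure

/-- The multiplicity of a vertical divisor that is not a component vanishes. -/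
theorem mult_eq_zero [Flat X.hom] [∀ x : X.left, IsDomain (X.left.presheaf.stalk x)]
    [∀ x : X.left, UniqueFactorizationMonoid (X.left.presheaf.stalk x)]
    [∀ x : X.left, IsNoetherianRing (X.left.presheaf.stalk x)] {ϖ : R} (hϖ : Irreducible ϖ)
    (Γ : ArSurf.VertComp R X) (h : Set.range Γ.ι.base ∉ fibreComponents R X) : mult R X Γ = 0 := by
  have hsub : genPtOf R X Γ ∈ specialFibreSet R X := by
    change X.hom (Γ.ι (genericPoint Γ.curve.left)) = IsLocalRing.closedPoint R
    rw [← Scheme.Hom.comp_apply, Γ.w, Scheme.Hom.comp_apply]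
    refine PrimeSpectrum.ext ?_
    change Ideal.comap (IsLocalRing.residue R) (Γ.curve.hom (genericPoint Γ.curve.left)).asIdeal = IsLocalRing.maximalIdeal R
    rw [(Ideal.eq_bot_or_top (Γ.curve.hom (genericPoint Γ.curve.left)).asIdeal).resolve_right
      (Γ.curve.hom (genericPoint Γ.curve.left)).isPrime.ne_top]
    exact IsLocalRing.ker_residue
  set ξ := genPtOf R X Γ with hξ
  have ht0 := S3313.stalkHom_ne_zero X hϖ ξ
  have htu := (S3313.mem_fibre_iff X hϖ ξ).mp hsub
  obtain ⟨a, ha, hat⟩ := WfDvdMonoid.exists_irreducible_factor htu ht0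
  obtain ⟨z, hz, hza, hzc⟩ := exists_component_of_prime X hϖ ξ
    (UniqueFactorizationMonoid.irreducible_iff_prime.mp ha) hat
  rw [mult]
  refine ENat.toNat_eq_zero.mpr (Or.inr ?_)
  by_contra hfin
  rw [hϖ.maximalIdeal_eq, Ideal.map_span, Set.image_singleton] at hfin
  haveI := isFiniteLength_iff_isNoetherian_isArtinian.mp (Module.length_ne_top_iff.mp hfin) |>.2
  haveI : IsArtinianRing (X.left.presheaf.stalk ξ ⧸ Ideal.span {stalkHom R X ξ ϖ}) :=
    isArtinian_of_tower (X.left.presheaf.stalk ξ) inferInstance
  haveI := genPrime_isPrime hz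
  have hle : Ideal.span {stalkHom R X ξ ϖ} ≤ genPrime hz := by
    rw [hza, Ideal.span_singleton_le_span_singleton]; exact hat
  haveI : (Ideal.map (Ideal.Quotient.mk (Ideal.span {stalkHom R X ξ ϖ})) (genPrime hz)).IsPrime :=
    Ideal.map_isPrime_of_surjective Ideal.Quotient.mk_surjective (by rw [Ideal.mk_ker]; exact hle)
  have hm' := IsArtinianRing.isMaximal_of_isPrime
    (Ideal.map (Ideal.Quotient.mk (Ideal.span {stalkHom R X ξ ϖ})) (genPrime hz))
  have hm := Ideal.comap_isMaximal_of_surjective (Ideal.Quotient.mk (Ideal.span {stalkHom R X ξ ϖ}))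
    Ideal.Quotient.mk_surjective (K := Ideal.map (Ideal.Quotient.mk (Ideal.span {stalkHom R X ξ ϖ})) (genPrime hz))
  rw [Ideal.comap_map_of_surjective _ Ideal.Quotient.mk_surjective, ← RingHom.ker_eq_comap_bot,
    Ideal.mk_ker, sup_eq_left.mpr hle] at hm
  have hzξ : z = ξ := genPrime_injective hz specializes_rfl (by
    rw [IsLocalRing.eq_maximalIdeal hm]
    unfold genPrime
    rw [TopCat.Presheaf.stalkSpecializes_refl]
    exact (Ideal.comap_id _).symm)
  refine h ?_
  rw [S3313.range_eq_closure Γ.ι]
  subst z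
  exact hzc

/-- At a point of a component, the multiplicity is the exact exponent of its equation. -/
theorem exists_generator [Flat X.hom] {ϖ : R} (hϖ : Irreducible ϖ) (x : X.left)
    [IsDomain (X.left.presheaf.stalk x)] [UniqueFactorizationMonoid (X.left.presheaf.stalk x)]
    (Γ : ArSurf.VertComp R X) (hΓ : Set.range Γ.ι.base ∈ fibreComponents R X)
    (h : genPtOf R X Γ ⤳ x) [IsDomain (X.left.presheaf.stalk (genPtOf R X Γ))] :
    ∃ a c, Prime a ∧ genPrime h = Ideal.span {a} ∧ ¬ a ∣ c ∧
      stalkHom R X x ϖ = a ^ mult R X Γ * c ∧ 1 ≤ mult R X Γ := by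
  have ht : stalkHom R X x ϖ ∈ genPrime h := by
    show ¬ IsUnit _
    rw [S3313.stalkHom_specializes X h]
    exact (S3313.mem_fibre_iff X hϖ _).mp (hΓ.1.2 ⟨_, rfl⟩)
  haveI := genPrime_isPrime h
  have ht0 := S3313.stalkHom_ne_zero X hϖ x
  obtain ⟨fs, hfs, hprod⟩ := UniqueFactorizationMonoid.exists_prime_factors _ ht0
  have hmem : fs.prod ∈ genPrime h := Ideal.mem_of_dvd _ hprod.symm.dvd ht
  obtain ⟨a, haf, ha⟩ := (Ideal.IsPrime.multiset_prod_mem_iff_exists_mem ‹_› fs).mp hmem
  have hap := hfs a haf
  obtain ⟨z, hzx, hz, hzc⟩ := exists_component_of_prime X hϖ x hap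
    ((Multiset.dvd_prod haf).trans hprod.dvd)
  have hzi : z ⤳ genPtOf R X Γ := (S3313.genPrime_le_iff hzx h).mp (by
    rw [hz, Ideal.span_singleton_le_iff_mem]; exact ha)
  have hze : z = genPtOf R X Γ := by
    have hle : Set.range Γ.ι.base ⊆ closure {z} := by
      rw [S3313.range_eq_closure Γ.ι]
      exact closure_minimal (Set.singleton_subset_iff.mpr (specializes_iff_mem_closure.mp hzi)) isClosed_closure
    have h1 := hΓ.2 hzc.1 hle (subset_closure rfl)
    rw [S3313.range_eq_closure Γ.ι] at h1
    exact (hzi.antisymm (specializes_iff_mem_closure.mpr h1)).eq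
  subst hze
  obtain ⟨k, c, hac, hc⟩ := WfDvdMonoid.max_power_factor ht0 hap.irreducible
  let φ := (X.left.presheaf.stalkSpecializes h).hom
  have hmax' : IsLocalRing.maximalIdeal _ = Ideal.span {φ a} := by
    rw [← map_genPrime h, hz, Ideal.map_span, Set.image_singleton]
  have hcu : IsUnit (φ c) := by
    by_contra hu
    exact hac (Ideal.mem_span_singleton.mp (hz ▸ (hu : c ∈ genPrime h)))
  have hφa : φ a ≠ 0 := by
    intro h0
    refine S3313.stalkHom_ne_zero X hϖ (genPtOf R X Γ) ?_
    have := hmax' ▸ (show stalkHom R X (genPtOf R X Γ) ϖ ∈ IsLocalRing.maximalIdeal _ from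
      (S3313.mem_fibre_iff X hϖ _).mp (hΓ.1.2 ⟨_, rfl⟩))
    rwa [h0, Ideal.span_singleton_zero, Ideal.mem_bot] at this
  have hord1 : Ring.ord (X.left.presheaf.stalk (genPtOf R X Γ)) (φ a) = 1 := by
    rw [Ring.ord, ← hmax', Module.length_eq_one_iff, isSimpleModule_iff_isCoatom, ← Ideal.isMaximal_def]
    infer_instance
  have hmult : mult R X Γ = k := by
    have e : Ideal.map (stalkHom R X (genPtOf R X Γ)) (IsLocalRing.maximalIdeal R) =
        Ideal.span {φ a ^ k * φ c} := by
      rw [hϖ.maximalIdeal_eq, Ideal.map_span, Set.image_singleton, ← S3313.stalkHom_specializes X h, hc,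
        ← map_pow, ← map_mul]
    rw [mult, e]
    show (Ring.ord _ (φ a ^ k * φ c)).toNat = k
    rw [Ring.ord_mul_of_isUnit_right hcu, Ring.ord_pow (mem_nonZeroDivisors_of_ne_zero hφa), hord1]
    simp
  refine ⟨a, c, hap, hz, hac, hmult ▸ hc, ?_⟩
  rw [hmult]
  rcases Nat.eq_zero_or_pos k with rfl | hk
  · rw [pow_zero, one_mul] at hc
    exact absurd ((Multiset.dvd_prod haf).trans hprod.dvd) (hc ▸ hac)
  · exact hk

/-- Points with the same image, along maps with surjective stalk maps, have the same residue field. -/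
theorem exists_residueEquiv {A B Y : Scheme.{u}} (a : A ⟶ Y) (b : B ⟶ Y) (p : A) (q : B)
    (h : a p = b q) (ha : Function.Surjective (a.stalkMap p).hom) (hb : Function.Surjective (b.stalkMap q).hom) :
    ∃ e : A.residueField p ≃+* B.residueField q, ∀ s : Γ(Y, ⊤),
      e (A.Γevaluation p (a.appTop s)) = B.Γevaluation q (b.appTop s) := by
  have sa : ∀ {A : Scheme.{u}} (a : A ⟶ Y) (p : A), Function.Surjective (a.stalkMap p).hom →
      Function.Bijective (a.residueFieldMap p).hom := fun {A} a p ha => by
    refine ⟨(a.residueFieldMap p).hom.injective, fun y => ?_⟩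
    obtain ⟨y, rfl⟩ := A.residue_surjective p y
    obtain ⟨t, rfl⟩ := ha y
    exact ⟨Y.residue (a p) t, ConcreteCategory.congr_hom (Scheme.residue_residueFieldMap a p) t⟩
  let ea := RingEquiv.ofBijective (a.residueFieldMap p).hom (sa a p ha)
  let eb := RingEquiv.ofBijective (b.residueFieldMap q).hom (sa b q hb)
  have hc : ∀ {y y' : Y} (h : y = y') (s : Γ(Y, ⊤)),
      (Y.residueFieldCongr h).commRingCatIsoToRingEquiv (Y.Γevaluation y s) = Y.Γevaluation y' s := by
    intro y y' h s
    subst h
    rfl
  refine ⟨ea.symm.trans ((Y.residueFieldCongr h).commRingCatIsoToRingEquiv.trans eb), fun s => ?_⟩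
  have h1 : ea.symm (A.Γevaluation p (a.appTop s)) = Y.Γevaluation (a p) s := by
    rw [RingEquiv.symm_apply_eq]
    exact (Scheme.Γevaluation_naturality_apply a p s).symm
  simp only [RingEquiv.trans_apply, h1, hc]
  exact Scheme.Γevaluation_naturality_apply b q s

end Helpers

/-- Let R be a Henselian discrete valuation ring with algebraically closed residue field and fraction
field K, C a smooth proper curve over K with H^0(C, O_C) = K, and XR a regular model of C over R: an
integral scheme all of whose local rings are regular, proper and flat over Spec R, with generic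
fibre identified with C through iX. Let x be a closed point of the special fibre of XR and Γ_1, ...,
Γ_n vertical prime divisors with pairwise distinct supports which are exactly the irreducible
components of the special fibre containing x, with multiplicities r_1, ..., r_n. If P is a closed
point of C whose closure in XR meets the special fibre only in x, then the degree [κ(P) : K] equals
c_1 r_1 + ... + c_n r_n for some positive integers c_i. -/
theorem result
    (R : Type u) [CommRing R] [IsDomain R] [IsDiscreteValuationRing R] [HenselianLocalRing R]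
    (hk : IsAlgClosed (IsLocalRing.ResidueField R))
    (C : Scheme.{u}) [C.Over (Spec (CommRingCat.of (FractionRing R)))]
    (hC : Curve.IsSmoothProperCurve (FractionRing R) C (C ↘ Spec (CommRingCat.of (FractionRing R))))
    (hC0 : IsIso (C ↘ Spec (CommRingCat.of (FractionRing R))).appTop)
    (XR : Over (Spec (CommRingCat.of R))) [IsIntegral XR.left]
    (hreg : ∀ y : XR.left, IsRegularLocalRing (XR.left.presheaf.stalk y))
    [IsProper XR.hom] [Flat XR.hom]
    (iX : C ⟶ XR.left)
    (hiX : IsPullback iX (C ↘ Spec (CommRingCat.of (FractionRing R))) XR.hom (Spec.map (CommRingCat.ofHom (algebraMap R (FractionRing R)))))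
    (x : XR.left) (hx : IsClosed ({x} : Set XR.left)) (hxs : x ∈ Models.specialFibreSet R XR)
    {n : ℕ} (Γ : Fin n → ArSurf.VertComp R XR)
    (hinj : Function.Injective fun i => Set.range ((Γ i).ι.base : (Γ i).curve.left → XR.left))
    (hΓ : ∀ Z ∈ Models.fibreComponents R XR,
      x ∈ Z ↔ ∃ i, Set.range ((Γ i).ι.base : (Γ i).curve.left → XR.left) = Z)
    (P : C) (hP : IsClosed ({P} : Set C))
    (hPx : closure ({iX.base P} : Set XR.left) ∩ Models.specialFibreSet R XR = {x}) :
    ∃ c : Fin n → ℕ, (∀ i, 1 ≤ c i) ∧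
      Module.finrank (FractionRing R) (C.residueField P) = ∑ i, c i * Models.mult R XR (Γ i) := by
  classical
  haveI : IsLocallyNoetherian XR.left := LocallyOfFiniteType.isLocallyNoetherian XR.hom
  haveI : ∀ z : XR.left, IsDomain (XR.left.presheaf.stalk z) := fun z =>
    haveI := hreg z
    RegLoc.isDomain _
  haveI : ∀ z : XR.left, UniqueFactorizationMonoid (XR.left.presheaf.stalk z) := fun z =>
    haveI := hreg z
    RegLoc.UFD.uniqueFactorizationMonoid _
  obtain ⟨ϖ, hϖ⟩ := IsDiscreteValuationRing.exists_irreducible R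
  -- the closure of the point
  set η := iX.base P with hη
  let I : XR.left.IdealSheafData := Scheme.IdealSheafData.vanishingIdeal ⟨closure {η}, isClosed_closure⟩
  haveI : IsIntegral I.subscheme := FBase.Dim.isIntegral_vanishingIdeal _ isIrreducible_singleton.closure
  let j := I.subschemeι
  have hr : Set.range j = closure {η} := RedSub.range_vanishingIdeal_subschemeι _
  obtain ⟨ηH, hηH⟩ : η ∈ Set.range j := hr.ge (subset_closure rfl)
  have hηF : η ∉ specialFibreSet R XR := (VertInter.mem_range_iff hiX η).mp ⟨P, rfl⟩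
  have hxm : x ∈ closure ({η} : Set XR.left) := (hPx.ge rfl).1
  obtain ⟨xH, hxH⟩ : x ∈ Set.range j := hr.ge hxm
  subst hxH
  have hgenP : IsPreimmersion iX :=
    MorphismProperty.of_isPullback hiX.flip
      (IsPreimmersion.of_isLocalization (S := CommRingCat.of (FractionRing R)) (nonZeroDivisors R))
  have hpts : ∀ y, y = ηH ∨ y = xH := fun y => by
    have hy : j y ∈ closure ({η} : Set XR.left) := hr.le ⟨y, rfl⟩
    by_cases hys : j y ∈ specialFibreSet R XR
    · exact Or.inr (j.isClosedEmbedding.injective (hPx.le ⟨hy, hys⟩))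
    · obtain ⟨q, hq⟩ := (VertInter.mem_range_iff hiX _).mpr hys
      have hPq : P ⤳ q := by
        refine iX.isEmbedding.isInducing.specializes_iff.mp ?_
        rw [specializes_iff_mem_closure]
        exact hq ▸ hy
      obtain rfl : q = P := (hPq.mem_closed hP rfl : q ∈ ({P} : Set C))
      exact Or.inl (j.isClosedEmbedding.injective (hq.symm.trans hηH.symm))
  have hne : ηH ≠ xH := fun e => hηF (by rw [← hηH, e]; exact hxs)
  have hsp : ηH ⤳ xH := by
    refine j.isEmbedding.isInducing.specializes_iff.mp ?_
    rw [hηH]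
    exact specializes_iff_mem_closure.mpr hxm
  have hgen : genericPoint I.subscheme = ηH := by
    rcases hpts (genericPoint I.subscheme) with e | e
    · exact e
    · exact absurd ((e ▸ genericPoint_specializes ηH : xH ⤳ ηH).antisymm hsp).eq.symm hne
  haveI : IsFinite (j ≫ XR.hom) := by
    haveI : Finite I.subscheme := Finite.of_finite_univ
      ((Set.toFinite ({ηH, xH} : Set I.subscheme)).subset fun y _ => hpts y)
    haveI : LocallyQuasiFinite (j ≫ XR.hom) :=
      locallyQuasiFinite_iff_finite_preimage_singleton.2 fun _ => Set.toFinite _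
    exact IsFinite.of_isProper_of_locallyQuasiFinite _
  haveI : IsAffine I.subscheme := isAffine_of_isAffineHom (j ≫ XR.hom)
  -- its coordinate ring
  let gA := I.subscheme.presheaf.germ ⊤ xH trivial
  let A := I.subscheme.presheaf.stalk xH
  let ρ : R →+* Γ(I.subscheme, ⊤) := j.appTop.hom.comp (Coh.toGlobal XR.hom)
  have hgbij : Function.Bijective gA.hom := by
    letI := TopCat.Presheaf.algebra_section_stalk I.subscheme.presheaf (⟨xH, trivial⟩ : (⊤ : I.subscheme.Opens))
    haveI := (isAffineOpen_top I.subscheme).isLocalization_stalk ⟨xH, trivial⟩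
    have hu : ∀ s : ((isAffineOpen_top I.subscheme).primeIdealOf ⟨xH, trivial⟩).asIdeal.primeCompl, IsUnit (s : Γ(I.subscheme, ⊤)) := by
      rintro ⟨s, hs⟩
      by_contra hsu
      obtain ⟨m, hm, hsm⟩ := exists_max_ideal_of_mem_nonunits hsu
      let pm : PrimeSpectrum Γ(I.subscheme, ⊤) := ⟨m, hm.isPrime⟩
      have hcl : IsClosed ({(isAffineOpen_top I.subscheme).fromSpec pm} : Set I.subscheme) := by
        have := (isAffineOpen_top I.subscheme).fromSpec.isOpenEmbedding
        have hs : Function.Surjective (isAffineOpen_top I.subscheme).fromSpec := fun y =>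
          (isAffineOpen_top I.subscheme).range_fromSpec.ge trivial
        rw [← Set.image_singleton]
        exact (this.toHomeomorphOfSurjective hs).isClosedMap _
          ((PrimeSpectrum.isClosed_singleton_iff_isMaximal pm).mpr hm)
      rcases hpts ((isAffineOpen_top I.subscheme).fromSpec pm) with e | e
      · exact hne (by rw [e] at hcl; exact (hsp.mem_closed hcl rfl : xH ∈ ({ηH} : Set _)).symm)
      · have : (isAffineOpen_top I.subscheme).primeIdealOf ⟨xH, trivial⟩ = pm :=
          (isAffineOpen_top I.subscheme).fromSpec.isOpenEmbedding.injective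
            (((isAffineOpen_top I.subscheme).fromSpec_primeIdealOf _).trans e.symm)
        exact hs (this ▸ hsm)
    exact (IsLocalization.atUnits Γ(I.subscheme, ⊤) _ (fun s hs => hu ⟨s, hs⟩) :
      Γ(I.subscheme, ⊤) ≃ₐ[Γ(I.subscheme, ⊤)] _).bijective
  letI algA : Algebra R A := (gA.hom.comp ρ).toAlgebra
  haveI : Module.Finite R A := by
    have h1 : ρ.Finite := by
      have h2 : ((j ≫ XR.hom).app ⊤).hom.Finite := IsFinite.finite_app (j ≫ XR.hom) ⊤ (isAffineOpen_top _)
      have h3 := RingHom.Finite.comp h2 (RingHom.Finite.of_surjective (Scheme.ΓSpecIso (CommRingCat.of R)).inv.hom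
        (ConcreteCategory.bijective_of_isIso (Scheme.ΓSpecIso (CommRingCat.of R)).inv).2)
      exact h3
    exact RingHom.Finite.comp (RingHom.Finite.of_surjective gA.hom hgbij.2) h1
  haveI : IsDomain A := Function.Injective.isDomain (RingEquiv.ofBijective gA.hom hgbij).symm.toRingHom
    (RingEquiv.ofBijective gA.hom hgbij).symm.injective
  -- compatibility with the local ring of the surface
  let φ := (j.stalkMap xH).hom
  have hφ : ∀ r : R, φ (stalkHom R XR (j xH) r) = algebraMap R A r := fun r =>
    Scheme.Hom.germ_stalkMap_apply j ⊤ xH trivial (Coh.toGlobal XR.hom r)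
  haveI : IsLocalHom (algebraMap R A) := ⟨fun r hr => by
    by_contra hu
    refine (S3313.mem_fibre_iff XR hϖ (j xH)).mp hxs ?_
    obtain ⟨t, rfl⟩ := Ideal.mem_span_singleton.mp (hϖ.maximalIdeal_eq ▸ (IsLocalRing.mem_maximalIdeal r).mpr hu)
    rw [← hφ] at hr
    have h1 := (isUnit_map_iff φ _).mp hr
    rw [map_mul] at h1
    exact isUnit_of_mul_isUnit_left h1⟩
  -- the function field is the residue field of the point
  let L := C.residueField P
  subst hgen
  obtain ⟨e, he⟩ := exists_residueEquiv j iX (genericPoint I.subscheme) P hηH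
    (j.stalkMap_surjective _) (iX.stalkMap_surjective P)
  let σ : I.subscheme.functionField →+* L :=
    e.toRingHom.comp (I.subscheme.residue (genericPoint I.subscheme)).hom
  have hσ : Function.Bijective σ := e.bijective.comp
    ⟨(I.subscheme.residue (genericPoint I.subscheme)).hom.injective, I.subscheme.residue_surjective _⟩
  let gL : A →+* L := σ.comp (algebraMap A I.subscheme.functionField)
  letI : Algebra A L := gL.toAlgebra
  letI : Algebra R L := ((algebraMap (FractionRing R) L).comp (algebraMap R (FractionRing R))).toAlgebra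
  haveI : IsScalarTower R (FractionRing R) L := .of_algebraMap_eq' rfl
  haveI : IsScalarTower R A L := .of_algebraMap_eq fun r => by
    show _ = e (I.subscheme.residue _ (algebraMap A I.subscheme.functionField (gA.hom (ρ r))))
    rw [show algebraMap A I.subscheme.functionField (gA.hom (ρ r)) =
        I.subscheme.presheaf.germ ⊤ (genericPoint I.subscheme) trivial (ρ r) from
      TopCat.Presheaf.germ_stalkSpecializes_apply I.subscheme.presheaf (U := ⊤) (hy := trivial) _ _]
    refine Eq.trans ?_ (he (Coh.toGlobal XR.hom r)).symm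
    show _ = C.Γevaluation P (iX.appTop (XR.hom.appTop ((Scheme.ΓSpecIso (CommRingCat.of R)).inv r)))
    have h1 : iX.appTop (XR.hom.appTop ((Scheme.ΓSpecIso (CommRingCat.of R)).inv r)) =
        (C ↘ Spec (CommRingCat.of (FractionRing R))).appTop
          ((Scheme.ΓSpecIso (CommRingCat.of (FractionRing R))).inv (algebraMap R (FractionRing R) r)) := by
      rw [← ConcreteCategory.comp_apply XR.hom.appTop, ← Scheme.Hom.comp_appTop, hiX.w, Scheme.Hom.comp_appTop,
        ConcreteCategory.comp_apply]
      exact congrArg _ (ConcreteCategory.congr_hom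
        (Scheme.ΓSpecIso_inv_naturality (CommRingCat.ofHom (algebraMap R (FractionRing R)))) r).symm
    rw [h1]
    rfl
  haveI : IsFractionRing A L :=
    IsLocalization.isLocalization_of_algEquiv (nonZeroDivisors A)
      ({ RingEquiv.ofBijective σ hσ with commutes' := fun _ => rfl } : I.subscheme.functionField ≃ₐ[A] L)
  have hinjR : Function.Injective (algebraMap R A) := fun a b h => IsFractionRing.injective R (FractionRing R)
    ((algebraMap (FractionRing R) L).injective (by
      rw [← IsScalarTower.algebraMap_apply R (FractionRing R) L, ← IsScalarTower.algebraMap_apply R (FractionRing R) L,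
        IsScalarTower.algebraMap_apply R A L, h, ← IsScalarTower.algebraMap_apply R A L]))
  haveI : FaithfulSMul R A := (faithfulSMul_iff_algebraMap_injective R A).mpr hinjR
  haveI : Algebra.IsAlgebraic R A := inferInstance
  have hrank : Module.finrank (FractionRing R) L = Module.finrank R A :=
    congrArg Cardinal.toNat (Algebra.IsAlgebraic.rank_of_isFractionRing R (FractionRing R) A L)
  haveI : Module.Free R A := Module.free_of_finite_type_torsion_free'
  have hlen : Module.length R (A ⧸ Ideal.span {algebraMap R A ϖ}) = (Module.finrank R A : ℕ∞) := by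
    have h1 : (Ideal.span {algebraMap R A ϖ}).restrictScalars R = IsLocalRing.maximalIdeal R • (⊤ : Submodule R A) := by
      rw [Ideal.smul_top_eq_map, hϖ.maximalIdeal_eq, Ideal.map_span, Set.image_singleton]
    let bA := Module.finBasis R A
    rw [((Submodule.Quotient.restrictScalarsEquiv R _).symm.trans (Submodule.quotEquivOfEq _ _ h1)).length_eq,
      ((TensorProduct.quotTensorEquivQuotSMul A (IsLocalRing.maximalIdeal R)).symm.trans
        ((TensorProduct.congr (LinearEquiv.refl R _) bA.equivFun).trans
          (TensorProduct.piScalarRight R R _ _))).length_eq, Module.length_pi]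
    have h2 : Module.length R (R ⧸ IsLocalRing.maximalIdeal R) = 1 := by
      rw [Module.length_eq_one_iff, isSimpleModule_iff_isCoatom, ← Ideal.isMaximal_def]
      infer_instance
    simp [h2]
  -- the decomposition of the uniformizer
  let s := Finset.univ.filter fun i => Set.range ((Γ i).ι.base : (Γ i).curve.left → XR.left) ∈ fibreComponents R XR
  have hmem : ∀ i ∈ s, genPtOf R XR (Γ i) ⤳ j xH := fun i hi => by
    have h1 := (hΓ _ (Finset.mem_filter.mp hi).2).mpr ⟨i, rfl⟩
    rw [S3313.range_eq_closure (Γ i).ι] at h1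
    exact specializes_iff_mem_closure.mpr h1
  have ha : ∀ i, ∃ a c, i ∈ s → Prime a ∧ (∃ h : genPtOf R XR (Γ i) ⤳ j xH, CDivLib.genPrime h = Ideal.span {a}) ∧ ¬ a ∣ c ∧
      stalkHom R XR (j xH) ϖ = a ^ mult R XR (Γ i) * c ∧ 1 ≤ mult R XR (Γ i) := fun i => by
    by_cases h : i ∈ s
    · obtain ⟨a, c, h1, h2, h3⟩ := exists_generator XR hϖ (j xH) (Γ i) (Finset.mem_filter.mp h).2 (hmem i h)
      exact ⟨a, c, fun _ => ⟨h1, ⟨_, h2⟩, h3⟩⟩
    · exact ⟨1, 1, fun h' => absurd h' h⟩
  choose a b hab using ha
  have hspan := S3313.span_eq_prod (S3313.stalkHom_ne_zero XR hϖ (j xH)) s a (fun i => mult R XR (Γ i))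
    (fun i hi => (hab i hi).1) (fun i hi => ⟨b i, (hab i hi).2.2.1, (hab i hi).2.2.2.1⟩)
    (fun i hi k hk e => by
      obtain ⟨h1, e1⟩ := (hab i hi).2.1
      obtain ⟨h2, e2⟩ := (hab k hk).2.1
      refine hinj ?_
      simp only [S3313.range_eq_closure]
      rw [show (Γ i).ι.base _ = (Γ k).ι.base _ from CDivLib.genPrime_injective h1 h2 (e1.trans (e.trans e2.symm))])
    (fun q hq hqt => by
      obtain ⟨z, hz, hzq, hzc⟩ := exists_component_of_prime XR hϖ (j xH) hq hqt
      obtain ⟨i, hi⟩ := (hΓ _ hzc).mp (specializes_iff_mem_closure.mp hz)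
      have his : i ∈ s := Finset.mem_filter.mpr ⟨Finset.mem_univ i, hi.symm ▸ hzc⟩
      obtain ⟨h1, e1⟩ := (hab i his).2.1
      refine ⟨i, his, Ideal.span_singleton_eq_span_singleton.mp ?_⟩
      rw [← e1, ← hzq]
      have hi' : closure {genPtOf R XR (Γ i)} = closure ({z} : Set XR.left) :=
        (S3313.range_eq_closure (Γ i).ι).symm.trans hi
      obtain rfl := (inseparable_iff_closure_eq.mpr hi').eq
      rfl)
  have hϖA : algebraMap R A ϖ ≠ 0 := fun h => hϖ.ne_zero (hinjR (h.trans (map_zero _).symm))
  have ha0 : ∀ i ∈ s, φ (a i) ≠ 0 := fun i hi h => by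
    obtain ⟨k, hk⟩ := Nat.exists_eq_add_of_le (hab i hi).2.2.2.2
    refine hϖA ?_
    rw [← hφ, (hab i hi).2.2.2.1, map_mul, map_pow, h, hk, pow_add, pow_one, zero_mul, zero_mul]
  have hordA : Ring.ord A (algebraMap R A ϖ) = ∑ i ∈ s, mult R XR (Γ i) • Ring.ord A (φ (a i)) := by
    have h1 := congrArg (Ideal.map φ) hspan
    simp only [Ideal.span_singleton_pow, Ideal.prod_span_singleton, Ideal.map_span, Set.image_singleton,
      map_prod, map_pow, hφ] at h1
    rw [Ring.ord, h1]
    show Ring.ord A _ = _
    suffices ∀ t ⊆ s, Ring.ord A (∏ k ∈ t, φ (a k) ^ mult R XR (Γ k)) =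
        ∑ k ∈ t, mult R XR (Γ k) • Ring.ord A (φ (a k)) from this s subset_rfl
    intro t hts
    induction t using Finset.induction with
    | empty => simp
    | insert i t hit ih =>
      have hne' : ∏ k ∈ t, φ (a k) ^ mult R XR (Γ k) ∈ nonZeroDivisors A := mem_nonZeroDivisors_of_ne_zero
        (Finset.prod_ne_zero_iff.mpr fun k hk => pow_ne_zero _ (ha0 k (hts (Finset.mem_insert_of_mem hk))))
      rw [Finset.prod_insert hit, Finset.sum_insert hit, Ring.ord_mul A hne',
        Ring.ord_pow (mem_nonZeroDivisors_of_ne_zero (ha0 i (hts (Finset.mem_insert_self i t)))),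
        ih fun k hk => hts (Finset.mem_insert_of_mem hk)]
  set d := Module.length (IsLocalRing.ResidueField R) (IsLocalRing.ResidueField A) with hd
  have hd1 : 1 ≤ d := Order.one_le_iff_pos.mpr Module.length_pos
  have htot : (Module.finrank R A : ℕ∞) = Ring.ord A (algebraMap R A ϖ) * d := by
    rw [← hlen]
    exact IsLocalRing.length_restrictScalars R A _
  have hfin : ∀ i ∈ s, Ring.ord A (φ (a i)) * d ≠ ⊤ := fun i hi h => by
    refine ENat.coe_ne_top (Module.finrank R A) (htot.trans ?_)
    rw [hordA, Finset.sum_mul]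
    refine WithTop.sum_eq_top.mpr ⟨i, hi, ?_⟩
    rw [nsmul_eq_mul, mul_assoc, h]
    exact ENat.mul_top (by exact_mod_cast (Nat.one_le_iff_ne_zero.mp (hab i hi).2.2.2.2))
  refine ⟨fun i => if i ∈ s then (Ring.ord A (φ (a i)) * d).toNat else 1, fun i => ?_, ?_⟩
  · dsimp only
    split_ifs with hi
    · have h0 : Ring.ord A (φ (a i)) ≠ 0 := by
        rw [Ring.ord, Ne, Module.length_eq_zero_iff, not_subsingleton_iff_nontrivial, Submodule.Quotient.nontrivial_iff, Ne,
          Ideal.span_singleton_eq_top, isUnit_map_iff φ]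
        exact (hab i hi).1.not_unit
      exact Nat.one_le_iff_ne_zero.mpr fun h => by
        rcases ENat.toNat_eq_zero.mp h with h | h
        · exact (mul_ne_zero h0 (pos_iff_ne_zero.mp (Order.one_le_iff_pos.mp hd1))) h
        · exact hfin i hi h
    · exact le_rfl
  · show Module.finrank (FractionRing R) L = _
    rw [hrank]
    refine ENat.natCast_inj.mp ?_
    rw [htot, hordA, Finset.sum_mul, Nat.cast_sum,
      ← Finset.sum_subset (Finset.subset_univ s) (fun i _ hi => by
        rw [mult_eq_zero XR hϖ (Γ i) fun h => hi (Finset.mem_filter.mpr ⟨Finset.mem_univ i, h⟩)]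
        simp)]
    refine Finset.sum_congr rfl fun i hi => ?_
    dsimp only
    rw [if_pos hi, Nat.cast_mul, ENat.coe_toNat (hfin i hi), nsmul_eq_mul]
    ring


end Groth.Agent.S16554
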