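import Groth.Statements.S16555
import Groth.Agent.ModifLib.CohVan
import Groth.Agent.ModifLib.Dim
import Groth.Agent.S4480
import Groth.Agent.S7834
import Groth.Agent.Cube.Connected
import Groth.Agent.RedSub.Basic
import Groth.Agent.FpDesc70.Basic
import Groth.Agent.HilbLoc.Normal
import Groth.Agent.EulerChar.Push
import Groth.Agent.EulerChar.Cartier
-- import your own Groth.Agent.* helpers here

set_option autoImplicit false
set_option linter.style.haveILetI false
set_option backward.isDefEq.respectTransparency false
set_option backward.isDefEq.respectTransparency.types false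
universe u
open CategoryTheory CategoryTheory.Limits AlgebraicGeometry
open Models

namespace Groth.Agent.S16555

open TopologicalSpace

/-- Proper birational maps onto normal schemes have connected fibres. -/
theorem connected_fiber {X Y : Scheme.{u}} [IsIntegral X] [IsIntegral Y] [IsLocallyNoetherian X]
    [IsLocallyNoetherian Y] (hY : Pi1.IsNormalScheme Y) (f : X ⟶ Y) [IsProper f]
    (hbir : ∃ U : Y.Opens, (U : Set Y).Nonempty ∧ IsIso (f ∣_ U)) (y : Y) : ConnectedSpace (f.fiber y) := by
  obtain ⟨hgen, -⟩ := ModifLib.topologicalKrullDim_le f hbir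
  obtain ⟨U, hU, hiso⟩ := hbir
  have hη : genericPoint Y ∈ U := ((genericPoint_spec Y).mem_open_set_iff U.2).2 (by simpa using hU)
  have hξU : genericPoint X ∈ f ⁻¹ᵁ U := by rw [Scheme.Hom.mem_preimage, hgen]; exact hη
  have : IsIso (f.stalkMap (genericPoint X)) :=
    ((MorphismProperty.isomorphisms CommRingCat.{u}).arrow_mk_iso_iff (morphismRestrictStalkMap f U ⟨_, hξU⟩)).1
      (show IsIso ((f ∣_ U).stalkMap ⟨_, hξU⟩) from inferInstance)
  have hdom : f.base (genericPoint X) ⤳ genericPoint Y := specializes_of_eq hgen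
  have hsurj : Function.Surjective (CohIII.stalkToFunctionField f (genericPoint _) hdom) := by
    intro x
    obtain ⟨y, rfl⟩ := (ConcreteCategory.bijective_of_isIso (f.stalkMap (genericPoint X))).2 x
    have : IsIso (Y.presheaf.stalkSpecializes hdom) := by
      have h' : Y.presheaf.stalkSpecializes hdom =
          (Y.presheaf.stalkCongr (Inseparable.of_eq hgen.symm)).hom := rfl
      rw [h']; infer_instance
    obtain ⟨z, rfl⟩ := (ConcreteCategory.bijective_of_isIso (Y.presheaf.stalkSpecializes hdom)).2 y
    exact ⟨z, rfl⟩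
  haveI := (Groth.Agent.S4480.result f hdom (fun x _ => hsurj x) y (hY y).2).1
  exact GeometricallyConnected.connectedSpace_of_subsingleton (f.fiberToSpecResidueField y)

/-- A single-point maximal irreducible subset of a connected Noetherian space is everything. -/
theorem eq_univ_of_singleton {F : Type*} [TopologicalSpace F] [NoetherianSpace F] [ConnectedSpace F]
    (e : F) (he : ({e} : Set F) ∈ irreducibleComponents F) : ({e} : Set F) = Set.univ := by
  let W := ⋃₀ (irreducibleComponents F \ {{e}})
  have hW : IsClosed W := by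
    rw [show W = ⋃ Z ∈ (irreducibleComponents F \ {{e}}), Z from Set.sUnion_eq_biUnion]
    exact (NoetherianSpace.finite_irreducibleComponents.sdiff).isClosed_biUnion fun Z hZ =>
      isClosed_of_mem_irreducibleComponents Z hZ.1
  have heW : Wᶜ = {e} := by
    refine Set.eq_singleton_iff_unique_mem.mpr ⟨?_, fun x hx => ?_⟩
    · rintro ⟨Z, ⟨hZ, hne⟩, heZ⟩
      exact hne (le_antisymm (he.2 hZ.1 (Set.singleton_subset_iff.mpr heZ)) (Set.singleton_subset_iff.mpr heZ))
    · by_contra hne
      refine hx ⟨irreducibleComponent x, ⟨irreducibleComponent_mem_irreducibleComponents x, fun h => hne ?_⟩,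
        mem_irreducibleComponent⟩
      have h1 : x ∈ irreducibleComponent x := mem_irreducibleComponent
      rw [Set.mem_singleton_iff.mp h] at h1
      exact h1
  have hopen : IsOpen ({e} : Set F) := heW ▸ hW.isOpen_compl
  have hcl : IsClopen ({e} : Set F) := ⟨isClosed_of_mem_irreducibleComponents _ he, hopen⟩
  exact hcl.eq_univ ⟨e, rfl⟩

/-- Let R be a discrete valuation ring with algebraically closed residue field k, YR an integral normal
scheme of dimension 2, proper and flat over Spec R, ZR an integral normal scheme with a proper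
R-morphism π : ZR -> YR which is an isomorphism over some nonempty open subset of YR, and y a closed
point of YR in the special fibre such that the local ring O_{YR,y} is a rational singularity and the
fibre π⁻¹(y) has dimension one. Then each irreducible component of π⁻¹(y) is, with its reduced
structure, a projective line over k: there is a closed immersion of P^1_k into ZR, compatible with
the maps to Spec R, whose image is that component. The published statement takes YR to be a
projective normal model of a smooth geometrically connected curve; this row only asks YR integral,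
normal, two-dimensional, proper and flat over R, which is all the local argument uses. (The
published statement also adds that the dual graph of π⁻¹(y) is a tree when ZR is regular; not
restated.) -/
theorem result
    (R : Type u) [CommRing R] [IsDomain R] [IsDiscreteValuationRing R]
    (hk : IsAlgClosed (IsLocalRing.ResidueField R))
    (YR ZR : Over (Spec (CommRingCat.of R))) [IsIntegral YR.left] [IsIntegral ZR.left]
    (hYn : Pi1.IsNormalScheme YR.left) (hZn : Pi1.IsNormalScheme ZR.left)
    [IsProper YR.hom] [Flat YR.hom] (hdY : topologicalKrullDim YR.left = 2)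
    (π : ZR ⟶ YR) [IsProper π.left]
    (hbir : ∃ U : YR.left.Opens, (U : Set YR.left).Nonempty ∧ IsIso (π.left ∣_ U))
    (y : YR.left) (hyc : IsClosed ({y} : Set YR.left)) (hys : y ∈ Models.specialFibreSet R YR)
    (hrat : Curv2.IsRationalSing (YR.left.presheaf.stalk y))
    (hdim : topologicalKrullDim (π.left.base ⁻¹' ({y} : Set YR.left)) = 1)
    (E : Set ZR.left)
    (hE : Maximal (fun S : Set ZR.left => IsIrreducible S ∧ S ⊆ π.left.base ⁻¹' ({y} : Set YR.left)) E) :
    ∃ e : CohB1.ProjSpace 1 (IsLocalRing.ResidueField R) ⟶ ZR.left, IsClosedImmersion e ∧ Set.range e.base = E ∧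
      e ≫ ZR.hom = CohB1.ProjSpace.toSpec 1 (IsLocalRing.ResidueField R) ≫
        Spec.map (CommRingCat.ofHom (algebraMap R (IsLocalRing.ResidueField R))) := by
  haveI : IsProper (π.left ≫ YR.hom) := inferInstance
  haveI hZp : IsProper ZR.hom := by rw [← Over.w π]; infer_instance
  haveI : IsLocallyNoetherian YR.left := LocallyOfFiniteType.isLocallyNoetherian YR.hom
  haveI : IsLocallyNoetherian ZR.left := LocallyOfFiniteType.isLocallyNoetherian ZR.hom
  haveI : CompactSpace ↥ZR.left := QuasiCompact.compactSpace_of_compactSpace ZR.hom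
  haveI : AlgebraicGeometry.IsNoetherian ZR.left := {}
  -- the component is a curve
  have hF : IsClosed (π.left.base ⁻¹' ({y} : Set YR.left)) := hyc.preimage π.left.continuous
  have hEc : IsClosed E := isClosed_of_closure_subset (hE.2 ⟨hE.1.1.closure, closure_minimal hE.1.2 hF⟩ subset_closure)
  have hEdim : topologicalKrullDim E = 1 := by
    have hle : topologicalKrullDim E ≤ 1 := hdim ▸
      (Topology.IsEmbedding.inclusion hE.1.2).isInducing.topologicalKrullDim_le
    refine le_antisymm hle ?_
    by_contra hlt
    haveI : IrreducibleSpace E := Subtype.irreducibleSpace hE.1.1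
    have h0 : topologicalKrullDim E ≤ 0 := by
      generalize topologicalKrullDim E = d at hlt hle
      cases d with
      | bot => exact bot_le
      | coe d =>
        rw [not_le] at hlt
        change ((d : WithBot ℕ∞)) < ((1 : ℕ∞) : WithBot ℕ∞) at hlt
        rw [WithBot.coe_lt_coe, ENat.lt_one_iff_eq_zero] at hlt
        rw [hlt]; rfl
    haveI : NoetherianSpace E := (inferInstance : NoetherianSpace ZR.left).set _
    haveI : QuasiSober E := hEc.isClosedEmbedding_subtypeVal.quasiSober
    obtain ⟨hfin, hdisc⟩ := TopDimLib.finite_and_discrete_of_topDim_le_zero h0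
    haveI := hdisc
    obtain ⟨e, he⟩ := hE.1.1.nonempty
    have hsingle : E = {e} := Set.eq_singleton_iff_unique_mem.mpr ⟨he, fun x hx => by
      by_contra hne
      obtain ⟨z, -, hz1, hz2⟩ := (IrreducibleSpace.isIrreducible_univ E).2 {⟨x, hx⟩} {⟨e, he⟩} (isOpen_discrete _)
        (isOpen_discrete _) ⟨⟨x, hx⟩, trivial, rfl⟩ ⟨⟨e, he⟩, trivial, rfl⟩
      exact hne (congrArg Subtype.val (hz1.symm.trans hz2))⟩
    haveI := connected_fiber hYn π.left hbir y
    haveI : ConnectedSpace ↥(π.left.base ⁻¹' ({y} : Set YR.left)) :=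
      (π.left.fiberHomeo y).surjective.connectedSpace (π.left.fiberHomeo y).continuous
    haveI : NoetherianSpace ↥(π.left.base ⁻¹' ({y} : Set YR.left)) :=
      (inferInstance : NoetherianSpace ZR.left).set _
    have hu := eq_univ_of_singleton (⟨e, hE.1.2 he⟩ : ↥(π.left.base ⁻¹' ({y} : Set YR.left)))
      ⟨isIrreducible_singleton, fun S hS hle => by
        intro x hx
        have h1 : Subtype.val '' S ⊆ E := hE.2 ⟨hS.image _ continuous_subtype_val.continuousOn,
          by rintro _ ⟨z, -, rfl⟩; exact z.2⟩ (hsingle ▸ Set.singleton_subset_iff.mpr ⟨_, hle rfl, rfl⟩)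
        exact Subtype.ext (by simpa [hsingle] using h1 ⟨x, hx, rfl⟩)⟩
    haveI : Subsingleton ↥(π.left.base ⁻¹' ({y} : Set YR.left)) :=
      Set.subsingleton_univ_iff.mp (hu ▸ Set.subsingleton_singleton)
    have : topologicalKrullDim ↥(π.left.base ⁻¹' ({y} : Set YR.left)) ≤ 0 :=
      Order.krullDim_nonpos_iff_forall_isMax.2 fun A B hAB x _ => by
        obtain ⟨a, ha⟩ := A.isIrreducible'.nonempty
        exact (Subsingleton.elim x a) ▸ ha
    rw [hdim] at this
    exact absurd this (not_le.mpr zero_lt_one)
  -- the reduced component and its structure over the residue field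
  let T := (Scheme.IdealSheafData.vanishingIdeal (⟨E, hEc⟩ : Closeds ZR.left)).subscheme
  let t : T ⟶ ZR.left := (Scheme.IdealSheafData.vanishingIdeal (⟨E, hEc⟩ : Closeds ZR.left)).subschemeι
  haveI : IsReduced T := RedSub.isReduced_vanishingIdeal _
  have hrt : Set.range t = E := RedSub.range_vanishingIdeal_subschemeι _
  haveI : IrreducibleSpace T :=
    ((t.isEmbedding.toHomeomorph.trans (Homeomorph.setCongr hrt)).irreducibleSpace_iff).mpr (Subtype.irreducibleSpace hE.1.1)
  haveI : IsIntegral T := isIntegral_of_irreducibleSpace_of_isReduced _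
  have hTdim : topologicalKrullDim T = 1 := by
    rw [IsHomeomorph.topologicalKrullDim_eq _ (t.isEmbedding.toHomeomorph.trans (Homeomorph.setCongr hrt)).isHomeomorph]
    exact hEdim
  have hty : ∀ x, π.left (t x) = y := fun x => hE.1.2 (hrt.le ⟨x, rfl⟩)
  let b := Spec.map (CommRingCat.ofHom (algebraMap R (IsLocalRing.ResidueField R)))
  haveI : IsClosedImmersion b := IsClosedImmersion.spec_of_surjective _ IsLocalRing.residue_surjective
  obtain ⟨h, hh⟩ : ∃ h : T ⟶ Spec (CommRingCat.of (IsLocalRing.ResidueField R)), h ≫ b = t ≫ ZR.hom := by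
    refine RedSub.exists_lift_closed b (t ≫ ZR.hom) ?_
    rintro _ ⟨x, rfl⟩
    refine ⟨(⊥ : PrimeSpectrum (IsLocalRing.ResidueField R)), ?_⟩
    have e1 : (t ≫ ZR.hom) x = IsLocalRing.closedPoint R := by
      rw [← Over.w π]
      show YR.hom (π.left (t x)) = _
      rw [hty x]
      exact hys
    rw [e1]
    exact PrimeSpectrum.ext (IsLocalRing.ker_residue (R := R))
  letI : T.Over (Spec (CommRingCat.of (IsLocalRing.ResidueField R))) := ⟨h⟩
  haveI : IsProper (h ≫ b) := by rw [hh]; infer_instance
  haveI hTp : IsProper (T ↘ Spec (CommRingCat.of (IsLocalRing.ResidueField R))) := IsProper.of_comp h b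
  -- localise at `y`
  let j := YR.left.fromSpecStalk y
  haveI : IsClosedImmersion (YR.left.fromSpecResidueField y) :=
    IsClosedImmersion.of_isPreimmersion _ (by rw [Scheme.range_fromSpecResidueField]; exact hyc)
  obtain ⟨l, hl⟩ := RedSub.exists_lift_closed (YR.left.fromSpecResidueField y) (t ≫ π.left) (by
    rintro _ ⟨x, rfl⟩
    rw [Scheme.range_fromSpecResidueField]
    exact hty x)
  let Z := pullback π.left j
  let pr : Z ⟶ ZR.left := pullback.fst π.left j
  let q : Z ⟶ Spec (YR.left.presheaf.stalk y) := pullback.snd π.left j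
  haveI : IsProper q := MorphismProperty.pullback_snd π.left j ‹_›
  haveI : IsPreimmersion pr := MorphismProperty.pullback_fst π.left j inferInstance
  haveI : Flat pr := MorphismProperty.pullback_fst π.left j (FpDesc70.flat_fromSpecStalk y)
  have hstalk : ∀ z : Z, Function.Bijective (pr.stalkMap z).hom := fun z =>
    ⟨FpDesc70.injective_of_flat_isLocalHom _ (Flat.stalkMap pr z), pr.stalkMap_surjective z⟩
  have hdomZ : ∀ z : Z, IsDomain (Z.presheaf.stalk z) := fun z =>
    haveI := (hZn (pr z)).1
    (RingEquiv.ofBijective _ (hstalk z)).symm.toMulEquiv.isDomain _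
  have hnZ : Pi1.IsNormalScheme Z := fun z =>
    ⟨hdomZ z, haveI := (hZn (pr z)).2
      IsIntegrallyClosed.of_equiv (RingEquiv.ofBijective _ (hstalk z))⟩
  haveI : IsReduced Z :=
    haveI : ∀ z : Z, _root_.IsReduced (Z.presheaf.stalk z) := fun z => haveI := hdomZ z; inferInstance
    isReduced_of_isReduced_stalk _
  obtain ⟨hgen, -⟩ := ModifLib.topologicalKrullDim_le π.left hbir
  obtain ⟨ξ, hξ⟩ : ∃ ξ : Z, pr ξ = genericPoint ZR.left := by
    have : genericPoint ZR.left ∈ Set.range pr := by
      rw [Scheme.Pullback.range_fst, Scheme.range_fromSpecStalk]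
      show π.left (genericPoint ZR.left) ⤳ y
      rw [hgen]
      exact genericPoint_specializes y
    exact this
  haveI : IrreducibleSpace Z :=
    { toNonempty := ⟨ξ⟩
      isPreirreducible_univ := by
        have hc : closure ({ξ} : Set Z) = Set.univ := Set.eq_univ_of_forall fun z => by
          rw [← specializes_iff_mem_closure, ← pr.isEmbedding.isInducing.specializes_iff, hξ]
          exact genericPoint_specializes _
        exact hc ▸ (isIrreducible_singleton.closure).2 }
  haveI : IsIntegral Z := isIntegral_of_irreducibleSpace_of_isReduced _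
  have hbir' : ∃ U : (Spec (YR.left.presheaf.stalk y)).Opens,
      (U : Set (Spec (YR.left.presheaf.stalk y))).Nonempty ∧ IsIso (q ∣_ U) := by
    obtain ⟨U, hU, hiso⟩ := hbir
    refine ⟨j ⁻¹ᵁ U, ⟨q ξ, ?_⟩, ?_⟩
    · show j (q ξ) ∈ U
      rw [show j (q ξ) = π.left (pr ξ) from (Scheme.Hom.comp_apply _ _ _).symm.trans
        ((congrArg (fun φ : Z ⟶ YR.left => φ ξ) pullback.condition.symm).trans (Scheme.Hom.comp_apply _ _ _)), hξ, hgen]
      exact ((genericPoint_spec _).mem_open_set_iff U.2).2 (by simpa using hU)
    · have hbig := (isPullback_morphismRestrict q (j ⁻¹ᵁ U)).flip.paste_horiz (IsPullback.of_hasPullback π.left j)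
      rw [← morphismRestrict_ι j U] at hbig
      have hB := (isPullback_morphismRestrict π.left U).flip
      let m := hB.lift _ ((q ∣_ (j ⁻¹ᵁ U)) ≫ (j ∣_ U)) (by rw [hbig.w, Category.assoc])
      have hm : IsPullback m (q ∣_ (j ⁻¹ᵁ U)) (π.left ∣_ U) (j ∣_ U) :=
        IsPullback.of_right (h₁₂ := (π.left ⁻¹ᵁ U).ι) (v₁₃ := π.left) (h₂₂ := U.ι)
          (by rw [hB.lift_fst]; exact hbig) (hB.lift_snd _ _ _) hB
      exact MorphismProperty.of_isPullback (P := MorphismProperty.isomorphisms Scheme.{u}) hm
        (show IsIso (π.left ∣_ U) from hiso)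
  haveI := (hYn y).1
  haveI := (hYn y).2
  have hH : Subsingleton (Coh.HH Z (Coh.structureModule Z) 1) := hrat Z q inferInstance inferInstance hnZ hbir'
  -- the fibre of the localisation
  have hfib : topologicalKrullDim ↥(q.fiber (IsLocalRing.closedPoint (YR.left.presheaf.stalk y))) ≤ 1 := by
    rw [IsHomeomorph.topologicalKrullDim_eq _ (q.fiberHomeo _).isHomeomorph, ← hdim]
    have hm : ∀ z : ↥(q ⁻¹' {IsLocalRing.closedPoint (YR.left.presheaf.stalk y)}),
        pr z.1 ∈ π.left.base ⁻¹' ({y} : Set YR.left) := fun z => by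
      show π.left (pr z.1) = y
      rw [show π.left (pr z.1) = j (q z.1) from (Scheme.Hom.comp_apply _ _ _).symm.trans
        ((congrArg (fun φ : Z ⟶ YR.left => φ z.1) pullback.condition).trans (Scheme.Hom.comp_apply _ _ _)),
        show q z.1 = _ from z.2]
      exact Scheme.fromSpecStalk_closedPoint
    exact ((pr.isEmbedding.comp Topology.IsEmbedding.subtypeVal).codRestrict _ hm).isInducing.topologicalKrullDim_le
  -- the component inside the localisation
  let t' : T ⟶ Z := pullback.lift t (l ≫ Spec.map (YR.left.residue y)) (by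
    rw [← hl, Category.assoc]; rfl)
  have ht' : t' ≫ pr = t := pullback.lift_fst _ _ _
  haveI : IsClosedImmersion (t' ≫ pr) := by rw [ht']; infer_instance
  haveI : IsClosedImmersion t' := IsClosedImmersion.of_comp t' pr
  haveI : IsLocallyNoetherian Z := LocallyOfFiniteType.isLocallyNoetherian q
  let ε : Coh.structureModule Z ⟶ (Scheme.Modules.pushforward t').obj (Coh.structureModule T) :=
    ClSub.toSubscheme t'.ker ≫ (HilbLoc.quotModIso t').hom
  haveI : Epi (ClSub.toSubscheme t'.ker) := EulerChar.epi_toSubscheme _
  haveI : Epi ε := epi_comp _ _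
  let d : (∐ fun _ : PUnit.{u+1} => Coh.structureModule Z) ⟶ (Scheme.Modules.pushforward t').obj (Coh.structureModule T) :=
    Sigma.desc fun _ => ε
  haveI : Epi d := by
    refine ⟨fun a c hac => (cancel_epi ε).mp ?_⟩
    have h1 := congrArg (Sigma.ι (fun _ : PUnit.{u+1} => Coh.structureModule Z) PUnit.unit ≫ ·) hac
    simpa [d] using h1
  haveI : (Coh.structureModule T).IsQuasicoherent := ProjTwist.isQuasicoherent_structureModule T
  haveI hpq : ((Scheme.Modules.pushforward t').obj (Coh.structureModule T)).IsQuasicoherent :=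
    QCoh.isQuasicoherent_pushforward t' _
  have hP := ModifLib.subsingleton_HH_one_of_globallyGenerated (YR.left.presheaf.stalk y) q hfib hH
    ((Scheme.Modules.pushforward t').obj (Coh.structureModule T)) d
  letI : Z.Over (Spec (CommRingCat.of R)) := ⟨pr ≫ ZR.hom⟩
  letI : T.Over (Spec (CommRingCat.of R)) := ⟨t ≫ ZR.hom⟩
  obtain ⟨ψ⟩ := EulerChar.nonempty_pushEquiv t' (A := R)
    (show t' ≫ pr ≫ ZR.hom = t ≫ ZR.hom by rw [← Category.assoc, ht'])
    (Coh.structureModule T) (ProjTwist.isQuasicoherent_structureModule T) 1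
  haveI : Subsingleton (Coh.HH T (Coh.structureModule T) 1) := ψ.symm.toEquiv.subsingleton
  have hg : Curv2.genus (IsLocalRing.ResidueField R) T = 0 := Module.finrank_zero_of_subsingleton
  haveI := hk
  haveI := Cube.geometricallyIntegral_of_isAlgClosed (T ↘ Spec (CommRingCat.of (IsLocalRing.ResidueField R)))
  obtain ⟨e, he⟩ := S7834.result (IsLocalRing.ResidueField R) T hTdim hg
  refine ⟨e.inv ≫ t, inferInstance, ?_, ?_⟩
  · rw [← hrt, Scheme.Hom.comp_base, TopCat.coe_comp, Set.range_comp,
      Set.range_eq_univ.2 e.inv.surjective, Set.image_univ]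
  · rw [Category.assoc, ← hh, show h = e.hom ≫ CohB1.ProjSpace.toSpec 1 _ from he.symm]
    simp only [Category.assoc, Iso.inv_hom_id_assoc]
    rfl

end Groth.Agent.S16555
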