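import Groth.Statements.S16557
import Groth.Agent.SurfRR.Proper
import Groth.Agent.BigVol.Basic
import Groth.Agent.S15376


set_option autoImplicit false
universe u
open CategoryTheory CategoryTheory.Limits AlgebraicGeometry TopologicalSpace
open Surf

namespace Groth.Agent.S16557

set_option linter.style.haveILetI false
open CategoryTheory AlgebraicGeometry Limits

/-- Let X be a smooth proper integral surface over an algebraically closed field k, W = Λ²Ω_{X/k} a
canonical module, and suppose H⁰(X, W) = 0 (the source states this for smooth rational surfaces and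
uses exactly the vanishing of H⁰(X, K_X)). If L is an invertible O_X-module with H⁰(X, L) ≠ 0, then
H²(X, L) = 0. -/
theorem result (k : Type u) [Field k] [IsAlgClosed k]
    (X : Scheme.{u}) [X.Over (Spec (CommRingCat.of k))] [IsIntegral X] [IsProper (X ↘ (Spec (CommRingCat.of k)))] [Smooth (X ↘ (Spec (CommRingCat.of k)))]
    (hdim : topologicalKrullDim X = 2)
    (W : X.Modules) (hW : ExtPow.IsExtPow 2 (Omega.sheaf (X ↘ (Spec (CommRingCat.of k)))) W)
    (hpg : Subsingleton (Coh.HH X W 0))
    (L : X.Modules) (hL : PicF.IsInvertible L) (h0 : Nontrivial (Coh.HH X L 0)) :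
    Subsingleton (Coh.HH X L 2) := by
  haveI : IrreducibleSpace X := inferInstance
  have hdim' : ∀ Z ∈ irreducibleComponents (X : Type u), topologicalKrullDim Z = 2 := fun Z hZ => by
    have : irreducibleComponents (X : Type u) = {Set.univ} := irreducibleComponents_eq_singleton
    rw [this, Set.mem_singleton_iff] at hZ
    subst hZ
    rw [IsHomeomorph.topologicalKrullDim_eq _ (Homeomorph.Set.univ X).isHomeomorph, hdim]
  haveI := SurfRR.smoothRelDim_two k hdim'
  obtain ⟨n, i, hi, hik⟩ := SurfRR.exists_embedding k hdim'
  haveI := hi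
  haveI := EulerChar.isNoetherian k (X := X)
  obtain ⟨M, hM, ⟨e⟩⟩ := PicLaw.exists_inverse hL
  have hWi : PicF.IsInvertible W := SurfRR.isInvertible_canonical k i hik W hW
  have hMW := AmpleLib.isInvertible_tensorMod hM hWi
  have hd := SurfRR.finrank_dual k i hik W hW hL e 2 le_rfl
  haveI := EulerChar.finite_HH k L (BigVol.isCoh_of_isInvertible hL) 2
  haveI := EulerChar.finite_HH k L (BigVol.isCoh_of_isInvertible hL) 0
  by_contra hne
  haveI : Nontrivial (Coh.HH X L 2) := not_subsingleton_iff_nontrivial.1 hne
  have h2 : 0 < Module.finrank k (Coh.HH X L 2) := Module.finrank_pos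
  have hsub : BigVol.Sub (Coh.structureModule X) (CohB1.tensorMod M W) :=
    BigVol.sub_of_h0_pos k hMW (by
      show 0 < Module.finrank k (Coh.HH X (CohB1.tensorMod M W) 0)
      rw [← hd] at h2; exact h2)
  have hsubL : BigVol.Sub (Coh.structureModule X) L := BigVol.sub_of_h0_pos k hL Module.finrank_pos
  have hO := LFFrame.isInvertible_structureModule X
  have h := ((BigVol.Sub.of_iso (ProjTwist.tensOne (Coh.structureModule X)).symm).trans
    (hsubL.tensor₂ hO hL hMW hsub)).iso
    ((ProjTwist.tensAssoc L M W).symm ≪≫ ProjTwist.tensCongr e (Iso.refl W) ≪≫ ProjTwist.oneTens W)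
  have hle := BigVol.h0_le_of_sub k (BigVol.isCoh_of_isInvertible hWi) h
  rw [BigVol.h0, BigVol.h0, VBLib.finrank_H0_structure_eq_one VBLib.bijective_toGlobal_of_isAlgClosed,
    Module.finrank_zero_of_subsingleton] at hle
  omega

end Groth.Agent.S16557
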