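import Groth.Statements.S16558
import Groth.Agent.SurfRR.Effective
import Groth.Agent.BigVol.Basic
import Groth.Agent.NumTriv.AmpleDeg
import Groth.Agent.ProjProper.Basic
import Groth.Agent.EulerChar.Restrict
import Groth.Agent.EulerChar.Cartier


set_option autoImplicit false
universe u
open CategoryTheory CategoryTheory.Limits AlgebraicGeometry TopologicalSpace
open Surf

namespace Groth.Agent.S16558

set_option linter.style.haveILetI false
open CategoryTheory AlgebraicGeometry Limits

/-- Let k be an algebraically closed field, p_1, …, p_r distinct closed points of the projective plane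
P²_k and σ : X → P²_k the blow-up of P²_k in the ideal of the reduced finite set {p_1, …, p_r}
(universal property), X being regarded over k through σ; X is then an integral smooth proper surface
(carried as hypotheses). Write H = σ^*O(1), (L·M) = χ(O_X) − χ(L) − χ(M) + χ(L ⊗ M) for the
intersection number of invertible modules L, M, and for a closed subscheme C ⊆ X with ideal I_C
write (L·C) = χ(O_C ⊗ L) − χ(O_C) and C² = (I_C·I_C). If L is an invertible O_X-module with (L·H) <
0, then H⁰(X, L) = 0. (The source takes the points in general position; that assumption plays no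
role here.) -/
theorem result (k : Type u) [Field k] [IsAlgClosed k]
    (r : ℕ) (P : Fin r → ↥(CohB1.ProjSpace 2 k)) (hP : Function.Injective P)
    (hPc : ∀ i, IsClosed ({P i} : Set ↥(CohB1.ProjSpace 2 k))) (hZ : IsClosed (Set.range P))
    (X : Scheme.{u}) [X.Over (Spec (CommRingCat.of k))] (σ : X ⟶ CohB1.ProjSpace 2 k)
    (hσk : σ ≫ CohB1.ProjSpace.toSpec 2 k = X ↘ (Spec (CommRingCat.of k)))
    (hσ : BlowUp.IsBlowUp σ (Scheme.IdealSheafData.vanishingIdeal ⟨Set.range P, hZ⟩))
    [IsIntegral X] [IsProper (X ↘ (Spec (CommRingCat.of k)))] [Smooth (X ↘ (Spec (CommRingCat.of k)))] (hdim : topologicalKrullDim X = 2)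
    (L : X.Modules) (hL : PicF.IsInvertible L) (hLH : FGA.intNum k X 2 ![L, ((Scheme.Modules.pullback σ).obj (Twist.twistProjSpace 2 k 1))] (Coh.structureModule X) < 0) :
    Subsingleton (Coh.HH X L 0) := by
  haveI := EulerChar.isNoetherian k (X := X)
  letI : (CohB1.ProjSpace 2 k).Over (Spec (CommRingCat.of k)) := ⟨CohB1.ProjSpace.toSpec 2 k⟩
  haveI : IsProper (CohB1.ProjSpace 2 k ↘ Spec (CommRingCat.of k)) := ProjProper.Basic.isProper_toSpec 2 k
  haveI := EulerChar.isNoetherian k (X := CohB1.ProjSpace 2 k)
  have hO1 : CohB1.IsAmple (Twist.twistProjSpace 2 k 1) := ProjTwist.Pn.isAmple_one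
  have hnef0 : NefPos.Nef k (CohB1.ProjSpace 2 k) (Twist.twistProjSpace 2 k 1) := fun C _ hC =>
    NumTriv.deg1_nonneg k (EulerChar.isCoh_quotMod k C)
      (((Topology.IsEmbedding.inclusion (EulerChar.support_quotMod_subset C)).isInducing.topologicalKrullDim_le).trans hC.le) hO1
  have hnef := NefPos.nef_pullback k σ hσk hO1.1 hnef0
  let H := (Scheme.Modules.pullback σ).obj (Twist.twistProjSpace 2 k 1)
  have hH : PicF.IsInvertible H := PicCl.isInvertible_pullback σ hO1.1
  by_contra hne
  haveI : Nontrivial (Coh.HH X L 0) := not_subsingleton_iff_nontrivial.1 hne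
  haveI := EulerChar.finite_HH k L (BigVol.isCoh_of_isInvertible hL) 0
  obtain ⟨s, hs⟩ := BigVol.sub_of_h0_pos k hL Module.finrank_pos
  haveI := hs
  let s' : Coh.structureModule X ⟶ CohB1.tensorMod L (Coh.structureModule X) := s ≫ (ProjTwist.tensOne L).inv
  have hOc := ProperFin.isCoh_structureModule X
  have hO := LFFrame.isInvertible_structureModule X
  have hLO := AmpleLib.isInvertible_tensorMod hL hO
  have hQ : Coh.IsCoh (cokernel s') := CohDev.isCoh_cokernel s' hOc.1 (BigVol.isCoh_of_isInvertible hLO)
  have hs' : s' ≠ 0 := fun h => BigVol.not_isZero_of_isInvertible hO ((IsZero.iff_id_eq_zero _).2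
    ((cancel_mono s').1 (by rw [Category.id_comp, zero_comp]; exact h)))
  have hl : ∀ B ∈ [H], PicF.IsInvertible B := fun B hB => by rw [List.mem_singleton.1 hB]; exact hH
  refine absurd hLH (not_lt.2 ?_)
  rw [SurfRR.pr_eq_intNum k hdim.le hL hH, SurfRR.pr, NefPos.iC_cons_mono k hl hL hOc s' hQ]
  refine NefPos.iC_nonneg_of_pieces k hl hQ rfl (Snapper.le_of_lt_succ ?_) fun ξ hξ => ?_
  · refine CohDev.dim_lt_of_irreducible (CohDev.isClosed_support hQ) (IrreducibleSpace.isIrreducible_univ X)
      (Set.subset_univ _) (fun h => ?_) ?_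
    · exact CohDev.not_mem_support_cokernel s'
        (EulerChar.bijective_stalk_generic hO hLO s' hs').2 (h (Set.mem_univ (genericPoint X)))
    · rw [IsHomeomorph.topologicalKrullDim_eq _ (Homeomorph.Set.univ X).isHomeomorph, hdim]
      rfl
  · obtain ⟨-, hint, -⟩ := NefPos.piece_eq k ξ hξ hl rfl
    have h := hnef (IntMult.ptIdeal ξ) hint (by rw [CohDev.coe_support_ptIdeal, hξ]; rfl)
    rw [NefPos.iC_cons, NefPos.iC_nil, NefPos.iC_nil, EulerChar.euler_iso k (ProjTwist.tensComm H _)]
    exact h

end Groth.Agent.S16558
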