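import Groth.Statements.S16559
import Groth.Agent.Blow44.Line
import Groth.Agent.S16558
import Groth.Agent.ExtPowSt.Exists

set_option autoImplicit false
universe u
open CategoryTheory CategoryTheory.Limits AlgebraicGeometry TopologicalSpace
open Surf

namespace Groth.Agent.S16559

/-- Let k be an algebraically closed field, p_1, …, p_r distinct closed points of the projective plane
P²_k and σ : X → P²_k the blow-up of P²_k in the ideal of the reduced finite set {p_1, …, p_r}
(universal property), X being regarded over k through σ; X is then an integral smooth proper surface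
(carried as hypotheses). Write H = σ^*O(1), (L·M) = χ(O_X) − χ(L) − χ(M) + χ(L ⊗ M) for the
intersection number of invertible modules L, M, and for a closed subscheme C ⊆ X with ideal I_C
write (L·C) = χ(O_C ⊗ L) − χ(O_C) and C² = (I_C·I_C). If L is an invertible O_X-module with (L·H) ≥
−2, then H²(X, L) = 0. (The source takes the points in general position; that assumption plays no
role here.) -/
theorem result (k : Type u) [Field k] [IsAlgClosed k]
    (r : ℕ) (P : Fin r → ↥(CohB1.ProjSpace 2 k)) (hP : Function.Injective P)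
    (hPc : ∀ i, IsClosed ({P i} : Set ↥(CohB1.ProjSpace 2 k))) (hZ : IsClosed (Set.range P))
    (X : Scheme.{u}) [X.Over (Spec (CommRingCat.of k))] (σ : X ⟶ CohB1.ProjSpace 2 k)
    (hσk : σ ≫ CohB1.ProjSpace.toSpec 2 k = X ↘ (Spec (CommRingCat.of k)))
    (hσ : BlowUp.IsBlowUp σ (Scheme.IdealSheafData.vanishingIdeal ⟨Set.range P, hZ⟩))
    [IsIntegral X] [IsProper (X ↘ (Spec (CommRingCat.of k)))] [Smooth (X ↘ (Spec (CommRingCat.of k)))] (hdim : topologicalKrullDim X = 2)
    (L : X.Modules) (hL : PicF.IsInvertible L) (hLH : -2 ≤ FGA.intNum k X 2 ![L, ((Scheme.Modules.pullback σ).obj (Twist.twistProjSpace 2 k 1))] (Coh.structureModule X)) :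
    Subsingleton (Coh.HH X L 2) := by
  haveI : IrreducibleSpace X := inferInstance
  have hdim' : ∀ T ∈ irreducibleComponents (X : Type u), topologicalKrullDim T = 2 := fun T hT => by
    have : irreducibleComponents (X : Type u) = {Set.univ} := irreducibleComponents_eq_singleton
    rw [this, Set.mem_singleton_iff] at hT
    subst hT
    rw [IsHomeomorph.topologicalKrullDim_eq _ (Homeomorph.Set.univ X).isHomeomorph, hdim]
  haveI := SurfRR.smoothRelDim_two k hdim'
  obtain ⟨n, i, hi, hik⟩ := SurfRR.exists_embedding k hdim'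
  haveI := hi
  haveI := EulerChar.isNoetherian k (X := X)
  haveI : (Omega.sheaf (X ↘ (Spec (CommRingCat.of k)))).IsQuasicoherent := by
    haveI : (ClSub.idealMod (pullback.diagonal (X ↘ (Spec (CommRingCat.of k)))).ker).IsQuasicoherent :=
      AmpleLib.isQCoh_idealMod _
    exact QCoh.isQuasicoherent_pullback (pullback.diagonal (X ↘ (Spec (CommRingCat.of k))))
      (ClSub.idealMod (pullback.diagonal (X ↘ (Spec (CommRingCat.of k)))).ker)
  obtain ⟨W, hW⟩ := ExtPowSt.Exists.exists_isExtPow 2 (Omega.sheaf (X ↘ (Spec (CommRingCat.of k))))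
  obtain ⟨M, hM, ⟨e⟩⟩ := PicLaw.exists_inverse hL
  have hWi : PicF.IsInvertible W := SurfRR.isInvertible_canonical k i hik W hW
  have hMW := AmpleLib.isInvertible_tensorMod hM hWi
  have hd := SurfRR.finrank_dual k i hik W hW hL e 2 le_rfl
  have hH : PicF.IsInvertible ((Scheme.Modules.pullback σ).obj (Twist.twistProjSpace 2 k 1)) :=
    PicCl.isInvertible_pullback σ ProjTwist.Pn.isAmple_one.1
  have h2 : topologicalKrullDim X ≤ (2 : ℕ) := hdim.le
  rw [SurfRR.pr_eq_intNum k h2 hL hH] at hLH
  have hK := Blow44.canonical_dot (k := k) hdim σ hσk P hZ hσ W hW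
  haveI := S16558.result k r P hP hPc hZ X σ hσk hσ hdim _ hMW (by
    rw [SurfRR.pr_eq_intNum k h2 hMW hH, SurfRR.pr_mul k h2 hM hWi hH, SurfRR.pr_inv k h2 hL hM hH e,
      SurfRR.pr_comm k W, hK]
    omega)
  haveI := EulerChar.finite_HH k L (BigVol.isCoh_of_isInvertible hL) 2
  refine (Module.finrank_zero_iff (R := k)).1 ?_
  rw [← hd]
  exact Module.finrank_zero_of_subsingleton


end Groth.Agent.S16559
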