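import Groth.Statements.S16560
import Groth.Agent.S15137
import Groth.Agent.S1648
import Groth.Agent.S16559
import Groth.Agent.Blow44.Line
import Groth.Agent.FFCurve.CurveStalk
import Groth.Agent.VBStable.Main
import Groth.Agent.S9791
import Groth.Agent.VBLib.RR

set_option linter.style.haveILetI false
set_option backward.isDefEq.respectTransparency false
set_option backward.isDefEq.respectTransparency.types false
set_option maxHeartbeats 1600000

set_option autoImplicit false
universe u
open CategoryTheory CategoryTheory.Limits AlgebraicGeometry TopologicalSpace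
open Surf

namespace Groth.Agent.S16560

/-- Let k be an algebraically closed field, p_1, …, p_r distinct closed points of the projective plane
P²_k and σ : X → P²_k the blow-up of P²_k in the ideal of the reduced finite set {p_1, …, p_r}
(universal property), X being regarded over k through σ; X is then an integral smooth proper surface
(carried as hypotheses). Write H = σ^*O(1), (L·M) = χ(O_X) − χ(L) − χ(M) + χ(L ⊗ M) for the
intersection number of invertible modules L, M, and for a closed subscheme C ⊆ X with ideal I_C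
write (L·C) = χ(O_C ⊗ L) − χ(O_C) and C² = (I_C·I_C). Let W = Λ²Ω_{X/k} be a canonical module. If L
is an invertible O_X-module with (L·H) ≥ −2 and (L·L) − (L·W) ≥ 0, then H⁰(X, L) ≠ 0. (The source
takes the points in general position; that assumption plays no role here.) -/
theorem result (k : Type u) [Field k] [IsAlgClosed k]
    (r : ℕ) (P : Fin r → ↥(CohB1.ProjSpace 2 k)) (hP : Function.Injective P)
    (hPc : ∀ i, IsClosed ({P i} : Set ↥(CohB1.ProjSpace 2 k))) (hZ : IsClosed (Set.range P))
    (X : Scheme.{u}) [X.Over (Spec (CommRingCat.of k))] (σ : X ⟶ CohB1.ProjSpace 2 k)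
    (hσk : σ ≫ CohB1.ProjSpace.toSpec 2 k = X ↘ (Spec (CommRingCat.of k)))
    (hσ : BlowUp.IsBlowUp σ (Scheme.IdealSheafData.vanishingIdeal ⟨Set.range P, hZ⟩))
    [IsIntegral X] [IsProper (X ↘ (Spec (CommRingCat.of k)))] [Smooth (X ↘ (Spec (CommRingCat.of k)))] (hdim : topologicalKrullDim X = 2)
    (W : X.Modules) (hW : ExtPow.IsExtPow 2 (Omega.sheaf (X ↘ (Spec (CommRingCat.of k)))) W)
    (L : X.Modules) (hL : PicF.IsInvertible L) (hLH : -2 ≤ FGA.intNum k X 2 ![L, ((Scheme.Modules.pullback σ).obj (Twist.twistProjSpace 2 k 1))] (Coh.structureModule X))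
    (hRR : 0 ≤ FGA.intNum k X 2 ![L, L] (Coh.structureModule X) - FGA.intNum k X 2 ![L, W] (Coh.structureModule X)) :
    Nontrivial (Coh.HH X L 0) := by
  letI : (CohB1.ProjSpace 2 k).Over (Spec (CommRingCat.of k)) := ⟨CohB1.ProjSpace.toSpec 2 k⟩
  haveI hP2 : IsProper (CohB1.ProjSpace 2 k ↘ Spec (CommRingCat.of k)) := ProjProper.Basic.isProper_toSpec 2 k
  haveI := EulerChar.isNoetherian k (X := CohB1.ProjSpace 2 k)
  haveI := EulerChar.isNoetherian k (X := X)
  haveI : IsIntegral (CohB1.ProjSpace 2 k) := VBStable.isIntegral_projSpace k 2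
  haveI : Smooth (CohB1.ProjSpace 2 k ↘ Spec (CommRingCat.of k)) := CohOps.PnSmooth.smooth_toSpec 2 k
  have hn : Pi1.IsNormalScheme (CohB1.ProjSpace 2 k) :=
    S9791.isNormalScheme_of_smooth_field (CohB1.ProjSpace 2 k ↘ Spec (CommRingCat.of k))
  have hn' : Pi1.IsNormalScheme X := S9791.isNormalScheme_of_smooth_field (X ↘ Spec (CommRingCat.of k))
  haveI : IsProper σ := by
    haveI : IsProper (σ ≫ CohB1.ProjSpace.toSpec 2 k) := by rw [hσk]; infer_instance
    haveI : IsSeparated (CohB1.ProjSpace.toSpec 2 k) := hP2.toIsSeparated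
    exact IsProper.of_comp σ (CohB1.ProjSpace.toSpec 2 k)
  let Z := Scheme.IdealSheafData.vanishingIdeal (X := CohB1.ProjSpace 2 k) ⟨Set.range P, hZ⟩
  let V : (CohB1.ProjSpace 2 k).Opens := Z.support.compl
  haveI hiso : IsIso (σ ∣_ V) := S1682.result Z σ hσ
  have hV : (V : Set ↥(CohB1.ProjSpace 2 k)).Nonempty := by
    refine ⟨genericPoint (CohB1.ProjSpace 2 k), fun hmem => ?_⟩
    obtain ⟨i, hi⟩ := (Scheme.IdealSheafData.coe_support_vanishingIdeal
      (X := CohB1.ProjSpace 2 k) ⟨Set.range P, hZ⟩).le hmem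
    have hg : IsClosed ({genericPoint (CohB1.ProjSpace 2 k)} : Set ↥(CohB1.ProjSpace 2 k)) := hi ▸ hPc i
    have huniv : (Set.univ : Set ↥(CohB1.ProjSpace 2 k)) = {genericPoint (CohB1.ProjSpace 2 k)} := by
      rw [← (genericPoint_spec (CohB1.ProjSpace 2 k)).def, hg.closure_eq]
    haveI : Subsingleton ↥(CohB1.ProjSpace 2 k) := ⟨fun a b => by
      have ha := huniv.le (Set.mem_univ a)
      have hb := huniv.le (Set.mem_univ b)
      rw [Set.mem_singleton_iff] at ha hb
      rw [ha, hb]⟩
    haveI : Subsingleton (TopologicalSpace.IrreducibleCloseds ↥(CohB1.ProjSpace 2 k)) :=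
      ⟨fun a b => TopologicalSpace.IrreducibleCloseds.ext (by
        rw [a.isIrreducible.nonempty.eq_univ, b.isIrreducible.nonempty.eq_univ])⟩
    have h0 : topologicalKrullDim ↥(CohB1.ProjSpace 2 k) ≤ 0 := Order.krullDim_nonpos_of_subsingleton
    rw [S10829.result k 2] at h0
    exact absurd h0 (by decide)
  have hgen := (ModifLib.topologicalKrullDim_le σ ⟨V, hV, hiso⟩).1
  have hηV : genericPoint X ∈ σ ⁻¹ᵁ V := by
    show σ (genericPoint X) ∈ V
    rw [hgen]
    exact ((genericPoint_spec _).mem_open_set_iff V.2).2 (by simpa using hV)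
  haveI : IsIso (σ.stalkMap (genericPoint X)) :=
    ((MorphismProperty.isomorphisms CommRingCat.{u}).arrow_mk_iso_iff
      (morphismRestrictStalkMap σ V ⟨_, hηV⟩)).1
        (show IsIso ((σ ∣_ V).stalkMap ⟨_, hηV⟩) from inferInstance)
  haveI hO : IsIso (ClSub.unitToPush σ) := by
    rw [Scheme.Modules.Hom.isIso_iff_isIso_app]
    intro W
    haveI := S13129.isIso_app_of_birational σ hn hgen W
    rw [ConcreteCategory.isIso_iff_bijective]
    exact ConcreteCategory.bijective_of_isIso (σ.app W)
  -- the plane has rational singularities, so `R¹σ_* O = 0`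
  haveI : EnoughInjectives X.Modules := ModShf.schemeModulesEnoughInjectives _
  have hOS : Coh.IsCoh (Coh.structureModule X) := ProperFin.isCoh_structureModule X
  have hR1 : IsZero ((Coh.Rpush σ 1).obj (Coh.structureModule X)) := by
    refine ChiPoly.isZero_of_stalks fun x => ?_
    by_contra hx
    obtain ⟨z, hz, hzc⟩ := IsClosed.exists_closed_singleton
      (CohDev.isClosed_support (Groth.Agent.S0036.result σ _ hOS 1)) ⟨x, hx⟩
    haveI := DualAbs.isRegularLocalRing_stalk (k := k) (N := 2) z
    exact hz (S15137.subsingleton_stalk_R1 σ hn' V hV hgen z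
      (S1648.result _ (FFCurve.CurveStalk.isNagata_stalk k _ z)
        ((DualAbs.ringKrullDim_stalk_closed (k := k) (N := 2) hzc).trans (by norm_num))))
  let R := CohAff.FRes.ofMod (Coh.structureModule X)
  haveI : (R.Z 0).IsQuasicoherent := hOS.1
  obtain ⟨e⟩ := S15137.nonempty_edge σ hσk R (hR1.of_iso (R.rpushIsoRc σ 0).symm)
  let e' := (S7338.hIsoLin (A := k) (asIso (ClSub.unitToPush σ)) 1).trans e
  have hq : Module.finrank k (Coh.HH X (Coh.structureModule X) 1) = 0 := by
    refine e'.finrank_eq.symm.trans ?_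
    refine ((SurfRR.hhEquiv k (ProjTwist.twistZeroIso (CohB1.polyGrading 2 k)) 1).finrank_eq).trans ?_
    haveI : Subsingleton (Coh.HH (CohB1.ProjSpace 2 k) (Twist.twistProjSpace 2 k 0) 1) :=
      ProjTwist.Pn.subsingleton_twist (n := 2) (R := k) 0 0 (Or.inl (by norm_num))
    have h0 : Module.finrank k (Coh.HH (CohB1.ProjSpace 2 k) (Twist.twistProjSpace 2 k 0) 1) = 0 :=
      Module.finrank_zero_of_subsingleton
    exact h0
  -- Riemann–Roch
  haveI : IrreducibleSpace X := inferInstance
  have hdim' : ∀ T ∈ irreducibleComponents (X : Type u), topologicalKrullDim T = 2 := fun T hT => by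
    have : irreducibleComponents (X : Type u) = {Set.univ} := irreducibleComponents_eq_singleton
    rw [this, Set.mem_singleton_iff] at hT
    subst hT
    rw [IsHomeomorph.topologicalKrullDim_eq _ (Homeomorph.Set.univ X).isHomeomorph, hdim]
  haveI := SurfRR.smoothRelDim_two k hdim'
  obtain ⟨n, i, hi, hik⟩ := SurfRR.exists_embedding k hdim'
  haveI := hi
  have hd : topologicalKrullDim X ≤ (2 : ℕ) := hdim.le
  have hWi : PicF.IsInvertible W := SurfRR.isInvertible_canonical k i hik W hW
  have hh2 := S16559.result k r P hP hPc hZ X σ hσk hσ hdim L hL hLH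
  have hRR' := SurfRR.riemann_roch k i hik W hW hL
  rw [SurfRR.pr_eq_intNum k hd hL hL, SurfRR.pr_eq_intNum k hd hL hWi] at hRR
  have hχ := SurfRR.euler_eq_three k hd L
  have hχO := SurfRR.euler_eq_three k hd (Coh.structureModule X)
  rw [hq] at hχO
  have h2 : Module.finrank k (Coh.HH X L 2) = 0 := Module.finrank_zero_of_subsingleton
  rw [h2] at hχ
  rw [VBLib.finrank_H0_structure_eq_one VBLib.bijective_toGlobal_of_isAlgClosed] at hχO
  push_cast at hχ hχO
  exact Module.nontrivial_of_finrank_pos (R := k) (by omega)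


end Groth.Agent.S16560
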