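import Groth.Statements.S16561
import Groth.Agent.Blow44.CurveDrop
import Groth.Agent.VBLib.RR
import Groth.Agent.S16559

set_option autoImplicit false
universe u
open CategoryTheory CategoryTheory.Limits AlgebraicGeometry TopologicalSpace
open Surf

namespace Groth.Agent.S16561

/-- Let k be an algebraically closed field, p_1, …, p_r distinct closed points of the projective plane
P²_k and σ : X → P²_k the blow-up of P²_k in the ideal of the reduced finite set {p_1, …, p_r}
(universal property), X being regarded over k through σ; X is then an integral smooth proper surface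
(carried as hypotheses). Write H = σ^*O(1), (L·M) = χ(O_X) − χ(L) − χ(M) + χ(L ⊗ M) for the
intersection number of invertible modules L, M, and for a closed subscheme C ⊆ X with ideal I_C
write (L·C) = χ(O_C ⊗ L) − χ(O_C) and C² = (I_C·I_C). A (−1)-curve is an integral closed
one-dimensional subscheme E ⊆ X with H¹(E, O_E) = 0 and E² = −1. Let L be an invertible O_X-module,
d = (L·H), χ⁻ = max(−χ(L), 0), and E a (−1)-curve with (H·E) ≤ d + 2. If dim_k H¹(X, L) = χ⁻, then
(L·E) ≥ −1 − χ⁻. (The source takes the points in general position; that assumption plays no role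
here.) -/
theorem result (k : Type u) [Field k] [IsAlgClosed k]
    (r : ℕ) (P : Fin r → ↥(CohB1.ProjSpace 2 k)) (hP : Function.Injective P)
    (hPc : ∀ i, IsClosed ({P i} : Set ↥(CohB1.ProjSpace 2 k))) (hZ : IsClosed (Set.range P))
    (X : Scheme.{u}) [X.Over (Spec (CommRingCat.of k))] (σ : X ⟶ CohB1.ProjSpace 2 k)
    (hσk : σ ≫ CohB1.ProjSpace.toSpec 2 k = X ↘ (Spec (CommRingCat.of k)))
    (hσ : BlowUp.IsBlowUp σ (Scheme.IdealSheafData.vanishingIdeal ⟨Set.range P, hZ⟩))
    [IsIntegral X] [IsProper (X ↘ (Spec (CommRingCat.of k)))] [Smooth (X ↘ (Spec (CommRingCat.of k)))] (hdim : topologicalKrullDim X = 2)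
    (L : X.Modules) (hL : PicF.IsInvertible L)
    (E : X.IdealSheafData) (hEi : IsIntegral E.subscheme) (hE1 : topologicalKrullDim (E.support : Set X) = 1)
    (hEg : Subsingleton (Coh.HH E.subscheme (Coh.structureModule E.subscheme) 1))
    (hEE : FGA.intNum k X 2 ![ClSub.idealMod E, ClSub.idealMod E] (Coh.structureModule X) = -1)
    (hEH : (Curv2.euler k X (CohB1.tensorMod (ClSub.quotMod E) ((Scheme.Modules.pullback σ).obj (Twist.twistProjSpace 2 k 1))) - Curv2.euler k X (ClSub.quotMod E)) ≤ FGA.intNum k X 2 ![L, ((Scheme.Modules.pullback σ).obj (Twist.twistProjSpace 2 k 1))] (Coh.structureModule X) + 2)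
    (h1 : (Module.finrank k (Coh.HH X L 1) : ℤ) = max (-Curv2.euler k X L) 0) :
    -1 - max (-Curv2.euler k X L) 0 ≤ (Curv2.euler k X (CohB1.tensorMod (ClSub.quotMod E) L) - Curv2.euler k X (ClSub.quotMod E)) := by
  haveI := EulerChar.isNoetherian k (X := X)
  haveI := hEi
  have hI := Blow44.isInvertible_excCurve k hdim E hE1
  have hd : topologicalKrullDim X ≤ (2 : ℕ) := hdim.le
  have hH : PicF.IsInvertible ((Scheme.Modules.pullback σ).obj (Twist.twistProjSpace 2 k 1)) :=
    PicCl.isInvertible_pullback σ ProjTwist.Pn.isAmple_one.1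
  rw [Blow44.deg_eq_neg_pr k E hI hH, SurfRR.pr_eq_intNum k hd hL hH] at hEH
  have hLI := AmpleLib.isInvertible_tensorMod hL hI
  haveI hv := S16559.result k r P hP hPc hZ X σ hσk hσ hdim _ hLI (by
    rw [SurfRR.pr_eq_intNum k hd hLI hH, SurfRR.pr_mul k hd hL hI hH]
    omega)
  have hL1 := ProjTwist.isFinLocFreeOfRank_one hL
  have hS := CohDev.tens_shortExact hL1 (EulerChar.shortExact_ideal E)
  let g := CurveCoh.mapL k ((DCoh.tensorBi.obj L).map (ClSub.toSubscheme E)) 1
  have hsurj : Function.Surjective g := fun y => by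
    obtain ⟨x, hx⟩ := (CurveCoh.exact_mapL_deltaL k hS 1 2 rfl y).1 (@Subsingleton.elim _ hv _ _)
    exact ⟨x, hx⟩
  haveI := EulerChar.finite_HH k L (BigVol.isCoh_of_isInvertible hL) 1
  haveI : Module.Finite k (Coh.HH X (CohB1.tensorMod L (Coh.structureModule X)) 1) :=
    Module.Finite.equiv (SurfRR.hhEquiv k (ProjTwist.tensOne L).symm 1)
  have hle : Module.finrank k (Coh.HH X (CohDev.tens L (ClSub.quotMod E)) 1) ≤
      Module.finrank k (Coh.HH X L 1) := by
    rw [← (SurfRR.hhEquiv k (ProjTwist.tensOne L) 1).finrank_eq]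
    exact LinearMap.finrank_le_finrank_of_surjective (f := (g : Coh.HH X (CohB1.tensorMod L (Coh.structureModule X)) 1 →ₗ[k] _)) hsurj
  letI : E.subscheme.Over (Spec (CommRingCat.of k)) := ⟨E.subschemeι ≫ (X ↘ Spec (CommRingCat.of k))⟩
  haveI : IsProper (E.subscheme ↘ Spec (CommRingCat.of k)) :=
    inferInstanceAs (IsProper (E.subschemeι ≫ (X ↘ Spec (CommRingCat.of k))))
  have hdE : topologicalKrullDim E.subscheme = 1 := by
    rw [IsHomeomorph.topologicalKrullDim_eq _ (E.subschemeι.isEmbedding.toHomeomorph.trans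
      (Homeomorph.setCongr E.range_subschemeι)).isHomeomorph]
    exact hE1
  haveI : L.IsQuasicoherent := (BigVol.isCoh_of_isInvertible hL).1
  have hLE := PicCl.isInvertible_pullback E.subschemeι hL
  rw [(SurfRR.hhEquiv k (EulerChar.tensQuotIso E.subschemeι L) 1).finrank_eq,
    (EulerChar.nonempty_pushEquiv (A := k) E.subschemeι rfl ((Scheme.Modules.pullback E.subschemeι).obj L)
      (ProjTwist.isQCoh_of_isInvertible hLE) 1).some.finrank_eq] at hle
  haveI := hEg
  have h0 : Module.finrank k (Coh.HH E.subscheme (Coh.structureModule E.subscheme) 0) = 1 :=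
    VBLib.finrank_H0_structure_eq_one VBLib.bijective_toGlobal_of_isAlgClosed
  have h01 : Module.finrank k (Coh.HH E.subscheme (Coh.structureModule E.subscheme) 1) = 0 :=
    Module.finrank_zero_of_subsingleton
  rw [BigVol.CurveTest.euler_sub_eq_deg k E hL, Curv2.deg, CurveSimple.euler_eq k hdE,
    CurveSimple.euler_eq k hdE, h0, h01]
  rw [← h1]
  push_cast
  omega


end Groth.Agent.S16561
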