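import Groth.Statements.S16562
import Groth.Agent.Blow44.CurveDrop
import Groth.Agent.ProjTwist.Pn.GlobGen
import Groth.Agent.S16558

set_option autoImplicit false
universe u
open CategoryTheory CategoryTheory.Limits AlgebraicGeometry TopologicalSpace
open Surf

namespace Groth.Agent.S16562

/-- Let k be an algebraically closed field, p_1, …, p_r distinct closed points of the projective plane
P²_k and σ : X → P²_k the blow-up of P²_k in the ideal of the reduced finite set {p_1, …, p_r}
(universal property), X being regarded over k through σ; X is then an integral smooth proper surface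
(carried as hypotheses). Write H = σ^*O(1), (L·M) = χ(O_X) − χ(L) − χ(M) + χ(L ⊗ M) for the
intersection number of invertible modules L, M, and for a closed subscheme C ⊆ X with ideal I_C
write (L·C) = χ(O_C ⊗ L) − χ(O_C) and C² = (I_C·I_C). A (−1)-curve is an integral closed
one-dimensional subscheme E ⊆ X with H¹(E, O_E) = 0 and E² = −1. If L is an invertible O_X-module
and E a (−1)-curve whose H-degree satisfies 2(H·E) > (L·H), and (L·E) < −1, then H⁰(X, L) = 0. (The
source takes the points in general position; that assumption plays no role here.) -/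
theorem result (k : Type u) [Field k] [IsAlgClosed k]
    (r : ℕ) (P : Fin r → ↥(CohB1.ProjSpace 2 k)) (hP : Function.Injective P)
    (hPc : ∀ i, IsClosed ({P i} : Set ↥(CohB1.ProjSpace 2 k))) (hZ : IsClosed (Set.range P))
    (X : Scheme.{u}) [X.Over (Spec (CommRingCat.of k))] (σ : X ⟶ CohB1.ProjSpace 2 k)
    (hσk : σ ≫ CohB1.ProjSpace.toSpec 2 k = X ↘ (Spec (CommRingCat.of k)))
    (hσ : BlowUp.IsBlowUp σ (Scheme.IdealSheafData.vanishingIdeal ⟨Set.range P, hZ⟩))
    [IsIntegral X] [IsProper (X ↘ (Spec (CommRingCat.of k)))] [Smooth (X ↘ (Spec (CommRingCat.of k)))] (hdim : topologicalKrullDim X = 2)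
    (L : X.Modules) (hL : PicF.IsInvertible L)
    (E : X.IdealSheafData) (hEi : IsIntegral E.subscheme) (hE1 : topologicalKrullDim (E.support : Set X) = 1)
    (hEg : Subsingleton (Coh.HH E.subscheme (Coh.structureModule E.subscheme) 1))
    (hEE : FGA.intNum k X 2 ![ClSub.idealMod E, ClSub.idealMod E] (Coh.structureModule X) = -1)
    (hEH : FGA.intNum k X 2 ![L, ((Scheme.Modules.pullback σ).obj (Twist.twistProjSpace 2 k 1))] (Coh.structureModule X) < 2 * (Curv2.euler k X (CohB1.tensorMod (ClSub.quotMod E) ((Scheme.Modules.pullback σ).obj (Twist.twistProjSpace 2 k 1))) - Curv2.euler k X (ClSub.quotMod E)))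
    (hLE : (Curv2.euler k X (CohB1.tensorMod (ClSub.quotMod E) L) - Curv2.euler k X (ClSub.quotMod E)) < -1) :
    Subsingleton (Coh.HH X L 0) := by
  haveI := EulerChar.isNoetherian k (X := X)
  haveI := hEi
  letI : (CohB1.ProjSpace 2 k).Over (Spec (CommRingCat.of k)) := ⟨CohB1.ProjSpace.toSpec 2 k⟩
  have hI := Blow44.isInvertible_excCurve k hdim E hE1
  have hH : PicF.IsInvertible ((Scheme.Modules.pullback σ).obj (Twist.twistProjSpace 2 k 1)) :=
    PicCl.isInvertible_pullback σ ProjTwist.Pn.isAmple_one.1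
  have hd : topologicalKrullDim X ≤ (2 : ℕ) := hdim.le
  set H := (Scheme.Modules.pullback σ).obj (Twist.twistProjSpace 2 k 1)
  have hL1 := AmpleLib.isInvertible_tensorMod hI hL
  have hL2 := AmpleLib.isInvertible_tensorMod hI hL1
  rw [SurfRR.pr_eq_intNum k hd hI hI] at hEE
  rw [SurfRR.pr_eq_intNum k hd hL hH, Blow44.deg_eq_neg_pr k E hI hH] at hEH
  have h1 := Blow44.h0_drop k E hE1 hI hL (by omega)
  rw [Blow44.deg_eq_neg_pr k E hI hL] at hLE
  have h2 := Blow44.h0_drop k E hE1 hI hL1 (by
    rw [Blow44.deg_eq_neg_pr k E hI hL1, SurfRR.pr_comm, SurfRR.pr_mul k hd hI hL hI,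
      SurfRR.pr_comm k L (ClSub.idealMod E)]
    omega)
  have h3 := S16558.result k r P hP hPc hZ X σ hσk hσ hdim _ hL2 (by
    rw [SurfRR.pr_eq_intNum k hd hL2 hH, SurfRR.pr_mul k hd hI hL1 hH, SurfRR.pr_mul k hd hI hL hH]
    omega)
  haveI := h3
  haveI := EulerChar.finite_HH k L (BigVol.isCoh_of_isInvertible hL) 0
  have hz : BigVol.h0 k (CohB1.tensorMod (ClSub.idealMod E) (CohB1.tensorMod (ClSub.idealMod E) L)) = 0 := Module.finrank_zero_of_subsingleton
  have h0 : Module.finrank k (Coh.HH X L 0) = 0 := by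
    change BigVol.h0 k L = 0
    omega
  exact Module.finrank_zero_iff.1 h0


end Groth.Agent.S16562
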