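import Groth.Statements.S16563
import Groth.Agent.Blow44.CurveDrop
import Groth.Agent.VertInter.Comp

set_option autoImplicit false
universe u
open CategoryTheory CategoryTheory.Limits AlgebraicGeometry TopologicalSpace
open Surf

namespace Groth.Agent.S16563

/-- Let k be an algebraically closed field, p_1, …, p_r distinct closed points of the projective plane
P²_k and σ : X → P²_k the blow-up of P²_k in the ideal of the reduced finite set {p_1, …, p_r}
(universal property), X being regarded over k through σ; X is then an integral smooth proper surface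
(carried as hypotheses). Write H = σ^*O(1), (L·M) = χ(O_X) − χ(L) − χ(M) + χ(L ⊗ M) for the
intersection number of invertible modules L, M, and for a closed subscheme C ⊆ X with ideal I_C
write (L·C) = χ(O_C ⊗ L) − χ(O_C) and C² = (I_C·I_C). A (−1)-curve is an integral closed
one-dimensional subscheme E ⊆ X with H¹(E, O_E) = 0 and E² = −1. Let L be an invertible O_X-module
and E a (−1)-curve with ideal I_E such that (L·E) = −s with s > 1. Then dim_k H⁰(X, L ⊗ I_E^s) =
dim_k H⁰(X, L); equivalently the injection H⁰(X, L ⊗ I_E^s) → H⁰(X, L) induced by I_E^s ⊆ O_X is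
bijective. (The source takes the points in general position; that assumption plays no role here.) -/
theorem result (k : Type u) [Field k] [IsAlgClosed k]
    (r : ℕ) (P : Fin r → ↥(CohB1.ProjSpace 2 k)) (hP : Function.Injective P)
    (hPc : ∀ i, IsClosed ({P i} : Set ↥(CohB1.ProjSpace 2 k))) (hZ : IsClosed (Set.range P))
    (X : Scheme.{u}) [X.Over (Spec (CommRingCat.of k))] (σ : X ⟶ CohB1.ProjSpace 2 k)
    (hσk : σ ≫ CohB1.ProjSpace.toSpec 2 k = X ↘ (Spec (CommRingCat.of k)))
    (hσ : BlowUp.IsBlowUp σ (Scheme.IdealSheafData.vanishingIdeal ⟨Set.range P, hZ⟩))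
    [IsIntegral X] [IsProper (X ↘ (Spec (CommRingCat.of k)))] [Smooth (X ↘ (Spec (CommRingCat.of k)))] (hdim : topologicalKrullDim X = 2)
    (L : X.Modules) (hL : PicF.IsInvertible L)
    (E : X.IdealSheafData) (hEi : IsIntegral E.subscheme) (hE1 : topologicalKrullDim (E.support : Set X) = 1)
    (hEg : Subsingleton (Coh.HH E.subscheme (Coh.structureModule E.subscheme) 1))
    (hEE : FGA.intNum k X 2 ![ClSub.idealMod E, ClSub.idealMod E] (Coh.structureModule X) = -1)
    (s : ℕ) (hs : 1 < s) (hLE : (Curv2.euler k X (CohB1.tensorMod (ClSub.quotMod E) L) - Curv2.euler k X (ClSub.quotMod E)) = -(s : ℤ)) :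
    Module.finrank k (Coh.HH X (CohB1.tensorMod L (ClSub.idealMod (E ^ s))) 0) = Module.finrank k (Coh.HH X L 0) := by
  haveI := EulerChar.isNoetherian k (X := X)
  haveI := hEi
  have hI := Blow44.isInvertible_excCurve k hdim E hE1
  have hd : topologicalKrullDim X ≤ (2 : ℕ) := hdim.le
  have hE : BlowUp.IsEffCartierIdeal E := IdealSh.IdealMod.isEffCartierIdeal_of_isInvertible E hI
  rw [SurfRR.pr_eq_intNum k hd hI hI] at hEE
  rw [Blow44.deg_eq_neg_pr k E hI hL] at hLE
  have key : ∀ j : ℕ, 1 ≤ j → j ≤ s →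
      SurfRR.pr k (ClSub.idealMod (E ^ j)) (ClSub.idealMod E) = -(j : ℤ) ∧
      BigVol.h0 k (CohB1.tensorMod (ClSub.idealMod (E ^ j)) L) = BigVol.h0 k L := by
    have step : ∀ N : X.Modules, PicF.IsInvertible N → 0 < SurfRR.pr k (ClSub.idealMod E) N →
        BigVol.h0 k (CohB1.tensorMod (ClSub.idealMod E) N) = BigVol.h0 k N := by
      intro N hN hpos
      refine le_antisymm (BigVol.h0_le_of_sub k (BigVol.isCoh_of_isInvertible hN) ?_)
        (Blow44.h0_drop k E hE1 hI hN (by rw [Blow44.deg_eq_neg_pr k E hI hN]; omega))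
      exact (BigVol.Sub.tensor hN ⟨ClSub.idealModι E, inferInstanceAs (Mono (kernel.ι _))⟩).iso
        (ProjTwist.oneTens N)
    intro j hj
    induction j, hj using Nat.le_induction with
    | base =>
      intro _
      rw [pow_one, hEE]
      exact ⟨rfl, step L hL (by omega)⟩
    | succ j hj ih =>
      intro hjs
      obtain ⟨ih1, ih2⟩ := ih (by omega)
      have hEj : BlowUp.IsEffCartierIdeal (E ^ j) := IdealSh.EffCartier.pow hE j
      have hJ := IdealSh.IdealMod.isInvertible_of_isEffCartierIdeal _ hEj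
      obtain ⟨e⟩ := VertInter.nonempty_idealMod_mul hE hEj
      rw [← pow_succ'] at e
      refine ⟨?_, ?_⟩
      · rw [SurfRR.pr_congr k e.symm, SurfRR.pr_mul k hd hI hJ hI, hEE, ih1]
        push_cast
        ring
      · have hN := AmpleLib.isInvertible_tensorMod hJ hL
        have hs' := step _ hN (by
          rw [SurfRR.pr_comm, SurfRR.pr_mul k hd hJ hL hI, ih1, SurfRR.pr_comm k L]
          omega)
        rw [BigVol.h0, BigVol.h0, (SurfRR.hhEquiv k (ProjTwist.tensCongr e.symm (Iso.refl L) ≪≫
          ProjTwist.tensAssoc _ _ L) 0).finrank_eq]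
        exact hs'.trans ih2
  have h := (key s hs.le le_rfl).2
  rw [BigVol.h0, BigVol.h0] at h
  rw [← h]
  exact (SurfRR.hhEquiv k (ProjTwist.tensComm L (ClSub.idealMod (E ^ s))) 0).finrank_eq


end Groth.Agent.S16563
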