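import Groth.Statements.S16564
import Groth.Agent.Blow44.CurveDrop
import Groth.Agent.VBLib.RR
import Groth.Agent.Blow44.CurveComap
import Groth.Agent.RedSub.Basic


set_option autoImplicit false
set_option maxHeartbeats 400000
universe u
open CategoryTheory CategoryTheory.Limits AlgebraicGeometry TopologicalSpace
open Surf

namespace Groth.Agent.Blow44

/-- A curve with `C² = χ(I) - 1` has `C² ≥ -1` when `χ(O_X) = 1`. -/
theorem false_of_chi (k : Type u) [Field k] [IsAlgClosed k] {X : Scheme.{u}}
    [X.Over (Spec (CommRingCat.of k))] [IsProper (X ↘ Spec (CommRingCat.of k))] {C : X.IdealSheafData}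
    [IsIntegral C.subscheme] [C.subscheme.Over (Spec (CommRingCat.of k))]
    [IsProper (C.subscheme ↘ Spec (CommRingCat.of k))]
    (hI : PicF.IsInvertible (ClSub.idealMod C)) {p : ℤ} (hlt : p < -1)
    (h2 : 1 - 1 - Curv2.euler k X (ClSub.idealMod C) + 1 = -p)
    (hχO : Curv2.euler k X (Coh.structureModule X) = 1) (hC1 : topologicalKrullDim (C.support : Set X) = 1)
    (w : C.subschemeι ≫ (X ↘ Spec (CommRingCat.of k)) = C.subscheme ↘ Spec (CommRingCat.of k) := by rfl) :
    False := by
  have hdC : topologicalKrullDim C.subscheme = 1 := by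
    rw [IsHomeomorph.topologicalKrullDim_eq _ (C.subschemeι.isEmbedding.toHomeomorph.trans
      (Homeomorph.setCongr C.range_subschemeι)).isHomeomorph]
    exact hC1
  have h := SurfRR.euler_ker k C.subschemeι w (by rw [Scheme.IdealSheafData.ker_subschemeι]; exact hI)
  rw [Scheme.IdealSheafData.ker_subschemeι, hχO, CurveSimple.euler_eq k hdC (Coh.structureModule C.subscheme),
    VBLib.finrank_H0_structure_eq_one VBLib.bijective_toGlobal_of_isAlgClosed] at h
  omega

end Groth.Agent.Blow44

namespace Groth.Agent.S16564

/-- Let k be an algebraically closed field, p_1, …, p_r distinct closed points of the projective plane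
P²_k and σ : X → P²_k the blow-up of P²_k in the ideal of the reduced finite set {p_1, …, p_r}
(universal property), X being regarded over k through σ; X is then an integral smooth proper surface
(carried as hypotheses). Write H = σ^*O(1), (L·M) = χ(O_X) − χ(L) − χ(M) + χ(L ⊗ M) for the
intersection number of invertible modules L, M, and for a closed subscheme C ⊆ X with ideal I_C
write (L·C) = χ(O_C ⊗ L) − χ(O_C) and C² = (I_C·I_C). A (−1)-curve is an integral closed
one-dimensional subscheme E ⊆ X with H¹(E, O_E) = 0 and E² = −1. Call an invertible module M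
non-special when at most one of H⁰(X, M), H¹(X, M), H²(X, M) is nonzero. Suppose every invertible M
with (M·E) ≥ −1 for every (−1)-curve E is non-special (the non-speciality hypothesis for X). Then no
integral closed one-dimensional subscheme C ⊆ X has C² ≤ −2. (The source concludes that the curves
of negative self-intersection are exactly the (−1)-curves; its argument treats C² ≤ −2, which is
what is stated here.) (The source takes the points in general position; that assumption plays no
role here.) -/
theorem result (k : Type u) [Field k] [IsAlgClosed k]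
    (r : ℕ) (P : Fin r → ↥(CohB1.ProjSpace 2 k)) (hP : Function.Injective P)
    (hPc : ∀ i, IsClosed ({P i} : Set ↥(CohB1.ProjSpace 2 k))) (hZ : IsClosed (Set.range P))
    (X : Scheme.{u}) [X.Over (Spec (CommRingCat.of k))] (σ : X ⟶ CohB1.ProjSpace 2 k)
    (hσk : σ ≫ CohB1.ProjSpace.toSpec 2 k = X ↘ (Spec (CommRingCat.of k)))
    (hσ : BlowUp.IsBlowUp σ (Scheme.IdealSheafData.vanishingIdeal ⟨Set.range P, hZ⟩))
    [IsIntegral X] [IsProper (X ↘ (Spec (CommRingCat.of k)))] [Smooth (X ↘ (Spec (CommRingCat.of k)))] (hdim : topologicalKrullDim X = 2)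
    (hconj : ∀ (M : X.Modules), PicF.IsInvertible M →
      (∀ (E : X.IdealSheafData), IsIntegral E.subscheme → topologicalKrullDim (E.support : Set X) = 1 →
        Subsingleton (Coh.HH E.subscheme (Coh.structureModule E.subscheme) 1) →
        FGA.intNum k X 2 ![ClSub.idealMod E, ClSub.idealMod E] (Coh.structureModule X) = -1 →
        -1 ≤ (Curv2.euler k X (CohB1.tensorMod (ClSub.quotMod E) M) - Curv2.euler k X (ClSub.quotMod E))) →
      ((Subsingleton (Coh.HH X M 0) ∧ Subsingleton (Coh.HH X M 1)) ∨ (Subsingleton (Coh.HH X M 0) ∧ Subsingleton (Coh.HH X M 2)) ∨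
        (Subsingleton (Coh.HH X M 1) ∧ Subsingleton (Coh.HH X M 2))))
    (C : X.IdealSheafData) (hCi : IsIntegral C.subscheme) (hC1 : topologicalKrullDim (C.support : Set X) = 1) :
    -1 ≤ FGA.intNum k X 2 ![ClSub.idealMod C, ClSub.idealMod C] (Coh.structureModule X) := by
  haveI := EulerChar.isNoetherian k (X := X)
  haveI := hCi
  by_contra hlt
  push Not at hlt
  have hd : topologicalKrullDim X ≤ (2 : ℕ) := hdim.le
  have hI := Blow44.isInvertible_excCurve k hdim C hC1
  rw [SurfRR.pr_eq_intNum k hd hI hI] at hlt
  obtain ⟨M, hM, ⟨e⟩⟩ := PicLaw.exists_inverse hI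
  have hO := LFFrame.isInvertible_structureModule X
  have hprM : ∀ B : X.Modules, PicF.IsInvertible B →
      SurfRR.pr k M B = -SurfRR.pr k (ClSub.idealMod C) B :=
    fun B hB => SurfRR.pr_inv k hd hI hM hB e
  have eqVan : ∀ (I : X.IdealSheafData) [IsReduced I.subscheme],
      I = Scheme.IdealSheafData.vanishingIdeal I.support := fun I _ => by
    conv_lhs => rw [← I.ker_subschemeι]
    exact RedSub.ker_eq_vanishingIdeal I.subschemeι I.support I.range_subschemeι
  -- the structure sheaf is non-special
  have hO0 : Module.finrank k (Coh.HH X (Coh.structureModule X) 0) = 1 :=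
    VBLib.finrank_H0_structure_eq_one VBLib.bijective_toGlobal_of_isAlgClosed
  have hnO : ¬ Subsingleton (Coh.HH X (Coh.structureModule X) 0) := fun h => by
    rw [Module.finrank_zero_of_subsingleton] at hO0
    exact zero_ne_one hO0
  have hsp : Subsingleton (Coh.HH X (Coh.structureModule X) 1) ∧ Subsingleton (Coh.HH X (Coh.structureModule X) 2) := by
    rcases hconj _ hO (fun E hEi hE1 _ _ => by
      haveI := hEi
      rw [Blow44.deg_eq_neg_pr k E (Blow44.isInvertible_excCurve k hdim E hE1) hO, SurfRR.pr_comm,
        SurfRR.pr_one]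
      norm_num) with ⟨h, -⟩ | ⟨h, -⟩ | h
    · exact absurd h hnO
    · exact absurd h hnO
    · exact h
  have hχO : Curv2.euler k X (Coh.structureModule X) = 1 := by
    haveI := hsp.1
    haveI := hsp.2
    rw [SurfRR.euler_eq_three k hd, hO0, Module.finrank_zero_of_subsingleton,
      Module.finrank_zero_of_subsingleton]
    norm_num
  -- the sections of `M`
  have hneg : Curv2.euler k X (CohB1.tensorMod (ClSub.quotMod C) M) - Curv2.euler k X (ClSub.quotMod C) =
      SurfRR.pr k (ClSub.idealMod C) (ClSub.idealMod C) := by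
    rw [Blow44.deg_eq_neg_pr k C hI hM, SurfRR.pr_comm, hprM _ hI, neg_neg]
  have hle := Blow44.h0_drop k C hC1 hI hM (by omega)
  have he0 : BigVol.h0 k (CohB1.tensorMod (ClSub.idealMod C) M) = 1 := by
    rw [BigVol.h0, (SurfRR.hhEquiv k e 0).finrank_eq, hO0]
  have hge : BigVol.h0 k (Coh.structureModule X) ≤ BigVol.h0 k M := by
    refine BigVol.h0_le_of_sub k (BigVol.isCoh_of_isInvertible hM)
      ((BigVol.Sub.of_iso e.symm).trans ((BigVol.Sub.tensor hM
        ⟨ClSub.idealModι C, inferInstanceAs (Mono (kernel.ι _))⟩).iso (ProjTwist.oneTens M)))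
  have hM0 : Module.finrank k (Coh.HH X M 0) = 1 := by
    simp only [BigVol.h0] at hle he0 hge
    omega
  have hnM : ¬ Subsingleton (Coh.HH X M 0) := fun h => by
    rw [Module.finrank_zero_of_subsingleton] at hM0
    exact zero_ne_one hM0
  have hspM : Subsingleton (Coh.HH X M 1) ∧ Subsingleton (Coh.HH X M 2) := by
    rcases hconj M hM (fun E hEi hE1 _ hEE => by
      haveI := hEi
      have hIE := Blow44.isInvertible_excCurve k hdim E hE1
      rw [SurfRR.pr_eq_intNum k hd hIE hIE] at hEE
      rw [Blow44.deg_eq_neg_pr k E hIE hM, SurfRR.pr_comm, hprM _ hIE, neg_neg, SurfRR.pr_comm]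
      have hEC : E ≠ C := fun h => by subst h; omega
      have hns : ¬ (E.support : Set X) ⊆ C.support := fun hsub => hEC <| by
        have heq : (E.support : Set X) = C.support := by
          refine hsub.antisymm ?_
          by_contra hns'
          have hirr : IsIrreducible (C.support : Set X) := by
            rw [← C.range_subschemeι, ← Set.image_univ]
            exact (IrreducibleSpace.isIrreducible_univ _).image _ C.subschemeι.continuous.continuousOn
          have := CohDev.dim_lt_of_irreducible E.support.isClosed hirr hsub hns' (n := 1) hC1.le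
          exact absurd this (not_lt.2 hE1.ge)
        rw [eqVan E, eqVan C]
        exact congrArg _ (SetLike.coe_injective heq)
      have hd' := Blow44.deg_idealMod_nonpos k E hE1 C
        (IdealSh.IdealMod.isEffCartierIdeal_of_isInvertible C hI) hns
      rw [Blow44.deg_eq_neg_pr k E hIE hI] at hd'
      omega) with ⟨h, -⟩ | ⟨h, -⟩ | h
    · exact absurd h hnM
    · exact absurd h hnM
    · exact h
  have hχM : Curv2.euler k X M = 1 := by
    haveI := hspM.1
    haveI := hspM.2
    rw [SurfRR.euler_eq_three k hd, hM0, Module.finrank_zero_of_subsingleton,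
      Module.finrank_zero_of_subsingleton]
    norm_num
  -- the restriction to `C`
  have h2 := hprM _ hI
  rw [SurfRR.pr_eq, EulerChar.euler_iso k e, hχM, hχO] at h2
  letI : C.subscheme.Over (Spec (CommRingCat.of k)) := ⟨C.subschemeι ≫ (X ↘ Spec (CommRingCat.of k))⟩
  haveI : IsProper (C.subscheme ↘ Spec (CommRingCat.of k)) :=
    inferInstanceAs (IsProper (C.subschemeι ≫ (X ↘ Spec (CommRingCat.of k))))
  exact Blow44.false_of_chi k hI hlt h2 hχO hC1

end Groth.Agent.S16564
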