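import Groth.Statements.S16572
import Mathlib

set_option autoImplicit false
universe u
open CAlg

namespace Groth.Agent.S16572

/-- Let A be a commutative ring and T the quotient of the polynomial ring over A in indeterminates X_P,
one for each monic polynomial P over A of positive degree, by the ideal generated by the elements
P(X_P). Then the map on prime spectra Spec T → Spec A is surjective, and for every prime ideal Q of
T, with p its contraction to A, the residue field of Q is algebraically closed and integral over the
residue field of p under the induced map of residue fields (so it is an algebraic closure of it). -/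
theorem result (A : Type u) [CommRing A] :
    Function.Surjective (PrimeSpectrum.comap (algebraMap A (MvPolynomial {P : Polynomial A // P.Monic ∧ 0 < P.natDegree} A ⧸
      Ideal.span (Set.range fun P : {P : Polynomial A // P.Monic ∧ 0 < P.natDegree} =>
        Polynomial.aeval (MvPolynomial.X (R := A) P) P.1)))) ∧
    ∀ (Q : Ideal (MvPolynomial {P : Polynomial A // P.Monic ∧ 0 < P.natDegree} A ⧸
      Ideal.span (Set.range fun P : {P : Polynomial A // P.Monic ∧ 0 < P.natDegree} =>
        Polynomial.aeval (MvPolynomial.X (R := A) P) P.1))) [Q.IsPrime],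
      IsAlgClosed Q.ResidueField ∧
      (Ideal.ResidueField.map (Q.comap (algebraMap A (MvPolynomial {P : Polynomial A // P.Monic ∧ 0 < P.natDegree} A ⧸
      Ideal.span (Set.range fun P : {P : Polynomial A // P.Monic ∧ 0 < P.natDegree} =>
        Polynomial.aeval (MvPolynomial.X (R := A) P) P.1)))) Q (algebraMap A (MvPolynomial {P : Polynomial A // P.Monic ∧ 0 < P.natDegree} A ⧸
      Ideal.span (Set.range fun P : {P : Polynomial A // P.Monic ∧ 0 < P.natDegree} =>
        Polynomial.aeval (MvPolynomial.X (R := A) P) P.1))) rfl).IsIntegral := by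
  classical
  set σ := {P : Polynomial A // P.Monic ∧ 0 < P.natDegree}
  set I := Ideal.span (Set.range fun P : σ => Polynomial.aeval (MvPolynomial.X (R := A) P) P.1)
  set T := MvPolynomial σ A ⧸ I
  let mk : MvPolynomial σ A →ₐ[A] T := Ideal.Quotient.mkₐ A I
  have hroot : ∀ P : σ, Polynomial.aeval (mk (MvPolynomial.X P)) P.1 = 0 := fun P => by
    rw [Polynomial.aeval_algHom_apply]
    exact Ideal.Quotient.eq_zero_iff_mem.2 (Ideal.subset_span ⟨P, rfl⟩)
  have hint : Algebra.IsIntegral A T := by
    refine ⟨fun t => ?_⟩
    obtain ⟨q, rfl⟩ : ∃ q, mk q = t := Ideal.Quotient.mk_surjective t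
    induction q using MvPolynomial.induction_on with
    | C a => rw [← MvPolynomial.algebraMap_eq, AlgHom.commutes]; exact isIntegral_algebraMap
    | add a b ha hb => rw [map_add]; exact ha.add hb
    | mul_X a P ha =>
      rw [map_mul]
      exact ha.mul ⟨P.1, P.2.1, hroot P⟩
  constructor
  · intro p
    let k := p.asIdeal.ResidueField
    let L := AlgebraicClosure k
    let g : A →+* L := (algebraMap k L).comp (algebraMap A k)
    haveI : Nontrivial A := ⟨0, 1, fun h => p.isPrime.ne_top ((Ideal.eq_top_iff_one _).2 (h ▸ p.asIdeal.zero_mem))⟩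
    have hr : ∀ P : σ, ∃ x : L, Polynomial.eval₂ g x P.1 = 0 := fun P => by
      obtain ⟨x, hx⟩ := IsAlgClosed.exists_root (P.1.map g) (by
        rw [P.2.1.degree_map, Polynomial.degree_eq_natDegree P.2.1.ne_zero]
        exact_mod_cast P.2.2.ne')
      exact ⟨x, by rw [← Polynomial.eval_map]; exact hx⟩
    choose r hr using hr
    let ev : MvPolynomial σ A →+* L := MvPolynomial.eval₂Hom g r
    have hev : ∀ a ∈ I, ev a = 0 := fun a ha => by
      have : I ≤ RingHom.ker ev := by
        rw [Ideal.span_le]
        rintro _ ⟨P, rfl⟩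
        show ev (Polynomial.aeval (MvPolynomial.X (R := A) P) P.1) = 0
        rw [Polynomial.aeval_def, Polynomial.hom_eval₂]
        convert hr P using 2
        · ext a; simp [ev, MvPolynomial.algebraMap_eq]
        · simp [ev]
      exact this ha
    let φ : T →+* L := Ideal.Quotient.lift I ev hev
    refine ⟨⟨RingHom.ker φ, RingHom.ker_isPrime φ⟩, PrimeSpectrum.ext ?_⟩
    ext a
    show φ (algebraMap A T a) = 0 ↔ a ∈ p.asIdeal
    have : φ (algebraMap A T a) = g a := by
      show ev (algebraMap A (MvPolynomial σ A) a) = g a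
      simp [ev, MvPolynomial.algebraMap_eq]
    rw [this, RingHom.comp_apply, map_eq_zero, Ideal.algebraMap_residueField_eq_zero]
  · intro Q hQ
    set p := Q.comap (algebraMap A T)
    let φ := Ideal.ResidueField.map p Q (algebraMap A T) rfl
    letI : Algebra p.ResidueField Q.ResidueField := φ.toAlgebra
    haveI : IsScalarTower A p.ResidueField Q.ResidueField := IsScalarTower.of_algebraMap_eq fun a => by
      rw [IsScalarTower.algebraMap_apply A T Q.ResidueField a]
      exact (Ideal.ResidueField.map_algebraMap _ _ _ _ a).symm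
    have hqi : ∀ t : T, IsIntegral p.ResidueField (algebraMap T Q.ResidueField t) := fun t =>
      ((hint.1 t).map (IsScalarTower.toAlgHom A T Q.ResidueField)).tower_top
    have hKint : Algebra.IsIntegral p.ResidueField Q.ResidueField := by
      refine ⟨fun x => ?_⟩
      obtain ⟨a, ha⟩ := IsFractionRing.div_surjective (T ⧸ Q) x
      obtain ⟨b, hb, rfl⟩ := ha
      obtain ⟨a, rfl⟩ := Ideal.Quotient.mk_surjective a
      obtain ⟨b, rfl⟩ := Ideal.Quotient.mk_surjective b
      rw [div_eq_mul_inv]
      exact (hqi a).mul (hqi b).inv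
    haveI : Algebra.IsAlgebraic p.ResidueField Q.ResidueField := hKint.isAlgebraic
    refine ⟨?_, hKint.1⟩
    haveI : IsAlgClosure p.ResidueField Q.ResidueField := by
      refine IsAlgClosure.of_exists_root fun P hP hPirr => ?_
      obtain ⟨⟨b, hb⟩, hbc⟩ := IsLocalization.exist_integer_multiples (nonZeroDivisors (A ⧸ p))
        (Finset.range P.natDegree) fun i => P.coeff i
      set bb := algebraMap (A ⧸ p) p.ResidueField b
      have hbb : bb ≠ 0 := IsLocalization.to_map_ne_zero_of_mem_nonZeroDivisors _ le_rfl hb
      have hrange : ∀ y, y ∈ Set.range (algebraMap (A ⧸ p) p.ResidueField) → y ∈ Set.range (algebraMap A p.ResidueField) := by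
        rintro _ ⟨y, rfl⟩
        obtain ⟨y, rfl⟩ := Ideal.Quotient.mk_surjective y
        exact ⟨y, (IsScalarTower.algebraMap_apply A (A ⧸ p) p.ResidueField y)⟩
      have hlifts : P.scaleRoots bb ∈ Polynomial.lifts (algebraMap A p.ResidueField) := by
        rw [Polynomial.lifts_iff_coeff_lifts]
        intro i
        apply hrange
        rw [Polynomial.coeff_scaleRoots]
        rcases lt_trichotomy i P.natDegree with hi | rfl | hi
        · obtain ⟨y, hy⟩ := hbc i (Finset.mem_range.2 hi)
          refine ⟨y * b ^ (P.natDegree - i - 1), ?_⟩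
          rw [map_mul, map_pow, hy, show P.natDegree - i = (P.natDegree - i - 1) + 1 by omega, pow_succ,
            Nat.add_sub_cancel, Algebra.smul_def]
          ring
        · exact ⟨1, by simp [hP.coeff_natDegree]⟩
        · exact ⟨0, by simp [Polynomial.coeff_eq_zero_of_natDegree_lt hi]⟩
      haveI : Nontrivial A := ⟨0, 1, fun h => (Ideal.IsPrime.ne_top (inferInstance : p.IsPrime)) ((Ideal.eq_top_iff_one _).2 (h ▸ p.zero_mem))⟩
      obtain ⟨P', hP'map, hP'deg, hP'm⟩ :=
        Polynomial.lifts_and_degree_eq_and_monic hlifts ((Polynomial.monic_scaleRoots_iff bb).2 hP)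
      have hpos : 0 < P'.natDegree := by
        rw [Polynomial.natDegree_eq_of_degree_eq hP'deg, Polynomial.natDegree_scaleRoots]
        exact hPirr.natDegree_pos
      have hy := congrArg (algebraMap T Q.ResidueField) (hroot ⟨P', hP'm, hpos⟩)
      rw [map_zero, ← Polynomial.aeval_algebraMap_apply, ← Polynomial.aeval_map_algebraMap p.ResidueField, hP'map] at hy
      set y := algebraMap T Q.ResidueField (mk (MvPolynomial.X ⟨P', hP'm, hpos⟩))
      set β := algebraMap p.ResidueField Q.ResidueField bb
      have hβ : β ≠ 0 := (map_ne_zero _).2 hbb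
      refine ⟨β⁻¹ * y, ?_⟩
      have h := Polynomial.scaleRoots_eval₂_mul (p := P) (algebraMap p.ResidueField Q.ResidueField) (β⁻¹ * y) bb
      rw [mul_inv_cancel_left₀ hβ, ← Polynomial.aeval_def, hy] at h
      exact (mul_eq_zero.1 h.symm).resolve_left (pow_ne_zero _ hβ)
    exact IsAlgClosure.isAlgClosed p.ResidueField

end Groth.Agent.S16572
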