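import Groth.Statements.S16573
import Mathlib.FieldTheory.IsAlgClosed.AlgebraicClosure
import Mathlib.AlgebraicGeometry.Morphisms.QuasiSeparated


set_option autoImplicit false
universe u
open CategoryTheory CategoryTheory.Limits AlgebraicGeometry
open EtCore

namespace Groth.Agent.S16573


open Polynomial in
/-- A field all whose elements are fractions from a ring in which monic polynomials have roots is
algebraically closed. -/
lemma isAlgClosed_of_frac {R K : Type u} [CommRing R] [Field K] (ψ : R →+* K)
    (hroot : ∀ p : R[X], p.Monic → p.natDegree ≠ 0 → ∃ x, p.eval x = 0)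
    (hfrac : ∀ z : K, ∃ a s : R, ψ s ≠ 0 ∧ z = ψ a / ψ s) : IsAlgClosed K := by
  classical
  refine IsAlgClosed.of_exists_root _ fun p hp hirr ↦ ?_
  choose a s hs hz using hfrac
  set d : R := ∏ i ∈ Finset.range (p.natDegree + 1), s (p.coeff i) with hd
  have hd0 : ψ d ≠ 0 := by
    rw [hd, map_prod]
    exact Finset.prod_ne_zero_iff.2 fun i _ ↦ hs _
  have hlift : p.scaleRoots (ψ d) ∈ Polynomial.lifts ψ := by
    rw [Polynomial.lifts_iff_coeff_lifts]
    intro i
    rw [coeff_scaleRoots]
    rcases lt_trichotomy i p.natDegree with h | h | h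
    · refine ⟨a (p.coeff i) * (∏ j ∈ (Finset.range (p.natDegree + 1)).erase i, s (p.coeff j)) *
        d ^ (p.natDegree - i - 1), ?_⟩
      have hi : i ∈ Finset.range (p.natDegree + 1) := Finset.mem_range.2 (by omega)
      have h1 : ψ d = ψ (s (p.coeff i)) * ψ (∏ j ∈ (Finset.range (p.natDegree + 1)).erase i,
          s (p.coeff j)) := by
        rw [← map_mul, hd, Finset.mul_prod_erase _ (fun j ↦ s (p.coeff j)) hi]
      have h2 : p.natDegree - i = (p.natDegree - i - 1) + 1 := by omega
      rw [map_mul, map_mul, map_pow, h2, pow_succ, Nat.add_sub_cancel]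
      conv_rhs => rw [hz (p.coeff i)]
      conv_rhs => arg 2; arg 2; rw [h1]
      field_simp [hs (p.coeff i)]
    · refine ⟨1, ?_⟩
      rw [h, Nat.sub_self, pow_zero, mul_one, map_one, hp.coeff_natDegree]
    · exact ⟨0, by simp [coeff_eq_zero_of_natDegree_lt h]⟩
  obtain ⟨q, hq, hqdeg, hqm⟩ := Polynomial.lifts_and_natDegree_eq_and_monic hlift
    ((monic_scaleRoots_iff _).2 hp)
  have hdeg : q.natDegree ≠ 0 := by
    rw [hqdeg, natDegree_scaleRoots]
    exact hirr.natDegree_pos.ne'
  obtain ⟨x, hx⟩ := hroot q hqm hdeg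
  refine ⟨ψ x / ψ d, ?_⟩
  have h3 : (p.scaleRoots (ψ d)).eval (ψ d * (ψ x / ψ d)) = (ψ d) ^ p.natDegree *
      p.eval (ψ x / ψ d) := by
    exact scaleRoots_eval₂_mul (p := p) (RingHom.id K) (ψ x / ψ d) (ψ d)
  rw [mul_div_cancel₀ _ hd0, ← hq, eval_map, eval₂_at_apply, hx, map_zero] at h3
  exact (mul_eq_zero.1 h3.symm).resolve_left (pow_ne_zero _ hd0)

open Polynomial in
/-- An integral extension with surjective spectrum in which every monic polynomial has a root. -/
lemma exists_aic (A : Type u) [CommRing A] : ∃ (B : Type u) (_ : CommRing B) (φ : A →+* B),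
    φ.IsIntegral ∧ Function.Surjective (PrimeSpectrum.comap φ) ∧
      ∀ p : B[X], p.Monic → p.natDegree ≠ 0 → ∃ x, p.eval x = 0 := by
  classical
  let P := (p : PrimeSpectrum A) → AlgebraicClosure p.asIdeal.ResidueField
  refine ⟨integralClosure A P, inferInstance, algebraMap A (integralClosure A P), ?_, ?_, ?_⟩
  · exact fun x ↦ IsIntegralClosure.isIntegral A P x
  · intro p
    let ev : (integralClosure A P) →+* AlgebraicClosure p.asIdeal.ResidueField :=
      (Pi.evalRingHom (fun q : PrimeSpectrum A ↦ AlgebraicClosure q.asIdeal.ResidueField) p).comp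
        (integralClosure A P).val.toRingHom
    refine ⟨⟨RingHom.ker ev, RingHom.ker_isPrime _⟩, ?_⟩
    ext a
    change ev (algebraMap A (integralClosure A P) a) = 0 ↔ _
    have : ev (algebraMap A (integralClosure A P) a) =
        algebraMap A (AlgebraicClosure p.asIdeal.ResidueField) a := rfl
    rw [this, IsScalarTower.algebraMap_apply A p.asIdeal.ResidueField, map_eq_zero,
      Ideal.algebraMap_residueField_eq_zero]
  · intro q hq hdeg
    let ev : ∀ i : PrimeSpectrum A, (integralClosure A P) →+*
        AlgebraicClosure i.asIdeal.ResidueField := fun i ↦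
      (Pi.evalRingHom (fun q : PrimeSpectrum A ↦ AlgebraicClosure q.asIdeal.ResidueField) i).comp
        (integralClosure A P).val.toRingHom
    have h : ∀ i, ∃ r, (q.map (ev i)).eval r = 0 := fun i ↦ by
      obtain ⟨r, hr⟩ := IsAlgClosed.exists_root (q.map (ev i)) (by
        intro h0
        apply hdeg
        rw [← hq.natDegree_map (ev i)]
        exact natDegree_eq_of_degree_eq_some h0)
      exact ⟨r, hr⟩
    choose r hr using h
    have hint : IsIntegral A (r : P) := by
      refine isIntegral_trans (A := integralClosure A P) (r : P) ⟨q, hq, ?_⟩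
      funext i
      change (Pi.evalRingHom _ i) (q.eval₂ (algebraMap (integralClosure A P) P) r) = 0
      rw [hom_eval₂]
      have := hr i
      rwa [eval_map] at this
    refine ⟨⟨r, hint⟩, ?_⟩
    apply Subtype.ext
    funext i
    change (ev i) (q.eval ⟨r, hint⟩) = 0
    have := hr i
    rwa [eval_map, show r i = ev i ⟨r, hint⟩ from rfl, eval₂_at_apply] at this

/-- Morphisms surjective on stalks induce surjections of residue fields. -/
lemma residueFieldMap_surjective {Y X : Scheme.{u}} (p : Y ⟶ X) [SurjectiveOnStalks p] (y : Y) :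
    Function.Surjective (p.residueFieldMap y) := by
  intro z
  obtain ⟨w, rfl⟩ := Y.residue_surjective y z
  obtain ⟨v, rfl⟩ := p.stalkMap_surjective y w
  exact ⟨X.residue (p y) v, congr($(Scheme.residue_residueFieldMap p y) v)⟩

/-- For a quasi-compact quasi-separated scheme X there are an affine scheme X' and a quasi-compact
surjective morphism f : X' → X such that for every point x' of X' the residue field of x' is
algebraically closed and integral over the residue field of f(x') under the induced map of residue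
fields, that is, an algebraic closure of it. -/
theorem result
    (X : Scheme.{u}) [CompactSpace X] [QuasiSeparatedSpace X] :
    ∃ (X' : Scheme.{u}) (f : X' ⟶ X), IsAffine X' ∧ QuasiCompact f ∧ Surjective f ∧
      ∀ x' : X', IsAlgClosed (X'.residueField x') ∧ (f.residueFieldMap x').hom.IsIntegral := by
  classical
  let 𝒰 := X.affineCover.finiteSubcover
  let Y : Scheme.{u} := ∐ 𝒰.X
  let p : Y ⟶ X := Sigma.desc 𝒰.f
  haveI : IsAffine Y := inferInstance
  haveI : Surjective p := ⟨fun x ↦ by
    obtain ⟨y, hy⟩ := 𝒰.covers x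
    refine ⟨(Sigma.ι 𝒰.X (𝒰.idx x)).base y, ?_⟩
    rw [← Scheme.Hom.comp_apply, Sigma.ι_desc, hy]⟩
  haveI : SurjectiveOnStalks p :=
    IsZariskiLocalAtSource.sigmaDesc fun i ↦ inferInstance
  haveI : QuasiCompact p := inferInstance
  obtain ⟨B, _, φ, hφ, hsurj, hroot⟩ := exists_aic Γ(Y, ⊤)
  let g : Spec (CommRingCat.of B) ⟶ Spec Γ(Y, ⊤) := Spec.map (CommRingCat.ofHom φ)
  haveI : Surjective g := ⟨hsurj⟩
  refine ⟨Spec (CommRingCat.of B), g ≫ Y.isoSpec.inv ≫ p, inferInstance, inferInstance,
    inferInstance, fun x ↦ ⟨?_, ?_⟩⟩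
  all_goals
    let e := Scheme.Spec.residueFieldIso (CommRingCat.of B) x
    let ψ : CommRingCat.of B ⟶ (Spec (CommRingCat.of B)).residueField x :=
      CommRingCat.ofHom (algebraMap B x.asIdeal.ResidueField) ≫ e.inv
    have hfrac : ∀ z, ∃ a s : B, ψ s ≠ 0 ∧ z = ψ a / ψ s := by
      intro z
      obtain ⟨a, s, hs, hz⟩ := IsFractionRing.div_surjective (B ⧸ x.asIdeal) (e.hom z)
      obtain ⟨a, rfl⟩ := Ideal.Quotient.mk_surjective a
      obtain ⟨s, rfl⟩ := Ideal.Quotient.mk_surjective s
      have hs' : algebraMap B x.asIdeal.ResidueField s ≠ 0 := by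
        rw [Ne, Ideal.algebraMap_residueField_eq_zero, ← Ideal.Quotient.eq_zero_iff_mem]
        exact nonZeroDivisors.ne_zero hs
      refine ⟨a, s, fun h ↦ hs' ((map_eq_zero e.inv.hom).1 h), ?_⟩
      have hz' : e.inv (e.hom z) = z := e.hom_inv_id_apply z
      rw [← hz', ← hz, map_div₀]
      rfl
  · exact isAlgClosed_of_frac ψ.hom hroot hfrac
  · have hsq : ψ.hom.comp φ = ((g.residueFieldMap x).hom).comp
        (Spec.preimage ((Spec Γ(Y, ⊤)).fromSpecResidueField (g x))).hom := by
      have key : (Spec.preimage ((Spec Γ(Y, ⊤)).fromSpecResidueField (g x))) ≫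
          g.residueFieldMap x = CommRingCat.ofHom φ ≫ ψ := by
        apply Spec.map_injective
        rw [Spec.map_comp, Spec.map_comp, Spec.map_preimage,
          Scheme.Hom.SpecMap_residueFieldMap_fromSpecResidueField, Spec.map_comp,
          Scheme.Spec.map_residueFieldIso_inv_eq_fromSpecResidueField]
      exact (congr($(key).hom)).symm
    have hg : (g.residueFieldMap x).hom.IsIntegral := by
      intro z
      letI := (g.residueFieldMap x).hom.toAlgebra
      have h1 : ∀ b : B, (g.residueFieldMap x).hom.IsIntegralElem (ψ.hom b) := fun b ↦ by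
        obtain ⟨q, hq, hq0⟩ := hφ b
        refine ⟨q.map (Spec.preimage ((Spec Γ(Y, ⊤)).fromSpecResidueField (g x))).hom,
          hq.map _, ?_⟩
        rw [Polynomial.eval₂_map, ← hsq, ← Polynomial.hom_eval₂, hq0, map_zero]
      obtain ⟨a, s, hs, rfl⟩ := hfrac z
      rw [div_eq_mul_inv]
      refine IsIntegral.mul (h1 a) ?_
      exact IsIntegral.inv (h1 s)
    have h12 : ((p.residueFieldMap (Y.isoSpec.inv (g x))) ≫
        Y.isoSpec.inv.residueFieldMap (g x)).hom.IsIntegral :=
      RingHom.IsIntegral.trans _ _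
        (RingHom.isIntegral_of_surjective _ (residueFieldMap_surjective p _))
        (RingHom.isIntegral_of_surjective _ (residueFieldMap_surjective Y.isoSpec.inv _))
    rw [Scheme.residueFieldMap_comp, Scheme.residueFieldMap_comp]
    exact RingHom.IsIntegral.trans _ _ h12 hg

end Groth.Agent.S16573
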