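import Groth.Statements.S16575
import Groth.Agent.C2Cond88.NormRed
import Groth.Agent.Hens.Unique
import Groth.Agent.S0509
import Groth.Agent.S0511
import Groth.Agent.S0539
import Groth.Agent.S0540
import Mathlib

set_option autoImplicit false
universe u
open CAlg

namespace Groth.Agent.S16575

open IsLocalRing Groth.Agent.C2Cond88 in
/-- Invariance along a flat local map with trivial closed fibre. -/
lemma transfer (A S : Type u) [CommRing A] [IsLocalRing A] [IsNoetherianRing A] [CommRing S] [IsLocalRing S]
    [IsNoetherianRing S] [Algebra A S] [IsLocalHom (algebraMap A S)] [Module.Flat A S]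
    (hmS : (maximalIdeal A).map (algebraMap A S) = maximalIdeal S) :
    (∀ Q ∈ minimalPrimes (AdicCompletion (maximalIdeal A) A), ¬ C2Cond88.Small Q) ↔
      ∀ Q ∈ minimalPrimes (AdicCompletion (maximalIdeal S) S), ¬ C2Cond88.Small Q := by
  haveI : IsNoetherianRing (AdicCompletion (maximalIdeal A) A) := RegLoc.Completion.isNoetherianRing_adicCompletion' _
  haveI : IsNoetherianRing (AdicCompletion (maximalIdeal S) S) := RegLoc.Completion.isNoetherianRing_adicCompletion' _
  obtain ⟨hAlg, htow, hloc⟩ := EGA4Lib.exists_algebra_cpl A S
  letI := hAlg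
  haveI := htow
  haveI := hloc
  haveI := EGA4Lib.flat_cpl A S
  constructor
  · intro h Q hQ
    haveI := hQ.1.1
    refine two_le_iff.mp (S16576.main (AdicCompletion (maximalIdeal A) A) (AdicCompletion (maximalIdeal S) S) (fun q hq => ?_) Q hQ)
    haveI := hq.1.1
    exact two_le_iff.mpr (h q hq)
  · intro h Q hQ hS
    haveI : Module.FaithfullyFlat (AdicCompletion (maximalIdeal A) A) (AdicCompletion (maximalIdeal S) S) :=
      Module.FaithfullyFlat.of_flat_of_isLocalHom
    obtain ⟨q, hq, hqQ⟩ := exists_minimal_over (S := AdicCompletion (maximalIdeal S) S) hQ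
    refine h q hq (small_of_small_comap ?_ (hqQ.symm ▸ hS))
    rw [AdicCompletion.maximalIdeal_eq_map (R := A), Ideal.map_map,
      ← IsScalarTower.algebraMap_eq, IsScalarTower.algebraMap_eq A S, ← Ideal.map_map, hmS,
      ← AdicCompletion.maximalIdeal_eq_map]

/-- Let A be a Noetherian local ring, S a henselization of A, S' a strict henselization of A, A' the
integral closure of the reduction of A in its total ring of fractions, and Â the completion of A at
its maximal ideal. The following are equivalent: (i) for every maximal ideal m' of A' the local ring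
of A' at m' has Krull dimension at least 2; (ii) every irreducible component of Spec S has dimension
at least 2; (ii bis) every irreducible component of Spec S' has dimension at least 2; (iii) every
irreducible component of Spec Â has dimension at least 2. (A closed subscheme Z of a Noetherian
scheme X is called c_2 when these hold at the local ring of every point of Z; condition (i) at all
points of Z says that the preimage of Z in the normalization has codimension at least 2.) -/
theorem result
    (A : Type u) [CommRing A] [IsNoetherianRing A] [IsLocalRing A]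
    (S : Type u) [CommRing S] [IsLocalRing S] [Algebra A S] [IsLocalHom (algebraMap A S)]
    [Hensel.IsHenselization A S]
    (S' : Type u) [CommRing S'] [IsLocalRing S'] [Algebra A S'] [IsLocalHom (algebraMap A S')]
    [Hensel.IsStrictHenselization A S'] :
    List.TFAE [
      ∀ m' : MaximalSpectrum (CAlg2.normRed A), (2 : WithBot ℕ∞) ≤ ringKrullDim (Localization.AtPrime m'.asIdeal),
      ∀ p ∈ minimalPrimes S, (2 : WithBot ℕ∞) ≤ ringKrullDim (S ⧸ p),
      ∀ p ∈ minimalPrimes S', (2 : WithBot ℕ∞) ≤ ringKrullDim (S' ⧸ p),
      ∀ q ∈ minimalPrimes (AdicCompletion (IsLocalRing.maximalIdeal A) A), (2 : WithBot ℕ∞) ≤ ringKrullDim (AdicCompletion (IsLocalRing.maximalIdeal A) A ⧸ q)] := by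
  haveI := (S0511.result A S).mp inferInstance
  haveI := (S0540.result A S').mp inferInstance
  haveI := S0509.result A S
  haveI := S0539.result A S'
  haveI : HenselianLocalRing S := Hensel.IsHenselization.henselian (R := A)
  haveI : HenselianLocalRing S' := Hensel.IsStrictHenselization.henselian (R := A)
  haveI : IsNoetherianRing (AdicCompletion (IsLocalRing.maximalIdeal A) A) :=
    RegLoc.Completion.isNoetherianRing_adicCompletion' _
  have e1 := C2Cond88.normRed_iff A
  have e2 := (C2Cond88.forall_small_iff_of_henselian S).trans
    (transfer A S (Hens.map_maximalIdeal_of_isHenselization S)).symm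
  have e3 := (C2Cond88.forall_small_iff_of_henselian S').trans
    (transfer A S' (Hens.map_maximalIdeal_of_isStrictHenselization S')).symm
  have hconv : ∀ (T : Type u) [CommRing T] [IsLocalRing T] [IsNoetherianRing T],
      (∀ p ∈ minimalPrimes T, (2 : WithBot ℕ∞) ≤ ringKrullDim (T ⧸ p)) ↔
        ∀ p ∈ minimalPrimes T, ¬ C2Cond88.Small p := fun T _ _ _ =>
    forall₂_congr fun p hp => by haveI := hp.1.1; exact C2Cond88.two_le_iff
  rw [hconv S, hconv S', hconv (AdicCompletion (IsLocalRing.maximalIdeal A) A)]
  tfae_have 1 ↔ 4 := e1
  tfae_have 2 ↔ 4 := e2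
  tfae_have 3 ↔ 4 := e3
  tfae_finish

end Groth.Agent.S16575
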