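import Groth.Statements.S16577
import Groth.Agent.Hensel.EtLike

set_option linter.style.haveILetI false

set_option autoImplicit false
universe u
open Hensel

namespace Groth.Agent.S16577

/-- Let A be a Noetherian local ring with a strict henselization S', and p a prime ideal of A. Call p an
immediate étale generization of the closed point when the strict henselization S'/pS' of A/p has an
irreducible component of dimension 1, that is, some minimal prime P over pS' has dim S'/P = 1. Then
p is an immediate étale generization of the closed point if and only if p is the contraction of some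
prime ideal P of S' with dim S'/P = 1. -/
theorem result
    (A : Type u) [CommRing A] [IsNoetherianRing A] [IsLocalRing A]
    (S' : Type u) [CommRing S'] [IsLocalRing S'] [Algebra A S'] [IsLocalHom (algebraMap A S')]
    [Hensel.IsStrictHenselization A S']
    (p : Ideal A) [p.IsPrime] :
    (∃ P ∈ (p.map (algebraMap A S')).minimalPrimes, ringKrullDim (S' ⧸ P) = 1) ↔
    (∃ P : Ideal S', P.IsPrime ∧ P.comap (algebraMap A S') = p ∧ ringKrullDim (S' ⧸ P) = 1) := by
  have h := Groth.Agent.Hensel.isEtLike_of_isStrictHenselization A S'
  haveI := h.flat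
  constructor
  · rintro ⟨P, hP, hdim⟩
    haveI := hP.1.1
    refine ⟨P, inferInstance, ?_, hdim⟩
    have hp : p ≤ P.comap (algebraMap A S') := Ideal.map_le_iff_le_comap.1 hP.1.2
    haveI : P.LiesOver (P.comap (algebraMap A S')) := ⟨rfl⟩
    obtain ⟨R, hRle, hRp, hR⟩ := Ideal.exists_ideal_le_liesOver_of_le P hp
    refine le_antisymm ((Ideal.comap_mono (hP.2 ⟨hRp, ?_⟩ hRle)).trans hR.over.ge) hp
    exact Ideal.map_le_iff_le_comap.2 hR.over.le
  · rintro ⟨P, hP, hPp, hdim⟩
    haveI := hP
    refine ⟨P, ⟨⟨hP, Ideal.map_le_iff_le_comap.2 hPp.ge⟩, fun R hR hle => ?_⟩, hdim⟩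
    haveI := hR.1
    refine (h.eq_of_le_of_comap_eq hle ?_).ge
    exact le_antisymm (Ideal.comap_mono hle) (hPp.trans_le (Ideal.map_le_iff_le_comap.1 hR.2))

end Groth.Agent.S16577
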