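import Groth.Statements.S16579
import Groth.Agent.Hens.RigidClopen

set_option autoImplicit false
set_option backward.isDefEq.respectTransparency.types false
universe u
open CategoryTheory AlgebraicGeometry
open Hensel

namespace Groth.Agent.S16579

/-- The case of the constant sheaf on a two-element set. Let (A, I) be a henselian pair with I finitely
generated (A not necessarily Noetherian), Â the I-adic completion of A, π : Spec Â → Spec A the
completion morphism, U a quasi-compact open subscheme of Spec A containing the complement of V(I),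
and Û = π⁻¹(U). Then V ↦ (π|Û)⁻¹(V) is a bijection from the clopen subsets of U onto the clopen
subsets of Û; equivalently, for every finite set F the locally constant F-valued functions on U and
on Û correspond under composition with π. -/
theorem result
    (A : Type u) [CommRing A] (I : Ideal A) (hI : I.FG) [HenselianRing A I]
    (U : (Spec (CommRingCat.of A)).Opens) (hU : IsCompact (U : Set (Spec (CommRingCat.of A))))
    (hUI : ∀ x : Spec (CommRingCat.of A), x ∉ U → I ≤ x.asIdeal) :
    Function.Bijective (fun V : {V : Set ↥U // IsClopen V} =>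
      (⟨((Spec.map (CommRingCat.ofHom (algebraMap A (AdicCompletion I A)))) ∣_ U).base.hom ⁻¹' V.1, V.2.preimage ((Spec.map (CommRingCat.ofHom (algebraMap A (AdicCompletion I A)))) ∣_ U).base.hom.continuous⟩ :
        {V' : Set ↥((Spec.map (CommRingCat.ofHom (algebraMap A (AdicCompletion I A)))) ⁻¹ᵁ U) // IsClopen V'})) := by
  set π := Spec.map (CommRingCat.ofHom (algebraMap A (AdicCompletion I A))) with hπ
  have hc : ∀ z : ↥(π ⁻¹ᵁ U), ((π ∣_ U).base.hom z).1 =
      PrimeSpectrum.comap (algebraMap A (AdicCompletion I A)) z.1 := fun z => morphismRestrict_base_coe π U z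
  have hop : ∀ (S : Set ↥U), IsOpen S → IsOpen (Subtype.val '' S : Set (PrimeSpectrum A)) :=
    fun S hS => U.isOpen.isOpenMap_subtype_val S hS
  refine ⟨fun V₁ V₂ h => ?_, fun G => ?_⟩
  · have h' : ∀ z, (π ∣_ U).base.hom z ∈ V₁.1 ↔ (π ∣_ U).base.hom z ∈ V₂.1 :=
      fun z => Set.ext_iff.1 (congrArg Subtype.val h) z
    have key : ∀ V W : {V : Set ↥U // IsClopen V},
        (∀ z, (π ∣_ U).base.hom z ∈ V.1 → (π ∣_ U).base.hom z ∈ W.1) → V.1 ⊆ W.1 := by
      intro V W hVW x hx
      have hsub := Hens.RigidClopen.subset_of_preimage_subset hI (U := (U.carrier : Set (PrimeSpectrum A)))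
        (V := Subtype.val '' V.1) (W := Subtype.val '' W.1) hUI (by rintro _ ⟨y, -, rfl⟩; exact y.2)
        (by
          have : ((U.carrier : Set (PrimeSpectrum A)) \ Subtype.val '' V.1) = Subtype.val '' V.1ᶜ := by
            ext p
            constructor
            · rintro ⟨hp, hn⟩
              exact ⟨⟨p, hp⟩, fun h => hn ⟨_, h, rfl⟩, rfl⟩
            · rintro ⟨y, hy, rfl⟩
              exact ⟨y.2, fun ⟨y', hy', he⟩ => hy (Subtype.ext he ▸ hy')⟩
          exact this.symm ▸ hop _ V.2.1.isOpen_compl)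
        (hop _ W.2.2) (by
          rintro P ⟨y, hy, hyP⟩
          let z : ↥(π ⁻¹ᵁ U) := ⟨P, Set.mem_of_eq_of_mem (s := (U.carrier : Set (PrimeSpectrum A))) hyP.symm y.2⟩
          have e : (π ∣_ U).base.hom z = y := Subtype.ext ((hc z).trans hyP.symm)
          exact ⟨_, hVW z (e ▸ hy), hc z⟩)
        ⟨x, hx, rfl⟩
      obtain ⟨y, hy, he⟩ := hsub
      exact Subtype.ext he ▸ hy
    exact Subtype.ext (Set.Subset.antisymm (key V₁ V₂ fun z => (h' z).1) (key V₂ V₁ fun z => (h' z).2))
  · have hopG : ∀ (S : Set ↥(π ⁻¹ᵁ U)), IsOpen S →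
        IsOpen (Subtype.val '' S : Set (PrimeSpectrum (AdicCompletion I A))) :=
      fun S hS => (π ⁻¹ᵁ U).isOpen.isOpenMap_subtype_val S hS
    obtain ⟨V, V', hV, hV', hd, hcU, hpre⟩ := Hens.RigidClopen.exists_clopen hI U.isOpen hUI
      (hopG _ G.2.2) (hopG _ G.2.1.isOpen_compl)
      ((Set.disjoint_image_iff Subtype.val_injective).2 disjoint_compl_right)
      (by
        ext P
        constructor
        · rintro (⟨z, -, rfl⟩ | ⟨z, -, rfl⟩) <;> exact z.2
        · intro hP
          by_cases h : (⟨P, hP⟩ : ↥(π ⁻¹ᵁ U)) ∈ G.1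
          exacts [Or.inl ⟨_, h, rfl⟩, Or.inr ⟨_, h, rfl⟩])
    refine ⟨⟨Subtype.val ⁻¹' V, ?_, hV.preimage continuous_subtype_val⟩, Subtype.ext (Set.ext fun z => ?_)⟩
    · have : (Subtype.val ⁻¹' V : Set ↥U) = (Subtype.val ⁻¹' V')ᶜ := by
        ext ⟨p, hp⟩
        exact ⟨fun h h' => Set.disjoint_left.1 hd h h', fun h => (hcU.ge hp).resolve_right h⟩
      rw [this]
      exact (hV'.preimage continuous_subtype_val).isClosed_compl
    · show ((π ∣_ U).base.hom z).1 ∈ V ↔ z ∈ G.1
      rw [hc z]
      refine (Set.ext_iff.1 hpre z.1).trans ⟨?_, fun h => ⟨z, h, rfl⟩⟩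
      rintro ⟨z', hz', he⟩
      exact Subtype.ext he ▸ hz'


end Groth.Agent.S16579
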