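import Groth.Statements.S16598
import Mathlib
import Groth.Agent.Azu.LGCancel

set_option autoImplicit false
universe u v
open LGRing

namespace Groth.Agent.S16598

/-- Let R be an LG-ring and M a faithfully projective R-module (finitely generated projective and
faithful). Then M contains a unimodular element: there are m ∈ M and a linear form f on M with f(m)
= 1 (so R·m is a free direct summand of M of rank one). -/
theorem result {R : Type u} [CommRing R] (hR : LGRing.IsLGRing R)
    (M : Type v) [AddCommGroup M] [Module R M] [Module.Finite R M] [Module.Projective R M] [FaithfulSMul R M] :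
    ∃ (m : M) (f : Module.Dual R M), f m = 1 := by
  rcases subsingleton_or_nontrivial R with hR' | hR'
  · exact ⟨0, 0, Subsingleton.elim _ _⟩
  obtain ⟨f, hf⟩ := Groth.Agent.Azu.exists_surjective_of_rank_le hR (A := R) M R fun p => by
    rw [Module.rankAtStalk_eq_finrank_of_free, Pi.natCast_apply, Module.finrank_self]
    exact Groth.Agent.Azu.rankAtStalk_pos_of_faithful M p
  obtain ⟨m, hm⟩ := hf 1
  exact ⟨m, f, hm⟩

end Groth.Agent.S16598
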