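import Groth.Statements.S16602
import Groth.Agent.Azu.LGCancel
import Mathlib.Topology.LocallyConstant.Basic


set_option autoImplicit false
universe u v w
open Brauer

namespace Groth.Agent.S16602

/-- Let R be an LG-ring with Spec R connected and A an Azumaya R-algebra. Then any two indecomposable
finitely generated projective left A-modules are isomorphic (a module is indecomposable when it is
non-zero and the only idempotents of its endomorphism ring are 0 and 1). (This extends the semilocal
case.) -/
theorem result {R : Type u} [CommRing R]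
    (hR : LGRing.IsLGRing R) [ConnectedSpace (PrimeSpectrum R)] {A : Type v} [Ring A] [Algebra R A] [IsAzumaya R A]
    (P Q : Type w) [AddCommGroup P] [Module A P] [Module.Finite A P] [Module.Projective A P] [Nontrivial P]
    [AddCommGroup Q] [Module A Q] [Module.Finite A Q] [Module.Projective A Q] [Nontrivial Q]
    (hP : ∀ e : Module.End A P, IsIdempotentElem e → e = 0 ∨ e = 1)
    (hQ : ∀ e : Module.End A Q, IsIdempotentElem e → e = 0 ∨ e = 1) : Nonempty (P ≃ₗ[A] Q) := by
  letI : Module R P := Module.compHom P (algebraMap R A)
  letI : Module R Q := Module.compHom Q (algebraMap R A)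
  haveI : IsScalarTower R A P := ⟨fun r a y => by rw [Algebra.smul_def, mul_smul]; rfl⟩
  haveI : IsScalarTower R A Q := ⟨fun r a y => by rw [Algebra.smul_def, mul_smul]; rfl⟩
  have key : ∀ (M N : Type w) [AddCommGroup M] [Module A M] [Module R M] [IsScalarTower R A M] [Module.Finite A M]
      [Module.Projective A M] [AddCommGroup N] [Module A N] [Module R N] [IsScalarTower R A N] [Module.Finite A N]
      [Module.Projective A N] [Nontrivial N], (∀ e : Module.End A M, IsIdempotentElem e → e = 0 ∨ e = 1) →
      (∀ p : PrimeSpectrum R, Module.rankAtStalk N p ≤ Module.rankAtStalk M p) → Nonempty (M ≃ₗ[A] N) := by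
    intro M N _ _ _ _ _ _ _ _ _ _ _ _ _ hM hle
    obtain ⟨f, hf⟩ := Groth.Agent.Azu.exists_surjective_of_rank_le (A := A) hR M N hle
    obtain ⟨s, hs⟩ := Module.projective_lifting_property f LinearMap.id hf
    have hs' : ∀ y, f (s y) = y := fun y => LinearMap.congr_fun hs y
    rcases hM (s ∘ₗ f) (LinearMap.ext fun x => by simp [hs']) with h | h
    · obtain ⟨a, b, hab⟩ := exists_pair_ne N
      refine (hab ?_).elim
      have h0 : ∀ y, y = (0 : N) := fun y => by
        obtain ⟨x, rfl⟩ := hf y
        rw [← hs' (f x), ← LinearMap.comp_apply s f, h, LinearMap.zero_apply, map_zero]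
      rw [h0 a, h0 b]
    · refine ⟨LinearEquiv.ofBijective f ⟨fun x y hxy => ?_, hf⟩⟩
      have h' : ∀ z, s (f z) = z := fun z => LinearMap.congr_fun h z
      rw [← h' x, hxy, h']
  haveI : Module.Finite R P := Module.Finite.trans A P
  haveI : Module.Finite R Q := Module.Finite.trans A Q
  have hpr : ∀ (M : Type w) [AddCommGroup M] [Module A M] [Module R M] [IsScalarTower R A M] [Module.Finite A M]
      [Module.Projective A M], Module.Projective R M := by
    intro M _ _ _ _ _ _
    obtain ⟨r, π, hπ⟩ := Module.Finite.exists_fin' A M
    obtain ⟨s, hs⟩ := Module.projective_lifting_property π LinearMap.id hπ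
    haveI : Module.Projective R (Fin r → A) :=
      Module.Projective.of_equiv (DFinsupp.linearEquivFunOnFintype (R := R) (M := fun _ : Fin r => A))
    exact Module.Projective.of_split (s.restrictScalars R) (π.restrictScalars R)
      (LinearMap.ext fun z => LinearMap.congr_fun hs z)
  haveI := hpr P
  haveI := hpr Q
  haveI := Module.finitePresentation_of_projective R P
  haveI := Module.finitePresentation_of_projective R Q
  have p₀ : PrimeSpectrum R := Classical.arbitrary _
  have hcP := fun p => (Module.isLocallyConstant_rankAtStalk (R := R) (M := P)).apply_eq_of_preconnectedSpace p p₀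
  have hcQ := fun p => (Module.isLocallyConstant_rankAtStalk (R := R) (M := Q)).apply_eq_of_preconnectedSpace p p₀
  rcases le_total (Module.rankAtStalk (R := R) Q p₀) (Module.rankAtStalk (R := R) P p₀) with h | h
  · exact key P Q hP fun p => by rw [hcP, hcQ]; exact h
  · obtain ⟨e⟩ := key Q P hQ fun p => by rw [hcP, hcQ]; exact h
    exact ⟨e.symm⟩

end Groth.Agent.S16602
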