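import Groth.Statements.S16605
import Groth.Agent.CAlg48.LGProjective
-- import your own Groth.Agent.* helpers here

set_option autoImplicit false
universe u v
open LGRing

namespace Groth.Agent.S16605

/-- Let R be an LG-ring, M₁ and M₂ finite projective R-modules and n ≥ 1 an integer. If M₁ⁿ ≅ M₂ⁿ as
R-modules then M₁ ≅ M₂ (cancellation of modules). -/
theorem result {R : Type u} [CommRing R] (hR : LGRing.IsLGRing R)
    (M₁ M₂ : Type v) [AddCommGroup M₁] [Module R M₁] [Module.Finite R M₁] [Module.Projective R M₁]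
    [AddCommGroup M₂] [Module R M₂] [Module.Finite R M₂] [Module.Projective R M₂] (n : ℕ) (hn : 0 < n)
    (e : (Fin n → M₁) ≃ₗ[R] (Fin n → M₂)) : Nonempty (M₁ ≃ₗ[R] M₂) := by
  refine CAlg48.LGProjective.nonempty_linearEquiv hR M₁ M₂ fun m _ =>
    CAlg48.LGProjective.quot_equiv_of_finrank_eq m ?_
  letI := Ideal.Quotient.field m
  have h := ((e.baseChange R (R ⧸ m) _ _).symm ≪≫ₗ
    TensorProduct.piRight R (R ⧸ m) (R ⧸ m) (fun _ : Fin n => M₁)).finrank_eq
  rw [(TensorProduct.piRight R (R ⧸ m) (R ⧸ m) (fun _ : Fin n => M₂)).finrank_eq,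
    Module.finrank_pi_fintype, Module.finrank_pi_fintype, Finset.sum_const, Finset.sum_const,
    Finset.card_univ, Fintype.card_fin, smul_eq_mul, smul_eq_mul] at h
  exact (Nat.eq_of_mul_eq_mul_left hn h).symm

end Groth.Agent.S16605
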