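import Groth.Statements.S16606
import Groth.Agent.CAlg48.LGProjective
-- import your own Groth.Agent.* helpers here

set_option autoImplicit false
open scoped TensorProduct
universe u v
open LGRing

namespace Groth.Agent.S16606

/-- Let R be an LG-ring, M₁, M₂ finite projective R-modules and N a faithfully projective R-module
(finite projective and faithful). If M₁ ⊗_R N ≅ M₂ ⊗_R N then M₁ ≅ M₂. -/
theorem result {R : Type u} [CommRing R]
    (hR : LGRing.IsLGRing R) (M₁ M₂ N : Type v) [AddCommGroup M₁] [Module R M₁] [Module.Finite R M₁]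
    [Module.Projective R M₁] [AddCommGroup M₂] [Module R M₂] [Module.Finite R M₂] [Module.Projective R M₂]
    [AddCommGroup N] [Module R N] [Module.Finite R N] [Module.Projective R N] [FaithfulSMul R N]
    (e : M₁ ⊗[R] N ≃ₗ[R] M₂ ⊗[R] N) : Nonempty (M₁ ≃ₗ[R] M₂) := by
  refine CAlg48.LGProjective.nonempty_linearEquiv hR M₁ M₂ fun m hm =>
    CAlg48.LGProjective.quot_equiv_of_finrank_eq m ?_
  letI := Ideal.Quotient.field m
  have h := ((TensorProduct.AlgebraTensorModule.distribBaseChange R (R ⧸ m) M₁ N).symm ≪≫ₗ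
    e.baseChange R (R ⧸ m) _ _ ≪≫ₗ
    TensorProduct.AlgebraTensorModule.distribBaseChange R (R ⧸ m) M₂ N).finrank_eq
  have h' : Module.finrank (R ⧸ m) ((R ⧸ m) ⊗[R] M₁) * Module.finrank (R ⧸ m) ((R ⧸ m) ⊗[R] N) =
      Module.finrank (R ⧸ m) ((R ⧸ m) ⊗[R] M₂) * Module.finrank (R ⧸ m) ((R ⧸ m) ⊗[R] N) :=
    Module.finrank_tensorProduct.symm.trans (h.trans Module.finrank_tensorProduct)
  refine Nat.eq_of_mul_eq_mul_right ?_ h'
  haveI : Nontrivial ((R ⧸ m) ⊗[R] N) := by
    rw [(TensorProduct.quotTensorEquivQuotSMul N m).toEquiv.nontrivial_congr]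
    refine Submodule.Quotient.nontrivial_iff.2 fun htop => ?_
    obtain ⟨r, hr, hr'⟩ := Submodule.exists_sub_one_mem_and_smul_eq_zero_of_fg_of_le_smul m
      (⊤ : Submodule R N) Module.Finite.fg_top htop.ge
    have hr0 : r = 0 := FaithfulSMul.eq_of_smul_eq_smul (α := N) fun x => by
      rw [hr' x trivial, zero_smul]
    rw [hr0, zero_sub] at hr
    exact hm.ne_top (m.eq_top_iff_one.2 (by simpa using m.neg_mem hr))
  exact Module.finrank_pos

end Groth.Agent.S16606
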