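import Groth.Statements.S16607
import Groth.Agent.Azu.LGCancel


set_option autoImplicit false
universe u v
open Brauer

namespace Groth.Agent.S16607

open scoped TensorProduct

/-- Let R be an LG-ring, A and B Azumaya R-algebras and n ≥ 1. If Mₙ(A) ≅ Mₙ(B) as R-algebras then A ≅ B
as R-algebras (cancellation of Azumaya algebras). -/
theorem result {R : Type u} [CommRing R]
    (hR : LGRing.IsLGRing R) (A B : Type v) [Ring A] [Algebra R A] [IsAzumaya R A] [Ring B] [Algebra R B]
    [IsAzumaya R B] (n : ℕ) (hn : 0 < n)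
    (e : Matrix (Fin n) (Fin n) A ≃ₐ[R] Matrix (Fin n) (Fin n) B) : Nonempty (A ≃ₐ[R] B) := by
  classical
  haveI : FaithfulSMul R (Fin n → R) := ⟨fun {a b} h => by
    simpa using congrFun (h (fun _ => 1)) ⟨0, hn⟩⟩
  let eA : A ⊗[R] Module.End R (Fin n → R) ≃ₐ[R] Matrix (Fin n) (Fin n) A :=
    (Algebra.TensorProduct.congr AlgEquiv.refl (algEquivMatrix (Pi.basisFun R (Fin n)))).trans (matrixEquivTensor (Fin n) R A).symm
  let eB : B ⊗[R] Module.End R (Fin n → R) ≃ₐ[R] Matrix (Fin n) (Fin n) B :=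
    (Algebra.TensorProduct.congr AlgEquiv.refl (algEquivMatrix (Pi.basisFun R (Fin n)))).trans (matrixEquivTensor (Fin n) R B).symm
  let E := (eA.trans e).trans eB.symm
  refine Groth.Agent.Azu.nonempty_algEquiv_of_tensor_end hR (Fin n → R) (Fin n → R) (fun p => ?_) E
  haveI := (Groth.Agent.Azu.projective_end (R := R) (Fin n → R)).1
  haveI := (Groth.Agent.Azu.projective_end (R := R) (Fin n → R)).2
  have h := congrFun (Module.rankAtStalk_eq_of_equiv E.toLinearEquiv) p
  rw [Module.rankAtStalk_tensorProduct, Module.rankAtStalk_tensorProduct, Pi.mul_apply, Pi.mul_apply,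
    Groth.Agent.Azu.rankAtStalk_moduleEnd] at h
  exact Nat.eq_of_mul_eq_mul_right (Nat.mul_pos (Groth.Agent.Azu.rankAtStalk_pos_of_faithful _ p)
    (Groth.Agent.Azu.rankAtStalk_pos_of_faithful _ p)) h

end Groth.Agent.S16607
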