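import Groth.Statements.S16618
import Groth.Agent.MinPar65.Basic
import Groth.Agent.MinPar65.FibreDim
import Groth.Agent.Borel50.Conj
import Groth.Agent.S10830
import Groth.Agent.GrpScheme.IdComponent
import Groth.Agent.GrpScheme.HomFlat
import Groth.Agent.VarDim.Scheme

set_option autoImplicit false
open CategoryTheory MonoidalCategory CartesianMonoidalCategory MonObj GrpObj AlgebraicGeometry
universe u
open Par

namespace Groth.Agent.S16618

open Limits

variable {S : Scheme.{u}} {G : Over S} [GrpObj G]

lemma isParabolic_id (hG : Red.IsReductive G) : Red.IsParabolic (𝟙 G) := by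
  obtain ⟨hGa, hGs, hGf⟩ := hG
  refine ⟨inferInstance, inferInstanceAs (IsClosedImmersion (𝟙 G.left)), hGs, fun s => ?_⟩
  obtain ⟨ha, hsm, hco, -⟩ := hGf s
  obtain ⟨B, _, b, hb⟩ := Borel50.Conj.exists_borel (Red.geomFibre s G)
  rw [CategoryTheory.Functor.map_id]
  refine ⟨inferInstance, inferInstanceAs (IsClosedImmersion (𝟙 (Red.geomFibre s G).left)), hsm, B, inferInstance, b, ?_⟩
  rw [Category.comp_id]
  exact hb

lemma connected_geomFibre (hG : Red.IsReductive G) {P : Over S} [GrpObj P] (p : P ⟶ G)
    (hP : Red.IsParabolic p) (s : S) : ConnectedSpace (Red.geomFibre s P).left := by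
  obtain ⟨ha, hsm, hco, -⟩ := hG.2.2 s
  obtain ⟨hm, hc, hs, B, _, b, hb⟩ := hP.2.2.2 s
  have := hb.1
  have hle : (Borel50.Density.ptHom (b ≫ (Over.pullback (Red.geomPt s)).map p)).range ≤
      (Borel50.Density.ptHom ((Over.pullback (Red.geomPt s)).map p)).range := by
    rintro _ ⟨w, rfl⟩
    exact ⟨w ≫ b, show (w ≫ b) ≫ (Over.pullback (Red.geomPt s)).map p = w ≫ b ≫ (Over.pullback (Red.geomPt s)).map p from Category.assoc _ _ _⟩
  exact MinPar65.connectedSpace_of_borel ((Over.pullback (Red.geomPt s)).map p) _ hb hle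

lemma fibre_irreducible_finite (hG : Red.IsReductive G) {P : Over S} [GrpObj P] (p : P ⟶ G)
    (hP : Red.IsParabolic p) (s : S) :
    IrreducibleSpace ↥(P.hom.base ⁻¹' {s}) ∧ topologicalKrullDim ↥(P.hom.base ⁻¹' {s}) ≠ ⊤ := by
  have := hP.2.2.1
  let H : Over (Spec (CommRingCat.of (S.residueField s))) := Red.bc (S.fromSpecResidueField s) P
  have hlft : LocallyOfFiniteType H.hom :=
    inferInstanceAs (LocallyOfFiniteType (pullback.snd P.hom (S.fromSpecResidueField s)))
  have hco : ConnectedSpace H.left :=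
    MinPar65.connectedSpace_fibre P s (connected_geomFibre hG p hP s)
  have hirr : IrreducibleSpace H.left := by
    have h1 : irreducibleComponent (GrpScheme.IdComponent.e₀ H) = Set.univ := by
      rw [← GrpScheme.IdComponent.connectedComponent_eq, PreconnectedSpace.connectedComponent_eq_univ]
    have h2 : IsIrreducible (irreducibleComponent (GrpScheme.IdComponent.e₀ H)) := isIrreducible_irreducibleComponent
    rw [h1] at h2
    exact (irreducibleSpace_def _).2 h2
  let e : H.left ≃ₜ ↥(P.hom.base ⁻¹' {s}) := P.hom.fiberHomeo s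
  refine ⟨?_, ?_⟩
  · have h3 : IsIrreducible (Set.range e) := by
      rw [← Set.image_univ]
      exact ((irreducibleSpace_def _).1 hirr).image e e.continuous.continuousOn
    rw [e.surjective.range_eq] at h3
    exact (irreducibleSpace_def _).2 h3
  · rw [← e.isHomeomorph.topologicalKrullDim_eq]
    let _ : H.left.Over (Spec (CommRingCat.of (S.residueField s))) := ⟨H.hom⟩
    have : LocallyOfFiniteType (H.left ↘ Spec (CommRingCat.of (S.residueField s))) := hlft
    rw [VarDim.topologicalKrullDim_eq_of_irreducible (S.residueField s)]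
    exact fun h => ENat.natCast_ne_top _ (WithBot.coe_injective h)


/-- A reductive group scheme G over a connected scheme S admits a minimal parabolic subgroup P (every
parabolic subgroup of G contained in P is equal to P). -/
theorem result {S : Scheme.{u}} [ConnectedSpace ↥S] {G : Over S} [GrpObj G]
    (hG : Red.IsReductive G) :
    ∃ (P : Over S) (_ : GrpObj P) (p : P ⟶ G), Red.IsParabolic p ∧
      ∀ (P₁ : Over S) [GrpObj P₁] (p₁ : P₁ ⟶ G) (f : P₁ ⟶ P), Red.IsParabolic p₁ → f ≫ p = p₁ → IsIso f := by
  classical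
  obtain ⟨s₀⟩ := (inferInstance : Nonempty ↥S)
  let V : Set (WithBot ℕ∞) := {d | ∃ (P : Over S) (_ : GrpObj P) (p : P ⟶ G),
    Red.IsParabolic p ∧ topologicalKrullDim ↥(P.hom.base ⁻¹' {s₀}) = d}
  obtain ⟨d, ⟨P, hPg, p, hP, hPd⟩, hmin⟩ :=
    (wellFounded_lt (α := WithBot ℕ∞)).has_min V ⟨_, G, inferInstance, 𝟙 G, isParabolic_id hG, rfl⟩
  refine ⟨P, hPg, p, hP, fun P₁ _ p₁ f hP₁ hf => ?_⟩
  have : IsClosedImmersion p.left := hP.2.1
  have : IsClosedImmersion p₁.left := hP₁.2.1
  have := hP.2.2.1
  have := hP₁.2.2.1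
  have : IsClosedImmersion f.left := by
    have : IsClosedImmersion (f.left ≫ p.left) := by rw [← Over.comp_left, hf]; infer_instance
    exact IsClosedImmersion.of_comp f.left p.left
  have hsurj : Surjective f.left := by
    refine ⟨fun y => ?_⟩
    let s : S := P.hom y
    obtain ⟨hirr, hfin⟩ := fibre_irreducible_finite hG p hP s
    let Y : Set ↥(P.hom.base ⁻¹' {s}) := Subtype.val ⁻¹' Set.range f.left
    have hY : IsClosed Y := f.left.isClosedEmbedding.isClosed_range.preimage continuous_subtype_val
    let g : ↥(P₁.hom.base ⁻¹' {s}) → ↥(P.hom.base ⁻¹' {s}) := fun x => ⟨f.left x.1, by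
      have hx : P₁.hom x.1 = s := x.2
      change P.hom (f.left x.1) = s
      rw [← Scheme.Hom.comp_apply, Over.w f]
      exact hx⟩
    have hg : Topology.IsEmbedding g :=
      (f.left.isClosedEmbedding.isEmbedding.comp Topology.IsEmbedding.subtypeVal).codRestrict _ _
    have hrange : Set.range g = Y := by
      ext z
      constructor
      · rintro ⟨x, rfl⟩
        exact ⟨x.1, rfl⟩
      · rintro ⟨x, hx⟩
        refine ⟨⟨x, ?_⟩, Subtype.ext hx⟩
        have hz : P.hom z.1 = s := z.2
        change P₁.hom x = s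
        rw [← Over.w f, Scheme.Hom.comp_apply, hx]
        exact hz
    by_contra hy
    have hne : Y ≠ Set.univ := fun h => hy (by
      have h4 : (⟨y, rfl⟩ : ↥(P.hom.base ⁻¹' {s})) ∈ Y := by rw [h]; trivial
      exact h4)
    have hlt := S10830.result ↥(P.hom.base ⁻¹' {s}) hfin Y hY hne
    rw [← hrange, ← hg.toHomeomorph.isHomeomorph.topologicalKrullDim_eq,
      (MinPar65.FibreDim.isLocallyConstant_dim P₁).apply_eq_of_preconnectedSpace s s₀,
      (MinPar65.FibreDim.isLocallyConstant_dim P).apply_eq_of_preconnectedSpace s s₀, hPd] at hlt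
    exact hmin _ ⟨P₁, inferInstance, p₁, hP₁, rfl⟩ hlt
  refine MinPar65.isIso_of_geomFibres f fun s => ?_
  have hP₁s : IsClosedImmersion ((Over.pullback (Red.geomPt s)).map f).left := by
    exact MorphismProperty.of_isPullback (P := @IsClosedImmersion)
      (LimGrp.isPullback_map_left (Red.geomPt s) f) inferInstance
  have hs : Surjective ((Over.pullback (Red.geomPt s)).map f).left :=
    MorphismProperty.of_isPullback (P := @Surjective)
      (LimGrp.isPullback_map_left (Red.geomPt s) f) hsurj
  have : Smooth (Red.geomFibre s P).hom :=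
    inferInstanceAs (Smooth (Limits.pullback.snd P.hom (Red.geomPt s)))
  have : IsReduced (Red.geomFibre s P).left :=
    GrpScheme.HomFlat.isReduced_of_smooth (Red.geomFibre s P).hom
  have : IsIso ((Over.forget _).map ((Over.pullback (Red.geomPt s)).map f)) :=
    isIso_of_isClosedImmersion_of_surjective ((Over.pullback (Red.geomPt s)).map f).left
  exact isIso_of_reflects_iso _ (Over.forget _)

end Groth.Agent.S16618
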