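import Groth.Statements.S16619
import Groth.Agent.Azu.Centralizer
import Mathlib.RingTheory.Spectrum.Prime.FreeLocus
import Mathlib.Topology.LocallyConstant.Basic


set_option autoImplicit false
open scoped TensorProduct
universe u
open Brauer

namespace Groth.Agent.S16619

/-- Let R be a connected commutative ring. Then every class of the Brauer group of R is represented by
an Azumaya algebra B with idemp(B) = {0, 1}: for every Azumaya R-algebra A there are such a B and
faithfully projective R-modules P, Q with A ⊗_R End_R(P) ≅ B ⊗_R End_R(Q) as R-algebras. -/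
theorem result {R : Type u} [CommRing R]
    [ConnectedSpace (PrimeSpectrum R)] (A : Type u) [Ring A] [Algebra R A] [IsAzumaya R A] :
    ∃ (B : Type u) (_ : Ring B) (_ : Algebra R B) (_ : IsAzumaya R B) (P Q : Type u) (_ : AddCommGroup P)
      (_ : Module R P) (_ : AddCommGroup Q) (_ : Module R Q),
      (∀ b : B, IsIdempotentElem b → b = 0 ∨ b = 1) ∧ Module.Finite R P ∧ Module.Projective R P ∧
      FaithfulSMul R P ∧ Module.Finite R Q ∧ Module.Projective R Q ∧ FaithfulSMul R Q ∧
      Nonempty (A ⊗[R] Module.End R P ≃ₐ[R] B ⊗[R] Module.End R Q) := by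
  classical
  let p₀ : PrimeSpectrum R := Classical.arbitrary _
  let V : A → Submodule R A := fun e => LinearMap.range (LinearMap.mulRight R e)
  have hV : ∀ e, IsIdempotentElem e → ∀ x, x ∈ V e ↔ x * e = x := fun e he x =>
    ⟨fun ⟨y, hy⟩ => by subst hy; show y * e * e = y * e; rw [mul_assoc, he.eq], fun h => ⟨x, h⟩⟩
  have hfp : ∀ e, IsIdempotentElem e → Module.Finite R (V e) ∧ Module.Projective R (V e) := fun e he => by
    refine ⟨Module.Finite.range _, Module.Projective.of_split (V e).subtype ((LinearMap.mulRight R e).codRestrict (V e) fun x => ⟨x, rfl⟩) ?_⟩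
    exact LinearMap.ext fun x => Subtype.ext ((hV e he x).1 x.2)
  have hpos : ∀ e : A, IsIdempotentElem e → e ≠ 0 → ∀ p, 0 < Module.rankAtStalk (R := R) (V e) p := by
    intro e he he0 p
    haveI := (hfp e he).1
    haveI := (hfp e he).2
    haveI := Module.finitePresentation_of_projective R (V e)
    refine Nat.pos_of_ne_zero fun h0 => he0 ?_
    have hall : Module.rankAtStalk (R := R) (V e) = 0 := funext fun q =>
      ((Module.isLocallyConstant_rankAtStalk (R := R) (M := V e)).apply_eq_of_preconnectedSpace q p).trans h0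
    haveI := Module.rankAtStalk_eq_zero_iff_subsingleton.1 hall
    exact congrArg Subtype.val (Subsingleton.elim (⟨e, (hV e he e).2 he.eq⟩ : V e) 0)
  haveI := Groth.Agent.Azu.faithfullyFlat (R := R) (A := A)
  have hA1 : (1 : A) ≠ 0 := fun h => by
    haveI : Subsingleton A := subsingleton_of_zero_eq_one h.symm
    haveI : Nontrivial R := p₀.nontrivial
    exact one_ne_zero (FaithfulSMul.eq_of_smul_eq_smul (M := R) (m₁ := 1) (m₂ := 0) fun x : A => Subsingleton.elim _ _)
  have hex : ∃ n, ∃ e : A, IsIdempotentElem e ∧ e ≠ 0 ∧ Module.rankAtStalk (R := R) (V e) p₀ = n :=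
    ⟨_, 1, IsIdempotentElem.one, hA1, rfl⟩
  obtain ⟨e, he, he0, hen⟩ := Nat.find_spec hex
  haveI := (hfp e he).1
  haveI := (hfp e he).2
  let l₀ : A → Module.End R (V e) := fun a => (LinearMap.mulLeft R a).restrict fun x hx => by
    obtain ⟨y, rfl⟩ := hx
    exact ⟨a * y, mul_assoc a y e⟩
  let l : A →ₐ[R] Module.End R (V e) :=
    { toFun := l₀
      map_one' := LinearMap.ext fun x => Subtype.ext (one_mul _)
      map_mul' := fun a b => LinearMap.ext fun x => Subtype.ext (mul_assoc a b _)
      map_zero' := LinearMap.ext fun x => Subtype.ext (zero_mul _)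
      map_add' := fun a b => LinearMap.ext fun x => Subtype.ext (add_mul a b _)
      commutes' := fun r => LinearMap.ext fun x => Subtype.ext (Algebra.smul_def r (x : A)).symm }
  haveI hfaith : FaithfulSMul R (V e) := by
    haveI : Module.FaithfullyFlat R (V e) := ⟨fun m hm h => by
      have hp := hpos e he he0 ⟨m, hm.isPrime⟩
      haveI : Subsingleton ((R ⧸ m) ⊗[R] V e) := by
        haveI : Subsingleton (V e ⧸ (m • ⊤ : Submodule R (V e))) := Submodule.Quotient.subsingleton_iff.2 h
        exact (TensorProduct.quotTensorEquivQuotSMul (V e) m).injective.subsingleton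
      letI := Ideal.Quotient.field m
      have hb := Module.rankAtStalk_baseChange (R := R) (M := V e) (S := R ⧸ m) ⟨⊥, Ideal.bot_prime⟩
      rw [show (⟨⊥, Ideal.bot_prime⟩ : PrimeSpectrum (R ⧸ m)).comap (algebraMap R (R ⧸ m)) = ⟨m, hm.isPrime⟩ from
        PrimeSpectrum.ext (Ideal.mk_ker (I := m)), Module.rankAtStalk_eq_zero_of_subsingleton] at hb
      exact hp.ne hb⟩
    exact Groth.Agent.Azu.faithfulSMul_of_faithfullyFlat (R := R) (V e)
  let B : Subalgebra R (Module.End R (V e)) := Groth.Agent.Azu.commutant l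
  letI : Ring B := Subalgebra.toRing (A := Module.End R (V e)) B
  haveI hB : IsAzumaya R B := Groth.Agent.Azu.commutant_azumaya l
  haveI hBop : IsAzumaya R (↥B)ᵐᵒᵖ := Groth.Agent.Azu.op B
  refine ⟨(↥B)ᵐᵒᵖ, inferInstance, inferInstance, hBop, B, V e, inferInstance, inferInstance, inferInstance, inferInstance,
    ?_, inferInstance, inferInstance, inferInstance, inferInstance, inferInstance, hfaith, ⟨?_⟩⟩
  · suffices h : ∀ g : B, IsIdempotentElem g → g = 0 ∨ g = 1 by
      intro b hb
      rcases h b.unop (MulOpposite.op_injective (by simpa using hb.eq)) with h' | h'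
      · exact Or.inl (MulOpposite.unop_injective h')
      · exact Or.inr (MulOpposite.unop_injective h')
    intro g hg
    let g' : Module.End R (V e) := g
    let e' : V e := ⟨e, (hV e he e).2 he.eq⟩
    set f : A := (g' e' : A)
    have hgen : ∀ x : V e, (g' x : A) = (x : A) * f := fun x => by
      have hc := LinearMap.congr_fun ((Groth.Agent.Azu.mem_commutant l).1 g.2 (x : A)) e'
      have hx : l (x : A) e' = x := Subtype.ext ((hV e he _).1 x.2)
      rw [Module.End.mul_apply, Module.End.mul_apply, hx] at hc
      exact (congrArg Subtype.val hc).symm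
    have hfe : f * e = f := (hV e he f).1 (g' e').2
    have hef : e * f = f := (hgen e').symm
    have hff : f * f = f := by
      have h2 : g' (g' e') = g' e' := LinearMap.congr_fun (congrArg Subtype.val hg.eq) e'
      have h3 := congrArg Subtype.val h2
      rw [hgen] at h3
      exact h3
    by_cases hf0 : f = 0
    · left
      apply Subtype.ext
      refine LinearMap.ext fun x => Subtype.ext ?_
      rw [hgen, hf0, mul_zero]
      rfl
    by_cases hfe' : f = e
    · right
      apply Subtype.ext
      refine LinearMap.ext fun x => Subtype.ext ?_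
      rw [hgen, hfe']
      exact (hV e he _).1 x.2
    exfalso
    have hd : IsIdempotentElem (e - f) := by
      show (e - f) * (e - f) = e - f
      rw [mul_sub, sub_mul, sub_mul, he.eq, hfe, hef, hff, sub_self, sub_zero]
    have hd0 : e - f ≠ 0 := sub_ne_zero.2 (Ne.symm hfe')
    haveI := (hfp f hff).1
    haveI := (hfp f hff).2
    haveI := (hfp (e - f) hd).1
    haveI := (hfp (e - f) hd).2
    let Φ : V e ≃ₗ[R] V f × V (e - f) :=
      { toFun := fun x => (⟨x * f, ⟨x, rfl⟩⟩, ⟨x * (e - f), ⟨x, rfl⟩⟩)
        map_add' := fun x y => Prod.ext (Subtype.ext (add_mul _ _ _)) (Subtype.ext (add_mul _ _ _))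
        map_smul' := fun r x => Prod.ext (Subtype.ext (smul_mul_assoc _ _ _)) (Subtype.ext (smul_mul_assoc _ _ _))
        invFun := fun z => ⟨(z.1 : A) + z.2, (hV e he _).2 (by
          have h1 := (hV f hff _).1 z.1.2
          have h2 := (hV _ hd _).1 z.2.2
          rw [add_mul, ← h1, ← h2, mul_assoc, mul_assoc, hfe, sub_mul, he.eq, hfe])⟩
        left_inv := fun x => Subtype.ext (by
          show (x : A) * f + x * (e - f) = x
          rw [← mul_add, add_sub_cancel, (hV e he _).1 x.2])
        right_inv := fun z => by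
          have h1 := (hV f hff _).1 z.1.2
          have h2 := (hV _ hd _).1 z.2.2
          refine Prod.ext (Subtype.ext ?_) (Subtype.ext ?_)
          · show ((z.1 : A) + z.2) * f = z.1
            rw [add_mul, h1, ← h2, mul_assoc, sub_mul, hef, hff, sub_self, mul_zero, add_zero]
          · show ((z.1 : A) + z.2) * (e - f) = z.2
            rw [add_mul, h2, ← h1, mul_assoc, mul_sub, hfe, hff, sub_self, mul_zero, zero_add] }
    have hlt : Module.rankAtStalk (R := R) (V f) p₀ < Nat.find hex := by
      rw [← hen, congrFun (Module.rankAtStalk_eq_of_equiv Φ) p₀, Module.rankAtStalk_prod, Pi.add_apply]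
      exact Nat.lt_add_of_pos_right (hpos _ hd hd0 p₀)
    exact Nat.find_min hex hlt ⟨f, hff, hf0, rfl⟩
  · let μ : B ⊗[R] (↥B)ᵐᵒᵖ ≃ₐ[R] Module.End R B := AlgEquiv.ofBijective (AlgHom.mulLeftRight R B) IsAzumaya.bij
    exact (Algebra.TensorProduct.congr AlgEquiv.refl μ.symm).trans ((Algebra.TensorProduct.assoc R R R A B (↥B)ᵐᵒᵖ).symm.trans
      ((Algebra.TensorProduct.congr (AlgEquiv.ofBijective (Groth.Agent.Azu.mulMap l) (Groth.Agent.Azu.mulMap_bijective l)) AlgEquiv.refl).trans
        (Algebra.TensorProduct.comm R (Module.End R (V e)) (↥B)ᵐᵒᵖ)))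

end Groth.Agent.S16619
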