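import Groth.Statements.S16620
import Groth.Agent.DiagRig.Cochar

set_option autoImplicit false
open CategoryTheory MonoidalCategory CartesianMonoidalCategory MonObj GrpObj AlgebraicGeometry
universe u
open SGA3x

set_option backward.isDefEq.respectTransparency.types false

namespace Groth.Agent.S16620

/-- Let S be a connected, normal, locally Noetherian scheme, T an S-torus and T₀ ⟶ T its unique maximal
split subtorus, i.e. a split subtorus through which every split subtorus of T factors. Then every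
cocharacter λ : 𝔾_m ⟶ T over S factors through T₀; this is the equality X_*(T₀)(S) = X_*(T)(S) of
groups of cocharacters defined over S. -/
theorem result {S : Scheme.{u}} [ConnectedSpace ↥S]
    [IsLocallyNoetherian S] (hnorm : ∀ x : ↥S, IsDomain (S.presheaf.stalk x) ∧ IsIntegrallyClosed (S.presheaf.stalk x))
    {T T₀ : Over S} [GrpObj T] [GrpObj T₀] (hT : Red.IsTorus T) (j₀ : T₀ ⟶ T) [IsMonHom j₀] [Mono j₀] (r₀ : ℕ)
    (hT₀ : Red.IsSplitTorusWith (Fin r₀ → ℤ) T₀)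
    (hmax : ∀ (T' : Over S) [GrpObj T'] (j' : T' ⟶ T) [IsMonHom j'] [Mono j'] (r' : ℕ),
      Red.IsSplitTorusWith (Fin r' → ℤ) T' → ∃ g : T' ⟶ T₀, g ≫ j₀ = j')
    (lam : Red.Gm S ⟶ T) [IsMonHom lam] : ∃ mu : Red.Gm S ⟶ T₀, mu ≫ j₀ = lam := by
  obtain ⟨r, j, hj, hjm, huniv⟩ := DiagRig.Cochar.exists_greatest (DiagRig.multTypeFT_of_torus hT)
  obtain ⟨g₀, hg₀⟩ := hmax _ j r ⟨CategoryTheory.Iso.refl _⟩
  let p : (Fin 1 → ℤ) →+ ℤ := Pi.evalAddMonoidHom (fun _ : Fin 1 => ℤ) 0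
  let q : ℤ →+ (Fin 1 → ℤ) := AddMonoidHom.single (fun _ : Fin 1 => ℤ) 0
  have : IsMonHom (Red.DSmap S q) := DiagRig.DSQuot.isMonHom_DSmap _
  have : IsMonHom (Red.DSmap S q ≫ lam) := inferInstance
  obtain ⟨g, hg⟩ := huniv 1 (Red.DSmap S q ≫ lam)
  have hpq : Red.DSmap S p ≫ Red.DSmap S q = 𝟙 (Red.DS S ℤ) := RedPts.d_ext fun n => by
    rw [RedPts.DSmap_fn, ← Category.id_comp (Red.DSmap S p), RedPts.DSmap_fn]
    simp [p, q]
  refine ⟨Red.DSmap S p ≫ g ≫ g₀, ?_⟩
  rw [Category.assoc, Category.assoc, hg₀, hg, ← Category.assoc, hpq]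
  exact Category.id_comp lam

end Groth.Agent.S16620
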