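import Groth.Statements.S16621
import Groth.Agent.DiagRig.SplitSubGeneric
-- import your own Groth.Agent.* helpers here

set_option autoImplicit false
open CategoryTheory MonoidalCategory CartesianMonoidalCategory MonObj GrpObj AlgebraicGeometry
universe u
open SGA3x

set_option backward.isDefEq.respectTransparency.types false

namespace Groth.Agent.S16621

/-- Let S be a connected, normal, locally Noetherian scheme, T an S-torus and T₀ ⟶ T its unique maximal
split subtorus (a split subtorus through which every split subtorus of T factors). Then T₀ is also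
the unique maximal locally split subtorus of T: every subtorus T₁ ⟶ T which is split Zariski-locally
on S factors through T₀. (Without normality this fails.) -/
theorem result {S : Scheme.{u}} [ConnectedSpace ↥S]
    [IsLocallyNoetherian S] (hnorm : ∀ x : ↥S, IsDomain (S.presheaf.stalk x) ∧ IsIntegrallyClosed (S.presheaf.stalk x))
    {T T₀ T₁ : Over S} [GrpObj T] [GrpObj T₀] [GrpObj T₁] (hT : Red.IsTorus T) (j₀ : T₀ ⟶ T) [IsMonHom j₀] [Mono j₀]
    (r₀ : ℕ) (hT₀ : Red.IsSplitTorusWith (Fin r₀ → ℤ) T₀)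
    (hmax : ∀ (T' : Over S) [GrpObj T'] (j' : T' ⟶ T) [IsMonHom j'] [Mono j'] (r' : ℕ),
      Red.IsSplitTorusWith (Fin r' → ℤ) T' → ∃ g : T' ⟶ T₀, g ≫ j₀ = j')
    (j₁ : T₁ ⟶ T) [IsMonHom j₁] [Mono j₁]
    (hT₁ : ∀ s : ↥S, ∃ U : S.Opens, s ∈ U ∧ ∃ r : ℕ, Red.IsSplitTorusWith (Fin r → ℤ) (Red.bc U.ι T₁)) :
    ∃ g : T₁ ⟶ T₀, g ≫ j₀ = j₁ := by
  choose U hsU r hr using hT₁
  have : ∀ s, ∃ g : Red.bc (U s).ι T₁ ⟶ Red.bc (U s).ι T₀,
      g ≫ (Over.pullback (U s).ι).map j₀ = (Over.pullback (U s).ι).map j₁ := fun s => by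
    have := DiagRig.isMonHom_bcMap (U s).ι j₁
    exact DiagRig.SplitSubGeneric.exists_factor hnorm hT j₀ hmax (U s) _ _ (r s) (hr s)
  choose g hg using this
  have hcov : iSup (fun s => T₁.hom ⁻¹ᵁ U s) = ⊤ := by
    rw [eq_top_iff]
    intro x _
    exact TopologicalSpace.Opens.mem_iSup.mpr ⟨T₁.hom x, hsU _⟩
  let 𝒱 := T₁.left.openCoverOfIsOpenCover _ hcov
  let l : ∀ s, (T₁.hom ⁻¹ᵁ U s).toScheme ⟶ T₀.left := fun s =>
    Limits.pullback.lift (T₁.hom ⁻¹ᵁ U s).ι (T₁.hom ∣_ U s) (morphismRestrict_ι T₁.hom (U s)).symm ≫ (g s).left ≫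
      Limits.pullback.fst T₀.hom (U s).ι
  have hl : ∀ s, l s ≫ j₀.left = (T₁.hom ⁻¹ᵁ U s).ι ≫ j₁.left := fun s => by
    have h1 : (g s).left ≫ ((Over.pullback (U s).ι).map j₀).left = ((Over.pullback (U s).ι).map j₁).left :=
      congrArg (fun a => a.left) (hg s)
    have h2 := (DiagRig.isPullback_bcMap (U s).ι j₀).w
    have h3 := (DiagRig.isPullback_bcMap (U s).ι j₁).w
    simp only [l, Category.assoc]
    rw [h2, ← Category.assoc ((g s).left), h1, ← h3, ← Category.assoc, Limits.pullback.lift_fst]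
  have : Mono j₀.left := inferInstanceAs (Mono ((Over.forget S).map j₀))
  let G : T₁.left ⟶ T₀.left := 𝒱.glueMorphisms l (fun a b => by
    refine (cancel_mono j₀.left).mp ((Category.assoc _ _ _).trans (Eq.trans ?_ (Category.assoc _ _ _).symm))
    refine (congrArg (_ ≫ ·) (hl a)).trans (Eq.trans ?_ (congrArg (_ ≫ ·) (hl b)).symm)
    exact Limits.pullback.condition_assoc _)
  have hG : G ≫ j₀.left = j₁.left := 𝒱.hom_ext _ _ fun s => by
    rw [← Category.assoc, 𝒱.ι_glueMorphisms]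
    exact hl s
  exact ⟨CategoryTheory.Over.homMk G (by
    rw [← CategoryTheory.Over.w j₀, ← Category.assoc, hG]
    exact CategoryTheory.Over.w j₁), CategoryTheory.Over.OverMorphism.ext hG⟩

end Groth.Agent.S16621
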