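import Groth.Statements.S1663
import Groth.Agent.AffOpen1.Basic
import Groth.Agent.CohAff.PushCoh

set_option autoImplicit false
universe u
open CategoryTheory CategoryTheory.Limits AlgebraicGeometry
open Variety

namespace Groth.Agent.S1663

/-- Let X be a scheme whose local rings are Noetherian of Krull dimension at most one, j : U → X the
inclusion of a retrocompact open (j quasi-compact) and F a quasi-coherent O_U-module. Then R^p j_* F
vanishes for all p > 0. -/
theorem result (X : Scheme.{u})
    (hX : ∀ x : X, IsNoetherianRing (X.presheaf.stalk x) ∧ ringKrullDim (X.presheaf.stalk x) ≤ 1)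
    (U : X.Opens) [QuasiCompact U.ι] [HasInjectiveResolutions (U : Scheme.{u}).Modules]
    (F : (U : Scheme.{u}).Modules) (hF : Coh.IsQCoh F) (p : ℕ) (hp : 0 < p) :
    IsZero ((Coh.Rpush U.ι p).obj F) := by
  haveI := Groth.Agent.AffOpen1.isAffineHom_ι U hX
  obtain ⟨n, rfl⟩ := Nat.exists_eq_add_of_le' hp
  haveI : F.IsQuasicoherent := hF
  let I := injectiveResolution F
  let R := Groth.Agent.CohAff.fresOf I
  have hq : (R.Z 0).IsQuasicoherent := Groth.Agent.CohAff.fresOf_isQuasicoherent I
  have : QuasiSeparated U.ι := inferInstance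
  have hz : Limits.IsZero (R.Rc U.ι n) := R.isZero_Rc_of_van U.ι fun V hV =>
    Groth.Agent.CohAff.FRes.van_succ_of_isAffineOpen (R := R) (hV.preimage U.ι) n
  exact hz.of_iso (Groth.Agent.CohAff.rpushSuccIso U.ι I n)

end Groth.Agent.S1663
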