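import Groth.Statements.S16631
import Groth.Agent.TFCurvLib.StabPush
import Groth.Agent.S1585
import Groth.Agent.S17806

set_option autoImplicit false
universe u
open CategoryTheory CategoryTheory.Limits AlgebraicGeometry
open TFCurv

namespace Groth.Agent.S16631

/-- Suppose k is an algebraically closed field and X is an integral proper curve over k (integral,
proper, of dimension one), with normalisation ν : X~ → X. Given an ample invertible module L on X
and a finite locally free module E of rank n on X~, the direct image ν_*E on X is stable exactly
when E itself is stable. Here stability means stability of pure one-dimensional sheaves measured by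
reduced Hilbert polynomials, where E carries the polarisation ν^*L and ν_*E carries L; for an
integral curve this amounts to the slope inequality deg F · rk E < deg E · rk F holding for each
nonzero torsion-free subsheaf F whose rank is smaller, with degrees computed via the Euler
characteristic, and the condition is independent of which ample polarisation is chosen. -/
theorem result (k : Type u) [Field k] [IsAlgClosed k] (X : Scheme.{u}) [X.Over (Spec (CommRingCat.of k))] [IsIntegral X] [IsProper (X ↘ Spec (CommRingCat.of k))] (hdim : topologicalKrullDim X = 1) [QuasiCompact (X.fromSpecStalk (genericPoint X))] [QuasiSeparated (X.fromSpecStalk (genericPoint X))] (L : X.Modules) (hL : CohB1.IsAmple L) (n : ℕ) (E : (Curv2.normalization X).Modules) (hE : FlatMod.IsFinLocFreeOfRank n E) :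
    letI : (Curv2.normalization X).Over (Spec (CommRingCat.of k)) := ⟨Curv2.normalizationι X ≫ X ↘ Spec (CommRingCat.of k)⟩
    ShStab.IsStable k (Curv2.normalization X) ((Scheme.Modules.pullback (Curv2.normalizationι X)).obj L) E 1 ↔ ShStab.IsStable k X L ((Coh.push (Curv2.normalizationι X)).obj E) 1 := by
  letI : (Curv2.normalization X).Over (Spec (CommRingCat.of k)) := ⟨Curv2.normalizationι X ≫ X ↘ Spec (CommRingCat.of k)⟩
  haveI := Groth.Agent.EulerChar.isLocallyNoetherian k (X := X)
  haveI : IsFinite (Curv2.normalizationι X) := (Groth.Agent.S1585.result k X).1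
  haveI := Groth.Agent.Curv2Norm.isIntegral X
  haveI : IsProper (Curv2.normalization X ↘ Spec (CommRingCat.of k)) :=
    inferInstanceAs (IsProper (Curv2.normalizationι X ≫ X ↘ Spec (CommRingCat.of k)))
  haveI := Groth.Agent.Curv2Norm.isDominant X
  haveI : Surjective (Curv2.normalizationι X) := ⟨by
    have h := (Curv2.normalizationι X).denseRange.closure_range
    rw [(Curv2.normalizationι X).isClosedMap.isClosed_range.closure_eq] at h
    exact Set.range_eq_univ.mp h⟩
  obtain ⟨V, hVd, hViso⟩ := Groth.Agent.Curv2Norm.exists_dense_isIso X
  obtain ⟨y, hy⟩ := hVd.nonempty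
  haveI hq := (Groth.Agent.VBLib.isCoh_of_ofRank hE).1
  exact Groth.Agent.TFCurvLib.isStable_push_iff (Curv2.normalizationι X) k rfl hL
    (Groth.Agent.S17806.result k (X ↘ Spec (CommRingCat.of k)) (Curv2.normalizationι X ≫ X ↘ Spec (CommRingCat.of k))
      (Curv2.normalizationι X) rfl L hL.1 hL)
    hdim (Groth.Agent.Curv2Norm.app_injective X) ((genericPoint_specializes y).mem_open V.2 hy)
    (Groth.Agent.TFCurvLib.normalizationι_genericPoint X) E (Groth.Agent.VBLib.isCoh_of_ofRank hE) fun z => by
      haveI := (Groth.Agent.Props.QProj.free_stalk E (Groth.Agent.VBLib.isFinLocFree_of_ofRank hE) z).1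
      infer_instance

end Groth.Agent.S16631
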