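import Groth.Statements.S16632
import Groth.Agent.TFCurvLib.StabModuli
import Groth.Agent.S1585

set_option autoImplicit false
universe u
open CategoryTheory CategoryTheory.Limits AlgebraicGeometry
open TFCurv

namespace Groth.Agent.S16632

/-- Let X be an integral proper curve (integral, proper, of dimension one) over an algebraically closed
field k with normalisation ν : X~ → X, L an ample invertible module on X and P a rational
polynomial. Fix a class T₀ of test k-schemes containing the spectra of algebraically closed fields
(for instance all k-schemes, or all locally Noetherian k-schemes); the published statement uses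
separated k-schemes of finite type as test schemes, a class that does not contain these spectra.
Suppose (M', φ') is a coarse moduli scheme on T₀-schemes, whose geometric points are the
S-equivalence classes, for the problem of flat families of semistable pure one-dimensional sheaves
with Hilbert polynomial P on X~ polarised by ν^*L, and (M, φ) is the same for X polarised by L. Then
there is exactly one k-morphism g : M' → M induced by direct image along ν: for every test scheme T,
every admissible family x on X~ ×_k T and every admissible family y on X ×_k T isomorphic to the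
direct image of x along ν × T, the point of M attached to y is the point of M' attached to x
followed by g. In rank and degree, the morphism goes from the moduli of (n, d) on X~ to the moduli
of (n, d + nδ) on X, δ = g(X) − g(X~). (The published statement is also made for an arbitrary
partial normalisation X' → X; only the normalisation is treated here.) -/
theorem result (k : Type u) [Field k] [IsAlgClosed k] (X : Scheme.{u}) [X.Over (Spec (CommRingCat.of k))] [IsIntegral X] [IsProper (X ↘ Spec (CommRingCat.of k))] (hdim : topologicalKrullDim X = 1) [QuasiCompact (X.fromSpecStalk (genericPoint X))] [QuasiSeparated (X.fromSpecStalk (genericPoint X))] (L : X.Modules) (hL : CohB1.IsAmple L) (P : Polynomial ℚ)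
    (T₀ : ObjectProperty (Over (Spec (CommRingCat.of k)))) (M' : Over (Spec (CommRingCat.of k))) (φ' : (ShStab.modSS (Curv2.normalizationι X ≫ X ↘ Spec (CommRingCat.of k)) ((Scheme.Modules.pullback (Curv2.normalizationι X)).obj L) P 1).Hom T₀ M')
    (hM' : ModFun.IsCoarseQuot T₀ (ShStab.modSS (Curv2.normalizationι X ≫ X ↘ Spec (CommRingCat.of k)) ((Scheme.Modules.pullback (Curv2.normalizationι X)).obj L) P 1) (fun Ω _ _ s F F' => @ShStab.SEquiv Ω _ (PicF.XT (Curv2.normalizationι X ≫ X ↘ Spec (CommRingCat.of k)) (Over.mk s)) ⟨PicF.XTproj (Curv2.normalizationι X ≫ X ↘ Spec (CommRingCat.of k)) (Over.mk s)⟩ ((Scheme.Modules.pullback (pullback.fst (Curv2.normalizationι X ≫ X ↘ Spec (CommRingCat.of k)) s)).obj ((Scheme.Modules.pullback (Curv2.normalizationι X)).obj L)) 1 F F') M' φ')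
    (M : Over (Spec (CommRingCat.of k))) (φ : (ShStab.modSS (X ↘ Spec (CommRingCat.of k)) L P 1).Hom T₀ M)
    (hM : ModFun.IsCoarseQuot T₀ (ShStab.modSS (X ↘ Spec (CommRingCat.of k)) L P 1) (fun Ω _ _ s F F' => @ShStab.SEquiv Ω _ (PicF.XT (X ↘ Spec (CommRingCat.of k)) (Over.mk s)) ⟨PicF.XTproj (X ↘ Spec (CommRingCat.of k)) (Over.mk s)⟩ ((Scheme.Modules.pullback (pullback.fst (X ↘ Spec (CommRingCat.of k)) s)).obj L) 1 F F') M φ) :
    ∃! g : M' ⟶ M, ModFun.Induces φ' φ
      (fun (T : Over (Spec (CommRingCat.of k))) (x : (PicF.XT (Curv2.normalizationι X ≫ X ↘ Spec (CommRingCat.of k)) T).Modules) (y : (PicF.XT (X ↘ Spec (CommRingCat.of k)) T).Modules) =>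
        Nonempty (y ≅ (Scheme.Modules.pushforward (pullback.map (Curv2.normalizationι X ≫ X ↘ Spec (CommRingCat.of k)) T.hom (X ↘ Spec (CommRingCat.of k)) T.hom (Curv2.normalizationι X) (𝟙 T.left) (𝟙 (Spec (CommRingCat.of k))) (Category.comp_id _) ((Category.comp_id _).trans (Category.id_comp _).symm))).obj x)) g := by
  haveI := Groth.Agent.EulerChar.isLocallyNoetherian k (X := X)
  haveI : IsFinite (Curv2.normalizationι X) := (Groth.Agent.S1585.result k X).1
  haveI := Groth.Agent.Curv2Norm.isIntegral X
  haveI := Groth.Agent.Curv2Norm.isDominant X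
  haveI : Surjective (Curv2.normalizationι X) := ⟨by
    have h := (Curv2.normalizationι X).denseRange.closure_range
    rw [(Curv2.normalizationι X).isClosedMap.isClosed_range.closure_eq] at h
    exact Set.range_eq_univ.mp h⟩
  obtain ⟨V, hVd, hViso⟩ := Groth.Agent.Curv2Norm.exists_dense_isIso X
  obtain ⟨y, hy⟩ := hVd.nonempty
  exact Groth.Agent.TFCurvLib.existsUnique_induces (Curv2.normalizationι X) (X ↘ Spec (CommRingCat.of k)) hdim V
    ((genericPoint_specializes y).mem_open V.2 hy) L hL P T₀ M' φ' hM'.2.1 M φ

end Groth.Agent.S16632
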