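import Groth.Statements.S16644
import Mathlib

set_option autoImplicit false
open QuadZ

namespace Groth.Agent.S16644

open MvPolynomial

theorem det_zero_char_two {R : Type*} [CommRing R] (h2 : (2 : R) = 0) {n : ℕ} (hn : Odd n)
    (A : Matrix (Fin n) (Fin n) R) (hA : A.transpose = A) (hd : ∀ i, A i i = 0) : A.det = 0 := by
  classical
  rw [Matrix.det_apply']
  have hsign : ∀ σ : Equiv.Perm (Fin n), ((Equiv.Perm.sign σ : ℤ) : R) = 1 := by
    intro σ
    rcases Int.units_eq_one_or (Equiv.Perm.sign σ) with h | h <;> rw [h]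
    · simp
    · push_cast
      linear_combination -h2
  simp only [hsign, one_mul]
  refine Finset.sum_involution (fun σ _ => σ⁻¹) (fun σ _ => ?_) (fun σ _ hne he => hne ?_)
    (fun σ _ => Finset.mem_univ _) (fun σ _ => inv_inv σ)
  · have : ∏ i, A ((σ⁻¹ : Equiv.Perm (Fin n)) i) i = ∏ i, A (σ i) i := by
      rw [← Equiv.prod_comp σ (fun i => A ((σ⁻¹ : Equiv.Perm (Fin n)) i) i)]
      refine Finset.prod_congr rfl fun i _ => ?_
      conv_rhs => rw [← hA]
      rw [Matrix.transpose_apply, Equiv.Perm.inv_def, Equiv.symm_apply_apply]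
    rw [this, ← two_mul, h2, zero_mul]
  · have hσ : σ ^ (2 ^ 1) = 1 := by rw [pow_one, sq]; exact inv_eq_iff_mul_eq_one.mp he
    haveI : Fact (Nat.Prime 2) := ⟨Nat.prime_two⟩
    obtain ⟨i, hi⟩ := Equiv.Perm.exists_fixed_point_of_prime (p := 2) (n := 1)
      (by rw [Fintype.card_fin]; intro h; obtain ⟨m, rfl⟩ := hn; omega) hσ
    exact Finset.prod_eq_zero (Finset.mem_univ i) (by rw [hi, hd])


/-- For odd n, the discriminant of the universal quadratic form Σ_{i ≤ j} A_{ij} x_i x_j in n variables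
(variables A_{ij} indexed by unordered pairs), i.e. the determinant of the symmetric matrix with
diagonal entries 2 A_{ii} and off-diagonal entries A_{ij}, is divisible by 2 in the integral
polynomial ring ℤ[A_{ij}] (so the half-discriminant is an integral polynomial). -/
theorem result (n : ℕ) (hn : Odd n) :
    (2 : MvPolynomial (Sym2 (Fin n)) ℤ) ∣
      (Matrix.of fun i j : Fin n =>
        if i = j then 2 * MvPolynomial.X (R := ℤ) (σ := Sym2 (Fin n)) (Sym2.mk i j)
        else MvPolynomial.X (R := ℤ) (σ := Sym2 (Fin n)) (Sym2.mk i j)).det := by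
  classical
  rw [show (2 : MvPolynomial (Sym2 (Fin n)) ℤ) = C 2 from (map_ofNat C 2).symm]
  rw [C_dvd_iff_dvd_coeff]
  intro m
  rw [show (2 : ℤ) = ((2 : ℕ) : ℤ) from rfl, ← ZMod.intCast_zmod_eq_zero_iff_dvd]
  rw [← eq_intCast (Int.castRingHom (ZMod 2)), ← coeff_map, RingHom.map_det,
    det_zero_char_two (by
      rw [show (2 : MvPolynomial (Sym2 (Fin n)) (ZMod 2)) = C 2 from (map_ofNat C 2).symm,
        show (2 : ZMod 2) = 0 from ZMod.natCast_self 2, map_zero]) hn _ ?_ ?_, coeff_zero]
  · refine Matrix.ext fun i j => ?_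
    rcases eq_or_ne i j with rfl | hij
    · rfl
    · simp only [Matrix.transpose_apply, RingHom.mapMatrix_apply, Matrix.map_apply, Matrix.of_apply,
        if_neg hij, if_neg hij.symm]
      rw [Sym2.eq_swap]
  · intro i
    simp only [RingHom.mapMatrix_apply, Matrix.map_apply, Matrix.of_apply, if_pos, map_mul, map_C]
    rw [show Int.castRingHom (ZMod 2) ((2 : ℕ) : ℤ) = 0 by rw [map_natCast]; exact ZMod.natCast_self 2,
      map_zero, zero_mul]

end Groth.Agent.S16644
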