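import Groth.Statements.S16647
import Groth.Agent.GrpScheme.Basic
import Groth.Agent.GrpdLib.GrpOver
import Groth.Agent.FpqcDesc.Props
-- import your own Groth.Agent.* helpers here

set_option autoImplicit false
set_option backward.isDefEq.respectTransparency false
open CategoryTheory MonoidalCategory CartesianMonoidalCategory MonObj GrpObj AlgebraicGeometry CategoryTheory.Limits
universe u
open GrpSch

namespace Groth.Agent.S16647

/-- In a commutative diagram of short exact sequences of S-group schemes that are flat, separated and of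
finite presentation over a scheme S (in each row the first homomorphism is the kernel of the second
and the second is a flat surjection), if the two outer vertical homomorphisms are closed immersions
then so is the middle one. -/
theorem result {S : Scheme.{u}}
    {H₁' H₁ H₁'' H₂' H₂ H₂'' : Over S} [GrpObj H₁'] [GrpObj H₁] [GrpObj H₁''] [GrpObj H₂'] [GrpObj H₂] [GrpObj H₂'']
    [Flat H₁'.hom] [Flat H₁.hom] [Flat H₁''.hom] [Flat H₂'.hom] [Flat H₂.hom] [Flat H₂''.hom]
    [IsSeparated H₁'.hom] [IsSeparated H₁.hom] [IsSeparated H₁''.hom]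
    [IsSeparated H₂'.hom] [IsSeparated H₂.hom] [IsSeparated H₂''.hom]
    [QuasiCompact H₁'.hom] [QuasiCompact H₁.hom] [QuasiCompact H₁''.hom]
    [QuasiCompact H₂'.hom] [QuasiCompact H₂.hom] [QuasiCompact H₂''.hom]
    [LocallyOfFinitePresentation H₁'.hom] [LocallyOfFinitePresentation H₁.hom] [LocallyOfFinitePresentation H₁''.hom]
    [LocallyOfFinitePresentation H₂'.hom] [LocallyOfFinitePresentation H₂.hom] [LocallyOfFinitePresentation H₂''.hom]
    (a₁ : H₁' ⟶ H₁) (b₁ : H₁ ⟶ H₁'') (a₂ : H₂' ⟶ H₂) (b₂ : H₂ ⟶ H₂'')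
    [IsMonHom a₁] [IsMonHom b₁] [IsMonHom a₂] [IsMonHom b₂]
    (h₁ : AlgGrp.IsKernel a₁ b₁) (hb₁ : Flat b₁.left ∧ Surjective b₁.left)
    (h₂ : AlgGrp.IsKernel a₂ b₂) (hb₂ : Flat b₂.left ∧ Surjective b₂.left)
    (j' : H₁' ⟶ H₂') (j : H₁ ⟶ H₂) (j'' : H₁'' ⟶ H₂'') [IsMonHom j'] [IsMonHom j] [IsMonHom j'']
    (sq₁ : a₁ ≫ j = j' ≫ a₂) (sq₂ : b₁ ≫ j'' = j ≫ b₂)
    (hj' : IsClosedImmersion j'.left) (hj'' : IsClosedImmersion j''.left) :
    IsClosedImmersion j.left := by
  have : Mono a₂ := GrpdLib.GrpOver.kernel_mono h₂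
  have : Mono a₁ := GrpdLib.GrpOver.kernel_mono h₁
  have hw : b₁ ≫ j'' = j ≫ b₂ := sq₂
  let P := pullback j'' b₂
  let π : P ⟶ H₁'' := pullback.fst j'' b₂
  let pr : P ⟶ H₂ := pullback.snd j'' b₂
  let φ : H₁ ⟶ P := pullback.lift b₁ j hw
  have hφπ : φ ≫ π = b₁ := pullback.lift_fst _ _ _
  have hφpr : φ ≫ pr = j := pullback.lift_snd _ _ _
  have hcond : π ≫ j'' = pr ≫ b₂ := pullback.condition
  have hb₂1 : a₂ ≫ b₂ = 1 := by
    have h := GrpdLib.GrpOver.comp_kernel_comp h₂ (𝟙 H₂')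
    rwa [Category.id_comp] at h
  have hb₁1 : a₁ ≫ b₁ = 1 := by
    have h := GrpdLib.GrpOver.comp_kernel_comp h₁ (𝟙 H₁')
    rwa [Category.id_comp] at h
  let ψ : H₁ ⊗ H₂' ⟶ P := pullback.lift (fst H₁ H₂' ≫ b₁) ((fst H₁ H₂' ≫ j) * (snd H₁ H₂' ≫ a₂)) (by
    rw [MonObj.mul_comp, Category.assoc (snd H₁ H₂'), hb₂1, MonObj.comp_one, _root_.mul_one, Category.assoc,
      Category.assoc, hw])
  have hψπ : ψ ≫ π = fst H₁ H₂' ≫ b₁ := pullback.lift_fst _ _ _
  have hψpr : ψ ≫ pr = (fst H₁ H₂' ≫ j) * (snd H₁ H₂' ≫ a₂) := pullback.lift_snd _ _ _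
  have hψsq : IsPullback ψ (fst H₁ H₂') π b₁ := by
    have hl : ∀ c : PullbackCone π b₁, ∃ n : c.pt ⟶ H₂', n ≫ a₂ = (c.snd ≫ j)⁻¹ * (c.fst ≫ pr) := fun c =>
      GrpdLib.GrpOver.kernel_factor h₂ _ (by
        rw [MonObj.mul_comp, GrpObj.inv_comp, Category.assoc, Category.assoc, ← hcond, ← hw,
          ← Category.assoc c.fst, c.condition, Category.assoc, inv_mul_cancel])
    refine ⟨⟨hψπ⟩, ⟨PullbackCone.IsLimit.mk _ (fun c => lift c.snd (hl c).choose) (fun c => ?_)
      (fun c => lift_fst _ _) (fun c m h₁' h₂' => ?_)⟩⟩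
    · refine pullback.hom_ext ?_ ?_
      · show (lift c.snd (hl c).choose ≫ ψ) ≫ π = c.fst ≫ π
        rw [Category.assoc, hψπ, lift_fst_assoc, c.condition]
      · show (lift c.snd (hl c).choose ≫ ψ) ≫ pr = c.fst ≫ pr
        rw [Category.assoc, hψpr, MonObj.comp_mul, lift_fst_assoc, lift_snd_assoc, (hl c).choose_spec,
          mul_inv_cancel_left]
    · refine CartesianMonoidalCategory.hom_ext _ _ (h₂'.trans (lift_fst _ _).symm) ?_
      rw [lift_snd, ← cancel_mono a₂, (hl c).choose_spec, ← h₁', ← h₂', Category.assoc m ψ, hψpr,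
        MonObj.comp_mul, Category.assoc m (fst H₁ H₂'), inv_mul_cancel_left, Category.assoc]
  let m₁ : H₁ ⊗ H₁' ⟶ H₁ := fst H₁ H₁' * (snd H₁ H₁' ≫ a₁)
  have hm₁ : m₁ ≫ φ = (H₁ ◁ j') ≫ ψ := by
    refine pullback.hom_ext ?_ ?_
    · show (m₁ ≫ φ) ≫ π = ((H₁ ◁ j') ≫ ψ) ≫ π
      rw [Category.assoc, hφπ, Category.assoc, hψπ, whiskerLeft_fst_assoc, MonObj.mul_comp, Category.assoc,
        hb₁1, MonObj.comp_one, _root_.mul_one]
    · show (m₁ ≫ φ) ≫ pr = ((H₁ ◁ j') ≫ ψ) ≫ pr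
      rw [Category.assoc, hφpr, Category.assoc, hψpr, MonObj.comp_mul, whiskerLeft_fst_assoc,
        whiskerLeft_snd_assoc, MonObj.mul_comp, Category.assoc, sq₁]
  have hsq : IsPullback (H₁ ◁ j') m₁ ψ φ := by
    have hb : ∀ c : PullbackCone ψ φ, (c.snd ≫ b₁ = (c.fst ≫ fst H₁ H₂') ≫ b₁) := fun c => by
      have := congrArg (· ≫ π) c.condition
      simp only [Category.assoc, hφπ, hψπ] at this ⊢
      exact this.symm
    have hl : ∀ c : PullbackCone ψ φ, ∃ n : c.pt ⟶ H₁', n ≫ a₁ = (c.fst ≫ fst H₁ H₂')⁻¹ * c.snd := fun c =>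
      GrpdLib.GrpOver.kernel_factor h₁ _ (by
        rw [MonObj.mul_comp, GrpObj.inv_comp, hb c, inv_mul_cancel])
    refine ⟨⟨hm₁.symm⟩, ⟨PullbackCone.IsLimit.mk _ (fun c => lift (c.fst ≫ fst H₁ H₂') (hl c).choose)
      (fun c => ?_) (fun c => ?_) (fun c m h₁' h₂' => ?_)⟩⟩
    · refine CartesianMonoidalCategory.hom_ext _ _ ?_ ?_
      · rw [Category.assoc, whiskerLeft_fst, lift_fst]
      · rw [Category.assoc, whiskerLeft_snd, lift_snd_assoc, ← cancel_mono a₂, Category.assoc, ← sq₁,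
          ← Category.assoc, (hl c).choose_spec, MonObj.mul_comp, GrpObj.inv_comp]
        have := congrArg (· ≫ pr) c.condition
        simp only [Category.assoc, hφpr, hψpr, MonObj.comp_mul] at this
        rw [← this, Category.assoc, inv_mul_cancel_left, Category.assoc]
    · rw [MonObj.comp_mul, lift_fst, lift_snd_assoc, (hl c).choose_spec, mul_inv_cancel_left]
    · refine CartesianMonoidalCategory.hom_ext _ _ ?_ ?_
      · rw [lift_fst, ← h₁', Category.assoc, whiskerLeft_fst]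
      · rw [lift_snd, ← cancel_mono a₁, (hl c).choose_spec, ← h₂', ← h₁', Category.assoc m (H₁ ◁ j'),
          whiskerLeft_fst, MonObj.comp_mul, inv_mul_cancel_left, Category.assoc]
  have hb₁qc : QuasiCompact b₁.left := by
    have : QuasiCompact (b₁.left ≫ H₁''.hom) := by rw [Over.w b₁]; infer_instance
    exact QuasiCompact.of_comp b₁.left H₁''.hom
  have hψl := GrpdLib.GrpOver.isPullback_left hψsq
  have hψmem : FpqcDesc.FPQC ψ.left :=
    ⟨⟨MorphismProperty.of_isPullback hψl.flip hb₁.2, MorphismProperty.of_isPullback hψl.flip hb₁.1⟩,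
      MorphismProperty.of_isPullback hψl.flip hb₁qc⟩
  have := FpqcDesc.descendsAlong_isClosedImmersion.{u}
  have hwl : IsClosedImmersion (H₁ ◁ j').left := GrpScheme.Basic.whiskerLeft_mem @IsClosedImmersion j' H₁ hj'
  have hφc : IsClosedImmersion φ.left :=
    MorphismProperty.of_isPullback_of_descendsAlong (GrpdLib.GrpOver.isPullback_left hsq) hψmem hwl
  have hprc : IsClosedImmersion pr.left :=
    MorphismProperty.of_isPullback (GrpdLib.GrpOver.isPullback_left (IsPullback.of_hasPullback j'' b₂)) hj''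
  rw [← hφpr, Over.comp_left]
  infer_instance

end Groth.Agent.S16647
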