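import Groth.Statements.S1665
import Groth.Agent.OneDim.Gluing

set_option autoImplicit false
universe u
open Variety

namespace Groth.Agent.S1665

/-- Let B be a Noetherian domain of dimension one with finitely many maximal ideals and B' its integral
closure in its fraction field. Then B' is a Dedekind domain with finitely many maximal ideals, and
for every nonzero x in the Jacobson radical of B' and every y ∈ B' some power x^n satisfies x^n y ∈
B. -/
theorem result (B : Type u) [CommRing B] [IsDomain B] [IsNoetherianRing B]
    (hdim : ringKrullDim B = 1) (hsl : Finite (MaximalSpectrum B)) :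
    IsDedekindDomain (integralClosure B (FractionRing B)) ∧ Finite (MaximalSpectrum (integralClosure B (FractionRing B))) ∧
      ∀ x : integralClosure B (FractionRing B), x ≠ 0 → x ∈ (⊥ : Ideal (integralClosure B (FractionRing B))).jacobson →
        ∀ y : integralClosure B (FractionRing B), ∃ n : ℕ, (x ^ n * y).1 ∈ (algebraMap B (FractionRing B)).range := by
  classical
  haveI := OneDim.krullDimLE_one_of_eq hdim
  set R' := integralClosure B (FractionRing B) with hR'
  haveI : IsNoetherianRing R' := OneDim.isNoetherianRing_subalgebra R'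
  haveI : Ring.DimensionLEOne R' := OneDim.dimensionLEOne_subalgebra R'
  haveI : IsFractionRing R' (FractionRing B) :=
    integralClosure.isFractionRing_of_finite_extension (FractionRing B) (FractionRing B)
  haveI : IsIntegrallyClosed R' := (isIntegrallyClosed_iff_isIntegrallyClosedIn (FractionRing B)).mpr inferInstance
  haveI : IsDedekindRing R' := { }
  refine ⟨{ }, ?_, ?_⟩
  · haveI := Fintype.ofFinite (MaximalSpectrum B)
    have hnf := OneDim.not_isField_of_eq hdim
    choose e he he0 using fun m : MaximalSpectrum B =>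
      Submodule.exists_mem_ne_zero_of_ne_bot (Ring.ne_bot_of_isMaximal_of_not_isField m.isMaximal hnf)
    have ha0 : (∏ m, e m) ≠ 0 := Finset.prod_ne_zero_iff.mpr fun m _ => he0 m
    haveI := (OneDim.finite_maximal_containing R' ha0).to_subtype
    refine Finite.of_injective (fun M : MaximalSpectrum R' =>
      (⟨M.asIdeal, M.isMaximal, ?_⟩ : {P : Ideal R' | P.IsMaximal ∧ algebraMap B R' (∏ m, e m) ∈ P}))
      (fun a b h => MaximalSpectrum.ext (congrArg Subtype.val h :))
    haveI := M.isMaximal
    have hc : (M.asIdeal.comap (algebraMap B R')).IsMaximal :=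
      Ideal.isMaximal_comap_of_isIntegral_of_isMaximal M.asIdeal
    exact Ideal.mem_comap.mp (Ideal.mem_of_dvd _ (Finset.dvd_prod_of_mem e (Finset.mem_univ ⟨_, hc⟩)) (he ⟨_, hc⟩))
  · intro x hx0 hxJ y
    set Bb := (algebraMap B (FractionRing B)).range with hBb
    have hinj : Function.Injective (algebraMap B (FractionRing B)) := IsFractionRing.injective _ _
    let eq : B ≃+* Bb := RingEquiv.ofBijective (algebraMap B (FractionRing B)).rangeRestrict
      ⟨fun a b h => hinj (congrArg Subtype.val h :), RingHom.rangeRestrict_surjective _⟩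
    haveI : IsNoetherianRing Bb := isNoetherianRing_of_ringEquiv _ eq
    haveI : Ring.KrullDimLE 1 Bb := Ring.krullDimLE_iff.mpr (by
      rw [← ringKrullDim_eq_of_ringEquiv eq, hdim]
      rfl)
    haveI : IsFractionRing Bb (FractionRing B) := IsFractionRing.of_field Bb _ fun z => by
      obtain ⟨a, b, rfl⟩ := IsLocalization.exists_mk'_eq (nonZeroDivisors B) z
      exact ⟨eq a, eq b, by rw [IsFractionRing.mk'_eq_div]; rfl⟩
    suffices hy : ∀ O : ValuationSubring (FractionRing B), Bb ≤ O.toSubring → O ≠ ⊤ → x.1 ∈ O.nonunits by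
      obtain ⟨N, hN⟩ := OneDim.eventually_pow_mul_mem Bb (y := x.1) hy y.1
      exact ⟨N, hN N le_rfl⟩
    intro O hBO hO
    have hR'O : R'.toSubring ≤ O.toSubring := fun z hz => by
      have hint : IsIntegral B z := hz
      have : IsIntegral O.toSubring z := by
        let f : B →+* O.toSubring :=
          (Subring.inclusion hBO).comp (algebraMap B (FractionRing B)).rangeRestrict
        exact hint.map_of_comp_eq f (RingHom.id _) rfl
      obtain ⟨w, hw⟩ := (IsIntegrallyClosed.isIntegral_iff (R := O) (K := FractionRing B)).mp this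
      exact hw ▸ w.2
    set P := Ideal.comap (Subring.inclusion hR'O) (IsLocalRing.maximalIdeal O)
    have hP0 : P ≠ ⊥ := fun h0 => by
      obtain ⟨⟨_, b, rfl⟩, hb, hb'⟩ := OneDim.exists_mem_nonunits Bb hBO hO
      have hmem : algebraMap B R' b ∈ P :=
        (O.coe_mem_nonunits_iff (a := ⟨algebraMap B (FractionRing B) b, hBO ⟨b, rfl⟩⟩)).mp hb'
      rw [h0, Ideal.mem_bot] at hmem
      exact hb (Subtype.ext (congrArg Subtype.val hmem :))
    haveI hPp : P.IsPrime := Ideal.comap_isPrime _ _
    have hPm : P.IsMaximal := Ring.DimensionLEOne.maximalOfPrime hP0 hPp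
    exact (O.coe_mem_nonunits_iff (a := ⟨x.1, hR'O x.2⟩)).mpr
      (Ideal.mem_sInf.mp hxJ ⟨bot_le, hPm⟩ : x ∈ P)

end Groth.Agent.S1665
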