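import Groth.Statements.S16663
import Groth.Agent.Conn95.Hom
import Mathlib.Algebra.Ring.Parity

set_option autoImplicit false
universe v u
open TensorProduct
open Conn

namespace Groth.Agent.S16663

/-- Let B be an A-algebra with a receptacle of differentials (Ω, δ), Ω a finite free B-module (the local
form of a weakly smooth scheme), and let M be a finitely ℤ-graded B-module presented as a finite
family of finite free B-modules M_i with integer degrees deg i (the local form of a graded vector
bundle), with total module Π_i M_i. Let ∇ be a connection on Π_i M_i preserving the grading, in the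
sense that (pr_j ⊗ 1)(∇(ι_i m)) = 0 for m ∈ M_i whenever deg i ≠ deg j, and let ∇_E be the induced
connection on the B-linear endomorphisms, the one with (ev_m ⊗ 1)(∇_E φ) = ∇(φ m) − (φ ⊗ 1)(∇ m).
Give B the connection b ↦ 1 ⊗ δ b. Then the supertrace, φ ↦ tr(ε ∘ φ) with ε = Σ_i (−1)^{deg i} ι_i
∘ pr_i the grading involution, is a horizontal map End_B(Π_i M_i) → B. -/
theorem result {A : Type v} {B Ω ι : Type u}
    [CommRing A] [CommRing B] [Algebra A B]
    [AddCommGroup Ω] [Module B Ω] [Module A Ω] [IsScalarTower A B Ω] [Module.Finite B Ω] [Module.Free B Ω]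
    [Fintype ι] [DecidableEq ι] (deg : ι → ℤ) (M : ι → Type u)
    [∀ i, AddCommGroup (M i)] [∀ i, Module B (M i)] [∀ i, Module A (M i)] [∀ i, IsScalarTower A B (M i)]
    [∀ i, Module.Free B (M i)] [∀ i, Module.Finite B (M i)]
    (δ : Derivation A B Ω) (nabla : (Π k, M k) →ₗ[A] (Π k, M k) ⊗[B] Ω) (hc : Conn.IsConn δ nabla)
    (hgr : ∀ i j : ι, deg i ≠ deg j → ∀ m : M i,
      TensorProduct.map (LinearMap.proj j : (Π k, M k) →ₗ[B] M j) LinearMap.id (nabla (LinearMap.single B M i m)) = 0)
    (nablaE : ((Π k, M k) →ₗ[B] (Π k, M k)) →ₗ[A] ((Π k, M k) →ₗ[B] (Π k, M k)) ⊗[B] Ω)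
    (hE : Conn.IsHomConn nabla nabla nablaE) :
    Conn.IsHorizontal nablaE (Conn.triv δ)
      (LinearMap.trace B (Π k, M k) ∘ₗ LinearMap.llcomp B (Π k, M k) (Π k, M k) (Π k, M k)
        (∑ i : ι, (LinearMap.single B M i) ∘ₗ (((-1 : B) ^ (deg i).natAbs) • (LinearMap.proj i : (Π k, M k) →ₗ[B] M i)))) := by
  have hf : ∀ i, Module.Free B (M i) := inferInstance
  let ε : (Π k, M k) →ₗ[B] (Π k, M k) :=
    ∑ i : ι, (LinearMap.single B M i) ∘ₗ (((-1 : B) ^ (deg i).natAbs) • (LinearMap.proj i : (Π k, M k) →ₗ[B] M i))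
  let s : ι → B := fun i => (-1 : B) ^ (deg i).natAbs
  have hεj : ∀ j, (LinearMap.proj j : (Π k, M k) →ₗ[B] M j) ∘ₗ ε = s j • LinearMap.proj j := by
    intro j
    ext x
    simp [ε, s, Finset.sum_apply, Pi.single_apply]
  have hεi : ∀ (i : ι) (m : M i), ε (LinearMap.single B M i m) = s i • LinearMap.single B M i m := by
    intro i m
    funext j
    have := LinearMap.congr_fun (hεj j) (LinearMap.single B M i m)
    simp only [LinearMap.comp_apply, LinearMap.smul_apply, LinearMap.proj_apply] at this
    rw [this]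
    by_cases h : j = i
    · subst h; simp
    · simp [h]
  have hδs : ∀ i, δ (s i) = 0 := fun i => by
    rcases neg_one_pow_eq_or B (deg i).natAbs with h | h <;> simp [s, h]
  have hid : (LinearMap.id : (Π k, M k) →ₗ[B] _) =
      ∑ j, LinearMap.single B M j ∘ₗ LinearMap.proj j := by
    ext x i; simp [Finset.sum_apply, Pi.single_apply]
  have hε : ∀ x, nabla (ε x) = TensorProduct.map ε LinearMap.id (nabla x) := by
    intro x
    rw [show x = ∑ i, LinearMap.single B M i (x i) by funext i; simp [Finset.sum_apply, Pi.single_apply]]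
    simp only [map_sum]
    refine Finset.sum_congr rfl fun i _ => ?_
    generalize x i = m
    rw [hεi, hc, hδs, TensorProduct.tmul_zero, add_zero]
    have hdec : ∀ f : (Π k, M k) →ₗ[B] (Π k, M k),
        TensorProduct.map f LinearMap.id (nabla (LinearMap.single B M i m)) = ∑ j,
          TensorProduct.map ((f ∘ₗ LinearMap.single B M j) ∘ₗ LinearMap.proj j) LinearMap.id
            (nabla (LinearMap.single B M i m)) := fun f => by
      rw [← LinearMap.sum_apply, ← Conn95.Hom.map_sum_left]
      congr 2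
      conv_lhs => rw [← LinearMap.comp_id f, hid]
      ext x k
      simp [Finset.sum_apply]
    have h0 := hdec LinearMap.id
    rw [TensorProduct.map_id, LinearMap.id_apply] at h0
    rw [hdec ε]
    conv_lhs => rw [h0, Finset.smul_sum]
    refine Finset.sum_congr rfl fun j _ => ?_
    by_cases h : deg i = deg j
    · have : (ε ∘ₗ LinearMap.single B M j) ∘ₗ LinearMap.proj j =
          s i • ((LinearMap.id ∘ₗ LinearMap.single B M j) ∘ₗ LinearMap.proj j) := by
        refine LinearMap.ext fun x => ?_
        simp only [LinearMap.comp_apply, hεi, LinearMap.smul_apply, LinearMap.id_apply, s, h]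
      rw [this, TensorProduct.map_smul_left, LinearMap.smul_apply]
    · rw [← Conn95.Hom.map_map_id (LinearMap.id ∘ₗ LinearMap.single B M j),
        ← Conn95.Hom.map_map_id (ε ∘ₗ LinearMap.single B M j)]
      simp only [hgr i j h, map_zero, smul_zero]
  intro φ
  have key : nablaE (ε ∘ₗ φ) =
      TensorProduct.map (LinearMap.llcomp B (Π k, M k) (Π k, M k) (Π k, M k) ε) LinearMap.id (nablaE φ) := by
    refine Conn95.Hom.ext_eval fun m => ?_
    rw [hE, LinearMap.comp_apply, hε, Conn95.Hom.map_map_id]
    rw [show (LinearMap.applyₗ m) ∘ₗ LinearMap.llcomp B (Π k, M k) (Π k, M k) (Π k, M k) ε =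
      ε ∘ₗ LinearMap.applyₗ m from LinearMap.ext fun f => rfl]
    rw [← Conn95.Hom.map_map_id ε (LinearMap.applyₗ m), hE, map_sub, Conn95.Hom.map_map_id]
  rw [LinearMap.comp_apply, LinearMap.llcomp_apply', Conn95.Hom.isHorizontal_trace δ nabla hc nablaE hE]
  show TensorProduct.map _ _ (nablaE (ε ∘ₗ φ)) = _
  rw [key, Conn95.Hom.map_map_id]

end Groth.Agent.S16663
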