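import Groth.Statements.S16667
import Groth.Agent.Depth.Local

set_option autoImplicit false
universe u
open CAlg

namespace Groth.Agent.S16667

/-- Let A be a Noetherian integral domain satisfying Serre's condition (S_2), with fraction field K. An
element of K which lies in the localization A_p for every prime p of A with depth(A_p) = 1 lies in
A. -/
theorem result {A : Type u} [CommRing A] [IsDomain A]
    [IsNoetherianRing A] (hS2 : LocCoh.HasSk 2 A A) (x : FractionRing A)
    (hx : ∀ (p : Ideal A) [p.IsPrime],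
      LocCoh.depth (Localization.AtPrime p) (Localization.AtPrime p) = 1 →
        x ∈ Set.range (algebraMap (Localization.AtPrime p) (FractionRing A))) :
    x ∈ Set.range (algebraMap A (FractionRing A)) := by
  classical
  obtain ⟨⟨a, ⟨b, hb⟩⟩, hab⟩ := IsLocalization.surj (nonZeroDivisors A) x
  simp only at hab
  have hb0 : b ≠ 0 := nonZeroDivisors.ne_zero hb
  set I := Ideal.span {b}
  by_contra hxA
  have haI : a ∉ I := by
    intro h
    obtain ⟨c, hc⟩ := Ideal.mem_span_singleton'.1 h
    refine hxA ⟨c, ?_⟩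
    have hb' : algebraMap A (FractionRing A) b ≠ 0 := (map_ne_zero_iff _ (IsFractionRing.injective A _)).2 hb0
    apply mul_right_cancel₀ hb'
    rw [← map_mul, hc, hab]
  set J := Submodule.colon (⊥ : Submodule A (A ⧸ I)) {Ideal.Quotient.mk I a}
  obtain ⟨p, hp, hJp⟩ : ∃ p ∈ associatedPrimes A (A ⧸ I), J ≤ p := by
    have hne : (Ideal.Quotient.mk I a : A ⧸ I) ≠ 0 := fun h => haI (Ideal.Quotient.eq_zero_iff_mem.1 h)
    obtain ⟨p, hp, hle⟩ := exists_le_isAssociatedPrime_of_isNoetherianRing A (M := A ⧸ I) (Ideal.Quotient.mk I a) hne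
    exact ⟨p, hp, hle⟩
  obtain ⟨hprime, z, hz⟩ := isAssociatedPrime_iff.1 hp
  haveI := hprime
  obtain ⟨c, rfl⟩ := Ideal.Quotient.mk_surjective z
  have hmem : ∀ r, r ∈ p ↔ r * c ∈ I := by
    intro r
    rw [hz, Submodule.mem_colon_singleton, Submodule.mem_bot, ← Ideal.Quotient.eq_zero_iff_mem, map_mul]
    rfl
  let Ap := Localization.AtPrime p
  set b' : Ap := algebraMap A Ap b
  have hbp : b ∈ p := (hmem b).2 (I.mul_mem_right _ (Ideal.mem_span_singleton_self b))
  have hb'm : b' ∈ IsLocalRing.maximalIdeal Ap := by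
    rw [← IsLocalization.AtPrime.map_eq_maximalIdeal p Ap]; exact Ideal.mem_map_of_mem _ hbp
  have hinj : Function.Injective (algebraMap A Ap) := IsLocalization.injective Ap p.primeCompl_le_nonZeroDivisors
  haveI : IsDomain Ap := IsLocalization.isDomain_localization p.primeCompl_le_nonZeroDivisors
  have hreg : IsSMulRegular Ap b' := IsSMulRegular.of_ne_zero ((map_ne_zero_iff _ hinj).2 hb0)
  have hsm : ∀ y : Ap, (Submodule.Quotient.mk y : QuotSMulTop b' Ap) = 0 ↔ b' ∣ y := by
    intro y
    rw [Submodule.Quotient.mk_eq_zero, Submodule.mem_smul_pointwise_iff_exists]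
    exact ⟨fun ⟨t, _, ht⟩ => ⟨t, ht.symm⟩, fun ⟨t, ht⟩ => ⟨t, trivial, ht.symm⟩⟩
  have hass : IsLocalRing.maximalIdeal Ap ∈ associatedPrimes Ap (QuotSMulTop b' Ap) := by
    refine isAssociatedPrime_iff.2 ⟨(IsLocalRing.maximalIdeal.isMaximal Ap).isPrime, Submodule.Quotient.mk (algebraMap A Ap c), le_antisymm ?_ ?_⟩
    · rw [← IsLocalization.AtPrime.map_eq_maximalIdeal p Ap, Ideal.map_le_iff_le_comap]
      intro r hr
      rw [Ideal.mem_comap, Submodule.mem_colon_singleton, Submodule.mem_bot, ← Submodule.Quotient.mk_smul, hsm, smul_eq_mul, ← map_mul]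
      obtain ⟨t, ht⟩ := Ideal.mem_span_singleton'.1 ((hmem r).1 hr)
      exact ⟨algebraMap A Ap t, by rw [← ht, map_mul, mul_comm]⟩
    · refine IsLocalRing.le_maximalIdeal fun h => ?_
      have h1 := (Ideal.eq_top_iff_one _).1 h
      rw [Submodule.mem_colon_singleton, Submodule.mem_bot, one_smul, hsm] at h1
      obtain ⟨w, hw⟩ := h1
      obtain ⟨⟨u, ⟨s, hs⟩⟩, hus⟩ := IsLocalization.surj p.primeCompl w
      simp only at hus
      refine hs ((hmem s).2 (Ideal.mem_span_singleton'.2 ⟨u, hinj ?_⟩))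
      rw [map_mul, map_mul, hw, ← hus]
      ring
  have hdepth : LocCoh.depth Ap Ap = 1 := by
    haveI : IsNoetherianRing Ap := IsLocalization.isNoetherianRing p.primeCompl Ap inferInstance
    have h0 : LocCoh.idealDepth (IsLocalRing.maximalIdeal Ap) (QuotSMulTop b' Ap) = 0 :=
      Groth.Agent.Depth.idealDepth_eq_zero_iff.2 ⟨_, hass, le_rfl⟩
    have h := Groth.Agent.Depth.idealDepth_quotSMulTop_add_one (M := Ap) hb'm hreg
    rw [h0, zero_add] at h
    exact h.symm
  obtain ⟨y, hy⟩ := hx p hdepth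
  obtain ⟨⟨u, ⟨s, hs⟩⟩, hus⟩ := IsLocalization.surj p.primeCompl y
  simp only at hus
  refine hs (hJp ?_)
  rw [Submodule.mem_colon_singleton, Submodule.mem_bot]
  show Ideal.Quotient.mk I s * Ideal.Quotient.mk I a = 0
  rw [← map_mul, Ideal.Quotient.eq_zero_iff_mem, Ideal.mem_span_singleton']
  refine ⟨u, IsFractionRing.injective A (FractionRing A) ?_⟩
  rw [map_mul, map_mul, ← hab, IsScalarTower.algebraMap_apply A Ap (FractionRing A) u, ← hus, map_mul, hy,
    ← IsScalarTower.algebraMap_apply A Ap (FractionRing A) s]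
  ring

end Groth.Agent.S16667
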