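import Groth.Statements.S16668
import Groth.Agent.S5802
import Groth.Agent.ParaFormal.Bridge
import Groth.Agent.ParaFLib.PicUFD
import Groth.Agent.Props.NormalCM
import Groth.Agent.HartogsAffine.Basic
import Mathlib.RingTheory.Regular.Flat
import Mathlib.RingTheory.KrullDimension.Regular
-- import your own Groth.Agent.* helpers here

set_option backward.isDefEq.respectTransparency.types false

set_option autoImplicit false
universe u
open CategoryTheory AlgebraicGeometry
open Lef

noncomputable section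

namespace Groth.Agent.S16668

open IsLocalRing RingTheory.Sequence Groth.Agent.ParaFormal AlgebraicGeometry

/-- The exponents of degree `n`. -/
noncomputable def expo (c n : ℕ) : Finset (Fin c →₀ ℕ) :=
  Finset.finsuppAntidiag Finset.univ n

theorem mem_expo {c n : ℕ} {d : Fin c →₀ ℕ} : d ∈ expo c n ↔ d.sum (fun _ e => e) = n := by
  rw [expo, Finset.mem_finsuppAntidiag]
  simp [Finsupp.sum_fintype]

theorem prod_mem_pow {R : Type u} [CommRing R] {c : ℕ} (f : Fin c → R) (d : Fin c →₀ ℕ) :
    (∏ i, f i ^ d i) ∈ Ideal.span (Set.range f) ^ (∑ i, d i) := by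
  rw [← Finset.prod_pow_eq_pow_sum]
  exact Ideal.prod_mem_prod fun i _ => Ideal.pow_mem_pow (Ideal.subset_span (Set.mem_range_self i)) _

/-- The monomials in a quasi-regular sequence give independent generators of the graded pieces. -/
theorem exists_grData_quasiRegular {R : Type u} [CommRing R] {c : ℕ} (f : Fin c → R)
    (hf : CAlgX.IsQuasiRegular f) : ∃ G : GrData (Ideal.span (Set.range f)), G.Indep ⊥ := by
  classical
  let J := Ideal.span (Set.range f)
  let e : ∀ n, Fin (expo c n).card ≃ (expo c n) := fun n => (expo c n).equivFin.symm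
  refine ⟨⟨fun n => (expo c n).card, fun n i => ∏ j, f j ^ ((e n i).1 j), fun n i => ?_, fun n a ha => ?_⟩, ?_⟩
  · have h := prod_mem_pow f ((e n i).1)
    have h2 := mem_expo.mp (e n i).2
    rw [Finsupp.sum_fintype _ _ (by simp)] at h2
    rw [h2] at h
    exact h
  · obtain ⟨P, hP, rfl⟩ : ∃ P : MvPolynomial (Fin c) R, P.IsHomogeneous n ∧ MvPolynomial.eval f P = a := by
      clear e
      induction n generalizing a with
      | zero => exact ⟨MvPolynomial.C a, MvPolynomial.isHomogeneous_C _ _, MvPolynomial.eval_C _⟩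
      | succ n ih =>
        rw [pow_succ] at ha
        refine Submodule.mul_induction_on ha ?_ ?_
        · intro x hx y hy
          obtain ⟨P, hP, rfl⟩ := ih x hx
          obtain ⟨t, rfl⟩ := Ideal.mem_span_range_iff_exists_fun.mp hy
          refine ⟨P * ∑ j, MvPolynomial.C (t j) * MvPolynomial.X j, hP.mul (MvPolynomial.IsHomogeneous.sum _ _ _
            fun j _ => MvPolynomial.IsHomogeneous.C_mul (MvPolynomial.isHomogeneous_X R j) _), ?_⟩
          simp
        · rintro x y ⟨P, hP, rfl⟩ ⟨Q, hQ, rfl⟩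
          exact ⟨P + Q, hP.add hQ, by simp⟩
    refine Submodule.mem_sup_left ?_
    rw [MvPolynomial.eval_eq']
    refine Submodule.sum_mem _ fun d hd => Ideal.mul_mem_left _ _ (Ideal.subset_span ?_)
    have hd' : d ∈ expo c n := mem_expo.mpr (by
      have := hP (MvPolynomial.mem_support_iff.mp hd)
      rwa [Finsupp.weight_apply, show (fun i a => a • (1 : Fin c → ℕ) i) = fun _ a => a by ext i a; simp] at this)
    exact ⟨(e n).symm ⟨d, hd'⟩, by simp [e]⟩
  · intro n t ht i
    rw [bot_sup_eq] at ht ⊢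
    let P : MvPolynomial (Fin c) R := ∑ i, MvPolynomial.monomial (e n i).1 (t i)
    have hP : P.IsHomogeneous n := MvPolynomial.IsHomogeneous.sum _ _ _ fun i _ =>
      MvPolynomial.isHomogeneous_monomial _ (by
        have := mem_expo.mp (e n i).2
        simpa [Finsupp.degree, Finsupp.sum] using this)
    have h := hf n P hP ?_ (e n i).1
    · rwa [MvPolynomial.coeff_sum, Finset.sum_eq_single i, MvPolynomial.coeff_monomial, if_pos rfl] at h
      · intro j _ hj
        rw [MvPolynomial.coeff_monomial, if_neg fun h => hj ((e n).injective (Subtype.ext h))]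
      · simp
    · refine Eq.subst ?_ ht
      rw [map_sum]
      refine Finset.sum_congr rfl fun j _ => ?_
      rw [MvPolynomial.eval_monomial, Finsupp.prod_fintype _ _ (by simp), mul_comm]

/-- Depth at least two of `R/J` passes to `R/J^m`. -/
theorem two_le_depth_pow {R : Type u} [CommRing R] [IsLocalRing R] [IsNoetherianRing R] (J : Ideal R)
    [IsLocalRing (R ⧸ J)] (G : GrData J) (hG : G.Indep ⊥) (h : (2 : ℕ∞) ≤ LocCoh.depth (R ⧸ J) (R ⧸ J))
    (m : ℕ) [IsLocalRing (R ⧸ J ^ m)] : (2 : ℕ∞) ≤ LocCoh.depth (R ⧸ J ^ m) (R ⧸ J ^ m) := by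
  have hne : maximalIdeal (R ⧸ J) • (⊤ : Submodule (R ⧸ J) (R ⧸ J)) ≠ ⊤ := by
    rw [smul_eq_mul, Ideal.mul_top]
    exact (maximalIdeal.isMaximal _).ne_top
  obtain ⟨rs, hrs, hmem, hlen⟩ := Depth.exists_isWeaklyRegular_of_le_idealDepth (n := 2) hne h
  obtain ⟨a, b, rfl⟩ : ∃ a b, rs = [a, b] := List.length_eq_two.1 hlen
  obtain ⟨x, rfl⟩ := Ideal.Quotient.mk_surjective a
  obtain ⟨y, rfl⟩ := Ideal.Quotient.mk_surjective b
  have hm : ∀ w : R, Ideal.Quotient.mk J w ∈ maximalIdeal (R ⧸ J) →
      Ideal.Quotient.mk (J ^ m) w ∈ maximalIdeal (R ⧸ J ^ m) := fun w hw => by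
    haveI : IsLocalHom (Ideal.Quotient.mk (J ^ m)) := IsLocalHom.of_surjective _ Ideal.Quotient.mk_surjective
    exact fun hu => hw ((isUnit_of_map_unit (Ideal.Quotient.mk (J ^ m)) w hu).map _)
  have h0 := RegMod.comap (Ideal.Quotient.mk J) ((regMod_iff_isSMulRegular (Ideal.ofList []) _).2 (hrs.regular_mod_prev 0 (by simp)))
  have h1 := RegMod.comap (Ideal.Quotient.mk J) ((regMod_iff_isSMulRegular (Ideal.ofList [Ideal.Quotient.mk J x]) _).2
    (hrs.regular_mod_prev 1 (by simp)))
  rw [Ideal.ofList_nil, ← RingHom.ker_eq_comap_bot, Ideal.mk_ker] at h0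
  rw [Ideal.ofList_cons, Ideal.ofList_nil, sup_bot_eq, ← Set.image_singleton (f := Ideal.Quotient.mk J),
    ← Ideal.map_span, Ideal.comap_map_of_surjective _ Ideal.Quotient.mk_surjective, ← RingHom.ker_eq_comap_bot,
    Ideal.mk_ker] at h1
  have hx' : RegMod (⊥ ⊔ J) x := by rwa [bot_sup_eq]
  have hy' : RegMod ((⊥ ⊔ Ideal.span {x}) ⊔ J) y := by rwa [bot_sup_eq]
  have a0 := G.regMod_pow hG hx' m
  have a1 := G.regMod_pow (G.indep_sup hG hx') hy' m
  rw [bot_sup_eq] at a0
  rw [bot_sup_eq] at a1
  refine two_le_depth (hm x (hmem _ (by simp))) (hm y (hmem _ (by simp))) ?_ ?_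
  · intro a ha
    obtain ⟨a, rfl⟩ := Ideal.Quotient.mk_surjective a
    rw [← map_mul, Ideal.mem_bot, Ideal.Quotient.eq_zero_iff_mem] at ha
    rw [Ideal.mem_bot, Ideal.Quotient.eq_zero_iff_mem]
    exact a0 a ha
  · intro a ha
    obtain ⟨a, rfl⟩ := Ideal.Quotient.mk_surjective a
    rw [← Set.image_singleton (f := Ideal.Quotient.mk (J ^ m)), ← Ideal.map_span, ← map_mul,
      ← Ideal.mem_comap, Ideal.comap_map_of_surjective _ Ideal.Quotient.mk_surjective,
      ← RingHom.ker_eq_comap_bot, Ideal.mk_ker] at ha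
    rw [← Set.image_singleton (f := Ideal.Quotient.mk (J ^ m)), ← Ideal.map_span,
      ← Ideal.mem_comap, Ideal.comap_map_of_surjective _ Ideal.Quotient.mk_surjective,
      ← RingHom.ker_eq_comap_bot, Ideal.mk_ker]
    exact a1 a ha

/-- Quotients of the local ring at a prime are local rings of the quotient. -/
theorem isLocalization_quotient {A : Type u} [CommRing A] (x : Ideal A) [x.IsPrime] (K : Ideal A) :
    letI : Algebra (A ⧸ K) (Localization.AtPrime x ⧸ K.map (algebraMap A (Localization.AtPrime x))) :=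
      (Ideal.quotientMap _ (algebraMap A (Localization.AtPrime x)) Ideal.le_comap_map).toAlgebra
    IsLocalization (x.primeCompl.map (Ideal.Quotient.mk K))
      (Localization.AtPrime x ⧸ K.map (algebraMap A (Localization.AtPrime x))) := by
  letI : Algebra (A ⧸ K) (Localization.AtPrime x ⧸ K.map (algebraMap A (Localization.AtPrime x))) :=
    (Ideal.quotientMap _ (algebraMap A (Localization.AtPrime x)) Ideal.le_comap_map).toAlgebra
  exact IsLocalization.of_surjective (S := Localization.AtPrime x) x.primeCompl (Ideal.Quotient.mk K)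
    Ideal.Quotient.mk_surjective (Ideal.Quotient.mk _) Ideal.Quotient.mk_surjective (by ext a; rfl)
    (by rw [Ideal.mk_ker, Ideal.mk_ker])

theorem map_primeCompl {A : Type u} [CommRing A] (K : Ideal A) (y : Ideal (A ⧸ K)) [y.IsPrime] :
    (y.comap (Ideal.Quotient.mk K)).primeCompl.map (Ideal.Quotient.mk K) = y.primeCompl := by
  ext z
  obtain ⟨z, rfl⟩ := Ideal.Quotient.mk_surjective z
  exact ⟨fun ⟨w, hw, e⟩ => e ▸ hw, fun hz => ⟨z, hz, rfl⟩⟩

/-- Let A be an excellent normal domain, J the radical ideal of A whose zero set is the set of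
non-regular points of Spec A, and p a prime ideal of A generated by an A-regular sequence, such that
A/p is normal and ht(p) + ht(J) ≤ ht(p + J). Let U be an open subset of Spec A which contains every
regular point of V(p) and whose complement consists of points of height at least 2. Then for every m
≥ 1 the restriction map from Γ(Spec(A/p^m), O) to the sections of O over the inverse image of U in
Spec(A/p^m) is bijective. (The published lemma asserts the corresponding bijection after p-adic
completion, for every finitely generated reflexive A-module in place of A; stated here, for A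
itself, is the bijection at each finite level m which its proof establishes.) -/
theorem result
    (A : Type u) [CommRing A] [IsDomain A] [IsIntegrallyClosed A] (hA : EGA4.IsExcellent A)
    (J : Ideal A) (hJrad : J.IsRadical)
    (hJ : ∀ x : PrimeSpectrum A, J ≤ x.asIdeal ↔ x ∉ EGA4.regLocus A)
    (p : Ideal A) [p.IsPrime] (rs : List A) (hrs : RingTheory.Sequence.IsRegular A rs)
    (hp : Ideal.ofList rs = p) (hnorm : IsIntegrallyClosed (A ⧸ p))
    (hht : p.height + J.height ≤ (p ⊔ J).height)
    (U : (Spec (CommRingCat.of A)).Opens)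
    (hUreg : ∀ x : PrimeSpectrum A, p ≤ x.asIdeal → x ∈ EGA4.regLocus A → x ∈ U.1)
    (hUcodim : ∀ x : PrimeSpectrum A, x ∉ U.1 → (2 : ℕ∞) ≤ x.asIdeal.height)
    (m : ℕ) (hm : 1 ≤ m) :
    Function.Bijective ((Spec (CommRingCat.of (A ⧸ p ^ m))).presheaf.map
      (homOfLE (le_top : Spec.map (CommRingCat.ofHom (Ideal.Quotient.mk (p ^ m))) ⁻¹ᵁ U ≤ ⊤)).op).hom := by
  haveI hN : IsNoetherianRing A := hA.1
  haveI : IsAffine (Spec (CommRingCat.of (A ⧸ p ^ m))) := inferInstance
  refine HartogsAffine.bijective_res _ fun y hy => ?_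
  let x : PrimeSpectrum A := PrimeSpectrum.comap (Ideal.Quotient.mk (p ^ m)) y
  have hxU : x ∉ U.1 := hy
  have hpx : p ≤ x.asIdeal := fun a ha => x.isPrime.mem_of_pow_mem m (by
    show Ideal.Quotient.mk (p ^ m) (a ^ m) ∈ y.asIdeal
    rw [Ideal.Quotient.eq_zero_iff_mem.mpr (Ideal.pow_mem_pow ha m)]
    exact y.asIdeal.zero_mem)
  have hJx : J ≤ x.asIdeal := (hJ x).mpr fun h => hxU (hUreg x hpx h)
  have hJ2 : (2 : ℕ∞) ≤ J.height := by
    rw [Ideal.height_eq_inf_minimalPrimes]
    refine le_iInf₂ fun q hq => ?_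
    haveI : q.IsPrime := hq.1.1
    by_contra hlt
    refine (hJ ⟨q, hq.1.1⟩).mp hq.1.2 ?_
    haveI : IsDomain (Localization.AtPrime q) :=
      IsLocalization.isDomain_of_le_nonZeroDivisors (R := A) (Localization.AtPrime q) q.primeCompl_le_nonZeroDivisors
    haveI : IsIntegrallyClosed (Localization.AtPrime q) :=
      isIntegrallyClosed_of_isLocalization _ _ q.primeCompl_le_nonZeroDivisors
    refine Props.NormalCM.isRegularLocalRing_of_dim_le_one _ ?_
    rw [IsLocalization.AtPrime.ringKrullDim_eq_height q]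
    have : q.height ≤ 1 := by
      have h' : q.height < ((1 : ℕ) : ℕ∞) + 1 := lt_of_lt_of_eq (not_le.mp hlt) (by norm_num)
      exact_mod_cast ENat.lt_natCast_add_one_iff.mp h'
    exact_mod_cast this
  -- dimensions
  have hseq : ∀ (P : Ideal A) [P.IsPrime], p ≤ P →
      IsRegular (Localization.AtPrime P) (rs.map (algebraMap A (Localization.AtPrime P))) := by
    intro P _ hP
    refine ⟨IsWeaklyRegular.of_flat hrs.toIsWeaklyRegular, fun h => (maximalIdeal.isMaximal (Localization.AtPrime P)).ne_top (top_le_iff.mp ?_)⟩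
    rw [h, smul_eq_mul, Ideal.mul_top, ← Ideal.map_ofList, hp, Localization.AtPrime.map_eq_maximalIdeal.symm]
    exact Ideal.map_mono hP
  have hdimeq : ∀ (P : Ideal A) [P.IsPrime], p ≤ P →
      ringKrullDim (Localization.AtPrime P ⧸ p.map (algebraMap A (Localization.AtPrime P))) + rs.length =
        P.height := by
    intro P _ hP
    rw [← IsLocalization.AtPrime.ringKrullDim_eq_height P (Localization.AtPrime P)]
    have h := ringKrullDim_add_length_eq_ringKrullDim_of_isRegular _ (hseq P hP)
    rwa [← Ideal.map_ofList, hp, List.length_map] at h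
  have hpn : p.height = rs.length := by
    have h := hdimeq p le_rfl
    rw [Localization.AtPrime.map_eq_maximalIdeal] at h
    letI : Field (Localization.AtPrime p ⧸ maximalIdeal (Localization.AtPrime p)) := Ideal.Quotient.field _
    rw [ringKrullDim_eq_zero_of_field, zero_add] at h
    exact_mod_cast h.symm
  let R := Localization.AtPrime x.asIdeal
  let Jx := p.map (algebraMap A R)
  have hJxne : Jx ≠ ⊤ := ne_top_of_le_ne_top (maximalIdeal.isMaximal R).ne_top
    ((Ideal.map_mono hpx).trans Localization.AtPrime.map_eq_maximalIdeal.le)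
  haveI : Nontrivial (R ⧸ Jx) := Ideal.Quotient.nontrivial_iff.mpr hJxne
  haveI : IsLocalRing (R ⧸ Jx) := IsLocalRing.of_surjective' _ Ideal.Quotient.mk_surjective
  have hd2 : (2 : WithBot ℕ∞) ≤ ringKrullDim (R ⧸ Jx) := by
    by_contra hlt
    have h1 : (p.height : WithBot ℕ∞) + 2 ≤ x.asIdeal.height := by
      refine le_trans ?_ (WithBot.coe_le_coe.mpr (hht.trans (Ideal.height_mono (sup_le hpx hJx))))
      push_cast
      gcongr
      exact WithBot.coe_le_coe.mpr hJ2
    rw [← hdimeq x.asIdeal hpx, hpn] at h1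
    push_cast at h1
    have h2 : ringKrullDim (R ⧸ Jx) ≤ 1 := by
      have := not_le.mp hlt
      revert this
      generalize ringKrullDim (R ⧸ Jx) = D
      intro this
      cases D with
      | bot => exact bot_le
      | coe D =>
        have h' : D < ((1 : ℕ) : ℕ∞) + 1 := lt_of_lt_of_eq (WithBot.coe_lt_coe.mp this) (by norm_num)
        exact WithBot.coe_le_coe.mpr (by exact_mod_cast ENat.lt_natCast_add_one_iff.mp h')
    have h3 := h1.trans (add_le_add h2 le_rfl)
    have : rs.length + 2 ≤ 1 + rs.length := by exact_mod_cast h3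
    omega
  -- normality of `R / Jx`
  haveI : IsDomain (A ⧸ p) := Ideal.Quotient.isDomain p
  letI : Algebra (A ⧸ p) (R ⧸ Jx) := (Ideal.quotientMap _ (algebraMap A R) Ideal.le_comap_map).toAlgebra
  haveI := isLocalization_quotient x.asIdeal p
  have hle : x.asIdeal.primeCompl.map (Ideal.Quotient.mk p) ≤ nonZeroDivisors (A ⧸ p) := by
    rintro _ ⟨w, hw, rfl⟩
    exact mem_nonZeroDivisors_of_ne_zero fun h => hw (hpx (Ideal.Quotient.eq_zero_iff_mem.mp h))
  haveI : IsDomain (R ⧸ Jx) := IsLocalization.isDomain_of_le_nonZeroDivisors (R := A ⧸ p) (R ⧸ Jx) hle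
  haveI : IsIntegrallyClosed (R ⧸ Jx) := isIntegrallyClosed_of_isLocalization _ _ hle
  have hdep : (2 : ℕ∞) ≤ LocCoh.depth (R ⧸ Jx) (R ⧸ Jx) := ParaFLib.PicUFD.two_le_depth_of_normal _ hd2
  obtain ⟨G, hG⟩ := exists_grData_quasiRegular (fun i => (rs.map (algebraMap A R)).get i)
    (S5802.result R _ _ (by rw [List.ofFn_get]; exact (hseq x.asIdeal hpx).toIsWeaklyRegular))
  have hspan : Ideal.span (Set.range fun i => (rs.map (algebraMap A R)).get i) = Jx := by
    show _ = p.map _
    rw [← hp, Ideal.map_ofList, Ideal.ofList]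
    congr 1
    ext z
    simp [List.mem_iff_get]
  revert G
  rw [hspan]
  intro G hG
  -- transport to the stalk
  have hmne : Jx ^ m ≠ ⊤ := ne_top_of_le_ne_top hJxne (Ideal.pow_le_self (by omega))
  haveI : Nontrivial (R ⧸ Jx ^ m) := Ideal.Quotient.nontrivial_iff.mpr hmne
  haveI : IsLocalRing (R ⧸ Jx ^ m) := IsLocalRing.of_surjective' _ Ideal.Quotient.mk_surjective
  have hmain := two_le_depth_pow Jx G hG hdep m
  have hpow : (p ^ m).map (algebraMap A R) = Jx ^ m := Ideal.map_pow _ _ _
  haveI : Nontrivial (R ⧸ (p ^ m).map (algebraMap A R)) := Ideal.Quotient.nontrivial_iff.mpr (hpow ▸ hmne)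
  haveI : IsLocalRing (R ⧸ (p ^ m).map (algebraMap A R)) :=
    IsLocalRing.of_surjective' _ Ideal.Quotient.mk_surjective
  letI : Algebra (A ⧸ p ^ m) (R ⧸ (p ^ m).map (algebraMap A R)) :=
    (Ideal.quotientMap _ (algebraMap A R) Ideal.le_comap_map).toAlgebra
  haveI hloc := isLocalization_quotient x.asIdeal (p ^ m)
  replace hloc : IsLocalization y.asIdeal.primeCompl (R ⧸ (p ^ m).map (algebraMap A R)) :=
    (map_primeCompl (p ^ m) y.asIdeal) ▸ hloc
  let S := (Spec (CommRingCat.of (A ⧸ p ^ m))).presheaf.stalk y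
  letI : Algebra (A ⧸ p ^ m) S :=
    inferInstanceAs (Algebra (A ⧸ p ^ m) ((Spec.structureSheaf (A ⧸ p ^ m)).presheaf.stalk y))
  haveI : IsLocalization.AtPrime S y.asIdeal :=
    inferInstanceAs (IsLocalization.AtPrime ((Spec.structureSheaf (A ⧸ p ^ m)).presheaf.stalk y) y.asIdeal)
  let e₁ : R ⧸ Jx ^ m ≃+* R ⧸ (p ^ m).map (algebraMap A R) := Ideal.quotEquivOfEq hpow.symm
  let e₂ : R ⧸ (p ^ m).map (algebraMap A R) ≃+* S :=
    (IsLocalization.algEquiv y.asIdeal.primeCompl _ S).toRingEquiv
  exact hmain.trans_eq (HartogsAffine.depth_congr_ringEquiv (e₁.trans e₂)).symm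

end Groth.Agent.S16668
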