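import Groth.Statements.S16671
import Groth.Agent.AmpleFam.Resolution
import Groth.Agent.CohDev.Coh
import Groth.Agent.DomMod.Basic
import Groth.Agent.PerfTri.Bounded
import Groth.Agent.HomShQC.Stalk

set_option autoImplicit false
universe u
open CategoryTheory CategoryTheory.Limits AlgebraicGeometry
open Coh

namespace Groth.Agent.S16671

open Groth.Agent.QCoh Groth.Agent.Props.GenLocus Groth.Agent.Props.GenTensor Groth.Agent.Props.GenProd
  Groth.Agent.PullStalk.Sky Groth.Agent.PullStalk.Exact Groth.Agent.Omega.Stalks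
  Groth.Agent.KFlat.StalkTensor Groth.Agent.ExtFilt.Stalkwise TopologicalSpace TensorProduct

noncomputable section

/-! ### Algebra: maps whose components generate the dual -/

section Algebra

variable {R : Type u} [CommRing R] [IsDomain R] {M W : Type u} [AddCommGroup M] [Module R M]
  [AddCommGroup W] [Module R W] (φ : M →ₗ[R] W)

theorem injective_of_dualMap_surjective (h : Function.Surjective φ.dualMap)
    (he : Function.Injective (Module.Dual.eval R M)) : Function.Injective φ := by
  rw [injective_iff_map_eq_zero]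
  intro m hm
  refine he (LinearMap.ext fun θ => ?_)
  obtain ⟨ω, rfl⟩ := h θ
  simp [hm]

theorem mem_range_of_smul (h : Function.Surjective φ.dualMap) [Module.IsReflexive R M] [Module.Free R W]
    {a : R} (ha : a ≠ 0) {y : W} (hy : a • y ∈ LinearMap.range φ) : y ∈ LinearMap.range φ := by
  obtain ⟨m, hm⟩ := hy
  have hker : LinearMap.ker φ.dualMap ≤ LinearMap.ker (Module.Dual.eval R W y) := by
    intro ω hω
    have h1 : ω (φ m) = 0 := LinearMap.congr_fun hω m
    rw [hm, map_smul, smul_eq_mul] at h1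
    exact (mul_eq_zero.mp h1).resolve_left ha
  let Θ : Module.Dual R (Module.Dual R M) :=
    (LinearMap.ker φ.dualMap).liftQ (Module.Dual.eval R W y) hker ∘ₗ
      (φ.dualMap.quotKerEquivOfSurjective h).symm.toLinearMap
  obtain ⟨m', hm'⟩ := (Module.bijective_dual_eval R M).2 Θ
  refine ⟨m', Module.eval_apply_injective R (LinearMap.ext fun ω => ?_)⟩
  show ω (φ m') = ω y
  have h2 := LinearMap.congr_fun hm' (φ.dualMap ω)
  refine h2.trans ?_
  show (LinearMap.ker φ.dualMap).liftQ _ hker ((φ.dualMap.quotKerEquivOfSurjective h).symm (φ.dualMap ω)) = ω y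
  rw [show (φ.dualMap.quotKerEquivOfSurjective h).symm (φ.dualMap ω) = Submodule.Quotient.mk ω from
    (LinearEquiv.symm_apply_eq _).mpr rfl]
  rfl

theorem exists_retraction (h : Function.Surjective φ.dualMap) [Module.Free R M] [Module.Finite R M] :
    ∃ r : W →ₗ[R] M, r ∘ₗ φ = LinearMap.id := by
  classical
  let b := Module.Free.chooseBasis R M
  choose ω hω using fun i => h (b.coord i)
  refine ⟨∑ i, (ω i).smulRight (b i), LinearMap.ext fun m => ?_⟩
  rw [LinearMap.comp_apply, LinearMap.sum_apply]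
  refine Eq.trans (Finset.sum_congr rfl fun i _ => ?_) (b.sum_repr m)
  show ω i (φ m) • b i = b.repr m i • b i
  rw [show ω i (φ m) = b.coord i m from LinearMap.congr_fun (hω i) m, Module.Basis.coord_apply]

theorem projective_of_retraction [Module.Free R W] {Q : Type u} [AddCommGroup Q] [Module R Q]
    (π : W →ₗ[R] Q) (hπ : Function.Surjective π) (hex : Function.Exact φ π)
    (r : W →ₗ[R] M) (hr : r ∘ₗ φ = LinearMap.id) : Module.Projective R Q := by
  obtain ⟨s, hs⟩ : ∃ s : Q →ₗ[R] W, π ∘ₗ s = LinearMap.id := by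
    refine ⟨(LinearMap.ker π).liftQ (LinearMap.id - φ ∘ₗ r) ?_ ∘ₗ
      (π.quotKerEquivOfSurjective hπ).symm.toLinearMap, LinearMap.ext fun q => ?_⟩
    · intro w hw
      obtain ⟨m, rfl⟩ := (hex w).mp hw
      have := LinearMap.congr_fun hr m
      simp only [LinearMap.comp_apply, LinearMap.id_apply] at this
      simp [this]
    · obtain ⟨w, rfl⟩ := hπ q
      rw [LinearMap.comp_apply, LinearMap.comp_apply,
        show (π.quotKerEquivOfSurjective hπ).symm.toLinearMap (π w) = Submodule.Quotient.mk w from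
          (LinearEquiv.symm_apply_eq _).mpr rfl]
      simp [hex.apply_apply_eq_zero]
  exact Module.Projective.of_split s π hs

end Algebra

variable {X : Scheme.{u}} {G P L : X.Modules}

/-- The functional given by a germ of the dual. -/
def dfun (G : X.Modules) (x : X) : (RefHull.dual G).presheaf.stalk x →ₗ[X.presheaf.stalk x]
    Module.Dual (X.presheaf.stalk x) (G.presheaf.stalk x) :=
  (LinearMap.llcomp (X.presheaf.stalk x) _ _ _ (HomShQC.unitStalk x).symm.toLinearMap) ∘ₗ
    RefHull.evalStalk G (Coh.structureModule X) x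

/-- The value on stalks of the map given by a section of `dual G ⊗ P`. -/
def contrD (ρ : Γ(tensM (RefHull.dual G) P, (⊤ : X.Opens))) (x : X) :
    G.presheaf.stalk x →ₗ[X.presheaf.stalk x] P.presheaf.stalk x :=
  TensorProduct.lift ((LinearMap.smulRightₗ (R := X.presheaf.stalk x)) ∘ₗ dfun G x)
    (toTensor (RefHull.dual G) P x (germM (tensM (RefHull.dual G) P) ⊤ x trivial ρ))

theorem contrD_apply (ρ : Γ(tensM (RefHull.dual G) P, (⊤ : X.Opens)))
    {W : X.Opens} (f : Γ(RefHull.dual G, W)) (p : Γ(P, W))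
    (hρ : res (tensM (RefHull.dual G) P) le_top ρ = tmulSec W f p) (y : X) (hy : y ∈ W)
    (v : G.presheaf.stalk y) :
    contrD ρ y v = dfun G y (germM (RefHull.dual G) W y hy f) v • germM P W y hy p := by
  have h1 : toTensor (RefHull.dual G) P y (germM (tensM (RefHull.dual G) P) ⊤ y trivial ρ) =
      germM (RefHull.dual G) W y hy f ⊗ₜ germM P W y hy p := by
    rw [← germM_res' (tensM (RefHull.dual G) P) (le_top : W ≤ ⊤) y hy ρ, hρ]
    exact toTensor_tgerm W hy f p
  rw [contrD, h1]
  rfl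

/-- A section of `dual G ⊗ P` gives a morphism `G ⟶ P`. -/
theorem exists_hom_of_dual_section (ρ : Γ(tensM (RefHull.dual G) P, (⊤ : X.Opens)))
    (hρ : ∀ x, ∃ (W : X.Opens) (_ : x ∈ W) (f : Γ(RefHull.dual G, W)) (p : Γ(P, W)),
      res (tensM (RefHull.dual G) P) le_top ρ = tmulSec W f p) :
    ∃ φ : G ⟶ P, ∀ x, stalkLin φ x = contrD ρ x := by
  have hloc : ∀ x t, Loc (contrD ρ) x t := by
    intro x t
    obtain ⟨O, hxO, m, rfl⟩ := exists_germM_eq G x t
    obtain ⟨W, hxW, f, p, h⟩ := hρ x
    obtain ⟨V, hxV, j, n, hn⟩ := f.2 (O ⊓ W) (homOfLE inf_le_right) (res G inf_le_left m) ⟨x, hxO, hxW⟩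
    have hV : V ≤ W := j.le.trans inf_le_right
    have hVO : V ≤ O := j.le.trans inf_le_left
    refine ⟨V, hxV, res G hVO m, (show Γ(X, V) from n) • res P hV p, germM_res' G hVO x hxV m, fun y hy => ?_⟩
    rw [contrD_apply ρ f p h y (hV hy), germM_res' G hVO y hy m]
    refine Eq.trans ?_ (germM_smul P V y hy (show Γ(X, V) from n) (res P hV p)).symm
    rw [germM_res' P hV y hy p]
    congr 1
    refine (LinearEquiv.symm_apply_eq _).2 (Eq.trans ?_ (HomShQC.unitStalk_germ y hy _).symm)
    refine Eq.trans ?_ (hn ⟨y, hy⟩)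
    rw [← germM_res' G (inf_le_left : O ⊓ W ≤ O) y (j.le hy) m]
    exact LinearMap.congr_fun (RefHull.evalStalk_germ G (Coh.structureModule X) y (hV hy) f) _
  obtain ⟨φ, hφ⟩ := exists_hom hloc
  exact ⟨φ, fun x => LinearMap.ext (hφ x)⟩

/-- Every coherent module maps to a sum of copies of a power of an ample module by components
generating the dual. -/
theorem exists_core [IsLocallyNoetherian X] (hL : CohB1.IsAmple L) (hG : Coh.IsCoh G) :
    ∃ (q r : ℕ) (φ : G ⟶ ∐ fun _ : Fin r => CohB1.tensorPow L q), 1 ≤ r ∧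
      ∀ x, Function.Surjective (stalkLin φ x).dualMap := by
  classical
  haveI := hL.2.1
  have hfam : KSix.IsAmpleFamily (fun _ : PUnit.{u+1} => L) :=
    ⟨hL.2.1, inferInstance, fun _ => hL.1, fun x => by
      obtain ⟨n, s, hs⟩ := hL.2.2 x
      exact ⟨PUnit.unit, n, s, hs⟩⟩
  have hD := HomShQC.isCoh_dual G hG
  haveI : (RefHull.dual G).IsQuasicoherent := hD.1
  haveI : SheafOfModules.IsFiniteType.{u} (RefHull.dual G) := hD.2
  choose i k s U e hU hUa hxU he using AmpleFam.Basic.exists_locus hfam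
  obtain ⟨t, ht⟩ := isCompact_univ.elim_finite_subcover (fun x : X => (U x : Set X))
    (fun x => (U x).2) fun x _ => Set.mem_iUnion.mpr ⟨x, hxU x⟩
  have hfg : ∀ x : t, ∃ (d : ℕ) (σ : Fin d → Γ(RefHull.dual G, U x)),
      Submodule.span Γ(X, U x) (Set.range σ) = ⊤ :=
    fun x => haveI := finite_sections_of_isFiniteType (RefHull.dual G) (hUa x)
      Module.Finite.exists_fin
  choose d σ hσ using hfg
  let α := Σ x : t, Fin (d x)
  choose N₀ hN₀ using fun p : α => AmpleLib.exists_twist hD.1 hL.1 (s p.1) (hU p.1) (he p.1) (σ p.1 p.2) 0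
  let Q : ℕ := (∏ x : t, (k x + 1)) * (Finset.univ.sup N₀ + 1)
  have hdiv : ∀ p : α, ∃ M, N₀ p ≤ M ∧ 0 + (k p.1 + 1) * M = Q := fun p => by
    obtain ⟨c, hc⟩ := Finset.dvd_prod_of_mem (fun x : t => k x + 1) (Finset.mem_univ p.1)
    have hcpos : 0 < c := by
      rcases Nat.eq_zero_or_pos c with h0 | h0
      · subst h0
        have : 0 < ∏ x : t, (k x + 1) := Finset.prod_pos fun _ _ => Nat.succ_pos _
        simp_all
      · exact h0
    refine ⟨c * (Finset.univ.sup N₀ + 1), ?_, ?_⟩
    · calc N₀ p ≤ Finset.univ.sup N₀ + 1 := (Finset.le_sup (Finset.mem_univ p)).trans (Nat.le_succ _)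
        _ ≤ c * (Finset.univ.sup N₀ + 1) := Nat.le_mul_of_pos_left _ hcpos
    · rw [zero_add, ← mul_assoc]
      show _ = (∏ x : t, (k x + 1)) * _
      rw [hc]
  choose Mp hMle hMeq using hdiv
  have hkey : ∀ p : α, ∃ φ : G ⟶ CohB1.tensorPow L Q, ∀ y (hy : y ∈ U p.1.1),
      ∃ ω : Module.Dual (X.presheaf.stalk y) ((CohB1.tensorPow L Q).presheaf.stalk y),
        ω ∘ₗ stalkLin φ y = dfun G y (germM (RefHull.dual G) (U p.1.1) y hy (σ p.1 p.2)) := by
    intro p
    have h := hN₀ p (Mp p) (hMle p)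
    generalize hn : 0 + (k p.1 + 1) * Mp p = n at h
    obtain rfl : n = Q := hn.symm.trans (hMeq p)
    obtain ⟨ρ, hρ⟩ := h
    obtain ⟨φ, hφ⟩ := exists_hom_of_dual_section ρ fun x => by
      obtain ⟨V, g, hxV, hg⟩ := exists_isGen hL.1 x
      obtain ⟨f, hf⟩ := (AmpleLib.tmul_gen_bijective (isGen_pw hg Q) (RefHull.dual G) le_rfl).2
        (res (tensM (RefHull.dual G) (CohB1.tensorPow L Q)) le_top ρ)
      exact ⟨V, hxV, f, res _ le_rfl (pw L g Q), hf.symm⟩
    refine ⟨φ, fun y hy => ?_⟩
    have hgen := isGen_pw (he p.1) Q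
    let pe := germM (CohB1.tensorPow L Q) (U p.1.1) y hy (pw L (e p.1) Q)
    have hbij : Function.Bijective
        (LinearMap.toSpanSingleton (X.presheaf.stalk y) ((CohB1.tensorPow L Q).presheaf.stalk y) pe) := by
      have hb := ((isGen_iff_isFrame _).mp hgen).stalkComb_bijective y hy
      have heq : ∀ a : X.presheaf.stalk y, LFFrame.stalkComb (CohB1.tensorPow L Q) (fun _ : Fin 1 => pw L (e p.1) Q) y hy
          (fun _ => a) = a • pe := fun a => by
        unfold LFFrame.stalkComb
        rw [Fintype.linearCombination_apply, Fin.sum_univ_one]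
      refine ⟨fun a b hab => congrFun (hb.1 ((heq a).trans (hab.trans (heq b).symm))) 0, fun v => ?_⟩
      obtain ⟨a, ha⟩ := hb.2 v
      exact ⟨a 0, (heq (a 0)).symm.trans ((congrArg _ (funext fun j => by rw [Subsingleton.elim j 0])).trans ha)⟩
    let E := LinearEquiv.ofBijective _ hbij
    let c := X.presheaf.germ (U p.1.1) y hy (co (k p.1 + 1) (sec (s p.1) ⊤) le_top (he p.1) ^ Mp p)
    obtain ⟨w, hw⟩ : IsUnit c := by
      rw [show c = _ from map_pow _ _ _]
      refine IsUnit.pow _ ((X.mem_basicOpen _ y hy).1 ?_)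
      rw [← genLocus_inf_eq (he p.1) (s p.1), ← hU p.1, inf_idem]
      exact hy
    refine ⟨(↑w⁻¹ : X.presheaf.stalk y) • E.symm.toLinearMap, LinearMap.ext fun v => ?_⟩
    rw [LinearMap.comp_apply, LinearMap.smul_apply, hφ, contrD_apply ρ _ _ hρ y hy, germM_smul]
    have hsm : dfun G y (c • germM (RefHull.dual G) (U p.1.1) y hy (σ p.1 p.2)) v =
        c * dfun G y (germM (RefHull.dual G) (U p.1.1) y hy (σ p.1 p.2)) v := by
      rw [map_smul]; rfl
    rw [hsm]
    show (↑w⁻¹ : X.presheaf.stalk y) • E.symm ((c * _) • pe) = _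
    rw [show (c * dfun G y (germM (RefHull.dual G) (U p.1.1) y hy (σ p.1 p.2)) v) • pe = E _ from rfl,
      LinearEquiv.symm_apply_apply]
    show (↑w⁻¹ : X.presheaf.stalk y) * (c * _) = _
    rw [← mul_assoc, ← hw, Units.inv_mul, one_mul]
  choose φ hφ using hkey
  let n := Fintype.card α + 1
  let φf : Fin n → (G ⟶ CohB1.tensorPow L Q) := Fin.snoc (fun a => φ ((Fintype.equivFin α).symm a)) 0
  refine ⟨Q, n, biproduct.lift φf ≫ (biproduct.isoCoproduct _).hom, Nat.le_add_left _ _, fun y θ => ?_⟩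
  obtain ⟨θ', rfl⟩ : ∃ θ', dfun G y θ' = θ :=
    (HomShQC.dualEquiv G (HomShQC.isFP_of_isCoh G hG) y).surjective θ
  obtain ⟨x, hxt, hyx⟩ := Set.mem_iUnion₂.mp (ht (Set.mem_univ y))
  suffices hall : ∀ z : (RefHull.dual G).presheaf.stalk y, dfun G y z ∈
      LinearMap.range (stalkLin (biproduct.lift φf ≫ (biproduct.isoCoproduct _).hom) y).dualMap from hall θ'
  intro z
  have hz : z ∈ Submodule.span (X.presheaf.stalk y)
      (Set.range fun j => germM (RefHull.dual G) (U x) y hyx (σ ⟨x, hxt⟩ j)) := by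
    rw [HomShEval.QCoh.span_germ (RefHull.dual G) (hUa x) (hσ ⟨x, hxt⟩) hyx]
    trivial
  refine (Submodule.span_le (p := Submodule.comap (dfun G y) (LinearMap.range _))).mpr ?_ hz
  rintro _ ⟨j, rfl⟩
  let p : α := ⟨⟨x, hxt⟩, j⟩
  obtain ⟨ω, hω⟩ := hφ p y hyx
  let a : Fin n := (Fintype.equivFin α p).castSucc
  have ha : φf a = φ p := by
    show Fin.snoc (α := fun _ => G ⟶ CohB1.tensorPow L Q) _ _ (Fintype.equivFin α p).castSucc = _
    rw [Fin.snoc_castSucc, Equiv.symm_apply_apply]
  let πa : (∐ fun _ : Fin n => CohB1.tensorPow L Q) ⟶ CohB1.tensorPow L Q :=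
    (biproduct.isoCoproduct _).inv ≫ biproduct.π _ a
  have hπ : (biproduct.lift φf ≫ (biproduct.isoCoproduct _).hom) ≫ πa = φ p := by
    rw [Category.assoc, Iso.hom_inv_id_assoc, biproduct.lift_π, ha]
  refine ⟨ω ∘ₗ stalkLin πa y, LinearMap.ext fun v => ?_⟩
  show ω (stalkLin πa y (stalkLin _ y v)) = _
  rw [← stalkLin_comp, hπ]
  exact LinearMap.congr_fun hω v

theorem isFinLocFree_sum [CompactSpace X] (hL : PicF.IsInvertible L) (q r : ℕ) :
    FlatMod.IsFinLocFree (∐ fun _ : Fin r => CohB1.tensorPow L q) :=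
  KFlat.LocFree.isFinLocFree_of_iso (biproduct.isoCoproduct _)
    (AmpleFam.Resolution.isFinLocFree_biproduct (fun _ : Fin r => CohB1.tensorPow L q)
      fun _ => AmpleFam.Resolution.isFinLocFree_of_isInvertible (AmpleLib.isInvertible_tensorPow hL q))

end

/-- Let k be a field, X an integral scheme locally of finite type over k carrying an ample invertible
module L, and E a coherent O_X-module all of whose stalks are reflexive. Then there are natural
numbers q, q', integers r, r' ≥ 1 and a coherent O_X-module E' with a short exact sequence 0 → E →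
(L^q)^r → E' → 0 (tensor powers of L, direct sums of copies) and a monomorphism E' → (L^q')^r'; and
E' is finite locally free whenever E is. (In the published statement X is an integral locally closed
subscheme of P^N_k, the sums are restrictions of O(m)^r with m any integer, and E is reflexive
coherent.) -/
theorem result (k : Type u) [Field k] (X : Scheme.{u})
    (f : X ⟶ Spec (CommRingCat.of k)) [LocallyOfFiniteType f] [IsIntegral X]
    (L : X.Modules) (hL : CohB1.IsAmple L) (E : X.Modules) (hE : Coh.IsCoh E)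
    (hEr : ∀ x : X, Module.IsReflexive (X.presheaf.stalk x) (E.presheaf.stalk x)) :
    ∃ (q r q' r' : ℕ) (E' : X.Modules) (ι : E ⟶ ∐ fun _ : Fin r => CohB1.tensorPow L q)
      (π : (∐ fun _ : Fin r => CohB1.tensorPow L q) ⟶ E') (w : ι ≫ π = 0)
      (ι' : E' ⟶ ∐ fun _ : Fin r' => CohB1.tensorPow L q'),
      1 ≤ r ∧ 1 ≤ r' ∧ (ShortComplex.mk ι π w).ShortExact ∧ Mono ι' ∧ Coh.IsCoh E' ∧
        (FlatMod.IsFinLocFree E → FlatMod.IsFinLocFree E') := by
  haveI : IsLocallyNoetherian X := LocallyOfFiniteType.isLocallyNoetherian f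
  haveI := hL.2.1
  obtain ⟨q, r, ι, hr, hι⟩ := exists_core hL hE
  have hW := isFinLocFree_sum hL.1 q r
  have hWc : Coh.IsCoh (∐ fun _ : Fin r => CohB1.tensorPow L q) :=
    PerfTri.Bounded.isCoh_of_isFinLocFree hW
  haveI := hWc.1
  have hinj : ∀ x, Function.Injective (stalkLin ι x) := fun x =>
    haveI := hEr x
    injective_of_dualMap_surjective _ (hι x) (Module.bijective_dual_eval _ _).1
  haveI : Mono ι := Omega.Stalks.mono_of_stalk hinj
  have hE' : Coh.IsCoh (cokernel ι) := CohDev.isCoh_cokernel ι hE.1 hWc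
  have hses : (ShortComplex.mk ι (cokernel.π ι) (cokernel.condition ι)).ShortExact :=
    { exact := ShortComplex.exact_of_g_is_cokernel _ (cokernelIsCokernel ι) }
  have hex := fun x => stalk_exact hses x
  obtain ⟨q', r', ι', hr', hι'⟩ := exists_core hL hE'
  haveI : Mono ι' := Omega.Stalks.mono_of_stalk fun x => by
    haveI := hEr x
    haveI := (Props.QProj.free_stalk _ hW x).1
    haveI : Module.Finite (X.presheaf.stalk x) ((cokernel ι).presheaf.stalk x) :=
      HomShQC.finite_stalk _ hE'.2 x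
    haveI : Module.IsTorsionFree (X.presheaf.stalk x) ((cokernel ι).presheaf.stalk x) := by
      refine ⟨fun a ha u v huv => ?_⟩
      obtain ⟨y, hy⟩ := (hex x).2.2 (u - v)
      have h0 : a • (stalkLin (cokernel.π ι) x y) = 0 := by
        rw [show stalkLin (cokernel.π ι) x y = u - v from hy, smul_sub]
        exact sub_eq_zero.mpr huv
      rw [← map_smul] at h0
      obtain ⟨m, hm⟩ := mem_range_of_smul _ (hι x) ha.ne_zero ((hex x).2.1 _ |>.mp h0)
      have h1 : u - v = 0 := by
        rw [← hy, ← hm]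
        exact (hex x).2.1.apply_apply_eq_zero m
      exact sub_eq_zero.mp h1
    exact injective_of_dualMap_surjective _ (hι' x) ((DomMod.eval_injective_iff _ _).mpr inferInstance)
  refine ⟨q, r, q', r', cokernel ι, ι, cokernel.π ι, cokernel.condition ι, ι', hr, hr', hses, inferInstance,
    hE', fun hfree => ?_⟩
  haveI := hE.1
  haveI := hE'.1
  refine Props.QProj.isFinLocFree_of _ (fun x => ?_) fun x => ?_
  · obtain ⟨U, hU, hx, -⟩ := exists_isAffineOpen_mem_and_subset (X := X) (Opens.mem_top x)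
    refine ⟨U, hU, hx, ?_⟩
    haveI := CohDev.finite_sections hE' hU
    haveI : IsNoetherianRing Γ(X, U) := IsLocallyNoetherian.component_noetherian ⟨U, hU⟩
    exact Module.finitePresentation_of_finite _ _
  · haveI := (Props.QProj.free_stalk _ hfree x).1
    haveI := (Props.QProj.free_stalk _ hfree x).2
    haveI := (Props.QProj.free_stalk _ hW x).1
    haveI : Module.Finite (X.presheaf.stalk x) ((cokernel ι).presheaf.stalk x) :=
      HomShQC.finite_stalk _ hE'.2 x
    obtain ⟨rt, hrt⟩ := exists_retraction (stalkLin ι x) (hι x)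
    haveI := projective_of_retraction (stalkLin ι x) (stalkLin (cokernel.π ι) x) (hex x).2.2 (hex x).2.1 rt hrt
    exact Module.free_of_flat_of_isLocalRing

end Groth.Agent.S16671
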