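import Groth.Statements.S16673
import Groth.Agent.AbExt.PRank

set_option autoImplicit false
universe u
open CategoryTheory CategoryTheory.Limits MonoidalCategory CartesianMonoidalCategory MonObj GrpObj AlgebraicGeometry
open AbVar

namespace Groth.Agent.S16673

/-- Let k be a field of characteristic p > 0 with an algebraic closure k̄, let X and Y be abelian
varieties over k (proper, geometrically integral, commutative k-group schemes) and let h : X → Y be
a homomorphism which is finite and surjective (an isogeny). If i and j are natural numbers such that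
for every m ≥ 0 the group X[p^m](k̄) of k̄-valued points of X killed by p^m (k̄-valued points being
the k-morphisms Spec k̄ → X, a group under the group law of X) is isomorphic to (ℤ/p^m)^i and the
group Y[p^m](k̄) is isomorphic to (ℤ/p^m)^j (groups of points written multiplicatively), then i = j:
the p-rank is an isogeny invariant. -/
theorem result (k : Type u) [Field k] (p : ℕ) [Fact p.Prime] [CharP k p]
    (X Y : Over (Spec (CommRingCat.of k)))
    [GrpObj X] [IsCommMonObj X] [IsProper X.hom] [GeometricallyIntegral X.hom]
    [GrpObj Y] [IsCommMonObj Y] [IsProper Y.hom] [GeometricallyIntegral Y.hom]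
    (h : X ⟶ Y) [IsMonHom h] [IsFinite h.left] [Surjective h.left]
    (i j : ℕ)
    (hi : ∀ m : ℕ, Nonempty (AbDual.torsPts X (p ^ m)
      (Over.mk (Spec.map (CommRingCat.ofHom (algebraMap k (AlgebraicClosure k))))) ≃*
      Multiplicative (Fin i → ZMod (p ^ m))))
    (hj : ∀ m : ℕ, Nonempty (AbDual.torsPts Y (p ^ m)
      (Over.mk (Spec.map (CommRingCat.ofHom (algebraMap k (AlgebraicClosure k))))) ≃*
      Multiplicative (Fin j → ZMod (p ^ m)))) :
    i = j := by
  open Groth.Agent.AbExt.PRank in
  exact (by
    let T := Over.mk (Spec.map (CommRingCat.ofHom (algebraMap k (AlgebraicClosure k))))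
    let φ : (T ⟶ X) →* (T ⟶ Y) :=
      MonoidHom.mk' (fun x => x ≫ h) fun a b => MonObj.mul_comp a b h
    have hker : Finite φ.ker := by
      have := finite_fibre (Ω := AlgebraicClosure k) h 1
      exact this
    have hcard : ∀ (G : Type u) [CommGroup G] (m r : ℕ),
        Nonempty ((powMonoidHom (p ^ m) : G →* G).ker ≃* Multiplicative (Fin r → ZMod (p ^ m))) →
          Nat.card (powMonoidHom (p ^ m) : G →* G).ker = (p ^ m) ^ r := by
      rintro G _ m r ⟨e⟩
      rw [Nat.card_congr e.toEquiv, Nat.card_congr Multiplicative.toAdd, Nat.card_pi]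
      simp [Nat.card_zmod]
    have hp : 2 ≤ p := (Fact.out : p.Prime).two_le
    have hne : ∀ m r : ℕ, (p ^ m) ^ r ≠ 0 := fun m r => pow_ne_zero _ (pow_ne_zero _ (by omega))
    have hb := fun m => le_of_iso φ (p ^ m) _ _ (hcard (T ⟶ X) m i (hi m)) (hne m i)
      (hcard (T ⟶ Y) m j (hj m)) (hne m j) (exists_lift h)
    exact le_antisymm (rank_le hp fun m => (hb m).1) (rank_le hp fun m => (hb m).2))

end Groth.Agent.S16673
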