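import Groth.Statements.S16676
import Groth.Agent.GrpScheme.KernelPair
import Groth.Agent.RedSub.Basic
import Groth.Agent.AbVarLib.Isogeny
import Mathlib.AlgebraicGeometry.Morphisms.FlatDescent

set_option autoImplicit false
universe u
open CategoryTheory CategoryTheory.Limits MonoidalCategory CartesianMonoidalCategory MonObj GrpObj AlgebraicGeometry
open AbVar

namespace Groth.Agent.S16676

/-- The equivalence of its second and third conditions. Let X and Y be abelian varieties over a field k
(proper, geometrically integral k-group schemes), f : X → Y a homomorphism which is finite, flat and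
surjective (an isogeny), and i : N → X the kernel of f (the square formed by i, f, the unit section
of Y and the structure map of N is cartesian). Then f is universally injective (a purely inseparable
morphism) if and only if the scheme N is connected. (The published item also includes the equivalent
condition that the function field of X is purely inseparable over that of Y; that clause is not part
of this statement.) -/
theorem result (k : Type u) [Field k]
    (X Y : Over (Spec (CommRingCat.of k)))
    [GrpObj X] [IsProper X.hom] [GeometricallyIntegral X.hom]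
    [GrpObj Y] [IsProper Y.hom] [GeometricallyIntegral Y.hom]
    (f : X ⟶ Y) [IsMonHom f] [IsFinite f.left] [Flat f.left] [Surjective f.left]
    (N : Over (Spec (CommRingCat.of k))) (i : N ⟶ X) (hN : AlgGrp.IsKernel i f) :
    UniversallyInjective f.left ↔ ConnectedSpace ↥N.left := by
  have hsq := (GrpdLib.GrpOver.isPullback_left hN)
  have : IsFinite N.hom := MorphismProperty.of_isPullback (P := @IsFinite) hsq inferInstance
  let e : 𝟙_ (Over (Spec (CommRingCat.of k))) ⟶ N := hN.lift η[X] (toUnit _) (by
    rw [IsMonHom.one_hom, toUnit_unique (toUnit (𝟙_ (Over (Spec (CommRingCat.of k))))) (𝟙 _),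
      Category.id_comp])
  let e' : Spec (CommRingCat.of k) ⟶ N.left := e.left
  have he : e' ≫ N.hom = 𝟙 (Spec (CommRingCat.of k)) := Over.w e
  have : IsClosedImmersion e' := isClosedImmersion_of_comp_eq_id _ _ he
  let n₀ : N.left := e' (IsLocalRing.closedPoint k)
  constructor
  · intro hf
    have : UniversallyInjective N.hom := MorphismProperty.of_isPullback (P := @UniversallyInjective) hsq hf
    have : Subsingleton ↥N.left := ⟨fun a b => N.hom.injective (Subsingleton.elim (α := PrimeSpectrum k) _ _)⟩
    exact { toPreconnectedSpace := inferInstance, toNonempty := ⟨n₀⟩ }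
  · intro hc
    have : DiscreteTopology ↥N.left := by
      let y : ↥(Spec (CommRingCat.of k)) := IsLocalRing.closedPoint k
      have h : DiscreteTopology ↥(N.hom ⁻¹' {y}) := (N.hom.isDiscrete_preimage_singleton y).1
      have h2 : N.hom ⁻¹' {y} = Set.univ :=
        Set.eq_univ_of_forall fun x => Subsingleton.elim (α := PrimeSpectrum k) _ _
      exact ((Homeomorph.setCongr h2).trans (Homeomorph.Set.univ ↥N.left)).discreteTopology
    have : Subsingleton ↥N.left := PreconnectedSpace.trivial_of_discrete
    refine GrpScheme.KernelPair.mem_of_kernel hN @UniversallyInjective (@Surjective ⊓ @Flat ⊓ @QuasiCompact)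
      ⟨⟨‹_›, ‹_›⟩, inferInstance⟩ ?_
    refine ((tfae_universallyInjective N.hom).out 1 0).mp ?_
    intro K' _ g₁ g₂ h
    have hr : ∀ g : Spec (CommRingCat.of K') ⟶ N.left, Set.range g ⊆ Set.range e' :=
      fun g _ _ => ⟨IsLocalRing.closedPoint k, Subsingleton.elim _ _⟩
    obtain ⟨h₁, rfl⟩ := RedSub.exists_lift_closed e' g₁ (hr g₁)
    obtain ⟨h₂, rfl⟩ := RedSub.exists_lift_closed e' g₂ (hr g₂)
    simp only [Category.assoc] at h
    erw [he, Category.comp_id, Category.comp_id] at h
    rw [h]

end Groth.Agent.S16676
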