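import Groth.Statements.S16677
import Groth.Agent.GrpScheme.EtaleEndo
import Groth.Agent.GrpScheme.AVComm
import Groth.Agent.S18542
import Groth.Agent.AbVarLib.Basics

set_option autoImplicit false
universe u
open CategoryTheory CategoryTheory.Limits MonoidalCategory CartesianMonoidalCategory MonObj GrpObj AlgebraicGeometry
open AbVar

namespace Groth.Agent.S16677

open Groth.Agent.GrpScheme IsLocalRing in
theorem surjective_of_charP (k : Type u) [Field k] (X : Over (Spec (CommRingCat.of k))) [GrpObj X]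
    [LocallyOfFiniteType X.hom] [IsIntegral X.left] (p : ℕ) (hpk : (p : k) = 0) (Z : Scheme.{u})
    (c : Z ⟶ X.left) [IsClosedImmersion c]
    (hc : ∀ m : ℕ, 0 < m →
      ∃ t : pullback η[X].left ((𝟙 X ^ (p ^ m)).left) ⟶ Z,
        t ≫ c = pullback.snd η[X].left ((𝟙 X ^ (p ^ m)).left)) :
    Function.Surjective c := by
  let A := Cartier.stalkUnit X
  haveI : IsNoetherianRing A := EtaleEndo.isNoetherianRing_stalkUnit X
  have fac : ∀ (m : ℕ) (T : Over (Spec (CommRingCat.of k))) (x : T ⟶ X), 0 < m → x ^ (p ^ m) = 1 →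
      ∃ y : T.left ⟶ Z, y ≫ c = x.left := by
    intro m T x hm hx
    obtain ⟨t, ht⟩ := hc m hm
    have e : x ≫ (𝟙 X ^ (p ^ m)) = toUnit T ≫ η[X] := by
      rw [MonObj.comp_pow, Category.comp_id, hx, Hom.one_def]
    refine ⟨pullback.lift (toUnit T).left x.left (congrArg CommaMorphism.left e).symm ≫ t, ?_⟩
    rw [Category.assoc, ht, pullback.lift_snd]
  let P : X ⟶ X := 𝟙 X ^ (p : ℤ)
  let e := Tangent.endo X P (EtaleEndo.zpow_unitPt X p)
  have he : ∀ a ∈ maximalIdeal A, e a ∈ maximalIdeal A ^ 2 := by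
    intro a ha
    have h := Tangent.endo_zpow_sub_mem X (p : ℤ) (EtaleEndo.zpow_unitPt X p) ha
    rwa [zsmul_eq_mul, Int.cast_natCast, show ((p : ℕ) : A) = algebraMap k A (p : k) from (map_natCast _ p).symm,
      hpk, map_zero, MulZeroClass.zero_mul, sub_zero] at h
  have key : ∀ N : ℕ, ∃ u : Spec (CommRingCat.of (A ⧸ maximalIdeal A ^ (N + 1))) ⟶ Z,
      u ≫ c = Spec.map (CommRingCat.ofHom (Ideal.Quotient.mk (maximalIdeal A ^ (N + 1)))) ≫
        X.left.fromSpecStalk (Cartier.unitPt X) := by
    intro N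
    let mk : A →ₐ[k] A ⧸ maximalIdeal A ^ (N + 1) := Ideal.Quotient.mkₐ k _
    let M := (maximalIdeal A).map mk
    have step : ∀ j, ∃ χ : A →ₐ[k] A ⧸ maximalIdeal A ^ (N + 1),
        Tangent.pt X mk ^ (p ^ j) = Tangent.pt X χ ∧ (maximalIdeal A).map χ ≤ M ^ (j + 1) := by
      intro j
      induction j with
      | zero => exact ⟨mk, by rw [pow_zero, pow_one], by rw [pow_one]⟩
      | succ j ih =>
        obtain ⟨χ, hχ, hle⟩ := ih
        refine ⟨χ.comp e, ?_, Ideal.map_le_iff_le_comap.mpr fun a ha => ?_⟩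
        · rw [← Tangent.pt_comp, ← hχ]
          show _ = _ ≫ (𝟙 X ^ (p : ℤ))
          rw [GrpObj.comp_zpow, Category.comp_id, zpow_natCast]
          exact (congrArg (Tangent.pt X mk ^ ·) (pow_succ p j)).trans (pow_mul (Tangent.pt X mk) (p ^ j) p)
        · show χ (e a) ∈ M ^ (j + 1 + 1)
          have h1 := Ideal.mem_map_of_mem χ (he a ha)
          rw [Ideal.map_pow] at h1
          have h2 := Ideal.pow_right_mono hle 2 h1
          rw [← pow_mul] at h2
          exact Ideal.pow_le_pow_right (by omega) h2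
    obtain ⟨χ, hχ, hle⟩ := step (N + 1)
    have hM : M ^ (N + 1 + 1) = ⊥ := by
      have : (maximalIdeal A ^ (N + 1)).map mk = ⊥ := by
        rw [Ideal.map_eq_bot_iff_le_ker]
        intro a ha
        exact Ideal.Quotient.eq_zero_iff_mem.mpr ha
      exact eq_bot_iff.mpr ((Ideal.pow_le_pow_right (Nat.le_succ _)).trans ((Ideal.map_pow _ _ _).symm.trans this).le)
    have hχ0 : χ = (Algebra.ofId k _).comp (Cartier.aug X) := AlgHom.ext fun a => by
      have h0 := Ideal.mem_map_of_mem χ (Cartier.sub_aug_mem X a)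
      have h1 := hle h0
      rw [hM, Ideal.mem_bot, map_sub, AlgHom.commutes, sub_eq_zero] at h1
      exact h1
    rw [hχ0, Tangent.pt_trivial] at hχ
    exact fac (N + 1) _ _ N.succ_pos hχ
  obtain ⟨u0, hu0⟩ := key 0
  haveI hloc : ∀ N, IsLocalRing (A ⧸ maximalIdeal A ^ (N + 1)) := fun N =>
    haveI : Nontrivial (A ⧸ maximalIdeal A ^ (N + 1)) := Ideal.Quotient.nontrivial_iff.mpr fun h =>
      (maximalIdeal.isMaximal A).ne_top (top_le_iff.mp (h ▸ Ideal.pow_le_self N.succ_ne_zero))
    .of_surjective' _ Ideal.Quotient.mk_surjective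
  have hcp : ∀ N, ∀ u : Spec (CommRingCat.of (A ⧸ maximalIdeal A ^ (N + 1))) ⟶ Z,
      u ≫ c = Spec.map (CommRingCat.ofHom (Ideal.Quotient.mk (maximalIdeal A ^ (N + 1)))) ≫
        X.left.fromSpecStalk (Cartier.unitPt X) → c (u (closedPoint _)) = Cartier.unitPt X := by
    intro N u hu
    refine ((Scheme.Hom.comp_apply u c _).symm.trans (congrArg (fun m : _ ⟶ X.left => m (closedPoint _)) hu)).trans ?_
    refine (Scheme.Hom.comp_apply _ _ _).trans ?_
    haveI : IsLocalHom (CommRingCat.ofHom (Ideal.Quotient.mk (maximalIdeal A ^ (N + 1)))).hom :=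
      IsLocalHom.of_surjective _ Ideal.Quotient.mk_surjective
    exact (congrArg (X.left.fromSpecStalk (Cartier.unitPt X)) (Spec_closedPoint (f := CommRingCat.ofHom (Ideal.Quotient.mk (maximalIdeal A ^ (N + 1)))))).trans Scheme.fromSpecStalk_closedPoint
  let z := u0 (closedPoint _)
  have hz : c z = Cartier.unitPt X := hcp 0 u0 hu0
  let σ := X.left.presheaf.stalkSpecializes (specializes_of_eq hz) ≫ c.stalkMap z
  have hinj : ∀ s : A, σ.hom s = 0 → s = 0 := by
    intro s hs
    have hmem : s ∈ ⨅ i : ℕ, maximalIdeal A ^ i := by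
      rw [Ideal.mem_iInf]
      intro i
      obtain ⟨u, hu⟩ := key i
      have huz : u (closedPoint _) = z := c.isClosedEmbedding.injective ((hcp i u hu).trans hz.symm)
      let ψ := Z.presheaf.stalkSpecializes (specializes_of_eq huz) ≫ Scheme.stalkClosedPointTo u
      have h1 : Spec.map (σ ≫ ψ) ≫ X.left.fromSpecStalk (Cartier.unitPt X) =
          Spec.map (CommRingCat.ofHom (Ideal.Quotient.mk (maximalIdeal A ^ (i + 1)))) ≫
            X.left.fromSpecStalk (Cartier.unitPt X) := by
        rw [← hu]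
        simp only [σ, ψ, Spec.map_comp, Category.assoc, Scheme.SpecMap_stalkSpecializes_fromSpecStalk,
          Scheme.SpecMap_stalkMap_fromSpecStalk]
        rw [Scheme.SpecMap_stalkSpecializes_fromSpecStalk_assoc, Scheme.Spec_stalkClosedPointTo_fromSpecStalk_assoc]
      rw [cancel_mono] at h1
      have h2 := congr($(Spec.map_injective h1).hom s)
      simp only [CommRingCat.hom_comp, RingHom.comp_apply, hs, map_zero] at h2
      exact Ideal.pow_le_pow_right i.le_succ (Ideal.Quotient.eq_zero_iff_mem.mp h2.symm)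
    rwa [Ideal.iInf_pow_eq_bot_of_isLocalRing _ (maximalIdeal.isMaximal A).ne_top, Ideal.mem_bot] at hmem
  have hbij : Function.Bijective σ.hom := by
    refine ⟨(injective_iff_map_eq_zero _).mpr hinj, ?_⟩
    exact (c.stalkMap_surjective z).comp
      (ConcreteCategory.bijective_of_isIso (C := CommRingCat)
        (X.left.presheaf.stalkCongr (.of_eq hz.symm)).hom).2
  haveI : IsIso σ := (ConcreteCategory.isIso_iff_bijective _).mpr hbij
  obtain ⟨q, hq⟩ : genericPoint X.left ∈ Set.range (X.left.fromSpecStalk (Cartier.unitPt X)) := by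
    rw [Scheme.range_fromSpecStalk]
    exact genericPoint_specializes _
  have hgen : genericPoint X.left ∈ Set.range c := by
    obtain ⟨q', rfl⟩ := (Spec.map σ).surjective q
    refine ⟨Z.fromSpecStalk z q', ?_⟩
    rw [← hq, ← Scheme.Hom.comp_apply, ← Scheme.Hom.comp_apply]
    simp [σ]
  intro x
  exact (genericPoint_specializes x).mem_closed c.isClosedEmbedding.isClosed_range hgen

open Groth.Agent in
theorem surjective_of_ne (k : Type u) [Field k] (X : Over (Spec (CommRingCat.of k))) [GrpObj X]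
    [IsProper X.hom] [GeometricallyIntegral X.hom] (p : ℕ) [Fact p.Prime] (hpk : (p : k) ≠ 0) (Z : Scheme.{u})
    (c : Z ⟶ X.left) [IsClosedImmersion c]
    (hc : ∀ m : ℕ, 0 < m →
      ∃ t : pullback η[X].left ((𝟙 X ^ (p ^ m)).left) ⟶ Z,
        t ≫ c = pullback.snd η[X].left ((𝟙 X ^ (p ^ m)).left)) :
    Function.Surjective c := by
  let L := AlgebraicClosure k
  let g : Spec (CommRingCat.of L) ⟶ Spec (CommRingCat.of k) := Spec.map (CommRingCat.ofHom (algebraMap k L))
  let F := Over.pullback g
  let A := F.obj X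
  letI : GrpObj A := Functor.grpObjObj
  haveI : IsProper A.hom := show IsProper (pullback.snd X.hom g) from inferInstance
  haveI : GeometricallyIntegral A.hom := show GeometricallyIntegral (pullback.snd X.hom g) from inferInstance
  haveI := GrpScheme.AVComm.isCommMonObj A
  haveI : Smooth A.hom := AbVarLib.Basics.smooth A
  haveI : IsIntegral A.left := GeometricallyIntegral.isIntegral_of_subsingleton A.hom
  haveI : GeometricallyConnected A.hom := FBase.BC.geometricallyConnected_of_geometricallyIrreducible A.hom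
  have hpL : (p : L) ≠ 0 := by rw [← map_natCast (algebraMap k L)]; exact (map_ne_zero _).mpr hpk
  have hd := S18542.result L A p hpL
  let π : A.left ⟶ X.left := pullback.fst X.hom g
  haveI : Surjective g := ⟨Function.surjective_to_subsingleton (α := Spec (CommRingCat.of L)) _⟩
  have hπ : Function.Surjective π := (inferInstance : Surjective (pullback.fst X.hom g)).1
  intro x
  obtain ⟨a, rfl⟩ := hπ x
  refine closure_minimal ?_ (c.isClosedEmbedding.isClosed_range.preimage π.continuous) (hd a)
  rintro _ ⟨_, ⟨n, rfl⟩, _, ⟨b, rfl⟩, _, ⟨hb, rfl⟩, ⟨q, rfl⟩⟩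
  have hpow : ∀ j : ℕ, ((b ≫ F.map (𝟙 X ^ j)).left ≫ π = (b.left ≫ π) ≫ (𝟙 X ^ j : X ⟶ X).left) ∧
      b ^ j = b ≫ F.map (𝟙 X ^ j) := by
    intro j
    refine ⟨?_, ?_⟩
    · rw [Over.comp_left, Category.assoc, Category.assoc]
      congr 1
      exact pullback.lift_fst _ _ _
    · have h : F.map (𝟙 X ^ j) = (𝟙 A : A ⟶ A) ^ j := by
        refine (map_pow (Functor.homMonoidHom (X := X) (M := X) F) (𝟙 X) j).trans ?_
        congr 1
        exact F.map_id X
      rw [h, MonObj.comp_pow, Category.comp_id]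
  have hb' : b ^ (p ^ (n + 1)) = b ^ 0 := by
    rw [pow_succ, pow_mul, (AbDual.mem_torsPts A b).mp hb, one_pow, pow_zero]
  have h1 := (hpow (p ^ (n + 1))).1
  rw [← (hpow _).2, hb', (hpow 0).2, (hpow 0).1] at h1
  have h0 : ((b.left ≫ π) ≫ X.hom) ≫ η[X].left = (b.left ≫ π) ≫ (𝟙 X ^ (p ^ (n + 1))).left := by
    rw [← h1, pow_zero, Hom.one_def, Category.assoc, Category.assoc, Category.assoc]
    rfl
  obtain ⟨t, ht⟩ := hc (n + 1) n.succ_pos
  refine ⟨(pullback.lift ((b.left ≫ π) ≫ X.hom) (b.left ≫ π) h0 ≫ t) q, ?_⟩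
  rw [← Scheme.Hom.comp_apply, Category.assoc, ht, pullback.lift_snd]
  rfl

/-- Let X be an abelian variety over a field k (a proper, geometrically integral k-group scheme) and p a
prime number, not necessarily different from the characteristic of k. For m ≥ 1 let X[p^m] → X be
the kernel of multiplication by p^m (the p^m-th power of the identity in the group of endomorphisms
of X), realised as the fibre product of the unit section with that endomorphism. Then the family of
closed subgroup schemes X[p^m], m ≥ 1, is scheme-theoretically dense in X: if c : Z → X is a closed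
immersion through which every inclusion X[p^m] → X factors, then c is an isomorphism. -/
theorem result (k : Type u) [Field k]
    (X : Over (Spec (CommRingCat.of k))) [GrpObj X] [IsProper X.hom] [GeometricallyIntegral X.hom]
    (p : ℕ) (hp : p.Prime) (Z : Scheme.{u}) (c : Z ⟶ X.left) [IsClosedImmersion c]
    (hc : ∀ m : ℕ, 0 < m →
      ∃ t : pullback η[X].left ((𝟙 X ^ (p ^ m)).left) ⟶ Z,
        t ≫ c = pullback.snd η[X].left ((𝟙 X ^ (p ^ m)).left)) :
    IsIso c := by
  haveI : IsIntegral X.left := GeometricallyIntegral.isIntegral_of_subsingleton X.hom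
  haveI : Fact p.Prime := ⟨hp⟩
  haveI : Surjective c := by
    constructor
    by_cases hpk : (p : k) = 0
    · exact surjective_of_charP k X p hpk Z c hc
    · exact surjective_of_ne k X p hpk Z c hc
  exact isIso_of_isClosedImmersion_of_surjective c

end Groth.Agent.S16677
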