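import Groth.Statements.S16678
import Groth.Agent.Fibres16.CompScheme.Scheme

set_option autoImplicit false
universe u
open CategoryTheory CategoryTheory.Limits AlgebraicGeometry
open Variety

namespace Groth.Agent.S16678

/-- For a field k and a k-scheme X locally of finite type there are an étale k-scheme P and a k-morphism
q : X → P such that every k-morphism h : X → Y to an étale k-scheme Y equals t ∘ q for exactly one
k-morphism t : P → Y; moreover q is flat and surjective, and for each point x of X the fibre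
q⁻¹(q(x)), as a subset of X, is the connected component of x. (Étale means locally of finite
presentation with étale ring maps on affine pieces; no quasi-compactness is asked, so P may have
infinitely many points.) -/
theorem result (k : Type u) [Field k]
    (X : Scheme.{u}) (f : X ⟶ Spec (CommRingCat.of k)) [LocallyOfFiniteType f] :
    ∃ (P : Scheme.{u}) (g : P ⟶ Spec (CommRingCat.of k)) (q : X ⟶ P), Etale g ∧ q ≫ g = f ∧
      (∀ (Y : Scheme.{u}) (gY : Y ⟶ Spec (CommRingCat.of k)) (h : X ⟶ Y), Etale gY → h ≫ gY = f →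
        ∃! t : P ⟶ Y, t ≫ gY = g ∧ q ≫ t = h) ∧
      Flat q ∧ Surjective q ∧
      ∀ x : ↥X, (fun x' : ↥X => q x') ⁻¹' {q x} = connectedComponent x := by
  haveI : IsLocallyNoetherian X := LocallyOfFiniteType.isLocallyNoetherian f
  haveI : LocallyConnectedSpace X := S2277.result X fun x => by
    obtain ⟨_, ⟨U, hU, rfl⟩, hxU, -⟩ := X.isBasis_affineOpens.exists_subset_of_mem_open (Set.mem_univ x) isOpen_univ
    haveI : IsNoetherianRing Γ(X, U) := IsLocallyNoetherian.component_noetherian ⟨U, hU⟩
    exact ⟨U, U.2.mem_nhds hxU, noetherianSpace_of_isAffineOpen U hU⟩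
  let U : ConnectedComponents X → X.Opens := fun c => ⟨ConnectedComponents.mk ⁻¹' {c},
    (isOpen_discrete {c}).preimage ConnectedComponents.continuous_coe⟩
  have hUeq : ∀ x : X, (U (ConnectedComponents.mk x) : Set X) = connectedComponent x := fun x =>
    connectedComponents_preimage_singleton
  haveI : ∀ c, Nonempty (U c).toScheme := fun c => by
    obtain ⟨x, rfl⟩ := ConnectedComponents.surjective_coe c
    exact ⟨⟨x, rfl⟩⟩
  haveI : ∀ c, PreconnectedSpace (U c).toScheme := fun c => by
    obtain ⟨x, rfl⟩ := ConnectedComponents.surjective_coe c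
    exact Subtype.preconnectedSpace (by rw [hUeq]; exact isPreconnected_connectedComponent)
  let g₁ : ∀ c, (U c).toScheme ⟶ Spec (CommRingCat.of k) := fun c => (U c).ι ≫ f
  let E : ConnectedComponents X → Scheme.{u} := fun c => Spec (Fibres16.CompScheme.cst (g₁ c))
  obtain ⟨hcol⟩ := nonempty_isColimit_cofanMk_of (fun c => (U c).ι)
    (by
      rw [eq_top_iff]
      intro x _
      rw [TopologicalSpace.Opens.mem_iSup]
      exact ⟨ConnectedComponents.mk x, by rw [Scheme.Opens.opensRange_ι]; rfl⟩)
    (fun c d hcd => by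
      show Disjoint ((U c).ι.opensRange) ((U d).ι.opensRange)
      rw [Scheme.Opens.opensRange_ι, Scheme.Opens.opensRange_ι, disjoint_iff, eq_bot_iff]
      rintro x ⟨h1, h2⟩
      exact hcd (Eq.trans (Set.mem_singleton_iff.1 h1).symm (Set.mem_singleton_iff.1 h2)))
  let πc : ∀ c, (U c).toScheme ⟶ E c := fun c => Fibres16.CompScheme.cstπ (g₁ c)
  let q : X ⟶ ∐ E := Cofan.IsColimit.desc hcol (fun c => πc c ≫ Sigma.ι E c)
  have hq : ∀ c, (U c).ι ≫ q = πc c ≫ Sigma.ι E c := fun c => Cofan.IsColimit.fac hcol _ c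
  let g : ∐ E ⟶ Spec (CommRingCat.of k) := Sigma.desc fun c => Fibres16.CompScheme.cstStr (g₁ c)
  have hqg : q ≫ g = f := Cofan.IsColimit.hom_ext hcol _ _ fun c => by
    show (U c).ι ≫ q ≫ g = (U c).ι ≫ f
    rw [← Category.assoc, hq, Category.assoc]
    simp only [g, colimit.ι_desc, Cofan.mk_ι_app, πc, Fibres16.CompScheme.cstπ_str, g₁]
  have hqx : ∀ x : X, ∃ z, Sigma.ι E (ConnectedComponents.mk x) z = q x := fun x =>
    ⟨πc _ ⟨x, rfl⟩, by
      rw [← Scheme.Hom.comp_apply, ← hq, Scheme.Hom.comp_apply]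
      rfl⟩
  refine ⟨∐ E, g, q, ?_, hqg, ?_, ?_, ?_, ?_⟩
  · rw [IsZariskiLocalAtSource.iff_of_openCover (P := @Etale) (sigmaOpenCover E)]
    intro c
    show Etale (Sigma.ι E c ≫ g)
    simp only [g, colimit.ι_desc, Cofan.mk_ι_app]
    exact Fibres16.CompScheme.etale_cstStr (g₁ c)
  · intro Y gY h hgY hh
    choose t ht htu using fun c => Fibres16.CompScheme.existsUnique_desc (g₁ c) gY ((U c).ι ≫ h)
      (by rw [Category.assoc, hh])
    refine ⟨Sigma.desc t, ⟨Sigma.hom_ext _ _ fun c => ?_, Cofan.IsColimit.hom_ext hcol _ _ fun c => ?_⟩, ?_⟩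
    · rw [← Category.assoc]
      simp only [g, colimit.ι_desc, Cofan.mk_ι_app]
      exact (ht c).1
    · show (U c).ι ≫ q ≫ Sigma.desc t = (U c).ι ≫ h
      rw [← Category.assoc, hq, Category.assoc]
      simp only [colimit.ι_desc, Cofan.mk_ι_app]
      exact (ht c).2
    · rintro s ⟨hs1, hs2⟩
      refine Sigma.hom_ext _ _ fun c => ?_
      simp only [colimit.ι_desc, Cofan.mk_ι_app]
      refine htu c _ ⟨?_, ?_⟩
      · rw [Category.assoc, hs1]
        simp only [g, colimit.ι_desc, Cofan.mk_ι_app]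
      · rw [← Category.assoc, ← hq, Category.assoc, hs2]
  · refine (IsZariskiLocalAtSource.iff_of_openCover (P := @Flat)
      (X.openCoverOfIsOpenCover U (TopologicalSpace.IsOpenCover.mk (eq_top_iff.2 fun x _ =>
        TopologicalSpace.Opens.mem_iSup.mpr ⟨ConnectedComponents.mk x, rfl⟩)))).2 fun c => ?_
    show Flat ((U c).ι ≫ q)
    rw [hq]
    haveI := Fibres16.CompScheme.flat_cstπ (g₁ c)
    infer_instance
  · refine ⟨fun p => ?_⟩
    obtain ⟨c, z, rfl⟩ := (sigmaOpenCover E).exists_eq p
    obtain ⟨w⟩ := (inferInstance : Nonempty (U c).toScheme)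
    haveI := Fibres16.CompScheme.subsingleton_cst (g₁ c)
    refine ⟨(U c).ι w, ?_⟩
    rw [← Scheme.Hom.comp_apply, hq, Scheme.Hom.comp_apply, Subsingleton.elim (πc c w) z]
    rfl
  · intro x
    ext x'
    rw [Set.mem_preimage, Set.mem_singleton_iff, ← ConnectedComponents.coe_eq_coe']
    constructor
    · intro h
      obtain ⟨z, hz⟩ := hqx x
      obtain ⟨z', hz'⟩ := hqx x'
      rw [← hz, ← hz'] at h
      by_contra hne
      have hd := disjoint_opensRange_sigmaι E _ _ hne
      rw [disjoint_iff] at hd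
      have hm : Sigma.ι E (ConnectedComponents.mk x) z ∈
          (Sigma.ι E (ConnectedComponents.mk x')).opensRange ⊓ (Sigma.ι E (ConnectedComponents.mk x)).opensRange :=
        ⟨⟨z', h⟩, ⟨z, rfl⟩⟩
      rw [hd] at hm
      exact hm
    · intro h
      haveI := Fibres16.CompScheme.subsingleton_cst (g₁ (ConnectedComponents.mk x))
      have key : ∀ w : (U (ConnectedComponents.mk x)).toScheme, q w.1 =
          Sigma.ι E (ConnectedComponents.mk x) (πc _ w) := fun w => by
        rw [← Scheme.Hom.comp_apply, ← hq, Scheme.Hom.comp_apply]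
        rfl
      exact (key ⟨x', h⟩).trans ((congrArg _ (Subsingleton.elim (α := ↥(E _)) _ _)).trans (key ⟨x, rfl⟩).symm)

end Groth.Agent.S16678
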