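import Groth.Statements.S16679
import Groth.Agent.GrpScheme.EtaleEndo
import Groth.Agent.GrpScheme.AVComm
import Groth.Agent.S18542
import Groth.Agent.AbVarLib.Basics
import Groth.Agent.S8186
import Groth.Agent.GrpScheme.Smooth
import Groth.Agent.GrpScheme.SubgroupObj
import Groth.Agent.RedSub.Basic
import Groth.Agent.FBase.BC
import Groth.Agent.GrpScheme.Component

set_option autoImplicit false
universe u
open CategoryTheory CategoryTheory.Limits MonoidalCategory CartesianMonoidalCategory MonObj GrpObj AlgebraicGeometry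
open AbVar

namespace Groth.Agent.S16679

theorem locallyQuasiFinite_of_etale {X Y : Scheme.{u}} (g : X ⟶ Y) [Etale g] : LocallyQuasiFinite g := by
  rw [HasRingHomProperty.iff_appLE (P := @LocallyQuasiFinite)]
  intro V U e
  have h : (g.appLE V.1 U.1 e).hom.Etale := HasRingHomProperty.appLE @Etale g ‹_› V U e
  algebraize [(g.appLE V.1 U.1 e).hom]
  exact (inferInstance : Algebra.QuasiFinite Γ(Y, V) Γ(X, U))

open Groth.Agent Groth.Agent.GrpScheme in
theorem torsion_mem_sepPts {k : Type u} [Field k] (X : Over (Spec (CommRingCat.of k))) [GrpObj X] [IsCommMonObj X]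
    [IsProper X.hom] (n : ℕ) (hn : (n : k) ≠ 0) (w : ↥(Limits.pullback η[X].left ((𝟙 X ^ n : X ⟶ X)).left)) :
    (Limits.pullback.snd η[X].left ((𝟙 X ^ n : X ⟶ X)).left) w ∈ S8186.sepPts X.hom := by
  let P : X ⟶ X := 𝟙 X ^ n
  have hP : Etale P.left := by
    have h := EtaleEndo.etale_zpow X (n : ℤ) (by exact_mod_cast hn)
    rw [zpow_natCast] at h
    exact h
  haveI : IsClosedImmersion η[X].left := by
    haveI : IsClosedImmersion (η[X].left ≫ X.hom) := by
      rw [Over.w η[X]]; exact inferInstanceAs (IsClosedImmersion (𝟙 _))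
    exact IsClosedImmersion.of_comp η[X].left X.hom
  let s := Limits.pullback.fst η[X].left P.left
  let t := Limits.pullback.snd η[X].left P.left
  have e : t ≫ X.hom = s ≫ 𝟙 _ := by
    rw [← Over.w P, ← Category.assoc, ← pullback.condition, Category.assoc, Over.w η[X]]
    rfl
  rw [Category.comp_id] at e
  have h : w ∈ S8186.sepPts (t ≫ X.hom) := by
    rw [e]
    have : Smooth s := inferInstance
    have := AbVarLib.Basics.geometricallyReduced_of_smooth s
    haveI := locallyQuasiFinite_of_etale s
    have hd := s.isDiscrete_preimage_singleton (IsLocalRing.closedPoint k)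
    have huniv : s ⁻¹' {IsLocalRing.closedPoint k} = Set.univ :=
      Set.eq_univ_of_forall fun x => Subsingleton.elim (α := PrimeSpectrum k) (s x) _
    erw [huniv] at hd
    haveI := isDiscrete_univ_iff.mp hd
    rw [dense_discrete.mp (S8186.dense_sepPts s)]
    trivial
  exact (S8186.mem_sepPts_iff t X.hom w).mp h

open Groth.Agent in
theorem exists_grpObj_red {k : Type u} [Field k] (Y : Over (Spec (CommRingCat.of k))) [GrpObj Y] (Yr : Scheme.{u})
    (j : Yr ⟶ Y.left) [IsClosedImmersion j] [Surjective j] [IsReduced Yr] [GeometricallyReduced (j ≫ Y.hom)] :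
    ∃ _ : GrpObj (Over.mk (j ≫ Y.hom)), IsMonHom (Over.homMk j rfl : Over.mk (j ≫ Y.hom) ⟶ Y) := by
  let Yo : Over (Spec (CommRingCat.of k)) := Over.mk (j ≫ Y.hom)
  let jo : Yo ⟶ Y := Over.homMk j rfl
  haveI : IsClosedImmersion jo.left := ‹IsClosedImmersion j›
  haveI : IsReduced Yo.left := ‹IsReduced Yr›
  haveI : GeometricallyReduced Yo.hom := ‹GeometricallyReduced (j ≫ Y.hom)›
  haveI : Mono jo.left := inferInstance
  haveI : Mono jo := Over.mono_of_mono_left _
  have factor : ∀ {T : Over (Spec (CommRingCat.of k))} [IsReduced T.left] (f : T ⟶ Y),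
      ∃ m : T ⟶ Yo, m ≫ jo = f := by
    intro T _ f
    obtain ⟨m, hm⟩ := RedSub.exists_lift_closed j f.left fun y _ => j.surjective y
    exact ⟨Over.homMk m (by rw [← Over.w f, ← hm, Category.assoc]; rfl), Over.OverMorphism.ext hm⟩
  haveI : IsReduced (Yo ⊗ Yo).left := FBase.BC.isReduced_pullback Yo.hom Yo.hom
  haveI : IsReduced (𝟙_ (Over (Spec (CommRingCat.of k)))).left :=
    inferInstanceAs (IsReduced (Spec (CommRingCat.of k)))
  exact GrpScheme.SubgroupObj.exists_grpObj jo (factor _) (factor _) (factor _)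

open Groth.Agent Groth.Agent.GrpScheme in
theorem dense_sepPts_subgroup {k : Type u} [Field k] (X : Over (Spec (CommRingCat.of k))) [GrpObj X]
    [IsProper X.hom] [GeometricallyIntegral X.hom]
    (Y : Over (Spec (CommRingCat.of k))) [GrpObj Y] (i : Y ⟶ X) [IsMonHom i] [IsClosedImmersion i.left]
    [ConnectedSpace ↥Y.left] : Dense (S8186.sepPts Y.hom) := by
  classical
  haveI := GrpScheme.AVComm.isCommMonObj X
  haveI : IsProper Y.hom := by rw [← Over.w i]; infer_instance
  obtain ⟨l, hl, hlk⟩ : ∃ l : ℕ, l.Prime ∧ (l : k) ≠ 0 := by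
    by_cases h2 : ((2 : ℕ) : k) = 0
    · refine ⟨3, Nat.prime_three, fun h3 => one_ne_zero (α := k) ?_⟩
      calc (1 : k) = ((3 : ℕ) : k) - ((2 : ℕ) : k) := by norm_num
        _ = 0 := by rw [h3, h2, sub_zero]
    · exact ⟨2, Nat.prime_two, h2⟩
  haveI : Fact l.Prime := ⟨hl⟩
  let L := AlgebraicClosure k
  let g : Spec (CommRingCat.of L) ⟶ Spec (CommRingCat.of k) := Spec.map (CommRingCat.ofHom (algebraMap k L))
  let F := Over.pullback g
  let Y' := F.obj Y
  letI : GrpObj Y' := Functor.grpObjObj
  haveI : IsProper Y'.hom := show IsProper (Limits.pullback.snd Y.hom g) from inferInstance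
  haveI : GeometricallyIrreducible Y.hom :=
    haveI := AbVarLib.Basics.irreducibleSpace_of_connectedSpace Y
    GrpScheme.Component.geometricallyIrreducible_of_irreducibleSpace Y
  haveI : GeometricallyConnected Y.hom := FBase.BC.geometricallyConnected_of_geometricallyIrreducible Y.hom
  haveI : GeometricallyConnected Y'.hom := show GeometricallyConnected (Limits.pullback.snd Y.hom g) from inferInstance
  haveI := AbVarLib.Basics.connectedSpace Y'
  let C : TopologicalSpace.Closeds Y'.left := ⟨Set.univ, isClosed_univ⟩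
  let I := Scheme.IdealSheafData.vanishingIdeal C
  haveI : IsReduced I.subscheme := RedSub.isReduced_vanishingIdeal C
  haveI hsurj : Surjective I.subschemeι := ⟨fun y => by
    have : y ∈ Set.range I.subschemeι := by rw [RedSub.range_vanishingIdeal_subschemeι C]; exact Set.mem_univ y
    exact this⟩
  haveI := FBase.BC.geometricallyReduced_of_isReduced_of_perfectField (I.subschemeι ≫ Y'.hom)
  obtain ⟨_, hr1⟩ := exists_grpObj_red Y' I.subscheme I.subschemeι
  let B : Over (Spec (CommRingCat.of L)) := Over.mk (I.subschemeι ≫ Y'.hom)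
  let r : B ⟶ Y' := Over.homMk I.subschemeι rfl
  haveI : IsMonHom r := hr1
  haveI : IsClosedImmersion r.left := inferInstanceAs (IsClosedImmersion I.subschemeι)
  haveI : IsReduced B.left := ‹IsReduced I.subscheme›
  haveI : ConnectedSpace B.left :=
    (isHomeomorph_iff_isEmbedding_surjective.mpr
      ⟨r.left.isClosedEmbedding.toIsEmbedding, hsurj.surj⟩).homeomorph.symm.surjective.connectedSpace
      (isHomeomorph_iff_isEmbedding_surjective.mpr
      ⟨r.left.isClosedEmbedding.toIsEmbedding, hsurj.surj⟩).homeomorph.symm.continuous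
  haveI : IsProper B.hom := by rw [← Over.w r]; infer_instance
  haveI : Smooth B.hom := GrpScheme.Smooth.smooth_of_perfectField B
  haveI : GeometricallyConnected B.hom :=
    haveI := AbVarLib.Basics.irreducibleSpace_of_connectedSpace B
    haveI := FBase.BC.geometricallyIrreducible_of_isSepClosed B.hom
    FBase.BC.geometricallyConnected_of_geometricallyIrreducible B.hom
  haveI := AbVarLib.Basics.geometricallyIntegral B
  haveI := GrpScheme.AVComm.isCommMonObj B
  have hd := S18542.result L B l (by rw [← map_natCast (algebraMap k L)]; exact (map_ne_zero _).mpr hlk)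
  let π : Y'.left ⟶ Y.left := Limits.pullback.fst Y.hom g
  haveI : Surjective g := ⟨Function.surjective_to_subsingleton (α := Spec (CommRingCat.of L)) _⟩
  have hπ : Function.Surjective π := (inferInstance : Surjective (Limits.pullback.fst Y.hom g)).1
  have hr : Function.Surjective r.left := hsurj.surj
  intro y
  obtain ⟨y', rfl⟩ := hπ y
  obtain ⟨b₀, rfl⟩ := hr y'
  rw [← Scheme.Hom.comp_apply]
  refine map_mem_closure (r.left ≫ π).continuous (hd b₀) ?_
  rintro _ ⟨_, ⟨m, rfl⟩, _, ⟨a, rfl⟩, _, ⟨ha, rfl⟩, ⟨q, rfl⟩⟩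
  let b : _ ⟶ Y' := a ≫ r
  have hb : b ^ (l ^ m) = b ^ 0 := by
    show (a ≫ r) ^ (l ^ m) = (a ≫ r) ^ 0
    rw [pow_zero, ← MonObj.pow_comp, (AbDual.mem_torsPts B a).mp ha, MonObj.one_comp]
  have hpow : ∀ j : ℕ, (b ≫ F.map (𝟙 Y ^ j)).left ≫ π = (b.left ≫ π) ≫ (𝟙 Y ^ j : Y ⟶ Y).left ∧
      b ^ j = b ≫ F.map (𝟙 Y ^ j) := by
    intro j
    refine ⟨?_, ?_⟩
    · rw [Over.comp_left, Category.assoc, Category.assoc]
      congr 1
      exact pullback.lift_fst _ _ _
    · have h : F.map (𝟙 Y ^ j) = (𝟙 Y' : Y' ⟶ Y') ^ j := by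
        refine (map_pow (Functor.homMonoidHom (X := Y) (M := Y) F) (𝟙 Y) j).trans ?_
        congr 1
        exact F.map_id Y
      rw [h, MonObj.comp_pow, Category.comp_id]
  have h1 := (hpow (l ^ m)).1
  rw [← (hpow _).2, hb, (hpow 0).2, (hpow 0).1] at h1
  let c := (b.left ≫ π) ≫ i.left
  have hci : ∀ j : ℕ, (𝟙 Y ^ j : Y ⟶ Y).left ≫ i.left = i.left ≫ (𝟙 X ^ j : X ⟶ X).left := fun j => by
    rw [← Over.comp_left, ← Over.comp_left, MonObj.pow_comp, MonObj.comp_pow, Category.id_comp, Category.comp_id]
  have h2 : c ≫ (𝟙 X ^ 0 : X ⟶ X).left = c ≫ (𝟙 X ^ (l ^ m) : X ⟶ X).left := by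
    simp only [c, Category.assoc]
    rw [← hci, ← hci]
    simpa only [Category.assoc] using congrArg (· ≫ i.left) h1
  have h0 : (c ≫ X.hom) ≫ η[X].left = c ≫ (𝟙 X ^ (l ^ m) : X ⟶ X).left := by
    rw [← h2, pow_zero, Hom.one_def, Category.assoc]
    rfl
  have h3 := torsion_mem_sepPts X (l ^ m) (by rw [Nat.cast_pow]; exact pow_ne_zero _ hlk)
    (Limits.pullback.lift (c ≫ X.hom) c h0 q)
  rw [← Scheme.Hom.comp_apply, pullback.lift_snd] at h3
  show (r.left ≫ π) (a.left q) ∈ S8186.sepPts Y.hom
  rw [← Over.w i]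
  exact (S8186.mem_sepPts_iff i.left X.hom _).mpr h3

/-- Let X be an abelian variety over an arbitrary field k (a proper, geometrically integral k-group
scheme), let i : Y → X be a closed subgroup scheme (a homomorphism of k-group schemes which is a
closed immersion) whose underlying space is connected, and let j : Y_red → Y be the reduced closed
subscheme with the same underlying space (a closed immersion from a reduced scheme which is
surjective). Then Y_red is geometrically integral over k, and there is a k-group scheme structure on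
Y_red for which j is a homomorphism: Y_red is an abelian subvariety of X. (For a closed subgroup
scheme which is not connected the reduced subscheme need not be geometrically reduced; the statement
concerns the identity component.) -/
theorem result (k : Type u) [Field k]
    (X : Over (Spec (CommRingCat.of k))) [GrpObj X] [IsProper X.hom] [GeometricallyIntegral X.hom]
    (Y : Over (Spec (CommRingCat.of k))) [GrpObj Y] (i : Y ⟶ X) [IsMonHom i] [IsClosedImmersion i.left]
    [ConnectedSpace ↥Y.left]
    (Yr : Scheme.{u}) (j : Yr ⟶ Y.left) [IsClosedImmersion j] [Surjective j] [IsReduced Yr] :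
    GeometricallyIntegral (j ≫ Y.hom) ∧
      ∃ _ : GrpObj (Over.mk (j ≫ Y.hom)), IsMonHom (Over.homMk j rfl : Over.mk (j ≫ Y.hom) ⟶ Y) := by
  open Groth.Agent in
  haveI hY : IsProper Y.hom := by rw [← Over.w i]; infer_instance
  let Yo : Over (Spec (CommRingCat.of k)) := Over.mk (j ≫ Y.hom)
  let jo : Yo ⟶ Y := Over.homMk j rfl
  haveI : IsClosedImmersion jo.left := ‹IsClosedImmersion j›
  haveI : IsReduced Yo.left := ‹IsReduced Yr›
  have hinj : Function.Bijective j := ⟨j.isClosedEmbedding.injective, j.surjective⟩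
  have hhom : IsHomeomorph j :=
    isHomeomorph_iff_isEmbedding_surjective.mpr ⟨j.isClosedEmbedding.toIsEmbedding, j.surjective⟩
  haveI hGR : GeometricallyReduced (j ≫ Y.hom) := by
    refine S8186.geometricallyReduced_of_dense _ ?_
    have h := (dense_sepPts_subgroup X Y i).preimage hhom.isOpenMap
    exact h.mono fun y hy => (S8186.mem_sepPts_iff j Y.hom y).mpr hy
  haveI : GeometricallyIrreducible Y.hom :=
    haveI := AbVarLib.Basics.irreducibleSpace_of_connectedSpace Y
    GrpScheme.Component.geometricallyIrreducible_of_irreducibleSpace Y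
  haveI hGI : GeometricallyIrreducible (j ≫ Y.hom) := by
    refine ⟨geometrically_iff_of_isClosedUnderIsomorphisms.mpr fun L _ y => ?_⟩
    haveI : IrreducibleSpace ↥(Limits.pullback Y.hom y) :=
      pullback_of_geometrically GeometricallyIrreducible.geometrically_irreducibleSpace _ _
    let p : Limits.pullback (j ≫ Y.hom) y ⟶ Limits.pullback Y.hom y :=
      Limits.pullback.map _ _ _ _ j (𝟙 _) (𝟙 _) (Category.comp_id _) (by simp)
    have e : p ≫ Limits.pullback.snd Y.hom y = Limits.pullback.snd (j ≫ Y.hom) y :=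
      (Limits.pullback.lift_snd _ _ _).trans (Category.comp_id _)
    have s0 : IsPullback (Limits.pullback.fst (j ≫ Y.hom) y) (p ≫ Limits.pullback.snd Y.hom y) (j ≫ Y.hom) y := by
      rw [e]; exact IsPullback.of_hasPullback _ _
    have hp : IsPullback p (Limits.pullback.fst _ _) (Limits.pullback.fst _ _) j :=
      (IsPullback.of_bot s0 (Limits.pullback.lift_fst _ _ _).symm (IsPullback.of_hasPullback Y.hom y)).flip
    haveI : IsClosedImmersion p := MorphismProperty.of_isPullback hp.flip ‹IsClosedImmersion j›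
    haveI : Surjective p := MorphismProperty.of_isPullback hp.flip ‹Surjective j›
    exact (isHomeomorph_iff_isEmbedding_surjective.mpr
      ⟨p.isClosedEmbedding.toIsEmbedding, p.surjective⟩).homeomorph.irreducibleSpace_iff.mpr inferInstance
  exact ⟨GeometricallyIntegral.of_geometricallyReduced_of_geometricallyIrreducible _,
    exists_grpObj_red Y Yr j⟩

end Groth.Agent.S16679
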