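import Groth.Statements.S16682
import Groth.Agent.Cube.SeesawAlg
-- import your own Groth.Agent.* helpers here

set_option autoImplicit false
universe u
open CategoryTheory CategoryTheory.Limits MonoidalCategory CartesianMonoidalCategory AlgebraicGeometry
open AbVar

namespace Groth.Agent.S16682

/-- Let k be a field, X a proper geometrically integral k-scheme (a complete variety), Y a variety over
k (separated, of finite type, geometrically integral), and L, M two invertible modules on X ×_k Y
(the product in the category of k-schemes). If for every closed point y of Y the restrictions of L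
and M to the fibre X ×_k Spec k(y) are isomorphic, then there is an invertible O_Y-module N with L
isomorphic to M ⊗ p^*N, where p : X ×_k Y → Y is the second projection (existence of an isomorphism;
N is determined only up to isomorphism). -/
theorem result (k : Type u) [Field k]
    (X Y : Over (Spec (CommRingCat.of k)))
    [IsProper X.hom] [GeometricallyIntegral X.hom]
    [IsSeparated Y.hom] [QuasiCompact Y.hom] [LocallyOfFiniteType Y.hom] [GeometricallyIntegral Y.hom]
    (L M : (X ⊗ Y).left.Modules) (hL : PicF.IsInvertible L) (hM : PicF.IsInvertible M)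
    (h : ∀ y : ↥Y.left, IsClosed ({y} : Set ↥Y.left) →
      Nonempty ((Scheme.Modules.pullback (pullback.fst (snd X Y).left (Y.left.fromSpecResidueField y))).obj L ≅
        (Scheme.Modules.pullback (pullback.fst (snd X Y).left (Y.left.fromSpecResidueField y))).obj M)) :
    ∃ N : Y.left.Modules, PicF.IsInvertible N ∧
      Nonempty (L ≅ CohB1.tensorMod M ((Scheme.Modules.pullback (snd X Y).left).obj N)) := by
  open Groth.Agent in
  open scoped Groth.Agent.PicLaw in
  let π := (snd X Y).left
  have : IsProper π := show IsProper (pullback.snd X.hom Y.hom) from inferInstance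
  have : GeometricallyIntegral π := show GeometricallyIntegral (pullback.snd X.hom Y.hom) from inferInstance
  have : Flat π := show Flat (pullback.snd X.hom Y.hom) from inferInstance
  have : GeometricallyConnected π := ⟨fun {K} _ y T fst snd h =>
    have : IrreducibleSpace ↥T := (inferInstance : GeometricallyIrreducible π).geometrically_irreducibleSpace y fst snd h
    (inferInstance : ConnectedSpace ↥T)⟩
  have : IsLocallyNoetherian Y.left := LocallyOfFiniteType.isLocallyNoetherian Y.hom
  have : IsIntegral Y.left := GeometricallyIntegral.isIntegral_of_subsingleton Y.hom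
  have : JacobsonSpace ↥Y.left := LocallyOfFiniteType.jacobsonSpace Y.hom
  obtain ⟨L', hL', hc⟩ := PicGrp.exists_eq_cls (PicGrp.cls L hL * (PicGrp.cls M hM)⁻¹)
  let S : Set Y.left := {z | Nonempty (CohIII.fiberMod π L' z ≅ Coh.structureModule (π.fiber z))}
  have hclosed : ∀ y, IsClosed ({y} : Set Y.left) → y ∈ S := fun y hy => by
    refine (PicGrp.cls_eq_one_iff (PicLoc.isInvertible_pullback (π.fiberι y) hL')).mp ?_
    have h1 := (PicLaw.iso_iff (PicLoc.isInvertible_pullback _ hL) (PicLoc.isInvertible_pullback _ hM)).mp (h y hy)
    rw [PicLaw.cls_pullback _ hL, PicLaw.cls_pullback _ hM] at h1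
    rw [PicLaw.cls_pullback _ hL', ← hc, map_mul, map_inv]
    exact mul_inv_eq_one.mpr h1
  have hall : ∀ z, z ∈ S := by
    intro z
    by_contra hz
    have hS : IsClosed S := Cube.Seesaw.isClosed_trivial π hL' fun z => inferInstance
    obtain ⟨w, hw, hwc⟩ := nonempty_inter_closedPoints (Z := Sᶜ) ⟨z, hz⟩ hS.isOpen_compl.isLocallyClosed
    exact hw (hclosed w hwc)
  obtain ⟨N, hN, e⟩ := (Cube.Seesaw.pullback_iff_fibres π
    (Cube.Seesaw.finrank_eq_one_of_geometrically π) hL').mpr hall
  refine ⟨N, hN, (PicLaw.iso_iff hL (PicLaw.isInvertible_tensor hM (PicLoc.isInvertible_pullback π hN))).mpr ?_⟩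
  have h2 := (PicLaw.iso_iff (PicLoc.isInvertible_pullback π hN) hL').mp e
  rw [PicLaw.cls_tensor hM (PicLoc.isInvertible_pullback π hN), h2, ← hc, mul_comm, inv_mul_cancel_right]

end Groth.Agent.S16682
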