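import Groth.Statements.S16685
import Groth.Agent.FiniteGrp.Local
import Groth.Agent.FiniteGrp.Monomials
import Groth.Agent.S7964

set_option autoImplicit false
universe u
open HopfRep

namespace Groth.Agent.S16685

open Groth.Agent.FiniteGrp in
/-- truncated polynomial algebra from a system of coordinates with dual derivations -/
theorem truncated_equiv {k Q : Type u} [Field k] [CommRing Q] [Algebra k Q] [IsLocalRing Q]
    (p : ℕ) [Fact p.Prime] [CharP k p] {d : ℕ} (x : Fin d → Q) (D : Fin d → Derivation k Q Q)
    (hnil : IsNilpotent (IsLocalRing.maximalIdeal Q)) (hx : ∀ i, x i ∈ IsLocalRing.maximalIdeal Q)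
    (hgen : IsLocalRing.maximalIdeal Q ≤ Ideal.span (Set.range x))
    (hconst : ∀ a : Q, ∃ c : k, a - algebraMap k _ c ∈ IsLocalRing.maximalIdeal Q)
    (hD : ∀ i j, D i (x j) - (if i = j then 1 else 0) ∈ IsLocalRing.maximalIdeal Q)
    (hxp : ∀ i, x i ^ p = 0) :
    Nonempty (Q ≃ₐ[k] (MvPolynomial (Fin d) k ⧸
      Ideal.span (Set.range fun i : Fin d => (MvPolynomial.X i : MvPolynomial (Fin d) k) ^ p))) := by
  classical
  set R := Ideal.span (Set.range fun i : Fin d => (MvPolynomial.X i : MvPolynomial (Fin d) k) ^ p)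
  let φ : (MvPolynomial (Fin d) k ⧸ R) →ₐ[k] Q := Ideal.Quotient.liftₐ R (MvPolynomial.aeval x)
    (fun a ha => by
      have : R ≤ RingHom.ker (MvPolynomial.aeval x : MvPolynomial (Fin d) k →ₐ[k] Q) := by
        rw [Ideal.span_le]
        rintro _ ⟨i, rfl⟩
        simp [hxp]
      exact this ha)
  let X' : Fin d → MvPolynomial (Fin d) k ⧸ R := fun i => Ideal.Quotient.mk R (MvPolynomial.X i)
  have hφX : ∀ i, φ (X' i) = x i := fun i => by
    show MvPolynomial.aeval x (MvPolynomial.X i) = x i
    simp
  have hp0 : 0 < p := (Fact.out : p.Prime).pos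
  have hXp : ∀ i, X' i ^ p = 0 := fun i => by
    rw [← map_pow, Ideal.Quotient.eq_zero_iff_mem]
    exact Ideal.subset_span ⟨i, rfl⟩
  have hnilX : IsNilpotent (Ideal.span (Set.range X')) := by
    obtain ⟨n, hn⟩ := Ideal.exists_pow_le_of_le_radical_of_fg
      (I := Ideal.span (Set.range X')) (J := ⊥)
      (fun z hz => by
        refine Ideal.span_le.mpr ?_ hz
        rintro _ ⟨i, rfl⟩
        exact ⟨p, by simp [hXp]⟩)
      ⟨(Finset.univ.image X'), by simp⟩
    exact ⟨n, le_bot_iff.mp hn⟩
  have hspan := Monomials.span_mon_eq_top (⊥ : Subalgebra k (MvPolynomial (Fin d) k ⧸ R))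
    (Ideal.span (Set.range X')) hp0 X' hnilX (fun i => Ideal.subset_span ⟨i, rfl⟩) le_rfl
    (fun a => by
      obtain ⟨f, rfl⟩ := Ideal.Quotient.mk_surjective a
      induction f using MvPolynomial.induction_on with
      | C c => exact ⟨c, by rw [show Ideal.Quotient.mk R (MvPolynomial.C c) = algebraMap k _ c from rfl, sub_self]; exact zero_mem _⟩
      | add f g hf hg =>
        obtain ⟨a, ha⟩ := hf
        obtain ⟨b, hb⟩ := hg
        refine ⟨a + b, ?_⟩
        have := add_mem ha hb
        convert this using 1
        simp only [map_add]; ring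
      | mul_X f i _ =>
        exact ⟨0, by
          rw [map_zero, sub_zero, map_mul]
          exact Ideal.mul_mem_left _ _ (Ideal.subset_span ⟨i, rfl⟩)⟩)
    (fun i => by rw [hXp]; exact zero_mem _)
  have hspanQ := Monomials.span_mon_eq_top (⊥ : Subalgebra k Q) (IsLocalRing.maximalIdeal Q)
    hp0 x hnil hx hgen hconst (fun i => by rw [hxp]; exact zero_mem _)
  have hmon : ∀ α : Fin d → Fin p, φ (Monomials.mon X' α) = Monomials.mon x α := fun α => by
    simp [Monomials.mon, map_prod, hφX]
  refine ⟨(AlgEquiv.ofBijective φ ⟨?_, ?_⟩).symm⟩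
  · rw [injective_iff_map_eq_zero]
    intro z hz
    obtain ⟨c, rfl⟩ := (Submodule.mem_span_range_iff_exists_fun _).mp
      (hspan.symm ▸ Submodule.mem_top : z ∈ Submodule.span (⊥ : Subalgebra k _)
        (Set.range fun α : Fin d → Fin p => Monomials.mon X' α))
    have hc : ∀ α, ∃ r : k, algebraMap k _ r = (c α : MvPolynomial (Fin d) k ⧸ R) :=
      fun α => Algebra.mem_bot.mp (c α).2
    choose r hr using hc
    simp only [Subalgebra.smul_def, smul_eq_mul, ← hr, map_sum, map_mul, AlgHom.commutes, hmon] at hz
    have h0 := Monomials.eq_zero_of_sum_eq_zero x D hx hD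
      (fun n hn hn' hmem => by
        have hnk : (n : k) ≠ 0 := fun h =>
          absurd (Nat.le_of_dvd hn ((CharP.cast_eq_zero_iff k p n).mp h)) (by omega)
        have : IsUnit (n : Q) := by simpa using (Ne.isUnit hnk).map (algebraMap k Q)
        exact hmem this)
      (fun α => algebraMap k Q (r α)) (fun i α => by simp) hz
    simp only [Subalgebra.smul_def, smul_eq_mul, ← hr]
    refine Finset.sum_eq_zero fun α _ => ?_
    have : r α = 0 := (map_eq_zero (algebraMap k Q)).mp (congrFun h0 α)
    simp [this]
  · intro q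
    obtain ⟨c, rfl⟩ := (Submodule.mem_span_range_iff_exists_fun _).mp
      (hspanQ.symm ▸ Submodule.mem_top : q ∈ Submodule.span (⊥ : Subalgebra k _)
        (Set.range fun α : Fin d → Fin p => Monomials.mon x α))
    have hc : ∀ α, ∃ r : k, algebraMap k _ r = (c α : Q) := fun α => Algebra.mem_bot.mp (c α).2
    choose r hr using hc
    refine ⟨∑ α, algebraMap k _ (r α) * Monomials.mon X' α, ?_⟩
    simp [map_sum, hmon, Subalgebra.smul_def, hr]

/-- The description of the kernel of Frobenius established in the course of the proof. Let k be a field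
of characteristic p > 0 and A a finite-dimensional commutative Hopf algebra over k which is a local
ring, the coordinate ring of a connected finite k-group scheme G; let I be the augmentation ideal
(the kernel of the counit), d = dim_k I/I² the dimension of the tangent space at the identity, and J
⊆ A the ideal generated by the p-th powers of the elements of I, so that A/J is the coordinate ring
of the kernel G[F] of the relative Frobenius. Then A/J is isomorphic as a k-algebra to k[X_1, …,
X_d]/(X_1^p, …, X_d^p) (existence of an isomorphism; it depends on the choice of elements of I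
lifting a basis of I/I²); in particular G[F] has rank p^d. -/
theorem result (k : Type u) [Field k] (p : ℕ) [Fact p.Prime] [CharP k p]
    (A : Type u) [CommRing A] [HopfAlgebra k A] [FiniteDimensional k A] [IsLocalRing A]
    (d : ℕ) (hd : Module.finrank k (RingHom.ker (Bialgebra.counitAlgHom k A).toRingHom).Cotangent = d) :
    Nonempty ((A ⧸ Ideal.span ((fun a : A => a ^ p) '' (RingHom.ker (Bialgebra.counitAlgHom k A).toRingHom : Set A))) ≃ₐ[k]
      (MvPolynomial (Fin d) k ⧸ Ideal.span (Set.range fun i : Fin d => (MvPolynomial.X i : MvPolynomial (Fin d) k) ^ p))) := by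
  classical
  set ε := Bialgebra.counitAlgHom k A
  set I : Ideal A := RingHom.ker ε
  set J : Ideal A := Ideal.span ((fun a : A => a ^ p) '' (I : Set A))
  haveI : IsNoetherianRing A := IsNoetherianRing.of_finite k A
  haveI hI : I.IsMaximal := RingHom.ker_isMaximal_of_surjective _ fun c => ⟨algebraMap k A c, by simp [ε]⟩
  have hImax : I = IsLocalRing.maximalIdeal A := IsLocalRing.eq_maximalIdeal hI
  have hp : p.Prime := Fact.out
  have hJI : ∀ n ≤ 2, J ≤ I ^ n := by
    intro n hn
    rw [Ideal.span_le]
    rintro _ ⟨a, ha, rfl⟩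
    exact Ideal.pow_le_pow_right (hn.trans hp.two_le) (Ideal.pow_mem_pow ha p)
  have hJε : ∀ a ∈ J, ε a = 0 := fun a ha => by
    simpa [I, RingHom.mem_ker] using hJI 1 one_le_two ha
  obtain ⟨hl, d', x, D, hnil, hxM, hgen, hconst, hD⟩ :=
    Groth.Agent.FiniteGrp.Local.exists_system (k := k) J hJε
      (fun a ha => by
        refine IsUnit.map (Ideal.Quotient.mk J) ?_
        by_contra h
        exact ha (RingHom.mem_ker.mp (hImax ▸ h : a ∈ I)))
      (fun ξ hξ _ a ha => by
        have hkey : ∀ a ∈ J, Groth.Agent.FiniteGrp.Deriv.deriv ξ hξ a ∈ J := by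
          intro a ha
          induction ha using Submodule.span_induction with
          | mem y hy =>
            obtain ⟨b, hb, rfl⟩ := hy
            have hp0 : ((p : ℕ) : A) = 0 := by
              rw [← map_natCast (algebraMap k A), CharP.cast_eq_zero, map_zero]
            simp [Derivation.leibniz_pow, nsmul_eq_mul, hp0]
          | zero => simp
          | add y z _ _ hy hz => rw [map_add]; exact add_mem hy hz
          | smul c y hy' hy =>
            rw [smul_eq_mul, Derivation.leibniz, smul_eq_mul, smul_eq_mul]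
            exact add_mem (Ideal.mul_mem_left _ _ hy) (Ideal.mul_mem_right _ _ hy')
        exact hkey a ha)
  let εQ : A ⧸ J →ₐ[k] k := Ideal.Quotient.liftₐ J ε hJε
  have hMQ : RingHom.ker εQ = IsLocalRing.maximalIdeal (A ⧸ J) :=
    IsLocalRing.eq_maximalIdeal
      (RingHom.ker_isMaximal_of_surjective _ fun c => ⟨algebraMap k _ c, by simp⟩)
  have hxp : ∀ i, x i ^ p = 0 := by
    intro i
    obtain ⟨a, ha⟩ := Ideal.Quotient.mk_surjective (x i)
    have hx0 : x i ∈ RingHom.ker εQ := hMQ ▸ hxM i
    rw [← ha] at hx0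
    rw [← ha, ← map_pow, Ideal.Quotient.eq_zero_iff_mem]
    exact Ideal.subset_span ⟨a, hx0, rfl⟩
  have hq : ∀ n ≤ 2, Module.finrank k ((A ⧸ J) ⧸ RingHom.ker εQ ^ n) =
      Module.finrank k (A ⧸ I ^ n) := by
    intro n hn
    have hker : RingHom.ker εQ = I.map (Ideal.Quotient.mkₐ k J) := by
      ext y
      obtain ⟨b, rfl⟩ := Ideal.Quotient.mk_surjective y
      constructor
      · exact fun hb => Ideal.mem_map_of_mem _ hb
      · intro hb
        obtain ⟨c, hc, hcb⟩ :=
          (Ideal.mem_map_iff_of_surjective _ (Ideal.Quotient.mkₐ_surjective k J)).mp hb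
        rw [← hcb]
        exact hc
    exact (((Ideal.quotientEquivAlgOfEq k (by rw [hker, Ideal.map_pow])).trans
      (DoubleQuot.quotQuotEquivQuotSupₐ k J (I ^ n))).trans
      (Ideal.quotientEquivAlgOfEq k (sup_eq_right.mpr (hJI n hn)))).toLinearEquiv.finrank_eq
  have h1 : Module.finrank k (A ⧸ I ^ (1 + 1)) =
      Module.finrank k (A ⧸ I ^ 1) + Nat.choose (Module.finrank k I.Cotangent + 1 - 1) 1 :=
    Groth.Agent.S7964.result k A 1 (by simp)
  have h2 := Groth.Agent.S7964.finrank_succ εQ x D (fun i => hMQ ▸ hxM i)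
    (hMQ ▸ hgen.trans le_sup_left) (fun i j => hMQ ▸ hD i j) 1 (by simp)
  rw [hq (1 + 1) le_rfl, hq 1 one_le_two, Nat.choose_one_right] at h2
  rw [Nat.choose_one_right] at h1
  have hd' : d' = d := by
    have : Module.finrank k I.Cotangent = d := hd
    omega
  subst hd'
  have hfin := truncated_equiv p x D hnil hxM hgen hconst hD hxp
  exact hfin

end Groth.Agent.S16685
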