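import Groth.Statements.S16687
import Groth.Agent.AbVarLib.Defect
import Groth.Agent.AbVarLib.Basics
import Groth.Agent.AbDualLib.Rigid
import Groth.Agent.GrpScheme.AVPow
import Groth.Agent.GrpScheme.PowPullback
-- import your own Groth.Agent.* helpers here

set_option autoImplicit false
universe u
open CategoryTheory CategoryTheory.Limits MonoidalCategory CartesianMonoidalCategory MonObj GrpObj AlgebraicGeometry
open AbVar

namespace Groth.Agent.S16687

/-- Let X be an abelian variety over a field k (a proper, geometrically integral k-group scheme) with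
group law m : X ×_k X → X and projections p₁, p₂, let L be an invertible O_X-module, and let n ≥ 2
be an integer such that n^*L ≅ L^{⊗ n}, where n : X → X is multiplication by n (the n-th power of
the identity in the group of endomorphisms). Then the class of L lies in Pic⁰_{X/k}, i.e. the
Mumford module of L is trivial: m^*L ≅ p₁^*L ⊗ p₂^*L (existence of an isomorphism of modules on X
×_k X). (The published statement allows any integer n other than 0 and 1, negative n included; this
row takes n a natural number with n ≥ 2. The converse implication also holds; this row is the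
direction from one such n.) -/
theorem result (k : Type u) [Field k]
    (X : Over (Spec (CommRingCat.of k))) [GrpObj X] [IsProper X.hom] [GeometricallyIntegral X.hom]
    (L : X.left.Modules) (hL : PicF.IsInvertible L) (n : ℕ) (hn : 2 ≤ n)
    (h : Nonempty ((Scheme.Modules.pullback (𝟙 X ^ n).left).obj L ≅ CohB1.tensorPow L n)) :
    Nonempty ((Scheme.Modules.pullback μ[X].left).obj L ≅
      CohB1.tensorMod ((Scheme.Modules.pullback (fst X X).left).obj L)
        ((Scheme.Modules.pullback (snd X X).left).obj L)) := by
  open Groth.Agent in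
  open scoped Groth.Agent.PicLaw in
  exact (by
    have := GrpScheme.AVComm.isCommMonObj X
    have := AbVarLib.Basics.smooth X
    have := FBase.BC.geometricallyConnected_of_geometricallyIrreducible X.hom
    have : IsIntegral X.left := GeometricallyIntegral.isIntegral_of_subsingleton X.hom
    have : IsLocallyNoetherian X.left := LocallyOfFiniteType.isLocallyNoetherian X.hom
    set l := PicGrp.cls L hL with hl
    obtain ⟨hPi, hP⟩ := GrpScheme.PowPullback.cls_tensorPow hL n
    have hpow : PicLaw.Mumford.op (𝟙 X ^ n) l = l ^ n := by
      rw [hl, PicLaw.Mumford.op, ← PicLaw.cls_pullback _ hL, ← hP, PicGrp.cls_eq_cls_iff]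
      exact h
    let D := AbVarLib.Defect.pair l (fst X X) (snd X X)
    have hD : ∀ {V : Over (Spec (CommRingCat.of k))} (x : V ⟶ X), PicLaw.Mumford.op (x ^ n) l = PicLaw.Mumford.op x l ^ n := fun x => by
      rw [← map_pow, ← hpow, ← PicLaw.Mumford.op_comp, MonObj.comp_pow, Category.comp_id]
    have h1 : D ^ (n * n - n) = 1 := by
      have e1 : AbVarLib.Defect.pair l (fst X X ^ n) (snd X X ^ n) = D ^ (n * n) := by
        rw [AbVarLib.Defect.pair_pow_left, AbVarLib.Defect.pair_pow_right, ← pow_mul]
      have e2 : AbVarLib.Defect.pair l (fst X X ^ n) (snd X X ^ n) = D ^ n := by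
        rw [AbVarLib.Defect.pair, ← mul_pow (fst X X), hD, hD, hD, ← mul_pow, ← div_pow]
        rfl
      have e : D ^ (n * n - n) * D ^ n = 1 * D ^ n := by
        rw [← pow_add, Nat.sub_add_cancel (Nat.le_mul_self n), _root_.one_mul, ← e1, e2]
      exact mul_right_cancel e
    obtain ⟨hfin, hsurj⟩ := GrpScheme.AVPow.isFinite_surjective_pow X (n := n * n - n) (by
      have : n < n * n := by nlinarith
      omega)
    set N := n * n - n with hN
    have : IsMonHom (𝟙 X ^ N) :=
      { one_hom := by rw [MonObj.comp_pow, Category.comp_id, MonObj.one_eq_one, one_pow]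
        mul_hom := by
          rw [MonObj.comp_pow, Category.comp_id, MonObj.mul_eq_mul, MonObj.comp_mul,
            tensorHom_fst, tensorHom_snd, MonObj.comp_pow, MonObj.comp_pow, Category.comp_id, Category.comp_id,
            mul_pow] }
    have : Flat (𝟙 X ^ N).left := GrpScheme.HomFlat.flat_of_surjective (𝟙 X ^ N)
    have hrig : PicLaw.Mumford.op (AbDualLib.Rigid.sec X X) D = 1 := by
      rw [AbVarLib.Defect.op_pair, lift_fst, lift_snd, AbVarLib.Defect.pair_comm, AbVarLib.Defect.pair_one_right]
    have hD1 : D = 1 := by
      refine AbDualLib.Rigid.eq_one_of_fppf_local D hrig (Scheme.Hom.singleton_mem_fppfPrecoverage (𝟙 X ^ N).left)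
        fun U u hu => ?_
      cases hu
      let e : AbDual.ovr X (𝟙 X ^ N).left ⟶ X := Over.homMk (𝟙 _) ((Category.id_comp _).trans (Over.w (𝟙 X ^ N)).symm)
      rw [show AbDual.ovrHom X (𝟙 X ^ N).left = e ≫ (𝟙 X ^ N) from Over.OverMorphism.ext (Category.id_comp _).symm,
        MonoidalCategory.whiskerLeft_comp, PicLaw.Mumford.op_comp, AbVarLib.Defect.op_pair, whiskerLeft_fst,
        whiskerLeft_snd, MonObj.comp_pow, Category.comp_id, AbVarLib.Defect.pair_pow_right, h1, map_one]
    have e := div_eq_one.mp hD1
    have hμ : μ[X] = fst X X * snd X X := by rw [Hom.mul_def, lift_fst_snd, Category.id_comp]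
    have hf := PicLoc.isInvertible_pullback (fst X X).left hL
    have hs := PicLoc.isInvertible_pullback (snd X X).left hL
    rw [PicLaw.iso_iff (PicLoc.isInvertible_pullback _ hL) (PicLaw.isInvertible_tensor hf hs),
      PicLaw.cls_tensor hf hs, PicLaw.cls_pullback _ hL, PicLaw.cls_pullback _ hL, PicLaw.cls_pullback _ hL, hμ]
    exact e)

end Groth.Agent.S16687
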