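import Groth.Statements.S16688
import Groth.Agent.ComodLR84
open scoped TensorProduct
-- import your own Groth.Agent.* helpers here

set_option autoImplicit false
universe u v w
open ComodSub

namespace Groth.Agent.S16688

/-- Let `k` be a commutative ring, `A` a commutative Hopf algebra over `k` with antipode `S`, and `M` a
`k`-module with a left `A`-comodule structure `m ↦ Σ m₋₁ ⊗ m₀`. Then the map `M → M ⊗ A`, `m ↦ Σ m₀
⊗ S(m₋₁)`, is coassociative and counital: it is the coaction of a right `A`-comodule structure on
`M` (a right structure is determined by its coaction, so this structure is unique). -/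
theorem result (k : Type u) [CommRing k]
    (A : Type v) [CommRing A] [HopfAlgebra k A]
    (M : Type w) [AddCommGroup M] [Module k M] (l : ComodSub.LComod k A M) :
    ∃ c : HopfRep.Comod k A M, c.coact = ComodSub.rcoactOfLeft l := by
  let S := HopfAlgebra.antipode k (A := A)
  let Φ : A ⊗[k] (A ⊗[k] M) →ₗ[k] M ⊗[k] (A ⊗[k] A) :=
    (TensorProduct.assoc k M A A).toLinearMap ∘ₗ
      ((TensorProduct.comm k A M).toLinearMap ∘ₗ S.rTensor M).rTensor A ∘ₗ
      (TensorProduct.comm k A (A ⊗[k] M)).toLinearMap ∘ₗ S.rTensor (A ⊗[k] M)
  have h1 : ∀ t : A ⊗[k] M, TensorProduct.assoc k M A A ((ComodSub.rcoactOfLeft l).rTensor A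
      (TensorProduct.comm k A M (S.rTensor M t))) = Φ (l.coact.lTensor A t) := by
    intro t
    induction t with
    | zero => simp
    | tmul a v => simp [Φ, ComodSub.rcoactOfLeft, S]
    | add a b ha hb => simp only [map_add, ha, hb]
  have h2 : ∀ t : A ⊗[k] M, (CoalgebraStruct.comul (R := k) (A := A)).lTensor M
      (TensorProduct.comm k A M (S.rTensor M t)) =
      Φ (TensorProduct.assoc k A A M ((CoalgebraStruct.comul (R := k) (A := A)).rTensor M t)) := by
    intro t
    induction t with
    | zero => simp
    | add a b ha hb => simp only [map_add, ha, hb]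
    | tmul a v =>
      simp only [LinearMap.rTensor_tmul, TensorProduct.comm_tmul, LinearMap.lTensor_tmul, S,
        Groth.Agent.Comod.comul_antipode]
      generalize CoalgebraStruct.comul (R := k) a = d
      induction d with
      | zero => simp
      | add x y hx hy => simp only [map_add, TensorProduct.tmul_add, TensorProduct.add_tmul, hx, hy]
      | tmul x y => simp [Φ, S]
  refine ⟨{ coact := ComodSub.rcoactOfLeft l, coassoc := ?_, counit_comp := ?_ }, rfl⟩
  · refine LinearMap.ext fun m => ?_
    have h := LinearMap.congr_fun l.coassoc m
    simp only [LinearMap.coe_comp, Function.comp_apply, LinearEquiv.coe_coe] at h ⊢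
    rw [ComodSub.rcoactOfLeft_apply, h1, h2, h]
  · refine LinearMap.ext fun m => ?_
    have h := LinearMap.congr_fun l.counit_comp m
    have h3 : ∀ t : A ⊗[k] M, (CoalgebraStruct.counit (R := k) (A := A)).lTensor M
        (TensorProduct.comm k A M (S.rTensor M t)) = TensorProduct.comm k k M
          ((CoalgebraStruct.counit (R := k) (A := A)).rTensor M t) := by
      intro t
      induction t with
      | zero => simp
      | tmul a v => simp [S]
      | add a b ha hb => simp only [map_add, ha, hb]
    simp only [LinearMap.coe_comp, Function.comp_apply] at h ⊢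
    rw [ComodSub.rcoactOfLeft_apply, h3, h]
    simp

end Groth.Agent.S16688
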