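import Groth.Statements.S16689
import Groth.Agent.ComodLR84
open scoped TensorProduct
-- import your own Groth.Agent.* helpers here

set_option autoImplicit false
universe u v w
open ComodSub

namespace Groth.Agent.S16689

/-- Let `k` be a commutative ring, `A` a commutative Hopf algebra over `k` with antipode `S`, and `M` a
`k`-module with a right `A`-comodule structure `m ↦ Σ m₀ ⊗ m₁`. Then the map `M → A ⊗ M`, `m ↦ Σ
S(m₁) ⊗ m₀`, is coassociative and counital: it is the coaction of a left `A`-comodule structure on
`M` (a left structure is determined by its coaction, so this structure is unique). -/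
theorem result (k : Type u) [CommRing k]
    (A : Type v) [CommRing A] [HopfAlgebra k A]
    (M : Type w) [AddCommGroup M] [Module k M] (c : HopfRep.Comod k A M) :
    ∃ l : ComodSub.LComod k A M, l.coact = ComodSub.lcoactOfRight c := by
  let S := HopfAlgebra.antipode k (A := A)
  let Φ : M ⊗[k] (A ⊗[k] A) →ₗ[k] A ⊗[k] (A ⊗[k] M) :=
    ((TensorProduct.comm k M A).toLinearMap ∘ₗ S.lTensor M).lTensor A ∘ₗ
      S.rTensor (M ⊗[k] A) ∘ₗ (TensorProduct.comm k (M ⊗[k] A) A).toLinearMap ∘ₗ
      (TensorProduct.assoc k M A A).symm.toLinearMap
  have h1 : ∀ t : M ⊗[k] A, (ComodSub.lcoactOfRight c).lTensor A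
      (TensorProduct.comm k M A (S.lTensor M t)) =
      Φ (TensorProduct.assoc k M A A (c.coact.rTensor A t)) := by
    intro t
    induction t with
    | zero => simp
    | tmul v a => simp [Φ, ComodSub.lcoactOfRight, S]
    | add a b ha hb => simp only [map_add, ha, hb]
  have h2 : ∀ t : M ⊗[k] A, TensorProduct.assoc k A A M
      ((CoalgebraStruct.comul (R := k) (A := A)).rTensor M
        (TensorProduct.comm k M A (S.lTensor M t))) =
      Φ ((CoalgebraStruct.comul (R := k) (A := A)).lTensor M t) := by
    intro t
    induction t with
    | zero => simp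
    | add a b ha hb => simp only [map_add, ha, hb]
    | tmul v a =>
      simp only [LinearMap.rTensor_tmul, TensorProduct.comm_tmul, LinearMap.lTensor_tmul, S,
        Groth.Agent.Comod.comul_antipode]
      generalize CoalgebraStruct.comul (R := k) a = d
      induction d with
      | zero => simp
      | add x y hx hy => simp only [map_add, TensorProduct.tmul_add, TensorProduct.add_tmul, hx, hy]
      | tmul x y => simp [Φ, S]
  refine ⟨{ coact := ComodSub.lcoactOfRight c, coassoc := ?_, counit_comp := ?_ }, rfl⟩
  · refine LinearMap.ext fun m => ?_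
    have h := LinearMap.congr_fun c.coassoc m
    simp only [LinearMap.coe_comp, Function.comp_apply, LinearEquiv.coe_coe] at h ⊢
    rw [ComodSub.lcoactOfRight_apply, h1, h2, h]
  · refine LinearMap.ext fun m => ?_
    have h := LinearMap.congr_fun c.counit_comp m
    have h3 : ∀ t : M ⊗[k] A, (CoalgebraStruct.counit (R := k) (A := A)).rTensor M
        (TensorProduct.comm k M A (S.lTensor M t)) = TensorProduct.comm k M k
          ((CoalgebraStruct.counit (R := k) (A := A)).lTensor M t) := by
      intro t
      induction t with
      | zero => simp
      | tmul v a => simp [S]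
      | add a b ha hb => simp only [map_add, ha, hb]
    simp only [LinearMap.coe_comp, Function.comp_apply] at h ⊢
    rw [ComodSub.lcoactOfRight_apply, h3, h]
    simp

end Groth.Agent.S16689
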