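import Groth.Statements.S16690
import Groth.Agent.ComodLR84
open scoped TensorProduct
-- import your own Groth.Agent.* helpers here

set_option autoImplicit false
universe u v w
open ComodSub

namespace Groth.Agent.S16690

/-- Let `k` be a commutative ring, `A` a `k`-coalgebra that is flat over `k`, and `M` a finitely
presented `k`-module with a right `A`-comodule structure `m ↦ Σ m₀ ⊗ m₁`. Then the dual module `M^*
= Hom(M, k)` carries a left `A`-comodule structure whose coaction sends a form `g` to the element of
`A ⊗ M^*` that reads, through `a ⊗ φ ↦ (m ↦ φ(m) a)`, as the map `m ↦ Σ g(m₀) m₁` (the left dual of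
the given structure). (The published statement takes coalgebras to be commutative algebras whose
comultiplication and counit are algebra maps; the construction uses no multiplication on `A`, so
here `A` is any flat coalgebra.) -/
theorem result (k : Type u) [CommRing k]
    (A : Type v) [AddCommGroup A] [Module k A] [Coalgebra k A] [Module.Flat k A]
    (M : Type w) [AddCommGroup M] [Module k M] [Module.FinitePresentation k M]
    (c : HopfRep.Comod k A M) :
    ∃ l : ComodSub.LComod k A (Module.Dual k M), ComodSub.LComod.IsLDual c l := by
  have hA := Groth.Agent.ComodLR84.dualTensorHom_bijective_of_flat (R := k) (M := M) (A := A)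
  have hAA := Groth.Agent.ComodLR84.dualTensorHom_bijective_of_flat (R := k) (M := M) (A := A ⊗[k] A)
  have hk := Groth.Agent.ComodLR84.dualTensorHom_bijective_of_flat (R := k) (M := M) (A := k)
  let E := LinearEquiv.ofBijective (dualTensorHom k M A) hA
  let F : Module.Dual k M →ₗ[k] (M →ₗ[k] A) :=
    { toFun := fun g => ComodSub.ldualFun c g
      map_add' := fun g g' => by
        ext m
        simp [ComodSub.ldualFun_apply, LinearMap.rTensor_add]
      map_smul' := fun r g => by
        ext m
        simp [ComodSub.ldualFun_apply, LinearMap.rTensor_smul] }
  let co : Module.Dual k M →ₗ[k] A ⊗[k] Module.Dual k M :=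
    (TensorProduct.comm k (Module.Dual k M) A).toLinearMap ∘ₗ E.symm.toLinearMap ∘ₗ F
  have hco : ∀ g, dualTensorHom k M A (TensorProduct.comm k A (Module.Dual k M) (co g)) =
      ComodSub.ldualFun c g := by
    intro g
    show dualTensorHom k M A (TensorProduct.comm k A (Module.Dual k M)
      (TensorProduct.comm k (Module.Dual k M) A (E.symm (F g)))) = _
    rw [← TensorProduct.comm_symm, LinearEquiv.symm_apply_apply]
    exact E.apply_symm_apply (F g)
  refine ⟨{ coact := co, coassoc := ?_, counit_comp := ?_ }, hco⟩
  · refine LinearMap.ext fun g => ?_
    simp only [LinearMap.coe_comp, Function.comp_apply, LinearEquiv.coe_coe]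
    apply (TensorProduct.assoc k A A (Module.Dual k M)).symm.injective
    apply (TensorProduct.comm k (A ⊗[k] A) (Module.Dual k M)).injective
    apply hAA.1
    refine LinearMap.ext fun m => ?_
    rw [LinearEquiv.symm_apply_apply]
    have h1 : ∀ t : A ⊗[k] Module.Dual k M, dualTensorHom k M (A ⊗[k] A)
        (TensorProduct.comm k (A ⊗[k] A) (Module.Dual k M)
          ((CoalgebraStruct.comul (R := k) (A := A)).rTensor _ t)) m =
        CoalgebraStruct.comul (R := k) (A := A)
          (dualTensorHom k M A (TensorProduct.comm k A (Module.Dual k M) t) m) := by
      intro t
      induction t with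
      | zero => simp
      | tmul a φ => simp
      | add a b ha hb => simp only [map_add, ha, hb, LinearMap.add_apply]
    have h2 : ∀ t : A ⊗[k] Module.Dual k M, dualTensorHom k M (A ⊗[k] A)
        (TensorProduct.comm k (A ⊗[k] A) (Module.Dual k M)
          ((TensorProduct.assoc k A A (Module.Dual k M)).symm (co.lTensor A t))) m =
        (dualTensorHom k M A (TensorProduct.comm k A (Module.Dual k M) t)).rTensor A (c.coact m) := by
      intro t
      induction t with
      | zero => simp
      | add a b ha hb =>
        simp only [map_add, ha, hb, LinearMap.add_apply, LinearMap.rTensor_add]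
      | tmul a φ =>
        rw [LinearMap.lTensor_tmul]
        have e : ∀ s : A ⊗[k] Module.Dual k M, dualTensorHom k M (A ⊗[k] A)
            (TensorProduct.comm k (A ⊗[k] A) (Module.Dual k M)
              ((TensorProduct.assoc k A A (Module.Dual k M)).symm (a ⊗ₜ[k] s))) m =
            a ⊗ₜ[k] (dualTensorHom k M A (TensorProduct.comm k A (Module.Dual k M) s) m) := by
          intro s
          induction s with
          | zero => simp
          | tmul b ψ => simp [TensorProduct.smul_tmul']
          | add x y hx hy => simp only [TensorProduct.tmul_add, map_add, hx, hy, LinearMap.add_apply]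
        rw [e, hco, ComodSub.ldualFun_apply]
        generalize c.coact m = s
        induction s with
        | zero => simp
        | tmul v b => simp [TensorProduct.smul_tmul']
        | add x y hx hy => simp only [map_add, TensorProduct.tmul_add, hx, hy]
    rw [h1, h2, hco, ComodSub.ldualFun_apply]
    have h := LinearMap.congr_fun c.coassoc m
    simp only [LinearMap.coe_comp, Function.comp_apply, LinearEquiv.coe_coe] at h
    have e1 : ∀ s : M ⊗[k] A, CoalgebraStruct.comul (R := k) (A := A)
        (TensorProduct.lid k A (g.rTensor A s)) = TensorProduct.lid k (A ⊗[k] A)
          (g.rTensor (A ⊗[k] A) ((CoalgebraStruct.comul (R := k) (A := A)).lTensor M s)) := by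
      intro s
      induction s with
      | zero => simp
      | tmul v b => simp
      | add x y hx hy => simp only [map_add, hx, hy]
    rw [e1, ← h]
    generalize c.coact m = s
    induction s with
    | zero => simp
    | add x y hx hy => simp only [map_add, hx, hy]
    | tmul v b =>
      simp only [LinearMap.rTensor_tmul, ComodSub.ldualFun_apply]
      generalize c.coact v = u
      induction u with
      | zero => simp
      | tmul x y => simp [TensorProduct.smul_tmul']
      | add x y hx hy => simp only [map_add, TensorProduct.add_tmul, hx, hy]
  · refine LinearMap.ext fun g => ?_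
    simp only [LinearMap.coe_comp, Function.comp_apply]
    apply (TensorProduct.comm k k (Module.Dual k M)).injective
    apply hk.1
    refine LinearMap.ext fun m => ?_
    have h1 : ∀ t : A ⊗[k] Module.Dual k M, dualTensorHom k M k
        (TensorProduct.comm k k (Module.Dual k M)
          ((CoalgebraStruct.counit (R := k) (A := A)).rTensor _ t)) m =
        CoalgebraStruct.counit (R := k) (A := A)
          (dualTensorHom k M A (TensorProduct.comm k A (Module.Dual k M) t) m) := by
      intro t
      induction t with
      | zero => simp
      | tmul a φ => simp
      | add a b ha hb => simp only [map_add, ha, hb, LinearMap.add_apply]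
    rw [h1, hco, ComodSub.ldualFun_apply]
    have h := LinearMap.congr_fun c.counit_comp m
    simp only [LinearMap.coe_comp, Function.comp_apply] at h
    have e1 : ∀ s : M ⊗[k] A, CoalgebraStruct.counit (R := k) (A := A)
        (TensorProduct.lid k A (g.rTensor A s)) = TensorProduct.lid k k
          (g.rTensor k ((CoalgebraStruct.counit (R := k) (A := A)).lTensor M s)) := by
      intro s
      induction s with
      | zero => simp
      | tmul v b => simp
      | add x y hx hy => simp only [map_add, hx, hy]
    rw [e1, h]
    simp

end Groth.Agent.S16690
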