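import Groth.Statements.S16691
import Mathlib.RingTheory.Flat.Stability
import Mathlib.LinearAlgebra.TensorProduct.RightExactness
import Mathlib.LinearAlgebra.TensorProduct.Pi
import Mathlib.RingTheory.Finiteness.Projective

set_option autoImplicit false
universe u v w w'
open scoped TensorProduct
open ComodTens

namespace Groth.Agent.S16691

section
variable (k : Type u) [CommRing k]

/-- `p ⊗ φ ↦ (m ↦ φ m • p)` -/
noncomputable def th (M : Type w') [AddCommGroup M] [Module k M] (P : Type w) [AddCommGroup P]
    [Module k P] : P ⊗[k] Module.Dual k M →ₗ[k] (M →ₗ[k] P) :=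
  dualTensorHom k M P ∘ₗ (TensorProduct.comm k P (Module.Dual k M)).toLinearMap

theorem th_tmul {M : Type w'} [AddCommGroup M] [Module k M] {P : Type w} [AddCommGroup P]
    [Module k P] (p : P) (φ : Module.Dual k M) (m : M) : th k M P (p ⊗ₜ φ) m = φ m • p := by
  simp [th, dualTensorHom_apply]

theorem th_bijective (M : Type w') [AddCommGroup M] [Module k M] [Module.FinitePresentation k M]
    (P : Type w) [AddCommGroup P] [Module k P] [Module.Flat k P] :
    Function.Bijective (th k M P) := by
  classical
  obtain ⟨n, f, hf⟩ := Module.Finite.exists_fin' k M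
  obtain ⟨r, g, hg⟩ : ∃ (r : ℕ) (g : Fin r → (Fin n → k)), Submodule.span k (Set.range g) = LinearMap.ker f :=
    Submodule.fg_iff_exists_fin_generating_family.mp (Module.FinitePresentation.fg_ker f hf)
  let π : Module.Dual k M →ₗ[k] Module.Dual k (Fin n → k) := f.dualMap
  let q : Module.Dual k (Fin n → k) →ₗ[k] (Fin r → k) := LinearMap.pi fun i => LinearMap.applyₗ (g i)
  have hπ : Function.Injective π := LinearMap.dualMap_injective_of_surjective hf
  have hex : Function.Exact π q := by
    intro φ
    constructor
    · intro h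
      have hker : LinearMap.ker f ≤ LinearMap.ker φ := by
        rw [← hg, Submodule.span_le]
        rintro _ ⟨i, rfl⟩
        exact congrFun h i
      refine ⟨(Submodule.liftQ (LinearMap.ker f) φ hker) ∘ₗ (f.quotKerEquivOfSurjective hf).symm.toLinearMap, ?_⟩
      ext x
      simp [π, LinearMap.dualMap_apply']
    · rintro ⟨ψ, rfl⟩
      ext i
      have : f (g i) = 0 := LinearMap.mem_ker.mp (hg ▸ Submodule.subset_span ⟨i, rfl⟩)
      simp [q, π, this]
  have hexP : Function.Exact (π.lTensor P) (q.lTensor P) := Module.Flat.lTensor_exact P hex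
  have hinjP : Function.Injective (π.lTensor P) := Module.Flat.lTensor_preserves_injective_linearMap π hπ
  have hfree : Function.Bijective (th k (Fin n → k) P) :=
    (dualTensorHom_bijective (R := k) (M := Fin n → k) (N := P)).comp (LinearEquiv.bijective _)
  have hnat : ∀ x, th k (Fin n → k) P (π.lTensor P x) = th k M P x ∘ₗ f := by
    intro x
    induction x using TensorProduct.induction_on with
    | zero => simp
    | add a b ha hb => simp only [map_add, ha, hb, LinearMap.add_comp]
    | tmul p φ => ext; simp [th_tmul, π]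
  have hq : ∀ y i, TensorProduct.piScalarRight k k P (Fin r) (q.lTensor P y) i =
      th k (Fin n → k) P y (g i) := by
    intro y i
    induction y using TensorProduct.induction_on with
    | zero => simp
    | add a b ha hb => simp only [map_add, Pi.add_apply, ha, hb, LinearMap.add_apply]
    | tmul p φ => simp [th_tmul, q]
  constructor
  · intro a b h
    refine hinjP (hfree.1 ?_)
    rw [hnat, hnat, h]
  · intro h
    obtain ⟨y, hy⟩ := hfree.2 (h ∘ₗ f)
    have h0 : q.lTensor P y = 0 := by
      refine (TensorProduct.piScalarRight k k P (Fin r)).injective ?_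
      ext i
      rw [hq, hy, map_zero]
      have : f (g i) = 0 := LinearMap.mem_ker.mp (hg ▸ Submodule.subset_span ⟨i, rfl⟩)
      simp [this]
    obtain ⟨x, rfl⟩ := (hexP y).mp h0
    refine ⟨x, ?_⟩
    rw [hnat] at hy
    exact (LinearMap.cancel_right hf).mp hy

end

section
open LinearMap
variable {k : Type u} [CommRing k] {A : Type v} [CommRing A] [HopfAlgebra k A]
  {B : Type w} [AddCommGroup B] [Module k B] {M : Type w'} [AddCommGroup M] [Module k M]

variable (k A B) in
/-- `(b ⊗ a) ⊗ a' ↦ b ⊗ a a'` -/
noncomputable def mu : (B ⊗[k] A) ⊗[k] A →ₗ[k] B ⊗[k] A :=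
  (LinearMap.mul' k A).lTensor B ∘ₗ (TensorProduct.assoc k B A A).toLinearMap

/-- `m ↦ Σ f m₀ · g m₁` -/
noncomputable def conv (cM : HopfRep.Comod k A M) (f : M →ₗ[k] B ⊗[k] A) (g : A →ₗ[k] A) :
    M →ₗ[k] B ⊗[k] A :=
  mu k A B ∘ₗ TensorProduct.map f g ∘ₗ cM.coact

theorem conv_conv (cM : HopfRep.Comod k A M) (f : M →ₗ[k] B ⊗[k] A) (g g' : A →ₗ[k] A) :
    conv cM (conv cM f g) g' =
      conv cM f (LinearMap.mul' k A ∘ₗ TensorProduct.map g g' ∘ₗ Coalgebra.comul) := by
  ext m
  have key : ∀ x : (M ⊗[k] A) ⊗[k] A,
      mu k A B (TensorProduct.map (mu k A B ∘ₗ TensorProduct.map f g) g' x) =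
        mu k A B (TensorProduct.map f (LinearMap.mul' k A ∘ₗ TensorProduct.map g g')
          (TensorProduct.assoc k M A A x)) := by
    intro x
    induction x using TensorProduct.induction_on with
    | zero => simp
    | add a b ha hb => simp only [map_add, ha, hb]
    | tmul y a' =>
      induction y using TensorProduct.induction_on with
      | zero => simp
      | add a b ha hb => simp only [TensorProduct.add_tmul, map_add, ha, hb]
      | tmul m a =>
        simp only [TensorProduct.map_tmul, LinearMap.comp_apply, TensorProduct.assoc_tmul, LinearMap.mul'_apply]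
        induction f m using TensorProduct.induction_on with
        | zero => simp
        | add p q hp hq => simp only [TensorProduct.add_tmul, map_add, hp, hq]
        | tmul b c => simp [mu, mul_assoc]
  have h1 : ∀ y : M ⊗[k] A, TensorProduct.map (conv cM f g) g' y =
      TensorProduct.map (mu k A B ∘ₗ TensorProduct.map f g) g' (cM.coact.rTensor A y) := by
    intro y
    rw [← LinearMap.comp_apply, LinearMap.map_comp_rTensor]
    rfl
  have h2 : ∀ y : M ⊗[k] A,
      TensorProduct.map f (LinearMap.mul' k A ∘ₗ TensorProduct.map g g' ∘ₗ Coalgebra.comul) y =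
      TensorProduct.map f (LinearMap.mul' k A ∘ₗ TensorProduct.map g g')
        ((Coalgebra.comul (R := k) (A := A)).lTensor M y) := by
    intro y
    rw [← LinearMap.comp_apply (TensorProduct.map f _), LinearMap.map_comp_lTensor]
    rfl
  have hc := LinearMap.congr_fun cM.coassoc m
  simp only [LinearMap.coe_comp, Function.comp_apply, LinearEquiv.coe_coe] at hc
  simp only [conv, LinearMap.comp_apply]
  rw [show mu k A B ∘ₗ TensorProduct.map f g ∘ₗ cM.coact = conv cM f g from rfl, h1, key, hc, h2]

theorem conv_counit (cM : HopfRep.Comod k A M) (f : M →ₗ[k] B ⊗[k] A) :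
    conv cM f (Algebra.linearMap k A ∘ₗ Coalgebra.counit) = f := by
  ext m
  have hc := LinearMap.congr_fun cM.counit_comp m
  simp only [LinearMap.coe_comp, Function.comp_apply, LinearMap.flip_apply, TensorProduct.mk_apply] at hc
  simp only [conv, LinearMap.comp_apply]
  rw [← LinearMap.map_comp_lTensor, LinearMap.comp_apply, hc, TensorProduct.map_tmul,
    Algebra.linearMap_apply, map_one]
  induction f m using TensorProduct.induction_on with
  | zero => simp
  | add a b ha hb => simp only [TensorProduct.add_tmul, map_add, ha, hb]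
  | tmul b a => simp [mu]

/-- the vector part -/
noncomputable def iota (h : M →ₗ[k] B) : M →ₗ[k] B ⊗[k] A := (TensorProduct.mk k B A).flip 1 ∘ₗ h

theorem conv_iota_id (cM : HopfRep.Comod k A M) (h : M →ₗ[k] B) :
    conv cM (iota h) LinearMap.id = h.rTensor A ∘ₗ cM.coact := by
  ext m
  simp only [conv, LinearMap.comp_apply]
  induction cM.coact m using TensorProduct.induction_on with
  | zero => simp
  | add a b ha hb => simp only [map_add, ha, hb]
  | tmul x a => simp [mu, iota]

theorem isComodHom_iff (cB : HopfRep.Comod k A B) (cM : HopfRep.Comod k A M) (h : M →ₗ[k] B) :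
    cB.coact ∘ₗ h = h.rTensor A ∘ₗ cM.coact ↔
      conv cM (cB.coact ∘ₗ h) (HopfAlgebraStruct.antipode (R := k) (A := A)) = iota h := by
  rw [← conv_iota_id]
  constructor
  · intro hh
    rw [hh, conv_conv]
    conv_rhs => rw [← conv_counit cM (iota h)]
    congr 1
    rw [← LinearMap.lTensor_def]
    exact HopfAlgebra.mul_antipode_lTensor_comul
  · intro hh
    rw [← hh, conv_conv]
    conv_lhs => rw [← conv_counit cM (cB.coact ∘ₗ h)]
    congr 1
    rw [← LinearMap.rTensor_def]
    exact HopfAlgebra.mul_antipode_rTensor_comul.symm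

/-- `(b ⊗ φ) ⊗ a ↦ (m ↦ φ m • (b ⊗ a))` -/
noncomputable def Th : (B ⊗[k] Module.Dual k M) ⊗[k] A →ₗ[k] (M →ₗ[k] B ⊗[k] A) :=
  th k M (B ⊗[k] A) ∘ₗ ((TensorProduct.assoc k B (Module.Dual k M) A).trans
    ((LinearEquiv.lTensor B (TensorProduct.comm k (Module.Dual k M) A)).trans
      (TensorProduct.assoc k B A (Module.Dual k M)).symm)).toLinearMap

theorem Th_tmul (b : B) (φ : Module.Dual k M) (a : A) (m : M) :
    Th ((b ⊗ₜ[k] φ) ⊗ₜ[k] a) m = φ m • (b ⊗ₜ[k] a) := by
  simp [Th, th_tmul]

theorem Th_coact (cB : HopfRep.Comod k A B) (cM : HopfRep.Comod k A M)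
    (d : HopfRep.Comod k A (Module.Dual k M)) (hd : ComodTens.Comod.IsDual cM d)
    (x : B ⊗[k] Module.Dual k M) :
    Th ((ComodTens.Comod.tensor cB d).coact x) =
      conv cM (cB.coact ∘ₗ th k M B x) (HopfAlgebraStruct.antipode (R := k) (A := A)) := by
  induction x using TensorProduct.induction_on with
  | zero => simp [conv]
  | add a b ha hb =>
    simp only [map_add, ha, hb, conv, LinearMap.comp_add, TensorProduct.map_add_left, LinearMap.add_comp]
  | tmul b φ =>
    ext m
    have h1 : ∀ (p : B ⊗[k] A) (q : Module.Dual k M ⊗[k] A),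
        Th (TensorProduct.map LinearMap.id (LinearMap.mul' k A)
          (TensorProduct.AlgebraTensorModule.tensorTensorTensorComm k k k k B A (Module.Dual k M) A
            (p ⊗ₜ[k] q))) m = mu k A B (p ⊗ₜ[k] dualTensorHom k M A q m) := by
      intro p q
      induction p using TensorProduct.induction_on with
      | zero => simp
      | add p p' hp hp' => simp only [TensorProduct.add_tmul, map_add, LinearMap.add_apply, hp, hp']
      | tmul b a =>
        induction q using TensorProduct.induction_on with
        | zero => simp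
        | add q q' hq hq' => simp only [TensorProduct.tmul_add, map_add, LinearMap.add_apply, hq, hq']
        | tmul ψ a' => simp [Th_tmul, mu, dualTensorHom_apply]
    rw [ComodTens.tensor_coact_tmul, h1, hd φ, ComodTens.dualCoactFun_apply]
    simp only [conv, LinearMap.comp_apply]
    induction cM.coact m using TensorProduct.induction_on with
    | zero => simp
    | add p q hp hq => simp only [map_add, TensorProduct.tmul_add, hp, hq]
    | tmul m' a =>
      simp only [TensorProduct.map_tmul, TensorProduct.lid_tmul, LinearMap.comp_apply, th_tmul,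
        TensorProduct.tmul_smul, map_smul, TensorProduct.smul_tmul']

theorem Th_one (x : B ⊗[k] Module.Dual k M) : Th (x ⊗ₜ[k] (1 : A)) = iota (th k M B x) := by
  induction x using TensorProduct.induction_on with
  | zero => simp [iota]
  | add a b ha hb => simp only [TensorProduct.add_tmul, map_add, ha, hb, iota, LinearMap.comp_add]
  | tmul b φ => ext m; simp [Th_tmul, iota, th_tmul, TensorProduct.smul_tmul']

theorem main [Module.Flat k A] [Module.Flat k B] [Module.FinitePresentation k M]
    (cB : HopfRep.Comod k A B) (cM : HopfRep.Comod k A M)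
    (d : HopfRep.Comod k A (Module.Dual k M)) (hd : ComodTens.Comod.IsDual cM d)
    (x : B ⊗[k] Module.Dual k M) :
    (ComodTens.Comod.tensor cB d).coact x = x ⊗ₜ[k] (1 : A) ↔
      cB.coact ∘ₗ th k M B x = (th k M B x).rTensor A ∘ₗ cM.coact := by
  rw [isComodHom_iff, ← Th_coact cB cM d hd, ← Th_one]
  have hinj : Function.Injective (Th (k := k) (A := A) (B := B) (M := M)) :=
    (th_bijective k M (B ⊗[k] A)).1.comp (LinearEquiv.injective _)
  exact hinj.eq_iff.symm

end

/-- Let `k` be a commutative ring, `A` a commutative Hopf algebra over `k`, flat over `k`, `B` a flat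
`k`-module with a right `A`-comodule structure, and `M` a finitely presented `k`-module with a right
`A`-comodule structure; let `M^*` carry the contragredient structure `d` (for each form `f`, `d f`
read as a map `M → A` is `m ↦ Σ f(m₀) S(m₁)`) and `B ⊗ M^*` the tensor-product coaction `b ⊗ φ ↦ Σ
(b₀ ⊗ φ₀) ⊗ b₁ φ₁`. Then `b ⊗ φ ↦ (m ↦ φ(m) b)` restricts to a bijection from the invariants `(B ⊗
M^*)^A` (elements with coaction `x ⊗ 1`) onto the `A`-comodule maps `M → B`. (The published
statement assumes `B` only finitely presented over `k`; for `k = ℤ`, `A = ℤ` the Hopf algebra of the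
trivial group and `B = M = ℤ/2` with trivial coactions, `M^* = 0` so the invariants vanish while the
identity of `ℤ/2` is a comodule map, and the published proof uses that `B ⊗ M^* → Hom(M, B)` is
bijective, which holds for `B` flat; so `B` is taken flat here.) -/
theorem result (k : Type u) [CommRing k]
    (A : Type v) [CommRing A] [HopfAlgebra k A] [Module.Flat k A]
    (B : Type w) [AddCommGroup B] [Module k B] [Module.Flat k B] (cB : HopfRep.Comod k A B)
    (M : Type w') [AddCommGroup M] [Module k M] [Module.FinitePresentation k M]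
    (cM : HopfRep.Comod k A M)
    (d : HopfRep.Comod k A (Module.Dual k M)) (hd : ComodTens.Comod.IsDual cM d) :
    Set.BijOn
      (fun x : B ⊗[k] Module.Dual k M => dualTensorHom k M B (TensorProduct.comm k B (Module.Dual k M) x))
      ((@HopfRep.fixedPts k A _ _ _ (B ⊗[k] Module.Dual k M) _ _ (ComodTens.Comod.tensor cB d)) :
        Set (B ⊗[k] Module.Dual k M))
      {h : M →ₗ[k] B | @Hoch.IsComodHom k _ A _ _ _ M _ _ cM B _ _ cB h} := by
  refine ⟨fun x hx => (main cB cM d hd x).mp hx, (th_bijective k M B).1.injOn, fun h hh => ?_⟩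
  obtain ⟨x, rfl⟩ := (th_bijective k M B).2 h
  exact ⟨x, (main cB cM d hd x).mpr hh, rfl⟩

end Groth.Agent.S16691
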