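import Groth.Statements.S16699
import Groth.Agent.StFib.LocQBasic
import Groth.Agent.StFib.EndTrans

set_option autoImplicit false
set_option backward.isDefEq.respectTransparency false
set_option backward.isDefEq.respectTransparency.types false
universe u
open AlgSt AlgSt.IsWellNighAffine

namespace Groth.Agent.S16699

open CategoryTheory AlgebraicGeometry in
/-- An algebraic stack affine over a well-nigh affine algebraic stack is well-nigh affine. -/
theorem result (S : Scheme.{u}) (𝒳 𝒳' : AlgSt.Cat S)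
    (h𝒳 : AlgSt.IsAlgStack Scheme.fppfPrecoverage 𝒳) (h𝒳' : AlgSt.IsAlgStack Scheme.fppfPrecoverage 𝒳')
    (hw : AlgSt.IsWellNighAffine 𝒳) (f : 𝒳' ⥤ᵇ 𝒳) (hf : AlgSt.RepByAlgSpWith AlgSp.IsAffineMor f) :
    AlgSt.IsWellNighAffine 𝒳' := by
  obtain ⟨U, x, hU, hx⟩ := hw
  obtain ⟨A, e, he, ha⟩ := hf U x
  obtain ⟨W, i, fst, sq, hW⟩ := ha hU (𝟙 _)
  have : IsIso fst := sq.isIso_fst_of_isIso
  let T : AlgSt.ofSch W ⥤ᵇ AlgSt.ofSp A.obj := AlgSt.ofSpMap (asIso fst).hom
  have hT : FibCat.IsEquivOver T := Groth.Agent.StFib.isEquivOver_ofSpMap_iso (asIso fst)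
  refine ⟨W, BasedFunctor.comp (BasedFunctor.comp (AlgSt.ofOverCat W) (BasedFunctor.comp T e))
    (FibCat.fpSnd x f), hW, ?_⟩
  exact Groth.Agent.StFib.repByAlgSpWith_comp_isEquivOver
    (Groth.Agent.StFib.repByAlgSpWith_fpSnd _ x hx (f := f))
    (Groth.Agent.StFib.isEquivOver_comp (F := AlgSt.ofOverCat W) (G := BasedFunctor.comp T e) ⟨AlgSt.toOverCat W, ⟨Iso.refl _⟩, ⟨Iso.refl _⟩⟩
      (Groth.Agent.StFib.isEquivOver_comp (F := T) (G := e) hT he))

end Groth.Agent.S16699
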