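import Groth.Statements.S1670
import Groth.Agent.VarBC.Irred

set_option autoImplicit false
universe u
open CategoryTheory CategoryTheory.Limits AlgebraicGeometry
open Variety

namespace Groth.Agent.S1670

open Groth.Agent.FBase.BC Groth.Agent.FBase.Topo Groth.Agent.VarBC

lemma galAct_component {k : Type u} [Field k] {X : Scheme.{u}}
    [X.Over (Spec (CommRingCat.of k))] {K : Type u} [Field K] [Algebra k K] (σ : K ≃ₐ[k] K)
    {T₁ T₂ : Set ↥(pullback (X ↘ Spec (CommRingCat.of k)) (specMap k K))}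
    {w₁ w₂ : ↥(pullback (X ↘ Spec (CommRingCat.of k)) (specMap k K))}
    (h₁ : IsGenericPoint w₁ T₁) (h₂ : IsGenericPoint w₂ T₂)
    (h : Curv2.galAct k X K σ w₁ = w₂) : galHomeo σ '' T₁ = T₂ := by
  rw [← h₁.def, (galHomeo σ).image_closure, Set.image_singleton]
  exact (congrArg (fun w ↦ closure {w}) h).trans h₂.def

/-- Let X be locally of finite type over k, K a separable closure of k, and T an irreducible component
of X. Then the inverse image of T in X_K is the union of the finitely many irreducible components of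
X_K mapping into T, and these form a single orbit under the action of the k-automorphisms of K on
X_K. -/
theorem result (k : Type u) [Field k] (X : Scheme.{u}) [X.Over (Spec (CommRingCat.of k))] [LocallyOfFiniteType (X ↘ (Spec (CommRingCat.of k)))]
    (T : Set X) (hT : T ∈ irreducibleComponents (X : Type u)) :
    {T' : Set (Curv2.bc k X (SeparableClosure k)) | T' ∈ irreducibleComponents (Curv2.bc k X (SeparableClosure k) : Type u) ∧
        (Curv2.bcFst k X (SeparableClosure k)).base '' T' ⊆ T}.Finite ∧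
      (Curv2.bcFst k X (SeparableClosure k)).base ⁻¹' T = ⋃₀ {T' : Set (Curv2.bc k X (SeparableClosure k)) | T' ∈ irreducibleComponents (Curv2.bc k X (SeparableClosure k) : Type u) ∧
        (Curv2.bcFst k X (SeparableClosure k)).base '' T' ⊆ T} ∧
      ∀ T' T'' : Set (Curv2.bc k X (SeparableClosure k)), T' ∈ irreducibleComponents (Curv2.bc k X (SeparableClosure k) : Type u) →
        T'' ∈ irreducibleComponents (Curv2.bc k X (SeparableClosure k) : Type u) →
        (Curv2.bcFst k X (SeparableClosure k)).base '' T' ⊆ T → (Curv2.bcFst k X (SeparableClosure k)).base '' T'' ⊆ T →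
        ∃ σ : (SeparableClosure k) ≃ₐ[k] (SeparableClosure k), (Curv2.galAct k X (SeparableClosure k) σ).base '' T' = T'' := by
  let K := SeparableClosure k
  let f := X ↘ Spec (CommRingCat.of k)
  let p := pullback.fst f (specMap k K)
  obtain ⟨η, hη⟩ : ∃ η, IsGenericPoint η T :=
    QuasiSober.sober hT.1 (isClosed_of_mem_irreducibleComponents T hT)
  have key : ∀ (T' : Set ↥(pullback f (specMap k K))) (w : ↥(pullback f (specMap k K))),
      T' ∈ irreducibleComponents ↥(pullback f (specMap k K)) → p '' T' ⊆ T →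
      IsGenericPoint w T' → p w = η := by
    intro T' w hT' hs hw
    obtain ⟨h1, h2⟩ := image_component f hT' hw
    have e : closure {p w} = T :=
      subset_antisymm (h1.ge.trans hs) (h2.2 hT.1 (h1.ge.trans hs))
    exact IsGenericPoint.eq (show IsGenericPoint (p w) T from e) hη
  have : LocallyOfFiniteType (pullback.snd f (specMap k K)) := inferInstance
  have : IsLocallyNoetherian (pullback f (specMap k K)) :=
    LocallyOfFiniteType.isLocallyNoetherian (pullback.snd f (specMap k K))
  refine ⟨?_, ?_, ?_⟩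
  · obtain ⟨U, hU, hηU, -⟩ := exists_isAffineOpen_mem_and_subset (X := X) (x := η) (U := ⊤) trivial
    have hW : IsAffineOpen (p ⁻¹ᵁ U) := hU.preimage p
    have : IsNoetherianRing Γ(pullback f (specMap k K), p ⁻¹ᵁ U) :=
      IsLocallyNoetherian.component_noetherian ⟨_, hW⟩
    have := noetherianSpace_of_isAffineOpen (p ⁻¹ᵁ U) hW
    let W : Set ↥(pullback f (specMap k K)) := p ⁻¹' U
    have : TopologicalSpace.NoetherianSpace W := ‹TopologicalSpace.NoetherianSpace ↥(p ⁻¹ᵁ U)›
    have hfin := TopologicalSpace.NoetherianSpace.finite_irreducibleComponents (α := W)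
    refine Set.Finite.of_finite_image (f := fun T' ↦ (Subtype.val : W → _) ⁻¹' T')
      (hfin.subset ?_) ?_
    · rintro _ ⟨T', ⟨hT', hs⟩, rfl⟩
      obtain ⟨w, hw⟩ : ∃ w, IsGenericPoint w T' :=
        QuasiSober.sober hT'.1 (isClosed_of_mem_irreducibleComponents T' hT')
      refine preimage_mem_irreducibleComponents hT' ((U.2.preimage p.continuous).isOpenEmbedding_subtypeVal)
        ⟨w, hw.mem, ⟨w, ?_⟩, rfl⟩
      show p w ∈ U
      rw [key T' w hT' hs hw]; exact hηU
    · rintro T₁ ⟨hT₁, hs₁⟩ T₂ ⟨hT₂, hs₂⟩ he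
      obtain ⟨w, hw⟩ : ∃ w, IsGenericPoint w T₁ :=
        QuasiSober.sober hT₁.1 (isClosed_of_mem_irreducibleComponents T₁ hT₁)
      have hwU : w ∈ W := show p w ∈ U by rw [key T₁ w hT₁ hs₁ hw]; exact hηU
      have hw2 : w ∈ T₂ := (Set.ext_iff.mp he ⟨w, hwU⟩).mp hw.mem
      have hsub : T₁ ⊆ T₂ := hw.def ▸ closure_minimal (Set.singleton_subset_iff.mpr hw2)
        (isClosed_of_mem_irreducibleComponents T₂ hT₂)
      exact subset_antisymm hsub (hT₁.2 hT₂.1 hsub)
  · refine subset_antisymm (fun y hy ↦ ?_) (Set.sUnion_subset fun T' h z hz ↦ h.2 ⟨z, hz, rfl⟩)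
    obtain ⟨T', hT', hyT', hs⟩ := exists_component_subset f hT hy
    exact ⟨T', ⟨hT', Set.image_subset_iff.mpr hs⟩, hyT'⟩
  · intro T₁ T₂ hT₁ hT₂ hs₁ hs₂
    obtain ⟨w₁, hw₁⟩ : ∃ w, IsGenericPoint w T₁ :=
      QuasiSober.sober hT₁.1 (isClosed_of_mem_irreducibleComponents T₁ hT₁)
    obtain ⟨w₂, hw₂⟩ : ∃ w, IsGenericPoint w T₂ :=
      QuasiSober.sober hT₂.1 (isClosed_of_mem_irreducibleComponents T₂ hT₂)
    obtain ⟨σ, hσ⟩ := exists_galAct_eq (a := w₁) (b := w₂)
      ((key T₁ w₁ hT₁ hs₁ hw₁).trans (key T₂ w₂ hT₂ hs₂ hw₂).symm)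
    exact ⟨σ, galAct_component σ hw₁ hw₂ hσ⟩

end Groth.Agent.S1670
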