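import Groth.Statements.S18309
import Groth.Agent.AlgSpEN.Lift
-- import your own Groth.Agent.* helpers here

set_option autoImplicit false
universe u
open CategoryTheory CategoryTheory.Limits AlgebraicGeometry
open AlgSp

namespace Groth.Agent.S18309

open Groth.Agent.AlgSpEN Groth.Agent.AlgSpB Groth.Agent.AlgSpB.Art

set_option backward.isDefEq.respectTransparency false
set_option backward.isDefEq.respectTransparency.types false

/-- Let S be a scheme, f : Z → X a morphism of algebraic spaces over S which is smooth (étale locally on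
source and target), R a Henselian local ring with residue field k = R/m and structure morphism Spec
R → S, z : h_{Spec R} → X an R-point of X, and z₀' : h_{Spec k} → Z a k-point of Z whose composite
with f is the restriction of z to Spec k. Then there is an R-point z' : h_{Spec R} → Z with z'
followed by f equal to z and whose restriction to Spec k is z₀'. The source states this for X an
algebraic stack (lifting up to isomorphism); the algebraic-space case is stated here. -/
theorem result {S : Scheme.{u}} {Z X : AlgSp.Space S}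
    (f : Z ⟶ X) (hf : AlgSp.LocP @Smooth f.hom)
    (R : Type u) [CommRing R] [HenselianLocalRing R] (str : Spec (CommRingCat.of R) ⟶ S)
    (z : (AlgSp.yon S).obj (Over.mk str) ⟶ X.obj)
    (z₀ : (AlgSp.yon S).obj (Over.mk (Spec.map (CommRingCat.ofHom (IsLocalRing.residue R)) ≫ str)) ⟶ Z.obj)
    (w : z₀ ≫ f.hom = (AlgSp.yon S).map (Over.homMk (Spec.map (CommRingCat.ofHom (IsLocalRing.residue R))) rfl :
        Over.mk (Spec.map (CommRingCat.ofHom (IsLocalRing.residue R)) ≫ str) ⟶ Over.mk str) ≫ z) :
    ∃ z' : (AlgSp.yon S).obj (Over.mk str) ⟶ Z.obj, z' ≫ f.hom = z ∧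
      (AlgSp.yon S).map (Over.homMk (Spec.map (CommRingCat.ofHom (IsLocalRing.residue R))) rfl :
        Over.mk (Spec.map (CommRingCat.ofHom (IsLocalRing.residue R)) ≫ str) ⟶ Over.mk str) ≫ z' = z₀ := by
  obtain ⟨A, a, gA, hA, ha, hgA⟩ := exists_affine_chart_henselian X.property R str z
  obtain ⟨C, c, g₀, hC, hc, hg₀⟩ := exists_affine_chart_field Z.property
    (k := IsLocalRing.ResidueField R) _ z₀
  -- a chart of the source over the chart of the target
  obtain ⟨B, b, q, sq⟩ := exists_pullback_yon (X.property.representable_from_yon (c ≫ f.hom)) a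
  have hbe : AlgSp.RepWith @Etale ((AlgSp.yon S).map b) :=
    MorphismProperty.of_isPullback sq.flip ha
  have hbz : AlgSp.RepWith @Etale ((AlgSp.yon S).map b ≫ c) :=
    (AlgSp.repWith_isMultiplicative (S := S) @Etale).comp_mem _ _ hbe hc
  have hq : Smooth q.left := hf _ a q hbz ha (by rw [Category.assoc]; exact sq.w)
  obtain ⟨t, ht1, ht2⟩ := sq.exists_lift ((AlgSp.yon S).map g₀)
    ((AlgSp.yon S).map (resPt R str ≫ gA)) (by
      rw [← Category.assoc, hg₀, Functor.map_comp, Category.assoc, hgA]
      exact w)
  obtain ⟨t, rfl⟩ := (AlgSp.yon S).map_surjective t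
  obtain ⟨g, hg, hg'⟩ := exists_lift_henselian ((AlgSp.repWith_yon_map_iff @Smooth q).2 hq) R str
    ((AlgSp.yon S).map gA) t (by rw [ht2, Functor.map_comp])
  refine ⟨(AlgSp.yon S).map g ≫ (AlgSp.yon S).map b ≫ c, ?_, ?_⟩
  · rw [Category.assoc, Category.assoc, sq.w, reassoc_of% hg, hgA]
  · change (AlgSp.yon S).map (resPt R str) ≫ _ = _
    rw [← Category.assoc, ← Functor.map_comp, hg', ← Category.assoc, ht1, hg₀]

end Groth.Agent.S18309
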