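import Groth.Statements.S16707
import Mathlib

set_option autoImplicit false
universe u v
open CAlg

namespace Groth.Agent.S16707

open TensorProduct in
/-- Let A be a commutative ring, I a nilpotent ideal of A and f : M → N a homomorphism of A-modules with
N flat over A (no finiteness assumption on M or N). If the base change of f to A/I, that is M/IM →
N/IN, is bijective, then f is bijective. -/
theorem result (A : Type u) [CommRing A] (I : Ideal A)
    (hI : IsNilpotent I) (M N : Type v) [AddCommGroup M] [Module A M] [AddCommGroup N] [Module A N]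
    [Module.Flat A N] (f : M →ₗ[A] N)
    (hf : Function.Bijective (f.baseChange (A ⧸ I))) :
    Function.Bijective f := by
  obtain ⟨n, hn⟩ := hI
  have hn' : ∀ {P : Type v} [AddCommGroup P] [Module A P] (S : Submodule A P) (T : Submodule A P), (T ≤ S ⊔ I • T) → T ≤ S := by
    intro P _ _ S T hT
    have key : ∀ m : ℕ, T ≤ S ⊔ I ^ m • T := by
      intro m
      induction m with
      | zero => simp
      | succ m ih =>
        refine ih.trans (sup_le le_sup_left ?_)
        calc I ^ m • T ≤ I ^ m • (S ⊔ I • T) := Submodule.smul_mono le_rfl hT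
          _ ≤ _ := by
            rw [Submodule.smul_sup, pow_succ, Submodule.mul_smul]
            exact sup_le_sup Submodule.smul_le_right le_rfl
    refine (key n).trans ?_
    rw [hn, show (0 : Ideal A) = ⊥ from rfl, Submodule.bot_smul]
    simp
  have hMN : ∀ {P : Type v} [AddCommGroup P] [Module A P] (x : P), (1 : A ⧸ I) ⊗ₜ[A] x = 0 ↔ x ∈ I • (⊤ : Submodule A P) := by
    intro P _ _ x
    rw [← (TensorProduct.quotTensorEquivQuotSMul P I).map_eq_zero_iff, ← map_one (Ideal.Quotient.mk I),
      TensorProduct.quotTensorEquivQuotSMul_mk_tmul, one_smul, Submodule.Quotient.mk_eq_zero]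
  have hsurj : Function.Surjective f := by
    rw [← LinearMap.range_eq_top, eq_top_iff]
    refine hn' _ _ fun y _ => ?_
    obtain ⟨z, hz⟩ := hf.2 (1 ⊗ₜ y)
    obtain ⟨x, rfl⟩ : ∃ x, (1 : A ⧸ I) ⊗ₜ[A] x = z := by
      obtain ⟨x, rfl⟩ := TensorProduct.mk_surjective A M (A ⧸ I) Ideal.Quotient.mk_surjective z
      exact ⟨x, rfl⟩
    rw [LinearMap.baseChange_tmul, ← sub_eq_zero, ← TensorProduct.tmul_sub, hMN] at hz
    have : y = f x - (f x - y) := by abel
    rw [this]
    exact sub_mem (Submodule.mem_sup_left ⟨x, rfl⟩) (Submodule.mem_sup_right hz)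
  refine ⟨?_, hsurj⟩
  rw [← LinearMap.ker_eq_bot, eq_bot_iff]
  refine hn' _ _ ?_
  rw [bot_sup_eq]
  intro x hx
  have hx' : x ∈ I • (⊤ : Submodule A M) := by
    rw [← hMN]
    apply hf.1
    rw [LinearMap.baseChange_tmul, LinearMap.mem_ker.1 hx, TensorProduct.tmul_zero, map_zero]
  have hex : Function.Exact ((LinearMap.ker f).subtype) f := LinearMap.exact_subtype_ker_map f
  have hinj := LinearMap.lTensor_injective_of_exact_of_flat f hsurj ((LinearMap.ker f).subtype)
    (Submodule.injective_subtype _) hex (A ⧸ I)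
  have h0 : (1 : A ⧸ I) ⊗ₜ[A] (⟨x, hx⟩ : LinearMap.ker f) = 0 := by
    apply hinj
    rw [map_zero, LinearMap.lTensor_tmul]
    exact (hMN x).2 hx'
  have h1 := Submodule.mem_map_of_mem (f := (LinearMap.ker f).subtype) ((hMN _).1 h0)
  rw [Submodule.map_smul'', Submodule.map_top, Submodule.range_subtype] at h1
  exact h1

end Groth.Agent.S16707
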