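import Groth.Statements.S16708
import Groth.Agent.Comod.LinRed
import Groth.Prelude.Def_ConstGrp

set_option autoImplicit false
universe u
open HopfRep

namespace Groth.Agent.S16708

/-- Let G be a finite group and k a field in which the order of G is a nonzero element. Then the
constant group scheme of G over k is linearly reductive: every finite-dimensional comodule over its
coordinate Hopf algebra (the algebra of functions G → k with the Hopf structure of the constant
group) is semisimple, i.e. every subcomodule admits a complementary subcomodule. -/
theorem result (k : Type u) [Field k] (G : Type u) [Group G]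
    [Fintype G] [DecidableEq G] (hG : ((Fintype.card G : ℕ) : k) ≠ 0) :
    HopfRep.IsLinearlyReductive k (ConstGrp.F k G) := by
  refine Comod.linRed_iff_exists_integral.2 ⟨(Fintype.card G : k)⁻¹ • ∑ g : G, (ConstGrp.ev k g).toLinearMap, ⟨?_, ?_⟩⟩
  · intro f
    rw [ConstGrp.eq_sum_smul_e f]
    simp only [map_sum, map_smul, TensorProduct.sum_tmul, ← TensorProduct.smul_tmul']
    refine Finset.sum_congr rfl fun g _ => congrArg (f g • ·) ?_
    have hα : ∀ g : G, ((Fintype.card G : k)⁻¹ • ∑ g : G, (ConstGrp.ev k g).toLinearMap) (ConstGrp.e k g) =
        (Fintype.card G : k)⁻¹ := fun g => by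
      simp [ConstGrp.e_apply]
    rw [ConstGrp.comul_e, hα, ← ConstGrp.sum_e, TensorProduct.tmul_sum, map_sum]
    simp only [LinearMap.rTensor_tmul, hα]
    exact Fintype.sum_equiv ((Equiv.inv G).trans (Equiv.mulRight g)) _ _ fun a => rfl
  · simp [inv_mul_cancel₀ hG]

end Groth.Agent.S16708
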