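import Groth.Statements.S16713
import Groth.Agent.Synt44.GlobalCI
import Groth.Agent.Synt44.CM
import Groth.Agent.KReg44.Ideal
import Groth.Agent.QReg.Local
import Mathlib
-- import your own Groth.Agent.* helpers here

set_option autoImplicit false
universe u
open CotT

namespace Groth.Agent.S16713

open TensorProduct IsLocalRing

/-- Associated primes of a Cohen–Macaulay ring are minimal. -/
lemma minimal_of_associated {A : Type u} [CommRing A] [IsNoetherianRing A] (h : LocCoh.IsCohenMacaulayRing A)
    (p : Ideal A) (hp : p ∈ associatedPrimes A A) : p ∈ minimalPrimes A := by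
  haveI : p.IsPrime := IsAssociatedPrime.isPrime hp
  let L := Localization.AtPrime p
  haveI : LocCoh.IsCohenMacaulayLocalRing L := h.isCohenMacaulayLocalRing_localization p
  have hmax : maximalIdeal L ∈ associatedPrimes L L := by
    refine Module.associatedPrimes.mem_associatedPrimes_of_comap_mem_associatedPrimes_of_isLocalizedModule
      p.primeCompl (Algebra.linearMap A L) (maximalIdeal L) ?_
    rw [show Ideal.comap (algebraMap A L) (maximalIdeal L) = p from IsLocalization.AtPrime.under_maximalIdeal L p]
    exact hp
  have hdim : ringKrullDim (L ⧸ maximalIdeal L) = Module.supportDim L L :=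
    Groth.Agent.Depth.ringKrullDim_quotient_associatedPrime
      (Groth.Agent.Depth.isCohenMacaulayModule_self L) hmax
  letI := Ideal.Quotient.field (maximalIdeal L)
  rw [ringKrullDim_eq_zero_of_field, Module.supportDim_self_eq_ringKrullDim,
    IsLocalization.AtPrime.ringKrullDim_eq_height p L] at hdim
  exact (Ideal.height_eq_zero_iff).1 (by exact_mod_cast hdim.symm)

/-- Torsion-freeness of the conormal module. -/
lemma smul_cotangent_eq_zero {R A : Type u} [CommRing R] [CommRing A] (φ : R →+* A) (hφ : Function.Surjective φ)
    [Module.Projective (R ⧸ RingHom.ker φ) (RingHom.ker φ).Cotangent] {r : R} (hr : φ r ∈ nonZeroDivisors A)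
    {z : (RingHom.ker φ).Cotangent} (hz : r • z = 0) : z = 0 := by
  obtain ⟨s, hs⟩ := (Module.projective_def (R := R ⧸ RingHom.ker φ) (P := (RingHom.ker φ).Cotangent)).1 inferInstance
  apply hs.injective
  rw [map_zero]
  ext i
  have h0 := congrArg s hz
  rw [map_zero, ← algebraMap_smul (R ⧸ RingHom.ker φ) r z, map_smul] at h0
  have h1 := DFunLike.congr_fun h0 i
  rw [Finsupp.smul_apply, Finsupp.zero_apply, smul_eq_mul] at h1
  obtain ⟨a, ha⟩ := Ideal.Quotient.mk_surjective (s z i)
  rw [← ha, Ideal.Quotient.algebraMap_eq, ← map_mul, Ideal.Quotient.eq_zero_iff_mem, RingHom.mem_ker, map_mul] at h1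
  rw [Finsupp.zero_apply, ← ha, Ideal.Quotient.eq_zero_iff_mem, RingHom.mem_ker]
  exact (mem_nonZeroDivisors_iff.1 hr).1 _ h1


/-- The final assertion, in the case where the base is a field. Let k be a field and A a k-algebra which
is a local complete intersection over k (of finite type, presented by a polynomial algebra in
finitely many variables with Koszul-regular kernel) and generically smooth over k, in the sense that
the localization of A at each of its minimal primes is formally smooth over k. Then H^1 of the naive
cotangent complex L_{A/k} vanishes: for the presentation A = P/I by the polynomial k-algebra P on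
the elements of A, the conormal map I/I² → Ω_{P/k} ⊗_P A is injective, so that L_{A/k} is
quasi-isomorphic to Ω_{A/k}. (The published statement is for a generically smooth syntomic morphism
over an arbitrary base, where it fails when the base has embedded points: over B = k[s,t]/(s², st)
with 2 invertible in k, the algebra B[x]/(x² − t) is a relative complete intersection, free of rank
two and smooth where x is invertible, yet the class of s·x·(x² − t) is a non-zero element of the
kernel of its conormal map. This row states the case of an algebra of finite type over a field.) -/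
theorem result (k : Type u) [Field k]
    (A : Type u) [CommRing A] [Algebra k A] (hlci : LCI.IsLCI k A)
    (hgs : ∀ (p : Ideal A) [p.IsPrime], p ∈ minimalPrimes A → Algebra.FormallySmooth k (Localization.AtPrime p)) :
    Subsingleton (Algebra.H1Cotangent k A) := by
  obtain ⟨hft, n, f, hf, hK⟩ := id hlci
  haveI := hft
  haveI : IsNoetherianRing A := Algebra.FiniteType.isNoetherianRing k A
  have hCM := Groth.Agent.Synt44.isCohenMacaulayRing_of_isLCIOver (Groth.Agent.Synt44.isLCIOver_of_isLCI hlci)
  let P : Algebra.Generators k A (Fin n) := Algebra.Generators.ofSurjective (fun i => f (MvPolynomial.X i))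
    (by
      show Function.Surjective (MvPolynomial.aeval (f ∘ MvPolynomial.X))
      rw [← MvPolynomial.aeval_unique f]; exact hf)
  have hfP : algebraMap P.toExtension.Ring A = f.toRingHom := by
    show (MvPolynomial.aeval (R := k) (f ∘ MvPolynomial.X)).toRingHom = f.toRingHom
    rw [← MvPolynomial.aeval_unique f]
  haveI : Module.Projective (P.toExtension.Ring ⧸ RingHom.ker (algebraMap P.toExtension.Ring A))
      (RingHom.ker (algebraMap P.toExtension.Ring A)).Cotangent :=
    Groth.Agent.QReg.projective_of_isLocallyQuasiRegular
      (Groth.Agent.KReg44.isLocallyQuasiRegular_of_isKoszulRegularIdeal (hfP ▸ hK))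
  suffices h : Subsingleton P.toExtension.H1Cotangent from P.equivH1Cotangent.symm.subsingleton
  refine subsingleton_of_forall_eq 0 fun z => ?_
  have hann : ∀ p ∈ minimalPrimes A, ∃ s ∉ p, s • z = 0 := by
    intro p hp
    haveI : p.IsPrime := hp.1.1
    haveI := hgs p hp
    haveI : Subsingleton (Algebra.H1Cotangent k (Localization.AtPrime p)) :=
      Algebra.FormallySmooth.subsingleton_h1Cotangent
    haveI : Subsingleton (Localization.AtPrime p ⊗[A] Algebra.H1Cotangent k A) :=
      (Algebra.tensorH1CotangentOfIsLocalization k (Localization.AtPrime p) p.primeCompl).subsingleton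
    have h0 : LocalizedModule.mk (P.equivH1Cotangent z) (1 : p.primeCompl) = 0 :=
      ((LocalizedModule.equivTensorProduct p.primeCompl (Algebra.H1Cotangent k A))).injective
        (Subsingleton.elim _ _)
    rw [← LocalizedModule.zero_mk 1, LocalizedModule.mk_eq] at h0
    obtain ⟨s, hs⟩ := h0
    refine ⟨s, s.2, P.equivH1Cotangent.injective ?_⟩
    simp only [Submonoid.smul_def, OneMemClass.coe_one, one_smul, smul_zero] at hs
    rw [map_smul, map_zero]
    exact hs
  let J : Ideal A := Submodule.colon (⊥ : Submodule A P.toExtension.H1Cotangent) {z}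
  obtain ⟨s, hsJ, hs⟩ : ∃ s ∈ J, s ∈ nonZeroDivisors A := by
    by_contra hc
    push Not at hc
    have hsub : (J : Set A) ⊆ ⋃ p ∈ associatedPrimes A A, (p : Set A) := by
      rw [biUnion_associatedPrimes_eq_compl_nonZeroDivisors]
      exact fun x hx => hc x hx
    obtain ⟨p, hp, hle⟩ := (Ideal.subset_union_prime_finite (associatedPrimes.finite A A) ⊤ ⊤
      (fun p hp _ _ => IsAssociatedPrime.isPrime hp)).mp hsub
    obtain ⟨t, htp, ht⟩ := hann p (minimal_of_associated hCM p hp)
    exact htp (hle (by simpa [J, Submodule.mem_colon_singleton] using ht))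
  rw [Submodule.mem_colon_singleton, Submodule.mem_bot] at hsJ
  obtain ⟨r, rfl⟩ := P.toExtension.algebraMap_surjective s
  apply Subtype.ext
  apply Algebra.Extension.Cotangent.ext
  refine smul_cotangent_eq_zero (algebraMap P.toExtension.Ring A) P.toExtension.algebraMap_surjective hs (r := r) ?_
  have h0 : algebraMap P.toExtension.Ring A r • z.1 = 0 := congrArg Subtype.val hsJ
  rw [algebraMap_smul] at h0
  rw [← Algebra.Extension.Cotangent.val_smul', h0, Algebra.Extension.Cotangent.val_zero]

end Groth.Agent.S16713
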