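import Groth.Statements.S16715
import Groth.Agent.PinchLib.StdRinged
import Groth.Agent.FlatMor62.CornerBC

set_option autoImplicit false
universe u
open FlatMor

namespace Groth.Agent.S16715

open CategoryTheory CategoryTheory.Limits AlgebraicGeometry in
/-- Base change of pushouts along a closed immersion and an affine morphism. Let i : X₀ → X be a closed
immersion and f₀ : X₀ → Y₀ an affine morphism of schemes, and let Y together with an affine morphism
f : X → Y and a closed immersion j : Y₀ → Y be a pushout of i and f₀ in the category of schemes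
whose square is also cartesian. Let Y be a scheme over S such that X₀ is flat over S, and let S' → S
be any morphism. Then the base-changed square over S' is again a pushout in the category of schemes:
Y ×_S S' is the pushout of X ×_S S' and Y₀ ×_S S' along X₀ ×_S S'. -/
theorem result {X₀ X Y₀ Y S S' : Scheme.{u}}
    (i : X₀ ⟶ X) [IsClosedImmersion i] (f₀ : X₀ ⟶ Y₀) [IsAffineHom f₀] (f : X ⟶ Y) [IsAffineHom f]
    (j : Y₀ ⟶ Y) [IsClosedImmersion j] (hpo : IsPushout i f₀ f j) (hpb : IsPullback i f₀ f j)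
    (q : Y ⟶ S) [Flat ((i ≫ f) ≫ q)] (g : S' ⟶ S) :
    IsPushout
      (pullback.map ((i ≫ f) ≫ q) g (f ≫ q) g i (𝟙 S') (𝟙 S)
        ((Category.comp_id _).trans (Category.assoc i f q))
        ((Category.comp_id g).trans (Category.id_comp g).symm))
      (pullback.map ((i ≫ f) ≫ q) g (j ≫ q) g f₀ (𝟙 S') (𝟙 S)
        ((Category.comp_id _).trans ((congrArg (fun t => t ≫ q) hpo.w).trans (Category.assoc f₀ j q)))
        ((Category.comp_id g).trans (Category.id_comp g).symm))
      (pullback.map (f ≫ q) g q g f (𝟙 S') (𝟙 S)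
        (Category.comp_id _) ((Category.comp_id g).trans (Category.id_comp g).symm))
      (pullback.map (j ≫ q) g q g j (𝟙 S') (𝟙 S)
        (Category.comp_id _) ((Category.comp_id g).trans (Category.id_comp g).symm)) := by
  have hc : ∀ y : Y₀, ∃ (U : X.Opens) (V : Y₀.Opens), IsAffineOpen U ∧ IsAffineOpen V ∧ y ∈ V ∧
      i ⁻¹ᵁ U = f₀ ⁻¹ᵁ V := fun y => by
    obtain ⟨W, hW, hyW, -⟩ := exists_isAffineOpen_mem_and_subset (U := (⊤ : Y.Opens)) (x := j y) trivial
    exact ⟨f ⁻¹ᵁ W, j ⁻¹ᵁ W, hW.preimage f, hW.preimage j, hyW,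
      by rw [← Scheme.Hom.comp_preimage, hpo.w, Scheme.Hom.comp_preimage]⟩
  haveI : Flat (i ≫ f ≫ q) := by rw [← Category.assoc]; infer_instance
  have hpo' := PinchLib.StdRinged.isPushout_toSh hc hpo
  refine PinchLib.StdRinged.isPushout_of_toSh ?_
  refine FlatMor62.CornerBC.isPushout_cornerBaseChange (fX := f ≫ q) (fZ' := j ≫ q) (fX' := q)
    (by rw [← Category.assoc, ← hpo.w, Category.assoc]) rfl rfl hpo'
    (IsPullback.of_hasPullback (f ≫ q) g) ?_ (IsPullback.of_hasPullback (j ≫ q) g)
    (IsPullback.of_hasPullback q g)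
    (eZ := pullback.fst ((i ≫ f) ≫ q) g) (pZ := pullback.snd ((i ≫ f) ≫ q) g) ?_ ?_ ?_ ?_ ?_ ?_ ?_ ?_
  · rw [← Category.assoc]
    exact IsPullback.of_hasPullback ((i ≫ f) ≫ q) g
  all_goals first
    | exact pullback.lift_fst _ _ _
    | exact (pullback.lift_snd _ _ _).trans (Category.comp_id _)

end Groth.Agent.S16715
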