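import Groth.Statements.S16717
import Groth.Agent.Comod.LinRed

set_option autoImplicit false
universe u v
open HopfRep

namespace Groth.Agent.S16717

open TensorProduct in
/-- Equivalence of the exactness of invariants with complete reducibility of finite-dimensional
representations. Let k be a field and A a finitely generated commutative Hopf algebra over k (the
coordinate ring of an affine algebraic group G). Then every finite-dimensional A-comodule is
semisimple if and only if taking fixed vectors is exact, i.e. for every surjective comodule map φ :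
V → W between A-comodules (of any dimension; φ k-linear with (φ ⊗ id) ∘ ρ_V = ρ_W ∘ φ) every fixed
vector of W is the image of a fixed vector of V. -/
theorem result (k : Type u) [Field k] (A : Type v)
    [CommRing A] [HopfAlgebra k A] (hA : Algebra.FiniteType k A) :
    HopfRep.IsLinearlyReductive k A ↔
      ∀ (V W : Type v) [AddCommGroup V] [Module k V] [HopfRep.Comod k A V]
        [AddCommGroup W] [Module k W] [HopfRep.Comod k A W] (φ : V →ₗ[k] W),
        LinearMap.rTensor A φ ∘ₗ HopfRep.Comod.coact (k := k) (A := A) (V := V) =
            HopfRep.Comod.coact (k := k) (A := A) (V := W) ∘ₗ φ →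
          Function.Surjective φ →
            ∀ w ∈ HopfRep.fixedPts k A W, ∃ v ∈ HopfRep.fixedPts k A V, φ v = w := by
  constructor
  · intro h V W _ _ _ _ _ _ φ hφ hs
    obtain ⟨α, hα⟩ := Comod.exists_integral_of_linRed h
    exact hα.fixedPts_surjective φ hφ.symm hs
  · intro h
    refine Comod.linRed_of_liftCrit fun V _ _ _ _ π hπ hinv => ?_
    let e : k ≃ₗ[k] (⊤ : Submodule k k) := Submodule.topEquiv.symm
    have hnt : Nontrivial A := Bialgebra.nontrivial k (A := A)
    -- the trivial comodule on a copy of `k` in the universe of `A`
    let L : Submodule k A := Submodule.span k {(1 : A)}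
    letI := HopfRep.Comod.trivial k A L
    let φ : V →ₗ[k] L :=
      π.smulRight ⟨(1 : A), Submodule.subset_span rfl⟩
    have hφ : LinearMap.rTensor A φ ∘ₗ HopfRep.Comod.coact (k := k) (A := A) (V := V) =
        HopfRep.Comod.coact (k := k) (A := A) (V := L) ∘ₗ φ := by
      refine LinearMap.ext fun v => ?_
      have hv := LinearMap.congr_fun hinv v
      simp only [LinearMap.comp_apply, LinearMap.flip_apply, TensorProduct.mk_apply] at hv ⊢
      have : φ = (LinearMap.toSpanSingleton k L ⟨(1 : A), Submodule.subset_span rfl⟩) ∘ₗ π := by
        ext; simp [φ]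
      rw [this, LinearMap.rTensor_comp_apply, hv, LinearMap.rTensor_tmul]
      rfl
    obtain ⟨v₀, hv₀⟩ := hπ 1
    have hsurj : Function.Surjective φ := by
      rintro ⟨x, hx⟩
      obtain ⟨c, rfl⟩ := Submodule.mem_span_singleton.1 hx
      exact ⟨c • v₀, Subtype.ext (by simp [φ, hv₀])⟩
    obtain ⟨v, hv, hv1⟩ := h V L φ hφ hsurj ⟨(1 : A), Submodule.subset_span rfl⟩ (by exact rfl)
    refine ⟨v, hv, fun h0 => ?_⟩
    have := congrArg Subtype.val hv1
    simp [φ, h0] at this

end Groth.Agent.S16717
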