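import Groth.Statements.S16719
import Groth.Agent.CBC.Funct
import Groth.Agent.MLMod.Basic
import Groth.Agent.S0002
import Mathlib.Algebra.Category.ModuleCat.Products

set_option autoImplicit false
universe u
open CategoryTheory CategoryTheory.Limits AlgebraicGeometry
open CohIII

namespace Groth.Agent.S16719

/-- The first of its three functors. Let A be a Noetherian ring, X a proper scheme over Spec A and F a
coherent O_X-module flat over A. Then for every p the functor M ↦ H^p(X, F ⊗_A M) from A-modules to
abelian groups (F ⊗_A M = F ⊗_{O_X} f^*M~ for the structure morphism f) commutes with arbitrary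
products: it preserves limits of shape a discrete category, i.e. the canonical map H^p(X, F ⊗_A ∏
M_α) → ∏ H^p(X, F ⊗_A M_α) is an isomorphism. (The published statement is for a flat proper X over
an arbitrary ring A and states the same for two Ext functors; this row assumes A Noetherian, does
not assume X flat over A, and states only the cohomology functor.) -/
theorem result (A : Type u) [CommRing A] [IsNoetherianRing A]
    (X : Scheme.{u}) [X.Over (Spec (CommRingCat.of A))] [IsProper (X ↘ (Spec (CommRingCat.of A)))]
    (F : X.Modules) (hF : Coh.IsCoh F) (hflat : FlatMod.IsFlatOver (X ↘ (Spec (CommRingCat.of A))) F)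
    (p : ℕ) (J : Type u) :
    PreservesLimitsOfShape (Discrete J) (CohIII.tensorAFunctor A F ⋙ CohIII.HAb X p) := by
  obtain ⟨R, hR⟩ := Groth.Agent.CBC.exists_rep_win (A := A) (X := X)
    (fun A _ _ Z _ _ M hM n => Groth.Agent.S0002.result A Z M hM n) hF hflat
  obtain ⟨w⟩ := hR p
  have := w.fp
  refine ⟨fun {K} => ?_⟩
  suffices h : ∀ f : J → ModuleCat.{u} A,
      PreservesLimit (Discrete.functor f) (Groth.Agent.CBC.TA A F p) by
    haveI := h (fun j => K.obj ⟨j⟩)
    exact preservesLimit_of_iso_diagram (Groth.Agent.CBC.TA A F p) Discrete.natIsoFunctor.symm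
  intro f
  let π : ∀ j, ModuleCat.of A (∀ j, f j) ⟶ f j := fun j =>
    ModuleCat.ofHom (LinearMap.proj (φ := fun j => (f j : Type u)) j)
  have hb : Function.Bijective fun (x : (Groth.Agent.CBC.TA A F p).obj (ModuleCat.of A (∀ j, f j)))
      (j : J) => ((Groth.Agent.CBC.TA A F p).map (π j)).hom x := by
    have hval : ∀ (z : TensorProduct A w.G (∀ j, f j)) (j : J),
        (LinearMap.proj (φ := fun j => (f j : Type u)) j).lTensor w.G z =
          TensorProduct.piRightHom A A w.G (fun j => (f j : Type u)) z j := fun z j => by
      induction z using TensorProduct.induction_on with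
      | zero => simp
      | tmul g m => simp
      | add a b ha hb => rw [map_add, map_add, ha, hb]; rfl
    refine ⟨fun x y hxy => ?_, fun y => ?_⟩
    · obtain ⟨x, rfl⟩ := (R.e _ p).surjective x
      obtain ⟨y, rfl⟩ := (R.e _ p).surjective y
      refine congrArg _ ((w.e _).injective (Subtype.ext
        (Groth.Agent.MLMod.piRightHom_injective_of_fp w.G (funext fun j => ?_))))
      have h1 := congrFun hxy j
      simp only [R.map_e] at h1
      have h2 := congrArg (fun t => (w.e (f j) t).1) ((R.e (f j) p).injective h1)
      simp only [w.nat] at h2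
      rw [← hval, ← hval]
      exact h2
    · choose t ht using fun j => (R.e (f j) p).surjective (y j)
      obtain ⟨z, hz⟩ := Groth.Agent.MLMod.piRightHom_surjective_of_finite (R := A) w.G
        (Q := fun j => (f j : Type u)) fun j => (w.e (f j) (t j)).1
      have hker : w.u.rTensor (∀ j, f j) z = 0 :=
        Groth.Agent.MLMod.piRightHom_injective_of_fp (R := A) (Fin w.m → A) (funext fun j => by
          rw [Groth.Agent.MLMod.piRightHom_rTensor, hz, map_zero]
          exact (w.e (f j) (t j)).2)
      refine ⟨R.e _ p ((w.e (ModuleCat.of A (∀ j, f j))).symm ⟨z, hker⟩), funext fun j => ?_⟩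
      refine (R.map_e p (π j) _).trans ((congrArg _ ?_).trans (ht j))
      refine (w.e (f j)).injective (Subtype.ext ?_)
      rw [w.nat, LinearEquiv.apply_symm_apply]
      exact (hval z j).trans (congrFun hz j)
  haveI : Module.FinitePresentation A (Fin w.m → A) := Module.finitePresentation_of_projective A _
  refine preservesLimit_of_preserves_limit_cone (ModuleCat.productConeIsLimit f) ?_
  refine (isLimitMapConeFanMkEquiv (Groth.Agent.CBC.TA A F p) f π).symm ?_
  let E := Equiv.ofBijective _ hb
  have hE : ∀ y j, ((Groth.Agent.CBC.TA A F p).map (π j)).hom (E.symm y) = y j := fun y j =>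
    congrFun (E.apply_symm_apply y) j
  refine Fan.IsLimit.mk _ (fun g => AddCommGrpCat.ofHom (AddMonoidHom.mk'
    (fun x => E.symm fun j => (g.proj j).hom x) fun x y => hb.1 (funext fun j => ?_)))
    (fun g j => ?_) (fun g m hm => ?_)
  · refine (hE _ j).trans ((map_add (g.proj j).hom x y).trans (Eq.trans ?_ (map_add _ _ _).symm))
    exact congrArg₂ (· + ·) (hE (fun j => (g.proj j).hom x) j).symm
      (hE (fun j => (g.proj j).hom y) j).symm
  · exact AddCommGrpCat.hom_ext (AddMonoidHom.ext fun x => hE _ j)
  · refine AddCommGrpCat.hom_ext (AddMonoidHom.ext fun x => hb.1 (funext fun j => ?_))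
    refine Eq.trans ?_ (hE (fun j => (g.proj j).hom x) j).symm
    exact congr($(hm j).hom x)

end Groth.Agent.S16719
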