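import Groth.Statements.S16737
import Mathlib.Algebra.CharP.Lemmas
import Mathlib.Algebra.MvPolynomial.PDeriv

set_option autoImplicit false
universe u v
open DeRham

namespace Groth.Agent.S16737

/-- The case of affine space over an affine base of characteristic p, in degree zero. Let p be a prime
and R a commutative ring with p = 0 in R. For a polynomial f over R in any set of variables t_i, the
Kähler differential df in Ω_{R[t]/R} vanishes if and only if f is a polynomial in the p-th powers of
the variables, f = g(t_i^p). Equivalently, the functions on affine space over R killed by the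
differential of the de Rham complex are exactly the functions on its Frobenius twist. (The published
computation is for finitely many variables over a noetherian base of characteristic p; the statement
here allows any commutative ring with p = 0 and any set of variables.) -/
theorem result (p : ℕ) [Fact p.Prime]
    (R : Type u) [CommRing R] [CharP R p] (σ : Type v) (f : MvPolynomial σ R) :
    KaehlerDifferential.D R (MvPolynomial σ R) f = 0 ↔
      ∃ g : MvPolynomial σ R, f = MvPolynomial.expand p g := by
  classical
  have hD : KaehlerDifferential.D R (MvPolynomial σ R) f = 0 ↔ ∀ i, MvPolynomial.pderiv i f = 0 := by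
    constructor
    · intro h i
      rw [← KaehlerDifferential.mvPolynomialBasis_repr_apply, h, map_zero]; rfl
    · intro h
      apply (KaehlerDifferential.mvPolynomialBasis R σ).repr.injective
      ext i : 1
      rw [KaehlerDifferential.mvPolynomialBasis_repr_apply, h i, map_zero]; rfl
  rw [hD]
  constructor
  · intro h
    have hdiv : ∀ e ∈ f.support, ∀ i, p ∣ e i := by
      intro e he i
      by_contra hi
      have hei : 0 < e i := Nat.pos_of_ne_zero fun h0 => hi (h0 ▸ dvd_zero p)
      have hc := congrArg (MvPolynomial.coeff (e - Finsupp.single i 1)) (h i)
      rw [MvPolynomial.coeff_zero, MvPolynomial.coeff_pderiv] at hc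
      have he' : e - Finsupp.single i 1 + Finsupp.single i 1 = e :=
        tsub_add_cancel_of_le (Finsupp.single_le_iff.2 hei)
      rw [he', Finsupp.tsub_apply, Finsupp.single_eq_same, ← Nat.cast_add_one, Nat.sub_add_cancel hei] at hc
      have hu : IsUnit ((e i : ℕ) : R) := by
        obtain ⟨a, b, hab⟩ := ((Fact.out : p.Prime).coprime_iff_not_dvd.2 hi).isCoprime
        have h2 := congrArg (fun z : ℤ => (z : R)) hab
        simp only [Int.cast_add, Int.cast_mul, Int.cast_natCast, CharP.cast_eq_zero R p, mul_zero,
          zero_add, Int.cast_one] at h2
        exact IsUnit.of_mul_eq_one (b : R) (by rw [mul_comm]; exact h2)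
      exact MvPolynomial.mem_support_iff.1 he (hu.mul_left_eq_zero.1 hc)
    refine ⟨∑ e ∈ f.support, MvPolynomial.monomial (e.mapRange (fun k => k / p) (Nat.zero_div p))
      (f.coeff e), ?_⟩
    rw [map_sum]
    conv_lhs => rw [f.as_sum]
    refine Finset.sum_congr rfl fun e he => ?_
    rw [MvPolynomial.expand_monomial]
    congr 2
    ext i
    simp [Nat.mul_div_cancel' (hdiv e he i)]
  · rintro ⟨g, rfl⟩ i
    clear hD
    induction g using MvPolynomial.induction_on' with
    | monomial e a =>
      rw [MvPolynomial.expand_monomial, MvPolynomial.pderiv_monomial]
      simp [CharP.cast_eq_zero R p]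
    | add a b ha hb => simp [ha, hb]

end Groth.Agent.S16737
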