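import Groth.Statements.S16742
import Mathlib

set_option autoImplicit false
universe u
open CAlg

namespace Groth.Agent.S16742

/-- The equivalence in affine form, with flatness of the reduction in place of smoothness. Let p be a
prime, A~ a commutative ring flat over Z/p^2 and B~ an A~-algebra such that B~/pB~ is flat over
A~/pA~. Then B~ is flat over A~ if and only if every element of B~ killed by p is a multiple of p;
equivalently multiplication by p identifies B~/pB~ with pB~. (The published statement assumes the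
reduction smooth over A~/pA~ and the schemes noetherian, and phrases (b) as B~ being a lifting, that
is flat over A~; the statement here assumes only that the reduction is flat, where the equivalence
still holds by the local flatness criterion for the square-zero ideal generated by p.) -/
theorem result (p : ℕ) [Fact p.Prime]
    (Al : Type u) [CommRing Al] [Algebra (ZMod (p ^ 2)) Al] [Module.Flat (ZMod (p ^ 2)) Al]
    (Bl : Type u) [CommRing Bl] [Algebra Al Bl]
    (hB : Module.Flat (Al ⧸ Ideal.span {(p : Al)})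
      (Bl ⧸ (Ideal.span {(p : Al)}).map (algebraMap Al Bl))) :
    Module.Flat Al Bl ↔ ∀ b : Bl, (p : Bl) * b = 0 → b ∈ Ideal.span {(p : Bl)} := by
  classical
  set a₀ := Ideal.span {(p : Al)}
  haveI := hB
  have hp2A : (p : Al) * (p : Al) = 0 := by
    rw [← Nat.cast_mul, ← pow_two, ← map_natCast (algebraMap (ZMod (p ^ 2)) Al), ZMod.natCast_self, map_zero]
  have hp2B : (p : Bl) * (p : Bl) = 0 := by
    have := congrArg (algebraMap Al Bl) hp2A
    simpa using this
  constructor
  · intro hflat b hb
    obtain ⟨k, c, y, hy, hc⟩ := Module.Flat.isTrivialRelation_of_sum_smul_eq_zero (R := Al) (M := Bl)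
      (f := fun _ : Fin 1 => (p : Al)) (x := fun _ => b) (by simp [Algebra.smul_def, hb])
    have hb' : b = ∑ j, c 0 j • y j := hy 0
    rw [hb']
    refine (Ideal.span {(p : Bl)}).sum_mem fun j _ => ?_
    have hj : (p : Al) * c 0 j = 0 := by simpa using hc j
    obtain ⟨l, n, z, hz, hn⟩ := Module.Flat.isTrivialRelation_of_sum_smul_eq_zero (R := ZMod (p ^ 2)) (M := Al)
      (f := fun _ : Fin 1 => (p : ZMod (p ^ 2))) (x := fun _ => c 0 j) (by simp [Algebra.smul_def, hj])
    have hc' : c 0 j = ∑ i, n 0 i • z i := hz 0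
    rw [hc', Finset.sum_smul]
    refine (Ideal.span {(p : Bl)}).sum_mem fun i _ => ?_
    have hi : (p : ZMod (p ^ 2)) * n 0 i = 0 := by simpa using hn i
    haveI : NeZero (p ^ 2) := ⟨pow_ne_zero _ (Nat.Prime.ne_zero Fact.out)⟩
    obtain ⟨m, hm⟩ : ∃ m : ℕ, n 0 i = (p : ZMod (p ^ 2)) * m := by
      rw [← ZMod.natCast_zmod_val (n 0 i), ← Nat.cast_mul, ZMod.natCast_eq_zero_iff] at hi
      have : p ∣ (n 0 i).val := by
        exact Nat.dvd_of_mul_dvd_mul_left (Nat.Prime.pos Fact.out) (dvd_trans (dvd_of_eq (pow_two p).symm) hi)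
      obtain ⟨m, hm⟩ := this
      exact ⟨m, (ZMod.natCast_zmod_val (n 0 i)).symm.trans (by rw [hm, Nat.cast_mul])⟩
    rw [hm, Algebra.smul_def, Algebra.smul_def, Ideal.mem_span_singleton]
    simp [mul_assoc]
  · intro hker
    refine Module.Flat.of_forall_isTrivialRelation fun {l f x} hfx => ?_
    let πB := Ideal.Quotient.mk (a₀.map (algebraMap Al Bl))
    let πA := Ideal.Quotient.mk a₀
    have hπ : ∀ (a : Al) (b : Bl), πA a • πB b = πB (a • b) := fun a b => by
      rw [Algebra.smul_def, Algebra.smul_def, map_mul]; rfl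
    have hA : ∀ a : Al, πA a = 0 → ∃ d, (p : Al) * d = a := fun a ha => by
      obtain ⟨d, hd⟩ := Ideal.mem_span_singleton'.1 (Ideal.Quotient.eq_zero_iff_mem.1 ha)
      exact ⟨d, by rw [mul_comm, hd]⟩
    have hBz : ∀ b : Bl, πB b = 0 → ∃ d, (p : Bl) * d = b := fun b hb => by
      have h := Ideal.Quotient.eq_zero_iff_mem.1 hb
      rw [Ideal.map_span, Set.image_singleton, map_natCast] at h
      obtain ⟨d, hd⟩ := Ideal.mem_span_singleton'.1 h
      exact ⟨d, by rw [mul_comm, hd]⟩
    have hlift : ∀ {ι : Type} [Fintype ι] (f : ι → Al) (x : ι → Bl), πB (∑ i, f i • x i) = 0 →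
        ∃ (k : ℕ) (c : ι → Fin k → Al) (y : Fin k → Bl) (s : ι → Bl) (d : Fin k → Al),
          (∀ i, x i = ∑ j, c i j • y j + (p : Al) • s i) ∧ ∀ j, ∑ i, f i * c i j = (p : Al) * d j := by
      intro ι _ f x h
      obtain ⟨k, c, y, hy, hc⟩ := Module.Flat.isTrivialRelation_of_sum_smul_eq_zero (R := Al ⧸ a₀)
        (M := Bl ⧸ a₀.map (algebraMap Al Bl)) (f := fun i => πA (f i)) (x := fun i => πB (x i))
        (by rw [← h, map_sum]; simp only [hπ])
      choose c' hc' using fun i j => Ideal.Quotient.mk_surjective (c i j)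
      choose y' hy' using fun j => Ideal.Quotient.mk_surjective (y j)
      have h1 : ∀ i, ∃ s, (p : Bl) * s = x i - ∑ j, c' i j • y' j := fun i => hBz _ (by
        rw [map_sub, map_sum, show πB (x i) = _ from hy i, sub_eq_zero]
        refine Finset.sum_congr rfl fun j _ => ?_
        rw [← hπ]; simp only [πA, πB, hc', hy'])
      have h2 : ∀ j, ∃ d, (p : Al) * d = ∑ i, f i * c' i j := fun j => hA _ (by
        rw [map_sum, ← hc j]
        simp only [map_mul, πA, hc'])
      choose s hs using h1
      choose d hd using h2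
      exact ⟨k, c', y', s, d, fun i => by rw [Algebra.smul_def, map_natCast, hs, add_sub_cancel], fun j => (hd j).symm⟩
    obtain ⟨k, c, y, w, d, hx, hd⟩ := hlift f x (by rw [hfx, map_zero])
    have h2 : (p : Bl) * (∑ i : Fin k ⊕ Fin l, (Sum.elim d f i) • (Sum.elim y w i)) = 0 := by
      have e : (p : Bl) * (∑ i : Fin k ⊕ Fin l, (Sum.elim d f i) • (Sum.elim y w i)) = ∑ i, f i • x i := by
        simp only [hx, smul_add, Finset.smul_sum, Finset.sum_add_distrib, Fintype.sum_sum_type, Sum.elim_inl,
          Sum.elim_inr, mul_add, Finset.mul_sum]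
        rw [Finset.sum_comm (s := Finset.univ) (t := Finset.univ) (f := fun i j => f i • c i j • y j)]
        congr 1
        · refine Finset.sum_congr rfl fun j _ => ?_
          simp only [smul_smul]
          rw [← Finset.sum_smul, hd, mul_smul, Algebra.smul_def ((p : Al)), map_natCast]
        · refine Finset.sum_congr rfl fun i _ => ?_
          rw [smul_smul, mul_comm (f i), mul_smul, Algebra.smul_def ((p : Al)), map_natCast]
      rw [e, hfx]
    have h3 : πB (∑ i : Fin k ⊕ Fin l, (Sum.elim d f i) • (Sum.elim y w i)) = 0 := by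
      rw [Ideal.Quotient.eq_zero_iff_mem, Ideal.map_span, Set.image_singleton, map_natCast]
      exact hker _ h2
    obtain ⟨m, g, z, s, e, hz, he⟩ := hlift (Sum.elim d f) (Sum.elim y w) h3
    suffices h : ∃ (α : Fin l → Fin m ⊕ Fin k → Al) (Y : Fin m ⊕ Fin k → Bl),
        (∀ i, x i = ∑ j, α i j • Y j) ∧ ∀ j, ∑ i, f i * α i j = 0 by
      obtain ⟨α, Y, h1, h2⟩ := h
      refine ⟨m + k, fun i j => α i (finSumFinEquiv.symm j), fun j => Y (finSumFinEquiv.symm j), fun i => ?_, fun j => h2 _⟩
      rw [h1 i]
      exact (finSumFinEquiv.symm.sum_comp fun j => α i j • Y j).symm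
    refine ⟨fun i => Sum.elim (fun q => (∑ j, c i j * g (Sum.inl j) q) + (p : Al) * g (Sum.inr i) q) (fun j => (p : Al) * c i j),
      Sum.elim z (fun j => s (Sum.inl j)), fun i => ?_, ?_⟩
    · rw [hx i, Fintype.sum_sum_type]
      simp only [Sum.elim_inl, Sum.elim_inr]
      have hy := fun j => hz (Sum.inl j)
      have hw := hz (Sum.inr i)
      simp only [Sum.elim_inl, Sum.elim_inr] at hy hw
      simp only [hy, hw, smul_add, Finset.smul_sum, add_smul, Finset.sum_smul, mul_smul, Finset.sum_add_distrib]
      rw [Finset.sum_comm (f := fun j q => c i j • g (Sum.inl j) q • z q)]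
      have : (p : Al) • (p : Al) • s (Sum.inr i) = 0 := by rw [smul_smul, hp2A, zero_smul]
      rw [this, add_zero, add_right_comm]
      congr 1
      exact Finset.sum_congr rfl fun j _ => smul_comm _ _ _
    · rintro (q | j)
      · simp only [Sum.elim_inl, mul_add, Finset.mul_sum, Finset.sum_add_distrib]
        rw [Finset.sum_comm, show ∑ j, ∑ i, f i * (c i j * g (Sum.inl j) q) = ∑ j, (p : Al) * d j * g (Sum.inl j) q from
          Finset.sum_congr rfl fun j _ => by simp only [← mul_assoc]; rw [← Finset.sum_mul, hd]]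
        have h5 := he q
        simp only [Fintype.sum_sum_type, Sum.elim_inl, Sum.elim_inr] at h5
        calc _ = (p : Al) * ((∑ j, d j * g (Sum.inl j) q) + ∑ i, f i * g (Sum.inr i) q) := by
              rw [mul_add, Finset.mul_sum, Finset.mul_sum]
              congr 1
              · exact Finset.sum_congr rfl fun j _ => mul_assoc _ _ _
              · exact Finset.sum_congr rfl fun i _ => by ring
          _ = _ := by rw [h5, ← mul_assoc, hp2A, zero_mul]
      · simp only [Sum.elim_inr]
        calc ∑ i, f i * ((p : Al) * c i j) = (p : Al) * ∑ i, f i * c i j := by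
              rw [Finset.mul_sum]; exact Finset.sum_congr rfl fun i _ => by ring
          _ = 0 := by rw [hd, ← mul_assoc, hp2A, zero_mul]

end Groth.Agent.S16742
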