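import Groth.Statements.S16744
import Groth.Agent.LogPoly.Main

set_option autoImplicit false
universe u
open DeRham

namespace Groth.Agent.S16744

open exteriorPower in
/-- The case of affine n-space over an affine base of characteristic p with boundary divisor t_1⋯t_r =
0, all degrees. Let p be a prime, R a commutative ring with p = 0 in R, B = R[t_1, …, t_n] and r ≤
n. Let (L, ι, dl) be the module of differentials of B over R with logarithmic poles along t_1, …,
t_r, pinned by its defining properties (t_i · dl_i = ι(dt_i); ι(Ω_{B/R}) and the dl_i generate; no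
(t_1⋯t_r)-torsion; the kernel of ι is the (t_1⋯t_r)-power torsion), and let d be the logarithmic de
Rham differential on the exterior powers of L (the de Rham rule for ι ∘ d together with d(dl_i) = 0,
and d ∘ d = 0). Put w_ν = dl_ν for ν < r and w_ν = ι(t_ν^{p-1} dt_ν) for ν ≥ r (indices from 0), and
for an a-element set s of indices let e_s be the wedge of the w_ν, ν ∈ s, in increasing order. Then
an a-form with logarithmic poles is closed exactly when it is an exact form plus a combination Σ_s
g_s(t_1^p, …, t_n^p) · e_s with coefficients polynomials in the p-th powers of the variables, and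
such a combination is exact only if every g_s vanishes: the a-th cohomology of the logarithmic de
Rham complex of affine n-space is free over R[t_1^p, …, t_n^p] on the classes of the e_s. -/
theorem result (p : ℕ) [Fact p.Prime]
    (R : Type u) [CommRing R] [CharP R p] (n r a : ℕ) (hr : r ≤ n)
    (L : Type u) [AddCommGroup L] [Module (MvPolynomial (Fin n) R) L] [Module R L]
    [IsScalarTower R (MvPolynomial (Fin n) R) L]
    (ι : (Ω[MvPolynomial (Fin n) R⁄R]) →ₗ[MvPolynomial (Fin n) R] L) (dl : Fin r → L)
    (hL : LogDiff.IsLog (KaehlerDifferential.D R (MvPolynomial (Fin n) R))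
      (fun i : Fin r => (MvPolynomial.X (Fin.castLE hr i) : MvPolynomial (Fin n) R)) ι dl)
    (d : ∀ q : ℕ, ↥(⋀[MvPolynomial (Fin n) R]^q L) →ₗ[R] ↥(⋀[MvPolynomial (Fin n) R]^(q + 1) L))
    (hd : DeRham.IsDiff (ι.compDer (KaehlerDifferential.D R (MvPolynomial (Fin n) R))) d)
    (hlog : LogDiff.IsLogRule (KaehlerDifferential.D R (MvPolynomial (Fin n) R)) ι dl d)
    (w : Fin n → L) (hw : ∀ i : Fin r, w (Fin.castLE hr i) = dl i)
    (hw' : ∀ ν : Fin n, r ≤ (ν : ℕ) → w ν = ι (((MvPolynomial.X ν : MvPolynomial (Fin n) R) ^ (p - 1)) •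
      KaehlerDifferential.D R (MvPolynomial (Fin n) R) (MvPolynomial.X ν)))
    (e : Finset (Fin n) → ↥(⋀[MvPolynomial (Fin n) R]^a L))
    (he : ∀ (s : Finset (Fin n)) (hs : s.card = a),
      e s = exteriorPower.ιMulti (MvPolynomial (Fin n) R) a (fun j => w (s.orderEmbOfFin hs j))) :
    (∀ ω, ω ∈ DeRham.cocycles d a ↔
      ∃ (g : Finset (Fin n) → MvPolynomial (Fin n) R) (η : ↥(⋀[MvPolynomial (Fin n) R]^a L)),
        η ∈ DeRham.coboundaries d a ∧
          ω = η + ∑ s ∈ Finset.powersetCard a Finset.univ, MvPolynomial.expand p (g s) • e s) ∧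
    (∀ g : Finset (Fin n) → MvPolynomial (Fin n) R,
      (∑ s ∈ Finset.powersetCard a Finset.univ, MvPolynomial.expand p (g s) • e s) ∈ DeRham.coboundaries d a →
        ∀ s ∈ Finset.powersetCard a (Finset.univ : Finset (Fin n)), g s = 0) := by
  classical
  have hp : p ≠ 0 := (Fact.out : p.Prime).ne_zero
  let b := Groth.Agent.LogPoly.basisV hL
  have hwc : ∀ ν, w ν = (Groth.Agent.LogPoly.cw p r ν : MvPolynomial (Fin n) R) •
      Groth.Agent.LogPoly.v ι dl ν := fun ν => by
    rw [Groth.Agent.LogPoly.cw, Groth.Agent.LogPoly.v]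
    by_cases h : (ν : ℕ) < r
    · rw [if_pos h, dif_pos h, one_smul, ← hw ⟨ν, h⟩]
      rfl
    · rw [if_neg h, dif_neg h, hw' ν (not_lt.1 h), map_smul]
  have hθ : ∀ (g : Finset (Fin n) → MvPolynomial (Fin n) R) (u : Finset (Fin n)),
      Groth.Agent.LogPoly.C b r a
        (∑ s ∈ Finset.powersetCard a Finset.univ, MvPolynomial.expand p (g s) • e s) u =
      if u.card = a then MvPolynomial.expand p (g u * Groth.Agent.LogPoly.pi' r u) else 0 := by
    intro g u
    rw [map_sum, Finset.sum_apply, Finset.sum_congr rfl fun s hs => show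
        Groth.Agent.LogPoly.C b r a (MvPolynomial.expand p (g s) • e s) u =
          if u = s then MvPolynomial.expand p (g s * Groth.Agent.LogPoly.pi' r s) else 0 by
      have hs' : s.card = a := (Finset.mem_powersetCard.1 hs).2
      rw [map_smul, he s hs', Groth.Agent.LogPoly.C_e hL p hp w hwc hs', Pi.smul_apply,
        Pi.single_apply, smul_eq_mul, mul_ite, mul_zero, map_mul]]
    rw [Finset.sum_ite_eq]
    simp [Finset.mem_powersetCard]
  have hZθ : ∀ g : Finset (Fin n) → MvPolynomial (Fin n) R,
      Groth.Agent.LogPoly.Z p (Groth.Agent.LogPoly.C b r a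
        (∑ s ∈ Finset.powersetCard a Finset.univ, MvPolynomial.expand p (g s) • e s)) =
      Groth.Agent.LogPoly.C b r a
        (∑ s ∈ Finset.powersetCard a Finset.univ, MvPolynomial.expand p (g s) • e s) := by
    intro g
    funext u
    simp only [Groth.Agent.LogPoly.Z, hθ]
    split_ifs
    · exact Groth.Agent.LogPoly.scaleHom_z0_expand p _
    · exact map_zero _
  refine ⟨fun ω => ⟨fun hω => ?_, ?_⟩, fun g hg => ?_⟩
  · have hdω : d a ω = 0 := hω
    have hKF : Groth.Agent.LogPoly.K (Groth.Agent.LogPoly.C b r a ω) = 0 := by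
      rw [← Groth.Agent.LogPoly.C_d hL d hlog, hdω, map_zero]
    obtain ⟨q, hq⟩ := Groth.Agent.LogPoly.exists_q (n := n) (R := R) p
    have hF : Groth.Agent.LogPoly.C b r a ω =
        Groth.Agent.LogPoly.K (Groth.Agent.LogPoly.H q (Groth.Agent.LogPoly.C b r a ω)) +
          Groth.Agent.LogPoly.Z p (Groth.Agent.LogPoly.C b r a ω) := by
      funext s
      have h := Groth.Agent.LogPoly.K_H_add_H_K q (Groth.Agent.LogPoly.C b r a ω) s
      have h0 : Groth.Agent.LogPoly.H q (0 : Groth.Agent.LogPoly.Fun n R) s = 0 := by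
        simp [Groth.Agent.LogPoly.H]
      rw [hKF, h0, add_zero] at h
      rw [Pi.add_apply, h]
      simp only [hq, Groth.Agent.LogPoly.Z]
      ext M
      simp only [Groth.Agent.LogPoly.scaleHom, AddMonoidHom.mk'_apply, MvPolynomial.coeff_add,
        Groth.Agent.LogPoly.coeff_scale]
      ring
    obtain ⟨g, hg⟩ := Groth.Agent.LogPoly.exists_expand_eq p a
      (Groth.Agent.LogPoly.adm_C (r := r) b a ω)
    have hCθ : Groth.Agent.LogPoly.C b r a
        (∑ s ∈ Finset.powersetCard a Finset.univ, MvPolynomial.expand p (g s) • e s) =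
        Groth.Agent.LogPoly.Z p (Groth.Agent.LogPoly.C b r a ω) := by
      funext u
      rw [hθ]
      split_ifs with hu
      · exact hg u hu
      · ext M
        rw [MvPolynomial.coeff_zero]
        by_contra hne
        exact hu (Groth.Agent.LogPoly.adm_Z p a (Groth.Agent.LogPoly.adm_C b a ω) u M
          (Ne.symm hne)).1
    refine ⟨g, ω - ∑ s ∈ Finset.powersetCard a Finset.univ, MvPolynomial.expand p (g s) • e s, ?_,
      (sub_add_cancel _ _).symm⟩
    cases a with
    | zero =>
        rw [Groth.Agent.LogPoly.H_eq_zero q (Groth.Agent.LogPoly.adm_C b 0 ω), map_zero, zero_add,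
          ← hCθ] at hF
        rw [← Groth.Agent.LogPoly.C_injective b 0 hF, sub_self]
        exact Submodule.zero_mem _
    | succ a =>
        obtain ⟨η, hη⟩ := Groth.Agent.LogPoly.exists_C_eq b a _
          (Groth.Agent.LogPoly.adm_H q (Groth.Agent.LogPoly.adm_C (r := r) b (a + 1) ω))
        refine ⟨η, Groth.Agent.LogPoly.C_injective b (a + 1) (r := r) ?_⟩
        rw [Groth.Agent.LogPoly.C_d hL d hlog, hη, map_sub, hCθ]
        exact eq_sub_of_add_eq hF.symm
  · rintro ⟨g, η, hη, rfl⟩
    show d a _ = 0
    rw [map_add]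
    have h1 : d a η = 0 := by
      cases a with
      | zero => rw [(Submodule.mem_bot R).1 hη, map_zero]
      | succ a =>
          obtain ⟨x, rfl⟩ := hη
          exact LinearMap.congr_fun (hd.2 a) x
    rw [h1, zero_add]
    refine Groth.Agent.LogPoly.C_injective b (a + 1) (r := r) ?_
    rw [Groth.Agent.LogPoly.C_d hL d hlog, ← hZθ, Groth.Agent.LogPoly.K_Z, map_zero]
  · intro s hs
    have h0 : Groth.Agent.LogPoly.C b r a
        (∑ s ∈ Finset.powersetCard a Finset.univ, MvPolynomial.expand p (g s) • e s) = 0 := by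
      rw [← hZθ]
      cases a with
      | zero =>
          rw [(Submodule.mem_bot R).1 hg, map_zero]
          funext u
          exact map_zero _
      | succ a =>
          obtain ⟨x, hx⟩ := hg
          rw [← hx, Groth.Agent.LogPoly.C_d hL d hlog, Groth.Agent.LogPoly.Z_K]
    have h1 := congrFun h0 s
    rw [hθ, if_pos (Finset.mem_powersetCard.1 hs).2, Pi.zero_apply] at h1
    have h2 := (MvPolynomial.expand_eq_zero (Fact.out : p.Prime).pos).1 h1
    ext M
    have h3 := congrArg (MvPolynomial.coeff (M + Groth.Agent.LogPoly.ind r s)) h2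
    simpa [Groth.Agent.LogPoly.pi', MvPolynomial.coeff_mul_monomial] using h3

end Groth.Agent.S16744
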