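import Groth.Statements.S16752
import Groth.Agent.S0404
import Groth.Agent.S0002
import Groth.Agent.AbVarLib.H0Field
import Groth.Agent.Cube.Seesaw
import Groth.Agent.QCoh.Pullback
import Groth.Agent.Props.QFP
import Groth.Agent.CBC.LocusBC
import Groth.Agent.Props.AffineCritFT

set_option backward.isDefEq.respectTransparency false
set_option backward.isDefEq.respectTransparency.types false

set_option autoImplicit false
universe u
open CurvSt

namespace Groth.Agent.S16752

open Groth.Agent CategoryTheory CategoryTheory.Limits AlgebraicGeometry in
/-- Let f : X → S be a flat, proper morphism of schemes, locally of finite presentation, all of whose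
fibres have dimension at most one (a family of curves whose total space is a scheme). Then the set
of points s of S such that the fibre X_s has dimension one and dim_{κ(s)} H^0(X_s, O_{X_s}) = 1 (the
conditions under which the genus of X_s is defined) is open in S. The source allows the total space
to be an algebraic space and phrases the result as the existence of an open substack of the stack of
curves with this membership condition. -/
theorem result (X S : Scheme.{u}) (f : X ⟶ S)
    [Flat f] [IsProper f] [LocallyOfFinitePresentation f]
    (hdim : ∀ s : S, topologicalKrullDim ↥(f.fiber s) ≤ 1) :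
    IsOpen {s : S | topologicalKrullDim ↥(f.fiber s) = 1 ∧
      Models.hRank ↥(S.residueField s) (f.fiber s) (f.fiberToSpecResidueField s)
        (Coh.structureModule (f.fiber s)) 0 = 1} := by
  haveI hq : (Coh.structureModule X).IsQuasicoherent := ProjTwist.isQuasicoherent_structureModule X
  have hfl : FlatMod.IsFlatOver f (Coh.structureModule X) :=
    Cube.Seesaw.isFlatOver_of_invertible f (PicLoc.isInvertible_structureModule X)
  have hF : CohB1.IsFP (Coh.structureModule X) := by
    refine (Props.QFP.isFP_iff _).2 fun U _ => ?_
    exact inferInstanceAs (Module.FinitePresentation Γ(X, U) Γ(X, U))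
  have hrank : ∀ s : S, Models.hRank ↥(S.residueField s) (f.fiber s) (f.fiberToSpecResidueField s)
      (Coh.structureModule (f.fiber s)) 0 = CohIII.fiberRank f (Coh.structureModule X) 0 s := by
    intro s
    letI : (f.fiber s).Over (Spec (CommRingCat.of ↥(S.residueField s))) := ⟨f.fiberToSpecResidueField s⟩
    let φ : CohIII.fiberMod f (Coh.structureModule X) s ≅ Coh.structureModule (f.fiber s) :=
      QCoh.pullbackUnitIso (f.fiberι s)
    let E : CohIII.fiberH f (Coh.structureModule X) s 0 ≃ₗ[S.residueField s]
        Coh.HH (f.fiber s) (Coh.structureModule (f.fiber s)) 0 :=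
      { (CohLin.hIso φ 0).toAddEquiv with
        map_smul' := fun r x => map_smul (CohLin.hIso φ 0) (Coh.toGlobal (f.fiberToSpecResidueField s) r) x }
    exact E.finrank_eq.symm
  convert (Groth.Agent.S0404.result f 0).inter (CBC.Locus.isOpen_upLocus (r := 1) hfl hF) using 1
  ext s
  simp only [Set.mem_setOf_eq, Set.mem_inter_iff, CBC.Locus.upLocus, ← hrank]
  refine ⟨fun ⟨h1, h2⟩ => ⟨by rw [h1]; exact zero_lt_one, h2.le⟩, fun ⟨h1, h2⟩ => ⟨?_, le_antisymm h2 ?_⟩⟩
  · refine le_antisymm (hdim s) ?_
    revert h1
    generalize topologicalKrullDim ↥(f.fiber s) = d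
    intro h1
    induction d using WithBot.recBotCoe with
    | bot => simp at h1
    | coe d => exact WithBot.coe_le_coe.2 (Order.one_le_iff_pos.2 (WithBot.coe_lt_coe.1 h1))
  · letI : (f.fiber s).Over (Spec (CommRingCat.of ↥(S.residueField s))) := ⟨f.fiberToSpecResidueField s⟩
    haveI : IsProper (f.fiber s ↘ Spec (CommRingCat.of ↥(S.residueField s))) :=
      show IsProper (pullback.snd f (S.fromSpecResidueField s)) from inferInstance
    haveI : IsLocallyNoetherian (f.fiber s) :=
      LocallyOfFiniteType.isLocallyNoetherian (f.fiber s ↘ Spec (CommRingCat.of ↥(S.residueField s)))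
    haveI := Groth.Agent.S0002.result (↥(S.residueField s)) (f.fiber s) _
      (Props.AffineCritFT.isCoh_structureModule (X := f.fiber s)) 0
    haveI : Nonempty ↥(f.fiber s) := by
      by_contra hne
      rw [not_nonempty_iff] at hne
      haveI : IsEmpty (TopologicalSpace.IrreducibleCloseds ↥(f.fiber s)) :=
        ⟨fun T => hne.elim T.isIrreducible'.nonempty.some⟩
      rw [topologicalKrullDim, Order.krullDim_eq_bot] at h1
      simp at h1
    haveI : Nontrivial (Coh.Γtop (f.fiber s)) :=
      show Nontrivial Γ(f.fiber s, ⊤) from @Scheme.component_nontrivial _ (⊤ : (f.fiber s).Opens) ⟨⟨Classical.arbitrary _, trivial⟩⟩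
    haveI : Nontrivial (Coh.HH (f.fiber s) (Coh.structureModule (f.fiber s)) 0) :=
      (AbVarLib.H0Field.h0Equiv (f.fiber s)).toEquiv.nontrivial
    exact Module.finrank_pos

end Groth.Agent.S16752
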