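import Groth.Statements.S16754
import Groth.Agent.FFCurve.CanonicalEmbed

set_option autoImplicit false
universe u
open CurvSt

namespace Groth.Agent.S16754

open CategoryTheory CategoryTheory.Limits AlgebraicGeometry in
/-- Let k be a field and X a scheme which is proper and smooth over k and of dimension one. Then the
following are equivalent: dim_k H^0(X, O_X) = 1 (the ground field is the ring of global functions);
X is geometrically connected over k; X is geometrically integral over k. (The remaining conditions
of the source concern membership in an open substack of the stack of curves and are not stated.) -/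
theorem result (k : Type u) [Field k]
    (X : Scheme.{u}) [X.Over (Spec (CommRingCat.of k))] [IsProper (X ↘ Spec (CommRingCat.of k))]
    [Smooth (X ↘ Spec (CommRingCat.of k))] (hdim : topologicalKrullDim ↥X = 1) :
    (Module.finrank k (Coh.HH X (Coh.structureModule X) 0) = 1 ↔ GeometricallyConnected (X ↘ Spec (CommRingCat.of k))) ∧
      (GeometricallyConnected (X ↘ Spec (CommRingCat.of k)) ↔ GeometricallyIntegral (X ↘ Spec (CommRingCat.of k))) := by
  haveI : Nonempty X := by
    by_contra h
    haveI := not_nonempty_iff.1 h
    haveI : IsEmpty (TopologicalSpace.IrreducibleCloseds X) := ⟨fun Z => by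
      obtain ⟨x, -⟩ := Z.isIrreducible'.nonempty
      exact IsEmpty.false x⟩
    rw [topologicalKrullDim, Order.krullDim_eq_bot] at hdim
    exact absurd hdim (by simp)
  refine ⟨⟨fun h => FFCurve.OmegaBC.geometricallyConnected k h, fun h => ?_⟩, ⟨fun h => ?_, fun h => ?_⟩⟩
  · haveI := h
    exact FFCurve.OmegaBC.finrank_structure k hdim
  · haveI := h
    exact FFCurve.geometricallyIntegral (X := X) k
  · refine ⟨fun K _ y Z fst snd hZ => ?_⟩
    haveI : IsIntegral Z := h.geometrically_isIntegral y fst snd hZ
    exact inferInstanceAs (ConnectedSpace Z)

end Groth.Agent.S16754
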