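import Groth.Statements.S16761
import Groth.Agent.CBC.Deg0Thms

set_option autoImplicit false
universe u
open Coherent

namespace Groth.Agent.S16761

open AlgebraicGeometry CategoryTheory CategoryTheory.Limits in
/-- Let f : X → S be proper and of finite presentation, F an O_X-module of finite presentation which is
flat over S, and d a natural number with dim X_s ≤ d for all s. Then the set S' of points s with
H^j(X_s, F_s) = 0 for all j ≥ 1 is open, and over every open U ⊆ S' the sheaves R^j f_* F (j ≥ 1)
restrict to zero, f_* F restricts to a finite locally free module, and the formation of f_* F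
commutes with base change: for every cartesian square with base a morphism g : T → S whose image
lies in U, with f' : X ×_S T → T and g' : X ×_S T → X the projections, the base change map g^* f_* F
→ f'_* g'^* F is an isomorphism. (The published statement asks only that f be proper; without finite
presentation the assertions on f_* F fail — for a finite flat morphism which is not of finite
presentation and F = O_X the direct image f_* O_X need not be finite locally free — and the argument
runs through cohomology and base change for morphisms of finite presentation, so f is taken of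
finite presentation here. Higher direct images are right derived functors of f_* on O_X-modules,
with injective resolutions carried as an instance argument.) -/
theorem result {X S : Scheme.{u}} (f : X ⟶ S)
    [IsProper f] [LocallyOfFinitePresentation f] [HasInjectiveResolutions X.Modules]
    (F : X.Modules) (hF : CohB1.IsFP F) (hfl : FlatMod.IsFlatOver f F)
    (d : ℕ) (hd : ∀ s : S, topologicalKrullDim ↥(f.fiber s) ≤ d) :
    IsOpen {s : S | ∀ j : ℕ, 1 ≤ j → Subsingleton (CohIII.fiberH f F s j)} ∧
      ∀ U : S.Opens, (U : Set S) ⊆ {s : S | ∀ j : ℕ, 1 ≤ j → Subsingleton (CohIII.fiberH f F s j)} →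
        (∀ j : ℕ, 1 ≤ j → IsZero (((Coh.Rpush f j).obj F).restrict U.ι)) ∧
          FlatMod.IsFinLocFree (((Coh.push f).obj F).restrict U.ι) ∧
            ∀ (T X' : Scheme.{u}) (g : T ⟶ S) (f' : X' ⟶ T) (g' : X' ⟶ X) (hsq : IsPullback g' f' f g),
              Set.range g.base ⊆ (U : Set S) → IsIso (CohBC.bc0 f g f' g' hsq.w F) := by
  haveI := Groth.Agent.CBC.isQuasicoherent_of_fp hF
  refine ⟨?_, fun U hU => ⟨fun j hj => Groth.Agent.CBC.isZero_Rpush_restrict hF hfl fun y hy => hU hy j hj,
    Groth.Agent.CBC.isFinLocFree_restrict fun y hy => ?_, fun T X' g f' g' hsq hg =>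
      Groth.Agent.CBC.isIso_bc0_of_rExact hsq fun z => ?_⟩⟩
  · have e : {s : S | ∀ j : ℕ, 1 ≤ j → Subsingleton (CohIII.fiberH f F s j)} =
        ⋂ j ∈ Finset.Icc 1 d, {s : S | Subsingleton (CohIII.fiberH f F s j)} := by
      ext s
      simp only [Set.mem_iInter, Finset.mem_Icc, Set.mem_setOf_eq]
      refine ⟨fun h j hj => h j hj.1, fun h j hj => ?_⟩
      by_cases hjd : j ≤ d
      · exact h j ⟨hj, hjd⟩
      · exact Groth.Agent.CBC.subsingleton_fiberH_of_dim (hd s) (by omega)
    rw [e]
    exact isOpen_biInter_finset fun j _ => Groth.Agent.CBC.isOpen_setOf_subsingleton_fiberH hF hfl j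
  · obtain ⟨N, hyN, -, hR⟩ :=
      Groth.Agent.CBC.exists_rExact_zero_of_fibres hF hfl U (fun z hz => hU hz 1 le_rfl) hy
    exact N.exists_free_nhd₀ hfl hR y hyN
  · obtain ⟨N, hzN, -, hR⟩ :=
      Groth.Agent.CBC.exists_rExact_zero_of_fibres hF hfl U (fun z hz => hU hz 1 le_rfl) (hg ⟨z, rfl⟩)
    exact ⟨N, hzN, hR⟩

end Groth.Agent.S16761
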