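import Groth.Statements.S16762
-- import your own Groth.Agent.* helpers here

set_option autoImplicit false
universe u
open CAlgX

namespace Groth.Agent.S16762

/-- Let A → A' be faithfully flat and u : M → N a map of A-modules. Then u is universally injective (u ⊗
id_Q injective for every A-module Q) if and only if its base change A' ⊗_A M → A' ⊗_A N is
universally injective as a map of A'-modules. -/
theorem result (A A' : Type u) [CommRing A] [CommRing A']
    [Algebra A A'] [Module.FaithfullyFlat A A'] {M N : Type u} [AddCommGroup M] [Module A M]
    [AddCommGroup N] [Module A N] (u : M →ₗ[A] N) :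
    CAlgX.UniversallyInjective A u ↔ CAlgX.UniversallyInjective A' (u.baseChange A') := by
  constructor
  · intro h Q _ _
    letI : Module A Q := Module.compHom Q (algebraMap A A')
    haveI : IsScalarTower A A' Q := IsScalarTower.of_algebraMap_smul fun _ _ => rfl
    rw [← LinearMap.lTensor_inj_iff_rTensor_inj]
    have hQ : Function.Injective (u.lTensor Q) :=
      (LinearMap.lTensor_inj_iff_rTensor_inj _ _).2 (h Q)
    have hc : ((u.baseChange A').lTensor Q).restrictScalars A =
        ((TensorProduct.AlgebraTensorModule.cancelBaseChange A A' A' Q N).symm.toLinearMap.restrictScalars A) ∘ₗ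
          u.lTensor Q ∘ₗ
          ((TensorProduct.AlgebraTensorModule.cancelBaseChange A A' A' Q M).toLinearMap.restrictScalars A) := by
      refine LinearMap.ext fun x => ?_
      induction x with
      | zero => simp
      | add a b ha hb => simp only [map_add, ha, hb]
      | tmul q z =>
        induction z with
        | zero => simp
        | add a b ha hb => simp only [TensorProduct.tmul_add, map_add, ha, hb]
        | tmul a m =>
          simp only [LinearMap.coe_restrictScalars, LinearMap.lTensor_tmul, LinearMap.baseChange_tmul,
            LinearMap.coe_comp, LinearEquiv.coe_coe, Function.comp_apply,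
            TensorProduct.AlgebraTensorModule.cancelBaseChange_tmul,
            TensorProduct.AlgebraTensorModule.cancelBaseChange_symm_tmul]
          rw [TensorProduct.smul_tmul, TensorProduct.smul_tmul', smul_eq_mul, mul_one]
    have : Function.Injective (((u.baseChange A').lTensor Q).restrictScalars A) := by
      rw [hc]
      simp only [LinearMap.coe_comp, LinearMap.coe_restrictScalars, LinearEquiv.coe_coe]
      exact (LinearEquiv.injective _).comp (hQ.comp (LinearEquiv.injective _))
    exact this
  · intro h Q _ _
    rw [← LinearMap.lTensor_inj_iff_rTensor_inj]
    have hQ := (LinearMap.lTensor_inj_iff_rTensor_inj _ _).2 (h (TensorProduct A A' Q))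
    apply (Module.FaithfullyFlat.lTensor_injective_iff_injective A A' (u.lTensor Q)).1
    have hc : ((u.lTensor Q).baseChange A') =
        (TensorProduct.AlgebraTensorModule.distribBaseChange A A' Q N).symm.toLinearMap ∘ₗ
          (u.baseChange A').lTensor (TensorProduct A A' Q) ∘ₗ
          (TensorProduct.AlgebraTensorModule.distribBaseChange A A' Q M).toLinearMap := by
      ext q m
      simp
    have h2 : Function.Injective ((u.lTensor Q).baseChange A') := by
      rw [hc]
      simp only [LinearMap.coe_comp, LinearEquiv.coe_coe]
      exact (LinearEquiv.injective _).comp (hQ.comp (LinearEquiv.injective _))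
    rwa [LinearMap.baseChange_eq_ltensor] at h2

end Groth.Agent.S16762
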