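import Groth.Statements.S16771
import Groth.Agent.HomSch.HomGrp
-- import your own Groth.Agent.* helpers here

set_option autoImplicit false
open CategoryTheory MonoidalCategory CartesianMonoidalCategory MonObj GrpObj AlgebraicGeometry
universe u
open SGA3x

namespace Groth.Agent.S16771

/-- Let G be an affine group scheme of finite presentation over a scheme S, Y ⊆ G a closed subscheme
which is finite, flat and of finite presentation over S, and Y' ⊆ G a closed subscheme of finite
presentation over S. Then the transporter of Y into Y' (points g of G such that g y g⁻¹ is a point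
of Y' for every point y of Y after any base change) is representable by a closed subscheme of G of
finite presentation over S. -/
theorem result {S : Scheme.{u}} (G Y Y' : Over S) [GrpObj G]
    (hGa : IsAffineHom G.hom) (hGfp : LocallyOfFinitePresentation G.hom)
    (y : Y ⟶ G) (hy : IsClosedImmersion y.left) (hYf : IsFinite Y.hom) (hYfl : Flat Y.hom)
    (hYfp : LocallyOfFinitePresentation Y.hom)
    (y' : Y' ⟶ G) (hy' : IsClosedImmersion y'.left) (hY'fp : LocallyOfFinitePresentation Y'.hom) :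
    ∃ (C : Over S) (c : C ⟶ G), IsClosedImmersion c.left ∧ LocallyOfFinitePresentation C.hom ∧
      ∀ (X : Over S) (g : X ⟶ G), (∃ z : X ⟶ C, z ≫ c = g) ↔
        ∀ (X' : Over S) (x : X' ⟶ X) (a : X' ⟶ Y), ∃ a' : X' ⟶ Y', (x ≫ g) * (a ≫ y) * (x ≫ g)⁻¹ = a' ≫ y' := by
  have := hGa
  have := hGfp
  have := hy'
  have := hY'fp
  have := hYf
  have := hYfl
  have := hYfp
  have : IsAffineHom Y'.hom := by rw [← Over.w y']; infer_instance
  obtain ⟨M1, ev1, hM1a, hM1t, hM1p, hM1⟩ := Groth.Agent.HomSch.exists_homScheme Y G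
  obtain ⟨M2, ev2, hM2a, hM2t, hM2p, hM2⟩ := Groth.Agent.HomSch.exists_homScheme Y Y'
  let f : Y ⊗ G ⟶ G := snd Y G * (fst Y G ≫ y) * (snd Y G)⁻¹
  obtain ⟨s, hs, -⟩ := hM1 G f
  obtain ⟨π, hπ, -⟩ := hM1 M2 (ev2 ≫ y')
  let C := Limits.pullback s π
  let c : C ⟶ G := Limits.pullback.fst s π
  have hf : ∀ {T : Over S} (g : T ⟶ G) {X' : Over S} (x : X' ⟶ T) (a : X' ⟶ Y),
      lift a x ≫ (Y ◁ g) ≫ f = (x ≫ g) * (a ≫ y) * (x ≫ g)⁻¹ := fun g X' x a => by
    simp only [f, lift_whiskerLeft_assoc, MonObj.comp_mul, GrpObj.comp_inv, lift_snd, lift_fst_assoc]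
  have hC : ∀ (X : Over S) (g : X ⟶ G), (∃ z : X ⟶ C, z ≫ c = g) ↔
        ∀ (X' : Over S) (x : X' ⟶ X) (a : X' ⟶ Y), ∃ a' : X' ⟶ Y', (x ≫ g) * (a ≫ y) * (x ≫ g)⁻¹ = a' ≫ y' := by
    intro X g
    constructor
    · rintro ⟨z, rfl⟩ X' x a
      let m := z ≫ Limits.pullback.snd s π
      refine ⟨lift a x ≫ (Y ◁ m) ≫ ev2, ?_⟩
      rw [← hf (z ≫ c) x a, ← hs, Category.assoc, Category.assoc, ← hπ]
      simp only [lift_whiskerLeft_assoc, m, c, Category.assoc, Limits.pullback.condition]
    · intro h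
      obtain ⟨a', ha'⟩ := h (Y ⊗ X) (snd Y X) (fst Y X)
      obtain ⟨m, hm, -⟩ := hM2 X a'
      refine ⟨Limits.pullback.lift g m ?_, Limits.pullback.lift_fst _ _ _⟩
      refine (hM1 X (a' ≫ y')).unique ?_ ?_
      · show (Y ◁ (g ≫ s)) ≫ ev1 = a' ≫ y'
        rw [whiskerLeft_comp, Category.assoc, hs, ← ha', ← hf g (snd Y X) (fst Y X), lift_fst_snd, Category.id_comp]
      · show (Y ◁ (m ≫ π)) ≫ ev1 = a' ≫ y'
        rw [whiskerLeft_comp, Category.assoc, hπ, ← Category.assoc, hm]
  have hMy : Mono y' := Over.mono_of_mono_left y'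
  -- the closed subscheme with the same points
  let E := Limits.pullback ((β_ G Y).hom ≫ f).left y'.left
  let e : E ⟶ (G ⊗ Y).left := Limits.pullback.fst ((β_ G Y).hom ≫ f).left y'.left
  obtain ⟨Z, i, hi, hZ⟩ := Groth.Agent.GrpScheme.ClosedRepProd.exists_closed G.hom Y.hom e
    (Groth.Agent.HomSch.locallyFree Y.hom)
  let Zo : Over S := Over.mk (i ≫ G.hom)
  let io : Zo ⟶ G := Over.homMk i rfl
  have hZC : ∀ (X : Over S) (g : X ⟶ G), (∃ z : X ⟶ Zo, z ≫ io = g) ↔ ∃ z : X ⟶ C, z ≫ c = g := by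
    intro X g
    rw [hC]
    constructor
    · rintro ⟨z, rfl⟩ X' x a
      have hcond := (hZ X.left (z ≫ io).left).mpr ⟨z.left, rfl⟩
      let q : X' ⟶ G ⊗ Y := lift (x ≫ z ≫ io) a
      obtain ⟨l, hl⟩ := hcond q.left x.left (congrArg CommaMorphism.left (lift_fst (x ≫ z ≫ io) a))
      let a' : X' ⟶ Y' := Over.homMk (l ≫ Limits.pullback.snd ((β_ G Y).hom ≫ f).left y'.left) (by
        rw [← Over.w y', Category.assoc, ← Limits.pullback.condition_assoc, reassoc_of% hl]
        show q.left ≫ ((β_ G Y).hom ≫ f).left ≫ G.hom = _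
        rw [Over.w, Over.w])
      refine ⟨a', ?_⟩
      have e1 : q ≫ (β_ G Y).hom ≫ f = a' ≫ y' := by
        apply Over.OverMorphism.ext
        show q.left ≫ ((β_ G Y).hom ≫ f).left = (l ≫ Limits.pullback.snd _ _) ≫ y'.left
        rw [Category.assoc, ← Limits.pullback.condition, reassoc_of% hl]
      rw [← e1, ← hf (z ≫ io) x a]
      simp [q, lift_whiskerLeft_assoc]
    · intro h
      have hcond : Groth.Agent.GrpScheme.ClosedRepProd.Cond G.hom Y.hom e g.left := by
        intro Q q q' hq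
        let Qo : Over S := Over.mk (q' ≫ X.hom)
        let x : Qo ⟶ X := Over.homMk q' rfl
        let a : Qo ⟶ Y := Over.homMk (q ≫ Limits.pullback.snd G.hom Y.hom) (by
          show _ = q' ≫ X.hom
          rw [Category.assoc, ← Limits.pullback.condition, reassoc_of% hq, Over.w])
        obtain ⟨a', ha'⟩ := h Qo x a
        have e1 : lift (x ≫ g) a ≫ (β_ G Y).hom ≫ f = a' ≫ y' := by
          rw [← ha', ← hf g x a]
          simp [lift_whiskerLeft_assoc]
        have e2 : (lift (x ≫ g) a).left = q := by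
          apply Limits.pullback.hom_ext
          · exact (congrArg CommaMorphism.left (lift_fst (x ≫ g) a)).trans hq.symm
          · exact congrArg CommaMorphism.left (lift_snd (x ≫ g) a)
        refine ⟨Limits.pullback.lift q a'.left ?_, Limits.pullback.lift_fst _ _ _⟩
        rw [← e2]
        exact congrArg CommaMorphism.left e1
      obtain ⟨z, hz⟩ := (hZ X.left g.left).mp hcond
      exact ⟨Over.homMk z (by show z ≫ i ≫ G.hom = _; rw [reassoc_of% hz, Over.w]), Over.OverMorphism.ext hz⟩
  have : Mono io := Over.mono_of_mono_left io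
  have hmc : Mono c := by
    have : Mono π := ⟨fun {T} a b h => by
      refine (hM2 T ((Y ◁ b) ≫ ev2)).unique ?_ rfl
      have h' := congrArg (fun v => (Y ◁ v) ≫ ev1) h
      simp only [whiskerLeft_comp, Category.assoc, hπ] at h'
      rw [← Category.assoc, ← Category.assoc, cancel_mono y'] at h'
      exact h'⟩
    infer_instance
  obtain ⟨u, hu⟩ := (hZC C c).mpr ⟨𝟙 C, Category.id_comp c⟩
  obtain ⟨v, hv⟩ := (hZC Zo io).mp ⟨𝟙 Zo, Category.id_comp io⟩
  refine ⟨Zo, io, hi, ?_, fun X g => (hZC X g).trans (hC X g)⟩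
  have : LocallyOfFiniteType G.hom := inferInstance
  have := hM1t inferInstance
  have := hM1p hGfp
  have := hM2p hY'fp
  have hπp : LocallyOfFinitePresentation π.left := by
    have : LocallyOfFinitePresentation (π.left ≫ M1.hom) := by rw [Over.w π]; infer_instance
    exact Groth.Agent.GrpScheme.FlatFib.locallyOfFinitePresentation_of_comp π.left M1.hom
  have hcp : LocallyOfFinitePresentation c.left :=
    MorphismProperty.of_isPullback ((IsPullback.of_hasPullback s π).map (Over.forget S)).flip hπp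
  have : IsIso v := ⟨u, by rw [← cancel_mono io, Category.assoc, hu, hv, Category.id_comp],
    by rw [← cancel_mono c, Category.assoc, hv, hu, Category.id_comp]⟩
  have : IsIso v.left := ((Over.forget S).mapIso (asIso v)).isIso_hom
  rw [← Over.w io, show io = v ≫ c from hv.symm, Over.comp_left]
  infer_instance

end Groth.Agent.S16771
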