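import Groth.Statements.S16774
import Groth.Agent.Borel50.Luna.Apps
import Groth.Agent.Borel50.CentralTorus
import Groth.Agent.MaxTorus.Fibre
import Groth.Agent.PurIso.Fibre
import Groth.Agent.GrpArtin.Descend
import Groth.Agent.S5247
-- import your own Groth.Agent.* helpers here

set_option autoImplicit false
open CategoryTheory MonoidalCategory CartesianMonoidalCategory MonObj GrpObj AlgebraicGeometry
universe u
open Red

namespace Groth.Agent.S16774

set_option backward.isDefEq.respectTransparency false

variable {S : Scheme.{u}}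

open Groth.Agent CategoryTheory.Limits

lemma isPullback_map {S' : Scheme.{u}} (p : S' ⟶ S) {T Z : Over S} (f : T ⟶ Z) :
    IsPullback (pullback.fst T.hom p) ((Over.pullback p).map f).left f.left (pullback.fst Z.hom p) := by
  refine IsPullback.of_bot ?_ ?_ (IsPullback.of_hasPullback Z.hom p)
  · have h1 : ((Over.pullback p).map f).left ≫ pullback.snd Z.hom p = pullback.snd T.hom p :=
      Over.w ((Over.pullback p).map f)
    rw [h1, Over.w f]
    exact IsPullback.of_hasPullback T.hom p
  · exact (pullback.lift_fst _ _ _).symm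

/-- A torus equal to its centraliser is not contained in a bigger torus. -/
lemma maximal_of_self {k : Type u} [Field k] {G T T' : Over (Spec (CommRingCat.of k))} [GrpObj G] [GrpObj T]
    [GrpObj T'] (i : T ⟶ G) [Mono i] (hc : Red.IsCentralizerOf i i) (j : T' ⟶ G) [IsMonHom j] [Mono j]
    (f : T ⟶ T') (hT' : Red.IsTorus T') (hf : f ≫ j = i) : IsIso f := by
  obtain ⟨z, hz⟩ := (hc.2.2 T' j).2 fun X' x h => by
    rw [← hf, ← Category.assoc h f j, ← MonObj.mul_comp, ← MonObj.mul_comp,
      DiagRig.mul_comm_of_splitFpqc (DiagRig.splitFpqc_of_multTypeFT T' (DiagRig.multTypeFT_of_torus hT'))]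
  exact ⟨z, (cancel_mono i).1 (by rw [Category.assoc, hz, hf, Category.id_comp]),
    (cancel_mono j).1 (by rw [Category.assoc, hf, hz, Category.id_comp])⟩

/-- At a reductive geometric fibre with maximal torus the centraliser is the torus. -/
lemma isIso_of_reductive {k : Type u} [Field k] [IsAlgClosed k] {G T Z : Over (Spec (CommRingCat.of k))}
    [GrpObj G] [GrpObj T] [GrpObj Z] (hG : Red.IsReductiveOver k G) (i : T ⟶ G)
    (hi : Red.IsMaximalTorus i) (z : Z ⟶ G) (hz : Red.IsCentralizerOf i z) (f : T ⟶ Z) (hf : f ≫ z = i) :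
    IsIso f := by
  obtain ⟨him, hmono, hT, hmax⟩ := hi
  have := hG.1
  have := hG.2.1
  have := hG.2.2.1
  have := hz.1
  have := hz.2.1
  have := Borel50.FixedPt.qc_G G
  have := GrpScheme.HomFlat.isReduced_of_smooth G.hom
  let s : ↥(Spec (CommRingCat.of k)) := Borel50.GeomTorus.cp k
  have := MaxTorus.isIso_geomPt s
  have hAGF : AGF.IsMaxTorus i := by
    refine ⟨him, hmono, hT, fun T' _ j _ _ g hT' hg => ?_⟩
    let q := Red.geomPt s
    have := DiagRig.isMonHom_bcMap q j
    have := hmax s (Red.bc q T') ((Over.pullback q).map j) ((Over.pullback q).map g)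
      (AbSch51.TorusToProper.isTorus_bc q hT') (by rw [← Functor.map_comp, hg])
    have hl : IsIso ((Over.pullback q).map g).left := inferInstanceAs (IsIso ((Over.forget _).map ((Over.pullback q).map g)))
    have h1 := (isPullback_map q g).w
    have : IsIso (pullback.fst T.hom q ≫ g.left) := by rw [h1]; infer_instance
    have : IsIso g.left := IsIso.of_isIso_comp_left (pullback.fst T.hom q) _
    have : IsIso ((Over.forget _).map g) := this
    exact isIso_of_reflects_iso g (Over.forget _)
  have hself := Borel50.Luna.centralizer_eq_self hG i hAGF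
  obtain ⟨hZs, hZc⟩ := Borel50.OverField.smooth_centralizer i hT z hz
  have := GrpScheme.HomFlat.isReduced_of_smooth Z.hom
  have := Borel50.Lin.Torus.isClosedImmersion_of_torus i hT
  rw [← Borel50.Centralizer.range_eq_centralizer i hT z hz] at hself
  obtain ⟨b, hb⟩ := Borel50.Pts.factor_of_points z i fun w => by
    obtain ⟨y, hy⟩ := hself.le (show w ≫ z ∈ _ from ⟨w, rfl⟩)
    exact Borel50.Pts.mem_range_of_factor hy
  exact ⟨b, (cancel_mono i).1 (by rw [Category.assoc, hb, hf, Category.id_comp]),
    (cancel_mono z).1 (by rw [Category.assoc, hf, hb, Category.id_comp])⟩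

/-- Let G be a smooth affine group scheme with connected fibres over a scheme S, T ⊆ G a subtorus with
centralizer Z = Z_G(T) ⊇ T, and s ∈ S a point at which the geometric fibre of G is reductive and the
geometric fibre of T is a maximal torus. Then over some open neighbourhood U of s the inclusion T →
Z_G(T) is an isomorphism and T is a maximal torus of G. (The published statement allows disconnected
fibres and concerns identity components; here the fibres of G are connected.) -/
theorem result {S : Scheme.{u}} {G T Z : Over S} [GrpObj G] [GrpObj T] [GrpObj Z]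
    (hG : Smooth G.hom) (hGa : IsAffineHom G.hom) (hconn : ∀ s : S, _root_.IsConnected (G.hom.base ⁻¹' {s}))
    (i : T ⟶ G) [IsMonHom i] [Mono i] (hT : Red.IsTorus T) (z : Z ⟶ G) (hz : Red.IsCentralizerOf i z)
    (f : T ⟶ Z) (hf : f ≫ z = i) (s : S)
    (hs : Red.IsReductiveOver (AlgebraicClosure (S.residueField s)) (Red.geomFibre s G))
    (hTs : Red.IsMaximalTorus ((Over.pullback (Red.geomPt s)).map i)) :
    ∃ U : S.Opens, s ∈ U ∧ IsIso ((Over.pullback U.ι).map f) ∧ Red.IsMaximalTorus ((Over.pullback U.ι).map i) := by
  open Groth.Agent in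
  exact (by
    have := hG
    have := hGa
    have := hz.2.1
    have := hz.1
    obtain ⟨Z₀, _, z₀, hz₀, hz₀c, hz₀s⟩ := S5247.result T G (DiagRig.multTypeFT_of_torus hT) hG hGa i
    have := hz₀.2.1
    obtain ⟨a, ha⟩ := (hz₀.2.2 Z z).2 ((hz.2.2 Z z).1 ⟨𝟙 Z, Category.id_comp _⟩)
    obtain ⟨a', ha'⟩ := (hz.2.2 Z₀ z₀).2 ((hz₀.2.2 Z₀ z₀).1 ⟨𝟙 Z₀, Category.id_comp _⟩)
    have : IsIso a := ⟨a', by rw [← cancel_mono z, Category.assoc, ha', ha, Category.id_comp],
      by rw [← cancel_mono z₀, Category.assoc, ha, ha', Category.id_comp]⟩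
    have : IsIso a.left := inferInstanceAs (IsIso ((Over.forget _).map a))
    have hzc : IsClosedImmersion z.left := by rw [← ha, Over.comp_left]; infer_instance
    have hZs : Smooth Z.hom := by rw [← Over.w a]; infer_instance
    have hZa : IsAffineHom Z.hom := by rw [← Over.w z]; infer_instance
    have hfm : IsMonHom f := DiagRig.isMonHom_of_pts _ fun Y x y => by
      rw [← cancel_mono z, Category.assoc, hf, MonObj.mul_comp, MonObj.mul_comp, Category.assoc, Category.assoc, hf]
    have hTM := DiagRig.multTypeFT_of_torus hT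
    have := DiagRig.multType_isAffineHom T hTM
    have hTf : Flat T.hom := DiagRig.multType_flat T hTM
    have hTp : LocallyOfFinitePresentation T.hom := DiagRig.multType_locallyOfFinitePresentation T hTM
    have : Flat (f.left ≫ Z.hom) := by rw [Over.w f]; infer_instance
    have : LocallyOfFinitePresentation (f.left ≫ Z.hom) := by rw [Over.w f]; infer_instance
    -- the fibre at `s`
    let gs := Red.geomPt s
    have := DiagRig.isMonHom_bcMap gs i
    have := DiagRig.isMonHom_bcMap gs z
    have hiso := isIso_of_reductive hs _ hTs _ (MaxTorus.isCentralizerOf_bc gs i z hz) ((Over.pullback gs).map f)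
      (by rw [← Functor.map_comp, hf])
    have descend : ∀ {S' : Scheme.{u}} (p : S' ⟶ S) (y : S'), IsIso ((Over.pullback p).map f).left →
        IsIso (MoreMor.fiberMap f.left Z.hom (p y)) := fun p y h => by
      have := h
      refine PurIso.isIso_fmap_of_baseChange (IsPullback.of_hasPullback Z.hom p) (isPullback_map p f) y ?_
      exact MorphismProperty.of_isPullback (P := MorphismProperty.isomorphisms Scheme.{u})
        (ConsPropLib.isPullback_fiberMap _ _ y) h
    have hps : ∀ (t : S) (y), Red.geomPt t y = t := fun t y => by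
      show S.fromSpecResidueField t (Spec.map _ y) = t
      exact Scheme.fromSpecResidueField_apply t _
    have hs0 : IsIso (MoreMor.fiberMap f.left Z.hom s) := by
      have := descend gs (Classical.arbitrary _) (inferInstanceAs (IsIso ((CategoryTheory.Over.forget _).map ((Over.pullback gs).map f))))
      rwa [hps] at this
    let V : T.left.Opens := sSup {V : T.left.Opens | Etale (V.ι ≫ f.left)}
    let e : S ⟶ T.left := (η[T]).left
    have he : e ≫ T.hom = 𝟙 S := Over.w η[T]
    have hes : e s ∈ V := by
      obtain ⟨W, hW, hWe⟩ := PurIso.exists_etale_nhd f.left Z.hom (e s) (by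
        have h1 : Z.hom (f.left (e s)) = s := by
          rw [← Scheme.Hom.comp_apply, Over.w f, ← Scheme.Hom.comp_apply, he]; rfl
        rw [h1]; exact hs0)
      exact TopologicalSpace.Opens.mem_sSup.2 ⟨W, hWe, hW⟩
    have hall : ∀ t, e t ∈ V → IsIso (MoreMor.fiberMap f.left Z.hom t) := fun t ht => by
      obtain ⟨(W : T.left.Opens), (hWe : Etale (W.ι ≫ f.left)), hW⟩ := TopologicalSpace.Opens.mem_sSup.1 ht
      let ξ := S.fromSpecResidueField t
      have := DiagRig.isMonHom_bcMap ξ i
      have := DiagRig.isMonHom_bcMap ξ z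
      have := DiagRig.isMonHom_bcMap ξ f
      have hTt := AbSch51.TorusToProper.isTorus_bc ξ hT
      have : Smooth (Red.bc ξ G).hom := inferInstanceAs (Smooth (pullback.snd G.hom ξ))
      have : Smooth (Red.bc ξ Z).hom := inferInstanceAs (Smooth (pullback.snd Z.hom ξ))
      have : IsAffineHom (Red.bc ξ G).hom := inferInstanceAs (IsAffineHom (pullback.snd G.hom ξ))
      have : IsAffine (Red.bc ξ G).left := isAffine_of_isAffineHom (Red.bc ξ G).hom
      have : ConnectedSpace (Red.bc ξ G).left := by
        refine connectedSpace_iff_univ.mpr ⟨?_, ?_⟩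
        · obtain ⟨y, hy⟩ := (hconn t).nonempty
          have hy' : y ∈ Set.range (pullback.fst G.hom ξ) := by
            rw [Scheme.Pullback.range_fst, Scheme.range_fromSpecResidueField]; exact hy
          obtain ⟨w, -⟩ := hy'
          exact ⟨w, trivial⟩
        · refine (pullback.fst G.hom ξ).isEmbedding.isInducing.isPreconnected_image.1 ?_
          rw [Set.image_univ]
          erw [Scheme.Pullback.range_fst, Scheme.range_fromSpecResidueField]
          exact (hconn t).isPreconnected
      have hct := (Borel50.GeomTorus.connectedSpace_centralizer ((Over.pullback ξ).map i) hTt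
        ((Over.pullback ξ).map z) (MaxTorus.isCentralizerOf_bc ξ i z hz)).1
      have := AbVarLib.Basics.irreducibleSpace_of_connectedSpace (Red.bc ξ Z)
      have := GrpScheme.HomFlat.isReduced_of_smooth (Red.bc ξ Z).hom
      obtain ⟨-, _, -⟩ := Borel50.CentralTorus.torus_props hTt
      let u := (Over.pullback ξ).map f
      have : Mono u := by
        have : Mono ((Over.pullback ξ).map i) := inferInstance
        exact mono_of_mono_fac (show u ≫ (Over.pullback ξ).map z = (Over.pullback ξ).map i by rw [← Functor.map_comp, hf])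
      have hu : IsClosedImmersion u.left := by
        have : IsAffineHom (Red.bc ξ T).hom := inferInstanceAs (IsAffineHom (pullback.snd T.hom ξ))
        have : IsAffineHom (Red.bc ξ Z).hom := inferInstanceAs (IsAffineHom (pullback.snd Z.hom ξ))
        have : IsAffineHom (u.left ≫ (Red.bc ξ Z).hom) := by rw [Over.w u]; infer_instance
        have : LocallyOfFiniteType (Red.bc ξ T).hom := DiagRig.multType_locallyOfFiniteType _ (DiagRig.multTypeFT_of_torus hTt)
        have : IsAffineHom u.left := IsAffineHom.of_comp u.left (Red.bc ξ Z).hom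
        exact GrpArtin.Descend.isClosedImmersion_of_mono u
      let O : Set ↥(Red.bc ξ Z).left := pullback.fst Z.hom ξ ⁻¹' Set.range (W.ι ≫ f.left)
      have hO : IsOpen O := (W.ι ≫ f.left).isOpenMap.isOpen_range.preimage (Scheme.Hom.continuous _)
      have hOsub : O ⊆ Set.range u.left := by
        rintro y ⟨w, hw⟩
        obtain ⟨x, -, hx⟩ := Scheme.exists_preimage_of_isPullback (isPullback_map ξ f) (W.ι w) y (by
          rw [← Scheme.Hom.comp_apply]; exact hw)
        exact ⟨x, hx⟩
      have hOne : O.Nonempty := by
        have h1 : Z.hom (f.left (e t)) = ξ (Classical.arbitrary _) := by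
          rw [← Scheme.Hom.comp_apply, Over.w f, ← Scheme.Hom.comp_apply, he]
          exact (Scheme.fromSpecResidueField_apply t _).symm
        obtain ⟨y, hy, -⟩ := Scheme.Pullback.exists_preimage_pullback (f.left (e t)) _ h1
        refine ⟨y, ⟨e t, hW⟩, ?_⟩
        exact hy.symm
      have : Surjective u.left := ⟨fun y => by
        have hd := hO.dense hOne
        have hcl : IsClosed (Set.range u.left) := u.left.isClosedEmbedding.isClosed_range
        exact (hcl.closure_subset_iff.2 hOsub) (hd.closure_eq ▸ Set.mem_univ y)⟩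
      have := isIso_of_isClosedImmersion_of_surjective u.left
      have h2 := descend ξ (Classical.arbitrary _) this
      rwa [Scheme.fromSpecResidueField_apply] at h2
    refine ⟨e ⁻¹ᵁ V, hes, ?_⟩
    let U := (e ⁻¹ᵁ V).ι
    have := DiagRig.isMonHom_bcMap U i
    have := DiagRig.isMonHom_bcMap U z
    have : LocallyOfFiniteType (Red.bc U Z).hom := inferInstanceAs (LocallyOfFiniteType (pullback.snd Z.hom U))
    have hwU : ((Over.pullback U).map f).left ≫ (Red.bc U Z).hom = pullback.snd T.hom U := Over.w _
    have : Flat (((Over.pullback U).map f).left ≫ (Red.bc U Z).hom) := by rw [hwU]; infer_instance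
    have : LocallyOfFinitePresentation (((Over.pullback U).map f).left ≫ (Red.bc U Z).hom) := by rw [hwU]; infer_instance
    have : IsIso ((Over.pullback U).map f).left :=
      PurIso.isIso_of_forall_fmap ((Over.pullback U).map f).left (Red.bc U Z).hom fun u =>
        PurIso.isIso_fmap_of_isIso (IsPullback.of_hasPullback Z.hom U).w.symm (isPullback_map U f) u (hall _ u.2)
    have : IsIso ((Over.forget _).map ((Over.pullback U).map f)) := this
    have hfU : IsIso ((Over.pullback U).map f) := isIso_of_reflects_iso _ (Over.forget _)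
    refine ⟨hfU, inferInstance, inferInstance, AbSch51.TorusToProper.isTorus_bc U hT, fun u T' _ j _ _ g hT' hg => ?_⟩
    have hcU := MaxTorus.isCentralizerOf_bc U i z hz
    have hcU' : Red.IsCentralizerOf ((Over.pullback U).map i) ((Over.pullback U).map i) := by
      refine ⟨inferInstance, inferInstance, fun X x => ?_⟩
      rw [← hcU.2.2 X x]
      refine ⟨fun ⟨y, hy⟩ => ⟨y ≫ (Over.pullback U).map f, by rw [Category.assoc, ← Functor.map_comp, hf, hy]⟩,
        fun ⟨y, hy⟩ => ⟨y ≫ inv ((Over.pullback U).map f), ?_⟩⟩
      rw [Category.assoc, show inv ((Over.pullback U).map f) ≫ (Over.pullback U).map i = (Over.pullback U).map z by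
        rw [IsIso.inv_comp_eq, ← Functor.map_comp, hf], hy]
    exact maximal_of_self _ (MaxTorus.isCentralizerOf_bc (Red.geomPt u) _ _ hcU') j g hT' hg)

end Groth.Agent.S16774
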