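import Groth.Statements.S16775
import Groth.Agent.RedCentre.QuotCentre

open scoped commutatorElement

set_option autoImplicit false
open CategoryTheory MonoidalCategory CartesianMonoidalCategory MonObj GrpObj AlgebraicGeometry
universe u
open SGA3x

namespace Groth.Agent.S16775

/-- Let G be a smooth affine group scheme with connected fibres over a scheme S, H ⊆ G a normal subgroup
scheme of multiplicative type (of finite type), G → Q = G/H the quotient, and H' ⊆ Q a central
subgroup scheme of multiplicative type (of finite type). Then the preimage of H' in G is a central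
subgroup scheme of G of multiplicative type. -/
theorem result {S : Scheme.{u}} {G H Q H' P : Over S}
    [GrpObj G] [GrpObj H] [GrpObj Q] [GrpObj H'] [GrpObj P]
    (hG : Smooth G.hom) (hGa : IsAffineHom G.hom) (hconn : ∀ s : S, _root_.IsConnected (G.hom.base ⁻¹' {s}))
    (i : H ⟶ G) [IsMonHom i] [Mono i] (hH : SGA3x.IsMultTypeFT H) (hHn : AlgGrp.IsNormalHom i)
    (q : G ⟶ Q) [IsMonHom q] (hq : RedSub.IsQuotient i q) (hker : AlgGrp.IsKernel i q)
    (j : H' ⟶ Q) [IsMonHom j] [Mono j] (hH' : SGA3x.IsMultTypeFT H')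
    (hcenH' : ∀ (X : Over S) (x : X ⟶ H') (g : X ⟶ Q), (x ≫ j) * g = g * (x ≫ j))
    (i' : P ⟶ G) [IsMonHom i'] (p : P ⟶ H') (hP : IsPullback i' p q j) :
    SGA3x.IsMultTypeFT P ∧ ∀ (X : Over S) (x : X ⟶ P) (g : X ⟶ G), (x ≫ i') * g = g * (x ≫ i') := by
  haveI := hG
  haveI := hGa
  haveI := RedCentre.QuotCentre.geometricallyConnected_of_fibres G hconn
  haveI := DiagRig.multType_isAffineHom H hH
  haveI : QuasiCompact q.left := RedCentre.QuotCentre.quasiCompact_of_isQuotient i q hq
  obtain ⟨hqs, hqf, -, -⟩ := hq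
  haveI := hqs
  haveI := hqf
  have sqP := hP.map (CategoryTheory.Over.forget S)
  haveI : Flat p.left := MorphismProperty.of_isPullback sqP hqf
  haveI : Surjective p.left := MorphismProperty.of_isPullback sqP hqs
  haveI : QuasiCompact p.left := MorphismProperty.of_isPullback sqP ‹QuasiCompact q.left›
  haveI : Mono i' := ⟨fun a b h => hP.hom_ext h (by
    rw [← cancel_mono j, Category.assoc, Category.assoc, ← hP.w, ← Category.assoc, h, Category.assoc])⟩
  haveI : IsMonHom p := DiagRig.isMonHom_of_pts p fun T a b => by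
    rw [← cancel_mono j, MonObj.mul_comp (a ≫ p) (b ≫ p) j, Category.assoc, Category.assoc, Category.assoc, ← hP.w,
      ← Category.assoc (a * b), MonObj.mul_comp a b i', MonObj.mul_comp (a ≫ i') (b ≫ i') q, Category.assoc,
      Category.assoc]
  have hη : IsPullback i (toUnit H) q η[Q] := hker
  have hkl : ∀ {T : Over S} (x : T ⟶ G), x ≫ q = 1 → ∃ n : T ⟶ H, n ≫ i = x := fun x hx =>
    ⟨hη.lift x (toUnit _) (by rw [hx, Hom.one_def]), hη.lift_fst _ _ _⟩
  have hiq : i ≫ q = 1 := by rw [Hom.one_def]; exact hker.w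
  have hHc : ∀ {T : Over S} (x y : T ⟶ H), x * y = y * x := fun x y =>
    DiagRig.mul_comm_of_splitFpqc (DiagRig.splitFpqc_of_multTypeFT H hH) x y
  -- the normal subgroup is central
  have hHcen : ∀ {T : Over S} (g : T ⟶ G) (n : T ⟶ H), Commute g (n ≫ i) := fun {T} g n => by
    have h := RedCentre.NilCentral.commute_of_section hH i T (snd T G) (lift_snd _ _) (fun Y r a b => by
      obtain ⟨m, hm⟩ := hkl ⁅r ≫ snd T G, b ≫ i⁆ (by
        rw [commutatorElement_def, MonObj.mul_comp, MonObj.mul_comp, MonObj.mul_comp, GrpObj.inv_comp, GrpObj.inv_comp,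
          show (b ≫ i) ≫ q = 1 by rw [Category.assoc, hiq, MonObj.comp_one]]
        group)
      have hc : Commute (m ≫ i) (a ≫ i) := by
        show (m ≫ i) * (a ≫ i) = (a ≫ i) * (m ≫ i)
        rw [← MonObj.mul_comp, ← MonObj.mul_comp, hHc]
      rw [hm] at hc
      generalize r ≫ snd T G = g' at hc ⊢
      rw [MonObj.mul_comp, show ⁅g', (a ≫ i) * (b ≫ i)⁆ = ⁅g', a ≫ i⁆ * ((a ≫ i) * ⁅g', b ≫ i⁆ * (a ≫ i)⁻¹) by
        simp only [commutatorElement_def]; group, ← hc.eq, mul_inv_cancel_right]) T (lift (𝟙 T) g) n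
    rw [lift_snd] at h
    exact commutatorElement_eq_one_iff_commute.1 h
  have hcentral := RedCentre.CentralExt.central_of_ext hH' p i' (fun T e g he => by
      obtain ⟨n, hn⟩ := hkl (e ≫ i') (by rw [Category.assoc, hP.w, ← Category.assoc, he, MonObj.one_comp])
      rw [← hn]; exact hHcen g n) (fun T e g g' => by
      obtain ⟨n, hn⟩ := hkl ⁅g, e ≫ i'⁆ (by
        rw [commutatorElement_def, MonObj.mul_comp, MonObj.mul_comp, MonObj.mul_comp, GrpObj.inv_comp, GrpObj.inv_comp,
          show (e ≫ i') ≫ q = (e ≫ p) ≫ j by rw [Category.assoc, hP.w, Category.assoc], (hcenH' T (e ≫ p) (g ≫ q)).symm]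
        group)
      rw [← hn]; exact (hHcen g' n).symm)
  have hPcomm : ∀ (T : Over S) (a b : T ⟶ P), a * b = b * a := fun T a b => by
    rw [← cancel_mono i', MonObj.mul_comp, MonObj.mul_comp]
    exact hcentral T a (b ≫ i')
  let k : H ⟶ P := hP.lift i 1 (by rw [hiq, MonObj.one_comp])
  have hki : k ≫ i' = i := hP.lift_fst _ _ _
  have hkp : k ≫ p = 1 := hP.lift_snd _ _ _
  haveI : Mono k := ⟨fun a b h => by rw [← cancel_mono i, ← hki, ← Category.assoc, h, Category.assoc]⟩
  haveI : IsMonHom k := DiagRig.isMonHom_of_pts k fun T a b => by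
    rw [← cancel_mono i', MonObj.mul_comp (a ≫ k) (b ≫ k) i', Category.assoc, Category.assoc, Category.assoc, hki,
      MonObj.mul_comp]
  have hkker : AlgGrp.IsKernel k p := by
    have hw : k ≫ p = toUnit _ ≫ η[H'] := by rw [hkp, Hom.one_def]
    have hl : ∀ (T : Over S) (x : T ⟶ P), x ≫ p = 1 → ∃ n, n ≫ k = x := fun T x hx => by
      obtain ⟨n, hn⟩ := hkl (x ≫ i') (by rw [Category.assoc, hP.w, ← Category.assoc, hx, MonObj.one_comp])
      exact ⟨n, by rw [← cancel_mono i', Category.assoc, hki, hn]⟩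
    choose n hn using hl
    exact ⟨⟨hw⟩, ⟨Limits.PullbackCone.IsLimit.mk hw
      (fun s => n _ s.fst (by rw [s.condition, Hom.one_def, toUnit_unique s.snd]))
      (fun s => hn _ _ _) (fun s => toUnit_unique _ _) (fun s m h₁ _ => by rw [← cancel_mono k, h₁, hn])⟩⟩
  exact ⟨RedCentre.Ext.isMultTypeFT_ext_comm p k hkker hH hH' hPcomm, hcentral⟩

end Groth.Agent.S16775
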