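import Groth.Statements.S1678
import Groth.Agent.RegImm38.Smooth
-- import your own Groth.Agent.* helpers here

set_option autoImplicit false
universe u
open CategoryTheory CategoryTheory.Limits AlgebraicGeometry TopologicalSpace
open SDiv

namespace Groth.Agent.S1678

/-- Let X ⟶ S be smooth and let i : Y ⟶ X and j : Y ⟶ S be closed immersions with i ≫ (X ⟶ S) = j. If j
is a regular closed immersion then so is i. -/
theorem result {X Y S : Scheme.{u}} (p : X ⟶ S) [Smooth p] (i : Y ⟶ X) (j : Y ⟶ S)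
    [IsClosedImmersion i] [IsClosedImmersion j] (h : i ≫ p = j) (hj : Mor2.IsRegularClosedImmersion j) :
    Mor2.IsRegularClosedImmersion i := by
  have hres : ∀ {W Y : Scheme.{u}} (k : W ⟶ Y) [IsClosedImmersion k] (O : Y.Opens), IsClosedImmersion (k ∣_ O) :=
    fun k _ O => MorphismProperty.of_isPullback (isPullback_morphismRestrict k O).flip inferInstance
  obtain ⟨-, hj⟩ := hj
  refine ⟨inferInstance, fun y => ?_⟩
  obtain ⟨U, hU, hz, rs, hrs, hker⟩ := hj y
  rw [Scheme.Hom.ker_apply] at hker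
  obtain ⟨⟨V, hV⟩, hz', -, rs', hrs', hker'⟩ :=
    Groth.Agent.RegImm38.Smooth.isRegularImmersionAt_of_smooth j i p h y
      ⟨⟨U, hU⟩, hz, hres j U, rs, hrs, hker⟩
  exact ⟨V, hV, hz', rs', hrs', (Scheme.Hom.ker_apply _ _).trans hker'⟩

end Groth.Agent.S1678
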