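import Groth.Statements.S16780
import Groth.Agent.RedCentre.ExtComm
import Groth.Agent.RedCentre.QuotCentre

set_option autoImplicit false
open CategoryTheory MonoidalCategory CartesianMonoidalCategory MonObj GrpObj AlgebraicGeometry
universe u
open SGA3x

namespace Groth.Agent.S16780

/-- Let 1 → H' → H → H'' → 1 be a short exact sequence of affine, flat, finitely presented group schemes
over a scheme S with H' and H'' of multiplicative type (of finite type). If every fibre H_s is
connected or commutative, then H is of multiplicative type. -/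
theorem result {S : Scheme.{u}} (H' H H'' : Over S) [GrpObj H'] [GrpObj H] [GrpObj H'']
    (hHa : IsAffineHom H.hom) (hHfl : Flat H.hom) (hHfp : LocallyOfFinitePresentation H.hom)
    (p : H ⟶ H'') [IsMonHom p] [Surjective p.left] [Flat p.left] [QuasiCompact p.left]
    (i : H' ⟶ H) [IsMonHom i] (hker : AlgGrp.IsKernel i p)
    (hH' : SGA3x.IsMultTypeFT H') (hH'' : SGA3x.IsMultTypeFT H'')
    (hfib : ∀ s : S, _root_.IsConnected (H.hom.base ⁻¹' {s}) ∨
      ∀ (X : Over (Spec (S.residueField s))) (a b : X ⟶ Red.bc (S.fromSpecResidueField s) H), a * b = b * a) :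
    SGA3x.IsMultTypeFT H := by
  refine RedCentre.ExtComm.isMultTypeFT_ext p i hker hH' hH'' (Or.inr fun s T z hz a b => ?_)
  let f := S.fromSpecResidueField s
  let T₀ : Over (Spec (S.residueField s)) := Over.mk z
  let e : (Over.map f).obj T₀ ≅ T := Over.isoMk (Iso.refl _) (by
    show 𝟙 _ ≫ T.hom = z ≫ f
    rw [Category.id_comp, hz])
  suffices hall : ∀ (X : Over (Spec (S.residueField s))) (a b : X ⟶ Red.bc f H), a * b = b * a by
    have h := congrArg (DiagRig.bcTr f) (hall T₀ (DiagRig.bcUn f (e.hom ≫ a)) (DiagRig.bcUn f (e.hom ≫ b)))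
    rw [DiagRig.bcTr_mul, DiagRig.bcTr_mul, DiagRig.bcTr_bcUn, DiagRig.bcTr_bcUn, ← MonObj.comp_mul,
      ← MonObj.comp_mul, cancel_epi] at h
    exact h
  rcases hfib s with hconn | hcomm
  · intro X a b
    let H₀ := Red.bc f H
    let K₀ := Red.bc f H''
    let p₀ : H₀ ⟶ K₀ := (Over.pullback f).map p
    let i₀ : Red.bc f H' ⟶ H₀ := (Over.pullback f).map i
    have : IsMonHom (M := H₀) (N := K₀) p₀ := DiagRig.isMonHom_bcMap f p
    have : IsMonHom (M := Red.bc f H') (N := H₀) i₀ := DiagRig.isMonHom_bcMap f i
    have sq := DiagRig.isPullback_bcMap f p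
    haveI : Flat p₀.left := MorphismProperty.of_isPullback sq ‹Flat p.left›
    haveI : Surjective p₀.left := MorphismProperty.of_isPullback sq ‹Surjective p.left›
    haveI : QuasiCompact p₀.left := MorphismProperty.of_isPullback sq ‹QuasiCompact p.left›
    haveI : LocallyOfFiniteType H''.hom := DiagRig.multType_locallyOfFiniteType H'' hH''
    haveI : LocallyOfFiniteType K₀.hom :=
      inferInstanceAs (LocallyOfFiniteType (CategoryTheory.Limits.pullback.snd H''.hom f))
    have h1 : _root_.IsConnected (Set.univ : Set H₀.left) := by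
      have h := hconn
      rw [← H.hom.range_fiberι s, ← Set.image_univ] at h
      exact ⟨⟨(h.nonempty.of_image).choose, trivial⟩,
        (H.hom.fiberι s).isEmbedding.isInducing.isPreconnected_image.1 h.isPreconnected⟩
    have h2 : _root_.IsConnected (Set.univ : Set K₀.left) := by
      have h := h1.image p₀.left p₀.left.continuous.continuousOn
      rwa [Set.image_univ, Set.range_eq_univ.2 p₀.left.surjective] at h
    haveI : GeometricallyConnected K₀.hom := RedCentre.QuotCentre.geometricallyConnected_of_fibres K₀ fun t => by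
      have ht : K₀.hom.base ⁻¹' {t} = Set.univ := Set.eq_univ_of_forall fun y => Subsingleton.elim _ _
      rw [ht]; exact h2
    exact RedCentre.ExtComm.comm p₀ i₀ (RedCentre.ExtLocal.isKernel_bc f hker) (DiagRig.isMultTypeFT_bc f hH')
      (DiagRig.isMultTypeFT_bc f hH'') (Or.inl inferInstance) X a b
  · exact hcomm

end Groth.Agent.S16780
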