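import Groth.Statements.S16783
import Groth.Agent.MultType.TorsionOrder
import Groth.Agent.DiagRig.TorsionRank
import Groth.Agent.DiagRig.EtaleCharts
import Groth.Agent.DiagRig.PointChar
import Groth.Agent.FpqcDesc.Props
-- import your own Groth.Agent.* helpers here

set_option autoImplicit false
open CategoryTheory MonoidalCategory CartesianMonoidalCategory MonObj GrpObj AlgebraicGeometry
universe u
open CategoryTheory.Limits
open SGA3x

set_option backward.isDefEq.respectTransparency.types false
open TensorProduct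

namespace Groth.Agent.S16783

/-- Let H be an affine, flat, finitely presented group scheme over a scheme S whose geometric fibres are
of multiplicative type and such that, for every n ≥ 1, the order of the n-torsion subgroup scheme of
the fibre H_s is locally constant in s. Then H is of multiplicative type. -/
theorem result {S : Scheme.{u}} (H : Over S) [GrpObj H]
    (hHa : IsAffineHom H.hom) (hHfl : Flat H.hom) (hHfp : LocallyOfFinitePresentation H.hom)
    (hfib : ∀ s : S, SGA3x.IsMultTypeFT (Red.geomFibre s H))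
    (hord : ∀ n : ℕ, 0 < n → ∃ d : S → ℕ, IsLocallyConstant d ∧ ∀ (s : S)
      (x : ↥(Spec (S.residueField s))),
      ((pullback.snd η[H].left (𝟙 H ^ n : H ⟶ H).left ≫ H.hom).fiberToSpecResidueField s).finrank x = d s) :
    SGA3x.IsMultTypeFT H := by
  haveI := hHfp
  haveI := hHfl
  haveI := hHa
  refine DiagRig.EtaleCharts.isMultTypeFT_of_models fun x => ?_
  obtain ⟨(W : S.Opens), hW, hxW, -⟩ := exists_isAffineOpen_mem_and_subset (X := S) (x := x) (U := ⊤) trivial
  let R : CommRingCat.{u} := Γ(S, W)
  let w : Spec R ⟶ S := hW.fromSpec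
  let H₀ : Over (Spec R) := Red.bc w H
  have : IsAffineHom H₀.hom := MorphismProperty.pullback_snd (P := @IsAffineHom) H.hom w inferInstance
  have : IsAffine H₀.left := isAffine_of_isAffineHom H₀.hom
  obtain ⟨C, instC, e₀, he₀⟩ := AffGrp.Bridge.exists_iso H₀
  refine ⟨R, w, C, inferInstance, instC, e₀, he₀, inferInstance, by rw [hW.range_fromSpec]; exact hxW, ?_⟩
  have : IsMonHom e₀.hom := he₀
  haveI : IsIso e₀.hom.left := (inferInstance : IsIso ((Over.forget _).map e₀.hom))
  have hfl : Flat ((Spec C).asOver (Spec R)).hom := by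
    have : Flat H₀.hom := MorphismProperty.pullback_snd (P := @Flat) H.hom w inferInstance
    have h : Flat (e₀.hom.left ≫ H₀.hom) := inferInstance
    exact CategoryTheory.Over.w e₀.hom ▸ h
  have hlfp : LocallyOfFinitePresentation ((Spec C).asOver (Spec R)).hom := by
    have : LocallyOfFinitePresentation H₀.hom :=
      MorphismProperty.pullback_snd (P := @LocallyOfFinitePresentation) H.hom w inferInstance
    have h : LocallyOfFinitePresentation (e₀.hom.left ≫ H₀.hom) := inferInstance
    exact CategoryTheory.Over.w e₀.hom ▸ h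
  haveI : Module.Flat R C := RingHom.flat_algebraMap_iff.mp (HasRingHomProperty.Spec_iff.mp hfl)
  have hfp : Algebra.FinitePresentation R C :=
    RingHom.finitePresentation_algebraMap.mp (HasRingHomProperty.Spec_iff.mp hlfp)
  haveI := hfp
  have key : ∀ p : PrimeSpectrum R, SGA3b.IsMultType p.asIdeal.ResidueField (p.asIdeal.ResidueField ⊗[R] C) ∧
      ∀ (n : ℕ) (hn : 0 < n), Module.finrank p.asIdeal.ResidueField
        ((p.asIdeal.ResidueField ⊗[R] C) ⧸ SGA3b.torsionIdeal p.asIdeal.ResidueField (p.asIdeal.ResidueField ⊗[R] C) n) =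
          (hord n hn).choose (w.base p) := by
    intro p
    let s : S := w.base p
    obtain ⟨K, _, k, M, _, hM, -, ⟨e⟩⟩ := DiagRig.PointChar.exists_split_point (hfib s) (IsLocalRing.closedPoint _)
    obtain ⟨P₁, hP₁⟩ := DiagRig.QiChart.exists_splitPts_comp (Red.geomPt s) (DiagRig.SplitPts.ofIso k e)
      (DiagRig.SplitPts.ofIso_inj e)
    let p₁ : Spec (CommRingCat.of K) ⟶ S := k ≫ Red.geomPt s
    have hp₁ : ∀ z, p₁.base z = s := fun z => by
      show (k ≫ Spec.map _ ≫ S.fromSpecResidueField s).base z = s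
      rw [← Category.assoc, Scheme.Hom.comp_apply, Scheme.fromSpecResidueField_apply]
    let p₂ : Spec (CommRingCat.of K) ⟶ Spec R := IsOpenImmersion.lift w p₁ (by
      rintro _ ⟨z, rfl⟩
      rw [hp₁]
      exact ⟨p, rfl⟩)
    have hp₂ : p₂ ≫ w = p₁ := IsOpenImmersion.lift_fac _ _ _
    letI : Algebra R K := (Spec.preimage p₂).hom.toAlgebra
    have hspec : DiagRig.specP R K = p₂ := Spec.map_preimage p₂
    have hker : RingHom.ker (algebraMap R K) = p.asIdeal := by
      have h1 : p₂.base (IsLocalRing.closedPoint K) = p :=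
        w.isOpenEmbedding.injective (by rw [← Scheme.Hom.comp_apply, hp₂, hp₁])
      rw [← hspec] at h1
      rw [← h1]
      show RingHom.ker _ = Ideal.comap (algebraMap R K) (IsLocalRing.maximalIdeal K)
      rw [IsLocalRing.maximalIdeal_eq_bot, RingHom.ker_eq_comap_bot]
    obtain ⟨P₂, hP₂⟩ : ∃ P₂ : DiagRig.SplitPts (DiagRig.specP R K) H₀ M, P₂.Inj := by
      rw [hspec]
      exact ⟨P₁.bc w (𝟙 _) p₂ (by rw [Category.id_comp]; exact hp₂.symm), DiagRig.SplitPts.Inj.bc hP₁ w _ _ _⟩
    have : IsMonHom e₀.symm.hom := inferInstanceAs (IsMonHom e₀.inv)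
    obtain ⟨P₃, hP₃⟩ := DiagRig.EtaleCharts.exists_splitPts_of_iso e₀.symm P₂ hP₂
    obtain ⟨ε₀⟩ := DiagRig.exists_bialgEquiv_of_splitPts P₃ hP₃
    obtain ⟨δ⟩ := DiagRig.exists_mapDomain_equiv (T := K)
      (MulEquiv.ulift : ULift.{u} (Multiplicative M) ≃* Multiplicative M).symm
    let ε := ε₀.trans δ
    obtain ⟨q, hq', _, _⟩ := MultType.Fibres.exists_residueField_hom (R := R) K
    have hqp : q = p.asIdeal := by
      rw [← hker, IsScalarTower.algebraMap_eq R q.ResidueField K,
        RingHom.ker_comp_of_injective _ (RingHom.injective _), Ideal.ker_algebraMap_residueField]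
    obtain ⟨p', hp'⟩ := p
    subst hqp
    let ε' := (MultType.Split.cancel (R := R) (S := q.ResidueField) (T := K) (A := C)).trans ε
    have hmq : SGA3b.IsMultType q.ResidueField (q.ResidueField ⊗[R] C) :=
      MultType.Diag.isMultType_of_diag K ⟨_, inferInstance, ⟨ε'⟩⟩
    refine ⟨hmq, fun n hn => ?_⟩
    haveI := MultType.Isotrivial.isCocomm_of_isMultType hmq
    rw [MultType.TorsionOrder.finrank_torsion ε' n]
    let K' := (nsmulAddMonoidHom n : M →+ M).range
    have hcard : Nat.card (ULift.{u} (Multiplicative M) ⧸ MultType.TorsionHopf.powSub (ULift.{u} (Multiplicative M)) n) =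
        Nat.card (M ⧸ K') := by
      let φ : ULift.{u} (Multiplicative M) ≃ M := Equiv.ulift.trans Multiplicative.toAdd
      refine Nat.card_congr (Quotient.congr φ fun a b => ?_)
      rw [QuotientGroup.leftRel_apply, QuotientAddGroup.leftRel_apply]
      constructor
      · rintro ⟨c, hc⟩
        exact ⟨φ c, congrArg φ hc⟩
      · rintro ⟨c, hc⟩
        exact ⟨φ.symm c, φ.injective hc⟩
    haveI : Finite (M ⧸ K') := by
      haveI := hM
      haveI : AddGroup.FG (M ⧸ K') := AddGroup.fg_of_surjective (QuotientAddGroup.mk'_surjective K')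
      refine AddCommGroup.finite_of_fg_torsion _ fun z => ?_
      obtain ⟨m, rfl⟩ := QuotientAddGroup.mk_surjective z
      exact isOfFinAddOrder_iff_nsmul_eq_zero.mpr ⟨n, hn, (QuotientAddGroup.eq_zero_iff _).mpr ⟨m, rfl⟩⟩
    obtain ⟨g⟩ := DiagRig.exists_grpIso_of_splitPts P₁ hP₁
    obtain ⟨hfin, -, hrank⟩ := DiagRig.TorsionRank.finrank_kerHom p₁ g n
    let kn := DiagRig.TorsionRank.kerHom (G := H) n
    let χ := Scheme.SpecToEquivOfField K S p₁
    have hχ' : p₁ = Spec.map χ.2 ≫ S.fromSpecResidueField χ.1 :=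
      ((Scheme.SpecToEquivOfField _ _).symm_apply_apply p₁).symm
    have hs : χ.1 = s := by
      rw [← hp₁ (IsLocalRing.closedPoint K), hχ', Scheme.Hom.comp_apply, Scheme.fromSpecResidueField_apply]
    obtain ⟨φ', hφ⟩ : ∃ φ', p₁ = Spec.map φ' ≫ S.fromSpecResidueField s := by
      rw [← hs]; exact ⟨_, hχ'⟩
    let Ns := Limits.pullback.snd kn (S.fromSpecResidueField s)
    let c : Limits.pullback kn p₁ ⟶ Limits.pullback kn (S.fromSpecResidueField s) :=
      Limits.pullback.lift (Limits.pullback.fst _ _) (Limits.pullback.snd _ _ ≫ Spec.map φ') (by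
        rw [Limits.pullback.condition, Category.assoc, ← hφ])
    have sq : IsPullback c (Limits.pullback.snd kn p₁) Ns (Spec.map φ') := by
      refine IsPullback.of_right ?_ (Limits.pullback.lift_snd _ _ _) (IsPullback.of_hasPullback kn (S.fromSpecResidueField s))
      rw [Limits.pullback.lift_fst, ← hφ]
      exact IsPullback.of_hasPullback kn p₁
    have : Flat (Spec.map φ') := DiagRig.flat_specMap_field _ _ φ'.hom
    have : Surjective (Spec.map φ') := DiagRig.surjective_specMap_field _ _ φ'.hom
    haveI : MorphismProperty.DescendsAlong (@IsFinite : MorphismProperty Scheme.{u})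
        (@Surjective ⊓ @Flat ⊓ @QuasiCompact) := FpqcDesc.descendsAlong_isFinite
    have : IsFinite Ns := MorphismProperty.of_isPullback_of_descendsAlong (P := @IsFinite)
      (Q := @Surjective ⊓ @Flat ⊓ @QuasiCompact) sq.flip ⟨⟨inferInstance, inferInstance⟩, inferInstance⟩ hfin
    have : Flat Ns := inferInstance
    let z : ↥(Spec (CommRingCat.of K)) := IsLocalRing.closedPoint K
    have h1 := hrank z
    rw [Scheme.Hom.finrank_of_isPullback _ _ Ns (Spec.map φ') sq z] at h1
    rw [hcard, ← h1]
    exact (hord n hn).choose_spec.2 s _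
  refine MultType.TorsionOrder.isMultType_of_orders hfp (fun p _ => (key ⟨p, inferInstance⟩).1) fun p q hpq n hn => ?_
  rw [(key p).2 n hn, (key q).2 n hn]
  obtain ⟨hd, -⟩ := (hord n hn).choose_spec
  have hsp : w.base p ⤳ w.base q := ((PrimeSpectrum.le_iff_specializes p q).mp hpq).map w.continuous
  have hmem := hsp.mem_open (hd.isOpen_fiber ((hord n hn).choose (w.base q))) rfl
  exact hmem

end Groth.Agent.S16783
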