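import Groth.Statements.S16784
import Groth.Agent.DiagRig.WeilLocus.Forall
import Groth.Agent.GrpScheme.FlatFib.Scheme

set_option autoImplicit false
open CategoryTheory MonoidalCategory CartesianMonoidalCategory MonObj GrpObj AlgebraicGeometry
universe u
open SGA3x

namespace Groth.Agent.S16784

/-- Let G be a smooth affine group scheme over a scheme S, Y ⊆ G a closed subscheme of finite
presentation which is smooth over S with non-empty geometrically connected fibres, and Y' ⊆ G a
closed subscheme of finite presentation. Then the transporter of Y into Y' is representable by a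
closed subscheme of G of finite presentation over S. -/
theorem result {S : Scheme.{u}} (G Y Y' : Over S) [GrpObj G]
    (hG : Smooth G.hom) (hGa : IsAffineHom G.hom)
    (y : Y ⟶ G) (hy : IsClosedImmersion y.left) (hYs : Smooth Y.hom) (hYfp : LocallyOfFinitePresentation Y.hom)
    (hYc : ∀ s : S, ConnectedSpace ↥(Red.geomFibre s Y).left)
    (y' : Y' ⟶ G) (hy' : IsClosedImmersion y'.left) (hY'fp : LocallyOfFinitePresentation Y'.hom) :
    ∃ (C : Over S) (c : C ⟶ G), IsClosedImmersion c.left ∧ LocallyOfFinitePresentation C.hom ∧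
      ∀ (X : Over S) (g : X ⟶ G), (∃ z : X ⟶ C, z ≫ c = g) ↔
        ∀ (X' : Over S) (x : X' ⟶ X) (a : X' ⟶ Y), ∃ a' : X' ⟶ Y', (x ≫ g) * (a ≫ y) * (x ≫ g)⁻¹ = a' ≫ y' := by
  have := hG
  have := hy'
  have := hYs
  have : LocallyOfFinitePresentation y'.left := by
    have : LocallyOfFinitePresentation (y'.left ≫ G.hom) := by rw [Over.w y']; exact hY'fp
    exact Groth.Agent.GrpScheme.FlatFib.locallyOfFinitePresentation_of_comp y'.left G.hom
  let δ : G ⊗ Y ⟶ G := fst G Y * (snd G Y ≫ y) * (fst G Y)⁻¹
  obtain ⟨T, t, ht, hlfp, hT⟩ := Groth.Agent.DiagRig.WeilLocus.exists_closed_forall hYc δ y'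
  refine ⟨T, t, ht, ?_, fun X g => (hT X g).trans
    (forall_congr' fun X' => forall_congr' fun x => forall_congr' fun a => exists_congr fun κ => ?_)⟩
  · have := hlfp ‹_›
    rw [← Over.w t]
    infer_instance
  · simp only [δ, MonObj.comp_mul, GrpObj.comp_inv, lift_fst, lift_snd_assoc]
    exact eq_comm

end Groth.Agent.S16784
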