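import Groth.Statements.S16785
import Groth.Agent.DiagRig.WeilLocus.Forall

set_option autoImplicit false
open CategoryTheory MonoidalCategory CartesianMonoidalCategory MonObj GrpObj AlgebraicGeometry
universe u
open SGA3x

namespace Groth.Agent.S16785

/-- Let G be an affine group scheme of finite presentation over a scheme S and Y ⊆ G a closed subscheme
of finite presentation, smooth over S with non-empty geometrically connected fibres. Then the
centralizer of Y in G is representable by a closed subscheme of G. (The published statement asks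
only that the fibres of Y be connected; this row asks them to be geometrically connected, the case
the printed argument treats.) -/
theorem result {S : Scheme.{u}} (G Y : Over S) [GrpObj G]
    (hGa : IsAffineHom G.hom) (hGfp : LocallyOfFinitePresentation G.hom)
    (y : Y ⟶ G) (hy : IsClosedImmersion y.left) (hYs : Smooth Y.hom) (hYfp : LocallyOfFinitePresentation Y.hom)
    (hYc : ∀ s : S, ConnectedSpace ↥(Red.geomFibre s Y).left) :
    ∃ (C : Over S) (c : C ⟶ G), IsClosedImmersion c.left ∧
      ∀ (X : Over S) (g : X ⟶ G), (∃ z : X ⟶ C, z ≫ c = g) ↔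
        ∀ (X' : Over S) (x : X' ⟶ X) (a : X' ⟶ Y), (x ≫ g) * (a ≫ y) = (a ≫ y) * (x ≫ g) := by
  have := hYs
  have := hGa
  let δ : G ⊗ Y ⟶ G ⊗ G := lift (fst G Y * (snd G Y ≫ y)) ((snd G Y ≫ y) * fst G Y)
  let Δ : G ⟶ G ⊗ G := lift (𝟙 G) (𝟙 G)
  have : IsClosedImmersion Δ.left := by
    have h1 : IsClosedImmersion (Δ.left ≫ (fst G G).left) := by
      rw [← Over.comp_left, lift_fst]
      exact (inferInstance : IsClosedImmersion (𝟙 G.left))
    have h2 : IsSeparated (fst G G).left :=
      inferInstanceAs (IsSeparated (Limits.pullback.fst G.hom G.hom))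
    exact IsClosedImmersion.of_comp Δ.left (fst G G).left
  obtain ⟨T, t, ht, -, hT⟩ := Groth.Agent.DiagRig.WeilLocus.exists_closed_forall hYc δ Δ
  refine ⟨T, t, ht, fun X g => (hT X g).trans
    (forall_congr' fun X' => forall_congr' fun x => forall_congr' fun a => ?_)⟩
  simp only [δ, Δ, comp_lift, Category.comp_id, MonObj.comp_mul, lift_fst, lift_snd_assoc]
  refine ⟨fun ⟨κ, hκ⟩ => ?_, fun h => ⟨(a ≫ y) * (x ≫ g), by rw [h]⟩⟩
  have h1 := congrArg (· ≫ fst G G) hκ
  have h2 := congrArg (· ≫ snd G G) hκ
  simp only [lift_fst, lift_snd] at h1 h2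
  exact h1.symm.trans h2

end Groth.Agent.S16785
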