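import Groth.Statements.S1679
import Groth.Agent.RegImm38.Spread
import Groth.Agent.S18944
-- import your own Groth.Agent.* helpers here

set_option autoImplicit false
set_option linter.style.haveILetI false
universe u
open CategoryTheory CategoryTheory.Limits AlgebraicGeometry TopologicalSpace
open SDiv

namespace Groth.Agent.S1679

theorem ker_morphismRestrict_app {X Z : Scheme.{u}} (i : Z ⟶ X) (V : X.Opens) (W : V.toScheme.Opens) :
    RingHom.ker ((i ∣_ V).app W).hom = RingHom.ker (i.app (V.ι ''ᵁ W)).hom := by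
  rw [morphismRestrict_app]
  ext a
  exact map_eq_zero_iff _ (ConcreteCategory.bijective_of_isIso
    (Z.presheaf.map (eqToHom (image_morphismRestrict_preimage i V W)).op)).1

theorem transport {X Z : Scheme.{u}} (i : Z ⟶ X) {U U' : X.Opens} (e : U' = U)
    (h : ∃ rs : List Γ(X, U), RingTheory.Sequence.IsRegular Γ(X, U) rs ∧
      RingHom.ker (i.app U).hom = Ideal.ofList rs) :
    ∃ rs : List Γ(X, U'), RingTheory.Sequence.IsRegular Γ(X, U') rs ∧
      RingHom.ker (i.app U').hom = Ideal.ofList rs := by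
  subst e
  exact h

/-- Equivalence of (1), (5) and (9) (the regular-sequence variants only): let X be a locally Noetherian
scheme, i : Z ⟶ X a closed immersion and z a point of Z. Then i is a regular closed immersion over
some open neighbourhood of i z if and only if the kernel of O_{X, i z} → O_{Z, z} is generated by a
regular sequence of O_{X, i z}. -/
theorem result {X Z : Scheme.{u}} [IsLocallyNoetherian X] (i : Z ⟶ X) [IsClosedImmersion i] (z : ↥Z) :
    (∃ V : X.Opens, i z ∈ V ∧ Mor2.IsRegularClosedImmersion (i ∣_ V)) ↔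
      ∃ rs : List ↑(X.presheaf.stalk (i z)), RingTheory.Sequence.IsRegular ↑(X.presheaf.stalk (i z)) rs ∧
        RingHom.ker (i.stalkMap z).hom = Ideal.ofList rs := by
  constructor
  · rintro ⟨V, hzV, hci, h⟩
    obtain ⟨W, hW, hzW, rs, hrs, hker⟩ := h ⟨z, hzV⟩
    haveI := hci
    rw [Scheme.Hom.ker_apply, ker_morphismRestrict_app] at hker
    have hmem : i z ∈ V.ι ''ᵁ W := ⟨(i ∣_ V) ⟨z, hzV⟩, hzW, morphismRestrict_base_coe i V ⟨z, hzV⟩⟩
    have hWa : IsAffineOpen (V.ι ''ᵁ W) := hW.image_of_isOpenImmersion _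
    haveI : IsClosedImmersion (i ∣_ (V.ι ''ᵁ W)) :=
      MorphismProperty.of_isPullback (isPullback_morphismRestrict i _).flip inferInstance
    haveI : IsAffine (V.ι ''ᵁ W).toScheme := hWa
    letI : Algebra Γ(X, V.ι ''ᵁ W) (X.presheaf.stalk (i z)) := (X.presheaf.germ _ (i z) hmem).hom.toAlgebra
    haveI := hWa.isLocalization_stalk ⟨i z, hmem⟩
    haveI : Module.Flat Γ(X, V.ι ''ᵁ W) (X.presheaf.stalk (i z)) :=
      IsLocalization.flat _ (hWa.primeIdealOf ⟨i z, hmem⟩).asIdeal.primeCompl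
    let rs' : List Γ(X, V.ι ''ᵁ W) := rs
    have hrs' : RingTheory.Sequence.IsRegular Γ(X, V.ι ''ᵁ W) rs' := hrs
    have hk := RegImm38.ker_stalkMap_eq_map i hWa z hmem
    have hker' : RingHom.ker (i.app (V.ι ''ᵁ W)).hom = Ideal.ofList rs' := hker
    rw [hker', Ideal.map_ofList] at hk
    refine ⟨rs'.map (algebraMap Γ(X, V.ι ''ᵁ W) (X.presheaf.stalk (i z))),
      ⟨hrs'.toIsWeaklyRegular.of_flat, fun htop => RingHom.ker_ne_top (i.stalkMap z).hom ?_⟩, hk⟩
    rw [hk]
    exact (show Ideal.ofList (rs'.map (algebraMap Γ(X, V.ι ''ᵁ W) (X.presheaf.stalk (i z)))) = ⊤ by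
      simpa using htop.symm)
  · rintro ⟨ts, hts, hker⟩
    obtain ⟨⟨U, hU⟩, hz, hci, h⟩ :=
      RegImm38.isRegularImmersionAt_of_stalk i z hts.toIsWeaklyRegular hker
    haveI : IsAffine U.toScheme := hU
    refine ⟨U, hz, hci, fun w => ⟨⊤, isAffineOpen_top _, trivial, ?_⟩⟩
    obtain ⟨rs, hrs, hk⟩ := transport i U.ι_image_top h
    haveI := hci
    exact ⟨rs, hrs, (Scheme.Hom.ker_apply _ _).trans ((ker_morphismRestrict_app i U ⊤).trans hk)⟩

end Groth.Agent.S1679
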