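import Groth.Statements.S16794
import Groth.Agent.Hoch95.Basic

set_option autoImplicit false
universe v u
open PCurv

namespace Groth.Agent.S16794

open TensorProduct in
/-- Let p be a prime number and B a commutative algebra of characteristic p over a commutative ring A
whose module Ω of Kähler differentials over A is free of rank one on a form ω; let θ₀ be the
A-derivation of B dual to ω (its B-linear functional Ω → B takes the value 1 on ω), and let ∇ be a
connection on a finite free B-module M. Then the p-curvature of ∇ vanishes identically — for every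
A-derivation θ of B and every derivation θ' that agrees with the p-fold iterate of θ, the
endomorphism (∇_θ)^p − ∇_{θ'} of M is zero — if and only if it vanishes for the single derivation
θ₀. -/
theorem result {A : Type v} {B M : Type u} [CommRing A] [CommRing B]
    [Algebra A B] (p : ℕ) [Fact p.Prime] [CharP B p]
    [AddCommGroup M] [Module B M] [Module A M] [IsScalarTower A B M] [Module.Finite B M] [Module.Free B M]
    (bΩ : Module.Basis (Fin 1) B (KaehlerDifferential A B)) (θ₀ : Derivation A B B)
    (hθ₀ : θ₀.liftKaehlerDifferential (bΩ 0) = 1)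
    (nabla : M →ₗ[A] M ⊗[B] KaehlerDifferential A B)
    (hc : Conn.IsConn (KaehlerDifferential.D A B) nabla) :
    (∀ θ θp : Derivation A B B, Conn.IsIterPow θ p θp → Conn.pCurv p nabla θ θp = 0) ↔
      (∀ θp : Derivation A B B, Conn.IsIterPow θ₀ p θp → Conn.pCurv p nabla θ₀ θp = 0) := by
  refine ⟨fun h θp hθp => h θ₀ θp hθp, fun h θ θp hθp => ?_⟩
  obtain ⟨θ₀p, hθ₀p⟩ := Hoch95.exists_iterPow p θ₀
  have h0 := h θ₀p hθ₀p
  let K := KaehlerDifferential.D A B
  let f : B := θ.liftKaehlerDifferential (bΩ 0)
  have hlift : θ.liftKaehlerDifferential = f • θ₀.liftKaehlerDifferential := by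
    refine bΩ.ext fun i => ?_
    rw [Subsingleton.elim i 0, LinearMap.smul_apply, hθ₀, smul_eq_mul, mul_one]
  have hθ : ∀ b, θ b = f * θ₀ b := fun b => by
    rw [← θ.liftKaehlerDifferential_comp_D b, ← θ₀.liftKaehlerDifferential_comp_D b, hlift]
    rfl
  let N : M →+ M := (Conn.alongDer nabla θ₀).toAddMonoidHom
  have hN : ∀ b m, N (b • m) = b • N m + θ₀ b • m := fun b m => by
    show Conn.alongDer nabla θ₀ (b • m) = b • Conn.alongDer nabla θ₀ m + _
    simp only [Conn.alongDer, Conn.along_apply, hc b m, map_add, map_smul, TensorProduct.map_tmul,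
      LinearMap.id_coe, id_eq, TensorProduct.rid_tmul, Derivation.liftKaehlerDifferential_comp_D]
  have halong : ∀ (c : B) (δ δ' : Derivation A B B),
      δ.liftKaehlerDifferential = c • δ'.liftKaehlerDifferential →
      ∀ m, Conn.alongDer nabla δ m = c • Conn.alongDer nabla δ' m := fun c δ δ' hδ m => by
    simp only [Conn.alongDer, Conn.along_apply, hδ, TensorProduct.map_smul_right, LinearMap.smul_apply,
      map_smul]
  let Dz : Derivation ℤ B B := θ₀.restrictScalars ℤ
  let c₁ := Hoch95.coef Dz f p 1
  have hp' : θp.liftKaehlerDifferential =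
      c₁ • θ₀.liftKaehlerDifferential + f ^ p • θ₀p.liftKaehlerDifferential := by
    refine Derivation.liftKaehlerDifferential_unique _ _ (Derivation.ext fun b => ?_)
    have hb := Hoch95.iterate_smul_prime p Dz f (θ₀ : B →ₗ[A] B).toAddMonoidHom
      (fun c x => by simp [Dz, smul_eq_mul, mul_comm]) b
    show θp.liftKaehlerDifferential (KaehlerDifferential.D A B b) =
      c₁ • θ₀.liftKaehlerDifferential (KaehlerDifferential.D A B b) +
        f ^ p • θ₀p.liftKaehlerDifferential (KaehlerDifferential.D A B b)
    rw [Derivation.liftKaehlerDifferential_comp_D, Derivation.liftKaehlerDifferential_comp_D,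
      Derivation.liftKaehlerDifferential_comp_D, hθp b, hθ₀p b, show (⇑θ : B → B) = fun x => f • θ₀ x from
        funext hθ]
    exact hb
  refine LinearMap.ext fun m => ?_
  rw [Conn.pCurv, LinearMap.sub_apply, LinearMap.zero_apply, Module.End.pow_apply,
    show (⇑(Conn.alongDer nabla θ) : M → M) = fun x => f • N x from funext (halong f θ θ₀ hlift),
    Hoch95.iterate_smul_prime p Dz f N hN m,
    show Conn.alongDer nabla θp m = c₁ • Conn.alongDer nabla θ₀ m + f ^ p • Conn.alongDer nabla θ₀p m by
      simp only [Conn.alongDer, Conn.along_apply, hp', TensorProduct.map_add_right,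
        TensorProduct.map_smul_right, LinearMap.add_apply, LinearMap.smul_apply, map_add, map_smul]]
  have hm := LinearMap.congr_fun h0 m
  rw [Conn.pCurv, LinearMap.sub_apply, LinearMap.zero_apply, Module.End.pow_apply, sub_eq_zero] at hm
  rw [← hm]
  exact sub_self _

end Groth.Agent.S16794
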