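import Groth.Statements.S16796
import Groth.Agent.LogConn95.Coord

set_option autoImplicit false
universe v u
open LogConn

namespace Groth.Agent.S16796

open TensorProduct in
/-- Let B be a commutative algebra over a commutative ring A, λ ∈ B, and t₁, …, tₙ ∈ B elements whose
differentials dt₁, …, dtₙ form a basis of the Kähler differentials Ω of B over A; let L be a
B-module free on ω₁, …, ωₙ with a B-linear ι : Ω → L sending dtᵢ to tᵢ ωᵢ (ωᵢ playing the role of
dlog tᵢ), and E a B-module with an A-linear ∇ : E → E ⊗ L obeying the λ-twisted Leibniz rule ∇(b e)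
= b ∇e + λ e ⊗ ι(db); write ∇ᵢ for the components of ∇ in the basis ω, ∇_J for their composite over
a finite index set J in increasing order, and E_I = Σ_{J ⊆ I} (∏_{i ∈ I∖J} tᵢ) · ∇_J(E) (an
A-submodule of E) for a finite index set I. For each degree p let R^p ⊆ E ⊗ Λ^p L be the B-span of
the elements ∇_I(e) ⊗ (ω_{i₁} ∧ ⋯ ∧ ω_{i_l} ∧ ι(η₁) ∧ ⋯ ∧ ι(η_{p−l})) with I = {i₁ < ⋯ < i_l}, l ≤
p, e ∈ E, ηⱼ ∈ Ω (the degree-p part of the graded submodule generated by the ∇_I(e) ⊗ ω_I under
multiplication by forms from Ω). Then R^p is the set of elements of E ⊗ Λ^p L whose coordinate along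
ω_K = ω_{k₁} ∧ ⋯ ∧ ω_{k_p} lies in E_K for every set K of p indices; in other words R^p = ⊕_{|K| =
p} E_K ⊗ ω_K. (Flatness of ∇ is not used.) -/
theorem result {A : Type v} {B L E : Type u} [CommRing A] [CommRing B]
    [Algebra A B] [AddCommGroup L] [Module B L] [Module A L] [IsScalarTower A B L]
    [AddCommGroup E] [Module B E] [Module A E] [IsScalarTower A B E]
    (lam : B) {n : ℕ} (t : Fin n → B) (bΩ : Module.Basis (Fin n) B (KaehlerDifferential A B))
    (hbΩ : ∀ i, bΩ i = KaehlerDifferential.D A B (t i))
    (ω : Module.Basis (Fin n) B L) (ι : KaehlerDifferential A B →ₗ[B] L)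
    (hι : ∀ i, ι (KaehlerDifferential.D A B (t i)) = t i • ω i)
    (nabla : E →ₗ[A] E ⊗[B] L)
    (hc : Conn.IsLamConn (ι.compDer (KaehlerDifferential.D A B)) lam nabla)
    (p : ℕ) :
    (Submodule.span B (LogConn.gens nabla ω ι p)).restrictScalars A = LogConn.layer nabla ω t p := by
  classical
  have hco := LogConn95.coords_of_basis bΩ hbΩ hι
  refine le_antisymm ?_ ?_
  · intro x hx
    rw [Submodule.restrictScalars_mem] at hx
    rw [LogConn95.mem_layer_iff]
    induction hx using Submodule.span_induction with
    | mem x hx =>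
      obtain ⟨I, hI, e, v, hv, hv', rfl⟩ := hx
      intro K
      rw [LogConn95.coordE_tmul]
      by_cases hIK : I ⊆ (K : Finset (Fin n))
      · obtain ⟨c, hc'⟩ := LogConn95.dvd_coord ω t K v I (fun i a ha => by
          by_cases hi : i.val < I.card
          · rw [hv i hi, ω.repr_self, Finsupp.single_eq_of_ne]
            · exact dvd_zero _
            · exact fun h => ha (h ▸ Finset.orderEmbOfFin_mem _ _ _)
          · obtain ⟨η, hη⟩ := hv' i (not_lt.1 hi)
            rw [← hη]; exact hco.dvd η a)
        rw [hc', mul_comm, mul_smul]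
        exact LogConn95.piece_smul_mem hco hc c (LogConn95.mem_piece_gen nabla ω t hIK e)
      · obtain ⟨a, haI, haK⟩ := Finset.not_subset.1 hIK
        obtain ⟨i, hi⟩ : a ∈ Set.range (I.orderEmbOfFin rfl) := by
          rw [Finset.range_orderEmbOfFin]; exact haI
        rw [LogConn95.coord_eq_zero_of_notMem ω K v ⟨i.val, i.isLt.trans_le hI⟩ a
          ((hv _ i.isLt).trans (congrArg ω hi)) haK, zero_smul]
        exact zero_mem _
    | zero => intro K; rw [map_zero]; exact zero_mem _
    | add a b _ _ ha hb => intro K; rw [map_add]; exact add_mem (ha K) (hb K)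
    | smul c a _ ha => intro K; rw [map_smul]; exact LogConn95.piece_smul_mem hco hc c (ha K)
  · intro x hx
    rw [LogConn95.mem_layer_iff] at hx
    rw [← LogConn95.sum_coordE ω p x]
    refine sum_mem fun K _ => ?_
    generalize LogConn.coordE ω p K x = y, hx K = hy
    refine LogConn95.piece_le nabla ω t
      (S := ((Submodule.span B (LogConn.gens nabla ω ι p)).restrictScalars A).comap
        (((TensorProduct.mk B E _).flip (ω.exteriorPower p K)).restrictScalars A)) (fun J hJ e => ?_) hy
    rw [Submodule.mem_comap, Submodule.restrictScalars_mem, LinearMap.restrictScalars_apply,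
      LinearMap.flip_apply, TensorProduct.mk_apply, TensorProduct.smul_tmul]
    have hcard : J.card + ((K : Finset (Fin n)) \ J).card = p := by
      rw [Finset.card_sdiff_of_subset hJ, Nat.add_sub_cancel' (Finset.card_le_card hJ)]; exact K.2
    let f : Fin p → Fin n := fun k => if h : k.val < J.card then J.orderEmbOfFin rfl ⟨k.val, h⟩
      else ((K : Finset (Fin n)) \ J).orderEmbOfFin rfl ⟨k.val - J.card, by omega⟩
    have hfJ : ∀ k, (k.val < J.card ↔ f k ∈ J) := fun k => by
      by_cases h : k.val < J.card
      · simp only [f, dif_pos h, h, true_iff]; exact Finset.orderEmbOfFin_mem _ _ _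
      · simp only [f, dif_neg h, h, false_iff]
        exact (Finset.mem_sdiff.1 (Finset.orderEmbOfFin_mem _ _ _)).2
    have hfK : ∀ k, f k ∈ (K : Finset (Fin n)) := fun k => by
      by_cases h : k.val < J.card
      · simp only [f, dif_pos h]; exact hJ (Finset.orderEmbOfFin_mem _ _ _)
      · simp only [f, dif_neg h]
        exact (Finset.mem_sdiff.1 (Finset.orderEmbOfFin_mem _ _ _)).1
    have hfinj : Function.Injective f := by
      intro a b hab
      have hiff : a.val < J.card ↔ b.val < J.card := by rw [hfJ, hfJ, hab]
      by_cases h : a.val < J.card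
      · simp only [f, dif_pos h, dif_pos (hiff.1 h)] at hab
        have := congrArg Fin.val ((J.orderEmbOfFin rfl).injective hab)
        exact Fin.ext this
      · simp only [f, dif_neg h, dif_neg (mt hiff.2 h)] at hab
        have := congrArg Fin.val ((((K : Finset (Fin n)) \ J).orderEmbOfFin rfl).injective hab)
        have h' := mt hiff.2 h
        exact Fin.ext (by simp only at this; omega)
    choose g hg using fun k => LogConn95.exists_enum_eq K (hfK k)
    have hginj : Function.Injective g := fun a b hab => hfinj (by rw [← hg a, ← hg b, hab])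
    let σ : Equiv.Perm (Fin p) := Equiv.ofBijective g hginj.bijective_of_finite
    let c : Fin p → B := fun k => if f k ∈ J then 1 else t (f k)
    let v : Fin p → L := fun k => c k • ω (f k)
    have hgen : LogConn.compProd nabla ω J e ⊗ₜ[B] exteriorPower.ιMulti B p v ∈
        Submodule.span B (LogConn.gens nabla ω ι p) := by
      refine Submodule.subset_span ⟨J, by omega, e, v, fun k hk => ?_, fun k hk => ?_, rfl⟩
      · simp only [v, c, if_pos ((hfJ k).1 hk), one_smul]
        simp only [f, dif_pos hk]
      · simp only [v, c, if_neg (mt (hfJ k).2 (not_lt.2 hk))]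
        exact ⟨_, hι _⟩
    have hprod : ∏ k, c k = ∏ a ∈ (K : Finset (Fin n)) \ J, t a := by
      have : c = fun k => (fun a => if a ∈ J then (1 : B) else t a) (LogConn95.enum K (σ k)) := by
        funext k; simp only [c, σ, Equiv.ofBijective_apply, hg]
      rw [this, Equiv.prod_comp σ (fun k => (fun a => if a ∈ J then (1 : B) else t a) (LogConn95.enum K k)),
        LogConn95.prod_enum K (fun a => if a ∈ J then (1 : B) else t a), Finset.prod_ite,
        Finset.prod_const_one, one_mul, Finset.sdiff_eq_filter]
    have hv : exteriorPower.ιMulti B p v =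
        (Equiv.Perm.sign σ : ℤˣ) • ((∏ a ∈ (K : Finset (Fin n)) \ J, t a) • ω.exteriorPower p K) := by
      rw [show v = fun k => c k • (fun k => ω (LogConn95.enum K k)) (σ k) from
        funext fun k => by simp only [v, σ, Equiv.ofBijective_apply, hg],
        ← AlternatingMap.coe_multilinearMap, MultilinearMap.map_smul_univ,
        AlternatingMap.coe_multilinearMap, hprod,
        show (fun k => (fun k => ω (LogConn95.enum K k)) (σ k)) = (fun k => ω (LogConn95.enum K k)) ∘ σ
          from rfl, AlternatingMap.map_perm, smul_comm, LogConn95.basis_eq]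
    rw [hv] at hgen
    rcases Int.units_eq_one_or (Equiv.Perm.sign σ) with h | h
    · rw [h, one_smul] at hgen; exact hgen
    · rw [h, Units.neg_smul, one_smul, TensorProduct.tmul_neg, Submodule.neg_mem_iff] at hgen; exact hgen

end Groth.Agent.S16796
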