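import Groth.Statements.S16797
import Groth.Agent.LogConn95.Coord

set_option autoImplicit false
universe v u
open LogConn

namespace Groth.Agent.S16797

open TensorProduct in
/-- Let B be a commutative algebra over a commutative ring A, λ ∈ B, and t₁, …, tₙ ∈ B elements whose
differentials dt₁, …, dtₙ form a basis of the Kähler differentials Ω of B over A; let L be a
B-module free on ω₁, …, ωₙ with a B-linear ι : Ω → L sending dtᵢ to tᵢ ωᵢ (ωᵢ playing the role of
dlog tᵢ), and E a B-module with an A-linear ∇ : E → E ⊗ L obeying the λ-twisted Leibniz rule ∇(b e)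
= b ∇e + λ e ⊗ ι(db); write ∇ᵢ for the components of ∇ in the basis ω, ∇_J for their composite over
a finite index set J in increasing order, and E_I = Σ_{J ⊆ I} (∏_{i ∈ I∖J} tᵢ) · ∇_J(E) (an
A-submodule of E) for a finite index set I. Let d be the logarithmic de Rham differential on the
exterior powers of L — the A-linear family pinned on generators by d(b₀ · e₁ ∧ ⋯ ∧ e_p) = ι(db₀) ∧
e₁ ∧ ⋯ ∧ e_p for factors eⱼ of the form ι(db) or ωᵢ — and let ∇^p : E ⊗ Λ^p L → E ⊗ Λ^{p+1} L be the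
λ-twisted extension of ∇, ∇^p(e ⊗ η) = ∇(e) ∧ η + e ⊗ λ dη, with ∇ flat in the sense that ∇¹ ∘ ∇ =
0. Then for every p, ∇^p maps the layer ⊕_{|K| = p} E_K ⊗ ω_K (elements all of whose ω_K-coordinates
lie in E_K) into the layer ⊕_{|K| = p+1} E_K ⊗ ω_K. -/
theorem result {A : Type v} {B L E : Type u} [CommRing A] [CommRing B]
    [Algebra A B] [AddCommGroup L] [Module B L] [Module A L] [IsScalarTower A B L]
    [AddCommGroup E] [Module B E] [Module A E] [IsScalarTower A B E]
    (lam : B) {n : ℕ} (t : Fin n → B) (bΩ : Module.Basis (Fin n) B (KaehlerDifferential A B))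
    (hbΩ : ∀ i, bΩ i = KaehlerDifferential.D A B (t i))
    (ω : Module.Basis (Fin n) B L) (ι : KaehlerDifferential A B →ₗ[B] L)
    (hι : ∀ i, ι (KaehlerDifferential.D A B (t i)) = t i • ω i)
    (nabla : E →ₗ[A] E ⊗[B] L)
    (hc : Conn.IsLamConn (ι.compDer (KaehlerDifferential.D A B)) lam nabla)
    (d : ∀ p : ℕ, ↥(⋀[B]^p L) →ₗ[A] ↥(⋀[B]^(p + 1) L))
    (hd : LogDiff.IsLogRule (KaehlerDifferential.D A B) ι (⇑ω) d)
    (nablas : ∀ p : ℕ, E ⊗[B] ↥(⋀[B]^p L) →ₗ[A] E ⊗[B] ↥(⋀[B]^(p + 1) L))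
    (hint : Conn.IsIntegrable nabla (fun p => lam • d p) nablas)
    (p : ℕ) (x : E ⊗[B] ↥(⋀[B]^p L)) (hx : x ∈ LogConn.layer nabla ω t p) :
    nablas p x ∈ LogConn.layer nabla ω t (p + 1) := by
  classical
  have hco := LogConn95.coords_of_basis bΩ hbΩ hι
  have hdK : ∀ (q : ℕ) (v : Fin q → L), (∀ k, ∃ i, v k = ω i) → d q (exteriorPower.ιMulti B q v) = 0 := by
    intro q v hv
    have h := hd q 1 v (fun k => Or.inr (hv k))
    rw [one_smul] at h
    rw [h]
    exact (exteriorPower.ιMulti B (q + 1)).map_coord_zero 0 (by simp)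
  have hd1 : ∀ i, (fun q => lam • d q) 1 (exteriorPower.ιMulti B 1 (fun _ => ω i)) = 0 := fun i => by
    simp [hdK 1 _ (fun _ => ⟨i, rfl⟩)]
  have hcomm := LogConn95.comp_comm ω _ nablas hint hd1
  rw [LogConn95.mem_layer_iff] at hx ⊢
  intro M
  rw [← LogConn95.sum_coordE ω p x, map_sum, map_sum]
  refine sum_mem fun K _ => ?_
  rw [hint.1, LogConn95.basis_eq, LogConn95.twedge_nabla]
  simp only [LinearMap.smul_apply, hdK p _ (fun k => ⟨_, rfl⟩), smul_zero, TensorProduct.tmul_zero,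
    add_zero, map_sum]
  refine sum_mem fun i _ => ?_
  rw [LogConn95.coordE_tmul]
  by_cases hiK : i ∈ (K : Finset (Fin n))
  · obtain ⟨k, hk⟩ := LogConn95.exists_enum_eq K hiK
    rw [(exteriorPower.ιMulti B (p + 1)).map_eq_zero_of_eq _ (i := 0) (j := k.succ)
      (by rw [Fin.cons_zero, Fin.cons_succ, hk]) (Fin.succ_ne_zero k).symm, map_zero, zero_smul]
    exact zero_mem _
  by_cases hM : insert i (K : Finset (Fin n)) = (M : Finset (Fin n))
  · rw [← hM]
    exact LogConn95.piece_smul_mem hco hc _ (LogConn95.comp_piece_insert hco hc hcomm hiK (hx K))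
  · have hns : ¬ insert i (K : Finset (Fin n)) ⊆ (M : Finset (Fin n)) := fun h => hM
      (Finset.eq_of_subset_of_card_le h (by rw [Finset.card_insert_of_notMem hiK, M.2, K.2]))
    obtain ⟨a, ha, haM⟩ := Finset.not_subset.1 hns
    obtain ⟨k, hk⟩ : ∃ k, (Fin.cons (ω i) (fun k => ω (LogConn95.enum K k)) : Fin (p + 1) → L) k = ω a := by
      rcases Finset.mem_insert.1 ha with rfl | ha
      · exact ⟨0, Fin.cons_zero _ _⟩
      · obtain ⟨k, hk⟩ := LogConn95.exists_enum_eq K ha
        exact ⟨k.succ, by rw [Fin.cons_succ, hk]⟩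
    rw [LogConn95.coord_eq_zero_of_notMem ω M _ k a hk haM, zero_smul]
    exact zero_mem _

end Groth.Agent.S16797
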