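import Groth.Statements.S16798
import Groth.Agent.LogConn95.Coord
import Mathlib.Tactic.LinearCombination

set_option autoImplicit false
universe v u
open LogConn

namespace Groth.Agent.S16798

open TensorProduct in
/-- Let B be a commutative algebra over a commutative ring A, λ ∈ B, and t₁, …, tₙ ∈ B elements whose
differentials dt₁, …, dtₙ form a basis of the Kähler differentials Ω of B over A; let L be a
B-module free on ω₁, …, ωₙ with a B-linear ι : Ω → L sending dtᵢ to tᵢ ωᵢ (ωᵢ playing the role of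
dlog tᵢ), and E a B-module with an A-linear ∇ : E → E ⊗ L obeying the λ-twisted Leibniz rule ∇(b e)
= b ∇e + λ e ⊗ ι(db); write ∇ᵢ for the components of ∇ in the basis ω, ∇_J for their composite over
a finite index set J in increasing order, and E_I = Σ_{J ⊆ I} (∏_{i ∈ I∖J} tᵢ) · ∇_J(E) (an
A-submodule of E) for a finite index set I. Assume ∇ flat: for the logarithmic de Rham differential
d on the exterior powers of L (pinned on generators by d(b₀ · e₁ ∧ ⋯ ∧ e_p) = ι(db₀) ∧ e₁ ∧ ⋯ ∧ e_p,
factors eⱼ of the form ι(db) or ωᵢ) and the λ-twisted extension ∇^• of ∇ (∇^p(e ⊗ η) = ∇(e) ∧ η + e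
⊗ λ dη) one has ∇¹ ∘ ∇ = 0. Let u₁, …, uₙ be units of B such that the elements t'ᵢ = uᵢ tᵢ again
have differentials forming a basis of Ω, and such that the elements ω'ᵢ = ωᵢ + uᵢ⁻¹ ι(duᵢ) again
form a basis of L (a second admissible coordinate system with the same branches, ω'ᵢ playing the
role of dlog t'ᵢ). Then for every p the layer ⊕_{|K| = p} E_K ⊗ ω_K formed with the coordinates t,
the basis ω and the components of ∇ in ω coincides with the layer formed with t', ω' and the
components of ∇ in ω'. (The published statement also allows a permutation of the indices.) -/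
theorem result {A : Type v} {B L E : Type u} [CommRing A] [CommRing B]
    [Algebra A B] [AddCommGroup L] [Module B L] [Module A L] [IsScalarTower A B L]
    [AddCommGroup E] [Module B E] [Module A E] [IsScalarTower A B E]
    (lam : B) {n : ℕ} (t : Fin n → B) (bΩ : Module.Basis (Fin n) B (KaehlerDifferential A B))
    (hbΩ : ∀ i, bΩ i = KaehlerDifferential.D A B (t i))
    (ω : Module.Basis (Fin n) B L) (ι : KaehlerDifferential A B →ₗ[B] L)
    (hι : ∀ i, ι (KaehlerDifferential.D A B (t i)) = t i • ω i)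
    (nabla : E →ₗ[A] E ⊗[B] L)
    (hc : Conn.IsLamConn (ι.compDer (KaehlerDifferential.D A B)) lam nabla)
    (d : ∀ p : ℕ, ↥(⋀[B]^p L) →ₗ[A] ↥(⋀[B]^(p + 1) L))
    (hd : LogDiff.IsLogRule (KaehlerDifferential.D A B) ι (⇑ω) d)
    (nablas : ∀ p : ℕ, E ⊗[B] ↥(⋀[B]^p L) →ₗ[A] E ⊗[B] ↥(⋀[B]^(p + 1) L))
    (hint : Conn.IsIntegrable nabla (fun p => lam • d p) nablas)
    (u : Fin n → Bˣ) (bΩ' : Module.Basis (Fin n) B (KaehlerDifferential A B))
    (hbΩ' : ∀ i, bΩ' i = KaehlerDifferential.D A B ((u i : B) * t i))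
    (ω' : Module.Basis (Fin n) B L)
    (hω' : ∀ i, ω' i = ω i + ((u i)⁻¹ : Bˣ).val • ι (KaehlerDifferential.D A B (u i : B)))
    (p : ℕ) :
    LogConn.layer nabla ω t p = LogConn.layer nabla ω' (fun i => (u i : B) * t i) p := by
  classical
  have hco := LogConn95.coords_of_basis bΩ hbΩ hι
  let D := KaehlerDifferential.D A B
  have hι' : ∀ i, ι (D ((u i : B) * t i)) = ((u i : B) * t i) • ω' i := fun i => by
    simp only [D, Derivation.leibniz, map_add, map_smul, hι, hω', smul_add, smul_smul]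
    rw [mul_comm (u i : B) (t i), mul_assoc, Units.mul_inv, mul_one]
  have hco' : LogConn95.Coords (fun i => (u i : B) * t i) ω' ι :=
    LogConn95.coords_of_basis bΩ' hbΩ' hι'
  have hz : ∀ (q : ℕ) (c : B) (v : Fin q → L), (∀ k, (∃ b, v k = ι (D b)) ∨ ∃ i, v k = ω i) →
      d q (c • exteriorPower.ιMulti B q v) = exteriorPower.ιMulti B (q + 1) (Fin.cons (ι (D c)) v) :=
    hd
  have hdω : ∀ i, d 1 (exteriorPower.ιMulti B 1 (fun _ => ω i)) = 0 := fun i => by
    have h := hz 1 1 (fun _ => ω i) (fun _ => Or.inr ⟨i, rfl⟩)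
    rw [one_smul] at h
    rw [h]
    exact (exteriorPower.ιMulti B 2).map_coord_zero 0 (by simp)
  have hdω' : ∀ i, d 1 (exteriorPower.ιMulti B 1 (fun _ => ω' i)) = 0 := fun i => by
    have hsplit : exteriorPower.ιMulti B 1 (fun _ => ω' i) = exteriorPower.ιMulti B 1 (fun _ => ω i) +
        ((u i)⁻¹ : Bˣ).val • exteriorPower.ιMulti B 1 (fun _ => ι (D (u i : B))) := by
      apply (exteriorPower.oneEquiv B L).injective
      simp only [map_add, map_smul, exteriorPower.oneEquiv_ιMulti]
      exact hω' i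
    rw [hsplit, map_add, hdω, zero_add, hz 1 _ _ (fun _ => Or.inl ⟨_, rfl⟩)]
    have hinv : D ((u i)⁻¹ : Bˣ).val = (-(((u i)⁻¹ : Bˣ).val ^ 2)) • D (u i : B) := by
      rw [← Derivation.leibniz_of_mul_eq_one D (Units.inv_mul (u i))]
    rw [hinv, map_smul, ← Matrix.vecCons, ← AlternatingMap.coe_multilinearMap,
      show Matrix.vecCons ((-(((u i)⁻¹ : Bˣ).val ^ 2)) • ι (D (u i : B))) (fun _ => ι (D (u i : B))) =
        Fin.cons ((-(((u i)⁻¹ : Bˣ).val ^ 2)) • ι (D (u i : B))) (fun _ => ι (D (u i : B))) from rfl,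
      MultilinearMap.cons_smul, AlternatingMap.coe_multilinearMap,
      (exteriorPower.ιMulti B 2).map_eq_zero_of_eq _ (i := 0) (j := 1) (by simp [Fin.cons_one]) (by simp),
      smul_zero]
  have hcomm := LogConn95.comp_comm ω _ nablas hint (fun i => by simp [hdω i])
  have hcomm' := LogConn95.comp_comm ω' _ nablas hint (fun i => by simp [hdω' i])
  have hrow : ∀ i a, a ≠ i → t a ∣ ω.repr (ω' i) a := fun i a ha => by
    rw [hω', map_add, map_smul, ω.repr_self, Finsupp.add_apply, Finsupp.single_eq_of_ne ha, zero_add]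
    exact Dvd.dvd.mul_left (hco.dvd _ a) _
  have hω : ∀ i, ω i = ω' i + (-((u i)⁻¹ : Bˣ).val) • ι (D (u i : B)) := fun i => by
    rw [hω', neg_smul, add_neg_cancel_right]
  have hrow' : ∀ i a, a ≠ i → (u a : B) * t a ∣ ω'.repr (ω i) a := fun i a ha => by
    rw [hω, map_add, map_smul, ω'.repr_self, Finsupp.add_apply, Finsupp.single_eq_of_ne ha, zero_add]
    exact Dvd.dvd.mul_left (hco'.dvd _ a) _
  refine le_antisymm ?_ ?_
  · refine LogConn95.layer_le hco' hc hcomm' (fun i => ⟨((u i)⁻¹ : Bˣ).val, ?_⟩) hrow' (fun i j => ?_) p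
    · rw [mul_comm (u i : B), mul_assoc, Units.mul_inv, mul_one]
    · obtain ⟨c, hc'⟩ := hco.dvd (D (u j : B)) i
      refine ⟨((u i)⁻¹ : Bˣ).val * ((u j)⁻¹ : Bˣ).val * c, ?_⟩
      rw [hω', map_add, map_smul, ω.repr_self, Finsupp.add_apply, Finsupp.smul_apply, hc',
        Finsupp.single_apply, smul_eq_mul]
      congr 1
      · by_cases h : i = j
        · subst h; simp
        · simp [h, Ne.symm h]
      · linear_combination (-(((u j)⁻¹ : Bˣ).val * t i * c)) * Units.mul_inv (u i)
  · refine LogConn95.layer_le hco hc hcomm (fun i => dvd_mul_left _ _) hrow (fun i j => ?_) p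
    obtain ⟨c, hc'⟩ := hco'.dvd (D (u j : B)) i
    refine ⟨(u i : B) * (-((u j)⁻¹ : Bˣ).val) * c, ?_⟩
    rw [hω, map_add, map_smul, ω'.repr_self, Finsupp.add_apply, Finsupp.smul_apply, hc',
      Finsupp.single_apply, smul_eq_mul]
    congr 1
    · by_cases h : i = j
      · subst h; simp
      · simp [h, Ne.symm h]
    · ring

end Groth.Agent.S16798
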