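import Groth.Statements.S16799
import Groth.Agent.StPush.GoodQuotUnit
import Groth.Agent.StPush.UnitGlue
import Groth.Agent.ResPropLib.QuotDiag
import Groth.Agent.StFib.BGAtlas.FreeQuot
import Groth.Agent.StFib.QC2
import Groth.Agent.StFib.QCIsom
import Groth.Agent.StFib.SpaceCharts

set_option autoImplicit false
set_option linter.style.haveILetI false
set_option linter.unusedVariables false
set_option backward.isDefEq.respectTransparency false
set_option backward.isDefEq.respectTransparency.types false
universe u
open CategoryTheory MonoidalCategory CartesianMonoidalCategory AlgebraicGeometry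
open StMod

namespace Groth.Agent.S16799

open Groth.Agent

/-- Quasi-affine morphisms are quasi-compact and quasi-separated. -/
theorem qaff_qcqs {S : Scheme.{u}} {F G : AlgSp.Sp S} (hF : _root_.AlgSp.IsAlgSpace F) (hG : _root_.AlgSp.IsAlgSpace G)
    (f : F ⟶ G) (h : _root_.AlgSp.IsQuasiAffineMor f) :
    (_root_.AlgSp.IsQuasiCompactMor ⊓ _root_.AlgSp.IsQuasiSeparatedMor) f := by
  refine ⟨Groth.Agent.AlgSp.isQuasiCompactMor_of_affine hF hG f fun Z hZ g P fst snd sq => ?_,
    Groth.Agent.AlgSp.repWith_diagonal_of_affine hF fun Z hZ g Q fst snd sq => ?_⟩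
  · obtain ⟨W, i, fst', sW, hW⟩ := h hZ g
    haveI := hW
    haveI : CompactSpace (_root_.AlgSp.Points ((_root_.AlgSp.yon S).obj W)) := Groth.Agent.AlgSp.compactSpace_yon W
    let e := sW.isoIsPullback _ _ sq
    exact Groth.Agent.AlgSp.compactSpace_of_surjective e.hom fun x => ⟨_root_.AlgSp.Points.map e.inv x, by
      rw [← _root_.AlgSp.Points.map_comp, Iso.inv_hom_id]
      exact _root_.AlgSp.Points.map_id x⟩
  · obtain ⟨W, i, fst', sW, hW⟩ := h hZ g
    haveI := hW
    haveI : IsAffine Z.left := hZ
    haveI : QuasiSeparated i.left := inferInstance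
    exact Groth.Agent.AlgSp.repWith_diagonal_baseChange (p := 𝟙 _) (fst := (sq.isoIsPullback _ _ sW).hom)
      (snd := snd) (IsPullback.of_horiz_isIso ⟨by simp⟩)
      ((_root_.AlgSp.isQuasiSeparatedMor_yon_map_iff i).2 inferInstance)

/-- Let `R` be a commutative ring, `A` a commutative Hopf algebra over `R`, flat and of finite
presentation as an `R`-algebra (the coordinate ring of an affine, flat, finitely presented group
scheme `G` over `S = Spec R`), and `B` a commutative `R`-algebra with a coaction of `A` that is an
algebra map (an action of `G` on `X = Spec B`); let `C = B^A` be the ring of invariants and `Y =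
Spec C`. Suppose the action is tame: there is a comodule map `α : A → B` with `α 1 = 1`. Let `[X/G]`
be the fppf quotient stack in its description by `G`-torsors that are schemes with an equivariant
map to `X`, assumed to be an algebraic stack, and let `ρ : [X/G] ⟶ Y` be the functor over `(Sch/S)`
whose composite with the canonical `X ⟶ [X/G]` is the functor induced by the quotient map `X ⟶ Y`
(there is exactly one such functor). Then `ρ` is a good moduli space: pushforward along `ρ` takes
surjections of quasi-coherent modules on `[X/G]` to maps that are surjective on sections over every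
affine scheme etale over `Y`, the canonical map from the functions on any scheme etale over `Y` to
the sections of `ρ_* O` over it is bijective, and `ρ` is quasi-compact and quasi-separated. (The
published statement assumes only that `A` is flat over `R`; finite presentation of `A` is assumed
here as the setting in which good moduli spaces of quotient stacks and the pushforward of
quasi-coherent modules along `ρ` are defined.) -/
theorem result
    (R : Type u) [CommRing R] (A : Type u) [CommRing A] [HopfAlgebra R A] [Module.Flat R A]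
    [Algebra.FinitePresentation R A]
    (B : Type u) [CommRing B] [Algebra R B] [HopfRep.Comod R A B] [GLin.IsCoactAlg R A B]
    (htame : ∃ α : A →ₗ[R] B, Hoch.IsComodHom A α ∧ α 1 = 1)
    (h𝒳 : AlgSt.IsAlgStack Scheme.fppfPrecoverage
      (AlgSt.QuotSt Scheme.fppfPrecoverage (CoactBr.sp R A) (CoactBr.action R A B)))
    (ρ : AlgSt.QuotSt Scheme.fppfPrecoverage (CoactBr.sp R A) (CoactBr.action R A B) ⥤ᵇ
      AlgSt.ofSch (CoactBr.sp R ↥(GLin.invariants R A B)))
    (hρ : BasedFunctor.comp (AlgSt.quotMap Scheme.fppfPrecoverage (CoactBr.sp R A) (CoactBr.action R A B)) ρ =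
      AlgSt.ofSpMap ((AlgSp.yon (Spec (CommRingCat.of R))).map
        (CoactBr.pt (GLin.invariants R A B).val))) :
    StMod.IsGoodModuli ρ ∧ AlgSt.IsQuasiCompactMor Scheme.fppfPrecoverage ρ ∧
      AlgSt.IsQuasiSeparatedMor ρ := by
  obtain ⟨α, hα, h1⟩ := htame
  haveI : Flat (CoactBr.sp R A).hom := (HasRingHomProperty.Spec_iff (P := @Flat)).2
    (RingHom.flat_algebraMap_iff.2 ‹Module.Flat R A›)
  haveI : LocallyOfFinitePresentation (CoactBr.sp R A).hom :=
    (HasRingHomProperty.Spec_iff (P := @LocallyOfFinitePresentation)).2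
      (RingHom.finitePresentation_algebraMap.2 ‹Algebra.FinitePresentation R A›)
  let Y := CoactBr.sp R ↥(GLin.invariants R A B)
  let X := CoactBr.sp R B
  let aX := CoactBr.action R A B
  have hinv : aX.act ≫ CoactBr.pt (GLin.invariants R A B).val =
      snd (CoactBr.sp R A) X ≫ CoactBr.pt (GLin.invariants R A B).val :=
    (CoactBr.action_act_comp_eq_iff (R := R) (A := A) (B := B) _).2 (by
      apply Over.OverMorphism.ext
      exact congrArg CommaMorphism.left (StPush.GoodQuot.ract_val (R := R) (A := A) (B := B)))
  let Q : StPush.QuotCover.Setup (CoactBr.sp R A) X Y aX := ⟨_, ρ, hρ, h𝒳.isStack.1, hinv⟩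
  have hflat : ∀ E : _root_.AlgSp.EtOver ((_root_.AlgSp.yon (Spec (CommRingCat.of R))).obj Y),
      Flat (StMod.etaOf E).sec.down.left := fun E => by
    obtain ⟨h, hh⟩ := (_root_.AlgSp.yon (Spec (CommRingCat.of R))).map_surjective E.obj.hom
    have het : Etale h.left := by
      have := E.property
      rw [_root_.AlgSp.EtOver] at *
      exact (_root_.AlgSp.repWith_yon_map_iff _ _).1 (hh ▸ this)
    have hη : (StMod.etaOf E).sec = ⟨h⟩ := by
      change (_root_.AlgSp.J (Spec (CommRingCat.of R))).uliftYonedaEquiv E.obj.hom = _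
      rw [← hh]
      rfl
    rw [hη]
    infer_instance
  refine ⟨⟨fun F G u hu E hE => ?_, ?_⟩, ?_⟩
  · exact StPush.GoodQuot.relSectMap_surjective Q (StMod.etaOf E) hE α hα h1 u hu
  · refine StPush.unitIsIso_of_affine h𝒳.isStack.1 ρ fun E hE => ?_
    haveI := hflat E
    exact StPush.GoodQuot.unitSect_bijective Q rfl (StMod.etaOf E) hE
  · let 𝒬 := AlgSt.QuotSt Scheme.fppfPrecoverage (CoactBr.sp R A) aX
    have hY := StFib.isAlgStack_ofSp (F := (_root_.AlgSp.yon (Spec (CommRingCat.of R))).obj Y)
      (_root_.AlgSp.IsAlgSpace.yon_obj Y)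
    haveI : CompactSpace X.left := QuasiCompact.compactSpace_of_compactSpace X.hom
    have hc : AlgSt.IsQuasiCompact 𝒬 := by
      have hT := StFib.isAlgStack_overCat X
      have h2 := StFib.QuotBr.repByAlgSpWith_quotMap' (aX := aX) StFib.good_surjective.bc
        StFib.SliceDM.fppfLocal_surjective StFib.SpTors.surjective_hom
      exact StFib.isQuasiCompact_of_surjective hT h𝒳
        ((StFib.isSurjective_iff_rep hT h𝒳 (StFib.repByAlgSp1_of_with h2)).2 h2) (StFib.isQuasiCompact_overCat X)
    have hgqs : AlgSt.IsQuasiSeparatedMor (FibCat.toSelf 𝒬) :=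
      StFib.repByAlgSpWith_mono (ResPropLib.quot_diag_quasiAffine aX)
        fun F V m hm => qaff_qcqs F.property (_root_.AlgSp.IsAlgSpace.yon_obj V) m hm
    have hsep := StFib.rep_toOverCat_comp (StFib.rep_separated_toSelf_overCat Y inferInstance)
    have hYqs : AlgSt.IsQuasiSeparatedOver (AlgSt.ofSch Y) :=
      (StFib.isQuasiSeparatedMor_iff_of_rep (StFib.repByAlgSp1_of_with hsep)).2
        (StFib.repByAlgSpWith_mono hsep fun F U a ha => Groth.Agent.AlgSp.isQuasiSeparatedMor_of_sep ha)
    refine ⟨StFib.isQuasiCompactMor_of_qc_of_qs h𝒳 hY ρ hc hYqs, ?_⟩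
    obtain ⟨i⟩ := StFib.exists_iso_toSelf (BasedFunctor.comp ρ (FibCat.toSelf (AlgSt.ofSch Y)))
    exact StFib.isQuasiSeparatedMor_of_comp_stack hYqs (StFib.repByAlgSpWith_diag_of_iso _ i.symm hgqs)

end Groth.Agent.S16799
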