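import Groth.Statements.S16806
import Groth.Agent.StFib.Gerbe.SingletonRed

set_option autoImplicit false
set_option backward.isDefEq.respectTransparency false
set_option backward.isDefEq.respectTransparency.types false
universe u
open CategoryTheory AlgebraicGeometry
open Gerb

namespace Groth.Agent.S16806

/-- An algebraic stack 𝒵 is reduced, locally Noetherian and has exactly one point if and only if it
receives a locally finitely presented, surjective, flat morphism from the spectrum of a field. -/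
theorem result
    (S : Scheme.{u}) (𝒵 : AlgSt.Cat S) (h𝒵 : AlgSt.IsAlgStack Scheme.fppfPrecoverage 𝒵) :
    (AlgSt.SmoothLocally (fun T => IsReduced T) 𝒵 ∧ AlgSt.SmoothLocally (fun T => IsLocallyNoetherian T) 𝒵 ∧
        Nonempty (AlgSt.Points 𝒵) ∧ Subsingleton (AlgSt.Points 𝒵)) ↔
      ∃ (k : Type u) (_ : Field k) (a : Spec (CommRingCat.of k) ⟶ S)
        (z : FibCat.overCat (Over.mk a) ⥤ᵇ 𝒵), AlgSt.RepByAlgSpWith (AlgSp.LocP @LocallyOfFinitePresentation) z ∧
          AlgSt.RepByAlgSpWith AlgSp.IsSurjectiveMor z ∧ AlgSt.RepByAlgSpWith (AlgSp.LocP @Flat) z := by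
  refine ⟨fun ⟨hred, hN, hne, hsub⟩ => ?_, fun ⟨k, hk, a, z, hzp, hzs, hzf⟩ => ?_⟩
  · obtain ⟨k, hk, a, z, -, h2, h3, h4⟩ := Groth.Agent.StFib.Gerbe.exists_lft_fieldPt h𝒵 hred
    exact ⟨k, hk, a, z, h4 hN, h2, h3⟩
  · exact ⟨Groth.Agent.StFib.Gerbe.smoothLocally_reduced_of_fieldPt h𝒵 hzs hzf,
      Groth.Agent.StFib.Gerbe.smoothLocally_noetherian_of_fieldPt h𝒵 hzs hzf hzp,
      Groth.Agent.StFib.Gerbe.points_of_surjective_fieldPt h𝒵.isStack.1 hzs⟩

end Groth.Agent.S16806
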