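import Groth.Statements.S16808
import Groth.Agent.StFib.Gerbe.ResSub

set_option autoImplicit false
set_option backward.isDefEq.respectTransparency false
set_option backward.isDefEq.respectTransparency.types false
universe u
open CategoryTheory AlgebraicGeometry
open Gerb

namespace Groth.Agent.S16808

/-- Let the algebraic stack 𝒵 receive a surjective flat morphism from the spectrum of a field. Then
there is a unique strictly full subcategory of 𝒵 which is an algebraic stack receiving a locally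
finitely presented, surjective, flat morphism from the spectrum of a field; its inclusion into 𝒵 is
a monomorphism. -/
theorem result
    (S : Scheme.{u}) (𝒵 : AlgSt.Cat S) (h𝒵 : AlgSt.IsAlgStack Scheme.fppfPrecoverage 𝒵)
    (k : Type u) [Field k] (a : Spec (CommRingCat.of k) ⟶ S)
    (z : FibCat.overCat (Over.mk a) ⥤ᵇ 𝒵)
    (hzs : AlgSt.RepByAlgSpWith AlgSp.IsSurjectiveMor z) (hzf : AlgSt.RepByAlgSpWith (AlgSp.LocP @Flat) z) :
    ∃ Q : 𝒵.obj → Prop,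
      (ObjectProperty.IsClosedUnderIsomorphisms Q ∧ AlgSt.IsAlgStack Scheme.fppfPrecoverage (AlgSt.fullSub 𝒵 Q) ∧
        (∃ (k' : Type u) (_ : Field k') (a' : Spec (CommRingCat.of k') ⟶ S)
          (z' : FibCat.overCat (Over.mk a') ⥤ᵇ AlgSt.fullSub 𝒵 Q),
          AlgSt.RepByAlgSpWith (AlgSp.LocP @LocallyOfFinitePresentation) z' ∧
            AlgSt.RepByAlgSpWith AlgSp.IsSurjectiveMor z' ∧ AlgSt.RepByAlgSpWith (AlgSp.LocP @Flat) z') ∧
        AlgSt.IsMono (AlgSt.subIncl 𝒵 Q)) ∧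
      ∀ Q' : 𝒵.obj → Prop, ObjectProperty.IsClosedUnderIsomorphisms Q' → AlgSt.IsAlgStack Scheme.fppfPrecoverage (AlgSt.fullSub 𝒵 Q') →
        (∃ (k' : Type u) (_ : Field k') (a' : Spec (CommRingCat.of k') ⟶ S)
          (z' : FibCat.overCat (Over.mk a') ⥤ᵇ AlgSt.fullSub 𝒵 Q'),
          AlgSt.RepByAlgSpWith (AlgSp.LocP @LocallyOfFinitePresentation) z' ∧
            AlgSt.RepByAlgSpWith AlgSp.IsSurjectiveMor z' ∧ AlgSt.RepByAlgSpWith (AlgSp.LocP @Flat) z') →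
        ∀ ξ : 𝒵.obj, Q' ξ ↔ Q ξ := by
  open Groth.Agent.StFib in
  obtain ⟨hne, hss⟩ := Gerbe.points_of_surjective_fieldPt h𝒵.isStack.1 hzs
  obtain ⟨k₁, hk₁, a₁, z₁, hl, -⟩ := Gerbe.exists_lft_fieldPt h𝒵
    (Gerbe.smoothLocally_reduced_of_fieldPt h𝒵 hzs hzf)
  obtain ⟨Q, hi, hA, hm, z', -, hp, hs, hfl⟩ := Gerbe.exists_image_substack h𝒵 h𝒵 (Gerbe.isMono_id h𝒵) hl
  refine ⟨Q, ⟨hi, hA, ⟨k₁, hk₁, a₁, z', hp, hs, hfl⟩, hm⟩, fun Q' hi' hA' ⟨k', hk', a', y, hp', hs', hfl'⟩ ξ => ?_⟩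
  obtain ⟨⟨P⟩, -⟩ := Gerbe.points_of_surjective_fieldPt hA.isStack.1 hs
  obtain ⟨⟨P'⟩, -⟩ := Gerbe.points_of_surjective_fieldPt hA'.isStack.1 hs'
  exact ⟨Gerbe.le_of_fieldPt h𝒵 hi hA hA' P P' (Subsingleton.elim _ _) hp' hs' hfl' ξ,
    Gerbe.le_of_fieldPt h𝒵 hi' hA' hA P' P (Subsingleton.elim _ _) hp hs hfl ξ⟩

end Groth.Agent.S16808
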