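import Groth.Statements.S16809
import Groth.Agent.StFib.Gerbe.ResSub

set_option autoImplicit false
set_option backward.isDefEq.respectTransparency false
set_option backward.isDefEq.respectTransparency.types false
universe u
open CategoryTheory AlgebraicGeometry
open Gerb

namespace Groth.Agent.S16809

/-- (1)⇔(2)⇔(3): for a point x of an algebraic stack 𝒳 the following are equivalent: some algebraic
stack with exactly one point maps monomorphically to 𝒳 onto x; some reduced algebraic stack with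
exactly one point does; some algebraic stack 𝒵 with a monomorphism f : 𝒵 → 𝒳 receives a surjective
flat morphism z from the spectrum of a field with f(z) = x. -/
theorem result
    (S : Scheme.{u}) (𝒳 : AlgSt.Cat S) (h𝒳 : AlgSt.IsAlgStack Scheme.fppfPrecoverage 𝒳) (x : AlgSt.Points 𝒳) :
    [Gerb.ResGerbeExists Scheme.fppfPrecoverage 𝒳 x,
      ∃ (𝒵 : AlgSt.Cat S) (f : 𝒵 ⥤ᵇ 𝒳), AlgSt.IsAlgStack Scheme.fppfPrecoverage 𝒵 ∧
        AlgSt.SmoothLocally (fun T => IsReduced T) 𝒵 ∧ AlgSt.IsMono f ∧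
        Nonempty (AlgSt.Points 𝒵) ∧ Subsingleton (AlgSt.Points 𝒵) ∧ ∀ p, AlgSt.Points.map f p = x,
      ∃ (𝒵 : AlgSt.Cat S) (f : 𝒵 ⥤ᵇ 𝒳) (k : Type u) (_ : Field k) (a : Spec (CommRingCat.of k) ⟶ S)
        (z : FibCat.overCat (Over.mk a) ⥤ᵇ 𝒵), AlgSt.IsAlgStack Scheme.fppfPrecoverage 𝒵 ∧ AlgSt.IsMono f ∧
        AlgSt.RepByAlgSpWith AlgSp.IsSurjectiveMor z ∧ AlgSt.RepByAlgSpWith (AlgSp.LocP @Flat) z ∧
        ∀ t : ↥(Over.mk a).left, AlgSt.Points.map f (AlgSt.Points.ofChart z t) = x].TFAE := by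
  open Groth.Agent.StFib in
  tfae_have 1 → 2 := fun ⟨𝒵, i, hA, hm, hne, hss, hx⟩ => by
    obtain ⟨Q, hQ, hrange, hred⟩ := exists_reduced_closedSubstack hA Set.univ isClosed_univ
    obtain ⟨hQi, hQA, hQc⟩ := hQ
    have hm₀ := Gerbe.subIncl_isMono hQA hA
    have hinj := points_map_injective_of_isMono hQA.isStack.1 hA.isStack.1 _ hm₀
    obtain ⟨_, _⟩ := fullyFaithful_of_isMono hA.isStack.1 h𝒳.isStack.1 i hm
    obtain ⟨_, _⟩ := fullyFaithful_of_isMono hQA.isStack.1 hA.isStack.1 _ hm₀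
    have : (BasedFunctor.comp (AlgSt.subIncl 𝒵 Q) i).toFunctor.Full :=
      inferInstanceAs ((AlgSt.subIncl 𝒵 Q).toFunctor ⋙ i.toFunctor).Full
    have : (BasedFunctor.comp (AlgSt.subIncl 𝒵 Q) i).toFunctor.Faithful :=
      inferInstanceAs ((AlgSt.subIncl 𝒵 Q).toFunctor ⋙ i.toFunctor).Faithful
    refine ⟨_, BasedFunctor.comp (AlgSt.subIncl 𝒵 Q) i, hQA, hred, isMono_of_fullyFaithful hQA h𝒳 _, ?_,
      ⟨fun p q => hinj (Subsingleton.elim _ _)⟩, fun p => ?_⟩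
    · obtain ⟨p⟩ := hne
      obtain ⟨q, -⟩ : p ∈ Set.range (AlgSt.Points.map (AlgSt.subIncl 𝒵 Q)) := hrange.symm ▸ Set.mem_univ p
      exact ⟨q⟩
    · rw [points_map_comp]
      exact hx _
  tfae_have 2 → 1 := fun ⟨𝒵, i, hA, _, hm, hne, hss, hx⟩ => ⟨𝒵, i, hA, hm, hne, hss, hx⟩
  tfae_have 2 → 3 := fun ⟨𝒵, i, hA, hr, hm, hne, hss, hx⟩ => by
    obtain ⟨k, hk, a, z, -, hs, hfl, -⟩ := Gerbe.exists_lft_fieldPt hA hr
    exact ⟨𝒵, i, k, hk, a, z, hA, hm, hs, hfl, fun t => hx _⟩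
  tfae_have 3 → 2 := fun ⟨𝒵, i, k, hk, a, z, hA, hm, hs, hfl, hx⟩ => by
    obtain ⟨hne, hss⟩ := Gerbe.points_of_surjective_fieldPt hA.isStack.1 hs
    obtain ⟨t⟩ := Gerbe.nonempty_field_mk k a
    exact ⟨𝒵, i, hA, Gerbe.smoothLocally_reduced_of_fieldPt hA hs hfl, hm, hne, hss,
      fun p => by rw [Subsingleton.elim p (AlgSt.Points.ofChart z t)]; exact hx t⟩
  tfae_finish

end Groth.Agent.S16809
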