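import Groth.Statements.S1681
import Groth.Agent.BlowUp.Basic

set_option autoImplicit false
universe u
open CategoryTheory CategoryTheory.Limits AlgebraicGeometry TopologicalSpace
open SDiv

namespace Groth.Agent.S1681

/-- Let b : X' ⟶ X be a blowing-up of X along the quasi-coherent ideal sheaf 𝓘. Then b restricts to a
bijection from the maximal points of X' (points with no proper generization) onto the maximal points
of X not lying in the support of 𝓘. -/
theorem result {X X' : Scheme.{u}} (𝓘 : X.IdealSheafData) (b : X' ⟶ X) (hb : BlowUp.IsBlowUp b 𝓘) :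
    Set.BijOn (fun x' => b x') {x' : ↥X' | ∀ y : ↥X', y ⤳ x' → y = x'}
      {x : ↥X | (∀ y : ↥X, y ⤳ x → y = x) ∧ x ∉ 𝓘.support} := by

  have hCdisj : Disjoint ((𝓘.support.compl : X.Opens) : Set X) (𝓘.support : Set X) :=
    disjoint_compl_left
  have := Groth.Agent.BlowUp.Basic.isIso_restrict hb _ hCdisj
  have hbij : Function.Bijective (b ∣_ 𝓘.support.compl) :=
    (Scheme.Hom.homeomorph (b ∣_ 𝓘.support.compl)).bijective
  have hoff : ∀ x' : X', (∀ y : X', y ⤳ x' → y = x') → b x' ∉ 𝓘.support := by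
    intro x' hx'
    have := Groth.Agent.IdealSh.Regular.not_mem_support_of_maximal hb.1 x' hx'
    rwa [Scheme.IdealSheafData.support_comap] at this
  have hemb : Topology.IsInducing (b ∣_ 𝓘.support.compl) :=
    (Scheme.Hom.homeomorph (b ∣_ 𝓘.support.compl)).isInducing
  refine ⟨fun x' hx' => ⟨fun y hy => ?_, hoff x' hx'⟩, ?_, ?_⟩
  · have hyC : y ∈ (𝓘.support.compl : X.Opens) :=
      hy.mem_open (𝓘.support.compl : X.Opens).2 (hoff x' hx')
    obtain ⟨z, hz⟩ := hbij.2 ⟨y, hyC⟩
    have h1 : z ⤳ ⟨x', hoff x' hx'⟩ := by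
      rw [← hemb.specializes_iff, hz]
      exact subtype_specializes_iff _ _ |>.mpr (by simpa [morphismRestrict_base_coe] using hy)
    have h2 : z.1 = x' := hx' z.1 (h1.map continuous_subtype_val)
    have h3 := congrArg Subtype.val hz
    rw [morphismRestrict_base_coe, h2] at h3
    exact h3.symm
  · intro x₁ h₁ x₂ h₂ he
    have h3 : (b ∣_ 𝓘.support.compl) ⟨x₁, hoff x₁ h₁⟩ = (b ∣_ 𝓘.support.compl) ⟨x₂, hoff x₂ h₂⟩ :=
      Subtype.ext (by simpa [morphismRestrict_base_coe] using he)
    exact congrArg Subtype.val (hbij.1 h3)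
  · intro x hx
    obtain ⟨z, hz⟩ := hbij.2 ⟨x, hx.2⟩
    have hzx : b z.1 = x := by
      have h3 := congrArg Subtype.val hz
      rwa [morphismRestrict_base_coe] at h3
    refine ⟨z.1, fun y hy => ?_, hzx⟩
    have hy' : b y = x := hx.1 _ (hzx ▸ hy.map b.continuous)
    have hyC : b y ∈ (𝓘.support.compl : X.Opens) := hy' ▸ hx.2
    have h3 : (b ∣_ 𝓘.support.compl) ⟨y, hyC⟩ = (b ∣_ 𝓘.support.compl) z :=
      hz ▸ Subtype.ext (by simpa [morphismRestrict_base_coe] using hy')
    exact congrArg Subtype.val (hbij.1 h3)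

end Groth.Agent.S1681
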