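import Groth.Statements.S16812
import Groth.Agent.StFib.Gerbe.ResSub

set_option autoImplicit false
set_option backward.isDefEq.respectTransparency false
set_option backward.isDefEq.respectTransparency.types false
universe u
open CategoryTheory AlgebraicGeometry
open Gerb

namespace Groth.Agent.S16812

/-- Let 𝒵 be a reduced, locally Noetherian algebraic stack with exactly one point and f : 𝒵 → 𝒳 a
monomorphism to an algebraic stack sending that point to x. Then the residual gerbe 𝒵_x ⊂ 𝒳 at x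
exists (a strictly full subcategory which is a reduced, locally Noetherian algebraic stack with one
point over x) and f factors through it by an equivalence 𝒵 → 𝒵_x. -/
theorem result
    (S : Scheme.{u}) (𝒳 : AlgSt.Cat S) (h𝒳 : AlgSt.IsAlgStack Scheme.fppfPrecoverage 𝒳) (x : AlgSt.Points 𝒳)
    (𝒵 : AlgSt.Cat S) (h𝒵 : AlgSt.IsAlgStack Scheme.fppfPrecoverage 𝒵)
    (hred : AlgSt.SmoothLocally (fun T => IsReduced T) 𝒵)
    (hnoeth : AlgSt.SmoothLocally (fun T => IsLocallyNoetherian T) 𝒵)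
    (hne : Nonempty (AlgSt.Points 𝒵)) (hsub : Subsingleton (AlgSt.Points 𝒵))
    (f : 𝒵 ⥤ᵇ 𝒳) (hf : AlgSt.IsMono f) (hfx : ∀ p : AlgSt.Points 𝒵, AlgSt.Points.map f p = x) :
    ∃ Q : 𝒳.obj → Prop, Gerb.IsResGerbe Scheme.fppfPrecoverage 𝒳 x Q ∧
      ∃ e : 𝒵 ⥤ᵇ AlgSt.fullSub 𝒳 Q, FibCat.IsEquivOver e ∧
        Nonempty (BasedFunctor.comp e (AlgSt.subIncl 𝒳 Q) ≅ f) := by
  open Groth.Agent.StFib in
  obtain ⟨Q, hQ⟩ := Gerbe.exists_isResGerbe_of_mono h𝒳 h𝒵 hred hf hfx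
  obtain ⟨k, hk, a, z, hp, hs, hfl⟩ := Gerbe.exists_fppf_fieldPt h𝒵 hred hnoeth
  obtain ⟨hi, hA, hr, hn, hne', hss', hx⟩ := hQ
  obtain ⟨P⟩ := hne'
  obtain ⟨R⟩ := hne
  have hm := Gerbe.subIncl_isMono hA h𝒳
  obtain ⟨g, ⟨e⟩⟩ := Gerbe.exists_factor_of_mono hA h𝒵 h𝒳 hm f P R ((hx P).trans (hfx R).symm) hp hs hfl
  obtain ⟨_, _⟩ := fullyFaithful_of_isMono h𝒵.isStack.1 h𝒳.isStack.1 f hf
  obtain ⟨_, _⟩ := fullyFaithful_of_isMono hA.isStack.1 h𝒳.isStack.1 _ hm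
  obtain ⟨_, _⟩ := Gerbe.fullyFaithful_of_comp_iso e
  have : Nonempty (AlgSt.Points 𝒵) := ⟨R⟩
  obtain ⟨k', hk', a', z', hp', hs', hfl'⟩ := @Gerbe.exists_fppf_fieldPt S _ hA hr hn ⟨P⟩ hss'
  exact ⟨Q, ⟨hi, hA, hr, hn, ⟨P⟩, hss', hx⟩, g,
    Gerbe.isEquivOver_of_mono h𝒵 hA (isMono_of_fullyFaithful h𝒵 hA g) hp' hs' hfl', ⟨e⟩⟩

end Groth.Agent.S16812
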