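import Groth.Statements.S16828
import Groth.Agent.StFib.QAffDiag

set_option autoImplicit false
set_option backward.isDefEq.respectTransparency false
set_option backward.isDefEq.respectTransparency.types false
universe u
open AlgSt

namespace Groth.Agent.S16828

open CategoryTheory AlgebraicGeometry in
/-- Let 𝒳 be a Deligne–Mumford stack over (Sch/S) for the etale topology whose diagonal 𝒳 → 𝒳
×_{(Sch/S)} 𝒳 is separated and quasi-compact (representable by algebraic spaces with these
properties). Then the diagonal is quasi-affine: representable by algebraic spaces with every base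
change to a scheme a quasi-affine morphism. The source states this for the absolute diagonal; the
diagonal over S is used here. -/
theorem result {S : Scheme.{u}} (𝒳 : AlgSt.Cat S)
    (h𝒳 : AlgSt.IsDM Scheme.etalePrecoverage 𝒳)
    (hsep : AlgSt.RepByAlgSpWith AlgSp.IsSeparatedMor (FibCat.diag (FibCat.toSelf 𝒳)))
    (hqc : AlgSt.RepByAlgSpWith AlgSp.IsQuasiCompactMor (FibCat.diag (FibCat.toSelf 𝒳))) :
    AlgSt.RepByAlgSpWith AlgSp.IsQuasiAffineMor (FibCat.diag (FibCat.toSelf 𝒳)) := by
  obtain ⟨F, e, he⟩ := Groth.Agent.StFib.repByAlgSp_selfOver (S := S)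
  exact Groth.Agent.StFib.isQuasiAffineMor_rep h𝒳.1.isStack.1
    (Groth.Agent.StFib.isFibGrpd_fp h𝒳.1.isStack.1 h𝒳.1.isStack.1
      (Groth.Agent.StFib.isFibGrpd_of_isEquivOver he (Stk.isFibGrpd_ofPsh _)) _ _) hsep hqc
    (Groth.Agent.StFib.isDMOver_of_etale_atlas h𝒳.1 h𝒳.2)

end Groth.Agent.S16828
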