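import Groth.Statements.S16832
import Groth.Agent.StFib.TrivialAut

set_option autoImplicit false
set_option backward.isDefEq.respectTransparency false
set_option backward.isDefEq.respectTransparency.types false
universe u
open AlgSt

namespace Groth.Agent.S16832

open CategoryTheory AlgebraicGeometry in
/-- Let 𝒳 be an algebraic stack over (Sch/S) for the etale topology. Then 𝒳 is an algebraic space
(equivalent over (Sch/S) to the category of sections of an algebraic space) if and only if every
point of 𝒳 has trivial stabilizer: for every field k, every morphism Spec k → S and every functor x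
: (Sch/Spec k) → 𝒳 over (Sch/S), the group of automorphisms over the identity of the object x(T) is
trivial for every scheme T over Spec k (the stabilizer of x, a group algebraic space over k, has
only the identity section over every T). -/
theorem result {S : Scheme.{u}} (𝒳 : AlgSt.Cat S)
    (h𝒳 : AlgSt.IsAlgStack Scheme.etalePrecoverage 𝒳) :
    AlgSt.RepByAlgSp 𝒳 ↔
      ∀ (k : Type u) [Field k] (sk : Spec (CommRingCat.of k) ⟶ S)
        (x : FibCat.overCat (Over.mk sk) ⥤ᵇ 𝒳) (T : Over (Over.mk sk)),
        Subsingleton (Gerb.AutO (x.obj T)) := by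
  open Groth.Agent.StFib FibCat in
  refine ⟨fun h k _ sk x T => ⟨fun a b => ?_⟩, fun H => ?_⟩
  · have hs := isFibSetoid_of_repByAlgSp h
    exact Iso.ext (Functor.Fiber.hom_ext (vert_unique_of_isFibSetoid hs
      (vert_iff.2 a.hom.2) (vert_iff.2 b.hom.2)))
  · have hS : AlgSt.IsAlgStack Scheme.etalePrecoverage (selfOver (C := Over S)) :=
      ⟨isStack_anti AlgSpB.etJ_le isAlgStack_selfOver.isStack, isAlgStack_selfOver.diag, isAlgStack_selfOver.atlas⟩
    refine repByAlgSp_of_setoid etJ_le_etale (isFibSetoid_of_trivialAut h𝒳 hS ?_) h𝒳.isStack h𝒳.atlas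
    intro K _ X₀ hX₀ x T φ hφ _
    obtain ⟨l, r, s⟩ := X₀
    obtain ⟨⟨⟩⟩ := r
    cases hX₀
    have := hφ.isIso h𝒳.isStack.1
    let a : Gerb.AutO (x.obj T) :=
      ⟨⟨φ, vert_iff.1 hφ⟩, ⟨inv φ, vert_iff.1 (Vert.inv (φ := asIso φ) hφ)⟩,
        Functor.Fiber.hom_ext (IsIso.hom_inv_id φ), Functor.Fiber.hom_ext (IsIso.inv_hom_id φ)⟩
    exact congrArg (fun g : Gerb.AutO (x.obj T) => g.hom.1) ((H K s x T).elim a 1)

end Groth.Agent.S16832
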