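import Groth.Statements.S16834
import Groth.Agent.S10533
import Groth.Agent.AlgSp.Space
import Groth.Agent.AlgSpCov.Instances
import Groth.Agent.AlgSpCov.LocPBasic
import Mathlib.AlgebraicGeometry.Morphisms.Flat

set_option autoImplicit false
set_option backward.isDefEq.respectTransparency false
set_option backward.isDefEq.respectTransparency.types false
universe u
open CategoryTheory CategoryTheory.Limits AlgebraicGeometry
open AlgSp Groth.Agent

namespace Groth.Agent.S16834


/-- A map between affine schemes is an affine morphism of algebraic spaces. -/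
theorem isAffineMor_yon_map {S : Scheme.{u}} {A B : Over S} [IsAffine A.left] [IsAffine B.left] (φ : A ⟶ B) :
    IsAffineMor ((yon S).map φ) := by
  intro Z hZ g
  obtain ⟨ψ, rfl⟩ := (yon S).map_surjective g
  refine ⟨pullback φ ψ, pullback.snd φ ψ, (yon S).map (pullback.fst φ ψ),
    (IsPullback.of_hasPullback φ ψ).map (yon S), ?_⟩
  have hp : IsPullback (pullback.fst φ ψ).left (pullback.snd φ ψ).left φ.left ψ.left :=
    (IsPullback.of_hasPullback φ ψ).map (Over.forget S)
  exact IsAffine.of_isIso hp.isoPullback.hom

/-- Let k be a field with algebraic closure k̄ and X an algebraic space over Spec k which is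
quasi-separated over k and whose structure morphism is locally of finite type. If the base change X
×_k Spec k̄ (product with h_{Spec k̄} in fppf sheaves over Spec k) is isomorphic to h_T for an
affine scheme T over k, then X is isomorphic to h_U for an affine scheme U over k. -/
theorem result (k : Type u) [Field k]
    (X : AlgSp.Space (Spec (CommRingCat.of k))) (hqs : AlgSp.IsQuasiSeparatedSp X.obj)
    (hlft : ∀ q : X.obj ⟶ (AlgSp.yon (Spec (CommRingCat.of k))).obj (Over.mk (𝟙 _)),
      AlgSp.LocP @LocallyOfFiniteType q)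
    (kbar : Type u) [Field kbar] [Algebra k kbar] [IsAlgClosure k kbar]
    (T : Over (Spec (CommRingCat.of k))) (hT : IsAffine T.left)
    (e : X.obj ⨯ (AlgSp.yon (Spec (CommRingCat.of k))).obj
        (Over.mk (Spec.map (CommRingCat.ofHom (algebraMap k kbar)))) ≅
      (AlgSp.yon (Spec (CommRingCat.of k))).obj T) :
    ∃ (U : Over (Spec (CommRingCat.of k))), IsAffine U.left ∧
      Nonempty (X.obj ≅ (AlgSp.yon (Spec (CommRingCat.of k))).obj U) := by
  let P : Over (Spec (CommRingCat.of k)) := Over.mk (𝟙 _)
  let K : Over (Spec (CommRingCat.of k)) := Over.mk (Spec.map (CommRingCat.ofHom (algebraMap k kbar)))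
  have : IsAffine T.left := hT
  have : IsAffine K.left := inferInstanceAs (IsAffine (Spec _))
  have : IsAffine P.left := inferInstanceAs (IsAffine (Spec _))
  have hterm : IsTerminal ((yon _).obj P) := Over.mkIdTerminal.isTerminalObj _ _
  let c : K ⟶ P := Over.mkIdTerminal.from K
  have hflat : Flat c.left := by
    have : c.left = Spec.map (CommRingCat.ofHom (algebraMap k kbar)) := (Category.comp_id c.left).symm.trans (Over.w c)
    rw [this, HasRingHomProperty.Spec_iff (P := @Flat)]
    exact (RingHom.flat_algebraMap_iff (R := k) (S := kbar)).2 inferInstance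
  have hsurj : Surjective c.left := ⟨fun z => ⟨⟨⊥, Ideal.isPrime_bot⟩,
    @Subsingleton.elim _ (inferInstanceAs (Subsingleton (PrimeSpectrum k))) _ _⟩⟩
  let f := hterm.from X.obj
  have sq : IsPullback (Limits.prod.fst : X.obj ⨯ (yon _).obj K ⟶ X.obj) Limits.prod.snd f ((yon _).map c) :=
    (IsPullback.of_is_product' (Limits.prodIsProd X.obj ((yon _).obj K)) hterm).of_iso
      (Iso.refl _) (Iso.refl _) (Iso.refl _) (Iso.refl _) (by simp) (by simp) (hterm.hom_ext _ _) (hterm.hom_ext _ _)
  have hcov : IsFpqcCover (fun _ : PUnit.{u + 1} => (yon _).obj K) (fun _ => (yon _).map c) := by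
    refine ⟨fun _ => AlgSpCov.locP_of_repWith AlgSpCov.etaleLocal_flat ((repWith_yon_map_iff (P := @Flat) c).2 hflat),
      fun Z hZ h => ?_⟩
    obtain ⟨h, rfl⟩ := (yon _).map_surjective h
    have hp : IsPullback (pullback.fst c h).left (pullback.snd c h).left c.left h.left :=
      (IsPullback.of_hasPullback c h).map (Over.forget _)
    refine ⟨1, fun _ => pullback c h, fun _ => pullback.snd c h, fun _ => IsAffine.of_isIso hp.isoPullback.hom,
      fun _ => MorphismProperty.of_isPullback (P := @Flat) hp hflat, fun z => ⟨0, ?_⟩,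
      fun _ => ⟨PUnit.unit, (yon _).map (pullback.fst c h), ?_⟩⟩
    · have : Surjective (pullback.snd c h).left := MorphismProperty.of_isPullback (P := @Surjective) hp hsurj
      exact (pullback.snd c h).left.surjective z
    · rw [← Functor.map_comp, ← Functor.map_comp, pullback.condition]
  have haff : IsAffineMor f := by
    refine (Groth.Agent.S10533.result _ _ _ (IsAlgSpace.yon_obj P) (fun _ => IsAlgSpace.yon_obj K) hcov f X.property
      (fun _ => (yon _).obj T) (fun _ => e.inv ≫ Limits.prod.snd) (fun _ => e.inv ≫ Limits.prod.fst)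
      (fun _ => IsAlgSpace.yon_obj T) (fun _ => ?_)).2 fun _ => ?_
    · exact sq.of_iso e (Iso.refl _) (Iso.refl _) (Iso.refl _) (by simp; rfl) (by simp; rfl) (by simp) (by simp)
    · obtain ⟨φ, hφ⟩ := (yon _).map_surjective (e.inv ≫ Limits.prod.snd)
      rw [← hφ]
      exact isAffineMor_yon_map φ
  obtain ⟨W, i, fst, sqW, hW⟩ := haff (Z := P) inferInstance (𝟙 _)
  have : IsIso fst := sqW.isIso_fst_of_isIso
  exact ⟨W, hW, ⟨(asIso fst).symm⟩⟩

end Groth.Agent.S16834
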