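import Groth.Statements.S16835
import Groth.Agent.H85.LunaMain

set_option autoImplicit false
universe u
open InvTh

namespace Groth.Agent.S16835

/-- Let R be a Noetherian commutative ring, A and B commutative R-algebras of finite type on which a
finite group G acts by R-algebra automorphisms, and B → A a G-equivariant homomorphism of
R-algebras. Assume that at every maximal ideal x of A, A is etale over B at x and the inertia
subgroup of x in G equals the inertia subgroup of its contraction to B. Give A^G the B^G-algebra
structure induced by B → A (compatible with B^G → B → A through A^G → A). Then A^G is etale over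
B^G. The source also asserts that the square formed by the quotient stacks and the invariant
quotients is cartesian; that clause is not stated. -/
theorem result (R : Type u)
    [CommRing R] [IsNoetherianRing R] (A B : Type u) [CommRing A] [CommRing B] [Algebra R A] [Algebra R B]
    [Algebra.FiniteType R A] [Algebra.FiniteType R B]
    (G : Type u) [Group G] [Finite G] [MulSemiringAction G A] [MulSemiringAction G B]
    [SMulCommClass G R A] [SMulCommClass G R B]
    [Algebra B A] [IsScalarTower R B A]
    (hGeq : ∀ (g : G) (b : B), algebraMap B A (g • b) = g • algebraMap B A b)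
    [Algebra (FixedPoints.subalgebra R B G) (FixedPoints.subalgebra R A G)]
    [IsScalarTower (FixedPoints.subalgebra R B G) (FixedPoints.subalgebra R A G) A]
    (h : ∀ (x : Ideal A) (_ : x.IsMaximal),
      Algebra.IsEtaleAt B x ∧ x.inertia G = (x.comap (algebraMap B A)).inertia G) :
    Algebra.Etale (FixedPoints.subalgebra R B G) (FixedPoints.subalgebra R A G) := by
  classical
  let A1 := FixedPoints.subalgebra R A G
  let B1 := FixedPoints.subalgebra R B G
  haveI : SMulCommClass G A1 A := ⟨fun g a z => by
    change g • ((a : A) * z) = (a : A) * (g • z)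
    rw [smul_mul']
    exact congrArg (· * _) (a.2 g)⟩
  haveI : SMulCommClass G B1 B := ⟨fun g a z => by
    change g • ((a : B) * z) = (a : B) * (g • z)
    rw [smul_mul']
    exact congrArg (· * _) (a.2 g)⟩
  haveI : Algebra.IsInvariant A1 A G := ⟨fun a ha => ⟨⟨a, ha⟩, rfl⟩⟩
  haveI : Algebra.IsInvariant B1 B G := ⟨fun a ha => ⟨⟨a, ha⟩, rfl⟩⟩
  obtain ⟨hA1, hA1'⟩ := H85.LunaMain.finiteType_and_finite R A G A1 Subtype.val_injective
  obtain ⟨hB1, hB1'⟩ := H85.LunaMain.finiteType_and_finite R B G B1 Subtype.val_injective
  haveI : IsNoetherianRing B1 := Algebra.FiniteType.isNoetherianRing R B1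
  haveI : IsScalarTower R B1 A1 := IsScalarTower.of_algebraMap_eq fun r => Subtype.ext (by
    change algebraMap R A r = algebraMap A1 A (algebraMap B1 A1 (algebraMap R B1 r))
    rw [← IsScalarTower.algebraMap_apply B1 A1 A]
    exact IsScalarTower.algebraMap_apply R B A r)
  haveI : Algebra.FiniteType B1 A1 := Algebra.FiniteType.of_restrictScalars_finiteType R B1 A1
  haveI : Algebra.FinitePresentation B1 A1 := Algebra.FinitePresentation.of_finiteType.mp ‹_›
  haveI : Algebra.IsIntegral A1 A := Algebra.IsIntegral.of_finite A1 A
  rw [← Algebra.etaleLocus_eq_univ_iff_etale]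
  have hopen := Algebra.isOpen_etaleLocus (R := B1) (A := A1)
  refine Set.eq_univ_of_forall fun p => ?_
  obtain ⟨m, hm, hle⟩ := Ideal.exists_le_maximal p.asIdeal p.2.ne_top
  have hm' : (⟨m, hm.isPrime⟩ : PrimeSpectrum A1) ∈ Algebra.etaleLocus B1 A1 := by
    obtain ⟨x, hx, hxm⟩ := Ideal.exists_ideal_over_maximal_of_isIntegral (S := A) m
      (le_of_eq_of_le ((RingHom.injective_iff_ker_eq_bot _).mp Subtype.val_injective) bot_le)
    obtain ⟨h1, h2⟩ := h x hx
    haveI := hx
    haveI := h1
    have h3 := H85.LunaMain.isEtaleAt_fixedPoints R A B G hGeq x h2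
    have : (⟨m, hm.isPrime⟩ : PrimeSpectrum A1) = ⟨x.comap (algebraMap A1 A), inferInstance⟩ :=
      PrimeSpectrum.ext hxm.symm
    rw [this]
    exact h3
  exact ((PrimeSpectrum.le_iff_specializes _ _).mp (show p ≤ ⟨m, hm.isPrime⟩ from hle)).mem_open hopen hm'

end Groth.Agent.S16835
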