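import Groth.Statements.S16836
import Mathlib.FieldTheory.Separable
import Mathlib.Algebra.Polynomial.FieldDivision
import Mathlib.FieldTheory.Perfect
import Mathlib.Algebra.Squarefree.Basic

set_option autoImplicit false
universe u v
open scoped Classical
open AbVar

namespace Groth.Agent.S16836

open Polynomial UniqueFactorizationMonoid in
theorem facts {K L : Type*} [Field K] [PerfectField K] [Field L] [Algebra K L] {P : Polynomial K}
    (hP : Irreducible P) (hPn : normalize P = P) :
    (normalizedFactors (P.map (algebraMap K L))).Nodup ∧
    ((normalizedFactors (P.map (algebraMap K L))).map natDegree).sum = P.natDegree := by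
  classical
  have hm : P.Monic := by
    have := Polynomial.monic_normalize hP.ne_zero
    rwa [hPn] at this
  have hm' := hm.map (algebraMap K L)
  refine ⟨?_, ?_⟩
  · rw [← squarefree_iff_nodup_normalizedFactors hm'.ne_zero]
    exact ((PerfectField.separable_of_irreducible hP).map (f := algebraMap K L)).squarefree
  · rw [← Polynomial.natDegree_multiset_prod _ (zero_notMem_normalizedFactors _), prod_normalizedFactors_eq hm'.ne_zero,
      hm'.normalize_eq_self, Polynomial.natDegree_map]

open Polynomial UniqueFactorizationMonoid in
theorem count_eq {K L : Type*} [Field K] [Field L] [Algebra K L] [PerfectField K] {f : Polynomial K} (hf : f ≠ 0)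
    {P : Polynomial K} (hP : Irreducible P) (hPn : normalize P = P) {Q : Polynomial L}
    (hQ : Q ∈ normalizedFactors (P.map (algebraMap K L))) :
    (normalizedFactors (f.map (algebraMap K L))).count Q = (normalizedFactors f).count P := by
  classical
  have hmap : normalizedFactors (f.map (algebraMap K L)) =
      (normalizedFactors f).bind fun P => normalizedFactors (P.map (algebraMap K L)) := by
    have key : ∀ s : Multiset (Polynomial K), (0 : Polynomial K) ∉ s →
        normalizedFactors (s.prod.map (algebraMap K L)) = s.bind fun P => normalizedFactors (P.map (algebraMap K L)) := by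
      intro s
      induction s using Multiset.induction_on with
      | empty => simp
      | cons a s ih =>
        intro h
        rw [Multiset.mem_cons, not_or] at h
        rw [Multiset.prod_cons, Polynomial.map_mul, normalizedFactors_mul, ih h.2, Multiset.cons_bind]
        · exact Polynomial.map_ne_zero (Ne.symm h.1)
        · exact Polynomial.map_ne_zero (Multiset.prod_ne_zero h.2)
    rw [← key _ (zero_notMem_normalizedFactors f)]
    exact ((prod_normalizedFactors hf).symm.map (Polynomial.mapRingHom (algebraMap K L))).normalizedFactors_eq
  rw [hmap, Multiset.count_bind]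
  have h : ∀ P' ∈ normalizedFactors f,
      (normalizedFactors (P'.map (algebraMap K L))).count Q = if P' = P then 1 else 0 := by
    intro P' hP'
    split_ifs with h
    · subst h
      exact Multiset.count_eq_one_of_mem (facts hP hPn).1 hQ
    · rw [Multiset.count_eq_zero]
      intro hQ'
      have hirr : Irreducible P' := irreducible_of_normalized_factor P' hP'
      have hcop : IsCoprime P' P := by
        rw [hirr.coprime_iff_not_dvd]
        intro hdvd
        exact h ((hirr.associated_of_dvd hP hdvd).eq_of_normalized (normalize_normalized_factor P' hP') hPn)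
      exact (irreducible_of_normalized_factor Q hQ).not_isUnit ((hcop.map (Polynomial.mapRingHom (algebraMap K L))).isUnit_of_dvd'
        (dvd_of_mem_normalizedFactors hQ') (dvd_of_mem_normalizedFactors hQ))
  rw [Multiset.map_congr rfl h, Multiset.sum_map_eq_nsmul_single P (fun a ha _ => by simp [ha])]
  simp

open Polynomial UniqueFactorizationMonoid in
/-- Let K ⊆ L be a field extension and f₁, f₂ non-zero polynomials in K[t]. For a field F and
polynomials g₁, g₂ over F put r_F(g₁, g₂) = Σ_P mult_P(g₁) · mult_P(g₂) · deg P, the sum running
over the monic irreducible polynomials P in F[t] (mult_P the multiplicity of P as an irreducible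
factor). Assume K is perfect. Then r_K(f₁, f₂) = r_L(f₁, f₂): the number does not depend on the
field over which the factorisations are taken. (Perfectness of K cannot be dropped: for K = F_p(s),
L = K(s^{1/p}) and f₁ = f₂ = t^p − s the number is p over K and p² over L, since the irreducible t^p
− s becomes a p-th power over L; the published statement has no restriction on K, and its proof
requires the relevant K[t]-modules to remain semisimple after base change, which holds when every
irreducible factor stays squarefree over L, in particular for K perfect.) -/
theorem result (K : Type u) (L : Type v) [Field K] [PerfectField K] [Field L] [Algebra K L]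
    (f₁ f₂ : K[X]) (h₁ : f₁ ≠ 0) (h₂ : f₂ ≠ 0) :
    ∑ P ∈ (normalizedFactors (f₁.map (algebraMap K L))).toFinset,
        (normalizedFactors (f₁.map (algebraMap K L))).count P *
          (normalizedFactors (f₂.map (algebraMap K L))).count P * P.natDegree =
      ∑ P ∈ (normalizedFactors f₁).toFinset,
        (normalizedFactors f₁).count P * (normalizedFactors f₂).count P * P.natDegree := by
  classical
  have hP : ∀ P ∈ (normalizedFactors f₁).toFinset, Irreducible P ∧ normalize P = P := fun P h =>
    ⟨irreducible_of_normalized_factor P (Multiset.mem_toFinset.1 h), normalize_normalized_factor P (Multiset.mem_toFinset.1 h)⟩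
  let T : K[X] → Finset L[X] := fun P => (normalizedFactors (P.map (algebraMap K L))).toFinset
  have hdisj : Set.PairwiseDisjoint ((normalizedFactors f₁).toFinset : Set K[X]) T := by
    intro P hP1 P' hP2 hne
    rw [Function.onFun, Finset.disjoint_left]
    intro Q hQ hQ'
    obtain ⟨hi, hn⟩ := hP P hP1
    obtain ⟨hi', hn'⟩ := hP P' hP2
    have h1 := count_eq (L := L) hi'.ne_zero hi hn (Multiset.mem_toFinset.1 hQ)
    rw [Multiset.count_eq_one_of_mem (facts hi' hn').1 (Multiset.mem_toFinset.1 hQ'), normalizedFactors_irreducible hi',
      hn', Multiset.count_singleton, if_neg hne] at h1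
    exact one_ne_zero h1
  have hset : (normalizedFactors (f₁.map (algebraMap K L))).toFinset = (normalizedFactors f₁).toFinset.biUnion T := by
    ext Q
    simp only [Multiset.mem_toFinset, Finset.mem_biUnion, T]
    constructor
    · intro hQ
      have hQi := irreducible_of_normalized_factor Q hQ
      have hdvd := dvd_of_mem_normalizedFactors hQ
      have h2 : Q ∣ ((normalizedFactors f₁).map fun P => P.map (algebraMap K L)).prod := by
        have := ((prod_normalizedFactors h₁).symm.map (Polynomial.mapRingHom (algebraMap K L))).dvd
        rw [map_multiset_prod] at this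
        exact hdvd.trans this
      obtain ⟨_, hm, hQP⟩ := hQi.prime.exists_mem_multiset_dvd h2
      obtain ⟨P, hPm, rfl⟩ := Multiset.mem_map.1 hm
      refine ⟨P, hPm, (mem_normalizedFactors_iff' (Polynomial.map_ne_zero (irreducible_of_normalized_factor P hPm).ne_zero)).2
        ⟨hQi, normalize_normalized_factor Q hQ, hQP⟩⟩
    · rintro ⟨P, hPm, hQ⟩
      obtain ⟨hi, hn⟩ := hP P (Multiset.mem_toFinset.2 hPm)
      refine Multiset.count_pos.1 ?_
      rw [count_eq h₁ hi hn hQ]
      exact Multiset.count_pos.2 hPm
  rw [hset, Finset.sum_biUnion hdisj]
  refine Finset.sum_congr rfl fun P hPm => ?_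
  obtain ⟨hi, hn⟩ := hP P hPm
  obtain ⟨hnd, hdeg⟩ := facts (L := L) hi hn
  rw [Finset.sum_congr rfl fun Q hQ => by
    rw [count_eq h₁ hi hn (Multiset.mem_toFinset.1 hQ), count_eq h₂ hi hn (Multiset.mem_toFinset.1 hQ)],
    ← Finset.mul_sum]
  congr 1
  rw [Finset.sum_eq_multiset_sum, Multiset.toFinset_val, hnd.dedup, hdeg]

end Groth.Agent.S16836
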