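import Groth.Statements.S16837
import Mathlib.LinearAlgebra.Charpoly.ToMatrix
import Mathlib.LinearAlgebra.Matrix.Charpoly.Minpoly

set_option autoImplicit false
universe u v w
open scoped Classical
open AbVar

namespace Groth.Agent.S16837

open Polynomial in
theorem exists_maximal_quot {K : Type u} [Field K] {V : Type v} [AddCommGroup V] [Module K V]
    [FiniteDimensional K V] (π : Module.End K V) (hπ : π.IsSemisimple) :
    ∃ (n : ℕ) (P : Fin n → K[X]), (∀ i, (P i).Monic ∧ Irreducible (P i)) ∧
      ∃ e : V ≃ₗ[K] Π i, AdjoinRoot (P i), ∀ v i, e (π v) i = AdjoinRoot.root (P i) * e v i := by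
  haveI : IsSemisimpleModule K[X] (Module.AEval' π) := hπ
  obtain ⟨n, S, e, hS⟩ := IsSemisimpleModule.exists_linearEquiv_fin_dfinsupp K[X] (Module.AEval' π)
  have hq : ∀ i, ∃ p : K[X], p.Monic ∧ Irreducible p ∧ Nonempty (S i ≃ₗ[K[X]] (K[X] ⧸ Ideal.span {p})) := by
    intro i
    haveI := hS i
    obtain ⟨I, hI, ⟨f⟩⟩ := isSimpleModule_iff_quot_maximal.mp (hS i)
    obtain ⟨p, hp⟩ := (IsPrincipalIdealRing.principal I).principal
    have hp0 : p ≠ 0 := by
      intro h
      have hI' : I = ⊥ := by rw [hp, h]; exact Ideal.span_singleton_eq_bot.mpr rfl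
      haveI : Module.Finite K (Module.AEval' π) := Module.Finite.equiv (Module.AEval'.of π)
      haveI : Module.Finite K (S i) :=
        Module.Finite.of_injective ((S i).subtype.restrictScalars K) (S i).injective_subtype
      haveI : Module.Finite K (K[X] ⧸ I) := Module.Finite.equiv (f.restrictScalars K)
      haveI : Module.Finite K K[X] :=
        Module.Finite.equiv ((Submodule.quotEquivOfEqBot I hI').restrictScalars K)
      exact Polynomial.not_finite (R := K) inferInstance
    have hm : (normalize p).Monic := Polynomial.monic_normalize hp0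
    have hspan : I = Ideal.span {normalize p} := by
      rw [hp]; exact (Ideal.span_singleton_eq_span_singleton.mpr (normalize_associated p).symm)
    refine ⟨normalize p, hm, ?_, ⟨?_⟩⟩
    · exact (Ideal.irreducible_iff_isMaximal_span_singleton hm.ne_zero).mpr (show (Ideal.span {normalize p}).IsMaximal from hspan ▸ hI)
    · exact f.trans (Submodule.quotEquivOfEq _ _ hspan)
  choose P hm hirr g using hq
  let eR : Module.AEval' π ≃ₗ[K[X]] Π i, (K[X] ⧸ Ideal.span {P i}) :=
    e.trans (DFinsupp.linearEquivFunOnFintype.trans (LinearEquiv.piCongrRight fun i => (g i).some))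
  refine ⟨n, P, fun i => ⟨hm i, hirr i⟩, (Module.AEval'.of π).trans (eR.restrictScalars K), fun v i => ?_⟩
  show eR (Module.AEval'.of π (π v)) i = _
  rw [← Module.AEval'.X_smul_of, map_smul, Pi.smul_apply]
  show X • eR (Module.AEval'.of π v) i = Ideal.Quotient.mk _ X * eR (Module.AEval'.of π v) i
  obtain ⟨a, ha⟩ := Submodule.Quotient.mk_surjective _ (eR (Module.AEval'.of π v) i)
  rw [← ha]
  rfl

open Polynomial in
theorem charpoly_mx {K : Type u} [Field K] : ∀ (n : ℕ) (P : Fin n → K[X]) (hm : ∀ i, (P i).Monic),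
    haveI : ∀ i, Module.Finite K (AdjoinRoot (P i)) := fun i => (AdjoinRoot.powerBasis' (hm i)).finite
    LinearMap.charpoly (LinearMap.pi fun i => (LinearMap.mulLeft K (AdjoinRoot.root (P i))).comp
      (LinearMap.proj i) : Module.End K (Π i, AdjoinRoot (P i))) = ∏ i, P i
  | 0, P, hm => by
    haveI : ∀ i, Module.Finite K (AdjoinRoot (P i)) := fun i => (AdjoinRoot.powerBasis' (hm i)).finite
    rw [Finset.univ_eq_empty, Finset.prod_empty]
    refine (LinearMap.charpoly_monic _).natDegree_eq_zero.mp ?_
    rw [LinearMap.charpoly_natDegree]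
    exact Module.finrank_zero_of_subsingleton
  | n + 1, P, hm => by
    haveI : ∀ i, Module.Finite K (AdjoinRoot (P i)) := fun i => (AdjoinRoot.powerBasis' (hm i)).finite
    let T := fun i => LinearMap.mulLeft K (AdjoinRoot.root (P i))
    let e := Fin.consLinearEquiv K (fun i => AdjoinRoot (P i))
    have h : (LinearMap.pi fun i => (T i).comp (LinearMap.proj i) : Module.End K (Π i, AdjoinRoot (P i))) =
        e.conj ((T 0).prodMap (LinearMap.pi fun i => (T i.succ).comp (LinearMap.proj i))) := by
      refine LinearMap.ext fun x => funext fun i => ?_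
      cases i using Fin.cases with
      | zero => simp [e, LinearEquiv.conj_apply, Fin.consLinearEquiv, Fin.tail, Fin.cons]
      | succ j => simp [e, LinearEquiv.conj_apply, Fin.consLinearEquiv, Fin.tail]
    rw [h, LinearEquiv.charpoly_conj, LinearMap.charpoly_prodMap, Fin.prod_univ_succ,
      charpoly_mx n (fun i => P i.succ) fun i => hm i.succ]
    congr 1
    let pb := AdjoinRoot.powerBasis (hm 0).ne_zero
    rw [← LinearMap.charpoly_toMatrix (T 0) pb.basis]
    have : LinearMap.toMatrix pb.basis pb.basis (T 0) = Algebra.leftMulMatrix pb.basis pb.gen := rfl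
    rw [this, charpoly_leftMulMatrix, AdjoinRoot.minpoly_powerBasis_gen_of_monic (hm 0)]

open Polynomial in
/-- Maps commuting with the roots. -/
abbrev commPair {K : Type u} [Field K] (P Q : K[X]) : Submodule K (AdjoinRoot P →ₗ[K] AdjoinRoot Q) where
  carrier := {h | ∀ a, h (AdjoinRoot.root P * a) = AdjoinRoot.root Q * h a}
  add_mem' := fun {f g} hf hg a => by simp [hf a, hg a, mul_add]
  zero_mem' := fun a => by simp
  smul_mem' := fun c f hf a => by simp [hf a, mul_smul_comm]

open Polynomial in
theorem commPair_mk {K : Type u} [Field K] (P Q : K[X]) (h : commPair P Q) (g : K[X]) :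
    h.1 (AdjoinRoot.mk P g) = AdjoinRoot.mk Q g * h.1 1 := by
  induction g using Polynomial.induction_on with
  | C c => rw [AdjoinRoot.mk_C, AdjoinRoot.mk_C, ← AdjoinRoot.algebraMap_eq, ← AdjoinRoot.algebraMap_eq,
      Algebra.algebraMap_eq_smul_one, map_smul, Algebra.smul_def]
  | add p q hp hq => rw [map_add, map_add, hp, hq, map_add, add_mul]
  | monomial m c hm =>
    have e : C c * X ^ (m + 1) = X * (C c * X ^ m) := by ring
    rw [e, map_mul (AdjoinRoot.mk P), AdjoinRoot.mk_X, h.2, hm, map_mul (AdjoinRoot.mk Q) X, AdjoinRoot.mk_X,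
      mul_assoc]

open Polynomial in
theorem finrank_commPair {K : Type u} [Field K] (P Q : K[X]) (hP : P.Monic ∧ Irreducible P)
    (hQ : Q.Monic ∧ Irreducible Q) :
    Module.finrank K (commPair P Q) = if P = Q then P.natDegree else 0 := by
  split_ifs with hPQ
  · subst hPQ
    let e : commPair P P ≃ₗ[K] AdjoinRoot P :=
      { toFun := fun h => h.1 1
        map_add' := fun _ _ => rfl
        map_smul' := fun _ _ => rfl
        invFun := fun c => ⟨LinearMap.mulRight K c, fun a => by simp [mul_assoc]⟩
        left_inv := fun h => Subtype.ext (LinearMap.ext fun a => by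
          obtain ⟨g, rfl⟩ := AdjoinRoot.mk_surjective a
          exact (commPair_mk P P h g).symm)
        right_inv := fun c => by simp }
    rw [e.finrank_eq, (AdjoinRoot.powerBasis hP.1.ne_zero).finrank, AdjoinRoot.powerBasis_dim]
  · have : Subsingleton (commPair P Q) := by
      refine ⟨fun f g => ?_⟩
      haveI : Fact (Irreducible Q) := ⟨hQ.2⟩
      have key : ∀ h : commPair P Q, h.1 1 = 0 := fun h => by
        have h1 := commPair_mk P Q h P
        rw [AdjoinRoot.mk_self, map_zero] at h1
        refine (mul_eq_zero.mp h1.symm).resolve_left fun h2 => hPQ ?_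
        rw [AdjoinRoot.mk_eq_zero] at h2
        exact (eq_of_monic_of_associated hP.1 hQ.1 (hQ.2.associated_of_dvd hP.2 h2).symm)
      refine Subtype.ext (LinearMap.ext fun a => ?_)
      obtain ⟨p, rfl⟩ := AdjoinRoot.mk_surjective a
      rw [commPair_mk, commPair_mk, key, key]
    exact Module.finrank_zero_of_subsingleton

open UniqueFactorizationMonoid in
/-- Let K be any field, V₁ and V₂ finite-dimensional K-vector spaces and π₁, π₂ semisimple endomorphisms
of V₁, V₂ with characteristic polynomials f₁, f₂. Make V_i a K[t]-module by letting t act as π_i.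
Then the space Hom_{K[t]}(V₁, V₂) of K-linear maps h with π₂ ∘ h = h ∘ π₁ has K-dimension r(f₁, f₂)
= Σ_P mult_P(f₁) · mult_P(f₂) · deg P, the sum over the monic irreducible polynomials P in K[t]. (No
restriction on the characteristic of K.) -/
theorem result (K : Type u) [Field K]
    (V₁ : Type v) (V₂ : Type w) [AddCommGroup V₁] [Module K V₁] [FiniteDimensional K V₁]
    [AddCommGroup V₂] [Module K V₂] [FiniteDimensional K V₂]
    (π₁ : Module.End K V₁) (π₂ : Module.End K V₂) (h₁ : π₁.IsSemisimple) (h₂ : π₂.IsSemisimple) :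
    Module.finrank K (LinearMap.ker (LinearMap.lcomp K V₂ π₁ - LinearMap.llcomp K V₁ V₂ V₂ π₂ :
        (V₁ →ₗ[K] V₂) →ₗ[K] (V₁ →ₗ[K] V₂))) =
      ∑ P ∈ (normalizedFactors π₁.charpoly).toFinset,
        (normalizedFactors π₁.charpoly).count P * (normalizedFactors π₂.charpoly).count P * P.natDegree := by
  classical
  obtain ⟨n, P, hP, e₁, he₁⟩ := exists_maximal_quot π₁ h₁
  obtain ⟨m, Q, hQ, e₂, he₂⟩ := exists_maximal_quot π₂ h₂
  haveI : ∀ i, Module.Finite K (AdjoinRoot (P i)) := fun i => (AdjoinRoot.powerBasis' (hP i).1).finite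
  haveI : ∀ i, Module.Finite K (AdjoinRoot (Q i)) := fun i => (AdjoinRoot.powerBasis' (hQ i).1).finite
  have hc₁ : π₁.charpoly = ∏ i, P i := by
    rw [← charpoly_mx n P fun i => (hP i).1, ← LinearEquiv.charpoly_conj e₁ π₁]
    congr 1
    refine LinearMap.ext fun x => funext fun i => ?_
    simp [LinearEquiv.conj_apply, he₁]
  have hc₂ : π₂.charpoly = ∏ i, Q i := by
    rw [← charpoly_mx m Q fun i => (hQ i).1, ← LinearEquiv.charpoly_conj e₂ π₂]
    congr 1
    refine LinearMap.ext fun x => funext fun i => ?_
    simp [LinearEquiv.conj_apply, he₂]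
  have hn : ∀ (r : ℕ) (R : Fin r → Polynomial K), (∀ i, (R i).Monic ∧ Irreducible (R i)) →
      normalizedFactors (∏ i, R i) = Finset.univ.val.map R := by
    intro r R hR
    show normalizedFactors (Finset.univ.val.map R).prod = _
    rw [normalizedFactors_prod_eq _ (by simpa using fun i => (hR i).2), Multiset.map_map]
    exact Multiset.map_congr rfl fun i _ => (hR i).1.normalize_eq_self
  let E : (V₁ →ₗ[K] V₂) ≃ₗ[K] Π i j, AdjoinRoot (P i) →ₗ[K] AdjoinRoot (Q j) :=
    (LinearEquiv.arrowCongr e₁ e₂).trans ((LinearMap.lsum K (fun i => AdjoinRoot (P i)) K).symm.trans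
      (LinearEquiv.piCongrRight fun i =>
        { toFun := fun h j => (LinearMap.proj j).comp h
          map_add' := fun _ _ => rfl
          map_smul' := fun _ _ => rfl
          invFun := LinearMap.pi
          left_inv := fun _ => rfl
          right_inv := fun _ => rfl }))
  have hE : ∀ h i j a, E h i j a = e₂ (h (e₁.symm (Pi.single i a))) j := fun _ _ _ _ => rfl
  let D : (V₁ →ₗ[K] V₂) →ₗ[K] (V₁ →ₗ[K] V₂) := LinearMap.lcomp K V₂ π₁ - LinearMap.llcomp K V₁ V₂ V₂ π₂
  have hsingle : ∀ i a, π₁ (e₁.symm (Pi.single i a)) = e₁.symm (Pi.single i (AdjoinRoot.root (P i) * a)) := by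
    intro i a
    apply e₁.injective
    rw [e₁.apply_symm_apply]
    funext k
    rw [he₁, e₁.apply_symm_apply]
    by_cases hk : k = i
    · subst hk; simp
    · simp [Pi.single_eq_of_ne hk]
  have hD : ∀ h i j a, E (D h) i j a = E h i j (AdjoinRoot.root (P i) * a) - AdjoinRoot.root (Q j) * E h i j a := by
    intro h i j a
    simp [hE, D, hsingle, he₂]
  let F : LinearMap.ker D ≃ₗ[K] Π i j, commPair (P i) (Q j) :=
    { toFun := fun h i j => ⟨E h.1 i j, fun a => sub_eq_zero.mp (by
        rw [← hD, LinearMap.mem_ker.mp h.2]; simp)⟩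
      map_add' := fun f g => by funext i j; exact Subtype.ext (by simp)
      map_smul' := fun c g => by funext i j; exact Subtype.ext (by simp)
      invFun := fun c => ⟨E.symm fun i j => (c i j).1, LinearMap.mem_ker.mpr (E.injective (by
        rw [map_zero]
        funext i j
        refine LinearMap.ext fun a => ?_
        rw [hD, E.apply_symm_apply, (c i j).2, sub_self]
        rfl))⟩
      left_inv := fun h => Subtype.ext (E.symm_apply_apply h.1)
      right_inv := fun c => by funext i j; exact Subtype.ext (congrFun (congrFun (E.apply_symm_apply _) i) j) }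
  haveI : ∀ i j, Module.Free K (commPair (P i) (Q j)) := fun i j => by exact Module.Free.of_basis (Module.Basis.ofVectorSpace K (commPair (P i) (Q j)))
  haveI : ∀ i, Module.Free K (Π j, commPair (P i) (Q j)) := fun i => inferInstance
  haveI : ∀ i j, Module.Finite K (commPair (P i) (Q j)) := fun i j => inferInstance
  show Module.finrank K (LinearMap.ker D) = _
  rw [F.finrank_eq, Module.finrank_pi_fintype, hc₁, hc₂, hn n P hP, hn m Q hQ]
  simp_rw [Module.finrank_pi_fintype, fun i j => finrank_commPair (P i) (Q j) (hP i) (hQ j)]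
  have key : ∀ x : Polynomial K, (∑ j, if x = Q j then x.natDegree else 0) =
      (Finset.univ.val.map Q).count x * x.natDegree := by
    intro x
    rw [← Finset.sum_filter, Finset.sum_const, smul_eq_mul, Multiset.count_map]
    rfl
  simp_rw [key]
  have h3 := Finset.sum_multiset_map_count (Finset.univ.val.map P)
    (fun x => (Finset.univ.val.map Q).count x * x.natDegree)
  rw [Multiset.map_map] at h3
  refine h3.trans (Finset.sum_congr rfl fun x _ => ?_)
  rw [smul_eq_mul, mul_assoc]

end Groth.Agent.S16837
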