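import Groth.Statements.S16839
import Groth.Agent.S16838
-- import your own Groth.Agent.* helpers here

set_option autoImplicit false
universe u
open CategoryTheory MonoidalCategory CartesianMonoidalCategory MonObj GrpObj AlgebraicGeometry
open AbVar

namespace Groth.Agent.S16839

/-- Let k be a finite field with q elements and algebraic closure Ω, ℓ a prime invertible in k, and X an
abelian variety over k (a proper, geometrically integral commutative group scheme over k) of
dimension g, with geometric Frobenius π_X (the endomorphism that is the identity on points and the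
q-th power map on sections); assume, as is the case, that the ℓ-adic Tate module of Ω-points T_ℓ X
is free of finite rank over ℤ_ℓ, and let f_X ∈ ℤ[t] be the polynomial mapping to the characteristic
polynomial of T_ℓ(π_X) (the characteristic polynomial of Frobenius). Then √q and −√q, if they occur
as roots of f_X, occur with even multiplicity: the root multiplicities of f_X (mapped to ℝ[t]) at √q
and at −√q are even. (The other assertions of (ii) — that q/α is a root whenever α is, with the same
multiplicity — are not restated.) -/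
theorem result (k Ω : Type u) [Field k] [Finite k] [Field Ω] [Algebra k Ω] [IsAlgClosure k Ω]
    (l : ℕ) [Fact l.Prime] (hl : (l : k) ≠ 0) (X : Over (Spec (CommRingCat.of k)))
    [GrpObj X] [IsCommMonObj X] [IsProper X.hom] [GeometricallyIntegral X.hom]
    (πX : X ⟶ X) [IsMonHom πX] (hπb : πX.left.base = 𝟙 _)
    (hπle : ∀ U : X.left.Opens, U ≤ πX.left ⁻¹ᵁ U)
    (hπapp : ∀ (U : X.left.Opens) (s : Γ(X.left, U)), (πX.left.appLE U U (hπle U)).hom s = s ^ Nat.card k)
    [Module.Free ℤ_[l] (AbDual.TateMod X l (SGA7.pt Ω))] [Module.Finite ℤ_[l] (AbDual.TateMod X l (SGA7.pt Ω))]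
    (P : Polynomial ℤ) (hP : (AbDual.tateMapₗ (l := l) (T := SGA7.pt Ω) πX).charpoly = P.map (Int.castRingHom ℤ_[l])) :
    Even ((P.map (Int.castRingHom ℝ)).rootMultiplicity (Real.sqrt (Nat.card k))) ∧
      Even ((P.map (Int.castRingHom ℝ)).rootMultiplicity (-Real.sqrt (Nat.card k))) := by
  open Groth.Agent Groth.Agent.AbVarLib Polynomial in
  exact by
    classical
    have : IsAlgClosed Ω := IsAlgClosure.isAlgClosed k
    obtain ⟨r, hr⟩ := HomBC.exists_dim X
    obtain ⟨P', hPm, hPd, hPv, hPc⟩ := CharpolyBC.exists_charpoly Ω hr πX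
    obtain rfl : P' = P := Polynomial.map_injective (Int.castRingHom ℤ_[l]) Int.cast_injective ((hPc l hl).symm.trans hP)
    have hpos : (0 : ℤ) < P'.eval 0 := by
      have hf := FrobSS.isFinite_of_base_eq_id _ hπb
      have : AlgebraicGeometry.IsIntegral X.left := GeometricallyIntegral.isIntegral_of_subsingleton X.hom
      have : Surjective πX.left := Isogeny.surjective_of_isFinite _ rfl
      have := GrpScheme.HomFlat.flat_of_surjective πX
      have : LocallyOfFinitePresentation πX.left := GrpdLib.GrpOver.lfp_left _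
      obtain ⟨a⟩ : Nonempty X.left := inferInstance
      have e0 : πX * 𝟙 X ^ (-(0 : ℤ)) = πX := by simp
      have h := hPv 0
      rw [e0] at h
      have h3 := Scheme.Hom.one_le_finrank_map πX.left a
      rw [← h.1 hf (πX.left a)]
      omega
    set s := Real.sqrt (Nat.card k) with hs
    have hs0 : 0 < s := Real.sqrt_pos.mpr (Nat.cast_pos.mpr Nat.card_pos)
    set p := P'.map (Int.castRingHom ℝ) with hp
    have hpm : p.Monic := hPm.map _
    obtain ⟨R₁, hR₁, hnd₁⟩ := exists_eq_pow_rootMultiplicity_mul_and_not_dvd p hpm.ne_zero s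
    set a := rootMultiplicity s p with ha
    have hR₁m : R₁.Monic := ((monic_X_sub_C s).pow a).of_mul_monic_left (hR₁ ▸ hpm)
    obtain ⟨R, hR, hnd⟩ := exists_eq_pow_rootMultiplicity_mul_and_not_dvd R₁ hR₁m.ne_zero (-s)
    have hb : rootMultiplicity (-s) R₁ = rootMultiplicity (-s) p := by
      rw [hR₁, rootMultiplicity_mul (hR₁ ▸ hpm.ne_zero),
        rootMultiplicity_eq_zero (p := (Polynomial.X - C s) ^ a) (fun h => by
          rw [IsRoot, eval_pow, eval_sub, eval_X, eval_C] at h
          have := eq_zero_of_pow_eq_zero h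
          linarith), zero_add]
    set b := rootMultiplicity (-s) R₁ with hb'
    have hRm : R.Monic := ((monic_X_sub_C (-s)).pow b).of_mul_monic_left (hR ▸ hR₁m)
    have hnoroot : ∀ x : ℝ, R.eval x ≠ 0 := fun x hx => by
      have hxp : p.IsRoot x := by rw [IsRoot, hR₁, hR, eval_mul, eval_mul, hx, mul_zero, mul_zero]
      have hmem : (x : ℂ) ∈ (P'.map (Int.castRingHom ℂ)).roots := by
        rw [mem_roots (hPm.map _).ne_zero, ← RingHom.ext_int (Complex.ofRealHom.comp (Int.castRingHom ℝ)) (Int.castRingHom ℂ),
          ← Polynomial.map_map, ← hp]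
        exact hxp.map
      have hn := S16838.result k Ω l hl X πX hπb hπle hπapp P' hP x hmem
      rw [Complex.norm_real, Real.norm_eq_abs, ← hs] at hn
      rcases abs_eq hs0.le |>.mp hn with h | h
      · subst h
        refine hnd₁ (dvd_iff_isRoot.mpr ?_)
        rw [IsRoot, hR, eval_mul, hx, mul_zero]
      · subst h
        exact hnd (dvd_iff_isRoot.mpr hx)
    have hevR : Even R.natDegree := by
      by_contra hodd
      rw [Nat.not_even_iff_odd] at hodd
      have hdeg : 0 < R.degree := natDegree_pos_iff_degree_pos.mp hodd.pos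
      have htop := R.tendsto_atTop_of_leadingCoeff_nonneg hdeg (by rw [hRm.leadingCoeff]; exact zero_le_one)
      have hdeg2 : 0 < (R.comp (-Polynomial.X)).degree := natDegree_pos_iff_degree_pos.mp (by rw [natDegree_comp, natDegree_neg, natDegree_X, _root_.mul_one]; exact hodd.pos)
      have hbot := (R.comp (-Polynomial.X)).tendsto_atBot_of_leadingCoeff_nonpos hdeg2 (by
        rw [leadingCoeff_comp (by simp), hRm.leadingCoeff, leadingCoeff_neg, leadingCoeff_X, hodd.neg_one_pow]; norm_num)
      obtain ⟨x, hx⟩ := (htop.eventually_gt_atTop 0).exists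
      obtain ⟨y, hy⟩ := (hbot.eventually_lt_atBot 0).exists
      rw [eval_comp, eval_neg, eval_X] at hy
      obtain ⟨z, hz⟩ := mem_range_of_exists_le_of_exists_ge R.continuous ⟨-y, hy.le⟩ ⟨x, hx.le⟩
      exact hnoroot z hz
    have hR0 : 0 < R.eval 0 := by
      by_contra h
      rcases Nat.eq_zero_or_pos R.natDegree with h0 | h0
      · rw [hRm.natDegree_eq_zero.mp h0, eval_one] at h; exact h one_pos
      · have htop := R.tendsto_atTop_of_leadingCoeff_nonneg (natDegree_pos_iff_degree_pos.mp h0) (by rw [hRm.leadingCoeff]; exact zero_le_one)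
        obtain ⟨x, hx⟩ := (htop.eventually_gt_atTop 0).exists
        obtain ⟨z, hz⟩ := mem_range_of_exists_le_of_exists_ge R.continuous ⟨0, not_lt.mp h⟩ ⟨x, hx.le⟩
        exact hnoroot z hz
    have hp0 : 0 < p.eval 0 := by
      rw [hp, ← Polynomial.coeff_zero_eq_eval_zero, Polynomial.coeff_map, eq_intCast, Polynomial.coeff_zero_eq_eval_zero]
      exact_mod_cast hpos
    have hae : Even a := by
      by_contra h
      rw [Nat.not_even_iff_odd] at h
      rw [hR₁, hR, eval_mul, eval_mul, eval_pow, eval_pow, eval_sub, eval_sub, eval_X, eval_C, eval_C, zero_sub,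
        zero_sub, neg_neg, h.neg_pow] at hp0
      nlinarith [mul_pos (pow_pos hs0 a) (mul_pos (pow_pos hs0 b) hR0)]
    refine ⟨hae, ?_⟩
    rw [← hb]
    have hdeg : p.natDegree = a + (b + R.natDegree) := by
      rw [hR₁, hR, ((monic_X_sub_C s).pow a).natDegree_mul (((monic_X_sub_C (-s)).pow b).mul hRm),
        ((monic_X_sub_C (-s)).pow b).natDegree_mul hRm, natDegree_pow, natDegree_X_sub_C, natDegree_pow, natDegree_X_sub_C,
        _root_.mul_one, _root_.mul_one]
    rw [hp, hPm.natDegree_map, hPd] at hdeg
    obtain ⟨a', ha'⟩ := hae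
    obtain ⟨c', hc'⟩ := hevR
    exact ⟨r - a' - c', by omega⟩

end Groth.Agent.S16839
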