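import Groth.Statements.S16846
import Groth.Agent.GrpScheme.FrobFactor67
import Groth.Agent.AbVarLib.Basics
import Mathlib.AlgebraicGeometry.Sites.Fpqc
import Mathlib.FieldTheory.Finite.Basic

set_option autoImplicit false
universe u
open CategoryTheory MonoidalCategory CartesianMonoidalCategory MonObj GrpObj AlgebraicGeometry
open AbVar

namespace Groth.Agent.S16846

open Limits IsLocalRing GrpScheme GrpScheme.Tangent GrpScheme.FrobFactor67 Cartier

section

variable {X : Scheme.{u}} (π : X ⟶ X) (q : ℕ) (hb : π.base = 𝟙 _)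
  (hle : ∀ U : X.Opens, U ≤ π ⁻¹ᵁ U) (happ : ∀ (U : X.Opens) (s : Γ(X, U)), (π.appLE U U (hle U)).hom s = s ^ q)

include hb in
lemma base_apply (x : X) : π x = x := congr($hb x)

include hb in
lemma preimage_eq (U : X.Opens) : π ⁻¹ᵁ U = U := by
  ext x
  show π x ∈ U ↔ x ∈ U
  rw [base_apply π hb x]

include hb happ in
lemma isIntegralHom (hq : q ≠ 0) : IsIntegralHom π := by
  have : IsAffineHom π := ⟨fun U hU => (preimage_eq π hb U).symm ▸ hU⟩
  refine ⟨fun U _ t => ?_⟩
  let t' := (X.presheaf.map (homOfLE (hle U)).op).hom t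
  refine ⟨Polynomial.X ^ q - Polynomial.C t', Polynomial.monic_X_pow_sub_C _ hq, ?_⟩
  simp only [Polynomial.eval₂_sub, Polynomial.eval₂_X_pow, Polynomial.eval₂_C, sub_eq_zero]
  have hiso : Function.Injective (X.presheaf.map (homOfLE (hle U)).op).hom := by
    have : IsIso (X.presheaf.map (homOfLE (hle U)).op) := by
      have : IsIso (homOfLE (hle U)) := ⟨⟨homOfLE (preimage_eq π hb U).le, Subsingleton.elim _ _, Subsingleton.elim _ _⟩⟩
      infer_instance
    exact (ConcreteCategory.bijective_of_isIso (X.presheaf.map (homOfLE (hle U)).op)).1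
  apply hiso
  rw [map_pow]
  exact (happ U t').symm

include hb hle happ in
lemma stalk_pow (x : X) (a : X.presheaf.stalk x) :
    (X.presheaf.stalkSpecializes (specializes_of_eq (base_apply π hb x)) ≫ π.stalkMap x).hom a = a ^ q := by
  obtain ⟨U, hU, s, rfl⟩ := X.presheaf.exists_germ_eq (x := x) a
  have hU' : π x ∈ U := by rw [base_apply π hb x]; exact hU
  have e : X.presheaf.germ U x hU ≫ X.presheaf.stalkSpecializes (specializes_of_eq (base_apply π hb x)) ≫
      π.stalkMap x = π.appLE U U (hle U) ≫ X.presheaf.germ U x hU := by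
    rw [TopCat.Presheaf.germ_stalkSpecializes_assoc, Scheme.Hom.germ_stalkMap π U x hU']
    simp only [Scheme.Hom.appLE, Category.assoc, TopCat.Presheaf.germ_res]
  refine congr($(e) s).trans ?_
  show (X.presheaf.germ U x hU).hom ((π.appLE U U (hle U)).hom s) = _
  rw [happ, map_pow]

end


/-- Fix a finite field k of size q and an abelian variety X over k (a proper, geometrically integral
commutative group scheme over k) and π_X its geometric Frobenius (the identity on points, the q-th
power map on sections; a homomorphism). Then the endomorphism ring End_k(X) contains q/π_X: there is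
a homomorphism v : X → X with π_X followed by v, and v followed by π_X, both equal to multiplication
by q (the q-th power of the identity in the group of morphisms X → X). -/
theorem result (k : Type u) [Field k] [Finite k] (X : Over (Spec (CommRingCat.of k)))
    [GrpObj X] [IsCommMonObj X] [IsProper X.hom] [GeometricallyIntegral X.hom]
    (πX : X ⟶ X) [IsMonHom πX] (hπb : πX.left.base = 𝟙 _)
    (hπle : ∀ U : X.left.Opens, U ≤ πX.left ⁻¹ᵁ U)
    (hπapp : ∀ (U : X.left.Opens) (s : Γ(X.left, U)), (πX.left.appLE U U (hπle U)).hom s = s ^ Nat.card k) :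
    ∃ (v : X ⟶ X) (_ : IsMonHom v), πX ≫ v = (𝟙 X) ^ Nat.card k ∧ v ≫ πX = (𝟙 X) ^ Nat.card k := by
  classical
  obtain ⟨p, hchar⟩ := CharP.exists k
  let := Fintype.ofFinite k
  obtain ⟨n, hp, hn⟩ := FiniteField.card k p
  have : Fact p.Prime := ⟨hp⟩
  have hq : Nat.card k = p ^ (n : ℕ) := by rw [Nat.card_eq_fintype_card, hn]
  set q := Nat.card k with hqdef
  have hq0 : q ≠ 0 := by rw [hq]; exact (pow_pos hp.pos _).ne'
  let π := πX.left
  have hpt := base_apply π hπb
  have := AbVarLib.Basics.smooth X
  have : IsReduced X.left := HomFlat.isReduced_of_smooth (K := k) X.hom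
  have : LocallyOfFiniteType (π ≫ X.hom) := by rw [Over.w πX]; infer_instance
  have : LocallyOfFiniteType π := locallyOfFiniteType_of_comp π X.hom
  have : IsIntegralHom π := isIntegralHom π q hπb hπle hπapp hq0
  have : IsFinite π := (IsFinite.iff_isIntegralHom_and_locallyOfFiniteType π).mpr ⟨inferInstance, inferInstance⟩
  have : Surjective π := ⟨fun x => ⟨x, hpt x⟩⟩
  have : Flat π := HomFlat.flat_of_surjective πX
  have : EffectiveEpi π := inferInstance
  let f : X ⟶ X := 𝟙 X ^ q
  have hf : IsMonHom f :=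
    { one_hom := by rw [show f = 𝟙 X ^ q from rfl, MonObj.comp_pow, Category.comp_id, MonObj.one_eq_one, one_pow]
      mul_hom := by
        rw [show f = 𝟙 X ^ q from rfl, MonObj.comp_pow, Category.comp_id, MonObj.mul_eq_mul, MonObj.comp_mul,
          tensorHom_fst, tensorHom_snd, MonObj.comp_pow, MonObj.comp_pow, Category.comp_id, Category.comp_id,
          mul_pow] }
  obtain ⟨g, hg⟩ := exists_dim X
  have hunit : (𝟙 X ^ p).left (unitPt X) = unitPt X := by
    show (η[X] ≫ (𝟙 X ^ p)).left (closedPoint k) = _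
    rw [MonObj.comp_pow, Category.comp_id, MonObj.one_eq_one, one_pow]
    rfl
  have hπu : πX.left (unitPt X) = unitPt X := hpt _
  -- the kernel of the Frobenius is killed by `q`
  have hker : ∀ {T : Over (Spec (CommRingCat.of k))} (z : T ⟶ X), z ≫ πX = 1 → z ^ q = 1 := by
    intro T z hz
    apply Over.OverMorphism.ext
    refine hom_ext_fromSpecStalk _ _ fun t => ?_
    let B := T.left.presheaf.stalk t
    let _ : Algebra k B := (Spec.preimage (T.left.fromSpecStalk t ≫ T.hom)).hom.toAlgebra
    let j : TSpec (K := k) B ⟶ T := Over.homMk (T.left.fromSpecStalk t) (by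
      show T.left.fromSpecStalk t ≫ T.hom = Spec.map (Spec.preimage (T.left.fromSpecStalk t ≫ T.hom))
      rw [Spec.map_preimage])
    suffices h : (j ≫ z) ^ q = 1 by
      rw [← MonObj.comp_pow] at h
      exact congrArg CommaMorphism.left (h.trans (MonObj.comp_one j).symm)
    have hw : (j ≫ z) ≫ πX = 1 := by rw [Category.assoc, hz, MonObj.comp_one]
    have hc : (j ≫ z).left (closedPoint B) = unitPt X := by
      refine (hpt _).symm.trans ((Scheme.Hom.comp_apply _ _ _).symm.trans ?_)
      show ((j ≫ z) ≫ πX).left (closedPoint B) = _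
      rw [hw, Hom.one_def]
      exact (Scheme.Hom.comp_apply _ _ _).trans
        (congrArg η[X].left (Subsingleton.elim (α := PrimeSpectrum k) _ _))
    obtain ⟨φ, hφ⟩ := exists_pt X (j ≫ z) hc
    rw [← hφ, hq]
    refine pt_pow_eq_one X p hg hunit n φ fun a ha => ?_
    rw [← hφ, pt_comp X πX hπu φ, ← pt_trivial] at hw
    have h2 := AlgHom.congr_fun (pt_injective X hw) a
    rw [AlgHom.comp_apply, AlgHom.comp_apply, (mem_maximalIdeal_iff X a).mp ha, map_zero,
      show endo X πX hπu a = a ^ q from stalk_pow π q hπb hπle hπapp (unitPt X) a, map_pow, hq] at h2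
    exact h2
  have hco : ∀ {Z : Scheme.{u}} (g₁ g₂ : Z ⟶ X.left), g₁ ≫ π = g₂ ≫ π → g₁ ≫ f.left = g₂ ≫ f.left := by
    intro Z g₁ g₂ e
    let T : Over (Spec (CommRingCat.of k)) := Over.mk (g₁ ≫ X.hom)
    let x : T ⟶ X := Over.homMk g₁ rfl
    let y : T ⟶ X := Over.homMk g₂ (by
      show g₂ ≫ X.hom = g₁ ≫ X.hom
      conv_lhs => rw [← Over.w πX, ← Category.assoc, ← e, Category.assoc, Over.w πX])
    have hxy : x ≫ πX = y ≫ πX := Over.OverMorphism.ext e
    have h := hker (x * y⁻¹) (by rw [MonObj.mul_comp, GrpObj.inv_comp, hxy, mul_inv_cancel])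
    let := Hom.commGroup (X := T) (G := X)
    rw [mul_pow, inv_pow, mul_inv_eq_one] at h
    have h' : x ≫ f = y ≫ f := by
      simp only [f, MonObj.comp_pow, Category.comp_id]
      exact h
    exact congrArg CommaMorphism.left h'
  let vl : X.left ⟶ X.left := EffectiveEpi.desc π f.left hco
  have hvl : π ≫ vl = f.left := EffectiveEpi.fac π f.left hco
  let v : X ⟶ X := Over.homMk vl (by
    rw [← cancel_epi π, ← Category.assoc, hvl, Over.w f, Over.w πX])
  have hπv : πX ≫ v = f := Over.OverMorphism.ext hvl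
  have : Epi πX.left := inferInstanceAs (Epi π)
  have : Epi πX := Over.epi_of_epi_left πX
  have hvπ : v ≫ πX = f := by
    rw [← cancel_epi πX, ← Category.assoc, hπv]
    simp only [f, MonObj.pow_comp, MonObj.comp_pow, Category.id_comp, Category.comp_id]
  have hone : η[X] ≫ v = η[X] := by
    conv_lhs => rw [← IsMonHom.one_hom (f := πX), Category.assoc, hπv]
    exact IsMonHom.one_hom (f := f)
  have hepi : ∀ (W : Over (Spec (CommRingCat.of k))), Epi (πX ▷ W) ∧ Epi (W ◁ πX) := fun W => by
    constructor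
    · have h1 : IsFinite (πX ▷ W).left := Basic.whiskerRight_mem @IsFinite πX W ‹IsFinite π›
      have h2 : Flat (πX ▷ W).left := Basic.whiskerRight_mem @Flat πX W ‹Flat π›
      have h3 : Surjective (πX ▷ W).left := Basic.whiskerRight_mem @Surjective πX W ‹Surjective π›
      exact Over.epi_of_epi_left _
    · have h1 : IsFinite (W ◁ πX).left := Basic.whiskerLeft_mem @IsFinite πX W ‹IsFinite π›
      have h2 : Flat (W ◁ πX).left := Basic.whiskerLeft_mem @Flat πX W ‹Flat π›
      have h3 : Surjective (W ◁ πX).left := Basic.whiskerLeft_mem @Surjective πX W ‹Surjective π›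
      exact Over.epi_of_epi_left _
  have hπ2 : Epi (πX ⊗ₘ πX) := by
    rw [MonoidalCategory.tensorHom_def]
    have := (hepi X).1
    have := (hepi X).2
    exact epi_comp _ _
  have hmul : μ[X] ≫ v = (v ⊗ₘ v) ≫ μ[X] := by
    rw [← cancel_epi (πX ⊗ₘ πX), ← Category.assoc, ← IsMonHom.mul_hom, Category.assoc, hπv,
      ← Category.assoc, MonoidalCategory.tensorHom_comp_tensorHom, hπv]
    exact IsMonHom.mul_hom (f := f)
  exact ⟨v, { one_hom := hone, mul_hom := hmul }, hπv, hvπ⟩

end Groth.Agent.S16846
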