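import Groth.Statements.S16847
import Groth.Agent.AbVarLib.FrobSS
-- import your own Groth.Agent.* helpers here

set_option autoImplicit false
universe u
open CategoryTheory MonoidalCategory CartesianMonoidalCategory MonObj GrpObj AlgebraicGeometry
open AbVar

namespace Groth.Agent.S16847

/-- Let k be a finite field with q elements and algebraic closure Ω, ℓ a prime invertible in k, and X an
abelian variety over k (a proper, geometrically integral commutative group scheme over k) of
dimension g, with geometric Frobenius π_X (the endomorphism that is the identity on points and the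
q-th power map on sections); assume, as is the case, that the ℓ-adic Tate module of Ω-points T_ℓ X
is free of finite rank over ℤ_ℓ, and let f_X ∈ ℤ[t] be the polynomial mapping to the characteristic
polynomial of T_ℓ(π_X) (the characteristic polynomial of Frobenius). Then ℚ[π_X] ⊆ End⁰(X) = ℚ ⊗
End_k(X) is a field (equivalently, X is elementary, i.e. isogenous to a power of a simple abelian
variety — that reformulation is not restated) if and only if f_X = h^n for some irreducible h ∈ ℚ[t]
and some n ≥ 1. -/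
theorem result (k Ω : Type u) [Field k] [Finite k] [Field Ω] [Algebra k Ω] [IsAlgClosure k Ω]
    (l : ℕ) [Fact l.Prime] (hl : (l : k) ≠ 0) (X : Over (Spec (CommRingCat.of k)))
    [GrpObj X] [IsCommMonObj X] [IsProper X.hom] [GeometricallyIntegral X.hom]
    (πX : X ⟶ X) [IsMonHom πX] (hπb : πX.left.base = 𝟙 _)
    (hπle : ∀ U : X.left.Opens, U ≤ πX.left ⁻¹ᵁ U)
    (hπapp : ∀ (U : X.left.Opens) (s : Γ(X.left, U)), (πX.left.appLE U U (hπle U)).hom s = s ^ Nat.card k)
    [Module.Free ℤ_[l] (AbDual.TateMod X l (SGA7.pt Ω))] [Module.Finite ℤ_[l] (AbDual.TateMod X l (SGA7.pt Ω))]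
    (P : Polynomial ℤ) (hP : (AbDual.tateMapₗ (l := l) (T := SGA7.pt Ω) πX).charpoly = P.map (Int.castRingHom ℤ_[l])) :
    IsField (EndAV.QAdj (EndAV.End.of πX)) ↔
      ∃ (h : Polynomial ℚ) (n : ℕ), Irreducible h ∧ 0 < n ∧ P.map (Int.castRingHom ℚ) = h ^ n := by
  open Groth.Agent.AbVarLib Polynomial in
  exact by
    classical
    have : IsAlgClosed Ω := IsAlgClosure.isAlgClosed k
    obtain ⟨g, hg⟩ := HomBC.exists_dim X
    obtain ⟨-, hfin, -⟩ := HomBC.free_finite_finrank (A := X) (B := X) hg hg
    have : Module.Finite ℤ (EndAV.End X) := hfin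
    let φ : EndAV.End X := EndAV.End.of πX
    have hmp := minpoly.monic (IsIntegral.of_finite ℚ (EndAV.toEnd0 φ))
    have hrange : EndAV.QAdj φ = (aeval (EndAV.toEnd0 φ) : ℚ[X] →ₐ[ℚ] _).range :=
      Algebra.adjoin_singleton_eq_range_aeval ℚ _
    constructor
    · intro hF
      let a : EndAV.QAdj φ := ⟨EndAV.toEnd0 φ, Algebra.subset_adjoin rfl⟩
      have : IsDomain (EndAV.QAdj φ) := hF.isDomain
      have hirr : Irreducible (minpoly ℚ (EndAV.toEnd0 φ)) := by
        have e : minpoly ℚ (EndAV.toEnd0 φ) = minpoly ℚ a :=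
          minpoly.algHom_eq (EndAV.QAdj φ).val (fun _ _ h => Subtype.ext h) a
        rw [e]
        exact minpoly.irreducible (IsIntegral.of_finite ℚ a)
      obtain ⟨P', h1, h2, e, he⟩ := CharpolyPow.exists_eq_minpoly_pow Ω hg l hl φ hirr
      obtain rfl : P' = P := Polynomial.map_injective (Int.castRingHom ℤ_[l]) Int.cast_injective (h1.symm.trans hP)
      refine ⟨minpoly ℚ (EndAV.toEnd0 φ), _, hirr, ?_, h2⟩
      refine Nat.pos_of_ne_zero fun h0 => ?_
      rw [he, Nat.mul_div_cancel _ hirr.natDegree_pos] at h0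
      rw [h0, zero_mul] at he
      have hg0 : g = 0 := by omega
      obtain ⟨P₁, hd, hm, -, hann⟩ := FrobSS.exists_annihilator hg φ hπb
      rw [hg0, mul_zero] at hd
      rw [hm.natDegree_eq_zero.mp hd, map_one] at hann
      have h10 : (1 : EndAV.End0 X) = 0 := by rw [← map_one (EndAV.toEnd0 (A := X)), hann, map_zero]
      exact one_ne_zero (α := EndAV.QAdj φ) (Subtype.ext h10)
    · rintro ⟨h, n, hirr, hn, hP'⟩
      have hann : aeval φ P = 0 := by
        refine EndTate.aeval_eq_zero Ω l hl φ P ?_
        rw [← hP]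
        exact LinearMap.aeval_self_charpoly _
      have h0 : aeval (EndAV.toEnd0 φ) (h ^ n) = 0 := by
        rw [← hP', show Int.castRingHom ℚ = algebraMap ℤ ℚ from rfl, aeval_map_algebraMap, aeval_algHom_apply,
          hann, map_zero]
      have h1 := FrobSS.eq_zero_of_isNilpotent_rat φ (Nat.card k) hπb hπle hπapp h ⟨n, by rw [← map_pow, h0]⟩
      have hdeg : (minpoly ℚ (EndAV.toEnd0 φ)).natDegree ≠ 0 := by
        intro hz
        have h3 := minpoly.aeval ℚ (EndAV.toEnd0 φ)
        rw [hmp.natDegree_eq_zero.mp hz, map_one] at h3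
        have h4 : (1 : EndAV.End X) = 0 := FrobSS.toEnd0_injective (by rw [map_one, map_zero, h3])
        have hm := LinearMap.charpoly_monic (AbDual.tateMapₗ (l := l) (T := SGA7.pt Ω) πX)
        have : Subsingleton (AbDual.TateMod X l (SGA7.pt Ω)) := ⟨fun x y => by
          have h5 := congrArg (EndAV.End.tateRep l (SGA7.pt Ω)) h4
          rw [map_one, map_zero] at h5
          rw [← Module.End.one_apply (R := ℤ_[l]) x, ← Module.End.one_apply (R := ℤ_[l]) y, h5,
            LinearMap.zero_apply, LinearMap.zero_apply]⟩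
        have hd : P.natDegree = 0 := by
          rw [← natDegree_map_eq_of_injective (f := Int.castRingHom ℤ_[l]) Int.cast_injective, ← hP,
            LinearMap.charpoly_natDegree, Module.finrank_zero_of_subsingleton]
        have h6 := congrArg natDegree hP'
        rw [natDegree_map_eq_of_injective (f := Int.castRingHom ℚ) Int.cast_injective, hd, natDegree_pow] at h6
        have := hirr.natDegree_pos
        rcases Nat.mul_eq_zero.mp h6.symm with h7 | h7 <;> omega
      have hirr' : Irreducible (minpoly ℚ (EndAV.toEnd0 φ)) := by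
        rcases hirr.dvd_iff.mp (minpoly.dvd ℚ _ h1) with hu | ha
        · exact absurd (natDegree_eq_zero_of_isUnit hu) hdeg
        · exact ha.irreducible hirr
      have : Fact (Irreducible (minpoly ℚ (EndAV.toEnd0 φ))) := ⟨hirr'⟩
      let a : EndAV.QAdj φ := ⟨EndAV.toEnd0 φ, Algebra.subset_adjoin rfl⟩
      have ha : ∀ R : ℚ[X], (aeval a R : EndAV.QAdj φ).1 = aeval (EndAV.toEnd0 φ) R := fun R =>
        (aeval_algHom_apply (EndAV.QAdj φ).val a R).symm
      let ev : AdjoinRoot (minpoly ℚ (EndAV.toEnd0 φ)) →+* EndAV.QAdj φ :=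
        Ideal.Quotient.lift _ (aeval a : ℚ[X] →ₐ[ℚ] EndAV.QAdj φ).toRingHom (fun R hR => by
          obtain ⟨c, rfl⟩ := Ideal.mem_span_singleton'.mp hR
          refine Subtype.ext ?_
          show (aeval a _ : EndAV.QAdj φ).1 = 0
          rw [ha, map_mul, minpoly.aeval, mul_zero])
      have : Nontrivial (EndAV.QAdj φ) := ⟨⟨1, 0, fun h10 => hdeg (by
        have h8 : (1 : EndAV.End0 X) = 0 := congrArg Subtype.val h10
        exact natDegree_eq_zero_of_isUnit (isUnit_of_dvd_one (minpoly.dvd ℚ _ (by rw [map_one, h8]))))⟩⟩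
      have hsurj : Function.Surjective ev := fun x => by
        have hx := x.2
        obtain ⟨R, hR⟩ : ∃ R : ℚ[X], aeval (EndAV.toEnd0 φ) R = x.1 := hrange.le hx
        exact ⟨AdjoinRoot.mk _ R, Subtype.ext ((ha R).trans hR)⟩
      exact MulEquiv.isField (Field.toIsField (AdjoinRoot (minpoly ℚ (EndAV.toEnd0 φ))))
        (RingEquiv.ofBijective ev ⟨ev.injective, hsurj⟩).symm.toMulEquiv

end Groth.Agent.S16847
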