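import Groth.Statements.S16849
import Groth.Agent.AbVarLib.FrobPts
import Groth.Agent.PowExp.Basic
-- import your own Groth.Agent.* helpers here

set_option autoImplicit false
universe u
open CategoryTheory MonoidalCategory CartesianMonoidalCategory MonObj GrpObj AlgebraicGeometry
open AbVar

namespace Groth.Agent.S16849

/-- The splitting field. -/
abbrev SF (P : Polynomial ℤ) : Type := (P.map (Int.castRingHom ℚ)).SplittingField

open Polynomial in
/-- The products over sub-multisets of the roots are integral. -/
theorem exists_int (P : ℤ[X]) (hP : P.Monic) (j : ℕ) : ∃ Q : ℤ[X], Q.map (Int.castRingHom ℂ) =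
    (((P.map (Int.castRingHom ℂ)).roots.powersetCard j).map
      (fun I => (1 : ℂ[X]) - C I.prod * X)).prod := by
  classical
  haveI : Normal ℚ (SF P) := by
    convert (@Normal.of_isSplittingField ℚ _ (P.map (Int.castRingHom ℚ)).SplittingField _ _ (P.map (Int.castRingHom ℚ))
      (Polynomial.IsSplittingField.splittingField _))
    all_goals exact Subsingleton.elim _ _
  haveI : IsGalois ℚ (SF P) := ⟨⟩
  let ι' : (SF P) →+* ℂ := (IsAlgClosed.lift (R := ℚ) (S := (SF P)) (M := ℂ)).toRingHom
  set Z := (P.map (Int.castRingHom (SF P))).roots with hZ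
  have hs : (P.map (Int.castRingHom (SF P))).Splits := by
    have h := SplittingField.splits (P.map (Int.castRingHom ℚ))
    rwa [Polynomial.map_map, RingHom.ext_int (RingHom.comp _ (Int.castRingHom ℚ)) (Int.castRingHom (SF P))] at h
  have hr : (P.map (Int.castRingHom ℂ)).roots = Z.map ι' := by
    rw [← hs.roots_map_of_injective ι'.injective, Polynomial.map_map, RingHom.ext_int (ι'.comp _) (Int.castRingHom ℂ)]
  set R := ((Z.powersetCard j).map (fun I => (1 : (SF P)[X]) - C I.prod * X)).prod with hR
  have hmapR : ∀ {E : Type} [Field E] (f : (SF P) →+* E), R.map f =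
      (((Z.map f).powersetCard j).map (fun I => (1 : E[X]) - C I.prod * X)).prod := fun f => by
    rw [hR, Polynomial.map_multiset_prod, Multiset.map_map, Multiset.powersetCard_map, Multiset.map_map]
    refine congrArg Multiset.prod (Multiset.map_congr rfl fun I _ => ?_)
    simp [← map_multiset_prod]
  have hfix : ∀ σ : (SF P) ≃ₐ[ℚ] (SF P), R.map (σ : (SF P) →+* (SF P)) = R := fun σ => by
    rw [hmapR, show Z.map (σ : (SF P) →+* (SF P)) = Z by
      rw [← hs.roots_map_of_injective (RingHom.injective _), Polynomial.map_map,
        RingHom.ext_int ((σ : (SF P) →+* (SF P)).comp _) (Int.castRingHom (SF P))], hR]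
  have hcoef : ∀ n, R.coeff n ∈ (Int.castRingHom (SF P)).range := fun n => by
    have hint : ∀ n, _root_.IsIntegral ℤ (R.coeff n) := by
      intro n
      have : R ∈ Polynomial.lifts (integralClosure ℤ (SF P)).toSubring.subtype := by
        rw [hR, Polynomial.lifts_iff_coeff_lifts]
        intro n
        have key : ((Z.powersetCard j).map (fun I => (1 : (SF P)[X]) - C I.prod * X)).prod ∈
            Polynomial.lifts (integralClosure ℤ (SF P)).toSubring.subtype := by
          refine multiset_prod_mem _ fun f hf => ?_
          obtain ⟨I, hI, rfl⟩ := Multiset.mem_map.mp hf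
          have hI' : I.prod ∈ (integralClosure ℤ (SF P)).toSubring := by
            refine multiset_prod_mem _ fun z hz => ?_
            have hz' := Multiset.mem_of_le (Multiset.mem_powersetCard.mp hI).1 hz
            refine ⟨P, hP, ?_⟩
            have := (Polynomial.mem_roots'.mp hz').2
            rwa [IsRoot, Polynomial.eval_map] at this
          rw [Polynomial.mem_lifts]
          refine ⟨1 - C ⟨I.prod, hI'⟩ * X, ?_⟩
          rw [Polynomial.map_sub, Polynomial.map_one, Polynomial.map_mul, map_C, map_X]
          rfl
        exact (Polynomial.lifts_iff_coeff_lifts _).mp key n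
      obtain ⟨w, hw⟩ := (Polynomial.lifts_iff_coeff_lifts _).mp this n
      rw [← hw]
      exact w.2
    obtain ⟨a, ha⟩ := (IsGalois.mem_range_algebraMap_iff_fixed (R.coeff n)).mpr fun σ => by
      conv_rhs => rw [← hfix σ]
      rw [coeff_map]
      rfl
    obtain ⟨b, hb⟩ := IsIntegrallyClosed.isIntegral_iff.mp
      ((isIntegral_algebraMap_iff (algebraMap ℚ (SF P)).injective).mp (ha ▸ hint n))
    exact ⟨b, by rw [← ha, ← hb]; simp⟩
  obtain ⟨Q, hQ⟩ : ∃ Q : ℤ[X], Q.map (Int.castRingHom (SF P)) = R := by
    rw [← Polynomial.mem_lifts, Polynomial.lifts_iff_coeff_lifts]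
    exact fun n => hcoef n
  refine ⟨Q, ?_⟩
  rw [hr, ← hmapR ι', ← hQ, Polynomial.map_map, RingHom.ext_int (ι'.comp _) (Int.castRingHom ℂ)]

/-- Let k be a finite field with q elements and algebraic closure Ω, ℓ a prime invertible in k, and X an
abelian variety over k (a proper, geometrically integral commutative group scheme over k) of
dimension g, with geometric Frobenius π_X (the endomorphism that is the identity on points and the
q-th power map on sections); assume, as is the case, that the ℓ-adic Tate module of Ω-points T_ℓ X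
is free of finite rank over ℤ_ℓ, and let f_X ∈ ℤ[t] be the polynomial mapping to the characteristic
polynomial of T_ℓ(π_X) (the characteristic polynomial of Frobenius). Let α_1, …, α_{2g} be the
complex roots of f_X with multiplicity and, for 0 ≤ j ≤ 2g, P_j(t) = ∏_I (1 − α_I t), the product
over the j-element sub-multisets I of the roots, α_I = ∏_{i ∈ I} α_i (so P_j is the reciprocal
characteristic polynomial of the j-th exterior power of V_ℓ(π_X)). Then every P_j has integer
coefficients, and the zeta function Z(X; t) = exp(Σ_{m ≥ 1} N_m t^m / m) (N_m the number of points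
of X in a degree-m extension of k, counted through closed points) satisfies Z(X; t) · ∏_{j even}
P_j(t) = ∏_{j odd} P_j(t) in ℂ⟦t⟧, i.e. Z(X; t) = P_1 P_3 ⋯ P_{2g−1} / (P_0 P_2 ⋯ P_{2g}). -/
theorem result (k Ω : Type u) [Field k] [Finite k] [Field Ω] [Algebra k Ω] [IsAlgClosure k Ω]
    (l : ℕ) [Fact l.Prime] (hl : (l : k) ≠ 0) (X : Over (Spec (CommRingCat.of k)))
    [GrpObj X] [IsCommMonObj X] [IsProper X.hom] [GeometricallyIntegral X.hom]
    (πX : X ⟶ X) [IsMonHom πX] (hπb : πX.left.base = 𝟙 _)
    (hπle : ∀ U : X.left.Opens, U ≤ πX.left ⁻¹ᵁ U)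
    (hπapp : ∀ (U : X.left.Opens) (s : Γ(X.left, U)), (πX.left.appLE U U (hπle U)).hom s = s ^ Nat.card k)
    [Module.Free ℤ_[l] (AbDual.TateMod X l (SGA7.pt Ω))] [Module.Finite ℤ_[l] (AbDual.TateMod X l (SGA7.pt Ω))]
    (P : Polynomial ℤ) (hP : (AbDual.tateMapₗ (l := l) (T := SGA7.pt Ω) πX).charpoly = P.map (Int.castRingHom ℤ_[l])) :
    (∀ j : ℕ, ∃ Q : Polynomial ℤ, Q.map (Int.castRingHom ℂ) = (((P.map (Int.castRingHom ℂ)).roots.powersetCard j).map
          (fun I => (1 : Polynomial ℂ) - Polynomial.C I.prod * Polynomial.X)).prod) ∧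
      (Zeta.zetaFun X.hom).map (algebraMap ℚ ℂ) *
          ∏ j ∈ (Finset.range (P.natDegree + 1)).filter (fun j => Even j),
            (((((P.map (Int.castRingHom ℂ)).roots.powersetCard j).map
          (fun I => (1 : Polynomial ℂ) - Polynomial.C I.prod * Polynomial.X)).prod : Polynomial ℂ) : PowerSeries ℂ) =
        ∏ j ∈ (Finset.range (P.natDegree + 1)).filter (fun j => Odd j),
          (((((P.map (Int.castRingHom ℂ)).roots.powersetCard j).map
          (fun I => (1 : Polynomial ℂ) - Polynomial.C I.prod * Polynomial.X)).prod : Polynomial ℂ) : PowerSeries ℂ) := by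
  open Groth.Agent Groth.Agent.AbVarLib in
  exact by
    classical
    have : IsAlgClosed Ω := IsAlgClosure.isAlgClosed k
    have hm : P.Monic := Polynomial.monic_of_injective (f := Int.castRingHom ℤ_[l]) Int.cast_injective
      (hP ▸ LinearMap.charpoly_monic _)
    refine ⟨fun j => exists_int P hm j, ?_⟩
    set Z := (P.map (Int.castRingHom ℂ)).roots with hZ
    set d := P.natDegree with hd
    have hZc : Z.card = d := by
      rw [hZ, ← (IsAlgClosed.splits _).natDegree_eq_card_roots, hm.natDegree_map]
    let G : ℕ → PowerSeries ℂ := fun j => ((Z.powersetCard j).map fun I => PowExp.geomLog I.prod).sum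
    have hG0 : ∀ j, PowerSeries.constantCoeff (G j) = 0 := fun j => by
      simp [G, map_multiset_sum, PowExp.constantCoeff_geomLog]
    have hexp : ∀ j, ((((Z.powersetCard j).map fun I => (1 : Polynomial ℂ) - Polynomial.C I.prod * Polynomial.X).prod :
        Polynomial ℂ) : PowerSeries ℂ) = PowExp.expS (-G j) := fun j => by
      simp only [G]
      induction Z.powersetCard j using Multiset.induction_on with
      | empty => simp [PowExp.expS_zero]
      | cons I S ih =>
        have h1 : PowExp.expS (-PowExp.geomLog I.prod) = 1 - PowerSeries.C I.prod * PowerSeries.X := by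
          have h2 := PowExp.expS_geomLog_mul I.prod
          have h3 : PowExp.expS (-PowExp.geomLog I.prod) * PowExp.expS (PowExp.geomLog I.prod) = 1 := by
            rw [← PowExp.expS_add (by simp [PowExp.constantCoeff_geomLog]) (PowExp.constantCoeff_geomLog _),
              neg_add_cancel, PowExp.expS_zero]
          exact left_inv_eq_right_inv h3 h2
        rw [Multiset.map_cons, Multiset.map_cons, Multiset.prod_cons, Multiset.sum_cons, Polynomial.coe_mul, ih, neg_add,
          PowExp.expS_add (by simp [PowExp.constantCoeff_geomLog]) (by simp [map_multiset_sum, PowExp.constantCoeff_geomLog]), h1]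
        simp
    have hc : PowerSeries.constantCoeff (Zeta.logZeta X.hom) = 0 := by
      simp [Zeta.logZeta, ← PowerSeries.coeff_zero_eq_constantCoeff_apply]
    have key : PowerSeries.map (algebraMap ℚ ℂ) (Zeta.logZeta X.hom) =
        ∑ j ∈ Finset.range (d + 1), (-1 : PowerSeries ℂ) ^ j * G j := by
      ext m
      rcases m with _ | m
      · simp [hc, hG0]
      · obtain ⟨k₁, _, _, _, -, hr, -⟩ := Weil.exists_fixed_field (k := Ω) (k₀ := k) (m + 1) (Nat.succ_ne_zero m)
        have hN := FrobPts.card_points πX hπb hπle hπapp Ω l hl P hP k₁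
        have hpc : Nat.card (Over.mk (Spec.map (CommRingCat.ofHom (algebraMap k k₁))) ⟶ X) = Zeta.nPts X.hom (m + 1) := by
          rw [← hr, ← ZetaLib.pointCount_eq_nPts (k' := k₁) X.hom]
          exact Nat.card_congr
            { toFun := fun g => ⟨g.left, Over.w g⟩
              invFun := fun g => Over.homMk g.1 g.2
              left_inv := fun g => Over.OverMorphism.ext rfl
              right_inv := fun g => rfl }
        rw [hpc, hr, ← hZ] at hN
        have hbin : (Z.map fun a => 1 - a ^ (m + 1)).prod =
            ∑ j ∈ Finset.range (d + 1), (-1 : ℂ) ^ j * ((Z.powersetCard j).map fun I => I.prod ^ (m + 1)).sum := by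
          rw [show (Z.map fun a => 1 - a ^ (m + 1)) = (Z.map fun a => 1 + -(a ^ (m + 1))) from
            Multiset.map_congr rfl fun a _ => by ring, Multiset.prod_map_add, Multiset.antidiagonal_eq_map_powerset,
            Multiset.map_map, ← Multiset.bind_powerset_len, Multiset.map_bind, Multiset.sum_bind, hZc,
            ← Finset.range_val]
          refine Finset.sum_congr rfl fun j _ => ?_
          rw [← Multiset.sum_map_mul_left]
          refine congrArg Multiset.sum (Multiset.map_congr rfl fun I hI => ?_)
          simp only [Function.comp_apply, Prod.map_apply, Multiset.map_id, Multiset.map_const', Multiset.prod_replicate,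
            one_pow, _root_.one_mul]
          rw [show I.map (fun a : ℂ => -(a ^ (m + 1))) = (I.map fun a => a ^ (m + 1)).map Neg.neg from
              (Multiset.map_map _ _ _).symm,
            Multiset.prod_map_neg, Multiset.card_map, Multiset.prod_map_pow, (Multiset.mem_powersetCard.mp hI).2,
            Multiset.map_id']
        simp only [map_sum, Zeta.logZeta, PowerSeries.coeff_map, PowerSeries.coeff_mk, map_div₀, map_natCast]
        rw [hN, hbin, Finset.sum_div]
        refine Finset.sum_congr rfl fun j _ => ?_
        rw [show ((-1 : PowerSeries ℂ) ^ j) = PowerSeries.C ((-1 : ℂ) ^ j) by simp, PowerSeries.coeff_C_mul, mul_div_assoc]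
        simp only [G, map_multiset_sum, Multiset.map_map, Function.comp_def, PowExp.geomLog, PowerSeries.coeff_mk,
          Multiset.sum_map_div]
    rw [show PowerSeries.map (algebraMap ℚ ℂ) (Zeta.zetaFun X.hom) =
      PowExp.expS (PowerSeries.map (algebraMap ℚ ℂ) (Zeta.logZeta X.hom)) from PowExp.map_expS _ hc]
    simp only [← hZ, hexp]
    rw [← PowExp.expS_sum _ _ (fun i _ => by simp [hG0]), ← PowExp.expS_sum _ _ (fun i _ => by simp [hG0]),
      ← PowExp.expS_add (by rw [← PowerSeries.coeff_zero_eq_constantCoeff_apply, PowerSeries.coeff_map, PowerSeries.coeff_zero_eq_constantCoeff_apply, hc, map_zero]) (by simp [hG0]), key,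
      ← Finset.sum_filter_add_sum_filter_not (Finset.range (d + 1)) (fun j => Even j)]
    congr 1
    rw [Finset.sum_congr rfl (fun j hj => by rw [(Finset.mem_filter.mp hj).2.neg_one_pow, _root_.one_mul] :
        ∀ j ∈ (Finset.range (d + 1)).filter (fun j => Even j), (-1 : PowerSeries ℂ) ^ j * G j = G j),
      Finset.filter_congr (fun j _ => Nat.not_even_iff_odd),
      Finset.sum_congr rfl (fun j hj => by rw [(Finset.mem_filter.mp hj).2.neg_one_pow, neg_one_mul] :
        ∀ j ∈ (Finset.range (d + 1)).filter (fun j => Odd j), (-1 : PowerSeries ℂ) ^ j * G j = -G j)]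
    simp only [Finset.sum_neg_distrib]
    abel

end Groth.Agent.S16849
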