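import Groth.Statements.S16850
import Groth.Agent.S16838
-- import your own Groth.Agent.* helpers here

set_option autoImplicit false
universe u
open CategoryTheory MonoidalCategory CartesianMonoidalCategory MonObj GrpObj AlgebraicGeometry
open AbVar

namespace Groth.Agent.S16850

/-- The alternating product over all sub-multisets. -/
noncomputable def alt (Z : Multiset ℂ) (u : ℂ) : ℂ :=
  (Z.powerset.map fun I => (1 - I.prod * u) ^ ((-1 : ℤ) ^ (I.card + 1))).prod

theorem alt_cons (a : ℂ) (Z : Multiset ℂ) (u : ℂ) : alt (a ::ₘ Z) u = alt Z u / alt Z (a * u) := by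
  rw [alt, alt, alt, Multiset.powerset_cons, Multiset.map_add, Multiset.prod_add, Multiset.map_map, div_eq_mul_inv,
    ← Multiset.prod_map_inv]
  congr 2
  refine Multiset.map_congr rfl fun I _ => ?_
  simp only [Function.comp_apply, Multiset.prod_cons, Multiset.card_cons]
  rw [← zpow_neg, pow_succ _ (I.card + 1), mul_neg_one, show a * I.prod * u = I.prod * (a * u) by ring]

/-- The functional equation, for at least one variable. -/
theorem alt_inv : ∀ Z : Multiset ℂ, Z ≠ 0 → (∀ z ∈ Z, z ≠ 0) → ∀ t : ℂ, t ≠ 0 →
    (∀ I ∈ Z.powerset, 1 - I.prod * t ≠ 0) →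
    alt Z (Z.prod * t)⁻¹ = alt Z t ^ ((-1 : ℤ) ^ Z.card) * (if Z.card = 1 then Z.prod else 1) := by
  intro Z
  induction Z using Multiset.induction_on with
  | empty => intro h; exact absurd rfl h
  | cons a Z ih =>
    intro _ hz t ht hne
    have ha : a ≠ 0 := hz a (Multiset.mem_cons_self a Z)
    have hne' : ∀ I ∈ Z.powerset, 1 - I.prod * t ≠ 0 := fun I hI => hne I (by
      rw [Multiset.powerset_cons]; exact Multiset.mem_add.mpr (Or.inl hI))
    have hne'' : ∀ I ∈ Z.powerset, 1 - I.prod * (a * t) ≠ 0 := fun I hI => by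
      have := hne (a ::ₘ I) (by rw [Multiset.powerset_cons]; exact Multiset.mem_add.mpr (Or.inr (Multiset.mem_map_of_mem _ hI)))
      rwa [Multiset.prod_cons, show a * I.prod * t = I.prod * (a * t) by ring] at this
    rw [alt_cons, alt_cons, Multiset.prod_cons, Multiset.card_cons,
      show a * (a * Z.prod * t)⁻¹ = (Z.prod * t)⁻¹ by field_simp,
      show (a * Z.prod * t)⁻¹ = (Z.prod * (a * t))⁻¹ by ring]
    by_cases hZ : Z = 0
    · subst hZ
      have h1 := hne' 0 (by simp)
      have h2 := hne'' 0 (by simp)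
      simp only [Multiset.prod_zero, _root_.one_mul] at h1 h2
      simp only [alt, Multiset.powerset_zero, Multiset.map_singleton, Multiset.prod_singleton, Multiset.card_zero,
        Multiset.prod_zero, _root_.one_mul, zero_add, pow_one, zpow_neg, zpow_one, if_true, _root_.mul_one]
      field_simp
      rw [div_eq_iff (by intro h; exact h2 (by linear_combination -h))]
      ring
    · have hz' : ∀ z ∈ Z, z ≠ 0 := fun z h => hz z (Multiset.mem_cons_of_mem h)
      have hc : Z.card + 1 ≠ 1 := by simpa using hZ
      rw [ih hZ hz' (a * t) (mul_ne_zero ha ht) hne'', ih hZ hz' t ht hne', if_neg hc, _root_.mul_one, pow_succ,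
        mul_neg_one, zpow_neg, div_zpow, inv_div, mul_div_mul_right]
      split_ifs
      · exact Multiset.prod_ne_zero fun h => hz' 0 h rfl
      · exact one_ne_zero

/-- Let k be a finite field with q elements and algebraic closure Ω, ℓ a prime invertible in k, and X an
abelian variety over k (a proper, geometrically integral commutative group scheme over k) of
dimension g, with geometric Frobenius π_X (the endomorphism that is the identity on points and the
q-th power map on sections); assume, as is the case, that the ℓ-adic Tate module of Ω-points T_ℓ X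
is free of finite rank over ℤ_ℓ, and let f_X ∈ ℤ[t] be the polynomial mapping to the characteristic
polynomial of T_ℓ(π_X) (the characteristic polynomial of Frobenius). With P_j(t) = ∏_I (1 − α_I t)
over the j-element sub-multisets I of the complex roots of f_X (α_I their product), the zeta
function of X is the rational function Z(X; t) = ∏_{j=0}^{2g} P_j(t)^{(−1)^{j+1}}, and for g ≥ 1 it
satisfies the functional equation Z(X; 1/(q^g t)) = Z(X; t). (The dimension-zero case must be
excluded: for X a point, Z(X; t) = 1/(1 − t) and Z(X; 1/t) = t/(t − 1) differ; the published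
statement has no such restriction, and its proof uses Σ_j (−1)^{j+1} C(2g, j) = 0, valid only for g
≥ 1.) Stated pointwise: for every non-zero complex number t such that no P_j vanishes at t or at
1/(q^g t), ∏_j P_j(1/(q^g t))^{(−1)^{j+1}} = ∏_j P_j(t)^{(−1)^{j+1}}. -/
theorem result (k Ω : Type u) [Field k] [Finite k] [Field Ω] [Algebra k Ω] [IsAlgClosure k Ω]
    (l : ℕ) [Fact l.Prime] (hl : (l : k) ≠ 0) (X : Over (Spec (CommRingCat.of k)))
    [GrpObj X] [IsCommMonObj X] [IsProper X.hom] [GeometricallyIntegral X.hom]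
    (g : ℕ) (hg : topologicalKrullDim X.left = g) (hg1 : 1 ≤ g)
    (πX : X ⟶ X) [IsMonHom πX] (hπb : πX.left.base = 𝟙 _)
    (hπle : ∀ U : X.left.Opens, U ≤ πX.left ⁻¹ᵁ U)
    (hπapp : ∀ (U : X.left.Opens) (s : Γ(X.left, U)), (πX.left.appLE U U (hπle U)).hom s = s ^ Nat.card k)
    [Module.Free ℤ_[l] (AbDual.TateMod X l (SGA7.pt Ω))] [Module.Finite ℤ_[l] (AbDual.TateMod X l (SGA7.pt Ω))]
    (P : Polynomial ℤ) (hP : (AbDual.tateMapₗ (l := l) (T := SGA7.pt Ω) πX).charpoly = P.map (Int.castRingHom ℤ_[l]))
    (t : ℂ) (ht : t ≠ 0)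
    (hPt : ∀ j ∈ Finset.range (2 * g + 1), Polynomial.eval t ((((P.map (Int.castRingHom ℂ)).roots.powersetCard j).map
          (fun I => (1 : Polynomial ℂ) - Polynomial.C I.prod * Polynomial.X)).prod : Polynomial ℂ) ≠ 0)
    (hPs : ∀ j ∈ Finset.range (2 * g + 1), Polynomial.eval (((Nat.card k : ℂ) ^ g * t)⁻¹) ((((P.map (Int.castRingHom ℂ)).roots.powersetCard j).map
          (fun I => (1 : Polynomial ℂ) - Polynomial.C I.prod * Polynomial.X)).prod : Polynomial ℂ) ≠ 0) :
    ∏ j ∈ Finset.range (2 * g + 1), (Polynomial.eval (((Nat.card k : ℂ) ^ g * t)⁻¹) ((((P.map (Int.castRingHom ℂ)).roots.powersetCard j).map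
          (fun I => (1 : Polynomial ℂ) - Polynomial.C I.prod * Polynomial.X)).prod : Polynomial ℂ)) ^ ((-1 : ℤ) ^ (j + 1)) =
      ∏ j ∈ Finset.range (2 * g + 1), (Polynomial.eval t ((((P.map (Int.castRingHom ℂ)).roots.powersetCard j).map
          (fun I => (1 : Polynomial ℂ) - Polynomial.C I.prod * Polynomial.X)).prod : Polynomial ℂ)) ^ ((-1 : ℤ) ^ (j + 1)) := by
  open Groth.Agent Groth.Agent.AbVarLib in
  exact by
    classical
    have : IsAlgClosed Ω := IsAlgClosure.isAlgClosed k
    obtain ⟨P', hPm, hPd, hPv, hPc⟩ := CharpolyBC.exists_charpoly Ω hg πX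
    obtain rfl : P' = P := Polynomial.map_injective (Int.castRingHom ℤ_[l]) Int.cast_injective ((hPc l hl).symm.trans hP)
    set Z := (P'.map (Int.castRingHom ℂ)).roots with hZ
    have hcard : Z.card = 2 * g := by
      rw [hZ, ← (IsAlgClosed.splits _).natDegree_eq_card_roots, hPm.natDegree_map, hPd]
    have hnorm := S16838.result k Ω l hl X πX hπb hπle hπapp P' hP
    have hz : ∀ z ∈ Z, z ≠ 0 := fun z hzm h => by
      have := hnorm z hzm
      rw [h, norm_zero] at this
      exact (Real.sqrt_pos.mpr (Nat.cast_pos.mpr (Nat.card_pos (α := k)))).ne this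
    have hprod : Z.prod = (Nat.card k : ℂ) ^ g := by
      have hc := Polynomial.Splits.coeff_zero_eq_prod_roots_of_monic (IsAlgClosed.splits (P'.map (Int.castRingHom ℂ))) (hPm.map _)
      rw [hPm.natDegree_map, hPd, Even.neg_one_pow ⟨g, by ring⟩, _root_.one_mul, Polynomial.coeff_map, eq_intCast] at hc
      have hn : ‖Z.prod‖ = (Nat.card k : ℝ) ^ g := by
        have e := map_multiset_prod (normHom (α := ℂ)) Z
        simp only [normHom_apply] at e
        rw [e, show Z.map (fun x : ℂ => ‖x‖) = Z.map fun _ => Real.sqrt (Nat.card k) from Multiset.map_congr rfl hnorm,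
          Multiset.map_const', Multiset.prod_replicate, hcard, pow_mul, Real.sq_sqrt (Nat.cast_nonneg _)]
      have hpos : (0 : ℤ) ≤ P'.coeff 0 := by
        have hf := FrobSS.isFinite_of_base_eq_id _ hπb
        obtain ⟨a⟩ : Nonempty X.left := by
          have : AlgebraicGeometry.IsIntegral X.left := GeometricallyIntegral.isIntegral_of_subsingleton X.hom
          infer_instance
        have e0 : πX * 𝟙 X ^ (-(0 : ℤ)) = πX := by simp
        have h := hPv 0
        rw [e0, ← Polynomial.coeff_zero_eq_eval_zero] at h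
        rw [← h.1 hf a]
        exact Int.natCast_nonneg _
      rw [← hc, Complex.norm_intCast, abs_of_nonneg (Int.cast_nonneg hpos)] at hn
      rw [← hc, show ((P'.coeff 0 : ℤ) : ℂ) = (((P'.coeff 0 : ℤ) : ℝ) : ℂ) by push_cast; rfl, hn]
      push_cast
      rfl
    have key : ∀ u : ℂ, ∏ j ∈ Finset.range (2 * g + 1), (Polynomial.eval u (((Z.powersetCard j).map
        (fun I => (1 : Polynomial ℂ) - Polynomial.C I.prod * Polynomial.X)).prod)) ^ ((-1 : ℤ) ^ (j + 1)) = alt Z u := by
      intro u
      rw [alt, ← Multiset.bind_powerset_len, Multiset.map_bind, Multiset.prod_bind, hcard, ← Finset.range_val]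
      refine Finset.prod_congr rfl fun j _ => ?_
      rw [Polynomial.eval_multiset_prod, Multiset.map_map, ← Multiset.prod_map_zpow]
      refine congrArg Multiset.prod (Multiset.map_congr rfl fun I hI => ?_)
      simp [(Multiset.mem_powersetCard.mp hI).2]
    rw [key, key, ← hprod]
    have h := alt_inv Z (fun h0 => by rw [h0, Multiset.card_zero] at hcard; omega) hz t ht (fun I hI => by
      have hle := Multiset.mem_powerset.mp hI
      have hj := hPt I.card (Finset.mem_range.mpr (by have := Multiset.card_le_card hle; omega))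
      rw [Polynomial.eval_multiset_prod, Multiset.map_map, ne_eq, Multiset.prod_eq_zero_iff] at hj
      exact fun h0 => hj (Multiset.mem_map.mpr ⟨I, Multiset.mem_powersetCard.mpr ⟨hle, rfl⟩, by simpa using h0⟩))
    rw [h, hcard, Even.neg_one_pow ⟨g, by ring⟩, zpow_one, if_neg (by omega), _root_.mul_one]

end Groth.Agent.S16850
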