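import Groth.Statements.S16854
import Groth.Agent.CAlg.Semilinear

set_option autoImplicit false
universe u v
open CAlg

namespace Groth.Agent.S16854

/-- Let k be an algebraically closed field of characteristic p > 0, ν ≥ 1, W = W(k) the ring of
p-typical Witt vectors with its Frobenius endomorphism σ, M a finitely generated free W-module and F
: M → M a bijective additive map that is σ^ν-semilinear, F(a·m) = σ^ν(a)·F(m). Then M admits a
W-basis consisting of F-fixed elements; in particular M is spanned over W by M₀ = {m | F(m) = m}, a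
module over the Witt vectors of F_{p^ν}. (The copy allows ν < 0 as well, reducing to F⁻¹; stated
here for ν ≥ 1.) -/
theorem result (k : Type u) [Field k] [IsAlgClosed k]
    (p : ℕ) [Fact p.Prime] [CharP k p] (ν : ℕ) (hν : 1 ≤ ν)
    (M : Type v) [AddCommGroup M] [Module (WittVector p k) M]
    [Module.Finite (WittVector p k) M] [Module.Free (WittVector p k) M]
    (F : M →+ M)
    (hF : ∀ (a : WittVector p k) (m : M), F (a • m) = ((⇑(WittVector.frobenius : WittVector p k →+* WittVector p k))^[ν] a) • F m)
    (hbij : Function.Bijective F) :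
    ∃ (ι : Type v) (b : Module.Basis ι (WittVector p k) M), ∀ i, F (b i) = b i := by
  classical
  set W := WittVector p k
  let σ : W → W := (⇑(WittVector.frobenius : W →+* W))^[ν]
  have hσcoeff : ∀ a : W, (σ a).coeff 0 = a.coeff 0 ^ p ^ ν := by
    have : ∀ (j : ℕ) (a : W), (((⇑(WittVector.frobenius : W →+* W))^[j]) a).coeff 0 = a.coeff 0 ^ p ^ j := by
      intro j
      induction j with
      | zero => intro a; simp
      | succ j ih => intro a; rw [Function.iterate_succ_apply', WittVector.coeff_frobenius_charP, ih, ← pow_mul, ← pow_succ]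
    exact this ν
  have hσp : ∀ j : ℕ, σ ((p : W) ^ j) = (p : W) ^ j := by
    intro j
    exact Function.iterate_fixed (by rw [map_pow, map_natCast]) ν
  let ι := Module.Free.ChooseBasisIndex W M
  let B : Module.Basis ι W M := Module.Free.chooseBasis W M
  let π : M →+ (ι → k) :=
    { toFun := fun m i => (B.repr m i).coeff 0
      map_zero' := by ext i; simp
      map_add' := fun a b => by
        ext i
        simp only [map_add, Finsupp.add_apply, Pi.add_apply]
        exact (WittVector.constantCoeff : W →+* k).map_add _ _ }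
  have hπsmul : ∀ (a : W) (m : M), π (a • m) = a.coeff 0 • π m := fun a m => by
    ext i
    show (B.repr (a • m) i).coeff 0 = a.coeff 0 * (B.repr m i).coeff 0
    rw [map_smul, Finsupp.smul_apply, smul_eq_mul]
    exact (WittVector.constantCoeff : W →+* k).map_mul _ _
  have hker : ∀ m : M, π m = 0 → ∃ m', m = (p : W) • m' := by
    intro m hm
    choose c hc using fun i => Ideal.mem_span_singleton'.1 ((WittVector.mem_span_p_iff_coeff_zero_eq_zero (B.repr m i)).2 (congrFun hm i))
    refine ⟨B.equivFun.symm c, B.equivFun.injective ?_⟩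
    rw [map_smul, LinearEquiv.apply_symm_apply]
    funext i
    rw [Pi.smul_apply, smul_eq_mul, mul_comm, hc, Module.Basis.equivFun_apply]
  have hπp : ∀ m : M, π ((p : W) • m) = 0 := fun m => by
    rw [hπsmul, show ((p : W)).coeff 0 = 0 by
      rw [← WittVector.mem_span_p_iff_coeff_zero_eq_zero]; exact Ideal.mem_span_singleton_self _, zero_smul]
  let lift : (ι → k) → M := fun v => B.equivFun.symm fun i => WittVector.teichmuller p (v i)
  have hlift : ∀ v, π (lift v) = v := fun v => by
    funext i
    show (B.equivFun (lift v) i).coeff 0 = v i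
    simp only [lift, LinearEquiv.apply_symm_apply, WittVector.teichmuller_coeff_zero]
  have hF' : ∀ (m : M), π (F m) = π (F (lift (π m))) := by
    intro m
    obtain ⟨y, hy⟩ := hker (m - lift (π m)) (by rw [map_sub, hlift, sub_self])
    rw [← sub_eq_zero, ← map_sub, ← map_sub, hy, hF, show (⇑(WittVector.frobenius : W →+* W))^[ν] (p : W) = p by simpa using hσp 1, hπp]
  let φ : (ι → k) →+ (ι → k) := AddMonoidHom.mk' (fun v => π (F (lift v))) fun v w => by
    rw [← map_add, ← map_add]
    rw [hF' (lift v + lift w)]
    rw [map_add π, hlift, hlift]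
  have hφF : ∀ m, φ (π m) = π (F m) := fun m => (hF' m).symm
  have hφs : ∀ (a : k) (v : ι → k), φ (a • v) = a ^ p ^ ν • φ v := by
    intro a v
    have h1 : a • v = π (WittVector.teichmuller p a • lift v) := by rw [hπsmul, hlift, WittVector.teichmuller_coeff_zero]
    rw [h1, hφF, hF, hπsmul]
    rw [show ((⇑(WittVector.frobenius : W →+* W))^[ν] (WittVector.teichmuller p a)).coeff 0 = _ from hσcoeff _, WittVector.teichmuller_coeff_zero]
    rfl
  have hφbij : Function.Bijective φ := by
    constructor
    · rw [injective_iff_map_eq_zero]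
      intro v hv
      obtain ⟨y, hy⟩ := hker _ hv
      obtain ⟨y', rfl⟩ := hbij.2 y
      have : lift v = (p : W) • y' := hbij.1 (by
        rw [hF, show (⇑(WittVector.frobenius : W →+* W))^[ν] (p : W) = p by simpa using hσp 1]; exact hy)
      rw [← hlift v, this, hπp]
    · intro v
      obtain ⟨m, hm⟩ := hbij.2 (lift v)
      exact ⟨π m, by rw [hφF, hm, hlift]⟩
  have hspan := Groth.Agent.CAlg.Semilinear.span_fixed_eq_top hν φ hφs hφbij
  have step : ∀ m : M, ∃ u r : M, F u - u = m - (p : W) • r := by
    intro m
    obtain ⟨u, -, hu⟩ := Groth.Agent.CAlg.Semilinear.exists_sub_eq hν φ hφs (m := π m) (hspan ▸ Submodule.mem_top) (1 : k)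
    obtain ⟨r, hr⟩ := hker (m - (F (lift u) - lift u)) (by
      rw [map_sub, map_sub, ← hφF, hlift, hu, one_smul, sub_self])
    exact ⟨lift u, r, by rw [← hr]; abel⟩
  choose U R hUR using step
  have hsolve : ∀ m : M, ∃ u : M, F u - u = m := by
    intro m
    let ms : ℕ → M := fun j => R^[j] m
    let us : ℕ → M := fun n => ∑ j ∈ Finset.range n, (p : W) ^ j • U (ms j)
    have hus : ∀ n, F (us n) - us n = m - (p : W) ^ n • ms n := by
      intro n
      induction n with
      | zero => simp [us, ms]
      | succ n ih =>
        have hs : us (n + 1) = us n + (p : W) ^ n • U (ms n) := Finset.sum_range_succ _ _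
        rw [hs, map_add, hF, show (⇑(WittVector.frobenius : W →+* W))^[ν] ((p : W) ^ n) = (p : W) ^ n from hσp n,
          add_sub_add_comm, ih, ← smul_sub, hUR, smul_sub, smul_smul, ← pow_succ]
        rw [show ms (n + 1) = R (ms n) from Function.iterate_succ_apply' R n m]
        abel
    have hcoord : ∀ i, ∃ L : W, ∀ n, B.repr (us n) i - L ∈ Ideal.span {(p : W)} ^ n := by
      intro i
      have hc : ∀ n, B.repr (us n) i ≡ B.repr (us (n + 1)) i [SMOD (Ideal.span {(p : W)} ^ n • ⊤ : Submodule W W)] := by
        intro n
        have hs : us (n + 1) = us n + (p : W) ^ n • U (ms n) := Finset.sum_range_succ _ _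
        rw [SModEq.sub_mem, hs, map_add, Finsupp.add_apply, sub_add_cancel_left, neg_mem_iff, map_smul,
          Finsupp.smul_apply, Ideal.smul_eq_mul, Ideal.mul_top, Ideal.span_singleton_pow, smul_eq_mul]
        exact Ideal.mul_mem_right _ _ (Ideal.mem_span_singleton_self _)
      obtain ⟨L, hL⟩ := IsPrecomplete.prec (inferInstance : IsPrecomplete (Ideal.span {(p : W)}) W)
        (AdicCompletion.AdicCauchySequence.mk _ W (fun n => B.repr (us n) i) hc).2
      refine ⟨L, fun n => ?_⟩
      have h := SModEq.sub_mem.1 (hL (n := n))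
      rwa [Ideal.smul_eq_mul, Ideal.mul_top] at h
    choose L hL using hcoord
    let u := B.equivFun.symm L
    refine ⟨u, B.repr.injective (Finsupp.ext fun i => ?_)⟩
    refine sub_eq_zero.1 (IsHausdorff.haus (inferInstance : IsHausdorff (Ideal.span {(p : W)}) W) _ fun n => ?_)
    rw [SModEq.zero, Ideal.smul_eq_mul, Ideal.mul_top, Ideal.span_singleton_pow]
    choose c hc using fun j => Ideal.mem_span_singleton'.1 (Ideal.span_singleton_pow (p : W) n ▸ hL j n)
    have hd : us n - u = (p : W) ^ n • B.equivFun.symm c := by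
      apply B.equivFun.injective
      rw [map_sub, map_smul, LinearEquiv.apply_symm_apply, LinearEquiv.apply_symm_apply]
      funext j
      rw [Pi.sub_apply, Pi.smul_apply, smul_eq_mul, mul_comm, hc, Module.Basis.equivFun_apply]
    have he : F u - u - m = (p : W) ^ n • (- ms n - (F (B.equivFun.symm c) - B.equivFun.symm c)) := by
      have hu : u = us n - (p : W) ^ n • B.equivFun.symm c := by rw [← hd]; abel
      rw [hu, map_sub, hF, show (⇑(WittVector.frobenius : W →+* W))^[ν] ((p : W) ^ n) = (p : W) ^ n from hσp n]
      have := hus n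
      rw [smul_sub, smul_sub, smul_neg]
      linear_combination (norm := abel) this
    rw [← Finsupp.sub_apply, ← map_sub, he, map_smul, Finsupp.smul_apply, smul_eq_mul]
    exact Ideal.mul_mem_right _ _ (Ideal.mem_span_singleton_self _)
  obtain ⟨ι', b0, hb0⟩ := Groth.Agent.CAlg.Semilinear.exists_fixed_basis hν φ hφs hφbij
  have hfix : ∀ j, ∃ e : M, F e = e ∧ π e = b0 j := by
    intro j
    obtain ⟨r, hr⟩ := hker (F (lift (b0 j)) - lift (b0 j)) (by rw [map_sub, ← hφF, hlift, hb0, sub_self])
    obtain ⟨u, hu⟩ := hsolve r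
    refine ⟨lift (b0 j) - (p : W) • u, ?_, by rw [map_sub, hπp, sub_zero, hlift]⟩
    rw [map_sub, hF, show (⇑(WittVector.frobenius : W →+* W))^[ν] (p : W) = p by simpa using hσp 1]
    have h2 : (p : W) • F u - (p : W) • u = F (lift (b0 j)) - lift (b0 j) := by rw [← smul_sub, hu, hr]
    linear_combination (norm := abel) (-(1 : ℤ)) • h2
  choose e heF heπ using hfix
  have htop : ⊤ ≤ Submodule.span W (Set.range e) := by
    refine Submodule.le_of_le_smul_of_le_jacobson_bot (I := Ideal.span {(p : W)}) Module.Finite.fg_top
      (IsAdicComplete.le_jacobson_bot _) ?_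
    intro m _
    haveI : Fintype ι' := FiniteDimensional.fintypeBasisIndex b0
    obtain ⟨r, hr⟩ := hker (m - ∑ j, WittVector.teichmuller p (b0.repr (π m) j) • e j) (by
      rw [map_sub, map_sum]
      simp only [hπsmul, WittVector.teichmuller_coeff_zero, heπ]
      rw [b0.sum_repr, sub_self])
    rw [← sub_add_cancel m (∑ j, WittVector.teichmuller p (b0.repr (π m) j) • e j), hr]
    exact add_mem (Submodule.mem_sup_right (Submodule.smul_mem_smul (Ideal.mem_span_singleton_self _) Submodule.mem_top))
      (Submodule.mem_sup_left (Submodule.sum_mem _ fun j _ => Submodule.smul_mem _ _ (Submodule.subset_span ⟨j, rfl⟩)))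
  haveI : Fintype ι' := FiniteDimensional.fintypeBasisIndex b0
  have hcard : Fintype.card ι' = Module.finrank W M := by
    rw [← Module.finrank_eq_card_basis b0, Module.finrank_fintype_fun_eq_card, Module.finrank_eq_card_basis B]
  have hcard' : Fintype.card ι' = Fintype.card ι := by rw [hcard, Module.finrank_eq_card_basis B]
  refine ⟨ι, (basisOfTopLeSpanOfCardEqFinrank e htop hcard).reindex (Fintype.equivOfCardEq hcard'), fun i => ?_⟩
  rw [Module.Basis.reindex_apply, coe_basisOfTopLeSpanOfCardEqFinrank]
  exact heF _

end Groth.Agent.S16854
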