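import Groth.Statements.S16860
import Groth.Agent.StFib.Gerbe.Criterion

set_option autoImplicit false
set_option backward.isDefEq.respectTransparency false
set_option backward.isDefEq.respectTransparency.types false
universe u
open CategoryTheory AlgebraicGeometry
open Gerb

namespace Groth.Agent.S16860

/-- For a morphism f of algebraic stacks, the source is a gerbe over the target along f if and only if f
and its diagonal are both surjective, flat and locally of finite presentation. -/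
theorem result
    (S : Scheme.{u}) (𝒳 𝒴 : AlgSt.Cat S)
    (h𝒳 : AlgSt.IsAlgStack Scheme.fppfPrecoverage 𝒳) (h𝒴 : AlgSt.IsAlgStack Scheme.fppfPrecoverage 𝒴)
    (f : 𝒳 ⥤ᵇ 𝒴) :
    Gerb.IsGerbeOver (QuotSh.J Scheme.fppfPrecoverage S) f ↔
      (AlgSt.IsSurjective f ∧ AlgSt.LocQ (AlgSp.LocP @Flat) f ∧
        AlgSt.LocQ (AlgSp.LocP @LocallyOfFinitePresentation) f) ∧
      (AlgSt.IsSurjective (FibCat.diag f) ∧ AlgSt.LocQ (AlgSp.LocP @Flat) (FibCat.diag f) ∧
        AlgSt.LocQ (AlgSp.LocP @LocallyOfFinitePresentation) (FibCat.diag f)) := by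
  open Groth.Agent.StFib in
  refine ⟨fun hf => ?_, fun h => ⟨Gerbe.locSurjObj_of_fppf h𝒳 h𝒴 h.1.1 h.1.2.1 h.1.2.2,
    Gerbe.locSurjHom_of_fppf_diag h𝒳 h𝒴 h.2.1 h.2.2.1 h.2.2.2⟩⟩
  open Groth.Agent.StFib in
  obtain ⟨h1, h2, h3⟩ := Gerbe.diag_fppf h𝒳 h𝒴 hf
  open Groth.Agent.StFib in
  obtain ⟨hs, U, V, x, y, h, α, hx, hxs, hy, hh⟩ := Gerbe.smooth_surjective h𝒳 h𝒴 hf
  open Groth.Agent.StFib in
  have hM := isAlgStack_fp h𝒴.isStack h𝒴.diag h𝒳 h𝒳 f f
  open Groth.Agent.StFib in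
  have hsm : Smooth h.left := scheme_mem_of_locP hh
  open Groth.Agent.StFib in
  exact ⟨⟨hs, ⟨U, V, x, y, h, α, hx, hxs, hy, locP_of_scheme_mem smoothLocalProp_flat (inferInstance : Flat h.left)⟩,
      ⟨U, V, x, y, h, α, hx, hxs, hy,
        locP_of_scheme_mem smoothLocalProp_lfp (inferInstance : LocallyOfFinitePresentation h.left)⟩⟩,
    Gerbe.isSurjective_of_rep h𝒳.isStack.1 hM.isStack.1 h3,
    locQ_of_repByAlgSpWith (isSmoothLocalST_locP smoothLocalProp_flat) h𝒳 hM h1,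
    locQ_of_repByAlgSpWith (isSmoothLocalST_locP smoothLocalProp_lfp) h𝒳 hM h2⟩

end Groth.Agent.S16860
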