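import Groth.Statements.S16862
import Groth.Agent.StFib.Gerbe.Smooth
import Groth.Agent.StFib.InertiaProps

set_option autoImplicit false
set_option backward.isDefEq.respectTransparency false
set_option backward.isDefEq.respectTransparency.types false
universe u
open CategoryTheory AlgebraicGeometry
open Gerb

namespace Groth.Agent.S16862

/-- If a morphism f of algebraic stacks makes its source a gerbe over its target, then the relative
inertia of f is flat and locally of finite presentation over the source. -/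
theorem result
    (S : Scheme.{u}) (𝒳 𝒴 : AlgSt.Cat S)
    (h𝒳 : AlgSt.IsAlgStack Scheme.fppfPrecoverage 𝒳) (h𝒴 : AlgSt.IsAlgStack Scheme.fppfPrecoverage 𝒴)
    (f : 𝒳 ⥤ᵇ 𝒴) (hf : Gerb.IsGerbeOver (QuotSh.J Scheme.fppfPrecoverage S) f) :
    AlgSt.LocQ (AlgSp.LocP @Flat) (FibCat.inertiaToBase f) ∧
      AlgSt.LocQ (AlgSp.LocP @LocallyOfFinitePresentation) (FibCat.inertiaToBase f) := by
  open Groth.Agent.StFib in
  obtain ⟨h1, h2, -⟩ := Gerbe.diag_fppf h𝒳 h𝒴 hf
  open Groth.Agent.StFib in
  exact ⟨locQ_of_repByAlgSpWith (isSmoothLocalST_locP smoothLocalProp_flat) (Gerbe.isAlgStack_inertia h𝒳 h𝒴 f) h𝒳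
      (inertiaToBase_mem _ h1),
    locQ_of_repByAlgSpWith (isSmoothLocalST_locP smoothLocalProp_lfp) (Gerbe.isAlgStack_inertia h𝒳 h𝒴 f) h𝒳
      (inertiaToBase_mem _ h2)⟩

end Groth.Agent.S16862
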