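import Groth.Statements.S16864
import Groth.Agent.GalCohAux.GerbBasic

set_option autoImplicit false
universe u
open CategoryTheory AlgebraicGeometry
open Gerb

namespace Groth.Agent.S16864

/-- The base change of a gerbe along any morphism of algebraic stacks is a gerbe: if 𝒳 is a gerbe over 𝒴
along f then 𝒴' ×_𝒴 𝒳 is a gerbe over 𝒴' along the first projection. -/
theorem result
    (S : Scheme.{u}) (𝒳 𝒴 𝒴' : AlgSt.Cat S)
    (h𝒳 : AlgSt.IsAlgStack Scheme.fppfPrecoverage 𝒳) (h𝒴 : AlgSt.IsAlgStack Scheme.fppfPrecoverage 𝒴)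
    (h𝒴' : AlgSt.IsAlgStack Scheme.fppfPrecoverage 𝒴')
    (f : 𝒳 ⥤ᵇ 𝒴) (g : 𝒴' ⥤ᵇ 𝒴) (hf : Gerb.IsGerbeOver (QuotSh.J Scheme.fppfPrecoverage S) f) :
    Gerb.IsGerbeOver (QuotSh.J Scheme.fppfPrecoverage S) (FibCat.fpFst g f) := by
  refine GalCohAux.GerbBasic.baseChange (e := FibCat.fpIso g f) (G' := FibCat.fpSnd g f) h𝒴'.1.1 h𝒴.1.1 ?_ hf
  have e : FibCat.fpLift (FibCat.fpFst g f) (FibCat.fpSnd g f) (FibCat.fpIso g f) = BasedFunctor.id _ :=
    GalCohAux.GerbBasic.basedExt rfl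
  rw [FibCat.IsTwoCartOver, e]
  exact FibC.isEquivOver_id

end Groth.Agent.S16864
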