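import Groth.Statements.S16869
import Groth.Agent.StFib.Gerbe.Criterion

set_option autoImplicit false
set_option backward.isDefEq.respectTransparency false
set_option backward.isDefEq.respectTransparency.types false
universe u
open CategoryTheory AlgebraicGeometry
open Gerb

namespace Groth.Agent.S16869

/-- A morphism of algebraic stacks making its source a gerbe over its target is a universal
homeomorphism. -/
theorem result
    (S : Scheme.{u}) (𝒳 𝒴 : AlgSt.Cat S)
    (h𝒳 : AlgSt.IsAlgStack Scheme.fppfPrecoverage 𝒳) (h𝒴 : AlgSt.IsAlgStack Scheme.fppfPrecoverage 𝒴)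
    (f : 𝒳 ⥤ᵇ 𝒴) (hf : Gerb.IsGerbeOver (QuotSh.J Scheme.fppfPrecoverage S) f) :
    AlgSt.IsUnivHomeo Scheme.fppfPrecoverage f := by
  intro 𝒵 h𝒵 g
  open Groth.Agent.StFib in
  exact Gerbe.isHomeomorph_points (isAlgStack_fp h𝒴.isStack h𝒴.diag h𝒵 h𝒳 g f) h𝒵
    (Groth.Agent.GalCohAux.GerbBasic.baseChange (e := FibCat.fpIso g f) (G' := FibCat.fpSnd g f) h𝒵.isStack.1 h𝒴.isStack.1
      (fpLift_self_isEquivOver g f) hf)

end Groth.Agent.S16869
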