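import Groth.Statements.S6880
import Groth.Agent.DomMod.HomDepth
import Groth.Agent.DomMod.Reflexive

set_option autoImplicit false
universe u
open scoped TensorProduct
open CAlg

namespace Groth.Agent.S6880

/-- Let `R` be a Noetherian domain and `M` a finite reflexive `R`-module. For a prime `𝔭` with
`depth(R_𝔭) ≥ 2` one has `depth(M_𝔭) ≥ 2`; and if `R` has `(S_2)` then `M` has `(S_2)`. -/
theorem result (R : Type u) [CommRing R] [IsDomain R] [IsNoetherianRing R] (M : Type u)
    [AddCommGroup M] [Module R M] [Module.Finite R M] [Module.IsReflexive R M] :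
    (∀ (p : Ideal R) [p.IsPrime], 2 ≤ LocCoh.depth (Localization.AtPrime p) (Localization.AtPrime p) →
      2 ≤ LocCoh.depth (Localization.AtPrime p) (LocalizedModule p.primeCompl M)) ∧
    (LocCoh.HasSk 2 R R → LocCoh.HasSk 2 R M) := by
  obtain ⟨a, b, f, g, hf, hfg⟩ := DomMod.exists_exact_of_isReflexive (R := R) M
  refine ⟨fun p _ h => ?_, fun h => DomMod.HomDepth.hasSk_kernel f g hf hfg le_rfl h⟩
  set A := Localization.AtPrime p
  haveI : IsDomain A := IsLocalization.isDomain_localization p.primeCompl_le_nonZeroDivisors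
  haveI : Module.Finite A (LocalizedModule p.primeCompl M) :=
    Module.Finite.of_isLocalizedModule p.primeCompl (LocalizedModule.mkLinearMap p.primeCompl M)
  haveI := DomMod.isReflexive_localization p.primeCompl p.primeCompl_le_nonZeroDivisors M
  obtain ⟨a', b', f', g', hf', hfg'⟩ :=
    DomMod.exists_exact_of_isReflexive (R := A) (LocalizedModule p.primeCompl M)
  exact DomMod.HomDepth.le_idealDepth_kernel f' g' hf' hfg' (n := 2) le_rfl
    (le_trans h (DomMod.HomDepth.le_idealDepth_pi A a')) (le_trans h (DomMod.HomDepth.le_idealDepth_pi A b'))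

end Groth.Agent.S6880
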