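import Groth.Statements.S1691
import Groth.Agent.S1575
import Groth.Agent.S6880
import Groth.Agent.S1688
import Groth.Agent.Ref1.Hull
import Groth.Agent.QCoh.FiniteType
import Groth.Agent.HomShEval.Reflexive

set_option autoImplicit false
universe u
open CategoryTheory CategoryTheory.Limits AlgebraicGeometry TopologicalSpace
open SDiv

namespace Groth.Agent.S1691

open IsLocalRing Groth.Agent.HomShQC Groth.Agent.Ref1 Groth.Agent.QCoh Groth.Agent.PullStalk.Sky

/-- A reflexive module over a local domain of depth at least two has depth at least two. -/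
theorem two_le_depth_of_isReflexive (R : Type u) [CommRing R] [IsDomain R] [IsNoetherianRing R]
    [IsLocalRing R] (M : Type u) [AddCommGroup M] [Module R M] [Module.Finite R M]
    [Module.IsReflexive R M] (h : (2 : ℕ∞) ≤ LocCoh.depth R R) : (2 : ℕ∞) ≤ LocCoh.depth R M := by
  obtain ⟨a, b, f, g, hf, hfg⟩ := DomMod.exists_exact_of_isReflexive (R := R) M
  exact DomMod.HomDepth.le_idealDepth_kernel f g hf hfg (n := 2) le_rfl
    (le_trans h (DomMod.HomDepth.le_idealDepth_pi R a)) (le_trans h (DomMod.HomDepth.le_idealDepth_pi R b))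

/-- Reflexivity transported along a semilinear bijection. -/
theorem isReflexive_of_semilinear {R S : Type u} [CommRing R] [CommRing S] (σ : R ≃+* S)
    {M N : Type u} [AddCommGroup M] [Module R M] [AddCommGroup N] [Module S N] (e : M ≃+ N)
    (he : ∀ (r : R) (m : M), e (r • m) = σ r • e m) [Module.IsReflexive S N] :
    Module.IsReflexive R M := by
  have he' : ∀ (r : S) (n : N), e.symm (r • n) = σ.symm r • e.symm n := fun r n =>
    e.injective (by rw [AddEquiv.apply_symm_apply, he, RingEquiv.apply_symm_apply, AddEquiv.apply_symm_apply])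
  let D : Module.Dual S N → Module.Dual R M := fun ψ =>
    { toFun := fun m => σ.symm (ψ (e m))
      map_add' := fun x y => by simp
      map_smul' := fun r m => by simp [he] }
  let D' : Module.Dual R M → Module.Dual S N := fun φ =>
    { toFun := fun n => σ (φ (e.symm n))
      map_add' := fun x y => by simp
      map_smul' := fun r m => by simp [he'] }
  refine ⟨⟨fun x y hxy => e.injective ((Module.bijective_dual_eval S N).1 (LinearMap.ext fun ψ => ?_)), fun Ξ => ?_⟩⟩
  · have h1 := congrArg σ (LinearMap.congr_fun hxy (D ψ))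
    simpa [D] using h1
  · let Ξ' : Module.Dual S (Module.Dual S N) :=
      { toFun := fun ψ => σ (Ξ (D ψ))
        map_add' := fun ψ ψ' => by
          rw [show D (ψ + ψ') = D ψ + D ψ' from LinearMap.ext fun m => by simp [D], map_add, map_add]
        map_smul' := fun r ψ => by
          rw [show D (r • ψ) = σ.symm r • D ψ from LinearMap.ext fun m => by simp [D], map_smul]
          simp }
    obtain ⟨n, hn⟩ := (Module.bijective_dual_eval S N).2 Ξ'
    refine ⟨e.symm n, LinearMap.ext fun φ => σ.injective ?_⟩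
    have h1 := LinearMap.congr_fun hn (D' φ)
    have h2 : D (D' φ) = φ := LinearMap.ext fun m => by simp [D, D']
    simp only [Module.Dual.eval_apply] at h1 ⊢
    show σ (φ (e.symm n)) = σ (Ξ φ)
    rw [← h2]
    refine Eq.trans ?_ h1
    simp [D, D']

variable {X : Scheme.{u}} [IsIntegral X] [IsLocallyNoetherian X] {U : X.Opens}
  (hU : ∀ x : X, x ∉ U → (2 : ℕ∞) ≤ LocCoh.depth (X.presheaf.stalk x) (X.presheaf.stalk x))

include hU in
theorem bijective_restrict (F : X.Modules) (hF : Coh.IsCoh F)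
    (hr : ∀ x : X, Module.IsReflexive (X.presheaf.stalk x) (F.presheaf.stalk x)) (V : X.Opens) :
    Function.Bijective (F.val.presheaf.map (homOfLE (inf_le_left : V ⊓ U ≤ V)).op) := by
  refine Groth.Agent.S1575.result X F hF U (fun x hx => ?_) V
  haveI := hr x
  haveI := finite_stalk F hF.2 x
  exact two_le_depth_of_isReflexive _ _ (hU x hx)

include hU in
theorem bijective_res_inf (V : X.Opens) :
    Function.Bijective (X.presheaf.map (homOfLE (inf_le_left : V ⊓ U ≤ V)).op) := by
  refine Groth.Agent.S1575.result X (Coh.structureModule X) isCoh_structureModule U (fun x hx => ?_) V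
  haveI : Module.Finite (X.presheaf.stalk x) ((Coh.structureModule X).presheaf.stalk x) :=
    Module.Finite.equiv (Groth.Agent.HomShEval.Reflexive.structureStalkEquiv x)
  haveI : Module.IsReflexive (X.presheaf.stalk x) ((Coh.structureModule X).presheaf.stalk x) :=
    Module.equiv (Groth.Agent.HomShEval.Reflexive.structureStalkEquiv x)
  exact two_le_depth_of_isReflexive _ _ (hU x hx)

include hU in
theorem generic_mem : genericPoint X ∈ U := by
  by_contra hη
  have hbot : (⊤ : X.Opens) ⊓ U = ⊥ := by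
    rw [top_inf_eq, eq_bot_iff]
    exact fun x hx => absurd ((hsp x).mem_open U.2 hx) hη
  have hinj := (bijective_res_inf hU ⊤).1
  haveI : Subsingleton Γ(X, ⊤ ⊓ U) := by
    rw [hbot]
    exact CommRingCat.subsingleton_of_isTerminal X.sheaf.isTerminalOfEmpty
  haveI : Nonempty (⊤ : X.Opens) := ⟨⟨genericPoint X, trivial⟩⟩
  exact zero_ne_one (hinj (Subsingleton.elim _ _) : (0 : Γ(X, ⊤)) = 1)

include hU in
/-- A rational function regular at all points of `U ⊓ V` lies in `Γ(X, V)`. -/
theorem exists_section {V : X.Opens} (c : X.presheaf.stalk (genericPoint X))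
    (hη : genericPoint X ∈ V)
    (h : ∀ x ∈ V ⊓ U, ∃ (W : X.Opens) (hW : genericPoint X ∈ W), x ∈ W ∧
      ∃ r : Γ(X, W), X.presheaf.germ W (genericPoint X) hW r = c) :
    ∃ r : Γ(X, V), X.presheaf.germ V (genericPoint X) hη r = c := by
  choose W hW hxW r hr using fun x : ↥(V ⊓ U) => h x.1 x.2
  let W' : ↥(V ⊓ U) → X.Opens := fun x => W x ⊓ (V ⊓ U)
  let r' : ∀ x, Γ(X, W' x) := fun x => X.presheaf.map (homOfLE inf_le_left).op (r x)
  have hη' : genericPoint X ∈ V ⊓ U := ⟨hη, generic_mem hU⟩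
  have hW' : ∀ x, genericPoint X ∈ W' x := fun x => ⟨hW x, hη'⟩
  have hr' : ∀ x, X.presheaf.germ (W' x) (genericPoint X) (hW' x) (r' x) = c := fun x => by
    rw [← hr x]; exact TopCat.Presheaf.germ_res_apply _ _ _ _ _
  have hcompat : TopCat.Presheaf.IsCompatible X.sheaf.obj W' r' := by
    intro x y
    apply germ_injective_of_isIntegral X (genericPoint X) (U := W' x ⊓ W' y) ⟨hW' x, hW' y⟩
    exact (TopCat.Presheaf.germ_res_apply _ _ _ _ _).trans
      ((hr' x).trans ((hr' y).symm.trans (TopCat.Presheaf.germ_res_apply _ _ _ _ _).symm))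
  obtain ⟨s, hs, -⟩ := X.sheaf.existsUnique_gluing' W' (V ⊓ U) (fun x => homOfLE inf_le_right)
    (fun x hx => Opens.mem_iSup.mpr ⟨⟨x, hx⟩, hxW _, hx⟩) r' hcompat
  obtain ⟨t, ht⟩ := (bijective_res_inf hU V).2 s
  refine ⟨t, ?_⟩
  rw [← hr' ⟨_, hη'⟩, ← hs ⟨_, hη'⟩, ← ht]
  erw [TopCat.Presheaf.germ_res_apply, TopCat.Presheaf.germ_res_apply]

variable (G : U.toScheme.Modules)

/-- Sections of the direct image over an affine open inside `U` are finite. -/
theorem finite_sections_push (hG : Coh.IsCoh G) {W : X.Opens} (hW : IsAffineOpen W) (hle : W ≤ U) :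
    Module.Finite Γ(X, W) Γ((Scheme.Modules.pushforward U.ι).obj G, W) := by
  haveI := hG.1
  haveI := hG.2
  have hW' : IsAffineOpen (U.ι ⁻¹ᵁ W) :=
    hW.preimage_of_isOpenImmersion U.ι (by rw [Scheme.Opens.opensRange_ι]; exact hle)
  haveI := QCoh.finite_sections_of_isFiniteType G hW'
  obtain ⟨t, ht⟩ := (‹Module.Finite Γ(U.toScheme, U.ι ⁻¹ᵁ W) Γ(G, U.ι ⁻¹ᵁ W)›).fg_top
  haveI := U.ι.isIso_app W (by rw [Scheme.Opens.opensRange_ι]; exact hle)
  let t' : Finset Γ((Scheme.Modules.pushforward U.ι).obj G, W) := t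
  refine ⟨⟨t', eq_top_iff.mpr fun m _ => ?_⟩⟩
  have key : ∀ a : Γ(G, U.ι ⁻¹ᵁ W), (show Γ((Scheme.Modules.pushforward U.ι).obj G, W) from a) ∈
      Submodule.span Γ(X, W) (t' : Set Γ((Scheme.Modules.pushforward U.ι).obj G, W)) := fun a => by
    have ha : a ∈ Submodule.span Γ(U.toScheme, U.ι ⁻¹ᵁ W) (t : Set Γ(G, U.ι ⁻¹ᵁ W)) :=
      ht ▸ Submodule.mem_top
    induction ha using Submodule.span_induction with
    | mem a ha => exact Submodule.subset_span ha
    | zero => exact Submodule.zero_mem _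
    | add a b _ _ ha hb => exact Submodule.add_mem _ ha hb
    | smul c a _ ha =>
      obtain ⟨c, rfl⟩ := (ConcreteCategory.bijective_of_isIso (U.ι.app W)).2 c
      exact Submodule.smul_mem _ c ha
  exact key m

include hU in
/-- The direct image of a reflexive coherent module is coherent, with reflexive stalks on `U`. -/
theorem isCoh_push (hG : Coh.IsCoh G)
    (hr : ∀ x : U.toScheme, Module.IsReflexive (U.toScheme.presheaf.stalk x) (G.presheaf.stalk x)) :
    Coh.IsCoh ((Scheme.Modules.pushforward U.ι).obj G) ∧ ∀ x ∈ U,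
      Module.IsReflexive (X.presheaf.stalk x) (((Scheme.Modules.pushforward U.ι).obj G).presheaf.stalk x) := by
  haveI := hG.1
  let M := (Scheme.Modules.pushforward U.ι).obj G
  haveI hM : M.IsQuasicoherent := QCoh.isQuasicoherent_pushforward U.ι G
  have hrefl : ∀ x ∈ U, Module.IsReflexive (X.presheaf.stalk x) (M.presheaf.stalk x) := by
    intro x hx
    haveI := TopCat.Presheaf.stalkPushforward.stalkPushforward_iso_of_isInducing (C := AddCommGrpCat.{u})
      U.ι.isOpenEmbedding.isInducing G.presheaf (⟨x, hx⟩ : U.toScheme)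
    haveI := hr ⟨x, hx⟩
    let e : M.presheaf.stalk x →+ G.presheaf.stalk (⟨x, hx⟩ : U.toScheme) :=
      (TopCat.Presheaf.stalkPushforward AddCommGrpCat.{u} U.ι.base G.presheaf (⟨x, hx⟩ : U.toScheme)).hom
    let σ : X.presheaf.stalk x →+* U.toScheme.presheaf.stalk (⟨x, hx⟩ : U.toScheme) :=
      (U.ι.stalkMap (⟨x, hx⟩ : U.toScheme)).hom
    have he : Function.Bijective e := ConcreteCategory.bijective_of_isIso
      (TopCat.Presheaf.stalkPushforward AddCommGrpCat.{u} U.ι.base G.presheaf (⟨x, hx⟩ : U.toScheme))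
    have hσ : Function.Bijective σ :=
      ConcreteCategory.bijective_of_isIso (U.ι.stalkMap (⟨x, hx⟩ : U.toScheme))
    refine isReflexive_of_semilinear (RingEquiv.ofBijective σ hσ) (AddEquiv.ofBijective e he)
      fun r v => ?_
    show e (r • v) = σ r • e v
    obtain ⟨O, hO, a, rfl⟩ := X.presheaf.exists_germ_eq (x := x) r
    obtain ⟨O', hO', m, rfl⟩ := exists_germM_eq M x v
    have hxW : x ∈ O ⊓ O' := ⟨hO, hO'⟩
    rw [← germ_rres (inf_le_left : O ⊓ O' ≤ O) x hxW, ← germM_res M (inf_le_right : O ⊓ O' ≤ O') x hxW,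
      ← germM_smul]
    have hg : ∀ m : Γ(M, O ⊓ O'), e (germM M (O ⊓ O') x hxW m) =
        germM G (U.ι ⁻¹ᵁ (O ⊓ O')) (⟨x, hx⟩ : U.toScheme) hxW m := fun m =>
      ConcreteCategory.congr_hom
        (TopCat.Presheaf.stalkPushforward_germ AddCommGrpCat.{u} U.ι.base G.presheaf (O ⊓ O') ⟨x, hx⟩ hxW) m
    have hsr : σ (X.presheaf.germ (O ⊓ O') x hxW (rres (inf_le_left : O ⊓ O' ≤ O) a)) =
        U.toScheme.presheaf.germ (U.ι ⁻¹ᵁ (O ⊓ O')) ⟨x, hx⟩ hxW (U.ι.app _ (rres (inf_le_left : O ⊓ O' ≤ O) a)) :=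
      U.ι.germ_stalkMap_apply _ _ hxW _
    rw [hg, hg, hsr, ← germM_smul]
    rfl
  refine ⟨⟨hM, (QCoh.isFiniteType_iff M).mpr fun V hV => ?_⟩, hrefl⟩
  by_cases hne : (V : Set X).Nonempty
  swap
  · haveI : Subsingleton Γ(M, V) := by
      exact ⟨fun a b => sec_ext M fun y hy => absurd ⟨y, hy⟩ hne⟩
    exact Module.Finite.of_surjective (0 : Γ(X, V) →ₗ[Γ(X, V)] Γ(M, V)) fun m => ⟨0, Subsingleton.elim _ _⟩
  obtain ⟨x₀, hx₀⟩ := hne
  set η := genericPoint X
  have hηV : η ∈ V := (hsp x₀).mem_open V.2 hx₀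
  have hηU : η ∈ U := generic_mem hU
  haveI : Nonempty V := ⟨⟨η, hηV⟩⟩
  haveI : IsNoetherianRing Γ(X, V) := IsLocallyNoetherian.component_noetherian ⟨V, hV⟩
  letI : Algebra Γ(X, V) X.functionField := (X.presheaf.germ V η hηV).hom.toAlgebra
  haveI : IsFractionRing Γ(X, V) X.functionField := functionField_isFractionRing_of_isAffineOpen X V hV
  haveI : CompactSpace V.toScheme := isCompact_iff_compactSpace.mp hV.isCompact
  haveI : IsNoetherian V.toScheme := { }
  have hqc : IsCompact ((V ⊓ U : X.Opens) : Set X) := by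
    have h := NoetherianSpace.isCompact (V.ι ⁻¹' (U : Set X))
    have h2 := h.image V.ι.continuous
    rwa [Set.image_preimage_eq_inter_range, Scheme.Opens.range_ι, Set.inter_comm] at h2
  obtain ⟨s, hs, hsV⟩ : ∃ s : Finset X.affineOpens,
      (∀ W ∈ s, W.1 ≤ V ⊓ U ∧ η ∈ W.1) ∧ ∀ x ∈ V ⊓ U, ∃ W ∈ s, x ∈ W.1 := by
    classical
    have hcov : ∀ x : ↥(V ⊓ U), ∃ W : X.affineOpens, x.1 ∈ W.1 ∧ W.1 ≤ V ⊓ U := fun x => by
      obtain ⟨_, ⟨W, hW, rfl⟩, hxW, hle⟩ :=
        X.isBasis_affineOpens.exists_subset_of_mem_open x.2 (V ⊓ U).2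
      exact ⟨⟨W, hW⟩, hxW, hle⟩
    choose W hxW hWle using hcov
    obtain ⟨t, ht⟩ := hqc.elim_finite_subcover (fun x => ((W x).1 : Set X)) (fun x => (W x).1.2)
      fun x hx => Set.mem_iUnion.mpr ⟨⟨x, hx⟩, hxW _⟩
    refine ⟨t.image W, fun W' hW' => ?_, fun x hx => ?_⟩
    · obtain ⟨x, -, rfl⟩ := Finset.mem_image.mp hW'
      exact ⟨hWle x, (hsp x.1).mem_open (W x).1.2 (hxW x)⟩
    · obtain ⟨y, hy, hxy⟩ := Set.mem_iUnion₂.mp (ht hx)
      exact ⟨W y, Finset.mem_image_of_mem _ hy, hxy⟩
  choose gens hgens using fun W : {W // W ∈ s} =>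
    (finite_sections_push G hG W.1.2 ((hs W.1 W.2).1.trans inf_le_right)).fg_top
  -- the generic stalk
  letI : Field (X.presheaf.stalk η) := inferInstanceAs (Field X.functionField)
  haveI : Module.Finite (X.presheaf.stalk η) (M.presheaf.stalk η) := by
    obtain ⟨W₀, hW₀, hηW₀⟩ := hsV η ⟨hηV, hηU⟩
    haveI := finite_sections_push G hG W₀.2 ((hs W₀ hW₀).1.trans inf_le_right)
    exact Props.QProj.finite_stalk M W₀.2 hηW₀
  let bK := Module.finBasis (X.presheaf.stalk η) (M.presheaf.stalk η)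
  classical
  let vals : Finset (X.presheaf.stalk η) := Finset.univ.biUnion fun W : {W // W ∈ s} =>
    (gens W).biUnion fun g => Finset.univ.image fun i => bK.coord i (germM M W.1.1 η (hs W.1 W.2).2 g)
  obtain ⟨d, hd⟩ := IsLocalization.exist_integer_multiples_of_finset (nonZeroDivisors Γ(X, V))
    (S := X.functionField) vals
  let a : X.presheaf.stalk η := X.presheaf.germ V η hηV d.1
  have ha : a ≠ 0 := germ_ne_zero hηV (nonZeroDivisors.ne_zero d.2)
  have hint : ∀ (m : Γ(M, V)) i, ∃ r : Γ(X, V),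
      X.presheaf.germ V η hηV r = a * bK.coord i (germM M V η hηV m) := by
    intro m i
    refine exists_section hU _ hηV fun x hx => ?_
    obtain ⟨W, hW, hxW⟩ := hsV x hx
    obtain ⟨hWle, hηW⟩ := hs W hW
    refine ⟨W.1, hηW, hxW, ?_⟩
    have hWV : W.1 ≤ V := hWle.trans inf_le_left
    rw [← germM_res M hWV η hηW m]
    generalize res M hWV m = y
    have hy : y ∈ Submodule.span Γ(X, W.1) (gens ⟨W, hW⟩ : Set Γ(M, W.1)) :=
      (hgens ⟨W, hW⟩).ge trivial
    induction hy using Submodule.span_induction with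
    | mem g hg =>
      obtain ⟨r, hr⟩ := hd (bK.coord i (germM M W.1 η hηW g))
        (Finset.mem_biUnion.mpr ⟨⟨W, hW⟩, Finset.mem_univ _,
          Finset.mem_biUnion.mpr ⟨g, hg, Finset.mem_image_of_mem _ (Finset.mem_univ i)⟩⟩)
      refine ⟨X.presheaf.map (homOfLE hWV).op r, ?_⟩
      rw [TopCat.Presheaf.germ_res_apply]
      exact hr.trans (Algebra.smul_def _ _)
    | zero => exact ⟨0, by
        rw [show germM M W.1 η hηW (0 : Γ(M, W.1)) = 0 from map_zero _, map_zero, map_zero, mul_zero]⟩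
    | add y z _ _ hy hz =>
      obtain ⟨r, hr⟩ := hy
      obtain ⟨r', hr'⟩ := hz
      refine ⟨r + r', ?_⟩
      rw [show germM M W.1 η hηW (y + z) = germM M W.1 η hηW y + germM M W.1 η hηW z from map_add _ _ _,
        map_add, map_add, mul_add, hr, hr']
    | smul c y _ hy =>
      obtain ⟨r, hr⟩ := hy
      refine ⟨c * r, ?_⟩
      rw [germM_smul, map_smul, smul_eq_mul, map_mul, hr]
      ring
  choose ψ hψ using hint
  have hinj : Function.Injective (X.presheaf.germ V η hηV) := germ_injective_of_isIntegral X η hηV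
  let Ψ : Γ(M, V) →ₗ[Γ(X, V)] (Fin (Module.finrank (X.presheaf.stalk η) (M.presheaf.stalk η)) → Γ(X, V)) :=
    { toFun := fun m i => ψ m i
      map_add' := fun m m' => funext fun i => hinj (by
        rw [Pi.add_apply, map_add, hψ, hψ, hψ,
          show germM M V η hηV (m + m') = germM M V η hηV m + germM M V η hηV m' from map_add _ _ _,
          map_add, mul_add])
      map_smul' := fun c m => funext fun i => hinj (by
        rw [RingHom.id_apply, Pi.smul_apply, smul_eq_mul, map_mul, hψ, hψ, germM_smul, map_smul, smul_eq_mul]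
        ring) }
  refine Module.Finite.of_injective Ψ fun m m' hmm => ?_
  have hη0 : germM M V η hηV m = germM M V η hηV m' := by
    apply bK.ext_elem
    intro i
    have h1 : a * bK.coord i (germM M V η hηV m) = a * bK.coord i (germM M V η hηV m') := by
      rw [← hψ, ← hψ]
      exact congrArg _ (congrFun hmm i)
    exact mul_left_cancel₀ ha h1
  have key : ∀ y ∈ V ⊓ U, ∀ hy : y ∈ V, germM M V y hy m = germM M V y hy m' := fun y hy hyV => by
    haveI := hrefl y hy.2
    obtain ⟨_, ⟨W, hW, rfl⟩, hyW, hWU⟩ := X.isBasis_affineOpens.exists_subset_of_mem_open hy.2 U.2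
    haveI := finite_sections_push G hG hW hWU
    haveI := Props.QProj.finite_stalk M hW hyW
    refine toη_injective M y ?_ ?_
    · exact (Module.bijective_dual_eval (X.presheaf.stalk y) (M.presheaf.stalk y)).1.moduleIsTorsionFree _
        (Module.Dual.eval _ _).map_smul
    · rw [toη, sp_germ, sp_germ]
      exact hη0
  have hres : res M (inf_le_left : V ⊓ U ≤ V) m = res M (inf_le_left : V ⊓ U ≤ V) m' :=
    sec_ext M fun y hy => by rw [germM_res, germM_res]; exact key y hy hy.1
  have hbij : Function.Bijective (M.presheaf.map (homOfLE (inf_le_left : V ⊓ U ≤ V)).op) := by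
    haveI : IsIso (M.presheaf.map (homOfLE (inf_le_left : V ⊓ U ≤ V)).op) := by
      change IsIso (G.presheaf.map ((TopologicalSpace.Opens.map U.ι.base).map (homOfLE inf_le_left)).op)
      haveI : IsIso ((TopologicalSpace.Opens.map U.ι.base).map (homOfLE (inf_le_left : V ⊓ U ≤ V))) :=
        ⟨homOfLE (fun z hz => ⟨hz, z.2⟩), Subsingleton.elim _ _, Subsingleton.elim _ _⟩
      infer_instance
    exact ConcreteCategory.bijective_of_isIso _
  exact hbij.1 hres


/-- Let X be an integral locally Noetherian scheme and j : U ⟶ X an open subscheme such that the local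
ring of X at every point outside U has depth at least 2. Then (a) for every coherent reflexive
module F on X the canonical map F ⟶ j_* j^* F is an isomorphism, and (b) for every coherent
reflexive module G on U the direct image j_* G is coherent and reflexive (so that j^* and j_* are
mutually inverse equivalences). -/
theorem result (X : Scheme.{u}) [IsIntegral X] [IsLocallyNoetherian X] (U : X.Opens)
    (hU : ∀ x : ↥X, x ∉ U → (2 : ℕ∞) ≤ LocCoh.depth (X.presheaf.stalk x) (X.presheaf.stalk x)) :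
    (∀ F : X.Modules, Coh.IsCoh F → (∀ x : ↥X, Module.IsReflexive (X.presheaf.stalk x) (F.presheaf.stalk x)) →
        IsIso ((Scheme.Modules.restrictAdjunction U.ι).unit.app F)) ∧
      (∀ G : (U : Scheme.{u}).Modules, Coh.IsCoh G → (∀ x : ↥(U : Scheme.{u}), Module.IsReflexive ((U : Scheme.{u}).presheaf.stalk x) (G.presheaf.stalk x)) →
        Coh.IsCoh ((Scheme.Modules.pushforward U.ι).obj G) ∧
          (∀ x : ↥X, Module.IsReflexive (X.presheaf.stalk x) (((Scheme.Modules.pushforward U.ι).obj G).presheaf.stalk x))) := by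
  refine ⟨fun F hF hFr => ?_, fun G hG hGr => ?_⟩
  · refine Scheme.Modules.Hom.isIso_iff_isIso_app.mpr fun V => (ConcreteCategory.isIso_iff_bijective _).mpr ?_
    have h1 := bijective_restrict hU F hF hFr V
    rw [Scheme.Modules.restrictAdjunction_unit_app_app]
    have heq : U.ι ''ᵁ (U.ι ⁻¹ᵁ V) = V ⊓ U := by
      rw [Scheme.Hom.image_preimage_eq_opensRange_inf, Scheme.Opens.opensRange_ι, inf_comm]
    have key : ∀ (O : X.Opens) (h : O ≤ V), O = V ⊓ U →
        Function.Bijective (F.presheaf.map (homOfLE h).op) := by rintro O h rfl; exact h1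
    exact key _ _ heq
  obtain ⟨hM, hMU⟩ := isCoh_push hU G hG hGr
  refine ⟨hM, ?_⟩
  let M := (Scheme.Modules.pushforward U.ι).obj G
  obtain ⟨hD, hDr⟩ := Groth.Agent.Ref1.isReflexive_ddual M hM
  have hDx := (isReflexive_iff_of_isCoh _ hD).mp hDr
  refine (isReflexive_iff_of_isCoh M hM).mp ?_
  have hbij : ∀ x ∈ U, Function.Bijective (RefHull.stalkMapₗ (RefHull.bidualMap M) x) := fun x hx =>
    (Groth.Agent.HomShEval.Reflexive.bijective_stalkMap_bidualMap_iff M hM x).mpr (hMU x hx)
  refine Scheme.Modules.Hom.isIso_iff_isIso_app.mpr fun V => (ConcreteCategory.isIso_iff_bijective _).mpr ?_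
  have h1 : Function.Bijective ((RefHull.bidualMap M).app (V ⊓ U)) := by
    let FM : TopCat.Sheaf AddCommGrpCat.{u} X := ⟨M.presheaf, M.isSheaf⟩
    let FD : TopCat.Sheaf AddCommGrpCat.{u} X :=
      ⟨(RefHull.ddual M).presheaf, (RefHull.ddual M).isSheaf⟩
    let φ : FM ⟶ FD := ⟨(RefHull.bidualMap M).mapPresheaf⟩
    exact ⟨TopCat.Presheaf.app_injective_of_stalkFunctor_map_injective (F := FM) φ.1 (V ⊓ U)
        fun x hx => (hbij x hx.2).1,
      TopCat.Presheaf.app_surjective_of_stalkFunctor_map_bijective φ (V ⊓ U)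
        fun x hx => hbij x hx.2⟩
  have h2 : Function.Bijective ((RefHull.ddual M).presheaf.map (homOfLE (inf_le_left : V ⊓ U ≤ V)).op) :=
    bijective_restrict hU (RefHull.ddual M) hD hDx V
  have h3 : Function.Bijective (M.presheaf.map (homOfLE (inf_le_left : V ⊓ U ≤ V)).op) := by
    haveI : IsIso (M.presheaf.map (homOfLE (inf_le_left : V ⊓ U ≤ V)).op) := by
      change IsIso (G.presheaf.map ((TopologicalSpace.Opens.map U.ι.base).map (homOfLE inf_le_left)).op)
      haveI : IsIso ((TopologicalSpace.Opens.map U.ι.base).map (homOfLE (inf_le_left : V ⊓ U ≤ V))) :=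
        ⟨homOfLE (fun z hz => ⟨hz, z.2⟩), Subsingleton.elim _ _, Subsingleton.elim _ _⟩
      infer_instance
    exact ConcreteCategory.bijective_of_isIso _
  have h5 : ((RefHull.bidualMap M).app (V ⊓ U) : _ → _) ∘
      (M.presheaf.map (homOfLE (inf_le_left : V ⊓ U ≤ V)).op : _ → _) =
      ((RefHull.ddual M).presheaf.map (homOfLE (inf_le_left : V ⊓ U ≤ V)).op : _ → _) ∘
        ((RefHull.bidualMap M).app V : _ → _) :=
    funext fun v => ConcreteCategory.congr_hom
      ((RefHull.bidualMap M).mapPresheaf.naturality (homOfLE (inf_le_left : V ⊓ U ≤ V)).op) v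
  exact (Function.Bijective.of_comp_iff' h2 _).mp (h5 ▸ h1.comp h3)

end Groth.Agent.S1691
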