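import Groth.Statements.S1690
import Groth.Agent.S1691
import Groth.Agent.S7862
import Groth.Agent.RegLoc.Serre
import Groth.Agent.ProperFin.Projective

set_option autoImplicit false
universe u
open CategoryTheory CategoryTheory.Limits AlgebraicGeometry TopologicalSpace
open SDiv

namespace Groth.Agent.S1690

/-- (1) if and only if (3): let X be an integral locally Noetherian normal scheme and F a coherent
module. Then F is reflexive (stalkwise) if and only if there is an open subscheme j : U ⟶ X such
that every point outside U has local ring of dimension at least 2, the restriction of F to U is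
finite locally free, and the canonical map F ⟶ j_* j^* F is an isomorphism. -/
theorem result (X : Scheme.{u}) [IsIntegral X] [IsLocallyNoetherian X] (hX : Pi1.IsNormalScheme X)
    (F : X.Modules) (hF : Coh.IsCoh F) :
    (∀ x : ↥X, Module.IsReflexive (X.presheaf.stalk x) (F.presheaf.stalk x)) ↔
      ∃ U : X.Opens, (∀ x : ↥X, x ∉ U → (2 : WithBot ℕ∞) ≤ ringKrullDim (X.presheaf.stalk x)) ∧
        FlatMod.IsFinLocFree (F.restrict U.ι) ∧ IsIso ((Scheme.Modules.restrictAdjunction U.ι).unit.app F) := by
  have hdep : ∀ x : X, (2 : WithBot ℕ∞) ≤ ringKrullDim (X.presheaf.stalk x) →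
      (2 : ℕ∞) ≤ LocCoh.depth (X.presheaf.stalk x) (X.presheaf.stalk x) := by
    intro x hx
    haveI := (hX x).2
    have h := Groth.Agent.RegLoc.Serre.min_two_dim_le_depth (A := X.presheaf.stalk x)
    rw [min_eq_left hx] at h
    exact WithBot.coe_le_coe.mp h
  haveI := hF.1
  constructor
  · intro hr
    let U : X.Opens := ⟨{x | ∃ (V : X.Opens) (n : ℕ), x ∈ V ∧ Nonempty (F.restrict V.ι ≅ FlatMod.freeMod V n)}, by
      rw [isOpen_iff_forall_mem_open]
      rintro x ⟨V, n, hV, e⟩
      exact ⟨V, fun y hy => ⟨V, n, hy, e⟩, V.2, hV⟩⟩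
    have hbig : ∀ x : X, x ∉ U → (2 : WithBot ℕ∞) ≤ ringKrullDim (X.presheaf.stalk x) := by
      intro x hx
      by_contra hlt
      apply hx
      haveI := (hX x).2
      haveI := hr x
      haveI : Module.IsTorsionFree (X.presheaf.stalk x) (F.presheaf.stalk x) :=
        (Module.bijective_dual_eval (X.presheaf.stalk x) (F.presheaf.stalk x)).1.moduleIsTorsionFree _
          (Module.Dual.eval _ _).map_smul
      haveI : Ring.KrullDimLE 1 (X.presheaf.stalk x) := by
        rw [Ring.krullDimLE_iff]
        obtain ⟨d, hd⟩ := Groth.Agent.RegLoc.exists_natCast_eq_ringKrullDim (X.presheaf.stalk x)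
        rw [hd.1] at hlt ⊢
        have h1 : ¬ 2 ≤ d := fun h => hlt (by exact_mod_cast h)
        exact_mod_cast (show d ≤ 1 by omega)
      haveI := Groth.Agent.FDesc.QuasiFlat.finite_stalk_of_isCoh F hF x
      obtain ⟨_, ⟨W, hW, rfl⟩, hxW, -⟩ :=
        X.isBasis_affineOpens.exists_subset_of_mem_open (Set.mem_univ x) isOpen_univ
      haveI : IsNoetherianRing Γ(X, W) := IsLocallyNoetherian.component_noetherian ⟨W, hW⟩
      haveI := hF.2
      haveI := Groth.Agent.QCoh.finite_sections_of_isFiniteType F hW
      exact Groth.Agent.Props.QProj.exists_free_nhd F hW hxW (Module.finitePresentation_of_finite _ _)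
        (Groth.Agent.S7862.free_of_dim_le_one _ _)
    exact ⟨U, hbig, Groth.Agent.S7862.isFinLocFree_restrict_of_forall U fun x hx => hx,
      (Groth.Agent.S1691.result X U fun x hx => hdep x (hbig x hx)).1 F hF hr⟩
  · rintro ⟨U, hbig, hlf, hiso⟩ x
    let G : U.toScheme.Modules := F.restrict U.ι
    have hG : Coh.IsCoh G := Groth.Agent.ProperFin.isCoh_restrict U.ι hF
    haveI := hG.1
    have hGr : ∀ y : U.toScheme, Module.IsReflexive (U.toScheme.presheaf.stalk y) (G.presheaf.stalk y) := by
      intro y
      haveI := (Groth.Agent.Props.QProj.free_stalk G hlf y).1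
      haveI := Groth.Agent.HomShQC.finite_stalk G hG.2 y
      infer_instance
    obtain ⟨hM, hMr⟩ := (Groth.Agent.S1691.result X U fun x hx => hdep x (hbig x hx)).2 G hG hGr
    haveI := hiso
    haveI := hMr x
    let φ := (Scheme.Modules.restrictAdjunction U.ι).unit.app F
    have hb : Function.Bijective (RefHull.stalkMapₗ φ x) :=
      (Groth.Agent.HomShQC.isIso_iff_bijective_stalk φ).mp hiso x
    haveI : Module.IsReflexive (X.presheaf.stalk x)
        (((Scheme.Modules.restrictFunctor U.ι ⋙ Scheme.Modules.pushforward U.ι).obj F).presheaf.stalk x) := hMr x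
    exact Module.equiv (LinearEquiv.ofBijective (RefHull.stalkMapₗ φ x) hb).symm

end Groth.Agent.S1690
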