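import Groth.Statements.S16900
import Groth.Agent.CycCover.Basic
-- import your own Groth.Agent.* helpers here

set_option autoImplicit false
universe u
open Polynomial
open Vanish

namespace Groth.Agent.S16900

/-- Let k be an algebraically closed field and B an integral domain of finite type over k all of whose
localizations at primes are regular (an affine open Spec B of a manifold); let N ≥ 1 be invertible
in k, u a unit of B, α a natural number and f₁ ≠ 0 an element of B such that all local rings of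
B/f₁B are regular (the divisor D₁ = V(f₁) is non-singular; f₁ may be a unit). With A' = B[t]/(t^N −
u·f₁^α) (the algebra of the N-th root of the section u·f₁^α) and K = A'[1/f₁], let A ⊆ K be the
B-subalgebra generated by the N elements t^i · f₁^(−⌊iα/N⌋), 0 ≤ i < N. Then A is finite over B, A
is the integral closure of A' in K (Spec A is the normalization of Spec A', finite and normal over
Spec B), and Spec A is non-singular: every localization of A at a prime ideal is a regular local
ring. -/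
theorem result (k : Type u) [Field k] [IsAlgClosed k]
    (B : Type u) [CommRing B] [IsDomain B] [Algebra k B] [Algebra.FiniteType k B]
    (hreg : ∀ (P : Ideal B) [P.IsPrime], IsRegularLocalRing (Localization.AtPrime P))
    (N : ℕ) (hN : 0 < N) (hNk : IsUnit ((N : ℕ) : k)) (u : Bˣ) (α : ℕ) (f₁ : B) (hf₁ : f₁ ≠ 0)
    (hD : ∀ (P : Ideal (B ⧸ Ideal.span ({f₁} : Set B))) [P.IsPrime], IsRegularLocalRing (Localization.AtPrime P))
    (A : Subalgebra B (Localization.Away
      (algebraMap B (AdjoinRoot (X ^ N - C ((u : B) * f₁ ^ α) : B[X])) f₁)))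
    (hA : A = Algebra.adjoin B (Set.range fun i : Fin N =>
      algebraMap (AdjoinRoot (X ^ N - C ((u : B) * f₁ ^ α) : B[X])) (Localization.Away
        (algebraMap B (AdjoinRoot (X ^ N - C ((u : B) * f₁ ^ α) : B[X])) f₁))
        (AdjoinRoot.root (X ^ N - C ((u : B) * f₁ ^ α) : B[X]) ^ (i : ℕ)) *
      IsLocalization.Away.invSelf (S := Localization.Away
        (algebraMap B (AdjoinRoot (X ^ N - C ((u : B) * f₁ ^ α) : B[X])) f₁))
        (algebraMap B (AdjoinRoot (X ^ N - C ((u : B) * f₁ ^ α) : B[X])) f₁) ^ ((i : ℕ) * α / N))) :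
    Module.Finite B A ∧
      IsIntegralClosure A (AdjoinRoot (X ^ N - C ((u : B) * f₁ ^ α) : B[X]))
        (Localization.Away (algebraMap B (AdjoinRoot (X ^ N - C ((u : B) * f₁ ^ α) : B[X])) f₁)) ∧
      ∀ (Q : Ideal A) [Q.IsPrime], IsRegularLocalRing (Localization.AtPrime Q) := by
  classical
  obtain ⟨g, hg⟩ : ∃ g, g = Nat.gcd N α := ⟨_, rfl⟩
  obtain ⟨n, hNn⟩ : ∃ n, N = g * n := hg ▸ Nat.gcd_dvd_left N α
  obtain ⟨a, hαa⟩ : ∃ a, α = g * a := hg ▸ Nat.gcd_dvd_right N α
  have hg0 : 0 < g := hg ▸ Nat.gcd_pos_of_pos_left α hN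
  have hn : 0 < n := Nat.pos_of_mul_pos_left (hNn ▸ hN)
  have hcop : Nat.Coprime a n := by
    have h := hg
    rw [hNn, hαa, Nat.gcd_mul_left] at h
    have h1 : Nat.gcd n a = 1 := (Nat.mul_eq_left hg0.ne').1 h.symm
    exact (Nat.coprime_comm).1 h1
  obtain ⟨x, y, hxy⟩ : IsCoprime (a : ℤ) (n : ℤ) := Nat.isCoprime_iff_coprime.2 hcop
  have hNB : IsUnit (N : B) := by simpa using hNk.map (algebraMap k B)
  have hgnB : IsUnit (g : B) ∧ IsUnit (n : B) := by
    rw [← IsUnit.mul_iff, ← Nat.cast_mul, ← hNn]; exact hNB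
  haveI : IsNoetherianRing B := Algebra.FiniteType.isNoetherianRing k B
  haveI : IsRegularRing B := isRegularRing_iff.2 fun P hP => hreg P
  haveI : IsRegularRing (B ⧸ Ideal.span ({f₁} : Set B)) := isRegularRing_iff.2 fun P hP => hD P
  set A' := AdjoinRoot (X ^ N - C ((u : B) * f₁ ^ α) : B[X])
  set K := Localization.Away (algebraMap B A' f₁)
  have hroot : AdjoinRoot.root (X ^ N - C ((u : B) * f₁ ^ α) : B[X]) ^ N = algebraMap B A' ((u : B) * f₁ ^ α) := by
    have h := AdjoinRoot.eval₂_root (X ^ N - C ((u : B) * f₁ ^ α) : B[X])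
    rwa [eval₂_sub, eval₂_X_pow, eval₂_C, sub_eq_zero] at h
  have hfu : IsUnit (algebraMap B K f₁) := by
    rw [IsScalarTower.algebraMap_apply B A' K]
    exact IsLocalization.Away.algebraMap_isUnit _
  have htN : algebraMap A' K (AdjoinRoot.root _) ^ N = algebraMap B K (u : B) * algebraMap B K f₁ ^ α :=
    (map_pow _ _ _).symm.trans ((congrArg _ hroot).trans ((IsScalarTower.algebraMap_apply B A' K _).symm.trans
      ((map_mul _ _ _).trans (congrArg _ (map_pow _ _ _)))))
  have htu : IsUnit (algebraMap A' K (AdjoinRoot.root _)) := by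
    refine (isUnit_pow_iff hN.ne').1 ?_
    rw [htN]
    exact (u.isUnit.map _).mul (hfu.pow α)
  have hT : htu.unit ^ N = CycCover.unitMap u K * hfu.unit ^ α := by
    ext
    simpa [CycCover.unitMap] using htN
  have hgen : ∀ b : K, ∃ (m : ℕ) (p : B[X]), b * algebraMap B K f₁ ^ m = aeval (htu.unit : K) p := by
    intro b
    obtain ⟨⟨c, ⟨_, m, rfl⟩⟩, hm⟩ := IsLocalization.surj (Submonoid.powers (algebraMap B A' f₁)) b
    obtain ⟨p, rfl⟩ := AdjoinRoot.mk_surjective c
    refine ⟨m, p, ?_⟩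
    rw [map_pow, ← IsScalarTower.algebraMap_apply] at hm
    rw [hm, IsUnit.unit_spec, Polynomial.aeval_algebraMap_apply, AdjoinRoot.aeval_eq]
  have huniv : ∀ (L' : Type u) [CommRing L'] [Algebra B L'] (T' F' : L'ˣ),
      (F' : L') = algebraMap B L' f₁ → T' ^ N = CycCover.unitMap u L' * F' ^ α →
        ∃ ψ : K →ₐ[B] L', ψ (htu.unit : K) = T' := by
    intro L' _ _ T' F' hF' hT'
    let ψ₀ : A' →ₐ[B] L' := AdjoinRoot.liftAlgHom _ (Algebra.ofId B L') (T' : L') (by
      rw [eval₂_sub, eval₂_X_pow, eval₂_C, ← Units.val_pow_eq_pow_val, hT']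
      simp [Algebra.ofId_apply, hF'])
    have hψ₀ : IsUnit (ψ₀ (algebraMap B A' f₁)) := by rw [AlgHom.commutes, ← hF']; exact F'.isUnit
    refine ⟨IsLocalization.liftAlgHom (M := Submonoid.powers (algebraMap B A' f₁)) (f := ψ₀)
      (fun z => by obtain ⟨m, hm⟩ := z.2; rw [← hm, map_pow]; exact hψ₀.pow m), ?_⟩
    rw [IsUnit.unit_spec]
    exact (IsLocalization.lift_eq _ _).trans (AdjoinRoot.liftAlgHom_root _ _ _ _)
  obtain ⟨φ, hinj, hrange, hu, hden⟩ := CycCover.exists_presentation (f := f₁) (u := u) htu.unit hfu.unit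
    hfu.unit_spec hT hgen huniv hg0 hn hNn hαa x y hxy hf₁
  obtain ⟨hM, hMred⟩ := CycCover.isRegularRing_model u f₁ g n x hg0 hn hgnB.1 hgnB.2 hf₁
  have hAφ : φ.range = A := by
    have hinv : IsLocalization.Away.invSelf (S := K) (algebraMap B A' f₁) = ((hfu.unit⁻¹ : Kˣ) : K) := by
      refine Units.eq_inv_of_mul_eq_one_left ?_
      rw [IsUnit.unit_spec, IsScalarTower.algebraMap_apply B A' K]
      exact IsLocalization.Away.mul_invSelf _
    rw [hrange, hA, CycCover.normAlg]
    congr 2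
    funext i
    rw [map_pow, hinv, Units.val_mul, Units.val_pow_eq_pow_val, Units.val_pow_eq_pow_val, IsUnit.unit_spec]
  haveI : Module.Finite B A' := (monic_X_pow_sub_C ((u : B) * f₁ ^ α) hN.ne').finite_adjoinRoot
  haveI : Module.Finite B (CycCover.Model u f₁ g n x hg0) := CycCover.finite_model u f₁ g n x hg0 hn
  let e : CycCover.Model u f₁ g n x hg0 ≃ₐ[B] A :=
    (AlgEquiv.ofInjective φ hinj).trans (Subalgebra.equivOfEq _ _ hAφ)
  refine ⟨Module.Finite.equiv e.toLinearEquiv, ⟨Subtype.val_injective, fun {b} => ?_⟩, ?_⟩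
  · rw [CycCover.isIntegral_iff_mem (A' := A') hg0 hn x φ hinj hu hden, hAφ]
    exact ⟨fun h => ⟨⟨b, h⟩, rfl⟩, by rintro ⟨c, rfl⟩; exact c.2⟩
  · haveI : IsRegularRing A := IsRegularRing.of_ringEquiv e.toRingEquiv
    intro Q _
    infer_instance

end Groth.Agent.S16900
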