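import Groth.Statements.S16901
import Groth.Agent.NefPos.Growth

set_option autoImplicit false
universe u
open CategoryTheory CategoryTheory.Limits AlgebraicGeometry
open Vanish

namespace Groth.Agent.S16901

/-- Let k be an algebraically closed field and X an integral proper k-scheme of dimension n with an
ample invertible O_X-module (a projective variety, not assumed non-singular), and let L be an
invertible O_X-module. The Iitaka dimension of L is n, in the growth form the text adopts as its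
working definition (for some ν > 0 there is a constant a > 0 with μ^n ≤ a · dim_k H^0(X, L^⊗νμ) for
all μ ≥ 1), if and only if for some ν > 0 there are an ample invertible module A and a monomorphism
A → L^⊗ν (that is, L^⊗ν(−C) is ample for some effective divisor C). -/
theorem result (k : Type u) [Field k] [IsAlgClosed k]
    (X : Scheme.{u}) [X.Over (Spec (CommRingCat.of k))] [IsIntegral X] [IsProper (X ↘ Spec (CommRingCat.of k))]
    (n : ℕ) (hn : topologicalKrullDim X = n) (H : X.Modules) (hH : CohB1.IsAmple H)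
    (L : X.Modules) (hL : PicF.IsInvertible L) :
    (∃ ν a : ℕ, 0 < ν ∧ 0 < a ∧ ∀ μ : ℕ, 1 ≤ μ →
        μ ^ n ≤ a * Module.finrank k (Coh.HH X (CohB1.tensorPow L (ν * μ)) 0)) ↔
      ∃ (ν : ℕ) (A : X.Modules) (φ : A ⟶ CohB1.tensorPow L ν), 0 < ν ∧ CohB1.IsAmple A ∧ Mono φ := by
  constructor
  · rintro ⟨ν, a, hν, ha, h⟩
    refine Groth.Agent.NefPos.big_of_hbig k hH hL hn.le fun C => ?_
    obtain ⟨μ, hμ⟩ : ∃ μ, μ = C * ν ^ n * a + 1 := ⟨_, rfl⟩
    have hμ0 : 1 ≤ μ := by omega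
    refine ⟨ν * μ, Nat.mul_pos hν (by omega), Nat.lt_of_mul_lt_mul_left (a := a) ?_⟩
    have h2 : μ ^ n ≤ a * Groth.Agent.BigVol.h0 k (CohB1.tensorPow L (ν * μ)) := h μ hμ0
    have hp : 0 < μ ^ n := Nat.pow_pos (by omega)
    calc a * (C * (ν * μ) ^ n) = (C * ν ^ n * a) * μ ^ n := by rw [Nat.mul_pow]; ring
      _ < (ν * μ) * μ ^ n := by
        refine Nat.mul_lt_mul_of_pos_right ?_ hp
        have := Nat.le_mul_of_pos_left μ hν
        omega
      _ ≤ (ν * μ) * (a * Groth.Agent.BigVol.h0 k (CohB1.tensorPow L (ν * μ))) := Nat.mul_le_mul_left _ h2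
      _ = a * (ν * μ * Groth.Agent.BigVol.h0 k (CohB1.tensorPow L (ν * μ))) := by ring
  · rintro ⟨ν, A, φ, hν, hA, hφ⟩
    obtain ⟨c, hc, m₁, hm⟩ := Groth.Agent.NefPos.growth_of_sub k hA hL hν ⟨φ, hφ⟩ hn
    obtain ⟨a, ha⟩ := exists_nat_gt (1 / c)
    refine ⟨m₁ + 1, a, by omega, ?_, fun μ hμ => ?_⟩
    · have : (0 : ℝ) < a := lt_trans (by positivity) ha
      exact_mod_cast this
    have h1 := hm ((m₁ + 1) * μ) ((Nat.le_succ m₁).trans (Nat.le_mul_of_pos_right _ (by omega)))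
    have h2 : ((μ : ℝ)) ^ n ≤ (((m₁ + 1) * μ : ℕ) : ℝ) ^ n :=
      pow_le_pow_left₀ (Nat.cast_nonneg _) (by exact_mod_cast Nat.le_mul_of_pos_left μ (by omega)) n
    have h3 : 1 ≤ (a : ℝ) * c := by
      rw [div_lt_iff₀ hc] at ha
      linarith
    have h4 : (μ : ℝ) ^ n ≤ (a : ℝ) * (Groth.Agent.BigVol.h0 k (CohB1.tensorPow L ((m₁ + 1) * μ)) : ℝ) := by
      calc (μ : ℝ) ^ n ≤ 1 * (((m₁ + 1) * μ : ℕ) : ℝ) ^ n := by rw [one_mul]; exact h2
        _ ≤ ((a : ℝ) * c) * (((m₁ + 1) * μ : ℕ) : ℝ) ^ n := mul_le_mul_of_nonneg_right h3 (by positivity)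
        _ ≤ _ := by
          rw [mul_assoc]
          exact mul_le_mul_of_nonneg_left h1 (Nat.cast_nonneg a)
    exact_mod_cast h4

end Groth.Agent.S16901
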