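import Groth.Statements.S16903
import Groth.Agent.NefPos.NonBig
import Groth.Agent.StrictSSLib.Component

set_option autoImplicit false
universe u
open CategoryTheory CategoryTheory.Limits AlgebraicGeometry
open Vanish

namespace Groth.Agent.S16903

/-- Let k be an algebraically closed field of characteristic zero and X an irreducible proper smooth
k-scheme of dimension n with an ample invertible O_X-module (a projective manifold); let L be a
numerically effective invertible O_X-module with tensor inverse L⁻¹ and m a natural number such that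
c_1(L)^m is numerically trivial, i.e. the intersection number (L^m · V) = ∫ c_1(L)^m [O_V] vanishes
for every integral closed subscheme V ⊆ X of dimension m. Then κ(L) < m, in the growth form: there
are no ν > 0 and a > 0 with μ^m ≤ a · dim_k H^0(X, L^⊗νμ) for all μ ≥ 1. (This expresses ν(L) ≥
κ(L); only the characteristic-zero case is stated.) -/
theorem result (k : Type u) [Field k] [IsAlgClosed k] [CharZero k]
    (X : Scheme.{u}) [X.Over (Spec (CommRingCat.of k))] [IsProper (X ↘ Spec (CommRingCat.of k))]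
    [Smooth (X ↘ Spec (CommRingCat.of k))] [IrreducibleSpace X] (n : ℕ) (hn : topologicalKrullDim X = n)
    (H : X.Modules) (hH : CohB1.IsAmple H) (L Linv : X.Modules) (hL : PicF.IsInvertible L) (hLinv : ClSub.IsInverseOf Linv L)
    (hnef : (∀ (Y : Scheme.{u}) (i : Y ⟶ X) [IsClosedImmersion i], IsIntegral Y → topologicalKrullDim Y = 1 →
      0 ≤ Pic13.curveDeg k (i ≫ (X ↘ Spec (CommRingCat.of k))) ((Scheme.Modules.pullback i).obj L)))
    (m : ℕ) (hm : (∀ (V : Scheme.{u}) (i : V ⟶ X) [IsClosedImmersion i], IsIntegral V → topologicalKrullDim V = (m : ℕ) →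
      FGA.intNum k X n (fun _ : Fin m => Linv) ((Scheme.Modules.pushforward i).obj (Coh.structureModule V)) = 0)) :
    ¬ (∃ ν a : ℕ, 0 < ν ∧ 0 < a ∧ ∀ μ : ℕ, 1 ≤ μ →
        μ ^ m ≤ a * Module.finrank k (Coh.HH X (CohB1.tensorPow L (ν * μ)) 0)) := by
  rintro ⟨ν, a, hν, ha, h⟩
  have hO := ProperFin.isCoh_structureModule X
  have e : CohB1.tensorMod L Linv ≅ Coh.structureModule X := ProjTwist.tensComm L Linv ≪≫ hLinv.some
  have hI : PicF.IsInvertible Linv := PicLaw.isInvertible_of_tensor_left hL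
    (PicCl.isInvertible_of_iso e.symm (LFFrame.isInvertible_structureModule X))
  have hzero : ∀ ξ : X, topologicalKrullDim ↥(closure ({ξ} : Set X)) = (m : WithBot ℕ∞) →
      NefPos.iC k (List.replicate m L) (Cyc.closureStructureSheaf ξ) = 0 := by
    intro ξ hξ
    have hF : Coh.IsCoh (Cyc.closureStructureSheaf ξ) := CohDev.isCoh_oz ξ
    obtain ⟨hdim, hint, -⟩ := NefPos.piece_eq k ξ hξ (l := List.replicate m L)
      (fun A hA => (List.eq_of_mem_replicate hA) ▸ hL) (List.length_replicate ..)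
    have h0 : FGA.intNum k X n (fun _ : Fin m => Linv) (Cyc.closureStructureSheaf ξ) = 0 :=
      hm _ (IntMult.ptIdeal ξ).subschemeι hint hdim
    rw [Snapper.intNum_eq k hn.le] at h0
    rw [← List.ofFn_const, ← NefPos.iC_ofFn k (fun _ => hL) hF, IntProd70.intC,
      IntProd70.intE_inverse k (fun _ => hL) (fun _ => hI) (fun _ => ⟨e⟩) hF
        ((CohDev.dim_mono (CohDev.support_oz_subset ξ)).trans hξ.le), h0, mul_zero, mul_zero]
  have hd : topologicalKrullDim ↥(CohB1.support (Coh.structureModule X)) < ((n + 1 : ℕ) : WithBot ℕ∞) :=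
    lt_of_le_of_lt (NefPos.dim_support_structure_le hn.le _) (by exact_mod_cast Nat.lt_succ_self n)
  haveI : IsReduced X := StrictSSLib.isReduced_of_smooth_field (X ↘ Spec (CommRingCat.of k))
  haveI : IsIntegral X := isIntegral_of_irreducibleSpace_of_isReduced X
  obtain ⟨r, hr⟩ := Filter.eventually_atTop.1 (NefPos.small_of_numDim_lt k hL m hH (NefPos.nef_of_curveDeg k hL hnef)
    hzero (n + 1) _ hO hd (1 / (2 * a * (ν : ℝ) ^ m)) (by positivity))
  have h1 := h (r + 1) (Nat.succ_pos r)
  have h2 := hr (ν * (r + 1)) ((Nat.le_succ r).trans (Nat.le_mul_of_pos_left _ hν))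
  have e2 : BigVol.h0 k (CohB1.tensorMod (Coh.structureModule X) (CohB1.tensorPow L (ν * (r + 1)))) =
      Module.finrank k (Coh.HH X (CohB1.tensorPow L (ν * (r + 1))) 0) :=
    ProjTwist.Pn.finrank_hh_iso (ProjTwist.oneTens _) 0
  rw [e2] at h2
  have h3 : ((r + 1 : ℕ) : ℝ) ^ m ≤ a * (1 / (2 * a * (ν : ℝ) ^ m) * ((ν * (r + 1) : ℕ) : ℝ) ^ m) :=
    le_trans (by exact_mod_cast h1) (mul_le_mul_of_nonneg_left h2 (Nat.cast_nonneg _))
  have h4 : (a : ℝ) * (1 / (2 * a * (ν : ℝ) ^ m) * ((ν * (r + 1) : ℕ) : ℝ) ^ m) = ((r + 1 : ℕ) : ℝ) ^ m / 2 := by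
    push_cast
    rw [mul_pow]
    field_simp
  have h5 : (0 : ℝ) < ((r + 1 : ℕ) : ℝ) ^ m := by positivity
  linarith

end Groth.Agent.S16903
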