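import Groth.Statements.S16904
import Groth.Agent.NefPos.SecRank
import Groth.Agent.HilbLoc.Normal
import Groth.Agent.StrictSSLib.Component

set_option autoImplicit false
universe u
open CategoryTheory CategoryTheory.Limits AlgebraicGeometry
open Vanish

namespace Groth.Agent.S16904

/-- Let k be an algebraically closed field of characteristic zero and X an irreducible proper smooth
k-scheme of dimension n with an ample invertible O_X-module (a projective manifold); let L be a
semi-ample invertible O_X-module (some L^⊗μ with μ > 0 is globally generated; such L is numerically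
effective) with tensor inverse L⁻¹. Then for every natural number m, c_1(L)^m is numerically trivial
— (L^m · V) = 0 for every integral closed subscheme V ⊆ X of dimension m — if and only if κ(L) < m
in the growth form: there are no ν > 0 and a > 0 with μ^m ≤ a · dim_k H^0(X, L^⊗νμ) for all μ ≥ 1.
(This expresses ν(L) = κ(L) for semi-ample L; characteristic zero only.) -/
theorem result (k : Type u) [Field k] [IsAlgClosed k] [CharZero k]
    (X : Scheme.{u}) [X.Over (Spec (CommRingCat.of k))] [IsProper (X ↘ Spec (CommRingCat.of k))]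
    [Smooth (X ↘ Spec (CommRingCat.of k))] [IrreducibleSpace X] (n : ℕ) (hn : topologicalKrullDim X = n)
    (H : X.Modules) (hH : CohB1.IsAmple H) (L Linv : X.Modules) (hL : PicF.IsInvertible L) (hLinv : ClSub.IsInverseOf Linv L)
    (hsa : ∃ μ : ℕ, 0 < μ ∧ Curv2.IsGloballyGenerated (CohB1.tensorPow L μ))
    (m : ℕ) :
    (∀ (V : Scheme.{u}) (i : V ⟶ X) [IsClosedImmersion i], IsIntegral V → topologicalKrullDim V = (m : ℕ) →
      FGA.intNum k X n (fun _ : Fin m => Linv) ((Scheme.Modules.pushforward i).obj (Coh.structureModule V)) = 0) ↔ ¬ (∃ ν a : ℕ, 0 < ν ∧ 0 < a ∧ ∀ μ : ℕ, 1 ≤ μ →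
        μ ^ m ≤ a * Module.finrank k (Coh.HH X (CohB1.tensorPow L (ν * μ)) 0)) := by
  haveI := EulerChar.isNoetherian k (X := X)
  have hO := ProperFin.isCoh_structureModule X
  have e : CohB1.tensorMod L Linv ≅ Coh.structureModule X := ProjTwist.tensComm L Linv ≪≫ hLinv.some
  have hI : PicF.IsInvertible Linv := PicLaw.isInvertible_of_tensor_left hL
    (PicCl.isInvertible_of_iso e.symm (LFFrame.isInvertible_structureModule X))
  have key : ∀ G : X.Modules, Coh.IsCoh G → topologicalKrullDim ↥(CohB1.support G) ≤ (m : WithBot ℕ∞) →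
      (FGA.intNum k X n (fun _ : Fin m => Linv) G = 0 ↔ NefPos.iC k (List.replicate m L) G = 0) := by
    intro G hG hd
    rw [Snapper.intNum_eq k hn.le, ← List.ofFn_const, ← NefPos.iC_ofFn k (fun _ => hL) hG, IntProd70.intC,
      IntProd70.intE_inverse k (fun _ => hL) (fun _ => hI) (fun _ => ⟨e⟩) hG hd, ← mul_assoc, mul_eq_zero]
    simp
  have hzero_iff : (∀ (V : Scheme.{u}) (i : V ⟶ X) [IsClosedImmersion i], IsIntegral V → topologicalKrullDim V = (m : ℕ) →
      FGA.intNum k X n (fun _ : Fin m => Linv) ((Scheme.Modules.pushforward i).obj (Coh.structureModule V)) = 0) ↔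
      ∀ ξ : X, topologicalKrullDim ↥(closure ({ξ} : Set X)) = (m : WithBot ℕ∞) →
        NefPos.iC k (List.replicate m L) (Cyc.closureStructureSheaf ξ) = 0 := by
    constructor
    · intro hm ξ hξ
      obtain ⟨hdim, hint, -⟩ := NefPos.piece_eq k ξ hξ (l := List.replicate m L)
        (fun A hA => (List.eq_of_mem_replicate hA) ▸ hL) (List.length_replicate ..)
      exact (key _ (CohDev.isCoh_oz ξ) ((CohDev.dim_mono (CohDev.support_oz_subset ξ)).trans hξ.le)).1
        (hm _ (IntMult.ptIdeal ξ).subschemeι hint hdim)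
    · intro hz V i _ _ hV
      have eV := HilbLoc.quotModIso i
      have hc : Coh.IsCoh ((Scheme.Modules.pushforward i).obj (Coh.structureModule V)) :=
        CohDev.isCoh_of_iso eV (EulerChar.isCoh_quotMod k i.ker)
      have hd : topologicalKrullDim
          ↥(CohB1.support ((Scheme.Modules.pushforward i).obj (Coh.structureModule V))) ≤ (m : WithBot ℕ∞) := by
        refine le_trans (CohDev.dim_mono ((CohDev.support_subset_of_epi eV.hom).trans
          (EulerChar.support_quotMod_subset i.ker))) (le_of_eq ?_)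
        rw [i.support_ker, i.isClosedEmbedding.isClosed_range.closure_eq,
          ← IsHomeomorph.topologicalKrullDim_eq _ i.isEmbedding.toHomeomorph.isHomeomorph, hV]
      exact (key _ hc hd).2 (NefPos.iC_eq_zero k hL m hz m le_rfl _ hc hd)
  rw [hzero_iff]
  obtain ⟨μ₀, hμ₀, hgg⟩ := hsa
  constructor
  · intro hzero
    rintro ⟨ν, a, hν, ha, h⟩
    have hd : topologicalKrullDim ↥(CohB1.support (Coh.structureModule X)) < ((n + 1 : ℕ) : WithBot ℕ∞) :=
      lt_of_le_of_lt (NefPos.dim_support_structure_le hn.le _) (by exact_mod_cast Nat.lt_succ_self n)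
    haveI : IsReduced X := StrictSSLib.isReduced_of_smooth_field (X ↘ Spec (CommRingCat.of k))
    haveI : IsIntegral X := isIntegral_of_irreducibleSpace_of_isReduced X
    obtain ⟨r, hr⟩ := Filter.eventually_atTop.1 (NefPos.small_of_numDim_lt k hL m hH
      (NefPos.SecRank.nef_of_semiample k hL hμ₀ hgg)
      hzero (n + 1) _ hO hd (1 / (2 * a * (ν : ℝ) ^ m)) (by positivity))
    have h1 := h (r + 1) (Nat.succ_pos r)
    have h2 := hr (ν * (r + 1)) ((Nat.le_succ r).trans (Nat.le_mul_of_pos_left _ hν))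
    have e2 : BigVol.h0 k (CohB1.tensorMod (Coh.structureModule X) (CohB1.tensorPow L (ν * (r + 1)))) =
        Module.finrank k (Coh.HH X (CohB1.tensorPow L (ν * (r + 1))) 0) :=
      ProjTwist.Pn.finrank_hh_iso (ProjTwist.oneTens _) 0
    rw [e2] at h2
    have h3 : ((r + 1 : ℕ) : ℝ) ^ m ≤ a * (1 / (2 * a * (ν : ℝ) ^ m) * ((ν * (r + 1) : ℕ) : ℝ) ^ m) :=
      le_trans (by exact_mod_cast h1) (mul_le_mul_of_nonneg_left h2 (Nat.cast_nonneg _))
    have h4 : (a : ℝ) * (1 / (2 * a * (ν : ℝ) ^ m) * ((ν * (r + 1) : ℕ) : ℝ) ^ m) = ((r + 1 : ℕ) : ℝ) ^ m / 2 := by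
      push_cast
      rw [mul_pow]
      field_simp
    have h5 : (0 : ℝ) < ((r + 1 : ℕ) : ℝ) ^ m := by positivity
    linarith
  · intro hgrow ξ hξ
    by_contra hne
    have hM := AmpleLib.isInvertible_tensorPow hL μ₀
    have hne' : NefPos.iC k (List.replicate m (CohB1.tensorPow L μ₀)) (Cyc.closureStructureSheaf ξ) ≠ 0 := by
      rw [NefPos.SecRank.iC_replicate_pow k hL μ₀ (CohDev.isCoh_oz ξ)
        ((CohDev.dim_mono (CohDev.support_oz_subset ξ)).trans hξ.le)]
      exact mul_ne_zero (pow_ne_zero _ (by exact_mod_cast hμ₀.ne')) hne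
    refine hgrow ⟨μ₀, m.factorial, hμ₀, m.factorial_pos, fun μ _ => ?_⟩
    rw [← ProjTwist.Pn.finrank_hh_iso (k := k) (BigVol.nonempty_pow_mul hL μ₀ μ).some 0]
    exact NefPos.SecRank.pow_le_factorial_mul_h0 k hM hgg hξ hne' μ

end Groth.Agent.S16904
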