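import Groth.Statements.S16908
import Groth.Agent.ResPropLib.QuotDiag
import Groth.Agent.StFib.DiagTransfer

set_option autoImplicit false
set_option linter.unusedVariables false
set_option backward.isDefEq.respectTransparency false
set_option backward.isDefEq.respectTransparency.types false
universe u
open CategoryTheory Limits AlgebraicGeometry

namespace Groth.Agent.S16908

open FibCat Groth.Agent.StFib MonoidalCategory CartesianMonoidalCategory

theorem isEquivOver_terminal (S : Scheme.{u}) :
    IsEquivOver (toSelf (AlgSt.ofSch (Over.mk (𝟙 S)))) := by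
  have huniq : ∀ {T : Over S} (a b : T ⟶ Over.mk (𝟙 S)), a = b := fun a b =>
    Over.OverMorphism.ext ((Category.comp_id _).symm.trans ((Over.w a).trans ((Over.w b).symm.trans (Category.comp_id _))))
  have : (toSelf (AlgSt.ofSch (Over.mk (𝟙 S)))).toFunctor.Faithful := ⟨fun h => Stk.EltObj.hom_ext h⟩
  have : (toSelf (AlgSt.ofSch (Over.mk (𝟙 S)))).toFunctor.Full :=
    ⟨fun {x y} g => ⟨⟨g, congrArg ULift.up (huniq _ _)⟩, rfl⟩⟩
  exact isEquivOver_mk _ fun T => ⟨⟨T, ⟨Over.homMk T.hom (Category.comp_id _)⟩⟩, Iso.refl _, Vert.id _⟩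

theorem isSeparated_of_affine {S : Scheme.{u}} {A : AlgSp.Sp S} {U : Over S} (a : A ⟶ (AlgSp.yon S).obj U)
    (h : AlgSp.IsAffineMor a) : AlgSp.IsAffineMor (pullback.diagonal a) := by
  obtain ⟨hr, hP⟩ := (Groth.Agent.AlgSp.isAffineMor_iff _).1 h
  have hiso : IsIso (hr.fst (𝟙 _)) := (hr.isPullback (𝟙 _)).isIso_fst_of_isIso
  let i := hr.snd (𝟙 ((AlgSp.yon S).obj U))
  have hi : IsAffineHom i.left := hP _ _ _ (hr.isPullback (𝟙 _))
  have w : hr.fst (𝟙 _) ≫ a = (AlgSp.yon S).map i := (hr.isPullback (𝟙 _)).w.trans (Category.comp_id _)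
  have h1 : AlgSp.IsSeparatedMor ((AlgSp.yon S).map i) := (AlgSp.isSeparatedMor_yon_map_iff i).2 inferInstance
  have ea : a = inv (hr.fst (𝟙 _)) ≫ (AlgSp.yon S).map i := by rw [← w, IsIso.inv_hom_id_assoc]
  have hA : AlgSp.IsAlgSpace A := (AlgSp.IsAlgSpace.yon_obj _).of_iso (asIso (hr.fst (𝟙 _)))
  have h2 : AlgSp.IsSeparatedMor a :=
    (good_separated (S := S)).bc (AlgSp.IsAlgSpace.yon_obj _) (AlgSp.IsAlgSpace.yon_obj _) hA
      (AlgSp.IsAlgSpace.yon_obj _) _ (𝟙 _) a (inv (hr.fst (𝟙 _)))
      (IsPullback.of_horiz_isIso ⟨by rw [Category.comp_id]; exact ea.symm⟩) h1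
  refine (Groth.Agent.AlgSp.isAffineMor_iff _).2 ⟨h2.1, fun _ _ _ _ snd hh => ?_⟩
  have : IsClosedImmersion snd.left := h2.2 _ _ _ hh
  exact (inferInstance : IsAffineHom snd.left)

open CategoryTheory Limits AlgebraicGeometry in
/-- Let `G` be a group scheme over a scheme `S`, affine, flat and locally of finite presentation over
`S`, acting on a scheme `X` quasi-compact and quasi-separated over `S`. Then the quotient stack
`[X/G]` (fppf `G`-torsors given as schemes with an equivariant morphism to `X`) has affine diagonal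
over `S` (its diagonal over `(Sch/S)` is representable by algebraic spaces and affine) if and only
if the diagonal morphism of `X` over `S` is affine. (The published statement is for an arbitrary
property of morphisms of stacks that is stable under base change and fppf local on the base, for a
quasi-compact quasi-separated algebraic stack `X` over `S` acted on by a separated, flat, finitely
presented group algebraic space; this is the instance for the property affine, with `X` and `G`
schemes over a scheme `S` and `G` affine, where the two implications of the published statement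
combine into an equivalence because the diagonal of an affine morphism is affine.) -/
theorem result (S : Scheme.{u}) (G : Over S) [GrpObj G]
    [IsAffineHom G.hom] [Flat G.hom] [LocallyOfFinitePresentation G.hom]
    (X : Over S) [QuasiCompact X.hom] [QuasiSeparated X.hom] (aX : AlgGrp.Action G X) :
    AlgSt.RepByAlgSpWith AlgSp.IsAffineMor
        (FibCat.diag (FibCat.toSelf (AlgSt.QuotSt Scheme.fppfPrecoverage G aX))) ↔
      IsAffineHom (pullback.diagonal X.hom) := by
  refine ⟨fun hd => ?_, fun hX => ResPropLib.quot_diag_affine aX hX⟩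
  have hq : AlgSt.RepByAlgSpWith AlgSp.IsAffineMor
      (diag (AlgSt.quotMap Scheme.fppfPrecoverage G aX)) :=
    diag_of_rep_mem good_affine.bc (fun A U _ a ha => isSeparated_of_affine a ha)
      (QuotBr.repByAlgSpWith_quotMap (aX := aX) good_affine.bc QuotBr.fppfLocal_affine QuotBr.isAffineMor_hom)
  have hcomp := diag_comp_mem good_affine (Stk.isFibGrpd_ofPsh _) (QuotBr.isStack_of_affine (aX := aX)).1 hq hd
  let t : X ⟶ Over.mk (𝟙 S) := Over.homMk X.hom (Category.comp_id _)
  let a := (AlgSp.yon S).map t
  have h1 : AlgSt.RepByAlgSpWith AlgSp.IsAffineMor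
      (diag (BasedFunctor.comp (AlgSt.ofSpMap a) (toSelf (AlgSt.ofSch (Over.mk (𝟙 S)))))) :=
    repByAlgSpWith_diag_of_iso _ (Iso.refl _) hcomp
  have h2 := (diag_ofSpMap_iff _ a).1 ((diag_iff_of_equiv_target _ (AlgSt.ofSpMap a) _
    (isEquivOver_terminal S)).2 h1)
  have hX := AlgSp.IsAlgSpace.yon_obj X
  have h3 : AlgSp.IsAffineMor (pullback.diagonal a) := mem_of_repByAlgSpWith_ofSpMap good_affine.bc good_affine.det
    hX (Groth.Agent.AlgSp.isAlgSpace_pullback (AlgSp.IsAlgSpace.yon_obj _) hX hX a a) _ h2
  have h4 : AlgSp.RepWith @IsAffineHom (pullback.diagonal a) := (Groth.Agent.AlgSp.isAffineMor_iff _).1 h3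
  have h5 := (AlgSp.repWith_diagonal_yon_map_iff @IsAffineHom t).1 h4
  exact h5

end Groth.Agent.S16908
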