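import Groth.Statements.S4408
import Groth.Agent.AmpleLib.Ideal
import Groth.Agent.S2336

set_option autoImplicit false
set_option linter.style.haveILetI false
universe u
open CategoryTheory CategoryTheory.Limits AlgebraicGeometry
open EGA2

namespace Groth.Agent.S4408

/-- (e') ⇒ (a): let X be a quasi-compact separated scheme such that every quasi-coherent submodule of
finite type of O_X is generated by its global sections. Then X is quasi-affine. (The published
statement also allows X to be a scheme whose underlying space is Noetherian; this row assumes it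
quasi-compact and separated.) -/
theorem result (X : Scheme.{u}) [CompactSpace X] [X.IsSeparated]
    (h : ∀ (J : X.Modules) (i : J ⟶ Coh.structureModule X), Mono i → Coh.IsQCoh J → CohB1.IsFT J →
      Curv2.IsGloballyGenerated J) :
    X.IsQuasiAffine := by
  refine (S2336.result X).mpr (AmpleLib.isAmple_of_ideals
    (LFFrame.isInvertible_structureModule X) fun I hI x hx => ?_)
  obtain ⟨ι, p, hp⟩ := h (ClSub.idealMod I) (ClSub.idealModι I)
    (show Mono (kernel.ι (ClSub.toSubscheme I)) from inferInstance)
    (AmpleLib.isQCoh_idealMod I) (AmpleLib.isFT_idealMod hI)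
  let e : CohB1.tensorMod (ClSub.idealMod I) (CohB1.tensorPow (Coh.structureModule X) 1) ≅
      ClSub.idealMod I :=
    PicGrp.tensorModIso (Iso.refl _) (SecTwist.unitorR (Coh.structureModule X)) ≪≫
      SecTwist.unitorR (ClSub.idealMod I)
  let q : (∐ fun _ : ι => Coh.structureModule X) ⟶
      CohB1.tensorMod (ClSub.idealMod I) (CohB1.tensorPow (Coh.structureModule X) 1) := p ≫ e.inv
  haveI : Epi p := hp
  haveI : Epi q := epi_comp p e.inv
  exact ⟨0, AmpleLib.exists_locus_of_ideal (LFFrame.isInvertible_structureModule X) I q hx⟩

end Groth.Agent.S4408
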