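import Groth.Statements.S16909
import Groth.Agent.S4408

set_option autoImplicit false
set_option backward.isDefEq.respectTransparency false
universe u
open CategoryTheory CategoryTheory.Limits AlgebraicGeometry
open ResProp

namespace Groth.Agent.S16909

/-- Let `X` be a quasi-compact and quasi-separated scheme on which every quasi-coherent module is
globally generated (a quotient of a free module on some index type, i.e. the structure sheaf is a
generating family). Then `X` is quasi-affine. No separatedness hypothesis is made; it follows. (The
published statement is for an algebraic stack over an algebraic space with affine stabilizer groups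
at closed points and concludes that it is representable by a quasi-affine morphism; that general
case rests on results outside this text, and this row is the final step of its proof, the case of a
scheme.) -/
theorem result (X : Scheme.{u}) [CompactSpace X]
    [QuasiSeparatedSpace X] (h : ∀ M : X.Modules, Coh.IsQCoh M → Curv2.IsGloballyGenerated M) :
    X.IsQuasiAffine := by
  refine Scheme.IsQuasiAffine.of_forall_exists_mem_basicOpen X fun x => ?_
  obtain ⟨W, hW, hxW, -⟩ := exists_isAffineOpen_mem_and_subset (X := X) (x := x) (U := ⊤) trivial
  obtain ⟨I, hI, hsupp⟩ := Groth.Agent.Props.SubIdeal.exists_ideal W hW.isCompact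
  have hx : x ∉ (I.support : Set X) := by rw [hsupp]; exact not_not_intro hxW
  obtain ⟨ι, p, hp⟩ := h (ClSub.idealMod I) (Groth.Agent.AmpleLib.isQCoh_idealMod I)
  let e : CohB1.tensorMod (ClSub.idealMod I) (CohB1.tensorPow (Coh.structureModule X) 1) ≅
      ClSub.idealMod I :=
    _root_.PicGrp.tensorModIso (Iso.refl _) (SecTwist.unitorR (Coh.structureModule X)) ≪≫
      SecTwist.unitorR (ClSub.idealMod I)
  let q : (∐ fun _ : ι => Coh.structureModule X) ⟶
      CohB1.tensorMod (ClSub.idealMod I) (CohB1.tensorPow (Coh.structureModule X) 1) := p ≫ e.inv
  have : Epi p := hp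
  have : Epi q := epi_comp p e.inv
  obtain ⟨t, hxt, hd⟩ := Groth.Agent.AmpleLib.exists_locus_of_ideal
    (Groth.Agent.LFFrame.isInvertible_structureModule X) I q hx
  have haff : IsAffineOpen (CohB1.genLocus _ t) :=
    Groth.Agent.AmpleLib.isAffineOpen_genLocus_of_le
      (Groth.Agent.AmpleLib.isInvertible_tensorPow (Groth.Agent.LFFrame.isInvertible_structureModule X) _) t hW
      fun y hy => by
        by_contra hyW
        exact Set.disjoint_left.mp hd (hsupp ▸ hyW) hy
  obtain ⟨f, hf⟩ := Groth.Agent.Props.AmpleFrames.exists_fun_of_hom t
  exact ⟨f, hf ▸ haff, hf ▸ hxt⟩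

end Groth.Agent.S16909
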