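import Groth.Statements.S16910
import Groth.Agent.ResPropLib.DiagFpqc
import Groth.Agent.S10533
import Groth.Agent.CartDiv.AffineDimOne
import Groth.Agent.DimIneq.Basic

set_option autoImplicit false
set_option backward.isDefEq.respectTransparency false
universe u
open CategoryTheory CategoryTheory.Limits AlgebraicGeometry
open ResProp

namespace Groth.Agent.S16910

/-- Let `𝒳` be an algebraic stack over `S` (fppf topology; diagonal representable, separated and
quasi-compact, the text's standing convention) admitting a morphism `u : U → 𝒳` from a Noetherian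
scheme `U` of Krull dimension at most one all of whose local rings are regular, with `u`
representable by algebraic spaces, affine, flat and surjective. Then the diagonal of `𝒳` over
`(Sch/S)` is representable by algebraic spaces and affine. -/
theorem result (S : Scheme.{u}) (𝒳 : AlgSt.Cat S)
    (h𝒳 : AlgSt.IsAlgStack Scheme.fppfPrecoverage 𝒳)
    (hΔ : AlgSt.RepByAlgSpWith (AlgSp.IsSeparatedMor ⊓ AlgSp.IsQuasiCompactMor) (FibCat.diag (FibCat.toSelf 𝒳)))
    (U : Over S) [IsNoetherian U.left] (hreg : ∀ x : U.left, IsRegularLocalRing (U.left.presheaf.stalk x))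
    (hdim : topologicalKrullDim U.left ≤ 1) (u : FibCat.overCat U ⥤ᵇ 𝒳)
    (hua : AlgSt.RepByAlgSpWith AlgSp.IsAffineMor u) (huf : AlgSt.RepByAlgSpWith (AlgSp.LocP @Flat) u)
    (hus : AlgSt.RepByAlgSpWith AlgSp.IsSurjectiveMor u) :
    AlgSt.RepByAlgSpWith AlgSp.IsAffineMor (FibCat.diag (FibCat.toSelf 𝒳)) := by
  refine Groth.Agent.ResPropLib.diag_affine_of_affine_chart (Groth.Agent.S10533.result S) h𝒳.isStack.1
    (Groth.Agent.StFib.repByAlgSp1_of_with hΔ) ?_ huf hus hua
  rw [isAffineHom_diagonal_iff]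
  intro W _ V₁ _ V₂ _ hV₁ hV₂
  have : IsAffine (V₁ : Scheme.{u}) := hV₁
  let O : (V₁ : Scheme.{u}).Opens := V₁.ι ⁻¹ᵁ V₂
  have : TopologicalSpace.NoetherianSpace ↥(V₁ : Scheme.{u}) :=
    V₁.ι.isOpenEmbedding.toIsInducing.noetherianSpace
  have hO : IsAffineOpen O := by
    refine Groth.Agent.CartDiv.AffineDimOne.isAffineOpen _ (fun y => ⟨inferInstance, ?_⟩) O
      (TopologicalSpace.NoetherianSpace.isCompact _)
    have h1 : topologicalKrullDim (V₁ : Scheme.{u}) ≤ 1 :=
      (V₁.ι.isOpenEmbedding.toIsInducing.topologicalKrullDim_le).trans hdim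
    rw [Groth.Agent.DimIneq.topologicalKrullDim_eq_iSup_stalk] at h1
    exact (le_iSup (fun z : (V₁ : Scheme.{u}) => ringKrullDim ((V₁ : Scheme.{u}).presheaf.stalk z)) y).trans h1
  rw [← Scheme.Hom.isAffineOpen_iff_of_isOpenImmersion V₁.ι, Scheme.Hom.image_preimage_eq_opensRange_inf,
    Scheme.Opens.opensRange_ι] at hO
  exact hO

end Groth.Agent.S16910
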