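import Groth.Statements.S16913
import Groth.Agent.StPush.Adj
import Groth.Agent.StPush.Comp
import Groth.Agent.StPush.PresExist
import Groth.Agent.StPush.AffTerm
import Groth.Agent.StPush.FullEquiv
import Groth.Agent.StPush.FinEpi
import Groth.Agent.StPush.OfSch
import Groth.Agent.ResPropLib.QuotDiag
import Groth.Agent.StFib.BGAtlas.FreeQuot
import Groth.Agent.StFib.QC2
import Groth.Agent.StModLib.FinDesc

set_option autoImplicit false
set_option linter.style.haveILetI false
set_option linter.unusedVariables false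
set_option backward.isDefEq.respectTransparency false
set_option backward.isDefEq.respectTransparency.types false
universe u
open CategoryTheory CategoryTheory.Limits AlgebraicGeometry MonoidalCategory
open ResProp

namespace Groth.Agent.S16913

open Opposite FibCat Groth.Agent.StGen Groth.Agent.StDesc Groth.Agent.StPush

theorem isGenFam_iso {S : Scheme.{u}} {𝒳 : AlgSt.Cat S} {ι : Type*} {E E' : ι → StMod.QCoh 𝒳}
    (e : ∀ i, (E i).obj ≅ (E' i).obj) (h : StMod.IsGenFam E) : StMod.IsGenFam E' := by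
  rw [StMod.isGenFam_iff] at h ⊢
  intro M N v hv
  refine h v fun i φ => ?_
  rw [← cancel_epi (e i).inv, comp_zero, ← Category.assoc]
  exact hv i ((e i).inv ≫ φ)

variable {S : Scheme.{u}}

/-- Quasi-affine morphisms are quasi-compact and quasi-separated. -/
theorem qaff_qcqs {F G : AlgSp.Sp S} (hF : AlgSp.IsAlgSpace F) (hG : AlgSp.IsAlgSpace G) (f : F ⟶ G)
    (h : AlgSp.IsQuasiAffineMor f) : (AlgSp.IsQuasiCompactMor ⊓ AlgSp.IsQuasiSeparatedMor) f := by
  refine ⟨Groth.Agent.AlgSp.isQuasiCompactMor_of_affine hF hG f fun Z hZ g P fst snd sq => ?_,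
    Groth.Agent.AlgSp.repWith_diagonal_of_affine hF fun Z hZ g Q fst snd sq => ?_⟩
  · obtain ⟨W, i, fst', sW, hW⟩ := h hZ g
    haveI := hW
    haveI : CompactSpace (AlgSp.Points ((AlgSp.yon S).obj W)) := Groth.Agent.AlgSp.compactSpace_yon W
    let e := sW.isoIsPullback _ _ sq
    exact Groth.Agent.AlgSp.compactSpace_of_surjective e.hom fun x => ⟨AlgSp.Points.map e.inv x, by
      rw [← AlgSp.Points.map_comp, Iso.inv_hom_id]
      exact AlgSp.Points.map_id x⟩
  · obtain ⟨W, i, fst', sW, hW⟩ := h hZ g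
    haveI := hW
    haveI : IsAffine Z.left := hZ
    haveI : QuasiSeparated i.left := inferInstance
    exact Groth.Agent.AlgSp.repWith_diagonal_baseChange (p := 𝟙 _) (fst := (sq.isoIsPullback _ _ sW).hom)
      (snd := snd) (IsPullback.of_horiz_isIso ⟨by simp⟩)
      ((AlgSp.isQuasiSeparatedMor_yon_map_iff i).2 inferInstance)

variable {𝒳 : AlgSt.Cat S}

/-- The category over the terminal object is the category itself. -/
theorem fullEquiv_fibFst_top (h𝒳 : IsFibGrpd 𝒳.p) (f : 𝒳 ⥤ᵇ selfOver (C := Over S)) :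
    FullEquiv (StMod.fibFst f (Over.mk (𝟙 S))) := by
  refine ⟨isFibGrpd_fibCat f h𝒳 _, h𝒳, fun {o o'} b => ⟨CostructuredArrow.homMk b
    (Over.mkIdTerminal.hom_ext _ _), rfl⟩, fun {o o'} a a' h => CostructuredArrow.hom_ext _ _ h, fun z => ?_⟩
  exact ⟨CostructuredArrow.mk (Y := z) (Over.mkIdTerminal.from (f.obj z)), 𝟙 z, rfl, 𝒳.p.map_id z⟩

/-- Over an affine base scheme `S`, let `G` be a group scheme over `S`, affine, flat and locally of
finite presentation over `S`, and `X` a scheme quasi-compact and quasi-separated over `S` with an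
action of `G`. If the quotient stack `[X/G]` (fppf `G`-torsors given as schemes, with an equivariant
map to `X`) has the resolution property — its locally free quasi-coherent modules of finite type
form a generating family: two morphisms of quasi-coherent modules `M ⟶ N` on `[X/G]` that agree
after composition with every morphism from such a module into `M` are equal — then the scheme `X`
has the resolution property: every quasi-coherent module of finite type on `X` is a quotient of a
finite locally free module. (The published statement is over an algebraic stack `S` with `G → S`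
quasi-affine and concerns the resolution property relative to `S`; over an affine base the relative
notion is the absolute one, and `G` is taken affine here.) -/
theorem result (S : Scheme.{u}) [IsAffine S]
    (G : Over S) [GrpObj G] [IsAffineHom G.hom] [Flat G.hom] [LocallyOfFinitePresentation G.hom]
    (X : Over S) [QuasiCompact X.hom] [QuasiSeparated X.hom] (aX : AlgGrp.Action G X)
    (h : ∀ (M N : StMod.QCoh (AlgSt.QuotSt Scheme.fppfPrecoverage G aX)) (a b : M ⟶ N),
      (∀ E : StMod.QCoh (AlgSt.QuotSt Scheme.fppfPrecoverage G aX),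
        E.obj.IsLocFree → E.obj.IsFinType → ∀ φ : E ⟶ M, φ ≫ a = φ ≫ b) → a = b) :
    PerfAux.HasResolutionProperty X.left := by
  -- the stack
  let 𝒬 := AlgSt.QuotSt Scheme.fppfPrecoverage G aX
  have h𝒬 : AlgSt.IsAlgStack Scheme.fppfPrecoverage 𝒬 := StFib.BGAtlas.isAlgStack_quotSt aX
  have h𝒳 := StFib.isAlgStack_ofSp (F := (AlgSp.yon S).obj X) (AlgSp.IsAlgSpace.yon_obj X)
  haveI : CompactSpace X.left := QuasiCompact.compactSpace_of_compactSpace X.hom
  have hc : AlgSt.IsQuasiCompact 𝒬 := by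
    have hT := StFib.isAlgStack_overCat X
    have h2 := StFib.QuotBr.repByAlgSpWith_quotMap' (aX := aX) StFib.good_surjective.bc
      StFib.SliceDM.fppfLocal_surjective StFib.SpTors.surjective_hom
    exact StFib.isQuasiCompact_of_surjective hT h𝒬
      ((StFib.isSurjective_iff_rep hT h𝒬 (StFib.repByAlgSp1_of_with h2)).2 h2) (StFib.isQuasiCompact_overCat X)
  let g := toSelf 𝒬
  have hgqc := StFib.isQuasiCompactMor_toSelf h𝒬 hc
  have hgqs : AlgSt.IsQuasiSeparatedMor g :=
    StFib.repByAlgSpWith_mono (ResPropLib.quot_diag_quasiAffine aX)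
      fun F V m hm => qaff_qcqs F.property (AlgSp.IsAlgSpace.yon_obj V) m hm
  let η : (selfOver (C := Over S)).obj := Over.mk (𝟙 S)
  have hη : IsAffine (StMod.sch (selfOver (C := Over S)) η) := ‹IsAffine S›
  let q := AlgSt.quotMap Scheme.fppfPrecoverage G aX
  have hqa : AlgSt.RepByAlgSpWith AlgSp.IsAffineMor q :=
    StFib.QuotBr.repByAlgSpWith_quotMap StFib.good_affine.bc StFib.QuotBr.fppfLocal_affine
      StFib.QuotBr.isAffineMor_hom
  obtain ⟨R⟩ := exists_pres h𝒬 StFib.isAlgStack_selfOver g hgqc hgqs η hη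
  obtain ⟨A⟩ := exists_affTerm h𝒬.isStack.1 q hqa R.x₀.left R.aff₀
  obtain ⟨C⟩ := A.finCover
  obtain ⟨C₀⟩ := finCover_compPi (g := g) (ξ := η) (y := R.x₀) C
  have hfib := h𝒳.isStack.1
  have hO0 : StMod.IsGenFam fun _ : PUnit.{u + 1} =>
      (StMod.comapQ (StMod.fibFst q R.x₀.left)).obj (StMod.OQ (AlgSt.ofSch X)) :=
    isGenFam_iso (fun _ => (StMod.comapOIso (StMod.fibFst q R.x₀.left)).symm)
      (A.isGenFam_OQ (isFibGrpd_fibCat q hfib R.x₀.left))
  have hO : StMod.IsGenFam fun _ : PUnit.{u + 1} => StMod.OQ (StMod.fibCat (compPi q g η) R.x₀) :=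
    isGenFam_iso (fun _ => (StMod.comapFunctor _).mapIso (StMod.comapOIso (StMod.fibFst (BasedFunctor.comp q g) η)) ≪≫
      StMod.comapOIso (StMod.fibFst (compPi q g η) R.x₀))
      (isGenFam_compPi (g := g) (ξ := η) (y := R.x₀) hfib (fun _ : PUnit.{u + 1} => StMod.OQ (AlgSt.ofSch X)) hO0)
  let ι := {E : StMod.QCoh 𝒬 // E.obj.IsLocFree ∧ E.obj.IsFinType}
  have hF : StMod.IsGenFam fun i : ι => i.1 := by
    rw [StMod.isGenFam_iff]
    intro M N v hv
    exact h M N v 0 fun E hE hE' φ =>
      InducedCategory.hom_ext ((hv ⟨E, hE, hE'⟩ φ.hom).trans (by simp))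
  have L₁ := fullEquiv_fibFst_top h𝒬.isStack.1 g
  have L₂ := fullEquiv_fibFst_top hfib (BasedFunctor.comp q g)
  have hgen := isGenFam_comap_of_O (π := compPi q g η) (isFibGrpd_fibCat (BasedFunctor.comp q g) hfib η)
    (isFibGrpd_fibCat g h𝒬.isStack.1 η) R C₀ _ hO (isGenFam_src L₁.locEquiv L₁.invariant _ hF)
  have hgenX : StMod.IsGenFam fun i : ι => (StMod.comapQ q).obj i.1 := by
    refine isGenFam_of_locEquiv L₂.locEquiv _ _ (fun i => ?_) hgen
    exact (StMod.comapCompIso q (StMod.fibFst (BasedFunctor.comp q g) η) i.1.obj).symm ≪≫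
      eqToIso (congrArg (fun F => StMod.Mod.comap F i.1.obj)
        (show BasedFunctor.comp (StMod.fibFst (BasedFunctor.comp q g) η) q =
          BasedFunctor.comp (compPi q g η) (StMod.fibFst g η) from rfl)) ≪≫
      StMod.comapCompIso (StMod.fibFst g η) (compPi q g η) i.1.obj
  -- the scheme
  intro M hM hM'
  let o₀ : (AlgSt.ofSch X).obj := ⟨X, ⟨𝟙 X⟩⟩
  have ecomp : (Scheme.Modules.pullback (OfSch.toX o₀)).obj M ≅ M := (Scheme.Modules.pullbackId X.left).app M
  suffices hdet : ∀ (Q : X.left.Modules) (u : M ⟶ Q), Coh.IsQCoh Q →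
      (∀ (E : X.left.Modules) (f : E ⟶ M), FlatMod.IsFinLocFree E ∧ Coh.IsCoh E → f ≫ u = 0) → u = 0 by
    obtain ⟨k, E, fs, hP, hepi⟩ := FinEpi.exists_fin_epi (G := M) ⟨hM, hM'⟩
      (fun E _ => FlatMod.IsFinLocFree E ∧ Coh.IsCoh E) (fun E f h => h.2) hdet
    exact ⟨∐ E, Sigma.desc fs, KFlat.TensorLocFree.isFinLocFree_sigma E Finset.univ
      (fun i hi => absurd (Finset.mem_univ i) hi) (fun j => (hP j).1), hepi⟩
  intro Q u hQ hu
  let M' : StMod.QCoh (AlgSt.ofSch X) := ⟨OfSch.mod M, OfSch.isQCoh_mod M hM⟩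
  let Q' : StMod.QCoh (AlgSt.ofSch X) := ⟨OfSch.mod Q, OfSch.isQCoh_mod Q hQ⟩
  let v : M' ⟶ Q' := ObjectProperty.homMk (OfSch.map M u)
  have hnat := (Scheme.Modules.pullbackId X.left).hom.naturality u
  have hv : v = 0 := by
    refine (StMod.isGenFam_iff _).1 hgenX v fun i φ => ?_
    refine StPush.hom_ext_cover ((StMod.comapQ q).obj i.1).property.1 Q'.property.1 (x₀ := o₀)
      (fun z t => ⟨z, 𝟙 z, ⟨z.sec.down, ULift.ext _ _ (Category.comp_id z.sec.down)⟩,
        by rw [StMod.bmap_id]; infer_instance, by rw [StMod.bmap_id]; infer_instance,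
        ⟨t, by rw [StMod.bmap_id]; rfl⟩⟩) _ _ ?_
    let E₀ := ((StMod.comapQ q).obj i.1).obj.obj o₀
    have key : ∀ {A T : Scheme.{u}} (h : A = T) (N : A.Modules),
        SheafOfModules.IsLocallyFree (R := A.ringCatSheaf) N → SheafOfModules.IsFiniteType (R := A.ringCatSheaf) N →
          SheafOfModules.IsLocallyFree (R := T.ringCatSheaf) (StMod.castMod h N) ∧
          SheafOfModules.IsFiniteType (R := T.ringCatSheaf) (StMod.castMod h N) := by
      intro A T h N h1 h2; subst h; exact ⟨h1, h2⟩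
    obtain ⟨hl, hft⟩ : SheafOfModules.IsLocallyFree (R := X.left.ringCatSheaf) E₀ ∧
        SheafOfModules.IsFiniteType (R := X.left.ringCatSheaf) E₀ :=
      key (StMod.sch_obj_eq q o₀) (i.1.obj.obj (q.obj o₀)) (i.2.1 _) (i.2.2 _)
    haveI := hft
    haveI : SheafOfModules.IsQuasicoherent (R := X.left.ringCatSheaf) E₀ := ((StMod.comapQ q).obj i.1).property.2 o₀
    let φ₀ : E₀ ⟶ (Scheme.Modules.pullback (OfSch.toX o₀)).obj M := φ.app o₀
    have h0 := hu E₀ (φ₀ ≫ (Scheme.Modules.pullbackId X.left).hom.app M)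
      ⟨StModLib.isFinLocFree_of_isLocallyFree E₀ hl, inferInstance, hft⟩
    show φ₀ ≫ (Scheme.Modules.pullback (𝟙 X.left)).map u = 0
    rw [← cancel_mono ((Scheme.Modules.pullbackId X.left).hom.app Q), Category.assoc, zero_comp, hnat,
      ← Category.assoc]
    exact h0
  have h1 : (Scheme.Modules.pullback (𝟙 X.left)).map u = 0 :=
    congrArg (fun m : M' ⟶ Q' => m.hom.app o₀) hv
  have h2 : (Scheme.Modules.pullback (𝟙 X.left)).map u ≫ (Scheme.Modules.pullbackId X.left).hom.app Q =
      (Scheme.Modules.pullbackId X.left).hom.app M ≫ u := hnat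
  rw [h1, zero_comp] at h2
  exact (cancel_epi ((Scheme.Modules.pullbackId X.left).hom.app M)).1 (h2.symm.trans (comp_zero).symm)

end Groth.Agent.S16913
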