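import Groth.Statements.S16914
import Groth.Agent.StFib.TrivialAut
import Groth.Agent.StFib.StackSpace
import Groth.Agent.StFib.DiagConv
import Groth.Agent.StFib.QC
import Groth.Agent.ThetaStack.Sep

set_option autoImplicit false
set_option linter.unusedVariables false
set_option backward.isDefEq.respectTransparency false
set_option backward.isDefEq.respectTransparency.types false
universe u
open CategoryTheory Limits AlgebraicGeometry

namespace Groth.Agent.S16914

open FibCat Groth.Agent.StFib Groth.Agent.ThetaStack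

/-- Vertical endomorphisms which become trivial after a scheme-theoretically dominant pullback are trivial. -/
theorem eq_id_of_pullback {S : Scheme.{u}} {𝒳 : AlgSt.Cat S} (h : IsFibGrpd 𝒳.p)
    (hdd : AlgSt.IsClosedImm (diag (diag (toSelf 𝒳)))) {a b : 𝒳.obj} (μ : b ⟶ a)
    (hj : IsSchemeTheoreticallyDominant (𝒳.p.map μ).left) (φ : a ⟶ a) (hφ : Vert φ)
    (hμ : μ ≫ φ = μ) : φ = 𝟙 a := by
  let f := diag (toSelf 𝒳)
  have hF : IsFibGrpd (fp (toSelf 𝒳) (toSelf 𝒳)).p :=
    isFibGrpd_fp h h isAlgStack_selfOver.isStack.1 (toSelf 𝒳) (toSelf 𝒳)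
  have hp : 𝒳.p.map φ = 𝟙 _ := by
    obtain ⟨e, he⟩ := hφ
    rw [he, eqToHom_refl]
  let t : f.obj a ⟶ f.obj a := StFib.fpHom (𝟙 a) φ (by
    change (toSelf 𝒳).map (𝟙 a) ≫ 𝟙 _ = 𝟙 _ ≫ (toSelf 𝒳).map φ
    rw [Category.comp_id, Category.id_comp, CategoryTheory.Functor.map_id]
    exact hp.symm)
  let P : Pair (BasedFunctor.id (fp (toSelf 𝒳) (toSelf 𝒳))) f (f.obj a) := ⟨a, 𝟙 _, Vert.id _⟩
  let P' : Pair (BasedFunctor.id (fp (toSelf 𝒳) (toSelf 𝒳))) f (f.obj a) := ⟨a, t, vert_fp_iff.2 (Vert.id _)⟩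
  let R : Pair (BasedFunctor.id (fp (toSelf 𝒳) (toSelf 𝒳))) f (f.obj b) := ⟨b, 𝟙 _, Vert.id _⟩
  obtain ⟨ψ, hψ⟩ := rel_of_rel_schDom h hF hdd P P' (f.map μ) hj R
    ⟨μ, (Category.id_comp _).trans (Category.comp_id _).symm⟩
    ⟨μ, (Category.id_comp _).trans (fp_hom_ext
      (show μ = μ ≫ 𝟙 a from (Category.comp_id μ).symm) (show μ = μ ≫ φ from hμ.symm))⟩
  rw [CategoryTheory.Functor.map_id, Category.id_comp] at hψ
  have h1 : ψ = 𝟙 a := (congrArg (fun z => z.hom.fst) hψ).trans (Category.id_comp _)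
  have h2 : ψ = φ := (congrArg (fun z => z.hom.snd) hψ).trans (Category.id_comp _)
  exact h2.symm.trans h1

open CategoryTheory Limits AlgebraicGeometry in
/-- Let `𝒳` be an algebraic stack over `S` (fppf topology) whose diagonal is representable by algebraic
spaces, separated and quasi-compact. Then `𝒳` is representable by an algebraic space over `S` if and
only if its stabilizer groups vanish at all geometric points: whenever `x` is an object of `𝒳` whose
scheme is the spectrum of an algebraically closed field, `ξ` an object with a morphism to `x` (a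
pullback of `x` to some scheme) and `σ` an endomorphism of `ξ` lying over the identity, `σ` is the
identity. -/
theorem result (S : Scheme.{u}) (𝒳 : AlgSt.Cat S)
    (h𝒳 : AlgSt.IsAlgStack Scheme.fppfPrecoverage 𝒳)
    (hΔ : AlgSt.RepByAlgSpWith (AlgSp.IsSeparatedMor ⊓ AlgSp.IsQuasiCompactMor) (FibCat.diag (FibCat.toSelf 𝒳))) :
    AlgSt.RepByAlgSp 𝒳 ↔
      ∀ (k : Type u) [Field k] [IsAlgClosed k] (x : 𝒳.obj) (e : (𝒳.p.obj x).left ≅ Spec (CommRingCat.of k))
        (ξ : 𝒳.obj) (φ : ξ ⟶ x) (σ : ξ ⟶ ξ), 𝒳.p.map σ = 𝟙 (𝒳.p.obj ξ) → σ = 𝟙 ξ := by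
  constructor
  · intro hr k _ _ x e ξ φ σ hσ
    exact vert_unique_of_isFibSetoid (isFibSetoid_of_repByAlgSp hr) ⟨rfl, by rw [hσ, eqToHom_refl]⟩ (Vert.id ξ)
  · intro H
    have hdd : AlgSt.IsClosedImm (diag (diag (toSelf 𝒳))) :=
      ((tfae_separated (repByAlgSp1_of_with hΔ)).out 0 1).1 (repByAlgSpWith_mono hΔ fun _ _ _ hh => hh.1)
    refine (isFibSetoid_iff_repByAlgSp etJ_le_fppf h𝒳).1
      (isFibSetoid_of_trivialAut h𝒳 isAlgStack_selfOver ?_)
    intro K _ X₀ hX₀ x T φ hφ _
    obtain ⟨l, r, s⟩ := X₀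
    obtain ⟨⟨⟩⟩ := r
    cases hX₀
    let Kbar := AlgebraicClosure K
    let c : Spec (CommRingCat.of Kbar) ⟶ Spec (CommRingCat.of K) :=
      Spec.map (CommRingCat.ofHom (algebraMap K Kbar))
    have : IsDominant c := by
      refine ⟨?_⟩
      have : Surjective c := inferInstance
      exact c.surjective.denseRange
    have : IsSchemeTheoreticallyDominant c := .of_isDominant c
    let g : (Over.left T).left ⟶ Spec (CommRingCat.of K) := T.hom.left
    have : Flat g := inferInstance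
    have : QuasiCompact c := inferInstance
    let j : pullback c g ⟶ (Over.left T).left := pullback.snd c g
    have hj : IsSchemeTheoreticallyDominant j := inferInstance
    have hbase : 𝒳.p.obj (x.obj T) = Over.left T := x.w_obj T
    let T' : Over S := Over.mk (j ≫ (Over.left T).hom)
    let j' : T' ⟶ 𝒳.p.obj (x.obj T) := Over.homMk j rfl ≫ eqToHom hbase.symm
    obtain ⟨b, hb, μ, hμ⟩ := grpd_exists_lift h𝒳.isStack.1 (x.obj T) j'
    have hμj : IsSchemeTheoreticallyDominant (𝒳.p.map μ).left := by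
      rw [hμ]
      simp only [Over.comp_left, j', Over.eqToHom_left, Over.homMk_left]
      infer_instance
    -- the geometric point
    let c' : Over.mk (c ≫ s) ⟶ 𝒳.p.obj (x.obj (Over.mk (𝟙 _))) :=
      (Over.homMk c rfl : Over.mk (c ≫ s) ⟶ Over.mk s) ≫ eqToHom (x.w_obj (Over.mk (𝟙 _))).symm
    obtain ⟨y, hy, ν, hν⟩ := grpd_exists_lift h𝒳.isStack.1 (x.obj (Over.mk (𝟙 _))) c'
    let top : T ⟶ Over.mk (𝟙 _) := Over.homMk T.hom (Category.comp_id _)
    let q : T' ⟶ Over.mk (c ≫ s) := Over.homMk (pullback.fst c g) (by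
      change pullback.fst c g ≫ c ≫ s = j ≫ (Over.left T).hom
      rw [← Category.assoc, pullback.condition, Category.assoc]
      exact congrArg (j ≫ ·) (Over.w T.hom))
    obtain ⟨k, hk, hkν⟩ := grpd_exists_fac h𝒳.isStack.1 ν (μ ≫ x.map top)
      (eqToHom hb ≫ q ≫ eqToHom hy.symm) (by
        rw [Functor.map_comp, StFib.w_map, hμ, hν]
        simp only [Category.assoc, j', c', eqToHom_trans, eqToHom_trans_assoc, eqToHom_refl,
          Category.id_comp]
        rw [← Category.assoc q, ← Category.assoc (Over.homMk j _ : T' ⟶ Over.left T)]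
        refine congrArg (eqToHom hb ≫ ·) (congrArg (· ≫ eqToHom _) (Over.OverMorphism.ext ?_))
        exact pullback.condition)
    have := hφ.isIso h𝒳.isStack.1
    obtain ⟨χ, hχ, hχμ⟩ := grpd_exists_fac h𝒳.isStack.1 μ (μ ≫ φ) (𝟙 _) (by
      obtain ⟨e, he⟩ := hφ
      rw [Functor.map_comp, he, eqToHom_refl, Category.comp_id, Category.id_comp])
    have hχ1 : χ = 𝟙 b := H Kbar y (eqToIso (congrArg (fun o : Over S => o.left) hy)) b k χ hχ
    refine eq_id_of_pullback h𝒳.isStack.1 hdd μ hμj φ hφ ?_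
    rw [← hχμ, hχ1, Category.id_comp]

end Groth.Agent.S16914
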