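import Groth.Statements.S16918
import Groth.Agent.S15237
import Groth.Agent.AbRigid.Unital.Field
import Mathlib.AlgebraicGeometry.AlgClosed.Basic

set_option backward.isDefEq.respectTransparency false
set_option backward.isDefEq.respectTransparency.types false
set_option linter.style.haveILetI false

set_option autoImplicit false
universe u
open CategoryTheory MonoidalCategory CartesianMonoidalCategory MonObj GrpObj AlgebraicGeometry
open GrpSch

namespace Groth.Agent.S16918

open CategoryTheory CategoryTheory.Limits MonoidalCategory CartesianMonoidalCategory MonObj AlgebraicGeometry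
open TopologicalSpace Groth.Agent.AbRigid.Unital

variable {k : Type u} [_root_.Field k] [IsAlgClosed k] (A : Over (Spec (CommRingCat.of k))) [GrpObj A]
  (K : Subgroup (𝟙_ (Over (Spec (CommRingCat.of k))) ⟶ A))

/-- A space embedded with preirreducible image is preirreducible. -/
theorem preirreducible_univ {X Y : Type u} [TopologicalSpace X] [TopologicalSpace Y] {f : X → Y}
    (hf : Topology.IsInducing f) (h : IsPreirreducible (Set.range f)) : IsPreirreducible (Set.univ : Set X) := by
  intro u v hu hv ⟨a, _, ha⟩ ⟨b, _, hb⟩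
  obtain ⟨u', hu', rfl⟩ := hf.isOpen_iff.1 hu
  obtain ⟨v', hv', rfl⟩ := hf.isOpen_iff.1 hv
  obtain ⟨_, ⟨c, rfl⟩, hc⟩ := h u' v' hu' hv' ⟨f a, ⟨a, rfl⟩, ha⟩ ⟨f b, ⟨b, rfl⟩, hb⟩
  exact ⟨c, trivial, hc⟩

/-- All rational points in `T` belong to `K`. -/
def Adm (T : Closeds ↥A.left) : Prop :=
  IsIrreducible (T : Set ↥A.left) ∧
    ∀ x : 𝟙_ (Over (Spec (CommRingCat.of k))) ⟶ A, Set.range ⇑x.left.base ⊆ (T : Set ↥A.left) → x ∈ K

omit [IsAlgClosed k] [GrpObj A] in
theorem range_point (x : 𝟙_ (Over (Spec (CommRingCat.of k))) ⟶ A) :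
    Set.range ⇑x.left.base = {x.left Field.pt} := by
  haveI : Subsingleton ↥(𝟙_ (Over (Spec (CommRingCat.of k)))).left :=
    inferInstanceAs (Subsingleton (PrimeSpectrum k))
  refine Set.eq_singleton_iff_unique_mem.2 ⟨⟨_, rfl⟩, ?_⟩
  rintro _ ⟨y, rfl⟩
  exact congrArg _ (Subsingleton.elim y Field.pt)

/-- The quotient set of two admissible sets is admissible. -/
theorem exists_div [IsProper A.hom] (T₁ T₂ : Closeds ↥A.left) (h₁ : Adm A K T₁) (h₂ : Adm A K T₂) :
    ∃ M : Closeds ↥A.left, Adm A K M ∧ ∀ a b : 𝟙_ (Over (Spec (CommRingCat.of k))) ⟶ A,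
      a.left Field.pt ∈ T₁ → b.left Field.pt ∈ T₂ → (a * b⁻¹).left Field.pt ∈ M := by
  let I₁ := Scheme.IdealSheafData.vanishingIdeal T₁
  let I₂ := Scheme.IdealSheafData.vanishingIdeal T₂
  have hr : ∀ T : Closeds ↥A.left, Set.range (Scheme.IdealSheafData.vanishingIdeal T).subschemeι = (T : Set ↥A.left) :=
    fun T => by rw [Scheme.IdealSheafData.range_subschemeι]; simp
  have hint : ∀ T : Closeds ↥A.left, IsIrreducible (T : Set ↥A.left) →
      IsIntegral (Scheme.IdealSheafData.vanishingIdeal T).subscheme := by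
    intro T hT
    haveI : IrreducibleSpace ↥(Scheme.IdealSheafData.vanishingIdeal T).subscheme := by
      have e := (Scheme.IdealSheafData.vanishingIdeal T).subschemeι.isEmbedding
      obtain ⟨y, hy⟩ := hT.1
      haveI : Nonempty ↥(Scheme.IdealSheafData.vanishingIdeal T).subscheme := by
        rw [← hr T] at hy; exact ⟨hy.choose⟩
      refine { toPreirreducibleSpace := ⟨?_⟩, toNonempty := inferInstance }
      refine preirreducible_univ e.isInducing ?_
      rw [hr T]
      exact hT.2
    exact isIntegral_of_irreducibleSpace_of_isReduced _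
  let S₁ : Over (Spec (CommRingCat.of k)) := Over.mk (I₁.subschemeι ≫ A.hom)
  let S₂ : Over (Spec (CommRingCat.of k)) := Over.mk (I₂.subschemeι ≫ A.hom)
  let i₁ : S₁ ⟶ A := Over.homMk I₁.subschemeι rfl
  let i₂ : S₂ ⟶ A := Over.homMk I₂.subschemeι rfl
  haveI : IsIntegral S₁.left := hint T₁ h₁.1
  haveI : IsIntegral S₂.left := hint T₂ h₂.1
  haveI : GeometricallyIntegral S₁.hom := Field.geometricallyIntegral S₁.hom
  haveI : GeometricallyIntegral S₂.hom := Field.geometricallyIntegral S₂.hom
  haveI : IsProper S₁.hom := inferInstanceAs (IsProper (I₁.subschemeι ≫ A.hom))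
  haveI : IsProper S₂.hom := inferInstanceAs (IsProper (I₂.subschemeι ≫ A.hom))
  haveI : IsLocallyNoetherian S₁.left := LocallyOfFiniteType.isLocallyNoetherian S₁.hom
  haveI : IsLocallyNoetherian S₂.left := LocallyOfFiniteType.isLocallyNoetherian S₂.hom
  haveI : IsIntegral (S₁ ⊗ S₂).left := inferInstanceAs (IsIntegral (pullback S₁.hom S₂.hom))
  haveI : IsProper (S₁ ⊗ S₂).hom := inferInstanceAs (IsProper (pullback.fst S₁.hom S₂.hom ≫ S₁.hom))
  let h : S₁ ⊗ S₂ ⟶ A := (fst S₁ S₂ ≫ i₁) * (snd S₁ S₂ ≫ i₂)⁻¹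
  haveI : IsProper h.left := by
    haveI : IsProper (h.left ≫ A.hom) := by rw [Over.w]; infer_instance
    exact IsProper.of_comp h.left A.hom
  have hpt : ∀ w : 𝟙_ (Over (Spec (CommRingCat.of k))) ⟶ S₁ ⊗ S₂,
      w ≫ h = (w ≫ fst S₁ S₂ ≫ i₁) * (w ≫ snd S₁ S₂ ≫ i₂)⁻¹ := fun w => by
    rw [MonObj.comp_mul, GrpObj.comp_inv]
  refine ⟨⟨Set.range h.left, h.left.isClosedMap.isClosed_range⟩, ⟨?_, fun x hx => ?_⟩, fun a b ha hb => ?_⟩
  · show IsIrreducible (Set.range h.left)
    rw [← Set.image_univ]
    exact (IrreducibleSpace.isIrreducible_univ _).image _ h.left.continuous.continuousOn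
  · obtain ⟨z, hz⟩ : x.left Field.pt ∈ Set.range h.left := hx ⟨_, rfl⟩
    haveI : JacobsonSpace (S₁ ⊗ S₂).left := LocallyOfFiniteType.jacobsonSpace (S₁ ⊗ S₂).hom
    have hxc : IsClosed ({x.left Field.pt} : Set ↥A.left) := by
      haveI : IsClosedImmersion x.left := by
        haveI : IsClosedImmersion (x.left ≫ A.hom) := by
          rw [Over.w]; exact inferInstanceAs (IsClosedImmersion (𝟙 (Spec (CommRingCat.of k))))
        exact IsClosedImmersion.of_comp _ A.hom
      rw [← range_point A x]
      exact x.left.isClosedEmbedding.isClosed_range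
    obtain ⟨z', hz', hzc⟩ := nonempty_inter_closedPoints (Z := h.left ⁻¹' {x.left Field.pt}) ⟨z, hz⟩
      (hxc.preimage h.left.continuous).isLocallyClosed
    let w : 𝟙_ (Over (Spec (CommRingCat.of k))) ⟶ S₁ ⊗ S₂ :=
      Over.homMk (pointOfClosedPoint _ z' hzc) (pointOfClosedPoint_comp _ z' hzc)
    have hw : w ≫ h = x := Field.hom_ext_pt _ _ (by
      show h.left (w.left Field.pt) = _
      rw [show w.left Field.pt = z' from pointOfClosedPoint_apply _ z' hzc _]
      exact hz')
    have hm₁ : w ≫ fst S₁ S₂ ≫ i₁ ∈ K := h₁.2 _ (by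
      rw [range_point, Set.singleton_subset_iff, ← hr T₁]
      exact ⟨(w ≫ fst S₁ S₂).left Field.pt, rfl⟩)
    have hm₂ : w ≫ snd S₁ S₂ ≫ i₂ ∈ K := h₂.2 _ (by
      rw [range_point, Set.singleton_subset_iff, ← hr T₂]
      exact ⟨(w ≫ snd S₁ S₂).left Field.pt, rfl⟩)
    rw [← hw, hpt]
    exact K.mul_mem hm₁ (K.inv_mem hm₂)
  · have hlift : ∀ (T : Closeds ↥A.left) (c : 𝟙_ (Over (Spec (CommRingCat.of k))) ⟶ A), c.left Field.pt ∈ T →
        ∃ c' : 𝟙_ (Over (Spec (CommRingCat.of k))) ⟶
            Over.mk ((Scheme.IdealSheafData.vanishingIdeal T).subschemeι ≫ A.hom),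
          c' ≫ Over.homMk (Scheme.IdealSheafData.vanishingIdeal T).subschemeι rfl = c := by
      intro T c hc
      rw [← SetLike.mem_coe, ← hr T] at hc
      obtain ⟨y, hy⟩ := hc
      have hyc : IsClosed ({y} : Set _) := by
        have hcc : IsClosed ({c.left Field.pt} : Set ↥A.left) := by
          haveI : IsClosedImmersion c.left := by
            haveI : IsClosedImmersion (c.left ≫ A.hom) := by
              rw [Over.w]; exact inferInstanceAs (IsClosedImmersion (𝟙 (Spec (CommRingCat.of k))))
            exact IsClosedImmersion.of_comp _ A.hom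
          rw [← range_point A c]
          exact c.left.isClosedEmbedding.isClosed_range
        have := hcc.preimage (Scheme.IdealSheafData.vanishingIdeal T).subschemeι.continuous
        convert this using 1
        ext z
        simp only [Set.mem_singleton_iff, Set.mem_preimage, ← hy]
        exact ⟨fun h => h ▸ rfl, fun h => (Scheme.IdealSheafData.vanishingIdeal T).subschemeι.isEmbedding.injective h⟩
      haveI : LocallyOfFiniteType (Over.mk ((Scheme.IdealSheafData.vanishingIdeal T).subschemeι ≫ A.hom)).hom :=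
        inferInstanceAs (LocallyOfFiniteType ((Scheme.IdealSheafData.vanishingIdeal T).subschemeι ≫ A.hom))
      refine ⟨Over.homMk (pointOfClosedPoint _ y hyc) (pointOfClosedPoint_comp _ y hyc), Field.hom_ext_pt _ _ ?_⟩
      show (Scheme.IdealSheafData.vanishingIdeal T).subschemeι (pointOfClosedPoint _ y hyc _) = _
      rw [pointOfClosedPoint_apply, hy]
    obtain ⟨a', ha'⟩ := hlift T₁ a ha
    obtain ⟨b', hb'⟩ := hlift T₂ b hb
    refine ⟨(lift a' b').left Field.pt, ?_⟩
    have : lift a' b' ≫ h = a * b⁻¹ := by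
      rw [hpt, lift_fst_assoc, lift_snd_assoc]
      exact congrArg₂ (fun p q => p * q⁻¹) ha' hb'
    rw [← this]; rfl

/-- Closed sets are compared on rational points. -/
theorem le_of_points [LocallyOfFiniteType A.hom] (T M : Closeds ↥A.left)
    (h : ∀ a : 𝟙_ (Over (Spec (CommRingCat.of k))) ⟶ A, a.left Field.pt ∈ T → a.left Field.pt ∈ M) : T ≤ M := by
  haveI : JacobsonSpace A.left := LocallyOfFiniteType.jacobsonSpace A.hom
  intro y hy
  by_contra hyM
  obtain ⟨z, hz, hzc⟩ := nonempty_inter_closedPoints (Z := (T : Set ↥A.left) ∩ (M : Set ↥A.left)ᶜ) ⟨y, hy, hyM⟩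
    (T.isClosed.isLocallyClosed.inter M.isClosed.isOpen_compl.isLocallyClosed)
  have e : (Over.homMk (pointOfClosedPoint A.hom z hzc) (pointOfClosedPoint_comp A.hom z hzc) :
      𝟙_ (Over (Spec (CommRingCat.of k))) ⟶ A).left Field.pt = z := pointOfClosedPoint_apply A.hom z hzc _
  exact hz.2 (e ▸ h _ (e.symm ▸ hz.1))

/-- Let k be an uncountable algebraically closed field, A an abelian variety over k (a proper,
geometrically integral group scheme over k) and K a subgroup of the group of k-points of A (sections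
of A over Spec k, a group through the group structure of A) which is the trace of a countable union
of closed subsets: a k-point belongs to K exactly when its image point lies in some Zₙ. Call an
irreducible closed subset T of A admissible when every k-point whose image lies in T belongs to K.
Then there is exactly one maximal admissible T containing the image of the neutral element; that T
is contained in some Zₙ, and the k-points landing in T are closed under x, y ↦ x·y⁻¹, so that T is a
closed irreducible subgroup variety of A lying in one of the Zₙ. (The published statement says that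
the irredundant decomposition of K has a unique component through 0 and that it is an abelian
subvariety; the maximal admissible subsets are exactly the components of that decomposition, each of
which lies in some Zₙ, and this containment is the part of the conclusion that uses the
uncountability of k.) -/
theorem result (k : Type u)
    [Field k] [IsAlgClosed k] [Uncountable k] (A : Over (Spec (CommRingCat.of k))) [GrpObj A]
    [IsProper A.hom] [GeometricallyIntegral A.hom]
    (K : Subgroup (𝟙_ (Over (Spec (CommRingCat.of k))) ⟶ A))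
    (Z : ℕ → TopologicalSpace.Closeds ↥A.left)
    (hK : ∀ x : 𝟙_ (Over (Spec (CommRingCat.of k))) ⟶ A,
      x ∈ K ↔ Set.range ⇑x.left.base ⊆ ⋃ n, (Z n : Set ↥A.left)) :
    (∃! T : TopologicalSpace.Closeds ↥A.left,
      Maximal (fun T : TopologicalSpace.Closeds ↥A.left => IsIrreducible (T : Set ↥A.left) ∧
        ∀ x : 𝟙_ (Over (Spec (CommRingCat.of k))) ⟶ A, Set.range ⇑x.left.base ⊆ (T : Set ↥A.left) → x ∈ K) T ∧
      Set.range ⇑(1 : 𝟙_ (Over (Spec (CommRingCat.of k))) ⟶ A).left.base ⊆ (T : Set ↥A.left)) ∧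
    ∀ T : TopologicalSpace.Closeds ↥A.left,
      Maximal (fun T : TopologicalSpace.Closeds ↥A.left => IsIrreducible (T : Set ↥A.left) ∧
        ∀ x : 𝟙_ (Over (Spec (CommRingCat.of k))) ⟶ A, Set.range ⇑x.left.base ⊆ (T : Set ↥A.left) → x ∈ K) T →
      Set.range ⇑(1 : 𝟙_ (Over (Spec (CommRingCat.of k))) ⟶ A).left.base ⊆ (T : Set ↥A.left) →
      (∃ n, (T : Set ↥A.left) ⊆ (Z n : Set ↥A.left)) ∧
      ∀ x y : 𝟙_ (Over (Spec (CommRingCat.of k))) ⟶ A,
        Set.range ⇑x.left.base ⊆ (T : Set ↥A.left) → Set.range ⇑y.left.base ⊆ (T : Set ↥A.left) →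
        Set.range ⇑(x * y⁻¹).left.base ⊆ (T : Set ↥A.left) := by
  haveI : IsLocallyNoetherian A.left := LocallyOfFiniteType.isLocallyNoetherian A.hom
  haveI : JacobsonSpace A.left := LocallyOfFiniteType.jacobsonSpace A.hom
  let e : 𝟙_ (Over (Spec (CommRingCat.of k))) ⟶ A := 1
  have hmem : ∀ (T : Closeds ↥A.left) (x : 𝟙_ (Over (Spec (CommRingCat.of k))) ⟶ A),
      Set.range ⇑x.left.base ⊆ (T : Set ↥A.left) ↔ x.left Field.pt ∈ T := fun T x => by
    rw [range_point, Set.singleton_subset_iff, SetLike.mem_coe]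
  -- division of admissible sets
  have hdiv : ∀ T₁ T₂ : Closeds ↥A.left, Maximal (Adm A K) T₁ → Adm A K T₂ → e.left Field.pt ∈ T₂ →
      ∀ a b : 𝟙_ (Over (Spec (CommRingCat.of k))) ⟶ A,
        a.left Field.pt ∈ T₁ → b.left Field.pt ∈ T₂ → (a * b⁻¹).left Field.pt ∈ T₁ := by
    intro T₁ T₂ h₁ h₂ he a b ha hb
    obtain ⟨M, hM, hMp⟩ := exists_div A K T₁ T₂ h₁.1 h₂
    have hle : T₁ ≤ M := le_of_points A T₁ M fun c hc => by
      have := hMp c e hc he
      rwa [inv_one, _root_.mul_one] at this
    exact h₁.2 hM hle (hMp a b ha hb)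
  -- existence
  obtain ⟨T₀, hT₀, hT₀e⟩ : ∃ T, Maximal (Adm A K) T ∧ e.left Field.pt ∈ T := by
    let T1 : Closeds ↥A.left := ⟨closure {e.left Field.pt}, isClosed_closure⟩
    have hT1 : Adm A K T1 ∧ e.left Field.pt ∈ T1 := by
      refine ⟨⟨isIrreducible_singleton.closure, fun x hx => ?_⟩, subset_closure rfl⟩
      haveI : IsClosedImmersion e.left := by
        haveI : IsClosedImmersion (e.left ≫ A.hom) := by
          rw [Over.w]; exact inferInstanceAs (IsClosedImmersion (𝟙 (Spec (CommRingCat.of k))))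
        exact IsClosedImmersion.of_comp _ A.hom
      have h : x.left Field.pt ∈ closure ({e.left Field.pt} : Set ↥A.left) := (hmem T1 x).1 hx
      rw [IsClosed.closure_eq (by rw [← range_point A e]; exact e.left.isClosedEmbedding.isClosed_range)] at h
      rw [Field.hom_ext_pt x e h]
      exact K.one_mem
    let 𝒮 := {T : Closeds ↥A.left // Adm A K T ∧ e.left Field.pt ∈ T}
    haveI : Nonempty 𝒮 := ⟨⟨T1, hT1⟩⟩
    let c : 𝒮 → ℕ∞ := fun T => Order.coheight T.2.1.1.genericPoint
    let T := Function.argmin c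
    refine ⟨T.1, ⟨T.2.1, fun T' hT' hle => ?_⟩, T.2.2⟩
    have hmin : c T ≤ c ⟨T', hT', hle T.2.2⟩ := Function.argmin_le c _
    have g1 := T.2.1.1.isGenericPoint_genericPoint T.1.isClosed
    have g2 := hT'.1.isGenericPoint_genericPoint T'.isClosed
    have hsp : hT'.1.genericPoint ⤳ T.2.1.1.genericPoint := g2.specializes (hle g1.mem)
    by_contra hne
    have hlt : T.2.1.1.genericPoint < hT'.1.genericPoint := by
      refine lt_of_le_not_ge (Scheme.le_iff_specializes.2 hsp) fun h => hne fun y hy => ?_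
      have hy' : y ∈ closure ({hT'.1.genericPoint} : Set ↥A.left) := by rw [g2.def]; exact hy
      show y ∈ (T.1 : Set ↥A.left)
      rw [← g1.def]
      exact closure_minimal (Set.singleton_subset_iff.2 (specializes_iff_mem_closure.1 (Scheme.le_iff_specializes.1 h)))
        isClosed_closure hy'
    exact absurd hmin (not_le.2 (Order.coheight_strictAnti hlt (Field.coheight_lt_top _)))
  -- uniqueness
  have huniq : ∀ T, Maximal (Adm A K) T → e.left Field.pt ∈ T → T = T₀ := by
    have hle : ∀ T T', Maximal (Adm A K) T → Maximal (Adm A K) T' → e.left Field.pt ∈ T →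
        e.left Field.pt ∈ T' → T' ≤ T := by
      intro T T' hT hT' he he'
      refine le_of_points A T' T fun b hb => ?_
      have h1 := hdiv T T' hT hT'.1 he' e b he hb
      have h2 := hdiv T T hT hT.1 he e (e * b⁻¹) he h1
      rwa [show e * (e * b⁻¹)⁻¹ = b by simp [e]] at h2
    exact fun T hT he => le_antisymm (hle T₀ T hT₀ hT hT₀e he) (hle T T₀ hT hT₀ he hT₀e)
  refine ⟨⟨T₀, ⟨hT₀, (hmem _ _).2 hT₀e⟩, fun T hT => huniq T hT.1 ((hmem _ _).1 hT.2)⟩, fun T hT he => ⟨?_, ?_⟩⟩
  · let I := Scheme.IdealSheafData.vanishingIdeal T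
    have hr : Set.range I.subschemeι = (T : Set ↥A.left) := by
      rw [Scheme.IdealSheafData.range_subschemeι]; simp [I]
    haveI : IrreducibleSpace ↥I.subscheme := by
      obtain ⟨y, hy⟩ := hT.1.1.1
      haveI : Nonempty ↥I.subscheme := by rw [← hr] at hy; exact ⟨hy.choose⟩
      refine { toPreirreducibleSpace := ⟨?_⟩, toNonempty := inferInstance }
      refine preirreducible_univ I.subschemeι.isEmbedding.isInducing ?_
      rw [hr]
      exact hT.1.1.2
    by_contra hcon
    push Not at hcon
    obtain ⟨y, hyc, hy⟩ := Groth.Agent.S15237.result k I.subscheme (I.subschemeι ≫ A.hom)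
      (fun n => ⟨I.subschemeι ⁻¹' (Z n), (Z n).isClosed.preimage I.subschemeι.continuous⟩) (fun n h => hcon n (by
        rw [← hr, Set.range_subset_iff]
        exact fun y => (Set.eq_univ_iff_forall.1 h y : _)))
    have hyA : IsClosed ({I.subschemeι y} : Set ↥A.left) := by
      rw [← Set.image_singleton]; exact I.subschemeι.isClosedEmbedding.isClosedMap _ hyc
    let x : 𝟙_ (Over (Spec (CommRingCat.of k))) ⟶ A :=
      Over.homMk (pointOfClosedPoint A.hom _ hyA) (pointOfClosedPoint_comp A.hom _ hyA)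
    have hx : x.left Field.pt = I.subschemeι y := pointOfClosedPoint_apply A.hom _ hyA _
    have hxK : x ∈ K := hT.1.2 x ((hmem T x).2 (by rw [hx, ← SetLike.mem_coe, ← hr]; exact ⟨y, rfl⟩))
    obtain ⟨n, hn⟩ := Set.mem_iUnion.1 ((hK x).1 hxK ⟨Field.pt, rfl⟩)
    exact hy n (by show I.subschemeι y ∈ Z n; rw [← hx]; exact hn)
  · intro x y hx hy
    exact (hmem _ _).2 (hdiv T T hT hT.1 ((hmem _ _).1 he) x y ((hmem _ _).1 hx) ((hmem _ _).1 hy))

end Groth.Agent.S16918
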