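import Groth.Statements.S16919
import Mathlib.RingTheory.FiniteStability
import Mathlib.FieldTheory.IsAlgClosed.Classification
import Mathlib.RingTheory.AlgebraicIndependent.TranscendenceBasis

set_option autoImplicit false
universe u
open TensorProduct
open CAlg

namespace Groth.Agent.S16919

open Cardinal in
theorem equiv_aux {F K L : Type u} [Field F] [Field K] [Field L] [Algebra F K] [Algebra F L] [IsAlgClosed K] [IsAlgClosed L]
    (h : Algebra.trdeg F K = Algebra.trdeg F L) :
    ∃ e : K ≃+* L, ∀ x : F, e (algebraMap F K x) = algebraMap F L x := by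
  obtain ⟨s, hs⟩ := exists_isTranscendenceBasis F K
  obtain ⟨t, ht⟩ := exists_isTranscendenceBasis F L
  obtain ⟨e⟩ := Cardinal.eq.1 ((hs.cardinalMk_eq_trdeg.trans h).trans ht.cardinalMk_eq_trdeg.symm)
  haveI := IsAlgClosed.isAlgClosure_of_transcendence_basis _ hs
  haveI := IsAlgClosed.isAlgClosure_of_transcendence_basis _ ht
  let a : Algebra.adjoin F (Set.range (Subtype.val : s → K)) ≃ₐ[F] Algebra.adjoin F (Set.range (Subtype.val : t → L)) :=
    hs.1.aevalEquiv.symm.trans ((MvPolynomial.renameEquiv F e).trans ht.1.aevalEquiv)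
  refine ⟨IsAlgClosure.equivOfEquiv K L a.toRingEquiv, fun x => ?_⟩
  rw [IsScalarTower.algebraMap_apply F (Algebra.adjoin F (Set.range (Subtype.val : s → K))) K, IsAlgClosure.equivOfEquiv_algebraMap]
  show algebraMap _ L (a (algebraMap F _ x)) = _
  rw [AlgEquiv.commutes, ← IsScalarTower.algebraMap_apply]
open Cardinal in
theorem core {k₀ k Ω K₀ : Type u} [Field k₀] [Field k] [Field Ω] [Field K₀] [Algebra k₀ k] [IsAlgClosed k] [IsAlgClosed Ω]
    [Algebra k Ω] [Algebra k₀ Ω] [IsScalarTower k₀ k Ω] [Algebra k₀ K₀] (gK : K₀ →ₐ[k₀] k) (jK : K₀ →ₐ[k₀] Ω)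
    (hκ : ℵ₀ ≤ Algebra.trdeg k₀ k) (hK₀ : Algebra.trdeg k₀ K₀ < ℵ₀) (hΩ : Algebra.trdeg k Ω < ℵ₀) :
    ∃ e : Ω ≃+* k, ∀ x, e (jK x) = gK x := by
  letI := gK.toRingHom.toAlgebra
  letI := jK.toRingHom.toAlgebra
  haveI : IsScalarTower k₀ K₀ k := IsScalarTower.of_algebraMap_eq fun x => (gK.commutes x).symm
  haveI : IsScalarTower k₀ K₀ Ω := IsScalarTower.of_algebraMap_eq fun x => (jK.commutes x).symm
  have cancel : ∀ a b : Cardinal.{u}, a < ℵ₀ → a + b = Algebra.trdeg k₀ k → b = Algebra.trdeg k₀ k := by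
    intro a b ha hab
    have hb : ℵ₀ ≤ b := not_lt.1 fun hb => (Cardinal.add_lt_aleph0 ha hb).not_ge (hab ▸ hκ)
    rwa [Cardinal.add_eq_right hb (ha.le.trans hb)] at hab
  have hk : Algebra.trdeg K₀ k = Algebra.trdeg k₀ k := cancel _ _ hK₀ (trdeg_add_eq k₀ K₀ (A := k))
  have hO : Algebra.trdeg K₀ Ω = Algebra.trdeg k₀ k := by
    refine cancel _ _ hK₀ ((trdeg_add_eq k₀ K₀ (A := Ω)).trans ?_)
    rw [← trdeg_add_eq k₀ k (A := Ω), Cardinal.add_eq_left hκ (hΩ.le.trans hκ)]
  exact equiv_aux (F := K₀) (K := Ω) (L := k) (hO.trans hk.symm)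

/-- Let k₀ → k be an extension of fields with k algebraically closed and of infinite transcendence
degree over k₀, R₀ a finitely generated k₀-algebra whose base change R = k ⊗ R₀ is an integral
domain (so Spec R is an integral affine k-scheme of finite type with the model Spec R₀ over k₀), and
P a k-point of Spec R, i.e. a k-algebra homomorphism ev : R → k, lying over the generic point of
Spec R₀, i.e. with ev injective on R₀. Then there is a field isomorphism e from an algebraic closure
of the fraction field of R (the function field of Spec R) onto k such that e(1 ⊗ r) = ev(1 ⊗ r) for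
every r in R₀: e extends evaluation at P on R₀. (The published setting has k algebraically closed of
characteristic zero and of infinite transcendence degree over its prime field, and k₀ the subfield
generated by the coefficients of equations of Spec R, which is finitely generated over the prime
field, so that k has infinite transcendence degree over k₀; only this last property and no
characteristic assumption enter here. The isomorphism is not canonical.) -/
theorem result (k₀ k : Type u)
    [Field k₀] [Field k] [Algebra k₀ k] [IsAlgClosed k] (hinf : ∃ x : ℕ → k, AlgebraicIndependent k₀ x)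
    (R₀ : Type u) [CommRing R₀] [Algebra k₀ R₀] [Algebra.FiniteType k₀ R₀] [IsDomain (k ⊗[k₀] R₀)]
    (ev : k ⊗[k₀] R₀ →ₐ[k] k) (hP : Function.Injective fun r : R₀ => ev (1 ⊗ₜ[k₀] r)) :
    ∃ e : AlgebraicClosure (FractionRing (k ⊗[k₀] R₀)) ≃+* k,
      ∀ r : R₀, e (algebraMap (k ⊗[k₀] R₀) (AlgebraicClosure (FractionRing (k ⊗[k₀] R₀)))
        (1 ⊗ₜ[k₀] r)) = ev (1 ⊗ₜ[k₀] r) := by
  classical
  set R := k ⊗[k₀] R₀
  set Ω := AlgebraicClosure (FractionRing R)
  let g : R₀ →ₐ[k₀] k := (ev.restrictScalars k₀).comp Algebra.TensorProduct.includeRight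
  have hg : Function.Injective g := hP
  let j : R₀ →ₐ[k₀] Ω := (IsScalarTower.toAlgHom k₀ R Ω).comp Algebra.TensorProduct.includeRight
  have hjR : Function.Injective (algebraMap R Ω) := by
    rw [IsScalarTower.algebraMap_eq R (FractionRing R) Ω]
    exact (algebraMap (FractionRing R) Ω).injective.comp (IsFractionRing.injective R _)
  have hi : Function.Injective (Algebra.TensorProduct.includeRight : R₀ →ₐ[k₀] R) :=
    Function.Injective.of_comp (f := ev) hg
  have hj : Function.Injective j := hjR.comp hi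
  haveI : IsDomain R₀ := hg.isDomain
  let K₀ := FractionRing R₀
  let gK : K₀ →ₐ[k₀] k := IsFractionRing.liftAlgHom hg
  let jK : K₀ →ₐ[k₀] Ω := IsFractionRing.liftAlgHom hj
  have hκ : Cardinal.aleph0 ≤ Algebra.trdeg k₀ k := by
    obtain ⟨x, hx⟩ := hinf
    simpa using hx.lift_cardinalMk_le_trdeg
  have hK₀ : Algebra.trdeg k₀ K₀ < Cardinal.aleph0 := by
    haveI : Algebra.IsAlgebraic R₀ K₀ := IsLocalization.isAlgebraic K₀ (nonZeroDivisors R₀)
    haveI : FaithfulSMul k₀ R₀ := (faithfulSMul_iff_algebraMap_injective _ _).2 (algebraMap k₀ R₀).injective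
    rw [← trdeg_add_eq k₀ R₀ (A := K₀), trdeg_eq_zero (R := R₀) (A := K₀), add_zero]
    exact trdeg_lt_aleph0_of_finiteType
  have hΩ : Algebra.trdeg k Ω < Cardinal.aleph0 := by
    haveI : Algebra.IsAlgebraic R (FractionRing R) := IsLocalization.isAlgebraic _ (nonZeroDivisors R)
    haveI : Algebra.IsAlgebraic R Ω := Algebra.IsAlgebraic.trans R (FractionRing R) Ω
    haveI : FaithfulSMul R Ω := (faithfulSMul_iff_algebraMap_injective _ _).2 hjR
    haveI : FaithfulSMul k R := (faithfulSMul_iff_algebraMap_injective _ _).2 (algebraMap k R).injective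
    rw [← trdeg_add_eq k R (A := Ω), trdeg_eq_zero (R := R) (A := Ω), add_zero]
    exact trdeg_lt_aleph0_of_finiteType
  obtain ⟨e, he⟩ := core gK jK hκ hK₀ hΩ
  refine ⟨e, fun r => ?_⟩
  have h1 := he (algebraMap R₀ K₀ r)
  rw [show jK (algebraMap R₀ K₀ r) = j r from IsFractionRing.lift_algebraMap hj r,
    show gK (algebraMap R₀ K₀ r) = g r from IsFractionRing.lift_algebraMap hg r] at h1
  exact h1

end Groth.Agent.S16919
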