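import Groth.Statements.S1916
import Groth.Agent.CycLib.ModStalk
-- import your own Groth.Agent.* helpers here

set_option autoImplicit false
universe u
open CategoryTheory AlgebraicGeometry
open Cyc

namespace Groth.Agent.S1916

/-- Let F be a coherent O_X-module on a locally Noetherian scheme X. The irreducible components of Supp
F form a locally finite family of subsets of X, and at every point ξ of Supp F admitting no proper
generalization inside Supp F the stalk F_ξ has finite length over O_{X,ξ}. -/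
theorem result (X : Scheme.{u}) [IsLocallyNoetherian X] (F : X.Modules) (hF : Coh.IsCoh F) : LocallyFinite (fun Z : irreducibleComponents {x : X | Nontrivial (F.presheaf.stalk x)} => ((↑) '' (Z : Set {x : X | Nontrivial (F.presheaf.stalk x)}) : Set X)) ∧ ∀ ξ : X, Nontrivial (F.presheaf.stalk ξ) → (∀ x : X, Nontrivial (F.presheaf.stalk x) → x ⤳ ξ → x = ξ) → Module.length (X.presheaf.stalk ξ) (F.presheaf.stalk ξ) < ⊤ := by
  haveI := hF.1
  refine ⟨?_, fun ξ _ h => Groth.Agent.CycLib.length_stalk_lt_top F hF ξ h⟩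
  let T := {x : X | Nontrivial (F.presheaf.stalk x)}
  have hcl : IsClosed T := Groth.Agent.CycLib.isClosed_support F hF
  have hT : ∀ t : T, ∃ N ∈ nhds t, TopologicalSpace.NoetherianSpace N := fun t => by
    obtain ⟨N, hN, hNN⟩ := Groth.Agent.SchPoints.exists_noetherian_nhd (X := X) t.1
    exact ⟨Subtype.val ⁻¹' N, continuous_subtype_val.continuousAt.preimage_mem_nhds hN,
      ((Topology.IsEmbedding.subtypeVal (p := (· ∈ T))).restrictPreimage N).isInducing.noetherianSpace⟩
  have hlf := Groth.Agent.SchPoints.locallyFinite_irreducibleComponents hT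
  intro x
  by_cases hx : x ∈ T
  · obtain ⟨V, hV, hfin⟩ := hlf ⟨x, hx⟩
    obtain ⟨W, hW, hWV⟩ := mem_nhds_subtype T ⟨x, hx⟩ V |>.1 hV
    refine ⟨W, hW, hfin.subset ?_⟩
    rintro Z ⟨_, ⟨z, hz, rfl⟩, hzW⟩
    exact ⟨z, hz, hWV hzW⟩
  · refine ⟨Tᶜ, hcl.isOpen_compl.mem_nhds hx, Set.finite_empty.subset ?_⟩
    rintro Z ⟨_, ⟨z, -, rfl⟩, hzW⟩
    exact (hzW z.2).elim

end Groth.Agent.S1916
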