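import Groth.Statements.S1693
import Groth.Agent.S1916
-- import your own Groth.Agent.* helpers here

set_option autoImplicit false
universe u
open CategoryTheory CategoryTheory.Limits AlgebraicGeometry TopologicalSpace
open SDiv

namespace Groth.Agent.S1693

/-- Let X be a locally Noetherian scheme and Z a closed subset. Then the irreducible components of Z
form a locally finite family of subsets of X. -/
theorem result (X : Scheme.{u}) [IsLocallyNoetherian X] (Z : Set ↥X) (hZ : IsClosed Z) :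
    LocallyFinite (fun T : ↥(irreducibleComponents ↥Z) => ((↑) '' (T.1 : Set ↥Z) : Set ↥X)) := by
  have hT : ∀ t : Z, ∃ N ∈ nhds t, TopologicalSpace.NoetherianSpace N := fun t => by
    obtain ⟨N, hN, hNN⟩ := Groth.Agent.SchPoints.exists_noetherian_nhd (X := X) t.1
    exact ⟨Subtype.val ⁻¹' N, continuous_subtype_val.continuousAt.preimage_mem_nhds hN,
      ((Topology.IsEmbedding.subtypeVal (p := (· ∈ Z))).restrictPreimage N).isInducing.noetherianSpace⟩
  have hlf := Groth.Agent.SchPoints.locallyFinite_irreducibleComponents hT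
  intro x
  by_cases hx : x ∈ Z
  · obtain ⟨V, hV, hfin⟩ := hlf ⟨x, hx⟩
    obtain ⟨W, hW, hWV⟩ := mem_nhds_subtype Z ⟨x, hx⟩ V |>.1 hV
    refine ⟨W, hW, hfin.subset ?_⟩
    rintro T ⟨_, ⟨z, hz, rfl⟩, hzW⟩
    exact ⟨z, hz, hWV hzW⟩
  · refine ⟨Zᶜ, hZ.isOpen_compl.mem_nhds hx, Set.finite_empty.subset ?_⟩
    rintro T ⟨_, ⟨z, -, rfl⟩, hzW⟩
    exact (hzW z.2).elim

end Groth.Agent.S1693
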