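import Groth.Statements.S16948
import Groth.Agent.CBC.PullComp
import Groth.Agent.S16954
import Groth.Agent.QCoh.Basic

set_option autoImplicit false
universe u
open Coherent

namespace Groth.Agent.S16948

namespace Aux

open AlgebraicGeometry CategoryTheory Opposite Scheme.Modules

variable {X Y : Scheme.{u}}

lemma app_homEquiv (φ : X ⟶ Y) {M : Y.Modules} {N : X.Modules} (h : (pullback φ).obj M ⟶ N)
    (O : Y.Opens) (t : Γ(M, O)) :
    ((pullbackPushforwardAdjunction φ).homEquiv _ _ h).app O t =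
      h.app (φ ⁻¹ᵁ O) (Groth.Agent.LimTop.unitSec φ M (le_refl _) t) := by
  rw [Adjunction.homEquiv_unit, Groth.Agent.LimTop.unitSec_apply, Groth.Agent.QCoh.res_self]
  rfl

end Aux


open AlgebraicGeometry CategoryTheory Scheme.Modules in
/-- Take two cartesian squares of schemes side by side, f : X → Y over φ : U → V (vertical maps ξ : X →
U and η : Y → V, f ≫ η = ξ ≫ φ) and g : Y → Z over ψ : V → W (vertical map ζ : Z → W, g ≫ ζ = η ≫
ψ), a quasi-coherent O_Z-module L and a natural number p. Write β for the degree-p base change maps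
of higher direct images (R^p the p-th right derived functor of direct image on O-modules; the maps
are the pinned ones of the structure GenBC relative to pinned comparison data for ζ, η and ξ): B₂
for the right square, B₁ for the left square, B for the outer square. Then the composite of the
composition isomorphism φ^* ψ^* R^p ζ_* L ≅ (φ ≫ ψ)^* R^p ζ_* L with β_B(L) equals φ^* β_{B₂}(L)
followed by β_{B₁}(g^* L) followed by R^p ξ_* of the composition isomorphism f^* g^* L ≅ (f ≫ g)^*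
L. The source states this for arbitrary ζ and η; its verification evaluates both sides on sections
of R^p ζ_* L and R^p η_*(g^* L) over affine opens, identified with cohomology classes over their
preimages, and that identification is the one available for ζ and η quasi-compact and
quasi-separated, which are therefore assumed here. -/
theorem result
    {X Y Z U V W : Scheme.{u}} (f : X ⟶ Y) (g : Y ⟶ Z) (ξ : X ⟶ U) (η : Y ⟶ V) (ζ : Z ⟶ W)
    (φ : U ⟶ V) (ψ : V ⟶ W) (h₁ : IsPullback f ξ η φ) (h₂ : IsPullback g η ζ ψ)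
    (hw : (f ≫ g) ≫ ζ = ξ ≫ (φ ≫ ψ))
    [QuasiCompact ζ] [QuasiSeparated ζ] [QuasiCompact η] [QuasiSeparated η]
    [HasInjectiveResolutions X.Modules] [HasInjectiveResolutions Y.Modules] [HasInjectiveResolutions Z.Modules]
    (L : Z.Modules) [Coh.IsQCoh L] (p : ℕ)
    {Δζ : RDer.DerivedLES (pushforward ζ)} {Δη : RDer.DerivedLES (pushforward η)} {Δξ : RDer.DerivedLES (pushforward ξ)}
    (Eζ : CohCmp.SectCmp ζ Δζ) (Eη : CohCmp.SectCmp η Δη) (Eξ : CohCmp.SectCmp ξ Δξ)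
    (B₂ : CohCmp.GenBC ζ ψ η g h₂.w Eζ Eη) (B₁ : CohCmp.GenBC η φ ξ f h₁.w Eη Eξ)
    (B : CohCmp.GenBC ζ (φ ≫ ψ) ξ (f ≫ g) hw Eζ Eξ) :
    (pullbackComp φ ψ).hom.app ((Coh.Rpush ζ p).obj L) ≫ B.bc p L =
      (pullback φ).map (B₂.bc p L) ≫ B₁.bc p ((pullback g).obj L) ≫
        (Coh.Rpush ξ p).map ((pullbackComp f g).hom.app L) := by

  let A := (Coh.Rpush ζ p).obj L
  apply ((pullbackPushforwardAdjunction φ).homEquiv _ _).injective
  apply ((pullbackPushforwardAdjunction ψ).homEquiv _ _).injective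
  let D := (pullback (f ≫ g)).obj L
  let T := (Coh.Rpush ξ p).obj D
  let r : (pullback f).obj ((pullback g).obj L) ⟶ D := (pullbackComp f g).hom.app L
  ext O t
  let P := φ ⁻¹ᵁ (ψ ⁻¹ᵁ O)
  refine (Aux.app_homEquiv ψ _ O t).trans ?_
  refine ((Aux.app_homEquiv φ _ _ _).trans ?_).trans
    ((Aux.app_homEquiv φ _ _ _).symm.trans (Aux.app_homEquiv ψ _ O t).symm)
  have hbc : ∀ {S S' X₀ X' : Scheme.{u}} {f₀ : X₀ ⟶ S} {g₀ : S' ⟶ S} {f' : X' ⟶ S'} {g' : X' ⟶ X₀}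
      {w : g' ≫ f₀ = f' ≫ g₀} [HasInjectiveResolutions X₀.Modules] [HasInjectiveResolutions X'.Modules]
      {Δ : RDer.DerivedLES (pushforward f₀)} {Δ' : RDer.DerivedLES (pushforward f')}
      {E : CohCmp.SectCmp f₀ Δ} {E' : CohCmp.SectCmp f' Δ'} (C : CohCmp.GenBC f₀ g₀ f' g' w E E')
      (G : X₀.Modules) (V : S.Opens) (m : Γ((Coh.Rpush f₀ p).obj G, V)),
      (C.bc p G).app (g₀ ⁻¹ᵁ V) (Groth.Agent.LimTop.unitSec g₀ _ (le_refl _) m) =
        (C.φ p G).app V m := by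
    intro S S' X₀ X' f₀ g₀ f' g' w _ _ Δ Δ' E E' C G V m
    refine (Aux.app_homEquiv g₀ (C.bc p G) V m).symm.trans ?_
    rw [CohCmp.GenBC.bc, Equiv.apply_symm_apply]
  refine Eq.trans (b := (B.φ p L).app O t) ?_ ?_
  · refine (congrArg (fun s => (B.bc p L).app P s)
      (Groth.Agent.LimTop.unitSec_comp ψ A (le_refl _) φ (le_refl _) t)).trans ?_
    exact hbc B L O t
  refine Eq.trans (b := ((Coh.Rpush ξ p).map r).app P
    ((B₁.φ p ((pullback g).obj L)).app (ψ ⁻¹ᵁ O) ((B₂.φ p L).app O t))) ?_ ?_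
  · choose Wy hW hy x hx using fun y : O =>
      Groth.Agent.S16954.result ζ Eζ L p O t y.1 y.2
    refine Groth.Agent.QCoh.eq_of_locally_eq T
      (U := fun y => φ ⁻¹ᵁ (ψ ⁻¹ᵁ Wy y)) (fun y => φ.preimage_mono (ψ.preimage_mono (hW y)))
      (fun q hq => TopologicalSpace.Opens.mem_iSup.mpr ⟨⟨ψ (φ q), hq⟩, hy ⟨ψ (φ q), hq⟩⟩) _ _ fun y => ?_
    let x₁ := CohPull.pullOn g (ζ ⁻¹ᵁ Wy y) (η ⁻¹ᵁ (ψ ⁻¹ᵁ Wy y)) (CohCmp.sqLE ζ ψ η g h₂.w (Wy y)) L p (x y)
    let x₂ := CohPull.pullOn f (η ⁻¹ᵁ (ψ ⁻¹ᵁ Wy y)) (ξ ⁻¹ᵁ (φ ⁻¹ᵁ (ψ ⁻¹ᵁ Wy y)))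
      (CohCmp.sqLE η φ ξ f h₁.w (ψ ⁻¹ᵁ Wy y)) ((pullback g).obj L) p x₁
    have key : ((B.φ p L).app (Wy y)) (Eζ.ε (Wy y) L p (x y)) =
        ((Coh.Rpush ξ p).map r).app _ ((B₁.φ p ((pullback g).obj L)).app (ψ ⁻¹ᵁ Wy y)
          ((B₂.φ p L).app (Wy y) (Eζ.ε (Wy y) L p (x y)))) := by
      refine (B.compat (Wy y) L p (x y)).trans ?_
      refine Eq.trans ?_ (congrArg (((Coh.Rpush ξ p).map r).app _)
        ((congrArg ((B₁.φ p ((pullback g).obj L)).app (ψ ⁻¹ᵁ Wy y)) (B₂.compat (Wy y) L p (x y))).trans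
          (B₁.compat (ψ ⁻¹ᵁ Wy y) _ p x₁))).symm
      refine Eq.trans ?_ (Eξ.natural (φ ⁻¹ᵁ (ψ ⁻¹ᵁ Wy y)) r p x₂)
      exact congrArg (Eξ.ε _ D p)
        (Groth.Agent.CBC.PullComp.pullOn_pullOn f g _ _ _ _ _ _ L p (x y)).symm
    have n₁ := Groth.Agent.QCoh.app_res (B.φ p L) (hW y) t
    have n₂ := Groth.Agent.QCoh.app_res (B₂.φ p L) (hW y) t
    have n₃ := Groth.Agent.QCoh.app_res (B₁.φ p ((pullback g).obj L)) (ψ.preimage_mono (hW y))
      ((B₂.φ p L).app O t)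
    have n₄ := Groth.Agent.QCoh.app_res ((Coh.Rpush ξ p).map r)
      (φ.preimage_mono (ψ.preimage_mono (hW y))) ((B₁.φ p ((pullback g).obj L)).app (ψ ⁻¹ᵁ O) ((B₂.φ p L).app O t))
    refine n₁.symm.trans (Eq.trans ?_ n₄)
    refine Eq.trans ?_ (congrArg (((Coh.Rpush ξ p).map r).app _)
      ((congrArg ((B₁.φ p ((pullback g).obj L)).app (ψ ⁻¹ᵁ Wy y)) n₂).trans n₃))
    rw [hx y] at key
    exact key
  · refine (congrArg (fun s => (((B₁.bc p ((pullback g).obj L)) ≫ (Coh.Rpush ξ p).map r)).app P s)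
      ((Groth.Agent.LimTop.unitSec_map φ _ (le_refl _) (B₂.bc p L) _).trans
        (congrArg _ (hbc B₂ L O t)))).trans ?_ |>.symm
    exact congrArg (fun s => ((Coh.Rpush ξ p).map r).app P s) (hbc B₁ _ (ψ ⁻¹ᵁ O) _)

end Groth.Agent.S16948
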