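import Groth.Statements.S16950
import Groth.Agent.CBC.FlatHThm

set_option autoImplicit false
universe u
open Coherent

namespace Groth.Agent.S16950

open AlgebraicGeometry CategoryTheory Scheme.Modules in
/-- For a single module in place of the complex, let S be a scheme, a : X → S and b : Y → S schemes over
S, f : X → Y a separated quasi-compact morphism with f ≫ b = a, and F a quasi-coherent O_X-module,
flat over S (via a), such that every higher direct image R^n f_* F (the n-th right derived functor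
of direct image on O-modules) is flat over S (via b). For any morphism g : S' → S form the cartesian
squares Y' = Y ×_S S' (projections g_Y : Y' → Y, b' : Y' → S') and X' = X ×_Y Y' (projections g_X :
X' → X, f' : X' → Y'). Then for every n the degree-n base change map g_Y^* R^n f_* F → R^n f'_*
(g_X^* F) is an isomorphism; the map is the pinned one of the structure GenBC, relative to pinned
comparison data for f and f'. -/
theorem result
    {X Y S X' Y' S' : Scheme.{u}} (a : X ⟶ S) (b : Y ⟶ S) (f : X ⟶ Y) (hf : f ≫ b = a)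
    [IsSeparated f] [QuasiCompact f]
    (g : S' ⟶ S) (gY : Y' ⟶ Y) (b' : Y' ⟶ S') (hY : IsPullback gY b' b g)
    (gX : X' ⟶ X) (f' : X' ⟶ Y') (hX : IsPullback gX f' f gY)
    [HasInjectiveResolutions X.Modules] [HasInjectiveResolutions X'.Modules]
    (F : X.Modules) [Coh.IsQCoh F] (hF : FlatMod.IsFlatOver a F)
    (hR : ∀ n : ℕ, FlatMod.IsFlatOver b ((Coh.Rpush f n).obj F))
    {Δ : RDer.DerivedLES (pushforward f)} {Δ' : RDer.DerivedLES (pushforward f')}
    (E : CohCmp.SectCmp f Δ) (E' : CohCmp.SectCmp f' Δ') (B : CohCmp.GenBC f gY f' gX hX.w E E') (n : ℕ) :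
    IsIso (B.bc n F) := by
  haveI : F.IsQuasicoherent := ‹Coh.IsQCoh F›
  haveI : IsSeparated f' := MorphismProperty.of_isPullback hX ‹IsSeparated f›
  haveI : QuasiCompact f' := MorphismProperty.of_isPullback hX ‹QuasiCompact f›
  refine Groth.Agent.CBC.isIso_of_small_affine (B.bc n F)
    (fun W => ∃ (U : S.Opens) (V : Y.Opens) (T : S'.Opens) (_ : IsAffineOpen U)
      (_ : IsAffineOpen V) (_ : IsAffineOpen T) (_ : V ≤ b ⁻¹ᵁ U) (_ : T ≤ g ⁻¹ᵁ U),
      W ≤ gY ⁻¹ᵁ V ⊓ b' ⁻¹ᵁ T) (fun z => ?_) ?_ ?_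
  · obtain ⟨_, ⟨U, hU, rfl⟩, hzU, -⟩ :=
      S.isBasis_affineOpens.exists_subset_of_mem_open (Set.mem_univ (b (gY z))) isOpen_univ
    obtain ⟨_, ⟨V, hV, rfl⟩, hzV, hVU⟩ :=
      Y.isBasis_affineOpens.exists_subset_of_mem_open (a := gY z)
        (show gY z ∈ b ⁻¹ᵁ U from hzU) (b ⁻¹ᵁ U).2
    have hg : g (b' z) ∈ U := by
      rw [show g (b' z) = b (gY z) from (congrArg (fun φ : Y' ⟶ S => φ z) hY.w).symm]
      exact hzU
    obtain ⟨_, ⟨T, hT, rfl⟩, hzT, hTU⟩ :=
      S'.isBasis_affineOpens.exists_subset_of_mem_open (a := b' z)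
        (show b' z ∈ g ⁻¹ᵁ U from hg) (g ⁻¹ᵁ U).2
    exact ⟨gY ⁻¹ᵁ V ⊓ b' ⁻¹ᵁ T, ⟨hzV, hzT⟩, U, V, T, hU, hV, hT, hVU, hTU, le_rfl⟩
  · rintro W W' hW ⟨U, V, T, hU, hV, hT, hVU, hTU, hWO⟩
    exact ⟨U, V, T, hU, hV, hT, hVU, hTU, hW.trans hWO⟩
  · rintro W hW ⟨U, V, T, hU, hV, hT, hVU, hTU, hWO⟩
    exact Groth.Agent.CBC.bc_app_bijective_of_flat_Rpush hf hY hX F hF hR B n hU hV hVU hT hTU hW hWO

end Groth.Agent.S16950
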