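import Groth.Statements.S16951
import Groth.Agent.CBC.TrivBundle
import Groth.Agent.Cube.Universal
import Groth.Agent.PicLaw.Swap

set_option autoImplicit false
universe u
open PicF

namespace Groth.Agent.S16951

open AlgebraicGeometry CategoryTheory Scheme.Modules in
/-- Let f : X → S be a proper flat morphism of locally Noetherian schemes whose fibres are geometrically
integral, and let L be an invertible O_X-module with an inverse M (an isomorphism L ⊗ M ≅ O_X). Then
the following are equivalent: (a) L ≅ f^* L₀ for some invertible O_S-module L₀; (b) for N = L and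
for N = M, at every point s of S the space H^0(X_s, N|_{X_s}) of sections over the scheme-theoretic
fibre is nonzero and the degree-0 base change map of the fibre square, κ(s)^* f_* N → (X_s → Spec
κ(s))_* (N|_{X_s}), is an epimorphism. When this holds, dim_{κ(s)} H^0(X_s, N|_{X_s}) = 1 for every
s and both N, the counit f^* f_* L → L is an isomorphism, and any invertible L₀ with L ≅ f^* L₀ is
isomorphic to f_* L. -/
theorem result
    {X S : Scheme.{u}} (f : X ⟶ S) [IsProper f] [Flat f] [IsLocallyNoetherian X] [IsLocallyNoetherian S]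
    [GeometricallyIntegral f] (L M : X.Modules) (hL : PicF.IsInvertible L)
    (hM : Nonempty (CohB1.tensorMod L M ≅ Coh.structureModule X)) :
    ((∃ L₀ : S.Modules, PicF.IsInvertible L₀ ∧ Nonempty (L ≅ (pullback f).obj L₀)) ↔
      ((∀ s : S, Nontrivial (CohIII.fiberH f L s 0)) ∧ (∀ s : S, Nontrivial (CohIII.fiberH f M s 0)) ∧
        (∀ s : S, Epi (CohBC.bc0 f (S.fromSpecResidueField s) (f.fiberToSpecResidueField s) (f.fiberι s) (f.fiber_fac s) L)) ∧ (∀ s : S, Epi (CohBC.bc0 f (S.fromSpecResidueField s) (f.fiberToSpecResidueField s) (f.fiberι s) (f.fiber_fac s) M)))) ∧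
    (((∀ s : S, Nontrivial (CohIII.fiberH f L s 0)) ∧ (∀ s : S, Nontrivial (CohIII.fiberH f M s 0)) ∧
        (∀ s : S, Epi (CohBC.bc0 f (S.fromSpecResidueField s) (f.fiberToSpecResidueField s) (f.fiberι s) (f.fiber_fac s) L)) ∧ (∀ s : S, Epi (CohBC.bc0 f (S.fromSpecResidueField s) (f.fiberToSpecResidueField s) (f.fiberι s) (f.fiber_fac s) M))) →
      (∀ s : S, CohIII.fiberRank f L 0 s = 1 ∧ CohIII.fiberRank f M 0 s = 1) ∧
      IsIso ((pullbackPushforwardAdjunction f).counit.app L) ∧
      ∀ L₀ : S.Modules, PicF.IsInvertible L₀ → Nonempty (L ≅ (pullback f).obj L₀) →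
        Nonempty (L₀ ≅ (pushforward f).obj L)) := by
  open Groth.Agent Groth.Agent.CBC.TrivBundle Groth.Agent.Props.GenLocus Groth.Agent.Props.GenPull
    Groth.Agent.Props.GenTensor Groth.Agent.QCoh in
  open scoped Groth.Agent.PicLaw in
  obtain ⟨φ⟩ := hM
  have hO : PicF.IsInvertible (Coh.structureModule X) := PicLoc.isInvertible_structureModule X
  have hLM : PicF.IsInvertible (CohB1.tensorMod L M) := PicCl.isInvertible_of_iso φ.symm hO
  have hMi : PicF.IsInvertible M := PicLaw.isInvertible_of_tensor_left hL hLM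
  haveI : L.IsQuasicoherent := (Cube.Seesaw.isCoh_of_invertible hL).1
  haveI : M.IsQuasicoherent := (Cube.Seesaw.isCoh_of_invertible hMi).1
  have happ : ∀ U : S.Opens, Function.Bijective (f.app U) := fun U =>
    Cube.Universal.bijective_app_self f ⊤ (fun z _ => finrank_fiber f z) U le_top
  let Gens : X.Modules → Prop := fun N => ∀ s : S, ∃ (V : S.Opens) (_ : s ∈ V)
    (g : Γ(N, f ⁻¹ᵁ V)), IsGen N (f ⁻¹ᵁ V) g
  have hbase : ∀ (N : X.Modules) (L₀ : S.Modules), PicF.IsInvertible L₀ →
      Nonempty (N ≅ (pullback f).obj L₀) → Gens N := fun N L₀ h₀ ⟨e⟩ s => by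
    obtain ⟨V, e₀, hsV, he₀⟩ := exists_isGen h₀ s
    exact ⟨V, hsV, _, Cube.Seesaw.isGen_map e.symm (isGen_pb f he₀)⟩
  have hinv : Gens L → Gens M := fun h s => by
    obtain ⟨V, hsV, g, hg⟩ := h s
    let one : Γ(CohB1.tensorMod L M, f ⁻¹ᵁ V) := φ.inv.app (f ⁻¹ᵁ V) (one' _)
    have hone : IsGen (CohB1.tensorMod L M) (f ⁻¹ᵁ V) one :=
      Cube.Seesaw.isGen_map φ.symm (isGen_one _)
    let e' := PicLaw.swapIso L M
    have hone' := Cube.Seesaw.isGen_map e' hone
    obtain ⟨m, hm⟩ := (AmpleLib.tmul_gen_bijective hg M (le_refl (f ⁻¹ᵁ V))).2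
      (e'.hom.app (f ⁻¹ᵁ V) one)
    refine ⟨V, hsV, m, fun W h => ?_⟩
    refine (Function.Bijective.of_comp_iff' (AmpleLib.tmul_gen_bijective hg M h) _).mp ?_
    have hmV : tmul (res M h m) (res L h g) =
        res (CohB1.tensorMod M L) h (e'.hom.app (f ⁻¹ᵁ V) one) := by
      rw [← hm, res_tmul, res_res]
    convert hone' W h using 1
    funext a
    simp only [Function.comp_apply, sm, tmul_smul_left, hmV]
  have hfib : ∀ (N : X.Modules), Gens N → ∀ s : S,
      Nonempty (CohIII.fiberMod f N s ≅ Coh.structureModule (f.fiber s)) := fun N hN s => by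
    obtain ⟨V, hsV, g, hg⟩ := hN s
    have htop : (⊤ : (f.fiber s).Opens) ≤ f.fiberι s ⁻¹ᵁ (f ⁻¹ᵁ V) := fun y _ => by
      show f (f.fiberι s y) ∈ V
      have h : f (f.fiberι s y) = s :=
        (show f.fiberι s y ∈ f ⁻¹' {s} from f.range_fiberι s ▸ Set.mem_range_self y)
      rw [h]
      exact hsV
    exact Cube.Seesaw.iso_of_gen _ ((isGen_pb (f.fiberι s) hg).restrict htop)
  have hnt : ∀ (N : X.Modules), Gens N → ∀ s : S, Nontrivial (CohIII.fiberH f N s 0) :=
    fun N hN s => by
      haveI := Cube.Seesaw.nontrivial_of_iso (hfib N hN s)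
      exact (ProperFin.h0Sec (CohIII.fiberMod f N s)).toEquiv.nontrivial
  have hepi : ∀ (N : X.Modules) [N.IsQuasicoherent], Gens N → ∀ s : S,
      Epi (CohBC.bc0 f (S.fromSpecResidueField s) (f.fiberToSpecResidueField s) (f.fiberι s)
        (f.fiber_fac s) N) := fun N _ hN s => by
    obtain ⟨V, hsV, g, hg⟩ := hN s
    exact epi_of_gen f s hsV (bijective_fiber f s) hg
  have hrk : ∀ (N : X.Modules), Gens N → ∀ s : S, CohIII.fiberRank f N 0 s = 1 :=
    fun N hN s => (Cube.Seesaw.fiberRank_eq_of_iso f s (hfib N hN s)).trans (finrank_fiber f s)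
  have hB : ((∀ s : S, Nontrivial (CohIII.fiberH f L s 0)) ∧
      (∀ s : S, Nontrivial (CohIII.fiberH f M s 0)) ∧
      (∀ s : S, Epi (CohBC.bc0 f (S.fromSpecResidueField s) (f.fiberToSpecResidueField s)
        (f.fiberι s) (f.fiber_fac s) L)) ∧
      (∀ s : S, Epi (CohBC.bc0 f (S.fromSpecResidueField s) (f.fiberToSpecResidueField s)
        (f.fiberι s) (f.fiber_fac s) M))) → Gens L := by
    rintro ⟨h1, h2, h3, h4⟩ s
    obtain ⟨_, ⟨V, hV, rfl⟩, hsV, -⟩ :=
      S.isBasis_affineOpens.exists_subset_of_mem_open (Set.mem_univ s) isOpen_univ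
    obtain ⟨t, ht⟩ := exists_section_of_epi f hV s hsV (h1 s) (h3 s)
    have htriv : Nonempty (CohIII.fiberMod f L s ≅ Coh.structureModule (f.fiber s)) := by
      haveI := h1 s
      haveI := h2 s
      have hfield : IsField Γ(f.fiber s, ⊤) :=
        (RingEquiv.ofBijective _ (bijective_fiber f s)).symm.toMulEquiv.isField
          (Field.toIsField (S.residueField s))
      obtain ⟨e⟩ := PicLaw.pullback_tensor (f.fiberι s) hL hMi
      exact Cube.Seesaw.iso_of_sections hfield (PicLoc.isInvertible_pullback (f.fiberι s) hL)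
        (PicLoc.isInvertible_pullback (f.fiberι s) hMi)
        ⟨e.symm ≪≫ (pullback (f.fiberι s)).mapIso φ ≪≫
          ((PicGrp.cls_eq_one_iff (PicLoc.isInvertible_pullback _ hO)).mp (by
            rw [PicLaw.cls_pullback _ hO, PicLaw.cls_one, map_one])).some⟩
        (ProperFin.h0Sec (CohIII.fiberMod f L s)).symm.toEquiv.nontrivial
        (ProperFin.h0Sec (CohIII.fiberMod f M s)).symm.toEquiv.nontrivial
    exact exists_gen_of_section f hL s hsV (bijective_fiber f s) htriv t ht
  have hpush : Gens L → PicF.IsInvertible ((pushforward f).obj L) := fun h =>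
    AmpleLib.isInvertible_of_exists_isGen fun s => by
      obtain ⟨V, hsV, g, hg⟩ := h s
      exact ⟨V, _, hsV, isGen_push f happ hg⟩
  refine ⟨⟨?_, fun hb => ?_⟩, fun hb => ?_⟩
  · rintro ⟨L₀, h₀, he⟩
    have hgL := hbase L L₀ h₀ he
    exact ⟨hnt L hgL, hnt M (hinv hgL), hepi L hgL, hepi M (hinv hgL)⟩
  · have hgL := hB hb
    haveI := isIso_counit f happ hgL
    exact ⟨_, hpush hgL,
      ⟨(asIso ((pullbackPushforwardAdjunction f).counit.app L)).symm⟩⟩
  · have hgL := hB hb
    refine ⟨fun s => ⟨hrk L hgL s, hrk M (hinv hgL) s⟩, isIso_counit f happ hgL, ?_⟩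
    rintro L₀ h₀ ⟨e⟩
    haveI := isIso_unit f happ h₀
    exact ⟨(asIso ((pullbackPushforwardAdjunction f).unit.app L₀)).trans
      ((pushforward f).mapIso e.symm)⟩

end Groth.Agent.S16951
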