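import Groth.Statements.S1696
import Groth.Agent.IdealSh.Regular
import Groth.Agent.PullStalk.Basic
import Mathlib.RingTheory.Flat.TorsionFree
import Mathlib.RingTheory.Flat.Stability

set_option autoImplicit false
universe u
open CategoryTheory CategoryTheory.Limits AlgebraicGeometry TopologicalSpace
open SDiv

namespace Groth.Agent.S1696

/-- Let b : S' → S be the blowing-up of a scheme S in a quasi-coherent sheaf of ideals 𝓘 and F a
quasi-coherent O_S-module which is flat at every point of V(𝓘), the support of O_S/𝓘. Then the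
pullback b^*F is its own strict transform (via the identity map): no nonzero local section of b^*F
is annihilated by a power of the exceptional ideal. -/
theorem result {S S' : Scheme.{u}} (𝓘 : S.IdealSheafData) (b : S' ⟶ S) (hb : BlowUp.IsBlowUp b 𝓘)
    (F : S.Modules) (hF : Coh.IsQCoh F) (hflat : ∀ s : ↥S, s ∈ 𝓘.support → FlatMod.IsFlatAt F s) :
    BlowUp.IsStrictTransform b 𝓘 F ((Scheme.Modules.pullback b).obj F) (𝟙 _) := by
  refine ⟨inferInstance, fun V m => ⟨fun h => ⟨0, fun a _ => ?_⟩, fun ⟨n, hn⟩ => ?_⟩⟩
  · change m = 0 at h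
    rw [h, smul_zero]
  change m = 0
  let N := (Scheme.Modules.pullback b).obj F
  refine TopCat.Presheaf.section_ext (⟨N.presheaf, N.isSheaf⟩ : TopCat.Sheaf Ab S') V.1 _ _
    fun x hx => ?_
  obtain ⟨T, hxT, hTV, c, hc, hce⟩ :=
    Groth.Agent.IdealSh.EffCartier.exists_equation hb.1 x V.1 hx
  have h1 : ∀ a ∈ ((BlowUp.exceptional b 𝓘) ^ n).ideal T,
      a • N.presheaf.map (homOfLE hTV).op m = 0 := by
    intro a ha
    rw [← Scheme.IdealSheafData.map_ideal _ (U := T) (V := V) hTV] at ha
    induction ha using Submodule.span_induction with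
    | mem z hz =>
      obtain ⟨a, ha, rfl⟩ := hz
      refine (N.map_smul (homOfLE hTV) a m).symm.trans ?_
      refine (congrArg (N.presheaf.map (homOfLE hTV).op) (hn a ha)).trans ?_
      exact map_zero _
    | zero => exact zero_smul Γ(S', T.1) _
    | add _ _ _ _ h h' => rw [add_smul, h, h', add_zero]
    | smul r z _ h => rw [smul_eq_mul, mul_smul, h, smul_zero]
  have h2 : c ^ n • N.presheaf.map (homOfLE hTV).op m = 0 := by
    refine h1 _ ?_
    rw [Scheme.IdealSheafData.ideal_pow, Pi.pow_apply, hce, Ideal.span_singleton_pow]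
    exact Ideal.subset_span rfl
  have h3 : (S'.presheaf.germ T.1 x hxT c) ^ n •
      Groth.Agent.PullStalk.Sky.germM N T.1 x hxT (N.presheaf.map (homOfLE hTV).op m) = 0 := by
    rw [← map_pow]
    refine (Groth.Agent.PullStalk.Sky.germM_smul N T.1 x hxT _ _).symm.trans ?_
    rw [h2]
    exact map_zero (N.presheaf.germ T.1 x hxT).hom
  have hreg : IsSMulRegular (N.presheaf.stalk x) (S'.presheaf.germ T.1 x hxT c ^ n) := by
    by_cases hbx : b x ∈ 𝓘.support
    · letI := (b.stalkMap x).hom.toAlgebra
      letI := Groth.Agent.PullStalk.Basic.moduleOver b F x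
      have : IsScalarTower (S.presheaf.stalk (b x)) (S'.presheaf.stalk x) (N.presheaf.stalk x) :=
        IsScalarTower.of_algebraMap_smul fun _ _ => rfl
      have : Module.Flat (S.presheaf.stalk (b x)) (F.presheaf.stalk (b x)) := hflat _ hbx
      have : Module.Flat (S'.presheaf.stalk x) (N.presheaf.stalk x) :=
        Module.Flat.isBaseChange (S.presheaf.stalk (b x)) (S'.presheaf.stalk x)
          (F.presheaf.stalk (b x)) (N.presheaf.stalk x)
          (Groth.Agent.PullStalk.Basic.isBaseChange_unitStalk b F x)
      exact Module.Flat.isSMulRegular_of_nonZeroDivisors (pow_mem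
        (Groth.Agent.IdealSh.Regular.germ_mem_nonZeroDivisors T.2 x hxT hc) n)
    · have hxc : x ∈ S'.basicOpen c := by
        rw [← SetLike.mem_coe, Groth.Agent.IdealSh.Regular.basicOpen_eq_compl_support hce]
        refine ⟨hxT, fun hmem => hbx ?_⟩
        rw [SetLike.mem_coe, Scheme.IdealSheafData.support_comap] at hmem
        exact hmem
      exact (((S'.mem_basicOpen c x hxT).mp hxc).pow n).isSMulRegular _
  have h4 := hreg (h3.trans (smul_zero _).symm)
  refine ((N.presheaf.germ_res_apply (homOfLE hTV) x hxT m).symm.trans h4).trans ?_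
  exact (map_zero (N.presheaf.germ V.1 x hx).hom).symm

end Groth.Agent.S1696
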