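import Groth.Statements.S16962
import Mathlib.LinearAlgebra.TensorProduct.Basic

set_option autoImplicit false
universe u
open ConstAct

namespace Groth.Agent.S16962
section Aux
open TensorProduct

variable (R : Type u) [CommRing R] (B : Type u) [CommRing B] [Algebra R B]
  (Γ : Type u)

/-- the component of index `g` -/
noncomputable def comp' (g : Γ) : B ⊗[R] ConstGrp.F R Γ →ₐ[R] B :=
  (Algebra.TensorProduct.rid R R B).toAlgHom.comp
    (Algebra.TensorProduct.map (AlgHom.id R B) (ConstGrp.ev R g))

variable [Fintype Γ] [DecidableEq Γ]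

lemma comp'_tmul_e (b : B) (g h : Γ) :
    comp' R B Γ g (b ⊗ₜ ConstGrp.e R h) = if g = h then b else 0 := by
  simp [comp', ConstGrp.e_apply]

lemma eq_sum_comp' (t : B ⊗[R] ConstGrp.F R Γ) :
    t = ∑ g, comp' R B Γ g t ⊗ₜ ConstGrp.e R g := by
  induction t using TensorProduct.induction_on with
  | zero => simp
  | tmul b f =>
    conv_lhs => rw [ConstGrp.eq_sum_smul_e f, TensorProduct.tmul_sum]
    exact Finset.sum_congr rfl fun g _ => by simp [comp', TensorProduct.smul_tmul']
  | add a b ha hb =>
    simp only [map_add, TensorProduct.add_tmul, Finset.sum_add_distrib]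
    rw [← ha, ← hb]

variable [Group Γ] [HopfRep.Comod R (ConstGrp.F R Γ) B]
  [GLin.IsCoactAlg R (ConstGrp.F R Γ) B]

/-- the automorphism of index `g` -/
noncomputable def act' (g : Γ) : B →ₐ[R] B :=
  (comp' R B Γ g).comp (GLin.coactAlgHom R (ConstGrp.F R Γ) B)

lemma coact_eq_sum (b : B) : HopfRep.Comod.coact (k := R) (A := ConstGrp.F R Γ) b =
    ∑ g, act' R B Γ g b ⊗ₜ ConstGrp.e R g :=
  eq_sum_comp' R B Γ _

lemma act'_one (b : B) : act' R B Γ 1 b = b := by
  have h := congrArg (TensorProduct.rid R B)
    (LinearMap.congr_fun (HopfRep.Comod.counit_comp (k := R) (A := ConstGrp.F R Γ) (V := B)) b)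
  simpa [coact_eq_sum R B Γ b, ConstGrp.counit_e, ConstGrp.e_apply, ite_smul] using h

lemma act'_mul (g h : Γ) (b : B) : act' R B Γ (g * h) b = act' R B Γ g (act' R B Γ h b) := by
  have e := congrArg (fun t : B ⊗[R] (ConstGrp.F R Γ ⊗[R] ConstGrp.F R Γ) =>
      TensorProduct.rid R B (TensorProduct.map LinearMap.id
        ((ConstGrp.ev R (g, h)).comp (ConstGrp.pair R Γ)).toLinearMap t))
    (LinearMap.congr_fun (HopfRep.Comod.coassoc (k := R) (A := ConstGrp.F R Γ) (V := B)) b)
  simp only [LinearMap.comp_apply, LinearEquiv.coe_coe] at e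
  rw [coact_eq_sum R B Γ b] at e
  simp [map_sum, coact_eq_sum R B Γ, TensorProduct.sum_tmul, ConstGrp.e_apply,
    ConstGrp.pair_comul] at e
  have hs : ∀ x : Γ, (∑ x₁ : Γ, if h = x₁⁻¹ * x then if g = x₁ then (1 : R) else 0 else 0) =
      if g * h = x then 1 else 0 := fun x => by
    rw [Finset.sum_eq_single g]
    · simp [eq_inv_mul_iff_mul_eq]
    · intro y _ hy; simp [Ne.symm hy]
    · simp
  simp only [hs, ite_smul, one_smul, zero_smul, Finset.sum_ite_eq, Finset.mem_univ, if_true] at e
  exact e.symm

end Aux

open TensorProduct in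
/-- Let R be a commutative ring, Γ a finite group and B a commutative R-algebra equipped with a comodule
structure over the Hopf algebra of R-valued functions on Γ (the coordinate ring of the constant
group scheme of Γ over Spec R, with basis the indicator functions e_γ) whose coaction B → B ⊗ Fun(Γ,
R) is a homomorphism of algebras, i.e. an action of the constant group scheme on Spec B. Then there
is exactly one action of Γ on B by R-algebra automorphisms whose associated coaction b ↦ Σ_γ (γ · b)
⊗ e_γ is the given coaction; and for that action the ring of invariants of the comodule algebra (the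
b whose coaction is b ⊗ 1) equals the ring of elements fixed by Γ. (That the coaction associated
with an action is a comodule algebra structure is the other direction of the published equivalence
and is a construction here.) -/
theorem result (R : Type u) [CommRing R]
    (B : Type u) [CommRing B] [Algebra R B] (Γ : Type u) [Group Γ] [Fintype Γ] [DecidableEq Γ]
    [HopfRep.Comod R (ConstGrp.F R Γ) B] [GLin.IsCoactAlg R (ConstGrp.F R Γ) B] :
    ∃! a : MulSemiringAction Γ B, ∃ _ : SMulCommClass Γ R B,
      ConstAct.coactLin R B Γ = HopfRep.Comod.coact (k := R) (A := ConstGrp.F R Γ) (V := B) ∧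
        GLin.invariants R (ConstGrp.F R Γ) B = ConstAct.inv R B Γ := by
  let a : MulSemiringAction Γ B :=
    { smul := fun g b => act' R B Γ g b
      mul_smul := fun g h b => act'_mul R B Γ g h b
      one_smul := fun b => act'_one R B Γ b
      smul_zero := fun g => map_zero (act' R B Γ g)
      smul_add := fun g => map_add (act' R B Γ g)
      smul_one := fun g => map_one (act' R B Γ g)
      smul_mul := fun g => map_mul (act' R B Γ g) }
  let ac : SMulCommClass Γ R B := ⟨fun g r b => map_smul (act' R B Γ g) r b⟩
  have hco : ∀ b : B, ConstAct.coactLin R B Γ b =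
      HopfRep.Comod.coact (k := R) (A := ConstGrp.F R Γ) b := fun b => by
    rw [ConstAct.coactLin_apply, coact_eq_sum R B Γ b]
    rfl
  refine ⟨a, ⟨ac, LinearMap.ext hco, ?_⟩, ?_⟩
  · ext b
    rw [GLin.mem_invariants_iff, coact_eq_sum R B Γ b]
    constructor
    · intro hb g
      have := congrArg (comp' R B Γ g) hb
      simp [comp', ConstGrp.e_apply] at this
      exact this
    · intro hb
      rw [← ConstGrp.sum_e, TensorProduct.tmul_sum]
      exact Finset.sum_congr rfl fun g _ => by rw [show act' R B Γ g b = b from hb g]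
  · rintro a' ⟨ac', h', -⟩
    have hsmul : ∀ (g : Γ) (b : B), a'.smul g b = a.smul g b := fun g b => ?_
    · rcases a' with ⟨⟩
      congr 1
      ext g b
      exact hsmul g b
    have e := congrArg (comp' R B Γ g) (LinearMap.congr_fun h' b)
    rw [ConstAct.coactLin_apply, map_sum] at e
    simp only [comp'_tmul_e, Finset.sum_ite_eq, Finset.mem_univ, if_true] at e
    exact e

end Groth.Agent.S16962
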