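import Groth.Statements.S16963
import Mathlib.LinearAlgebra.TensorProduct.Basic

set_option autoImplicit false
universe u
open scoped BigOperators
open ConstAct

namespace Groth.Agent.S16963
section Aux
open TensorProduct

variable (R : Type u) [CommRing R] (B : Type u) [CommRing B] [Algebra R B]
  (Γ : Type u) [Group Γ] [Fintype Γ] [DecidableEq Γ]

lemma sum_tmul_e_inj {f f' : Γ → B}
    (h : ∑ g, f g ⊗ₜ[R] ConstGrp.e R g = ∑ g, f' g ⊗ₜ[R] ConstGrp.e R g) (g : Γ) : f g = f' g := by
  have := congrArg (fun t => TensorProduct.rid R B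
    ((ConstGrp.ev R g).toLinearMap.lTensor B t)) h
  simpa [map_sum, ConstGrp.e_apply] using this

end Aux

open TensorProduct in
/-- Let R be a commutative ring and Γ a finite group acting on a commutative R-algebra B by R-algebra
automorphisms; regard B as a comodule algebra over the Hopf algebra of R-valued functions on Γ (the
constant group scheme of Γ acting on Spec B) through the coaction b ↦ Σ_γ (γ · b) ⊗ e_γ. Then the
action is tame — there is a comodule map α from the Hopf algebra, with its regular coaction, to B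
with α(1) = 1 (a total integral) — if and only if the trace b ↦ Σ_γ γ · b, which takes values in the
ring of invariants B^Γ, maps B onto B^Γ. -/
theorem result (R : Type u) [CommRing R]
    (B : Type u) [CommRing B] [Algebra R B] (Γ : Type u) [Group Γ] [Fintype Γ] [DecidableEq Γ]
    [MulSemiringAction Γ B] [SMulCommClass Γ R B] :
    letI := ConstAct.comod R B Γ
    (∃ α : ConstGrp.F R Γ →ₗ[R] B, Hoch.IsComodHom (ConstGrp.F R Γ) α ∧ α 1 = 1) ↔
      ∀ c : B, c ∈ ConstAct.inv R B Γ → ∃ b : B, ∑ γ : Γ, γ • b = c := by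
  letI := ConstAct.comod R B Γ
  constructor
  · rintro ⟨α, hα, h1⟩ c hc
    have key : ∀ g k : Γ, g • α (ConstGrp.e R k) = α (ConstGrp.e R (k * g⁻¹)) := fun g k => by
      have e : ConstAct.coactLin R B Γ (α (ConstGrp.e R k)) =
          α.rTensor (ConstGrp.F R Γ) (Coalgebra.comul (R := R) (ConstGrp.e R k)) :=
        LinearMap.congr_fun hα (ConstGrp.e R k)
      rw [ConstAct.coactLin_apply, ConstGrp.comul_e, map_sum] at e
      simp only [LinearMap.rTensor_tmul] at e
      have e2 := e.trans (Fintype.sum_equiv ((Equiv.inv Γ).trans (Equiv.mulLeft k))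
        (fun g => α (ConstGrp.e R (k * g⁻¹)) ⊗ₜ[R] ConstGrp.e R g) _ (fun g => by simp)).symm
      exact sum_tmul_e_inj R B Γ e2 g
    refine ⟨c * α (ConstGrp.e R 1), ?_⟩
    have hsum : ∑ g : Γ, g • α (ConstGrp.e R 1) = 1 := by
      conv_rhs => rw [← h1, ← ConstGrp.sum_e (R := R) (G := Γ), map_sum]
      exact Fintype.sum_equiv (Equiv.inv Γ) _ _ fun g => by simp [key]
    simp_rw [smul_mul', (ConstAct.mem_inv R B Γ c).1 hc, ← Finset.mul_sum]
    rw [hsum, mul_one]
  · intro h
    obtain ⟨b, hb⟩ := h 1 ((ConstAct.mem_inv R B Γ 1).2 fun g => smul_one g)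
    let α : ConstGrp.F R Γ →ₗ[R] B := (ConstGrp.basis R Γ).constr R fun k => k⁻¹ • b
    have hα : ∀ k, α (ConstGrp.e R k) = k⁻¹ • b := fun k => by
      rw [← ConstGrp.basis_apply]
      exact Module.Basis.constr_basis _ _ _ _
    refine ⟨α, ?_, ?_⟩
    · refine ConstGrp.linearMap_ext fun k => ?_
      change ConstAct.coactLin R B Γ (α (ConstGrp.e R k)) =
        α.rTensor (ConstGrp.F R Γ) (Coalgebra.comul (R := R) (ConstGrp.e R k))
      rw [ConstAct.coactLin_apply, ConstGrp.comul_e, map_sum, hα]
      simp only [LinearMap.rTensor_tmul, hα]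
      refine Fintype.sum_equiv ((Equiv.inv Γ).trans (Equiv.mulLeft k)) _ _ fun g => ?_
      simp [smul_smul, mul_inv_rev]
    · rw [← ConstGrp.sum_e (R := R) (G := Γ), map_sum]
      simp only [hα]
      rw [← hb]
      exact Fintype.sum_equiv (Equiv.inv Γ) _ _ fun g => by simp

end Groth.Agent.S16963
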