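import Groth.Statements.S16966
import Groth.Agent.FFCurve.Slope
import Groth.Agent.S1521

set_option autoImplicit false
universe u
open CategoryTheory CategoryTheory.Limits AlgebraicGeometry Opposite
open Curves

namespace Groth.Agent.S16966

/-- Let X be a smooth projective curve over an algebraically closed field k of characteristic 0 (an
integral scheme, proper over k, of dimension one, with all local rings regular), of genus g ≥ 1, and
L an invertible O_X-module with deg L > 2g. Then the morphism to projective space given by the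
complete linear system of L is linearly stable, stated through the criterion by invertible
subsheaves: for every invertible module M and every monomorphism ι : M ⟶ L that is not an
isomorphism, with dim_k H^0(X, M) ≥ 2, one has deg L · (h^0(M) - 1) < deg M · (h^0(L) - 1), i.e. the
reduced degree deg M / (h^0(M) - 1) of the projection exceeds the reduced degree deg L / (h^0(L) -
1). Degrees are χ(·) - χ(O_X). -/
theorem result (k : Type u) [Field k] [IsAlgClosed k] [CharZero k] (X : Scheme.{u}) [X.Over (Spec (CommRingCat.of k))]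
    [IsIntegral X] [IsProper (X ↘ (Spec (CommRingCat.of k)))] (hdim : topologicalKrullDim X = 1)
    (hreg : ∀ x : X, IsRegularLocalRing (X.presheaf.stalk x))
    (hg : 1 ≤ Curv2.genus k X) (L : X.Modules) (hL : PicF.IsInvertible L)
    (hdeg : 2 * (Curv2.genus k X : ℤ) < Curv2.deg k X L 1)
    (M : X.Modules) (hM : PicF.IsInvertible M) (ι : M ⟶ L) [Mono ι] (hι : ¬ IsIso ι)
    (h2 : 2 ≤ Module.finrank k (Coh.HH X M 0)) :
    Curv2.deg k X L 1 * ((Module.finrank k (Coh.HH X M 0) : ℤ) - 1) <
      Curv2.deg k X M 1 * ((Module.finrank k (Coh.HH X L 0) : ℤ) - 1) := by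
  haveI := FFCurve.regCurve_of_regular k hdim hreg
  have hK := FFCurve.isFunctionField_of_isAlgClosed (X := X) k hdim
  have hL0 : (Module.finrank k (Coh.HH X L 0) : ℤ) = Curv2.deg k X L 1 + 1 - Curv2.genus k X := by
    rw [FFCurve.deg_eq k hdim hK hL, FFCurve.genus_eq_genus k hdim hK] at hdeg ⊢
    rw [FFCurve.finrank_zero k hdim hK hL]
    exact FF.ell_eq_of_deg_ge hK (by omega)
  have hlt : Curv2.deg k X M 1 < Curv2.deg k X L 1 := by
    have hne : ι ≠ 0 := fun e => by
      have hid : 𝟙 M = 0 := (cancel_mono ι).1 (by rw [e, comp_zero, comp_zero])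
      haveI : Subsingleton (Coh.HH X M 0) := by
        refine ⟨fun a b => (ProperFin.h0Sec M).injective ?_⟩
        have hz : ∀ σ : Γ(M, ⊤), σ = 0 := fun σ =>
          congrArg (fun φ : M ⟶ M => φ.app ⊤ σ) hid
        exact (hz _).trans (hz _).symm
      rw [Module.finrank_zero_of_subsingleton (M := Coh.HH X M 0)] at h2
      omega
    obtain ⟨hle, heq⟩ := S1521.result k X hdim M L hM hL ι hne
    exact lt_of_le_of_ne hle fun e => hι (heq e)
  obtain ⟨m, hm⟩ : ∃ m, Module.finrank k (Coh.HH X M 0) = m + 1 := ⟨_, (Nat.succ_pred_eq_of_pos (by omega)).symm⟩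
  have h := (FFCurve.slope_le hdim hreg hM (m := m) (by omega) hdeg.le hm.ge hlt.le).2 hg hdeg (Or.inl hlt)
  rw [hm, hL0]
  push_cast
  linarith

end Groth.Agent.S16966
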