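import Groth.Statements.S16969
import Groth.Agent.FFCurve.LinStab

set_option autoImplicit false
universe u
open CategoryTheory CategoryTheory.Limits AlgebraicGeometry Opposite
open Curves

set_option linter.style.haveILetI false
set_option backward.isDefEq.respectTransparency false
set_option backward.isDefEq.respectTransparency.types false
open CategoryTheory AlgebraicGeometry
namespace Groth.Agent.S16969

/-- Let X be a smooth projective curve over an algebraically closed field k of characteristic 0
(integral, proper over k, of dimension one, all local rings regular) of genus g ≥ 5 which is neither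
hyperelliptic nor trigonal (no invertible module of degree 2, resp. 3, with two k-linearly
independent global sections) and which, if g = 6, is not a plane curve (admits no closed immersion
into P^2_k over k). Let V ⊂ H^0(X, Ω_{X/k}) be a hyperplane without base points, given by g - 1
global sections σ_i : O_X ⟶ Ω_{X/k} that are k-linearly independent and generate Ω_{X/k} at every
point; V defines the projection of the canonical image of X from a point not on it. Then this
projection is linearly stable: for every m with 2 ≤ m < g - 1, every k-linearly independent family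
w_1, …, w_m of global sections of Ω_{X/k} lying in the k-span of the σ_i, and every invertible
module M with a monomorphism ι : M ⟶ Ω_{X/k} through whose global sections all the w_j factor, one
has deg Ω_{X/k} · (m - 1) < deg M · (g - 2); that is, every proper projection has reduced degree
larger than (2g - 2)/(g - 2). -/
theorem result (k : Type u) [Field k] [IsAlgClosed k] [CharZero k] (X : Scheme.{u}) [X.Over (Spec (CommRingCat.of k))]
    [IsIntegral X] [IsProper (X ↘ (Spec (CommRingCat.of k)))] (hdim : topologicalKrullDim X = 1)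
    (hreg : ∀ x : X, IsRegularLocalRing (X.presheaf.stalk x))
    (hg : 5 ≤ Curv2.genus k X)
    (hnh : ¬ ∃ (N : X.Modules) (t : Fin 2 → LinSer.Sect X N), LinSer.IsLinSer k X N 2 1 t)
    (hnt : ¬ ∃ (N : X.Modules) (t : Fin 2 → LinSer.Sect X N), LinSer.IsLinSer k X N 3 1 t)
    (hpl : Curv2.genus k X = 6 → ∀ i : X ⟶ CohB1.ProjSpace 2 k, IsClosedImmersion i →
      i ≫ CohB1.ProjSpace.toSpec 2 k ≠ X ↘ Spec (CommRingCat.of k))
    (σ : Fin (Curv2.genus k X - 1) → (Coh.structureModule X ⟶ Omega.sheaf (X ↘ (Spec (CommRingCat.of k)))))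
    (hσ : LinSer.LinIndep k X (Omega.sheaf (X ↘ (Spec (CommRingCat.of k)))) (fun i => PicF2.secVal (Omega.sheaf (X ↘ (Spec (CommRingCat.of k)))) (σ i) ⊤))
    (hbpf : ⨆ i, CohB1.genLocus (Omega.sheaf (X ↘ (Spec (CommRingCat.of k)))) (σ i) = ⊤) :
    ∀ (m : ℕ) (w : Fin m → LinSer.Sect X (Omega.sheaf (X ↘ (Spec (CommRingCat.of k))))), 2 ≤ m → m + 1 < Curv2.genus k X →
      LinSer.LinIndep k X (Omega.sheaf (X ↘ (Spec (CommRingCat.of k)))) w →
      (∀ j, ∃ c : Fin (Curv2.genus k X - 1) → k,
        w j = ∑ i, (Coh.toGlobal (X ↘ Spec (CommRingCat.of k)) (c i)) • PicF2.secVal (Omega.sheaf (X ↘ (Spec (CommRingCat.of k)))) (σ i) ⊤) →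
      ∀ (M : X.Modules) (ι : M ⟶ Omega.sheaf (X ↘ (Spec (CommRingCat.of k)))), PicF.IsInvertible M → Mono ι →
        (∀ j, ∃ v : LinSer.Sect X M, (ι.val.app (op ⊤)).hom v = w j) →
        Curv2.deg k X (Omega.sheaf (X ↘ (Spec (CommRingCat.of k)))) 1 * ((m : ℤ) - 1) < Curv2.deg k X M 1 * ((Curv2.genus k X : ℤ) - 2) := by
  haveI := FFCurve.regCurve_of_regular k hdim hreg
  haveI := FFCurve.smooth_of_regular (X ↘ Spec (CommRingCat.of k)) hreg
  have hK := FFCurve.isFunctionField_of_isAlgClosed (X := X) k hdim
  have hgen := FFCurve.genus_eq_genus (X := X) k hdim hK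
  have hΩ := FFCurve.isInvertible_omega (X := X) k hdim
  have hC := FFCurve.isCanonical_omega (X := X) k hdim
  have h2 : ∀ E, E.deg = ((2 : ℕ) : ℤ) → FunFld.ell E < 2 := FFCurve.ell_lt_two_of_no_linSer k hdim hnh
  have h1 := FF.index_one hK hC h2
  intro m w hm hm' hw hwσ M ι hM _ hv
  choose v hv using hv
  obtain ⟨hml, hs, hspan⟩ := FFCurve.exists_invariants k hdim hΩ hM ι (by omega) w hw v hv
  have hdC := FF.deg_canonical hK hC
  rw [FFCurve.deg_eq k hdim hK hΩ, FFCurve.deg_eq k hdim hK hM, hdC, hgen]
  rw [hgen] at hm'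
  have hrr := FF.riemann_roch hK hC (FFCurve.divOf k hdim hM)
  set D := FFCurve.divOf k hdim hM
  set C := FFCurve.divOf k hdim hΩ
  rw [hgen] at hg
  have h3 : ∀ E, E.deg = ((3 : ℕ) : ℤ) → FunFld.ell E < 2 := FFCurve.ell_lt_two_of_no_linSer k hdim hnt
  rcases (show FunFld.ell (C - D) = 1 ∨ 2 ≤ FunFld.ell (C - D) by omega) with hs1 | hs2
  · rcases (show (D.deg = 2 * (FunFld.genus k X.functionField : ℤ) - 3) ∨
        D.deg ≠ 2 * (FunFld.genus k X.functionField : ℤ) - 3 by omega) with hd | hd
    · rw [hd]; nlinarith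
    · have hm2 : (m : ℤ) ≤ D.deg + 2 - (FunFld.genus k X.functionField : ℤ) := by omega
      have hdle : D.deg ≤ 2 * (FunFld.genus k X.functionField : ℤ) - 2 := by
        by_contra h
        rw [FF.ell_eq_zero_of_deg_neg hK (D := C - D) (by rw [FF.deg_sub, hdC]; omega)] at hs
        omega
      rcases (show D.deg = 2 * (FunFld.genus k X.functionField : ℤ) - 2 ∨
        D.deg ≤ 2 * (FunFld.genus k X.functionField : ℤ) - 4 by omega) with hd' | hd'
      · rw [hd']; nlinarith
      · nlinarith
  · have hd2 : 2 * (FunFld.ell D : ℤ) ≤ D.deg := by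
      by_contra hlt
      have := h1 D (by omega) hs2
      rcases FF.exists_trigonal_or_quintic hK hC h1 (by omega) ⟨D, by omega, hs2, by omega⟩ with
        ⟨E, hEd, hEl⟩ | ⟨h6, E, hEd, hEl, hsep⟩
      · have := h3 E (by simpa using hEd); omega
      · obtain ⟨N, hN, a, ha, hND⟩ := FFCurve.exists_divOf_eq k hdim E
        have e : ∀ F, FunFld.ell (FFCurve.divOf k hdim hN - F) = FunFld.ell (E - F) := fun F => by
          rw [hND, show E - FunFld.div k a - F = E - F + FunFld.div k a⁻¹ by rw [FF.div_inv hK.1]; abel,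
            FF.ell_add_div hK (inv_ne_zero ha)]
        have e0 : FunFld.ell (FFCurve.divOf k hdim hN) = 3 := by
          have := e 0; rw [sub_zero, sub_zero] at this; omega
        obtain ⟨i, hi, hi', -⟩ := FFCurve.exists_closedImmersion_of_isSep_dim k hdim hN (n := 2) e0 (fun P Q => by
          rw [sub_sub, e, e0, ← sub_sub, ← hEl]
          exact hsep P Q)
        exact hpl (by omega) i hi hi'
    nlinarith

end Groth.Agent.S16969
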