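import Groth.Statements.S16972
import Groth.Agent.FFCurve.LinStab

set_option autoImplicit false
universe u
open CategoryTheory CategoryTheory.Limits AlgebraicGeometry Opposite
open Curves

set_option linter.style.haveILetI false
set_option backward.isDefEq.respectTransparency false
set_option backward.isDefEq.respectTransparency.types false
open CategoryTheory AlgebraicGeometry
namespace Groth.Agent.S16972

/-- Let X be a smooth projective curve over an algebraically closed field k of characteristic 0
(integral, proper over k, of dimension one, all local rings regular) of genus g ≥ 5 which is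
trigonal (carries an invertible module of degree 3 with two k-linearly independent global sections)
and not hyperelliptic (no such module of degree 2). Let V ⊂ H^0(X, Ω_{X/k}) be a hyperplane without
base points, given by g - 1 global sections σ_i : O_X ⟶ Ω_{X/k}, k-linearly independent and
generating Ω_{X/k} at every point, i.e. the projection of the canonical image from a point p not on
it; assume p lies on no trisecant line of the canonical curve: for every invertible module N with a
monomorphism ι : N ⟶ Ω_{X/k}, deg N = 2g - 5 and dim_k H^0(X, N) = g - 2 (so N = Ω_{X/k}(-D) for a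
divisor D of degree 3 moving in a pencil), some global section of N has image outside the k-span of
the σ_i. Then the projection is linearly stable: for every m with 2 ≤ m < g - 1, every k-linearly
independent family w_1, …, w_m of global sections of Ω_{X/k} in the span of the σ_i, and every
invertible module M with a monomorphism M ⟶ Ω_{X/k} through whose global sections all w_j factor,
deg Ω_{X/k} · (m - 1) < deg M · (g - 2). -/
theorem result (k : Type u) [Field k] [IsAlgClosed k] [CharZero k] (X : Scheme.{u}) [X.Over (Spec (CommRingCat.of k))]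
    [IsIntegral X] [IsProper (X ↘ (Spec (CommRingCat.of k)))] (hdim : topologicalKrullDim X = 1)
    (hreg : ∀ x : X, IsRegularLocalRing (X.presheaf.stalk x))
    (hg : 5 ≤ Curv2.genus k X)
    (hnh : ¬ ∃ (N : X.Modules) (t : Fin 2 → LinSer.Sect X N), LinSer.IsLinSer k X N 2 1 t)
    (htr : ∃ (N : X.Modules) (t : Fin 2 → LinSer.Sect X N), LinSer.IsLinSer k X N 3 1 t)
    (σ : Fin (Curv2.genus k X - 1) → (Coh.structureModule X ⟶ Omega.sheaf (X ↘ (Spec (CommRingCat.of k)))))
    (hσ : LinSer.LinIndep k X (Omega.sheaf (X ↘ (Spec (CommRingCat.of k)))) (fun i => PicF2.secVal (Omega.sheaf (X ↘ (Spec (CommRingCat.of k)))) (σ i) ⊤))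
    (hbpf : ⨆ i, CohB1.genLocus (Omega.sheaf (X ↘ (Spec (CommRingCat.of k)))) (σ i) = ⊤)
    (hsec : ∀ (N : X.Modules) (ι : N ⟶ Omega.sheaf (X ↘ (Spec (CommRingCat.of k)))), PicF.IsInvertible N → Mono ι →
      Curv2.deg k X N 1 + 5 = 2 * (Curv2.genus k X : ℤ) → Module.finrank k (Coh.HH X N 0) + 2 = Curv2.genus k X →
      ∃ v : LinSer.Sect X N, ∀ c : Fin (Curv2.genus k X - 1) → k,
        (ι.val.app (op ⊤)).hom v ≠ ∑ i, (Coh.toGlobal (X ↘ Spec (CommRingCat.of k)) (c i)) • PicF2.secVal (Omega.sheaf (X ↘ (Spec (CommRingCat.of k)))) (σ i) ⊤) :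
    ∀ (m : ℕ) (w : Fin m → LinSer.Sect X (Omega.sheaf (X ↘ (Spec (CommRingCat.of k))))), 2 ≤ m → m + 1 < Curv2.genus k X →
      LinSer.LinIndep k X (Omega.sheaf (X ↘ (Spec (CommRingCat.of k)))) w →
      (∀ j, ∃ c : Fin (Curv2.genus k X - 1) → k,
        w j = ∑ i, (Coh.toGlobal (X ↘ Spec (CommRingCat.of k)) (c i)) • PicF2.secVal (Omega.sheaf (X ↘ (Spec (CommRingCat.of k)))) (σ i) ⊤) →
      ∀ (M : X.Modules) (ι : M ⟶ Omega.sheaf (X ↘ (Spec (CommRingCat.of k)))), PicF.IsInvertible M → Mono ι →
        (∀ j, ∃ v : LinSer.Sect X M, (ι.val.app (op ⊤)).hom v = w j) →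
        Curv2.deg k X (Omega.sheaf (X ↘ (Spec (CommRingCat.of k)))) 1 * ((m : ℤ) - 1) < Curv2.deg k X M 1 * ((Curv2.genus k X : ℤ) - 2) := by
  haveI := FFCurve.regCurve_of_regular k hdim hreg
  haveI := FFCurve.smooth_of_regular (X ↘ Spec (CommRingCat.of k)) hreg
  have hK := FFCurve.isFunctionField_of_isAlgClosed (X := X) k hdim
  have hgen := FFCurve.genus_eq_genus (X := X) k hdim hK
  have hΩ := FFCurve.isInvertible_omega (X := X) k hdim
  have hC := FFCurve.isCanonical_omega (X := X) k hdim
  have h2 : ∀ E, E.deg = ((2 : ℕ) : ℤ) → FunFld.ell E < 2 := FFCurve.ell_lt_two_of_no_linSer k hdim hnh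
  have h1 := FF.index_one hK hC h2
  intro m w hm hm' hw hwσ M ι hM hι hv
  haveI := hι
  choose v hv using hv
  obtain ⟨hml, hs, hspan⟩ := FFCurve.exists_invariants k hdim hΩ hM ι (by omega) w hw v hv
  have hdC := FF.deg_canonical hK hC
  rw [FFCurve.deg_eq k hdim hK hΩ, FFCurve.deg_eq k hdim hK hM, hdC, hgen]
  rw [hgen] at hm'
  have hrr := FF.riemann_roch hK hC (FFCurve.divOf k hdim hM)
  set D := FFCurve.divOf k hdim hM
  set C := FFCurve.divOf k hdim hΩ
  rw [hgen] at hg
  obtain ⟨N₃, t₃, ht₃⟩ := htr
  obtain ⟨E, hEd, hEl⟩ := FFCurve.exists_ell_of_linSer k hdim ht₃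
  rcases (show FunFld.ell (C - D) = 1 ∨ 2 ≤ FunFld.ell (C - D) by omega) with hs1 | hs2
  · rcases (show (D.deg = 2 * (FunFld.genus k X.functionField : ℤ) - 3) ∨
        D.deg ≠ 2 * (FunFld.genus k X.functionField : ℤ) - 3 by omega) with hd | hd
    · rw [hd]; nlinarith
    · have hdle : D.deg ≤ 2 * (FunFld.genus k X.functionField : ℤ) - 2 := by
        by_contra h
        rw [FF.ell_eq_zero_of_deg_neg hK (D := C - D) (by rw [FF.deg_sub, hdC]; omega)] at hs
        omega
      have hm2 : (m : ℤ) ≤ D.deg + 2 - (FunFld.genus k X.functionField : ℤ) := by omega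
      rcases (show D.deg = 2 * (FunFld.genus k X.functionField : ℤ) - 2 ∨
        D.deg ≤ 2 * (FunFld.genus k X.functionField : ℤ) - 4 by omega) with hd' | hd'
      · rw [hd']; nlinarith
      · nlinarith
  · have hd1 := h1 D (by omega) hs2
    rcases (show 2 * (FunFld.ell D : ℤ) ≤ D.deg ∨ D.deg = 2 * (FunFld.ell D : ℤ) - 1 by omega) with hd | hd
    · nlinarith
    · rcases (show FunFld.ell D = 2 ∨ (3 ≤ FunFld.ell D ∧ 3 ≤ FunFld.ell (C - D)) ∨
        (3 ≤ FunFld.ell D ∧ FunFld.ell (C - D) = 2) by omega) with h | ⟨h, h'⟩ | ⟨h, h'⟩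
      · have : m = 2 := by omega
        subst this
        rw [hd, h]
        push_cast
        linarith
      · exact (FF.trigonal_class hK hC h2 (by simpa using hEd) hEl D h h' hd).elim
      · have hl : FunFld.ell D + 2 = FunFld.genus k X.functionField := by omega
        have hdd : D.deg + 5 = 2 * (FunFld.genus k X.functionField : ℤ) := by omega
        have hmlt : m ≠ FunFld.ell D := fun he => by
          obtain ⟨x, hx⟩ := hsec M ι hM inferInstance
            (by rw [FFCurve.deg_eq k hdim hK hM, hgen]; exact hdd)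
            (by rw [FFCurve.finrank_zero k hdim hK hM, hgen]; exact hl)
          obtain ⟨c, hc⟩ := hspan he.symm x
          choose d hd using hwσ
          refine hx (fun i => ∑ j, c j * d j i) (hc.trans ?_)
          simp only [hd, map_sum, map_mul, Finset.smul_sum, Finset.sum_smul, smul_smul]
          exact Finset.sum_comm
        have hm1 : (m : ℤ) + 3 ≤ (FunFld.genus k X.functionField : ℤ) := by omega
        have e : D.deg = 2 * (FunFld.genus k X.functionField : ℤ) - 5 := by omega
        rw [e]
        nlinarith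

end Groth.Agent.S16972
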