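import Groth.Statements.S16978
import Groth.Agent.FFCurve.Nondegenerate
import Groth.Agent.FFCurve.DoubleCover
import Groth.Agent.FFCurve.AlgClosed
import Groth.Agent.FF.Linear
import Groth.Agent.EulerChar.FiniteMap
import Groth.Agent.VBLib.Deg
import Groth.Agent.FFCurve.Smooth

set_option autoImplicit false
universe u
open CategoryTheory CategoryTheory.Limits AlgebraicGeometry Opposite
open Curves

set_option linter.style.haveILetI false
set_option backward.isDefEq.respectTransparency false
set_option backward.isDefEq.respectTransparency.types false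
open CategoryTheory AlgebraicGeometry
namespace Groth.Agent.S16978

/-- Let X be a smooth projective curve over an algebraically closed field k of characteristic 0
(integral, proper over k, of dimension one, all local rings regular), and L an invertible O_X-module
of degree d which is special (dim_k H^1(X, L) ≥ 1) with dim_k H^0(X, L) = r + 1. Suppose the map of
the complete linear system of L factors as X ⟶ Γ ⟶ Y ⟶ P^r_k where π : X ⟶ Γ is a k-morphism, finite
and flat of constant rank a, onto a smooth projective curve Γ over k of genus γ, Y ⟶ P^r_k is an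
integral closed subscheme, ψ : Γ ⟶ Y restricts to an isomorphism over a nonempty open subset of Y,
the pullback of O(1) along the composite embeds in L by a monomorphism ι, and every nonzero global
section of O(1) pulls back to a nonzero section (so the composite is the map of the complete linear
system, through an a-sheeted cover followed by a birational map). Then: (1) if a = 2, either 2r + 2γ
≤ d or 4r ≤ d; (2) if a ≥ 3, 3r ≤ d. Degrees are χ(·) - χ(O_X). -/
theorem result (k : Type u) [Field k] [IsAlgClosed k] [CharZero k] (X : Scheme.{u}) [X.Over (Spec (CommRingCat.of k))]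
    [IsIntegral X] [IsProper (X ↘ (Spec (CommRingCat.of k)))] (hdim : topologicalKrullDim X = 1)
    (hreg : ∀ x : X, IsRegularLocalRing (X.presheaf.stalk x))
    (L : X.Modules) (hL : PicF.IsInvertible L) (r : ℕ)
    (h0 : Module.finrank k (Coh.HH X L 0) = r + 1) (h1 : 1 ≤ Module.finrank k (Coh.HH X L 1))
    (Γ : Scheme.{u}) [Γ.Over (Spec (CommRingCat.of k))] [IsIntegral Γ] [IsProper (Γ ↘ (Spec (CommRingCat.of k)))]
    (hdimΓ : topologicalKrullDim Γ = 1) (hregΓ : ∀ y : Γ, IsRegularLocalRing (Γ.presheaf.stalk y))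
    (π : X ⟶ Γ) (hπ : π ≫ (Γ ↘ Spec (CommRingCat.of k)) = X ↘ Spec (CommRingCat.of k))
    [IsFinite π] [Flat π] (a : ℕ) (ha : ∀ y : Γ, Scheme.Hom.finrank π y = a)
    (Y : Scheme.{u}) [IsIntegral Y] (j : Y ⟶ CohB1.ProjSpace r k) [IsClosedImmersion j] (ψ : Γ ⟶ Y)
    (hψ : ψ ≫ j ≫ CohB1.ProjSpace.toSpec r k = Γ ↘ Spec (CommRingCat.of k))
    (hbir : ∃ U : Y.Opens, (U : Set Y).Nonempty ∧ IsIso (ψ ∣_ U))
    (ι : (Scheme.Modules.pullback (π ≫ ψ ≫ j)).obj (Twist.twistProjSpace r k 1) ⟶ L) [Mono ι]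
    (hnd : ∀ s : LinSer.Sect (CohB1.ProjSpace r k) (Twist.twistProjSpace r k 1), s ≠ 0 → OmegaSh.pullSect (π ≫ ψ ≫ j) (Twist.twistProjSpace r k 1) ⊤ s ≠ 0) :
    (a = 2 → 2 * (r : ℤ) + 2 * Curv2.genus k Γ ≤ Curv2.deg k X L 1 ∨ 4 * (r : ℤ) ≤ Curv2.deg k X L 1) ∧
      (3 ≤ a → 3 * (r : ℤ) ≤ Curv2.deg k X L 1) := by
  haveI := FFCurve.regCurve_of_regular k hdimΓ hregΓ
  haveI : IsLocallyNoetherian Γ := LocallyOfFiniteType.isLocallyNoetherian (Γ ↘ Spec (CommRingCat.of k))
  have hK := FFCurve.isFunctionField_of_isAlgClosed (X := Γ) k hdimΓ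
  let χ := ψ ≫ j
  have hχ : χ = ψ ≫ j := rfl
  have hψs : χ ≫ CohB1.ProjSpace.toSpec r k = Γ ↘ Spec (CommRingCat.of k) := by
    rw [hχ, Category.assoc]; exact hψ
  let O1 := Twist.twistProjSpace r k (1 : ℤ)
  set M := (Scheme.Modules.pullback χ).obj O1 with hM
  have hMi : PicF.IsInvertible M := PicLoc.isInvertible_pullback χ (ProjTwist.isInvertible_twistProjSpace r k 1)
  have hMc : Coh.IsCoh M := VBLib.isCoh_of_ofRank (VBLib.ofRank_one_of_invertible hMi)
  haveI := CurveCoh.finite_HH_zero (k := k) M (FFCurve.hv k hdimΓ) hdimΓ hMc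
  have hr1 : r + 1 ≤ Module.finrank k (Coh.HH Γ M 0) := FFCurve.succ_le_h0_pullback k χ hψs fun s hs =>
    FFCurve.pullSect_ne_zero_of_comp π χ O1 s (hnd s hs)
  rw [FFCurve.finrank_zero k hdimΓ hK hMi] at hr1
  set D := FFCurve.divOf k hdimΓ hMi with hD
  have eξ := FFCurve.map_genericPoint k hdim hdimΓ π
  have hres : π.residueDegree (genericPoint X) = a :=
    (FFCurve.GenericRank.finrank_genericPoint π eξ).symm.trans (ha _)
  have hdP := EulerChar.deg_pullback π hπ hdim hdimΓ eξ (ProjTwist.isFinLocFreeOfRank_one hMi)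
  rw [hres, FFCurve.deg_eq k hdimΓ hK hMi] at hdP
  have hiso : Curv2.euler k X ((Scheme.Modules.pullback π).obj M) =
      Curv2.euler k X ((Scheme.Modules.pullback (π ≫ χ)).obj O1) :=
    EulerChar.euler_iso k ((Scheme.Modules.pullbackComp π χ).app O1)
  haveI := FFCurve.smooth_of_regular (X ↘ Spec (CommRingCat.of k)) hreg
  haveI : IsProper (X ↘ Spec (CommRingCat.of k)) := inferInstance
  have hP : PicF.IsInvertible ((Scheme.Modules.pullback (π ≫ ψ ≫ j)).obj O1) :=
    PicLoc.isInvertible_pullback _ (ProjTwist.isInvertible_twistProjSpace r k 1)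
  have hle : Curv2.deg k X ((Scheme.Modules.pullback (π ≫ ψ ≫ j)).obj O1) 1 ≤ Curv2.deg k X L 1 := by
    have h := (VBLib.goodCurve_of_smooth (k := k) (X := X) hdim).dg_le_of_mono ι
      (VBLib.isCoh_of_ofRank (VBLib.ofRank_one_of_invertible hP)) (VBLib.isCoh_of_ofRank (VBLib.ofRank_one_of_invertible hL))
      ((VBLib.rk_eq (VBLib.ofRank_one_of_invertible hP)).trans (VBLib.rk_eq (VBLib.ofRank_one_of_invertible hL)).symm)
    rw [← VBLib.dg_eq (VBLib.ofRank_one_of_invertible hP), ← VBLib.dg_eq (VBLib.ofRank_one_of_invertible hL)] at h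
    exact h.1
  have hd2 : (a : ℤ) * D.deg ≤ Curv2.deg k X L 1 := by
    rw [← hdP, Curv2.deg, hiso, ← Curv2.deg]
    exact hle
  have hepos : 0 ≤ D.deg := by
    by_contra! hlt
    rw [FF.ell_eq_zero_of_deg_neg hK hlt] at hr1
    omega
  obtain ⟨P, -⟩ := FFCurve.exists_place_not_mem hK (∅ : Finset (FunFld.Place k Γ.functionField))
  have hgΓ := FFCurve.genus_eq_genus k hdimΓ hK
  rw [hgΓ]
  have key : 2 * (r : ℤ) ≤ D.deg ∨ ((r : ℤ) + FunFld.genus k Γ.functionField ≤ D.deg ∧ (r : ℤ) ≤ D.deg) := by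
    rcases le_or_gt D.deg (2 * (FunFld.genus k Γ.functionField : ℤ) - 1) with hle' | hgt
    · have := FF.clifford hK (FF.deg_eq_one hK P) hepos (by omega)
      left; omega
    · have := FF.ell_eq_of_deg_ge hK (D := D) (by omega)
      right; omega
  refine ⟨fun h2 => ?_, fun h3 => ?_⟩
  · subst h2
    push_cast at hd2
    omega
  · have h3' : 3 * D.deg ≤ (a : ℤ) * D.deg := mul_le_mul_of_nonneg_right (by exact_mod_cast h3) hepos
    omega

end Groth.Agent.S16978
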