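import Groth.Statements.S16979
import Mathlib

set_option autoImplicit false
universe u v
open CAlg

namespace Groth.Agent.S16979

/-- Let R be an integral domain with fraction field K and φ a square matrix over R whose characteristic
polynomial becomes separable in K[T] (equivalently, K[T] modulo the characteristic polynomial is
geometrically reduced over K). Then a polynomial f over R satisfies f(φ) = 0 exactly when the
characteristic polynomial of φ divides f in R[T]: the kernel of evaluation at φ (the minimal ideal
of φ) is the principal ideal generated by the characteristic polynomial. -/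
theorem result
    {R : Type u} [CommRing R] [IsDomain R] {n : Type v} [Fintype n] [DecidableEq n]
    (φ : Matrix n n R)
    (hsep : (φ.charpoly.map (algebraMap R (FractionRing R))).Separable) :
    RingHom.ker (Polynomial.aeval (R := R) φ) = Ideal.span {φ.charpoly} := by
  classical
  refine le_antisymm (fun f hf => ?_) ((Ideal.span_singleton_le_iff_mem _).2 (Matrix.aeval_self_charpoly φ))
  rw [Ideal.mem_span_singleton]
  let K := FractionRing R
  let L := AlgebraicClosure K
  let g : R →+* L := (algebraMap K L).comp (algebraMap R K)
  have hg : Function.Injective g := (algebraMap K L).injective.comp (IsFractionRing.injective R K)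
  rw [← Polynomial.map_dvd_map g hg φ.charpoly_monic]
  set φL := φ.map g
  have hc : φ.charpoly.map g = φL.charpoly := (Matrix.charpoly_map φ g).symm
  have hs : (φ.charpoly.map g).Separable := by
    rw [← Polynomial.map_map]; exact hsep.map
  have hf0 : Polynomial.aeval φL (f.map g) = 0 := by
    have h1 : Polynomial.aeval φL (f.map g) = g.mapMatrix (Polynomial.aeval φ f) := by
      rw [Polynomial.aeval_def, Polynomial.eval₂_map, Polynomial.aeval_def, Polynomial.hom_eval₂]
      congr 1
      ext a i j
      simp [Matrix.algebraMap_matrix_apply, apply_ite g]
    rw [h1, RingHom.mem_ker.1 hf, map_zero]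
  rcases eq_or_ne (f.map g) 0 with h0 | h0
  · rw [h0]; exact dvd_zero _
  refine (IsAlgClosed.splits _).dvd_of_roots_le_roots (φ.charpoly_monic.map g).ne_zero ?_
  rw [Multiset.le_iff_subset (Polynomial.nodup_roots hs)]
  intro μ hμ
  rw [Polynomial.mem_roots h0]
  have hn : Nonempty n := by
    by_contra hn
    rw [not_nonempty_iff] at hn
    rw [hc, Polynomial.mem_roots (φL.charpoly_monic).ne_zero, Matrix.charpoly, Matrix.det_isEmpty] at hμ
    simp at hμ
  have hspec : μ ∈ spectrum L φL := by
    rw [Matrix.mem_spectrum_iff_isRoot_charpoly, ← hc]
    exact (Polynomial.mem_roots (φ.charpoly_monic.map g).ne_zero).1 hμ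
  have h2 := spectrum.subset_polynomial_aeval φL (f.map g) ⟨μ, hspec, rfl⟩
  rw [hf0, spectrum.zero_eq] at h2
  exact h2

end Groth.Agent.S16979
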