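import Groth.Statements.S1698
import Groth.Agent.Depth47.KerTwo
import Groth.Agent.AssSch.Stalk
import Groth.Agent.FlatSect.Basic
import Groth.Agent.QCoh.Qcqs

set_option autoImplicit false
universe u
open CategoryTheory CategoryTheory.Limits AlgebraicGeometry TopologicalSpace
open SDiv

namespace Groth.Agent.S1698

open Groth.Agent.AssSch.Stalk TensorProduct

section Cover

variable {X S : Scheme.{u}} (f : X ⟶ S) {U : S.Opens} (hU : IsAffineOpen U) (s : ↥S) (hs : s ∈ U)

/-- Restriction of scalars to the sections over `U`. -/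
@[reducible] noncomputable def sectModule (F : X.Modules) {W : X.Opens} (e : W ≤ f ⁻¹ᵁ U) :
    Module Γ(S, U) Γ(F, W) :=
  Module.compHom _ (f.appLE U W e).hom

include hU in
/-- An affine open missing the fibre over `s`: some element outside the prime of `s` lies in the
extension of that prime. -/
theorem exists_mem_map (hsr : s ∉ Set.range fun x => f x) {W : X.Opens} (hW : IsAffineOpen W)
    (e : W ≤ f ⁻¹ᵁ U) :
    ∃ t, t ∉ primeOf hU s hs ∧
      (f.appLE U W e).hom t ∈ (primeOf hU s hs).map (f.appLE U W e).hom := by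
  by_contra h
  push Not at h
  have hdis : Disjoint ((primeOf hU s hs).map (f.appLE U W e).hom : Set Γ(X, W))
      ((primeOf hU s hs).primeCompl.map (f.appLE U W e).hom : Submonoid Γ(X, W)) := by
    rw [Set.disjoint_right]
    rintro _ ⟨t, ht, rfl⟩
    exact h t ht
  obtain ⟨P, hP, hle, hPd⟩ := Ideal.exists_le_prime_disjoint _ _ hdis
  have hcomap : P.comap (f.appLE U W e).hom = primeOf hU s hs := by
    refine le_antisymm (fun t ht => ?_) (Ideal.map_le_iff_le_comap.1 hle)
    by_contra hts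
    exact Set.disjoint_left.1 hPd ht ⟨t, hts, rfl⟩
  let x : X := hW.fromSpec (⟨P, hP⟩ : PrimeSpectrum Γ(X, W))
  have hx : x ∈ W := by
    have : x ∈ Set.range hW.fromSpec := Set.mem_range_self _
    rwa [hW.range_fromSpec] at this
  have hPx : hW.primeIdealOf ⟨x, hx⟩ = (⟨P, hP⟩ : PrimeSpectrum Γ(X, W)) :=
    hW.fromSpec.isOpenEmbedding.injective (hW.fromSpec_primeIdealOf ⟨x, hx⟩)
  have h1 := IsAffineOpen.comap_primeIdealOf_appLE (f := f) U hU W hW e hx
  rw [hPx] at h1
  have h2 : hU.primeIdealOf ⟨f x, e hx⟩ = hU.primeIdealOf ⟨s, hs⟩ :=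
    h1.symm.trans (PrimeSpectrum.ext hcomap)
  have h3 := congrArg hU.fromSpec h2
  rw [hU.fromSpec_primeIdealOf, hU.fromSpec_primeIdealOf] at h3
  exact hsr ⟨x, h3⟩

include hU in
theorem exists_smul_id_mem (hsr : s ∉ Set.range fun x => f x) (F : X.Modules) {ι : Type u}
    [Finite ι] (W : ι → X.Opens) (hW : ∀ i, IsAffineOpen (W i)) (e : ∀ i, W i ≤ f ⁻¹ᵁ U) :
    letI := fun i => sectModule f F (e i)
    ∃ t, t ∉ primeOf hU s hs ∧
      t • (LinearMap.id : (∀ i, Γ(F, W i)) →ₗ[Γ(S, U)] (∀ i, Γ(F, W i))) ∈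
        primeOf hU s hs • (⊤ : Submodule Γ(S, U) ((∀ i, Γ(F, W i)) →ₗ[Γ(S, U)] (∀ i, Γ(F, W i)))) := by
  classical
  letI := fun i => sectModule f F (e i)
  cases nonempty_fintype ι
  choose t ht htm using fun i => exists_mem_map f hU s hs hsr (hW i) (e i)
  refine ⟨∏ i, t i, fun h => ?_, ?_⟩
  · obtain ⟨i, -, hi⟩ := (Ideal.IsPrime.prod_mem_iff (hp := (hU.primeIdealOf ⟨s, hs⟩).isPrime)).1 h
    exact ht i hi
  have key : (∏ i, t i) • (LinearMap.id : (∀ i, Γ(F, W i)) →ₗ[Γ(S, U)] (∀ i, Γ(F, W i))) =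
      ∑ j, (∏ i, t i) • (LinearMap.single Γ(S, U) (fun i => Γ(F, W i)) j ∘ₗ LinearMap.proj j) := by
    refine LinearMap.ext fun v => funext fun i => ?_
    simp only [LinearMap.coe_sum, Finset.sum_apply, LinearMap.smul_apply, LinearMap.id_apply,
      LinearMap.comp_apply, LinearMap.coe_single, LinearMap.proj_apply, Pi.smul_apply]
    rw [Finset.sum_eq_single i (fun j _ hj => by rw [Pi.single_eq_of_ne (Ne.symm hj), smul_zero])
      (fun h => absurd (Finset.mem_univ i) h), Pi.single_eq_same]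
  rw [key]
  refine Submodule.sum_mem _ fun j _ => ?_
  rw [← Finset.prod_erase_mul _ _ (Finset.mem_univ j), mul_smul]
  refine Submodule.smul_mem _ _ ?_
  letI : Algebra Γ(S, U) Γ(X, W j) := (f.appLE U (W j) (e j)).hom.toAlgebra
  haveI : IsScalarTower Γ(S, U) Γ(X, W j) Γ(F, W j) :=
    IsScalarTower.of_algebraMap_smul fun _ _ => rfl
  let Φ : Γ(X, W j) →ₗ[Γ(S, U)] ((∀ i, Γ(F, W i)) →ₗ[Γ(S, U)] (∀ i, Γ(F, W i))) :=
    { toFun := fun g => LinearMap.single Γ(S, U) (fun i => Γ(F, W i)) j ∘ₗ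
        ((LinearMap.lsmul Γ(X, W j) Γ(F, W j) g).restrictScalars Γ(S, U)) ∘ₗ LinearMap.proj j
      map_add' := fun a b => by
        refine LinearMap.ext fun v => ?_
        simp [add_smul, Pi.single_add]
      map_smul' := fun a b => by
        refine LinearMap.ext fun v => ?_
        simp [smul_assoc, Pi.single_smul] }
  have h1 : t j • (LinearMap.single Γ(S, U) (fun i => Γ(F, W i)) j ∘ₗ LinearMap.proj j) =
      Φ (t j • (1 : Γ(X, W j))) := by
    rw [map_smul]
    refine LinearMap.ext fun v => ?_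
    simp [Φ]
  rw [h1]
  have h2 : t j • (1 : Γ(X, W j)) ∈ primeOf hU s hs • (⊤ : Submodule Γ(S, U) Γ(X, W j)) := by
    rw [Ideal.smul_top_eq_map, Algebra.smul_def, mul_one]
    exact htm j
  have h3 := Submodule.mem_map_of_mem (f := Φ) h2
  rw [Submodule.map_smul''] at h3
  exact Submodule.smul_mono le_rfl le_top h3

end Cover

theorem covered_tensor {A R N : Type u} [CommRing A] [CommRing R] [IsLocalRing R] [Algebra A R]
    [AddCommGroup N] [Module A N] (p : Ideal A)
    (hp : ∀ a ∈ p, algebraMap A R a ∈ IsLocalRing.maximalIdeal R)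
    (t : A) (ht : IsUnit (algebraMap A R t))
    (h : t • (LinearMap.id : N →ₗ[A] N) ∈ p • (⊤ : Submodule A (N →ₗ[A] N))) :
    Depth47.Covered (R := R) (R ⊗[A] N) := by
  have key : ∀ ψ ∈ p • (⊤ : Submodule A (N →ₗ[A] N)), ψ.baseChange R ∈
      IsLocalRing.maximalIdeal R • (⊤ : Submodule R ((R ⊗[A] N) →ₗ[R] (R ⊗[A] N))) := by
    intro ψ hψ
    refine Submodule.smul_induction_on hψ (fun a ha D _ => ?_) (fun x y hx hy => ?_)
    · rw [LinearMap.baseChange_smul, ← algebraMap_smul R a]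
      exact Submodule.smul_mem_smul (hp a ha) trivial
    · rw [LinearMap.baseChange_add]
      exact add_mem hx hy
  have h1 := key _ h
  rw [LinearMap.baseChange_smul, LinearMap.baseChange_id, ← algebraMap_smul R t] at h1
  unfold Depth47.Covered
  rwa [Submodule.smul_mem_iff_of_isUnit _ ht] at h1

theorem flat_pi {A : Type u} [CommRing A] {ι : Type u} [Finite ι] (N : ι → Type u)
    [∀ i, AddCommGroup (N i)] [∀ i, Module A (N i)] [∀ i, Module.Flat A (N i)] :
    Module.Flat A (∀ i, N i) := by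
  classical
  cases nonempty_fintype ι
  exact Module.Flat.of_linearEquiv DFinsupp.linearEquivFunOnFintype.symm

/-- Let f : X ⟶ S be quasi-compact and quasi-separated, F a quasi-coherent module on X and s a point of
S such that the stalk (f_* F)_s is a finite module over O_{S,s}. (3) If s is not in the image of f
and O_{S,s} is Noetherian, then (f_* F)_s has depth at least 2. (6) If F is flat over S, then (f_*
F)_s has depth at least min(2, depth O_{S,s}). -/
theorem result {X S : Scheme.{u}} (f : X ⟶ S) [QuasiCompact f] [QuasiSeparated f] (F : X.Modules)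
    (hF : Coh.IsQCoh F) (s : ↥S)
    [Module.Finite (S.presheaf.stalk s) (((Scheme.Modules.pushforward f).obj F).presheaf.stalk s)] :
    ((s ∉ Set.range (fun x => f x)) → IsNoetherianRing (S.presheaf.stalk s) →
        (2 : ℕ∞) ≤ LocCoh.depth (S.presheaf.stalk s) (((Scheme.Modules.pushforward f).obj F).presheaf.stalk s)) ∧
      (FlatMod.IsFlatOver f F →
        min (2 : ℕ∞) (LocCoh.depth (S.presheaf.stalk s) (S.presheaf.stalk s)) ≤
          LocCoh.depth (S.presheaf.stalk s) (((Scheme.Modules.pushforward f).obj F).presheaf.stalk s)) := by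
  classical
  obtain ⟨U, hU, hs, -⟩ :=
    exists_isAffineOpen_mem_and_subset (U := (⊤ : S.Opens)) (x := s) trivial
  haveI : F.IsQuasicoherent := hF
  let G := (Scheme.Modules.pushforward f).obj F
  haveI : G.IsQuasicoherent := Groth.Agent.QCoh.isQuasicoherent_pushforward f F
  -- finite affine covers
  have hcpt : IsCompact ((f ⁻¹ᵁ U : X.Opens) : Set X) :=
    f.isCompact_preimage hU.isCompact
  have hqs : IsQuasiSeparated ((f ⁻¹ᵁ U : X.Opens) : Set X) :=
    f.isQuasiSeparated_preimage hU.isQuasiSeparated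
  obtain ⟨I, hI, hIU⟩ := isCompact_and_isOpen_iff_finite_and_eq_biUnion_affineOpens.1 ⟨hcpt, (f ⁻¹ᵁ U).2⟩
  have hIle : ∀ i ∈ I, (i : X.Opens) ≤ f ⁻¹ᵁ U := fun i hi x hx => by
    change x ∈ ((f ⁻¹ᵁ U : X.Opens) : Set X)
    rw [hIU]
    exact Set.mem_biUnion hi hx
  haveI : Finite I := hI.to_subtype
  let V : I → X.Opens := fun i => (i : X.affineOpens)
  have hV : ∀ i, IsAffineOpen (V i) := fun i => (i : X.affineOpens).2
  have heV : ∀ i, V i ≤ f ⁻¹ᵁ U := fun i => hIle _ i.2
  have hcovV : f ⁻¹ᵁ U ≤ iSup V := fun x hx => by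
    change x ∈ ((f ⁻¹ᵁ U : X.Opens) : Set X) at hx
    rw [hIU] at hx
    obtain ⟨i, hi, hxi⟩ := Set.mem_iUnion₂.1 hx
    exact Opens.mem_iSup.2 ⟨⟨i, hi⟩, hxi⟩
  have hint : ∀ ij : I × I, ∃ J : Set X.affineOpens, J.Finite ∧
      ((V ij.1 ⊓ V ij.2 : X.Opens) : Set X) = ⋃ k ∈ J, ((k : X.Opens) : Set X) := fun ij =>
    isCompact_and_isOpen_iff_finite_and_eq_biUnion_affineOpens.1
      ⟨hqs _ _ (heV _) (V ij.1).2 (hV ij.1).isCompact (heV _) (V ij.2).2 (hV ij.2).isCompact,
        (V ij.1 ⊓ V ij.2).2⟩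
  choose J hJ hJU using hint
  haveI : ∀ ij, Finite (J ij) := fun ij => (hJ ij).to_subtype
  let K := Σ ij : I × I, ↥(J ij)
  let W : K → X.Opens := fun k => (k.2 : X.affineOpens)
  have hW : ∀ k, IsAffineOpen (W k) := fun k => (k.2 : X.affineOpens).2
  have hWle : ∀ k, W k ≤ V k.1.1 ⊓ V k.1.2 := fun k x hx => by
    change x ∈ ((V k.1.1 ⊓ V k.1.2 : X.Opens) : Set X)
    rw [hJU]
    exact Set.mem_biUnion k.2.2 hx
  have heW : ∀ k, W k ≤ f ⁻¹ᵁ U := fun k => (hWle k).trans (inf_le_left.trans (heV _))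
  letI := fun i => sectModule f F (heV i)
  letI := fun k => sectModule f F (heW k)
  have hres : ∀ {W₁ W₂ : X.Opens} (h : W₂ ≤ W₁) (e₁ : W₁ ≤ f ⁻¹ᵁ U) (a : Γ(S, U)) (v : Γ(F, W₁)),
      F.presheaf.map (homOfLE h).op ((f.appLE U W₁ e₁).hom a • v) =
        (f.appLE U W₂ (h.trans e₁)).hom a • F.presheaf.map (homOfLE h).op v := by
    intro W₁ W₂ h e₁ a v
    rw [Scheme.Modules.map_smul]
    exact congrArg (· • _) (ConcreteCategory.congr_hom (f.appLE_map e₁ (homOfLE h).op) a)
  let d₀ : Γ(G, U) →ₗ[Γ(S, U)] (∀ i, Γ(F, V i)) :=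
    { toFun := fun v i => F.presheaf.map (homOfLE (heV i)).op v
      map_add' := fun a b => funext fun i => map_add _ _ _
      map_smul' := fun a v => funext fun i => by
        have h := hres (heV i) le_rfl a (show Γ(F, f ⁻¹ᵁ U) from v)
        rw [← Scheme.Hom.app_eq_appLE] at h
        exact h }
  let d₁ : (∀ i, Γ(F, V i)) →ₗ[Γ(S, U)] (∀ k, Γ(F, W k)) :=
    { toFun := fun v k => F.presheaf.map (homOfLE ((hWle k).trans inf_le_left)).op (v k.1.1) -
        F.presheaf.map (homOfLE ((hWle k).trans inf_le_right)).op (v k.1.2)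
      map_add' := fun a b => funext fun k => by
        simp only [Pi.add_apply, map_add]
        abel
      map_smul' := fun a v => funext fun k => (congrArg₂ (· - ·)
        (hres ((hWle k).trans inf_le_left) (heV _) a (v k.1.1))
        (hres ((hWle k).trans inf_le_right) (heV _) a (v k.1.2))).trans (smul_sub _ _ _).symm }
  have hd₀ : Function.Injective d₀ := fun a b hab =>
    TopCat.Sheaf.eq_of_locally_eq' ⟨F.presheaf, F.isSheaf⟩ V (f ⁻¹ᵁ U)
      (fun i => homOfLE (heV i)) hcovV a b fun i => congrFun hab i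
  have hex : Function.Exact d₀ d₁ := by
    intro v
    constructor
    · intro hv
      have hcompat : TopCat.Presheaf.IsCompatible F.presheaf V v := by
        intro i j
        refine TopCat.Sheaf.eq_of_locally_eq' ⟨F.presheaf, F.isSheaf⟩
          (fun k : ↥(J (i, j)) => W ⟨(i, j), k⟩) (V i ⊓ V j)
          (fun k => homOfLE (hWle ⟨(i, j), k⟩)) (fun x hx => ?_) _ _ fun k => ?_
        · change x ∈ ((V i ⊓ V j : X.Opens) : Set X) at hx
          rw [hJU (i, j)] at hx
          obtain ⟨k, hk, hxk⟩ := Set.mem_iUnion₂.1 hx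
          exact Opens.mem_iSup.2 ⟨⟨k, hk⟩, hxk⟩
        · have h := sub_eq_zero.1 (congrFun hv ⟨(i, j), k⟩)
          rw [← ConcreteCategory.comp_apply, ← ConcreteCategory.comp_apply, ← Functor.map_comp,
            ← Functor.map_comp]
          exact h
      obtain ⟨g, hg, -⟩ := TopCat.Sheaf.existsUnique_gluing' ⟨F.presheaf, F.isSheaf⟩ V (f ⁻¹ᵁ U)
        (fun i => homOfLE (heV i)) hcovV v hcompat
      exact ⟨g, funext hg⟩
    · rintro ⟨g, rfl⟩
      refine funext fun k => sub_eq_zero.2 ?_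
      change F.presheaf.map _ (F.presheaf.map _ g) = F.presheaf.map _ (F.presheaf.map _ g)
      rw [← ConcreteCategory.comp_apply, ← ConcreteCategory.comp_apply, ← Functor.map_comp,
        ← Functor.map_comp]
      rfl
  -- localisation at `s`
  letI : Algebra Γ(S, U) (S.presheaf.stalk s) := (S.presheaf.germ U s hs).hom.toAlgebra
  haveI : IsLocalization.AtPrime (S.presheaf.stalk s) (primeOf hU s hs) :=
    hU.isLocalization_stalk ⟨s, hs⟩
  haveI : Module.Flat Γ(S, U) (S.presheaf.stalk s) :=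
    IsLocalization.flat _ (primeOf hU s hs).primeCompl
  letI : Module Γ(S, U) (G.presheaf.stalk s) := Module.compHom _ (S.presheaf.germ U s hs).hom
  haveI : IsScalarTower Γ(S, U) (S.presheaf.stalk s) (G.presheaf.stalk s) :=
    IsScalarTower.of_algebraMap_smul fun _ _ => rfl
  have hloc := isLocalizedModule_germLinear G hU s hs
  have hbc := (isLocalizedModule_iff_isBaseChange (primeOf hU s hs).primeCompl
    (S.presheaf.stalk s) (germLinear G s hs)).1 hloc
  let R := S.presheaf.stalk s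
  have hinjR : Function.Injective ((d₀.baseChange R).comp (hbc.equiv.symm.toLinearMap)) :=
    (Module.Flat.lTensor_preserves_injective_linearMap (M := R) d₀ hd₀).comp hbc.equiv.symm.injective
  have hexR : Function.Exact ((d₀.baseChange R).comp (hbc.equiv.symm.toLinearMap))
      (d₁.baseChange R) := by
    have h := Module.Flat.lTensor_exact R hex
    intro z
    refine (h z).trans ⟨fun ⟨w, hw⟩ => ⟨hbc.equiv w, ?_⟩, fun ⟨w, hw⟩ => ⟨_, hw⟩⟩
    simp only [LinearMap.comp_apply, LinearEquiv.coe_coe, LinearEquiv.symm_apply_apply]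
    exact hw
  refine ⟨fun hsr hnoeth => ?_, fun hflat => ?_⟩
  · obtain ⟨t, ht, htm⟩ := exists_smul_id_mem f hU s hs hsr F V hV heV
    obtain ⟨t', ht', htm'⟩ := exists_smul_id_mem f hU s hs hsr F W hW heW
    have hp : ∀ a ∈ primeOf hU s hs, algebraMap Γ(S, U) R a ∈ IsLocalRing.maximalIdeal R :=
      fun a ha => (IsLocalization.AtPrime.to_map_mem_maximal_iff R (primeOf hU s hs) a).2 ha
    exact Depth47.depth_ge_of_covered _ _ hinjR hexR
      (covered_tensor _ hp t (IsLocalization.map_units R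
        (⟨t, ht⟩ : (primeOf hU s hs).primeCompl)) htm)
      (covered_tensor _ hp t' (IsLocalization.map_units R
        (⟨t', ht'⟩ : (primeOf hU s hs).primeCompl)) htm')
  · haveI : ∀ i, Module.Flat Γ(S, U) Γ(F, V i) := fun i =>
      FlatSect.flat_sections_of_isFlatOverAt f hU (hV i) (heV i) F fun x _ => hflat x
    haveI : ∀ k, Module.Flat Γ(S, U) Γ(F, W k) := fun k =>
      FlatSect.flat_sections_of_isFlatOverAt f hU (hW k) (heW k) F fun x _ => hflat x
    haveI := flat_pi (A := Γ(S, U)) (fun i => Γ(F, V i))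
    haveI := flat_pi (A := Γ(S, U)) (fun k => Γ(F, W k))
    exact Depth47.depth_ge_of_flat _ _ hinjR hexR

end Groth.Agent.S1698
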