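import Groth.Statements.S16980
import Mathlib

set_option autoImplicit false
universe u
open CAlg

namespace Groth.Agent.S16980

open TrivSqZeroExt

theorem nzd {A : Type u} [CommRing A] (t : A) (g : Polynomial (Polynomial A))
    (hg : g * (Polynomial.X * Polynomial.C Polynomial.X - Polynomial.C (Polynomial.C t)) = 0) : g = 0 := by
  by_contra hne
  have h1 := congrArg (fun p : Polynomial (Polynomial A) => p.coeff (g.natDegree + 1)) hg
  simp only [mul_sub, ← mul_assoc, Polynomial.coeff_sub, Polynomial.coeff_mul_C, Polynomial.coeff_mul_X,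
    Polynomial.coeff_eq_zero_of_natDegree_lt (Nat.lt_succ_self g.natDegree), zero_mul, sub_zero,
    Polynomial.coeff_zero] at h1
  have h2 := (Polynomial.coeff_mul_X g.leadingCoeff)
  refine hne (Polynomial.leadingCoeff_eq_zero.mp (Polynomial.ext fun n => ?_))
  rw [← h2 n]
  exact (congrArg (fun p : Polynomial A => p.coeff (n + 1)) h1).trans (by simp)

theorem jointly_injective {A : Type u} [CommRing A] (t : A) (f : Polynomial (Polynomial A))
    (hx : f * Polynomial.X ∈ Ideal.span
      {Polynomial.X * Polynomial.C Polynomial.X - Polynomial.C (Polynomial.C t)})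
    (hy : f * Polynomial.C Polynomial.X ∈ Ideal.span
      {Polynomial.X * Polynomial.C Polynomial.X - Polynomial.C (Polynomial.C t)}) :
    f ∈ Ideal.span {Polynomial.X * Polynomial.C Polynomial.X - Polynomial.C (Polynomial.C t)} := by
  obtain ⟨g, hg⟩ := Ideal.mem_span_singleton'.mp hx
  obtain ⟨h, hh⟩ := Ideal.mem_span_singleton'.mp hy
  have e : g * Polynomial.C Polynomial.X = h * Polynomial.X := by
    refine sub_eq_zero.mp (nzd t _ ?_)
    linear_combination Polynomial.C Polynomial.X * hg - Polynomial.X * hh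
  have h0 : g.coeff 0 = 0 := by
    have h1 := congrArg (fun p : Polynomial (Polynomial A) => p.coeff 0) e
    simp only [Polynomial.coeff_mul_C, Polynomial.coeff_mul_X_zero] at h1
    refine Polynomial.ext fun n => ?_
    rw [← Polynomial.coeff_mul_X (g.coeff 0) n, h1]
    simp
  obtain ⟨g', rfl⟩ := Polynomial.X_dvd_iff.mpr h0
  refine Ideal.mem_span_singleton'.mpr ⟨g', ?_⟩
  have hreg : IsRegular (Polynomial.X : Polynomial (Polynomial A)) := Polynomial.monic_X.isRegular
  apply hreg.right
  show _ * Polynomial.X = f * Polynomial.X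
  rw [← hg]; ring

variable {A : Type u} [CommRing A] {J : Type u} [AddCommGroup J] [Module A J] [Module Aᵐᵒᵖ J]
    [IsCentralScalar A J] {τ : TrivSqZeroExt A J}
    {B' : Type u} [CommRing B'] [Algebra (TrivSqZeroExt A J) B'] [Algebra A B']
    [IsScalarTower A (TrivSqZeroExt A J) B'] {x y : B'}

/-- The data: `B' = A'[x,y]/(xy - τ)`. -/
structure Pres (τ : TrivSqZeroExt A J) (x y : B') : Prop where
  surj : Function.Surjective
      (MvPolynomial.aeval ![x, y] : MvPolynomial (Fin 2) (TrivSqZeroExt A J) →ₐ[TrivSqZeroExt A J] B')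
  ker : RingHom.ker
      (MvPolynomial.aeval ![x, y] : MvPolynomial (Fin 2) (TrivSqZeroExt A J) →ₐ[TrivSqZeroExt A J] B') =
      Ideal.span {MvPolynomial.X 0 * MvPolynomial.X 1 - MvPolynomial.C τ}

omit [Algebra A B'] [IsScalarTower A (TrivSqZeroExt A J) B'] in
theorem Pres.mul_eq (hp : Pres τ x y) : x * y = algebraMap (TrivSqZeroExt A J) B' τ := by
  have : (MvPolynomial.X 0 * MvPolynomial.X 1 - MvPolynomial.C τ :
      MvPolynomial (Fin 2) (TrivSqZeroExt A J)) ∈ RingHom.ker
        (MvPolynomial.aeval ![x, y] : MvPolynomial (Fin 2) (TrivSqZeroExt A J) →ₐ[TrivSqZeroExt A J] B') := by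
    rw [hp.ker]; exact Ideal.mem_span_singleton_self _
  rw [RingHom.mem_ker, map_sub, map_mul, MvPolynomial.aeval_C, MvPolynomial.aeval_X,
    MvPolynomial.aeval_X, sub_eq_zero] at this
  exact this

omit [Algebra A B'] [IsScalarTower A (TrivSqZeroExt A J) B'] in
theorem Pres.hom_ext (hp : Pres τ x y) {C : Type u} [CommRing C] {f g : B' →+* C}
    (h₁ : ∀ a, f (algebraMap (TrivSqZeroExt A J) B' a) = g (algebraMap (TrivSqZeroExt A J) B' a))
    (h₂ : f x = g x) (h₃ : f y = g y) (b : B') : f b = g b := by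
  obtain ⟨F, rfl⟩ := hp.surj b
  induction F using MvPolynomial.induction_on with
  | C a => rw [MvPolynomial.aeval_C]; exact h₁ a
  | add p q hpp hq => rw [map_add, map_add, map_add, hpp, hq]
  | mul_X p i hpp =>
    rw [map_mul, map_mul, map_mul, hpp, MvPolynomial.aeval_X]
    fin_cases i
    · exact congrArg _ h₂
    · exact congrArg _ h₃

omit [Algebra A B'] [IsScalarTower A (TrivSqZeroExt A J) B'] in
theorem Pres.exists_lift (hp : Pres τ x y) {C : Type u} [CommRing C] (h : TrivSqZeroExt A J →+* C)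
    (a b : C) (hab : a * b = h τ) :
    ∃ Φ : B' →+* C, (∀ r, Φ (algebraMap (TrivSqZeroExt A J) B' r) = h r) ∧ Φ x = a ∧ Φ y = b := by
  have hle : RingHom.ker (MvPolynomial.aeval ![x, y] :
      MvPolynomial (Fin 2) (TrivSqZeroExt A J) →ₐ[TrivSqZeroExt A J] B').toRingHom ≤
        RingHom.ker (MvPolynomial.eval₂Hom h ![a, b]) := by
    refine le_trans (le_of_eq hp.ker) (Ideal.span_singleton_le_iff_mem _ |>.mpr ?_)
    rw [RingHom.mem_ker, map_sub, map_mul, MvPolynomial.eval₂Hom_C, MvPolynomial.eval₂Hom_X',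
      MvPolynomial.eval₂Hom_X', sub_eq_zero]
    exact hab
  refine ⟨RingHom.liftOfSurjective _ hp.surj ⟨_, hle⟩, fun r => ?_, ?_, ?_⟩
  · have := RingHom.liftOfRightInverse_comp_apply (MvPolynomial.aeval ![x, y] :
      MvPolynomial (Fin 2) (TrivSqZeroExt A J) →ₐ[TrivSqZeroExt A J] B').toRingHom _
      (Function.rightInverse_surjInv hp.surj) ⟨_, hle⟩ (MvPolynomial.C r)
    simp only [MvPolynomial.eval₂Hom_C] at this
    rwa [show (MvPolynomial.aeval ![x, y] :
      MvPolynomial (Fin 2) (TrivSqZeroExt A J) →ₐ[TrivSqZeroExt A J] B').toRingHom (MvPolynomial.C r) = _ from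
      MvPolynomial.aeval_C _ r] at this
  all_goals first
  | (have := RingHom.liftOfRightInverse_comp_apply (MvPolynomial.aeval ![x, y] :
        MvPolynomial (Fin 2) (TrivSqZeroExt A J) →ₐ[TrivSqZeroExt A J] B').toRingHom _
        (Function.rightInverse_surjInv hp.surj) ⟨_, hle⟩ (MvPolynomial.X 0)
     simp only [MvPolynomial.eval₂Hom_X'] at this
     rwa [show (MvPolynomial.aeval ![x, y] :
       MvPolynomial (Fin 2) (TrivSqZeroExt A J) →ₐ[TrivSqZeroExt A J] B').toRingHom (MvPolynomial.X 0) = x from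
       MvPolynomial.aeval_X _ _] at this)
  | (have := RingHom.liftOfRightInverse_comp_apply (MvPolynomial.aeval ![x, y] :
        MvPolynomial (Fin 2) (TrivSqZeroExt A J) →ₐ[TrivSqZeroExt A J] B').toRingHom _
        (Function.rightInverse_surjInv hp.surj) ⟨_, hle⟩ (MvPolynomial.X 1)
     simp only [MvPolynomial.eval₂Hom_X'] at this
     rwa [show (MvPolynomial.aeval ![x, y] :
       MvPolynomial (Fin 2) (TrivSqZeroExt A J) →ₐ[TrivSqZeroExt A J] B').toRingHom (MvPolynomial.X 1) = y from
       MvPolynomial.aeval_X _ _] at this)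

theorem Pres.ann (hp : Pres τ x y)
    (c : B' ⧸ Ideal.map (algebraMap (TrivSqZeroExt A J) B') (TrivSqZeroExt.kerIdeal A J))
    (hcx : c * Ideal.Quotient.mk _ x = 0) (hcy : c * Ideal.Quotient.mk _ y = 0) : c = 0 := by
  let I : Ideal B' := Ideal.map (algebraMap (TrivSqZeroExt A J) B') (TrivSqZeroExt.kerIdeal A J)
  let P : Ideal (Polynomial (Polynomial A)) := Ideal.span
      {Polynomial.X * Polynomial.C Polynomial.X - Polynomial.C (Polynomial.C τ.fst)}
  let base : TrivSqZeroExt A J →+* Polynomial (Polynomial A) ⧸ P :=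
      ((Ideal.Quotient.mk P).comp (Polynomial.C.comp Polynomial.C)).comp (TrivSqZeroExt.fstHom A A J)
  obtain ⟨θ, hθa, hθx, hθy⟩ := hp.exists_lift base (Ideal.Quotient.mk P Polynomial.X)
    (Ideal.Quotient.mk P (Polynomial.C Polynomial.X)) (by
      rw [← map_mul]
      show _ = Ideal.Quotient.mk P (Polynomial.C (Polynomial.C τ.fst))
      rw [Ideal.Quotient.eq]
      exact Ideal.mem_span_singleton_self _)
  have hθI : I ≤ RingHom.ker θ := by
    refine Ideal.map_le_iff_le_comap.mpr fun a ha => ?_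
    rw [Ideal.mem_comap, RingHom.mem_ker, hθa, (TrivSqZeroExt.mem_kerIdeal_iff_inr A J _).mp ha]
    simp [base]
  have hfst : ∀ a : TrivSqZeroExt A J,
      Ideal.Quotient.mk I (algebraMap (TrivSqZeroExt A J) B' a) =
        Ideal.Quotient.mk I (algebraMap A B' a.fst) := by
    intro a
    rw [Ideal.Quotient.eq, IsScalarTower.algebraMap_apply A (TrivSqZeroExt A J) B', ← map_sub]
    refine Ideal.mem_map_of_mem _ ?_
    rw [TrivSqZeroExt.mem_kerIdeal_iff_inr, TrivSqZeroExt.algebraMap_eq_inl]
    exact TrivSqZeroExt.ext (by simp) (by simp)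
  let θb : B' ⧸ I →+* Polynomial (Polynomial A) ⧸ P := Ideal.Quotient.lift I θ fun a ha => hθI ha
  let σ₀ : Polynomial (Polynomial A) →+* B' ⧸ I := (Ideal.Quotient.mk I).comp
      (Polynomial.eval₂RingHom (Polynomial.eval₂RingHom (algebraMap A B') y) x)
  have hσP : ∀ a ∈ P, σ₀ a = 0 := by
    intro a ha
    obtain ⟨r, rfl⟩ := Ideal.mem_span_singleton'.mp ha
    have h0 : σ₀ (Polynomial.X * Polynomial.C Polynomial.X - Polynomial.C (Polynomial.C τ.fst)) = 0 := by
      simp only [σ₀, RingHom.comp_apply, map_sub, map_mul, Polynomial.coe_eval₂RingHom,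
        Polynomial.eval₂_X, Polynomial.eval₂_C]
      rw [← map_mul, hp.mul_eq, hfst, sub_self]
    rw [map_mul, h0, mul_zero]
  let σ := Ideal.Quotient.lift P σ₀ hσP
  have hid : ∀ b : B' ⧸ I, σ (θb b) = b := by
    intro b
    obtain ⟨b, rfl⟩ := Ideal.Quotient.mk_surjective b
    refine hp.hom_ext (f := σ.comp θ) (g := Ideal.Quotient.mk I) (fun a => ?_) ?_ ?_ b
    · rw [RingHom.comp_apply, hθa, hfst]; simp [base, σ, σ₀]
    · rw [RingHom.comp_apply, hθx]; simp [σ, σ₀]
    · rw [RingHom.comp_apply, hθy]; simp [σ, σ₀]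
  obtain ⟨f, hf⟩ := Ideal.Quotient.mk_surjective (θb c)
  have h1 : f * Polynomial.X ∈ P := by
    rw [← Ideal.Quotient.eq_zero_iff_mem, map_mul, hf, ← hθx]
    exact (map_mul θb c (Ideal.Quotient.mk I x)).symm.trans (by rw [hcx, map_zero])
  have h2 : f * Polynomial.C Polynomial.X ∈ P := by
    rw [← Ideal.Quotient.eq_zero_iff_mem, map_mul, hf, ← hθy]
    exact (map_mul θb c (Ideal.Quotient.mk I y)).symm.trans (by rw [hcy, map_zero])
  exact (hid c).symm.trans ((congrArg σ (hf.symm.trans
    (Ideal.Quotient.eq_zero_iff_mem.mpr (jointly_injective _ f h1 h2)))).trans (map_zero σ))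

theorem eq_zero_of_kerToTensor {A B' M : Type u} [CommRing A] [CommRing B'] [Algebra A B']
    (I : Ideal B') [AddCommGroup M] [Module (B' ⧸ I) M] (f : B' → M)
    (hadd : ∀ a b, f (a + b) = f a + f b)
    (hmul : ∀ a b, f (a * b) = Ideal.Quotient.mk I a • f b + Ideal.Quotient.mk I b • f a)
    (hA : ∀ a : A, f (algebraMap A B' a) = 0) {i : B'}
    (hi : i ∈ RingHom.ker (algebraMap B' (B' ⧸ I)))
    (hz : KaehlerDifferential.kerToTensor A B' (B' ⧸ I) ⟨i, hi⟩ = 0) : f i = 0 := by
  letI : Module B' M := Module.compHom M (Ideal.Quotient.mk I)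
  letI : Module A M := Module.compHom M (algebraMap A B')
  haveI : IsScalarTower B' (B' ⧸ I) M := IsScalarTower.of_algebraMap_smul fun _ _ => rfl
  haveI : IsScalarTower A B' M := IsScalarTower.of_algebraMap_smul fun _ _ => rfl
  let D : Derivation A B' M := Derivation.mk'
    { toFun := f
      map_add' := hadd
      map_smul' := fun a b => by
        rw [Algebra.smul_def, hmul, hA, smul_zero, add_zero]
        rfl }
    fun a b => hmul a b
  have h0 := congrArg (LinearMap.liftBaseChange (B' ⧸ I) D.liftKaehlerDifferential) hz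
  rw [KaehlerDifferential.kerToTensor_apply, map_zero, LinearMap.liftBaseChange_tmul, one_smul,
    Derivation.liftKaehlerDifferential_comp_D] at h0
  exact h0

/-- Let A be a commutative ring, J an A-module, A′ = A ⊕ εJ the trivial square-zero extension of A by J,
and τ any element of A′. Let B′ be the A′-algebra A′[x,y]/(xy − τ), presented by two generators x, y
with the evaluation map from the polynomial ring in two variables over A′ surjective and with kernel
generated by XY − τ. Let I ⊆ B′ be the ideal generated by the square-zero ideal J of A′, so that B =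
B′/I is A[x,y]/(xy − t) with t the A-component of τ. Then the first map of the conormal sequence of
B′ → B relative to A, namely I → B ⊗_{B′} Ω_{B′/A}, i ↦ 1 ⊗ di, is injective (so the sequence 0 → I
→ B ⊗_{B′} Ω_{B′/A} → Ω_{B/A} → 0 is exact on the left as well; this is the local computation at a
node for first-order deformations of nodal curves). -/
theorem result
    (A : Type u) [CommRing A] (J : Type u) [AddCommGroup J] [Module A J] [Module Aᵐᵒᵖ J]
    [IsCentralScalar A J] (τ : TrivSqZeroExt A J)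
    (B' : Type u) [CommRing B'] [Algebra (TrivSqZeroExt A J) B'] [Algebra A B']
    [IsScalarTower A (TrivSqZeroExt A J) B'] (x y : B')
    (hsurj : Function.Surjective
      (MvPolynomial.aeval ![x, y] : MvPolynomial (Fin 2) (TrivSqZeroExt A J) →ₐ[TrivSqZeroExt A J] B'))
    (hker : RingHom.ker
      (MvPolynomial.aeval ![x, y] : MvPolynomial (Fin 2) (TrivSqZeroExt A J) →ₐ[TrivSqZeroExt A J] B') =
      Ideal.span {MvPolynomial.X 0 * MvPolynomial.X 1 - MvPolynomial.C τ}) :
    Function.Injective (KaehlerDifferential.kerToTensor A B'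
      (B' ⧸ Ideal.map (algebraMap (TrivSqZeroExt A J) B') (TrivSqZeroExt.kerIdeal A J))) := by
  have hp : Pres τ x y := ⟨hsurj, hker⟩
  let I : Ideal B' := Ideal.map (algebraMap (TrivSqZeroExt A J) B') (TrivSqZeroExt.kerIdeal A J)
  let B := B' ⧸ I
  have hI2 : I ^ 2 = ⊥ := by rw [← Ideal.map_pow, TrivSqZeroExt.kerIdeal_sq, Ideal.map_bot]
  let α : TrivSqZeroExt A J →+* B' := algebraMap (TrivSqZeroExt A J) B'
  have hmemI : ∀ m : J, α (inr m) ∈ I := fun m =>
    Ideal.mem_map_of_mem _ (by rw [TrivSqZeroExt.mem_kerIdeal_iff_inr, TrivSqZeroExt.snd_inr])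
  let r : I.Cotangent × B × B :=
    (-(I.toCotangent ⟨α (inr τ.snd), hmemI _⟩), Ideal.Quotient.mk I y, Ideal.Quotient.mk I x)
  let M := (I.Cotangent × B × B) ⧸ Submodule.span B {r}
  letI : Module Bᵐᵒᵖ M := Module.compHom M ((RingHom.id B).fromOpposite mul_comm)
  haveI : IsCentralScalar B M := ⟨fun _ _ => rfl⟩
  let q : (I.Cotangent × B × B) →ₗ[B] M := Submodule.mkQ _
  let u : TrivSqZeroExt A J → M := fun a => q (I.toCotangent ⟨α (inr a.snd), hmemI _⟩, 0, 0)
  have u_add : ∀ a b, u (a + b) = u a + u b := fun a b => by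
    have : (⟨α (inr (a + b).snd), hmemI _⟩ : I) = ⟨α (inr a.snd), hmemI _⟩ + ⟨α (inr b.snd), hmemI _⟩ :=
      Subtype.ext (by simp [TrivSqZeroExt.inr_add])
    simp only [u, ← map_add, Prod.mk_add_mk, add_zero, this]
  have u_mul : ∀ a b, u (a * b) =
      Ideal.Quotient.mk I (α a) • u b + Ideal.Quotient.mk I (α b) • u a := fun a b => by
    have e : (inr (a * b).snd : TrivSqZeroExt A J) = a * inr b.snd + b * inr a.snd := by
      refine TrivSqZeroExt.ext (by simp) ?_
      simp
    have : (⟨α (inr (a * b).snd), hmemI _⟩ : I) =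
        α a • (⟨α (inr b.snd), hmemI _⟩ : I) + α b • (⟨α (inr a.snd), hmemI _⟩ : I) :=
      Subtype.ext (by
        show α _ = α a * α _ + α b * α _
        rw [e, map_add, map_mul, map_mul])
    simp only [u, ← map_smul, ← map_add, Prod.smul_mk, Prod.mk_add_mk, smul_zero, add_zero, this]
    congr 2
  let h : TrivSqZeroExt A J →+* TrivSqZeroExt B M :=
    { toFun := fun a => (inl (Ideal.Quotient.mk I (α a)) + inr (u a))
      map_one' := by
        have : u 1 = 0 := by simpa using u_mul 1 1
        refine TrivSqZeroExt.ext (by simp) (by simp [this])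
      map_mul' := fun a b => by
        refine TrivSqZeroExt.ext (by simp) ?_
        simp [u_mul]
      map_zero' := by
        have : u 0 = 0 := by simpa using u_add 0 0
        refine TrivSqZeroExt.ext (by simp) (by simp [this])
      map_add' := fun a b => TrivSqZeroExt.ext (by simp) (by simp [u_add]) }
  let eX : M := q (0, 1, 0)
  let eY : M := q (0, 0, 1)
  obtain ⟨Φ, hΦα, hΦx, hΦy⟩ := hp.exists_lift h
    (inl (Ideal.Quotient.mk I x) + inr eX) (inl (Ideal.Quotient.mk I y) + inr eY) (by
    refine TrivSqZeroExt.ext ?_ ?_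
    · simp [h, ← map_mul, hp.mul_eq, α]
    · simp only [h, RingHom.coe_mk, MonoidHom.coe_mk, OneHom.coe_mk,
        TrivSqZeroExt.snd_mul, TrivSqZeroExt.snd_add, TrivSqZeroExt.snd_inl, TrivSqZeroExt.snd_inr,
        TrivSqZeroExt.fst_add, TrivSqZeroExt.fst_inl, TrivSqZeroExt.fst_inr, zero_add, add_zero,
        op_smul_eq_smul, eX, eY, u, ← map_smul, ← map_add]
      refine (Submodule.Quotient.eq _).mpr (Submodule.mem_span_singleton.mpr ⟨1, ?_⟩)
      simp [r])
  have hΦfst : ∀ b, (Φ b).fst = Ideal.Quotient.mk I b := fun b => by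
    refine hp.hom_ext (f := ((TrivSqZeroExt.fstHom B B M : TrivSqZeroExt B M →ₐ[B] B) : _ →+* B).comp Φ)
      (g := Ideal.Quotient.mk I) (fun a => ?_) ?_ ?_ b
    · simp [hΦα, h, α]; rfl
    · simp [hΦx]
    · simp [hΦy]
  have hΦI : ∀ (b : B') (hb : b ∈ I), (Φ b).snd = q (I.toCotangent ⟨b, hb⟩, 0, 0) := by
    intro b hb
    induction hb using Submodule.span_induction with
    | mem z hz =>
      obtain ⟨a, ha, rfl⟩ := hz
      rw [hΦα]
      have : a = inr a.snd := (TrivSqZeroExt.mem_kerIdeal_iff_inr A J _).mp ha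
      simp only [h, RingHom.coe_mk, MonoidHom.coe_mk, OneHom.coe_mk, TrivSqZeroExt.snd_add,
        TrivSqZeroExt.snd_inl, TrivSqZeroExt.snd_inr, zero_add, u]
      congr 4
      exact (congrArg α this).symm
    | zero =>
      rw [map_zero, TrivSqZeroExt.snd_zero, ← map_zero q]
      congr 1
    | add a b ha hb iha ihb =>
      rw [map_add, TrivSqZeroExt.snd_add, iha, ihb, ← map_add, Prod.mk_add_mk, ← map_add]
      congr 2 <;> simp
    | smul c a ha iha =>
      have ha0 : Ideal.Quotient.mk I a = 0 := Ideal.Quotient.eq_zero_iff_mem.mpr ha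
      have e : (Φ (c * a)).snd =
          q (Ideal.Quotient.mk I c • I.toCotangent ⟨a, ha⟩, 0, 0) := by
        rw [map_mul, TrivSqZeroExt.snd_mul, op_smul_eq_smul, iha, hΦfst, hΦfst,
          ha0, zero_smul, add_zero, ← map_smul, Prod.smul_mk,
          Prod.smul_mk, smul_zero]
      refine e.trans ?_
      congr 2
  rw [injective_iff_map_eq_zero]
  rintro ⟨i, hi⟩ hzero
  have hiI : i ∈ I := Ideal.Quotient.eq_zero_iff_mem.mp hi
  have hΦA : ∀ a : A, (Φ (algebraMap A B' a)).snd = 0 := fun a => by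
    rw [IsScalarTower.algebraMap_apply A (TrivSqZeroExt A J) B', hΦα, TrivSqZeroExt.algebraMap_eq_inl]
    simp [h, u, show (⟨(0 : B'), I.zero_mem⟩ : I) = 0 from rfl]
    exact map_zero q
  have h0 : (Φ i).snd = 0 := eq_zero_of_kerToTensor I (fun b => (Φ b).snd) (fun a b => by simp)
    (fun a b => by
      show (Φ (a * b)).snd = _
      rw [map_mul, TrivSqZeroExt.snd_mul, op_smul_eq_smul, hΦfst, hΦfst]) hΦA hi hzero
  rw [hΦI i hiI] at h0
  obtain ⟨c, hc⟩ := Submodule.mem_span_singleton.mp ((Submodule.Quotient.mk_eq_zero _).mp h0)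
  have hc0 : c = 0 := by
    refine hp.ann c ?_ ?_
    · exact congrArg (fun p : I.Cotangent × B × B => p.2.2) hc
    · exact congrArg (fun p : I.Cotangent × B × B => p.2.1) hc
  have := congrArg (fun p : I.Cotangent × B × B => p.1) hc
  simp only [hc0, zero_smul, Prod.fst_zero] at this
  rw [eq_comm, Ideal.toCotangent_eq_zero, hI2, Ideal.mem_bot] at this
  exact Subtype.ext this

end Groth.Agent.S16980
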