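import Groth.Statements.S16981
import Mathlib

set_option autoImplicit false
universe u v
open CAlg

namespace Groth.Agent.S16981

theorem isNoetherianRing_extension {A : Type u} {E : Type v} [CommRing A] [CommRing E] [IsNoetherianRing A]
    (f : E →+* A) (hf : Function.Surjective f) (hsq : RingHom.ker f ^ 2 = ⊥) (hfg : (RingHom.ker f).FG) :
    IsNoetherianRing E := by
  refine IsNoetherianRing.of_prime fun P hP => ?_
  have hle : RingHom.ker f ≤ P := fun x hx => by
    have h : x ^ 2 ∈ RingHom.ker f ^ 2 := Ideal.pow_mem_pow hx 2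
    rw [hsq] at h
    exact hP.mem_of_pow_mem 2 (show x ^ 2 ∈ P from (Submodule.mem_bot E).1 h ▸ P.zero_mem)
  refine Ideal.fg_of_fg_map_of_fg_inf_ker_of_surjective (f := f) (IsNoetherian.noetherian _) ?_ hf
  rw [inf_eq_right.2 hle]
  exact hfg

theorem isLocalRing_extension {A : Type u} {E : Type v} [CommRing A] [CommRing E] [IsLocalRing A]
    (f : E →+* A) (hf : Function.Surjective f) (hsq : RingHom.ker f ^ 2 = ⊥) :
    (IsLocalRing.maximalIdeal A).comap f ≤ (⊥ : Ideal E).jacobson := by
  intro x hx
  rw [Ideal.mem_jacobson_bot]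
  intro y
  have hu : IsUnit (f (x * y + 1)) := by
    rw [map_add, map_mul, map_one]
    by_contra h
    have h1 : f x * f y + 1 ∈ IsLocalRing.maximalIdeal A := (IsLocalRing.mem_maximalIdeal _).2 h
    have h2 := sub_mem h1 (Ideal.mul_mem_right (f y) _ hx)
    rw [add_sub_cancel_left] at h2
    exact (IsLocalRing.maximalIdeal.isMaximal A).ne_top ((Ideal.eq_top_iff_one _).2 h2)
  obtain ⟨v, hv⟩ := hu.exists_right_inv
  obtain ⟨w, rfl⟩ := hf v
  rw [← map_mul, ← map_one f, ← sub_eq_zero, ← map_sub, ← RingHom.mem_ker] at hv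
  have hn : IsNilpotent ((x * y + 1) * w - 1) := ⟨2, by
    have : ((x * y + 1) * w - 1) ^ 2 ∈ RingHom.ker f ^ 2 := Ideal.pow_mem_pow hv 2
    rw [hsq] at this
    exact this⟩
  have h3 := hn.isUnit_one_add
  rw [add_sub_cancel] at h3
  exact isUnit_of_mul_isUnit_left h3

/-- Let A be a complete Noetherian local ring and f : E → A a surjective ring homomorphism whose kernel
has square zero and is finitely generated (equivalently, is a finite A-module for the induced module
structure). Then E is separated and complete for the adic topology of the inverse image of the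
maximal ideal of A. (The published statement takes A to be the completion of a local ring of a
scheme of finite type over an Artinian local ring and the kernel the completion of a finite module;
this row assumes only that A is complete Noetherian local and the kernel finitely generated.) -/
theorem result
    {A : Type u} {E : Type v} [CommRing A] [CommRing E] [IsNoetherianRing A] [IsLocalRing A]
    [IsAdicComplete (IsLocalRing.maximalIdeal A) A]
    (f : E →+* A) (hf : Function.Surjective f)
    (hsq : RingHom.ker f ^ 2 = ⊥) (hfg : (RingHom.ker f).FG) :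
    IsAdicComplete ((IsLocalRing.maximalIdeal A).comap f) E := by
  classical
  set 𝔪 := (IsLocalRing.maximalIdeal A).comap f
  haveI := isNoetherianRing_extension f hf hsq hfg
  haveI hH : IsHausdorff 𝔪 E := IsHausdorff.of_le_jacobson 𝔪 E (isLocalRing_extension f hf hsq)
  have hmap : ∀ n, (𝔪 ^ n).map f = IsLocalRing.maximalIdeal A ^ n := fun n => by
    rw [Ideal.map_pow, Ideal.map_comap_of_surjective f hf]
  set K := RingHom.ker f
  obtain ⟨c, hc⟩ := 𝔪.exists_pow_inf_eq_pow_smul (K : Submodule E E)
  obtain ⟨G, hG⟩ := hfg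
  haveI hP : IsPrecomplete 𝔪 E := by
    refine ⟨fun x hx => ?_⟩
    have hx' : ∀ {a b}, a ≤ b → x a - x b ∈ 𝔪 ^ a := fun {a b} hab => by
      have h := SModEq.sub_mem.1 (hx hab)
      rwa [Ideal.smul_eq_mul, Ideal.mul_top] at h
    have hfx : ∀ {a b}, a ≤ b → f (x a) ≡ f (x b) [SMOD (IsLocalRing.maximalIdeal A ^ a • ⊤ : Submodule A A)] := by
      intro a b hab
      rw [SModEq.sub_mem, Ideal.smul_eq_mul, Ideal.mul_top, ← map_sub, ← hmap]
      exact Ideal.mem_map_of_mem f (hx' hab)
    obtain ⟨L, hL⟩ := IsPrecomplete.prec (inferInstance : IsPrecomplete (IsLocalRing.maximalIdeal A) A) hfx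
    obtain ⟨y, rfl⟩ := hf L
    have hz : ∀ n, ∃ k ∈ K, x n - y - k ∈ 𝔪 ^ n := by
      intro n
      have h := SModEq.sub_mem.1 (hL n)
      rw [Ideal.smul_eq_mul, Ideal.mul_top, ← map_sub, ← hmap, Ideal.mem_map_iff_of_surjective f hf] at h
      obtain ⟨p, hp, hpe⟩ := h
      refine ⟨x n - y - p, ?_, by rw [sub_sub_cancel]; exact hp⟩
      rw [RingHom.mem_ker, map_sub, hpe, map_sub]; exact sub_self _
    choose k hk hk' using hz
    have hstep : ∀ n, ∃ a : E → E, (∀ e ∈ G, a e ∈ 𝔪 ^ n) ∧ k (n + c) - k (n + c + 1) = ∑ e ∈ G, a e * e := by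
      intro n
      have h1 : k (n + c) - k (n + c + 1) ∈ 𝔪 ^ (n + c) := by
        have h2 := sub_mem (add_mem (hx' (Nat.le_succ (n + c)))
          (Ideal.pow_le_pow_right (Nat.le_succ (n + c)) (hk' (n + c + 1)))) (hk' (n + c))
        convert h2 using 1
        simp only [Nat.succ_eq_add_one]
        abel
      have h2 : k (n + c) - k (n + c + 1) ∈ (𝔪 ^ (n + c) • ⊤ ⊓ K : Submodule E E) := by
        refine ⟨?_, sub_mem (hk _) (hk _)⟩
        show k (n + c) - k (n + c + 1) ∈ (𝔪 ^ (n + c) • ⊤ : Submodule E E)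
        rw [Ideal.smul_eq_mul, Ideal.mul_top]
        exact h1
      rw [hc (n + c) (Nat.le_add_left c n), Nat.add_sub_cancel] at h2
      have h3 : k (n + c) - k (n + c + 1) ∈ 𝔪 ^ n • Submodule.span E (Set.range ((↑) : G → E)) := by
        rw [Subtype.range_coe, show Submodule.span E (G : Set E) = K from hG]
        exact Submodule.smul_mono le_rfl inf_le_right h2
      obtain ⟨a, ha, hsum⟩ := (Submodule.mem_ideal_smul_span_iff_exists_sum _ _ _).1 h3
      refine ⟨fun e => if h : e ∈ G then a ⟨e, h⟩ else 0, fun e he => by simp only [dif_pos he]; exact ha _, ?_⟩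
      rw [← hsum, Finsupp.sum_of_support_subset a (Finset.subset_univ _) (fun i c => c • (i : E)) (fun i _ => zero_smul E _), ← Finset.sum_coe_sort G]
      exact Finset.sum_congr rfl fun i _ => by simp only [dif_pos i.2]; rfl
    choose a ha hsum using hstep
    have hser : ∀ e ∈ G, ∃ s : E, ∀ n, (∑ i ∈ Finset.range n, a i e) - s ∈ 𝔪 ^ n ⊔ K := by
      intro e he
      have hc' : ∀ n, f (∑ i ∈ Finset.range n, a i e) ≡ f (∑ i ∈ Finset.range (n + 1), a i e)
          [SMOD (IsLocalRing.maximalIdeal A ^ n • ⊤ : Submodule A A)] := by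
        intro n
        rw [SModEq.sub_mem, Ideal.smul_eq_mul, Ideal.mul_top, ← map_sub, Finset.sum_range_succ,
          sub_add_cancel_left, map_neg, neg_mem_iff, ← hmap]
        exact Ideal.mem_map_of_mem f (ha n e he)
      obtain ⟨S, hS⟩ := IsPrecomplete.prec (inferInstance : IsPrecomplete (IsLocalRing.maximalIdeal A) A)
        (AdicCompletion.AdicCauchySequence.mk _ A (fun n => f (∑ i ∈ Finset.range n, a i e)) hc').2
      obtain ⟨s, rfl⟩ := hf S
      refine ⟨s, fun n => ?_⟩
      have h : f (∑ i ∈ Finset.range n, a i e) - f s ∈ IsLocalRing.maximalIdeal A ^ n := by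
        have h' := SModEq.sub_mem.1 (hS (n := n))
        rwa [Ideal.smul_eq_mul, Ideal.mul_top] at h'
      rw [← map_sub, ← hmap, Ideal.mem_map_iff_of_surjective f hf] at h
      obtain ⟨p, hp, hpe⟩ := h
      refine Submodule.mem_sup.2 ⟨p, hp, _ - p, ?_, add_sub_cancel p _⟩
      rw [RingHom.mem_ker, map_sub, hpe, sub_self]
    choose s hs using hser
    let S := ∑ e ∈ G.attach, s e.1 e.2 * e.1
    refine ⟨y + k c - S, fun n => ?_⟩
    rw [SModEq.sub_mem, Ideal.smul_eq_mul, Ideal.mul_top]
    have htel : ∀ n, k c - k (n + c) = ∑ e ∈ G, (∑ i ∈ Finset.range n, a i e) * e := by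
      intro n
      induction n with
      | zero => simp
      | succ n ih =>
        simp only [Finset.sum_range_succ, add_mul, Finset.sum_add_distrib, ← ih, ← hsum n]
        rw [show n + 1 + c = n + c + 1 by omega]
        abel
    have key : k c - k (n + c) - S ∈ 𝔪 ^ n := by
      rw [htel n, ← Finset.sum_attach G, ← Finset.sum_sub_distrib]
      refine sum_mem fun e _ => ?_
      rw [← sub_mul]
      obtain ⟨p, hp, q, hq, hpq⟩ := Submodule.mem_sup.1 (hs e.1 e.2 n)
      have heK : (e : E) ∈ K := hG ▸ Ideal.subset_span e.2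
      have h0 : q * (e : E) = 0 := by
        have : q * (e : E) ∈ K ^ 2 := by rw [pow_two]; exact Ideal.mul_mem_mul hq heK
        rw [hsq] at this
        exact this
      rw [← hpq, add_mul, h0, add_zero]
      exact Ideal.mul_mem_right _ _ hp
    have h2 : x n - x (n + c) ∈ 𝔪 ^ n := hx' (Nat.le_add_right n c)
    have h3 : x (n + c) - y - k (n + c) ∈ 𝔪 ^ n := Ideal.pow_le_pow_right (Nat.le_add_right n c) (hk' (n + c))
    convert sub_mem (add_mem h2 h3) key using 1
    abel
  exact { toIsHausdorff := hH, toIsPrecomplete := hP }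

end Groth.Agent.S16981
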