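import Groth.Statements.S16982
import Mathlib
import Groth.Agent.S16981

set_option autoImplicit false
universe u v w w'
open CAlg

namespace Groth.Agent.S16982

/-- Let R be a commutative ring, A a complete Noetherian local R-algebra written as a quotient of a
power series ring over R in finitely many variables by a surjective R-algebra map π, and f : E → A a
surjective R-algebra map whose kernel has square zero and is finitely generated. Then π lifts along
f to an R-algebra map λ from the power series ring to E with f ∘ λ = π. (The published statement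
takes R Artinian local and asks for a lift that is continuous for the adic topologies; this row
allows any commutative R and asks for any lift.) -/
theorem result
    {R : Type u} [CommRing R] {σ : Type v} [Finite σ]
    {A : Type w} {E : Type w'} [CommRing A] [CommRing E] [Algebra R A] [Algebra R E]
    [IsNoetherianRing A] [IsLocalRing A] [IsAdicComplete (IsLocalRing.maximalIdeal A) A]
    (π : MvPowerSeries σ R →ₐ[R] A) (hπ : Function.Surjective π)
    (f : E →ₐ[R] A) (hf : Function.Surjective f)
    (hsq : RingHom.ker f.toRingHom ^ 2 = ⊥) (hfg : (RingHom.ker f.toRingHom).FG) :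
    ∃ l : MvPowerSeries σ R →ₐ[R] E, f.comp l = π := by
  classical
  set 𝔪 := (IsLocalRing.maximalIdeal A).comap f.toRingHom
  haveI : IsAdicComplete 𝔪 E := Groth.Agent.S16981.result f.toRingHom hf hsq hfg
  choose e he using fun i => hf (π (MvPowerSeries.X i))
  have hX : ∀ i, π (MvPowerSeries.X i) ∈ IsLocalRing.maximalIdeal A := by
    intro i
    by_contra h
    obtain ⟨v, hv⟩ := (IsLocalRing.notMem_maximalIdeal.1 h).exists_right_inv
    obtain ⟨c, rfl⟩ := hπ v
    rw [← map_mul] at hv
    have hu : IsUnit (1 - MvPowerSeries.X i * c) := by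
      rw [MvPowerSeries.isUnit_iff_constantCoeff]
      simp
    have := hu.map π
    rw [map_sub, map_one, hv, sub_self, isUnit_zero_iff] at this
    exact zero_ne_one this
  let ev : MvPolynomial σ R →ₐ[R] E := MvPolynomial.aeval e
  have hev : MvPolynomial.idealOfVars σ R ≤ 𝔪.comap ev.toRingHom := by
    rw [MvPolynomial.idealOfVars, Ideal.span_le]
    rintro _ ⟨i, rfl⟩
    show f (MvPolynomial.aeval e (MvPolynomial.X i)) ∈ IsLocalRing.maximalIdeal A
    rw [MvPolynomial.aeval_X, he]
    exact hX i
  have hevn : ∀ n, MvPolynomial.idealOfVars σ R ^ n ≤ (𝔪 ^ n).comap ev.toRingHom := fun n =>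
    (Ideal.pow_right_mono hev n).trans (Ideal.le_comap_pow _ n)
  let F : ∀ n : ℕ, MvPowerSeries σ R →ₐ[R] E ⧸ 𝔪 ^ n := fun n =>
    (Ideal.quotientMapₐ (𝔪 ^ n) ev (hevn n)).comp ((MvPowerSeries.truncTotalAlgHom σ R n).restrictScalars R)
  have hF : ∀ n φ, F n φ = Ideal.Quotient.mk _ (ev (MvPowerSeries.truncTotal n φ)) := fun n φ => rfl
  have hcompat : ∀ {m n : ℕ} (hle : m ≤ n),
      (Ideal.Quotient.factorₐ R (Ideal.pow_le_pow_right hle)).comp (F n) = F m := by
    intro m n hle
    refine AlgHom.ext fun φ => ?_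
    rw [AlgHom.comp_apply, hF, hF]
    show Ideal.Quotient.mk (𝔪 ^ m) _ = Ideal.Quotient.mk (𝔪 ^ m) _
    rw [Ideal.Quotient.eq, ← map_sub]
    exact hevn m (MvPowerSeries.truncTotal_sub_truncTotal_mem_pow_idealOfVars hle (le_refl _) φ)
  refine ⟨IsAdicComplete.liftAlgHom 𝔪 F hcompat, AlgHom.ext fun φ => ?_⟩
  rw [IsHausdorff.eq_iff_smodEq (I := IsLocalRing.maximalIdeal A)]
  intro n
  rw [SModEq.sub_mem, Ideal.smul_eq_mul, Ideal.mul_top]
  have h1 : f (IsAdicComplete.liftAlgHom 𝔪 F hcompat φ) - f (ev (MvPowerSeries.truncTotal n φ)) ∈ IsLocalRing.maximalIdeal A ^ n := by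
    have h := IsAdicComplete.mk_liftAlgHom 𝔪 F hcompat n φ
    rw [hF, Ideal.Quotient.eq] at h
    have h' := Ideal.mem_map_of_mem f.toRingHom h
    rw [Ideal.map_pow, Ideal.map_comap_of_surjective f.toRingHom hf, map_sub] at h'
    exact h'
  have hpoly : ∀ p : MvPolynomial σ R, f (ev p) = π (p : MvPowerSeries σ R) := by
    have : f.comp ev = π.comp (MvPolynomial.coeToMvPowerSeries.algHom R) := by
      refine MvPolynomial.algHom_ext fun i => ?_
      simp [ev, he]
    intro p
    have h := AlgHom.congr_fun this p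
    simpa using h
  have h2 : π φ - π (MvPowerSeries.truncTotal n φ : MvPolynomial σ R) ∈ IsLocalRing.maximalIdeal A ^ n := by
    rw [← map_sub]
    set ψ := φ - ((MvPowerSeries.truncTotal n φ : MvPolynomial σ R) : MvPowerSeries σ R)
    let Φ := MvPowerSeries.toAdicCompletionAlgEquiv σ R
    haveI : IsAdicComplete (MvPolynomial.idealOfVars σ R) (AdicCompletion (MvPolynomial.idealOfVars σ R) (MvPolynomial σ R)) :=
      AdicCompletion.isAdicComplete (MvPolynomial.idealOfVars_fg σ R)
    have hv : (Φ ψ).val n = 0 := by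
      show Ideal.Quotient.mk _ (MvPowerSeries.truncTotal n ψ) = 0
      rw [Ideal.Quotient.eq_zero_iff_mem, Ideal.smul_eq_mul, Ideal.mul_top, MvPolynomial.mem_pow_idealOfVars_iff']
      intro x hx
      rw [MvPowerSeries.coeff_truncTotal _ hx, map_sub, MvPolynomial.coeff_coe, MvPowerSeries.coeff_truncTotal _ hx, sub_self]
    have hmem : Φ ψ ∈ (MvPolynomial.idealOfVars σ R ^ n • ⊤ : Submodule (MvPolynomial σ R) (AdicCompletion (MvPolynomial.idealOfVars σ R) (MvPolynomial σ R))) := by
      rw [AdicCompletion.pow_smul_top_eq_ker_eval (MvPolynomial.idealOfVars_fg σ R)]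
      exact hv
    have hmem' := Submodule.mem_map_of_mem (f := Φ.symm.toLinearMap) hmem
    rw [Submodule.map_smul''] at hmem'
    have hψ : ψ ∈ (MvPolynomial.idealOfVars σ R ^ n • ⊤ : Submodule (MvPolynomial σ R) (MvPowerSeries σ R)) := by
      have h3 : Φ.symm.toLinearMap (Φ ψ) = ψ := Φ.symm_apply_apply ψ
      rw [h3] at hmem'
      exact Submodule.smul_mono le_rfl le_top hmem'
    rw [Ideal.smul_top_eq_map, Submodule.restrictScalars_mem, Ideal.map_pow] at hψ
    have h4 := Ideal.mem_map_of_mem π.toRingHom hψ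
    rw [Ideal.map_pow, Ideal.map_map] at h4
    refine Ideal.pow_right_mono ?_ n h4
    rw [MvPolynomial.idealOfVars, Ideal.map_span, Ideal.span_le]
    rintro _ ⟨_, ⟨i, rfl⟩, rfl⟩
    show π (algebraMap (MvPolynomial σ R) (MvPowerSeries σ R) (MvPolynomial.X i)) ∈ _
    simpa [MvPowerSeries.algebraMap_apply'] using hX i
  rw [← hpoly] at h2
  convert sub_mem h1 h2 using 1
  rw [AlgHom.comp_apply]; abel

end Groth.Agent.S16982
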