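import Groth.Statements.S16983
import Mathlib
-- import your own Groth.Agent.* helpers here

set_option autoImplicit false
universe u
open DeformData

namespace Groth.Agent.S16983

/-- Let p be a prime, s ≥ 1, B a finite index set with a subset B₀ of exactly three elements, m_j ≥ 1
integers coprime to p, and σ_{i,j} (i < s, j ∈ B) rational numbers with m_j σ_{i,j} an integer, such
that Σ_j (σ_{i,j} − 1) = −2 for every i, the fractional part of σ_{i,j} equals that of p^i σ_{0,j},
no σ_{i,j} equals 1, and the minimum over i of ⌊σ_{i,j}⌋ is 0 for j ∈ B₀ and 1 for j ∉ B₀. Then for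
every i the fractional parts ⟨σ_{i,j}⟩ sum over j to 1 (purity), and ⌊σ_{i,j}⌋ is 0 on B₀ and 1 off
B₀ for every i. (The hypotheses are exactly the properties of the signature of a special deformation
datum on the projective line: each entry is an integer divided by a stabilizer order m_j in a group
of order prime to p, the degree identity coming from Riemann–Hurwitz, the Frobenius-twist relation
between fractional parts, and the speciality conditions; the statement is given here for any such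
tuple.) -/
theorem result
    {B : Type u} [Fintype B] [DecidableEq B] (B₀ : Finset B) (hB₀ : B₀.card = 3)
    (p : ℕ) (hp : p.Prime) (s : ℕ) (hs : 0 < s)
    (m : B → ℕ) (hm : ∀ j, 0 < m j) (hmp : ∀ j, Nat.Coprime (m j) p)
    (σ : Fin s → B → ℚ) (hint : ∀ i j, ∃ h : ℤ, σ i j = (h : ℚ) / (m j : ℚ))
    (hsum : ∀ i, ∑ j, (σ i j - 1) = -2)
    (hfract : ∀ i j, Int.fract (σ i j) = Int.fract ((p : ℚ) ^ (i : ℕ) * σ ⟨0, hs⟩ j))
    (hne : ∀ i j, σ i j ≠ 1)
    (hB₀min : ∀ j ∈ B₀, (∃ i, ⌊σ i j⌋ = 0) ∧ ∀ i, 0 ≤ ⌊σ i j⌋)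
    (hBmin : ∀ j ∉ B₀, (∃ i, ⌊σ i j⌋ = 1) ∧ ∀ i, 1 ≤ ⌊σ i j⌋) :
    (∀ i, ∑ j, Int.fract (σ i j) = 1) ∧ (∀ i j, ⌊σ i j⌋ = if j ∈ B₀ then 0 else 1) := by
  have hzero : ∀ i j, Int.fract (σ i j) = 0 ↔ Int.fract (σ ⟨0, hs⟩ j) = 0 := by
    intro i j
    rw [hfract i j, Int.fract_eq_zero_iff, Int.fract_eq_zero_iff]
    constructor
    · rintro ⟨z, hz⟩
      obtain ⟨a, ha⟩ := hint ⟨0, hs⟩ j
      have hmne : (m j : ℚ) ≠ 0 := by exact_mod_cast (hm j).ne'
      rw [ha, mul_div_assoc', eq_div_iff hmne] at hz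
      have hz' : z * (m j : ℤ) = (p : ℤ) ^ (i : ℕ) * a := by exact_mod_cast hz
      have hcop : IsCoprime (m j : ℤ) ((p : ℤ) ^ (i : ℕ)) :=
        (Nat.isCoprime_iff_coprime.2 (hmp j)).pow_right
      obtain ⟨q, hq⟩ : (m j : ℤ) ∣ a := hcop.dvd_of_dvd_mul_left ⟨z, by linarith⟩
      refine ⟨q, ?_⟩
      rw [ha, hq]
      push_cast
      field_simp
    · rintro ⟨z, hz⟩
      exact ⟨(p : ℤ) ^ (i : ℕ) * z, by push_cast; rw [hz]⟩
  have hlb : ∀ i j, (if j ∈ B₀ then (0 : ℤ) else 1) ≤ ⌊σ i j⌋ := by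
    intro i j
    split_ifs with h
    · exact (hB₀min j h).2 i
    · exact (hBmin j h).2 i
  have hlbsum : ∑ j, (if j ∈ B₀ then (0 : ℤ) else 1) = (Fintype.card B : ℤ) - 3 := by
    rw [Finset.sum_ite, Finset.sum_const_zero, zero_add, Finset.sum_const, nsmul_one,
      Finset.filter_not, Finset.filter_mem_eq_inter, Finset.univ_inter]
    rw [Finset.card_sdiff, Finset.inter_univ, hB₀, Finset.card_univ]
    have : 3 ≤ Fintype.card B := hB₀ ▸ Finset.card_le_univ B₀
    omega
  have hσ : ∀ i, (∑ j, Int.fract (σ i j)) + ((∑ j, ⌊σ i j⌋ : ℤ) : ℚ) = (Fintype.card B : ℚ) - 2 := by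
    intro i
    have := hsum i
    rw [Finset.sum_sub_distrib] at this
    simp only [Finset.sum_const, Finset.card_univ, nsmul_one] at this
    rw [Int.cast_sum, ← Finset.sum_add_distrib,
      Finset.sum_congr rfl (fun j _ => Int.fract_add_floor (σ i j))]
    linarith
  have hmain : ∀ i, ∑ j, Int.fract (σ i j) = 1 ∧ ∑ j, ⌊σ i j⌋ = (Fintype.card B : ℤ) - 3 := by
    intro i
    have hle := Finset.sum_le_sum (s := Finset.univ) (fun j _ => hlb i j)
    rw [hlbsum] at hle
    have hnn : 0 ≤ ∑ j, Int.fract (σ i j) := Finset.sum_nonneg (fun j _ => Int.fract_nonneg _)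
    have hle' : ((Fintype.card B : ℚ) - 3) ≤ ((∑ j, ⌊σ i j⌋ : ℤ) : ℚ) := by exact_mod_cast hle
    rcases eq_or_lt_of_le hle with he | hlt
    · refine ⟨?_, he.symm⟩
      have := hσ i
      rw [← he] at this
      push_cast at this
      linarith
    · exfalso
      have hle'' : ((Fintype.card B : ℚ) - 2) ≤ ((∑ j, ⌊σ i j⌋ : ℤ) : ℚ) := by
        exact_mod_cast (show (Fintype.card B : ℤ) - 2 ≤ ∑ j, ⌊σ i j⌋ by omega)
      have h0 : ∑ j, Int.fract (σ i j) = 0 := le_antisymm (by linarith [hσ i]) hnn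
      have h0' : ∀ i' j, Int.fract (σ i' j) = 0 := fun i' j =>
        (hzero i' j).2 ((hzero i j).1
          ((Finset.sum_eq_zero_iff_of_nonneg (fun j _ => Int.fract_nonneg _)).1 h0 j (Finset.mem_univ j)))
      have hint' : ∀ i' j, σ i' j = (⌊σ i' j⌋ : ℚ) := fun i' j => by
        have := Int.fract_add_floor (σ i' j)
        rw [h0', zero_add] at this
        exact this.symm
      have hne' : ∀ i' j, ⌊σ i' j⌋ ≠ 1 := fun i' j h => hne i' j (by rw [hint', h]; norm_num)
      have hall : ∀ j, j ∈ B₀ := fun j => by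
        by_contra h
        obtain ⟨i', hi'⟩ := (hBmin j h).1
        exact hne' i' j hi'
      have hcard : Fintype.card B = 3 := by
        rw [← hB₀, ← Finset.card_univ]
        congr 1
        ext j; simp [hall]
      have hs1 : ∑ j, ⌊σ i j⌋ = 1 := by
        have := hσ i
        rw [h0, hcard, zero_add] at this
        exact_mod_cast (show ((∑ j, ⌊σ i j⌋ : ℤ) : ℚ) = ((1 : ℤ) : ℚ) by rw [this]; norm_num)
      obtain ⟨j, hj⟩ : ∃ j, 0 < ⌊σ i j⌋ := by
        by_contra h
        push Not at h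
        have := Finset.sum_nonpos (s := Finset.univ) (fun j _ => h j)
        omega
      have h2 := Finset.single_le_sum (f := fun j => ⌊σ i j⌋)
        (fun j _ => (hB₀min j (hall j)).2 i) (Finset.mem_univ j)
      have := hne' i j
      omega
  refine ⟨fun i => (hmain i).1, fun i j => ?_⟩
  have := (Finset.sum_eq_sum_iff_of_le (s := Finset.univ) (fun j _ => hlb i j)).1
    (by rw [hlbsum, (hmain i).2]) j (Finset.mem_univ j)
  exact this.symm

end Groth.Agent.S16983
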