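import Groth.Statements.S16984
import Groth.Agent.Comod.Cohom

set_option autoImplicit false
universe u v w
open Hoch

namespace Groth.Agent.S16984

open TensorProduct in
/-- Let k be a commutative ring, A a commutative k-bialgebra that is flat over k (the coordinate ring of
a flat affine group scheme over Spec k; flatness and commutativity are the standing hypotheses of
the appendix and are not needed for the assertion) and P a k-module. Then p ↦ p ⊗ 1 is an injection
of P into the induced comodule P ⊗ A (coaction id ⊗ Δ) whose image is exactly the submodule of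
invariants, i.e. the elements with coaction x ↦ x ⊗ 1. (The published statement writes the
coordinate-ring factor on the left and calls this module coinduced; this row is its degree-zero
part, the identification of P with the invariants of the coinduced module.) -/
theorem result (k : Type u) [CommRing k] (A : Type v) [CommRing A] [Bialgebra k A]
    [Module.Flat k A] (P : Type w) [AddCommGroup P] [Module k P] :
    Function.Injective ((Hoch.Ind.equiv k A P).toLinearMap ∘ₗ (TensorProduct.mk k P A).flip (1 : A)) ∧
    LinearMap.range ((Hoch.Ind.equiv k A P).toLinearMap ∘ₗ (TensorProduct.mk k P A).flip (1 : A)) =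
      HopfRep.fixedPts k A (Hoch.Ind k A P) := by
  have hcu : ∀ z : TensorProduct k P A, Hoch.Ind.coactAux k A P z = z ⊗ₜ[k] (1 : A) →
      z = (TensorProduct.rid k P ((Coalgebra.counit (R := k) (A := A)).lTensor P z)) ⊗ₜ[k] (1 : A) := by
    intro z hz
    have h := Comod.Cohom.counit_rTensor_coactAux_gen k A P z
    rw [hz] at h
    simpa using h.symm
  refine ⟨fun p q h => ?_, le_antisymm ?_ ?_⟩
  · have := congrArg (fun z : TensorProduct k P A => TensorProduct.rid k P ((Coalgebra.counit (R := k) (A := A)).lTensor P z)) h
    replace this : TensorProduct.rid k P ((Coalgebra.counit (R := k) (A := A)).lTensor P (p ⊗ₜ[k] (1 : A))) =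
        TensorProduct.rid k P ((Coalgebra.counit (R := k) (A := A)).lTensor P (q ⊗ₜ[k] (1 : A))) := this
    simpa using this
  · rintro _ ⟨p, rfl⟩
    change Hoch.Ind.coactAux k A P (p ⊗ₜ[k] (1 : A)) = (p ⊗ₜ[k] (1 : A)) ⊗ₜ[k] (1 : A)
    simp [Bialgebra.comul_one, Algebra.TensorProduct.one_def]
  · intro z hz
    exact ⟨_, (hcu z hz).symm⟩

end Groth.Agent.S16984
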