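import Groth.Statements.S16986
import Groth.Agent.QSplit86.OrthRep

set_option autoImplicit false
universe u
open CategoryTheory AlgebraicGeometry
open QuadGrp

namespace Groth.Agent.S16986

/-- Let Q be a quadratic form on R^n, n ≥ 1, over a commutative ring R, non-degenerate in the sense that
its polar form is a perfect pairing when n is even and its half-discriminant (in the standard basis)
is a unit when n is odd, and let G be a group scheme over Spec R which is the orthogonal group of Q
(its A-valued points are the isometries of the base change Q_A, naturally in the R-algebra A). Then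
G is smooth over Spec R if and only if n is even or 2 is a unit in R. (The published statement is
for a line-bundle-valued form on a vector bundle over an arbitrary scheme; the case of a free module
over an affine base with trivialised values is stated.) -/
theorem result (R : Type u) [CommRing R] (n : ℕ) (hn : 1 ≤ n)
    (Q : QuadraticForm R (Fin n → R))
    (hQ : QuadGrp.IsNondeg (Pi.basisFun R (Fin n)) (LinearEquiv.refl R R) Q)
    (G : Over (Spec (CommRingCat.of R))) [GrpObj G] (D : QuadGrp.OrthRep Q G) :
    AlgebraicGeometry.Smooth G.hom ↔ (Even n ∨ IsUnit (2 : R)) := by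
  obtain ⟨hev, hodd⟩ := hQ
  set c := QSplit86.stdCoeffs Q
  have hdet : ∀ (A : Type u) [CommRing A] [Algebra R A] (G : Matrix (Fin n) (Fin n) A),
      Groth.Agent.S17014.subst (QSplit86.cA A c) G = QSplit86.cA A c → IsUnit G.det := by
    intro A _ _ g hg
    rcases Nat.even_or_odd n with he | ⟨m, rfl⟩
    · exact (isUnit_pow_iff two_ne_zero).1 (by
        rw [QSplit86.det_sq_of_subst (QSplit86.isUnit_det_cA A (QSplit86.isUnit_det_polar_of_regular Q (hev he))) hg]
        exact isUnit_one)
    · exact (isUnit_pow_iff two_ne_zero).1 (by
        rw [QSplit86.det_sq_of_subst_odd (by rw [QSplit86.cA, ← Groth.Agent.S17014.map_hd]; exact (hodd ⟨m, rfl⟩).map _) hg]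
        exact isUnit_one)
  obtain ⟨i⟩ := QSplit86.exists_iso_orth Q hdet G D
  rw [QSplit86.smooth_hom_of_iso G _ i]
  rcases Nat.even_or_odd n with he | ⟨m, rfl⟩
  · exact iff_of_true (QSplit86.smooth_eqO (QSplit86.isUnit_det_polar_of_regular Q (hev he))) (Or.inl he)
  · have hhd : IsUnit (Groth.Agent.S17014.hd c) := hodd ⟨m, rfl⟩
    constructor
    · intro h
      by_contra hn
      exact QSplit86.not_smooth_eqO hhd (fun h2 => hn (Or.inr h2)) h
    · rintro (h | h)
      · exact absurd h (Nat.not_even_iff_odd.2 ⟨m, rfl⟩)
      · exact QSplit86.smooth_eqO (by rw [← QSplit86.two_mul_hd]; exact h.mul hhd)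

end Groth.Agent.S16986
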