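import Groth.Statements.S16990
import Groth.Agent.QSplit86.Dickson

set_option autoImplicit false
universe u v
open QuadGrp

namespace Groth.Agent.S16990

/-- Comparison with SO′: over a commutative ring in which 2 is invertible, for a quadratic form Q on a
finite free module of even rank 2m ≥ 2 whose polar form is a perfect pairing, the isometries
satisfying the Dickson condition are exactly the isometries of determinant one. -/
theorem result {R : Type u} [CommRing R] [Invertible (2 : R)]
    {M : Type v} [AddCommGroup M] [Module R M] [Module.Free R M] [Module.Finite R M]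
    (m : ℕ) (hm : 1 ≤ m) (hM : Module.finrank R M = 2 * m) (Q : QuadraticForm R M) (hQ : QuadGrp.IsRegular Q) :
    QuadGrp.SOeven Q = QuadGrp.SO' Q := by
  rcases subsingleton_or_nontrivial R with hR | hR
  · haveI : Subsingleton M := Module.subsingleton R M
    haveI : Subsingleton (M ≃ₗ[R] M) := ⟨fun f g => LinearEquiv.ext fun x => Subsingleton.elim _ _⟩
    exact SetLike.ext fun g => by
      rw [Subsingleton.elim g 1]
      exact ⟨fun _ => one_mem _, fun _ => one_mem _⟩
  refine SetLike.ext fun g => ⟨?_, ?_⟩
  · rintro ⟨hg, hD⟩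
    obtain ⟨e, -, hdet, hiff, -⟩ := QSplit86.exists_dickson hm hM hQ g hg
    refine ⟨hg, Units.ext ?_⟩
    rw [LinearEquiv.coe_det, hdet, hiff.1 hD, Units.val_one]
    ring
  · rintro ⟨hg, hd⟩
    obtain ⟨e, -, hdet, hiff, -⟩ := QSplit86.exists_dickson hm hM hQ g hg
    refine ⟨hg, hiff.2 ?_⟩
    have : LinearMap.det (g : M →ₗ[R] M) = 1 := by
      rw [← LinearEquiv.coe_det, show LinearEquiv.det g = 1 from hd, Units.val_one]
    linear_combination (⅟(2 : R)) * (this.symm.trans hdet).symm + (1 - e) * invOf_mul_self (2 : R)

end Groth.Agent.S16990
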