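import Groth.Statements.S16996
import Groth.Agent.QSplit86.OddUnits

set_option autoImplicit false
universe u v
open QuadGrp

namespace Groth.Agent.S16996

/-- Points over a local ring: over a local ring, let Q be a quadratic form on a finite free module M
with a basis indexed by Fin (2m+1) whose half-discriminant in that basis is a unit. Then every unit
of the Clifford algebra C(Q) normalising M is the product of a central unit of C(Q) and a point of
the even Clifford group (an even, locally homogeneous unit normalising M). (The published statement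
is the equality GPin′(q) = Z_q^× ×^{G_m} GSpin(q) of group schemes, a Zariski-local product
decomposition; over a local base it is the factorisation given.) -/
theorem result {R : Type u} [CommRing R] [IsLocalRing R]
    {M : Type v} [AddCommGroup M] [Module R M] [Module.Free R M] [Module.Finite R M]
    (m : ℕ) (b : Module.Basis (Fin (2 * m + 1)) R M) (Q : QuadraticForm R M)
    (hQ : QuadGrp.IsSemiregular b (LinearEquiv.refl R R) Q)
    (u' : (CliffordAlgebra Q)ˣ) (hu' : u' ∈ QuadGrp.GPin' Q) :
    ∃ z : CliffordAlgebra Q, z ∈ Subalgebra.center R (CliffordAlgebra Q) ∧ IsUnit z ∧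
      ∃ u ∈ QuadGrp.GSpin Q, (u' : CliffordAlgebra Q) = z * u := by
  obtain ⟨g, hg, h'⟩ := QSplit86.exists_conj_of_mem hu'
  obtain ⟨S⟩ := QSplit86.exists_oddSplitting Q b hQ
  obtain ⟨u, hu0, hu, h⟩ := QSplit86.exists_even_conj b hQ hg (S.det_eq_one b h')
  refine ⟨(u' : CliffordAlgebra Q) * ↑u⁻¹, QSplit86.mem_center_of_commute_ι fun v => ?_, (u' * u⁻¹).isUnit,
    u, ⟨⟨hu, 1, IsIdempotentElem.one, by rwa [one_smul], by rw [sub_self, zero_smul]; exact Submodule.zero_mem _⟩, hu0⟩,
    by simp [mul_assoc]⟩
  have h1 := h' (g.symm v)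
  have h2 := h (g.symm v)
  rw [LinearEquiv.apply_symm_apply] at h1 h2
  calc (u' : CliffordAlgebra Q) * ↑u⁻¹ * CliffordAlgebra.ι Q v
      = (u' : CliffordAlgebra Q) * CliffordAlgebra.ι Q (g.symm v) * ↑u⁻¹ := by
        rw [← h2]; simp [mul_assoc]
    _ = CliffordAlgebra.ι Q v * ((u' : CliffordAlgebra Q) * ↑u⁻¹) := by
        rw [← h1]; simp [mul_assoc]

end Groth.Agent.S16996
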