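import Groth.Statements.S16997
import Groth.Agent.QSplit86.OddUnits
import Groth.Agent.S16999

set_option autoImplicit false
universe u v
open QuadGrp

namespace Groth.Agent.S16997

/-- Over a commutative ring in which 2 is invertible, let Q be a quadratic form on a finite free module
with a basis indexed by Fin (2m+1), m odd (rank congruent to 3 mod 4), whose half-discriminant in
that basis is a unit. Then every unit of the Clifford algebra normalising the module and of Clifford
norm one is locally homogeneous: the Pin group equals the naive Pin group. (The published statement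
adds the converse: for rank 1 mod 4, or when 2 is not a unit on the base, the two group schemes
differ.) -/
theorem result {R : Type u} [CommRing R] [Invertible (2 : R)]
    {M : Type v} [AddCommGroup M] [Module R M] [Module.Free R M] [Module.Finite R M]
    (m : ℕ) (hm : Odd m) (b : Module.Basis (Fin (2 * m + 1)) R M) (Q : QuadraticForm R M)
    (hQ : QuadGrp.IsSemiregular b (LinearEquiv.refl R R) Q) :
    QuadGrp.Pin Q = QuadGrp.Pin' Q := by
  obtain ⟨S⟩ := QSplit86.exists_oddSplitting Q b hQ
  refine le_antisymm (fun u hu => ⟨hu.1.1, hu.2⟩) fun u hu => ⟨⟨hu.1, ?_⟩, hu.2⟩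
  obtain ⟨g, -, hconj⟩ := QSplit86.exists_conj_of_mem hu.1
  obtain ⟨u0, h0, u1, h1, hu01⟩ := QSplit86.Splitting.exists_even_add_odd (Q := Q) (u : CliffordAlgebra Q)
  have hint : ∀ v, u0 * CliffordAlgebra.ι Q v = CliffordAlgebra.ι Q (g v) * u0 := fun v =>
    (QSplit86.intertwine_parts h0 h1 (by rw [hu01, ← hconj]; simp [mul_assoc])).1
  obtain ⟨z, hz⟩ : ∃ z, z = (↑u⁻¹ : CliffordAlgebra Q) * u0 := ⟨_, rfl⟩
  have hzc : z ∈ Subalgebra.center R (CliffordAlgebra Q) :=
    QSplit86.mem_center_of_commute_ι fun v => by rw [hz, mul_assoc, hint, ← hconj]; simp [← mul_assoc]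
  obtain ⟨a0, ha0, w, hw, haw⟩ := QSplit86.Splitting.exists_even_add_odd (Q := Q) z
  obtain ⟨hac, hwc⟩ := Groth.Agent.S16999.odd_part_center ha0 hw (haw ▸ hzc)
  obtain ⟨a, rfl⟩ := S.even_center_mem_range hac ha0
  have hsw : star w = w := by
    rw [S.star_of_odd_center hwc hw, Even.neg_one_pow (Odd.add_odd hm odd_one), one_smul]
  have hsz : star z = z := by rw [← haw, star_add, CliffordAlgebra.star_algebraMap, hsw]
  have hu0z : u0 = (u : CliffordAlgebra Q) * z := by rw [hz, ← mul_assoc, Units.mul_inv, one_mul]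
  have hu1z : u1 = (u : CliffordAlgebra Q) * (1 - z) := by
    rw [mul_sub, mul_one, ← hu0z, eq_sub_iff_add_eq, add_comm, hu01]
  have hs : star (u : CliffordAlgebra Q) * u = 1 := hu.2
  have hcom : Commute z (1 - z) := (Commute.one_right z).sub_right (Commute.refl z)
  have hzz : z * z = z := by
    have hev : ∀ {x : CliffordAlgebra Q} {i : ZMod 2}, x ∈ CliffordAlgebra.evenOdd Q i →
        star x ∈ CliffordAlgebra.evenOdd Q i := by
      intro x i hx
      rw [CliffordAlgebra.star_def]
      exact (CliffordAlgebra.reverse_mem_evenOdd_iff Q).2 ((CliffordAlgebra.involute_mem_evenOdd_iff Q).2 hx)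
    have hodd : star u0 * u1 + star u1 * u0 ∈ CliffordAlgebra.evenOdd Q 1 :=
      Submodule.add_mem _ (zero_add (1 : ZMod 2) ▸ SetLike.mul_mem_graded (hev h0) h1)
        (add_zero (1 : ZMod 2) ▸ SetLike.mul_mem_graded (hev h1) h0)
    have heven : star u0 * u1 + star u1 * u0 ∈ CliffordAlgebra.evenOdd Q 0 := by
      have h : star u0 * u0 + star u1 * u1 + (star u0 * u1 + star u1 * u0) = 1 := by
        rw [← hs, ← hu01, star_add, add_mul, mul_add, mul_add]; abel
      rw [eq_sub_of_add_eq' h]
      have e11 := SetLike.mul_mem_graded (hev h1) h1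
      rw [show (1 : ZMod 2) + 1 = 0 from rfl] at e11
      exact Submodule.sub_mem _ (SetLike.one_mem_graded _)
        (Submodule.add_mem _ (zero_add (0 : ZMod 2) ▸ SetLike.mul_mem_graded (hev h0) h0) e11)
    have hzero : star u0 * u1 + star u1 * u0 = 0 :=
      Submodule.disjoint_def.1 (CliffordAlgebra.evenOdd_isCompl Q).disjoint _ heven hodd
    rw [hu0z, hu1z, star_mul, star_mul, hsz, star_sub, star_one, hsz, mul_assoc, mul_assoc,
      ← mul_assoc (star (u : CliffordAlgebra Q)), ← mul_assoc (star (u : CliffordAlgebra Q)), hs, one_mul, one_mul,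
      hcom.symm.eq] at hzero
    have hhalf := congrArg (fun x => (⅟(2 : R)) • x) hzero
    simp only [smul_zero] at hhalf
    rw [← two_smul R (z * (1 - z)), smul_smul, invOf_mul_self, one_smul, mul_sub, mul_one, sub_eq_zero] at hhalf
    exact hhalf.symm
  have hu0w : u0 * w = 0 := by
    have h : u0 * algebraMap R _ a + u0 * w = u0 := by
      rw [← mul_add, haw, hu0z, mul_assoc, hzz]
    exact Submodule.disjoint_def.1 (CliffordAlgebra.evenOdd_isCompl Q).disjoint _
      (by
        rw [eq_sub_of_add_eq' h, ← Algebra.commutes, ← Algebra.smul_def]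
        exact Submodule.sub_mem _ h0 (Submodule.smul_mem _ _ h0))
      (zero_add (1 : ZMod 2) ▸ SetLike.mul_mem_graded h0 hw)
  have hu1w : u1 * w = 0 := by
    have h : u1 * (1 - algebraMap R _ a) - u1 * w = u1 := by
      rw [← mul_sub, sub_sub, haw, hu1z, mul_assoc, mul_sub, sub_mul, sub_mul, one_mul, one_mul, mul_one, hzz]
      simp [mul_sub]
    refine Submodule.disjoint_def.1 (CliffordAlgebra.evenOdd_isCompl Q).disjoint _ ?_ ?_
    · have e := SetLike.mul_mem_graded h1 hw
      rwa [show (1 : ZMod 2) + 1 = 0 from rfl] at e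
    · rw [show u1 * w = u1 * (1 - algebraMap R _ a) - u1 by rw [eq_sub_iff_add_eq, ← eq_sub_iff_add_eq']; exact h.symm,
        mul_sub, mul_one, ← Algebra.commutes, ← Algebra.smul_def]
      exact Submodule.sub_mem _ (Submodule.sub_mem _ h1 (Submodule.smul_mem _ _ h1)) h1
  have hw0 : w = 0 := by
    apply u.isUnit.mul_right_injective
    show (u : CliffordAlgebra Q) * w = u * 0
    rw [mul_zero, ← hu01, add_mul, hu0w, hu1w, add_zero]
  rw [hw0, add_zero] at haw
  refine ⟨a, ?_, ?_, ?_⟩
  · apply QSplit86.algebraMap_clifford_injective Q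
    rw [map_mul, haw, hzz]
  · rw [Algebra.smul_def, Algebra.commutes, haw, ← hu0z]; exact h0
  · rw [sub_smul, one_smul, Algebra.smul_def, Algebra.commutes, haw, ← hu0z, ← hu01, add_sub_cancel_left]
    exact h1

end Groth.Agent.S16997
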