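import Groth.Statements.S17000
import Groth.Agent.QSplit86.OrthRep
import Groth.Agent.QSplit86.Dickson
import Groth.Agent.S9407

set_option autoImplicit false
open CategoryTheory AlgebraicGeometry
open QuadGrp

namespace Groth.Agent.S17000

open scoped TensorProduct

open TensorProduct Matrix Groth.Agent.S17014 Groth.Agent.QuadCentre QSplit86 in
theorem exists_det_eq {A : Type*} [CommRing A] [Nontrivial A] {n m : ℕ} (hm : 1 ≤ m) (hn : n = 2 * m)
    (c : Sym2 (Fin n) → A) (hc : IsUnit (polarMatAt c).det) (G : Matrix (Fin n) (Fin n) A) (hG : subst c G = c) :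
    ∃ e : A, IsIdempotentElem e ∧ G.det = 2 * e - 1 := by
  classical
  let Q : QuadraticForm A (Fin n → A) := LinearMap.BilinMap.toQuadraticMap (Matrix.toLinearMap₂' A (upper c))
  have hQx : ∀ x, Q x = qf (upper c) x := fun x => Matrix.toLinearMap₂'_apply' (upper c) x x
  have hpol : ∀ x y, QuadraticMap.polarBilin Q x y = x ⬝ᵥ polarMatAt c *ᵥ y := fun x y => by
    rw [polarMatAt_eq_upper, QuadraticMap.polarBilin_apply_apply, QuadraticMap.polar, hQx, hQx, hQx, qf_add, bl]
    ring
  have hreg : QuadGrp.IsRegular Q := by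
    constructor
    · rw [injective_iff_map_eq_zero]
      intro x hx
      have h : x ᵥ* polarMatAt c = 0 := funext fun j => by
        have h := hpol x (Pi.single j 1)
        rw [hx, Matrix.dotProduct_mulVec, dotProduct_single, mul_one] at h
        exact h.symm
      exact Matrix.vecMul_injective_of_isUnit ((Matrix.isUnit_iff_isUnit_det _).2 hc)
        (by simp only; rw [h, Matrix.zero_vecMul])
    · intro f
      refine ⟨(fun j => f (Pi.single j 1)) ᵥ* (polarMatAt c)⁻¹, (Pi.basisFun A (Fin n)).ext fun j => ?_⟩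
      rw [Pi.basisFun_apply, hpol, Matrix.dotProduct_mulVec, Matrix.vecMul_vecMul, Matrix.nonsing_inv_mul _ hc,
        Matrix.vecMul_one, dotProduct_single, mul_one]
  have hu : IsUnit G.det := (isUnit_pow_iff two_ne_zero).1 (by rw [det_sq_of_subst hc hG]; exact isUnit_one)
  let g := Matrix.toLinearEquiv (Pi.basisFun A (Fin n)) G hu
  have hgx : ∀ x, g x = G *ᵥ x := fun x => by
    show Matrix.toLin (Pi.basisFun A (Fin n)) (Pi.basisFun A (Fin n)) G x = _
    rw [← Matrix.toLin'_apply, Matrix.toLin_eq_toLin']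
  have hg : g ∈ QuadGrp.O Q := fun x => by rw [hgx, hQx, hQx, (subst_eq_iff c G).1 hG]
  obtain ⟨e, he, hdet, -, -⟩ := exists_dickson hm (by simp [hn]) hreg g hg
  refine ⟨e, he, ?_⟩
  rw [← hdet]
  show G.det = LinearMap.det (Matrix.toLin (Pi.basisFun A (Fin n)) (Pi.basisFun A (Fin n)) G)
  rw [LinearMap.det_toLin]

/-- For m ≥ 1, a group scheme over Spec ℤ which is the naive special orthogonal group (kernel of the
determinant on the orthogonal group) of the standard split quadratic form in 2m variables is a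
reduced scheme and is not flat over ℤ. (The published statement also identifies the complement of
the Dickson special orthogonal group inside it with the non-identity component of the orthogonal
group in characteristic 2.) -/
theorem result (m : ℕ) (hm : 1 ≤ m)
    (G : Over (Spec (CommRingCat.of ℤ))) [GrpObj G] (D : QuadGrp.SOrth'Rep (QuadGrp.splitForm ℤ (2 * m)) G) :
    AlgebraicGeometry.IsReduced G.left ∧ ¬ AlgebraicGeometry.Flat G.hom := by
  classical
  set Q := QuadGrp.splitForm ℤ (2 * m)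
  set c := QSplit86.stdCoeffs Q with hc
  let p : Fin (2 * m) → Fin (2 * m) := fun k =>
    if h : k.1 % 2 = 0 then ⟨k.1 + 1, by omega⟩ else ⟨k.1 - 1, by omega⟩
  have hpp : ∀ k, p (p k) = k := fun k => by
    by_cases h : k.1 % 2 = 0
    · have h2 : ¬ (k.1 + 1) % 2 = 0 := by omega
      simp [p, h, h2]
    · have h2 : (k.1 - 1) % 2 = 0 := by omega
      simp [p, h, h2]; ext; simp; omega
  have hQx : ∀ x, Groth.Agent.S17014.upper c |> fun a => QSplit86.qf a x = Q x := fun x => by
    show QSplit86.qf _ x = _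
    rw [hc, QSplit86.stdCoeffs, QSplit86.qf_upper_coeffs]
    congr 1
    conv_rhs => rw [← (Pi.basisFun ℤ (Fin (2 * m))).sum_repr x]
    simp
  have hev : (2 * m) % 2 = 0 := by omega
  have hQe : ∀ x, Q x = ∑ i : Fin ((2 * m) / 2), x ⟨2 * i, by omega⟩ * x ⟨2 * i + 1, by omega⟩ := fun x => by
    simp [Q, QuadGrp.splitForm, hev]
  have hbl : ∀ x y, QSplit86.bl (Groth.Agent.S17014.upper c) x y =
      ∑ i : Fin ((2 * m) / 2), (x ⟨2 * i, by omega⟩ * y ⟨2 * i + 1, by omega⟩ +
        y ⟨2 * i, by omega⟩ * x ⟨2 * i + 1, by omega⟩) := fun x y => by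
    have h := QSplit86.qf_add (Groth.Agent.S17014.upper c) x y
    rw [hQx, hQx, hQx, hQe, hQe, hQe] at h
    simp only [Pi.add_apply, add_mul, mul_add, Finset.sum_add_distrib] at h ⊢
    linarith
  have hP : ∀ i j, Groth.Agent.QuadCentre.polarMatAt c i j = if j = p i then 1 else 0 := fun i j => by
    have h1 : Groth.Agent.QuadCentre.polarMatAt c i j =
        QSplit86.bl (Groth.Agent.S17014.upper c) (Pi.single i 1) (Pi.single j 1) := by
      rw [QSplit86.bl_single_left, Matrix.mulVec_single_one]; rfl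
    rw [h1, hbl, Finset.sum_eq_single (⟨i.1 / 2, by omega⟩ : Fin ((2 * m) / 2))]
    · by_cases h : i.1 % 2 = 0
      · simp only [Pi.single_apply, p, dif_pos h, Fin.ext_iff]
        split_ifs <;> first | omega | simp
      · simp only [Pi.single_apply, p, dif_neg h, Fin.ext_iff]
        split_ifs <;> first | omega | simp
    · intro r _ hr
      have hr' : r.1 ≠ i.1 / 2 := fun e => hr (Fin.ext e)
      simp only [Pi.single_apply, Fin.ext_iff]
      split_ifs <;> first | omega | simp
    · intro h; exact absurd (Finset.mem_univ _) h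
  have hdetP : IsUnit (Groth.Agent.QuadCentre.polarMatAt c).det := by
    refine IsUnit.of_mul_eq_one (Groth.Agent.QuadCentre.polarMatAt c).det ?_
    rw [← Matrix.det_mul, ← Matrix.det_one (n := Fin (2 * m))]
    congr 1
    ext i j
    rw [Matrix.mul_apply, Finset.sum_eq_single (p i) (fun b _ hb => by rw [hP, if_neg hb, zero_mul]) (fun h => absurd (Finset.mem_univ _) h), hP, hP, if_pos rfl, one_mul, hpp, Matrix.one_apply]
    simp only [eq_comm]
  have hdet : ∀ (A : Type) [CommRing A] [Algebra ℤ A] (g : Matrix (Fin (2 * m)) (Fin (2 * m)) A),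
      Groth.Agent.S17014.subst (QSplit86.cA A c) g = QSplit86.cA A c → IsUnit g.det := fun A _ _ g hg =>
    (isUnit_pow_iff two_ne_zero).1 (by
      rw [QSplit86.det_sq_of_subst (QSplit86.isUnit_det_cA A hdetP) hg]; exact isUnit_one)
  obtain ⟨i⟩ := QSplit86.exists_iso_sorth Q hdet G D
  let A1 := QSplit86.EqRing (QSplit86.eqO c)
  let A2 := QSplit86.EqRing (QSplit86.eqSO c)
  haveI hA1 : Algebra.Smooth ℤ A1 := QSplit86.smooth_eqO hdetP
  have hle : Ideal.span (Set.range (QSplit86.eqO c)) ≤ Ideal.span (Set.range (QSplit86.eqSO c)) :=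
    Ideal.span_mono (by rintro _ ⟨s, rfl⟩; exact ⟨some s, rfl⟩)
  let q : A1 →+* A2 := Ideal.Quotient.factor hle
  have hq : Function.Surjective q := Ideal.Quotient.factor_surjective hle
  -- the point of the orthogonal group with determinant -1
  let σ : Equiv.Perm (Fin (2 * m)) := Equiv.swap ⟨0, by omega⟩ ⟨1, by omega⟩
  let S : Matrix (Fin (2 * m)) (Fin (2 * m)) ℤ := σ.permMatrix ℤ
  have hSsub : Groth.Agent.S17014.subst (QSplit86.cA ℤ c) S = QSplit86.cA ℤ c := by
    rw [show QSplit86.cA ℤ c = c from funext fun s => by simp [QSplit86.cA], QSplit86.subst_eq_iff]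
    intro x
    rw [hQx, hQx, hQe, hQe]
    refine Finset.sum_congr rfl fun r _ => ?_
    simp only [S, Matrix.permMatrix_mulVec, Function.comp_apply, σ]
    by_cases hr : r.1 = 0
    · rw [show (⟨2 * r.1, by omega⟩ : Fin (2 * m)) = ⟨0, by omega⟩ from Fin.ext (by simp; omega),
        show (⟨2 * r.1 + 1, by omega⟩ : Fin (2 * m)) = ⟨1, by omega⟩ from Fin.ext (by simp; omega),
        Equiv.swap_apply_left, Equiv.swap_apply_right, mul_comm]
    · rw [Equiv.swap_apply_of_ne_of_ne (fun h => by (simp [Fin.ext_iff] at h) <;> omega) (fun h => by (simp [Fin.ext_iff] at h) <;> omega),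
        Equiv.swap_apply_of_ne_of_ne (fun h => by (simp [Fin.ext_iff] at h) <;> omega) (fun h => by (simp [Fin.ext_iff] at h) <;> omega)]
  let f : A1 →ₐ[ℤ] ℤ := (QSplit86.eqRingPts (QSplit86.eqO c) ℤ).symm
    ⟨fun x => S x.1 x.2, (QSplit86.eqO_zero_iff c ℤ _).2 hSsub⟩
  haveI : Nontrivial A1 := f.toRingHom.domain_nontrivial
  set pu := QSplit86.eqRingPts (QSplit86.eqO c) A1 (AlgHom.id ℤ A1)
  set U := QSplit86.toG A1 pu.1
  obtain ⟨e, he, hUe⟩ := exists_det_eq hm rfl (QSplit86.cA A1 c) (QSplit86.isUnit_det_cA A1 hdetP) U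
    ((QSplit86.eqO_zero_iff c A1 _).1 pu.2)
  have hU : Ideal.Quotient.mk _ (QSplit86.univG (R := ℤ)).det = U.det := by
    rw [RingHom.map_det]
    congr 1
  have hker : ∀ x, q x = 0 → ∃ w, w * (2 * (e - 1)) = x := by
    intro x hx
    obtain ⟨P, rfl⟩ := Ideal.Quotient.mk_surjective x
    have hP' : P ∈ Ideal.span (Set.range (QSplit86.eqSO c)) := Ideal.Quotient.eq_zero_iff_mem.1 hx
    have h : Ideal.Quotient.mk (Ideal.span (Set.range (QSplit86.eqO c))) P ∈ Ideal.span {2 * (e - 1)} := by
      have h' := Ideal.mem_map_of_mem (Ideal.Quotient.mk (Ideal.span (Set.range (QSplit86.eqO c)))) hP'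
      rw [Ideal.map_span] at h'
      refine Ideal.span_le.2 ?_ h'
      rintro _ ⟨_, ⟨_ | s, rfl⟩, rfl⟩
      · show Ideal.Quotient.mk _ ((QSplit86.univG (R := ℤ)).det - 1) ∈ _
        rw [map_sub, map_one, hU, hUe, show (2 * e - 1 - 1 : A1) = 2 * (e - 1) by ring]
        exact Ideal.mem_span_singleton_self _
      · show Ideal.Quotient.mk _ (QSplit86.eqO c s) ∈ _
        rw [Ideal.Quotient.eq_zero_iff_mem.2 (Ideal.subset_span (Set.mem_range_self s))]
        exact Ideal.zero_mem _
    exact Ideal.mem_span_singleton'.1 h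
  have hq2 : q (2 * (e - 1)) = 0 := by
    rw [show (2 * (e - 1) : A1) = U.det - 1 by rw [hUe]; ring, ← hU,
      ← map_one (Ideal.Quotient.mk (Ideal.span (Set.range (QSplit86.eqO c)))), ← map_sub]
    exact Ideal.Quotient.eq_zero_iff_mem.2 (Ideal.subset_span ⟨none, rfl⟩)
  have he' : e * e = e := he
  haveI : _root_.IsReduced A1 := Groth.Agent.S9407.result ℤ A1
  have h2red : ∀ (x : A1) (N : ℕ), (2 : A1) ∣ x ^ N → (2 : A1) ∣ x := by
    intro x N hx
    let I : Ideal ℤ := Ideal.span {2}
    haveI : Fact (Nat.Prime 2) := ⟨Nat.prime_two⟩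
    haveI : _root_.IsReduced (ℤ ⧸ I) :=
      isReduced_of_injective (Int.quotientSpanNatEquivZMod 2).toRingHom (Int.quotientSpanNatEquivZMod 2).injective
    haveI : Algebra.Smooth (ℤ ⧸ I) ((ℤ ⧸ I) ⊗[ℤ] A1) := inferInstance
    haveI : _root_.IsReduced ((ℤ ⧸ I) ⊗[ℤ] A1) := by
      have := Groth.Agent.S9407.result (ℤ ⧸ I) ((ℤ ⧸ I) ⊗[ℤ] A1)
      exact @_root_.IsReduced.mk _ _ _ fun x hx => this.eq_zero x hx
    haveI : _root_.IsReduced (A1 ⊗[ℤ] (ℤ ⧸ I)) :=
      isReduced_of_injective (Algebra.TensorProduct.comm ℤ A1 (ℤ ⧸ I)).toRingEquiv.toRingHom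
        (Algebra.TensorProduct.comm ℤ A1 (ℤ ⧸ I)).injective
    haveI : _root_.IsReduced (A1 ⧸ Ideal.map (algebraMap ℤ A1) I) :=
      isReduced_of_injective (Algebra.TensorProduct.quotIdealMapEquivTensorQuot A1 I).toRingEquiv.toRingHom
        (Algebra.TensorProduct.quotIdealMapEquivTensorQuot A1 I).injective
    have hI : Ideal.map (algebraMap ℤ A1) I = Ideal.span {2} := by
      rw [Ideal.map_span, Set.image_singleton, map_ofNat]
    rw [← Ideal.mem_span_singleton, ← hI, ← Ideal.Quotient.eq_zero_iff_mem] at hx ⊢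
    exact IsNilpotent.eq_zero ⟨N, by rw [← map_pow]; exact hx⟩
  constructor
  · haveI : _root_.IsReduced A2 := ⟨fun y ⟨N, hN⟩ => by
      obtain ⟨x, rfl⟩ := hq y
      obtain ⟨w, hw⟩ := hker (x ^ N) (by rw [map_pow, hN])
      have hex : e * x = 0 := IsNilpotent.eq_zero ⟨N + 1, by
        rw [mul_pow, pow_succ x, ← hw, show e ^ (N + 1) = e from he.pow_succ_eq N]
        linear_combination (2 * w * x) * he'⟩
      obtain ⟨v, hv⟩ := h2red x N ⟨w * (e - 1), by rw [← hw]; ring⟩
      rw [show x = -v * (2 * (e - 1)) by linear_combination hv + hex - e * hv, map_mul, hq2, mul_zero]⟩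
    exact QSplit86.isReduced_of_iso G A2 i
  · intro hflat
    haveI : Module.Flat ℤ A2 := QSplit86.flat_of_hom_of_iso G A2 i hflat
    haveI : Module.IsTorsionFree ℤ A2 := inferInstance
    have h0 : (2 : ℤ) • q (e - 1) = 0 := by
      rw [zsmul_eq_mul, ← map_intCast q, ← map_mul, Int.cast_ofNat, hq2]
    obtain ⟨w, hw⟩ := hker (e - 1) ((smul_eq_zero.1 h0).resolve_left (by norm_num))
    have hfd : f.toRingHom U.det = -1 := by
      rw [RingHom.map_det, RingHom.mapMatrix_apply,
        show U.map f.toRingHom = QSplit86.toG ℤ (f ∘ pu.1) from rfl, ← QSplit86.eqRingPts_comp, AlgHom.comp_id]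
      simp only [f, Equiv.apply_symm_apply]
      show S.det = -1
      rw [Matrix.det_permutation, Equiv.Perm.sign_swap (by simp [Fin.ext_iff])]
      rfl
    rw [hUe, map_sub, map_mul, map_ofNat, map_one] at hfd
    have hfw := congrArg f.toRingHom hw
    rw [map_mul, map_mul, map_ofNat, map_sub, map_one, show f.toRingHom e = 0 by omega] at hfw
    omega

end Groth.Agent.S17000
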