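import Groth.Statements.S17003
import Groth.Agent.QSplit86.BaseChange

set_option autoImplicit false
universe u
open scoped TensorProduct
open QuadGrp

namespace Groth.Agent.S17003

/-- Let Q be a quadratic form on R^{2m+1} over a commutative ring R whose half-discriminant in the
standard basis is a unit. Then fppf-locally on R the form Q is isometric to the standard split form
in 2m+1 variables: there is a faithfully flat finitely presented R-algebra A and an isometry between
the base changes to A of Q and of the split form. (For even rank the étale-local statement is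
already available; for odd rank with 2 not a unit the fppf topology is needed.) -/
theorem result (R : Type u) [CommRing R] (m : ℕ)
    (Q : QuadraticForm R (Fin (2 * m + 1) → R))
    (hQ : QuadGrp.IsSemiregular (Pi.basisFun R (Fin (2 * m + 1))) (LinearEquiv.refl R R) Q) :
    ∃ (A : Type u) (_ : CommRing A) (_ : Algebra R A), Module.FaithfullyFlat R A ∧ Algebra.FinitePresentation R A ∧
      Nonempty ((QuadGrp.baseChangeForm A Q).IsometryEquiv
        (QuadGrp.baseChangeForm A (QuadGrp.splitForm R (2 * m + 1)))) := by
  classical
  set b := Pi.basisFun R (Fin (2 * m + 1))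
  set c := QuadGrp.coeffs b (LinearEquiv.refl R R) Q
  obtain ⟨A, _, _, hff, hfp, v, H, hsurj, hform⟩ := QSplit86.exists_split_odd_global c
    (by rw [← QSplit86.halfDisc_eq_hd]; exact hQ)
  refine ⟨A, inferInstance, inferInstance, hff, hfp, ?_⟩
  let L : (Fin (2 * m + 1) → A) →ₗ[A] (Fin (2 * m + 1) → A) :=
    ((LinearMap.id.smulRight v).comp (LinearMap.proj (QSplit86.se m none))) +
      H.mulVecLin.comp (LinearMap.funLeft A A (fun j => QSplit86.se m (some j)))
  have hLs : Function.Surjective L := fun y => by
    obtain ⟨x, z, hxz⟩ := hsurj y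
    refine ⟨fun r => ((QSplit86.seEquiv m).symm r).elim x z, ?_⟩
    rw [← hxz]
    have h : ∀ o, (QSplit86.seEquiv m).symm (QSplit86.se m o) = o := fun o =>
      (QSplit86.seEquiv m).symm_apply_apply o
    simp only [L, LinearMap.add_apply, LinearMap.comp_apply, LinearMap.smulRight_apply, LinearMap.id_apply,
      LinearMap.proj_apply, Matrix.mulVecLin_apply, h, Option.elim_none]
    congr 2
    funext j
    simp [LinearMap.funLeft_apply, h]
  have hLb : Function.Bijective L := OrzechProperty.bijective_of_surjective_endomorphism L hLs
  let bA := (Algebra.TensorProduct.basis A b).equivFun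
  let e : TensorProduct R A (Fin (2 * m + 1) → R) ≃ₗ[A] TensorProduct R A (Fin (2 * m + 1) → R) :=
    (bA.trans (LinearEquiv.ofBijective L hLb)).trans bA.symm
  have hsplit : ∀ x, QSplit86.qf (QSplit86.splitMat R m) x =
      QuadGrp.splitForm R (2 * m + 1) (∑ i, x i • b i) := fun x => by
    rw [QSplit86.qf_splitMat, QSplit86.splitForm_eq]
    have : (∑ i, x i • b i) = x := by
      simpa [b] using (pi_eq_sum_univ' x).symm
    rw [this]
  refine ⟨(⟨e, fun z => ?_⟩ : (QuadGrp.baseChangeForm A (QuadGrp.splitForm R (2 * m + 1))).IsometryEquiv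
    (QuadGrp.baseChangeForm A Q)).symm⟩
  rw [QSplit86.baseChangeForm_basis A b Q _ (QSplit86.qf_upper_coeffs b Q),
    QSplit86.baseChangeForm_basis A b _ _ hsplit, QSplit86.splitMat_map, QSplit86.qf_splitMat]
  show QSplit86.qf _ (bA (bA.symm (L (bA z)))) = _
  rw [LinearEquiv.apply_symm_apply]
  exact hform _ _

end Groth.Agent.S17003
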