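import Groth.Statements.S17007
import Groth.Agent.QSplit86.Dickson

set_option autoImplicit false
universe u v
open QuadGrp

namespace Groth.Agent.S17007

/-- Over a local ring, for a quadratic form Q on a finite free module of even rank 2m ≥ 2 whose polar
form is a perfect pairing, the isometries satisfying the Dickson condition form a subgroup of index
2 in the group of all isometries. (Points-level form, over a local base, of: the Dickson invariant
from the orthogonal group onto the constant group ℤ/2 is surjective with kernel the special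
orthogonal group.) -/
theorem result {R : Type u} [CommRing R] [IsLocalRing R]
    {M : Type v} [AddCommGroup M] [Module R M] [Module.Free R M] [Module.Finite R M]
    (m : ℕ) (hm : 1 ≤ m) (hM : Module.finrank R M = 2 * m) (Q : QuadraticForm R M) (hQ : QuadGrp.IsRegular Q) :
    ((QuadGrp.SOeven Q).subgroupOf (QuadGrp.O Q)).index = 2 := by
  have hcase : ∀ g (hg : g ∈ QuadGrp.O Q), ¬ QuadGrp.IsDicksonTrivial Q g hg →
      ∃ u : (CliffordAlgebra Q)ˣ, (u : CliffordAlgebra Q) ∈ CliffordAlgebra.evenOdd Q 1 ∧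
        ∀ v, (u : CliffordAlgebra Q) * CliffordAlgebra.ι Q v * ↑u⁻¹ = CliffordAlgebra.ι Q (g v) := by
    intro g hg hD
    obtain ⟨u, hu, h⟩ := QSplit86.exists_conj hM hQ g hg
    obtain ⟨e, -, -, hiff, hpar⟩ := QSplit86.exists_dickson hm hM hQ g hg
    obtain ⟨e', he', h0, h1⟩ := QSplit86.isLocHomog_of_mem hM hQ u hu
    rcases IsLocalRing.isUnit_or_isUnit_one_sub_self e' with hu' | hu'
    · rw [show e' = 1 from (IsIdempotentElem.iff_eq_one_of_isUnit hu').1 he', one_smul] at h0
      exact absurd (hiff.2 ((hpar u h).1 h0)) hD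
    · have : e' = 0 := by
        have := (IsIdempotentElem.iff_eq_one_of_isUnit hu').1 he'.one_sub
        linear_combination -this
      rw [this, sub_zero, one_smul] at h1
      exact ⟨u, h1, h⟩
  obtain ⟨v, hv⟩ := QSplit86.exists_isUnit_value hm hM hQ
  obtain ⟨r, hr, u, hu1, hu⟩ := QSplit86.exists_reflection hv
  have hrn : ¬ ∃ hg : r ∈ QuadGrp.O Q, QuadGrp.IsDicksonTrivial Q r hg := by
    rintro ⟨hg, hD⟩
    obtain ⟨e, -, -, hiff, hpar⟩ := QSplit86.exists_dickson hm hM hQ r hg
    exact one_ne_zero ((hiff.1 hD).symm.trans ((hpar u hu).2 hu1))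
  have hprod : ∀ g (hg : g ∈ QuadGrp.O Q), ¬ QuadGrp.IsDicksonTrivial Q g hg →
      g * r ∈ QuadGrp.SOeven Q := by
    intro g hg hD
    obtain ⟨w, hw1, hw⟩ := hcase g hg hD
    have hgr : g * r ∈ QuadGrp.O Q := mul_mem hg hr
    obtain ⟨e, -, -, hiff, hpar⟩ := QSplit86.exists_dickson hm hM hQ (g * r) hgr
    refine ⟨hgr, hiff.2 ((hpar (w * u) fun x => ?_).1 ?_)⟩
    · rw [LinearEquiv.mul_apply, ← hw, ← hu]
      simp [mul_assoc]
    · rw [Units.val_mul]
      have h11 := SetLike.mul_mem_graded hw1 hu1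
      rwa [show (1 : ZMod 2) + 1 = 0 from rfl] at h11
  refine Subgroup.index_eq_two_iff.2 ⟨⟨r, hr⟩, fun g => ?_⟩
  simp only [Subgroup.mem_subgroupOf, Subgroup.coe_mul]
  by_cases hg : (g : M ≃ₗ[R] M) ∈ QuadGrp.SOeven Q
  · refine Or.inr ⟨hg, fun h => hrn ?_⟩
    exact (Subgroup.mul_mem_cancel_left _ hg).1 h
  · exact Or.inl ⟨hprod g g.2 fun hD => hg ⟨g.2, hD⟩, hg⟩

end Groth.Agent.S17007
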