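import Groth.Statements.S1701
import Groth.Agent.AlgSp.CartierSk
import Mathlib.RingTheory.Nakayama
import Mathlib.RingTheory.Flat.Basic
-- import your own Groth.Agent.* helpers here

set_option autoImplicit false
universe u
open CategoryTheory CategoryTheory.Limits AlgebraicGeometry TopologicalSpace
open SDiv

namespace Groth.Agent.S1701

set_option linter.style.haveILetI false

open scoped TensorProduct in
/-- If `a` is a regular element in the radical of a Noetherian ring `B` and `B/aB` is flat over `A`,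
then `B` is flat over `A`. -/
theorem flat_of_regular {A B C : Type u} [CommRing A] [CommRing B] [IsNoetherianRing B] [CommRing C]
    [Algebra A B] [Algebra A C] (ψ : B →ₐ[A] C) (hψ : Function.Surjective ψ) (a : B)
    (hker : ∀ b, ψ b = 0 ↔ a ∣ b) (ha : a ∈ nonZeroDivisors B)
    (hjac : a ∈ Ideal.jacobson (⊥ : Ideal B)) [Module.Flat A C] : Module.Flat A B := by
  rw [Module.Flat.iff_lTensor_injective]
  intro J hJ
  haveI : Module.Finite A J := Module.Finite.iff_fg.mpr hJ
  let μ : B ⊗[A] J →ₗ[B] B :=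
    (TensorProduct.AlgebraTensorModule.rid A B B).toLinearMap ∘ₗ
      TensorProduct.AlgebraTensorModule.lTensor B B J.subtype
  have hμ : ∀ z, μ z = (TensorProduct.rid A B) (J.subtype.lTensor B z) := fun z => by
    induction z using TensorProduct.induction_on with
    | zero => simp
    | tmul b j => simp [μ]
    | add x y hx hy => simp only [map_add, hx, hy]
  suffices hbot : LinearMap.ker μ = ⊥ by
    refine (injective_iff_map_eq_zero _).mpr fun z hz => ?_
    have : z ∈ LinearMap.ker μ := by rw [LinearMap.mem_ker, hμ, hz, map_zero]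
    rw [hbot] at this
    exact this
  refine Submodule.eq_bot_of_le_smul_of_le_jacobson_bot (Ideal.span {a}) _
    (IsNoetherian.noetherian _) (fun z hz => ?_) ((Ideal.span_singleton_le_iff_mem _).mpr hjac)
  have h0 : ψ.toLinearMap.rTensor J z = 0 := by
    have hcomp : ∀ y, (TensorProduct.rid A C) (J.subtype.lTensor C (ψ.toLinearMap.rTensor J y)) =
        ψ ((TensorProduct.rid A B) (J.subtype.lTensor B y)) := fun y => by
      induction y using TensorProduct.induction_on with
      | zero => simp
      | tmul b j => simp [map_smul]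
      | add x y hx hy => simp only [map_add, hx, hy]
    apply Module.Flat.lTensor_preserves_injective_linearMap J.subtype J.subtype_injective
    apply (TensorProduct.rid A C).injective
    rw [hcomp, ← hμ, LinearMap.mem_ker.mp hz, map_zero, map_zero, map_zero]
  have hex : Function.Exact (LinearMap.mulLeft A a) ψ.toLinearMap := fun b => by
    rw [AlgHom.toLinearMap_apply, hker]
    exact ⟨fun ⟨c, hc⟩ => ⟨c, hc.symm⟩, fun ⟨c, hc⟩ => ⟨c, hc.symm⟩⟩
  obtain ⟨w, hw⟩ := (rTensor_exact J hex hψ z).mp h0
  have hmul : ∀ y : B ⊗[A] J, (LinearMap.mulLeft A a).rTensor J y = a • y := fun y => by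
    induction y using TensorProduct.induction_on with
    | zero => simp
    | tmul b j => simp [TensorProduct.smul_tmul', smul_eq_mul]
    | add x y hx hy => simp only [map_add, smul_add, hx, hy]
  rw [hmul] at hw
  rw [← hw]
  refine Submodule.smul_mem_smul (Ideal.mem_span_singleton_self a) ?_
  rw [LinearMap.mem_ker]
  have h1 : a * μ w = 0 := by
    rw [← smul_eq_mul, ← map_smul, hw]
    exact LinearMap.mem_ker.mp hz
  exact (mem_nonZeroDivisors_iff_left.mp ha) _ h1

/-- Let f : X ⟶ S be a morphism, 𝓘 the ideal sheaf of an effective Cartier divisor D ⊂ X such that D ⟶ S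
is flat (a relative effective Cartier divisor), and x a point of D at which the local ring of X is
Noetherian. Then f is flat at x. -/
theorem result {X S : Scheme.{u}} (f : X ⟶ S) (𝓘 : X.IdealSheafData)
    (hD : (BlowUp.IsEffCartierIdeal 𝓘 ∧ Flat (𝓘.subschemeι ≫ f))) (d : ↥𝓘.subscheme) [IsNoetherianRing (X.presheaf.stalk (𝓘.subschemeι d))] :
    (f.stalkMap (𝓘.subschemeι d)).hom.Flat := by
  obtain ⟨hI, hfl⟩ := hD
  obtain ⟨U, hdU, -, g, hg, he⟩ :=
    Groth.Agent.IdealSh.EffCartier.exists_equation hI (𝓘.subschemeι d) ⊤ trivial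
  let a := (X.presheaf.germ U.1 (𝓘.subschemeι d) hdU).hom g
  have ha : a ∈ nonZeroDivisors (X.presheaf.stalk (𝓘.subschemeι d)) :=
    Groth.Agent.IdealSh.Regular.germ_mem_nonZeroDivisors U.2 _ hdU hg
  have hsupp : 𝓘.subschemeι d ∈ 𝓘.support := by
    rw [← SetLike.mem_coe, ← 𝓘.range_subschemeι]; exact ⟨d, rfl⟩
  have hm : a ∈ IsLocalRing.maximalIdeal (X.presheaf.stalk (𝓘.subschemeι d)) := by
    rw [Scheme.IdealSheafData.mem_support_iff_of_mem hdU, he] at hsupp
    simp only [Scheme.zeroLocus_span, Scheme.zeroLocus_singleton, Set.mem_compl_iff, SetLike.mem_coe,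
      Scheme.mem_basicOpen _ _ _ hdU] at hsupp
    exact (IsLocalRing.mem_maximalIdeal _).mpr hsupp
  have hker : RingHom.ker (𝓘.subschemeι.stalkMap d).hom = Ideal.span {a} := by
    refine le_antisymm ((Groth.Agent.AlgSp.CartierSk.ker_stalkMap_le 𝓘 U d hdU).trans_eq ?_) ?_
    · rw [he, Ideal.map_span, Set.image_singleton]
    · rw [Ideal.span_le, Set.singleton_subset_iff, SetLike.mem_coe, RingHom.mem_ker]
      have h0 : (𝓘.subschemeι.app U.1).hom g = 0 := by
        rw [← RingHom.mem_ker, 𝓘.ker_subschemeι_app, he]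
        exact Ideal.mem_span_singleton_self g
      exact (Scheme.Hom.germ_stalkMap_apply 𝓘.subschemeι U.1 d hdU g).trans
        ((congrArg (𝓘.subscheme.presheaf.germ _ d hdU) h0).trans (map_zero _))
  have hflC : ((𝓘.subschemeι ≫ f).stalkMap d).hom.Flat := Flat.stalkMap _ d
  rw [Scheme.Hom.stalkMap_comp] at hflC
  replace hflC : ((𝓘.subschemeι.stalkMap d).hom.comp (f.stalkMap (𝓘.subschemeι d)).hom).Flat := hflC
  letI : Algebra (S.presheaf.stalk (f (𝓘.subschemeι d))) (X.presheaf.stalk (𝓘.subschemeι d)) :=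
    (f.stalkMap (𝓘.subschemeι d)).hom.toAlgebra
  letI : Algebra (S.presheaf.stalk (f (𝓘.subschemeι d))) (𝓘.subscheme.presheaf.stalk d) :=
    ((𝓘.subschemeι.stalkMap d).hom.comp (f.stalkMap (𝓘.subschemeι d)).hom).toAlgebra
  haveI : Module.Flat (S.presheaf.stalk (f (𝓘.subschemeι d))) (𝓘.subscheme.presheaf.stalk d) := hflC
  exact flat_of_regular
    ({ (𝓘.subschemeι.stalkMap d).hom with commutes' := fun _ => rfl } :
      X.presheaf.stalk (𝓘.subschemeι d) →ₐ[S.presheaf.stalk (f (𝓘.subschemeι d))]
        𝓘.subscheme.presheaf.stalk d)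
    (𝓘.subschemeι.stalkMap_surjective d) a
    (fun b => by rw [← Ideal.mem_span_singleton, ← hker]; rfl) ha
    (by rw [IsLocalRing.jacobson_eq_maximalIdeal _ bot_ne_top]; exact hm)

end Groth.Agent.S1701
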