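import Groth.Statements.S17015
import Groth.Agent.QSplit86.BaseChange

set_option autoImplicit false
universe u v
open QuadGrp

namespace Groth.Agent.S17015

open Matrix QSplit86 in
/-- The pointwise criterion for a form over a field. -/
theorem nondeg_iff_good {k K : Type u} [Field k] [Field K] [IsAlgClosed K] (f : k →+* K) {n : ℕ}
    {V : Type v} [AddCommGroup V] [Module k V] (bV : (Fin n → k) ≃ₗ[k] V) (q : QuadraticForm k V)
    (a : Matrix (Fin n) (Fin n) k) (ha : ∀ x, q (bV x) = qf a x) :
    q.Nondegenerate ↔ Good f a := by
  classical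
  have hpol : ∀ x y, QuadraticMap.polar q (bV x) (bV y) = bl a x y := fun x y => by
    rw [QuadraticMap.polar, ← map_add, ha, ha, ha, qf_add]; ring
  have hker : ∀ x, bV x ∈ q.polarBilin.ker ↔ ∀ y, bl a x y = 0 := fun x => by
    rw [LinearMap.mem_ker]
    constructor
    · intro h y
      rw [← hpol]
      exact LinearMap.congr_fun h (bV y)
    · intro h
      refine LinearMap.ext fun w => ?_
      obtain ⟨y, rfl⟩ := bV.surjective w
      rw [QuadraticMap.polarBilin_apply_apply, hpol, h, LinearMap.zero_apply]
  have hrad : q.radical = ⊥ ↔ ∀ x, (∀ y, bl a x y = 0) → qf a x = 0 → x = 0 := by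
    constructor
    · intro h x hx hq
      apply bV.map_eq_zero_iff.1
      rw [← Submodule.mem_bot k, ← h, QuadraticMap.mem_radical_iff']
      refine ⟨by rw [ha, hq], fun w => ?_⟩
      obtain ⟨y, rfl⟩ := bV.surjective w
      rw [← map_add, ha, ha, qf_add, hx, hq, zero_add, add_zero]
    · intro h
      rw [eq_bot_iff]
      intro w hw
      obtain ⟨x, rfl⟩ := bV.surjective w
      rw [QuadraticMap.mem_radical_iff'] at hw
      have hq : qf a x = 0 := by rw [← ha]; exact hw.1
      rw [h x (fun y => ?_) hq, map_zero]
      · exact Submodule.zero_mem _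
      · have := hw.2 (bV y)
        rw [← map_add, ha, ha, qf_add, hq, zero_add, add_eq_left] at this
        exact this
  have hmapv : ∀ x : Fin n → k, (∀ y, bl a x y = 0) → ∀ w, bl (a.map f) (f ∘ x) w = 0 := fun x hx =>
    forall_bl_eq_zero _ _ fun i => by
      rw [show (Pi.single i 1 : Fin n → K) = f ∘ Pi.single i 1 from funext fun r => by
        simp [Pi.single_apply, apply_ite f], ← map_bl, hx, map_zero]
  constructor
  · intro hnd v hv hqv
    have hr := hrad.1 hnd.radical_eq_bot
    by_cases hP : ∀ x : Fin n → k, (∀ y, bl a x y = 0) → x = 0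
    · have hu : IsUnit (a + aᵀ).det := by
        refine isUnit_iff_ne_zero.2 fun h0 => ?_
        obtain ⟨x, hx0, hx⟩ := Matrix.exists_mulVec_eq_zero_iff.2 h0
        exact hx0 (hP x fun y => by rw [bl_comm, bl, hx, dotProduct_zero])
      have hu' := isUnit_det_map f hu
      by_contra hv0
      refine hu'.ne_zero (Matrix.exists_mulVec_eq_zero_iff.1 ⟨v, hv0, funext fun i => ?_⟩)
      have := hv (Pi.single i 1)
      rw [bl_comm, bl, single_one_dotProduct] at this
      exact this
    · push Not at hP
      obtain ⟨u, hu, hu0⟩ := hP
      obtain ⟨i, hi⟩ := Function.ne_iff.1 hu0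
      have hone : ∀ x : Fin n → k, (∀ y, bl a x y = 0) → x i = 0 → x = 0 := by
        intro x hx hxi
        obtain ⟨c, hc⟩ := (rank_submodule_le_one_iff' _).1 hnd.rank_rad_polar_le
        obtain ⟨r, hr'⟩ := Submodule.mem_span_singleton.1 (hc ((hker x).2 hx))
        obtain ⟨s, hs'⟩ := Submodule.mem_span_singleton.1 (hc ((hker u).2 hu))
        have hs0 : s ≠ 0 := fun h => hu0 (bV.map_eq_zero_iff.1 (by rw [← hs', h, zero_smul]))
        have hxu : x = (r / s) • u := bV.injective (by
          rw [map_smul, ← hs', smul_smul, div_mul_cancel₀ _ hs0, hr'])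
        have : (r / s) * u i = 0 := by
          rw [← smul_eq_mul, ← Pi.smul_apply, ← hxu, hxi]
        rw [hxu, (mul_eq_zero.1 this).resolve_right hi, zero_smul]
      let N : Matrix (Option (Fin n)) (Fin n) k :=
        Matrix.of fun o j => o.elim (if j = i then 1 else 0) (fun r => (a + aᵀ) r j)
      have hNinj : Function.Injective N.mulVecLin := by
        rw [injective_iff_map_eq_zero]
        intro x hx
        refine hone x (fun y => ?_) ?_
        · have hx' : (a + aᵀ) *ᵥ x = 0 := funext fun r => congrFun hx (some r)
          rw [bl_comm, bl, hx', dotProduct_zero]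
        · have := congrFun hx none
          simpa [N, Matrix.mulVec, dotProduct] using this
      obtain ⟨L, hL⟩ := N.mulVecLin.exists_leftInverse_of_injective (LinearMap.ker_eq_bot.2 hNinj)
      have hLN : LinearMap.toMatrix' L * N = 1 := by
        have := congrArg LinearMap.toMatrix' hL
        rw [LinearMap.toMatrix'_comp, LinearMap.toMatrix'_id] at this
        rwa [show LinearMap.toMatrix' N.mulVecLin = N from LinearMap.toMatrix'_toLin' N] at this
      let t : K := v i / f (u i)
      have hfu : f (u i) ≠ 0 := fun h => hi (f.injective (by rw [h]; exact (map_zero f).symm))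
      have hw : v - t • (f ∘ u) = 0 := by
        have hPw : ((a + aᵀ).map f) *ᵥ (v - t • (f ∘ u)) = 0 := by
          funext r
          have h1 := hv (Pi.single r 1)
          have h2 := hmapv u hu (Pi.single r 1)
          rw [bl_comm, bl, single_one_dotProduct, ← Matrix.transpose_map, ← Matrix.map_add f (map_add f)] at h1 h2
          rw [Matrix.mulVec_sub, Matrix.mulVec_smul, Pi.sub_apply, Pi.smul_apply, h1, h2, smul_zero, sub_zero]
          rfl
        have hNw : N.map f *ᵥ (v - t • (f ∘ u)) = 0 := by
          funext o
          cases o with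
          | none => simp [N, Matrix.mulVec, dotProduct, apply_ite f, t, div_mul_cancel₀ _ hfu]
          | some r => exact congrFun hPw r
        have := congrArg (fun z => (LinearMap.toMatrix' L).map f *ᵥ z) hNw
        simpa [Matrix.mulVec_mulVec, ← Matrix.map_mul, hLN] using this
      rw [sub_eq_zero] at hw
      rw [hw, qf_smul, ← map_qf] at hqv
      rcases mul_eq_zero.1 hqv with h | h
      · rw [hw, eq_zero_of_pow_eq_zero h, zero_smul]
      · exact absurd (hr u hu (f.injective (by rw [h, map_zero]))) hu0
  · intro hg
    have hr : ∀ x, (∀ y, bl a x y = 0) → qf a x = 0 → x = 0 := by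
      intro x hx hq
      have := hg (f ∘ x) (hmapv x hx) (by rw [← map_qf, hq, map_zero])
      exact funext fun r => f.injective (by simpa using congrFun this r)
    refine ⟨hrad.2 hr, (rank_submodule_le_one_iff' _).2 ?_⟩
    by_cases hP : ∀ x : Fin n → k, (∀ y, bl a x y = 0) → x = 0
    · refine ⟨0, fun w hw => ?_⟩
      obtain ⟨x, rfl⟩ := bV.surjective w
      rw [hP x ((hker x).1 hw), map_zero]
      exact Submodule.zero_mem _
    · push Not at hP
      obtain ⟨u, hu, hu0⟩ := hP
      refine ⟨bV u, fun w hw => ?_⟩
      obtain ⟨x, rfl⟩ := bV.surjective w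
      have hx := (hker x).1 hw
      have hqu : f (qf a u) ≠ 0 := fun h => hu0 (hr u hu (f.injective (by rw [h, map_zero])))
      obtain ⟨t, ht⟩ := IsAlgClosed.exists_pow_nat_eq (-(f (qf a x)) / f (qf a u)) (n := 2) two_pos
      have hz : (f ∘ x) + t • (f ∘ u) = 0 := hg _ (fun y => by
          rw [bl_add_left, bl_smul_left, hmapv x hx, hmapv u hu, mul_zero, add_zero]) (by
        rw [qf_add, qf_smul, bl_smul_right, hmapv x hx, mul_zero, add_zero, ← map_qf, ← map_qf, ht,
          div_mul_cancel₀ _ hqu, add_neg_cancel])
      obtain ⟨i, hi⟩ := Function.ne_iff.1 hu0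
      refine Submodule.mem_span_singleton.2 ⟨x i / u i, ?_⟩
      rw [← map_smul]
      congr 1
      funext r
      apply f.injective
      have h1 := congrFun hz r
      have h2 := congrFun hz i
      simp only [Pi.add_apply, Function.comp_apply, Pi.smul_apply, smul_eq_mul, Pi.zero_apply] at h1 h2
      have hfu : f (u i) ≠ 0 := fun h => hi (f.injective (by rw [h]; exact (map_zero f).symm))
      simp only [Pi.smul_apply, smul_eq_mul, map_mul, map_div₀]
      field_simp
      linear_combination f (u r) * h2 - f (u i) * h1


/-- For a quadratic form Q on a free module with a basis b indexed by Fin (2m+1) over a commutative ring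
R, the half-discriminant of Q relative to b is a unit if and only if for every prime ideal p of R
the base change of Q to the residue field of p is nondegenerate (zero quadratic radical and polar
kernel of dimension at most one — over a field this is the fibrewise non-degeneracy of the source:
smooth projective quadric, defect one with non-zero restriction in characteristic two). -/
theorem result {R : Type u} [CommRing R]
    {M : Type v} [AddCommGroup M] [Module R M] [Module.Free R M]
    (m : ℕ) (b : Module.Basis (Fin (2 * m + 1)) R M) (Q : QuadraticForm R M) :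
    IsUnit (QuadGrp.halfDisc b (LinearEquiv.refl R R) Q) ↔
      ∀ (p : Ideal R) [p.IsPrime], QuadraticMap.Nondegenerate (Q := QuadGrp.baseChangeForm p.ResidueField Q) := by
  classical
  set c := QuadGrp.coeffs b (LinearEquiv.refl R R) Q with hc
  rw [QSplit86.halfDisc_eq_hd, ← hc]
  have key : ∀ (p : Ideal R) [p.IsPrime],
      QuadraticMap.Nondegenerate (Q := QuadGrp.baseChangeForm p.ResidueField Q) ↔
        ((algebraMap p.ResidueField (AlgebraicClosure p.ResidueField)).comp (algebraMap R p.ResidueField))
          (Groth.Agent.S17014.hd c) ≠ 0 := by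
    intro p hp
    rw [nondeg_iff_good (algebraMap p.ResidueField (AlgebraicClosure p.ResidueField))
      ((Algebra.TensorProduct.basis p.ResidueField b).equivFun.symm) _
      ((Groth.Agent.S17014.upper c).map (algebraMap R p.ResidueField)) (fun x => by
        rw [QSplit86.baseChangeForm_basis _ b Q _ (QSplit86.qf_upper_coeffs b Q), LinearEquiv.apply_symm_apply])]
    have hG : QSplit86.Good (algebraMap p.ResidueField (AlgebraicClosure p.ResidueField))
        ((Groth.Agent.S17014.upper c).map (algebraMap R p.ResidueField)) ↔
        QSplit86.Good ((algebraMap p.ResidueField (AlgebraicClosure p.ResidueField)).comp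
          (algebraMap R p.ResidueField)) (Groth.Agent.S17014.upper c) := by
      unfold QSplit86.Good
      rw [Matrix.map_map, RingHom.coe_comp]
    rw [hG]
    exact ⟨QSplit86.hd_ne_zero_of_good _ c, QSplit86.good_of_hd_ne_zero _ c⟩
  constructor
  · intro h p hp
    exact (key p).2 (h.map _).ne_zero
  · intro h
    by_contra hu
    obtain ⟨I, hI, hmem⟩ := exists_max_ideal_of_mem_nonunits hu
    haveI := hI.isPrime
    refine (key I).1 (h I) ?_
    rw [RingHom.comp_apply,
      show algebraMap R I.ResidueField (Groth.Agent.S17014.hd c) = 0 by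
        rwa [← RingHom.mem_ker, Ideal.ker_algebraMap_residueField], map_zero]

end Groth.Agent.S17015
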