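import Groth.Statements.S17016


set_option autoImplicit false
universe u
open QuadGrp

namespace Groth.Agent.S17016

theorem prod_sq_one {A ι : Type*} [Ring A] (c : ι → A) (h1 : ∀ i, c i * c i = 1)
    (hc : ∀ i j, Commute (c i) (c j)) : ∀ l : List ι, (l.map c).prod * (l.map c).prod = 1
  | [] => by simp
  | i :: l => by
    have hcomm : Commute (c i) (l.map c).prod := Commute.list_prod_right _ _ fun x hx => by
      obtain ⟨j, -, rfl⟩ := List.mem_map.1 hx
      exact hc i j
    rw [List.map_cons, List.prod_cons, hcomm.eq, mul_assoc, ← mul_assoc (c i) (l.map c).prod,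
      hcomm.eq, mul_assoc (l.map c).prod, h1, mul_one, prod_sq_one c h1 hc l]

theorem anticomm_prod {A ι : Type*} [Ring A] [DecidableEq ι] (c : ι → A) (x : A) (i : ι)
    (h1 : ∀ k, k ≠ i → Commute x (c k)) (h2 : x * c i = -(c i * x)) :
    ∀ l : List ι, l.Nodup → (i ∉ l → Commute x (l.map c).prod) ∧
      (i ∈ l → x * (l.map c).prod = -((l.map c).prod * x))
  | [], _ => ⟨fun _ => by simp, fun h => absurd h List.not_mem_nil⟩
  | k :: l, hl => by
    obtain ⟨hkl, hl'⟩ := List.nodup_cons.1 hl
    obtain ⟨ih1, ih2⟩ := anticomm_prod c x i h1 h2 l hl'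
    rw [List.map_cons, List.prod_cons]
    refine ⟨fun h => ?_, fun h => ?_⟩
    · rw [List.mem_cons, not_or] at h
      exact (h1 k (Ne.symm h.1)).mul_right (ih1 h.2)
    · rcases List.mem_cons.1 h with rfl | h
      · rw [← mul_assoc, h2, neg_mul, mul_assoc, (ih1 hkl).eq, ← mul_assoc]
      · have hki : k ≠ i := fun e => hkl (e ▸ h)
        rw [← mul_assoc, (h1 k hki).eq, mul_assoc, ih2 h, mul_neg, ← mul_assoc]


/-- For the standard split quadratic form Σ x_{2i} x_{2i+1} on R^{2m} over any commutative ring R, with
standard basis vectors e_j in the Clifford algebra, the product w of the elements 1 − 2 e_{2i}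
e_{2i+1} (i < m, which pairwise commute) satisfies w² = 1 and anticommutes with every e_j. (Hence w
is central in the even Clifford algebra; over rings in which 2 is invertible (1 − w)/2 is the
non-trivial central idempotent of the even part.) -/
theorem result (R : Type u) [CommRing R] (m : ℕ) :
    let Q := QuadGrp.splitForm R (m * 2)
    let e : Fin (m * 2) → CliffordAlgebra Q := fun j => CliffordAlgebra.ι Q (Pi.single j 1)
    let w : CliffordAlgebra Q :=
      ((List.finRange m).map fun i => 1 - 2 * (e (finProdFinEquiv (i, 0)) * e (finProdFinEquiv (i, 1)))).prod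
    w * w = 1 ∧ ∀ j : Fin (m * 2), e j * w = -(w * e j) := by
  intro Q e w
  classical
  let q : Fin m → Bool → Fin (m * 2) := fun i b => finProdFinEquiv (i, bif b then 1 else 0)
  let c : Fin m → CliffordAlgebra Q := fun i => 1 - 2 * (e (q i false) * e (q i true))
  have hQ : ∀ x : Fin (m * 2) → R, Q x = ∑ i : Fin m, x (q i false) * x (q i true) := by
    intro x
    have h2 : (m * 2) % 2 = 0 := by omega
    simp only [Q, QuadGrp.splitForm, h2, zero_ne_one, dif_neg, not_false_eq_true, add_zero,
      QuadraticMap.sum_apply, QuadraticMap.linMulLin_apply, LinearMap.proj_apply]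
    refine Fintype.sum_equiv (finCongr (by omega)) _ _ fun i => ?_
    congr 1 <;> congr 1 <;> simp only [Fin.ext_iff, q, cond_true, cond_false, finProdFinEquiv_apply_val,
      finCongr_apply, Fin.coe_cast, Fin.val_zero, Fin.val_one] <;> omega
  have hqinj : ∀ i j a b, q i a = q j b → i = j ∧ a = b := by
    intro i j a b h
    have h' := finProdFinEquiv.injective h
    refine ⟨congrArg Prod.fst h', ?_⟩
    have := congrArg Prod.snd h'
    cases a <;> cases b <;> simp_all
  have hsingle : ∀ i a, Q (Pi.single (q i a) 1) = 0 := fun i a => by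
    rw [hQ]
    refine Finset.sum_eq_zero fun j _ => ?_
    rw [Pi.single_apply, Pi.single_apply]
    split_ifs with h h'
    · have := (hqinj _ _ _ _ h).2; have := (hqinj _ _ _ _ h').2; simp_all
    all_goals simp
  have hpair : ∀ i j a b, QuadraticMap.polar Q (Pi.single (q i a) 1) (Pi.single (q j b) 1) =
      if i = j ∧ a ≠ b then 1 else 0 := by
    intro i j a b
    rw [QuadraticMap.polar, hsingle, hsingle, sub_zero, sub_zero, hQ]
    have : ∀ k, (Pi.single (q i a) 1 + Pi.single (q j b) 1 : Fin (m * 2) → R) (q k false) *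
        (Pi.single (q i a) 1 + Pi.single (q j b) 1 : Fin (m * 2) → R) (q k true) =
        if k = i ∧ i = j ∧ a ≠ b then 1 else 0 := by
      intro k
      simp only [Pi.add_apply, Pi.single_apply]
      have e1 : ∀ s u, (q k s = q i u) ↔ (k = i ∧ s = u) := fun s u =>
        ⟨hqinj _ _ _ _, fun h => by rw [h.1, h.2]⟩
      have e2 : ∀ s u, (q k s = q j u) ↔ (k = j ∧ s = u) := fun s u =>
        ⟨hqinj _ _ _ _, fun h => by rw [h.1, h.2]⟩
      simp only [e1, e2]
      by_cases hki : k = i
      · subst hki
        by_cases hkj : k = j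
        · subst hkj; cases a <;> cases b <;> simp
        · cases a <;> cases b <;> simp [hkj]
      · by_cases hkj : k = j
        · subst hkj; cases a <;> cases b <;> simp [hki]
        · simp [hki, hkj]
    rw [Finset.sum_congr rfl fun k _ => this k]
    by_cases h : i = j ∧ a ≠ b
    · rw [Finset.sum_eq_single i (fun k _ hk => if_neg fun h' => hk h'.1) (fun h => absurd (Finset.mem_univ _) h),
        if_pos ⟨rfl, h⟩, if_pos h]
    · rw [if_neg h, Finset.sum_eq_zero fun k _ => if_neg fun h' => h h'.2]
  have hsq : ∀ i a, e (q i a) * e (q i a) = 0 := fun i a => by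
    simp only [e]; rw [CliffordAlgebra.ι_sq_scalar, hsingle, map_zero]
  have hsum : ∀ i, e (q i false) * e (q i true) + e (q i true) * e (q i false) = 1 := fun i => by
    simp only [e]; rw [CliffordAlgebra.ι_mul_ι_add_swap, hpair, if_pos ⟨rfl, by decide⟩, map_one]
  have hefe : ∀ i, e (q i false) * e (q i true) * e (q i false) = e (q i false) := fun i => by
    rw [mul_assoc, eq_sub_of_add_eq' (hsum i), mul_sub, mul_one, ← mul_assoc, hsq, zero_mul, sub_zero]
  have hfef : ∀ i, e (q i true) * (e (q i false) * e (q i true)) = e (q i true) := fun i => by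
    rw [eq_sub_of_add_eq (hsum i), mul_sub, mul_one, ← mul_assoc, hsq, zero_mul, sub_zero]
  have hanti : ∀ i j a b, i ≠ j → e (q i a) * e (q j b) = -(e (q j b) * e (q i a)) := fun i j a b h => by
    rw [eq_neg_iff_add_eq_zero]; simp only [e]
    rw [CliffordAlgebra.ι_mul_ι_add_swap, hpair, if_neg (fun h' => h h'.1), map_zero]
  have hcom : ∀ i j a, i ≠ j → Commute (e (q i a)) (c j) := by
    intro i j a h
    refine Commute.sub_right (Commute.one_right _) (Commute.mul_right (Commute.ofNat_right _ 2) ?_)
    rw [Commute, SemiconjBy, ← mul_assoc, hanti i j a false h, neg_mul, mul_assoc, hanti i j a true h,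
      mul_neg, neg_neg, mul_assoc]
  have hself : ∀ i a, e (q i a) * c i = -(c i * e (q i a)) := by
    intro i a
    cases a
    · simp only [c, mul_sub, sub_mul, mul_one, one_mul, two_mul, add_mul, mul_add, hefe,
        ← mul_assoc (e (q i false)) (e (q i false)), hsq, zero_mul]
      abel
    · simp only [c, mul_sub, sub_mul, mul_one, one_mul, two_mul, add_mul, mul_add, hfef, mul_assoc, hsq, mul_zero]
      abel
  have hc1 : ∀ i, c i * c i = 1 := by
    intro i
    have hidem : e (q i false) * e (q i true) * (e (q i false) * e (q i true)) = e (q i false) * e (q i true) := by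
      rw [← mul_assoc, hefe]
    simp only [c, sub_mul, mul_sub, two_mul, add_mul, mul_add, mul_one, one_mul, hidem]
    abel
  have hcc : ∀ i j, Commute (c i) (c j) := by
    intro i j
    rcases eq_or_ne i j with rfl | h
    · exact Commute.refl _
    · exact Commute.sub_left (Commute.one_left _)
        (Commute.mul_left (Commute.ofNat_left 2 _) ((hcom i j false h).mul_left (hcom i j true h)))
  refine ⟨prod_sq_one c hc1 hcc _, fun j => ?_⟩
  obtain ⟨⟨i, a⟩, rfl⟩ := finProdFinEquiv.surjective j
  obtain ⟨a', rfl⟩ : ∃ a' : Bool, (bif a' then 1 else 0 : Fin 2) = a := by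
    fin_cases a
    · exact ⟨false, rfl⟩
    · exact ⟨true, rfl⟩
  exact (anticomm_prod c (e (q i a')) i (fun k hk => hcom i k a' (Ne.symm hk)) (hself i a') _
    (List.nodup_finRange m)).2 (List.mem_finRange i)

end Groth.Agent.S17016
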