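import Groth.Statements.S17017
import Groth.Agent.QSplit86.OddUnits

set_option autoImplicit false
universe u
open QuadGrp

namespace Groth.Agent.S17017

/-- Over a field k, for the standard split quadratic form x₀² + x₁x₂ on k³, every even unit of the
Clifford algebra normalises the subspace k³, i.e. lies in the naive Clifford group; so the even
Clifford group is the whole unit group of the even Clifford algebra. (The published claim is made
over fields of characteristic different from 2; here it is stated for every field.) -/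
theorem result (k : Type u) [Field k] :
    QuadGrp.evenUnits (QuadGrp.splitForm k 3) ≤ QuadGrp.GPin' (QuadGrp.splitForm k 3) := by
  classical
  let e := LinearEquiv.funCongrLeft k k (QSplit86.seEquiv 1)
  let iso : (QuadGrp.splitForm k 3).IsometryEquiv (QSplit86.oddQ k 1) := ⟨e, fun x => by
    show QSplit86.oddQ k 1 (e x) = QuadGrp.splitForm k (2 * 1 + 1) x
    rw [QSplit86.splitForm_eq, QSplit86.oddQ_apply]
    rfl⟩
  let b := Pi.basisFun k (Fin (2 * 1 + 1))
  let S : QSplit86.OddSplitting (QuadGrp.splitForm k 3) 1 :=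
    { B := k
      ffl := inferInstance
      fp := inferInstance
      E := (Algebra.TensorProduct.lid k _).trans (CliffordAlgebra.equivOfIsometry iso)
      lw := fun w => e w
      hE := fun w => by
        rw [AlgEquiv.trans_apply, Algebra.TensorProduct.lid_tmul, one_smul]
        exact CliffordAlgebra.map_apply_ι _ w
      b := b }
  set P := QSplit86.word (QuadGrp.splitForm k 3) (List.ofFn b)
  have hmain : ∀ u : (CliffordAlgebra (QuadGrp.splitForm k 3))ˣ,
      (u : CliffordAlgebra (QuadGrp.splitForm k 3)) ∈ CliffordAlgebra.evenOdd (QuadGrp.splitForm k 3) 0 →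
      ∀ v, ∃ v', (u : CliffordAlgebra (QuadGrp.splitForm k 3)) * CliffordAlgebra.ι (QuadGrp.splitForm k 3) v * ↑u⁻¹ =
        CliffordAlgebra.ι (QuadGrp.splitForm k 3) v' := by
    intro u hu v
    set x := (u : CliffordAlgebra (QuadGrp.splitForm k 3)) * CliffordAlgebra.ι (QuadGrp.splitForm k 3) v * ↑u⁻¹ with hx
    have hu' : (↑u⁻¹ : CliffordAlgebra (QuadGrp.splitForm k 3)) ∈ CliffordAlgebra.evenOdd (QuadGrp.splitForm k 3) 0 :=
      (QuadGrp.evenUnits (QuadGrp.splitForm k 3)).inv_mem (x := u) hu
    have hxodd : x ∈ CliffordAlgebra.evenOdd (QuadGrp.splitForm k 3) 1 :=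
      add_zero (1 : ZMod 2) ▸ SetLike.mul_mem_graded
        (zero_add (1 : ZMod 2) ▸ SetLike.mul_mem_graded hu (CliffordAlgebra.ι_mem_evenOdd_one (QuadGrp.splitForm k 3) v)) hu'
    obtain ⟨c, hc⟩ := QSplit86.exists_apply_eq_smul (QSplit86.short (QuadGrp.splitForm k 3) 3).mkQ
      (fun y hy => (Submodule.Quotient.mk_eq_zero _).2 hy) b x
    have hs : x - c • P ∈ QSplit86.short (QuadGrp.splitForm k 3) 3 := by
      rw [← Submodule.Quotient.eq]
      rw [← Submodule.mkQ_apply, hc, ← map_smul]
      first | done | rfl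
    have hshort : QSplit86.short (QuadGrp.splitForm k 3) 3 ≤
        CliffordAlgebra.evenOdd (QuadGrp.splitForm k 3) 0 ⊔ LinearMap.range (CliffordAlgebra.ι (QuadGrp.splitForm k 3)) := by
      refine Submodule.span_le.2 ?_
      rintro _ ⟨l, hl, rfl⟩
      match l with
      | [] => exact Submodule.mem_sup_left (SetLike.one_mem_graded _)
      | [a] => exact Submodule.mem_sup_right ⟨a, by simp⟩
      | [a, a'] => exact Submodule.mem_sup_left (by simpa using CliffordAlgebra.ι_mul_ι_mem_evenOdd_zero (QuadGrp.splitForm k 3) a a')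
      | _ :: _ :: _ :: _ => exact absurd hl (by simp)
    obtain ⟨y, hy, _, ⟨v', rfl⟩, hyv⟩ := Submodule.mem_sup.1 (hshort hs)
    have hP : P ∈ CliffordAlgebra.evenOdd (QuadGrp.splitForm k 3) 1 := by
      have e := QSplit86.word_mem_evenOdd (Q := QuadGrp.splitForm k 3) (List.ofFn b)
      rwa [List.length_ofFn] at e
    have hy0 : y = 0 := Submodule.disjoint_def.1 (CliffordAlgebra.evenOdd_isCompl (QuadGrp.splitForm k 3)).disjoint _ hy (by
      rw [eq_sub_of_add_eq hyv]
      exact Submodule.sub_mem _ (Submodule.sub_mem _ hxodd (Submodule.smul_mem _ _ hP))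
        (CliffordAlgebra.ι_mem_evenOdd_one (QuadGrp.splitForm k 3) v'))
    rw [hy0, zero_add] at hyv
    have hι : ∀ w, S.tr (CliffordAlgebra.ι (QuadGrp.splitForm k 3) w) = 0 := fun w =>
      S.tr_short (Submodule.subset_span ⟨[w], by simp, by simp⟩)
    have hc0 : c • S.tr P = 0 := by
      rw [← map_smul, show c • P = x - CliffordAlgebra.ι (QuadGrp.splitForm k 3) v' by rw [hyv]; abel, map_sub, hι, sub_zero, hx,
        S.tr_conj, hι]
    have hcz : c = 0 := by
      rw [Algebra.smul_def] at hc0
      exact ((S.isUnit_tr b).mul_left_eq_zero).1 hc0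
    exact ⟨v', by rw [hyv, hcz, zero_smul, sub_zero]⟩
  intro u hu
  choose f hf using hmain u hu
  choose f' hf' using hmain u⁻¹ ((QuadGrp.evenUnits _).inv_mem hu)
  rw [inv_inv] at hf'
  have hinj := QSplit86.ι_clifford_injective (QuadGrp.splitForm k 3)
  let g : (Fin 3 → k) →ₗ[k] (Fin 3 → k) :=
    { toFun := f
      map_add' := fun v w => hinj (by rw [map_add, ← hf, ← hf, ← hf, map_add, mul_add, add_mul])
      map_smul' := fun r v => hinj (by
        rw [RingHom.id_apply, map_smul, ← hf, ← hf, map_smul, mul_smul_comm, smul_mul_assoc]) }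
  refine QSplit86.mem_GPin'_of_conj (LinearEquiv.ofBijective g
    ⟨Function.LeftInverse.injective (g := f') fun v => hinj ?_,
      Function.RightInverse.surjective (g := f') fun v => hinj ?_⟩) fun v => hf v
  · rw [← hf' (g v), show g v = f v from rfl, ← hf v]; simp [mul_assoc]
  · rw [show g (f' v) = f (f' v) from rfl, ← hf (f' v), ← hf' v]; simp [mul_assoc]

end Groth.Agent.S17017
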