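import Groth.Statements.S17021
import Groth.Agent.DecCurve.ExtInv
import Groth.Agent.Depth.CM

set_option autoImplicit false
universe u
open CategoryTheory CategoryTheory.Limits AlgebraicGeometry
open PicF

namespace Groth.Agent.S17021

/-- Serre's condition at the maximal ideal. -/
theorem two_le_depth {R : Type u} [CommRing R] [IsLocalRing R] (h : LocCoh.HasSk 2 R R)
    (hdim : ringKrullDim R = 2) : 2 ≤ LocCoh.depth R R := by
  let m := IsLocalRing.maximalIdeal R
  have hu : ∀ a : m.primeCompl, IsUnit (a : R) := fun a => IsLocalRing.notMem_maximalIdeal.1 a.2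
  haveI : IsLocalization m.primeCompl R :=
    IsLocalization.self fun a ha => hu ⟨a, ha⟩
  have hs : Function.Surjective (algebraMap R (Localization.AtPrime m)) :=
    fun y => ⟨(IsLocalization.algEquiv m.primeCompl R (Localization.AtPrime m)).symm y,
      ((IsLocalization.algEquiv m.primeCompl R (Localization.AtPrime m)).commutes _).symm.trans
        ((IsLocalization.algEquiv m.primeCompl R (Localization.AtPrime m)).apply_symm_apply y)⟩
  haveI : IsLocalizedModule m.primeCompl (LinearMap.id : R →ₗ[R] R) := by
    refine IsLocalizedModule.mk (fun a => ?_) (fun y => ⟨(y, 1), one_smul _ y⟩) fun h => ⟨1, by simpa using h⟩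
    rw [Module.End.isUnit_iff]
    exact (hu a).smul_bijective
  let e : R ≃ₗ[R] LocalizedModule m.primeCompl R :=
    (IsLocalizedModule.iso m.primeCompl (LinearMap.id : R →ₗ[R] R)).symm
  haveI : Module.Finite R (LocalizedModule m.primeCompl R) := Module.Finite.equiv e
  haveI : Module.Finite (Localization.AtPrime m) (LocalizedModule m.primeCompl R) :=
    Module.Finite.of_restrictScalars_finite R _ _
  have hmax : IsLocalRing.maximalIdeal (Localization.AtPrime m) = m.map (algebraMap R (Localization.AtPrime m)) :=
    Localization.AtPrime.map_eq_maximalIdeal.symm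
  have hd : LocCoh.depth (Localization.AtPrime m) (LocalizedModule m.primeCompl R) = LocCoh.depth R R := by
    rw [Depth.depth_eq_idealDepth, Depth.depth_eq_idealDepth, hmax, Depth.idealDepth_map_of_surjective hs,
      Depth.idealDepth_congr e.symm]
  have hsupp : Module.supportDim (Localization.AtPrime m) (LocalizedModule m.primeCompl R) = 2 := by
    rw [Depth.supportDim_of_surjective (R := R) hs, Module.supportDim_eq_of_equiv e.symm,
      Module.supportDim_self_eq_ringKrullDim, hdim]
  have h2 := h m
  rw [hsupp, hd] at h2
  exact WithBot.coe_le_coe.mp ((le_min le_rfl le_rfl).trans h2)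

/-- Let X be a locally Noetherian scheme all of whose local rings satisfy Serre's condition (S₂), p a
closed point of X whose local ring has Krull dimension 2, U the open complement of p and L an
invertible O_U-module. Suppose L extends to an invertible module over an étale neighbourhood of p:
there are an étale morphism j : V → X, a point q of V with j(q) = p and an invertible O_V-module M
whose pullback to j⁻¹(U) is isomorphic to the pullback of L along j⁻¹(U) → U. Then L extends to X:
some invertible O_X-module has pullback to U isomorphic to L. (Stated for schemes; the published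
statement is for a Deligne–Mumford stack of dimension 2 satisfying (S₂) and its proof passes to a
scheme on an étale chart. Dimension 2 is imposed here on the local ring at p. The published setting
takes everything essentially of finite type over a field of characteristic zero; here X is only
assumed locally Noetherian.) -/
theorem result {X : Scheme.{u}} [IsLocallyNoetherian X]
    (hS2 : ∀ x : X, LocCoh.HasSk 2 (X.presheaf.stalk x) (X.presheaf.stalk x))
    (p : X) (hp : IsClosed ({p} : Set X)) (hdim : ringKrullDim (X.presheaf.stalk p) = 2)
    (U : X.Opens) (hU : (U : Set X) = {p}ᶜ)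
    (L : (U : Scheme.{u}).Modules) (hL : PicF.IsInvertible L)
    {V : Scheme.{u}} (j : V ⟶ X) [Etale j] (q : V) (hq : j.base q = p)
    (M : V.Modules) (hM : PicF.IsInvertible M)
    (e : (Scheme.Modules.pullback (j ⁻¹ᵁ U).ι).obj M ≅ (Scheme.Modules.pullback (j ∣_ U)).obj L) :
    ∃ N : X.Modules, PicF.IsInvertible N ∧ Nonempty ((Scheme.Modules.pullback U.ι).obj N ≅ L) := by
  have hp' : p ∉ U := fun h => (hU.le h) rfl
  refine DecCurve.ExtInv.exists_extension U (fun x hx => ?_) L hL fun x => ?_
  · obtain rfl : x = p := by
      by_contra h
      exact hx (hU.ge h)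
    exact two_le_depth (hS2 x) hdim
  · by_cases hx : x ∈ U
    · refine ⟨U, U.ι, inferInstance, inferInstance, ⟨⟨x, hx⟩, rfl⟩, L, hL,
        ⟨(Scheme.Modules.pullbackCongr ?_).app L⟩⟩
      exact (cancel_mono U.ι).1 (morphismRestrict_ι U.ι U).symm
    · obtain rfl : x = p := by
        by_contra h
        exact hx (hU.ge h)
      exact ⟨V, j, LocallyOfFiniteType.isLocallyNoetherian j, inferInstance, ⟨q, hq⟩, M, hM, ⟨e⟩⟩

end Groth.Agent.S17021
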