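import Groth.Statements.S17022
import Groth.Agent.FFCurve.EtaleOutsideTwo
import Groth.Agent.DualAbs.ExtCodim
import Groth.Agent.S5792

set_option autoImplicit false
universe u
open CategoryTheory CategoryTheory.Limits AlgebraicGeometry
open Curves

namespace Groth.Agent.S17022

/-- Let k be an algebraically closed field of characteristic zero, C a connected scheme which is proper
and smooth of relative dimension 1 over k, and f : C → P¹_k a surjective morphism over k which is
étale over the complement of two closed points p, q of P¹_k (p = q is allowed). Then C is isomorphic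
to P¹_k over k, and f has exactly one point over p and exactly one point over q. (Existence of an
isomorphism only; the published statement moreover identifies f, in suitable coordinates, with (a :
b) ↦ (aⁿ : bⁿ) for some n. The published statement leaves implicit that the ground field is
algebraically closed and that C is a connected smooth proper curve; its argument uses both, and over
a non-closed field the projective line over a finite extension is a connected cover with no
ramification.) -/
theorem result (k : Type u) [Field k]
    [IsAlgClosed k] [CharZero k] {C : Scheme.{u}} (s : C ⟶ Spec (CommRingCat.of k))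
    [IsProper s] [SmoothOfRelativeDimension 1 s] [ConnectedSpace C]
    (f : C ⟶ CohB1.ProjSpace 1 k) (hf : f ≫ CohB1.ProjSpace.toSpec 1 k = s) [Surjective f]
    (p q : ↥(CohB1.ProjSpace 1 k)) (hp : IsClosed ({p} : Set ↥(CohB1.ProjSpace 1 k))) (hq : IsClosed ({q} : Set ↥(CohB1.ProjSpace 1 k)))
    (W : (CohB1.ProjSpace 1 k).Opens) (hW : (W : Set ↥(CohB1.ProjSpace 1 k)) = {p, q}ᶜ) [Etale (f ∣_ W)] :
    (∃ e : C ≅ CohB1.ProjSpace 1 k, e.hom ≫ CohB1.ProjSpace.toSpec 1 k = s) ∧
      (∀ x y : C, f.base x = p → f.base y = p → x = y) ∧
      (∀ x y : C, f.base x = q → f.base y = q → x = y) := by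
  letI : C.Over (Spec (CommRingCat.of k)) := ⟨s⟩
  haveI : IsProper (C ↘ Spec (CommRingCat.of k)) := ‹IsProper s›
  haveI : SmoothOfRelativeDimension 1 (C ↘ Spec (CommRingCat.of k)) := ‹SmoothOfRelativeDimension 1 s›
  haveI : Smooth (C ↘ Spec (CommRingCat.of k)) := SmoothOfRelativeDimension.smooth 1 _
  haveI := FFCurve.isIntegral_of_connected k (X := C)
  have hdim : topologicalKrullDim C = 1 := by
    rw [S5792.result C]
    simp only [DualAbs.localDim_eq_of_smooth (k := k) (n := 1)]
    exact_mod_cast ciSup_const
  exact FFCurve.EtaleOutside.rational_of_etale_outside hdim f hf p q hp hq W hW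

end Groth.Agent.S17022
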