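import Groth.Statements.S17023
import Mathlib.RingTheory.Smooth.AdicCompletion
import Mathlib.RingTheory.AdicCompletion.LocalRing
import Mathlib.RingTheory.DiscreteValuationRing.Basic

set_option autoImplicit false
universe u
open FlatMor

namespace Groth.Agent.S17023

/-- Let B be a discrete valuation ring, A a B-algebra of finite type and p a prime ideal of A which lies
over the maximal ideal of B (a point of the special fibre), at which A is smooth over B (the
localization A_p is formally smooth over B), and such that B maps onto the residue field κ(p). Then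
there are a discrete valuation ring B' and a ring map ψ : A → B' pulling the maximal ideal of B'
back to p, such that the composite B → A → B' is injective, the maximal ideal of B generates the
maximal ideal of B', and B maps onto the residue field of B'; in other words Spec B' → Spec A → Spec
B is surjective and unramified with trivial residue field extension. (The published statement does
not say that the closed point of Spec B' goes to p; it is required here. The published setting takes
A essentially of finite type over a field of characteristic zero; here A is taken of finite type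
over B, with no ground field.) -/
theorem result
    (B : Type u) [CommRing B] [IsDomain B] [IsDiscreteValuationRing B]
    (A : Type u) [CommRing A] [Algebra B A] [Algebra.FiniteType B A]
    (p : Ideal A) [p.IsPrime] (hp : p.comap (algebraMap B A) = IsLocalRing.maximalIdeal B)
    [Algebra.IsSmoothAt B p]
    (hres : Function.Surjective ((algebraMap A p.ResidueField).comp (algebraMap B A))) :
    ∃ (B' : Type u) (_ : CommRing B') (_ : IsDomain B') (_ : IsDiscreteValuationRing B') (ψ : A →+* B'),
      Ideal.comap ψ (IsLocalRing.maximalIdeal B') = p ∧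
      Function.Injective (ψ.comp (algebraMap B A)) ∧
      Ideal.map (ψ.comp (algebraMap B A)) (IsLocalRing.maximalIdeal B) = IsLocalRing.maximalIdeal B' ∧
      Function.Surjective ((IsLocalRing.residue B').comp (ψ.comp (algebraMap B A))) := by
  set k := IsLocalRing.maximalIdeal B with hk
  -- the residue field of `p` is `B ⧸ k`
  have hsurj : Function.Surjective (algebraMap B p.ResidueField) := by
    rw [IsScalarTower.algebraMap_eq B A p.ResidueField]; exact hres
  have hker : RingHom.ker (algebraMap B p.ResidueField) = k := by
    rw [IsScalarTower.algebraMap_eq B A p.ResidueField, ← RingHom.comap_ker,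
      Ideal.ker_algebraMap_residueField, hp]
  let e : (B ⧸ k) ≃ₐ[B] p.ResidueField :=
    (Ideal.quotientEquivAlgOfEq B (I := k) (J := RingHom.ker (Algebra.ofId B p.ResidueField)) hker.symm).trans
      (Ideal.quotientKerAlgEquivOfSurjective (f := Algebra.ofId B p.ResidueField) hsurj)
  let f : Localization.AtPrime p →ₐ[B] B ⧸ k :=
    e.symm.toAlgHom.comp (IsScalarTower.toAlgHom B (Localization.AtPrime p) p.ResidueField)
  obtain ⟨g, hg⟩ := Algebra.FormallySmooth.exists_adicCompletionEvalOneₐ_comp_eq f
  let C := AdicCompletion k B
  have hmax : IsLocalRing.maximalIdeal C = k.map (algebraMap B C) := AdicCompletion.maximalIdeal_eq_map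
  obtain ⟨π, hπ⟩ := IsDiscreteValuationRing.exists_irreducible B
  have hkspan : k = Ideal.span {π} := hπ.maximalIdeal_eq
  have hinj : Function.Injective (algebraMap B C) := by
    intro a b hab
    apply AdicCompletion.of_injective k B
    exact hab
  set w := algebraMap B C π with hw
  have hwspan : IsLocalRing.maximalIdeal C = Ideal.span {w} := by
    refine hmax.trans ((congrArg (Ideal.map (algebraMap B C)) hkspan).trans ?_)
    rw [Ideal.map_span, Set.image_singleton]
  have hw0 : ∀ n : ℕ, w ^ n ≠ 0 := by
    intro n h0
    rw [hw, ← map_pow, ← map_zero (algebraMap B C)] at h0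
    exact pow_ne_zero n hπ.ne_zero (hinj h0)
  have hdiv : ∀ x : C, x ≠ 0 → ∃ (n : ℕ) (u : Cˣ), x = w ^ n * u := by
    classical
    intro x hx
    have hH : IsHausdorff (IsLocalRing.maximalIdeal C) C := inferInstance
    have hne : ∃ n, x ∉ IsLocalRing.maximalIdeal C ^ n := by
      by_contra! hcon
      refine hx (hH.haus x fun n => ?_)
      rw [SModEq.zero, Ideal.smul_eq_mul, Ideal.mul_top]
      exact hcon n
    have h1 := Nat.find_spec hne
    have hpos : Nat.find hne ≠ 0 := by
      intro h0; rw [h0] at h1; simp at h1
    obtain ⟨n, hn⟩ := Nat.exists_eq_succ_of_ne_zero hpos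
    have h2 : x ∈ IsLocalRing.maximalIdeal C ^ n := not_not.mp (Nat.find_min hne (by omega))
    rw [hwspan, Ideal.span_singleton_pow, Ideal.mem_span_singleton] at h2
    obtain ⟨u, rfl⟩ := h2
    have hu : IsUnit u := by
      by_contra hnu
      have : u ∈ IsLocalRing.maximalIdeal C := hnu
      rw [hwspan, Ideal.mem_span_singleton] at this
      obtain ⟨v, rfl⟩ := this
      apply h1
      rw [hn, hwspan, Ideal.span_singleton_pow, Ideal.mem_span_singleton]
      exact ⟨v, by rw [pow_succ]; ring⟩
    exact ⟨n, hu.unit, rfl⟩
  haveI : IsDomain C := by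
    haveI : Nontrivial C := inferInstance
    haveI : NoZeroDivisors C := ⟨fun {a b} hab => by
      by_contra! hcon
      obtain ⟨n, u, rfl⟩ := hdiv a hcon.1
      obtain ⟨m, v, rfl⟩ := hdiv b hcon.2
      apply hw0 (n + m)
      rw [show w ^ n * (u : C) * (w ^ m * v) = w ^ (n + m) * ((u * v : Cˣ) : C) by
        push_cast; ring] at hab
      exact (Units.mul_left_eq_zero _).mp hab⟩
    exact NoZeroDivisors.to_isDomain C
  have hirr : Irreducible w := by
    refine ⟨?_, ?_⟩
    · intro hu
      have : w ∈ IsLocalRing.maximalIdeal C := hwspan ▸ Ideal.mem_span_singleton_self w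
      exact this hu
    · intro a b hab
      by_contra! hcon
      have ha : a ∈ IsLocalRing.maximalIdeal C := hcon.1
      have hb : b ∈ IsLocalRing.maximalIdeal C := hcon.2
      rw [hwspan, Ideal.mem_span_singleton] at ha hb
      obtain ⟨a', rfl⟩ := ha
      obtain ⟨b', rfl⟩ := hb
      have hw1 : w ≠ 0 := by simpa using hw0 1
      have : (1 : C) = w * (a' * b') := mul_left_cancel₀ hw1 (by linear_combination hab)
      have hwm : w ∈ IsLocalRing.maximalIdeal C := hwspan ▸ Ideal.mem_span_singleton_self w
      exact hwm (IsUnit.of_mul_eq_one _ this.symm)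
  haveI : IsDiscreteValuationRing C := IsDiscreteValuationRing.ofHasUnitMulPowIrreducibleFactorization
    ⟨w, hirr, fun {x} hx => by
      obtain ⟨n, u, rfl⟩ := hdiv x hx
      exact ⟨n, u, rfl⟩⟩
  let ψ : A →+* C := g.toRingHom.comp (algebraMap A (Localization.AtPrime p))
  have hψ : ψ.comp (algebraMap B A) = algebraMap B C := by
    refine RingHom.ext fun b => ?_
    show g (algebraMap A (Localization.AtPrime p) (algebraMap B A b)) = algebraMap B C b
    rw [← IsScalarTower.algebraMap_apply, AlgHom.commutes]
  have hev : ∀ c : C, c ∈ IsLocalRing.maximalIdeal C ↔ AdicCompletion.evalOneₐ k c = 0 := by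
    intro c
    letI : Field (B ⧸ k) := Ideal.Quotient.field k
    have : (RingHom.ker (AdicCompletion.evalOneₐ k)).IsMaximal :=
      RingHom.ker_isMaximal_of_surjective _ (AdicCompletion.evalOneₐ_surjective k)
    rw [← IsLocalRing.eq_maximalIdeal this]
    exact RingHom.mem_ker
  refine ⟨C, inferInstance, inferInstance, inferInstance, ψ, ?_, ?_, ?_, ?_⟩
  · ext a
    rw [Ideal.mem_comap, hev]
    have : AdicCompletion.evalOneₐ k (ψ a) = f (algebraMap A _ a) := DFunLike.congr_fun hg _
    rw [this]
    show e.symm (algebraMap (Localization.AtPrime p) p.ResidueField (algebraMap A _ a)) = 0 ↔ a ∈ p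
    rw [← IsScalarTower.algebraMap_apply, map_eq_zero_iff _ e.symm.injective,
      Ideal.algebraMap_residueField_eq_zero]
  · rw [hψ]; exact hinj
  · rw [hψ, hmax]
  · intro y
    obtain ⟨c, rfl⟩ := IsLocalRing.residue_surjective y
    obtain ⟨b, hb⟩ := Ideal.Quotient.mk_surjective (AdicCompletion.evalOneₐ k c)
    refine ⟨b, ?_⟩
    rw [RingHom.comp_apply, hψ, ← sub_eq_zero, ← map_sub, IsLocalRing.residue_eq_zero_iff, hev, map_sub,
      sub_eq_zero, AlgHom.commutes, ← hb]
    rfl

end Groth.Agent.S17023
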