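import Groth.Statements.S1703
import Groth.Agent.RelQR38.Scheme

set_option autoImplicit false
universe u
open CategoryTheory CategoryTheory.Limits AlgebraicGeometry TopologicalSpace
open SDiv

namespace Groth.Agent.S1703

/-- Let f : X ⟶ S be locally of finite presentation and 𝓘 the ideal sheaf of an effective Cartier
divisor D ⊂ X with D ⟶ S flat. Then there is an open subscheme U of X containing D such that U ⟶ S
is flat. -/
theorem result {X S : Scheme.{u}} (f : X ⟶ S) [LocallyOfFinitePresentation f] (𝓘 : X.IdealSheafData)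
    (hD : (BlowUp.IsEffCartierIdeal 𝓘 ∧ Flat (𝓘.subschemeι ≫ f))) : ∃ U : X.Opens, (𝓘.support : Set ↥X) ⊆ U ∧ Flat (U.ι ≫ f) := by
  obtain ⟨hC, hflat⟩ := hD
  have hi : RegImm.IsRelRegularImmersion RegImm.Kind.h1 f 𝓘.subschemeι := by
    refine ⟨⟨inferInstance, fun z => ?_⟩, hflat⟩
    obtain ⟨U, hU, a, ha, hI⟩ := hC (𝓘.subschemeι z)
    refine ⟨U, hU, MorphismProperty.of_isPullback (isPullback_morphismRestrict 𝓘.subschemeι U.1).flip inferInstance,
      [a], ?_, ?_⟩
    · intro c hc
      have h0 : c ⟨0, by simp⟩ = 0 := ha.2 _ (by simpa using hc)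
      have : c = 0 := funext fun k => by
        have hk : k = ⟨0, by simp⟩ := Fin.ext (by have := k.isLt; simp at this; simpa using this)
        rw [hk, h0]; rfl
      rw [this]
      exact zero_mem _
    · rw [Scheme.IdealSheafData.ker_subschemeι_app, hI, Ideal.ofList_singleton]
  obtain ⟨U, hU, hfl⟩ := Groth.Agent.RelQR38.Scheme.exists_open_flat f 𝓘.subschemeι hi
  exact ⟨U, by rw [← Scheme.IdealSheafData.range_subschemeι]; exact hU, hfl⟩

end Groth.Agent.S1703
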