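import Groth.Statements.S17031
import Groth.Agent.IndCoh.Grothendieck
import Groth.Agent.IndCoh.Small
import Groth.Agent.IndCoh.FP
import Groth.Agent.IndCoh.Derived

set_option autoImplicit false
open CategoryTheory CategoryTheory.Limits
universe u
attribute [local instance] HasDerivedCategory.standard
open FSch

namespace Groth.Agent.S17031

/-- Let 𝔛 be a locally Noetherian formal scheme (an adic system of thickenings with locally Noetherian
levels) and A the full subcategory of O_𝔛-modules that are small filtered colimits of coherent ones;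
assume (as holds here) that it contains 0, is closed under kernels, cokernels and finite products,
and that its inclusion is exact. Then the functor D(A) ⥤ D(O_𝔛) induced on unbounded derived
categories by the inclusion has a right adjoint. -/
theorem result (𝔛 : FSch.Sys.{u}) (h𝔛 : 𝔛.IsLocNoethFormal)
    [(ObjectProperty.ind.{u} fun 𝔊 : FSch.ModF 𝔛 h𝔛.1 => FSch.IsCohF 𝔛 h𝔛.1 𝔊).ContainsZero] [(ObjectProperty.ind.{u} fun 𝔊 : FSch.ModF 𝔛 h𝔛.1 => FSch.IsCohF 𝔛 h𝔛.1 𝔊).IsClosedUnderKernels]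
    [(ObjectProperty.ind.{u} fun 𝔊 : FSch.ModF 𝔛 h𝔛.1 => FSch.IsCohF 𝔛 h𝔛.1 𝔊).IsClosedUnderCokernels] [(ObjectProperty.ind.{u} fun 𝔊 : FSch.ModF 𝔛 h𝔛.1 => FSch.IsCohF 𝔛 h𝔛.1 𝔊).IsClosedUnderFiniteProducts]
    [PreservesFiniteLimits (ObjectProperty.ind.{u} fun 𝔊 : FSch.ModF 𝔛 h𝔛.1 => FSch.IsCohF 𝔛 h𝔛.1 𝔊).ι] [PreservesFiniteColimits (ObjectProperty.ind.{u} fun 𝔊 : FSch.ModF 𝔛 h𝔛.1 => FSch.IsCohF 𝔛 h𝔛.1 𝔊).ι] :
    ((ObjectProperty.ind.{u} fun 𝔊 : FSch.ModF 𝔛 h𝔛.1 => FSch.IsCohF 𝔛 h𝔛.1 𝔊).ι.mapDerivedCategory).IsLeftAdjoint := by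

  have : IsGrothendieckAbelian.{u} (FSch.ModF 𝔛 h𝔛.1) := Groth.Agent.ModShf.isGrothendieckAbelian _
  obtain ⟨K, k, hk, hk'⟩ := Groth.Agent.IndCoh.exists_small_family (O := 𝔛.Osh h𝔛.1)
  have := Groth.Agent.IndCoh.isLeftAdjoint_ι (B := FSch.ModF 𝔛 h𝔛.1)
    (Q := fun 𝔊 => FSch.IsCohF 𝔛 h𝔛.1 𝔊)
    (fun T _ Y hY => Groth.Agent.IndCoh.isFinitePresentation_sigma T Y hY) k hk hk'
  exact Groth.Agent.IndCoh.isLeftAdjoint_mapDerivedCategory _

end Groth.Agent.S17031
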