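import Groth.Statements.S17038
import Groth.Agent.FFormal.AffVanish
import Groth.Agent.Adic.Spf

set_option autoImplicit false
open CategoryTheory CategoryTheory.Limits
universe u
open FSch

namespace Groth.Agent.S17038

/-- Let A be a Noetherian ring, I an ideal, and 𝔛 the affine Noetherian formal scheme presented by the
system Spec(A/I^(n+1)) (the formal spectrum of the I-adic completion of A; the published statement
is for an arbitrary affine Noetherian formal scheme, which is of this form). Then H^i(𝔛, F) = 0 for
every i > 0 and every O_𝔛-module F that is a small filtered colimit of coherent O_𝔛-modules. -/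
theorem result (A : Type u) [CommRing A] [IsNoetherianRing A] (I : Ideal A)
    (h : (FSch.spf A I).IsFormal) (𝔉 : FSch.ModF (FSch.spf A I) h) (h𝔉 : (ObjectProperty.ind.{u} fun 𝔊 : FSch.ModF (FSch.spf A I) h => FSch.IsCohF (FSch.spf A I) h 𝔊) 𝔉) (i : ℕ) (hi : 0 < i) :
    Subsingleton (FSch.HF (FSch.spf A I) h 𝔉 i) := by

  obtain ⟨j, rfl⟩ := Nat.exists_eq_succ_of_ne_zero hi.ne'
  haveI : AlgebraicGeometry.IsAffine ((FSch.spf A I).X 0) := by
    change AlgebraicGeometry.IsAffine (AlgebraicGeometry.Spec _)
    infer_instance
  exact Groth.Agent.FFormal.subsingleton_HF_indP (Groth.Agent.Adic.Spf.isLocNoethFormal A I) h𝔉 j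

end Groth.Agent.S17038
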