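import Groth.Statements.S17046
import Groth.Agent.FFormal.AlgFF
import Groth.Agent.FFormal.Algebraizable
import Groth.Agent.S13339
import Groth.Agent.QCohGen.Presentable
import Groth.Agent.QCohGen.Groth
import Groth.Agent.QCoh.Exact
import Groth.Agent.EtShriekLib.Proper

set_option autoImplicit false
open CategoryTheory CategoryTheory.Limits AlgebraicGeometry
universe u
open FSch

namespace Groth.Agent.S17046

/-- Let A be a Noetherian I-adically complete ring, f : X ⟶ Spec A proper, 𝔛 the completion of X along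
the inverse-image ideal of I and κ : 𝔛 ⟶ X the completion morphism of ringed spaces. Then an
O_𝔛-module is a small filtered colimit of coherent O_𝔛-modules if and only if it is isomorphic to
κ^*G for some quasi-coherent O_X-module G. -/
theorem result (A : Type u) [CommRing A] [IsNoetherianRing A] (I : Ideal A) [IsAdicComplete I A]
    {X : Scheme.{u}} (f : X ⟶ Spec (CommRingCat.of A)) [IsProper f]
    (𝓘 : X.IdealSheafData) (h𝓘 : 𝓘 = (FSch.idealSpec A I).comap f)
    (hX : (FSch.completionAlong X 𝓘).IsFormal)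
    (𝔉 : FSch.ModF (FSch.completionAlong X 𝓘) hX) :
    (ObjectProperty.ind.{u} fun 𝔊 : FSch.ModF (FSch.completionAlong X 𝓘) hX => FSch.IsCohF (FSch.completionAlong X 𝓘) hX 𝔊) 𝔉 ↔
      ∃ G : X.Modules, SheafOfModules.IsQuasicoherent.{u} G ∧ Nonempty ((FSch.toSchemeMor (FSch.completionAlong X 𝓘) hX (FSch.completionToX X 𝓘) (FSch.completionToX_comm X 𝓘)).pull.obj G ≅ 𝔉) := by

  letI : X.Over (Spec (CommRingCat.of A)) := ⟨f⟩
  haveI : IsProper (X ↘ Spec (CommRingCat.of A)) := ‹IsProper f›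
  haveI : IsLocallyNoetherian X := LocallyOfFiniteType.isLocallyNoetherian f
  haveI : CompactSpace X := Groth.Agent.FormalFun.compactSpace_of_proper A X
  have h𝓘' := h𝓘.trans (Groth.Agent.FFormal.Algebraize.comap_idealSpec_eq I)
  have hadj := (FSch.toSchemeMor (FSch.completionAlong X 𝓘) hX (FSch.completionToX X 𝓘) (FSch.completionToX_comm X 𝓘)).adj
  haveI hla : (FSch.toSchemeMor (FSch.completionAlong X 𝓘) hX (FSch.completionToX X 𝓘) (FSch.completionToX_comm X 𝓘)).pull.IsLeftAdjoint :=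
    ⟨_, ⟨hadj⟩⟩
  have hN := Groth.Agent.Adic.ComplAlong.isLocNoethFormal (𝓘 := 𝓘)
  have huniv : ClSub.IsProperOver f (Set.univ : Set X) := by
    haveI : IsProper (𝟙 X ≫ f) := by rw [Category.id_comp]; infer_instance
    exact Groth.Agent.EtShriekLib.ipo_of_immersion _ (𝟙 X) isClosed_univ fun x _ => ⟨x, rfl⟩
  haveI hpC : PreservesColimitsOfSize.{u, u} (Groth.Agent.FFormal.MonoEpi.C 𝓘 hX) :=
    hadj.leftAdjoint_preservesColimits
  constructor
  · rintro ⟨K, _, _, pres, hD⟩
    have hsurj : ∀ j, ∃ G : X.Modules, Coh.IsCoh G ∧ Nonempty (pres.diag.obj j ≅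
        (Groth.Agent.FFormal.MonoEpi.C 𝓘 hX).obj G) := fun j => by
      obtain ⟨G, hG, -, ⟨e⟩⟩ := Groth.Agent.FFormal.Algebraize.isAlg_of_support f h𝓘 (hD j) huniv (Set.subset_univ _)
      exact ⟨G, hG, ⟨e ≪≫ (Groth.Agent.S13339.result X 𝓘 hX G hG).choose.symm⟩⟩
    choose G hG e using hsurj
    let e' := fun j => (e j).some
    have hb := fun i j => Groth.Agent.FFormal.AlgFF.pull_bijective 𝓘 hX h𝓘' (hG i) (hG j)
    choose m hm using fun {i j : K} (a : i ⟶ j) => (hb i j).2 ((e' i).inv ≫ pres.diag.map a ≫ (e' j).hom)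
    let D : K ⥤ X.Modules :=
      { obj := G
        map := fun a => m a
        map_id := fun i => (hb i i).1 (by
          refine (hm (𝟙 i)).trans (Eq.trans ?_ ((Groth.Agent.FFormal.MonoEpi.C 𝓘 hX).map_id _).symm)
          rw [pres.diag.map_id, Category.id_comp, Iso.inv_hom_id])
        map_comp := fun {i j k} a b => (hb i k).1 (by
          refine (hm (a ≫ b)).trans (Eq.trans ?_ ((Groth.Agent.FFormal.MonoEpi.C 𝓘 hX).map_comp _ _).symm)
          refine Eq.trans ?_ (congrArg₂ (· ≫ ·) (hm a) (hm b)).symm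
          simp only [pres.diag.map_comp, Category.assoc, Iso.hom_inv_id_assoc]) }
    let η : pres.diag ≅ D ⋙ Groth.Agent.FFormal.MonoEpi.C 𝓘 hX := NatIso.ofComponents e' fun {i j} a => by
      refine Eq.trans ?_ (congrArg ((e' i).hom ≫ ·) (hm a).symm)
      rw [Iso.hom_inv_id_assoc]
    haveI : ∀ j, (D.obj j).IsQuasicoherent := fun j => (hG j).1
    refine ⟨colimit D, Groth.Agent.QCoh.isQuasicoherent_colimit D, ⟨?_⟩⟩
    exact IsColimit.coconePointsIsoOfNatIso
      (isColimitOfPreserves (Groth.Agent.FFormal.MonoEpi.C 𝓘 hX) (colimit.isColimit D)) pres.isColimit η.symm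
  · rintro ⟨G, hGq, ⟨e⟩⟩
    let M : QCohCat.QCoh X := ⟨G, hGq⟩
    haveI : G.IsQuasicoherent := hGq
    haveI := Groth.Agent.QCohGen.Presentable.isDirected M
    haveI := Groth.Agent.QCohGen.Presentable.nonempty_index M
    haveI : PreservesColimitsOfSize.{u, u} (FSch.toSchemeMor (FSch.completionAlong X 𝓘) hX
      (FSch.completionToX X 𝓘) (FSch.completionToX_comm X 𝓘)).pull := hpC
    haveI := Groth.Agent.QCohGen.instPreservesColimitsι (X := X)
    obtain ⟨hc⟩ := Groth.Agent.QCohGen.Presentable.nonempty_isColimit_toF M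
    have hc' := @isColimitOfPreserves _ _ _ _ _ _ _ ((QCohCat.isQCoh X).ι ⋙ Groth.Agent.FFormal.MonoEpi.C 𝓘 hX) _
      hc (@comp_preservesColimit _ _ _ _ _ _ _ _ _ (QCohCat.isQCoh X).ι (Groth.Agent.FFormal.MonoEpi.C 𝓘 hX)
        inferInstance inferInstance)
    refine ObjectProperty.prop_of_iso _ e
      ⟨Groth.Agent.QCohGen.Presentable.Index M, inferInstance, inferInstance, ⟨_, _, hc'⟩, fun S => ?_⟩
    have hS : Coh.IsCoh (Groth.Agent.Props.SubSheaf.sub S.1) :=
      ⟨Groth.Agent.Props.SubSheaf.isQuasicoherent_sub S.2, Groth.Agent.Props.SubSheaf.isFiniteType_sub S.2⟩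
    exact Groth.Agent.IndCoh.isFinitePresentation_of_iso (Groth.Agent.S13339.result X 𝓘 hX _ hS).choose.symm
      (Groth.Agent.FFormal.isCohF_realMod hN (Groth.Agent.FFormal.Algebraize.isCoh_complMod hS))

end Groth.Agent.S17046
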