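import Groth.Statements.S17051
import Groth.Agent.FTorsLib.QCTExt
import Groth.Agent.FTorsLib.QCTInd
import Groth.Agent.FTorsLib.Formal

set_option autoImplicit false
open CategoryTheory CategoryTheory.Limits
universe u
open FTors

namespace Groth.Agent.S17051

/-- On a locally Noetherian formal scheme 𝔛 (an adic system of thickenings with locally Noetherian
levels), if F₀ ⟶ F₁ ⟶ F₂ ⟶ F₃ ⟶ F₄ is an exact sequence of O_𝔛-modules with F₀, F₁, F₃, F₄
quasi-coherent torsion modules, then F₂ is a quasi-coherent torsion module. -/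
theorem result (𝔛 : FSch.Sys.{u}) (h𝔛 : 𝔛.IsLocNoethFormal)
    (S : ComposableArrows (FSch.ModF 𝔛 h𝔛.1) 4) (hS : S.Exact)
    (h₀ : FTors.IsQCT 𝔛 h𝔛.1 (S.obj 0)) (h₁ : FTors.IsQCT 𝔛 h𝔛.1 (S.obj 1)) (h₃ : FTors.IsQCT 𝔛 h𝔛.1 (S.obj 3)) (h₄ : FTors.IsQCT 𝔛 h𝔛.1 (S.obj 4)) :
    FTors.IsQCT 𝔛 h𝔛.1 (S.obj 2) := by
  have hN := h𝔛
  let f0 : S.obj 0 ⟶ S.obj 1 := S.map' 0 1
  let f1 : S.obj 1 ⟶ S.obj 2 := S.map' 1 2
  let f2 : S.obj 2 ⟶ S.obj 3 := S.map' 2 3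
  let f3 : S.obj 3 ⟶ S.obj 4 := S.map' 3 4
  have w01 : f0 ≫ f1 = 0 := hS.toIsComplex.zero 0
  have w12 : f1 ≫ f2 = 0 := hS.toIsComplex.zero 1
  have w23 : f2 ≫ f3 = 0 := hS.toIsComplex.zero 2
  have e1 : (ShortComplex.mk f0 f1 w01).Exact := hS.exact 0
  have e2 : (ShortComplex.mk f1 f2 w12).Exact := hS.exact 1
  have e3 : (ShortComplex.mk f2 f3 w23).Exact := hS.exact 2
  let φ : cokernel f0 ⟶ S.obj 2 := cokernel.desc f0 f1 w01
  let ψ : S.obj 2 ⟶ kernel f3 := kernel.lift f3 f2 w23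
  haveI : Mono φ := e1.mono_cokernelDesc
  haveI : Epi ψ := e3.epi_kernelLift
  have hπ : cokernel.π f0 ≫ φ = f1 := cokernel.π_desc _ _ _
  have hι : ψ ≫ kernel.ι f3 = f2 := kernel.lift_ι _ _ _
  have w : φ ≫ ψ = 0 := by
    rw [← cancel_epi (cokernel.π f0), ← cancel_mono (kernel.ι f3), ← Category.assoc, hπ, Category.assoc, hι, w12,
      comp_zero, zero_comp]
  let T := ShortComplex.mk φ ψ w
  have hT : T.ShortExact := by
    refine { exact := ?_ }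
    let T' := ShortComplex.mk φ f2 (by rw [← hι, ← Category.assoc, w, zero_comp])
    let a : ShortComplex.mk f1 f2 w12 ⟶ T' := ShortComplex.homMk (cokernel.π f0) (𝟙 _) (𝟙 _)
      (hπ.trans (Category.comp_id _).symm) ((Category.id_comp _).trans (Category.comp_id _).symm)
    let b : T ⟶ T' := ShortComplex.homMk (𝟙 _) (𝟙 _) (kernel.ι f3)
      ((Category.id_comp _).trans (Category.comp_id _).symm) ((Category.id_comp _).trans hι.symm)
    haveI : Epi a.τ₁ := inferInstanceAs (Epi (cokernel.π f0))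
    haveI : IsIso a.τ₂ := inferInstanceAs (IsIso (𝟙 (S.obj 2)))
    haveI : Mono a.τ₃ := inferInstanceAs (Mono (𝟙 (S.obj 3)))
    haveI : Epi b.τ₁ := inferInstanceAs (Epi (𝟙 (cokernel f0)))
    haveI : IsIso b.τ₂ := inferInstanceAs (IsIso (𝟙 (S.obj 2)))
    haveI : Mono b.τ₃ := inferInstanceAs (Mono (kernel.ι f3))
    exact (ShortComplex.exact_iff_of_epi_of_isIso_of_mono b).2 ((ShortComplex.exact_iff_of_epi_of_isIso_of_mono a).1 e2)
  haveI := Groth.Agent.FTorsLib.isSerreClass_isTors (Groth.Agent.FTorsLib.hasLocGens_open hN)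
  exact ⟨(FTors.IsTorsF 𝔛 h𝔛.1).prop_X₂_of_shortExact hT (Groth.Agent.FTorsLib.isTors_of_epi _ (cokernel.π f0) h₁.1)
      (Groth.Agent.FTorsLib.isTors_of_mono _ (kernel.ι f3) h₃.1),
    Groth.Agent.FTorsLib.QCT.isQuasicoherent_ext hN hT
      (Groth.Agent.FFormal.ind_cokernel hN f0 (Groth.Agent.FTorsLib.QCT.indP_of_isQCT hN _ h₀)
        (Groth.Agent.FTorsLib.QCT.indP_of_isQCT hN _ h₁))
      (Groth.Agent.FFormal.ind_kernel hN f3 (Groth.Agent.FTorsLib.QCT.indP_of_isQCT hN _ h₃)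
        (Groth.Agent.FTorsLib.QCT.indP_of_isQCT hN _ h₄))⟩

end Groth.Agent.S17051
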