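import Groth.Statements.S17065
import Mathlib

set_option autoImplicit false
universe u
open CAlg

namespace Groth.Agent.S17065

/-- The local algebraic statement its proof establishes: let A be a Noetherian ring, I ≤ J radical
ideals and Â the J-adic completion of A. If J^n Â ⊆ I Â for some n, then the closed set V(J) is open
inside V(I) ⊆ Spec A. (Globally: if X₂ ⊆ X₁ are the completions of a locally Noetherian scheme along
nested closed subsets Z₂ ⊆ Z₁ and the ideal of Z₁ generates an ideal of definition of X₂, then X₂ is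
a union of connected components of X₁.) -/
theorem result (A : Type u) [CommRing A] [IsNoetherianRing A]
    (I J : Ideal A) (hIJ : I ≤ J) (hI : I.IsRadical) (hJ : J.IsRadical) (n : ℕ)
    (h : (J ^ n).map (algebraMap A (AdicCompletion J A)) ≤ I.map (algebraMap A (AdicCompletion J A))) :
    IsOpen ((fun x : PrimeSpectrum.zeroLocus (I : Set A) => (x : PrimeSpectrum A)) ⁻¹'
      PrimeSpectrum.zeroLocus (J : Set A)) := by
  classical
  have key : ∀ a ∈ J ^ n, ∃ j ∈ J, (1 - j) * a ∈ I := by
    intro a ha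
    have hk : ∀ k : ℕ, a ∈ I ⊔ J ^ k := by
      intro k
      have h1 : algebraMap A (AdicCompletion J A) a ∈ I.map (algebraMap A (AdicCompletion J A)) :=
        h (Ideal.mem_map_of_mem _ ha)
      have h2 := Ideal.mem_map_of_mem (AdicCompletion.evalₐ J k).toRingHom h1
      rw [Ideal.map_map, AlgHom.toRingHom_eq_coe, AlgHom.comp_algebraMap, RingHom.coe_coe, AlgHom.commutes, Ideal.Quotient.algebraMap_eq] at h2
      exact Ideal.mem_quotient_iff_mem_sup.1 h2
    have h3 : (Submodule.Quotient.mk a : A ⧸ I) ∈ (⨅ k : ℕ, J ^ k • ⊤ : Submodule A (A ⧸ I)) := by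
      rw [Submodule.mem_iInf]
      intro k
      obtain ⟨b, hb, c, hc, rfl⟩ := Submodule.mem_sup.1 (hk k)
      rw [Submodule.Quotient.mk_add, (Submodule.Quotient.mk_eq_zero I).2 hb, zero_add]
      have : c ∈ (J ^ k • ⊤ : Submodule A A) := by rw [Ideal.smul_eq_mul, Ideal.mul_top]; exact hc
      have h4 := Submodule.mem_map_of_mem (f := I.mkQ) this
      rw [Submodule.map_smul''] at h4
      exact Submodule.smul_mono le_rfl le_top h4
    obtain ⟨⟨j, hj⟩, hj'⟩ := (Ideal.mem_iInf_smul_pow_eq_bot_iff J _).1 h3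
    refine ⟨j, hj, ?_⟩
    rw [← Submodule.Quotient.mk_eq_zero]
    show Submodule.Quotient.mk ((1 - j) • a) = 0
    rw [Submodule.Quotient.mk_smul, sub_smul, one_smul, hj', sub_self]
  obtain ⟨G, hG⟩ : (J ^ n).FG := IsNoetherian.noetherian _
  choose! j hj hjI using fun a (ha : a ∈ G) => key a (hG ▸ Ideal.subset_span ha)
  set s := ∏ a ∈ G, (1 - j a)
  have hs : s - 1 ∈ J := by
    rw [← Ideal.Quotient.eq, map_prod, map_one]
    refine Finset.prod_eq_one fun a ha => ?_
    rw [map_sub, map_one, Ideal.Quotient.eq_zero_iff_mem.2 (hj a ha), sub_zero]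
  have hsJ : ∀ a ∈ J ^ n, s * a ∈ I := by
    intro a ha
    rw [← hG] at ha
    induction ha using Submodule.span_induction with
    | mem a ha =>
      show (∏ b ∈ G, (1 - j b)) * a ∈ I
      rw [← Finset.mul_prod_erase G _ ha, mul_right_comm]
      exact I.mul_mem_right _ (hjI a ha)
    | zero => simp
    | add a b _ _ h1 h2 => rw [mul_add]; exact add_mem h1 h2
    | smul r a _ h1 => rw [smul_eq_mul, mul_left_comm]; exact I.mul_mem_left _ h1
  have hsJ' : ∀ a ∈ J, s * a ∈ I := by
    intro a ha
    refine hI ⟨n + 1, ?_⟩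
    rw [mul_pow, pow_succ s, pow_succ a, show s ^ n * s * (a ^ n * a) = (s ^ n * a) * (s * a ^ n) by ring]
    exact I.mul_mem_left _ (hsJ _ (Ideal.pow_mem_pow ha n))
  have hset : (fun x : PrimeSpectrum.zeroLocus (I : Set A) => (x : PrimeSpectrum A)) ⁻¹' PrimeSpectrum.zeroLocus (J : Set A) =
      (fun x : PrimeSpectrum.zeroLocus (I : Set A) => (x : PrimeSpectrum A)) ⁻¹' (PrimeSpectrum.basicOpen s) := by
    ext x
    have hxI : I ≤ x.1.asIdeal := (PrimeSpectrum.mem_zeroLocus _ _).1 x.2
    simp only [Set.mem_preimage, PrimeSpectrum.mem_zeroLocus, SetLike.coe_subset_coe, SetLike.mem_coe, PrimeSpectrum.mem_basicOpen]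
    constructor
    · intro hJx hsx
      refine x.1.isPrime.ne_top ((Ideal.eq_top_iff_one _).2 ?_)
      have := sub_mem hsx (hJx hs)
      rwa [sub_sub_cancel] at this
    · intro hsx a ha
      exact (x.1.isPrime.mem_or_mem (hxI (hsJ' a ha))).resolve_left hsx
  rw [hset]
  exact (PrimeSpectrum.basicOpen s).isOpen.preimage continuous_subtype_val

end Groth.Agent.S17065
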