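import Groth.Statements.S17071
import Groth.Agent.FTorsLib.ComplDerived

set_option autoImplicit false
open CategoryTheory CategoryTheory.Limits AlgebraicGeometry
universe u
attribute [local instance] HasDerivedCategory.standard
open FTors

namespace Groth.Agent.S17071

/-- Let X be a locally Noetherian scheme, 𝓘 a quasi-coherent ideal of O_X, X̂ the completion of X along
𝓘, κ : X̂ ⟶ X the completion morphism of ringed spaces, and assume Rκ_*, RΓ'_X̂ and the derived
𝓘-power-torsion functor RΓ_𝓘 exist on unbounded derived categories. Then for every E ∈ D(O_X̂) there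
is a unique isomorphism RΓ_𝓘 (Rκ_* E) ≅ Rκ_* (RΓ'_X̂ E) whose composite with Rκ_* of the canonical
morphism RΓ'_X̂ E ⟶ E is the canonical morphism RΓ_𝓘 (Rκ_* E) ⟶ Rκ_* E. -/
theorem result (X : Scheme.{u}) [IsLocallyNoetherian X]
    (𝓘 : X.IdealSheafData) (hX : (FSch.completionAlong X 𝓘).IsFormal)
    [SiteCmp.HasRpushD (FSch.toSchemeMor (FSch.completionAlong X 𝓘) hX (FSch.completionToX X 𝓘) (FSch.completionToX_comm X 𝓘))] [FTors.HasRgammaT (FSch.completionAlong X 𝓘) hX] [FTors.HasRgammaZp X 𝓘]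
    (E : DerivedCategory (FSch.ModF (FSch.completionAlong X 𝓘) hX)) :
    ∃! e : (FTors.RgammaZp X 𝓘).obj ((SiteCmp.RpushD (FSch.toSchemeMor (FSch.completionAlong X 𝓘) hX (FSch.completionToX X 𝓘) (FSch.completionToX_comm X 𝓘))).obj E) ≅
        (SiteCmp.RpushD (FSch.toSchemeMor (FSch.completionAlong X 𝓘) hX (FSch.completionToX X 𝓘) (FSch.completionToX_comm X 𝓘))).obj ((FTors.RgammaT (FSch.completionAlong X 𝓘) hX).obj E),
      e.hom ≫ (SiteCmp.RpushD (FSch.toSchemeMor (FSch.completionAlong X 𝓘) hX (FSch.completionToX X 𝓘) (FSch.completionToX_comm X 𝓘))).map ((FTors.RgammaTε (FSch.completionAlong X 𝓘) hX).app E) =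
        (FTors.RgammaZpε X 𝓘).app ((SiteCmp.RpushD (FSch.toSchemeMor (FSch.completionAlong X 𝓘) hX (FSch.completionToX X 𝓘) (FSch.completionToX_comm X 𝓘))).obj E) := by
  haveI : PreservesFiniteLimits (FTorsLib.Compl.kap hX).pull :=
    PullFlatStalk.isFlat_of_stalkHom (FSch.completionToX X 𝓘 0).base (PullFlatStalk.complSharp X 𝓘 hX)
      (FTorsLib.Compl.flat_stalkHom hX)
  exact FTorsLib.existsUnique_iso_of_universal FTorsLib.Compl.hasLocGens_pow
    ((SiteCmp.RpushD (FTorsLib.Compl.kap hX)).map ((FTors.RgammaTε _ hX).app E))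
    (FTorsLib.Compl.isDTorsZp_RpushD hX (FTorsLib.isDTors_rgamma
      (FTorsLib.hasLocGens_open (Adic.ComplAlong.isLocNoethFormal (X := X) 𝓘)) E))
    (FTorsLib.Compl.bijective_comp_RpushD hX E)

end Groth.Agent.S17071
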