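import Groth.Statements.S17073
import Groth.Agent.LocCohSweep.TopRightExact
import Groth.Agent.LocCoh.TopDegree
import Mathlib.Algebra.Category.ModuleCat.Monoidal.Closed
import Mathlib.Algebra.Category.ModuleCat.ChangeOfRings

set_option autoImplicit false
open CategoryTheory
universe u
open LocCoh

namespace Groth.Agent.S17073

open Groth.Agent

theorem cdLE_of_radical {S : Type u} [CommRing S] [IsNoetherianRing S] (J : Ideal S) (d : ℕ)
    (u : Fin d → S) (hu : ∀ i, u i ∈ J) (hJ : J ≤ (Ideal.span (Set.range u)).radical) :
    _root_.LocCoh.CdLE S J d := by
  classical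
  intro M _ _ i hi
  have h := LocCoh.cdLE_span_finset (Finset.univ.image u) M i
    (lt_of_le_of_lt (Finset.card_image_le.trans (by simp)) hi)
  rw [Finset.coe_image, Finset.coe_univ, Set.image_univ] at h
  refine (LocCoh.subsingleton_H_iff_of_radical_eq (le_antisymm ?_ ?_) i _).mpr h
  · exact (Ideal.radical_mono hJ).trans (Ideal.radical_idem _).le
  · exact Ideal.radical_mono (Ideal.span_le.mpr (Set.range_subset_iff.mpr hu))

open MonoidalCategory in
noncomputable def topIso {S : Type u} [CommRing S] [IsNoetherianRing S] {J : Ideal S} {d : ℕ}
    (hcd : _root_.LocCoh.CdLE S J d) :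
    tensorLeft (ModuleCat.of S (_root_.LocCoh.H J d S)) ≅ localCohomology J d :=
  NatIso.ofComponents
    (fun E => ((TensorProduct.comm S (_root_.LocCoh.H J d S) E) ≪≫ₗ
      LocCohSweep.TopRightExact.θEquiv hcd E).toModuleIso)
    fun {E E'} f => by
      ext z
      induction z using TensorProduct.induction_on with
      | zero => simp
      | tmul x e =>
        exact LocCohSweep.TopRightExact.θ_naturality f.hom (e ⊗ₜ x)
      | add a b ha hb => simp only [map_add] at *; rw [ha, hb]


/-- Let R → S be a homomorphism of Noetherian rings, J an ideal of S containing elements u₁, …, u_d such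
that S/(u₁, …, u_d) is a finite R-module and J lies in the radical of (u₁, …, u_d), and let F be a
finite R-module. Then the functor sending an S-module E to the set Hom_R(H^d_J(E), F) (d-th local
cohomology supported in J, scalars restricted to R) is representable by an S-module. (The published
statement gives the representing module as the degree −d cohomology of RHom_R(RΓ_J S, F) and a
bifunctorial isomorphism; only representability is asserted here.) -/
theorem result
    (R S : Type u) [CommRing R] [CommRing S] [IsNoetherianRing R] [IsNoetherianRing S] [Algebra R S]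
    (J : Ideal S) (d : ℕ) (u : Fin d → S) (hu : ∀ i, u i ∈ J)
    (hJ : J ≤ (Ideal.span (Set.range u)).radical) [Module.Finite R (S ⧸ Ideal.span (Set.range u))]
    (F : Type u) [AddCommGroup F] [Module R F] [Module.Finite R F] :
    ((localCohomology J d ⋙ ModuleCat.restrictScalars (algebraMap R S)).op ⋙
      yoneda.obj (ModuleCat.of R F)).IsRepresentable := by
  let adj := (((ihom.adjunction (ModuleCat.of S (_root_.LocCoh.H J d S))).comp
    (ModuleCat.restrictCoextendScalarsAdj (algebraMap R S))).ofNatIsoLeft
      (Functor.isoWhiskerRight (topIso (cdLE_of_radical J d u hu hJ))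
        (ModuleCat.restrictScalars (algebraMap R S))))
  exact Functor.RepresentableBy.isRepresentable (adj.representableBy (ModuleCat.of R F))

end Groth.Agent.S17073
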