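import Groth.Statements.S17075
-- import your own Groth.Agent.* helpers here

set_option autoImplicit false
universe u
open CategoryTheory CategoryTheory.Limits AlgebraicGeometry
open MorSch

namespace Groth.Agent.S17075

/-- Let g : X → S be a proper morphism, i : V → X a closed immersion and j : U → X an open immersion.
Then there is an open subset S₀ of S such that, for every scheme S' and every morphism f : S' → S,
the image of f lies in S₀ if and only if the base change V ×_S S' → X ×_S S' of i factors through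
the open subscheme U ×_S S', equivalently the composite V ×_S S' → V → X has image contained in the
image of j. -/
theorem result
    {V X U S : Scheme.{u}} (g : X ⟶ S) [IsProper g] (i : V ⟶ X) [IsClosedImmersion i]
    (j : U ⟶ X) [IsOpenImmersion j] :
    ∃ S₀ : S.Opens, ∀ (S' : Scheme.{u}) (f : S' ⟶ S),
      Set.range f ⊆ (S₀ : Set S) ↔
        Set.range (pullback.fst (i ≫ g) f ≫ i) ⊆ Set.range j := by
  let C : Set X := Set.range i ∩ (Set.range j)ᶜ
  have hC : IsClosed C :=
    i.isClosedEmbedding.isClosed_range.inter j.isOpenEmbedding.isOpen_range.isClosed_compl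
  refine ⟨⟨(g '' C)ᶜ, (g.isClosedMap _ hC).isOpen_compl⟩, fun S' f => ⟨fun h => ?_, fun h => ?_⟩⟩
  · rintro _ ⟨p, rfl⟩
    by_contra hp
    have e : f (pullback.snd (i ≫ g) f p) = g (i (pullback.fst (i ≫ g) f p)) :=
      (congr($(pullback.condition (f := i ≫ g) (g := f)) p)).symm
    exact h ⟨pullback.snd (i ≫ g) f p, rfl⟩
      ⟨i (pullback.fst (i ≫ g) f p), ⟨⟨_, rfl⟩, hp⟩, e.symm⟩
  · rintro _ ⟨s', rfl⟩ ⟨_, ⟨⟨v, rfl⟩, hv⟩, e⟩
    obtain ⟨p, hp, -⟩ := Scheme.Pullback.exists_preimage_pullback (f := i ≫ g) (g := f) v s' e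
    exact hv (by rw [← hp]; exact h ⟨p, rfl⟩)

end Groth.Agent.S17075
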