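import Groth.Statements.S17076
import Groth.Agent.PurIso.Fibre
import Groth.Agent.FlatMor.FibMapCrit
import Mathlib.AlgebraicGeometry.Morphisms.FlatDescent

set_option autoImplicit false
set_option backward.isDefEq.respectTransparency false
set_option backward.isDefEq.respectTransparency.types false
set_option linter.style.haveILetI false
universe u
open CategoryTheory CategoryTheory.Limits AlgebraicGeometry
open MorSch

namespace Groth.Agent.S17076

/-- The base change of `f` along `t`, as a pullback of `f` along the projection `Y_T ⟶ Y`. -/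
theorem isPullback_map {S : Scheme.{u}} {X Y : Over S} (f : X ⟶ Y) {T : Scheme.{u}} (t : T ⟶ S) :
    IsPullback (pullback.fst X.hom t) ((Over.pullback t).map f).left f.left (pullback.fst Y.hom t) := by
  have h1 : ((Over.pullback t).map f).left ≫ pullback.fst Y.hom t = pullback.fst X.hom t ≫ f.left := by
    simp
  have h2 : ((Over.pullback t).map f).left ≫ pullback.snd Y.hom t = pullback.snd X.hom t := by
    simp
  refine IsPullback.of_bot ?_ h1.symm (IsPullback.of_hasPullback Y.hom t)
  rw [h2, Over.w f]
  exact IsPullback.of_hasPullback X.hom t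

theorem isIso_map_iff {S : Scheme.{u}} {X Y : Over S} (f : X ⟶ Y) {T : Scheme.{u}} (t : T ⟶ S) :
    IsIso ((Over.pullback t).map f).left ↔ IsIso (pullback.snd f.left (pullback.fst Y.hom t)) := by
  rw [← (isPullback_map f t).isoPullback_hom_snd, isIso_comp_left_iff]

/-- The base change to a fibre, as the fibre map. -/
theorem isIso_fiberMap_iff {S : Scheme.{u}} {X Y : Over S} (f : X ⟶ Y) (s : S) :
    IsIso (MoreMor.fiberMap f.left Y.hom s) ↔ IsIso (pullback.snd f.left (Y.hom.fiberι s)) := by
  rw [← (Groth.Agent.FlatMor.FibMap.isPullback_fiberMap f.left Y.hom s).isoPullback_hom_snd,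
    isIso_comp_left_iff]

/-- A faithfully flat quasi-compact base change detects isomorphisms. -/
theorem isIso_map_comp_iff {S : Scheme.{u}} {X Y : Over S} (f : X ⟶ Y) {T T' : Scheme.{u}} (a : T' ⟶ T)
    (t : T ⟶ S) [Surjective a] [Flat a] [QuasiCompact a] :
    IsIso ((Over.pullback (a ≫ t)).map f).left ↔ IsIso ((Over.pullback t).map f).left := by
  let p := pullback.fst Y.hom t
  let b : pullback Y.hom (a ≫ t) ⟶ pullback Y.hom t :=
    pullback.map Y.hom (a ≫ t) Y.hom t (𝟙 _) a (𝟙 _) (by simp) (by simp)
  have hb1 : b ≫ p = pullback.fst Y.hom (a ≫ t) := by simp [b, p]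
  have hb2 : b ≫ pullback.snd Y.hom t = pullback.snd Y.hom (a ≫ t) ≫ a := by simp [b]
  have sq : IsPullback b (pullback.snd Y.hom (a ≫ t)) (pullback.snd Y.hom t) a :=
    IsPullback.of_right (by rw [hb1]; exact IsPullback.of_hasPullback Y.hom (a ≫ t)) hb2
      (IsPullback.of_hasPullback Y.hom t)
  have hb : (@Surjective ⊓ @Flat ⊓ @QuasiCompact : MorphismProperty Scheme.{u}) b :=
    ⟨⟨MorphismProperty.of_isPullback sq.flip ‹Surjective a›, MorphismProperty.of_isPullback sq.flip ‹Flat a›⟩,
      MorphismProperty.of_isPullback sq.flip ‹QuasiCompact a›⟩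
  let f' := pullback.snd f.left p
  let sq2 := (IsPullback.of_hasPullback f.left (pullback.fst Y.hom (a ≫ t)))
  let m : pullback f.left (pullback.fst Y.hom (a ≫ t)) ⟶ pullback f.left p :=
    pullback.map f.left _ f.left p (𝟙 _) b (𝟙 _) (by simp) (by rw [Category.comp_id, hb1])
  have hm1 : m ≫ pullback.fst f.left p = pullback.fst f.left _ := by simp [m]
  have hm2 : m ≫ f' = pullback.snd f.left _ ≫ b := by simp [m, f']
  have sq3 : IsPullback m (pullback.snd f.left (pullback.fst Y.hom (a ≫ t))) f' b :=
    IsPullback.of_right (by rw [hm1, hb1]; exact IsPullback.of_hasPullback _ _) hm2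
      (IsPullback.of_hasPullback f.left p)
  rw [isIso_map_iff, isIso_map_iff]
  refine ⟨fun h => ?_, fun h => ?_⟩
  · exact MorphismProperty.of_isPullback_of_descendsAlong (P := MorphismProperty.isomorphisms Scheme.{u})
      (Q := (@Surjective ⊓ @Flat ⊓ @QuasiCompact : MorphismProperty Scheme.{u})) sq3.flip hb h
  · exact sq3.isIso_snd_of_isIso


/-- Let S be a locally Noetherian scheme, X and Y schemes proper over S with X flat over S, and f : X →
Y an S-morphism. Then there is an open subset S₀ of S such that, for every locally Noetherian scheme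
S' and every morphism h : S' → S, the image of h lies in S₀ if and only if the base change X ×_S S'
→ Y ×_S S' of f is an isomorphism. (The published statement also supposes that some fibre of f is an
isomorphism; that hypothesis only serves to make S₀ nonempty and is not needed.) -/
theorem result
    {S : Scheme.{u}} [IsLocallyNoetherian S] (X Y : Over S) [IsProper X.hom] [IsProper Y.hom]
    [Flat X.hom] (f : X ⟶ Y) :
    ∃ S₀ : S.Opens, ∀ (S' : Scheme.{u}) [IsLocallyNoetherian S'] (h : S' ⟶ S),
      Set.range h ⊆ (S₀ : Set S) ↔ IsIso ((Over.pullback h).map f).left := by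
  haveI : IsProper f.left := by
    haveI : IsProper (f.left ≫ Y.hom) := by rw [Over.w f]; infer_instance
    exact IsProper.of_comp f.left Y.hom
  haveI : IsProper (f.left ≫ Y.hom) := by rw [Over.w f]; infer_instance
  haveI : Flat (f.left ≫ Y.hom) := by rw [Over.w f]; infer_instance
  have hfib : ∀ s : S, IsIso (MoreMor.fiberMap f.left Y.hom s) ↔
      IsIso ((Over.pullback (S.fromSpecResidueField s)).map f).left := fun s =>
    (isIso_fiberMap_iff f s).trans (isIso_map_iff f _).symm
  refine ⟨⟨_, Groth.Agent.PurIso.isOpen_isoLocus f.left Y.hom⟩, fun S' _ h => ?_⟩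
  have hpt : ∀ s' : S', IsIso ((Over.pullback (S'.fromSpecResidueField s' ≫ h)).map f).left ↔
      IsIso (MoreMor.fiberMap f.left Y.hom (h s')) := fun s' => by
    rw [hfib, ← Scheme.Hom.SpecMap_residueFieldMap_fromSpecResidueField h s']
    haveI : Flat (Spec.map (h.residueFieldMap s')) := inferInstance
    exact isIso_map_comp_iff f _ _
  let X' := (Over.pullback h).obj X
  let Y' := (Over.pullback h).obj Y
  let f' : X' ⟶ Y' := (Over.pullback h).map f
  haveI : Flat X'.hom := inferInstanceAs (Flat (pullback.snd X.hom h))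
  haveI : IsProper X'.hom := inferInstanceAs (IsProper (pullback.snd X.hom h))
  haveI : IsProper Y'.hom := inferInstanceAs (IsProper (pullback.snd Y.hom h))
  have hcomp : ∀ s' : S', IsIso (pullback.snd f'.left (Y'.hom.fiberι s')) ↔
      IsIso (MoreMor.fiberMap f.left Y.hom (h s')) := fun s' => by
    refine ((isIso_map_iff f' (S'.fromSpecResidueField s')).symm.trans ?_).trans (hpt s')
    exact (isIso_iff_of_reflects_iso _ (Over.forget _)).trans
      (((NatIso.isIso_map_iff (Over.pullbackComp (S'.fromSpecResidueField s') h) f).symm).trans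
        (isIso_iff_of_reflects_iso _ (Over.forget _)).symm)
  rw [Set.range_subset_iff]
  refine ⟨fun hs => (Groth.Agent.FlatMor.FibMap.isIso_iff (h := X'.hom) (g := Y'.hom) (Over.w f')).2
    fun s' => (hcomp s').2 (hs s'), fun hi s' => ?_⟩
  haveI : IsIso f'.left := hi
  exact (hcomp s').1 inferInstance

end Groth.Agent.S17076
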