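import Groth.Statements.S17077
import Mathlib.RingTheory.Nullstellensatz
import Mathlib.Algebra.MvPolynomial.Funext

set_option autoImplicit false
universe u
open RatCurve

namespace Groth.Agent.S17077

open MvPolynomial in
theorem exists_zero {k : Type u} [Field k] [IsAlgClosed k] (H : MvPolynomial (Fin 2) k) (hH : ¬ IsUnit H) :
    ∃ a : Fin 2 → k, a ≠ 0 ∧ eval a H = 0 := by
  classical
  by_cases hd : (finSuccEquiv k 1 H).natDegree = 0
  · obtain ⟨h, hh⟩ := Polynomial.natDegree_eq_zero.1 hd
    have hnu : ¬ IsUnit h := fun hu => hH (by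
      have := (Polynomial.isUnit_C.2 hu).map (finSuccEquiv k 1).symm
      rwa [hh, AlgEquiv.symm_apply_apply] at this)
    obtain ⟨M, hM, hle⟩ := Ideal.exists_le_maximal (Ideal.span {h})
      (by rwa [Ne, Ideal.span_singleton_eq_top])
    obtain ⟨c, rfl⟩ := isMaximal_iff_eq_vanishingIdeal_singleton.1 hM
    refine ⟨Fin.cons 1 c, fun e => one_ne_zero (congrFun e 0), ?_⟩
    rw [eval_eq_eval_mv_eval', ← hh, Polynomial.map_C, Polynomial.eval_C]
    simpa using hle (Ideal.mem_span_singleton_self h)
  · set L := (finSuccEquiv k 1 H).leadingCoeff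
    have hL : L * X 0 ≠ 0 := mul_ne_zero
      (Polynomial.leadingCoeff_ne_zero.2 fun h0 => hd (by rw [h0, Polynomial.natDegree_zero]))
      (X_ne_zero 0)
    obtain ⟨c, hc⟩ : ∃ c, eval c (L * X 0) ≠ 0 := by
      by_contra hall
      push Not at hall
      exact hL (MvPolynomial.funext fun c => by rw [hall, map_zero])
    rw [map_mul, eval_X] at hc
    have hdeg : (Polynomial.map (eval c) (finSuccEquiv k 1 H)).natDegree ≠ 0 := by
      rwa [Polynomial.natDegree_map_of_leadingCoeff_ne_zero _ (left_ne_zero_of_mul hc)]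
    obtain ⟨r, hr⟩ := IsAlgClosed.exists_root (Polynomial.map (eval c) (finSuccEquiv k 1 H))
      (fun h0 => hdeg (Polynomial.natDegree_eq_zero_iff_degree_le_zero.2 h0.le))
    refine ⟨Fin.cons r c, fun e => right_ne_zero_of_mul hc (congrFun e 1), ?_⟩
    rw [eval_eq_eval_mv_eval']
    exact hr

open MvPolynomial in
theorem dvd_of_zero {k : Type u} [Field k] (a : Fin 2 → k) (i j : Fin 2) (hij : i ≠ j) (hai : a i ≠ 0)
    (F : MvPolynomial (Fin 2) k) (d : ℕ) (hF : F.IsHomogeneous d) (h : eval a F = 0) :
    (X j - C (a j / a i) * X i) ∣ F := by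
  let c := a j / a i
  let v : Fin 2 → k := fun l => a l / a i
  have hv : ∀ l, v l * a i = a l := fun l => div_mul_cancel₀ _ hai
  have hvi : v i = 1 := div_self hai
  let φ : MvPolynomial (Fin 2) k →ₐ[k] MvPolynomial (Fin 2) k := aeval fun l => C (v l) * X i
  let I : Ideal (MvPolynomial (Fin 2) k) := Ideal.span {X j - C (a j / a i) * X i}
  have h1 : ∀ P, Ideal.Quotient.mk I (φ P) = Ideal.Quotient.mk I P := by
    intro P
    induction P using MvPolynomial.induction_on with
    | C r => simp [φ]
    | add p q hp hq => rw [map_add, map_add, map_add, hp, hq]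
    | mul_X p l hp =>
      rw [map_mul, map_mul, map_mul, hp]
      congr 1
      simp only [φ, aeval_X]
      have hl : l = i ∨ l = j :=
        (by decide : ∀ i j l : Fin 2, i ≠ j → l = i ∨ l = j) i j l hij
      rcases hl with rfl | rfl
      · rw [hvi, map_one, one_mul]
      · exact (Ideal.Quotient.eq.2 (Ideal.mem_span_singleton_self _)).symm
  have h2 : φ F = C (eval v F) * X i ^ d := by
    rw [as_sum F]
    simp only [map_sum, Finset.sum_mul]
    refine Finset.sum_congr rfl fun e he => ?_
    have hdeg : e 0 + e 1 = d := by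
      have := hF (mem_support_iff.1 he)
      simpa [Finsupp.weight_apply, Finsupp.sum_fintype, Fin.sum_univ_two] using this
    simp only [φ, aeval_monomial, eval_monomial, algebraMap_eq]
    rw [Finsupp.prod_fintype _ _ (by simp), Finsupp.prod_fintype _ _ (by simp), Fin.prod_univ_two,
      Fin.prod_univ_two, ← hdeg, map_mul, map_mul, map_pow, map_pow, pow_add]
    ring
  have h3 : eval v F = 0 := by
    have h4 : eval a F = eval v F * a i ^ d := by
      rw [as_sum F]
      simp only [map_sum, Finset.sum_mul]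
      refine Finset.sum_congr rfl fun e he => ?_
      have hdeg : e 0 + e 1 = d := by
        have := hF (mem_support_iff.1 he)
        simpa [Finsupp.weight_apply, Finsupp.sum_fintype, Fin.sum_univ_two] using this
      simp only [eval_monomial]
      rw [Finsupp.prod_fintype _ _ (by simp), Finsupp.prod_fintype _ _ (by simp), Fin.prod_univ_two,
        Fin.prod_univ_two, ← hdeg, ← hv 0, ← hv 1, pow_add]
      ring
    exact (mul_eq_zero.1 (h4.symm.trans h)).resolve_right (pow_ne_zero _ hai)
  rw [← Ideal.mem_span_singleton, ← Ideal.Quotient.eq_zero_iff_mem, ← h1, h2, h3, map_zero, zero_mul, map_zero]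

/-- Let k be an algebraically closed field and F_0, …, F_{n-1} homogeneous polynomials in k[u, v] (of
possibly different degrees). Then the F_i have a common factor which is not a unit if and only if
they have a common zero (a, b) ≠ (0, 0) in k², that is, a common zero in the projective line. -/
theorem result
    {k : Type u} [Field k] [IsAlgClosed k] {n : ℕ} (F : Fin n → MvPolynomial (Fin 2) k)
    (d : Fin n → ℕ) (hF : ∀ i, (F i).IsHomogeneous (d i)) :
    (∃ H : MvPolynomial (Fin 2) k, ¬ IsUnit H ∧ ∀ i, H ∣ F i) ↔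
      ∃ a : Fin 2 → k, a ≠ 0 ∧ ∀ i, MvPolynomial.eval a (F i) = 0 := by
  classical
  constructor
  · rintro ⟨H, hH, hdvd⟩
    obtain ⟨a, ha, h0⟩ := exists_zero H hH
    refine ⟨a, ha, fun i => ?_⟩
    obtain ⟨G, hG⟩ := hdvd i
    rw [hG, map_mul, h0, zero_mul]
  · rintro ⟨a, ha, h0⟩
    obtain ⟨i, hi⟩ : ∃ i, a i ≠ 0 := Function.ne_iff.1 ha
    let j := i + 1
    have hij : i ≠ j := by simp only [j]; fin_cases i <;> decide
    refine ⟨MvPolynomial.X j - MvPolynomial.C (a j / a i) * MvPolynomial.X i, fun hu => ?_,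
      fun l => dvd_of_zero a i j hij hi (F l) (d l) (hF l) (h0 l)⟩
    have h1 := hu.map (MvPolynomial.eval (fun _ => (0 : k)))
    simp at h1

end Groth.Agent.S17077
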