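import Groth.Statements.S17078
import Mathlib.RingTheory.Nullstellensatz
import Mathlib.Algebra.MvPolynomial.Division
import Mathlib.Algebra.MvPolynomial.Funext
import Mathlib.RingTheory.MvPolynomial.Homogeneous

set_option autoImplicit false
universe u
open RatCurve

namespace Groth.Agent.S17078

open MvPolynomial

/-- scaling the variables of a homogeneous polynomial -/
theorem eval_smul {k : Type u} [Field k] {ι : Type*} {F : MvPolynomial ι k} {m : ℕ} (hF : F.IsHomogeneous m)
    (c : k) (v : ι → k) : MvPolynomial.eval (c • v) F = c ^ m * MvPolynomial.eval v F := by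
  classical
  rw [MvPolynomial.eval_eq, MvPolynomial.eval_eq, Finset.mul_sum]
  refine Finset.sum_congr rfl fun e he => ?_
  have hed : e.degree = m := by
    rw [Finsupp.degree_eq_weight_one]
    exact hF (MvPolynomial.mem_support_iff.1 he)
  simp only [Pi.smul_apply, smul_eq_mul, mul_pow, Finset.prod_mul_distrib]
  rw [Finset.prod_pow_eq_pow_sum, ← Finsupp.degree_apply, hed]
  ring

theorem linear_dvd {k : Type u} [Field k] [Infinite k] {d : ℕ} (z : Fin 2 → k) (p q : Fin 2) (hpq : p ≠ q)
    (hp : z p ≠ 0) (F : MvPolynomial (Fin 2) k) (hF : F.IsHomogeneous d) (hz : eval z F = 0) :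
    X q - C (z q / z p) * X p ∣ F := by
  let φ : MvPolynomial (Fin 2) k →ₐ[k] MvPolynomial (Fin 2) k := aeval fun i => C (z i / z p) * X p
  let J : Ideal (MvPolynomial (Fin 2) k) := Ideal.span {X q - C (z q / z p) * X p}
  have hφ : φ F = 0 := by
    apply MvPolynomial.funext
    intro x
    rw [map_zero]
    have : eval x (φ F) = eval ((x p / z p) • z) F := by
      show (aeval x : MvPolynomial (Fin 2) k →ₐ[k] k) (φ F) = _
      rw [← AlgHom.comp_apply, MvPolynomial.comp_aeval]
      show eval _ F = eval _ F
      refine congrArg (fun v => eval v F) (funext fun i => ?_)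
      simp
      ring
    rw [this, eval_smul hF, hz, mul_zero]
  have h : (Ideal.Quotient.mkₐ k J).comp φ = Ideal.Quotient.mkₐ k J := by
    refine MvPolynomial.algHom_ext fun i => ?_
    simp only [AlgHom.comp_apply, φ, aeval_X, Ideal.Quotient.mkₐ_eq_mk]
    rcases (show i = p ∨ i = q by omega) with rfl | rfl
    · rw [div_self hp, map_one, one_mul]
    · refine (Ideal.Quotient.eq.2 ?_).symm
      exact Ideal.subset_span rfl
  have h2 := DFunLike.congr_fun h F
  rw [AlgHom.comp_apply, hφ, map_zero] at h2
  exact Ideal.mem_span_singleton.1 (Ideal.Quotient.eq_zero_iff_mem.1 h2.symm)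

theorem comp_mul {k : Type u} [Field k] {σ : Type*} {d m : ℕ} (hdm : d ≤ m) {F : MvPolynomial σ k}
    (hF : F.IsHomogeneous d) (g : MvPolynomial σ k) :
    homogeneousComponent m (F * g) = F * homogeneousComponent (m - d) g := by
  conv_lhs => rw [← sum_homogeneousComponent g, Finset.mul_sum, map_sum]
  rw [Finset.sum_congr rfl (fun j _ => homogeneousComponent_of_mem
    (p := F * homogeneousComponent j g) (hF.mul (homogeneousComponent_isHomogeneous j g)))]
  by_cases h : m - d ∈ Finset.range (g.totalDegree + 1)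
  · rw [Finset.sum_eq_single (m - d) (fun j _ hj => if_neg (by omega)) (fun h' => absurd h h'), if_pos (by omega)]
  · rw [Finset.sum_eq_zero (fun j hj => if_neg (fun e => h (by rwa [show m - d = j by omega]))),
      homogeneousComponent_eq_zero _ _ (by simp at h; omega), mul_zero]

/-- Let k be an algebraically closed field and F_0, …, F_{n-1} homogeneous polynomials of degree d in
k[u, v]. Then the F_i have no common factor other than units if and only if there is an integer m ≥
d such that every homogeneous polynomial of degree m can be written Σ_i F_i G_i with each G_i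
homogeneous of degree m − d, i.e. the k-linear map (G_i)_i ↦ Σ_i F_i G_i from n copies of k[u,
v]_{m−d} to k[u, v]_m is surjective. -/
theorem result
    {k : Type u} [Field k] [IsAlgClosed k] {n : ℕ} (F : Fin n → MvPolynomial (Fin 2) k)
    (d : ℕ) (hF : ∀ i, (F i).IsHomogeneous d) :
    (¬ ∃ H : MvPolynomial (Fin 2) k, ¬ IsUnit H ∧ ∀ i, H ∣ F i) ↔
      ∃ m : ℕ, d ≤ m ∧ ∀ P : MvPolynomial (Fin 2) k, P.IsHomogeneous m →
        ∃ G : Fin n → MvPolynomial (Fin 2) k, (∀ i, (G i).IsHomogeneous (m - d)) ∧
          P = ∑ i, F i * G i := by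
  classical
  constructor
  · intro hno
    let I : Ideal (MvPolynomial (Fin 2) k) := Ideal.span (Set.range F)
    have hX : ∀ i : Fin 2, X i ∈ I.radical := by
      intro i
      rw [← MvPolynomial.vanishingIdeal_zeroLocus_eq_radical (K := k), MvPolynomial.mem_vanishingIdeal_iff]
      intro x hx
      rw [aeval_X]
      by_contra hi
      obtain ⟨q, hq⟩ : ∃ q, i ≠ q := ⟨i + 1, by omega⟩
      refine hno ⟨X q - C (x q / x i) * X i, fun hu => ?_, fun l => linear_dvd x i q hq hi (F l) (hF l)
        (hx (F l) (Ideal.subset_span ⟨l, rfl⟩))⟩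
      have := hu.map (eval x)
      simp [div_mul_cancel₀ _ hi] at this
    choose N hN using hX
    refine ⟨max (N 0 + N 1) d, le_max_right _ _, fun P hP => ?_⟩
    have hPI : P ∈ I := by
      rw [P.as_sum]
      refine I.sum_mem fun e he => ?_
      have hdeg : e 0 + e 1 = max (N 0 + N 1) d := by
        have := hP (MvPolynomial.mem_support_iff.1 he)
        rw [Finsupp.weight_apply, Finsupp.sum_fintype _ _ (by simp)] at this
        simpa [Fin.sum_univ_two] using this
      obtain ⟨i, hi⟩ : ∃ i, N i ≤ e i := by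
        by_cases h0 : N 0 ≤ e 0
        · exact ⟨0, h0⟩
        · exact ⟨1, by omega⟩
      obtain ⟨e', rfl⟩ : ∃ e', e = Finsupp.single i (N i) + e' := ⟨e - Finsupp.single i (N i), by
        rw [add_tsub_cancel_of_le]; exact Finsupp.single_le_iff.2 hi⟩
      rw [monomial_single_add]
      exact I.mul_mem_right _ (hN i)
    obtain ⟨g, hg⟩ := (Ideal.mem_span_range_iff_exists_fun).1 hPI
    refine ⟨fun l => homogeneousComponent (max (N 0 + N 1) d - d) (g l),
      fun l => homogeneousComponent_isHomogeneous _ _, ?_⟩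
    conv_lhs => rw [← homogeneousComponent_eq_self hP, ← hg, map_sum]
    exact Finset.sum_congr rfl fun l _ => by rw [mul_comm, comp_mul (le_max_right _ _) (hF l)]
  · rintro ⟨m, hm, hP⟩ ⟨H, hH, hdvd⟩
    have hpow : ∀ i : Fin 2, H ∣ X i ^ m := by
      intro i
      obtain ⟨G, -, hG⟩ := hP (X i ^ m) (isHomogeneous_X_pow i m)
      rw [hG]
      exact Finset.dvd_sum fun l _ => (hdvd l).mul_right _
    obtain ⟨a, -, ha⟩ := (dvd_prime_pow (MvPolynomial.X_prime (R := k) (i := (0 : Fin 2))) m).1 (hpow 0)
    rcases Nat.eq_zero_or_pos a with rfl | hpos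
    · exact hH (ha.symm.isUnit (by simp))
    have h1 : (X 0 : MvPolynomial (Fin 2) k) ∣ X 1 ^ m :=
      (dvd_pow_self _ hpos.ne').trans (ha.dvd'.trans (hpow 1))
    have h2 := (MvPolynomial.X_prime (R := k) (i := (0 : Fin 2))).dvd_of_dvd_pow h1
    rw [MvPolynomial.X_dvd_X] at h2
    exact absurd h2 (by simp)

end Groth.Agent.S17078
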