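import Groth.Statements.S17079
-- import your own Groth.Agent.* helpers here

set_option autoImplicit false
universe u
open CategoryTheory CategoryTheory.Limits AlgebraicGeometry
open MorSch

namespace Groth.Agent.S17079

section
open AlgebraicGeometry CategoryTheory Limits Opposite

variable {X Y S S' : Scheme.{u}} (gX : X ⟶ S) (gY : Y ⟶ S) (h : S' ⟶ S)

variable {Tc Tc' : Scheme.{u}} (t : Tc ⟶ S') (t' : Tc' ⟶ S')

/-- `T ×_{S'} (X ×_S S') ⟶ T ×_S X`. -/
noncomputable def fwd : pullback t (pullback.snd gX h) ⟶ pullback (t ≫ h) gX :=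
  pullback.lift (pullback.fst t (pullback.snd gX h))
    (pullback.snd t (pullback.snd gX h) ≫ pullback.fst gX h)
    (by rw [pullback.condition_assoc, Category.assoc, pullback.condition])

/-- `T ×_S X ⟶ T ×_{S'} (X ×_S S')`. -/
noncomputable def bwd : pullback (t ≫ h) gX ⟶ pullback t (pullback.snd gX h) :=
  pullback.lift (pullback.fst (t ≫ h) gX)
    (pullback.lift (pullback.snd (t ≫ h) gX) (pullback.fst (t ≫ h) gX ≫ t)
      (by rw [Category.assoc, pullback.condition]))
    (pullback.lift_snd _ _ _).symm

lemma fwd_bwd : fwd gX h t ≫ bwd gX h t = 𝟙 _ := by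
  apply pullback.hom_ext
  · simp [fwd, bwd, pullback.lift_fst, pullback.lift_snd, pullback.lift_fst_assoc, pullback.lift_snd_assoc]
  · apply pullback.hom_ext <;> simp [fwd, bwd, pullback.lift_fst, pullback.lift_snd, pullback.lift_fst_assoc, pullback.lift_snd_assoc, pullback.condition]

lemma bwd_fwd : bwd gX h t ≫ fwd gX h t = 𝟙 _ := by
  apply pullback.hom_ext <;> simp [fwd, bwd, pullback.lift_fst, pullback.lift_snd, pullback.lift_fst_assoc, pullback.lift_snd_assoc]

lemma fwd_snd : fwd gX h t ≫ pullback.snd (t ≫ h) gX ≫ gX =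
    pullback.snd t (pullback.snd gX h) ≫ pullback.snd gX h ≫ h := by
  simp [fwd, pullback.lift_snd_assoc, pullback.condition]

lemma bwd_snd : bwd gX h t ≫ pullback.snd t (pullback.snd gX h) ≫ pullback.snd gX h ≫ h =
    pullback.snd (t ≫ h) gX ≫ gX := by
  rw [← fwd_snd, ← Category.assoc, bwd_fwd, Category.id_comp]

lemma fwd_natural (φ : Tc ⟶ Tc') (w : φ ≫ t' = t) (m₁ : pullback (t ≫ h) gX ⟶ pullback (t' ≫ h) gX)
    (h₁ : m₁ ≫ pullback.fst _ _ = pullback.fst _ _ ≫ φ) (h₁' : m₁ ≫ pullback.snd _ _ = pullback.snd _ _)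
    (m₂ : pullback t (pullback.snd gX h) ⟶ pullback t' (pullback.snd gX h))
    (h₂ : m₂ ≫ pullback.fst _ _ = pullback.fst _ _ ≫ φ) (h₂' : m₂ ≫ pullback.snd _ _ = pullback.snd _ _) :
    fwd gX h t ≫ m₁ = m₂ ≫ fwd gX h t' := by
  apply pullback.hom_ext <;> simp [fwd, pullback.lift_fst, pullback.lift_snd, pullback.lift_fst_assoc, pullback.lift_snd_assoc, h₁, h₁', reassoc_of% h₂', h₂]

/-- Morphisms `T ×_{S'} (X ×_S S') ⟶ Y ×_S S'` over `S'` versus `T ×_S X ⟶ Y` over `S`. -/
noncomputable def morEquiv (T : Over S') :
    (Flatn.morS gX gY).obj (op ((Over.map h).obj T)) ≃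
      (Flatn.morS (pullback.snd gX h) (pullback.snd gY h)).obj (op T) where
  toFun b := Over.homMk
    (pullback.lift (fwd gX h T.hom ≫ (b.left : pullback (T.hom ≫ h) gX ⟶ Y))
      (pullback.snd T.hom (pullback.snd gX h) ≫ pullback.snd gX h)
      (by
        have w : (b.left : pullback (T.hom ≫ h) gX ⟶ Y) ≫ gY = pullback.snd (T.hom ≫ h) gX ≫ gX :=
          Over.w b
        rw [Category.assoc, w, fwd_snd, Category.assoc]))
    (pullback.lift_snd _ _ _)
  invFun c := Over.homMk
    (bwd gX h T.hom ≫
      (c.left : pullback T.hom (pullback.snd gX h) ⟶ pullback gY h) ≫ pullback.fst gY h)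
    (by
      have w : (c.left : pullback T.hom (pullback.snd gX h) ⟶ pullback gY h) ≫ pullback.snd gY h =
          pullback.snd T.hom (pullback.snd gX h) ≫ pullback.snd gX h := Over.w c
      change (_ ≫ _ ≫ pullback.fst gY h) ≫ gY = pullback.snd (T.hom ≫ h) gX ≫ gX
      simp only [Category.assoc, pullback.condition, reassoc_of% w]
      rw [← bwd_snd gX h T.hom])
  left_inv b := Over.OverMorphism.ext <| by
    simp only [Over.homMk_left, pullback.lift_fst]
    refine (Category.assoc _ _ _).symm.trans ?_
    rw [bwd_fwd]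
    exact Category.id_comp _
  right_inv c := Over.OverMorphism.ext <| by
    have w : (c.left : pullback T.hom (pullback.snd gX h) ⟶ pullback gY h) ≫ pullback.snd gY h =
          pullback.snd T.hom (pullback.snd gX h) ≫ pullback.snd gX h := Over.w c
    apply pullback.hom_ext
    · simp only [Over.homMk_left, pullback.lift_fst]
      refine (Category.assoc _ _ _).symm.trans ?_
      rw [fwd_bwd]
      exact Category.id_comp _
    · simp only [Over.homMk_left, pullback.lift_snd]
      exact w.symm

lemma morEquiv_naturality {T T' : Over S'} (φ : T ⟶ T')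
    (b : (Flatn.morS gX gY).obj (op ((Over.map h).obj T'))) :
    morEquiv gX gY h T ((Flatn.morS gX gY).map ((Over.map h).map φ).op b) =
      (Flatn.morS (pullback.snd gX h) (pullback.snd gY h)).map φ.op (morEquiv gX gY h T' b) := by
  refine Over.OverMorphism.ext ?_
  let m₁ := ((Over.map gX).map ((Over.pullback gX).map ((Over.map h).map φ))).left
  let m₂ := ((Over.map (pullback.snd gX h)).map ((Over.pullback (pullback.snd gX h)).map φ)).left
  have key : fwd gX h T.hom ≫ m₁ = m₂ ≫ fwd gX h T'.hom :=
    fwd_natural gX h T.hom T'.hom φ.left (Over.w φ) m₁ (pullback.lift_fst _ _ _)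
      (pullback.lift_snd _ _ _) m₂ (pullback.lift_fst _ _ _) (pullback.lift_snd _ _ _)
  change pullback.lift (fwd gX h T.hom ≫ m₁ ≫ b.left) _ _ =
    m₂ ≫ pullback.lift (fwd gX h T'.hom ≫ b.left) _ _
  apply pullback.hom_ext
  · erw [pullback.lift_fst, Category.assoc, pullback.lift_fst]
    exact (Category.assoc _ _ _).symm.trans ((congrArg (· ≫ b.left) key).trans (Category.assoc _ _ _))
  · erw [pullback.lift_snd, Category.assoc, pullback.lift_snd]
    exact ((congrArg (· ≫ pullback.snd gX h)
      (show m₂ ≫ pullback.snd T'.hom _ = _ from pullback.lift_snd _ _ _)).symm).trans (Category.assoc _ _ _)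

end

/-- Let gX : X → S and gY : Y → S be morphisms and suppose the functor Mor_S(X, Y) — sending an S-scheme
T to the set of S-morphisms T ×_S X → Y, with base change as transition maps — is represented by an
S-scheme M. Then for every morphism h : S' → S the functor Mor_{S'}(X ×_S S', Y ×_S S') on
S'-schemes is represented by M ×_S S'. (The published statement assumes X and Y projective over S
with X flat and S, S' locally Noetherian; this row assumes only that the functor is represented by
M. Only the existence of a representing structure on M ×_S S' is asserted, not its compatibility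
with the one on M.) -/
theorem result
    {X Y S S' : Scheme.{u}} (gX : X ⟶ S) (gY : Y ⟶ S) (h : S' ⟶ S)
    (M : Over S) (e : (Flatn.morS gX gY).RepresentableBy M) :
    Nonempty ((Flatn.morS (pullback.snd gX h) (pullback.snd gY h)).RepresentableBy
      (Over.mk (pullback.snd M.hom h))) := by
  exact ⟨
    { homEquiv := fun {T} => (((Over.mapPullbackAdj h).homEquiv T M).symm.trans e.homEquiv).trans
        (morEquiv gX gY h T)
      homEquiv_comp := fun {T T'} φ g => by
        simp only [Equiv.trans_apply]
        rw [← morEquiv_naturality gX gY h φ, ← e.homEquiv_comp]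
        exact congrArg _ (congrArg _ ((Over.mapPullbackAdj h).homEquiv_naturality_left_symm φ g)) }⟩

end Groth.Agent.S17079
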