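import Groth.Statements.S17080
-- import your own Groth.Agent.* helpers here

set_option autoImplicit false
universe u
open CategoryTheory CategoryTheory.Limits AlgebraicGeometry
open MorSch

namespace Groth.Agent.S17080

open Opposite in
/-- The base change of `φ : T ⟶ M` is a pullback of `φ`. -/
lemma isPullback_map {X S : Scheme.{u}} (gX : X ⟶ S) {T M : Over S} (φ : T ⟶ M) :
    IsPullback ((Over.map gX).map ((Over.pullback gX).map φ)).left (pullback.fst T.hom gX)
      (pullback.fst M.hom gX) φ.left := by
  have e₁ : ((Over.map gX).map ((Over.pullback gX).map φ)).left ≫ pullback.snd M.hom gX =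
      pullback.snd T.hom gX := pullback.lift_snd _ _ _
  refine IsPullback.of_right ?_ (pullback.lift_fst _ _ _)
    (IsPullback.of_hasPullback M.hom gX).flip
  rw [e₁]
  simpa [Over.w φ] using (IsPullback.of_hasPullback T.hom gX).flip

/-- Let gX : X → S be proper and flat, gY : Y → S separated and j : U → Y an open immersion, and suppose
the functor Mor_S(X, Y) — S-schemes T ↦ S-morphisms T ×_S X → Y — is represented by an S-scheme M
via e. Then there are an open subset M₀ of M and a representation e₀ of Mor_S(X, U) by the open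
subscheme M₀ (viewed over S through M) which is compatible with e: for every S-morphism φ : T → M₀,
the S-morphism T ×_S X → Y classified by φ followed by the inclusion M₀ → M is the S-morphism T ×_S
X → U classified by φ, followed by j. In particular the morphism Mor_S(X, U) → Mor_S(X, Y) induced
by j is an open immersion. (Published for X projective and flat and Y quasi-projective over a
locally Noetherian S, which is how M is known to exist there; representability is taken as a
hypothesis here.) -/
theorem result
    {X Y U S : Scheme.{u}} (gX : X ⟶ S) [IsProper gX] [Flat gX] (gY : Y ⟶ S) [IsSeparated gY]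
    (j : U ⟶ Y) [IsOpenImmersion j] (M : Over S) (e : (Flatn.morS gX gY).RepresentableBy M) :
    ∃ (M₀ : M.left.Opens)
      (e₀ : (Flatn.morS gX (j ≫ gY)).RepresentableBy (Over.mk (M₀.ι ≫ M.hom))),
      ∀ (T : Over S) (φ : T ⟶ Over.mk (M₀.ι ≫ M.hom)),
        (e.homEquiv (φ ≫ Over.homMk M₀.ι rfl) :
            (Over.map gX).obj ((Over.pullback gX).obj T) ⟶ Over.mk gY) =
          (e₀.homEquiv φ : (Over.map gX).obj ((Over.pullback gX).obj T) ⟶ Over.mk (j ≫ gY)) ≫
            (Over.homMk j rfl : Over.mk (j ≫ gY) ⟶ Over.mk gY) := by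
  -- the universal morphism and the open locus
  let u : (Over.map gX).obj ((Over.pullback gX).obj M) ⟶ Over.mk gY := e.homEquiv (𝟙 M)
  let Bad : Set (pullback M.hom gX : Scheme.{u}) := u.left ⁻¹' (Set.range j)ᶜ
  have hBad : IsClosed Bad :=
    j.isOpenEmbedding.isOpen_range.isClosed_compl.preimage u.left.continuous
  let M₀ : M.left.Opens := ⟨((pullback.fst M.hom gX) '' Bad)ᶜ,
    ((pullback.fst M.hom gX).isClosedMap _ hBad).isOpen_compl⟩
  have key : ∀ {T : Over S} (φ : T ⟶ M),
      Set.range (e.homEquiv φ : (Over.map gX).obj ((Over.pullback gX).obj T) ⟶ Over.mk gY).left ⊆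
        Set.range j ↔ Set.range φ.left ⊆ (M₀ : Set M.left) := by
    intro T φ
    let m := ((Over.map gX).map ((Over.pullback gX).map φ)).left
    have he : (e.homEquiv φ : (Over.map gX).obj ((Over.pullback gX).obj T) ⟶ Over.mk gY).left =
        m ≫ u.left := by
      have := e.homEquiv_comp φ (𝟙 M)
      rw [Category.comp_id] at this
      rw [this]
      rfl
    have sq := isPullback_map gX φ
    constructor
    · rintro h _ ⟨t, rfl⟩ ⟨q, hq, hqt⟩
      obtain ⟨a, ha₁, -⟩ := Scheme.Pullback.exists_preimage_pullback
        (f := pullback.fst M.hom gX) (g := φ.left) q t hqt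
      refine hq (h ⟨sq.isoPullback.inv a, ?_⟩)
      rw [he, Scheme.Hom.comp_apply]
      refine congrArg u.left ?_
      change (sq.isoPullback.inv ≫ m) a = q
      rw [show sq.isoPullback.inv ≫ m = pullback.fst _ _ from sq.isoPullback_inv_fst]
      exact ha₁
    · rintro h _ ⟨a, rfl⟩
      by_contra hna
      rw [he, Scheme.Hom.comp_apply] at hna
      exact h ⟨pullback.fst T.hom gX a, rfl⟩ ⟨m a, hna, congr($(sq.w) a)⟩
  -- the equivalence
  let eqv : ∀ (T : Over S), (T ⟶ Over.mk (M₀.ι ≫ M.hom)) ≃
      (Flatn.morS gX (j ≫ gY)).obj (Opposite.op T) := fun T =>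
    { toFun := fun φ => Over.homMk
        (IsOpenImmersion.lift j
          (e.homEquiv (φ ≫ Over.homMk M₀.ι rfl) :
            (Over.map gX).obj ((Over.pullback gX).obj T) ⟶ Over.mk gY).left
          ((key _).mpr (by
            rintro _ ⟨t, rfl⟩
            exact (φ.left t).2)))
        (by
          erw [IsOpenImmersion.lift_fac_assoc]
          exact Over.w (e.homEquiv (φ ≫ Over.homMk M₀.ι rfl) :
            (Over.map gX).obj ((Over.pullback gX).obj T) ⟶ Over.mk gY))
      invFun := fun b => Over.homMk
        (IsOpenImmersion.lift M₀.ι (e.homEquiv.symm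
          ((b : (Over.map gX).obj ((Over.pullback gX).obj T) ⟶ Over.mk (j ≫ gY)) ≫
            (Over.homMk j rfl : Over.mk (j ≫ gY) ⟶ Over.mk gY))).left
          (by
            rw [Scheme.Opens.range_ι]
            refine (key _).mp ?_
            rw [Equiv.apply_symm_apply, Over.comp_left, Scheme.Hom.comp_base, TopCat.coe_comp]
            exact Set.range_comp_subset_range _ _))
        (by
          erw [IsOpenImmersion.lift_fac_assoc]
          exact Over.w _)
      left_inv := fun φ => by
        refine Over.OverMorphism.ext ((cancel_mono M₀.ι).mp ?_)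
        refine (IsOpenImmersion.lift_fac _ _ _).trans ?_
        change _ = (φ ≫ (Over.homMk M₀.ι rfl : Over.mk (M₀.ι ≫ M.hom) ⟶ M)).left
        refine congrArg Over.Hom.left (e.homEquiv.symm_apply_eq.mpr ?_)
        exact Over.OverMorphism.ext (IsOpenImmersion.lift_fac _ _ _)
      right_inv := fun b => by
        refine Over.OverMorphism.ext ((cancel_mono j).mp ?_)
        refine (IsOpenImmersion.lift_fac _ _ _).trans ?_
        refine (congrArg (fun ψ : T ⟶ M => (e.homEquiv ψ :
          (Over.map gX).obj ((Over.pullback gX).obj T) ⟶ Over.mk gY).left) ?_).trans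
          (congrArg Over.Hom.left (e.homEquiv.apply_symm_apply
            ((b : (Over.map gX).obj ((Over.pullback gX).obj T) ⟶ Over.mk (j ≫ gY)) ≫
              (Over.homMk j rfl : Over.mk (j ≫ gY) ⟶ Over.mk gY))))
        exact Over.OverMorphism.ext (IsOpenImmersion.lift_fac _ _ _) }
  refine ⟨M₀, { homEquiv := fun {T} => eqv T, homEquiv_comp := ?_ }, fun T φ => ?_⟩
  · intro T T' a g
    refine Over.OverMorphism.ext ((cancel_mono j).mp ?_)
    erw [Over.comp_left, Category.assoc, IsOpenImmersion.lift_fac, IsOpenImmersion.lift_fac]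
    rw [Category.assoc, e.homEquiv_comp]
    rfl
  · exact Over.OverMorphism.ext (IsOpenImmersion.lift_fac j _ _).symm

end Groth.Agent.S17080
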