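import Groth.Statements.S17081
import Groth.Agent.HilbLib.Basic

set_option autoImplicit false
universe u
open CategoryTheory CategoryTheory.Limits AlgebraicGeometry
open MorSch

namespace Groth.Agent.S17081

/-- Let S and S' be Noetherian schemes, h : S' → S and f : X → S morphisms, and (H, Z) a pair
representing the Hilbert functor of X over S on locally Noetherian S-schemes (H locally Noetherian
over S; Z ⊆ X ×_S H closed, proper and flat over H; every closed subscheme of X ×_S T proper and
flat over a locally Noetherian S-scheme T is the pullback of Z along a unique S-morphism T → H),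
with H locally of finite type over S. Write X' = X ×_S S' → S' and H' = H ×_S S' → S', and let Z' ⊆
X' ×_{S'} H' be the closed subscheme pulled back from Z along the morphism X' ×_{S'} H' → X ×_S H
induced by the projections X' → X and H' → H. Then (H', Z') represents the Hilbert functor of X'
over S'. (Published for X flat and projective over S, which is how (H, Z) is known to exist there;
representability is taken as a hypothesis here; the hypothesis that H is locally of finite type over
S is added here (it holds for the Hilbert scheme of a flat projective scheme) so that H ×_S S' is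
locally Noetherian.) -/
theorem result
    {X S S' : Scheme.{u}} [IsNoetherian S] [IsNoetherian S'] (f : X ⟶ S) (h : S' ⟶ S)
    (H : Over S) (Z : FGA.HilbSet f H) (hH : FGA.HilbRepresentedBy f H Z)
    [LocallyOfFiniteType H.hom]
    (Z' : FGA.HilbSet (pullback.snd f h) (Over.mk (pullback.snd H.hom h)))
    (hZ' : Z'.1 = Z.1.comap (pullback.map (pullback.snd f h) (pullback.snd H.hom h) f H.hom
      (pullback.fst f h) (pullback.fst H.hom h) h pullback.condition.symm pullback.condition.symm)) :
    FGA.HilbRepresentedBy (pullback.snd f h) (Over.mk (pullback.snd H.hom h)) Z' := by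
  have : IsLocallyNoetherian (pullback H.hom h) :=
    LocallyOfFiniteType.isLocallyNoetherian (pullback.snd H.hom h)
  refine ⟨this, fun T _ Y => ?_⟩
  -- `T` viewed over `S`
  let TS : Over S := Over.mk (T.hom ≫ h)
  have : IsLocallyNoetherian TS.left := ‹IsLocallyNoetherian T.left›
  let σ : PicF.XT (pullback.snd f h) T ⟶ PicF.XT f TS :=
    pullback.map (pullback.snd f h) T.hom f (T.hom ≫ h) (pullback.fst f h) (𝟙 T.left) h
      pullback.condition.symm (Category.id_comp _).symm
  have hσ : IsIso σ := by
    have : σ = (pullbackLeftPullbackSndIso f h T.hom).hom := by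
      apply pullback.hom_ext
      · erw [pullback.lift_fst]
      · erw [pullback.lift_snd, Category.comp_id]
    rw [this]; infer_instance
  have hσ₂ : σ ≫ pullback.snd f (T.hom ≫ h) = pullback.snd (pullback.snd f h) T.hom :=
    (pullback.lift_snd _ _ _).trans (Category.comp_id _)
  let J := Y.1.comap (inv σ)
  have hJprop : ∀ (P : MorphismProperty Scheme.{u}) [P.RespectsIso],
      P (Y.1.subschemeι ≫ pullback.snd (pullback.snd f h) T.hom) →
        P (J.subschemeι ≫ pullback.snd f (T.hom ≫ h)) := by
    intro P _ hP
    refine (Groth.Agent.HilbLib.subscheme_ker_prop P (pullback.fst (inv σ) Y.1.subschemeι)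
      (pullback.snd f (T.hom ≫ h))).mpr ?_
    have : pullback.fst (inv σ) Y.1.subschemeι ≫ pullback.snd f (T.hom ≫ h) =
        pullback.snd (inv σ) Y.1.subschemeι ≫ Y.1.subschemeι ≫
          pullback.snd (pullback.snd f h) T.hom := by
      rw [← pullback.condition_assoc, ← hσ₂, IsIso.inv_hom_id_assoc]
    rw [this, MorphismProperty.cancel_left_of_respectsIso P]
    exact hP
  obtain ⟨g, hg, hgu⟩ := hH.2 TS ⟨J, hJprop @IsProper Y.2.1, hJprop @Flat Y.2.2⟩
  -- compatibility of the base change maps
  have comp : ∀ (g' : T ⟶ Over.mk (pullback.snd H.hom h)) (g₁ : TS ⟶ H),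
      g₁.left = g'.left ≫ pullback.fst H.hom h →
      FGA.hilbPull (pullback.snd f h) g' Z'.1 = (FGA.hilbPull f g₁ Z.1).comap σ := by
    intro g' g₁ hg₁
    rw [Groth.Agent.HilbLib.hilbPull_eq_comap, Groth.Agent.HilbLib.hilbPull_eq_comap, hZ',
      ← Scheme.IdealSheafData.comap_comp, ← Scheme.IdealSheafData.comap_comp]
    congr 1
    apply pullback.hom_ext
    · simp [σ, PicF.XTmap, pullback.lift_fst, pullback.lift_fst_assoc]
      exact (pullback.lift_fst _ _ _).symm
    · simp [σ, PicF.XTmap, pullback.lift_snd, pullback.lift_snd_assoc, hg₁, TS]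
  let g₀ : T ⟶ Over.mk (pullback.snd H.hom h) :=
    Over.homMk (pullback.lift g.left T.hom (Over.w g)) (pullback.lift_snd _ _ _)
  refine ⟨g₀, ?_, fun g' hg' => ?_⟩
  · show FGA.hilbPull (pullback.snd f h) g₀ Z'.1 = Y.1
    rw [comp g₀ g (pullback.lift_fst _ _ _).symm, hg, ← Scheme.IdealSheafData.comap_comp,
      IsIso.hom_inv_id, Scheme.IdealSheafData.comap_id]
  · let g₁ : TS ⟶ H := Over.homMk (g'.left ≫ pullback.fst H.hom h) (by
      rw [Category.assoc, pullback.condition]
      exact congrArg (· ≫ h) (Over.w g') |> fun e => (Category.assoc _ _ _).symm.trans e)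
    have e : g₁ = g := by
      refine hgu g₁ ?_
      show FGA.hilbPull f g₁ Z.1 = Y.1.comap (inv σ)
      rw [← hg', comp g' g₁ rfl, ← Scheme.IdealSheafData.comap_comp, IsIso.inv_hom_id,
        Scheme.IdealSheafData.comap_id]
    refine Over.OverMorphism.ext (pullback.hom_ext ?_ ?_)
    · exact (congrArg Over.Hom.left e).trans (pullback.lift_fst _ _ _).symm
    · exact (Over.w g').trans (pullback.lift_snd _ _ _).symm

end Groth.Agent.S17081
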