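import Groth.Statements.S17082
import Groth.Agent.HilbLib.Basic

set_option autoImplicit false
universe u
open CategoryTheory CategoryTheory.Limits AlgebraicGeometry
open MorSch

namespace Groth.Agent.S17082

/-- Let f : X → S be a separated morphism, j : U → X an open immersion, and (H, Z) a pair representing
the Hilbert functor of X over S on locally Noetherian S-schemes (H locally Noetherian over S; Z ⊆ X
×_S H closed, proper and flat over H; every closed subscheme of X ×_S T proper and flat over a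
locally Noetherian S-scheme T is the pullback of Z along a unique S-morphism T → H). Then there are
an open subset H₀ of H and a closed subscheme Z₀ ⊆ U ×_S H₀, proper and flat over H₀, such that Z₀
is the pullback of Z along the morphism U ×_S H₀ → X ×_S H induced by j and the inclusion of H₀, and
(H₀, Z₀) represents the Hilbert functor of U over S. So the Hilbert scheme of U over S exists and is
an open subscheme of that of X. (Published for X projective and flat over a Noetherian S in the
representable case; this row assumes only X separated over S and takes the Hilbert scheme of X as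
given.) -/
theorem result
    {X U S : Scheme.{u}} (f : X ⟶ S) [IsSeparated f] (j : U ⟶ X) [IsOpenImmersion j]
    (H : Over S) (Z : FGA.HilbSet f H) (hH : FGA.HilbRepresentedBy f H Z) :
    ∃ (H₀ : H.left.Opens) (Z₀ : FGA.HilbSet (j ≫ f) (Over.mk (H₀.ι ≫ H.hom))),
      Z₀.1 = Z.1.comap (pullback.map (j ≫ f) (H₀.ι ≫ H.hom) f H.hom j H₀.ι (𝟙 S)
        (Category.comp_id _) (Category.comp_id _)) ∧
      FGA.HilbRepresentedBy (j ≫ f) (Over.mk (H₀.ι ≫ H.hom)) Z₀ := by
  obtain ⟨hN, hU⟩ := hH
  let qZ : Z.1.subscheme ⟶ H.left := Z.1.subschemeι ≫ pullback.snd f H.hom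
  have : IsProper qZ := Z.2.1
  have : Flat qZ := Z.2.2
  let Bad : Set Z.1.subscheme := (Z.1.subschemeι ≫ pullback.fst f H.hom) ⁻¹' (Set.range j)ᶜ
  have hBad : IsClosed Bad := j.isOpenEmbedding.isOpen_range.isClosed_compl.preimage
    (Z.1.subschemeι ≫ pullback.fst f H.hom).continuous
  let H₀ : H.left.Opens := ⟨(qZ '' Bad)ᶜ, (qZ.isClosedMap _ hBad).isOpen_compl⟩
  let m := pullback.map (j ≫ f) (H₀.ι ≫ H.hom) f H.hom j H₀.ι (𝟙 S) (Category.comp_id _)
    (Category.comp_id _)
  have hm_range : Set.range m =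
      pullback.fst f H.hom ⁻¹' Set.range j ∩ pullback.snd f H.hom ⁻¹' Set.range H₀.ι :=
    Scheme.Pullback.range_map _ _ _ _ _ _ _ _ _
  have hm_open : IsOpenImmersion m := inferInstance
  let I₀ := Z.1.comap m
  have hsq : IsPullback (pullback.snd m Z.1.subschemeι)
      (pullback.fst m Z.1.subschemeι ≫ pullback.snd (j ≫ f) (H₀.ι ≫ H.hom)) qZ H₀.ι := by
    refine IsPullback.flip (IsOpenImmersion.isPullback _ _ _ _ ?_ ?_)
    · simp only [qZ, Category.assoc]
      rw [← pullback.condition_assoc]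
      simp [m, pullback.lift_snd]
    · ext z
      show qZ z ∈ Set.range H₀.ι ↔ z ∈ Set.range (pullback.snd m Z.1.subschemeι)
      rw [Scheme.Pullback.range_snd, hm_range]
      refine ⟨fun h => ⟨?_, h⟩, fun h => h.2⟩
      by_contra hz
      obtain ⟨⟨y, hy⟩, e⟩ := h
      exact hy ⟨z, hz, e.symm⟩
  have hprop : ∀ (P : MorphismProperty Scheme.{u}) [P.IsStableUnderBaseChange] [P.RespectsIso],
      P qZ → P (I₀.subschemeι ≫ pullback.snd (j ≫ f) (H₀.ι ≫ H.hom)) := by
    intro P _ _ hP
    refine (Groth.Agent.HilbLib.subscheme_ker_prop P (pullback.fst m Z.1.subschemeι) _).mpr ?_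
    exact MorphismProperty.of_isPullback hsq hP
  have : IsLocallyNoetherian H.left := hN
  have hN₀ : IsLocallyNoetherian H₀.toScheme := isLocallyNoetherian_of_isOpenImmersion H₀.ι
  refine ⟨H₀, ⟨I₀, hprop @IsProper Z.2.1, hprop @Flat Z.2.2⟩, rfl, hN₀, fun T _ Y => ?_⟩
  let mT := pullback.map (j ≫ f) T.hom f T.hom j (𝟙 T.left) (𝟙 S)
    (Category.comp_id _) ((Category.comp_id _).trans (Category.id_comp _).symm)
  have hmT_open : IsOpenImmersion mT := MorphismProperty.of_isPullback (P := @IsOpenImmersion)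
    (Groth.Agent.HilbLib.isPullback_mapLeft j f (j ≫ f) rfl T.hom _ _).flip ‹_›
  have : IsClosedImmersion (Y.1.subschemeι ≫ mT) :=
    Groth.Agent.HilbLib.isClosedImmersion_comp_map f j T Y
  let J := (Y.1.subschemeι ≫ mT).ker
  have hJ : J.comap mT = Y.1 :=
    (Groth.Agent.HilbLib.comap_ker_comp mT Y.1.subschemeι).trans Y.1.ker_subschemeι
  have hJprop : ∀ (P : MorphismProperty Scheme.{u}) [P.RespectsIso],
      P (Y.1.subschemeι ≫ pullback.snd (j ≫ f) T.hom) → P (J.subschemeι ≫ pullback.snd f T.hom) := by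
    intro P _ hP
    refine (Groth.Agent.HilbLib.subscheme_ker_prop P (Y.1.subschemeι ≫ mT) _).mpr ?_
    rw [Category.assoc, show mT ≫ pullback.snd f T.hom = pullback.snd (j ≫ f) T.hom from
      (pullback.lift_snd _ _ _).trans (Category.comp_id _)]
    exact hP
  obtain ⟨g, hg, hgu⟩ := hU T ⟨J, hJprop @IsProper Y.2.1, hJprop @Flat Y.2.2⟩
  rw [Groth.Agent.HilbLib.hilbPull_eq_comap] at hg
  have hgH : Set.range g.left ⊆ Set.range H₀.ι := by
    rintro _ ⟨t, rfl⟩
    rw [Scheme.Opens.range_ι]
    rintro ⟨z, hz, ez⟩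
    have sq := Groth.Agent.HilbLib.isPullback_XTmap f g
    obtain ⟨q, hq, -⟩ := Scheme.Pullback.exists_preimage_pullback
      (f := pullback.snd f H.hom) (g := g.left) (Z.1.subschemeι z) t ez
    let a := sq.isoPullback.inv q
    have ha : PicF.XTmap f g a = Z.1.subschemeι z := by
      rw [← hq]
      exact congr($(sq.isoPullback_inv_fst) q)
    have ha' : a ∈ (Z.1.comap (PicF.XTmap f g)).support := by
      rw [Scheme.IdealSheafData.support_comap]
      show PicF.XTmap f g a ∈ Z.1.support
      rw [ha]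
      exact Z.1.range_subschemeι.le ⟨z, rfl⟩
    rw [hg] at ha'
    obtain ⟨y, hy⟩ : a ∈ Set.range (Y.1.subschemeι ≫ mT) := by
      have := Scheme.Hom.support_ker (Y.1.subschemeι ≫ mT)
      rw [(Y.1.subschemeι ≫ mT).isClosedEmbedding.isClosed_range.closure_eq] at this
      exact this.le ha'
    refine hz ⟨pullback.fst (j ≫ f) T.hom (Y.1.subschemeι y), ?_⟩
    have e₁ : pullback.fst f H.hom (PicF.XTmap f g a) = pullback.fst f T.hom a :=
      congr($(show PicF.XTmap f g ≫ pullback.fst f H.hom = pullback.fst f T.hom from (pullback.lift_fst _ _ _).trans (Category.comp_id _)) a)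
    have e₂ : pullback.fst f T.hom (mT (Y.1.subschemeι y)) =
        j (pullback.fst (j ≫ f) T.hom (Y.1.subschemeι y)) :=
      congr($(show mT ≫ pullback.fst f T.hom = pullback.fst (j ≫ f) T.hom ≫ j from pullback.lift_fst _ _ _) (Y.1.subschemeι y))
    show j _ = pullback.fst f H.hom (Z.1.subschemeι z)
    rw [← ha, e₁, ← hy, Scheme.Hom.comp_apply, e₂]
  have comp : ∀ (g₀ : T ⟶ Over.mk (H₀.ι ≫ H.hom)) (g₁ : T ⟶ H), g₁.left = g₀.left ≫ H₀.ι →
      FGA.hilbPull (j ≫ f) g₀ I₀ = (Z.1.comap (PicF.XTmap f g₁)).comap mT := by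
    intro g₀ g₁ e
    rw [Groth.Agent.HilbLib.hilbPull_eq_comap]
    simp only [I₀, ← Scheme.IdealSheafData.comap_comp]
    congr 1
    apply pullback.hom_ext
    · simp [mT, m, PicF.XTmap, pullback.lift_fst, pullback.lift_fst_assoc]
    · simp [mT, m, PicF.XTmap, pullback.lift_snd, pullback.lift_snd_assoc, e]
  let g₀ : T ⟶ Over.mk (H₀.ι ≫ H.hom) := Over.homMk (IsOpenImmersion.lift H₀.ι g.left hgH)
    (by erw [IsOpenImmersion.lift_fac_assoc]; exact Over.w g)
  refine ⟨g₀, ?_, fun g₀' hg₀' => ?_⟩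
  · show FGA.hilbPull (j ≫ f) g₀ I₀ = Y.1
    rw [comp g₀ g (IsOpenImmersion.lift_fac _ _ _).symm, hg]
    exact hJ
  · let g₁ : T ⟶ H := g₀' ≫ Over.homMk H₀.ι rfl
    have e : g₁ = g := by
      refine hgu g₁ ?_
      show FGA.hilbPull f g₁ Z.1 = J
      rw [Groth.Agent.HilbLib.hilbPull_eq_comap]
      replace hg₀' : (Z.1.comap (PicF.XTmap f g₁)).comap mT = Y.1 :=
        (comp g₀' g₁ rfl).symm.trans hg₀'
      rw [← Groth.Agent.HilbLib.ker_comap_comp (Z.1.comap (PicF.XTmap f g₁)) mT ?_, hg₀']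
      intro a ha
      rw [Scheme.IdealSheafData.support_comap] at ha
      obtain ⟨z, hz⟩ := Z.1.range_subschemeι.ge ha
      rw [Scheme.Pullback.range_map]
      refine ⟨?_, ⟨pullback.snd f T.hom a, by simp⟩⟩
      by_contra hna
      have e₁ : pullback.fst f H.hom (PicF.XTmap f g₁ a) = pullback.fst f T.hom a :=
        congr($(show PicF.XTmap f g₁ ≫ pullback.fst f H.hom = pullback.fst f T.hom from (pullback.lift_fst _ _ _).trans (Category.comp_id _)) a)
      have e₂ : pullback.snd f H.hom (PicF.XTmap f g₁ a) =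
          H₀.ι (g₀'.left (pullback.snd f T.hom a)) :=
        congr($(show PicF.XTmap f g₁ ≫ pullback.snd f H.hom = pullback.snd f T.hom ≫ g₀'.left ≫ H₀.ι from pullback.lift_snd _ _ _) a)
      refine (g₀'.left (pullback.snd f T.hom a)).2 ⟨z, ?_, ?_⟩
      · show pullback.fst f H.hom (Z.1.subschemeι z) ∈ (Set.range j)ᶜ
        rw [hz, e₁]
        exact hna
      · show pullback.snd f H.hom (Z.1.subschemeι z) = _
        rw [hz, e₂]
        rfl
    refine Over.OverMorphism.ext ((cancel_mono H₀.ι).mp ?_)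
    exact (congrArg Over.Hom.left e).trans (IsOpenImmersion.lift_fac _ _ _).symm

end Groth.Agent.S17082
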