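import Groth.Statements.S17083
import Groth.Agent.BlowUp.Basic

set_option autoImplicit false
universe u
open CategoryTheory CategoryTheory.Limits AlgebraicGeometry
open MorSch

namespace Groth.Agent.S17083

open Groth.Agent.IdealSh

lemma isEffCartier_comap_pullback {X B₁ B₂ : Scheme.{u}} (I₁ I₂ : X.IdealSheafData)
    (hdisj : Disjoint (I₁.support : Set X) I₂.support)
    (σ₁ : B₁ ⟶ X) (hσ₁ : BlowUp.IsBlowUp σ₁ I₁) (σ₂ : B₂ ⟶ X) (hσ₂ : BlowUp.IsBlowUp σ₂ I₂)
    {π : pullback σ₁ σ₂ ⟶ X} (hπ : π = pullback.fst σ₁ σ₂ ≫ σ₁) :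
    BlowUp.IsEffCartierIdeal (I₁.comap π) := by
  subst hπ
  -- `C₂`: off the second centre; `C₁`: off the first centre
  let C₂ : X.Opens := I₂.support.compl
  let C₁ : X.Opens := I₁.support.compl
  let D : B₁.Opens := σ₁ ⁻¹ᵁ C₂
  let W : (pullback σ₁ σ₂).Opens := pullback.fst σ₁ σ₂ ⁻¹ᵁ D
  have hiso₂ : IsIso (σ₂ ∣_ C₂) := BlowUp.Basic.isIso_restrict hσ₂ C₂ disjoint_compl_left
  have sq : IsPullback (pullback.fst σ₁ σ₂ ∣_ D) (W.ι ≫ pullback.snd σ₁ σ₂)
      ((σ₁ ∣_ C₂) ≫ C₂.ι) σ₂ := by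
    rw [morphismRestrict_ι]
    exact ((isPullback_morphismRestrict (pullback.fst σ₁ σ₂) D).paste_vert
      (IsPullback.of_hasPullback σ₁ σ₂))
  let k : W.toScheme ⟶ (σ₂ ⁻¹ᵁ C₂).toScheme :=
    (isPullback_morphismRestrict σ₂ C₂).lift (pullback.fst σ₁ σ₂ ∣_ D ≫ σ₁ ∣_ C₂)
      (W.ι ≫ pullback.snd σ₁ σ₂) (by rw [Category.assoc]; exact sq.w)
  have sq' : IsPullback (pullback.fst σ₁ σ₂ ∣_ D) k (σ₁ ∣_ C₂) (σ₂ ∣_ C₂) :=
    IsPullback.of_bot (by rw [show k ≫ (σ₂ ⁻¹ᵁ C₂).ι = W.ι ≫ pullback.snd σ₁ σ₂ from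
        IsPullback.lift_snd _ _ _ _]; exact sq)
      (IsPullback.lift_fst _ _ _ _).symm (isPullback_morphismRestrict σ₂ C₂)
  have hiso : IsIso (pullback.fst σ₁ σ₂ ∣_ D) :=
    MorphismProperty.of_isPullback (P := MorphismProperty.isomorphisms Scheme) sq'.flip hiso₂
  refine EffCartier.of_openCover fun p => ?_
  by_cases h : (pullback.fst σ₁ σ₂ ≫ σ₁) p ∈ I₁.support
  · refine ⟨W, hdisj.notMem_of_mem_left h, ?_⟩
    rw [← Scheme.IdealSheafData.comap_comp, ← Category.assoc, ← morphismRestrict_ι,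
      Scheme.IdealSheafData.comap_comp]
    have : IsOpenImmersion (pullback.fst σ₁ σ₂ ∣_ D ≫ D.ι) := inferInstance
    exact EffCartier.comap_of_flat _ hσ₁.1
  · refine ⟨(pullback.fst σ₁ σ₂ ≫ σ₁) ⁻¹ᵁ C₁, h, ?_⟩
    rw [← Scheme.IdealSheafData.comap_comp, Comap.comap_eq_top_of_disjoint]
    · exact EffCartier.top
    · rw [Set.disjoint_left]
      rintro _ ⟨q, rfl⟩ hq
      exact q.2 hq

/-- The closed immersion constructed in its proof, as follows. Let X be a scheme, I₁ and I₂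
quasi-coherent ideal sheaves on X with I₁ + I₂ = O_X, so that they cut out disjoint closed
subschemes Z₁ and Z₂, let σ : B → X be a blow-up of X in the ideal I₁ ∩ I₂ of Z₁ ∪ Z₂, and let σ₁ :
B₁ → X and σ₂ : B₂ → X be blow-ups of X in Z₁ and in Z₂ (blow-up in the sense of the universal
property: the inverse image ideal is effective Cartier, finally so). Then there is a morphism ι : B
→ B₁ ×_X B₂ over X which is a closed immersion; the components B → B_i are necessarily the unique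
X-morphisms given by the universal properties. (Published for X a projective space over an
algebraically closed field, Z₂ a closed point and Z₁ a finite set of closed points not containing
it, and iterated there to embed the blow-up at r distinct points as a closed subscheme of the fibre
product over X of the r blow-ups at single points.) -/
theorem result
    {X B B₁ B₂ : Scheme.{u}} (I₁ I₂ : X.IdealSheafData) (hdisj : I₁ ⊔ I₂ = ⊤)
    (σ : B ⟶ X) (hσ : BlowUp.IsBlowUp σ (I₁ ⊓ I₂))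
    (σ₁ : B₁ ⟶ X) (hσ₁ : BlowUp.IsBlowUp σ₁ I₁) (σ₂ : B₂ ⟶ X) (hσ₂ : BlowUp.IsBlowUp σ₂ I₂) :
    ∃ ι : B ⟶ pullback σ₁ σ₂, IsClosedImmersion ι ∧ ι ≫ pullback.fst σ₁ σ₂ ≫ σ₁ = σ := by
  have hinf : I₁ ⊓ I₂ = I₁ * I₂ := by
    refine Scheme.IdealSheafData.ext (funext fun U => ?_)
    rw [Scheme.IdealSheafData.ideal_inf, Scheme.IdealSheafData.ideal_mul, Pi.inf_apply,
      Pi.mul_apply]
    refine (Ideal.mul_eq_inf_of_coprime ?_).symm
    rw [← Pi.sup_apply, ← Scheme.IdealSheafData.ideal_sup, hdisj]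
    rfl
  have hd : Disjoint (I₁.support : Set X) I₂.support := by
    rw [Set.disjoint_iff_inter_eq_empty, ← TopologicalSpace.Closeds.coe_inf,
      ← Scheme.IdealSheafData.support_sup, hdisj, Scheme.IdealSheafData.support_top]
    rfl
  let π := pullback.fst σ₁ σ₂ ≫ σ₁
  have h₁ : BlowUp.IsEffCartierIdeal (I₁.comap π) :=
    isEffCartier_comap_pullback I₁ I₂ hd σ₁ hσ₁ σ₂ hσ₂ rfl
  have h₂ : BlowUp.IsEffCartierIdeal (I₂.comap π) := by
    have := isEffCartier_comap_pullback I₂ I₁ hd.symm σ₂ hσ₂ σ₁ hσ₁ rfl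
    rw [← Groth.Agent.IdealSh.EffCartier.comap_iso_iff (pullbackSymmetry σ₁ σ₂).hom,
      ← Scheme.IdealSheafData.comap_comp, pullbackSymmetry_hom_comp_fst_assoc,
      ← pullback.condition] at this
    exact this
  have hP : BlowUp.IsBlowUp π (I₁ * I₂) := by
    refine ⟨by rw [Groth.Agent.IdealSh.Comap.comap_mul]
               exact Groth.Agent.IdealSh.EffCartier.mul h₁ h₂, fun Y g hg => ?_⟩
    rw [Groth.Agent.IdealSh.Comap.comap_mul] at hg
    obtain ⟨a, ha, hau⟩ := hσ₁.2 Y g (Groth.Agent.IdealSh.EffCartier.factor_left hg)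
    obtain ⟨b, hb, hbu⟩ := hσ₂.2 Y g (Groth.Agent.IdealSh.EffCartier.factor_right hg)
    beta_reduce at ha hb hau hbu
    refine ⟨pullback.lift a b (ha.trans hb.symm), ?_, fun l hl => ?_⟩
    · simp only [π, pullback.lift_fst_assoc, ha]
    · apply pullback.hom_ext
      · rw [pullback.lift_fst]
        exact hau _ ((Category.assoc _ _ _).trans hl)
      · rw [pullback.lift_snd]
        refine hbu _ ?_
        rw [Category.assoc, ← pullback.condition]
        exact hl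
  rw [hinf] at hσ
  obtain ⟨e, he⟩ := Groth.Agent.BlowUp.Basic.exists_iso hP hσ
  exact ⟨e.hom, inferInstance, he⟩

end Groth.Agent.S17083
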