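import Groth.Statements.S17084
import Mathlib.AlgebraicGeometry.Limits
import Mathlib.CategoryTheory.Extensive

set_option autoImplicit false
universe u
open CategoryTheory CategoryTheory.Limits AlgebraicGeometry
open MorSch

namespace Groth.Agent.S17084

/-- Let (X_i)_{i ∈ ι} be a finite family of schemes over S with structure morphisms g_i : X_i → S, let Y
→ S be a scheme over S and T an S-scheme. Then for every family of S-morphisms a_i : T ×_S X_i → Y
there is a unique S-morphism b : T ×_S (∐_i X_i) → Y whose restriction along each T ×_S X_i → T ×_S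
(∐_i X_i) is a_i. In other words the canonical map Mor_S(∐_i X_i, Y) → ∏_i Mor_S(X_i, Y) of functors
on S-schemes is an isomorphism. -/
theorem result
    {S Y : Scheme.{u}} {ι : Type u} [Finite ι] (X : ι → Scheme.{u}) (g : ∀ i, X i ⟶ S)
    (gY : Y ⟶ S) (T : Over S) (a : ∀ i, (Flatn.morS (g i) gY).obj (Opposite.op T)) :
    ∃! b : (Flatn.morS (Sigma.desc g) gY).obj (Opposite.op T),
      ∀ i, pullback.map T.hom (g i) T.hom (Sigma.desc g) (𝟙 T.left) (Sigma.ι X i) (𝟙 S)
          ((Category.comp_id _).trans (Category.id_comp _).symm)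
          ((Category.comp_id _).trans (Sigma.ι_desc g i).symm) ≫ b.left = (a i).left := by
  let P := pullback T.hom (Sigma.desc g)
  let inj : ∀ i, pullback T.hom (g i) ⟶ P := fun i =>
    pullback.map T.hom (g i) T.hom (Sigma.desc g) (𝟙 T.left) (Sigma.ι X i) (𝟙 S)
      ((Category.comp_id _).trans (Category.id_comp _).symm)
      ((Category.comp_id _).trans (Sigma.ι_desc g i).symm)
  let d : Cofan (fun i => pullback T.hom (g i)) := Cofan.mk P inj
  obtain ⟨hd⟩ : Nonempty (IsColimit d) :=
    (FinitaryPreExtensive.isUniversal_finiteCoproducts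
      (coproductIsCoproduct X)).nonempty_isColimit_of_isPullback_left g (Sigma.desc g) T.hom
      (fun i => pullback.fst T.hom (g i)) (fun i => pullback.snd T.hom (g i))
      (fun i => .of_hasPullback _ _) (.of_hasPullback T.hom (Sigma.desc g)) d (Iso.refl _)
      (fun i => Sigma.ι_desc g i)
      (fun i => by simp [d, P, inj, Cofan.inj, pullback.lift_fst])
      (fun i => by simp [d, P, inj, Cofan.inj, pullback.lift_snd])
  let c : P ⟶ Y := Cofan.IsColimit.desc hd fun i => (a i).left
  have hc : ∀ i, inj i ≫ c = (a i).left := fun i => Cofan.IsColimit.fac hd _ i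
  have w : c ≫ gY = pullback.snd T.hom (Sigma.desc g) ≫ Sigma.desc g := by
    refine Cofan.IsColimit.hom_ext hd _ _ fun i => ?_
    change inj i ≫ c ≫ gY = inj i ≫ pullback.snd T.hom (Sigma.desc g) ≫ Sigma.desc g
    rw [reassoc_of% (hc i)]
    refine (Over.w (a i)).trans ?_
    simp only [inj, pullback.lift_snd_assoc, Category.assoc, Sigma.ι_desc]
    rfl
  refine ⟨Over.homMk c w, hc, fun b hb => Over.OverMorphism.ext ?_⟩
  refine Cofan.IsColimit.hom_ext hd _ _ fun i => ?_
  exact (hb i).trans (hc i).symm

end Groth.Agent.S17084
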