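import Groth.Statements.S7629
import Groth.Agent.Omega.GeomRegFibre
import Mathlib.AlgebraicGeometry.SpreadingOut

set_option linter.style.haveILetI false

set_option autoImplicit false
universe u
open CategoryTheory CategoryTheory.Limits AlgebraicGeometry
open Variety

namespace Groth.Agent.S7629

theorem ofMem_closedPoint {X : Scheme.{u}} (W : X.Opens) (x : X) (hx : x ∈ W) :
    W.fromSpecStalkOfMem x hx (IsLocalRing.closedPoint _) = ⟨x, hx⟩ := by
  refine Subtype.ext ?_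
  have := congrArg (fun m => m (IsLocalRing.closedPoint (X.presheaf.stalk x)))
    (Scheme.Opens.fromSpecStalkOfMem_ι W x hx)
  simp only [Scheme.Hom.comp_apply, Scheme.fromSpecStalk_closedPoint] at this
  exact this

/-- A morphism on a nonempty open agreeing with the inclusion at the generic point is the inclusion
on a nonempty open. -/
theorem exists_eq_ι {k : Type u} [Field k] {X : Scheme.{u}} [IsIntegral X] {W : X.Opens}
    (hη : genericPoint X ∈ W) (a : (W : Scheme.{u}) ⟶ X)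
    (ha : W.fromSpecStalkOfMem (genericPoint X) hη ≫ a = X.fromSpecStalk (genericPoint X)) :
    ∃ W' : X.Opens, genericPoint X ∈ W' ∧ ∃ h : W' ≤ W, X.homOfLE h ≫ a = W'.ι := by
  haveI : Nonempty (W : Scheme.{u}) := ⟨⟨_, hη⟩⟩
  obtain ⟨U, hU, hUa⟩ := spread_out_unique_of_isGermInjective' (X := W.toScheme)
    (x := (⟨genericPoint X, hη⟩ : W.toScheme)) a W.ι (by
      refine (cancel_epi (Spec.map (inv (W.ι.stalkMap (⟨genericPoint X, hη⟩ : W.toScheme))))).mp ?_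
      simpa [Scheme.Opens.fromSpecStalkOfMem] using
        ha.trans (Scheme.Opens.fromSpecStalkOfMem_ι W (genericPoint X) hη).symm)
  have hle : W.ι ''ᵁ U ≤ W := (W.ι.image_le_opensRange U).trans W.opensRange_ι.le
  refine ⟨W.ι ''ᵁ U, ⟨⟨_, hη⟩, hU, rfl⟩, hle, ?_⟩
  have h1 : X.homOfLE hle = (W.ι.isoImage U).inv ≫ U.ι := by
    rw [← cancel_mono W.ι, Scheme.homOfLE_ι, Category.assoc, Scheme.Hom.isoImage_inv_ι]
  rw [h1, Category.assoc, hUa, ← Category.assoc, ← h1, Scheme.homOfLE_ι]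


/-- (2) ⇒ (3): let X and Y be varieties over a field k (integral, separated, of finite type) and suppose
the function fields k(X) and k(Y) are isomorphic as k-algebras. Then there are nonempty open
subschemes U ⊆ X and V ⊆ Y which are isomorphic as schemes over k. -/
theorem result (k : Type u) [Field k] (X : Scheme.{u}) [X.Over (Spec (CommRingCat.of k))] [IsIntegral X] [IsSeparated (X ↘ (Spec (CommRingCat.of k)))] [LocallyOfFiniteType (X ↘ (Spec (CommRingCat.of k)))] [QuasiCompact (X ↘ (Spec (CommRingCat.of k)))]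
    (Y : Scheme.{u}) [Y.Over (Spec (CommRingCat.of k))] [IsIntegral Y] [IsSeparated (Y ↘ (Spec (CommRingCat.of k)))] [LocallyOfFiniteType (Y ↘ (Spec (CommRingCat.of k)))] [QuasiCompact (Y ↘ (Spec (CommRingCat.of k)))]
    (e : X.functionField ≅ Y.functionField)
    (he : e.hom.hom.comp (Curv2.stalkMap k X (genericPoint X)) = Curv2.stalkMap k Y (genericPoint Y)) :
    ∃ (U : X.Opens) (V : Y.Opens), (U : Set ↥X).Nonempty ∧
      ∃ φ : (U : Scheme.{u}) ≅ (V : Scheme.{u}), φ.hom ≫ V.ι ≫ (Y ↘ (Spec (CommRingCat.of k))) = U.ι ≫ (X ↘ (Spec (CommRingCat.of k))) := by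
  let pX := X ↘ (Spec (CommRingCat.of k))
  let pY := Y ↘ (Spec (CommRingCat.of k))
  have hXY : Spec.map e.hom ≫ X.fromSpecStalk (genericPoint X) ≫ pX =
      Y.fromSpecStalk (genericPoint Y) ≫ pY := by
    rw [← Omega.GeomRegFibre.specMap_stalkMap, ← Omega.GeomRegFibre.specMap_stalkMap, ← Spec.map_comp]
    congr 1
    ext1
    exact he
  obtain ⟨U₀, hU₀, g, hg, hgk⟩ := spread_out_of_isGermInjective' pY pX
    (Spec.map e.hom ≫ X.fromSpecStalk (genericPoint X)) (by rw [Category.assoc, hXY])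
  obtain ⟨V₀, hV₀, h, hh, hhk⟩ := spread_out_of_isGermInjective' pX pY
    (Spec.map e.inv ≫ Y.fromSpecStalk (genericPoint Y)) (by
      rw [Category.assoc, ← hXY, ← Spec.map_comp_assoc, Iso.hom_inv_id, Spec.map_id, Category.id_comp])
  have hhη : h ⟨genericPoint X, hV₀⟩ = genericPoint Y := by
    have := congrArg (fun m => m (IsLocalRing.closedPoint _)) hh
    simp only [Scheme.Hom.comp_apply] at this
    rw [ofMem_closedPoint] at this
    haveI hloc : IsLocalHom e.inv.hom := isLocalHom_of_isIso _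
    refine this.symm.trans ?_
    rw [Spec_closedPoint, Scheme.fromSpecStalk_closedPoint]
  have hgη : g ⟨genericPoint Y, hU₀⟩ = genericPoint X := by
    have := congrArg (fun m => m (IsLocalRing.closedPoint _)) hg
    simp only [Scheme.Hom.comp_apply] at this
    rw [ofMem_closedPoint] at this
    haveI hloc : IsLocalHom e.hom.hom := isLocalHom_of_isIso _
    refine this.symm.trans ?_
    rw [Spec_closedPoint, Scheme.fromSpecStalk_closedPoint]
  let A : X.Opens := V₀.ι ''ᵁ (h ⁻¹ᵁ U₀)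
  let B : Y.Opens := U₀.ι ''ᵁ (g ⁻¹ᵁ V₀)
  have hAV : A ≤ V₀ := (V₀.ι.image_le_opensRange _).trans V₀.opensRange_ι.le
  have hBU : B ≤ U₀ := (U₀.ι.image_le_opensRange _).trans U₀.opensRange_ι.le
  have hA : genericPoint X ∈ A := ⟨⟨_, hV₀⟩, show h _ ∈ U₀ by rw [hhη]; exact hU₀, rfl⟩
  have hB : genericPoint Y ∈ B := ⟨⟨_, hU₀⟩, show g _ ∈ V₀ by rw [hgη]; exact hV₀, rfl⟩
  let hA' : (A : Scheme.{u}) ⟶ U₀ := IsOpenImmersion.lift U₀.ι (X.homOfLE hAV ≫ h) (by
    rintro _ ⟨⟨_, ⟨z, hz, rfl⟩⟩, rfl⟩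
    rw [U₀.range_ι]
    have : X.homOfLE hAV ⟨V₀.ι z, z, hz, rfl⟩ = z := Subtype.ext (X.homOfLE_apply hAV _)
    exact Eq.subst (motive := fun t => h t ∈ U₀) this.symm hz)
  let gB : (B : Scheme.{u}) ⟶ V₀ := IsOpenImmersion.lift V₀.ι (Y.homOfLE hBU ≫ g) (by
    rintro _ ⟨⟨_, ⟨z, hz, rfl⟩⟩, rfl⟩
    rw [V₀.range_ι]
    have : Y.homOfLE hBU ⟨U₀.ι z, z, hz, rfl⟩ = z := Subtype.ext (Y.homOfLE_apply hBU _)
    exact Eq.subst (motive := fun t => g t ∈ V₀) this.symm hz)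
  obtain ⟨A', hA'η, hA'A, hA'id⟩ := exists_eq_ι (k := k) hA (hA' ≫ g) (by
    have h1 : A.fromSpecStalkOfMem (genericPoint X) hA ≫ hA' =
        Spec.map e.inv ≫ U₀.fromSpecStalkOfMem (genericPoint Y) hU₀ := by
      rw [← cancel_mono U₀.ι, Category.assoc, Category.assoc, IsOpenImmersion.lift_fac,
        Scheme.Opens.fromSpecStalkOfMem_ι, hh, ← Category.assoc]
      congr 1
      rw [← cancel_mono V₀.ι, Category.assoc, Scheme.homOfLE_ι, Scheme.Opens.fromSpecStalkOfMem_ι,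
        Scheme.Opens.fromSpecStalkOfMem_ι]
    rw [← Category.assoc, h1, Category.assoc, ← hg, ← Spec.map_comp_assoc, Iso.hom_inv_id,
      Spec.map_id, Category.id_comp])
  obtain ⟨B', hB'η, hB'B, hB'id⟩ := exists_eq_ι (k := k) hB (gB ≫ h) (by
    have h1 : B.fromSpecStalkOfMem (genericPoint Y) hB ≫ gB =
        Spec.map e.hom ≫ V₀.fromSpecStalkOfMem (genericPoint X) hV₀ := by
      rw [← cancel_mono V₀.ι, Category.assoc, Category.assoc, IsOpenImmersion.lift_fac,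
        Scheme.Opens.fromSpecStalkOfMem_ι, hg, ← Category.assoc]
      congr 1
      rw [← cancel_mono U₀.ι, Category.assoc, Scheme.homOfLE_ι, Scheme.Opens.fromSpecStalkOfMem_ι,
        Scheme.Opens.fromSpecStalkOfMem_ι]
    rw [← Category.assoc, h1, Category.assoc, ← hh, ← Spec.map_comp_assoc, Iso.inv_hom_id,
      Spec.map_id, Category.id_comp])
  let hX : (A' : Scheme.{u}) ⟶ Y := X.homOfLE (hA'A.trans hAV) ≫ h
  let gY : (B' : Scheme.{u}) ⟶ X := Y.homOfLE (hB'B.trans hBU) ≫ g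
  have hXfac : X.homOfLE hA'A ≫ hA' ≫ U₀.ι = hX := by
    rw [IsOpenImmersion.lift_fac, ← Category.assoc, Scheme.homOfLE_homOfLE]
  have gYfac : Y.homOfLE hB'B ≫ gB ≫ V₀.ι = gY := by
    rw [IsOpenImmersion.lift_fac, ← Category.assoc, Scheme.homOfLE_homOfLE]
  let U : X.Opens := A'.ι ''ᵁ (hX ⁻¹ᵁ B')
  let V : Y.Opens := B'.ι ''ᵁ (gY ⁻¹ᵁ A')
  have hgh : ∀ (z : A'.toScheme) (hz : hX z ∈ B'), gY ⟨hX z, hz⟩ = z.1 := by
    intro z hz
    have h1 := congrArg (fun m => m z) hA'id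
    simp only [Scheme.Hom.comp_apply] at h1
    refine Eq.trans ?_ h1
    show g _ = g _
    refine congrArg g (Subtype.ext ?_)
    exact (Y.homOfLE_apply (hB'B.trans hBU) _).trans (congrArg (fun m => m z) hXfac).symm
  have hhg : ∀ (z : B'.toScheme) (hz : gY z ∈ A'), hX ⟨gY z, hz⟩ = z.1 := by
    intro z hz
    have h1 := congrArg (fun m => m z) hB'id
    simp only [Scheme.Hom.comp_apply] at h1
    refine Eq.trans ?_ h1
    show h _ = h _
    refine congrArg h (Subtype.ext ?_)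
    exact (X.homOfLE_apply (hA'A.trans hAV) _).trans (congrArg (fun m => m z) gYfac).symm
  have hUA : U ≤ A' := (A'.ι.image_le_opensRange _).trans A'.opensRange_ι.le
  have hVB : V ≤ B' := (B'.ι.image_le_opensRange _).trans B'.opensRange_ι.le
  let φ₁ : (U : Scheme.{u}) ⟶ V := IsOpenImmersion.lift V.ι (X.homOfLE hUA ≫ hX) (by
    rintro _ ⟨⟨_, ⟨z, hz, rfl⟩⟩, rfl⟩
    rw [V.range_ι]
    have : X.homOfLE hUA ⟨A'.ι z, z, hz, rfl⟩ = z := Subtype.ext (X.homOfLE_apply hUA _)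
    refine Eq.subst (motive := fun t => hX t ∈ V) this.symm ⟨⟨hX z, hz⟩, ?_, rfl⟩
    show gY ⟨hX z, hz⟩ ∈ A'
    rw [hgh z hz]; exact z.2)
  let φ₂ : (V : Scheme.{u}) ⟶ U := IsOpenImmersion.lift U.ι (Y.homOfLE hVB ≫ gY) (by
    rintro _ ⟨⟨_, ⟨z, hz, rfl⟩⟩, rfl⟩
    rw [U.range_ι]
    have : Y.homOfLE hVB ⟨B'.ι z, z, hz, rfl⟩ = z := Subtype.ext (Y.homOfLE_apply hVB _)
    refine Eq.subst (motive := fun t => gY t ∈ U) this.symm ⟨⟨gY z, hz⟩, ?_, rfl⟩
    show hX ⟨gY z, hz⟩ ∈ B'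
    rw [hhg z hz]; exact z.2)
  have hη' : hX ⟨genericPoint X, hA'η⟩ = genericPoint Y := by
    show h _ = _
    exact (congrArg h (Subtype.ext (X.homOfLE_apply (hA'A.trans hAV) _))).trans hhη
  refine ⟨U, V, ⟨genericPoint X, ⟨⟨_, hA'η⟩, show hX _ ∈ B' by rw [hη']; exact hB'η, rfl⟩⟩,
    ⟨φ₁, φ₂, ?_, ?_⟩, ?_⟩
  · rw [← cancel_mono U.ι, Category.id_comp, Category.assoc, IsOpenImmersion.lift_fac]
    have h2 : φ₁ ≫ Y.homOfLE (hVB.trans (hB'B.trans hBU)) =
        X.homOfLE (hUA.trans hA'A) ≫ hA' := by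
      rw [← cancel_mono U₀.ι, Category.assoc, Category.assoc, Scheme.homOfLE_ι, IsOpenImmersion.lift_fac,
        IsOpenImmersion.lift_fac, Scheme.homOfLE_homOfLE_assoc, Scheme.homOfLE_homOfLE_assoc]
    rw [show Y.homOfLE hVB ≫ gY = Y.homOfLE (hVB.trans (hB'B.trans hBU)) ≫ g from
      Scheme.homOfLE_homOfLE_assoc _ _ _ _, ← Category.assoc, h2, Category.assoc,
      ← Scheme.homOfLE_homOfLE_assoc _ hUA hA'A, hA'id, Scheme.homOfLE_ι]
  · rw [← cancel_mono V.ι, Category.id_comp, Category.assoc, IsOpenImmersion.lift_fac]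
    have h2 : φ₂ ≫ X.homOfLE (hUA.trans (hA'A.trans hAV)) =
        Y.homOfLE (hVB.trans hB'B) ≫ gB := by
      rw [← cancel_mono V₀.ι, Category.assoc, Category.assoc, Scheme.homOfLE_ι, IsOpenImmersion.lift_fac,
        IsOpenImmersion.lift_fac, Scheme.homOfLE_homOfLE_assoc, Scheme.homOfLE_homOfLE_assoc]
    rw [show X.homOfLE hUA ≫ hX = X.homOfLE (hUA.trans (hA'A.trans hAV)) ≫ h from
      Scheme.homOfLE_homOfLE_assoc _ _ _ _, ← Category.assoc, h2, Category.assoc,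
      ← Scheme.homOfLE_homOfLE_assoc _ hVB hB'B, hB'id, Scheme.homOfLE_ι]
  · show φ₁ ≫ V.ι ≫ pY = U.ι ≫ pX
    rw [IsOpenImmersion.lift_fac_assoc, Category.assoc]
    show X.homOfLE hUA ≫ (X.homOfLE (hA'A.trans hAV) ≫ h) ≫ pY = _
    rw [Category.assoc, hhk, Scheme.homOfLE_ι_assoc, Scheme.homOfLE_ι_assoc]

end Groth.Agent.S7629
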