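import Groth.Statements.S17085
import Groth.Agent.S2344
import Groth.Agent.S7629
import Groth.Agent.FFCurve.P1Iso
import Groth.Agent.FFCurve.Luroth
import Groth.Agent.CurveCoh.Integral
import Mathlib.AlgebraicGeometry.Morphisms.SchemeTheoreticallyDominant

set_option autoImplicit false
universe u
open CategoryTheory CategoryTheory.Limits AlgebraicGeometry
open RatCurve

namespace Groth.Agent.S17085

open Groth.Agent


/-- Let k be an algebraically closed field and C ⊆ P^n_k a closed subscheme which is an integral scheme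
of dimension one (a projective curve). Then C is rational — some nonempty open subscheme of C is
isomorphic over k to an open subscheme of the projective line P^1_k — if and only if C is the
scheme-theoretic image of some k-morphism f : P^1_k → P^n_k, i.e. the ideal sheaf of C in P^n_k is
the kernel ideal sheaf of f. -/
theorem result
    {k : Type u} [Field k] [IsAlgClosed k] {n : ℕ} (C : Scheme.{u})
    (i : C ⟶ CohB1.ProjSpace n k) [IsClosedImmersion i] [IsIntegral C]
    (hdim : topologicalKrullDim C = 1) :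
    (∃ (U : C.Opens) (V : (CohB1.ProjSpace 1 k).Opens) (e : (↑U : Scheme.{u}) ≅ ↑V),
        Nonempty U ∧
          e.hom ≫ V.ι ≫ CohB1.ProjSpace.toSpec 1 k = U.ι ≫ i ≫ CohB1.ProjSpace.toSpec n k) ↔
      ∃ f : CohB1.ProjSpace 1 k ⟶ CohB1.ProjSpace n k,
        f ≫ CohB1.ProjSpace.toSpec n k = CohB1.ProjSpace.toSpec 1 k ∧ f.ker = i.ker := by
  obtain ⟨hPp, hPs, hPi, hPd⟩ := FFCurve.p1_facts k
  haveI := hPp
  haveI := hPs
  haveI := hPi
  haveI := ProjProper.Basic.isProper_toSpec n k
  letI : (CohB1.ProjSpace 1 k).Over (Spec (CommRingCat.of k)) := ⟨CohB1.ProjSpace.toSpec 1 k⟩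
  letI : C.Over (Spec (CommRingCat.of k)) := ⟨i ≫ CohB1.ProjSpace.toSpec n k⟩
  haveI : Smooth ((CohB1.ProjSpace 1 k) ↘ Spec (CommRingCat.of k)) := hPs
  haveI : IsProper ((CohB1.ProjSpace 1 k) ↘ Spec (CommRingCat.of k)) := hPp
  haveI : IsProper (C ↘ Spec (CommRingCat.of k)) :=
    inferInstanceAs (IsProper (i ≫ CohB1.ProjSpace.toSpec n k))
  constructor
  · rintro ⟨U, V, e, hUne, he⟩
    haveI := hUne
    haveI : Nonempty (V : Scheme.{u}) := ⟨e.hom hUne.some⟩
    have hn : Pi1.IsNormalScheme (CohB1.ProjSpace 1 k) := fun x => by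
      haveI := CurveCoh.valuationRing_stalk (X := CohB1.ProjSpace 1 k) k hPd x
      exact ⟨inferInstance, inferInstance⟩
    obtain ⟨g, ⟨hgV, hgk⟩, -⟩ := S2344.result k (CohB1.ProjSpace 1 k) C
      (fun x hx => by
        rw [ringKrullDim_stalk_eq_coheight,
          CurveDVR.coheight_eq_one (CohB1.ProjSpace.toSpec 1 k) hPd hx]
        rfl)
      hn V (V.2.dense (Set.nonempty_coe_sort.mp ‹_›)) (e.inv ≫ U.ι) (by
        show (e.inv ≫ U.ι) ≫ i ≫ CohB1.ProjSpace.toSpec n k = V.ι ≫ CohB1.ProjSpace.toSpec 1 k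
        rw [Category.assoc, ← he, Iso.inv_hom_id_assoc])
    haveI : IsDominant g := ⟨(U.2.dense (Set.nonempty_coe_sort.mp hUne)).mono (by
      intro x hx
      refine ⟨V.ι (e.hom ⟨x, hx⟩), ?_⟩
      rw [← Scheme.Hom.comp_apply, hgV, Scheme.Hom.comp_apply]
      have h1 : e.inv (e.hom (⟨x, hx⟩ : (↑U : Scheme.{u}))) = ⟨x, hx⟩ := congr(($(e.hom_inv_id)) ⟨x, hx⟩)
      exact congrArg U.ι h1)⟩
    haveI := IsSchemeTheoreticallyDominant.of_isDominant g
    refine ⟨g ≫ i, by rw [Category.assoc]; exact hgk, ?_⟩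
    rw [Scheme.Hom.ker_comp, g.ker_eq_bot, Scheme.IdealSheafData.map_bot]
  · rintro ⟨f, hf, hker⟩
    let g : CohB1.ProjSpace 1 k ⟶ C := IsClosedImmersion.lift i f hker.ge
    have hg : g ≫ i = f := IsClosedImmersion.lift_fac _ _ _
    have hgk : g ≫ (C ↘ Spec (CommRingCat.of k)) = (CohB1.ProjSpace 1 k) ↘ Spec (CommRingCat.of k) := by
      show g ≫ i ≫ CohB1.ProjSpace.toSpec n k = CohB1.ProjSpace.toSpec 1 k
      rw [reassoc_of% hg, hf]
    haveI : IsProper (g ≫ (C ↘ Spec (CommRingCat.of k))) := hgk ▸ inferInstance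
    haveI : IsProper g := IsProper.of_comp g (C ↘ Spec (CommRingCat.of k))
    haveI : IsProper (f ≫ CohB1.ProjSpace.toSpec n k) := hf ▸ hPp
    haveI : IsProper f := IsProper.of_comp f (CohB1.ProjSpace.toSpec n k)
    haveI : IsDominant g := by
      have h1 : closure (Set.range f) = Set.range i := by
        rw [← f.support_ker, hker, i.support_ker, i.isClosedEmbedding.isClosed_range.closure_eq]
      refine ⟨fun x => ?_⟩
      have h2 : i x ∈ closure (Set.range f) := h1.ge ⟨x, rfl⟩
      rw [← hg, Scheme.Hom.comp_base, TopCat.coe_comp, Set.range_comp,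
        i.isClosedEmbedding.closure_image_eq] at h2
      exact i.isClosedEmbedding.injective.mem_set_image.mp h2
    have hη : g (genericPoint (CohB1.ProjSpace 1 k)) = genericPoint C := by
      refine (((genericPoint_spec (CohB1.ProjSpace 1 k)).image g.continuous).eq ?_)
      have : closure (g '' Set.univ) = Set.univ := by rw [Set.image_univ]; exact g.denseRange.closure_range
      rw [this]
      exact genericPoint_spec C
    obtain ⟨j, hj, hjs⟩ := FFCurve.exists_lineChart k
    haveI := hj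
    obtain ⟨t, ht, htt⟩ := FFCurve.exists_gen_of_chart k j hjs
    obtain ⟨φ⟩ := FFCurve.exists_algHom_of_hom k (X := C) (Y := CohB1.ProjSpace 1 k) g hgk hη
    obtain ⟨x, hx⟩ := FFCurve.exists_transcendental (X := C) k hdim
    obtain ⟨h, hh, htop⟩ := FFCurve.exists_gen_of_algHom k φ ht htt hx
    obtain ⟨e₁, -⟩ := FF.exists_gen_hom h hh
    obtain ⟨e₂, -⟩ := FF.exists_gen_hom t ht
    let ψ : C.functionField ≃ₐ[k] (CohB1.ProjSpace 1 k).functionField :=
      (e₁.trans ((IntermediateField.equivOfEq htop).trans IntermediateField.topEquiv)).symm.trans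
        (e₂.trans ((IntermediateField.equivOfEq htt).trans IntermediateField.topEquiv))
    obtain ⟨U, V, hU, e, he⟩ := S7629.result k C (CohB1.ProjSpace 1 k) ψ.toRingEquiv.toCommRingCatIso
      (RingHom.ext fun c => ψ.commutes c)
    exact ⟨U, V, e, Set.nonempty_coe_sort.mpr hU, he⟩

end Groth.Agent.S17085
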