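import Groth.Statements.S17086
import Groth.Agent.PicPn.LineSplit
import Groth.Agent.IdealSh.EffCartier

set_option autoImplicit false
universe u
open CategoryTheory CategoryTheory.Limits AlgebraicGeometry
open RatCurve

namespace Groth.Agent.S17086

open CategoryTheory AlgebraicGeometry TopologicalSpace
open Groth.Agent.ProjTwist Groth.Agent.PicPn

theorem isEffCartier_line {k : Type u} [Field k] (I : (CohB1.ProjSpace 1 k).IdealSheafData)
    (h : (I.support : Set (CohB1.ProjSpace 1 k)) ≠ Set.univ) : BlowUp.IsEffCartierIdeal I := by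
  intro x
  haveI := isIntegral_line (k := k)
  obtain ⟨i, hxi⟩ : ∃ i, x ∈ stdOpen 1 k i :=
    Opens.mem_iSup.1 (by rw [iSup_stdOpen]; trivial)
  haveI := isPrincipalIdealRing_stdOpen (k := k) i
  haveI := isDomain_stdOpen (k := k) (n := 1) i
  let U : (CohB1.ProjSpace 1 k).affineOpens := ⟨stdOpen 1 k i, isAffineOpen_stdOpen 1 k i⟩
  obtain ⟨a, ha⟩ := IsPrincipalIdealRing.principal (I.ideal U)
  refine ⟨U, hxi, a, mem_nonZeroDivisors_of_ne_zero ?_, ha⟩
  rintro rfl
  apply h
  have h1 := I.coe_support_inter U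
  rw [ha] at h1
  simp only [Ideal.submodule_span_eq, Ideal.span_singleton_zero] at h1
  have hsub : (U.1 : Set (CohB1.ProjSpace 1 k)) ⊆ I.support := fun y hy => by
    have : y ∈ (I.support : Set (CohB1.ProjSpace 1 k)) ∩ U.1 := by
      rw [h1]; exact ⟨by simp, hy⟩
    exact this.1
  refine Set.eq_univ_of_univ_subset ?_
  rw [← (U.1.isOpen.dense ⟨x, hxi⟩).closure_eq]
  exact closure_minimal hsub I.support.isClosed

/-- Let k be an algebraically closed field, X a closed subscheme of P^n_k, Z ⊆ X a closed subscheme and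
σ : B → X a blow-up of X along Z (the inverse image ideal of Z is effective Cartier and σ is final
with this property). Then every k-morphism f : P^1_k → X whose image is not contained in Z lifts
uniquely along σ: there is exactly one morphism g : P^1_k → B with g ≫ σ = f. Equivalently, over the
open locus of morphisms meeting X ∖ Z, the morphism Mor(P^1_k, B) → Mor(P^1_k, X) induced by σ is a
bijection on k-points. -/
theorem result
    {k : Type u} [Field k] [IsAlgClosed k] {n : ℕ} (X : Scheme.{u})
    (c : X ⟶ CohB1.ProjSpace n k) [IsClosedImmersion c]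
    (Z : Scheme.{u}) (iZ : Z ⟶ X) [IsClosedImmersion iZ]
    (B : Scheme.{u}) (σ : B ⟶ X) (hσ : BlowUp.IsBlowUp σ iZ.ker)
    (f : CohB1.ProjSpace 1 k ⟶ X)
    (hf : f ≫ c ≫ CohB1.ProjSpace.toSpec n k = CohB1.ProjSpace.toSpec 1 k)
    (hfZ : ¬ Set.range f ⊆ Set.range iZ) :
    ∃! g : CohB1.ProjSpace 1 k ⟶ B, g ≫ σ = f := by
  refine hσ.2 _ f (isEffCartier_line _ fun h => hfZ ?_)
  rintro _ ⟨y, rfl⟩
  have hy : y ∈ ((iZ.ker.comap f).support : Set (CohB1.ProjSpace 1 k)) := h ▸ trivial
  rw [Scheme.IdealSheafData.support_comap] at hy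
  have hy' : f y ∈ (iZ.ker.support : Set X) := hy
  rw [Scheme.Hom.support_ker] at hy'
  rwa [(IsClosedImmersion.base_closed (f := iZ)).isClosed_range.closure_eq] at hy'

end Groth.Agent.S17086
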