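import Groth.Statements.S17087
import Groth.Agent.S17076

set_option autoImplicit false
set_option backward.isDefEq.respectTransparency false
set_option backward.isDefEq.respectTransparency.types false
universe u
open CategoryTheory CategoryTheory.Limits AlgebraicGeometry
open MorSch

namespace Groth.Agent.S17087

section

variable {X Y S : Scheme.{u}} (gX : X ⟶ S) (gY : Y ⟶ S)

/-- The projection to the source. -/
noncomputable def proj (T : Over S) : PicF.XT (pullback.fst gX gY ≫ gX) T ⟶ pullback T.hom gX :=
  pullback.lift (pullback.snd _ _) (pullback.fst _ _ ≫ pullback.fst gX gY)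
    (by rw [Category.assoc]; exact pullback.condition.symm)

/-- The graph. -/
noncomputable def graph {T : Over S} (a : (Flatn.morS gX gY).obj (Opposite.op T)) :
    pullback T.hom gX ⟶ PicF.XT (pullback.fst gX gY ≫ gX) T :=
  pullback.lift
    (pullback.lift (pullback.snd T.hom gX) a.left (Over.w a).symm)
    (pullback.fst T.hom gX)
    ((pullback.lift_fst_assoc _ _ _ _).trans pullback.condition.symm)

lemma graph_proj {T : Over S} (a : (Flatn.morS gX gY).obj (Opposite.op T)) :
    graph gX gY a ≫ proj gX gY T = 𝟙 _ := by
  apply pullback.hom_ext <;> simp [graph, proj]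

lemma isClosedImmersion_graph [IsSeparated gX] [IsSeparated gY] {T : Over S}
    (a : (Flatn.morS gX gY).obj (Opposite.op T)) : IsClosedImmersion (graph gX gY a) := by
  have h1 : IsSeparated (proj gX gY T ≫ pullback.fst T.hom gX) := by
    rw [proj, pullback.lift_fst]; infer_instance
  have : IsSeparated (proj gX gY T) := IsSeparated.of_comp _ (pullback.fst T.hom gX)
  have : IsClosedImmersion (graph gX gY a ≫ proj gX gY T) := by rw [graph_proj]; infer_instance
  exact IsClosedImmersion.of_comp _ (proj gX gY T)

lemma isIso_of_graph [IsSeparated gX] [IsSeparated gY] {T : Over S}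
    (a : (Flatn.morS gX gY).obj (Opposite.op T)) :
    IsIso ((graph gX gY a).ker.subschemeι ≫ proj gX gY T) := by
  have := isClosedImmersion_graph gX gY a
  have h : (graph gX gY a).toImage ≫ (graph gX gY a).ker.subschemeι ≫ proj gX gY T = 𝟙 _ := by
    rw [← Category.assoc]
    exact (congrArg (· ≫ proj gX gY T) (Scheme.Hom.toImage_imageι _)).trans (graph_proj gX gY a)
  have : IsIso ((graph gX gY a).toImage ≫ (graph gX gY a).ker.subschemeι ≫ proj gX gY T) := by
    rw [h]; infer_instance
  exact IsIso.of_isIso_comp_left (graph gX gY a).toImage _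

lemma existsUnique_graph [IsSeparated gX] [IsSeparated gY] {T : Over S}
    (I : (PicF.XT (pullback.fst gX gY ≫ gX) T).IdealSheafData) (h : IsIso (I.subschemeι ≫ proj gX gY T)) :
    ∃! a : (Flatn.morS gX gY).obj (Opposite.op T), I = (graph gX gY a).ker := by
  let s := inv (I.subschemeι ≫ proj gX gY T) ≫ I.subschemeι
  have hs : s ≫ proj gX gY T = 𝟙 _ := by simp [s]
  have hs1 : s ≫ pullback.snd _ _ = pullback.fst T.hom gX := by
    have := congrArg (· ≫ pullback.fst T.hom gX) hs
    simpa [proj] using this
  have hs2 : s ≫ pullback.fst _ _ ≫ pullback.fst gX gY = pullback.snd T.hom gX := by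
    have := congrArg (· ≫ pullback.snd T.hom gX) hs
    simpa [proj] using this
  let a : (Flatn.morS gX gY).obj (Opposite.op T) :=
    (Over.homMk (s ≫ pullback.fst _ _ ≫ pullback.snd gX gY) (by
      change (s ≫ pullback.fst _ _ ≫ pullback.snd gX gY) ≫ gY = pullback.snd T.hom gX ≫ gX
      rw [← hs2]
      simp [pullback.condition]) : (Over.map gX).obj ((Over.pullback gX).obj T) ⟶ Over.mk gY)
  have hsa : graph gX gY a = s := by
    apply pullback.hom_ext
    · apply pullback.hom_ext
      · simpa [graph] using hs2.symm
      · simp [graph, a]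
    · simpa [graph] using hs1.symm
  refine ⟨a, ?_, fun b hb => ?_⟩
  · show I = (graph gX gY a).ker
    rw [hsa]
    simp only [s, Scheme.Hom.ker_comp_of_isIso, Scheme.IdealSheafData.ker_subschemeι]
  · have := isClosedImmersion_graph gX gY b
    obtain ⟨v, hv⟩ : ∃ v, v ≫ I.subschemeι = graph gX gY b := by
      subst hb
      exact ⟨(graph gX gY b).toImage, Scheme.Hom.toImage_imageι _⟩
    have hv' : v = inv (I.subschemeι ≫ proj gX gY T) := by
      rw [← cancel_mono (I.subschemeι ≫ proj gX gY T), IsIso.inv_hom_id, ← Category.assoc, hv, graph_proj]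
    refine Over.OverMorphism.ext ?_
    have e : graph gX gY b = graph gX gY a := by rw [hsa, ← hv, hv']
    have := congrArg (fun m => m ≫ pullback.fst _ _ ≫ pullback.snd gX gY) e
    simpa [graph] using this

end


/-- Let S be a locally Noetherian scheme, gX : X → S proper and flat, gY : Y → S separated, and (H, Z) a
pair representing the Hilbert functor of X ×_S Y over S on locally Noetherian S-schemes (H locally
Noetherian; Z ⊆ (X ×_S Y) ×_S H closed, proper and flat over H; universal). For an S-morphism a : T
×_S X → Y write Γ_a : T ×_S X → (X ×_S Y) ×_S T for its graph, a closed immersion. Then there is an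
open subset H₀ of H such that, for every locally Noetherian S-scheme T: every S-morphism a : T ×_S X
→ Y has exactly one S-morphism g : T → H with image in H₀ along which Z pulls back to the closed
subscheme defined by Γ_a; and every S-morphism g : T → H with image in H₀ pulls Z back to the graph
of exactly one such a. Thus the functor Mor_S(X, Y) on locally Noetherian S-schemes is represented
by the open subscheme H₀ of the Hilbert scheme of X ×_S Y, the universal family being a graph.
(Published for X and Y projective over S, with X flat; the Hilbert scheme is taken as given here.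
The published statement also asserts that each irreducible component of the representing scheme is
of finite type over S; that clause is not part of this row.) -/
theorem result
    {X Y S : Scheme.{u}} [IsLocallyNoetherian S] (gX : X ⟶ S) [IsProper gX] [Flat gX]
    (gY : Y ⟶ S) [IsSeparated gY]
    (H : Over S) (Z : FGA.HilbSet (pullback.fst gX gY ≫ gX) H)
    (hH : FGA.HilbRepresentedBy (pullback.fst gX gY ≫ gX) H Z) :
    ∃ H₀ : H.left.Opens, ∀ (T : Over S) [IsLocallyNoetherian T.left],
      (∀ a : (Flatn.morS gX gY).obj (Opposite.op T),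
        ∃! g : T ⟶ H, Set.range g.left ⊆ (H₀ : Set H.left) ∧
          FGA.hilbPull (pullback.fst gX gY ≫ gX) g Z.1 =
            (pullback.lift
              (pullback.lift (pullback.snd T.hom gX) a.left (Over.w a).symm)
              (pullback.fst T.hom gX)
              ((pullback.lift_fst_assoc _ _ _ _).trans pullback.condition.symm)
              : pullback T.hom gX ⟶ PicF.XT (pullback.fst gX gY ≫ gX) T).ker) ∧
      (∀ g : T ⟶ H, Set.range g.left ⊆ (H₀ : Set H.left) →
        ∃! a : (Flatn.morS gX gY).obj (Opposite.op T),
          FGA.hilbPull (pullback.fst gX gY ≫ gX) g Z.1 =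
            (pullback.lift
              (pullback.lift (pullback.snd T.hom gX) a.left (Over.w a).symm)
              (pullback.fst T.hom gX)
              ((pullback.lift_fst_assoc _ _ _ _).trans pullback.condition.symm)
              : pullback T.hom gX ⟶ PicF.XT (pullback.fst gX gY ≫ gX) T).ker) := by
  have : IsLocallyNoetherian H.left := hH.1
  let q := pullback.fst gX gY ≫ gX
  have : IsProper (Z.1.subschemeι ≫ PicF.XTproj q H) := Z.2.1
  have : Flat (Z.1.subschemeι ≫ PicF.XTproj q H) := Z.2.2
  let ZH : Over H.left := Over.mk (Z.1.subschemeι ≫ PicF.XTproj q H)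
  let XH : Over H.left := Over.mk (pullback.fst H.hom gX)
  have : IsProper ZH.hom := Z.2.1
  have : Flat ZH.hom := Z.2.2
  have : IsProper XH.hom := inferInstanceAs (IsProper (pullback.fst H.hom gX))
  let fH : ZH ⟶ XH := Over.homMk (Z.1.subschemeι ≫ proj gX gY H) (by simp [ZH, XH, proj, PicF.XTproj, q])
  obtain ⟨H₀, hH₀⟩ := S17076.result ZH XH fH
  have key : ∀ (T : Over S) [IsLocallyNoetherian T.left] (g : T ⟶ H),
      Set.range g.left ⊆ (H₀ : Set H.left) ↔
        IsIso ((FGA.hilbPull q g Z.1).subschemeι ≫ proj gX gY T) := by
    intro T _ g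
    rw [hH₀ T.left g.left]
    let k := pullback.snd Z.1.subschemeι (PicF.XTmap q g)
    let m : pullback T.hom gX ⟶ pullback H.hom gX :=
      pullback.map T.hom gX H.hom gX g.left (𝟙 X) (𝟙 S) (by simp) (by simp)
    have hbot : IsPullback m (pullback.fst T.hom gX) (pullback.fst H.hom gX) g.left := by
      refine IsPullback.of_right ?_ (pullback.lift_fst _ _ _) (IsPullback.of_hasPullback H.hom gX).flip
      rw [show m ≫ pullback.snd H.hom gX = pullback.snd T.hom gX by simp [m]]
      simpa using (IsPullback.of_hasPullback T.hom gX).flip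
    have hout : IsPullback (PicF.XTmap q g) (pullback.snd q T.hom) (pullback.snd q H.hom) g.left := by
      refine IsPullback.of_right ?_ (by simp [PicF.XTmap]) (IsPullback.of_hasPullback q H.hom)
      simpa [PicF.XTmap] using IsPullback.of_hasPullback q T.hom
    have hmid : IsPullback (PicF.XTmap q g) (proj gX gY T) (proj gX gY H) m := by
      refine IsPullback.of_bot ?_ ?_ hbot
      · simpa [proj, q] using hout
      · apply pullback.hom_ext <;> simp [proj, m, PicF.XTmap, q]
    have hk : IsPullback (pullback.fst _ _) (k ≫ proj gX gY T) fH.left m :=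
      (IsPullback.of_hasPullback Z.1.subschemeι (PicF.XTmap q g)).paste_vert hmid
    let b := ((Over.pullback g.left).map fH).left
    have hb : IsPullback (pullback.fst ZH.hom g.left) b fH.left (pullback.fst XH.hom g.left) := by
      refine (IsPullback.of_bot ?_ ?_ (IsPullback.of_hasPullback XH.hom g.left))
      · rw [Over.w fH, show b ≫ pullback.snd XH.hom g.left = pullback.snd ZH.hom g.left by simp [b]]
        exact IsPullback.of_hasPullback ZH.hom g.left
      · simp [b]
    let e := hbot.isoPullback
    have hk' : IsPullback (pullback.fst _ _) ((k ≫ proj gX gY T) ≫ e.hom) fH.left (pullback.fst XH.hom g.left) := by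
      refine hk.of_iso (Iso.refl _) (Iso.refl _) e (Iso.refl _) (by simp) (by simp) (by simp) ?_
      simp only [Iso.refl_hom, Category.comp_id]
      exact hbot.isoPullback_hom_fst.symm
    have hb' : (hk'.isoIsPullback _ _ hb).hom ≫ b = (k ≫ proj gX gY T) ≫ e.hom :=
      hk'.isoIsPullback_hom_snd _ _ hb
    have h1 : IsIso b ↔ IsIso (k ≫ proj gX gY T) := by
      constructor
      · intro _
        have : IsIso ((k ≫ proj gX gY T) ≫ e.hom) := by rw [← hb']; infer_instance
        exact IsIso.of_isIso_comp_right _ e.hom
      · intro _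
        have : IsIso ((hk'.isoIsPullback _ _ hb).hom ≫ b) := by rw [hb']; infer_instance
        exact IsIso.of_isIso_comp_left (hk'.isoIsPullback _ _ hb).hom b
    refine h1.trans ?_
    have h2 : k.toImage ≫ k.ker.subschemeι = k := Scheme.Hom.toImage_imageι k
    change IsIso (k ≫ proj gX gY T) ↔ IsIso (k.ker.subschemeι ≫ proj gX gY T)
    constructor
    · intro _
      have : IsIso (k.toImage ≫ k.ker.subschemeι ≫ proj gX gY T) := by rw [← Category.assoc, h2]; infer_instance
      exact IsIso.of_isIso_comp_left k.toImage _
    · intro _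
      rw [← h2, Category.assoc]
      infer_instance
  refine ⟨H₀, fun T _ => ⟨fun a => ?_, fun g hg => ?_⟩⟩
  · have := isIso_of_graph gX gY a
    have hpf : IsProper ((graph gX gY a).ker.subschemeι ≫ PicF.XTproj q T) ∧
        Flat ((graph gX gY a).ker.subschemeι ≫ PicF.XTproj q T) := by
      have h : (graph gX gY a).ker.subschemeι ≫ PicF.XTproj q T =
          ((graph gX gY a).ker.subschemeι ≫ proj gX gY T) ≫ pullback.fst T.hom gX := by
        simp [proj, PicF.XTproj, q]
      rw [h]
      exact ⟨inferInstance, inferInstance⟩
    obtain ⟨g, hg, hgu⟩ := hH.2 T ⟨_, hpf⟩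
    refine ⟨g, ⟨(key T g).2 ?_, hg⟩, fun g' hg' => hgu g' hg'.2⟩
    show IsIso ((FGA.hilbPull q g Z.1).subschemeι ≫ proj gX gY T)
    rw [show FGA.hilbPull q g Z.1 = _ from hg]
    infer_instance
  · exact existsUnique_graph gX gY _ ((key T g).1 hg)

end Groth.Agent.S17087
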