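import Groth.Statements.S17089
import Groth.Agent.Borel50.NormalClosure
import Groth.Agent.Borel50.BaseChange
import Groth.Agent.Borel50.UnipRadical
import Mathlib.GroupTheory.Nilpotent

set_option autoImplicit false
universe u
open CategoryTheory MonoidalCategory CartesianMonoidalCategory MonObj GrpObj AlgebraicGeometry
open AGF

namespace Groth.Agent.S17089

open CategoryTheory.Limits
open Groth.Agent.Borel50 Groth.Agent.Borel50.Pts Groth.Agent.Borel50.Lin Groth.Agent.Borel50.Density
open Groth.Agent.DiagRig (bcTr bcUn bcTr_bcUn bcUn_bcTr bcTr_map bcTr_mul bcTr_comp bcTr_inv)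

attribute [local instance] ptTop

/-- A rational point of a base change conjugating a subgroup into itself does so on all points. -/
theorem conj_factor {k K : Type u} [Field k] [Field K] [IsAlgClosed K]
    (g : Spec (CommRingCat.of K) ⟶ Spec (CommRingCat.of k))
    {G U : Over (Spec (CommRingCat.of k))} [GrpObj G] [GrpObj U] (i : U ⟶ G) [IsMonHom i]
    [IsClosedImmersion ((Over.pullback g).map i).left] [Smooth (Red.bc g U).hom] [Smooth (Red.bc g G).hom]
    [IsMonHom ((Over.pullback g).map i)] [IsSeparated (Red.bc g G).hom]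
    (x : Pt (Red.bc g G))
    (hx : ∀ y ∈ (ptHom ((Over.pullback g).map i)).range, x * y * x⁻¹ ∈ (ptHom ((Over.pullback g).map i)).range)
    {X' : Over (Spec (CommRingCat.of k))} (p : X' ⟶ (Over.map g).obj (𝟙_ (Over (Spec (CommRingCat.of K))))) (h : X' ⟶ U) :
    ∃ h' : X' ⟶ U, (p ≫ bcTr g x) * (h ≫ i) * (p ≫ bcTr g x)⁻¹ = h' ≫ i := by
  have := GrpScheme.HomFlat.isReduced_of_smooth (Red.bc g U).hom
  set iK := (Over.pullback g).map i
  obtain ⟨l, hl⟩ := factor_of_points (AGF.conjBy x iK) iK fun w => by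
    obtain ⟨z, hz⟩ := hx _ ⟨w, rfl⟩
    refine mem_range_of_factor (z := z) ?_
    rw [MonObj.comp_mul, MonObj.comp_mul, GrpObj.comp_inv, ← Category.assoc, toUnit_unique (w ≫ toUnit _) (𝟙 _),
      Category.id_comp]
    exact hz
  let X'' : Over (Spec (CommRingCat.of K)) := Over.mk p.left
  let e : (Over.map g).obj X'' ≅ X' := Over.isoMk (Iso.refl _) (by
    have h1 := Over.w p
    simpa [X''] using h1.symm)
  let h₁ : X'' ⟶ Red.bc g U := bcUn g (e.hom ≫ h)
  refine ⟨e.inv ≫ bcTr g (h₁ ≫ l), ?_⟩
  have hp : e.hom ≫ p = (Over.map g).map (toUnit X'') := by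
    apply Over.OverMorphism.ext
    have h2 : (toUnit X'').left = p.left := by simpa [X''] using Over.w (toUnit X'')
    simp [e, h2]
  have h3 : h₁ ≫ l ≫ iK = (toUnit X'' ≫ x) * (h₁ ≫ iK) * (toUnit X'' ≫ x)⁻¹ := by
    rw [hl, MonObj.comp_mul, MonObj.comp_mul, GrpObj.comp_inv, ← Category.assoc, toUnit_unique (h₁ ≫ toUnit _) (toUnit X'')]
  rw [← cancel_epi e.hom, Category.assoc, Iso.hom_inv_id_assoc, ← bcTr_map, Category.assoc, h3, bcTr_mul, bcTr_mul,
    bcTr_inv, bcTr_map, bcTr_bcUn, bcTr_comp, ← hp, MonObj.comp_mul, MonObj.comp_mul, GrpObj.comp_inv, Category.assoc,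
    Category.assoc]

/-- Let k be a field, U' an affine, smooth, connected k-group scheme whose geometric fibre contains no
non-trivial subtorus (a smooth connected unipotent group), i : U ⟶ U' a closed subgroup scheme which
is smooth and connected and whose inclusion is not an isomorphism, and n : N ⟶ U' the normalizer of
U in U'. Then N is strictly larger than U: the inclusion of N does not factor through U. -/
theorem result (k : Type u) [Field k]
    (U' : Over (Spec (CommRingCat.of k))) [GrpObj U'] [IsAffine U'.left] [Smooth U'.hom] [ConnectedSpace ↥U'.left]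
    (hU' : ∀ s : ↥(Spec (CommRingCat.of k)),
      Red.HasNoSubtorus (AlgebraicClosure ((Spec (CommRingCat.of k)).residueField s)) (Red.geomFibre s U'))
    (U : Over (Spec (CommRingCat.of k))) [GrpObj U] (i : U ⟶ U') [IsMonHom i] (hi : IsClosedImmersion i.left)
    [Smooth U.hom] [ConnectedSpace ↥U.left] (hne : ¬ IsIso i.left)
    (N : Over (Spec (CommRingCat.of k))) [GrpObj N] (n : N ⟶ U') (hn : Red.IsNormalizerOf i n) :
    ¬ ∃ f : N ⟶ U, f ≫ i = n := by
  classical
  rintro ⟨f, hf⟩
  obtain ⟨s⟩ : Nonempty ↥(Spec (CommRingCat.of k)) := inferInstanceAs (Nonempty (PrimeSpectrum k))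
  let K := AlgebraicClosure ((Spec (CommRingCat.of k)).residueField s)
  let g : Spec (CommRingCat.of K) ⟶ Spec (CommRingCat.of k) := Red.geomPt s
  have := BaseChange.surjective_g g
  have := BaseChange.isAffine_bc g U'
  have := BaseChange.connectedSpace_bc g U'
  have : Smooth (Red.bc g U').hom := inferInstanceAs (Smooth (pullback.snd U'.hom g))
  have : Smooth (Red.bc g U).hom := inferInstanceAs (Smooth (pullback.snd U.hom g))
  have := DiagRig.isMonHom_bcMap g i
  have : IsClosedImmersion ((Over.pullback g).map i).left := LimGrp.property_map @IsClosedImmersion _ i hi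
  have : IsSeparated (Red.bc g U').hom := GrpScheme.IdComponent.isSeparated (Red.bc g U')
  have := GrpScheme.HomFlat.isReduced_of_smooth (Red.bc g U').hom
  have := FixedPt.qc_G (Red.bc g U')
  obtain ⟨M, ⟨Φ₀⟩⟩ := exists_rep (G := Red.bc g U')
  obtain ⟨P, Q, hQP, hup, hun⟩ := UnipGroup.unipotent_of_noSubtorus (U := Red.bc g U') (hU' s) Φ₀
  have hnil := (Φ₀.conj P Q hQP).upperCentralSeries_eq_top hup ⊥
      (fun t ht x => by rw [Subgroup.mem_bot.1 ht, _root_.one_mul, _root_.mul_one])
      (fun x => ⟨1, Subgroup.one_mem _, by rw [map_one, (Φ₀.conj P Q hQP).diag_of_mem_unipotent (hun x)]⟩)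
  have : Group.IsNilpotent (Pt (Red.bc g U')) := ⟨⟨M + 1, hnil⟩⟩
  set R := (ptHom ((Over.pullback g).map i)).range with hR
  have hRne : R ≠ ⊤ := by
    intro htop
    refine hne ?_
    have := GrpScheme.HomFlat.isReduced_of_smooth U'.hom
    have : Surjective ((Over.pullback g).map i).left := by
      have : JacobsonSpace (Red.bc g U').left := LocallyOfFiniteType.jacobsonSpace (Red.bc g U').hom
      refine ⟨fun y => ?_⟩
      have h : closedPoints (Red.bc g U').left ⊆ Set.range ((Over.pullback g).map i).left := by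
        intro z hz
        obtain ⟨w, rfl⟩ := exists_pt hz
        obtain ⟨v, hv⟩ : w ∈ R := htop ▸ Subgroup.mem_top w
        exact mem_range_of_factor hv
      have hy : y ∈ closure (closedPoints (Red.bc g U').left) := by rw [closure_closedPoints]; trivial
      exact closure_minimal h ((Over.pullback g).map i).left.isClosedEmbedding.isClosed_range hy
    have : Surjective i.left := ⟨fun y => by
      obtain ⟨z, rfl⟩ := (pullback.fst U'.hom g).surjective y
      obtain ⟨z', rfl⟩ := ((Over.pullback g).map i).left.surjective z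
      exact ⟨pullback.fst U.hom g z', by
        rw [← Scheme.Hom.comp_apply, ← Scheme.Hom.comp_apply,
          show ((Over.pullback g).map i).left ≫ pullback.fst U'.hom g = pullback.fst U.hom g ≫ i.left from
            pullback.lift_fst _ _ _]
        ⟩⟩
    exact isIso_of_isClosedImmersion_of_surjective i.left
  have hlt := Group.normalizerCondition_of_isNilpotent R (lt_top_iff_ne_top.2 hRne)
  obtain ⟨x, hxN, hxR⟩ := SetLike.exists_of_lt hlt
  refine hxR ?_
  obtain ⟨z, hz⟩ := (hn.2.2 _ (bcTr g x)).2 fun X' p h => ⟨conj_factor g i x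
    (fun y hy => (Subgroup.mem_normalizer_iff.1 hxN y).1 hy) p h, by
    obtain ⟨h', hh'⟩ := conj_factor g i x⁻¹
      (fun y hy => (Subgroup.mem_normalizer_iff.1 (Subgroup.inv_mem _ hxN) y).1 hy) p h
    refine ⟨h', ?_⟩
    rw [← hh', bcTr_inv, GrpObj.comp_inv, _root_.inv_inv]⟩
  refine ⟨bcUn g (z ≫ f), ?_⟩
  show bcUn g (z ≫ f) ≫ (Over.pullback g).map i = x
  refine DiagRig.bcTr_injective g ?_
  rw [bcTr_map, bcTr_bcUn, Category.assoc, hf, hz]

end Groth.Agent.S17089
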