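import Groth.Statements.S17091
import Groth.Agent.Borel50.UnipBorel

set_option autoImplicit false
universe u
open CategoryTheory MonoidalCategory CartesianMonoidalCategory MonObj GrpObj AlgebraicGeometry
open AGF

namespace Groth.Agent.S17091

/-- Let k be an algebraically closed field, G an affine, smooth, connected k-group scheme, u : U ⟶ G its
unipotent radical (the largest normal closed subgroup scheme of G, smooth and quasi-compact over k,
whose geometric fibre is connected and contains no non-trivial subtorus), B a Borel subgroup of G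
and v : V ⟶ B the unipotent radical of B. Then U is contained in V: u factors through v. -/
theorem result (k : Type u) [Field k] [IsAlgClosed k]
    (G : Over (Spec (CommRingCat.of k))) [GrpObj G] [IsAffine G.left] [Smooth G.hom] [ConnectedSpace ↥G.left]
    (U : Over (Spec (CommRingCat.of k))) [GrpObj U] (u : U ⟶ G) (hU : Par.IsUnipotentRadical u)
    (B : Over (Spec (CommRingCat.of k))) [GrpObj B] (iB : B ⟶ G) (hB : Red.IsBorelOver k iB)
    (V : Over (Spec (CommRingCat.of k))) [GrpObj V] (v : V ⟶ B) (hV : Par.IsUnipotentRadical v) :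
    ∃ f : U ⟶ V, f ≫ v ≫ iB = u := by
  obtain ⟨hmu, hcu, hnu, hsu, hqu, hgu, -⟩ := hU
  obtain ⟨-, -, -, -, -, -, huniv⟩ := hV
  have := hB.1
  have := hB.2.1
  obtain ⟨s⟩ : Nonempty ↥(Spec (CommRingCat.of k)) := inferInstanceAs (Nonempty (PrimeSpectrum k))
  have := Groth.Agent.Borel50.UnipBorel.connected_of_geom s U (hgu s).1
  have hU' : Red.HasNoSubtorus k U := Groth.Agent.Borel50.UnipRadical.hasNoSubtorus_of_bc _ (hgu s).2
  have := hcu
  have := hsu
  have : IsAffine U.left := isAffine_of_isAffineHom u.left
  have := Groth.Agent.Borel50.FixedPt.qc_G G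
  have := Groth.Agent.GrpScheme.HomFlat.isReduced_of_smooth U.hom
  have : Mono iB := Over.mono_of_mono_left iB
  have hle := Groth.Agent.Borel50.UnipBorel.normal_le_borel u hU' hnu iB hB
  obtain ⟨f₀, hf₀⟩ := Groth.Agent.Borel50.Pts.factor_of_points u iB fun w => by
    obtain ⟨z, hz⟩ := hle ⟨w, rfl⟩
    exact Groth.Agent.Borel50.Pts.mem_range_of_factor hz
  have : IsMonHom f₀ :=
    { one_hom := by rw [← cancel_mono iB, Category.assoc, hf₀, IsMonHom.one_hom iB, IsMonHom.one_hom u]
      mul_hom := by
        rw [← cancel_mono iB, Category.assoc, hf₀, IsMonHom.mul_hom u, Category.assoc, IsMonHom.mul_hom iB,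
          tensorHom_comp_tensorHom_assoc, hf₀] }
  have hcl : IsClosedImmersion f₀.left := by
    have h : IsClosedImmersion (f₀.left ≫ iB.left) := by rw [← Over.comp_left, hf₀]; infer_instance
    exact IsClosedImmersion.of_comp f₀.left iB.left
  obtain ⟨f, hf⟩ := huniv U f₀ hcl (Groth.Agent.Borel50.UnipBorel.isNormalHom_of_factor hnu iB f₀ hf₀) hsu hqu hgu
  exact ⟨f, by rw [← Category.assoc, hf, hf₀]⟩

end Groth.Agent.S17091
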