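import Groth.Statements.S17099
import Groth.Agent.Borel50.Luna.CentreNoUnip

set_option autoImplicit false
universe u
open CategoryTheory MonoidalCategory CartesianMonoidalCategory MonObj GrpObj AlgebraicGeometry
open AGF

namespace Groth.Agent.S17099

/-- Let p be a prime, k a field of characteristic p, G a reductive k-group scheme (affine, smooth,
connected reductive geometric fibre) and z : Z ⟶ G its scheme-theoretic centre. Then Z contains
neither α_p nor Z/pZ as a subgroup scheme: no homomorphism of k-group schemes from α_p (the spectrum
of k[X]/(X^p) with X primitive) to Z is a monomorphism, and no homomorphism from the constant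
k-group scheme of the cyclic group of order p to Z is a monomorphism. (Stated over every field of
characteristic p; applied over an algebraic closure of k to the base change of G, whose centre is
the base change of Z, this is the published assertion about the geometric centre.) -/
theorem result (p : ℕ) [Fact p.Prime]
    (k : Type u) [Field k] [CharP k p]
    (G : Over (Spec (CommRingCat.of k))) [GrpObj G] (hG : Red.IsReductive G)
    (Z : Over (Spec (CommRingCat.of k))) [GrpObj Z] (z : Z ⟶ G) (hz : Red.IsCentre z) :
    (∀ (φ : (Spec (CommRingCat.of (AlphaP.A p k))).asOver (Spec (CommRingCat.of k)) ⟶ Z), IsMonHom φ → ¬ Mono φ.left) ∧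
      (∀ (ψ : (Spec (CommRingCat.of (ConstGrp.F k (Multiplicative (ZMod p))))).asOver (Spec (CommRingCat.of k)) ⟶ Z),
        IsMonHom ψ → ¬ Mono ψ.left) := by
  refine ⟨fun φ hφ hm => ?_, fun ψ hψ hm => ?_⟩
  · have := hφ
    have : Mono φ := Over.mono_of_mono_left _
    have h := Groth.Agent.Borel50.Luna.CentreNoUnip.counit_eq
      (Groth.Agent.Borel50.Luna.CentreNoUnip.isUnipotent_alphaP p) hG z hz φ (AlphaP.x p k)
    rw [AlphaP.counit_x, map_zero] at h
    have h2 := congrArg (AlphaP.basis p k).repr h
    have hp : 1 < p := (Fact.out : p.Prime).one_lt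
    rw [map_zero, show AlphaP.x p k = AlphaP.basis p k ⟨1, hp⟩ by rw [AlphaP.basis_apply, pow_one],
      Module.Basis.repr_self] at h2
    exact one_ne_zero (Finsupp.single_eq_zero.1 h2)
  · have := hψ
    have : Mono ψ := Over.mono_of_mono_left _
    classical
    have hp : Fact (1 < p) := ⟨(Fact.out : p.Prime).one_lt⟩
    let m : Multiplicative (ZMod p) := Multiplicative.ofAdd 1
    have h := Groth.Agent.Borel50.Luna.CentreNoUnip.counit_eq
      (Groth.Agent.Borel50.Luna.CentreNoUnip.isUnipotent_const p) hG z hz ψ (ConstGrp.e k m)
    have h2 := congrArg (fun f : ConstGrp.F k (Multiplicative (ZMod p)) => f m) h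
    have hm1 : (1 : Multiplicative (ZMod p)) ≠ m := fun e =>
      (zero_ne_one : (0 : ZMod p) ≠ 1) (Multiplicative.ofAdd.injective (ofAdd_zero.trans e))
    simp [ConstGrp.e_apply, hm1] at h2

end Groth.Agent.S17099
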