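import Groth.Statements.S1712
import Groth.Agent.DualCx.Normalized
import Groth.Agent.Depth.Basic

set_option autoImplicit false
universe u
open CategoryTheory
attribute [local instance] HasDerivedCategory.standard
open Dual

namespace Groth.Agent.S1712

/-- Let A be a Noetherian local ring with a normalized dualizing complex ω, M a finite A-module and E^j
the A-module of maps M → ω[-j] in D(A). A prime p is in the support of one of E^0, …, E^i if and
only if the depth of M_p over A_p plus the dimension of A/p is at most i. -/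
theorem result (A : Type u) [CommRing A] [IsLocalRing A] [IsNoetherianRing A] (ω : Dual.D A) (hω : Dual.IsDualizing A ω) (hn : Dual.IsNormalized A ω) (M : Type u) [AddCommGroup M] [Module A M] [Module.Finite A M] (i : ℕ) (p : PrimeSpectrum A) : (∃ j : ℕ, j ≤ i ∧ p ∈ Module.support A (Dual.inD A M ⟶ ω⟦(-(j : ℤ))⟧)) ↔ ((LocCoh.depth (Localization.AtPrime p.asIdeal) (LocalizedModule p.asIdeal.primeCompl M) : ℕ∞) : WithBot ℕ∞) + ringKrullDim (A ⧸ p.asIdeal) ≤ (i : WithBot ℕ∞) := by
  have hsupp : ∀ j : ℕ, p ∈ Module.support A (Dual.inD A M ⟶ ω⟦(-(j : ℤ))⟧) ↔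
      ¬ DualCx.Dimfun.Z p (DualCx.Devissage.E M ω (-(j : ℤ))) := fun j => by
    rw [DualCx.Dimfun.Z_iff_localized, not_subsingleton_iff_nontrivial]
    exact Module.mem_support_iff
  rw [DualCx.Dimfun.ringKrullDim_quotient_eq hω hn p]
  have hdeg := DualCx.Dimfun.deg_nonpos hω hn p
  by_cases hM : Subsingleton (LocalizedModule p.asIdeal.primeCompl M)
  · refine iff_of_false ?_ ?_
    · rintro ⟨j, -, hj⟩
      refine (hsupp j).mp hj ?_
      rw [DualCx.Normalized.Z_E_iff hω]
      exact DualCx.Devissage.subsingleton_of_subsingleton _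
    · have : LocCoh.depth (Localization.AtPrime p.asIdeal) (LocalizedModule p.asIdeal.primeCompl M) = ⊤ :=
        if_pos (Subsingleton.elim _ _)
      rw [this]
      intro h
      have h2 : ((⊤ : ℕ∞) : WithBot ℕ∞) ≤ (((i : ℕ) : ℕ∞) : WithBot ℕ∞) :=
        le_trans (le_of_le_of_eq (le_add_of_nonneg_right (by
          exact_mod_cast (Nat.zero_le (-DualCx.Dimfun.deg hω p).toNat))) rfl) h
      exact absurd (WithBot.coe_le_coe.mp h2) (not_le.mpr (ENat.natCast_lt_top i))
  · have := not_subsingleton_iff_nontrivial.mp hM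
    obtain ⟨n, hn', hZ, hnZ⟩ := DualCx.Normalized.depth_spec hω p M
    rw [show LocCoh.depth (Localization.AtPrime p.asIdeal)
      (LocalizedModule p.asIdeal.primeCompl M) = n from hn']
    have hcast : (((n : ℕ∞) : WithBot ℕ∞) + (((-DualCx.Dimfun.deg hω p).toNat : ℕ) : WithBot ℕ∞)
        ≤ (i : WithBot ℕ∞)) ↔ n + (-DualCx.Dimfun.deg hω p).toNat ≤ i := by norm_cast
    refine Iff.trans ?_ hcast.symm
    constructor
    · rintro ⟨j, hji, hj⟩
      have : ¬ (DualCx.Dimfun.deg hω p - n < -(j : ℤ)) := fun h => (hsupp j).mp hj (hZ _ h)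
      omega
    · intro h
      refine ⟨n + (-DualCx.Dimfun.deg hω p).toNat, h, (hsupp _).mpr ?_⟩
      rw [show (-((n + (-DualCx.Dimfun.deg hω p).toNat : ℕ) : ℤ)) =
        DualCx.Dimfun.deg hω p - n by omega]
      exact hnZ

end Groth.Agent.S1712
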