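import Groth.Statements.S17120
import Groth.Agent.LiftLib.NCDLocal
import Groth.Agent.IdealSh.IdealMod
import Groth.Agent.IdealSh.RelFlat

set_option autoImplicit false
universe u
open CategoryTheory CategoryTheory.Limits AlgebraicGeometry
open Lift

set_option linter.style.haveILetI false

namespace Groth.Agent.S17120

/-- Let p be a prime, S~ a scheme flat over Z/p² with reduction S = S~ ×_{Z/p²} F_p (i_S : S → S~ the
cartesian closed immersion), S noetherian, and f : X → S a smooth morphism with X noetherian; let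
D_1, …, D_r be quasi-coherent ideal sheaves on X forming a strict normal crossing divisor relative
to S. Let X~ be a lifting of X to S~ (a flat g : X~ → S~ with j : X → X~ cartesian over i_S) and
D~_1, …, D~_r closed subschemes of X~, given by quasi-coherent ideal sheaves, with D~_m ×_{S~} S =
D_m, i.e. the ideal of D~_m pulled back along j is that of D_m. Then for each m the subscheme D~_m
is flat over S~ — so that it is a lifting of D_m — if and only if its ideal sheaf is an invertible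
O_{X~}-module, i.e. D~_m is an effective Cartier divisor in X~. (The published lemma adds a third
equivalent condition describing the liftings by étale coordinates.) -/
theorem result (p : ℕ) [Fact p.Prime]
    (Sl : Scheme.{u}) (gS : Sl ⟶ Spec (CommRingCat.of (ULift.{u} (ZMod (p ^ 2))))) [Flat gS]
    (S : Scheme.{u}) (iS : S ⟶ Sl) (fS : S ⟶ Spec (CommRingCat.of (ULift.{u} (ZMod p))))
    (hS : IsPullback iS fS gS (Spec.map (CommRingCat.ofHom
      ((ZMod.castHom (dvd_pow_self p two_ne_zero) (ULift.{u} (ZMod p))).comp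
        (ULift.ringEquiv : ULift.{u} (ZMod (p ^ 2)) ≃+* ZMod (p ^ 2)).toRingHom))))
    [IsNoetherian S]
    (X : Scheme.{u}) (f : X ⟶ S) [Smooth f] [IsNoetherian X]
    {r : ℕ} (D : Fin r → X.IdealSheafData) (hD : LogNCD.IsNCD D f)
    (Xl : Scheme.{u}) (g : Xl ⟶ Sl) [Flat g] (j : X ⟶ Xl) (hX : IsPullback j f g iS)
    (Dl : Fin r → Xl.IdealSheafData) (hDl : ∀ m, (Dl m).comap j = D m) (m : Fin r) :
    Flat ((Dl m).subschemeι ≫ g) ↔ PicF.IsInvertible (ClSub.idealMod (Dl m)) := by
  have hS' : IsPullback iS fS gS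
      (Spec.map (CommRingCat.ofHom (Groth.Agent.LiftLib.PBase.red.{u} p))) := hS
  constructor
  · intro hflat
    refine Groth.Agent.IdealSh.IdealMod.isInvertible_of_isEffCartierIdeal _ fun y => ?_
    obtain ⟨Ul, hyU, -⟩ := Groth.Agent.IdealSh.Comap.exists_affine_le (g y) ⊤ trivial
    obtain ⟨Vl, hle, hle', hyV, -, -, -, hjs, hjk, hcomm, hD'⟩ :=
      Groth.Agent.LiftLib.NCDLocal.exists_data hS' hX D hD Dl hDl y ⊤ trivial Ul hyU
    obtain ⟨t, ht, -, heq⟩ := hD' m
    have htI : t ∈ ((Dl m).ideal Vl).map (j.app Vl.1).hom :=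
      heq ▸ Ideal.mem_span_singleton_self t
    obtain ⟨s, hs, hst⟩ := (Ideal.mem_map_iff_of_surjective _ hjs).1 htI
    have hp := Groth.Agent.LiftLib.PBase.section_sq_eq_zero (p := p) (g ≫ gS) Vl.1
    have htor := Groth.Agent.LiftLib.PBase.exists_eq_mul_section (p := p) (g ≫ gS) Vl
    refine ⟨Vl, hyV, s,
      Groth.Agent.LiftLib.PBase.mul_eq_zero_imp p _ hjk hp (fun a ha => htor a ha) (hst ▸ ht), ?_⟩
    have hq := Groth.Agent.IdealSh.RelFlat.flat_quot_of_flat_subscheme g (Dl m) Ul Vl hle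
    have hgS := (gS.flat_appLE (isAffineOpen_top _) Ul.2 le_top)
    have hq' := RingHom.Flat.comp (RingHom.Flat.comp (RingHom.Flat.of_bijective
      (ConcreteCategory.bijective_of_isIso
        (Scheme.ΓSpecIso (CommRingCat.of (ULift.{u} (ZMod (p ^ 2))))).inv)) hgS) hq
    refine le_antisymm (fun a ha => ?_) ((Ideal.span_singleton_le_iff_mem _).2 hs)
    have key : ∀ a ∈ (Dl m).ideal Vl, ∃ c e, a = c * s + (p : Γ(Xl, Vl.1)) * e := by
      intro a ha
      have : (j.app Vl.1).hom a ∈ Ideal.span {t} := heq ▸ Ideal.mem_map_of_mem _ ha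
      obtain ⟨c, hc⟩ := Ideal.mem_span_singleton'.1 this
      obtain ⟨c, rfl⟩ := hjs c
      have h0 : a - c * s ∈ RingHom.ker (j.app Vl.1).hom := by
        rw [RingHom.mem_ker, map_sub, map_mul, hst, hc, sub_self]
      rw [hjk, Ideal.mem_span_singleton'] at h0
      obtain ⟨e, he⟩ := h0
      exact ⟨c, e, by linear_combination -he⟩
    obtain ⟨c, e, rfl⟩ := key a ha
    have hpe : (p : Γ(Xl, Vl.1)) * e ∈ (Dl m).ideal Vl := by
      have := sub_mem ha (Ideal.mul_mem_left _ c hs)
      simpa using this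
    obtain ⟨u, hu⟩ := Groth.Agent.LiftLib.PBase.exists_eq_mul_of_flat p _ hq'
      (Ideal.Quotient.mk ((Dl m).ideal Vl) e) (by
        rw [← map_natCast (Ideal.Quotient.mk ((Dl m).ideal Vl)), ← map_mul,
          Ideal.Quotient.eq_zero_iff_mem]
        exact hpe)
    obtain ⟨u, rfl⟩ := Ideal.Quotient.mk_surjective u
    rw [← map_natCast (Ideal.Quotient.mk ((Dl m).ideal Vl)), ← map_mul, Ideal.Quotient.eq] at hu
    obtain ⟨c', e', he'⟩ := key _ hu
    have hpe' : (p : Γ(Xl, Vl.1)) * e = (p : Γ(Xl, Vl.1)) * c' * s := by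
      linear_combination (p : Γ(Xl, Vl.1)) * he' + (u + e') * hp
    rw [hpe', ← add_mul]
    exact Ideal.mul_mem_left _ _ (Ideal.mem_span_singleton_self _)
  · intro hinv
    have hCart := Groth.Agent.IdealSh.IdealMod.isEffCartierIdeal_of_isInvertible _ hinv
    refine Groth.Agent.IdealSh.RelFlat.flat_subscheme_of_forall g (Dl m) fun y _ => ?_
    obtain ⟨Ul, hyU, -⟩ := Groth.Agent.IdealSh.Comap.exists_affine_le (g y) ⊤ trivial
    obtain ⟨V₁, hyV₁, hV₁le, s₁, hs₁, hs₁e⟩ :=
      Groth.Agent.IdealSh.EffCartier.exists_equation hCart y (g ⁻¹ᵁ Ul.1) hyU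
    obtain ⟨Vl, hle, hle', hyV, hVle, his, hik, hjs, hjk, hcomm, hD'⟩ :=
      Groth.Agent.LiftLib.NCDLocal.exists_data hS' hX D hD Dl hDl y V₁.1 hyV₁ Ul hyU
    obtain ⟨t, ht, htflat, heq⟩ := hD' m
    refine ⟨Ul, Vl, hle, hyV, ?_⟩
    obtain ⟨s, hse⟩ : ∃ s, (Dl m).ideal Vl = Ideal.span {s} :=
      ⟨_, by rw [← (Dl m).map_ideal (U := Vl) (V := V₁) hVle, hs₁e, Ideal.map_span,
        Set.image_singleton]⟩
    rw [hse, Ideal.map_span, Set.image_singleton] at heq
    rw [hse]
    have hp := Groth.Agent.LiftLib.PBase.section_sq_eq_zero (p := p) gS Ul.1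
    have hp' := Groth.Agent.LiftLib.PBase.section_sq_eq_zero (p := p) (g ≫ gS) Vl.1
    have htor := Groth.Agent.LiftLib.PBase.exists_eq_mul_section (p := p) (g ≫ gS) Vl
    have hsn : (j.app Vl.1).hom s ∈ nonZeroDivisors Γ(X, j ⁻¹ᵁ Vl.1) := by
      obtain ⟨d, hd⟩ := Ideal.mem_span_singleton'.1
        (show t ∈ Ideal.span {(j.app Vl.1).hom s} from heq ▸ Ideal.mem_span_singleton_self t)
      exact (mul_mem_nonZeroDivisors.1 (hd ▸ ht : d * (j.app Vl.1).hom s ∈ nonZeroDivisors _)).2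
    algebraize [(g.appLE Ul.1 Vl.1 hle).hom]
    letI : Algebra Γ(Sl, Ul.1) (Γ(Xl, Vl.1) ⧸ Ideal.span {s}) :=
      ((Ideal.Quotient.mk (Ideal.span {s})).comp (g.appLE Ul.1 Vl.1 hle).hom).toAlgebra
    show Module.Flat Γ(Sl, Ul.1) (Γ(Xl, Vl.1) ⧸ Ideal.span {s})
    refine Groth.Agent.LiftLib.PBase.flat_of_reduction p hp (fun q hq => ?_) ?_
    · obtain ⟨a, rfl⟩ := Ideal.Quotient.mk_surjective q
      rw [← map_natCast (Ideal.Quotient.mk (Ideal.span {s})), ← map_mul,
        Ideal.Quotient.eq_zero_iff_mem, Ideal.mem_span_singleton'] at hq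
      obtain ⟨b, hb⟩ := hq
      have hb0 : (j.app Vl.1).hom b = 0 := (mem_nonZeroDivisors_iff_right.1 hsn) _ (by
        rw [← map_mul, hb, ← RingHom.mem_ker, hjk]
        exact Ideal.mul_mem_right _ _ (Ideal.mem_span_singleton_self _))
      rw [← RingHom.mem_ker, hjk, Ideal.mem_span_singleton'] at hb0
      obtain ⟨c, rfl⟩ := hb0
      obtain ⟨e, he⟩ := htor (a - c * s) (by linear_combination -hb)
      refine ⟨Ideal.Quotient.mk _ e, ?_⟩
      rw [← map_natCast (Ideal.Quotient.mk (Ideal.span {s})), ← map_mul, Ideal.Quotient.eq, ← he,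
        sub_sub_cancel]
      exact Ideal.mul_mem_left _ _ (Ideal.mem_span_singleton_self _)
    · -- the reduction
      let σ : Γ(X, j ⁻¹ᵁ Vl.1) →+* (Γ(Xl, Vl.1) ⧸ Ideal.span {s}) ⧸
          Ideal.span {(p : Γ(Xl, Vl.1) ⧸ Ideal.span {s})} :=
        RingHom.liftOfSurjective (j.app Vl.1).hom hjs
          ⟨(Ideal.Quotient.mk _).comp (Ideal.Quotient.mk _), fun a ha => by
            rw [hjk] at ha
            obtain ⟨c, rfl⟩ := Ideal.mem_span_singleton'.1 ha
            rw [RingHom.mem_ker, RingHom.comp_apply, map_mul, map_natCast,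
              Ideal.Quotient.eq_zero_iff_mem]
            exact Ideal.mul_mem_left _ _ (Ideal.mem_span_singleton_self _)⟩
      have hσ : ∀ a, σ ((j.app Vl.1).hom a) = Ideal.Quotient.mk _ (Ideal.Quotient.mk _ a) :=
        fun a => RingHom.liftOfSurjective_comp_apply _ _ _ a
      have hσt : ∀ x ∈ Ideal.span {t}, σ x = 0 := by
        intro x hx
        rw [← heq] at hx
        obtain ⟨c, rfl⟩ := Ideal.mem_span_singleton'.1 hx
        rw [map_mul, hσ, Ideal.Quotient.eq_zero_iff_mem.2 (Ideal.mem_span_singleton_self s),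
          map_zero, mul_zero]
      let σ' := Ideal.Quotient.lift (Ideal.span {t}) σ hσt
      have hσ' : Function.Bijective σ' := by
        refine ⟨(injective_iff_map_eq_zero _).2 fun x hx => ?_, fun z => ?_⟩
        · obtain ⟨x, rfl⟩ := Ideal.Quotient.mk_surjective x
          obtain ⟨a, rfl⟩ := hjs x
          rw [Ideal.Quotient.lift_mk, hσ, Ideal.Quotient.eq_zero_iff_mem,
            Ideal.mem_span_singleton'] at hx
          obtain ⟨c, hc⟩ := hx
          obtain ⟨c, rfl⟩ := Ideal.Quotient.mk_surjective c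
          rw [← map_natCast (Ideal.Quotient.mk (Ideal.span {s})), ← map_mul, Ideal.Quotient.eq,
            Ideal.mem_span_singleton'] at hc
          obtain ⟨e, he⟩ := hc
          rw [Ideal.Quotient.eq_zero_iff_mem, ← heq, Ideal.mem_span_singleton']
          refine ⟨-(j.app Vl.1).hom e, ?_⟩
          rw [neg_mul, ← map_mul, he, map_sub]
          have hc0 : (j.app Vl.1).hom (c * (p : Γ(Xl, Vl.1))) = 0 := by
            rw [← RingHom.mem_ker, hjk]
            exact Ideal.mul_mem_left _ _ (Ideal.mem_span_singleton_self _)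
          rw [hc0, zero_sub, neg_neg]
        · obtain ⟨z, rfl⟩ := Ideal.Quotient.mk_surjective z
          obtain ⟨z, rfl⟩ := Ideal.Quotient.mk_surjective z
          exact ⟨Ideal.Quotient.mk _ ((j.app Vl.1).hom z), hσ z⟩
      let ε := (Ideal.quotEquivOfEq hik.symm).trans
        (RingHom.quotientKerEquivOfSurjective his)
      have h : ((σ'.comp ((Ideal.Quotient.mk (Ideal.span {t})).comp
          (f.appLE (iS ⁻¹ᵁ Ul.1) (j ⁻¹ᵁ Vl.1) hle').hom)).comp ε.toRingHom).Flat :=
        RingHom.Flat.comp (RingHom.Flat.of_bijective ε.bijective)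
          (RingHom.Flat.comp htflat (RingHom.Flat.of_bijective hσ'))
      convert h using 1
      refine Ideal.Quotient.ringHom_ext (RingHom.ext fun a => ?_)
      show Ideal.Quotient.mk _ (Ideal.Quotient.mk _ ((g.appLE Ul.1 Vl.1 hle).hom a)) =
        σ ((f.appLE (iS ⁻¹ᵁ Ul.1) (j ⁻¹ᵁ Vl.1) hle').hom (ε (Ideal.Quotient.mk _ a)))
      rw [show ε (Ideal.Quotient.mk _ a) = (iS.app Ul.1).hom a from rfl, ← RingHom.comp_apply
        (f.appLE (iS ⁻¹ᵁ Ul.1) (j ⁻¹ᵁ Vl.1) hle').hom, hcomm, RingHom.comp_apply, hσ]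

end Groth.Agent.S17120
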