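import Groth.Statements.S17129
import Groth.Agent.LiftLib.IdealLift
import Groth.Agent.LiftLib.LiftBase
import Groth.Agent.IdealSh.Comap

set_option autoImplicit false
universe u
open CategoryTheory CategoryTheory.Limits AlgebraicGeometry
open Lift

set_option linter.style.haveILetI false

namespace Groth.Agent.S17129

open Groth.Agent.LiftLib


/-- Let p be a prime, S~ a scheme flat over Z/p² with reduction S = S~ ×_{Z/p²} F_p (i : S → S~ the
cartesian closed immersion), S noetherian, and f : X → S smooth with X affine; let D_1, …, D_r be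
quasi-coherent ideal sheaves on X forming a strict normal crossing divisor relative to S. Any two
liftings of (X, D) to S~ — flat g_m : X~_m → S~ with j_m : X → X~_m cartesian over i, together with
closed subschemes D~_{m,1}, …, D~_{m,r} of X~_m flat over S~ whose ideals pull back along j_m to
those of the D_l (m = 1, 2) — are isomorphic as liftings: there is an isomorphism e : X~_1 ≅ X~_2
over S~ restricting to the identity of X (j_1 ≫ e = j_2, e ≫ g_2 = g_1) under which the ideal of the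
divisor D~_2 = Σ_l D~_{2,l}, i.e. the product ∏_l 𝓘_{D~_{2,l}}, pulls back to that of D~_1. -/
theorem result (p : ℕ) [Fact p.Prime]
    (Sl : Scheme.{u}) (gS : Sl ⟶ Spec (CommRingCat.of (ULift.{u} (ZMod (p ^ 2))))) [Flat gS]
    (S : Scheme.{u}) (iS : S ⟶ Sl) (fS : S ⟶ Spec (CommRingCat.of (ULift.{u} (ZMod p))))
    (hS : IsPullback iS fS gS (Spec.map (CommRingCat.ofHom
      ((ZMod.castHom (dvd_pow_self p two_ne_zero) (ULift.{u} (ZMod p))).comp
        (ULift.ringEquiv : ULift.{u} (ZMod (p ^ 2)) ≃+* ZMod (p ^ 2)).toRingHom))))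
    [IsNoetherian S]
    (X : Scheme.{u}) [IsAffine X] (f : X ⟶ S) [Smooth f]
    (X₁ X₂ : Scheme.{u}) (g₁ : X₁ ⟶ Sl) (g₂ : X₂ ⟶ Sl) [Flat g₁] [Flat g₂]
    (j₁ : X ⟶ X₁) (j₂ : X ⟶ X₂) (h₁ : IsPullback j₁ f g₁ iS) (h₂ : IsPullback j₂ f g₂ iS)
    {r : ℕ} (D : Fin r → X.IdealSheafData) (hD : LogNCD.IsNCD D f)
    (D₁ : Fin r → X₁.IdealSheafData) (D₂ : Fin r → X₂.IdealSheafData)
    (hD₁ : ∀ m, (D₁ m).comap j₁ = D m) (hD₂ : ∀ m, (D₂ m).comap j₂ = D m)
    (hD₁f : ∀ m, Flat ((D₁ m).subschemeι ≫ g₁)) (hD₂f : ∀ m, Flat ((D₂ m).subschemeι ≫ g₂)) :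
    ∃ e : X₁ ≅ X₂, j₁ ≫ e.hom = j₂ ∧ e.hom ≫ g₂ = g₁ ∧ (∏ m, D₂ m).comap e.hom = ∏ m, D₁ m := by
  have hS' : IsPullback iS fS gS
      (Spec.map (CommRingCat.ofHom (PBase.red.{u} p))) := hS
  classical
  haveI := PBase.isClosedImmersion_of_base hS'
  haveI := LiftBase.isAffine_lift hS' h₁
  haveI := LiftBase.isAffine_lift hS' h₂
  haveI : IsLocallyNoetherian X := LocallyOfFiniteType.isLocallyNoetherian f
  haveI : Smooth g₂ := LiftBase.smooth_lift hS' h₂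
  haveI : IsClosedImmersion j₁ := MorphismProperty.of_isPullback h₁.flip inferInstance
  haveI : IsClosedImmersion j₂ := MorphismProperty.of_isPullback h₂.flip inferInstance
  haveI := NCDLocal.surjective_lift hS' h₁
  haveI := NCDLocal.surjective_lift hS' h₂
  haveI := fun m => hD₁f m
  haveI := fun m => hD₂f m
  let T₁ : X₁.affineOpens := ⟨⊤, isAffineOpen_top _⟩
  let T₂ : X₂.affineOpens := ⟨⊤, isAffineOpen_top _⟩
  haveI : IsNoetherianRing Γ(X₁, ⊤) := LiftBase.isNoetherianRing_lift hS' h₁ T₁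
  haveI : IsNoetherianRing Γ(X₂, ⊤) := LiftBase.isNoetherianRing_lift hS' h₂ T₂
  obtain ⟨hs₁, hk₁⟩ : Function.Surjective j₁.appTop.hom ∧
      RingHom.ker j₁.appTop.hom = Ideal.span {(p : Γ(X₁, ⊤))} := by
    have h := LiftBase.appLE_props hS' h₁ T₁ rfl le_rfl
    rwa [← Scheme.Hom.app_eq_appLE] at h
  obtain ⟨hs₂, hk₂⟩ : Function.Surjective j₂.appTop.hom ∧
      RingHom.ker j₂.appTop.hom = Ideal.span {(p : Γ(X₂, ⊤))} := by
    have h := LiftBase.appLE_props hS' h₂ T₂ rfl le_rfl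
    rwa [← Scheme.Hom.app_eq_appLE] at h
  let I : Ideal Γ(X₁, ⊤) := Ideal.span {(p : Γ(X₁, ⊤))}
  have hp₁ := PBase.section_sq_eq_zero (p := p) (g₁ ≫ gS) (⊤ : X₁.Opens)
  have hp₂ := PBase.section_sq_eq_zero (p := p) (g₂ ≫ gS) (⊤ : X₂.Opens)
  have hI : I ^ 2 = ⊥ := by
    rw [pow_two, Ideal.span_singleton_mul_span_singleton, hp₁, Ideal.span_singleton_zero]
  let κ : Γ(X₁, ⊤) ⧸ I ≃+* Γ(X, ⊤) :=
    (Ideal.quotEquivOfEq hk₁.symm).trans (RingHom.quotientKerEquivOfSurjective hs₁)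
  let φ₀ : Γ(X₂, ⊤) →+* Γ(X₁, ⊤) ⧸ I := κ.symm.toRingHom.comp j₂.appTop.hom
  have hmk : Ideal.Quotient.mk I = κ.symm.toRingHom.comp j₁.appTop.hom :=
    RingHom.ext fun a => (κ.symm_apply_apply _).symm
  have hw : Spec.map (CommRingCat.ofHom (Ideal.Quotient.mk I)) ≫ X₁.isoSpec.inv ≫ g₁ =
      Spec.map (CommRingCat.ofHom φ₀) ≫ X₂.isoSpec.inv ≫ g₂ := by
    simp only [hmk, φ₀, CommRingCat.ofHom_comp, CommRingCat.ofHom_hom, Spec.map_comp, Category.assoc]
    rw [Scheme.isoSpec_inv_naturality_assoc, Scheme.isoSpec_inv_naturality_assoc, h₁.w, h₂.w]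
  let J₁ := fun m => (D₁ m).ideal T₁
  let J₂ := fun m => (D₂ m).ideal T₂
  have hJm₁ : ∀ m, (J₁ m).map j₁.appTop.hom = (D m).ideal ⟨⊤, isAffineOpen_top _⟩ := fun m => by
    rw [← hD₁ m, IdealSh.Comap.ideal_comap_of_isAffine]
  have hJm₂ : ∀ m, (J₂ m).map j₂.appTop.hom = (D m).ideal ⟨⊤, isAffineOpen_top _⟩ := fun m => by
    rw [← hD₂ m, IdealSh.Comap.ideal_comap_of_isAffine]
  have hJp₁ : ∀ m a, (p : Γ(X₁, ⊤)) * a ∈ J₁ m → ∃ i ∈ J₁ m, (p : Γ(X₁, ⊤)) * a =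
      (p : Γ(X₁, ⊤)) * i :=
    fun m a ha => LiftBase.exists_mem_eq_mul (gS := gS) g₁ (D₁ m) T₁ a ha
  have hIJ : ∀ m, I ⊓ J₁ m ≤ I * J₁ m := by
    rintro m z ⟨hzI, hzJ⟩
    obtain ⟨a, rfl⟩ := Ideal.mem_span_singleton'.1 hzI
    rw [SetLike.mem_coe, mul_comm a] at hzJ
    obtain ⟨i, hi, hie⟩ := hJp₁ m a hzJ
    rw [mul_comm a, hie]
    exact Ideal.mul_mem_mul (Ideal.mem_span_singleton_self _) hi
  have hJ₀ : ∀ m, (J₂ m).map φ₀ ≤ (J₁ m).map (Ideal.Quotient.mk I) := fun m => by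
    rw [hmk, ← Ideal.map_map, ← Ideal.map_map, hJm₁, hJm₂]
  have hloc : ∀ P : PrimeSpectrum Γ(X₁, ⊤), ∃ g ∉ P.asIdeal,
      ∃ φ : Γ(X₂, ⊤) →+* Localization.Away g,
        Spec.map (CommRingCat.ofHom φ) ≫ X₂.isoSpec.inv ≫ g₂ =
          Spec.map (CommRingCat.ofHom (algebraMap Γ(X₁, ⊤) (Localization.Away g))) ≫
            X₁.isoSpec.inv ≫ g₁ ∧
        (∀ a a', φ₀ a = Ideal.Quotient.mk I a' →
          φ a - algebraMap _ _ a' ∈ I.map (algebraMap _ (Localization.Away g))) ∧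
        ∀ m, (J₂ m).map φ ≤ (J₁ m).map (algebraMap _ (Localization.Away g)) := by
    intro P
    obtain ⟨x, hx⟩ := j₁.surjective (X₁.isoSpec.inv P)
    obtain ⟨U, hxU, -⟩ := IdealSh.Comap.exists_affine_le (g₁ (X₁.isoSpec.inv P)) ⊤ trivial
    have hfx : f x ∈ iS ⁻¹ᵁ U.1 := by
      show iS (f x) ∈ U.1
      rw [← Scheme.Hom.comp_apply, ← h₁.w, Scheme.Hom.comp_apply, hx]
      exact hxU
    obtain ⟨V, hle, n, ψ, e, hxV, -, hψC, hψe, he, hthr, hoff⟩ :=
      NCDChart.exists_chart f D hD x ⊤ trivial ⟨iS ⁻¹ᵁ U.1, U.2.preimage iS⟩ hfx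
    let W : X₁.Opens := g₁ ⁻¹ᵁ U.1 ⊓
      ⟨j₁ '' (V.1 : Set X), (Thick.Topo.isHomeomorph j₁).isOpenMap _ V.1.isOpen⟩
    obtain ⟨g, hgW, hxg⟩ := (isAffineOpen_top X₁).exists_basicOpen_le (V := W)
      ⟨X₁.isoSpec.inv P, hxU, ⟨x, hxV, hx⟩⟩ trivial
    obtain ⟨g', hg'⟩ := hs₂ (j₁.appTop g)
    refine ⟨g, ?_, ?_⟩
    · intro hgP
      have h := (isAffineOpen_top X₁).fromSpec_preimage_basicOpen g
      rw [IsAffineOpen.fromSpec_top] at h
      have h' : P ∈ (PrimeSpectrum.basicOpen g : TopologicalSpace.Opens _) := by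
        rw [← h]; exact hxg
      exact h' hgP
    let Vl : X₁.affineOpens := ⟨X₁.basicOpen g, (isAffineOpen_top X₁).basicOpen g⟩
    let Vl₂ : X₂.affineOpens := ⟨X₂.basicOpen g', (isAffineOpen_top X₂).basicOpen g'⟩
    let O : X.affineOpens := ⟨X.basicOpen (j₁.appTop g), (isAffineOpen_top X).basicOpen _⟩
    have hO₁ : O.1 = j₁ ⁻¹ᵁ Vl.1 := (Scheme.preimage_basicOpen j₁ g).symm
    have hO₂ : O.1 = j₂ ⁻¹ᵁ Vl₂.1 := by
      refine Eq.trans ?_ (Scheme.preimage_basicOpen j₂ g').symm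
      exact congrArg X.basicOpen hg'.symm
    have hleU : Vl.1 ≤ g₁ ⁻¹ᵁ U.1 := hgW.trans inf_le_left
    have hleU₂ : Vl₂.1 ≤ g₂ ⁻¹ᵁ U.1 := by
      intro z hz
      obtain ⟨y, rfl⟩ := j₂.surjective z
      have hy : y ∈ j₁ ⁻¹ᵁ Vl.1 := hO₁ ▸ (hO₂ ▸ hz : y ∈ O.1)
      show g₂ (j₂ y) ∈ U.1
      rw [← Scheme.Hom.comp_apply, h₂.w, ← h₁.w, Scheme.Hom.comp_apply]
      exact hleU hy
    have hOV : O.1 ≤ V.1 := by
      intro z hz
      have hz' : z ∈ j₁ ⁻¹ᵁ Vl.1 := hO₁ ▸ hz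
      obtain ⟨y, hy, hyz⟩ := (hgW hz').2
      exact (Thick.Topo.isHomeomorph j₁).injective hyz ▸ hy
    obtain ⟨hπs, hπk⟩ := LiftBase.appLE_props hS' h₁ Vl hO₁ hO₁.le
    obtain ⟨hπ₂s, hπ₂k⟩ := LiftBase.appLE_props hS' h₂ Vl₂ hO₂ hO₂.le
    let ρ := (g₁.appLE U.1 Vl.1 hleU).hom
    let ρ₂ := (g₂.appLE U.1 Vl₂.1 hleU₂).hom
    let π := (j₁.appLE Vl.1 O.1 hO₁.le).hom
    let π₂ := (j₂.appLE Vl₂.1 O.1 hO₂.le).hom
    have hcomp : π.comp ρ = π₂.comp ρ₂ := by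
      simp only [π, π₂, ρ, ρ₂, ← CommRingCat.hom_comp, Scheme.Hom.appLE_comp_appLE, h₁.w, h₂.w]
    let res : Γ(X, V.1) →+* Γ(X, O.1) := (X.presheaf.map (homOfLE hOV).op).hom
    have hres : res.Etale := by
      have h := HasRingHomProperty.appLE (P := @Etale) (𝟙 X : X ⟶ X) inferInstance V O
        (hOV : _ ≤ (𝟙 X : X ⟶ X) ⁻¹ᵁ V.1)
      simp only [Scheme.Hom.appLE, Scheme.Hom.id_app, Category.id_comp] at h
      exact h
    let πP : MvPolynomial (Fin n) Γ(Sl, U.1) →+* MvPolynomial (Fin n) Γ(S, iS ⁻¹ᵁ U.1) :=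
      MvPolynomial.map (iS.app U.1).hom
    have hπPs : Function.Surjective πP :=
      MvPolynomial.map_surjective _ (iS.app_surjective _ U.2)
    have hπPk : RingHom.ker πP = Ideal.span {(p : MvPolynomial (Fin n) Γ(Sl, U.1))} := by
      rw [MvPolynomial.ker_map, ← Scheme.Hom.ker_apply, PBase.ker_base_ideal hS' U, Ideal.map_span,
        Set.image_singleton, map_natCast]
    let ψ' := (res.comp ψ).comp πP
    have hψ'p : Ideal.span {(p : MvPolynomial (Fin n) Γ(Sl, U.1))} ≤ RingHom.ker ψ' := by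
      rw [← hπPk]
      exact fun a ha => by
        rw [RingHom.mem_ker] at ha ⊢
        simp only [ψ', RingHom.comp_apply, ha, map_zero]
    obtain ⟨φ, hφρ, hφπ, hφJ⟩ := PFlat.exists_local_hom ρ ρ₂ π π₂ hπs hπ₂s hπk hπ₂k hcomp
      (PBase.section_sq_eq_zero (p := p) gS U.1)
      (PBase.exists_eq_mul_section (p := p) (g₂ ≫ gS) Vl₂) ψ' (by
        rw [show ψ'.comp MvPolynomial.C = (res.comp (ψ.comp MvPolynomial.C)).comp (iS.app U.1).hom
          from RingHom.ext fun a => by simp [ψ', πP], hψC]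
        simp only [res, π, ρ, ← CommRingCat.hom_comp, Scheme.Hom.appLE_map,
          Scheme.Hom.app_eq_appLE iS, Scheme.Hom.appLE_comp_appLE, h₁.w]) hψ'p
      (by
        let ε := (Ideal.quotEquivOfEq hπPk.symm).trans (RingHom.quotientKerEquivOfSurjective hπPs)
        have h := RingHom.Etale.respectsIso.right (res.comp ψ) ε
          (RingHom.Etale.stableUnderComposition _ _ hψe hres)
        convert h using 1
        exact Ideal.Quotient.ringHom_ext (RingHom.ext fun a => rfl))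
      (fun m => (D₁ m).ideal Vl) (fun m => (D₂ m).ideal Vl₂)
      (fun m => LiftBase.exists_mem_eq_mul (gS := gS) g₁ (D₁ m) Vl)
      (fun m => LiftBase.exists_mem_eq_mul (gS := gS) g₂ (D₂ m) Vl₂)
      (fun m => x ∈ (D m).support) e he
      (fun i => by
        constructor
        · rw [← IdealSh.Comap.ideal_comap (D₁ i.1) j₁ Vl O hO₁.le, hD₁,
            ← (D i.1).map_ideal (U := O) (V := V) hOV, hthr i, Ideal.map_span, Set.image_singleton]
          simp [ψ', πP, res]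
          rfl
        · rw [← IdealSh.Comap.ideal_comap (D₂ i.1) j₂ Vl₂ O hO₂.le, hD₂,
            ← (D i.1).map_ideal (U := O) (V := V) hOV, hthr i, Ideal.map_span, Set.image_singleton]
          simp [ψ', πP, res]
          rfl)
      (fun m hm => by
        rw [← IdealSh.Comap.ideal_comap (D₁ m) j₁ Vl O hO₁.le, hD₁,
          ← (D m).map_ideal (U := O) (V := V) hOV, hoff m hm, Ideal.map_top])
    haveI : IsLocalization.Away g Γ(X₁, Vl.1) := (isAffineOpen_top X₁).isLocalization_basicOpen g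
    let ε : Γ(X₁, Vl.1) ≃ₐ[Γ(X₁, ⊤)] Localization.Away g :=
      IsLocalization.algEquiv (Submonoid.powers g) _ _
    let r₁ := X₁.presheaf.map (homOfLE (le_top : Vl.1 ≤ ⊤)).op
    let r₂ := X₂.presheaf.map (homOfLE (le_top : Vl₂.1 ≤ ⊤)).op
    have halg : algebraMap Γ(X₁, ⊤) (Localization.Away g) = ε.toRingEquiv.toRingHom.comp r₁.hom :=
      RingHom.ext fun a => (ε.commutes a).symm
    refine ⟨(ε.toRingEquiv.toRingHom.comp φ).comp r₂.hom, ?_, fun a a' haa => ?_, fun m => ?_⟩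
    · rw [halg]
      simp only [CommRingCat.ofHom_comp, CommRingCat.ofHom_hom, Spec.map_comp, Category.assoc, r₁, r₂]
      rw [reassoc_of% (LiftBase.specMap_res_isoSpec Vl₂), reassoc_of% (LiftBase.specMap_res_isoSpec Vl),
        ← IsAffineOpen.SpecMap_appLE_fromSpec g₂ U.2 Vl₂.2 hleU₂,
        ← IsAffineOpen.SpecMap_appLE_fromSpec g₁ U.2 Vl.2 hleU]
      simp only [← Spec.map_comp_assoc, ← Category.assoc (g₂.appLE U.1 Vl₂.1 hleU₂)]
      rw [show g₂.appLE U.1 Vl₂.1 hleU₂ ≫ CommRingCat.ofHom φ = g₁.appLE U.1 Vl.1 hleU from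
        CommRingCat.hom_ext hφρ]
    · have h1 : j₂.appTop a = j₁.appTop a' := by
        rw [hmk] at haa
        exact κ.symm.injective haa
      have h2 : φ (r₂ a) - r₁ a' ∈ RingHom.ker π := by
        rw [RingHom.mem_ker, map_sub, sub_eq_zero, ← RingHom.comp_apply, hφπ]
        exact (LiftBase.appTop_res j₂ hO₂.le a).trans
          ((congrArg _ h1).trans (LiftBase.appTop_res j₁ hO₁.le a').symm)
      rw [hπk] at h2
      have h3 := Ideal.mem_map_of_mem ε.toRingEquiv.toRingHom h2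
      rw [Ideal.map_span, Set.image_singleton, map_natCast, map_sub] at h3
      rw [Ideal.map_span, Set.image_singleton, map_natCast, halg]
      exact h3
    · rw [← Ideal.map_map, ← Ideal.map_map]
      rw [show (J₂ m).map r₂.hom = (D₂ m).ideal Vl₂ from
        (D₂ m).map_ideal (U := Vl₂) (V := T₂) (le_top : Vl₂.1 ≤ ⊤)]
      refine (Ideal.map_mono (hφJ m)).trans (le_of_eq ?_)
      rw [halg, ← Ideal.map_map]
      exact congrArg _ ((D₁ m).map_ideal (U := Vl) (V := T₁) (le_top : Vl.1 ≤ ⊤)).symm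
  obtain ⟨φ, hφw, hφ₀, hφJ⟩ := IdealLift.exists_lift I hI J₁ J₂
    (fun m => IsNoetherian.noetherian _) (fun m => IsNoetherian.noetherian _) hIJ φ₀ hw hJ₀ hloc
  have hφq : j₁.appTop.hom.comp φ = j₂.appTop.hom := RingHom.ext fun a =>
    κ.symm.injective (show (κ.symm.toRingHom.comp j₁.appTop.hom) (φ a) = φ₀ a by
      rw [← hmk]; exact RingHom.congr_fun hφ₀ a)
  have hbij : Function.Bijective φ := PFlat.bijective_of_reduction _ _ hk₁ hk₂ hs₂ hp₁ hp₂
    (PBase.exists_eq_mul_section (p := p) (g₁ ≫ gS) T₁) φ hφq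
  let e : X₁ ≅ X₂ := X₁.isoSpec ≪≫
    Scheme.Spec.mapIso (RingEquiv.ofBijective φ hbij).toCommRingCatIso.op ≪≫ X₂.isoSpec.symm
  have hehom : e.hom = X₁.isoSpec.hom ≫ Spec.map (CommRingCat.ofHom φ) ≫ X₂.isoSpec.inv := rfl
  have hetop : e.hom.appTop.hom = φ := by
    rw [hehom, Scheme.Hom.comp_appTop]
    refine RingHom.ext fun a => ?_
    show X₁.isoSpec.hom.appTop ((Spec.map (CommRingCat.ofHom φ) ≫ X₂.isoSpec.inv).appTop a) = _
    rw [IdealLift.appTop_point, Scheme.isoSpec_hom, Scheme.toSpecΓ_appTop]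
    exact ConcreteCategory.congr_hom (Scheme.ΓSpecIso (CommRingCat.of Γ(X₁, ⊤))).inv_hom_id _
  refine ⟨e, ?_, ?_, ?_⟩
  · rw [hehom, ← Scheme.isoSpec_hom_naturality_assoc, ← Spec.map_comp_assoc,
      show CommRingCat.ofHom φ ≫ j₁.appTop = j₂.appTop from CommRingCat.hom_ext hφq,
      Scheme.isoSpec_inv_naturality, Iso.hom_inv_id_assoc]
  · rw [hehom, Category.assoc, Category.assoc, hφw, Iso.hom_inv_id_assoc]
  · have hm : ∀ m, (D₂ m).comap e.hom = D₁ m := fun m => by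
      refine Scheme.IdealSheafData.ext_of_isAffine ?_
      rw [IdealSh.Comap.ideal_comap_of_isAffine, hetop]
      refine PFlat.eq_of_le_of_map_eq _ hs₁ hk₁ hp₁ (hφJ m) ?_ (hJp₁ m)
      rw [Ideal.map_map, hφq, hJm₁, hJm₂]
    refine Finset.induction_on (Finset.univ : Finset (Fin r)) ?_ fun m s hms ih => ?_
    · simp only [Finset.prod_empty]
      rw [Scheme.IdealSheafData.one_eq_top, Scheme.IdealSheafData.one_eq_top]
      exact IdealSh.Comap.comap_eq_top_of_disjoint _ _ (by simp)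
    · rw [Finset.prod_insert hms, Finset.prod_insert hms, IdealSh.Comap.comap_mul, hm, ih]

end Groth.Agent.S17129
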