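import Groth.Statements.S17130
import Groth.Agent.LiftLib.NCDLocal
import Groth.Agent.IdealSh.RelFlat
import Groth.Agent.IndAlg.EtaleLift

set_option autoImplicit false
universe u
open CategoryTheory CategoryTheory.Limits AlgebraicGeometry
open Lift

set_option linter.style.haveILetI false

namespace Groth.Agent.S17130

/-- Let p be a prime, S~ a scheme flat over Z/p² with reduction S = S~ ×_{Z/p²} F_p (i : S → S~ the
cartesian closed immersion), S noetherian, f : X → S smooth with X noetherian, and D_1, …, D_r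
quasi-coherent ideal sheaves on X forming a strict normal crossing divisor relative to S. Then
locally in the Zariski topology the pair (X, D) lifts to S~: every point of X has an open
neighbourhood U with a flat g : U~ → S~ and j : U → U~ cartesian over i, together with closed
subschemes D~_1, …, D~_r of U~ (quasi-coherent ideals), flat over S~, whose ideals pull back along j
to the restrictions of the D_m to U. -/
theorem result (p : ℕ) [Fact p.Prime]
    (Sl : Scheme.{u}) (gS : Sl ⟶ Spec (CommRingCat.of (ULift.{u} (ZMod (p ^ 2))))) [Flat gS]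
    (S : Scheme.{u}) (iS : S ⟶ Sl) (fS : S ⟶ Spec (CommRingCat.of (ULift.{u} (ZMod p))))
    (hS : IsPullback iS fS gS (Spec.map (CommRingCat.ofHom
      ((ZMod.castHom (dvd_pow_self p two_ne_zero) (ULift.{u} (ZMod p))).comp
        (ULift.ringEquiv : ULift.{u} (ZMod (p ^ 2)) ≃+* ZMod (p ^ 2)).toRingHom))))
    [IsNoetherian S]
    (X : Scheme.{u}) (f : X ⟶ S) [Smooth f] [IsNoetherian X]
    {r : ℕ} (D : Fin r → X.IdealSheafData) (hD : LogNCD.IsNCD D f) (x : X) :
    ∃ U : X.Opens, x ∈ U ∧ ∃ (Ul : Scheme.{u}) (g : Ul ⟶ Sl) (j : (U : Scheme.{u}) ⟶ Ul),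
      Flat g ∧ IsPullback j (U.ι ≫ f) g iS ∧
        ∃ Dl : Fin r → Ul.IdealSheafData, ∀ m, (Dl m).comap j = (D m).comap U.ι ∧ Flat ((Dl m).subschemeι ≫ g) := by
  have hS' : IsPullback iS fS gS
      (Spec.map (CommRingCat.ofHom (Groth.Agent.LiftLib.PBase.red.{u} p))) := hS
  classical
  haveI := Groth.Agent.LiftLib.PBase.isClosedImmersion_of_base hS'
  obtain ⟨Ul, hxU, -⟩ := Groth.Agent.IdealSh.Comap.exists_affine_le (iS (f x)) ⊤ trivial
  obtain ⟨V, hle, n, ψ, e, hxV, -, hψC, hψe, -, hthr, hoff⟩ :=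
    Groth.Agent.LiftLib.NCDChart.exists_chart f D hD x ⊤ trivial
      ⟨iS ⁻¹ᵁ Ul.1, Ul.2.preimage iS⟩ hxU
  haveI : IsAffine (V.1 : Scheme.{u}) := V.2
  let P := MvPolynomial (Fin n) Γ(Sl, Ul.1)
  let π : P →+* MvPolynomial (Fin n) Γ(S, iS ⁻¹ᵁ Ul.1) := MvPolynomial.map (iS.app Ul.1).hom
  have hπs : Function.Surjective π :=
    MvPolynomial.map_surjective _ (iS.app_surjective _ Ul.2)
  have hik : RingHom.ker (iS.app Ul.1).hom = Ideal.span {(p : Γ(Sl, Ul.1))} := by
    rw [← Scheme.Hom.ker_apply, Groth.Agent.LiftLib.PBase.ker_base_ideal hS' Ul]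
  have hπk : RingHom.ker π = Ideal.span {(p : P)} := by
    rw [MvPolynomial.ker_map, hik, Ideal.map_span, Set.image_singleton, map_natCast]
  let φ₀ := RingHom.quotientKerEquivOfSurjective hπs
  letI : Algebra (P ⧸ RingHom.ker π) Γ(X, V.1) := (ψ.comp φ₀.toRingHom).toAlgebra
  letI : Algebra P Γ(X, V.1) := (ψ.comp π).toAlgebra
  haveI := IsScalarTower.of_algebraMap_eq (R := P) (S := P ⧸ RingHom.ker π) (A := Γ(X, V.1))
    fun _ => rfl
  haveI : Algebra.Etale (P ⧸ RingHom.ker π) Γ(X, V.1) :=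
    (RingHom.Etale.respectsIso.right ψ φ₀ hψe : (ψ.comp φ₀.toRingHom).Etale)
  obtain ⟨C, _, _, hC, ⟨ε⟩⟩ :=
    Groth.Agent.IndAlg.EtaleLift.exists_lift P (RingHom.ker π) Γ(X, V.1)
  let ec : C →+* Γ(X, V.1) := ε.toRingEquiv.toRingHom.comp (Ideal.Quotient.mk _)
  have hecs : Function.Surjective ec := ε.surjective.comp Ideal.Quotient.mk_surjective
  have heck : RingHom.ker ec = Ideal.span {(p : C)} := by
    have h1 : RingHom.ker ec = (RingHom.ker π).map (algebraMap P C) := by
      refine Eq.trans ?_ (Ideal.mk_ker (I := (RingHom.ker π).map (algebraMap P C)))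
      ext c
      exact map_eq_zero_iff _ ε.toRingEquiv.injective
    rw [h1, hπk, Ideal.map_span, Set.image_singleton, map_natCast]
  have hecp : ∀ a : P, ec (algebraMap P C a) = ψ (π a) := fun a => ε.commutes a
  let j : (V.1 : Scheme.{u}) ⟶ Spec (CommRingCat.of C) :=
    V.2.isoSpec.hom ≫ Spec.map (CommRingCat.ofHom ec)
  haveI : IsClosedImmersion (Spec.map (CommRingCat.ofHom ec)) :=
    IsClosedImmersion.spec_of_surjective _ hecs
  haveI : IsClosedImmersion j := inferInstance
  let α : Γ(Sl, Ul.1) ⟶ CommRingCat.of C :=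
    CommRingCat.ofHom ((algebraMap P C).comp MvPolynomial.C)
  haveI : Algebra.Etale P C := hC
  have hPC : (algebraMap P C).Flat := RingHom.flat_algebraMap_iff.2 inferInstance
  have hα : α.hom.Flat := by
    refine RingHom.Flat.comp ?_ hPC
    exact RingHom.flat_algebraMap_iff.2
      (inferInstance : Module.Flat Γ(Sl, Ul.1) (MvPolynomial (Fin n) Γ(Sl, Ul.1)))
  let g : Spec (CommRingCat.of C) ⟶ Sl := Spec.map α ≫ Ul.2.fromSpec
  have hg : Flat g := by
    haveI : Flat (Spec.map α) := (HasRingHomProperty.Spec_iff (P := @Flat)).2 hα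
    haveI : IsOpenImmersion Ul.2.fromSpec := IsAffineOpen.isOpenImmersion_fromSpec Ul.2
    exact MorphismProperty.comp_mem @Flat (Spec.map α) Ul.2.fromSpec ‹_› inferInstance
  have hcomm : α ≫ CommRingCat.ofHom ec = iS.app Ul.1 ≫ f.appLE (iS ⁻¹ᵁ Ul.1) V.1 hle := by
    ext a
    show ec (algebraMap P C (MvPolynomial.C a)) = _
    rw [hecp, MvPolynomial.map_C]
    exact RingHom.congr_fun hψC _
  have hw : j ≫ g = (V.1.ι ≫ f) ≫ iS := by
    show (V.2.isoSpec.hom ≫ Spec.map (CommRingCat.ofHom ec)) ≫ Spec.map α ≫ Ul.2.fromSpec = _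
    rw [Category.assoc, ← Category.assoc (Spec.map (CommRingCat.ofHom ec)), ← Spec.map_comp, hcomm,
      Scheme.Hom.app_eq_appLE, Scheme.Hom.appLE_comp_appLE,
      Ul.2.SpecMap_appLE_fromSpec (f ≫ iS) V.2, ← Category.assoc]
    erw [IsAffineOpen.isoSpec_hom_fromSpec]
    rw [Category.assoc]
  have hgpre : (⊤ : (Spec (CommRingCat.of C)).Opens) ≤ g ⁻¹ᵁ Ul.1 := by
    intro z _
    show Ul.2.fromSpec (Spec.map α z) ∈ (Ul.1 : Set Sl)
    rw [← Ul.2.range_fromSpec]
    exact ⟨_, rfl⟩
  let τ := (Scheme.ΓSpecIso (CommRingCat.of C)).commRingCatIsoToRingEquiv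
  -- kernel of `j` on global sections
  have hjk : j.ker.ideal ⟨⊤, isAffineOpen_top _⟩ =
      Ideal.span {(p : Γ(Spec (CommRingCat.of C), ⊤))} := by
    show (V.2.isoSpec.hom ≫ Spec.map (CommRingCat.ofHom ec)).ker.ideal _ = _
    rw [Scheme.Hom.ker_comp_of_isIso, Scheme.Hom.ker_apply]
    show RingHom.ker (Spec.map (CommRingCat.ofHom ec)).appTop.hom = _
    have hnat := Scheme.ΓSpecIso_naturality (CommRingCat.ofHom ec)
    ext a
    rw [RingHom.mem_ker,
      ← map_eq_zero_iff (Scheme.ΓSpecIso Γ(X, V.1)).commRingCatIsoToRingEquiv (RingEquiv.injective _),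
      show (Scheme.ΓSpecIso Γ(X, V.1)).commRingCatIsoToRingEquiv
        ((Spec.map (CommRingCat.ofHom ec)).appTop.hom a) = ec (τ a) from
          ConcreteCategory.congr_hom hnat a,
      ← RingHom.mem_ker, heck, Ideal.mem_span_singleton, Ideal.mem_span_singleton,
      ← map_natCast τ, map_dvd_iff]
  have hpb : IsPullback j (V.1.ι ≫ f) g iS := by
    refine isPullback_of_isClosedImmersion j iS (V.1.ι ≫ f) g hw ?_
    refine Scheme.IdealSheafData.ext_of_isAffine ?_
    rw [Groth.Agent.IdealSh.Comap.ideal_comap _ g Ul ⟨⊤, isAffineOpen_top _⟩ hgpre, hjk,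
      Groth.Agent.LiftLib.PBase.ker_base_ideal hS' Ul, Ideal.map_span, Set.image_singleton,
      map_natCast]
  let t : Fin r → Γ(Spec (CommRingCat.of C), ⊤) := fun m =>
    if hm : x ∈ (D m).support then τ.symm (algebraMap P C (MvPolynomial.X (e ⟨m, hm⟩))) else 1
  have htop : ∀ (I : Ideal Γ(Spec (CommRingCat.of C), ⊤)) (h : IsAffineOpen _),
      (Scheme.IdealSheafData.ofIdealTop I).ideal ⟨⊤, h⟩ = I := fun I h => by
    simp only [Scheme.IdealSheafData.ofIdealTop_ideal]
    rw [show (homOfLE (le_top : (⊤ : (Spec (CommRingCat.of C)).Opens) ≤ ⊤)).op = 𝟙 _ from rfl,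
      CategoryTheory.Functor.map_id, CommRingCat.hom_id, Ideal.map_id]
  refine ⟨V.1, hxV, Spec (CommRingCat.of C), g, j, hg, hpb,
    fun m => Scheme.IdealSheafData.ofIdealTop (Ideal.span {t m}), fun m => ⟨?_, ?_⟩⟩
  · refine Scheme.IdealSheafData.ext_of_isAffine ?_
    rw [Groth.Agent.IdealSh.Comap.ideal_comap_of_isAffine,
      Groth.Agent.IdealSh.Comap.ideal_comap (D m) V.1.ι V ⟨⊤, isAffineOpen_top _⟩
        V.1.ι_preimage_self.ge]
    rw [htop, Ideal.map_span, Set.image_singleton]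
    by_cases hm : x ∈ (D m).support
    · rw [hthr ⟨m, hm⟩, Ideal.map_span, Set.image_singleton]
      simp only [t, dif_pos hm]
      congr 2
      set a := algebraMap P C (MvPolynomial.X (e ⟨m, hm⟩)) with ha
      have h2 : V.1.ι.appLE V.1 ⊤ V.1.ι_preimage_self.ge = V.1.topIso.inv := by
        simp [Scheme.Opens.topIso_inv, Scheme.Opens.ι_appLE]
        rfl
      have h3 : (Spec.map (CommRingCat.ofHom ec)).appTop ≫ V.2.isoSpec.hom.appTop =
          (Scheme.ΓSpecIso (CommRingCat.of C)).hom ≫ CommRingCat.ofHom ec ≫ V.1.topIso.inv := by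
        rw [← Category.assoc, ← Scheme.ΓSpecIso_naturality, Category.assoc]
        congr 1
        exact V.2.isoSpec_hom_appTop
      show (V.2.isoSpec.hom ≫ Spec.map (CommRingCat.ofHom ec)).appTop (τ.symm a) = _
      rw [Scheme.Hom.comp_appTop, h3, h2]
      show V.1.topIso.inv (ec (τ (τ.symm a))) = _
      rw [τ.apply_symm_apply, ha, hecp, MvPolynomial.map_X]
    · rw [hoff m hm, Ideal.map_top]
      simp only [t, dif_neg hm, map_one, Ideal.span_singleton_one]
  · refine Groth.Agent.IdealSh.RelFlat.flat_subscheme_of_forall g _ fun z _ =>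
      ⟨Ul, ⟨⊤, isAffineOpen_top _⟩, hgpre, trivial, ?_⟩
    rw [htop]
    by_cases hm : x ∈ (D m).support
    · rw [show t m = τ.symm (algebraMap P C (MvPolynomial.X (e ⟨m, hm⟩))) from dif_pos hm]
      have hflat : (τ.symm.toRingHom.comp (algebraMap P C)).Flat :=
        RingHom.Flat.comp hPC (RingHom.Flat.of_bijective τ.symm.bijective)
      have h := (Groth.Agent.LiftLib.NCDLocal.coord_of_flat _ hflat (e ⟨m, hm⟩)).2
      have e1 : g.appLE Ul.1 ⊤ hgpre = α ≫ (Scheme.ΓSpecIso (CommRingCat.of C)).inv := by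
        show (Spec.map α ≫ Ul.2.fromSpec).appLE Ul.1 ⊤ hgpre = _
        rw [Scheme.Hom.appLE, Scheme.Hom.comp_app, Ul.2.fromSpec_app_self]
        simp
        erw [← Functor.map_comp]
        rw [Subsingleton.elim (_ ≫ _) (𝟙 _)]
        erw [CategoryTheory.Functor.map_id, Category.comp_id]
      rw [e1]
      exact h
    · rw [show t m = 1 from dif_neg hm]
      haveI : Subsingleton (Γ(Spec (CommRingCat.of C), ⊤) ⧸
          Ideal.span {(1 : Γ(Spec (CommRingCat.of C), ⊤))}) :=
        Ideal.Quotient.subsingleton_iff.2 Ideal.span_singleton_one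
      algebraize [((Ideal.Quotient.mk (Ideal.span {(1 : Γ(Spec (CommRingCat.of C), ⊤))})).comp
        (g.appLE Ul.1 ⊤ hgpre).hom)]
      exact RingHom.flat_algebraMap_iff.2 inferInstance

end Groth.Agent.S17130
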