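import Groth.Statements.S17131
import Groth.Agent.LiftLib.IdealLift
import Groth.Agent.LiftLib.LiftBase
import Groth.Agent.LiftLib.TwistChart
import Groth.Agent.IdealSh.Comap
import Groth.Agent.S14931

set_option autoImplicit false
universe u
open CategoryTheory CategoryTheory.Limits AlgebraicGeometry
open Lift

set_option linter.style.haveILetI false

namespace Groth.Agent.S17131

open Groth.Agent.LiftLib

/-- A finite map modulo a square-zero `p` is finite. -/
theorem finite_of_reduction {p : ℕ} {A A' B : Type u} [CommRing A] [CommRing A'] [CommRing B]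
    (φ : A' →+* A) (π : A →+* B) (hπs : Function.Surjective π)
    (hπ : RingHom.ker π = Ideal.span {(p : A)}) (hp : (p : A) * (p : A) = 0)
    (hfin : (π.comp φ).Finite) : φ.Finite := by
  classical
  algebraize [φ]
  letI : Algebra A' B := (π.comp φ).toAlgebra
  haveI : Module.Finite A' B := hfin
  let q : A →ₐ[A'] B := { π with commutes' := fun _ => rfl }
  obtain ⟨s, hs⟩ := (Module.Finite.fg_top : (⊤ : Submodule A' B).FG)
  choose l hl using hπs
  refine ⟨⟨s.image l, ?_⟩⟩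
  set M : Submodule A' A := Submodule.span A' ((s.image l : Finset A) : Set A) with hM
  have hMq : M.map q.toLinearMap = ⊤ := by
    rw [hM, Submodule.map_span, Finset.coe_image, Set.image_image]
    have e : (fun b => q.toLinearMap (l b)) '' (s : Set B) = s :=
      (Set.image_congr fun b _ => hl b).trans (Set.image_id _)
    rw [e, hs]
  have key : ∀ a : A, ∃ m ∈ M, ∃ c, a = m + (p : A) * c := fun a => by
    obtain ⟨m, hm, hme⟩ : q a ∈ M.map q.toLinearMap := hMq ▸ trivial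
    have h : a - m ∈ RingHom.ker π := by
      rw [RingHom.mem_ker, map_sub, sub_eq_zero]; exact hme.symm
    rw [hπ, Ideal.mem_span_singleton'] at h
    obtain ⟨c, hc⟩ := h
    exact ⟨m, hm, c, by linear_combination -hc⟩
  refine eq_top_iff.2 fun a _ => ?_
  obtain ⟨m, hm, c, rfl⟩ := key a
  obtain ⟨m', hm', c', rfl⟩ := key c
  rw [mul_add, ← mul_assoc, hp, zero_mul, add_zero]
  refine add_mem hm ?_
  rw [← map_natCast (algebraMap A' A), ← Algebra.smul_def]
  exact Submodule.smul_mem _ _ hm'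


/-- Let p be a prime, S~ a scheme flat over Z/p² with reduction S = S~ ×_{Z/p²} F_p (i : S → S~ the
cartesian closed immersion), S noetherian of characteristic p, and f : X → S smooth with X affine;
let X' = X ×_{S,F_S} S be the Frobenius twist, viewed over S by the second projection, F : X → X'
the relative Frobenius, D_1, …, D_r a relative strict normal crossing divisor on X and D'_m =
F_S^*D_m its pullback to X' (along the first projection). Let (X~, D~) be a lifting of (X, D) to S~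
— g : X~ → S~ flat with j : X → X~ cartesian over i, and closed subschemes D~_m ⊂ X~ flat over S~
whose ideals pull back along j to those of the D_m — and (X~', D~') a lifting of (X', D') in the
same sense. Then the relative Frobenius lifts compatibly with the divisors: there is a finite
morphism F~ : X~ → X~' over S~ with j ≫ F~ = F ≫ j' such that the ideal of D~' = Σ D~'_m pulls back
along F~ to the p-th power of the ideal of D~ = Σ D~_m, i.e. F~^*O(−D~') = O(−p·D~). (The section's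
standing assumptions also fix a lifting of the Frobenius of S to S~; it is not used and not assumed
here.) -/
theorem result (p : ℕ) [Fact p.Prime]
    (Sl : Scheme.{u}) (gS : Sl ⟶ Spec (CommRingCat.of (ULift.{u} (ZMod (p ^ 2))))) [Flat gS]
    (S : Scheme.{u}) (iS : S ⟶ Sl) (fS : S ⟶ Spec (CommRingCat.of (ULift.{u} (ZMod p))))
    (hS : IsPullback iS fS gS (Spec.map (CommRingCat.ofHom
      ((ZMod.castHom (dvd_pow_self p two_ne_zero) (ULift.{u} (ZMod p))).comp
        (ULift.ringEquiv : ULift.{u} (ZMod (p ^ 2)) ≃+* ZMod (p ^ 2)).toRingHom))))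
    [IsNoetherian S]
    [FrobSch.IsCharP S p]
    (X : Scheme.{u}) [IsAffine X] (f : X ⟶ S) [Smooth f]
    (Xl : Scheme.{u}) (g : Xl ⟶ Sl) [Flat g] (j : X ⟶ Xl) (h : IsPullback j f g iS)
    (Xl' : Scheme.{u}) (g' : Xl' ⟶ Sl) [Flat g'] (j' : FrobSch.frobTwist f p ⟶ Xl')
    (h' : IsPullback j' (pullback.snd f (FrobSch.frob S p)) g' iS)
    {r : ℕ} (D : Fin r → X.IdealSheafData) (hD : LogNCD.IsNCD D f)
    (Dl : Fin r → Xl.IdealSheafData) (hDl : ∀ m, (Dl m).comap j = D m) (hDlf : ∀ m, Flat ((Dl m).subschemeι ≫ g))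
    (Dl' : Fin r → Xl'.IdealSheafData)
    (hDl' : ∀ m, (Dl' m).comap j' = (D m).comap (pullback.fst f (FrobSch.frob S p)))
    (hDl'f : ∀ m, Flat ((Dl' m).subschemeι ≫ g')) :
    ∃ Fl : Xl ⟶ Xl', IsFinite Fl ∧ j ≫ Fl = FrobSch.relFrob f p ≫ j' ∧ Fl ≫ g' = g ∧
      (∏ m, Dl' m).comap Fl = (∏ m, Dl m) ^ p := by
  have hS' : IsPullback iS fS gS
      (Spec.map (CommRingCat.ofHom (PBase.red.{u} p))) := hS
  classical
  haveI := PBase.isClosedImmersion_of_base hS'
  let a := pullback.fst f (FrobSch.frob S p)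
  let b := pullback.snd f (FrobSch.frob S p)
  haveI : FrobSch.IsCharP X p := FrobSch.IsCharP.of_hom f p
  haveI : IsAffineHom (FrobSch.frob S p) := TwistChart.isAffineHom_frob p
  haveI : IsAffineHom a := MorphismProperty.pullback_fst f (FrobSch.frob S p) ‹_›
  haveI : IsAffine (FrobSch.frobTwist f p) := isAffine_of_isAffineHom a
  haveI : Smooth b := MorphismProperty.pullback_snd f (FrobSch.frob S p) ‹_›
  haveI := LiftBase.isAffine_lift hS' h
  haveI := LiftBase.isAffine_lift hS' h'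
  haveI : IsLocallyNoetherian X := LocallyOfFiniteType.isLocallyNoetherian f
  haveI : IsLocallyNoetherian (FrobSch.frobTwist f p) := LocallyOfFiniteType.isLocallyNoetherian b
  haveI : Smooth g' := LiftBase.smooth_lift hS' h'
  haveI : IsClosedImmersion j := MorphismProperty.of_isPullback h.flip inferInstance
  haveI : IsClosedImmersion j' := MorphismProperty.of_isPullback h'.flip inferInstance
  haveI := NCDLocal.surjective_lift hS' h
  haveI := NCDLocal.surjective_lift hS' h'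
  haveI := fun m => hDlf m
  haveI := fun m => hDl'f m
  let R := FrobSch.relFrob f p
  have hRfst : R ≫ a = FrobSch.frob X p := FrobSch.relFrob_fst f p
  have hRsnd : R ≫ b = f := FrobSch.relFrob_snd f p
  -- the divisor pulls back to its `p`-th power
  have hR : ∀ m, ((D m).comap a).comap R = D m ^ p := fun m => by
    rw [← Scheme.IdealSheafData.comap_comp, hRfst]
    refine IdealSh.Comap.ext_of_forall_exists _ _ fun x => ?_
    obtain ⟨O, hxO, -⟩ := IdealSh.Comap.exists_affine_le (f x) ⊤ trivial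
    obtain ⟨V, hle, n, ψ, e, hxV, -, -, -, -, hthr, hoff⟩ :=
      NCDChart.exists_chart f D hD x ⊤ trivial O hxO
    obtain ⟨t, ht⟩ : ∃ t, (D m).ideal V = Ideal.span {t} := by
      by_cases hm : x ∈ (D m).support
      · exact ⟨_, hthr ⟨m, hm⟩⟩
      · exact ⟨1, by rw [hoff m hm, Ideal.span_singleton_one]⟩
    refine ⟨V, hxV, ?_⟩
    rw [IdealSh.Comap.ideal_comap (D m) (FrobSch.frob X p) V V
      (FrobSch.frob_preimage X p V.1).ge, Scheme.IdealSheafData.ideal_pow, Pi.pow_apply, ht,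
      Ideal.map_span, Set.image_singleton, Ideal.span_singleton_pow]
    congr 2
    rw [show (FrobSch.frob X p).appLE V.1 V.1 (FrobSch.frob_preimage X p V.1).ge =
      (FrobSch.frob X p).app V.1 from Scheme.Hom.appLE_eq_app _]
    rfl
  let T₁ : Xl.affineOpens := ⟨⊤, isAffineOpen_top _⟩
  let T₂ : Xl'.affineOpens := ⟨⊤, isAffineOpen_top _⟩
  haveI : IsNoetherianRing Γ(Xl, ⊤) := LiftBase.isNoetherianRing_lift hS' h T₁
  haveI : IsNoetherianRing Γ(Xl', ⊤) := LiftBase.isNoetherianRing_lift hS' h' T₂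
  obtain ⟨hs₁, hk₁⟩ : Function.Surjective j.appTop.hom ∧
      RingHom.ker j.appTop.hom = Ideal.span {(p : Γ(Xl, ⊤))} := by
    have h := LiftBase.appLE_props hS' h T₁ rfl le_rfl
    rwa [← Scheme.Hom.app_eq_appLE] at h
  obtain ⟨hs₂, hk₂⟩ : Function.Surjective j'.appTop.hom ∧
      RingHom.ker j'.appTop.hom = Ideal.span {(p : Γ(Xl', ⊤))} := by
    have h := LiftBase.appLE_props hS' h' T₂ rfl le_rfl
    rwa [← Scheme.Hom.app_eq_appLE] at h
  let I : Ideal Γ(Xl, ⊤) := Ideal.span {(p : Γ(Xl, ⊤))}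
  have hp₁ := PBase.section_sq_eq_zero (p := p) (g ≫ gS) (⊤ : Xl.Opens)
  have hI : I ^ 2 = ⊥ := by
    rw [pow_two, Ideal.span_singleton_mul_span_singleton, hp₁, Ideal.span_singleton_zero]
  let κ : Γ(Xl, ⊤) ⧸ I ≃+* Γ(X, ⊤) :=
    (Ideal.quotEquivOfEq hk₁.symm).trans (RingHom.quotientKerEquivOfSurjective hs₁)
  let φ₀ : Γ(Xl', ⊤) →+* Γ(Xl, ⊤) ⧸ I :=
    κ.symm.toRingHom.comp (R.appTop.hom.comp j'.appTop.hom)
  have hmk : Ideal.Quotient.mk I = κ.symm.toRingHom.comp j.appTop.hom :=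
    RingHom.ext fun z => (κ.symm_apply_apply _).symm
  have hw : Spec.map (CommRingCat.ofHom (Ideal.Quotient.mk I)) ≫ Xl.isoSpec.inv ≫ g =
      Spec.map (CommRingCat.ofHom φ₀) ≫ Xl'.isoSpec.inv ≫ g' := by
    simp only [hmk, φ₀, CommRingCat.ofHom_comp, CommRingCat.ofHom_hom, Spec.map_comp, Category.assoc]
    rw [Scheme.isoSpec_inv_naturality_assoc, Scheme.isoSpec_inv_naturality_assoc, h.w, h'.w,
      Scheme.isoSpec_inv_naturality_assoc, reassoc_of% hRsnd]
  let J₁ := fun m => (Dl m ^ p).ideal T₁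
  let J₂ := fun m => (Dl' m).ideal T₂
  have hJm₁ : ∀ m, (J₁ m).map j.appTop.hom = (D m ^ p).ideal ⟨⊤, isAffineOpen_top _⟩ := fun m => by
    rw [← hDl m, ← IdealSh.Comap.comap_pow, IdealSh.Comap.ideal_comap_of_isAffine]
  have hJm₂ : ∀ m, (J₂ m).map (R.appTop.hom.comp j'.appTop.hom) =
      (D m ^ p).ideal ⟨⊤, isAffineOpen_top _⟩ := fun m => by
    rw [← hR m, ← hDl' m, IdealSh.Comap.ideal_comap_of_isAffine,
      IdealSh.Comap.ideal_comap_of_isAffine, Ideal.map_map]
  have hIJ : ∀ m, I ⊓ J₁ m ≤ I * J₁ m := by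
    rintro m z ⟨hzI, hzJ⟩
    obtain ⟨c, rfl⟩ := Ideal.mem_span_singleton'.1 hzI
    let K := j.ker * Dl m ^ p
    have hK : K.ideal T₁ = I * J₁ m := by
      simp only [K, Scheme.IdealSheafData.ideal_mul, Pi.mul_apply, J₁, I,
        PBase.ker_lift_ideal hS' h T₁]
      rfl
    rw [← hK]
    suffices e : Scheme.IdealSheafData.ofIdealTop
        (Ideal.span {c * (p : Γ(Xl, ⊤))}) ⊔ K = K by
      have h1 := sup_eq_right.1 e T₁
      rw [Scheme.IdealSheafData.ofIdealTop_ideal] at h1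
      refine h1 ?_
      rw [show (homOfLE (le_top : (⊤ : Xl.Opens) ≤ ⊤)).op = 𝟙 _ from rfl,
        CategoryTheory.Functor.map_id, CommRingCat.hom_id, Ideal.map_id]
      exact Ideal.mem_span_singleton_self _
    refine IdealSh.Comap.ext_of_forall_exists _ _ fun y => ?_
    obtain ⟨U, hyU, -⟩ := IdealSh.Comap.exists_affine_le (g y) ⊤ trivial
    obtain ⟨Vl, hle, hle', hyV, -, -, -, hjs, hjk, -, hD'⟩ :=
      NCDLocal.exists_data hS' h D hD Dl hDl y ⊤ trivial U hyU
    obtain ⟨t, ht, -, heq⟩ := hD' m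
    have htI : t ∈ ((Dl m).ideal Vl).map (j.app Vl.1).hom :=
      heq ▸ Ideal.mem_span_singleton_self t
    obtain ⟨s, hs, hst⟩ := (Ideal.mem_map_iff_of_surjective _ hjs).1 htI
    have hgen : Ideal.span {s} = (Dl m).ideal Vl := PFlat.eq_of_le_of_map_eq _ hjs hjk
      (PBase.section_sq_eq_zero (g ≫ gS) Vl.1) ((Ideal.span_singleton_le_iff_mem _).2 hs)
      (by rw [heq, Ideal.map_span, Set.image_singleton, hst])
      (LiftBase.exists_mem_eq_mul (gS := gS) g (Dl m) Vl)
    refine ⟨Vl, hyV, ?_⟩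
    rw [Scheme.IdealSheafData.ideal_sup, Pi.sup_apply, sup_eq_right,
      Scheme.IdealSheafData.ofIdealTop_ideal, Ideal.map_span, Set.image_singleton,
      Ideal.span_singleton_le_iff_mem, map_mul, map_natCast]
    simp only [K, Scheme.IdealSheafData.ideal_mul, Pi.mul_apply, Scheme.IdealSheafData.ideal_pow,
      Pi.pow_apply, PBase.ker_lift_ideal hS' h Vl, ← hgen, Ideal.span_singleton_pow,
      Ideal.span_singleton_mul_span_singleton]
    have h1 : (Xl.presheaf.map (homOfLE (le_top : Vl.1 ≤ ⊤)).op).hom (c * (p : Γ(Xl, ⊤))) ∈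
        (Dl m ^ p).ideal Vl := by
      rw [← (Dl m ^ p).map_ideal (U := Vl) (V := T₁) (le_top : Vl.1 ≤ ⊤)]
      exact Ideal.mem_map_of_mem _ hzJ
    rw [Scheme.IdealSheafData.ideal_pow, Pi.pow_apply, ← hgen, Ideal.span_singleton_pow,
      Ideal.mem_span_singleton', map_mul, map_natCast] at h1
    obtain ⟨d, hd⟩ := h1
    have hd0 : (j.app Vl.1).hom d = 0 := by
      refine (mem_nonZeroDivisors_iff_right.1 (pow_mem (hst ▸ ht) p)) _ ?_
      rw [← map_pow, ← map_mul, hd, ← RingHom.mem_ker, hjk]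
      exact Ideal.mul_mem_left _ _ (Ideal.mem_span_singleton_self _)
    rw [← RingHom.mem_ker, hjk, Ideal.mem_span_singleton'] at hd0
    obtain ⟨d', rfl⟩ := hd0
    rw [Ideal.mem_span_singleton', ← hd]
    exact ⟨d', by ring⟩
  have hJp₁ : ∀ m z, (p : Γ(Xl, ⊤)) * z ∈ J₁ m → ∃ i ∈ J₁ m, (p : Γ(Xl, ⊤)) * z =
      (p : Γ(Xl, ⊤)) * i := fun m z hz => by
    have h1 := hIJ m ⟨Ideal.mul_mem_right _ _ (Ideal.mem_span_singleton_self _), hz⟩
    rw [Ideal.mem_span_singleton_mul] at h1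
    obtain ⟨i, hi, hie⟩ := h1
    exact ⟨i, hi, hie.symm⟩
  have hJ₀ : ∀ m, (J₂ m).map φ₀ ≤ (J₁ m).map (Ideal.Quotient.mk I) := fun m => by
    rw [hmk, ← Ideal.map_map (I := J₂ m) (R.appTop.hom.comp j'.appTop.hom) κ.symm.toRingHom,
      ← Ideal.map_map (I := J₁ m) j.appTop.hom κ.symm.toRingHom, hJm₁, hJm₂]
  have hloc : ∀ P : PrimeSpectrum Γ(Xl, ⊤), ∃ u ∉ P.asIdeal,
      ∃ φ : Γ(Xl', ⊤) →+* Localization.Away u,
        Spec.map (CommRingCat.ofHom φ) ≫ Xl'.isoSpec.inv ≫ g' =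
          Spec.map (CommRingCat.ofHom (algebraMap Γ(Xl, ⊤) (Localization.Away u))) ≫
            Xl.isoSpec.inv ≫ g ∧
        (∀ z z', φ₀ z = Ideal.Quotient.mk I z' →
          φ z - algebraMap _ _ z' ∈ I.map (algebraMap _ (Localization.Away u))) ∧
        ∀ m, (J₂ m).map φ ≤ (J₁ m).map (algebraMap _ (Localization.Away u)) := by
    intro P
    obtain ⟨x, hx⟩ := j.surjective (Xl.isoSpec.inv P)
    obtain ⟨U, hxU, -⟩ := IdealSh.Comap.exists_affine_le (g (Xl.isoSpec.inv P)) ⊤ trivial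
    let OU : S.affineOpens := ⟨iS ⁻¹ᵁ U.1, U.2.preimage iS⟩
    have hfx : f x ∈ OU.1 := by
      show iS (f x) ∈ U.1
      rw [← Scheme.Hom.comp_apply, ← h.w, Scheme.Hom.comp_apply, hx]
      exact hxU
    obtain ⟨V, hle, n, ψ, e, hxV, -, hψC, hψe, he, hthr, hoff⟩ :=
      NCDChart.exists_chart f D hD x ⊤ trivial OU hfx
    obtain ⟨hV'a, hle', ψt, hψtC, hψte, hψtX⟩ :=
      TwistChart.exists_twist_chart p f V OU hle ψ hψC hψe
    let V' : (FrobSch.frobTwist f p).affineOpens := ⟨a ⁻¹ᵁ V.1, hV'a⟩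
    obtain ⟨u', hu'le, hxu'⟩ := (isAffineOpen_top Xl').exists_basicOpen_le
      (V := ⟨j' '' (V'.1 : Set (FrobSch.frobTwist f p)),
        (Thick.Topo.isHomeomorph j').isOpenMap _ V'.1.isOpen⟩ ⊓ g' ⁻¹ᵁ U.1)
      ⟨j' (R x), ⟨R x, by
          show (R ≫ a) x ∈ V.1
          rw [hRfst]; exact hxV, rfl⟩, by
        show (j' ≫ g') (R x) ∈ U.1
        rw [h'.w]
        show iS ((R ≫ b) x) ∈ U.1
        rw [hRsnd]; exact hfx⟩ trivial
    let O' : (FrobSch.frobTwist f p).affineOpens :=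
      ⟨(FrobSch.frobTwist f p).basicOpen (j'.appTop u'), (isAffineOpen_top _).basicOpen _⟩
    have hO'V : O'.1 ≤ V'.1 := by
      intro z hz
      have hz' : j' z ∈ Xl'.basicOpen u' := by
        show z ∈ j' ⁻¹ᵁ Xl'.basicOpen u'
        rw [Scheme.preimage_basicOpen]; exact hz
      obtain ⟨y, hy, hyz⟩ := (hu'le hz').1
      exact (Thick.Topo.isHomeomorph j').injective hyz ▸ hy
    let W : Xl.Opens := g ⁻¹ᵁ U.1 ⊓
      ⟨j '' ((R ⁻¹ᵁ O'.1 : X.Opens) : Set X),
        (Thick.Topo.isHomeomorph j).isOpenMap _ (R ⁻¹ᵁ O'.1).isOpen⟩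
    obtain ⟨u, huW, hxu⟩ := (isAffineOpen_top Xl).exists_basicOpen_le (V := W)
      ⟨Xl.isoSpec.inv P, hxU, ⟨x, by
        show R x ∈ O'.1
        exact (Scheme.preimage_basicOpen j' u').le hxu', hx⟩⟩ trivial
    refine ⟨u, ?_, ?_⟩
    · intro huP
      have h1 := (isAffineOpen_top Xl).fromSpec_preimage_basicOpen u
      rw [IsAffineOpen.fromSpec_top] at h1
      have h2 : P ∈ (PrimeSpectrum.basicOpen u : TopologicalSpace.Opens _) := by
        rw [← h1]; exact hxu
      exact h2 huP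
    let Vl : Xl.affineOpens := ⟨Xl.basicOpen u, (isAffineOpen_top Xl).basicOpen u⟩
    let Vl₂ : Xl'.affineOpens := ⟨Xl'.basicOpen u', (isAffineOpen_top Xl').basicOpen u'⟩
    let O : X.affineOpens := ⟨X.basicOpen (j.appTop u), (isAffineOpen_top X).basicOpen _⟩
    have hO₁ : O.1 = j ⁻¹ᵁ Vl.1 := (Scheme.preimage_basicOpen j u).symm
    have hO₂ : O'.1 = j' ⁻¹ᵁ Vl₂.1 := (Scheme.preimage_basicOpen j' u').symm
    have hleU : Vl.1 ≤ g ⁻¹ᵁ U.1 := huW.trans inf_le_left
    have hleU₂ : Vl₂.1 ≤ g' ⁻¹ᵁ U.1 := hu'le.trans inf_le_right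
    have hOO : O.1 ≤ R ⁻¹ᵁ O'.1 := by
      intro z hz
      have hz' : z ∈ j ⁻¹ᵁ Vl.1 := hO₁ ▸ hz
      obtain ⟨y, hy, hyz⟩ := (huW hz').2
      exact (Thick.Topo.isHomeomorph j).injective hyz ▸ hy
    have hOV : O.1 ≤ FrobSch.frob X p ⁻¹ᵁ V.1 := by
      rw [← hRfst, Scheme.Hom.comp_preimage]
      exact fun z hz => hO'V (hOO hz)
    obtain ⟨hπs, hπk⟩ := LiftBase.appLE_props hS' h Vl hO₁ hO₁.le
    obtain ⟨hπ₂s, hπ₂k⟩ := LiftBase.appLE_props hS' h' Vl₂ hO₂ hO₂.le
    let ρ := (g.appLE U.1 Vl.1 hleU).hom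
    let ρ₂ := (g'.appLE U.1 Vl₂.1 hleU₂).hom
    let π := (j.appLE Vl.1 O.1 hO₁.le).hom
    let π₂ := (j'.appLE Vl₂.1 O'.1 hO₂.le).hom
    let χ := (R.appLE O'.1 O.1 hOO).hom
    have hcomp : π.comp ρ = χ.comp (π₂.comp ρ₂) := by
      simp only [π, π₂, ρ, ρ₂, χ, ← CommRingCat.hom_comp, Scheme.Hom.appLE_comp_appLE, h.w, h'.w,
        Category.assoc]
      simp only [b, ← Category.assoc R, R, FrobSch.relFrob_snd]
    let res : Γ(FrobSch.frobTwist f p, V'.1) →+* Γ(FrobSch.frobTwist f p, O'.1) :=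
      ((FrobSch.frobTwist f p).presheaf.map (homOfLE hO'V).op).hom
    have hres : res.Etale := by
      have h1 := HasRingHomProperty.appLE (P := @Etale) (𝟙 (FrobSch.frobTwist f p)) inferInstance
        V' O' (hO'V : _ ≤ (𝟙 (FrobSch.frobTwist f p)) ⁻¹ᵁ V'.1)
      simp only [Scheme.Hom.appLE, Scheme.Hom.id_app, Category.id_comp] at h1
      exact h1
    let πP : MvPolynomial (Fin n) Γ(Sl, U.1) →+* MvPolynomial (Fin n) Γ(S, OU.1) :=
      MvPolynomial.map (iS.app U.1).hom
    have hπPs : Function.Surjective πP :=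
      MvPolynomial.map_surjective _ (iS.app_surjective _ U.2)
    have hπPk : RingHom.ker πP = Ideal.span {(p : MvPolynomial (Fin n) Γ(Sl, U.1))} := by
      rw [MvPolynomial.ker_map, ← Scheme.Hom.ker_apply, PBase.ker_base_ideal hS' U, Ideal.map_span,
        Set.image_singleton, map_natCast]
    let ψ' := (res.comp ψt).comp πP
    have hψ'p : Ideal.span {(p : MvPolynomial (Fin n) Γ(Sl, U.1))} ≤ RingHom.ker ψ' := by
      rw [← hπPk]
      exact fun z hz => by
        rw [RingHom.mem_ker] at hz ⊢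
        simp only [ψ', RingHom.comp_apply, hz, map_zero]
    have hψ'X : ∀ k, ψ' (MvPolynomial.X k) = a.appLE V.1 O'.1 hO'V (ψ (MvPolynomial.X k)) :=
      fun k => by
        rw [show ψ' (MvPolynomial.X k) = res (ψt (MvPolynomial.X k)) by simp [ψ', πP], hψtX,
          Scheme.Hom.app_eq_appLE, ← Scheme.Hom.appLE_map a le_rfl (homOfLE hO'V).op]
        rfl
    obtain ⟨φ, hφρ, hφπ, hφJ⟩ := PFlat.exists_local_hom_of_map ρ ρ₂ π π₂ χ hπs hπ₂s hπk hπ₂k hcomp
      (PBase.section_sq_eq_zero (p := p) gS U.1)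
      (PBase.exists_eq_mul_section (p := p) (g' ≫ gS) Vl₂) ψ' (by
        rw [show ψ'.comp MvPolynomial.C = (res.comp (ψt.comp MvPolynomial.C)).comp (iS.app U.1).hom
          from RingHom.ext fun z => by simp [ψ', πP], hψtC]
        simp only [res, π₂, ρ₂, ← CommRingCat.hom_comp, Scheme.Hom.appLE_map,
          Scheme.Hom.app_eq_appLE iS, OU, Scheme.Hom.appLE_comp_appLE, h'.w, b]) hψ'p
      (by
        let ε := (Ideal.quotEquivOfEq hπPk.symm).trans (RingHom.quotientKerEquivOfSurjective hπPs)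
        have h1 := RingHom.Etale.respectsIso.right (res.comp ψt) ε
          (RingHom.Etale.stableUnderComposition _ _ hψte hres)
        convert h1 using 1
        exact Ideal.Quotient.ringHom_ext (RingHom.ext fun z => rfl))
      (fun m => (Dl m ^ p).ideal Vl) (fun m => (Dl' m).ideal Vl₂)
      (fun m => LiftBase.exists_mem_eq_mul (gS := gS) g' (Dl' m) Vl₂)
      (fun m => x ∈ (D m).support) e he
      (fun i => by
        constructor
        · rw [← IdealSh.Comap.ideal_comap (Dl i.1 ^ p) j Vl O hO₁.le, IdealSh.Comap.comap_pow, hDl,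
            ← hR i.1, IdealSh.Comap.ideal_comap ((D i.1).comap a) R O' O hOO,
            IdealSh.Comap.ideal_comap (D i.1) a V O' hO'V, hthr i, hψ'X]
          exact Ideal.mem_map_of_mem _ (Ideal.mem_map_of_mem _ (Ideal.mem_span_singleton_self _))
        · rw [← IdealSh.Comap.ideal_comap (Dl' i.1) j' Vl₂ O' hO₂.le, hDl',
            IdealSh.Comap.ideal_comap (D i.1) a V O' hO'V, hthr i, hψ'X, Ideal.map_span,
            Set.image_singleton])
      (fun m hm => by
        rw [← IdealSh.Comap.ideal_comap (Dl m ^ p) j Vl O hO₁.le, IdealSh.Comap.comap_pow, hDl,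
          ← hR m, IdealSh.Comap.ideal_comap ((D m).comap a) R O' O hOO,
          IdealSh.Comap.ideal_comap (D m) a V O' hO'V, hoff m hm, Ideal.map_top, Ideal.map_top])
    haveI : IsLocalization.Away u Γ(Xl, Vl.1) := (isAffineOpen_top Xl).isLocalization_basicOpen u
    let ε : Γ(Xl, Vl.1) ≃ₐ[Γ(Xl, ⊤)] Localization.Away u :=
      IsLocalization.algEquiv (Submonoid.powers u) _ _
    let r₁ := Xl.presheaf.map (homOfLE (le_top : Vl.1 ≤ ⊤)).op
    let r₂ := Xl'.presheaf.map (homOfLE (le_top : Vl₂.1 ≤ ⊤)).op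
    have halg : algebraMap Γ(Xl, ⊤) (Localization.Away u) = ε.toRingEquiv.toRingHom.comp r₁.hom :=
      RingHom.ext fun z => (ε.commutes z).symm
    refine ⟨(ε.toRingEquiv.toRingHom.comp φ).comp r₂.hom, ?_, fun z z' hzz => ?_, fun m => ?_⟩
    · rw [halg]
      simp only [CommRingCat.ofHom_comp, CommRingCat.ofHom_hom, Spec.map_comp, Category.assoc, r₁, r₂]
      rw [reassoc_of% (LiftBase.specMap_res_isoSpec Vl₂), reassoc_of% (LiftBase.specMap_res_isoSpec Vl),
        ← IsAffineOpen.SpecMap_appLE_fromSpec g' U.2 Vl₂.2 hleU₂,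
        ← IsAffineOpen.SpecMap_appLE_fromSpec g U.2 Vl.2 hleU]
      simp only [← Spec.map_comp_assoc, ← Category.assoc (g'.appLE U.1 Vl₂.1 hleU₂)]
      rw [show g'.appLE U.1 Vl₂.1 hleU₂ ≫ CommRingCat.ofHom φ = g.appLE U.1 Vl.1 hleU from
        CommRingCat.hom_ext hφρ]
    · have h1 : R.appTop (j'.appTop z) = j.appTop z' := by
        rw [hmk] at hzz
        exact κ.symm.injective hzz
      have h2 : φ (r₂ z) - r₁ z' ∈ RingHom.ker π := by
        rw [RingHom.mem_ker, map_sub, sub_eq_zero, ← RingHom.comp_apply π φ, hφπ, RingHom.comp_apply]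
        refine (congrArg χ (LiftBase.appTop_res j' hO₂.le z)).trans ?_
        refine (LiftBase.appTop_res R hOO (j'.appTop z)).trans ?_
        exact (congrArg _ h1).trans (LiftBase.appTop_res j hO₁.le z').symm
      rw [hπk] at h2
      have h3 := Ideal.mem_map_of_mem ε.toRingEquiv.toRingHom h2
      rw [Ideal.map_span, Set.image_singleton, map_natCast, map_sub] at h3
      rw [Ideal.map_span, Set.image_singleton, map_natCast, halg]
      exact h3
    · rw [← Ideal.map_map, ← Ideal.map_map]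
      rw [show (J₂ m).map r₂.hom = (Dl' m).ideal Vl₂ from
        (Dl' m).map_ideal (U := Vl₂) (V := T₂) (le_top : Vl₂.1 ≤ ⊤)]
      refine (Ideal.map_mono (hφJ m)).trans (le_of_eq ?_)
      rw [halg, ← Ideal.map_map]
      exact congrArg _ ((Dl m ^ p).map_ideal (U := Vl) (V := T₁) (le_top : Vl.1 ≤ ⊤)).symm
  obtain ⟨φ, hφw, hφ₀, hφJ⟩ := IdealLift.exists_lift I hI J₁ J₂
    (fun m => IsNoetherian.noetherian _) (fun m => IsNoetherian.noetherian _) hIJ φ₀ hw hJ₀ hloc
  have hφq : j.appTop.hom.comp φ = R.appTop.hom.comp j'.appTop.hom := RingHom.ext fun z =>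
    κ.symm.injective (show (κ.symm.toRingHom.comp j.appTop.hom) (φ z) = φ₀ z by
      rw [← hmk]; exact RingHom.congr_fun hφ₀ z)
  let Fl : Xl ⟶ Xl' := Xl.isoSpec.hom ≫ Spec.map (CommRingCat.ofHom φ) ≫ Xl'.isoSpec.inv
  have hFtop : Fl.appTop.hom = φ := by
    refine RingHom.ext fun z => ?_
    show Xl.isoSpec.hom.appTop ((Spec.map (CommRingCat.ofHom φ) ≫ Xl'.isoSpec.inv).appTop z) = _
    rw [IdealLift.appTop_point, Scheme.isoSpec_hom, Scheme.toSpecΓ_appTop]
    exact ConcreteCategory.congr_hom (Scheme.ΓSpecIso (CommRingCat.of Γ(Xl, ⊤))).inv_hom_id _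
  have hjF : j ≫ Fl = R ≫ j' := by
    show j ≫ Xl.isoSpec.hom ≫ Spec.map (CommRingCat.ofHom φ) ≫ Xl'.isoSpec.inv = R ≫ j'
    rw [← Scheme.isoSpec_hom_naturality_assoc, ← Spec.map_comp_assoc,
      show CommRingCat.ofHom φ ≫ j.appTop = j'.appTop ≫ R.appTop from CommRingCat.hom_ext hφq,
      ← Scheme.Hom.comp_appTop, Scheme.isoSpec_inv_naturality, Iso.hom_inv_id_assoc]
  refine ⟨Fl, ?_, hjF, ?_, ?_⟩
  · haveI : IsFinite R := Groth.Agent.S14931.result p f
    have hfin : (R.appTop.hom.comp j'.appTop.hom).Finite :=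
      RingHom.Finite.comp ((HasAffineProperty.iff_of_isAffine (P := @IsFinite)).1 ‹_›).2
        (RingHom.Finite.of_surjective _ hs₂)
    rw [HasAffineProperty.iff_of_isAffine (P := @IsFinite)]
    refine ⟨inferInstance, ?_⟩
    rw [hFtop]
    exact finite_of_reduction φ _ hs₁ hk₁ hp₁ (hφq ▸ hfin)
  · show (Xl.isoSpec.hom ≫ Spec.map (CommRingCat.ofHom φ) ≫ Xl'.isoSpec.inv) ≫ g' = g
    rw [Category.assoc, Category.assoc, hφw, Iso.hom_inv_id_assoc]
  · have hm : ∀ m, (Dl' m).comap Fl = Dl m ^ p := fun m => by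
      refine Scheme.IdealSheafData.ext_of_isAffine ?_
      rw [IdealSh.Comap.ideal_comap_of_isAffine, hFtop]
      refine PFlat.eq_of_le_of_map_eq _ hs₁ hk₁ hp₁ (hφJ m) ?_ (hJp₁ m)
      rw [Ideal.map_map, hφq, hJm₁, hJm₂]
    refine Finset.induction_on (Finset.univ : Finset (Fin r)) ?_ fun m s hms ih => ?_
    · simp only [Finset.prod_empty, one_pow]
      rw [Scheme.IdealSheafData.one_eq_top, Scheme.IdealSheafData.one_eq_top]
      exact IdealSh.Comap.comap_eq_top_of_disjoint _ _ (by simp)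
    · rw [Finset.prod_insert hms, Finset.prod_insert hms, IdealSh.Comap.comap_mul, hm, ih, mul_pow]

end Groth.Agent.S17131
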