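import Groth.Statements.S1714
import Groth.Agent.LocCoh.CompletionDeg

set_option autoImplicit false
universe u
open CategoryTheory
attribute [local instance] HasDerivedCategory.standard
open LocCoh

namespace Groth.Agent.S1714

/-- Let A be a Noetherian ring with a dualizing complex, I an ideal, M a finite A-module, A' and M' the
I-adic completions. Let p' ⊆ q' be primes of A' with I A' ⊆ q', lying over the primes p ⊆ q of A.
Then the depth of M'_{p'} over A'_{p'} is at least the depth of M_p over A_p, and depth(M'_{p'})
plus the dimension of the interval of primes [p', q'] equals depth(M_p) plus the dimension of [p,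
q]. -/
theorem result (A : Type u) [CommRing A] [IsNoetherianRing A] (hA : ∃ ω : Dual.D A, Dual.IsDualizing A ω) (I : Ideal A) (M : Type u) [AddCommGroup M] [Module A M] [Module.Finite A M] (p' q' : PrimeSpectrum (AdicCompletion I A)) (hpq : p' ≤ q') (hq : Ideal.map (algebraMap A (AdicCompletion I A)) I ≤ q'.asIdeal) : LocCoh.depth (Localization.AtPrime (p'.asIdeal.comap (algebraMap A (AdicCompletion I A)))) (LocalizedModule (p'.asIdeal.comap (algebraMap A (AdicCompletion I A))).primeCompl M) ≤ LocCoh.depth (Localization.AtPrime p'.asIdeal) (LocalizedModule p'.asIdeal.primeCompl (AdicCompletion I M)) ∧ ((LocCoh.depth (Localization.AtPrime p'.asIdeal) (LocalizedModule p'.asIdeal.primeCompl (AdicCompletion I M)) : ℕ∞) : WithBot ℕ∞) + Order.krullDim (Set.Icc p' q') = ((LocCoh.depth (Localization.AtPrime (p'.asIdeal.comap (algebraMap A (AdicCompletion I A)))) (LocalizedModule (p'.asIdeal.comap (algebraMap A (AdicCompletion I A))).primeCompl M) : ℕ∞) : WithBot ℕ∞) + Order.krullDim (Set.Icc ((PrimeSpectrum.comap (algebraMap A (AdicCompletion I A))) p') ((PrimeSpectrum.comap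 (algebraMap A (AdicCompletion I A))) q')) := by
  obtain ⟨ω, hω⟩ := hA
  have := Groth.Agent.RegLoc.Completion.isNoetherianRing_adicCompletion' I
  have hω' := Groth.Agent.LocCoh.CompletionDeg.isDualizing_completion I hω
  let f := algebraMap A (AdicCompletion I A)
  let e := AdicCompletion.ofTensorProductEquivOfFiniteNoetherian I M
  refine ⟨Groth.Agent.LocCoh.CompletionDeg.depth_le hω (p := PrimeSpectrum.comap f p') (p' := p') rfl hω' M _ e, ?_⟩
  exact Groth.Agent.LocCoh.CompletionDeg.depth_add_eq hω (p := PrimeSpectrum.comap f p') (p' := p') rfl hω'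
    (q := PrimeSpectrum.comap f q') M _ e (Ideal.comap_mono hpq) hpq
    (Groth.Agent.LocCoh.CompletionDeg.deg_eq hω (p := PrimeSpectrum.comap f q') (p' := q') rfl hω'
      (Groth.Agent.LocCoh.CompletionDeg.map_comap_completion I q'.asIdeal hq))

end Groth.Agent.S1714
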