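import Groth.Statements.S1715
import Groth.Agent.DualCx.Normalized
import Groth.Agent.DualCx.LocalGlobal
import Mathlib.Data.Int.Interval

set_option autoImplicit false
universe u
open CategoryTheory
attribute [local instance] HasDerivedCategory.standard
open LocCoh

namespace Groth.Agent.S1715

open Groth.Agent.DualCx
open Groth.Agent.DualCx.Dimfun (Z deg)
open Devissage (E)

variable {A : Type u} [CommRing A] [IsNoetherianRing A] {ω : Dual.D A} (M : Type u) [AddCommGroup M]
  [Module A M] [Module.Finite A M]

omit [IsNoetherianRing A] in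
theorem not_Z_of_annihilator_le {N : Type (u + 1)} [AddCommGroup N] [Module A N] [Module.Finite A N]
    (p : PrimeSpectrum A) (h : Module.annihilator A N ≤ p.1) : ¬ Z p N := fun hZ => by
  classical
  obtain ⟨S, hS⟩ := Module.Finite.fg_top (R := A) (M := N)
  choose u hu huy using hZ
  refine (fun hm => ?_ : (∏ x ∈ S, u x) ∉ p.1) (h (Module.mem_annihilator.2 fun y => ?_))
  · obtain ⟨x, _, hx⟩ := (Ideal.IsPrime.prod_mem_iff).1 hm
    exact hu x hx
  · have hy : y ∈ Submodule.span A (S : Set N) := hS.symm ▸ Submodule.mem_top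
    induction hy using Submodule.span_induction with
    | mem x hx =>
      obtain ⟨c, hc⟩ := Finset.dvd_prod_of_mem u hx
      rw [hc, mul_comm, mul_smul, huy, smul_zero]
    | zero => exact smul_zero _
    | add x z _ _ ix iz => rw [smul_add, ix, iz, add_zero]
    | smul a x _ ix => rw [smul_comm, ix, smul_zero]

/-- primes of the support below `p` bound the dimension from below -/
theorem deg_sub_le_supportDim (hω : Dual.IsDualizing A ω) {p r : PrimeSpectrum A} (hrp : r ≤ p)
    (hr : Module.annihilator A M ≤ r.1) (d : ℕ)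
    (hd : Module.supportDim (Localization.AtPrime p.1) (LocalizedModule p.1.primeCompl M) ≤ d) :
    deg hω p - deg hω r ≤ d := by
  obtain ⟨P, hP, hPr⟩ := Ideal.exists_minimalPrimes_le hr
  let r₀ : PrimeSpectrum A := ⟨P, hP.1.1⟩
  have hle : deg hω r₀ ≤ deg hω r := by
    rcases eq_or_lt_of_le (show r₀ ≤ r from hPr) with h | h
    · rw [h]
    · exact (Dimfun.deg_lt hω h).le
  by_contra hcon
  have hmin : ∀ q : PrimeSpectrum A, Module.annihilator A M ≤ q.1 → q.1 ≤ r₀.1 → q = r₀ := fun q hq hq' =>
    PrimeSpectrum.ext (le_antisymm hq' (hP.2 ⟨q.2, hq⟩ hq'))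
  have hZ : ¬ Z r₀ M := by
    rw [Dimfun.Z_iff_localized, not_subsingleton_iff_nontrivial]
    exact Module.mem_support_iff.mp (by rw [Module.mem_support_iff_of_finite]; exact hP.1.2)
  refine LocalGlobal.not_Z_E_of_minimal hω r₀ M hmin hZ
    (Dimfun.Z_mono (show r₀.1 ≤ p.1 from hPr.trans hrp) ?_)
  rw [Normalized.Z_E_iff hω]
  have := Normalized.finite_localized p M
  exact Normal.subsingleton_E (Normalized.isDualizing_loc hω p) (Normalized.isNormalized_loc hω p) d _ hd _
    (Or.inl (by omega))

/-- a large dimension comes from a prime of the support -/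
theorem exists_deg_sub_gt (hω : Dual.IsDualizing A ω) {p : PrimeSpectrum A} {k : ℕ}
    (hk : (k : WithBot ℕ∞) < Module.supportDim (Localization.AtPrime p.1) (LocalizedModule p.1.primeCompl M)) :
    ∃ r : PrimeSpectrum A, r.1 ∈ (Module.annihilator A M).minimalPrimes ∧ r ≤ p ∧
      (k : ℤ) < deg hω p - deg hω r := by
  let B := Localization.AtPrime p.1
  have := Normalized.finite_localized p M
  obtain ⟨l, hl⟩ : ∃ l : LTSeries (Module.support B (LocalizedModule p.1.primeCompl M)),
      l.length = k + 1 := by
    have hne : Nontrivial (LocalizedModule p.1.primeCompl M) := by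
      rw [← Module.supportDim_ne_bot_iff_nontrivial B]
      exact fun h => by rw [h] at hk; simp at hk
    have : Nonempty (Module.support B (LocalizedModule p.1.primeCompl M)) :=
      (Module.nonempty_support_of_nontrivial (R := B) (M := LocalizedModule p.1.primeCompl M)).to_subtype
    refine (Order.le_krullDim_iff (n := k + 1)).mp ?_
    change ((k + 1 : ℕ) : WithBot ℕ∞) ≤ Module.supportDim B (LocalizedModule p.1.primeCompl M)
    revert hk
    generalize Module.supportDim B (LocalizedModule p.1.primeCompl M) = v
    intro hk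
    cases v with
    | bot => simp at hk
    | coe c =>
      change ((k : ℕ∞) : WithBot ℕ∞) < c at hk
      change (((k + 1 : ℕ) : ℕ∞) : WithBot ℕ∞) ≤ c
      rw [WithBot.coe_lt_coe] at hk
      rw [WithBot.coe_le_coe, Nat.cast_add, Nat.cast_one]
      exact Order.add_one_le_of_lt hk
  let c : PrimeSpectrum B → PrimeSpectrum A := PrimeSpectrum.comap (algebraMap A B)
  have hc : ∀ x y : PrimeSpectrum B, x < y → c x < c y := fun x y h => by
    refine lt_of_le_of_ne (Ideal.comap_mono h.le) fun he => h.ne ?_
    exact PrimeSpectrum.localization_comap_injective B p.1.primeCompl he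
  have hstep : ∀ i : Fin (l.length + 1), deg hω (c l.head.1) + (i : ℤ) ≤ deg hω (c (l i).1) := by
    intro i
    induction i using Fin.induction with
    | zero => simp [RelSeries.head]
    | succ i ih =>
      have := Dimfun.deg_lt hω (hc _ _ (show (l i.castSucc).1 < (l i.succ).1 from l.step i))
      simp only [Fin.val_succ, Fin.val_castSucc] at ih ⊢
      push_cast
      omega
  have hlast : deg hω (c l.last.1) ≤ deg hω p := by
    have hle : c l.last.1 ≤ p := (Ideal.comap_mono (IsLocalRing.le_maximalIdeal l.last.1.2.ne_top)).trans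
      (IsLocalization.AtPrime.under_maximalIdeal B p.1).le
    rcases eq_or_lt_of_le hle with h | h
    · rw [h]
    · exact (Dimfun.deg_lt hω h).le
  have hhead : Module.annihilator A M ≤ (c l.head.1).1 := fun a ha => by
    have h0 := l.head.2
    rw [Module.mem_support_iff_of_finite] at h0
    refine h0 (Module.mem_annihilator.2 fun y => ?_)
    induction y using LocalizedModule.induction_on with
    | h m s => rw [algebraMap_smul, LocalizedModule.smul'_mk, Module.mem_annihilator.1 ha m,
        LocalizedModule.zero_mk]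
  obtain ⟨P, hP, hPr⟩ := Ideal.exists_minimalPrimes_le hhead
  refine ⟨⟨P, hP.1.1⟩, hP, hPr.trans ?_, ?_⟩
  · exact (Ideal.comap_mono (IsLocalRing.le_maximalIdeal l.head.1.2.ne_top)).trans
      (IsLocalization.AtPrime.under_maximalIdeal B p.1).le
  · have h1 := hstep (Fin.last _)
    have h2 : deg hω (⟨P, hP.1.1⟩ : PrimeSpectrum A) ≤ deg hω (c l.head.1) := by
      rcases eq_or_lt_of_le (show (⟨P, hP.1.1⟩ : PrimeSpectrum A) ≤ c l.head.1 from hPr) with h | h
      · rw [h]
      · exact (Dimfun.deg_lt hω h).le
    rw [show l (Fin.last _) = l.last from rfl, Fin.val_last, hl] at h1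
    push_cast at h1
    omega

theorem finite_set (hω : Dual.IsDualizing A ω) (k : ℕ) (hM : LocCoh.HasSk k A M) :
    Set.Finite {p : PrimeSpectrum A | LocCoh.depth (Localization.AtPrime p.asIdeal)
      (LocalizedModule p.asIdeal.primeCompl M) = k ∧ (k : WithBot ℕ∞) <
      Module.supportDim (Localization.AtPrime p.asIdeal) (LocalizedModule p.asIdeal.primeCompl M)} := by
  obtain ⟨lo, hi, hdeg⟩ := Dimfun.deg_bounds hω
  have hfin : ({p : PrimeSpectrum A | ∃ r ∈ (Module.annihilator A M).minimalPrimes,
      ∃ j ∈ Finset.Icc (lo - k) (hi - k), p.1 ∈ (r ⊔ Module.annihilator A (E M ω j)).minimalPrimes}).Finite := by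
    have h := ((Module.annihilator A M).finite_minimalPrimes_of_isNoetherianRing A).biUnion fun r _ =>
      (Finset.Icc (lo - k) (hi - k)).finite_toSet.biUnion fun j _ =>
        (r ⊔ Module.annihilator A (E M ω j)).finite_minimalPrimes_of_isNoetherianRing A
    refine (h.preimage (Function.Injective.injOn (f := PrimeSpectrum.asIdeal)
      fun _ _ h => PrimeSpectrum.ext h)).subset ?_
    rintro p ⟨r, hr, j, hj, hp⟩
    exact Set.mem_biUnion hr (Set.mem_biUnion hj hp)
  refine hfin.subset ?_
  rintro p ⟨hdep, hdim⟩
  obtain ⟨r, hr, hrp, hlt⟩ := exists_deg_sub_gt M hω hdim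
  have := Normalized.finite_localized p M
  have hnt : Nontrivial (LocalizedModule p.1.primeCompl M) := by
    rw [← Module.supportDim_ne_bot_iff_nontrivial (Localization.AtPrime p.1)]
    exact fun h => by rw [h] at hdim; simp at hdim
  obtain ⟨n, hn, -, hnZ⟩ := Normalized.depth_spec hω p M
  obtain rfl : n = k := by
    have := hn.symm.trans hdep
    exact_mod_cast this
  refine ⟨r.1, hr, deg hω p - n, Finset.mem_Icc.2 ⟨by have := (hdeg p).1; omega, by have := (hdeg p).2; omega⟩, ?_⟩
  have hann : Module.annihilator A (E M ω (deg hω p - n)) ≤ p.1 := fun a ha => by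
    by_contra hap
    exact hnZ fun e => ⟨a, hap, Module.mem_annihilator.1 ha e⟩
  refine ⟨⟨p.2, sup_le hrp hann⟩, fun Q hQ hQp => ?_⟩
  by_contra hne
  obtain ⟨p', rfl⟩ : ∃ p' : PrimeSpectrum A, p'.asIdeal = Q := ⟨⟨Q, hQ.1⟩, rfl⟩
  have hlt' : p' < p := lt_of_le_of_ne hQp fun he => hne (he ▸ le_rfl)
  have hE := Normal.finite_E hω M (deg hω p - n)
  have hnZ' : ¬ Z p' (E M ω (deg hω p - n)) := not_Z_of_annihilator_le p' (le_sup_right.trans hQ.2)
  have hrp' : r ≤ p' := le_sup_left.trans hQ.2
  have : Nontrivial (LocalizedModule p'.1.primeCompl M) :=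
    Module.mem_support_iff.mp (show p' ∈ Module.support A M from by
      rw [Module.mem_support_iff_of_finite]; exact hr.1.2.trans hrp')
  obtain ⟨n', hn', hn'Z, -⟩ := Normalized.depth_spec hω p' M
  have hn'le : deg hω p - n ≤ deg hω p' - n' := by
    by_contra hcon
    exact hnZ' (hn'Z _ (by omega))
  have hSk := hM p'.1
  rw [hn'] at hSk
  rcases min_le_iff.1 hSk with h | h
  · have : n ≤ n' := by exact_mod_cast h
    have := Dimfun.deg_lt hω hlt'
    omega
  · have := deg_sub_le_supportDim M hω hrp' hr.1.2 n' h
    omega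

/-- For an affine scheme: let A be a Noetherian ring with a dualizing complex and M a finite A-module
satisfying Serre's condition (S_k). Then there are only finitely many primes p such that M_p has
depth exactly k while its support has dimension greater than k. (The source states this for coherent
modules on a Noetherian scheme with a dualizing complex.) -/
theorem result (A : Type u) [CommRing A] [IsNoetherianRing A] (hA : ∃ ω : Dual.D A, Dual.IsDualizing A ω) (M : Type u) [AddCommGroup M] [Module A M] [Module.Finite A M] (k : ℕ) (hM : LocCoh.HasSk k A M) : Set.Finite {p : PrimeSpectrum A | LocCoh.depth (Localization.AtPrime p.asIdeal) (LocalizedModule p.asIdeal.primeCompl M) = k ∧ (k : WithBot ℕ∞) < Module.supportDim (Localization.AtPrime p.asIdeal) (LocalizedModule p.asIdeal.primeCompl M)} := by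
  obtain ⟨ω, hω⟩ := hA
  exact finite_set M hω k hM

end Groth.Agent.S1715
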