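import Groth.Statements.S17157
import Groth.Agent.IsocLib.Basic
import Mathlib.FieldTheory.Finite.Basic
import Mathlib.Algebra.CharP.Lemmas
-- import your own Groth.Agent.* helpers here

set_option autoImplicit false
universe u
open Isoc

namespace Groth.Agent.S17157

open Groth.Agent.IsocLib

theorem natCast_ne_zero (p : ℕ) [Fact p.Prime] (k : Type u) [Field k] [CharP k p] [PerfectRing k p] {n : ℕ} (hn : n ≠ 0) :
    (n : FractionRing (WittVector p k)) ≠ 0 := by
  obtain ⟨a, u, hu, rfl⟩ := Nat.exists_eq_pow_mul_and_not_dvd hn p (Nat.Prime.ne_one Fact.out)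
  rw [Nat.cast_mul, Nat.cast_pow]
  refine mul_ne_zero (pow_ne_zero _ pL_ne_zero) fun h => hu ?_
  rw [← map_natCast (algebraMap (WittVector p k) _), ← map_zero (algebraMap (WittVector p k) _)] at h
  have h1 := congrArg WittVector.constantCoeff (IsFractionRing.injective _ _ h)
  rwa [map_natCast, map_zero, CharP.cast_eq_zero_iff k p] at h1

theorem iterate_frob (p : ℕ) [Fact p.Prime] (k : Type u) [Field k] [CharP k p] [PerfectRing k p]
    (w : WittVector p k) (j n : ℕ) :
    ((⇑(WittVector.frobeniusEquiv p k ^ (1 : ℤ)))^[j] w).coeff n = w.coeff n ^ p ^ j := by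
  induction j with
  | zero => simp
  | succ j ih =>
    rw [Function.iterate_succ_apply', zpow_one]
    rw [zpow_one] at ih
    show (WittVector.frobenius ((⇑(WittVector.frobeniusEquiv p k))^[j] w)).coeff n = _
    rw [WittVector.coeff_frobenius_charP, ih, ← pow_mul, pow_succ]


/-- Let k be a finite field of characteristic p, W = W(k), L its fraction field with Frobenius σ, and
let U be the σ-semilinear endomorphism of L² = (Fin 2 → L) determined by U(e₀) = e₀ and U(e₁) = e₀ +
e₁ on the standard basis. Then (L², U) is an F-isocrystal in which the sub-isocrystal L · e₀ admits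
no U-stable complementary L-subspace; in particular the category of F-isocrystals over a finite
field is not semisimple. (Over an algebraically closed field a complement exists.) -/
theorem result
    (p : ℕ) [Fact p.Prime] (k : Type u) [Field k] [CharP k p] [PerfectRing k p] [Finite k]
    (U : (Fin 2 → (FractionRing (WittVector p k))) →ₛₗ[Isoc.frob p k 1] (Fin 2 → (FractionRing (WittVector p k))))
    (hU0 : U (Pi.single 0 1) = Pi.single 0 1)
    (hU1 : U (Pi.single 1 1) = Pi.single 0 1 + Pi.single 1 1)
    (Q : Submodule (FractionRing (WittVector p k)) (Fin 2 → (FractionRing (WittVector p k)))) (hQ : ∀ x ∈ Q, U x ∈ Q) :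
    ¬ IsCompl (Submodule.span (FractionRing (WittVector p k)) {(Pi.single 0 1 : Fin 2 → (FractionRing (WittVector p k)))}) Q := by
  intro hc
  let L := FractionRing (WittVector p k)
  set e0 : Fin 2 → FractionRing (WittVector p k) := Pi.single 0 1 with he0
  obtain ⟨a, ha, q, hq, hsum⟩ := Submodule.mem_sup.mp
    (hc.sup_eq_top.symm ▸ Submodule.mem_top : (Pi.single 1 1 : Fin 2 → FractionRing (WittVector p k)) ∈ _ ⊔ Q)
  obtain ⟨c', rfl⟩ := Submodule.mem_span_singleton.mp ha
  have hUq : U q = q + ((1 : FractionRing (WittVector p k)) + c' - (Isoc.frob p k 1) c') • e0 := by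
    have h := congrArg U hsum
    rw [map_add, map_smulₛₗ, hU0, hU1] at h
    rw [sub_smul, add_smul, one_smul]
    rw [← hsum] at h
    rw [eq_sub_of_add_eq' h]
    abel
  have h0 : ((1 : FractionRing (WittVector p k)) + c' - (Isoc.frob p k 1) c') • e0 = 0 := by
    have h1 : ((1 : FractionRing (WittVector p k)) + c' - (Isoc.frob p k 1) c') • e0 ∈ Q := by
      have := Q.sub_mem (hQ q hq) hq
      rwa [hUq, add_sub_cancel_left] at this
    have h2 := Submodule.smul_mem _ ((1 : FractionRing (WittVector p k)) + c' - (Isoc.frob p k 1) c')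
      (Submodule.mem_span_singleton_self (R := FractionRing (WittVector p k)) e0)
    exact (Submodule.disjoint_def.mp hc.disjoint) _ h2 h1
  have hstep : (Isoc.frob p k 1) c' = c' + 1 := by
    have := congrFun h0 0
    simp [he0] at this
    linear_combination -this
  haveI := Fintype.ofFinite k
  obtain ⟨f, -, hf⟩ := FiniteField.card k p
  have hit : ∀ j : ℕ, (⇑(Isoc.frob p k 1))^[j] c' = c' + j := by
    intro j
    induction j with
    | zero => simp
    | succ j ih =>
      rw [Function.iterate_succ_apply', ih, map_add, hstep, map_natCast, Nat.cast_succ]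
      ring
  have hid : ∀ x, (⇑(Isoc.frob p k 1))^[(f : ℕ)] x = x := by
    intro x
    obtain ⟨y, z, -, rfl⟩ := IsFractionRing.div_surjective (A := WittVector p k) x
    have hw : ∀ (j : ℕ) (w : WittVector p k), (⇑(Isoc.frob p k 1))^[j] (algebraMap _ (FractionRing (WittVector p k)) w) =
        algebraMap _ _ ((⇑(WittVector.frobeniusEquiv p k ^ (1 : ℤ)))^[j] w) := by
      intro j w
      induction j with
      | zero => rfl
      | succ j ih => rw [Function.iterate_succ_apply', ih, Isoc.frob_algebraMap, ← Function.iterate_succ_apply' (⇑(WittVector.frobeniusEquiv p k ^ (1 : ℤ)))]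
    have hw' : ∀ w : WittVector p k, (⇑(WittVector.frobeniusEquiv p k ^ (1 : ℤ)))^[(f : ℕ)] w = w := fun w =>
      WittVector.ext fun n => by rw [iterate_frob, ← hf, FiniteField.pow_card]
    rw [← RingHom.coe_pow, map_div₀, RingHom.coe_pow, hw, hw, hw', hw']
  have h4 := hit f
  rw [hid, left_eq_add] at h4
  exact natCast_ne_zero p k f.ne_zero h4

end Groth.Agent.S17157
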