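import Groth.Statements.S1717
import Groth.Agent.LocCoh.Connected

set_option autoImplicit false
universe u
open LocCoh

namespace Groth.Agent.S1717

/-- Let A be a catenary Noetherian local ring satisfying Serre's condition (S_2). Then Spec A is
equidimensional: for every minimal prime p of A the dimension of A/p equals the dimension of A. -/
theorem result (A : Type u) [CommRing A] [IsLocalRing A] [IsNoetherianRing A] (hc : CAlg.IsCatenary A) (hS : LocCoh.HasSk 2 A A) (p : Ideal A) (hp : p ∈ minimalPrimes A) : ringKrullDim (A ⧸ p) = ringKrullDim A := by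
  refine Groth.Agent.LocCoh.ringKrullDim_quotient_minimalPrime hc (fun q hq => ?_) p hp
  let L := Localization.AtPrime q.asIdeal
  have e := Groth.Agent.Depth.localizedModuleSelfEquiv (R := A) q.asIdeal.primeCompl
  have h2 := hS q.asIdeal
  rw [LocCoh.depth, Groth.Agent.Depth.idealDepth_congr e, Module.supportDim_eq_of_equiv e,
    Module.supportDim_self_eq_ringKrullDim,
    IsLocalization.AtPrime.ringKrullDim_eq_height q.asIdeal L] at h2
  exact WithBot.coe_le_coe.mp ((le_min le_rfl (WithBot.coe_le_coe.mpr hq)).trans h2)

end Groth.Agent.S1717
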