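import Groth.Statements.S17171
import Mathlib

set_option autoImplicit false
open QSymFn

namespace Groth.Agent.S17171

open Finset

/-- Sorted enumeration of the support. -/
theorem exists_sorted {α : Type*} [LinearOrder α] (e : α →₀ ℕ) :
    ∃ (ℓ : ℕ) (i : Fin ℓ → α) (a : Fin ℓ → ℕ), StrictMono i ∧ (∀ t, 0 < a t) ∧
      e = ∑ t, Finsupp.single (i t) (a t) := by
  classical
  refine ⟨e.support.card, e.support.orderEmbOfFin rfl, fun t => e (e.support.orderEmbOfFin rfl t),
    (e.support.orderEmbOfFin rfl).strictMono, fun t => ?_, ?_⟩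
  · exact Nat.pos_of_ne_zero (Finsupp.mem_support_iff.1 (orderEmbOfFin_mem _ _ _))
  · conv_lhs => rw [← Finsupp.sum_single e, Finsupp.sum]
    have := Finset.sum_map univ (e.support.orderEmbOfFin rfl).toEmbedding
      (fun x => Finsupp.single x (e x))
    rw [map_orderEmbOfFin_univ] at this
    exact this

theorem mapDomain_sum_single {α β : Type*} {ℓ : ℕ} (f : α → β) (i : Fin ℓ → α) (a : Fin ℓ → ℕ) :
    Finsupp.mapDomain f (∑ t, Finsupp.single (i t) (a t)) = ∑ t, Finsupp.single (f (i t)) (a t) := by
  simp [Finsupp.mapDomain_finsetSum, Finsupp.mapDomain_single]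


/-- The ring QSym of quasisymmetric functions over ℤ, with its restriction maps to the polynomial rings
in finitely many ordered variables, is the limit of the diagram S ↦ ℤ[α_s : s ∈ S] over finite
ordered sets S and order-preserving injections (an injection φ : S → T acting by α_t ↦ α_s when t =
φ s and α_t ↦ 0 otherwise), the limit being taken in graded rings. Stated here on degree-d
components, with the variables indexed by ℕ in place of the positive integers and the finite ordered
sets taken to be the Fin n: (a) if F is a formal power series over ℤ in variables indexed by ℕ which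
is quasisymmetric (for strictly increasing i, j : Fin ℓ → ℕ and positive exponents a, the
coefficients of ∏ x_{i t}^{a t} and ∏ x_{j t}^{a t} agree) and all of whose monomials have degree d,
then its restrictions to the initial segments Fin n ⊂ ℕ are compatible with every order embedding
Fin n ↪o Fin m; (b) every family of degree-d homogeneous polynomials f n ∈ ℤ[x_s : s ∈ Fin n],
compatible with all order embeddings Fin n ↪o Fin m in this sense, is the family of restrictions of
exactly one such quasisymmetric F of degree d. -/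
theorem result (d : ℕ) :
    (∀ F : MvPowerSeries ℕ ℤ,
      (∀ (ℓ : ℕ) (i j : Fin ℓ → ℕ) (a : Fin ℓ → ℕ), StrictMono i → StrictMono j → (∀ t, 0 < a t) →
        MvPowerSeries.coeff (∑ t : Fin ℓ, Finsupp.single (i t) (a t)) F =
          MvPowerSeries.coeff (∑ t : Fin ℓ, Finsupp.single (j t) (a t)) F) →
      (∀ e : ℕ →₀ ℕ, MvPowerSeries.coeff e F ≠ 0 → e.degree = d) →
      ∀ (n m : ℕ) (φ : Fin n ↪o Fin m) (e : Fin n →₀ ℕ),
        MvPowerSeries.coeff (Finsupp.mapDomain Fin.val e) F =
          MvPowerSeries.coeff (Finsupp.mapDomain Fin.val (Finsupp.mapDomain φ e)) F) ∧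
    (∀ f : (n : ℕ) → MvPolynomial (Fin n) ℤ,
      (∀ n, (f n).IsHomogeneous d) →
      (∀ (n m : ℕ) (φ : Fin n ↪o Fin m) (e : Fin n →₀ ℕ),
        MvPolynomial.coeff e (f n) = MvPolynomial.coeff (Finsupp.mapDomain φ e) (f m)) →
      ∃! F : MvPowerSeries ℕ ℤ,
        (∀ (ℓ : ℕ) (i j : Fin ℓ → ℕ) (a : Fin ℓ → ℕ), StrictMono i → StrictMono j → (∀ t, 0 < a t) →
          MvPowerSeries.coeff (∑ t : Fin ℓ, Finsupp.single (i t) (a t)) F =
            MvPowerSeries.coeff (∑ t : Fin ℓ, Finsupp.single (j t) (a t)) F) ∧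
        (∀ e : ℕ →₀ ℕ, MvPowerSeries.coeff e F ≠ 0 → e.degree = d) ∧
        (∀ (n : ℕ) (e : Fin n →₀ ℕ),
          MvPowerSeries.coeff (Finsupp.mapDomain Fin.val e) F = MvPolynomial.coeff e (f n))) := by
  classical
  constructor
  · intro F hF _ n m φ e
    obtain ⟨ℓ, i, a, hi, ha, rfl⟩ := exists_sorted e
    simp only [mapDomain_sum_single]
    exact hF ℓ _ _ a (Fin.val_strictMono.comp hi)
      (Fin.val_strictMono.comp (φ.strictMono.comp hi)) ha
  · intro f hhom hcompat
    let B : (ℕ →₀ ℕ) → ℕ := fun e => e.support.sup id + 1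
    have hsub : ∀ (e : ℕ →₀ ℕ) (N : ℕ), B e ≤ N → ↑e.support ⊆ Set.range (Fin.val : Fin N → ℕ) := by
      intro e N hN x hx
      have := Finset.le_sup (f := id) hx
      exact ⟨⟨x, by simp only [B, id] at hN this ⊢; omega⟩, rfl⟩
    let res : (ℕ →₀ ℕ) → (N : ℕ) → (Fin N →₀ ℕ) := fun e N =>
      Finsupp.comapDomain Fin.val e Fin.val_injective.injOn
    let F : MvPowerSeries ℕ ℤ := fun e => MvPolynomial.coeff (res e (B e)) (f (B e))
    have hFc : ∀ (n : ℕ) (e : Fin n →₀ ℕ),
        MvPowerSeries.coeff (Finsupp.mapDomain Fin.val e) F = MvPolynomial.coeff e (f n) := by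
      intro n e
      set E := Finsupp.mapDomain Fin.val e with hE
      have hcast : ∀ (a b : ℕ) (hab : a ≤ b) (u : Fin a →₀ ℕ),
          MvPolynomial.coeff u (f a) =
            MvPolynomial.coeff (Finsupp.mapDomain (Fin.castLE hab) u) (f b) := fun a b hab u => by
        exact hcompat a b (Fin.castLEOrderEmb hab) u
      change MvPolynomial.coeff (res E (B E)) (f (B E)) = _
      rw [hcast _ (max n (B E)) (le_max_right _ _), hcast n (max n (B E)) (le_max_left _ _) e]
      congr 1
      apply Finsupp.mapDomain_injective Fin.val_injective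
      rw [← Finsupp.mapDomain_comp, ← Finsupp.mapDomain_comp]
      have e1 : ∀ (a : ℕ) (hab : a ≤ max n (B E)), Fin.val ∘ Fin.castLE hab = Fin.val := fun _ _ => rfl
      rw [e1, e1, ← hE]
      exact Finsupp.mapDomain_comapDomain Fin.val Fin.val_injective E (hsub E _ le_rfl)
    have hrep : ∀ e : ℕ →₀ ℕ, ∀ N, B e ≤ N → Finsupp.mapDomain Fin.val (res e N) = e := fun e N hN =>
      Finsupp.mapDomain_comapDomain Fin.val Fin.val_injective e (hsub e N hN)
    refine ⟨F, ⟨?_, ?_, hFc⟩, ?_⟩
    · intro ℓ i j a hi hj ha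
      have key : ∀ i : Fin ℓ → ℕ, StrictMono i →
          MvPowerSeries.coeff (∑ t, Finsupp.single (i t) (a t)) F =
            MvPolynomial.coeff (∑ t, Finsupp.single t (a t)) (f ℓ) := by
        intro i hi
        let N := Finset.univ.sup i + 1
        have hlt : ∀ t, i t < N := fun t => Nat.lt_succ_of_le (Finset.le_sup (Finset.mem_univ t))
        let φ : Fin ℓ ↪o Fin N := OrderEmbedding.ofStrictMono (fun t => ⟨i t, hlt t⟩) (fun _ _ h => hi h)
        rw [hcompat ℓ N φ, ← hFc, mapDomain_sum_single, mapDomain_sum_single]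
        rfl
      rw [key i hi, key j hj]
    · intro e he
      have h1 := hhom (B e) (show MvPolynomial.coeff (res e (B e)) (f (B e)) ≠ 0 from he)
      rw [← hrep e (B e) le_rfl, Finsupp.degree_mapDomain]
      rw [Finsupp.degree_eq_weight_one]
      exact h1
    · rintro G ⟨-, -, hG⟩
      funext e
      have := hG (B e) (res e (B e))
      rw [hrep e (B e) le_rfl] at this
      exact this

end Groth.Agent.S17171
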