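import Groth.Statements.S17173
import Groth.Agent.LabG84.BI
-- import your own Groth.Agent.* helpers here

set_option autoImplicit false
universe u
open LabGraph

namespace Groth.Agent.S17173

open LabGraph in
/-- Let Γ be the weighted dual graph of a quasistable curve X of genus g ≥ 3 over an algebraically
closed field (vertices the irreducible components C_v with weight the geometric genus, one edge per
node, a loop for a node on a single component): Γ is connected, every weight-zero vertex without
loop is joined to the other vertices by at least two edges, and no edge joins two exceptional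
vertices (weight zero, no loop, exactly two edges to other vertices). Let d be a multidegree of any
total degree D (the combinatorial section fixes an arbitrary integer d; g ≥ 3 is the paper's
standing assumption). Then the degree class of d contains a representative satisfying the Basic
Inequality: there is a multidegree d', differing from d by the twist of some integer vertex
labelling (the multidegree of a divisor Σ φ_v C_v on the total space of a regular smoothing), such
that for every set Y of vertices 2·|(2g - 2)·d'_Y - D·canDeg Y| ≤ cut Y·(2g - 2), where canDeg Y = 2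
g_Y - 2 + cut Y is the degree of the dualizing sheaf on the subcurve Y and cut Y the number of nodes
where Y meets the rest of X. -/
theorem result {V E : Type u} [Fintype V] [Fintype E]
    [DecidableEq V] [DecidableEq E] (ends : E → V × V) (w : V → ℕ) (hX : IsQuasistableGraph ends w)
    (hg : 3 ≤ genus ends w) (d : V → ℤ) :
    ∃ d' : V → ℤ, TwistEquiv ends d' d ∧ SatisfiesBI ends w d' := by
  classical
  set K := LabGraph.canDeg ends w Finset.univ with hKdef
  have hK : 0 < K := by rw [hKdef, Groth.Agent.LabG84.BI.canDeg_univ]; linarith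
  obtain ⟨v₀⟩ := hX.1.1.1
  let b : V → ℤ := fun v => K * d v - (∑ v, d v) * (2 * (w v : ℤ) - 2 + (LabGraph.endCount ends Finset.univ v : ℤ))
  have hb0 : ∑ v, b v = 0 := by
    have := Groth.Agent.LabG84.BI.dev_eq_sum ends w d Finset.univ
    rw [← this]; unfold Groth.Agent.LabG84.BI.dev; ring
  let P : (V → ℤ) → ℤ := fun φ => K * ∑ e, (φ (ends e).2 - φ (ends e).1) ^ 2 - 2 * ∑ v, b v * φ v
  have hreach : ∀ v, ∃ N : ℕ, ∀ φ : V → ℤ, |φ v - φ v₀| ≤ N * ∑ e, |φ (ends e).2 - φ (ends e).1| := by
    intro v
    induction hX.1.1.2 v₀ v with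
    | refl => exact ⟨0, fun φ => by simp⟩
    | @tail a c _ hac ih =>
      obtain ⟨N, hN⟩ := ih
      obtain ⟨e, he⟩ := hac
      refine ⟨N + 1, fun φ => ?_⟩
      have h1 : |φ c - φ a| ≤ ∑ e, |φ (ends e).2 - φ (ends e).1| := by
        refine le_trans ?_ (Finset.single_le_sum (f := fun e => |φ (ends e).2 - φ (ends e).1|)
          (fun x _ => abs_nonneg _) (Finset.mem_univ e))
        rcases he with he | he <;> rw [he]
        exact le_of_eq (abs_sub_comm _ _)
      have := abs_sub_le (φ c) (φ a) (φ v₀)
      have := hN φ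
      push_cast; linarith
  choose N hN using hreach
  set C : ℤ := 2 * ∑ v, |b v| * (N v : ℤ) with hC
  have hlow : ∀ φ : V → ℤ, -(Fintype.card E * C ^ 2 : ℤ) ≤ P φ := by
    intro φ
    have h1 : ∑ v, b v * φ v = ∑ v, b v * (φ v - φ v₀) := by
      simp only [mul_sub, Finset.sum_sub_distrib, ← Finset.sum_mul, hb0, zero_mul, sub_zero]
    have h2 : 2 * ∑ v, b v * φ v ≤ C * ∑ e, |φ (ends e).2 - φ (ends e).1| := by
      rw [h1, hC, mul_assoc, Finset.sum_mul]
      refine mul_le_mul_of_nonneg_left (Finset.sum_le_sum fun v _ => ?_) zero_le_two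
      calc b v * (φ v - φ v₀) ≤ |b v * (φ v - φ v₀)| := le_abs_self _
        _ ≤ |b v| * ((N v : ℤ) * ∑ e, |φ (ends e).2 - φ (ends e).1|) := by
          rw [abs_mul]; exact mul_le_mul_of_nonneg_left (hN v φ) (abs_nonneg _)
        _ = _ := by ring
    have h3 : ∀ e ∈ (Finset.univ : Finset E), -C ^ 2 ≤ K * (φ (ends e).2 - φ (ends e).1) ^ 2 - C * |φ (ends e).2 - φ (ends e).1| := by
      intro e _
      have := sq_abs (φ (ends e).2 - φ (ends e).1)
      nlinarith [sq_nonneg (|φ (ends e).2 - φ (ends e).1| - C), abs_nonneg (φ (ends e).2 - φ (ends e).1),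
        sq_nonneg (|φ (ends e).2 - φ (ends e).1| + C), sq_nonneg C,
        mul_le_mul_of_nonneg_right (show (1 : ℤ) ≤ K by omega) (sq_nonneg (|φ (ends e).2 - φ (ends e).1|))]
    have h4 := Finset.sum_le_sum h3
    rw [Finset.sum_const, Finset.card_univ, nsmul_eq_mul, Finset.sum_sub_distrib, ← Finset.mul_sum,
      ← Finset.mul_sum] at h4
    show _ ≤ K * _ - 2 * _
    linarith
  have hex : ∃ n : ℕ, ∃ φ, P φ = (n : ℤ) - (Fintype.card E * C ^ 2 : ℤ) := by
    refine ⟨(P 0 + (Fintype.card E * C ^ 2 : ℤ)).toNat, 0, ?_⟩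
    have := hlow 0
    rw [Int.toNat_of_nonneg (by linarith)]; ring
  obtain ⟨φ, hφ⟩ := Nat.find_spec hex
  have hmin : ∀ ψ, P φ ≤ P ψ := by
    intro ψ
    have := hlow ψ
    have hle := Nat.find_min' hex (m := (P ψ + (Fintype.card E * C ^ 2 : ℤ)).toNat)
      ⟨ψ, by rw [Int.toNat_of_nonneg (by linarith)]; ring⟩
    omega
  refine ⟨fun v => d v + LabGraph.twist ends φ v, ⟨φ, fun v => by ring⟩, ?_⟩
  rw [Groth.Agent.LabG84.BI.satisfiesBI_iff_le]
  intro Y
  have hY := hmin (fun v => φ v + Groth.Agent.LabG84.BI.ind Y v)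
  rw [Groth.Agent.LabG84.BI.dev_add_twist ends w d _ φ (fun v => rfl) Y, Groth.Agent.LabG84.BI.dev_eq_sum,
    Groth.Agent.LabG84.BI.sum_twist, Groth.Agent.LabG84.BI.cut_eq]
  have hlin : ∑ v, b v * (φ v + Groth.Agent.LabG84.BI.ind Y v) = ∑ v, b v * φ v + ∑ v ∈ Y, b v := by
    simp only [mul_add, Finset.sum_add_distrib, Groth.Agent.LabG84.BI.ind, mul_ite, mul_one, mul_zero,
      Finset.sum_ite_mem, Finset.univ_inter]
  have hquad : ∑ e, (φ (ends e).2 + Groth.Agent.LabG84.BI.ind Y (ends e).2 -
        (φ (ends e).1 + Groth.Agent.LabG84.BI.ind Y (ends e).1)) ^ 2 =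
      ∑ e, (φ (ends e).2 - φ (ends e).1) ^ 2
        - 2 * ∑ e, (φ (ends e).2 - φ (ends e).1) *
            (Groth.Agent.LabG84.BI.ind Y (ends e).1 - Groth.Agent.LabG84.BI.ind Y (ends e).2)
        + ∑ e, |Groth.Agent.LabG84.BI.ind Y (ends e).1 - Groth.Agent.LabG84.BI.ind Y (ends e).2| := by
    rw [Finset.mul_sum, ← Finset.sum_sub_distrib, ← Finset.sum_add_distrib]
    refine Finset.sum_congr rfl fun e _ => ?_
    rcases Groth.Agent.LabG84.BI.ind_cases Y (ends e).1 with a | a <;>
      rcases Groth.Agent.LabG84.BI.ind_cases Y (ends e).2 with c | c <;> rw [a, c] <;> norm_num <;> ring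
  simp only [P] at hY
  rw [hlin, hquad] at hY
  show 2 * (∑ v ∈ Y, b v + K * _) ≤ _ * K
  nlinarith

end Groth.Agent.S17173
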