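import Groth.Statements.S17174
import Groth.Agent.LabG84.BI
-- import your own Groth.Agent.* helpers here

set_option autoImplicit false
universe u
open LabGraph

namespace Groth.Agent.S17174

open LabGraph in
/-- Let Γ be the weighted dual graph of a Deligne–Mumford semistable curve X of genus g ≥ 3 over an
algebraically closed field (connected; every weight-zero vertex without loop is joined to the other
vertices by at least two edges), and let d, d' be two multidegrees of the same (arbitrary) total
degree D (g ≥ 3 being the paper's standing assumption) which both satisfy the Basic Inequality and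
lie in the same degree class (d - d' is a twist). Then d - d' can be written in normal form: there
is a labelling h of the vertices by natural numbers taking exactly the values 0, 1, …, q, with d -
d' equal to the twist of h (that is, d - d' = Σ_v h(v)·c_v with c_v the multidegree of O(C_v)), such
that for distinct levels i ≠ j in {0, …, q} the subcurves on h⁻¹(i) and h⁻¹(j) meet (some edge joins
the two levels) exactly when |i - j| = 1. -/
theorem result {V E : Type u} [Fintype V] [Fintype E]
    [DecidableEq V] [DecidableEq E] (ends : E → V × V) (w : V → ℕ) (hX : IsSemistableGraph ends w)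
    (hg : 3 ≤ genus ends w) (d d' : V → ℤ)
    (hBI : SatisfiesBI ends w d) (hBI' : SatisfiesBI ends w d') (heq : TwistEquiv ends d d') :
    ∃ (q : ℕ) (h : V → ℕ), (∀ v : V, h v ≤ q) ∧ (∀ i : ℕ, i ≤ q → ∃ v : V, h v = i) ∧
      (∀ v : V, d v - d' v = twist ends (fun u => (h u : ℤ)) v) ∧
      (∀ i j : ℕ, i ≤ q → j ≤ q → i ≠ j →
        ((∃ e : E, (h (ends e).1 = i ∧ h (ends e).2 = j) ∨ (h (ends e).1 = j ∧ h (ends e).2 = i)) ↔
          (i + 1 = j ∨ j + 1 = i))) := by
  classical
  have hK : 0 < LabGraph.canDeg ends w Finset.univ := by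
    rw [Groth.Agent.LabG84.BI.canDeg_univ]; linarith
  obtain ⟨φ, hφ⟩ := heq
  obtain ⟨v₀⟩ := hX.1.1
  obtain ⟨vmin, -, hmin⟩ := Finset.exists_min_image Finset.univ φ ⟨v₀, Finset.mem_univ _⟩
  let h : V → ℕ := fun v => (φ v - φ vmin).toNat
  have hcast : ∀ v, (h v : ℤ) = φ v - φ vmin := fun v =>
    Int.toNat_of_nonneg (sub_nonneg.2 (hmin v (Finset.mem_univ v)))
  have htw : ∀ v, d v - d' v = LabGraph.twist ends (fun u => (h u : ℤ)) v := by
    intro v
    rw [hφ v]
    simp only [LabGraph.twist, hcast, sub_sub_sub_cancel_right]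
  have hd : ∀ v, d v = d' v + LabGraph.twist ends (fun u => (h u : ℤ)) v := fun v => by rw [← htw v]; ring
  have hedge : ∀ (i : ℕ) (e : E), h (ends e).1 < i → i ≤ h (ends e).2 → h (ends e).2 = h (ends e).1 + 1 ∧
      i = h (ends e).2 := by
    suffices hh : ∀ (i : ℕ) (e : E), h (ends e).1 < i → i ≤ h (ends e).2 → h (ends e).2 = h (ends e).1 + 1 from
      fun i e a b => ⟨hh i e a b, by have := hh i e a b; omega⟩
    intro i e he1 he2
    set Y := Finset.univ.filter (fun v => i ≤ h v) with hY
    have h1 := (Groth.Agent.LabG84.BI.satisfiesBI_iff_le ends w d').1 hBI' Y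
    have h2 := (Groth.Agent.LabG84.BI.satisfiesBI_iff_le ends w d).1 hBI Yᶜ
    rw [Groth.Agent.LabG84.BI.dev_compl, Groth.Agent.LabG84.BI.cut_compl,
      Groth.Agent.LabG84.BI.dev_add_twist ends w d' d _ hd Y] at h2
    have h3 : -(LabGraph.cut ends Y : ℤ) ≤ ∑ v ∈ Y, LabGraph.twist ends (fun u => (h u : ℤ)) v := by
      nlinarith
    rw [Groth.Agent.LabG84.BI.sum_twist, Groth.Agent.LabG84.BI.cut_eq, neg_le_iff_add_nonneg',
      ← Finset.sum_add_distrib] at h3
    have hle : ∀ x ∈ Finset.univ, |Groth.Agent.LabG84.BI.ind Y (ends x).1 - Groth.Agent.LabG84.BI.ind Y (ends x).2| +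
        ((h (ends x).2 : ℤ) - h (ends x).1) *
          (Groth.Agent.LabG84.BI.ind Y (ends x).1 - Groth.Agent.LabG84.BI.ind Y (ends x).2) ≤ 0 := by
      intro x _
      by_cases a1 : i ≤ h (ends x).1 <;> by_cases a2 : i ≤ h (ends x).2 <;>
        simp [Groth.Agent.LabG84.BI.ind, hY, a1, a2] <;> omega
    have h4 := (Finset.sum_eq_zero_iff_of_nonpos hle).1 (le_antisymm (Finset.sum_nonpos hle) h3) e (Finset.mem_univ e)
    have a1 : ¬ i ≤ h (ends e).1 := by omega
    simp [Groth.Agent.LabG84.BI.ind, hY, a1, he2] at h4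
    omega
  have hedge' : ∀ (i : ℕ) (e : E), h (ends e).2 < i → i ≤ h (ends e).1 → h (ends e).1 = h (ends e).2 + 1 ∧
      i = h (ends e).1 := by
    suffices hh : ∀ (i : ℕ) (e : E), h (ends e).2 < i → i ≤ h (ends e).1 → h (ends e).1 = h (ends e).2 + 1 from
      fun i e a b => ⟨hh i e a b, by have := hh i e a b; omega⟩
    intro i e he1 he2
    set Y := Finset.univ.filter (fun v => i ≤ h v) with hY
    have h1 := (Groth.Agent.LabG84.BI.satisfiesBI_iff_le ends w d').1 hBI' Y
    have h2 := (Groth.Agent.LabG84.BI.satisfiesBI_iff_le ends w d).1 hBI Yᶜ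
    rw [Groth.Agent.LabG84.BI.dev_compl, Groth.Agent.LabG84.BI.cut_compl,
      Groth.Agent.LabG84.BI.dev_add_twist ends w d' d _ hd Y] at h2
    have h3 : -(LabGraph.cut ends Y : ℤ) ≤ ∑ v ∈ Y, LabGraph.twist ends (fun u => (h u : ℤ)) v := by
      nlinarith
    rw [Groth.Agent.LabG84.BI.sum_twist, Groth.Agent.LabG84.BI.cut_eq, neg_le_iff_add_nonneg',
      ← Finset.sum_add_distrib] at h3
    have hle : ∀ x ∈ Finset.univ, |Groth.Agent.LabG84.BI.ind Y (ends x).1 - Groth.Agent.LabG84.BI.ind Y (ends x).2| +
        ((h (ends x).2 : ℤ) - h (ends x).1) *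
          (Groth.Agent.LabG84.BI.ind Y (ends x).1 - Groth.Agent.LabG84.BI.ind Y (ends x).2) ≤ 0 := by
      intro x _
      by_cases a1 : i ≤ h (ends x).1 <;> by_cases a2 : i ≤ h (ends x).2 <;>
        simp [Groth.Agent.LabG84.BI.ind, hY, a1, a2] <;> omega
    have h4 := (Finset.sum_eq_zero_iff_of_nonpos hle).1 (le_antisymm (Finset.sum_nonpos hle) h3) e (Finset.mem_univ e)
    have a1 : ¬ i ≤ h (ends e).2 := by omega
    simp [Groth.Agent.LabG84.BI.ind, hY, a1, he2] at h4
    omega
  have hcross : ∀ i : ℕ, 1 ≤ i → i ≤ Finset.univ.sup h →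
      ∃ e : E, (h (ends e).1 + 1 = i ∧ h (ends e).2 = i) ∨ (h (ends e).2 + 1 = i ∧ h (ends e).1 = i) := by
    intro i hi1 hiq
    by_contra hcon
    push Not at hcon
    have hinv : ∀ e, decide (i ≤ h (ends e).1) = decide (i ≤ h (ends e).2) := by
      intro e
      rw [decide_eq_decide]
      constructor
      · intro a
        by_contra b
        have := hedge' i e (by omega) a
        exact (hcon e).2 (by omega) (by omega)
      · intro a
        by_contra b
        have := hedge i e (by omega) a
        exact (hcon e).1 (by omega) (by omega)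
    obtain ⟨vmax, -, hmax⟩ := Finset.exists_mem_eq_sup Finset.univ ⟨v₀, Finset.mem_univ _⟩ h
    have hgen : ∀ x, Relation.ReflTransGen (LabGraph.Adj ends) vmin x →
        decide (i ≤ h vmin) = decide (i ≤ h x) := by
      intro x hc
      induction hc with
      | refl => rfl
      | @tail a b _ hab ih =>
        obtain ⟨e, he⟩ := hab
        rw [ih]
        rcases he with he | he <;> have := hinv e <;> rw [he] at this
        · exact this
        · exact this.symm
    have := hgen vmax (hX.1.2 vmin vmax)
    have h0 : h vmin = 0 := by simp [h]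
    rw [decide_eq_decide, h0, ← hmax] at this
    have := this.2 hiq
    omega
  refine ⟨Finset.univ.sup h, h, fun v => Finset.le_sup (Finset.mem_univ v), fun i hi => ?_, htw, fun i j hi hj hij => ?_⟩
  · rcases Nat.eq_zero_or_pos i with rfl | hpos
    · exact ⟨vmin, by simp [h]⟩
    · obtain ⟨e, he | he⟩ := hcross i hpos hi
      · exact ⟨_, he.2⟩
      · exact ⟨_, he.2⟩
  · constructor
    · rintro ⟨e, ⟨a, b⟩ | ⟨a, b⟩⟩
      · rcases Nat.lt_or_gt_of_ne hij with hlt | hlt
        · left; have := hedge j e (by omega) (by omega); omega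
        · right; have := hedge' i e (by omega) (by omega); omega
      · rcases Nat.lt_or_gt_of_ne hij with hlt | hlt
        · left; have := hedge' j e (by omega) (by omega); omega
        · right; have := hedge i e (by omega) (by omega); omega
    · rintro (rfl | rfl)
      · obtain ⟨e, he | he⟩ := hcross (i + 1) (by omega) hj
        · exact ⟨e, Or.inl ⟨by omega, by omega⟩⟩
        · exact ⟨e, Or.inr ⟨by omega, by omega⟩⟩
      · obtain ⟨e, he | he⟩ := hcross (j + 1) (by omega) hi
        · exact ⟨e, Or.inr ⟨by omega, by omega⟩⟩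
        · exact ⟨e, Or.inl ⟨by omega, by omega⟩⟩

end Groth.Agent.S17174
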