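import Groth.Statements.S17176
import Mathlib.Tactic.Ring
import Mathlib.Tactic.Linarith
import Mathlib.RingTheory.Coprime.Lemmas
import Mathlib.Algebra.Ring.Divisibility.Basic

set_option autoImplicit false
open Curves

namespace Groth.Agent.S17176

/-- Fix integers g ≥ 3 and d. For a complete subcurve Y of arithmetic genus g_Y of a nodal curve of
genus g, meeting the rest of the curve in k points, the lower extreme of the Basic Inequality for
line bundles of degree d is m = d(2g_Y - 2 + k)/(2g - 2) - k/2, which is an integer exactly when 2(g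
- 1) divides d(2g_Y - 2 + k) - k(g - 1). Then gcd(d - g + 1, 2g - 2) = 1 if and only if m is not an
integer for all integers g_Y, k with 0 < g_Y < g - 1, k ≥ 1 and k + 2g_Y - 2 < 2g - 2. (The row
makes explicit the bound 2g_Y - 2 + k < 2g - 2, which is automatic for subcurves of stable curves
and is satisfied by every subcurve to which the source applies the lemma; the source leaves the
ambient curve's class implicit.) -/
theorem result (g d : ℤ) (hg : 3 ≤ g) :
    Int.gcd (d - g + 1) (2 * g - 2) = 1 ↔
      ∀ gY k : ℤ, 0 < gY → gY < g - 1 → 1 ≤ k → k + 2 * gY - 2 < 2 * g - 2 →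
        ¬ (2 * (g - 1) ∣ d * (2 * gY - 2 + k) - k * (g - 1)) := by
  have hmod : ∀ gY k : ℤ, (2 * (g - 1) ∣ d * (2 * gY - 2 + k) - k * (g - 1)) ↔
      (2 * g - 2 ∣ (d - g + 1) * (2 * gY - 2 + k)) := by
    intro gY k
    rw [show d * (2 * gY - 2 + k) - k * (g - 1) =
        (d - g + 1) * (2 * gY - 2 + k) + (2 * g - 2) * (gY - 1) by ring,
      show 2 * (g - 1) = 2 * g - 2 by ring]
    exact dvd_add_left (dvd_mul_right _ _)
  simp only [hmod]
  constructor
  · intro h gY k h0 h1 hk hlt hdvd
    have hcop : IsCoprime (2 * g - 2) (d - g + 1) :=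
      (Int.isCoprime_iff_gcd_eq_one.2 h).symm
    have hd := Int.le_of_dvd (by omega) (hcop.dvd_of_dvd_mul_left hdvd)
    omega
  · intro h
    by_contra hne
    obtain ⟨a, ha⟩ := Int.gcd_dvd_right (d - g + 1) (2 * g - 2)
    obtain ⟨b, hb⟩ := Int.gcd_dvd_left (d - g + 1) (2 * g - 2)
    generalize hG : Int.gcd (d - g + 1) (2 * g - 2) = G at hne ha hb
    have hG0 : G ≠ 0 := fun h0 => by rw [h0] at ha; simp at ha; omega
    have hG2 : (2 : ℤ) ≤ (G : ℤ) := by omega
    have ha1 : 1 ≤ a := by nlinarith
    have ha2 : a < 2 * g - 2 := by nlinarith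
    refine h 1 a one_pos (by omega) ha1 (by omega) ⟨b, ?_⟩
    rw [hb, ha]
    ring

end Groth.Agent.S17176
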