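import Groth.Statements.S17178
import Groth.Agent.DefAmple27.Point
import Groth.Agent.EulerChar.Cartier
import Groth.Agent.S10961
import Groth.Agent.S10831
-- import your own Groth.Agent.* helpers here

set_option autoImplicit false
universe u
open CategoryTheory CategoryTheory.Limits AlgebraicGeometry
open Curves

namespace Groth.Agent.S17178

open TopologicalSpace Opposite Groth.Agent.PullStalk.Sky Groth.Agent.PullStalk.Exact Groth.Agent.QCoh

/-- In dimension `≤ 1` a point with a proper generalization is closed. -/
theorem isClosed_of_gen {X : Scheme.{u}} (hdim : topologicalKrullDim X ≤ 1) {z w : X} (hwz : w ⤳ z)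
    (hne' : w ≠ z) : IsClosed ({z} : Set X) := by
  refine isClosed_of_closure_subset fun y hy => Set.mem_singleton_iff.2 (by_contra fun hne => ?_)
  let c : X → IrreducibleCloseds X := fun z =>
    ⟨closure {z}, isIrreducible_singleton.closure, isClosed_closure⟩
  have hlt : ∀ {a b : X}, b ⤳ a → a ≠ b → c a < c b := by
    intro a b hab hn
    refine lt_of_le_of_ne (show closure {a} ⊆ closure {b} from hab.closure_subset) fun h => hn ?_
    exact (inseparable_iff_closure_eq.2 (congrArg (fun s : IrreducibleCloseds X => (s : Set X)) h)).eq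
  let ser : LTSeries (IrreducibleCloseds X) :=
    LTSeries.mk 2 ![c y, c z, c w] (Fin.strictMono_iff_lt_succ.2 fun i => by
      fin_cases i
      · exact hlt (specializes_iff_mem_closure.2 hy) hne
      · exact hlt hwz hne'.symm)
  have h2 := (Order.LTSeries.length_le_krullDim ser).trans hdim
  change ((2 : ℕ) : WithBot ℕ∞) ≤ 1 at h2
  norm_num at h2

/-- A section of a pure one-dimensional module whose non-zero germs sit at isolated closed points vanishes. -/
theorem germ_eq_zero {X : Scheme.{u}} [IsLocallyNoetherian X] [NoetherianSpace X] {J : X.Modules}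
    (hJc : Coh.IsCoh J) (hJp : ShStab.IsPure X J 1) {V : X.Opens} (n : Γ(J, V))
    (hS : ∀ y (hy : y ∈ V), germM J V y hy n ≠ 0 → IsClosed ({y} : Set X)) (x : X) (hx : x ∈ V) :
    germM J V x hx n = 0 := by
  by_contra hne
  let S : Set X := {y | ∃ hy : y ∈ V, germM J V y hy n ≠ 0}
  have hSV : closure S ∩ (V : Set X) ⊆ S := by
    rintro y ⟨hy, hyV⟩
    by_contra hyS
    have h0 : germM J V y hyV n = 0 := by
      by_contra h
      exact hyS ⟨hyV, h⟩
    obtain ⟨W, hyW, iU, _, hW⟩ := J.presheaf.germ_eq y hyV hyV n 0 (h0.trans (map_zero _).symm)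
    obtain ⟨z, hzW, hzV, hz⟩ := mem_closure_iff.1 hy W W.2 hyW
    refine hz ?_
    rw [← GGDesc.germM_res_eq J iU.le z hzW n, show res J iU.le n = 0 from hW.trans (map_zero _)]
    exact map_zero _
  have hfin : S.Finite := by
    obtain ⟨F, hFfin, hFc, hFirr, hSF⟩ :=
      NoetherianSpace.exists_finite_set_isClosed_irreducible (isClosed_closure (s := S))
    refine Set.Finite.subset (s := ⋃ t ∈ F, t ∩ S) (hFfin.biUnion fun t ht => Set.Subsingleton.finite ?_) ?_
    · rintro a ⟨ha, haS⟩ b ⟨hb, hbS⟩
      obtain ⟨g, hg⟩ := QuasiSober.sober (hFirr t ht) (hFc t ht)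
      have hgV : g ∈ (V : Set X) := (hg.specializes ha).mem_open V.2 haS.1
      have hgS : g ∈ S := hSV ⟨hSF ▸ Set.mem_sUnion.2 ⟨t, ht, hg.mem⟩, hgV⟩
      have e : t = {g} := hg.def.symm.trans (hS g hgS.1 hgS.2).closure_eq
      rw [e] at ha hb
      exact ha.trans hb.symm
    · intro a ha
      obtain ⟨t, ht, hat⟩ := Set.mem_sUnion.1 (hSF ▸ subset_closure ha)
      exact Set.mem_iUnion₂.2 ⟨t, ht, hat, ha⟩
  have hc : IsClosed (S \ {x}) := by
    rw [← Set.biUnion_of_singleton (S \ {x})]
    exact (hfin.subset Set.diff_subset).isClosed_biUnion fun y hy => hS y hy.1.1 hy.1.2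
  let W : X.Opens := V ⊓ ⟨(S \ {x})ᶜ, hc.isOpen_compl⟩
  let C : X.Opens := ⟨({x} : Set X)ᶜ, (hS x hx hne).isOpen_compl⟩
  have hxW : x ∈ W := ⟨hx, fun h => h.2 rfl⟩
  let O : Bool → X.Opens := fun b => bif b then W else C
  let sf : ∀ b, Γ(J, O b) := fun b => match b with
    | true => res J (inf_le_left : W ≤ V) n
    | false => 0
  have hzero : res J (inf_le_left : W ⊓ C ≤ W) (res J (inf_le_left : W ≤ V) n) = 0 := by
    refine TopCat.Presheaf.section_ext (⟨J.presheaf, J.isSheaf⟩ : TopCat.Sheaf AddCommGrpCat X)
      (W ⊓ C) _ _ fun y hy => ?_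
    refine (GGDesc.germM_res_eq J _ y hy _).trans ?_
    refine ((GGDesc.germM_res_eq J _ y hy.1 n).trans ?_).trans (map_zero _).symm
    by_contra h
    exact hy.1.2 ⟨⟨hy.1.1, h⟩, hy.2⟩
  have hzero' : res J (inf_le_right : C ⊓ W ≤ W) (res J (inf_le_left : W ≤ V) n) = 0 := by
    refine TopCat.Presheaf.section_ext (⟨J.presheaf, J.isSheaf⟩ : TopCat.Sheaf AddCommGrpCat X)
      (C ⊓ W) _ _ fun y hy => ?_
    refine (GGDesc.germM_res_eq J _ y hy _).trans ?_
    refine ((GGDesc.germM_res_eq J _ y hy.2 n).trans ?_).trans (map_zero _).symm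
    by_contra h
    exact hy.2.2 ⟨⟨hy.2.1, h⟩, hy.1⟩
  obtain ⟨σ, hσ⟩ := exists_glue J (U := O) (V := ⊤) (fun _ => le_top) (fun y _ => by
      by_cases h : y = x
      · subst h; exact Opens.mem_iSup.2 ⟨true, hxW⟩
      · exact Opens.mem_iSup.2 ⟨false, h⟩) sf (fun i j => by
      cases i <;> cases j
      · rfl
      · exact (map_zero _).trans hzero'.symm
      · exact hzero.trans (map_zero _).symm
      · rfl)
  have hσx : germM J ⊤ x trivial σ ≠ 0 := by
    intro h
    apply hne
    refine (GGDesc.germM_res_eq J (inf_le_left : W ≤ V) x hxW n).symm.trans ?_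
    refine (congrArg (germM J W x hxW) (hσ true).symm).trans ?_
    exact (GGDesc.germM_res_eq J le_top x hxW σ).trans h
  have hσy : ∀ y, y ≠ x → germM J ⊤ y trivial σ = 0 := by
    intro y hy
    rw [← GGDesc.germM_res_eq J le_top y (show y ∈ C from hy) σ]
    exact (congrArg _ (hσ false)).trans (map_zero _)
  let φ := Props.GenLocus.homOfSec σ
  let F := kernel (cokernel.π φ)
  have hO : Coh.IsCoh (Coh.structureModule X) := ProperFin.isCoh_structureModule X
  have hF : Coh.IsCoh F := CohDev.isCoh_kernel _ hJc (CohDev.isCoh_cokernel φ hO.1 hJc).1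
  let q : Coh.structureModule X ⟶ F := kernel.lift _ φ (cokernel.condition φ)
  haveI : Epi q := (ShortComplex.exact_cokernel φ).epi_kernelLift
  have hq : q ≫ kernel.ι (cokernel.π φ) = φ := kernel.lift_ι _ _ _
  let C' := ShortComplex.mk (kernel.ι (cokernel.π φ)) (cokernel.π φ) (kernel.condition _)
  have hC' : C'.ShortExact := { exact := ShortComplex.exact_of_f_is_kernel _ (kernelIsKernel _) }
  have hgerm : ∀ y, germM J ⊤ y trivial σ =
      stalkLin φ y (germM (Coh.structureModule X) ⊤ y trivial (Props.GenLocus.one' (X := X) ⊤)) := fun y => by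
    rw [stalkLin_germ]
    exact congrArg _ ((res_self J le_top σ).symm.trans (Props.GenLocus.sec_homOfSec σ ⊤).symm)
  have hsupp : CohB1.support F ⊆ {x} := by
    intro y hy
    by_contra hyx
    refine hy (subsingleton_of_forall_eq 0 fun t => ?_)
    apply (stalk_exact hC' y).1
    obtain ⟨a, rfl⟩ := stalk_surjective q y t
    obtain ⟨U, hyU, r, rfl⟩ := exists_germM_eq (Coh.structureModule X) y a
    rw [← Omega.Stalks.stalkLin_comp, hq, map_zero, stalkLin_germ,
      Props.GenLocus.app_eq φ U r, germM_smul]
    have hz : germM J U y hyU (Props.GenLocus.sec φ U) = 0 := by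
      rw [Props.GenLocus.sec_homOfSec, GGDesc.germM_res_eq]
      exact hσy y hyx
    rw [hz, smul_zero]
  by_cases hF0 : IsZero F
  · refine hσx ?_
    rw [hgerm, ← hq, hF0.eq_of_tgt q 0, zero_comp]
    exact Omega.Stalks.stalkLin_zero _ _
  · have h1 := hJp F (kernel.ι (cokernel.π φ)) inferInstance hF hF0
    have h0 : topologicalKrullDim ↥(CohB1.support F) ≤ 0 :=
      (TopDimLib.topDim_le_of_subset hsupp).trans
        (EulerChar.topDim_le_zero_of_finite (Set.finite_singleton x) fun z hz =>
          (Set.mem_singleton_iff.1 hz) ▸ hS x hx hne)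
    rw [h1] at h0
    norm_num at h0


/-- Let k be an algebraically closed field and X a nodal curve over k: proper over k, reduced,
connected, every irreducible component of dimension one, with at-worst-nodal singularities. Let J be
a coherent O_X-module which is pure of dimension one (every nonzero coherent submodule has
one-dimensional support), for instance a pure quotient with one-dimensional support of a rank-one
torsion-free sheaf. Let U be an open subset and f a function on U vanishing at every point of U
lying in the support Y of J. Then f acts as zero on J over U: for every x ∈ U the germ of f at x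
annihilates the stalk J_x. In other words the ideal sheaf of the reduced subcurve Y annihilates J,
so J is an O_Y-module; this is the first assertion in the proof that every such quotient q : I → J
of a rank-one torsion-free I factors through the torsion-free restriction of I to Y, the remaining
assertion (that the induced map is an isomorphism) not being part of this row. -/
theorem result
    (k : Type u) [Field k] [IsAlgClosed k] (X : Scheme.{u}) [X.Over (Spec (CommRingCat.of k))]
    [IsProper (X ↘ Spec (CommRingCat.of k))] [IsReduced X] [ConnectedSpace X]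
    (hequi : ∀ Z ∈ irreducibleComponents (X : Type u), topologicalKrullDim Z = 1)
    (hX : Curv2.AtWorstNodal k X)
    (J : X.Modules) (hJc : Coh.IsCoh J) (hJp : ShStab.IsPure X J 1)
    (U : X.Opens) (f : X.presheaf.obj (Opposite.op U))
    (hf : ∀ x : X, x ∈ U → x ∈ CohB1.support J → x ∉ X.basicOpen f)
    (x : X) (hx : x ∈ U) (t : J.presheaf.stalk x) :
    (X.presheaf.germ U x hx f) • t = 0 := by
  haveI := EulerChar.isNoetherian k (X := X)
  haveI : IsLocallyNoetherian X := EulerChar.isLocallyNoetherian k
  have hdim : topologicalKrullDim X ≤ 1 := by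
    rw [S10831.result]
    exact iSup₂_le fun Z hZ => (hequi Z hZ).le
  obtain ⟨W, hxW, m, rfl⟩ := exists_germM_eq J x t
  let V : X.Opens := U ⊓ W
  let n : Γ(J, V) := rres (inf_le_left : V ≤ U) f • res J (inf_le_right : V ≤ W) m
  have hn : ∀ y (hy : y ∈ V), germM J V y hy n =
      X.presheaf.germ U y hy.1 f • germM J W y hy.2 m := fun y hy => by
    rw [germM_smul, GGDesc.germM_res_eq]
    exact congrArg (· • _) (X.presheaf.germ_res_apply (homOfLE inf_le_left) y hy f)
  rw [← hn x ⟨hx, hxW⟩]
  refine germ_eq_zero hJc hJp n (fun y hy hne => ?_) x ⟨hx, hxW⟩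
  by_contra hcl
  apply hne
  rw [hn]
  by_cases hs : y ∈ CohB1.support J
  · have hfield : IsField (X.presheaf.stalk y) :=
      S10961.isField_stalk y fun w hw => by_contra fun h => hcl (isClosed_of_gen hdim hw h)
    have h0 : X.presheaf.germ U y hy.1 f = 0 := by
      by_contra h
      refine hf y hy.1 hs ((X.mem_basicOpen f y hy.1).2 ?_)
      obtain ⟨b, hb⟩ := hfield.mul_inv_cancel h
      exact isUnit_iff_exists_inv.2 ⟨b, hb⟩
    rw [h0, zero_smul]
  · haveI : Subsingleton (J.presheaf.stalk y) := by
      by_contra h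
      exact hs h
    exact Subsingleton.elim _ _

end Groth.Agent.S17178
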