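import Groth.Statements.S17179
import Groth.Agent.LabG84.BI
-- import your own Groth.Agent.* helpers here

set_option autoImplicit false
universe u
open LabGraph

namespace Groth.Agent.S17179

open LabGraph in
/-- Let Γ be the weighted dual graph of a Deligne–Mumford semistable curve X of genus g ≥ 3 (connected;
every weight-zero vertex without loop joined to the other vertices by at least two edges), d a
multidegree of total degree D satisfying the Basic Inequality, and Z a set of vertices whose degree
equals the upper extreme M_Z of the inequality, that is 2((2g - 2)·d_Z - D·canDeg Z) = cut Z·(2g -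
2). Then d + z again satisfies the Basic Inequality, where z, the multidegree of O(Z) on the total
space of a regular smoothing, is the twist of the indicator function of Z (it lowers the degree on Z
by cut Z and raises it on each outside vertex by its number of edges to Z). -/
theorem result {V E : Type u} [Fintype V] [Fintype E]
    [DecidableEq V] [DecidableEq E] (ends : E → V × V) (w : V → ℕ) (hX : IsSemistableGraph ends w)
    (hg : 3 ≤ genus ends w) (d : V → ℤ) (hBI : SatisfiesBI ends w d) (Z : Finset V)
    (hZ : 2 * (canDeg ends w Finset.univ * (∑ v ∈ Z, d v) - (∑ v : V, d v) * canDeg ends w Z) =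
      (cut ends Z : ℤ) * canDeg ends w Finset.univ) :
    SatisfiesBI ends w (fun v => d v + twist ends (fun u => if u ∈ Z then 1 else 0) v) := by
  rw [Groth.Agent.LabG84.BI.satisfiesBI_iff_le] at hBI ⊢
  intro Y
  have hK : 0 ≤ LabGraph.canDeg ends w Finset.univ := by
    rw [Groth.Agent.LabG84.BI.canDeg_univ]; linarith
  set φ : V → ℤ := Groth.Agent.LabG84.BI.ind Z with hφ
  have hd := Groth.Agent.LabG84.BI.dev_add_twist ends w d _ φ (fun v => rfl) Y
  have hu := Groth.Agent.LabG84.BI.dev_union_inter ends w d Y Z
  have h1 := hBI (Y ∪ Z)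
  have h2 := hBI (Y ∩ Z)
  have hZ' : 2 * Groth.Agent.LabG84.BI.dev ends w d Z = (LabGraph.cut ends Z : ℤ) * LabGraph.canDeg ends w Finset.univ := hZ
  have hkey : (LabGraph.cut ends (Y ∪ Z) : ℤ) + LabGraph.cut ends (Y ∩ Z) - LabGraph.cut ends Z +
      2 * ∑ v ∈ Y, LabGraph.twist ends φ v ≤ LabGraph.cut ends Y := by
    simp only [Groth.Agent.LabG84.BI.cut_eq, Groth.Agent.LabG84.BI.sum_twist, hφ, Finset.mul_sum,
      ← Finset.sum_add_distrib, ← Finset.sum_sub_distrib]
    refine Finset.sum_le_sum fun e _ => ?_
    by_cases a1 : (ends e).1 ∈ Y <;> by_cases a2 : (ends e).2 ∈ Y <;> by_cases b1 : (ends e).1 ∈ Z <;>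
      by_cases b2 : (ends e).2 ∈ Z <;> simp [Groth.Agent.LabG84.BI.ind, a1, a2, b1, b2]
  have := mul_le_mul_of_nonneg_right hkey hK
  show 2 * Groth.Agent.LabG84.BI.dev ends w (fun v => d v + LabGraph.twist ends φ v) Y ≤ _
  rw [hd]
  nlinarith

end Groth.Agent.S17179
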