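import Groth.Statements.S17180
import Groth.Agent.HodgeIdx81.Proper
import Groth.Agent.AmpCrit.TwistDev
import Groth.Agent.AmpleLib.Functorial
import Groth.Agent.AmpleDesc.RelLimit
import Groth.Agent.CurveSimple.Embed
import Groth.Agent.DimOneAmple.Ample
import Groth.Agent.S4413


set_option autoImplicit false
universe u
open CategoryTheory CategoryTheory.Limits AlgebraicGeometry
open Surf

namespace Groth.Agent.S17180

open Groth.Agent.HodgeIdx81 Groth.Agent.ProjTwist

set_option linter.style.haveILetI false

/-- The intersection number of one class with a curve. -/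
theorem intNum_one (k : Type u) [Field k] {X : Scheme.{u}} [X.Over (Spec (CommRingCat.of k))]
    [IsProper (X ↘ Spec (CommRingCat.of k))] [AlgebraicGeometry.IsIntegral X]
    (hdim : topologicalKrullDim X = ((2 : ℕ) : WithBot ℕ∞))
    {L : X.Modules} (hL : PicF.IsInvertible L) {E : Scheme.{u}} (ι : E ⟶ X) [IsClosedImmersion ι]
    (hI : PicF.IsInvertible (ClSub.idealMod ι.ker)) :
    FGA.intNum k X 2 ![L] ((Coh.push ι).obj (Coh.structureModule E)) =
      pr k L (ClSub.idealMod ι.ker) := by
  haveI := EulerChar.isNoetherian k (X := X)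
  let e : ClSub.quotMod ι.ker ≅ (Coh.push ι).obj (Coh.structureModule E) := HilbLoc.quotModIso ι
  have hQ := CohDev.isCoh_of_iso e (EulerChar.isCoh_quotMod k ι.ker)
  rw [Snapper.intNum_eq k hdim.le, show ![L] = Fin.cons L (fun i : Fin 0 => L) from
      funext fun i => by fin_cases i; rfl,
    Snapper.intE_cons k (fun i => i.elim0) hL hQ, map_sub,
    Snapper.intK_kcl k (fun i => i.elim0) (Snapper.isCoh_tensorMod k hL hQ),
    Snapper.intK_kcl k (fun i => i.elim0) hQ, Snapper.intE_zero, Snapper.intE_zero,
    ← EulerChar.euler_iso k e, ← EulerChar.euler_iso k (tensCongr (Iso.refl L) e),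
    EulerChar.euler_iso k (tensComm L (ClSub.quotMod ι.ker))]
  have h := deg1_quotMod k hI hL
  rw [NumTriv.deg1] at h
  linarith

/-- Degrees of a module with one-dimensional support, through curves in the support. -/
theorem deg1_pieces' (k : Type u) [Field k] {X : Scheme.{u}} [X.Over (Spec (CommRingCat.of k))]
    [IsProper (X ↘ Spec (CommRingCat.of k))] {F : X.Modules} (hF : Coh.IsCoh F)
    (hd : topologicalKrullDim ↥(CohB1.support F) ≤ ((1 : ℕ) : WithBot ℕ∞))
    {L : X.Modules} (hL : PicF.IsInvertible L)
    (h0 : ∀ ξ ∈ CohB1.support F, AlgebraicGeometry.IsIntegral (IntMult.ptIdeal ξ).subscheme →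
      topologicalKrullDim ↥((IntMult.ptIdeal ξ).support : Set X) = ((1 : ℕ) : WithBot ℕ∞) →
      NumTriv.deg1 k (ClSub.quotMod (IntMult.ptIdeal ξ)) L = 0) : NumTriv.deg1 k F L = 0 := by
  haveI := EulerChar.isNoetherian k (X := X)
  have hT := CohDev.isClosed_support hF
  have hfin := IntProd70.finite_top hT hd
  have hs : ∀ ξ, ξ ∈ hfin.toFinset ↔
      ξ ∈ CohB1.support F ∧ topologicalKrullDim ↥(closure ({ξ} : Set X)) = ((1 : ℕ) : WithBot ℕ∞) :=
    fun ξ => hfin.mem_toFinset
  have h1 : ∀ {G : X.Modules}, Coh.IsCoh G → Snapper.intE k (fun _ : Fin 1 => L) G =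
      - NumTriv.deg1 k G L := fun {G} hG => by
    rw [show (fun _ : Fin 1 => L) = Fin.cons L (fun i : Fin 0 => L) from
      funext fun i => by fin_cases i; rfl,
      Snapper.intE_cons k (fun i => i.elim0) hL hG, map_sub,
      Snapper.intK_kcl k (fun i => i.elim0) (Snapper.isCoh_tensorMod k hL hG),
      Snapper.intK_kcl k (fun i => i.elim0) hG, Snapper.intE_zero, Snapper.intE_zero, NumTriv.deg1,
      EulerChar.euler_iso k (tensComm G L), neg_sub]
  have h := IntProd70.intE_components k (L := fun _ : Fin 1 => L) (fun _ => hL) hT hd _ hs hF subset_rfl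
  rw [h1 hF, Finset.sum_congr rfl fun ξ _ => by rw [h1 (CohDev.isCoh_oz ξ), mul_neg],
    Finset.sum_neg_distrib, neg_inj] at h
  rw [h]
  refine Finset.sum_eq_zero fun ξ hξ => ?_
  exact mul_eq_zero_of_right _ (h0 ξ ((hs ξ).1 hξ).1
    (S16188.isIntegral_subscheme _ isIrreducible_singleton.closure)
    (by rw [CohDev.coe_support_ptIdeal]; exact ((hs ξ).1 hξ).2))

/-- Let k be a field, X an integral proper k-scheme of dimension 2 with regular local rings which is
geometrically irreducible over k, C an integral proper smooth k-scheme of dimension 1, and f : X → C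
a surjective k-morphism. Let L be an invertible O_X-module whose intersection number with every
vertical integral curve (a closed integral one-dimensional E ⊆ X sent by f to a single point) is 0,
and whose intersection number with some horizontal integral curve P (closed, integral,
one-dimensional, with f(P) not a single point) is 0. Then (L·L) ≤ 0, and if (L·L) = 0 then L is
numerically trivial: its intersection number with every closed integral curve of X is 0. Here (L·L)
= χ(O_X) − 2χ(L) + χ(L ⊗ L) and the number with a curve Y is χ(O_Y) − χ(L ⊗ O_Y), both packaged as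
FGA.intNum. (The published assertion is the positive-definiteness of the pairing −(D·D′) on classes
of divisors of degree 0 on the generic fibre modulo classes of fibre components, after tensoring
with the rationals; this row gives that content for divisor classes up to numerical equivalence,
which is what the printed argument establishes, and leaves aside the identification of the pairing
with a canonical height. The published setting also takes X to be the relatively minimal regular
model, projective over k, of a smooth projective geometrically irreducible curve of positive genus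
over the function field of C, with C projective and geometrically irreducible; this row keeps only
the hypotheses the printed argument uses.) -/
theorem result (k : Type u) [Field k]
    (X : Scheme.{u}) [X.Over (Spec (CommRingCat.of k))] [IsProper (X ↘ Spec (CommRingCat.of k))]
    [IsIntegral X] [GeometricallyIrreducible (X ↘ Spec (CommRingCat.of k))]
    (hreg : ∀ x : X, IsRegularLocalRing (X.presheaf.stalk x)) (hdim : topologicalKrullDim X = 2)
    (C : Scheme.{u}) [C.Over (Spec (CommRingCat.of k))] [IsProper (C ↘ Spec (CommRingCat.of k))]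
    [Smooth (C ↘ Spec (CommRingCat.of k))] [IsIntegral C] (hdimC : topologicalKrullDim C = 1)
    (f : X ⟶ C) [f.IsOver (Spec (CommRingCat.of k))] [Surjective f]
    (L : X.Modules) (hL : PicF.IsInvertible L)
    (hvert : ∀ (E : Scheme.{u}) (ι : E ⟶ X) [IsClosedImmersion ι] [IsIntegral E],
      topologicalKrullDim E = 1 → (Set.range (fun e : E => f (ι e))).Subsingleton →
      FGA.intNum k X 2 ![L] ((Coh.push ι).obj (Coh.structureModule E)) = 0)
    (P : Scheme.{u}) (ιP : P ⟶ X) [IsClosedImmersion ιP] [IsIntegral P] (hP : topologicalKrullDim P = 1)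
    (hPh : (Set.range (fun q : P => f (ιP q))).Nontrivial)
    (hLP : FGA.intNum k X 2 ![L] ((Coh.push ιP).obj (Coh.structureModule P)) = 0) :
    FGA.intNum k X 2 ![L, L] (Coh.structureModule X) ≤ 0 ∧
      (FGA.intNum k X 2 ![L, L] (Coh.structureModule X) = 0 →
        ∀ (Y : Scheme.{u}) (ι : Y ⟶ X) [IsClosedImmersion ι] [IsIntegral Y], topologicalKrullDim Y = 1 →
          FGA.intNum k X 2 ![L] ((Coh.push ι).obj (Coh.structureModule Y)) = 0) := by
  have hd : topologicalKrullDim X = ((2 : ℕ) : WithBot ℕ∞) := by rw [hdim]; norm_num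
  obtain ⟨A, hA⟩ := exists_ample k hreg hd
  haveI := EulerChar.isNoetherian k (X := C)
  haveI := EulerChar.isNoetherian k (X := X)
  haveI : C.IsSeparated := ⟨by
    rw [← terminal.comp_from (C ↘ Spec (CommRingCat.of k))]
    infer_instance⟩
  obtain ⟨A₀, hA₀⟩ := DimOneAmple.exists_ample_of_dim_le_one C hdimC.le
  obtain ⟨m, s, hs, -⟩ := hA₀.2.2 (genericPoint C)
  let A₁ := CohB1.tensorPow A₀ (m + 1)
  have hA₁ : CohB1.IsAmple A₁ := (AmpleLib.isAmple_tensorPow_iff hA₀.1 (Nat.succ_pos m)).2 hA₀
  let G := (Scheme.Modules.pullback f).obj A₁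
  have hG : PicF.IsInvertible G := PicCl.isInvertible_pullback f hA₁.1
  let e := (QCoh.pullbackUnitIso f).symm
  let t : Coh.structureModule X ⟶ G := e.hom ≫ (Scheme.Modules.pullback f).map s
  have hloc := S4413.result f A₁ hA₁.1 s e
  have hηX : genericPoint X ∈ CohB1.genLocus G t := by
    rw [hloc]
    obtain ⟨x, hx⟩ := f.surjective (genericPoint C)
    exact (((genericPoint_specializes x).map f.continuous).mem_open (CohB1.genLocus A₁ s).2
      (show f x ∈ CohB1.genLocus A₁ s from hx ▸ hs) :)
  -- degree zero on vertical curves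
  have hvdeg : ∀ (E : X.IdealSheafData), AlgebraicGeometry.IsIntegral E.subscheme →
      topologicalKrullDim ↥(E.support : Set X) = ((1 : ℕ) : WithBot ℕ∞) →
      (f '' (E.support : Set X)).Subsingleton →
      NumTriv.deg1 k (ClSub.quotMod E) G = 0 := by
    intro E hE hE1 hsub
    haveI := hE
    let g := E.subschemeι ≫ f
    obtain ⟨n, σ, hσ, -⟩ := hA₁.2.2 (g (genericPoint E.subscheme))
    let P := CohB1.tensorPow A₁ (n + 1)
    have hP : PicF.IsInvertible P := AmpleLib.isInvertible_tensorPow hA₁.1 _
    let e' := (QCoh.pullbackUnitIso g).symm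
    let t' : Coh.structureModule E.subscheme ⟶ (Scheme.Modules.pullback g).obj P :=
      e'.hom ≫ (Scheme.Modules.pullback g).map σ
    have hall : ∀ z, z ∈ CohB1.genLocus _ t' := fun z => by
      rw [S4413.result g P hP σ e']
      show g z ∈ CohB1.genLocus P σ
      have hzz : ∀ w, g w ∈ f '' (E.support : Set X) := fun w =>
        ⟨E.subschemeι w, E.range_subschemeι ▸ Set.mem_range_self w, rfl⟩
      rw [hsub (hzz z) (hzz (genericPoint E.subscheme))]
      exact hσ
    haveI : Mono t' := EulerChar.mono_of_ne_zero (PicLoc.isInvertible_structureModule _)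
      (PicCl.isInvertible_pullback g hP) t' fun h0 => by
      have hb := (HilbPolyX.stalk_sec_bijective t' (hall (genericPoint E.subscheme))).1
      rw [h0] at hb
      obtain ⟨eO⟩ := EulerChar.stalk_ofRank
        (isFinLocFreeOfRank_one (PicLoc.isInvertible_structureModule E.subscheme)) (genericPoint E.subscheme)
      have : Subsingleton ((Coh.structureModule E.subscheme).presheaf.stalk (genericPoint E.subscheme)) := by
        refine ⟨fun a b => hb ?_⟩
        rw [CohDev.stalkLin_zero_apply, CohDev.stalkLin_zero_apply]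
      have : Subsingleton (Fin 1 → E.subscheme.presheaf.stalk (genericPoint E.subscheme)) :=
        eO.injective.subsingleton
      exact one_ne_zero (congrFun (Subsingleton.elim
        (1 : Fin 1 → E.subscheme.presheaf.stalk (genericPoint E.subscheme)) 0) 0)
    have : Epi t' := Preadditive.epi_of_isZero_cokernel t'
      (CohDev.isZero_of_support_eq_empty (Set.eq_empty_iff_forall_notMem.2 fun x =>
        CohDev.not_mem_support_cokernel t' (HilbPolyX.stalk_sec_bijective t' (hall x)).2))
    have : IsIso t' := isIso_of_mono_of_epi t'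
    have hfac := BigVol.SemiAmple.curve_facts k E (hE1.trans rfl)
      (AmpleLib.isInvertible_tensorPow hG (n + 1))
    have h0 := hfac.2.1 ⟨(Scheme.Modules.pullback E.subschemeι).mapIso
      (AmpCrit.TwistDev.pullPowIso f A₁ (n + 1)).symm ≪≫ (Scheme.Modules.pullbackComp E.subschemeι f).app P ≪≫
        (asIso t').symm⟩
    rw [(BigVol.SemiAmple.curve_facts k E (hE1.trans rfl) hG).2.2 (n + 1)] at h0
    exact (mul_eq_zero.1 h0).resolve_left (by exact_mod_cast n.succ_ne_zero)
  -- the pairing with classes of degree zero on vertical curves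
  have hzero : ∀ M : X.Modules, PicF.IsInvertible M →
      (∀ E : X.IdealSheafData, AlgebraicGeometry.IsIntegral E.subscheme →
        topologicalKrullDim ↥(E.support : Set X) = ((1 : ℕ) : WithBot ℕ∞) →
        (f '' (E.support : Set X)).Subsingleton → NumTriv.deg1 k (ClSub.quotMod E) M = 0) →
      pr k M G = 0 := by
    intro M hM hMv
    have hO := PicLoc.isInvertible_structureModule X
    have hOc := VBLib.isCoh_of_ofRank (isFinLocFreeOfRank_one hO)
    have hGc := VBLib.isCoh_of_ofRank (isFinLocFreeOfRank_one hG)
    have hb := (HilbPolyX.stalk_sec_bijective t hηX)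
    have ht0 : t ≠ 0 := fun h0 => by
      rw [h0] at hb
      obtain ⟨eO⟩ := EulerChar.stalk_ofRank (isFinLocFreeOfRank_one hO) (genericPoint X)
      have : Subsingleton ((Coh.structureModule X).presheaf.stalk (genericPoint X)) := by
        refine ⟨fun a b => hb.1 ?_⟩
        rw [CohDev.stalkLin_zero_apply, CohDev.stalkLin_zero_apply]
      have : Subsingleton (Fin 1 → X.presheaf.stalk (genericPoint X)) := eO.injective.subsingleton
      exact one_ne_zero (congrFun (Subsingleton.elim (1 : Fin 1 → X.presheaf.stalk (genericPoint X)) 0) 0)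
    haveI := EulerChar.mono_of_ne_zero hO hG t ht0
    have hQ : Coh.IsCoh (cokernel t) := CohDev.isCoh_cokernel t hOc.1 hGc
    have hQd : topologicalKrullDim ↥(CohB1.support (cokernel t)) ≤ ((1 : ℕ) : WithBot ℕ∞) := by
      refine Snapper.le_of_lt_succ ?_
      refine CohDev.dim_lt_of_irreducible (CohDev.isClosed_support hQ)
        (IrreducibleSpace.isIrreducible_univ X) (Set.subset_univ _) (fun h =>
          CohDev.not_mem_support_cokernel t (EulerChar.bijective_stalk_generic hO hG t ht0).2
            (h (Set.mem_univ (genericPoint X)))) ?_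
      rw [IsHomeomorph.topologicalKrullDim_eq _ (Homeomorph.Set.univ X).isHomeomorph, hd]
    have hS := HilbPolyX.shortExact_of_mono t
    have h1 : Curv2.euler k X G = Curv2.euler k X (Coh.structureModule X) + Curv2.euler k X (cokernel t) :=
      EulerChar.euler_add' k t (cokernel.π t) (cokernel.condition t) hS hOc hGc hQ
    have h2 : Curv2.euler k X (CohB1.tensorMod M G) =
        Curv2.euler k X (CohB1.tensorMod M (Coh.structureModule X)) +
          Curv2.euler k X (CohB1.tensorMod M (cokernel t)) :=
      euler_tens_add k (S := ShortComplex.mk t (cokernel.π t) (cokernel.condition t)) hM hS hOc hGc hQ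
    rw [EulerChar.euler_iso k (tensOne M)] at h2
    have h3 : pr k M G = NumTriv.deg1 k (cokernel t) M := by
      rw [NumTriv.deg1, pr, EulerChar.euler_iso k (tensComm (cokernel t) M)]
      linarith
    rw [h3]
    refine deg1_pieces' k hQ hQd hM fun ξ hξ hint hξ1 => hMv _ hint hξ1 ?_
    have hξ' : f ξ ∉ CohB1.genLocus A₁ s := fun h => CohDev.not_mem_support_cokernel t
      (HilbPolyX.stalk_sec_bijective t (hloc.ge h)).2 hξ
    have hcl : IsClosed ({f ξ} : Set C) :=
      VarDim.isClosed_singleton_of_ne_genericPoint k hdimC fun h => hξ' (h ▸ hs)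
    rw [CohDev.coe_support_ptIdeal]
    refine (Set.subsingleton_singleton (a := f ξ)).anti ?_
    rintro _ ⟨x, hx, rfl⟩
    exact closure_minimal (show {ξ} ⊆ f ⁻¹' {f ξ} from Set.singleton_subset_iff.2 rfl)
      (hcl.preimage f.continuous) hx
  have hGG : pr k G G = 0 := hzero G hG hvdeg
  have hLG : pr k L G = 0 := hzero L hL fun E hE hE1 hsub => by
    haveI := hE
    have hIE := isInvertible_of_curve k hreg hd E hE1
    have hd1 : topologicalKrullDim E.subscheme = 1 := by
      rw [IsHomeomorph.topologicalKrullDim_eq _ (E.subschemeι.isEmbedding.toHomeomorph.trans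
        (Homeomorph.setCongr E.range_subschemeι)).isHomeomorph, hE1]
      rfl
    have h := hvert E.subscheme E.subschemeι hd1 (hsub.anti (by
      rintro _ ⟨z, rfl⟩
      exact ⟨E.subschemeι z, E.range_subschemeι ▸ Set.mem_range_self z, rfl⟩))
    rw [intNum_one k hd hL E.subschemeι (by rwa [E.ker_subschemeι]), E.ker_subschemeι] at h
    rw [deg1_quotMod k hIE hL, h, neg_zero]
  -- the horizontal curve
  haveI : IsIso ιP.toImage := inferInstance
  haveI hPint : AlgebraicGeometry.IsIntegral ιP.ker.subscheme := IsIntegral.of_isIso ιP.toImage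
  have hsupp : (ιP.ker.support : Set X) = Set.range ιP := by
    rw [Scheme.Hom.support_ker, ιP.isClosedEmbedding.isClosed_range.closure_eq]
  have hP1 : topologicalKrullDim ↥(ιP.ker.support : Set X) = ((1 : ℕ) : WithBot ℕ∞) := by
    rw [hsupp, ← IsHomeomorph.topologicalKrullDim_eq _ ιP.isEmbedding.toHomeomorph.isHomeomorph, hP]
    rfl
  have hIP := isInvertible_of_curve k hreg hd ιP.ker hP1
  rw [intNum_one k hd hL ιP hIP] at hLP
  have hGP : pr k G (ClSub.idealMod ιP.ker) < 0 := by
    letI : ιP.ker.subscheme.Over (Spec (CommRingCat.of k)) :=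
      ⟨ιP.ker.subschemeι ≫ (X ↘ Spec (CommRingCat.of k))⟩
    haveI : IsProper (ιP.ker.subscheme ↘ Spec (CommRingCat.of k)) :=
      inferInstanceAs (IsProper (ιP.ker.subschemeι ≫ (X ↘ Spec (CommRingCat.of k))))
    let g := ιP.ker.subschemeι ≫ f
    haveI : IsProper g := by
      haveI : IsProper (g ≫ (C ↘ Spec (CommRingCat.of k))) := by
        rw [Category.assoc, comp_over f]
        infer_instance
      exact IsProper.of_comp g (C ↘ Spec (CommRingCat.of k))
    have hd1 : topologicalKrullDim ιP.ker.subscheme = 1 := by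
      rw [IsHomeomorph.topologicalKrullDim_eq _ (ιP.ker.subschemeι.isEmbedding.toHomeomorph.trans
        (Homeomorph.setCongr ιP.ker.range_subschemeι)).isHomeomorph, hP1]
      rfl
    have hnc : ¬ IsClosed ({g (genericPoint ιP.ker.subscheme)} : Set C) := fun hcl => by
      refine hPh.not_subsingleton ((Set.subsingleton_singleton
        (a := g (genericPoint ιP.ker.subscheme))).anti ?_)
      rintro _ ⟨q, rfl⟩
      obtain ⟨z, hz⟩ : ιP q ∈ Set.range ιP.ker.subschemeι := by
        rw [ιP.ker.range_subschemeι, hsupp]; exact Set.mem_range_self q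
      show f (ιP q) ∈ _
      rw [← hz]
      exact ((genericPoint_specializes z).map g.continuous).mem_closed hcl rfl
    haveI := CurveSimple.isFinite_of_nonconstant k g hd1 hnc
    have hamp : CohB1.IsAmple ((Scheme.Modules.pullback ιP.ker.subschemeι).obj G) :=
      Props.AmpleFrames.isAmple_of_iso ((Scheme.Modules.pullbackComp ιP.ker.subschemeι f).app A₁).symm
        (AmpleLib.isAmple_pullback_of_qaMor g (AmpleDesc.qaMor_of_isAffineHom g) hA₁)
    have h : 0 < NumTriv.deg1 k (ClSub.quotMod ιP.ker) G :=
      (BigVol.SemiAmple.curve_facts k ιP.ker (hP1.trans rfl) hG).1 hamp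
    rw [deg1_quotMod k hIP hG] at h
    omega
  obtain ⟨Q, hQ, hQC⟩ := exists_comb k hd.le hG hIP
    (|pr k (ClSub.idealMod ιP.ker) (ClSub.idealMod ιP.ker)| + 1) (-1)
  have hQQ : 0 < pr k Q Q := by
    rw [hQC Q hQ, pr_comm k G Q, pr_comm k _ Q, hQC G hG, hQC _ hIP, hGG,
      pr_comm k (ClSub.idealMod ιP.ker) G]
    nlinarith [abs_nonneg (pr k (ClSub.idealMod ιP.ker) (ClSub.idealMod ιP.ker)),
      neg_abs_le (pr k (ClSub.idealMod ιP.ker) (ClSub.idealMod ιP.ker))]
  have hQL : pr k Q L = 0 := by
    rw [hQC L hL, pr_comm k G L, hLG, pr_comm k _ L, hLP]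
    ring
  rw [intNum_eq_pr k hd hL hL]
  refine ⟨pr_self_nonpos_of_pos k hd hA hQ hL hQQ hQL, fun h0 Y ι _ _ hY => ?_⟩
  haveI : IsIso ι.toImage := inferInstance
  haveI : AlgebraicGeometry.IsIntegral ι.ker.subscheme := IsIntegral.of_isIso ι.toImage
  have hIY := isInvertible_of_curve k hreg hd ι.ker (by
    rw [Scheme.Hom.support_ker, ι.isClosedEmbedding.isClosed_range.closure_eq,
      ← IsHomeomorph.topologicalKrullDim_eq _ ι.isEmbedding.toHomeomorph.isHomeomorph, hY]
    rfl)
  rw [intNum_one k hd hL ι hIY]
  exact pr_eq_zero_of_orth k hd hA hQ hL hQQ hQL h0 hIY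

end Groth.Agent.S17180
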