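import Groth.Statements.S17181
import Groth.Agent.FBase.IrredComp
-- import your own Groth.Agent.* helpers here

set_option autoImplicit false
universe u
open CategoryTheory CategoryTheory.Limits AlgebraicGeometry
open FBase

namespace Groth.Agent.S17181

open CategoryTheory.Limits TensorProduct
open Groth.Agent.FBase.BC Groth.Agent.FBase.BC2 Groth.Agent.FBase.Topo
open Groth.Agent.FBase.Components Groth.Agent.FBase.ConnComp Groth.Agent.FBase.IrredComp

/-- Let k be a field, C an irreducible k-scheme which is geometrically irreducible over k, and f : X → C
a flat k-morphism locally of finite type with X irreducible. If the generic fibre of f is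
geometrically irreducible over the residue field of the generic point of C, then X is geometrically
irreducible over k. (The published setting is a regular proper surface mapping onto a smooth
projective geometrically irreducible curve with smooth projective geometrically irreducible generic
fibre; the printed argument uses only the hypotheses kept here.) -/
theorem result (k : Type u) [Field k]
    (X C : Scheme.{u}) [X.Over (Spec (CommRingCat.of k))] [C.Over (Spec (CommRingCat.of k))]
    (f : X ⟶ C) [f.IsOver (Spec (CommRingCat.of k))] [IrreducibleSpace X] [IrreducibleSpace C]
    [GeometricallyIrreducible (C ↘ Spec (CommRingCat.of k))] [Flat f] [LocallyOfFiniteType f]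
    [GeometricallyIrreducible (f.fiberToSpecResidueField (genericPoint C))] :
    GeometricallyIrreducible (X ↘ Spec (CommRingCat.of k)) := by
  let sC := C ↘ Spec (CommRingCat.of k)
  refine ⟨geometrically_iff_of_commRing_of_isClosedUnderIsomorphisms.mpr fun L _ _ ↦ ?_⟩
  have : IrreducibleSpace ↥(pullback sC (specMap k L)) :=
    pullback_of_geometrically GeometricallyIrreducible.geometrically_irreducibleSpace _ _
  let q := pullback.fst sC (specMap k L)
  let g := pullback.snd f q
  let η' := genericPoint ↥(pullback sC (specMap k L))
  have hq : q η' = genericPoint C :=
    ((generization_maximal_map q (fun v _ ↦ genericPoint_specializes v)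
      (genericPoint_specializes _)).antisymm (genericPoint_specializes _)).eq
  have hgi : GeometricallyIrreducible (f.fiberToSpecResidueField (q η')) := by
    rw [hq]; infer_instance
  have : IrreducibleSpace ↥(pullback (f.fiberToSpecResidueField (q η'))
      (Spec.map (q.residueFieldMap η'))) :=
    pullback_of_geometrically hgi.geometrically_irreducibleSpace _ _
  let e : pullback (f.fiberToSpecResidueField (q η')) (Spec.map (q.residueFieldMap η')) ≅
      g.fiber η' :=
    pullbackLeftPullbackSndIso f _ _ ≪≫
      pullback.congrHom rfl (Scheme.Hom.SpecMap_residueFieldMap_fromSpecResidueField q η') ≪≫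
      (pullbackLeftPullbackSndIso f _ _).symm
  have : IrreducibleSpace ↥(g.fiber η') := e.hom.homeomorph.irreducibleSpace_iff.mp ‹_›
  have hF : IsIrreducible (g ⁻¹' {η'}) := by
    rw [← g.range_fiberι η', ← Set.image_univ]
    exact (IrreducibleSpace.isIrreducible_univ (g.fiber η')).image _
      (g.fiberι η').continuous.continuousOn
  have hd : closure (g ⁻¹' {η'}) = Set.univ := Set.eq_univ_of_forall fun z ↦ by
    obtain ⟨v, hv, hvη⟩ := Flat.generalizingMap g (genericPoint_specializes (g z))
    exact hv.mem_closed isClosed_closure (subset_closure hvη)
  have : IrreducibleSpace ↥(pullback f q) :=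
    (irreducibleSpace_def _).mpr (by rw [Set.top_eq_univ, ← hd]; exact hF.closure)
  let i : pullback f q ≅ pullback (X ↘ Spec (CommRingCat.of k)) (specMap k L) :=
    pullbackRightPullbackFstIso sC (specMap k L) f ≪≫
      pullback.congrHom (comp_over f (Spec (CommRingCat.of k))) rfl
  exact i.hom.homeomorph.irreducibleSpace_iff.mp this

end Groth.Agent.S17181
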