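import Groth.Statements.S1721
import Groth.Agent.DualCx.Polynomial
import Groth.Agent.PtTop.Catenary

set_option autoImplicit false
universe u
open CategoryTheory
attribute [local instance] HasDerivedCategory.standard
open Dual

namespace Groth.Agent.S1721

theorem isDualizing_of_equiv {B C : Type u} [CommRing B] [CommRing C] [IsNoetherianRing B] (e : B ≃+* C)
    {ω : Dual.D B} (hω : Dual.IsDualizing B ω) : ∃ ω' : Dual.D C, Dual.IsDualizing C ω' := by
  let := e.toRingHom.toAlgebra
  let el : B ≃ₗ[B] C :=
    { e.toAddEquiv with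
      map_smul' := fun b x => by
        change e (b • x) = e b * e x
        rw [smul_eq_mul, map_mul] }
  have : Module.Flat B C := Module.Flat.of_linearEquiv el.symm
  have : IsNoetherianRing C := isNoetherianRing_of_ringEquiv B e
  exact ⟨_, DualCx.Extended.isDualizing hω fun m _ =>
    Ideal.map_comap_of_surjective _ e.surjective m⟩

theorem exists_isDualizing_mvPolynomial {A : Type u} [CommRing A] [IsNoetherianRing A] {ω : Dual.D A}
    (hω : Dual.IsDualizing A ω) : ∀ n : ℕ,
      ∃ ω' : Dual.D (MvPolynomial (Fin n) A), Dual.IsDualizing (MvPolynomial (Fin n) A) ω'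
  | 0 => isDualizing_of_equiv (MvPolynomial.isEmptyAlgEquiv A (Fin 0)).toRingEquiv.symm hω
  | n + 1 => by
    obtain ⟨ω', hω'⟩ := exists_isDualizing_mvPolynomial hω n
    exact isDualizing_of_equiv (MvPolynomial.finSuccEquiv A n).toRingEquiv.symm
      (DualCx.Polynomial.isDualizing hω')


/-- A Noetherian ring admitting a dualizing complex is universally catenary. (Finiteness of the
dimension is a separate, earlier result.) -/
theorem result (A : Type u) [CommRing A] [IsNoetherianRing A] (ω : Dual.D A) (hω : Dual.IsDualizing A ω) : CAlg.IsUniversallyCatenary A := by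
  refine ⟨inferInstance, fun S _ _ hS => ?_⟩
  obtain ⟨n, f, hf⟩ := Algebra.FiniteType.iff_quotient_mvPolynomial''.mp hS
  obtain ⟨ω', hω'⟩ := exists_isDualizing_mvPolynomial hω n
  refine PtTop.Catenary.isCatenary_of_surjective f.toRingHom hf ?_
  refine (PtTop.Catenary.cat_iff_isCatenary _).mpr (PtTop.Catenary.cat_of_rank (DualCx.Dimfun.deg hω')
    (fun p q h => DualCx.Dimfun.deg_lt hω' h) fun p q h => ?_)
  exact DualCx.Dimfun.deg_covBy hω' h

end Groth.Agent.S1721
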