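import Groth.Statements.S1722
import Groth.Agent.DualCx.Dimfun

set_option autoImplicit false
universe u
open CategoryTheory
attribute [local instance] HasDerivedCategory.standard
open Dual

namespace Groth.Agent.S1722

/-- Let ω be a dualizing complex over a Noetherian ring A. There is a function δ from Spec A to the
integers such that, for every prime p and every integer i, the localization at p of the A-module of
maps A/p → ω[i] in D(A) is nonzero exactly when i = −δ(p); and δ is a dimension function: δ(p) =
δ(q) + 1 whenever q covers p in Spec A (p ⊂ q with no prime strictly in between). -/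
theorem result (A : Type u) [CommRing A] [IsNoetherianRing A] (ω : Dual.D A) (hω : Dual.IsDualizing A ω) : ∃ δ : PrimeSpectrum A → ℤ, (∀ (p : PrimeSpectrum A) (i : ℤ), Nontrivial (LocalizedModule p.asIdeal.primeCompl (Dual.inD A (A ⧸ p.asIdeal) ⟶ ω⟦i⟧)) ↔ i = -δ p) ∧ ∀ p q : PrimeSpectrum A, p ⋖ q → δ p = δ q + 1 := by
  refine ⟨fun p => -Groth.Agent.DualCx.Dimfun.deg hω p, fun p i => ?_, fun p q h => ?_⟩
  · rw [neg_neg, ← not_subsingleton_iff_nontrivial, ← Groth.Agent.DualCx.Dimfun.Z_iff_localized]
    exact ⟨fun h => Groth.Agent.DualCx.Dimfun.eq_deg_of_not_Z hω h,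
      fun h => h ▸ Groth.Agent.DualCx.Dimfun.not_Z_deg hω p⟩
  · have := Groth.Agent.DualCx.Dimfun.deg_covBy hω h
    simp only
    omega

end Groth.Agent.S1722
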