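import Groth.Statements.S1723
import Groth.Agent.DualCx.GorFibre
import Groth.Agent.DualCx.Normalized
import Groth.Agent.RegLoc.AdicNoeth
import Mathlib.RingTheory.AdicCompletion.LocalRing
import Mathlib.RingTheory.AdicCompletion.AsTensorProduct

set_option autoImplicit false
universe u
open CategoryTheory
attribute [local instance] HasDerivedCategory.standard
open Dual

namespace Groth.Agent.S1723

/-- If a Noetherian local ring A has a dualizing complex, then each of its formal fibres is a Gorenstein
ring: for every prime p the ring A^ ⊗_A κ(p) (completion at the maximal ideal, tensored with the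
residue field of p) is a Gorenstein ring. -/
theorem result (A : Type u) [CommRing A] [IsLocalRing A] [IsNoetherianRing A] (ω : Dual.D A) (hω : Dual.IsDualizing A ω) (p : PrimeSpectrum A) : LocCoh.IsGorensteinRing (EGA4.formalFibre A p.asIdeal) := by
  let B := EGA4.Cpl A
  have hN : IsNoetherianRing B :=
    RegLoc.AdicNoeth.isNoetherianRing_adicCompletion _ (IsNoetherian.noetherian _)
  have : Module.Flat A B := AdicCompletion.flat_of_isNoetherian _
  have hB : Dual.IsDualizing B ((DualCx.BaseChange.FD A B).obj ω) :=
    DualCx.Extended.isDualizing hω fun m hm => by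
      have hm' : m = IsLocalRing.maximalIdeal B := IsLocalRing.eq_maximalIdeal hm
      subst hm'
      refine le_antisymm Ideal.map_comap_le ?_
      rw [AdicCompletion.maximalIdeal_eq_map]
      exact Ideal.map_mono (Ideal.le_comap_map (f := algebraMap A B))
  have : IsNoetherianRing (p.asIdeal.Fiber B) := Gor.Ring.isNoetherianRing_fiber p.asIdeal
  refine { isGorensteinLocalRing_localization := fun Q _ => ?_ }
  refine (DualCx.GorFibre.gorenstein_quotient_iff p.asIdeal Q _ rfl).mpr ?_
  let r : PrimeSpectrum B := ⟨Q.comap (Algebra.TensorProduct.includeRight (R := A)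
    (A := p.asIdeal.ResidueField) (B := B)), inferInstance⟩
  let L := Localization.AtPrime r.asIdeal
  have : Module.Flat B L := IsLocalization.flat _ r.asIdeal.primeCompl
  have : Module.Flat A L := Module.Flat.trans A B L
  obtain ⟨ec⟩ := DualCx.Comp.nonempty_iso A B L ω
  have hd : Dual.IsDualizing L ((DualCx.BaseChange.FD A L).obj ω) :=
    DualCx.FlatBC.isDualizing_of_iso ec.symm (DualCx.Dimfun.isDualizing_local hB r)
  obtain ⟨j, hj⟩ := DualCx.Normalized.exists_isNormalized hd
  have hp : (IsLocalRing.maximalIdeal L).comap (algebraMap A L) = p.asIdeal := by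
    rw [IsScalarTower.algebraMap_eq A B L, ← Ideal.comap_comap]
    refine (congrArg (Ideal.comap (algebraMap A B))
      (Localization.AtPrime.under_maximalIdeal (I := r.asIdeal))).trans ?_
    exact ((Ideal.over_def r.asIdeal p.asIdeal).symm :)
  have hlo : p.asIdeal.map (algebraMap A L) ≤ IsLocalRing.maximalIdeal L :=
    Ideal.map_le_iff_le_comap.mpr hp.ge
  have hne : p.asIdeal.map (algebraMap A L) ≠ ⊤ := fun h =>
    (IsLocalRing.maximalIdeal.isMaximal L).ne_top (top_le_iff.mp (h ▸ hlo))
  have : Nontrivial (L ⧸ p.asIdeal.map (algebraMap A L)) := Ideal.Quotient.nontrivial_iff.mpr hne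
  have : IsLocalRing (L ⧸ p.asIdeal.map (algebraMap A L)) :=
    .of_surjective' (Ideal.Quotient.mk _) Ideal.Quotient.mk_surjective
  obtain ⟨n, hn⟩ := Gor.Basic.exists_natCast_ringKrullDim (A := L ⧸ p.asIdeal.map (algebraMap A L))
  obtain ⟨hv, ⟨e⟩⟩ := DualCx.GorFibre.H_of_flat hω p hp
  refine DualCx.Fiber.gorenstein (DualCx.Normalized.isDualizing_shift hd j) hj n _
    (DualCx.Dimfun.deg hω p - j) hne hn ⟨fun i hi => ?_, ?_⟩
  · have := hv (j + i) (by omega)
    exact (DualCx.Normalized.shiftE _ _ j i _ rfl).toEquiv.subsingleton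
  · exact ⟨(DualCx.Normalized.shiftE _ _ j _ _ (by omega)).trans e⟩

end Groth.Agent.S1723
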