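import Groth.Statements.S17244
import Groth.Agent.EffDivWronsk67.Main

set_option autoImplicit false
open W4c4effdivwronsk2

namespace Groth.Agent.S17244

open Polynomial in
/-- Let `k` be a field of characteristic zero and take, on the projective line over `k`, the point `∞`
and `m` further distinct points `r_1, …, r_m` of the affine line, with positive integers `b` (at
`∞`) and `a_1, …, a_m`; put `N = b + ∑ a_j`. The sum of the spaces of differentials with a single
pole, of order at most `b + 1` at `∞`, resp. at most `a_j + 1` at `r_j`, `V = H⁰(ω((b+1)∞)) + ∑_j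
H⁰(ω((a_j+1)r_j)) ⊆ H⁰(ω((b+1)∞ + ∑_j (a_j+1)r_j)) ≅ H⁰(O(d))`, `d = b - 1 + ∑ (a_j+1)`, becomes,
after multiplying by `dX⁻¹ ∏_j (X - r_j)^(a_j+1)`, the subspace of `k[X]_{≤ d}` spanned by
`D·k[X]_{<b}` and the `D_i·k[X]_{<a_i}`, where `D = ∏_j (X - r_j)^(a_j+1)` and `D_i` omits the
`i`-th factor; a member `h` vanishes to order `n` at a point `q` of the affine line when `(X - q)^n
∣ h`, and to order `d - deg h` at `∞`. Let `V₁ ⊆ V` be a hyperplane (`dim V₁ = N - 1`) containing
`D·k[X]_{<b-2}` and every `D_i·k[X]_{<a_i}` (that is, containing `H⁰(ω((b-1)∞)) + ∑_j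
H⁰(ω((a_j+1)r_j))`). The weight of `V₁` at a point is `∑_{n=1}^{d} dim V₁(-n·point) - (N-1 choose
2)` (the sum of the vanishing orders minus `0 + 1 + ⋯ + (N-2)`). Then the weight of `V₁` at `r_i` is
`∑_{j≠i} a_j + b - 1 + ε_i` and its weight at `∞` is `∑_j a_j + N - 2 + ε`, with `ε_i, ε ∈ {0, 1}`.
(The published statement is over the complex numbers with the distinguished marked point arbitrary;
it is placed at `∞` here.) -/
theorem result
    (k : Type*) [Field k] [CharZero k] (m : ℕ) (r : Fin m → k) (hr : Function.Injective r)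
    (a : Fin m → ℕ) (ha : ∀ j, 1 ≤ a j) (b : ℕ) (hb : 1 ≤ b) (N d : ℕ)
    (hN : N = (∑ j, a j) + b) (hd : d + 1 = (∑ j, (a j + 1)) + b)
    (V : Submodule k (Polynomial k))
    (hV : V = (Polynomial.degreeLT k b).map (LinearMap.mulLeft k (∏ j, (X - C (r j)) ^ (a j + 1))) ⊔
      ⨆ i, (Polynomial.degreeLT k (a i)).map
        (LinearMap.mulLeft k (∏ j ∈ Finset.univ.erase i, (X - C (r j)) ^ (a j + 1))))
    (V₁ : Submodule k (Polynomial k)) (hV₁ : V₁ ≤ V) (hfin : Module.finrank k ↥V₁ + 1 = N)
    (hU : (Polynomial.degreeLT k (b - 2)).map (LinearMap.mulLeft k (∏ j, (X - C (r j)) ^ (a j + 1))) ⊔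
      (⨆ i, (Polynomial.degreeLT k (a i)).map
        (LinearMap.mulLeft k (∏ j ∈ Finset.univ.erase i, (X - C (r j)) ^ (a j + 1)))) ≤ V₁) :
    (∀ i : Fin m, ∃ ε : ℕ, ε ≤ 1 ∧
      (∑ n ∈ Finset.range d, Module.finrank k ↥(V₁ ⊓ (Ideal.span {(X - C (r i)) ^ (n + 1)}).restrictScalars k)) + 1 =
        (N - 1).choose 2 + (N - a i) + ε) ∧
    (∃ ε : ℕ, ε ≤ 1 ∧
      (∑ n ∈ Finset.range d, Module.finrank k ↥(V₁ ⊓ Polynomial.degreeLT k (d - n))) =
        (N - 1).choose 2 + (N - b) + (N - 2) + ε) := by
  classical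
  rw [EffDivWronsk67.span_eq_map r a hr, ← hN] at hV
  subst hV
  obtain ⟨W, α, β, hne, hE, rfl, hW⟩ := EffDivWronsk67.exists_hyperplane r a hr b hb N hN V₁ hV₁ hfin hU
  have hd' : d + 1 = N + m := by simp [Finset.sum_add_distrib] at hd; omega
  have hc := EffDivWronsk67.choose_pred N (by omega)
  haveI : FiniteDimensional k W := Submodule.finiteDimensional_of_le (hW.le.trans inf_le_left)
  refine ⟨fun i => ?_, ?_⟩
  · have hai : a i < N := by
      have := Finset.single_le_sum (f := a) (fun j _ => Nat.zero_le _) (Finset.mem_univ i)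
      omega
    have hm : 0 < m := Fin.pos i
    let g := fun n => Module.finrank k ↥(W ⊓ EffDivWronsk67.M (r i) (n + 1))
    have hg : ∀ n, n + 1 < N → g n = N - (n + 1) := fun n hn => by
      haveI : FiniteDimensional k ↥(degreeLT k (N + 1) ⊓ EffDivWronsk67.M (r i) (n + 1)) := Submodule.finiteDimensional_inf_left _ _
      obtain ⟨w, hw, hw'⟩ := EffDivWronsk67.exists_ne_phi (N := N) (by omega) hne (r i) (n := n + 1) (by omega)
      have := EffDivWronsk67.finrank_inf_ker _ _ hw hw'
      rw [EffDivWronsk67.finrank_inf_M, ← inf_right_comm, ← hW] at this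
      show Module.finrank k ↥(W ⊓ EffDivWronsk67.M (r i) (n + 1)) = _
      omega
    have hgN : g (N - 1) ≤ 1 := by
      haveI : FiniteDimensional k ↥(degreeLT k (N + 1) ⊓ EffDivWronsk67.M (r i) (N - 1 + 1)) := Submodule.finiteDimensional_inf_left _ _
      refine (Submodule.finrank_mono (inf_le_inf_right _ (hW.le.trans inf_le_left))).trans ?_
      rw [EffDivWronsk67.finrank_inf_M]; omega
    refine ⟨g (N - 1), hgN, ?_⟩
    have hsum : ∑ n ∈ Finset.range N, g n = N.choose 2 + g (N - 1) := by
      obtain ⟨N', hN'⟩ : ∃ N', N = N' + 1 := ⟨N - 1, by omega⟩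
      rw [← EffDivWronsk67.sum_triangle]
      subst hN'
      rw [Finset.sum_range_succ, Finset.sum_range_succ, Finset.sum_congr rfl fun n hn => hg n (by simp at hn; omega)]
      simp
    have hw := EffDivWronsk67.weight N (a i) d hai.le
      (fun n => Module.finrank k ↥(W.map (EffDivWronsk67.T r a) ⊓ (Ideal.span {(X - C (r i)) ^ (n + 1)}).restrictScalars k)) g
      (fun n _ => by
        show Module.finrank k ↥(_ ⊓ EffDivWronsk67.M (r i) (n + 1)) + _ = _
        rw [EffDivWronsk67.map_inf_M_marked r a hr hE]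
        haveI : FiniteDimensional k ↥(W ⊓ EffDivWronsk67.M (r i) (n + 1)) := Submodule.finiteDimensional_inf_left _ _
        have h := EffDivWronsk67.finrank_map_T r a (W ⊓ EffDivWronsk67.M (r i) (n + 1))
        simp only [Submodule.mem_inf, hE, true_and, EffDivWronsk67.E_mem_M_marked r a hr] at h
        convert h using 2)
      (fun n hn => ?_) (fun n hn => ?_)
    · omega
    all_goals
      show Module.finrank k ↥(_ ⊓ EffDivWronsk67.M (r i) (n + 1)) = 0
      rw [EffDivWronsk67.map_inf_M_marked r a hr hE, le_bot_iff.1 ((inf_le_inf_right _ (hW.le.trans inf_le_left)).trans (EffDivWronsk67.eq_bot_of_inf_M (r i) (by omega)).le), Submodule.map_bot, finrank_bot]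
  · rcases Nat.lt_or_ge N 2 with hN1 | hN2
    · refine ⟨0, Nat.zero_le _, ?_⟩
      have hm0 : m = 0 := by
        by_contra hm
        have := Finset.single_le_sum (f := a) (fun j _ => Nat.zero_le _) (Finset.mem_univ (⟨0, Nat.pos_of_ne_zero hm⟩ : Fin m))
        have := ha ⟨0, Nat.pos_of_ne_zero hm⟩
        omega
      rw [show d = 0 by omega, Finset.range_zero, Finset.sum_empty]
      simp [show N = 1 by omega, show b = 1 by omega]
    let g := fun n => Module.finrank k ↥(W ⊓ degreeLT k (N + 1 - (n + 1)))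
    have hlow : ∀ n, 1 ≤ n → g n = N - n := fun n hn => by
      show Module.finrank k ↥(W ⊓ degreeLT k (N + 1 - (n + 1))) = _
      rw [inf_eq_right.2, EffDivWronsk67.finrank_degreeLT']
      · omega
      · rw [hW]
        intro x hx
        have hx' := mem_degreeLT.1 hx
        refine ⟨degreeLT_mono (by omega) hx, ?_⟩
        simp [EffDivWronsk67.phi, coeff_eq_zero_of_degree_lt (hx'.trans_le (by exact_mod_cast (by omega : N + 1 - (n + 1) ≤ N))),
          coeff_eq_zero_of_degree_lt (hx'.trans_le (by exact_mod_cast (by omega : N + 1 - (n + 1) ≤ N - 1)))]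
    have h0 : g 0 = N ∨ g 0 + 1 = N := by
      have e : W ⊓ degreeLT k (N + 1 - (0 + 1)) = degreeLT k N ⊓ LinearMap.ker (EffDivWronsk67.phi N α β) := by
        rw [hW, inf_right_comm]
        congr 1
        rw [show N + 1 - (0 + 1) = N by omega]
        exact inf_eq_right.2 (degreeLT_mono (by omega))
      show Module.finrank k ↥(W ⊓ degreeLT k (N + 1 - (0 + 1))) = N ∨ Module.finrank k ↥(W ⊓ degreeLT k (N + 1 - (0 + 1))) + 1 = N
      rw [e]
      by_cases hβ : β = 0
      · left
        rw [inf_eq_left.2, EffDivWronsk67.finrank_degreeLT']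
        intro x hx
        simp [EffDivWronsk67.phi, hβ, coeff_eq_zero_of_degree_lt (mem_degreeLT.1 hx)]
      · right
        rw [EffDivWronsk67.finrank_inf_ker (w := X ^ (N - 1)) _ _
          (EffDivWronsk67.mem_degreeLT'.2 (Or.inr (by rw [natDegree_X_pow]; omega))) ?_, EffDivWronsk67.finrank_degreeLT']
        simpa [EffDivWronsk67.phi, coeff_X_pow, show ¬N = N - 1 by omega] using hβ
    refine ⟨g 0 + 1 - N, by omega, ?_⟩
    have hsum : ∑ n ∈ Finset.range N, g n = N.choose 2 + (g 0 + 1 - N) + (N - 1) + (N - 1) - (N - 1) := by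
      obtain ⟨N', hN'⟩ : ∃ N', N = N' + 1 := ⟨N - 1, by omega⟩
      rw [← EffDivWronsk67.sum_triangle]
      subst hN'
      rw [Finset.sum_range_succ', Finset.sum_range_succ' (fun n => N' + 1 - (n + 1)), Finset.sum_congr rfl (fun n _ => hlow (n + 1) (by omega)),
        Finset.sum_congr rfl (fun n hn => show N' + 1 - (n + 1) = (N' + 1 - (n + 1 + 1)) + 1 by simp at hn; omega),
        Finset.sum_add_distrib]
      simp
      omega
    have hw := EffDivWronsk67.weight N b d (by omega)
      (fun n => Module.finrank k ↥(W.map (EffDivWronsk67.T r a) ⊓ degreeLT k (d - n))) g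
      (fun n hn => by
        show Module.finrank k ↥(_ ⊓ degreeLT k (d - n)) + _ = _
        rw [show d - n = N + m - (n + 1) by omega, EffDivWronsk67.map_inf_degreeLT r a hE]
        haveI : FiniteDimensional k ↥(W ⊓ degreeLT k (N + 1 - (n + 1))) := Submodule.finiteDimensional_inf_left _ _
        have h := EffDivWronsk67.finrank_map_T r a (W ⊓ degreeLT k (N + 1 - (n + 1)))
        simp only [Submodule.mem_inf, hE, true_and, EffDivWronsk67.E_mem_degreeLT] at h
        rw [show g n = Module.finrank k ↥(W ⊓ degreeLT k (N + 1 - (n + 1))) from rfl, ← h]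
        congr 1
        exact if_congr (by omega) rfl rfl)
      (fun n hn => ?_) (fun n hn => ?_)
    · omega
    · show Module.finrank k ↥(_ ⊓ degreeLT k (d - n)) = 0
      have : degreeLT k (d - n) = ⊥ := by
        rw [Submodule.eq_bot_iff]; intro x hx; simpa [EffDivWronsk67.mem_degreeLT', show d - n = 0 by omega] using hx
      rw [this, inf_bot_eq, finrank_bot]
    · show Module.finrank k ↥(_ ⊓ degreeLT k (d - n)) = 0
      have : degreeLT k (N + 1 - (n + 1)) = ⊥ := by
        rw [Submodule.eq_bot_iff]; intro x hx; simpa [EffDivWronsk67.mem_degreeLT', show N + 1 - (n + 1) = 0 by omega] using hx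
      rw [show d - n = N + m - (n + 1) by omega, EffDivWronsk67.map_inf_degreeLT r a hE, this, inf_bot_eq, Submodule.map_bot, finrank_bot]

end Groth.Agent.S17244
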