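import Groth.Statements.S17245
import Groth.Agent.EffDivWronsk67.Main

set_option autoImplicit false
open W4c4effdivwronsk2

namespace Groth.Agent.S17245

open Polynomial in
/-- Let `k` be a field of characteristic zero and take, on the projective line over `k`, the point `∞`
and `m` further distinct points `r_1, …, r_m` of the affine line, with positive integers `b` (at
`∞`) and `a_1, …, a_m`; put `N = b + ∑ a_j`. The sum of the spaces of differentials with a single
pole, of order at most `b + 1` at `∞`, resp. at most `a_j + 1` at `r_j`, `V = H⁰(ω((b+1)∞)) + ∑_j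
H⁰(ω((a_j+1)r_j)) ⊆ H⁰(ω((b+1)∞ + ∑_j (a_j+1)r_j)) ≅ H⁰(O(d))`, `d = b - 1 + ∑ (a_j+1)`, becomes,
after multiplying by `dX⁻¹ ∏_j (X - r_j)^(a_j+1)`, the subspace of `k[X]_{≤ d}` spanned by
`D·k[X]_{<b}` and the `D_i·k[X]_{<a_i}`, where `D = ∏_j (X - r_j)^(a_j+1)` and `D_i` omits the
`i`-th factor; a member `h` vanishes to order `n` at a point `q` of the affine line when `(X - q)^n
∣ h`, and to order `d - deg h` at `∞`. Let `p` be a further point of the affine line, distinct from
the `r_j`, and `V₁ = V(-p)` the members divisible by `X - p`, an `(N-1)`-dimensional system in the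
line bundle twisted down by `p` (its vanishing orders at points `q ≠ p`, and at `∞`, are read off
exactly as for `V`; at `p` itself they are one less than the order of divisibility by `X - p`). Then
`dim V₁ = N - 1`, the point `p` is not a ramification point of `V₁` (no nonzero member of `V₁` is
divisible by `(X - p)^N`), and `V₁` has at most one ramification point off the marked points, a
simple one: at every `q` other than `p` and the `r_j`, no nonzero member is divisible by `(X - q)^N`
and at most a line of members is divisible by `(X - q)^(N-2)`, and at most one such `q` has a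
nonzero member divisible by `(X - q)^(N-1)`. (The published statement is over the complex numbers
with all points arbitrary; one marked point is placed at `∞` here and `p` is taken distinct from the
marked points.) -/
theorem result
    (k : Type*) [Field k] [CharZero k] (m : ℕ) (r : Fin m → k) (hr : Function.Injective r)
    (a : Fin m → ℕ) (ha : ∀ j, 1 ≤ a j) (b : ℕ) (hb : 1 ≤ b) (N d : ℕ)
    (hN : N = (∑ j, a j) + b) (hd : d + 1 = (∑ j, (a j + 1)) + b)
    (V : Submodule k (Polynomial k))
    (hV : V = (Polynomial.degreeLT k b).map (LinearMap.mulLeft k (∏ j, (X - C (r j)) ^ (a j + 1))) ⊔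
      ⨆ i, (Polynomial.degreeLT k (a i)).map
        (LinearMap.mulLeft k (∏ j ∈ Finset.univ.erase i, (X - C (r j)) ^ (a j + 1))))
    (p : k) (hp : ∀ j, p ≠ r j) (V₁ : Submodule k (Polynomial k))
    (hV₁ : V₁ = V ⊓ (Ideal.span {X - C p}).restrictScalars k) :
    Module.finrank k ↥V₁ + 1 = N ∧
    (V₁ ⊓ (Ideal.span {(X - C p) ^ N}).restrictScalars k) = ⊥ ∧
    (∀ q : k, (∀ j, q ≠ r j) → q ≠ p →
      (V₁ ⊓ (Ideal.span {(X - C q) ^ N}).restrictScalars k) = ⊥ ∧
      Module.finrank k ↥(V₁ ⊓ (Ideal.span {(X - C q) ^ (N - 2)}).restrictScalars k) ≤ 1) ∧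
    (∀ q q' : k, (∀ j, q ≠ r j) → q ≠ p → (∀ j, q' ≠ r j) → q' ≠ p →
      (V₁ ⊓ (Ideal.span {(X - C q) ^ (N - 1)}).restrictScalars k) ≠ ⊥ →
      (V₁ ⊓ (Ideal.span {(X - C q') ^ (N - 1)}).restrictScalars k) ≠ ⊥ → q = q') := by
  classical
  rw [EffDivWronsk67.span_eq_map r a hr, ← hN] at hV
  subst hV
  let φ : Polynomial k →ₗ[k] k := (leval p).comp (EffDivWronsk67.T r a)
  let W := degreeLT k (N + 1) ⊓ LinearMap.ker φ
  haveI : FiniteDimensional k W := Submodule.finiteDimensional_inf_left _ _
  have hE0 := EffDivWronsk67.lead_E r a N (by omega)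
  have hE : EffDivWronsk67.E r a ∈ W := ⟨hE0, by simp [φ, EffDivWronsk67.T_E]⟩
  have hV1 : V₁ = W.map (EffDivWronsk67.T r a) := by
    rw [hV₁]
    apply le_antisymm
    · rintro _ ⟨⟨g, hg, rfl⟩, hd⟩
      refine ⟨g, ⟨hg, ?_⟩, rfl⟩
      show (EffDivWronsk67.T r a g).eval p = 0
      exact dvd_iff_isRoot.1 (Ideal.mem_span_singleton.1 hd)
    · rintro _ ⟨g, ⟨hg, hp'⟩, rfl⟩
      exact ⟨⟨g, hg, rfl⟩, Ideal.mem_span_singleton.2 (dvd_iff_isRoot.2 hp')⟩
  have hφ : ∀ (x : k) (n : ℕ), φ ((X - C x) ^ n * (X - C p)) = (p - x) ^ n * (EffDivWronsk67.P r).eval p := by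
    intro x n
    show eval p (derivative ((X - C x) ^ n * (X - C p)) * EffDivWronsk67.P r - (X - C x) ^ n * (X - C p) * EffDivWronsk67.Q r a) = _
    simp [derivative_mul]
  have hP := EffDivWronsk67.eval_P r hp
  refine ⟨?_, ?_, fun q hq hqp => ⟨?_, ?_⟩, fun q q' hq hqp hq' hqp' h h' => ?_⟩
  · rw [hV1]
    have h1 := EffDivWronsk67.finrank_map_T r a W
    rw [if_pos hE] at h1
    have h2 := EffDivWronsk67.finrank_inf_ker (degreeLT k (N + 1)) φ
      (EffDivWronsk67.pow_mul_mem (n := 0) p p (by omega)).1 (by rw [hφ]; simpa using hP)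
    rw [EffDivWronsk67.finrank_degreeLT'] at h2
    change Module.finrank k ↥W + 1 = N + 1 at h2
    omega
  · exact le_bot_iff.1 ((inf_le_inf_right _ (hV₁.le.trans inf_le_left)).trans (EffDivWronsk67.unmarked_top r a N hp (by omega)).le)
  · exact le_bot_iff.1 ((inf_le_inf_right _ (hV₁.le.trans inf_le_left)).trans (EffDivWronsk67.unmarked_top r a N hq (by omega)).le)
  · show Module.finrank k ↥(_ ⊓ EffDivWronsk67.M q (N - 2)) ≤ 1
    rw [hV1, EffDivWronsk67.map_inf_M r a hE hq, inf_right_comm]
    haveI : FiniteDimensional k ↥(degreeLT k (N + 1) ⊓ EffDivWronsk67.M q (N - 2 + 1)) := Submodule.finiteDimensional_inf_left _ _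
    refine (EffDivWronsk67.finrank_map_le r a _).trans ?_
    have h0 := EffDivWronsk67.finrank_inf_M q (N + 1) (N - 2 + 1)
    rcases Nat.lt_or_ge N 2 with h2 | h2
    · exact (Submodule.finrank_mono inf_le_left).trans (by omega)
    · have := EffDivWronsk67.finrank_inf_ker (degreeLT k (N + 1) ⊓ EffDivWronsk67.M q (N - 2 + 1)) φ
        (EffDivWronsk67.pow_mul_mem (n := N - 2 + 1) q p (by omega))
        (by rw [hφ]; exact mul_ne_zero (pow_ne_zero _ (sub_ne_zero.2 (Ne.symm hqp))) hP)
      omega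
  · have key : ∀ x : k, (∀ j, x ≠ r j) → x ≠ p → (V₁ ⊓ EffDivWronsk67.M x (N - 1)) ≠ ⊥ →
        (N : k) * (EffDivWronsk67.P r).eval p = (p - x) * (EffDivWronsk67.Q r a).eval p := by
      intro x hx hxp hx'
      obtain ⟨N, rfl⟩ : ∃ N', N = N' + 1 := ⟨N - 1, by omega⟩
      rw [hV1, EffDivWronsk67.map_inf_M r a hE hx, inf_right_comm, Nat.add_sub_cancel] at hx'
      by_contra hne'
      refine hx' ?_
      haveI : FiniteDimensional k ↥(degreeLT k (N + 1 + 1) ⊓ EffDivWronsk67.M x (N + 1)) := Submodule.finiteDimensional_inf_left _ _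
      have hval : φ ((X - C x) ^ (N + 1)) = (p - x) ^ N * (((N + 1 : ℕ) : k) * (EffDivWronsk67.P r).eval p - (p - x) * (EffDivWronsk67.Q r a).eval p) := by
        show eval p (derivative ((X - C x) ^ (N + 1)) * EffDivWronsk67.P r - (X - C x) ^ (N + 1) * EffDivWronsk67.Q r a) = _
        simp [derivative_pow]
        ring
      have := EffDivWronsk67.finrank_inf_ker _ φ (EffDivWronsk67.pow_mem (x := x) (by omega : N + 1 < N + 1 + 1))
        (by rw [hval]; exact mul_ne_zero (pow_ne_zero _ (sub_ne_zero.2 (Ne.symm hxp))) (sub_ne_zero.2 hne'))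
      rw [EffDivWronsk67.finrank_inf_M] at this
      rw [Submodule.finrank_eq_zero.1 (show Module.finrank k ↥(degreeLT k (N + 1 + 1) ⊓ EffDivWronsk67.M x (N + 1) ⊓ LinearMap.ker φ) = 0 by omega), Submodule.map_bot]
    have h1 := key q hq hqp h
    have h2 := key q' hq' hqp' h'
    have hQ : (EffDivWronsk67.Q r a).eval p ≠ 0 := fun h0 => by
      rw [h0, mul_zero] at h1
      exact mul_ne_zero (Nat.cast_ne_zero.2 (by omega)) hP h1
    exact mul_right_cancel₀ hQ (by linear_combination h1 - h2)

end Groth.Agent.S17245
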