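import Groth.Statements.S17246
import Groth.Agent.EffDivWronsk67.Main

set_option autoImplicit false
open W4c4effdivwronsk2

namespace Groth.Agent.S17246

open Polynomial in
/-- Let `k` be a field of characteristic zero and take, on the projective line over `k`, the point `∞`
and `m` further distinct points `r_1, …, r_m` of the affine line, with positive integers `b` (at
`∞`) and `a_1, …, a_m`; put `N = b + ∑ a_j`. The sum of the spaces of differentials with a single
pole, of order at most `b + 1` at `∞`, resp. at most `a_j + 1` at `r_j`, `V = H⁰(ω((b+1)∞)) + ∑_j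
H⁰(ω((a_j+1)r_j)) ⊆ H⁰(ω((b+1)∞ + ∑_j (a_j+1)r_j)) ≅ H⁰(O(d))`, `d = b - 1 + ∑ (a_j+1)`, becomes,
after multiplying by `dX⁻¹ ∏_j (X - r_j)^(a_j+1)`, the subspace of `k[X]_{≤ d}` spanned by
`D·k[X]_{<b}` and the `D_i·k[X]_{<a_i}`, where `D = ∏_j (X - r_j)^(a_j+1)` and `D_i` omits the
`i`-th factor; a member `h` vanishes to order `n` at a point `q` of the affine line when `(X - q)^n
∣ h`, and to order `d - deg h` at `∞`. Let `p` be a further point of the affine line, distinct from
the `r_j`, and `V₁ = V(-p)` the members divisible by `X - p` (an `(N-1)`-dimensional system in the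
line bundle twisted down by `p`, with vanishing orders at the marked points read off as for `V`).
With the weight of `V₁` at a marked point defined as `∑_{n=1}^{d} dim V₁(-n·point) - (N-1 choose
2)`: the weight at `r_i` is `∑_{j≠i} a_j + b - 1 + ε_i` and the weight at `∞` is `∑_j a_j - 1 + ε`,
with all `ε` in `{0, 1}`. (The published statement is over the complex numbers with all points
arbitrary; one marked point is placed at `∞` here and `p` is taken distinct from the marked points.) -/
theorem result
    (k : Type*) [Field k] [CharZero k] (m : ℕ) (r : Fin m → k) (hr : Function.Injective r)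
    (a : Fin m → ℕ) (ha : ∀ j, 1 ≤ a j) (b : ℕ) (hb : 1 ≤ b) (N d : ℕ)
    (hN : N = (∑ j, a j) + b) (hd : d + 1 = (∑ j, (a j + 1)) + b)
    (V : Submodule k (Polynomial k))
    (hV : V = (Polynomial.degreeLT k b).map (LinearMap.mulLeft k (∏ j, (X - C (r j)) ^ (a j + 1))) ⊔
      ⨆ i, (Polynomial.degreeLT k (a i)).map
        (LinearMap.mulLeft k (∏ j ∈ Finset.univ.erase i, (X - C (r j)) ^ (a j + 1))))
    (p : k) (hp : ∀ j, p ≠ r j) (V₁ : Submodule k (Polynomial k))
    (hV₁ : V₁ = V ⊓ (Ideal.span {X - C p}).restrictScalars k) :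
    (∀ i : Fin m, ∃ ε : ℕ, ε ≤ 1 ∧
      (∑ n ∈ Finset.range d, Module.finrank k ↥(V₁ ⊓ (Ideal.span {(X - C (r i)) ^ (n + 1)}).restrictScalars k)) + 1 =
        (N - 1).choose 2 + (N - a i) + ε) ∧
    (∃ ε : ℕ, ε ≤ 1 ∧
      (∑ n ∈ Finset.range d, Module.finrank k ↥(V₁ ⊓ Polynomial.degreeLT k (d - n))) + 1 =
        (N - 1).choose 2 + (N - b) + ε) := by
  classical
  rw [EffDivWronsk67.span_eq_map r a hr, ← hN] at hV
  subst hV
  let φ : Polynomial k →ₗ[k] k := (leval p).comp (EffDivWronsk67.T r a)
  let W := degreeLT k (N + 1) ⊓ LinearMap.ker φ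
  haveI : FiniteDimensional k W := Submodule.finiteDimensional_inf_left _ _
  have hE0 := EffDivWronsk67.lead_E r a N (by omega)
  have hE : EffDivWronsk67.E r a ∈ W := ⟨hE0, by simp [φ, EffDivWronsk67.T_E]⟩
  have hV1 : V₁ = W.map (EffDivWronsk67.T r a) := by
    rw [hV₁]
    apply le_antisymm
    · rintro _ ⟨⟨g, hg, rfl⟩, hd⟩
      refine ⟨g, ⟨hg, ?_⟩, rfl⟩
      show (EffDivWronsk67.T r a g).eval p = 0
      exact dvd_iff_isRoot.1 (Ideal.mem_span_singleton.1 hd)
    · rintro _ ⟨g, ⟨hg, hp'⟩, rfl⟩
      exact ⟨⟨g, hg, rfl⟩, Ideal.mem_span_singleton.2 (dvd_iff_isRoot.2 hp')⟩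
  have hφ : ∀ (x : k) (n : ℕ), φ ((X - C x) ^ n * (X - C p)) = (p - x) ^ n * (EffDivWronsk67.P r).eval p := by
    intro x n
    show eval p (derivative ((X - C x) ^ n * (X - C p)) * EffDivWronsk67.P r - (X - C x) ^ n * (X - C p) * EffDivWronsk67.Q r a) = _
    simp [derivative_mul]
  have hP := EffDivWronsk67.eval_P r hp
  have hd' : d + 1 = N + m := by simp [Finset.sum_add_distrib] at hd; omega
  have hc := EffDivWronsk67.choose_pred N (by omega)
  subst hV1
  have hsum : ∀ g : ℕ → ℕ, (∀ n, n + 1 < N → g n = N - (n + 1)) → ∑ n ∈ Finset.range N, g n = N.choose 2 + g (N - 1) := by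
    intro g hg
    obtain ⟨N', hN'⟩ : ∃ N', N = N' + 1 := ⟨N - 1, by omega⟩
    rw [← EffDivWronsk67.sum_triangle]
    subst hN'
    rw [Finset.sum_range_succ, Finset.sum_range_succ, Finset.sum_congr rfl fun n hn => hg n (by simp at hn; omega)]
    simp
  refine ⟨fun i => ?_, ?_⟩
  · have hai : a i < N := by
      have := Finset.single_le_sum (f := a) (fun j _ => Nat.zero_le _) (Finset.mem_univ i)
      omega
    have hm : 0 < m := Fin.pos i
    let g := fun n => Module.finrank k ↥(W ⊓ EffDivWronsk67.M (r i) (n + 1))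
    have hg : ∀ n, n + 1 < N → g n = N - (n + 1) := fun n hn => by
      haveI : FiniteDimensional k ↥(degreeLT k (N + 1) ⊓ EffDivWronsk67.M (r i) (n + 1)) := Submodule.finiteDimensional_inf_left _ _
      have := EffDivWronsk67.finrank_inf_ker (degreeLT k (N + 1) ⊓ EffDivWronsk67.M (r i) (n + 1)) φ
        (EffDivWronsk67.pow_mul_mem (n := n + 1) (r i) p (by omega))
        (by rw [hφ]; exact mul_ne_zero (pow_ne_zero _ (sub_ne_zero.2 (hp i))) hP)
      rw [EffDivWronsk67.finrank_inf_M, ← inf_right_comm] at this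
      change Module.finrank k ↥(W ⊓ EffDivWronsk67.M (r i) (n + 1)) + 1 = _ at this
      show Module.finrank k ↥(W ⊓ EffDivWronsk67.M (r i) (n + 1)) = _
      omega
    have hgN : g (N - 1) ≤ 1 := by
      haveI : FiniteDimensional k ↥(degreeLT k (N + 1) ⊓ EffDivWronsk67.M (r i) (N - 1 + 1)) := Submodule.finiteDimensional_inf_left _ _
      refine (Submodule.finrank_mono (inf_le_inf_right _ inf_le_left)).trans ?_
      rw [EffDivWronsk67.finrank_inf_M]; omega
    refine ⟨g (N - 1), hgN, ?_⟩
    have := hsum g hg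
    have hw := EffDivWronsk67.weight N (a i) d hai.le
      (fun n => Module.finrank k ↥(W.map (EffDivWronsk67.T r a) ⊓ (Ideal.span {(X - C (r i)) ^ (n + 1)}).restrictScalars k)) g
      (fun n _ => by
        show Module.finrank k ↥(_ ⊓ EffDivWronsk67.M (r i) (n + 1)) + _ = _
        rw [EffDivWronsk67.map_inf_M_marked r a hr hE]
        haveI : FiniteDimensional k ↥(W ⊓ EffDivWronsk67.M (r i) (n + 1)) := Submodule.finiteDimensional_inf_left _ _
        have h := EffDivWronsk67.finrank_map_T r a (W ⊓ EffDivWronsk67.M (r i) (n + 1))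
        simp only [Submodule.mem_inf, hE, true_and, EffDivWronsk67.E_mem_M_marked r a hr] at h
        convert h using 2)
      (fun n hn => ?_) (fun n hn => ?_)
    · omega
    all_goals
      show Module.finrank k ↥(_ ⊓ EffDivWronsk67.M (r i) (n + 1)) = 0
      rw [EffDivWronsk67.map_inf_M_marked r a hr hE, le_bot_iff.1 ((inf_le_inf_right _ inf_le_left).trans (EffDivWronsk67.eq_bot_of_inf_M (r i) (by omega)).le), Submodule.map_bot, finrank_bot]
  · let g := fun n => Module.finrank k ↥(W ⊓ degreeLT k (N + 1 - (n + 1)))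
    have e : ∀ n, W ⊓ degreeLT k (N + 1 - (n + 1)) = degreeLT k (N - n) ⊓ LinearMap.ker φ := fun n => by
      rw [show N + 1 - (n + 1) = N - n by omega, show W = degreeLT k (N + 1) ⊓ LinearMap.ker φ from rfl, inf_right_comm,
        inf_eq_right.2 (degreeLT_mono (by omega : N - n ≤ N + 1))]
    have hg : ∀ n, n + 1 < N → g n = N - (n + 1) := fun n hn => by
      have := EffDivWronsk67.finrank_inf_ker (degreeLT k (N - n)) φ
        (EffDivWronsk67.pow_mul_mem (n := 0) p p (by omega)).1 (by rw [hφ]; simpa using hP)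
      rw [EffDivWronsk67.finrank_degreeLT'] at this
      show Module.finrank k ↥(W ⊓ degreeLT k (N + 1 - (n + 1))) = _
      rw [e]
      omega
    have hgN : g (N - 1) ≤ 1 := by
      refine (Submodule.finrank_mono inf_le_right).trans ?_
      rw [EffDivWronsk67.finrank_degreeLT']; omega
    refine ⟨g (N - 1), hgN, ?_⟩
    have := hsum g hg
    have hw := EffDivWronsk67.weight N b d (by omega)
      (fun n => Module.finrank k ↥(W.map (EffDivWronsk67.T r a) ⊓ degreeLT k (d - n))) g
      (fun n hn => by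
        show Module.finrank k ↥(_ ⊓ degreeLT k (d - n)) + _ = _
        rw [show d - n = N + m - (n + 1) by omega, EffDivWronsk67.map_inf_degreeLT r a hE]
        haveI : FiniteDimensional k ↥(W ⊓ degreeLT k (N + 1 - (n + 1))) := Submodule.finiteDimensional_inf_left _ _
        have h := EffDivWronsk67.finrank_map_T r a (W ⊓ degreeLT k (N + 1 - (n + 1)))
        simp only [Submodule.mem_inf, hE, true_and, EffDivWronsk67.E_mem_degreeLT] at h
        rw [show g n = Module.finrank k ↥(W ⊓ degreeLT k (N + 1 - (n + 1))) from rfl, ← h]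
        congr 1
        exact if_congr (by omega) rfl rfl)
      (fun n hn => ?_) (fun n hn => ?_)
    · omega
    · show Module.finrank k ↥(_ ⊓ degreeLT k (d - n)) = 0
      have : degreeLT k (d - n) = ⊥ := by
        rw [Submodule.eq_bot_iff]; intro x hx; simpa [EffDivWronsk67.mem_degreeLT', show d - n = 0 by omega] using hx
      rw [this, inf_bot_eq, finrank_bot]
    · show Module.finrank k ↥(_ ⊓ degreeLT k (d - n)) = 0
      have : degreeLT k (N + 1 - (n + 1)) = ⊥ := by
        rw [Submodule.eq_bot_iff]; intro x hx; simpa [EffDivWronsk67.mem_degreeLT', show N + 1 - (n + 1) = 0 by omega] using hx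
      rw [show d - n = N + m - (n + 1) by omega, EffDivWronsk67.map_inf_degreeLT r a hE, this, inf_bot_eq, Submodule.map_bot, finrank_bot]

end Groth.Agent.S17246
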