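import Groth.Statements.S17253
import Groth.Agent.GrpScheme.AVPow
import Groth.Agent.AlgSpD.EtaleTop
import Groth.Agent.AbVarLib.Isogeny
import Groth.Agent.AbVarLib.Basics
-- import your own Groth.Agent.* helpers here

set_option autoImplicit false
universe u
open CategoryTheory CategoryTheory.Limits MonoidalCategory CartesianMonoidalCategory MonObj GrpObj AlgebraicGeometry
open AbVar

namespace Groth.Agent.S17253

/-- Let k be a field and A, B abelian varieties over k (smooth proper k-group schemes with geometrically
connected fibres), f : A → B a homomorphism, g : B → A an isogeny (a homomorphism which is finite,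
flat and surjective) and d a nonzero integer with g ∘ f = [d]_A, the d-th power of the identity in
the group of endomorphisms of A. Then f is an isogeny as well — finite, flat and surjective — and f
∘ g = [d]_B. -/
theorem result (k : Type u) [Field k]
    (A B : Over (Spec (CommRingCat.of k)))
    [GrpObj A] [Smooth A.hom] [IsProper A.hom] [GeometricallyConnected A.hom]
    [GrpObj B] [Smooth B.hom] [IsProper B.hom] [GeometricallyConnected B.hom]
    (f : A ⟶ B) [IsMonHom f] (g : B ⟶ A) [IsMonHom g] [IsFinite g.left] [Flat g.left] [Surjective g.left]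
    (d : ℤ) (hd : d ≠ 0) (h : f ≫ g = 𝟙 A ^ d) :
    IsFinite f.left ∧ Flat f.left ∧ Surjective f.left ∧ g ≫ f = 𝟙 B ^ d := by
  open Groth.Agent in
  exact (by
    have := AbVarLib.Basics.geometricallyIntegral A
    have := AbVarLib.Basics.geometricallyIntegral B
    have := AbVarLib.Basics.isIntegral_left A
    have := AbVarLib.Basics.isIntegral_left B
    have hA := GrpScheme.AVComm.isCommMonObj A
    obtain ⟨hfin, -⟩ := GrpScheme.AVPow.isFinite_surjective_pow A (n := d.natAbs) (by omega)
    have hd' : IsFinite (𝟙 A ^ d).left := by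
      rcases Int.natAbs_eq d with e | e <;> rw [e]
      · rw [zpow_natCast]; exact hfin
      · rw [zpow_neg, zpow_natCast]
        have hjj : ((𝟙 A)⁻¹ : A ⟶ A) ≫ (𝟙 A)⁻¹ = 𝟙 A := by rw [GrpObj.comp_inv, Category.comp_id, _root_.inv_inv]
        have : IsIso ((𝟙 A)⁻¹ : A ⟶ A) := ⟨_, hjj, hjj⟩
        have : IsIso ((𝟙 A)⁻¹ : A ⟶ A).left := inferInstanceAs (IsIso ((Over.forget _).map _))
        rw [show ((𝟙 A ^ d.natAbs)⁻¹ : A ⟶ A) = (𝟙 A ^ d.natAbs) ≫ (𝟙 A)⁻¹ by rw [GrpObj.comp_inv, Category.comp_id],
          Over.comp_left]
        infer_instance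
    have hgf : IsFinite (f.left ≫ g.left) := by rw [← Over.comp_left, h]; exact hd'
    have hf : IsFinite f.left := IsFinite.of_comp f.left g.left
    have hdim : topologicalKrullDim A.left = topologicalKrullDim B.left :=
      le_antisymm (AlgSpD.topologicalKrullDim_le_of_lqf f.left) (AlgSpD.topologicalKrullDim_le_of_lqf g.left)
    have hs : Surjective f.left := AbVarLib.Isogeny.surjective_of_isFinite f hdim
    have : IsReduced B.left := inferInstance
    have hfl : Flat f.left := GrpScheme.HomFlat.flat_of_surjective f
    refine ⟨hf, hfl, hs, ?_⟩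
    have : Epi f.left := Flat.epi_of_flat_of_surjective f.left
    have : Epi f := (Over.forget _).epi_of_epi_map this
    rw [← cancel_epi f, ← Category.assoc, h, GrpObj.comp_zpow, Category.comp_id]
    exact (map_zpow (IsMonHom.monoidHom f A) (𝟙 A) d).trans (congrArg (· ^ d) (Category.id_comp f)))

end Groth.Agent.S17253
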