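import Groth.Statements.S17259
import Mathlib

set_option autoImplicit false
open CAlg

namespace Groth.Agent.S17259

/-- Let A, B, C be rings, f : B → A and g : B → C ring homomorphisms, and φ : A → B a homomorphism of
additive groups such that the sequence A → B → C → 0 (maps φ, g) is exact and f ∘ φ is
multiplication by a central element a of A which is not a zero divisor. Then the projection p : A →
A/(a) composed with f factors through g as a ring homomorphism q : C → A/(a), the homomorphism (f,
g) : B → A × C is injective, and its image is the fibre product of A and C over A/(a) along p and q;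
thus (f, g) is a ring isomorphism from B onto that fibre product. (The two-sidedness of the ideal
generated by a, automatic for a central element, is carried as an instance hypothesis.) -/
theorem result {A B C : Type*} [Ring A] [Ring B] [Ring C]
    (f : B →+* A) (g : B →+* C) (φ : A →+ B) (a : A)
    (hc : ∀ x : A, Commute a x) (ha : a ∈ nonZeroDivisors A)
    (hex : Function.Exact φ g) (hg : Function.Surjective g)
    (hφ : ∀ x : A, f (φ x) = a * x)
    [(Ideal.span ({a} : Set A)).IsTwoSided] :
    ∃ q : C →+* A ⧸ Ideal.span ({a} : Set A),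
      q.comp g = (Ideal.Quotient.mk (Ideal.span ({a} : Set A))).comp f ∧
      Function.Injective (f.prod g) ∧
      (f.prod g).range = (Ideal.Quotient.mk (Ideal.span ({a} : Set A))).pullback q := by
  set I := Ideal.span ({a} : Set A)
  have hI : ∀ y, y ∈ I ↔ ∃ x, a * x = y := by
    intro y
    rw [Ideal.mem_span_singleton']
    constructor <;> rintro ⟨x, rfl⟩ <;> exact ⟨x, by rw [(hc x).eq]⟩
  have hker : ∀ b, g b = 0 → (Ideal.Quotient.mk I) (f b) = 0 := by
    intro b hb
    obtain ⟨x, rfl⟩ := (hex b).1 hb
    rw [Ideal.Quotient.eq_zero_iff_mem, hI]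
    exact ⟨x, (hφ x).symm⟩
  let q : C →+* A ⧸ I := RingHom.liftOfSurjective g hg ⟨(Ideal.Quotient.mk I).comp f, fun b hb => hker b hb⟩
  have hq : q.comp g = (Ideal.Quotient.mk I).comp f := RingHom.liftOfRightInverse_comp g _ _ _
  refine ⟨q, hq, ?_, ?_⟩
  · rw [injective_iff_map_eq_zero]
    intro b hb
    obtain ⟨hb1, hb2⟩ := Prod.ext_iff.1 hb
    obtain ⟨x, rfl⟩ := (hex b).1 hb2
    have hx : a * x = 0 := by rw [← hφ]; exact hb1
    rw [(hc x).eq] at hx
    rw [(mul_right_mem_nonZeroDivisors_eq_zero_iff ha).1 hx, map_zero]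
  · ext ⟨x, y⟩
    constructor
    · rintro ⟨b, hb⟩
      obtain ⟨rfl, rfl⟩ := Prod.ext_iff.1 hb
      exact (RingHom.congr_fun hq b).symm
    · intro h
      obtain ⟨b, rfl⟩ := hg y
      have h' : Ideal.Quotient.mk I x = Ideal.Quotient.mk I (f b) := by
        rw [← RingHom.comp_apply, ← hq]; exact h
      obtain ⟨x', hx'⟩ := (hI _).1 (Ideal.Quotient.eq.1 h')
      refine ⟨b + φ x', Prod.ext ?_ ?_⟩
      · show f (b + φ x') = x
        rw [map_add, hφ, hx', add_sub_cancel]
      · show g (b + φ x') = g b
        rw [map_add, show g (φ x') = 0 from (hex _).2 ⟨x', rfl⟩, add_zero]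

end Groth.Agent.S17259
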