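import Groth.Statements.S1726
import Groth.Agent.EGA4Lib.FiniteRestrict
import Groth.Agent.EGA4Lib.CompleteExcellent
import Groth.Agent.LocCoh.AdjDepth
import Groth.Agent.S0555
import Mathlib.RingTheory.Spectrum.Prime.RingHom
import Mathlib.RingTheory.Ideal.GoingUp
-- import your own Groth.Agent.* helpers here

set_option autoImplicit false
universe u
open LocCoh

namespace Groth.Agent.S1726

open LocCoh

theorem height_Ici {R : Type u} [CommRing R] (p q : PrimeSpectrum R) (h : p ≤ q) :
    Order.height (⟨q, h⟩ : Set.Ici p) = (q.asIdeal.map (Ideal.Quotient.mk p.asIdeal)).height := by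
  haveI hq : (q.asIdeal.map (Ideal.Quotient.mk p.asIdeal)).IsPrime :=
    Ideal.map_isPrime_of_surjective Ideal.Quotient.mk_surjective (by rw [Ideal.mk_ker]; exact h)
  let e : PrimeSpectrum (R ⧸ p.asIdeal) ≃o Set.Ici p :=
    p.asIdeal.primeSpectrumQuotientOrderIsoZeroLocus.trans
      (OrderIso.setCongr _ _ (Set.ext fun x => by simp [PrimeSpectrum.mem_zeroLocus, Set.mem_Ici, ← PrimeSpectrum.asIdeal_le_asIdeal]))
  have he : e ⟨_, hq⟩ = ⟨q, h⟩ := Subtype.ext (PrimeSpectrum.ext (by
    show (q.asIdeal.map (Ideal.Quotient.mk p.asIdeal)).comap (Ideal.Quotient.mk p.asIdeal) = q.asIdeal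
    rw [Ideal.comap_map_of_surjective _ Ideal.Quotient.mk_surjective, ← RingHom.ker_eq_comap_bot,
      Ideal.mk_ker, sup_eq_left.2 h]))
  rw [← he, Order.height_orderIso, PrimeSpectrum.height_eq_orderHeight (⟨_, hq⟩ : PrimeSpectrum (R ⧸ p.asIdeal))]

variable {A B : Type u} [CommRing A] [CommRing B] [Algebra A B] [IsNoetherianRing A] [Module.Finite A B]

theorem height_eq (hA : CAlg.IsUniversallyCatenary A) (P Q : PrimeSpectrum B) (h : P ≤ Q) :
    Order.height (⟨Q, h⟩ : Set.Ici P) =
      Order.height (⟨PrimeSpectrum.comap (algebraMap A B) Q, Ideal.comap_mono h⟩ :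
        Set.Ici (PrimeSpectrum.comap (algebraMap A B) P)) := by
  rw [height_Ici P Q h, height_Ici _ _ (Ideal.comap_mono h)]
  let p := P.asIdeal.comap (algebraMap A B)
  haveI : P.asIdeal.LiesOver p := ⟨rfl⟩
  haveI : FaithfulSMul (A ⧸ p) (B ⧸ P.asIdeal) :=
    (faithfulSMul_iff_algebraMap_injective _ _).2 (Ideal.quotientMap_injective' le_rfl)
  haveI : Module.Finite (A ⧸ p) (B ⧸ P.asIdeal) := Module.Finite.of_restrictScalars_finite A _ _
  haveI : ((Q.asIdeal.comap (algebraMap A B)).map (Ideal.Quotient.mk p)).IsPrime :=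
    Ideal.map_isPrime_of_surjective Ideal.Quotient.mk_surjective
      (by rw [Ideal.mk_ker]; exact Ideal.comap_mono h)
  haveI : (Q.asIdeal.map (Ideal.Quotient.mk P.asIdeal)).IsPrime :=
    Ideal.map_isPrime_of_surjective Ideal.Quotient.mk_surjective (by rw [Ideal.mk_ker]; exact h)
  haveI : (Q.asIdeal.map (Ideal.Quotient.mk P.asIdeal)).LiesOver
      ((Q.asIdeal.comap (algebraMap A B)).map (Ideal.Quotient.mk p)) := ⟨by
    refine Ideal.comap_injective_of_surjective _ Ideal.Quotient.mk_surjective ?_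
    rw [LocCoh.AdjDepth.comap_mk_map (Ideal.comap_mono h), Ideal.under_def, Ideal.comap_comap]
    show _ = (Q.asIdeal.map (Ideal.Quotient.mk P.asIdeal)).comap
      ((Ideal.Quotient.mk P.asIdeal).comp (algebraMap A B))
    rw [← Ideal.comap_comap, LocCoh.AdjDepth.comap_mk_map h]⟩
  have hd := Groth.Agent.S0555.result (A ⧸ p)
    (EGA4Lib.isUniversallyCatenary_of_surjective (Ideal.Quotient.mk p) Ideal.Quotient.mk_surjective hA)
    (B ⧸ P.asIdeal) ((Q.asIdeal.comap (algebraMap A B)).map (Ideal.Quotient.mk p))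
    (Q.asIdeal.map (Ideal.Quotient.mk P.asIdeal))
  rw [trdeg_eq_zero (R := A ⧸ p) (A := B ⧸ P.asIdeal), trdeg_eq_zero, add_zero, add_zero] at hd
  exact Cardinal.ofENat_injective hd


/-- Let A → B be a finite homomorphism of Noetherian rings with A universally catenary, I an ideal of A
and M a finite B-module. Then s_{B, IB}(M) = s_{A, I}(M), where M is regarded as an A-module by
restriction of scalars. -/
theorem result (A B : Type u) [CommRing A] [CommRing B] [Algebra A B] [IsNoetherianRing A] [IsNoetherianRing B] [Module.Finite A B] (hA : CAlg.IsUniversallyCatenary A) (I : Ideal A) (M : Type u) [AddCommGroup M] [Module B M] [Module A M] [IsScalarTower A B M] [Module.Finite B M] : Dual2.cutoff B (I.map (algebraMap A B)) M = Dual2.cutoff A I M := by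
  haveI : Module.Finite A M := Module.Finite.trans B M
  have hd : ∀ p : PrimeSpectrum A, LocCoh.depth (Localization.AtPrime p.asIdeal) (LocalizedModule p.asIdeal.primeCompl M) =
      ⨅ P ∈ EGA4Lib.FiniteRestrict.over A B M p.asIdeal,
        LocCoh.depth (Localization.AtPrime P.asIdeal) (LocalizedModule P.asIdeal.primeCompl M) :=
    fun p => (EGA4Lib.FiniteRestrict.supportDim_depth A B M p.asIdeal).2
  apply le_antisymm
  · refine le_iInf fun p => le_iInf fun q => le_iInf fun h => le_iInf fun hIp => le_iInf fun hIq => ?_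
    rw [hd p, ENat.iInf_add]
    refine le_iInf fun P => ?_
    rw [ENat.iInf_add]
    refine le_iInf fun hP => ?_
    obtain ⟨Qi, hle, hQp, hQc⟩ := Ideal.exists_ideal_over_prime_of_isIntegral q.asIdeal P.asIdeal
      (hP.1.le.trans h)
    have hP' : PrimeSpectrum.comap (algebraMap A B) P = p := PrimeSpectrum.ext hP.1
    let Q : PrimeSpectrum B := ⟨Qi, hQp⟩
    have hQ' : PrimeSpectrum.comap (algebraMap A B) Q = q := PrimeSpectrum.ext hQc
    have hPQ : P ≤ Q := hle
    refine iInf_le_of_le P (iInf_le_of_le Q (iInf_le_of_le hPQ (iInf_le_of_le ?_ (iInf_le_of_le ?_ ?_))))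
    · rw [Ideal.map_le_iff_le_comap, hP.1]; exact hIp
    · rw [Ideal.map_le_iff_le_comap, hQc]; exact hIq
    · subst hP' hQ'
      rw [height_eq hA P Q hPQ]
  · refine le_iInf fun P => le_iInf fun Q => le_iInf fun h => le_iInf fun hIP => le_iInf fun hIQ => ?_
    refine iInf_le_of_le (PrimeSpectrum.comap (algebraMap A B) P)
      (iInf_le_of_le (PrimeSpectrum.comap (algebraMap A B) Q) (iInf_le_of_le (Ideal.comap_mono h)
        (iInf_le_of_le (fun h' => hIP (Ideal.map_le_iff_le_comap.2 h'))
          (iInf_le_of_le (Ideal.map_le_iff_le_comap.1 hIQ) ?_))))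
    rw [height_eq hA P Q h]
    refine add_le_add ?_ le_rfl
    by_cases hs : P ∈ Module.support B M
    · rw [hd]
      exact iInf₂_le P ⟨rfl, hs⟩
    · rw [Module.notMem_support_iff] at hs
      haveI := hs
      rw [show LocCoh.depth (Localization.AtPrime P.asIdeal) (LocalizedModule P.asIdeal.primeCompl M) = ⊤ from
        Depth.idealDepth_eq_top_of_subsingleton]
      exact le_top

end Groth.Agent.S1726
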