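import Groth.Statements.S17268
import Groth.Agent.GITLib.NontrivTorsor.Main
import Groth.Agent.GrpQuot19.Field
import Groth.Agent.AffGrp.Bridge
import Groth.Agent.S16480
import Groth.Prelude.Def_SekSuwa
import Groth.Agent.GrpdLib.FppfSourceDescentScheme
-- import your own Groth.Agent.* helpers here

set_option autoImplicit false
open CategoryTheory AlgebraicGeometry
universe u
open NonAbH1

namespace Groth.Agent.S17268

open CategoryTheory.Limits MonoidalCategory CartesianMonoidalCategory MonObj Groth.Agent.GITLib.NontrivTorsor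

set_option linter.style.haveILetI false
set_option backward.isDefEq.respectTransparency false
set_option synthInstance.maxHeartbeats 400000

/-- Left action of a subgroup on a group by right translations, with its cartesian quotient square. -/
theorem exists_action {S : Scheme.{u}} {X H Y : Over S} [GrpObj X] [GrpObj H] (i : H ⟶ X) [IsMonHom i]
    (p : X ⟶ Y) (sq : IsPullback ((X ◁ i) ≫ μ[X]) (fst X H) p p) :
    ∃ a : AlgGrp.Action H X, IsPullback a.act (snd H X) p p ∧
      ∀ {T : Over S} (h : T ⟶ H) (x : T ⟶ X), lift h x ≫ a.act = x * (h ≫ i)⁻¹ := by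
  let act : H ⊗ X ⟶ X := snd H X * (fst H X ≫ i)⁻¹
  have hact : ∀ {T : Over S} (h : T ⟶ H) (x : T ⟶ X), lift h x ≫ act = x * (h ≫ i)⁻¹ := fun h x => by
    rw [MonObj.comp_mul, GrpObj.comp_inv, lift_snd, lift_fst_assoc]
  let a : AlgGrp.Action H X :=
    { act := act
      one_act := by
        have : lift (1 : 𝟙_ (Over S) ⊗ X ⟶ H) (snd _ X) ≫ act = snd _ X := by
          rw [hact, MonObj.one_comp, inv_one, _root_.mul_one]
        rw [leftUnitor_hom, ← this]
        refine congrArg (fun w => w ≫ act) (CartesianMonoidalCategory.hom_ext _ _ ?_ ?_)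
        · rw [whiskerRight_fst, lift_fst, Hom.one_def, toUnit_unique (toUnit _) (fst (𝟙_ (Over S)) X)]
        · simp
      mul_act := by
        apply AlgGrp.Action.hom_ext_lift₃
        intro T g g' x
        rw [lift_whiskerRight_assoc, ← Hom.mul_def, hact, lift_lift_associator_hom_assoc, lift_whiskerLeft_assoc,
          hact, hact, MonObj.mul_comp, mul_inv_rev, _root_.mul_assoc] }
  refine ⟨a, ?_, hact⟩
  let e : H ⊗ X ≅ X ⊗ H :=
    { hom := lift (snd H X) (fst H X)⁻¹
      inv := lift (snd X H)⁻¹ (fst X H)
      hom_inv_id := by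
        rw [comp_lift, GrpObj.comp_inv, lift_snd, lift_fst, _root_.inv_inv, lift_fst_snd]
      inv_hom_id := by
        rw [comp_lift, GrpObj.comp_inv, lift_snd, lift_fst, _root_.inv_inv, lift_fst_snd] }
  refine IsPullback.of_iso sq e.symm (Iso.refl _) (Iso.refl _) (Iso.refl _) ?_ ?_ (by simp) (by simp)
  · show ((X ◁ i) ≫ μ[X]) ≫ 𝟙 X = lift (snd X H)⁻¹ (fst X H) ≫ act
    rw [hact, Category.comp_id, GrpObj.inv_comp, _root_.inv_inv, MonObj.mul_eq_mul, MonObj.comp_mul,
      whiskerLeft_fst, whiskerLeft_snd]
  · show fst X H ≫ 𝟙 X = lift (snd X H)⁻¹ (fst X H) ≫ snd H X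
    rw [lift_snd, Category.comp_id]

/-- The coordinate ring of `GL_n` is of finite type. -/
theorem finiteType_gln (k : Type u) [Field k] (n : ℕ) : Algebra.FiniteType k (CoordGrp.GLn n k) := by
  haveI : Algebra.FiniteType k (CoordGrp.GLb n k) :=
    inferInstanceAs (Algebra.FiniteType k (MvPolynomial (CoordGrp.GLPoly.Idx n) k))
  exact Algebra.FiniteType.of_surjective (CoordGrp.GLn.mk n k)
    (Ideal.Quotient.mkₐ_surjective k (CoordGrp.GLb.relIdeal n k))

/-- A closed embedding of an affine algebraic group into some `GL_n`. -/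
theorem exists_embedding (k : Type u) [Field k] (G : Over (Spec (CommRingCat.of k))) [GrpObj G]
    [IsAffineHom G.hom] [LocallyOfFiniteType G.hom] :
    ∃ (A : Type u) (_ : CommRing A) (_ : Algebra k A) (_ : CoactBr.sp k A ≅ G) (n : ℕ) (ι' : G ⟶ GL' k n),
      IsMonHom ι' ∧ IsClosedImmersion ι'.left := by
  haveI : IsAffine G.left := isAffine_of_isAffineHom G.hom
  obtain ⟨A, hA, e, he⟩ := Groth.Agent.AffGrp.Bridge.exists_iso (R := CommRingCat.of k) G
  letI : HopfAlgebra k A := hA
  let e' : CoactBr.sp k A ≅ G := e
  haveI : IsMonHom e'.hom := he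
  haveI : Algebra.FiniteType k A := by
    have h : LocallyOfFiniteType (CoactBr.sp k (A : Type u)).hom := by
      rw [← Over.w e'.hom]; infer_instance
    exact RingHom.finiteType_algebraMap.1
      ((HasRingHomProperty.Spec_iff (P := @LocallyOfFiniteType) (φ := CommRingCat.ofHom (algebraMap k A))).1 h)
  obtain ⟨n, π, hπ⟩ := Groth.Agent.S16480.result k A
  haveI : IsMonHom e'.inv := inferInstance
  haveI : IsClosedImmersion (SekSuwa.specHom π).left := IsClosedImmersion.spec_of_surjective _ hπ
  haveI : IsIso e'.inv.left := inferInstanceAs (IsIso ((Over.forget _).map e'.inv))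
  refine ⟨A, inferInstance, inferInstance, e', n, e'.inv ≫ SekSuwa.specHom π, inferInstance, ?_⟩
  rw [Over.comp_left]
  infer_instance

/-- Let k be an algebraically closed field and let G be an affine group scheme of finite type over k
which is not trivial (the structure morphism G → Spec k is not an isomorphism). Then there are a
scheme T of finite type over k and a torsor for the fppf topology under the T-group scheme G ×_k T
(a T-scheme with an action of G ×_k T which is a pseudo-torsor and acquires sections over the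
members of some fppf covering of T) which is not trivial: it has no section over T. The source
states this for every algebraic group of finite type over k, with torsors that need not be schemes;
it is stated here for affine G, for which every fppf torsor over a scheme is a scheme affine over
the base, so that the torsors of the prelude (schemes with an action) are all of them. -/
theorem result (k : Type u) [Field k] [IsAlgClosed k]
    (G : Over (Spec (CommRingCat.of k))) [GrpObj G]
    [IsAffineHom G.hom] [LocallyOfFiniteType G.hom]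
    (hG : ¬ IsIso G.hom) :
    ∃ (T : Scheme.{u}) (f : T ⟶ Spec (CommRingCat.of k)),
      LocallyOfFiniteType f ∧ QuasiCompact f ∧
      ∃ P : NonAbH1.TorsorSch (Red.bc f G) Scheme.fppfPrecoverage,
        ¬ NonAbH1.HasSectionOver P.X (𝟙 T) := by
  by_contra hcon
  refine hG ?_
  obtain ⟨A, _, _, e, n, ι', hι, hιc⟩ := exists_embedding k G
  obtain ⟨H, _, i, π, hi, hπ, hic, hfac⟩ := exists_subgroup (n := n) ι'
  haveI : LocallyOfFiniteType (GL' k (n + n)).hom :=
    (HasRingHomProperty.Spec_iff (P := @LocallyOfFiniteType)).2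
      (RingHom.finiteType_algebraMap.2 (finiteType_gln k (n + n)))
  haveI : LocallyOfFiniteType H.hom := by rw [← Over.w i]; infer_instance
  obtain ⟨Y, p, hpf, hps, hpl, hsq⟩ :=
    Groth.Agent.GrpQuot19.Field.exists_quotient_of_closedSubgroup (G := GL' k (n + n)) (F := H) i
  obtain ⟨a, hcart, hact⟩ := exists_action i p hsq
  haveI : LocallyOfFiniteType Y.hom := by
    haveI : LocallyOfFiniteType (p.left ≫ Y.hom) := by rw [Over.w]; infer_instance
    exact Groth.Agent.GrpdLib.FppfSourceDescent.locallyOfFiniteType_of_comp_fppf p.left Y.hom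
  haveI : QuasiCompact (GL' k (n + n)).hom :=
    inferInstanceAs (QuasiCompact (Spec.map (CommRingCat.ofHom (algebraMap k (CoordGrp.GLn (n + n) k)))))
  haveI : QuasiCompact Y.hom := by
    haveI : QuasiCompact (p.left ≫ Y.hom) := by rw [Over.w]; infer_instance
    exact Groth.Agent.GrpdLib.FppfSourceDescent.quasiCompact_of_comp_surjective p.left Y.hom
  have hall : ∀ P : NonAbH1.TorsorSch (Red.bc Y.hom G) Scheme.fppfPrecoverage,
      NonAbH1.HasSectionOver P.X (𝟙 Y.left) := fun P => by
    by_contra hP
    exact hcon ⟨Y.left, Y.hom, inferInstance, inferInstance, P, hP⟩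
  obtain ⟨r, hr⟩ := exists_retraction π a p hcart hall
  have h1 : e.hom = 1 := eq_one_of_retraction ι' e r fun {T} x q g h0 h1 => by
    obtain ⟨c, hc, hcπ⟩ := hfac q g h0 h1
    have h := hr c⁻¹ x
    rw [hact, GrpObj.inv_comp, GrpObj.inv_comp, _root_.inv_inv, hc, hcπ] at h
    exact h
  have h2 : 𝟙 G = 1 := by rw [← e.inv_hom_id, h1, MonObj.comp_one]
  refine ⟨η[G].left, ?_, Over.w η[G]⟩
  have h3 : (toUnit G ≫ η[G]).left = (𝟙 G : G ⟶ G).left := by rw [h2, Hom.one_def]
  rw [Over.comp_left, Over.id_left] at h3
  have h4 : (toUnit G).left = G.hom := (Category.comp_id _).symm.trans (Over.w (toUnit G))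
  exact (congrArg (· ≫ η[G].left) h4.symm).trans h3


end Groth.Agent.S17268
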