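import Groth.Statements.S17277
import Groth.Agent.BigVol.ProperGrowth
import Groth.Agent.EulerChar.Cartier
-- import your own Groth.Agent.* helpers here

set_option autoImplicit false
set_option linter.style.haveILetI false
universe u
open CategoryTheory CategoryTheory.Limits AlgebraicGeometry TopologicalSpace
open Variety

namespace Groth.Agent.S17277

/-- Let X be a proper scheme over a field k of dimension d and L an invertible O_X-module that is big:
there is a real constant c > 0 with dim_k H^0(X, L^{⊗n}) > c·n^d for all sufficiently large n. Then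
for every closed subscheme Z ⊆ X of dimension < d, with quasi-coherent ideal sheaf I_Z, there is an
integer m > 0 with H^0(X, I_Z ⊗ L^{⊗m}) ≠ 0. -/
theorem result (k : Type u) [Field k] (X : Scheme.{u})
    [X.Over (Spec (CommRingCat.of k))] [IsProper (X ↘ (Spec (CommRingCat.of k)))]
    (d : ℕ) (hdim : topologicalKrullDim X = d) (L : X.Modules) (hL : PicF.IsInvertible L)
    (hbig : ∃ c : ℝ, 0 < c ∧ ∀ᶠ n : ℕ in Filter.atTop,
      c * (n : ℝ) ^ d < (Module.finrank k (Coh.HH X (CohB1.tensorPow L n) 0) : ℝ))
    (Z : X.IdealSheafData) (hZ : topologicalKrullDim (Z.support : Set X) < d) :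
    ∃ m : ℕ, 0 < m ∧
      Nontrivial (Coh.HH X (CohB1.tensorMod (ClSub.idealMod Z) (CohB1.tensorPow L m)) 0) := by
  haveI := EulerChar.isNoetherian k (X := X)
  obtain ⟨c, hc, h⟩ := hbig
  have hO := ProperFin.isCoh_structureModule X
  have hS := EulerChar.shortExact_ideal Z
  have hQ : Coh.IsCoh (ClSub.quotMod Z) :=
    ProperFin.isCoh_push_of_isFinite Z.subschemeι _ (ProperFin.isCoh_structureModule Z.subscheme)
  obtain ⟨C, hC⟩ := Groth.Agent.BigVol.ProperGrowth.exists_h0_le k hL hQ
    (lt_of_le_of_lt (CohDev.dim_mono (EulerChar.support_quotMod_subset Z)) hZ)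
  obtain ⟨m, ⟨h1, h2⟩, hm⟩ := ((h.and (Groth.Agent.BigVol.ProperGrowth.eventually_small d C hc)).and
    (Filter.eventually_gt_atTop 0)).exists
  refine ⟨m, hm, ?_⟩
  by_contra hnt
  rw [not_nontrivial_iff_subsingleton] at hnt
  haveI := hnt
  have hI : Coh.IsCoh (ClSub.idealMod Z) := CohDev.isCoh_kernel _ hO hQ.1
  have key := (BigVol.CohBound.hh_triangle k hS hI hO hQ hL m 0).1
  have eX : BigVol.CohBound.hh k (Coh.structureModule X) L m 0 = Module.finrank k (Coh.HH X (CohB1.tensorPow L m) 0) :=
    ProjTwist.Pn.finrank_hh_iso (k := k) (ProjTwist.oneTens _) 0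
  have h0 : BigVol.CohBound.hh k (ClSub.idealMod Z) L m 0 = 0 := Module.finrank_zero_of_subsingleton
  have key' : Module.finrank k (Coh.HH X (CohB1.tensorPow L m) 0) ≤ C * BigVol.CohBound.g d m := by
    rw [← eX]
    refine key.trans ?_
    rw [h0, zero_add]
    exact hC m
  have := Nat.cast_le (α := ℝ).2 key'
  push_cast at h2 this
  linarith

end Groth.Agent.S17277
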