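import Groth.Statements.S17278
import Groth.Agent.BigVol.Basic
import Groth.Agent.PicLaw.Swap

set_option autoImplicit false
universe u
open CategoryTheory CategoryTheory.Limits AlgebraicGeometry TopologicalSpace
open Variety

namespace Groth.Agent.S17278

section

open CategoryTheory CategoryTheory.Limits AlgebraicGeometry Filter Groth.Agent.BigVol
  Groth.Agent.ProjTwist Groth.Agent.AmpleLib

set_option linter.style.haveILetI false

theorem growth_of_big {c : ℝ} (hc : 0 < c) {d : ℕ} (f : ℕ → ℕ)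
    (h : ∀ᶠ n : ℕ in atTop, c * (n : ℝ) ^ d < (f n : ℝ)) :
    ∀ C : ℕ, ∃ m : ℕ, 0 < m ∧ C * m ^ d < m * f m := by
  intro C
  obtain ⟨m, hm, hm1⟩ := (h.and (eventually_ge_atTop (⌈(C : ℝ) / c⌉₊ + 1))).exists
  refine ⟨m, by omega, ?_⟩
  have h0 : (C : ℝ) ≤ c * m := by
    have h1 := Nat.le_ceil ((C : ℝ) / c)
    rw [div_le_iff₀ hc] at h1
    refine h1.trans ?_
    rw [mul_comm]
    exact mul_le_mul_of_nonneg_left (by exact_mod_cast (show ⌈(C : ℝ) / c⌉₊ ≤ m by omega)) hc.le
  have h2 : ((C * m ^ d : ℕ) : ℝ) < ((m * f m : ℕ) : ℝ) := by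
    push_cast
    calc (C : ℝ) * (m : ℝ) ^ d ≤ c * m * (m : ℝ) ^ d :=
          mul_le_mul_of_nonneg_right h0 (by positivity)
      _ = (m : ℝ) * (c * (m : ℝ) ^ d) := by ring
      _ < _ := mul_lt_mul_of_pos_left hm (by exact_mod_cast (show 0 < m by omega))
  exact_mod_cast h2

theorem big_of_bound {d K n₁ : ℕ} (hK : 0 < K) (f : ℕ → ℕ)
    (h : ∀ n : ℕ, n₁ ≤ n → n ^ d ≤ K * f n) :
    ∃ c : ℝ, 0 < c ∧ ∀ᶠ n : ℕ in atTop, c * (n : ℝ) ^ d < (f n : ℝ) := by
  have hK' : (0 : ℝ) < K := by exact_mod_cast hK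
  refine ⟨1 / (2 * K), by positivity, ?_⟩
  filter_upwards [eventually_ge_atTop n₁, eventually_ge_atTop 1] with n hn hn1
  have h1 : ((n ^ d : ℕ) : ℝ) ≤ ((K * f n : ℕ) : ℝ) := by exact_mod_cast h n hn
  push_cast at h1
  have h2 : (0 : ℝ) < (n : ℝ) ^ d := pow_pos (by exact_mod_cast hn1) _
  rw [div_mul_eq_mul_div, one_mul, div_lt_iff₀ (by positivity)]
  nlinarith

variable {k : Type u} [Field k] {X : Scheme.{u}} [X.Over (Spec (CommRingCat.of k))]
  [IsProper (X ↘ Spec (CommRingCat.of k))] [IsIntegral X]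

include k in
theorem nontrivial_iff_sub {A A' M : X.Modules} (hA : PicF.IsInvertible A) (hA' : PicF.IsInvertible A')
    (hM : PicF.IsInvertible M) (e : CohB1.tensorMod A' A ≅ Coh.structureModule X) :
    Nontrivial (Coh.HH X (CohB1.tensorMod A' M) 0) ↔ Sub A M := by
  haveI := EulerChar.isNoetherian k (X := X)
  have := EulerChar.finite_HH k _ (isCoh_of_isInvertible (isInvertible_tensorMod hA' hM)) 0
  refine ⟨fun h => ?_, fun h => ?_⟩
  · have hs := (sub_of_h0_pos k (isInvertible_tensorMod hA' hM) Module.finrank_pos).tensor hA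
    refine ((Sub.of_iso (structure_tensor hA).some.symm).trans hs).iso ?_
    exact (PicLaw.tensor_comm (isInvertible_tensorMod hA' hM) hA).some ≪≫ (tensAssoc _ _ _).symm ≪≫
      tensCongr ((PicLaw.tensor_comm hA hA').some ≪≫ e) (Iso.refl _) ≪≫ (structure_tensor hM).some
  · obtain ⟨φ, hφ⟩ : Sub (Coh.structureModule X) (CohB1.tensorMod A' M) :=
      (Sub.of_iso ((PicLaw.tensor_comm hA hA').some ≪≫ e).symm).trans
        ((h.tensor hA').iso (PicLaw.tensor_comm hM hA').some)
    by_contra hc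
    rw [not_nontrivial_iff_subsingleton] at hc
    refine not_isZero_of_isInvertible (LFFrame.isInvertible_structureModule X) ?_
    have h0 : φ = 0 := by
      have h1 : Props.GenLocus.sec φ ⊤ = 0 :=
        ((ProperFin.h0Sec (CohB1.tensorMod A' M)).symm.injective (Subsingleton.elim _ _))
      ext V a
      show φ.app V a = 0
      refine (Props.GenLocus.app_eq φ V (show Γ(X, V) from a)).trans ?_
      rw [← Props.GenLocus.sec_res φ (le_top : V ≤ ⊤), h1, map_zero]
      exact smul_zero (show Γ(X, V) from a)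
    subst h0
    exact IsZero.of_mono_zero _ (CohB1.tensorMod A' M)

end


/-- Let X be a projective variety over a field k (an integral scheme, proper over k, carrying an ample
invertible module A₀) of dimension d, and L an invertible O_X-module. Then L is big, meaning that
for some real c > 0 one has dim_k H^0(X, L^{⊗n}) > c·n^d for all sufficiently large n, if and only
if for every ample invertible O_X-module A, with a tensor inverse A' (A' ⊗ A ≅ O_X), there is an
integer m > 0 with H^0(X, A' ⊗ L^{⊗m}) ≠ 0. -/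
theorem result (k : Type u) [Field k]
    (X : Scheme.{u}) [X.Over (Spec (CommRingCat.of k))] [IsProper (X ↘ (Spec (CommRingCat.of k)))] [IsIntegral X]
    (A₀ : X.Modules) (hA₀ : CohB1.IsAmple A₀)
    (d : ℕ) (hdim : topologicalKrullDim X = d) (L : X.Modules) (hL : PicF.IsInvertible L) :
    (∃ c : ℝ, 0 < c ∧ ∀ᶠ n : ℕ in Filter.atTop,
        c * (n : ℝ) ^ d < (Module.finrank k (Coh.HH X (CohB1.tensorPow L n) 0) : ℝ)) ↔
      ∀ (A A' : X.Modules), CohB1.IsAmple A → ClSub.IsInverseOf A' A →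
        ∃ m : ℕ, 0 < m ∧ Nontrivial (Coh.HH X (CohB1.tensorMod A' (CohB1.tensorPow L m)) 0) := by
  constructor
  · rintro ⟨c, hc, h⟩ A A' hA hinv
    obtain ⟨e⟩ := hinv
    have hA' : PicF.IsInvertible A' := PicLaw.isInvertible_of_tensor_right hA.1
      (PicCl.isInvertible_of_iso e.symm (LFFrame.isInvertible_structureModule X))
    obtain ⟨m, hm, hs⟩ := BigVol.sub_ample_of_growth k hA hL hdim.le
      (growth_of_big hc (fun n => BigVol.h0 k (CohB1.tensorPow L n)) h)
    exact ⟨m, hm, (nontrivial_iff_sub (k := k) hA.1 hA' (AmpleLib.isInvertible_tensorPow hL m) e).mpr hs⟩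
  · intro h
    obtain ⟨-, K, n₁, hK, hb⟩ := BigVol.big_of_sub k hA₀ hL hdim fun A hA => by
      obtain ⟨A', hA', ⟨e⟩⟩ := PicLaw.exists_inverse hA.1
      obtain ⟨m, hm, hn⟩ := h A A' hA ⟨(PicLaw.tensor_comm hA' hA.1).some ≪≫ e⟩
      exact ⟨m, hm, (nontrivial_iff_sub (k := k) hA.1 hA' (AmpleLib.isInvertible_tensorPow hL m)
        ((PicLaw.tensor_comm hA' hA.1).some ≪≫ e)).mp hn⟩
    exact big_of_bound hK _ hb

end Groth.Agent.S17278
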