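import Groth.Statements.S17280
import Groth.Agent.VBLib.Line
import Groth.Agent.VBLib.PushTrace
import Groth.Agent.RegLoc.UFD
import Groth.Agent.ZClosLib.CohDescent

set_option autoImplicit false
universe u
open CategoryTheory CategoryTheory.Limits AlgebraicGeometry TopologicalSpace
open Variety

namespace Groth.Agent.S17280

/-- A regular scheme is normal. -/
theorem isNormalScheme_of_regular {X : Scheme.{u}} (h : ∀ x : X, IsRegularLocalRing (X.presheaf.stalk x)) :
    Pi1.IsNormalScheme X := fun x => by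
  have := h x
  have := RegLoc.isDomain (X.presheaf.stalk x)
  have := RegLoc.UFD.uniqueFactorizationMonoid (X.presheaf.stalk x)
  exact ⟨inferInstance, inferInstance⟩

theorem isInvertible_of_rankOne {X : Scheme.{u}} {L : X.Modules} (hL : FlatMod.IsFinLocFreeOfRank 1 L) :
    PicF.IsInvertible L := fun x =>
  let ⟨U, hx, ⟨φ⟩⟩ := hL x
  ⟨U, hx, ⟨φ ≪≫ Limits.coproductUniqueIso _⟩⟩

/-- Scheme case, curve-test form of nefness: let X be a proper scheme over a field k and 0 → E' → E →
E'' → 0 a short exact sequence whose three terms are finite locally free O_X-modules. Assume that E'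
and E'' are nef in the curve-test sense: for every regular projective curve C over k (integral,
proper over k, of dimension one, all local rings regular), every k-morphism f : C → X and every
invertible quotient M of the pulled-back module, deg M = χ(M) - χ(O_C) ≥ 0. Then E is nef in the
same sense. (The source states this for proper algebraic spaces and nefness of O(1) on P(E); on
proper schemes the two senses agree by the Barton–Kleiman criterion.) -/
theorem result (k : Type u) [Field k] (X : Scheme.{u})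
    [X.Over (Spec (CommRingCat.of k))] [IsProper (X ↘ (Spec (CommRingCat.of k)))] (S : ShortComplex X.Modules) (hS : S.ShortExact)
    (h₁ : FlatMod.IsFinLocFree S.X₁) (h₂ : FlatMod.IsFinLocFree S.X₂) (h₃ : FlatMod.IsFinLocFree S.X₃)
    (hnef₁ : ∀ (C : Scheme.{u}) [C.Over (Spec (CommRingCat.of k))] [IsProper (C ↘ (Spec (CommRingCat.of k)))] [IsIntegral C],
      topologicalKrullDim C = 1 → (∀ x : C, IsRegularLocalRing (C.presheaf.stalk x)) →
      ∀ (f : C ⟶ X), f ≫ (X ↘ (Spec (CommRingCat.of k))) = C ↘ (Spec (CommRingCat.of k)) →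
      ∀ (M : C.Modules), PicF.IsInvertible M →
      ∀ (q : (Scheme.Modules.pullback f).obj S.X₁ ⟶ M), Epi q → 0 ≤ Curv2.deg k C M 1)
    (hnef₃ : ∀ (C : Scheme.{u}) [C.Over (Spec (CommRingCat.of k))] [IsProper (C ↘ (Spec (CommRingCat.of k)))] [IsIntegral C],
      topologicalKrullDim C = 1 → (∀ x : C, IsRegularLocalRing (C.presheaf.stalk x)) →
      ∀ (f : C ⟶ X), f ≫ (X ↘ (Spec (CommRingCat.of k))) = C ↘ (Spec (CommRingCat.of k)) →
      ∀ (M : C.Modules), PicF.IsInvertible M →
      ∀ (q : (Scheme.Modules.pullback f).obj S.X₃ ⟶ M), Epi q → 0 ≤ Curv2.deg k C M 1) :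
    ∀ (C : Scheme.{u}) [C.Over (Spec (CommRingCat.of k))] [IsProper (C ↘ (Spec (CommRingCat.of k)))] [IsIntegral C],
    topologicalKrullDim C = 1 → (∀ x : C, IsRegularLocalRing (C.presheaf.stalk x)) →
    ∀ (f : C ⟶ X), f ≫ (X ↘ (Spec (CommRingCat.of k))) = C ↘ (Spec (CommRingCat.of k)) →
    ∀ (M : C.Modules), PicF.IsInvertible M →
    ∀ (q : (Scheme.Modules.pullback f).obj S.X₂ ⟶ M), Epi q → 0 ≤ Curv2.deg k C M 1 := by
  intro C _ _ _ hdimC hreg f hf M hM q hq
  have hC : VBLib.GoodCurve k C := VBLib.PushTrace.goodCurve_of_normal hdimC (isNormalScheme_of_regular hreg)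
  haveI := hC.isLocallyNoetherian
  let F := Scheme.Modules.pullback f
  by_cases ha : F.map S.f ≫ q = 0
  · have hcol := CokernelCofork.mapIsColimit _ hS.gIsCokernel F
    obtain ⟨q', hq'⟩ := CokernelCofork.IsColimit.desc' hcol q ha
    have hb : F.map S.g ≫ q' = q := hq'
    haveI : Epi (F.map S.g ≫ q') := by rw [hb]; exact hq
    exact hnef₃ C hdimC hreg f hf M hM q' (epi_of_epi (F.map S.g) q')
  · let φ := F.map S.f ≫ q
    have hMr := VBLib.ofRank_one_of_invertible hM
    have hMf := VBLib.isFinLocFree_of_ofRank hMr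
    have hMc := VBLib.isCoh_of_isFinLocFree hMf
    have h1c : Coh.IsCoh (F.obj S.X₁) :=
      ZClosLib.CohDescent.isCoh_pullback f _ (VBLib.isCoh_of_isFinLocFree h₁)
    have hI := VBLib.isFinLocFree_image hC.pid φ h1c hMf
    have hIc := VBLib.isCoh_of_isFinLocFree hI
    have hpos : VBLib.rk (Abelian.image φ) ≠ 0 := fun h => ha (VBLib.eq_zero_of_rk_image φ hI h)
    have hle := VBLib.rk_le_of_mono (Abelian.image.ι φ) hMc
    have hM1 := VBLib.rk_eq hMr
    have hI1 : VBLib.rk (Abelian.image φ) = 1 := by omega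
    have hIr : FlatMod.IsFinLocFreeOfRank 1 (Abelian.image φ) := hI1 ▸ VBLib.ofRank_rk hI
    have h0 := hnef₁ C hdimC hreg f hf _ (isInvertible_of_rankOne hIr)
      (Abelian.factorThruImage φ) inferInstance
    have hdg := (hC.dg_le_of_mono (Abelian.image.ι φ) hIc hMc (hI1.trans hM1.symm)).1
    rw [VBLib.dg_eq hIr] at h0
    rw [VBLib.dg_eq hMr]
    omega

end Groth.Agent.S17280
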