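import Groth.Statements.S17281
import Groth.Agent.VBLib.GlobGen
import Groth.Agent.VBLib.TwistLine
import Groth.Agent.VBLib.RR
import Groth.Agent.FFCurve.Smooth
import Groth.Agent.FFCurve.Canonical

set_option backward.isDefEq.respectTransparency false
set_option backward.isDefEq.respectTransparency.types false
set_option linter.style.haveILetI false

set_option autoImplicit false
universe u
open CategoryTheory CategoryTheory.Limits AlgebraicGeometry TopologicalSpace
open Curves

open CategoryTheory CategoryTheory.Limits AlgebraicGeometry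
open Groth.Agent Groth.Agent.FFCurve

namespace Groth.Agent.S17281

/-- Fix an algebraically closed field k and a regular projective curve C over it (integral, proper over
k, of dimension one, all local rings regular) of genus g = dim_k H^1(C, O_C), E a finite locally
free O_C-module that is nef in the curve-test sense (for every regular projective curve C' over k,
every k-morphism f : C' → C and every invertible quotient M of f^*E, deg M = χ(M) - χ(O_{C'}) ≥ 0),
and H an invertible O_C-module with deg H = χ(H) - χ(O_C) ≥ 2g. Then E ⊗ H is generated by its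
global sections. -/
theorem result (k : Type u) [Field k] [IsAlgClosed k]
    (X : Scheme.{u}) [X.Over (Spec (CommRingCat.of k))] [IsProper (X ↘ (Spec (CommRingCat.of k)))] [IsIntegral X]
    (hdim : topologicalKrullDim X = 1) (hreg : ∀ x : X, IsRegularLocalRing (X.presheaf.stalk x))
    (E : X.Modules) (hE : FlatMod.IsFinLocFree E)
    (hnef : ∀ (C : Scheme.{u}) [C.Over (Spec (CommRingCat.of k))] [IsProper (C ↘ (Spec (CommRingCat.of k)))] [IsIntegral C],
      topologicalKrullDim C = 1 → (∀ x : C, IsRegularLocalRing (C.presheaf.stalk x)) →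
      ∀ (f : C ⟶ X), f ≫ (X ↘ (Spec (CommRingCat.of k))) = C ↘ (Spec (CommRingCat.of k)) →
      ∀ (M : C.Modules), PicF.IsInvertible M →
      ∀ (q : (Scheme.Modules.pullback f).obj E ⟶ M), Epi q → 0 ≤ Curv2.deg k C M 1)
    (H : X.Modules) (hH : PicF.IsInvertible H)
    (hdeg : 2 * (Curv2.genus k X : ℤ) ≤ Curv2.deg k X H 1) :
    Curv2.IsGloballyGenerated (CohB1.tensorMod E H) := by
  haveI : Smooth (X ↘ Spec (CommRingCat.of k)) := FFCurve.smooth_of_regular _ hreg
  haveI := regCurve_of_smooth (X := X) k hdim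
  have hX := VBLib.goodCurve_of_smooth (k := k) (X := X) hdim
  haveI := hX.isLocallyNoetherian
  have hΩ := isInvertible_omega (X := X) k hdim
  have hΩr := VBLib.ofRank_one_of_invertible hΩ
  have hΩd : VBLib.dg k (Omega.sheaf (X ↘ Spec (CommRingCat.of k))) = 2 * (Curv2.genus k X : ℤ) - 2 := by
    rw [← VBLib.dg_eq hΩr, deg_omega k hdim]
  obtain ⟨hF, hFr, hFd⟩ := hX.dg_tensor_line hE hH
  have hHd : Curv2.deg k X H 1 = VBLib.dg k H := VBLib.dg_eq (VBLib.ofRank_one_of_invertible hH)
  refine hX.isGloballyGenerated_of VBLib.bijective_toGlobal_of_isAlgClosed hF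
    fun G ι hι hG hGr hGd => hX.subsingleton_h1 hG fun f => ?_
  by_contra hf
  have hGc := VBLib.isCoh_of_isFinLocFree hG
  have hΩc := VBLib.isCoh_of_ofRank hΩr
  have hFc := VBLib.isCoh_of_isFinLocFree hF
  obtain ⟨h1, h2⟩ := hX.dg_kernel_image f hGc hΩc
  have hI := VBLib.isFinLocFree_image hX.pid f hGc (VBLib.isFinLocFree_of_ofRank hΩr)
  have hIc := VBLib.isCoh_of_isFinLocFree hI
  have hK := VBLib.isFinLocFree_kernel hX.pid f hG hΩc
  have hIr : VBLib.rk (Abelian.image f) = 1 := by
    refine le_antisymm ((VBLib.rk_le_of_mono (Abelian.image.ι f) hΩc).trans (VBLib.rk_eq hΩr).le) ?_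
    refine Nat.one_le_iff_ne_zero.2 fun h0 => hf ?_
    rw [← Abelian.image.fac f, (VBLib.isZero_of_rk_eq_zero hI h0).eq_of_src (Abelian.image.ι f) 0, comp_zero]
  have hId : VBLib.dg k (Abelian.image f) ≤ 2 * (Curv2.genus k X : ℤ) - 2 := by
    rw [← hΩd]
    exact (hX.dg_le_of_mono (Abelian.image.ι f) hIc hΩc (hIr.trans (VBLib.rk_eq hΩr).symm)).1
  obtain ⟨K', j, i', -, -, hi', hK', hQ, hK'r, hK'd⟩ :=
    hX.exists_saturation (kernel.ι f ≫ ι) (VBLib.isCoh_of_isFinLocFree hK) hF
  obtain ⟨hc1, hc2⟩ := hX.dg_mono_cokernel i' (VBLib.isCoh_of_isFinLocFree hK') hFc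
  have hQr : FlatMod.IsFinLocFreeOfRank 1 (cokernel i') := by
    have h := VBLib.ofRank_rk hQ
    rwa [show VBLib.rk (cokernel i') = 1 by omega] at h
  have hQi : PicF.IsInvertible (cokernel i') := fun x => by
    obtain ⟨U, hx, ⟨φ⟩⟩ := hQr x
    exact ⟨U, hx, ⟨φ ≪≫ coproductUniqueIso fun _ : Fin 1 => Coh.structureModule (U : Scheme.{u})⟩⟩
  obtain ⟨M, hM, ⟨w⟩⟩ := PicLaw.exists_inverse hH
  obtain ⟨q', hq'⟩ := VBLib.exists_epi_tensor hM (cokernel.π i')
  obtain ⟨-, -, hd1⟩ := hX.dg_tensor_line hQ hM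
  obtain ⟨-, -, hd2⟩ := hX.dg_tensor_line (VBLib.isFinLocFree_of_ofRank (VBLib.ofRank_one_of_invertible hH)) hM
  have hMQ := AmpleLib.isInvertible_tensorMod hQi hM
  have h0 := hnef X hdim hreg (𝟙 X) (Category.id_comp _) (CohB1.tensorMod (cokernel i') M) hMQ
    ((Scheme.Modules.pullbackId X).hom.app E ≫ (ProjTwist.tensOne E).inv ≫
      (ProjTwist.tensCongr (Iso.refl E) w.symm).hom ≫ (ProjTwist.tensAssoc E H M).inv ≫ q') inferInstance
  have hO : VBLib.dg k (Coh.structureModule X) = 0 := by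
    simp [VBLib.dg, Curv2.deg, VBLib.rk_eq (VBLib.ofRank_one_of_invertible (PicLoc.isInvertible_structureModule X))]
  have hw := (hX.dg_iso w (VBLib.isCoh_of_isFinLocFree (hX.dg_tensor_line
    (VBLib.isFinLocFree_of_ofRank (VBLib.ofRank_one_of_invertible hH)) hM).1)
    (VBLib.isCoh_of_ofRank (VBLib.ofRank_one_of_invertible (PicLoc.isInvertible_structureModule X)))).1
  rw [VBLib.dg_eq (VBLib.ofRank_one_of_invertible hMQ), hd1, VBLib.rk_eq hQr] at h0
  rw [hw, hO, VBLib.rk_eq (VBLib.ofRank_one_of_invertible hH)] at hd2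
  push_cast at h0 hd2
  omega

end Groth.Agent.S17281
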