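import Groth.Statements.S17283
import Groth.Agent.BigVol.CurvePull
import Groth.Agent.CartInt.QuotSup
import Groth.Agent.ProjTwist.Tensor
import Groth.Agent.FFCurve.P1Iso
import Groth.Agent.FFCurve.GenusBirational
import Groth.Agent.S1585
import Groth.Agent.S4716
-- import your own Groth.Agent.* helpers here

set_option autoImplicit false
set_option linter.style.haveILetI false
universe u
open CategoryTheory CategoryTheory.Limits AlgebraicGeometry TopologicalSpace
open Variety

namespace Groth.Agent.S17283

open Groth.Agent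

/-- the test number of the whole curve is the degree -/
theorem test_bot {k : Type u} [Field k] {C : Scheme.{u}} [C.Over (Spec (CommRingCat.of k))]
    [IsProper (C ↘ Spec (CommRingCat.of k))]
    (M : C.Modules) :
    Curv2.euler k C (CohB1.tensorMod (ClSub.quotMod (⊥ : C.IdealSheafData)) M) -
        Curv2.euler k C (ClSub.quotMod (⊥ : C.IdealSheafData)) = Curv2.deg k C M 1 := by
  haveI := EulerChar.isNoetherian k (X := C)
  obtain ⟨e⟩ := CartInt.nonempty_quotMod_bot (X := C)
  rw [EulerChar.euler_iso k (ProjTwist.tensCongr e (Iso.refl M) ≪≫ ProjTwist.oneTens M),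
    EulerChar.euler_iso k e]
  simp [Curv2.deg]

/-- a regular curve finite over an integral curve -/
theorem exists_regular_cover (k : Type u) [Field k] (D : Scheme.{u})
    [D.Over (Spec (CommRingCat.of k))] [IsProper (D ↘ Spec (CommRingCat.of k))] [IsIntegral D]
    (hD : topologicalKrullDim D = 1) :
    ∃ (N : Scheme.{u}) (_ : N.Over (Spec (CommRingCat.of k))) (_ : IsProper (N ↘ Spec (CommRingCat.of k)))
      (_ : IsIntegral N) (ν : N ⟶ D), Surjective ν ∧ topologicalKrullDim N = 1 ∧
      (∀ x : N, IsRegularLocalRing (N.presheaf.stalk x)) ∧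
      ν ≫ (D ↘ Spec (CommRingCat.of k)) = N ↘ Spec (CommRingCat.of k) := by
  haveI := EulerChar.isNoetherian k (X := D)
  haveI : QuasiCompact (D.fromSpecStalk (genericPoint D)) := inferInstance
  haveI : QuasiSeparated (D.fromSpecStalk (genericPoint D)) := inferInstance
  obtain ⟨hfin, hdom, ⟨V, hV, hVi⟩, hint, hn⟩ := S1585.result k D
  haveI := hfin; haveI := hint; haveI := hdom
  let ν := Curv2.normalizationι D
  haveI : Surjective ν := ⟨by
    rw [← Set.range_eq_univ, ← (ν.isClosedMap.isClosed_range).closure_eq]
    exact (denseRange_iff_closure_range.1 ν.denseRange)⟩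
  letI : (Curv2.normalization D).Over (Spec (CommRingCat.of k)) :=
    ⟨ν ≫ (D ↘ Spec (CommRingCat.of k))⟩
  haveI : IsProper ((Curv2.normalization D) ↘ Spec (CommRingCat.of k)) :=
    inferInstanceAs (IsProper (ν ≫ (D ↘ Spec (CommRingCat.of k))))
  haveI := hVi
  have hNd : Dense ((ν ⁻¹ᵁ V : (Curv2.normalization D).Opens) : Set (Curv2.normalization D)) := by
    refine (ν ⁻¹ᵁ V).2.dense ?_
    obtain ⟨v, hv⟩ := hV
    obtain ⟨w, hw⟩ := ν.surjective v
    exact ⟨w, show ν w ∈ V by rw [hw]; exact hv⟩
  haveI := EulerChar.isNoetherian k (X := Curv2.normalization D)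
  have hN : topologicalKrullDim (Curv2.normalization D) = 1 := by
    refine le_antisymm (FFCurve.GenusBirational.dim_le_one (k := k) ν V hNd hD.le hVi) ?_
    rw [← hD]
    exact S4716.result ν ν.surjective (Or.inr ν.isClosedMap)
  haveI := FFCurve.regCurve_of_normal k hN hn
  refine ⟨Curv2.normalization D, inferInstance, inferInstance, inferInstance, ν, inferInstance, hN,
    fun x => ?_, rfl⟩
  haveI := FFCurve.RegCurve.val (X := Curv2.normalization D) x
  haveI : IsNoetherianRing ((Curv2.normalization D).presheaf.stalk x) := inferInstance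
  haveI : IsPrincipalIdealRing ((Curv2.normalization D).presheaf.stalk x) := inferInstance
  infer_instance

/-- Scheme case, curve-test form of nefness: let f : Y → X be a surjective k-morphism of proper schemes
over a field k and E a finite locally free O_X-module. If the pullback f^*E is nef on Y in the
curve-test sense (for every regular projective curve C over k — integral, proper over k, of
dimension one, all local rings regular — every k-morphism g : C → Y and every invertible quotient M
of g^*(f^*E), deg M = χ(M) - χ(O_C) ≥ 0), then E is nef on X in the same sense. (The source states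
this for proper algebraic spaces with nefness of O(1) on P(E); on proper schemes the senses agree by
the Barton–Kleiman criterion.) -/
theorem result (k : Type u) [Field k] (X Y : Scheme.{u})
    [X.Over (Spec (CommRingCat.of k))] [IsProper (X ↘ (Spec (CommRingCat.of k)))] [Y.Over (Spec (CommRingCat.of k))] [IsProper (Y ↘ (Spec (CommRingCat.of k)))]
    (f : Y ⟶ X) (hf : f ≫ (X ↘ (Spec (CommRingCat.of k))) = Y ↘ (Spec (CommRingCat.of k))) [Surjective f]
    (E : X.Modules) (hE : FlatMod.IsFinLocFree E)
    (hnef : ∀ (C : Scheme.{u}) [C.Over (Spec (CommRingCat.of k))] [IsProper (C ↘ (Spec (CommRingCat.of k)))] [IsIntegral C],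
      topologicalKrullDim C = 1 → (∀ x : C, IsRegularLocalRing (C.presheaf.stalk x)) →
      ∀ (g : C ⟶ Y), g ≫ (Y ↘ (Spec (CommRingCat.of k))) = C ↘ (Spec (CommRingCat.of k)) →
      ∀ (M : C.Modules), PicF.IsInvertible M →
      ∀ (q : (Scheme.Modules.pullback g).obj ((Scheme.Modules.pullback f).obj E) ⟶ M), Epi q → 0 ≤ Curv2.deg k C M 1) :
    ∀ (C : Scheme.{u}) [C.Over (Spec (CommRingCat.of k))] [IsProper (C ↘ (Spec (CommRingCat.of k)))] [IsIntegral C],
    topologicalKrullDim C = 1 → (∀ x : C, IsRegularLocalRing (C.presheaf.stalk x)) →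
    ∀ (g : C ⟶ X), g ≫ (X ↘ (Spec (CommRingCat.of k))) = C ↘ (Spec (CommRingCat.of k)) →
    ∀ (M : C.Modules), PicF.IsInvertible M →
    ∀ (q : (Scheme.Modules.pullback g).obj E ⟶ M), Epi q → 0 ≤ Curv2.deg k C M 1 := by
  intro C _ _ _ hC _ g hg M hM q hq
  let sk := Spec (CommRingCat.of k)
  letI : (pullback g f).Over sk := ⟨pullback.fst g f ≫ (C ↘ sk)⟩
  haveI : IsProper f := by
    haveI : IsProper (f ≫ (X ↘ sk)) := hf ▸ inferInstance
    exact IsProper.of_comp f (X ↘ sk)
  haveI : IsProper ((pullback g f) ↘ sk) := inferInstanceAs (IsProper (pullback.fst g f ≫ (C ↘ sk)))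
  haveI : IsIntegral (⊥ : C.IdealSheafData).subscheme :=
    IsIntegral.of_isIso (inv (⊥ : C.IdealSheafData).subschemeι)
  have hdim : topologicalKrullDim ((⊥ : C.IdealSheafData).support : Set C) = 1 := by
    rw [Scheme.IdealSheafData.support_bot, Closeds.coe_top,
      (Homeomorph.Set.univ C).isHomeomorph.topologicalKrullDim_eq]
    exact hC
  rw [← test_bot (k := k) M]
  refine BigVol.CurvePull.test_nonneg_of_surjective k (pullback.fst g f) rfl hM ?_ ⊥ hdim
  intro D hDint hDdim
  haveI := hDint
  letI : D.subscheme.Over sk := ⟨D.subschemeι ≫ ((pullback g f) ↘ sk)⟩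
  haveI : IsProper (D.subscheme ↘ sk) :=
    inferInstanceAs (IsProper (D.subschemeι ≫ ((pullback g f) ↘ sk)))
  have hD1 : topologicalKrullDim D.subscheme = 1 := by
    rw [IsHomeomorph.topologicalKrullDim_eq _ D.subschemeι.isEmbedding.toHomeomorph.isHomeomorph,
      D.range_subschemeι]
    exact hDdim
  obtain ⟨N, _, _, _, ν, hνs, hN, hreg, hν⟩ := exists_regular_cover k D.subscheme hD1
  let h := ν ≫ D.subschemeι
  have hh : h ≫ ((pullback g f) ↘ sk) = N ↘ sk := (Category.assoc _ _ _).trans hν
  haveI : IsIntegral (⊥ : N.IdealSheafData).subscheme :=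
    IsIntegral.of_isIso (inv (⊥ : N.IdealSheafData).subschemeι)
  have hdimN : topologicalKrullDim ((⊥ : N.IdealSheafData).support : Set N) = 1 := by
    rw [Scheme.IdealSheafData.support_bot, Closeds.coe_top,
      (Homeomorph.Set.univ N).isHomeomorph.topologicalKrullDim_eq]
    exact hN
  have hP := PicLoc.isInvertible_pullback (pullback.fst g f) hM
  have hξ : h ((⊥ : N.IdealSheafData).subschemeι (genericPoint (⊥ : N.IdealSheafData).subscheme)) =
      D.subschemeι (genericPoint D.subscheme) := by
    haveI := hνs
    have h1 : (⊥ : N.IdealSheafData).subschemeι (genericPoint (⊥ : N.IdealSheafData).subscheme) =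
        genericPoint N := ((genericPoint_spec _).image
          (⊥ : N.IdealSheafData).subschemeι.continuous).eq (by
        rw [Set.image_univ, (show Function.Surjective (⊥ : N.IdealSheafData).subschemeι from
          (⊥ : N.IdealSheafData).subschemeι.homeomorph.surjective).range_eq,
          closure_univ]
        exact genericPoint_spec N)
    rw [h1, Scheme.Hom.comp_apply]
    refine congrArg D.subschemeι (((genericPoint_spec N).image ν.continuous).eq ?_)
    rw [Set.image_univ, ν.surjective.range_eq, closure_univ]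
    exact genericPoint_spec _
  obtain ⟨d, hd0, hd⟩ := BigVol.CurvePull.test_eq_mul k h hh hP D (⊥ : N.IdealSheafData) hDdim hdimN hξ
  refine nonneg_of_mul_nonneg_right (a := (d : ℤ)) ?_ (by exact_mod_cast hd0)
  rw [← hd, test_bot]
  let g' := h ≫ pullback.snd g f
  have hg' : g' ≫ (Y ↘ sk) = N ↘ sk := by
    rw [← hh, ← hf, Category.assoc, Category.assoc, ← pullback.condition_assoc, hg]
    rfl
  have hgg : g' ≫ f = (h ≫ pullback.fst g f) ≫ g := by
    simp only [g', h, Category.assoc, pullback.condition]
  let e : (Scheme.Modules.pullback g').obj ((Scheme.Modules.pullback f).obj E) ≅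
      (Scheme.Modules.pullback (h ≫ pullback.fst g f)).obj ((Scheme.Modules.pullback g).obj E) :=
    (Scheme.Modules.pullbackComp g' f).app E ≪≫ (Scheme.Modules.pullbackCongr hgg).app E ≪≫
      ((Scheme.Modules.pullbackComp (h ≫ pullback.fst g f) g).app E).symm
  let q' := e.hom ≫ (Scheme.Modules.pullback (h ≫ pullback.fst g f)).map q ≫
    ((Scheme.Modules.pullbackComp h (pullback.fst g f)).app M).inv
  haveI := hq
  haveI : Epi ((Scheme.Modules.pullback (h ≫ pullback.fst g f)).map q) := by
    haveI : (Scheme.Modules.pullback (h ≫ pullback.fst g f)).IsLeftAdjoint :=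
      (Scheme.Modules.pullbackPushforwardAdjunction (h ≫ pullback.fst g f)).isLeftAdjoint
    infer_instance
  exact hnef N hN hreg g' hg' _ (PicLoc.isInvertible_pullback h hP) q' inferInstance

end Groth.Agent.S17283
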