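import Groth.Statements.S9800
import Groth.Agent.Props.NormalCM
-- import your own Groth.Agent.* helpers here

set_option autoImplicit false
universe u
open CategoryTheory AlgebraicGeometry TopologicalSpace
open Props

namespace Groth.Agent.S9800

/-- A locally Noetherian normal scheme of dimension at most one is regular, that is, all of its local
rings are regular local rings. -/
theorem result (X : Scheme.{u})
    [IsLocallyNoetherian X] (hN : Pi1.IsNormalScheme X) (hd : topologicalKrullDim X ≤ 1) (x : X) :
    IsRegularLocalRing (X.presheaf.stalk x) := by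
  have hd' : ringKrullDim (X.presheaf.stalk x) ≤ 1 := (Props.NormalCM.ringKrullDim_stalk_le X x).trans hd
  obtain ⟨hdom, hic⟩ := hN x
  obtain ⟨_, ⟨U, hU, rfl⟩, hxU, -⟩ :=
    X.isBasis_affineOpens.exists_subset_of_mem_open (Set.mem_univ x) isOpen_univ
  haveI := IsLocallyNoetherian.component_noetherian (X := X) ⟨U, hU⟩
  letI := TopCat.Presheaf.algebra_section_stalk X.presheaf ⟨x, hxU⟩
  haveI := hU.isLocalization_stalk ⟨x, hxU⟩
  haveI : IsNoetherianRing (X.presheaf.stalk x) :=
    IsLocalization.isNoetherianRing (hU.primeIdealOf ⟨x, hxU⟩).asIdeal.primeCompl _ inferInstance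
  exact Props.NormalCM.isRegularLocalRing_of_dim_le_one _ hd'

end Groth.Agent.S9800
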