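import Groth.Statements.S17284
import Groth.Agent.S17276
import Groth.Agent.S1585
import Groth.Agent.S1666
import Groth.Agent.S9800
import Groth.Agent.S4717
import Groth.Agent.BigVol.CurveTest

set_option autoImplicit false
universe u
open CategoryTheory CategoryTheory.Limits AlgebraicGeometry TopologicalSpace
open Variety

set_option linter.style.haveILetI false

namespace Groth.Agent.S17284

/-- (iii) ⇒ (ii): let X be a proper scheme over a field k and E a finite locally free O_X-module.
Suppose that for every regular projective curve C over k (integral, proper over k, of dimension one,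
all local rings regular), every k-morphism f : C → X and every invertible quotient f^*E → M, deg M =
χ(M) - χ(O_C) ≥ 0. Then for every proper k-scheme C of dimension one (equivalently projective;
possibly reducible or non-reduced), every k-morphism f : C → X and every invertible quotient f^*E →
M, deg M = χ(M) - χ(O_C) ≥ 0. (The source states this for proper algebraic spaces X; this is the
case of schemes.) -/
theorem result (k : Type u) [Field k]
    (X : Scheme.{u}) [X.Over (Spec (CommRingCat.of k))] [IsProper (X ↘ (Spec (CommRingCat.of k)))] (E : X.Modules) (hE : FlatMod.IsFinLocFree E)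
    (hnef : ∀ (C : Scheme.{u}) [C.Over (Spec (CommRingCat.of k))] [IsProper (C ↘ (Spec (CommRingCat.of k)))] [IsIntegral C],
      topologicalKrullDim C = 1 → (∀ x : C, IsRegularLocalRing (C.presheaf.stalk x)) →
      ∀ (f : C ⟶ X), f ≫ (X ↘ (Spec (CommRingCat.of k))) = C ↘ (Spec (CommRingCat.of k)) →
      ∀ (M : C.Modules), PicF.IsInvertible M →
      ∀ (q : (Scheme.Modules.pullback f).obj E ⟶ M), Epi q → 0 ≤ Curv2.deg k C M 1) :
    ∀ (C : Scheme.{u}) [C.Over (Spec (CommRingCat.of k))] [IsProper (C ↘ (Spec (CommRingCat.of k)))], topologicalKrullDim C = 1 →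
    ∀ (f : C ⟶ X), f ≫ (X ↘ (Spec (CommRingCat.of k))) = C ↘ (Spec (CommRingCat.of k)) →
    ∀ (M : C.Modules), PicF.IsInvertible M →
    ∀ (q : (Scheme.Modules.pullback f).obj E ⟶ M), Epi q → 0 ≤ Curv2.deg k C M 1 := by
  intro C _ _ hdim f hf M hM q hq
  refine Groth.Agent.S17276.result k C hdim M hM fun D hD hDdim => ?_
  rw [Groth.Agent.BigVol.CurveTest.euler_sub_eq_deg k D hM]
  haveI := hD
  haveI := hq
  let ι := D.subschemeι
  letI iY : D.subscheme.Over (Spec (CommRingCat.of k)) := ⟨ι ≫ (C ↘ Spec (CommRingCat.of k))⟩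
  haveI : IsProper (D.subscheme ↘ Spec (CommRingCat.of k)) :=
    inferInstanceAs (IsProper (ι ≫ (C ↘ Spec (CommRingCat.of k))))
  have hdY : topologicalKrullDim D.subscheme = 1 := by
    rw [IsHomeomorph.topologicalKrullDim_eq _ (ι.isEmbedding.toHomeomorph.trans
      (Homeomorph.setCongr D.range_subschemeι)).isHomeomorph]
    exact hDdim
  haveI : IsLocallyNoetherian D.subscheme :=
    LocallyOfFiniteType.isLocallyNoetherian (D.subscheme ↘ Spec (CommRingCat.of k))
  haveI : CompactSpace D.subscheme :=
    QuasiCompact.compactSpace_of_compactSpace (D.subscheme ↘ Spec (CommRingCat.of k))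
  haveI : IsNoetherian D.subscheme := ⟨⟩
  let Y' := Curv2.normalization D.subscheme
  let ν : Y' ⟶ D.subscheme := Curv2.normalizationι D.subscheme
  obtain ⟨hfin, hdom, ⟨V, hV, hVi⟩, hint, hnorm⟩ := Groth.Agent.S1585.result k D.subscheme
  haveI := hint
  haveI : IsFinite ν := hfin
  letI iY' : Y'.Over (Spec (CommRingCat.of k)) := ⟨ν ≫ ι ≫ (C ↘ Spec (CommRingCat.of k))⟩
  haveI : IsProper (Y' ↘ Spec (CommRingCat.of k)) :=
    inferInstanceAs (IsProper (ν ≫ ι ≫ (C ↘ Spec (CommRingCat.of k))))
  haveI : IsLocallyNoetherian Y' :=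
    LocallyOfFiniteType.isLocallyNoetherian (Y' ↘ Spec (CommRingCat.of k))
  have hsurj : Function.Surjective ν := fun y => by
    have h := hdom.denseRange.closure_range
    rw [ν.isClosedMap.isClosed_range.closure_eq] at h
    exact (Set.eq_univ_iff_forall.1 h y)
  have hdY' : topologicalKrullDim Y' = 1 := ((Groth.Agent.S4717.result ν).2 hsurj).trans hdY
  have hreg : ∀ x : Y', IsRegularLocalRing (Y'.presheaf.stalk x) :=
    Groth.Agent.S9800.result Y' hnorm hdY'.le
  let M' := (Scheme.Modules.pullback ι).obj M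
  have hM' : PicF.IsInvertible M' := Groth.Agent.PicCl.isInvertible_pullback ι hM
  let e := (Scheme.Modules.pullbackComp (ν ≫ ι) f).app E
  let e' := (Scheme.Modules.pullbackComp ν ι).app ((Scheme.Modules.pullback f).obj E)
  haveI := Functor.preservesEpimorphisms_of_adjunction (Scheme.Modules.pullbackPushforwardAdjunction ι)
  haveI := Functor.preservesEpimorphisms_of_adjunction (Scheme.Modules.pullbackPushforwardAdjunction ν)
  let q' : (Scheme.Modules.pullback ((ν ≫ ι) ≫ f)).obj E ⟶ (Scheme.Modules.pullback ν).obj M' :=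
    e.inv ≫ e'.inv ≫ (Scheme.Modules.pullback ν).map ((Scheme.Modules.pullback ι).map q)
  have hq' : Epi q' := inferInstance
  have h0 := hnef Y' hdY' hreg ((ν ≫ ι) ≫ f)
    (by rw [Category.assoc, hf, Category.assoc]; rfl) _ (Groth.Agent.PicCl.isInvertible_pullback ν hM') q' hq'
  rw [Groth.Agent.S1666.result k D.subscheme Y' hdY.le hdY'.le ν rfl V
    (V.isOpen.dense hV) ((ν ⁻¹ᵁ V).isOpen.dense (by
      obtain ⟨y, hy⟩ := hV
      obtain ⟨x, rfl⟩ := hsurj y
      exact ⟨x, hy⟩)) hVi 1 M' (Groth.Agent.ProjTwist.isFinLocFreeOfRank_one hM')] at h0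
  exact h0

end Groth.Agent.S17284
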