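import Groth.Statements.S17285
import Groth.Agent.BigVol.ProperGrowth
-- import your own Groth.Agent.* helpers here

set_option autoImplicit false
set_option linter.style.haveILetI false
universe u
open CategoryTheory CategoryTheory.Limits AlgebraicGeometry TopologicalSpace
open Variety

namespace Groth.Agent.S17285

/-- Let X and Y be proper varieties over a field k (integral schemes, proper over k) of the same
dimension d, f : Y → X a birational k-morphism (generic point to generic point, with a single point
in that fibre and the same residue field there), and L an invertible O_X-module. Then L is big,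
meaning that some real c > 0 has dim_k H^0(X, L^{⊗n}) > c·n^d for all sufficiently large n, if and
only if f^*L is big on Y in the same sense. (The source states this for birational morphisms of
proper schemes over k; it is stated here for integral X and Y, the case in which the printed
argument's injectivity of O_X → f_*O_Y holds.) -/
theorem result (k : Type u) [Field k] (X Y : Scheme.{u})
    [X.Over (Spec (CommRingCat.of k))] [IsProper (X ↘ (Spec (CommRingCat.of k)))] [IsIntegral X]
    [Y.Over (Spec (CommRingCat.of k))] [IsProper (Y ↘ (Spec (CommRingCat.of k)))] [IsIntegral Y]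
    (f : Y ⟶ X) (hf : f ≫ (X ↘ (Spec (CommRingCat.of k))) = Y ↘ (Spec (CommRingCat.of k))) (hbir : RadPt.IsBirational f)
    (d : ℕ) (hdimX : topologicalKrullDim X = d) (hdimY : topologicalKrullDim Y = d)
    (L : X.Modules) (hL : PicF.IsInvertible L) :
    (∃ c : ℝ, 0 < c ∧ ∀ᶠ n : ℕ in Filter.atTop,
        c * (n : ℝ) ^ d < (Module.finrank k (Coh.HH X (CohB1.tensorPow L n) 0) : ℝ)) ↔
      (∃ c : ℝ, 0 < c ∧ ∀ᶠ n : ℕ in Filter.atTop,
        c * (n : ℝ) ^ d < (Module.finrank k (Coh.HH Y (CohB1.tensorPow ((Scheme.Modules.pullback f).obj L) n) 0) : ℝ)) := by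
  haveI := EulerChar.isNoetherian k (X := X)
  haveI := EulerChar.isNoetherian k (X := Y)
  obtain ⟨⟨hmap, -, -⟩, hfib⟩ := hbir
  rw [genericPoints_eq_singleton, genericPoints_eq_singleton] at hmap
  have hdom : f (genericPoint Y) = genericPoint X := hmap rfl
  have hres := (hfib (genericPoint X) (by rw [genericPoints_eq_singleton]; rfl)).2 (genericPoint Y) hdom
  have hdeg : f.residueDegree (genericPoint Y) = 1 := by
    rw [Scheme.Hom.residueDegree]
    letI := (f.residueFieldMap (genericPoint Y)).hom.toAlgebra
    exact (LinearEquiv.ofBijective (Algebra.linearMap _ _) hres).symm.finrank_eq.trans (Module.finrank_self _)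
  obtain ⟨C, hC⟩ := Groth.Agent.BigVol.ProperGrowth.exists_h0_birational k f hf hdom hdeg hdimX hL
  constructor
  · rintro ⟨c, hc, h⟩
    exact ⟨c, hc, h.mono fun m hm => hm.trans_le (Nat.cast_le.2 (hC m).1)⟩
  · rintro ⟨c, hc, h⟩
    refine ⟨c / 2, by positivity, ?_⟩
    filter_upwards [h, Groth.Agent.BigVol.ProperGrowth.eventually_small d C (half_pos hc)] with m h1 h2
    have h3 := Nat.cast_le (α := ℝ).2 (hC m).2
    push_cast at h2 h3 ⊢
    linarith

end Groth.Agent.S17285
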