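import Groth.Statements.S17287
import Groth.Agent.CycLib.FibreDim
import Groth.Agent.CycLib.FieldDelta
import Groth.Agent.RedSub.Basic
-- import your own Groth.Agent.* helpers here

set_option autoImplicit false
set_option linter.style.haveILetI false
universe u
open CategoryTheory CategoryTheory.Limits AlgebraicGeometry TopologicalSpace
open Variety

namespace Groth.Agent.S17287

/-- Let f : Y → X be a surjective k-morphism of proper schemes over a field k and C ⊆ X an integral
closed subscheme of dimension one. Then there is an integral closed subscheme C' ⊆ Y of dimension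
one with f(C') = C as closed subsets. (The source states this for proper algebraic spaces over k;
this is the case of schemes.) -/
theorem result (k : Type u) [Field k] (X Y : Scheme.{u})
    [X.Over (Spec (CommRingCat.of k))] [IsProper (X ↘ (Spec (CommRingCat.of k)))] [Y.Over (Spec (CommRingCat.of k))] [IsProper (Y ↘ (Spec (CommRingCat.of k)))]
    (f : Y ⟶ X) (hf : f ≫ (X ↘ (Spec (CommRingCat.of k))) = Y ↘ (Spec (CommRingCat.of k))) [Surjective f]
    (C : X.IdealSheafData) [IsIntegral C.subscheme] (hC : topologicalKrullDim (C.support : Set X) = 1) :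
    ∃ C' : Y.IdealSheafData, IsIntegral C'.subscheme ∧ topologicalKrullDim (C'.support : Set Y) = 1 ∧
      f.base '' (C'.support : Set Y) = (C.support : Set X) := by
  classical
  haveI : IsProper f := by
    haveI : IsProper (f ≫ (X ↘ (Spec (CommRingCat.of k)))) := by rw [hf]; infer_instance
    exact IsProper.of_comp f (X ↘ (Spec (CommRingCat.of k)))
  obtain ⟨c, hcdef⟩ : ∃ c, c = C.subschemeι (genericPoint C.subscheme) := ⟨_, rfl⟩
  have hc : (C.support : Set X) = closure {c} := by
    rw [← C.range_subschemeι, hcdef, ← Set.image_singleton,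
      C.subschemeι.isClosedMap.closure_image_eq_of_continuous C.subschemeι.continuous,
      (genericPoint_spec C.subscheme).def, Set.image_univ]
  have hhc : Order.height c = 1 := by
    have := Groth.Agent.CycLib.topologicalKrullDim_closure X c
    rw [← hc, hC] at this
    exact_mod_cast this.symm
  haveI : Nonempty ↥(f.fiber c) := by
    obtain ⟨w, hw⟩ := f.surjective c
    subst hw
    exact ⟨f.asFiber w⟩
  haveI : CompactSpace ↥(f.fiber c) :=
    QuasiCompact.compactSpace_of_compactSpace (f.fiberToSpecResidueField c)
  obtain ⟨z, -, hz⟩ := isClosed_univ.exists_closed_singleton (S := (Set.univ : Set ↥(f.fiber c)))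
    Set.univ_nonempty
  have hfy : f (f.fiberι c z) = c := by
    have := Set.mem_range_self (f := f.fiberι c) z
    rw [f.range_fiberι] at this
    exact this
  -- the residue extension at `y` is algebraic
  letI := f.fiberOverSpecResidueField c
  haveI : LocallyOfFiniteType ((f.fiber c) ↘ Spec (CommRingCat.of (X.residueField c))) :=
    Groth.Agent.CycLib.locallyOfFiniteType_fiberToSpecResidueField f c
  have hz0 : Groth.Agent.VarDim.dimPt (X.residueField c) (f.fiber c) z = 0 := by
    have h0 : Order.height z = 0 := Order.height_eq_zero.2 fun q hq => by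
      have hm : q ∈ closure ({z} : Set ↥(f.fiber c)) := specializes_iff_mem_closure.1 hq
      rw [hz.closure_eq, Set.mem_singleton_iff] at hm
      exact hm.ge
    rw [Groth.Agent.VarDim.height_eq_dimPt (X.residueField c) z] at h0
    exact_mod_cast h0
  have htr := Groth.Agent.CycLib.trdeg_fibre f c z
  rw [hz0] at htr
  obtain ⟨n, hn, hδ⟩ := Groth.Agent.CycLib.deltaCompat_fdelta k f (Y ↘ (Spec (CommRingCat.of k)))
    (X ↘ (Spec (CommRingCat.of k))) hf (f.fiberι c z)
  have hn0 : n = 0 := by
    rw [htr] at hn
    exact_mod_cast hn.symm
  obtain ⟨y, hy⟩ : ∃ y, y = f.fiberι c z := ⟨_, rfl⟩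
  rw [← hy] at hfy hδ
  rw [hn0, hfy, Nat.cast_zero, add_zero] at hδ
  have hhy : Order.height y = 1 := by
    rw [Groth.Agent.VarDim.height_eq_dimPt k y]
    rw [Groth.Agent.VarDim.height_eq_dimPt k c] at hhc
    have h1 : (Groth.Agent.VarDim.dimPt k Y y : ℤ) = Groth.Agent.VarDim.dimPt k X c := hδ
    rw [Nat.cast_inj] at h1
    rw [h1, hhc]
  let C' := Scheme.IdealSheafData.vanishingIdeal (X := Y) ⟨closure {y}, isClosed_closure⟩
  have hsupp : (C'.support : Set Y) = closure {y} :=
    Scheme.IdealSheafData.coe_support_vanishingIdeal _
  refine ⟨C', ?_, ?_, ?_⟩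
  · haveI : IsReduced C'.subscheme := Groth.Agent.RedSub.isReduced_vanishingIdeal _
    haveI : IrreducibleSpace C'.subscheme := by
      have hi : IsIrreducible (Set.range C'.subschemeι) := by
        rw [C'.range_subschemeι, hsupp]
        exact isIrreducible_singleton.closure
      haveI : IrreducibleSpace (Set.range C'.subschemeι) := Subtype.irreducibleSpace hi
      let e := C'.subschemeι.isEmbedding.toHomeomorph
      refine (irreducibleSpace_def C'.subscheme).mpr ?_
      have := (IrreducibleSpace.isIrreducible_univ (Set.range C'.subschemeι)).image e.symm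
        e.symm.continuous.continuousOn
      rwa [Set.image_univ, e.symm.surjective.range_eq] at this
    exact isIntegral_of_irreducibleSpace_of_isReduced _
  · rw [hsupp, Groth.Agent.CycLib.topologicalKrullDim_closure Y y, hhy]
    rfl
  · rw [hsupp, hc, ← f.isClosedMap.closure_image_eq_of_continuous f.continuous, Set.image_singleton]
    congr 2

end Groth.Agent.S17287
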