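import Groth.Statements.S17289
-- import your own Groth.Agent.* helpers here
import Groth.Agent.ProjBundleLib.EpiComp
import Groth.Agent.PerfTri.Betti

set_option autoImplicit false
universe u
open CategoryTheory CategoryTheory.Limits AlgebraicGeometry TopologicalSpace
open Variety

namespace Groth.Agent.S17289

/-- Suppose X is a proper scheme over a field k, and E, F are finite locally free O_X-modules with E → F
surjective. Assume E is ample, meaning that the fundamental module O(1) of the projective bundle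
P(E) = Proj(Sym E) → X is ample (for any relative-Proj data of the graded symmetric algebra of E
with its O(1)); then F is ample in the same sense. (The source states this for proper algebraic
spaces over k, together with the analogous assertion for nef modules; this is the ample assertion in
the case of schemes.) -/
theorem result (k : Type u) [Field k] (X : Scheme.{u})
    [X.Over (Spec (CommRingCat.of k))] [IsProper (X ↘ (Spec (CommRingCat.of k)))] (E F : X.Modules)
    (hE : FlatMod.IsFinLocFree E) (hF : FlatMod.IsFinLocFree F) (φ : E ⟶ F) [Epi φ]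
    (hample : ∀ (𝒮 : RelProj.QCGrAlg X) (j : E ⟶ 𝒮.toModule) (P : Scheme.{u}) (p : P ⟶ X)
        (chart : ∀ (U : X.Opens) (hU : IsAffineOpen U),
          (((p ⁻¹ᵁ U : P.Opens) : Scheme.{u}) ≅ Proj (𝒮.deg U hU)))
        (O1 : P.Modules)
        (lam : ∀ (U : X.Opens) (hU : IsAffineOpen U),
          O1 ⟶ (Scheme.Modules.pushforward (RelProj.emb p chart U hU)).obj (GrTwist.twist (𝒮.deg U hU) 1)),
        RelProj.IsGrSymAlg E 𝒮 j → RelProj.IsRelProj 𝒮 p chart → RelProj.IsRelTwist 𝒮 p chart 1 O1 lam →
        CohB1.IsAmple O1) :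
    ∀ (𝒮 : RelProj.QCGrAlg X) (j : F ⟶ 𝒮.toModule) (P : Scheme.{u}) (p : P ⟶ X)
      (chart : ∀ (U : X.Opens) (hU : IsAffineOpen U),
        (((p ⁻¹ᵁ U : P.Opens) : Scheme.{u}) ≅ Proj (𝒮.deg U hU)))
      (O1 : P.Modules)
      (lam : ∀ (U : X.Opens) (hU : IsAffineOpen U),
        O1 ⟶ (Scheme.Modules.pushforward (RelProj.emb p chart U hU)).obj (GrTwist.twist (𝒮.deg U hU) 1)),
      RelProj.IsGrSymAlg F 𝒮 j → RelProj.IsRelProj 𝒮 p chart → RelProj.IsRelTwist 𝒮 p chart 1 O1 lam →
      CohB1.IsAmple O1 := by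
  intro 𝒮 j P p chart O1 lam hj hP hO1
  have : E.IsQuasicoherent := Groth.Agent.PerfTri.Betti.isQuasicoherent_of_isFinLocFree hE
  have : F.IsQuasicoherent := Groth.Agent.PerfTri.Betti.isQuasicoherent_of_isFinLocFree hF
  open Groth.Agent in
  obtain ⟨θ, hθ⟩ := ProjBundleLib.exists_isCan hj hO1 hP
  let B : Groth.Agent.ProjBundleLib.Bundle F := ⟨𝒮, j, hj, P, p, chart, hP, O1, lam, hO1, θ, hθ⟩
  open Groth.Agent in
  obtain ⟨hv, BE, r, hcls, hr⟩ := ProjBundleLib.gens_clsImm_comp
    (fun U hU => QCoh.app_surjective_of_epi φ hU) (ProjBundleLib.gens_can hj hO1 hθ)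
    (ProjBundleLib.clsImm_can B)
  open Groth.Agent in
  obtain ⟨τ, -⟩ := ProjBundleLib.exists_compat BE.hj BE.hP BE.hO1 BE.hφ hv hcls
  have := Groth.Agent.ProjBundleLib.isProper_bundle hF B
  have : CompactSpace X := QuasiCompact.compactSpace_of_compactSpace (X ↘ Spec (CommRingCat.of k))
  have : CompactSpace P := QuasiCompact.compactSpace_of_compactSpace B.p
  exact Groth.Agent.AmpleLib.isAmple_of_iso τ
    (Groth.Agent.AmpleLib.isAmple_pullback_of_isInducing r r.isEmbedding.isInducing
      (hample _ _ _ _ _ _ _ BE.hj BE.hP BE.hO1))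

end Groth.Agent.S17289
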