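import Groth.Statements.S17292
import Groth.Agent.ProjBundleLib.BaseChange
import Groth.Agent.ProjBundleLib.EpiComp
import Groth.Agent.AmpleDesc.FibreLocus
import Groth.Agent.QCoh.Exact
import Groth.Agent.ProjTwist.Invertible
-- import your own Groth.Agent.* helpers here

set_option autoImplicit false
universe u
open CategoryTheory CategoryTheory.Limits AlgebraicGeometry TopologicalSpace
open Variety

namespace Groth.Agent.S17292

/-- Let Y be a Noetherian scheme, f : X → Y a proper morphism of schemes and E a finite locally free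
O_X-module. Then the set of points y of Y such that the restriction E_y of E to the fibre X_y is
ample — meaning that the fundamental module O(1) of the projective bundle P(E_y) = Proj(Sym E_y) →
X_y is ample, for any relative-Proj data of the graded symmetric algebra of E_y with its O(1) — is
open in Y: if E_y is ample then E_{y'} is ample for every y' in some open neighbourhood of y. (The
source allows X to be an algebraic space proper over Y; this is the case of schemes.) -/
theorem result (X Y : Scheme.{u}) [IsNoetherian Y] (f : X ⟶ Y) [IsProper f]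
    (E : X.Modules) (hE : FlatMod.IsFinLocFree E) :
    IsOpen {y : Y | ∀ (𝒮 : RelProj.QCGrAlg (f.fiber y)) (j : ((Scheme.Modules.pullback (f.fiberι y)).obj E) ⟶ 𝒮.toModule) (P : Scheme.{u}) (p : P ⟶ (f.fiber y))
        (chart : ∀ (U : (f.fiber y).Opens) (hU : IsAffineOpen U),
          (((p ⁻¹ᵁ U : P.Opens) : Scheme.{u}) ≅ Proj (𝒮.deg U hU)))
        (O1 : P.Modules)
        (lam : ∀ (U : (f.fiber y).Opens) (hU : IsAffineOpen U),
          O1 ⟶ (Scheme.Modules.pushforward (RelProj.emb p chart U hU)).obj (GrTwist.twist (𝒮.deg U hU) 1)),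
        RelProj.IsGrSymAlg ((Scheme.Modules.pullback (f.fiberι y)).obj E) 𝒮 j → RelProj.IsRelProj 𝒮 p chart → RelProj.IsRelTwist 𝒮 p chart 1 O1 lam →
        CohB1.IsAmple O1} := by
  have : E.IsQuasicoherent := by
    choose U n hx e using hE
    haveI : ∀ x, (E.restrict (U x).ι).IsQuasicoherent := fun x => by
      haveI : ∀ _ : ULift.{u} (Fin (n x)), (Coh.structureModule (U x : Scheme.{u})).IsQuasicoherent :=
        fun _ => ProjTwist.isQuasicoherent_structureModule _
      haveI : (FlatMod.freeMod (U x : Scheme.{u}) (n x)).IsQuasicoherent :=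
        QCoh.isQuasicoherent_of_iso
          (Sigma.whiskerEquiv (f := fun _ : ULift.{u} (Fin (n x)) => Coh.structureModule (U x : Scheme.{u}))
            (g := fun _ : Fin (n x) => Coh.structureModule (U x : Scheme.{u})) Equiv.ulift (fun _ => Iso.refl _))
      exact QCoh.isQuasicoherent_of_iso (e x).some.symm
    exact QCoh.isQuasicoherent_of_isOpenCover E U
      (TopologicalSpace.IsOpenCover.mk (top_le_iff.mp fun x _ => Opens.mem_iSup.mpr ⟨x, hx x⟩))
  have hEy : ∀ y : Y, ((Scheme.Modules.pullback (f.fiberι y)).obj E).IsQuasicoherent :=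
    fun y => QCoh.isQuasicoherent_pullback _ E
  obtain ⟨B⟩ := ProjBundleLib.exists_bundle E
  have : IsProper B.p := ProjBundleLib.isProper_bundle hE B
  have : IsProper (B.p ≫ f) := inferInstance
  have hL := ProjBundleLib.isInvertible_O1 B
  have key : ∀ (y : Y) (B' : ProjBundleLib.Bundle ((Scheme.Modules.pullback (f.fiberι y)).obj E)),
      AmpleDesc.AmpAt (B.p ≫ f) B.O1 y ↔ CohB1.IsAmple B'.O1 := by
    intro y B'
    obtain ⟨θ, hθ, ⟨τ⟩⟩ := ProjBundleLib.exists_baseChange B B'
    have hsq : IsPullback (f.fiberι y) (f.fiberToSpecResidueField y) f (Y.fromSpecResidueField y) :=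
      IsPullback.of_hasPullback f (Y.fromSpecResidueField y)
    have hp := hθ.paste_vert hsq
    have hq : IsPullback ((B.p ≫ f).fiberι y) ((B.p ≫ f).fiberToSpecResidueField y) (B.p ≫ f)
        (Y.fromSpecResidueField y) := IsPullback.of_hasPullback _ _
    let e := hp.isoIsPullback _ _ hq
    have he : e.hom ≫ (B.p ≫ f).fiberι y = θ := hp.isoIsPullback_hom_fst _ _ hq
    have he' : e.inv ≫ θ = (B.p ≫ f).fiberι y := by rw [← he, e.inv_hom_id_assoc]
    have : CompactSpace B'.P := e.hom.homeomorph.symm.compactSpace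
    rw [AmpleDesc.ampAt_iff_isAmple]
    constructor
    · intro h
      exact AmpleLib.isAmple_of_iso ((Scheme.Modules.pullbackComp e.hom _).app B.O1 ≪≫
        (Scheme.Modules.pullbackCongr he).app B.O1 ≪≫ τ)
        (AmpleLib.isAmple_pullback_of_isInducing e.hom e.hom.homeomorph.isInducing h)
    · intro h
      exact AmpleLib.isAmple_of_iso ((Scheme.Modules.pullback e.inv).mapIso τ.symm ≪≫
        (Scheme.Modules.pullbackComp e.inv θ).app B.O1 ≪≫ (Scheme.Modules.pullbackCongr he').app B.O1)
        (AmpleLib.isAmple_pullback_of_isInducing e.inv e.inv.homeomorph.isInducing h)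
  convert AmpleDesc.isOpen_ampAt_of_isNoetherian (B.p ≫ f) hL using 1
  ext y
  constructor
  · intro h
    obtain ⟨B'⟩ := ProjBundleLib.exists_bundle ((Scheme.Modules.pullback (f.fiberι y)).obj E)
    exact (key y B').2 (h B'.alg B'.j B'.P B'.p B'.chart B'.O1 B'.lam B'.hj B'.hP B'.hO1)
  · intro h 𝒮 j P p chart O1 lam hj hP hO1
    obtain ⟨φ, hφ⟩ := ProjBundleLib.exists_isCan hj hO1 hP
    exact (key y ⟨𝒮, j, hj, P, p, chart, hP, O1, lam, hO1, φ, hφ⟩).1 h

end Groth.Agent.S17292
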