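import Groth.Statements.S17295
import Groth.Agent.CurvLoci.ConnDim

set_option autoImplicit false
universe u
open CurvSt

namespace Groth.Agent.S17295

open CategoryTheory AlgebraicGeometry in
/-- Assume the stack of curves over the base scheme S (families with algebraic-space total space, flat,
proper, of finite presentation and of relative dimension at most 1, no marked points) is an
algebraic stack for the fppf topology. Then, inside it, the families whose geometric fibres
(realised as schemes over an algebraically closed field) are reduced, connected and of Krull
dimension exactly 1 form an open substack for the fppf topology; moreover this substack has an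
object over every algebraically closed field point of S. (The source works over the integers; the
statement over S is its form over a base.) -/
theorem result (S : Scheme.{u})
    (hC : AlgSt.IsAlgStack Scheme.fppfPrecoverage (CurvSt.Curves S 0)) :
    AlgSt.IsOpenSubstack (CurvSt.Curves S 0) (fun A => CurvSt.GeomFib (fun _ _ _ X' _ _ =>
            IsReduced X' ∧ ConnectedSpace ↥X' ∧ topologicalKrullDim ↥X' = 1) A.obj) Scheme.fppfPrecoverage ∧
      ∀ (Ω : Type u) [Field Ω] [IsAlgClosed Ω] (t : Spec (CommRingCat.of Ω) ⟶ S),
        Nonempty ((AlgSt.fullSub (CurvSt.Curves S 0) (fun A => CurvSt.GeomFib (fun _ _ _ X' _ _ =>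
            IsReduced X' ∧ ConnectedSpace ↥X' ∧ topologicalKrullDim ↥X' = 1) A.obj)).p.Fiber (Over.mk t)) := ⟨Groth.Agent.CurvLoci.isOpenSubstack_redConnDimOne hC,
    fun Ω _ _ t => Groth.Agent.CurvLoci.nonempty_fiber_redConnDimOne t⟩


end Groth.Agent.S17295
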