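import Groth.Statements.S17307
import Groth.Agent.StFieldLib.Charts

set_option autoImplicit false
universe u
open CurvSt

namespace Groth.Agent.S17307

open CategoryTheory AlgebraicGeometry in
/-- Let X be a proper scheme of dimension at most 1 over a field k, and Spec k → S a point of the base.
The classifying object of X in the stack of curves over S lies in the Gorenstein open substack — by
definition: the morphism of sheaves h_X → h_{Spec k} induced by X → Spec k is, in every etale chart
diagram, at every point flat with Gorenstein fibre local ring — if and only if X is Gorenstein, i.e.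
all local rings of X are Gorenstein local rings. -/
theorem result (S : Scheme.{u}) (k : Type u) [Field k] (t : Spec (CommRingCat.of k) ⟶ S)
    (X : Scheme.{u}) (p : X ⟶ Spec (CommRingCat.of k)) [IsProper p] (hdim : topologicalKrullDim ↥X ≤ 1) :
    AlgSp.LocP (fun _ _ g => ∀ x, (g.stalkMap x).hom.Flat ∧
        LocCoh.IsGorensteinLocalRing ((g.fiber (g x)).presheaf.stalk (g.asFiber x))) ((AlgSp.yon S).map (Over.homMk p rfl : Over.mk (p ≫ t) ⟶ Over.mk t)) ↔
      ∀ x : ↥X, LocCoh.IsGorensteinLocalRing (X.presheaf.stalk x) := by
  constructor
  · intro h x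
    exact Groth.Agent.StFieldLib.of_fibre (p := p) (fun R _ => LocCoh.IsGorensteinLocalRing R)
      (fun hφ => hφ.gor_iff.1) x (AlgSp.locP_yon_map h x).2
  · intro hX U V a b g ha hb w u
    obtain ⟨a₀, -, hae⟩ := Groth.Agent.StFieldLib.exists_of_repWith_etale a ha
    obtain ⟨b₀, -, hbe⟩ := Groth.Agent.StFieldLib.exists_of_repWith_etale b hb
    exact Groth.Agent.StFieldLib.flat_and_fibre (p := p) a₀.left b₀.left g.left
      (fun R _ => LocCoh.IsGorensteinLocalRing R) (fun hφ => hφ.gor_iff.2) hX u

end Groth.Agent.S17307
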