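import Groth.Statements.S17310
import Groth.Agent.StFieldLib.Basic
import Groth.Agent.FBase.BC
import Groth.Agent.S4642

set_option autoImplicit false
universe u
open CurvSt

namespace Groth.Agent.S17310

open CategoryTheory AlgebraicGeometry in
/-- Let X be a proper scheme of dimension at most 1 over a field k with structure morphism p, and Spec k
→ S a point of the base. The classifying object of X in the stack of curves over S lies in the open
substack of curves with geometrically reduced, connected fibres of dimension 1 — by definition:
every geometric fibre of h_X → h_{Spec k}, realised as a scheme over an algebraically closed field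
through a cartesian square of sheaves, is reduced, connected and of Krull dimension 1 — if and only
if X is geometrically reduced and geometrically connected over k and has Krull dimension 1. -/
theorem result (S : Scheme.{u}) (k : Type u) [Field k] (t : Spec (CommRingCat.of k) ⟶ S)
    (X : Scheme.{u}) (p : X ⟶ Spec (CommRingCat.of k)) [IsProper p] (hdim : topologicalKrullDim ↥X ≤ 1) :
    CurvSt.GeomFib (fun _ _ _ X' _ _ => IsReduced X' ∧ ConnectedSpace ↥X' ∧ topologicalKrullDim ↥X' = 1) ((CurvSt.toSpFam S 0).obj ⟨Over.mk t, X, p, Fin.elim0, fun i => i.elim0⟩) ↔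
      GeometricallyReduced p ∧ GeometricallyConnected p ∧ topologicalKrullDim ↥X = 1 := by
  refine (Groth.Agent.StFieldLib.geomFib_iff S t p
    fun _ _ _ X' _ => IsReduced X' ∧ ConnectedSpace ↥X' ∧ topologicalKrullDim ↥X' = 1).trans
    ⟨fun h => ?_, ?_⟩
  · obtain ⟨hred, hconn, hd⟩ := h (AlgebraicClosure k)
      (Groth.Agent.FBase.BC.specMap k (AlgebraicClosure k)) _ _ _ (IsPullback.of_hasPullback p _)
    refine ⟨(Groth.Agent.FBase.BC.geometricallyReduced_iff (K := AlgebraicClosure k) p).mpr
        (Groth.Agent.FBase.BC.geometricallyReduced_of_isReduced_of_perfectField _),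
      (Groth.Agent.FBase.BC.geometricallyConnected_iff (K := AlgebraicClosure k) p).mpr
        (Groth.Agent.FBase.BC.geometricallyConnected_of_isSepClosed _), ?_⟩
    exact (Groth.Agent.S4642.result (K := AlgebraicClosure k) p).symm.trans hd
  · rintro ⟨hr, hc, hd⟩ Ω _ _ s X' q i₀ hsq
    refine ⟨hr.1 _ _ _ hsq, hc.1 _ _ _ hsq, ?_⟩
    let : Algebra k Ω := (Spec.preimage s).hom.toAlgebra
    have hs : Groth.Agent.FBase.BC.specMap k Ω = s := Spec.map_preimage s
    have hsq' : IsPullback i₀ q p (Groth.Agent.FBase.BC.specMap k Ω) := by rw [hs]; exact hsq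
    rw [← hd, ← Groth.Agent.S4642.result (K := Ω) p]
    exact IsHomeomorph.topologicalKrullDim_eq _
      hsq'.isoPullback.hom.homeomorph.isHomeomorph

end Groth.Agent.S17310
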