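import Groth.Statements.S17311
import Groth.Agent.StFieldLib.Basic
import Groth.Agent.FBase.BC
import Groth.Agent.EtStruct.BaseChangeDescentScheme
import Mathlib.AlgebraicGeometry.Morphisms.QuasiFinite
import Mathlib.AlgebraicGeometry.Morphisms.Smooth

set_option autoImplicit false
universe u
open CurvSt

namespace Groth.Agent.S17311

open CategoryTheory AlgebraicGeometry in
/-- Let X be a proper scheme of dimension at most 1 over a field k with structure morphism p, and Spec k
→ S a point of the base. The classifying object of X in the stack of curves over S lies in the open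
substack of curves with isolated singularities — by definition: every geometric fibre of h_X →
h_{Spec k}, realised as a scheme over an algebraically closed field Ω through a cartesian square of
sheaves, is smooth over Ω outside a finite set of points — if and only if p : X → Spec k is smooth
outside a finite set of points of X. -/
theorem result (S : Scheme.{u}) (k : Type u) [Field k] (t : Spec (CommRingCat.of k) ⟶ S)
    (X : Scheme.{u}) (p : X ⟶ Spec (CommRingCat.of k)) [IsProper p] (hdim : topologicalKrullDim ↥X ≤ 1) :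
    CurvSt.GeomFib (fun _ _ _ X' q _ => Set.Finite {x : ↥X' | ¬ ∃ U : X'.Opens, x ∈ U ∧ Smooth (U.ι ≫ q)}) ((CurvSt.toSpFam S 0).obj ⟨Over.mk t, X, p, Fin.elim0, fun i => i.elim0⟩) ↔
      Set.Finite {x : ↥X | ¬ ∃ U : X.Opens, x ∈ U ∧ Smooth (U.ι ≫ p)} := by
  refine (Groth.Agent.StFieldLib.geomFib_iff S t p
    fun _ _ _ X' q => Set.Finite {x : ↥X' | ¬ ∃ U : X'.Opens, x ∈ U ∧ Smooth (U.ι ≫ q)}).trans ?_
  have pre : ∀ (Ω : Type u) [Field Ω] (s : Spec (CommRingCat.of Ω) ⟶ Spec (CommRingCat.of k))
      (X' : Scheme.{u}) (q : X' ⟶ Spec (CommRingCat.of Ω)) (i₀ : X' ⟶ X), IsPullback i₀ q p s →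
      {x : ↥X' | ¬ ∃ U : X'.Opens, x ∈ U ∧ Smooth (U.ι ≫ q)} =
        i₀ ⁻¹' {x : ↥X | ¬ ∃ U : X.Opens, x ∈ U ∧ Smooth (U.ι ≫ p)} := by
    intro Ω _ s X' q i₀ hsq
    ext x'
    refine not_congr ⟨fun h => ?_, ?_⟩
    · have hfl : Flat s := by
        let : Algebra k Ω := (Spec.preimage s).hom.toAlgebra
        rw [show s = Groth.Agent.FBase.BC.specMap k Ω from (Spec.map_preimage s).symm]
        infer_instance
      exact Groth.Agent.EtStruct.smooth_nhd_of_baseChange hsq x' (Flat.stalkMap s _) h
    · rintro ⟨U, hU, hsm⟩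
      exact ⟨i₀ ⁻¹ᵁ U, hU, MorphismProperty.of_isPullback
        ((isPullback_morphismRestrict i₀ U).flip.paste_horiz hsq.flip).flip hsm⟩
  constructor
  · intro h
    have sq := IsPullback.of_hasPullback p (Groth.Agent.FBase.BC.specMap k (AlgebraicClosure k))
    have hf := h (AlgebraicClosure k) _ _ _ _ sq
    rw [pre _ _ _ _ _ sq] at hf
    have := Groth.Agent.FBase.BC.surjective_pullback_fst (K := AlgebraicClosure k) p
    exact (hf.image _).subset (Set.image_preimage_eq _ (Scheme.Hom.surjective _)).ge
  · intro h Ω _ _ s X' q i₀ hsq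
    rw [pre Ω s X' q i₀ hsq]
    refine h.preimage' fun x hx => ?_
    have hZ : IsClosed {x : ↥X | ¬ ∃ U : X.Opens, x ∈ U ∧ Smooth (U.ι ≫ p)} := by
      refine ⟨isOpen_iff_forall_mem_open.2 fun y hy => ?_⟩
      simp only [Set.mem_compl_iff, Set.mem_ofPred_eq, not_not] at hy
      obtain ⟨U, hyU, hsm⟩ := hy
      exact ⟨U, fun z hz => by simp only [Set.mem_compl_iff, Set.mem_ofPred_eq, not_not]; exact ⟨U, hz, hsm⟩,
        U.isOpen, hyU⟩
    have : JacobsonSpace ↥X := LocallyOfFiniteType.jacobsonSpace p
    have hxc : IsClosed ({x} : Set ↥X) := by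
      have e := closure_inter_closedPoints hZ
      have hfin : IsClosed ({x : ↥X | ¬ ∃ U : X.Opens, x ∈ U ∧ Smooth (U.ι ≫ p)} ∩ closedPoints ↥X) := by
        rw [← Set.biUnion_of_singleton
          ({x : ↥X | ¬ ∃ U : X.Opens, x ∈ U ∧ Smooth (U.ι ≫ p)} ∩ closedPoints ↥X)]
        exact (h.inter_of_left _).isClosed_biUnion fun y hy => hy.2
      rw [hfin.closure_eq] at e
      exact (e.ge hx).2
    have := isClosed_singleton_iff_isClosedImmersion.1 hxc
    have : IsFinite (X.fromSpecResidueField x ≫ p) :=
      isFinite_iff_locallyOfFiniteType_of_jacobsonSpace.2 inferInstance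
    let g := Limits.pullback.fst i₀ (X.fromSpecResidueField x)
    have sq2 := ((IsPullback.of_hasPullback i₀ (X.fromSpecResidueField x)).flip.paste_vert
      hsq.flip.flip)
    have : IsFinite (g ≫ q) := MorphismProperty.of_isPullback sq2 ‹IsFinite (X.fromSpecResidueField x ≫ p)›
    have : Finite ↥(Limits.pullback i₀ (X.fromSpecResidueField x)) := by
      have hall := (g ≫ q).finite_preimage_singleton (IsLocalRing.closedPoint Ω)
      refine Set.finite_univ_iff.1 (hall.subset fun z _ => ?_)
      exact Subsingleton.elim (α := PrimeSpectrum Ω) _ _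
    rw [← Scheme.range_fromSpecResidueField (X := X) x, ← Scheme.Pullback.range_fst]
    exact Set.finite_range _

end Groth.Agent.S17311
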