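import Groth.Statements.S17313
import Groth.Agent.StModLib.TermPair
import Groth.Agent.S4407

set_option autoImplicit false
set_option backward.isDefEq.respectTransparency false
set_option backward.isDefEq.respectTransparency.types false
universe u
open CategoryTheory CategoryTheory.Limits AlgebraicGeometry
open ResProp

namespace Groth.Agent.S17313

open Opposite StMod

/-- A morphism out of the structure sheaf is determined by the image of `1`. -/
theorem hom_ext_one {X : Scheme.{u}} {M : X.Modules} {f g : Coh.structureModule X ⟶ M}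
    (h : f.app ⊤ (1 : Γ(X, ⊤)) = g.app ⊤ (1 : Γ(X, ⊤))) : f = g := by
  apply (SheafOfModules.unitHomEquiv (R := X.ringCatSheaf) M).injective
  refine Subtype.ext (funext fun U => ?_)
  have key : ∀ s : M.val.sections, s.val U = M.val.map (homOfLE le_top : U.unop ⟶ ⊤).op (s.val (op ⊤)) :=
    fun s => (s.property _).symm
  refine (key _).trans (Eq.trans ?_ (key _).symm)
  exact congrArg _ h

theorem exists_hom_one {X : Scheme.{u}} (M : X.Modules) (s : Γ(M, ⊤)) :
    ∃ a : Coh.structureModule X ⟶ M, a.app ⊤ (1 : Γ(X, ⊤)) = s := by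
  refine ⟨(SheafOfModules.unitHomEquiv (R := X.ringCatSheaf) M).symm
    ⟨fun U => M.val.map (homOfLE le_top : U.unop ⟶ ⊤).op s, fun {U V} f =>
      (PresheafOfModules.map_comp_apply M.val (homOfLE le_top : U.unop ⟶ ⊤).op f s).symm⟩, ?_⟩
  refine (congrArg (fun t : M.val.sections => t.val (op ⊤))
    ((SheafOfModules.unitHomEquiv (R := X.ringCatSheaf) M).apply_symm_apply _)).trans ?_
  show M.val.presheaf.map _ s = s
  rw [Subsingleton.elim (homOfLE le_top : (op (⊤ : X.Opens)).unop ⟶ ⊤) (𝟙 _), op_id,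
    CategoryTheory.Functor.map_id]
  rfl

/-- On a quasi-affine scheme a morphism from a quasi-coherent module killing the global sections is
zero. -/
theorem eq_zero_of_quasiAffine {X : Scheme.{u}} (hX : X.IsQuasiAffine) {M N : X.Modules}
    (hM : Coh.IsQCoh M) (a : M ⟶ N) (h : ∀ s : Γ(M, ⊤), a.app ⊤ s = 0) : a = 0 := by
  obtain ⟨ι, p, hp⟩ := Groth.Agent.S4407.result X M hM
  rw [← cancel_epi p, comp_zero]
  refine freeMod_hom_ext fun i => hom_ext_one ?_
  rw [comp_zero]
  exact h _

/-- Let `f : 𝒳 → 𝒴` be a quasi-compact and quasi-separated morphism of algebraic stacks over a scheme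
`S` (fppf topology; diagonals representable, separated and quasi-compact, the text's standing
convention) that is representable by algebraic spaces and quasi-affine. Then the structure sheaf of
`𝒳` is a generating family relative to `f`: for every object of `𝒴` whose scheme is affine, a
morphism of quasi-coherent modules on the category of `𝒳` over that object which kills every
morphism from the structure sheaf is zero. (Quasi-compactness and quasi-separatedness of `f`, the
text's standing hypothesis for relative generating families, already follow from `f` being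
quasi-affine; they are carried here as explicit hypotheses.) -/
theorem result (S : Scheme.{u}) (𝒳 𝒴 : AlgSt.Cat S)
    (h𝒳 : AlgSt.IsAlgStack Scheme.fppfPrecoverage 𝒳) (h𝒴 : AlgSt.IsAlgStack Scheme.fppfPrecoverage 𝒴)
    (hΔ𝒳 : AlgSt.RepByAlgSpWith (AlgSp.IsSeparatedMor ⊓ AlgSp.IsQuasiCompactMor) (FibCat.diag (FibCat.toSelf 𝒳)))
    (hΔ𝒴 : AlgSt.RepByAlgSpWith (AlgSp.IsSeparatedMor ⊓ AlgSp.IsQuasiCompactMor) (FibCat.diag (FibCat.toSelf 𝒴)))
    (f : 𝒳 ⥤ᵇ 𝒴) (hfqc : AlgSt.IsQuasiCompactMor Scheme.fppfPrecoverage f) (hfqs : AlgSt.IsQuasiSeparatedMor f)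
    (hf : AlgSt.RepByAlgSpWith AlgSp.IsQuasiAffineMor f) :
    StMod.IsRelGenFam f (fun _ : PUnit.{u + 1} => StMod.OQ 𝒳) := by
  intro η hη
  obtain ⟨w, α, hw, huniq⟩ := Groth.Agent.StModLib.exists_terminal_pair (fun X => X.IsQuasiAffine)
    Groth.Agent.StModLib.exists_quasiAffine_of_isQuasiAffineMor h𝒴.isStack.1 f hf η hη
  let x₀ : (fibCat f η).obj := CostructuredArrow.mk (Y := w) α
  have huniq' : ∀ x : (fibCat f η).obj, Nonempty (Unique (x ⟶ x₀)) := fun x => by
    obtain ⟨φ, hφ, hu⟩ := huniq x.left x.hom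
    exact ⟨⟨⟨CostructuredArrow.homMk φ hφ⟩,
      fun g => CostructuredArrow.hom_ext _ _ (hu g.left (CostructuredArrow.w g))⟩⟩
  have hu : ∀ x, Unique (x ⟶ x₀) := fun x => Classical.choice (huniq' x)
  refine (isGenFam_iff _).2 ?_
  intro M N u h
  have h0 : u.hom.app x₀ = 0 := eq_zero_of_quasiAffine hw (M.property.2 x₀) _ fun s => by
    choose a ha using fun x => exists_hom_one (M.obj.obj x) (M.obj.mapTop (hu x).default s)
    let e : StMod.O (fibCat f η) ⟶ M.obj :=
      ⟨a, fun {x' x} ψ g hg => hom_ext_one (by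
        simp only [Scheme.Modules.Hom.comp_app, Scheme.Modules.pushforward_map_app]
        show (a x').app ⊤ (g.app ⊤ (1 : Γ(sch _ x, ⊤))) = (M.obj.map ψ hg).app ⊤ ((a x).app ⊤ (1 : Γ(sch _ x, ⊤)))
        rw [map_one]
        erw [ha x', ha x]
        rw [← (hu x').uniq (ψ ≫ (hu x).default)]
        erw [StMod.Mod.mapTop_comp, StMod.Mod.mapTop_eq _ ψ hg])⟩
    have h1 := h PUnit.unit ((comapOIso (fibFst f η)).hom ≫ e)
    rw [Category.assoc, ← comp_zero (f := (comapOIso (fibFst f η)).hom), cancel_epi] at h1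
    have h2 := congrArg (fun v => (v.app x₀).app ⊤ (1 : Γ(sch _ x₀, ⊤))) h1
    refine Eq.trans ?_ h2
    show (u.hom.app x₀).app ⊤ s = (u.hom.app x₀).app ⊤ ((a x₀).app ⊤ (1 : Γ(sch _ x₀, ⊤)))
    rw [ha x₀, ← (hu x₀).uniq (𝟙 x₀), StMod.Mod.mapTop_id]
  refine ObjectProperty.hom_ext _ (StMod.Mod.hom_ext fun x => ?_)
  have hc := u.hom.comm (hu x).default (g := bmap _ (hu x).default) rfl
  rw [h0, zero_comp] at hc
  have hiso := M.property.1 (hu x).default rfl
  have h3 := ((Scheme.Modules.pullbackPushforwardAdjunction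
    (bmap _ (hu x).default)).homEquiv_naturality_right_symm (M.obj.map (hu x).default rfl) (u.hom.app x)).symm
  rw [hc] at h3
  change u.hom.app x = 0
  rw [← cancel_epi (((Scheme.Modules.pullbackPushforwardAdjunction
    (bmap _ (hu x).default)).homEquiv _ _).symm (M.obj.map (hu x).default rfl)), h3]
  simp [Adjunction.homEquiv_counit]

end Groth.Agent.S17313
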