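import Groth.Statements.S17314
import Groth.Agent.StGen.Local
import Groth.Agent.StGen.Transfer2
import Groth.Agent.StFib.Compact

set_option autoImplicit false
universe u
open CategoryTheory CategoryTheory.Limits AlgebraicGeometry
open ResProp

namespace Groth.Agent.S17314

/-- Let `f : 𝒳 → 𝒴` be a quasi-compact and quasi-separated morphism of algebraic stacks over a scheme
`S` (fppf topology; diagonals representable, separated and quasi-compact, the text's standing
convention), `E` a family of quasi-coherent modules of finite presentation on `𝒳`, and `u a : 𝒴' a →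
𝒴` a family of flat morphisms of algebraic stacks which is jointly surjective on points. Suppose
that for every `a` the family `E` pulled back to the fibre product `𝒳 ×_𝒴 𝒴' a` is generating
relative to the projection to `𝒴' a` (over every object of `𝒴' a` with affine scheme, a morphism of
quasi-coherent modules killed by every morphism from a member is zero). Then `E` is generating
relative to `f`. (The published statement is over an auxiliary base stack with the flat family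
pulled back from it, and also covers weakly generating families; here the base stack is the target
`𝒴` itself and only generating families in the strong sense are treated.) -/
theorem result (S : Scheme.{u}) (𝒳 𝒴 : AlgSt.Cat S)
    (h𝒳 : AlgSt.IsAlgStack Scheme.fppfPrecoverage 𝒳) (h𝒴 : AlgSt.IsAlgStack Scheme.fppfPrecoverage 𝒴)
    (hΔ𝒳 : AlgSt.RepByAlgSpWith (AlgSp.IsSeparatedMor ⊓ AlgSp.IsQuasiCompactMor) (FibCat.diag (FibCat.toSelf 𝒳)))
    (hΔ𝒴 : AlgSt.RepByAlgSpWith (AlgSp.IsSeparatedMor ⊓ AlgSp.IsQuasiCompactMor) (FibCat.diag (FibCat.toSelf 𝒴)))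
    (f : 𝒳 ⥤ᵇ 𝒴) (hfqc : AlgSt.IsQuasiCompactMor Scheme.fppfPrecoverage f) (hfqs : AlgSt.IsQuasiSeparatedMor f)
    {ι : Type u} (E : ι → StMod.QCoh 𝒳) (hE : ∀ i, (E i).obj.IsFinPres)
    {A : Type u} (𝒴' : A → AlgSt.Cat S) (h𝒴' : ∀ a, AlgSt.IsAlgStack Scheme.fppfPrecoverage (𝒴' a))
    (hΔ' : ∀ a, AlgSt.RepByAlgSpWith (AlgSp.IsSeparatedMor ⊓ AlgSp.IsQuasiCompactMor)
      (FibCat.diag (FibCat.toSelf (𝒴' a))))
    (u : ∀ a, 𝒴' a ⥤ᵇ 𝒴) (hfl : ∀ a, AlgSt.LocQ (AlgSp.LocP @Flat) (u a))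
    (hsurj : ∀ p : AlgSt.Points 𝒴, ∃ (a : A) (q : AlgSt.Points (𝒴' a)), AlgSt.Points.map (u a) q = p)
    (hgen : ∀ a, StMod.IsRelGenFam (FibCat.fpSnd f (u a))
      (fun i => (StMod.comapQ (FibCat.fpFst f (u a))).obj (E i))) :
    StMod.IsRelGenFam f E := by
  intro η hη
  have := hη
  choose U V x y h α hx hxs hy hh using hfl
  let T : (Σ a, (U a).left.affineOpens) → Over S := fun i =>
    Over.mk (Scheme.Opens.ι i.2.1 ≫ (U i.1).hom)
  let j : ∀ i, T i ⟶ U i.1 := fun i => Over.homMk (Scheme.Opens.ι i.2.1) rfl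
  let z : ∀ i, FibCat.overCat (T i) ⥤ᵇ 𝒴' i.1 := fun i => BasedFunctor.comp (AlgSt.overMap (j i)) (x i.1)
  let y' : ∀ i, FibCat.overCat (T i) ⥤ᵇ 𝒴 := fun i => BasedFunctor.comp (z i) (u i.1)
  have hT : ∀ i, IsAffine (T i).left := fun i => i.2.2
  have hflat : ∀ i, AlgSt.RepByAlgSpWith (AlgSp.LocP @Flat) (y' i) := fun i => by
    have hQ := Groth.Agent.StFib.good_locP (S := S) Groth.Agent.AlgSpCov.standard_flat
    haveI : Flat (h i.1).left := AlgSp.locP_yon_map (hh i.1)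
    haveI : Flat (j i).left := inferInstanceAs (Flat (Scheme.Opens.ι i.2.1))
    refine Groth.Agent.StFib.repByAlgSpWith_of_iso _
      (Groth.Agent.StFib.isoWhiskerLeft (AlgSt.overMap (j i)) (α i.1).symm) ?_
    exact Groth.Agent.StFib.repByAlgSpWith_comp hQ.bc hQ.comp hQ.det
      (Groth.Agent.StFib.isFibGrpd_overCat _) (Groth.Agent.StFib.isFibGrpd_overCat _)
      (Groth.Agent.StFib.repByAlgSpWith_overMap_locP Groth.Agent.AlgSpCov.standard_flat (j i) inferInstance)
      (g := BasedFunctor.comp (AlgSt.overMap (h i.1)) (y i.1)) (Groth.Agent.StFib.repByAlgSpWith_comp hQ.bc hQ.comp hQ.det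
        (Groth.Agent.StFib.isFibGrpd_overCat _) (Groth.Agent.StFib.isFibGrpd_overCat _)
        (Groth.Agent.StFib.repByAlgSpWith_overMap_locP Groth.Agent.AlgSpCov.standard_flat (h i.1) inferInstance)
        (Groth.Agent.StFib.repByAlgSpWith_flat_of_smooth (hy i.1)))
  have hcov : ∀ p : AlgSt.Points 𝒴, ∃ i t, AlgSt.Points.ofChart (y' i) t = p := fun p => by
    obtain ⟨a, q, rfl⟩ := hsurj p
    obtain ⟨t, rfl⟩ := Groth.Agent.StFib.ofChart_surjective (h𝒴' a).isStack.1 (hxs a) q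
    obtain ⟨_, ⟨W, hW, rfl⟩, hw, -⟩ := (U a).left.isBasis_affineOpens.exists_subset_of_mem_open
      (show t ∈ ((⊤ : (U a).left.Opens) : Set _) from trivial) isOpen_univ
    refine ⟨⟨a, W, hW⟩, (⟨t, hw⟩ : W), ?_⟩
    rw [Groth.Agent.StFib.map_ofChart]
    exact Groth.Agent.StFib.ofChart_overMap (BasedFunctor.comp (x a) (u a)) (j ⟨a, W, hW⟩) ⟨t, hw⟩
  refine Groth.Agent.StGen.isGenFam_of_local h𝒳 h𝒴 f hfqc hfqs E hE η fun t => ?_
  obtain ⟨i, η', ψ, r, hψ, ht, ha⟩ := Groth.Agent.StGen.exists_flat_lift h𝒴 T y' hflat hcov η t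
  let ζ : (𝒴' i.1).obj := (z i).obj (Over.mk (𝟙 (T i)))
  have e : StMod.sch (𝒴' i.1) ζ = (T i).left := congrArg Comma.left ((z i).w_obj _)
  have hζ : IsAffine (StMod.sch (𝒴' i.1) ζ) := e ▸ hT i
  have haa : IsAffine (StMod.sch 𝒴 ((u i.1).obj ζ)) := (StMod.sch_obj_eq (u i.1) ζ).symm ▸ hζ
  exact ⟨η', _, ψ, r, hψ, ht, ha, haa, Groth.Agent.StGen.isGenFam_fibCat_of_fpSnd h𝒳.isStack.1
    (h𝒴' i.1).isStack.1 h𝒴.isStack.1 E (hgen i.1 ζ hζ)⟩

end Groth.Agent.S17314
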