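import Groth.Statements.S17316
import Groth.Agent.StPush.Adj
import Groth.Agent.StPush.Comp
import Groth.Agent.StPush.PresExist

set_option autoImplicit false
set_option linter.style.haveILetI false
set_option backward.isDefEq.respectTransparency false
set_option backward.isDefEq.respectTransparency.types false
universe u
open CategoryTheory CategoryTheory.Limits AlgebraicGeometry
open ResProp

namespace Groth.Agent.S17316

open Groth.Agent.StGen Groth.Agent.StDesc Groth.Agent.StPush

theorem isGenFam_iso {S : Scheme.{u}} {𝒳 : AlgSt.Cat S} {ι : Type*} {E E' : ι → StMod.QCoh 𝒳}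
    (e : ∀ i, (E i).obj ≅ (E' i).obj) (h : StMod.IsGenFam E) : StMod.IsGenFam E' := by
  rw [StMod.isGenFam_iff] at h ⊢
  intro M N v hv
  refine h v fun i φ => ?_
  rw [← cancel_epi (e i).inv, comp_zero, ← Category.assoc]
  exact hv i ((e i).inv ≫ φ)

/-- Let `f : 𝒳 → 𝒴` and `g : 𝒴 → 𝒵` be quasi-compact and quasi-separated morphisms of algebraic stacks
over a scheme `S` (fppf topology; diagonals representable, separated and quasi-compact, the text's
standing convention), and `F` a family of quasi-coherent modules of finite presentation on `𝒴`. If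
the structure sheaf of `𝒳` is generating relative to `f` and `F` is generating relative to `g`, then
the family of inverse images `f^* F j` is generating relative to the composite `g ∘ f`. (The
published statement takes two families `E` on `𝒳` and `F` on `𝒴` and concludes for the family of
tensor products `E i ⊗ f^* F j`, for a composite given up to 2-isomorphism; this is the case where
the family on `𝒳` is the structure sheaf alone, so that the tensor products are the inverse images,
and the composite is the strict one.) -/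
theorem result (S : Scheme.{u}) (𝒳 𝒴 𝒵 : AlgSt.Cat S)
    (h𝒳 : AlgSt.IsAlgStack Scheme.fppfPrecoverage 𝒳) (h𝒴 : AlgSt.IsAlgStack Scheme.fppfPrecoverage 𝒴) (h𝒵 : AlgSt.IsAlgStack Scheme.fppfPrecoverage 𝒵)
    (hΔ𝒳 : AlgSt.RepByAlgSpWith (AlgSp.IsSeparatedMor ⊓ AlgSp.IsQuasiCompactMor) (FibCat.diag (FibCat.toSelf 𝒳)))
    (hΔ𝒴 : AlgSt.RepByAlgSpWith (AlgSp.IsSeparatedMor ⊓ AlgSp.IsQuasiCompactMor) (FibCat.diag (FibCat.toSelf 𝒴)))
    (hΔ𝒵 : AlgSt.RepByAlgSpWith (AlgSp.IsSeparatedMor ⊓ AlgSp.IsQuasiCompactMor) (FibCat.diag (FibCat.toSelf 𝒵)))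
    (f : 𝒳 ⥤ᵇ 𝒴) (hfqc : AlgSt.IsQuasiCompactMor Scheme.fppfPrecoverage f) (hfqs : AlgSt.IsQuasiSeparatedMor f)
    (g : 𝒴 ⥤ᵇ 𝒵) (hgqc : AlgSt.IsQuasiCompactMor Scheme.fppfPrecoverage g) (hgqs : AlgSt.IsQuasiSeparatedMor g)
    {ι : Type u} (F : ι → StMod.QCoh 𝒴) (hF : ∀ j, (F j).obj.IsFinPres)
    (hO : StMod.IsRelGenFam f (fun _ : PUnit.{u + 1} => StMod.OQ 𝒳)) (hF' : StMod.IsRelGenFam g F) :
    StMod.IsRelGenFam (BasedFunctor.comp f g) (fun j => (StMod.comapQ f).obj (F j)) := by
  intro η hη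
  obtain ⟨R⟩ := exists_pres h𝒴 h𝒵 g hgqc hgqs η hη
  have hy : IsAffine (StMod.sch 𝒴 R.x₀.left) := R.aff₀
  obtain ⟨C⟩ := exists_finCover h𝒳 h𝒴 f hfqc hfqs R.x₀.left hy
  obtain ⟨C₀⟩ := finCover_compPi (g := g) (ξ := η) (y := R.x₀) C
  have hfib := h𝒳.isStack.1
  have hO' : StMod.IsGenFam fun _ : PUnit.{u + 1} => StMod.OQ (StMod.fibCat (compPi f g η) R.x₀) :=
    isGenFam_iso (fun _ => ((StMod.comapFunctor _).mapIso (StMod.comapOIso (StMod.fibFst (BasedFunctor.comp f g) η))) ≪≫
      StMod.comapOIso (StMod.fibFst (compPi f g η) R.x₀))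
      (isGenFam_compPi (g := g) (ξ := η) (y := R.x₀) hfib (fun _ : PUnit.{u + 1} => StMod.OQ 𝒳)
        (hO R.x₀.left hy))
  have h := isGenFam_comap_of_O (π := compPi f g η) (isFibGrpd_fibCat (BasedFunctor.comp f g) hfib η)
    (isFibGrpd_fibCat g h𝒴.isStack.1 η) R C₀ _ hO' (hF' η hη)
  refine isGenFam_iso (fun j => ?_) h
  exact (StMod.comapCompIso (StMod.fibFst g η) (compPi f g η) (F j).obj).symm ≪≫
    eqToIso (congrArg (fun G => StMod.Mod.comap G (F j).obj)
      (show BasedFunctor.comp (compPi f g η) (StMod.fibFst g η) =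
        BasedFunctor.comp (StMod.fibFst (BasedFunctor.comp f g) η) f from rfl)) ≪≫
    StMod.comapCompIso f (StMod.fibFst (BasedFunctor.comp f g) η) (F j).obj

end Groth.Agent.S17316
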