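import Groth.Statements.S17317
import Groth.Agent.StPush.Comp

set_option autoImplicit false
universe u
open CategoryTheory CategoryTheory.Limits AlgebraicGeometry
open ResProp

namespace Groth.Agent.S17317

/-- Let `f : 𝒳 → 𝒴` and `g : 𝒴 → 𝒵` be quasi-compact and quasi-separated morphisms of algebraic stacks
over a scheme `S` (fppf topology; diagonals representable, separated and quasi-compact, the text's
standing convention), and `E` a family of quasi-coherent modules of finite presentation on `𝒳`. If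
`E` is generating relative to `f` and the structure sheaf of `𝒴` is generating relative to `g`, then
`E` is generating relative to the composite `g ∘ f`. (The published statement takes two families `E`
on `𝒳` and `F` on `𝒴` and concludes for the family of tensor products `E i ⊗ f^* F j`, for a
composite given up to 2-isomorphism; this is the case where the family on `𝒴` is the structure sheaf
alone, so that the tensor products are the `E i` themselves, and the composite is the strict one.) -/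
theorem result (S : Scheme.{u}) (𝒳 𝒴 𝒵 : AlgSt.Cat S)
    (h𝒳 : AlgSt.IsAlgStack Scheme.fppfPrecoverage 𝒳) (h𝒴 : AlgSt.IsAlgStack Scheme.fppfPrecoverage 𝒴) (h𝒵 : AlgSt.IsAlgStack Scheme.fppfPrecoverage 𝒵)
    (hΔ𝒳 : AlgSt.RepByAlgSpWith (AlgSp.IsSeparatedMor ⊓ AlgSp.IsQuasiCompactMor) (FibCat.diag (FibCat.toSelf 𝒳)))
    (hΔ𝒴 : AlgSt.RepByAlgSpWith (AlgSp.IsSeparatedMor ⊓ AlgSp.IsQuasiCompactMor) (FibCat.diag (FibCat.toSelf 𝒴)))
    (hΔ𝒵 : AlgSt.RepByAlgSpWith (AlgSp.IsSeparatedMor ⊓ AlgSp.IsQuasiCompactMor) (FibCat.diag (FibCat.toSelf 𝒵)))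
    (f : 𝒳 ⥤ᵇ 𝒴) (hfqc : AlgSt.IsQuasiCompactMor Scheme.fppfPrecoverage f) (hfqs : AlgSt.IsQuasiSeparatedMor f)
    (g : 𝒴 ⥤ᵇ 𝒵) (hgqc : AlgSt.IsQuasiCompactMor Scheme.fppfPrecoverage g) (hgqs : AlgSt.IsQuasiSeparatedMor g)
    {ι : Type u} (E : ι → StMod.QCoh 𝒳) (hE : ∀ i, (E i).obj.IsFinPres)
    (hE' : StMod.IsRelGenFam f E) (hO : StMod.IsRelGenFam g (fun _ : PUnit.{u + 1} => StMod.OQ 𝒴)) :
    StMod.IsRelGenFam (BasedFunctor.comp f g) E := by
  intro ξ hξ
  obtain ⟨R⟩ := Groth.Agent.StPush.exists_pres h𝒴 h𝒵 g hgqc hgqs ξ hξ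
  let y := R.x₀
  have hy : IsAffine (StMod.sch 𝒴 y.left) := R.aff₀
  obtain ⟨C⟩ := Groth.Agent.StGen.exists_finCover h𝒳 h𝒴 f hfqc hfqs y.left hy
  obtain ⟨C₀⟩ := Groth.Agent.StPush.finCover_compPi (f := f) (g := g) (ξ := ξ) (y := y) C
  exact Groth.Agent.StPush.isGenFam_of_target (π := Groth.Agent.StPush.compPi f g ξ)
    (Groth.Agent.StGen.isFibGrpd_fibCat _ h𝒳.isStack.1 ξ) (Groth.Agent.StGen.isFibGrpd_fibCat g h𝒴.isStack.1 ξ)
    R C₀ (fun i => (StMod.comapQ (StMod.fibFst (BasedFunctor.comp f g) ξ)).obj (E i)) (fun i o => hE i o.left)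
    (Groth.Agent.StPush.isGenFam_compPi h𝒳.isStack.1 E (hE' y.left hy))
    (Groth.Agent.StPush.isGenFam_OQ (hO ξ hξ))

end Groth.Agent.S17317
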