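import Groth.Statements.S17318
import Groth.Agent.StPush.Adj
import Groth.Agent.StPush.DiagFib
import Groth.Agent.StPush.PresExist
import Groth.Agent.StFib.QC2
import Groth.Agent.AlgSp.NormQf

set_option autoImplicit false
set_option linter.style.haveILetI false
set_option linter.unusedVariables false
set_option backward.isDefEq.respectTransparency false
set_option backward.isDefEq.respectTransparency.types false
universe u
open CategoryTheory CategoryTheory.Limits AlgebraicGeometry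
open ResProp

namespace Groth.Agent.S17318

open Groth.Agent.StGen Groth.Agent.StDesc Groth.Agent.StPush

theorem isGenFam_iso {S : Scheme.{u}} {𝒳 : AlgSt.Cat S} {ι : Type*} {E E' : ι → StMod.QCoh 𝒳}
    (e : ∀ i, (E i).obj ≅ (E' i).obj) (h : StMod.IsGenFam E) : StMod.IsGenFam E' := by
  rw [StMod.isGenFam_iff] at h ⊢
  intro M N v hv
  refine h v fun i φ => ?_
  rw [← cancel_epi (e i).inv, comp_zero, ← Category.assoc]
  exact hv i ((e i).inv ≫ φ)

/-- Let `f : 𝒳 → 𝒴` and `g : 𝒴 → 𝒵` be quasi-compact and quasi-separated morphisms of algebraic stacks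
over a scheme `S` (fppf topology; diagonals representable, separated and quasi-compact, the text's
standing convention), and `E` a family of quasi-coherent modules of finite presentation on `𝒳`. If
`E` is generating relative to the composite `g ∘ f` and the structure sheaf of `𝒴` is generating
relative to the diagonal `𝒴 → 𝒴 ×_𝒵 𝒴` of `g`, then `E` is generating relative to `f`. (The
published statement takes a second family `F` on `𝒴`, locally free of finite type and generating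
relative to the diagonal of `g`, assumes the family `E i ⊗ f^* F j` generating relative to a
composite given up to 2-isomorphism, and derives that `f` is quasi-compact and quasi-separated; this
is the case where `F` is the structure sheaf alone, with the strict composite and with `f` assumed
quasi-compact and quasi-separated.) -/
theorem result (S : Scheme.{u}) (𝒳 𝒴 𝒵 : AlgSt.Cat S)
    (h𝒳 : AlgSt.IsAlgStack Scheme.fppfPrecoverage 𝒳) (h𝒴 : AlgSt.IsAlgStack Scheme.fppfPrecoverage 𝒴) (h𝒵 : AlgSt.IsAlgStack Scheme.fppfPrecoverage 𝒵)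
    (hΔ𝒳 : AlgSt.RepByAlgSpWith (AlgSp.IsSeparatedMor ⊓ AlgSp.IsQuasiCompactMor) (FibCat.diag (FibCat.toSelf 𝒳)))
    (hΔ𝒴 : AlgSt.RepByAlgSpWith (AlgSp.IsSeparatedMor ⊓ AlgSp.IsQuasiCompactMor) (FibCat.diag (FibCat.toSelf 𝒴)))
    (hΔ𝒵 : AlgSt.RepByAlgSpWith (AlgSp.IsSeparatedMor ⊓ AlgSp.IsQuasiCompactMor) (FibCat.diag (FibCat.toSelf 𝒵)))
    (f : 𝒳 ⥤ᵇ 𝒴) (hfqc : AlgSt.IsQuasiCompactMor Scheme.fppfPrecoverage f) (hfqs : AlgSt.IsQuasiSeparatedMor f)
    (g : 𝒴 ⥤ᵇ 𝒵) (hgqc : AlgSt.IsQuasiCompactMor Scheme.fppfPrecoverage g) (hgqs : AlgSt.IsQuasiSeparatedMor g)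
    {ι : Type u} (E : ι → StMod.QCoh 𝒳) (hE : ∀ i, (E i).obj.IsFinPres)
    (hh : StMod.IsRelGenFam (BasedFunctor.comp f g) E)
    (hO : StMod.IsRelGenFam (FibCat.diag g) (fun _ : PUnit.{u + 1} => StMod.OQ 𝒴)) :
    StMod.IsRelGenFam f E := by
  have h𝒳f := h𝒳.isStack.1
  have h𝒴f := h𝒴.isStack.1
  have h𝒵f := h𝒵.isStack.1
  intro y hy
  have hξ : IsAffine (StMod.sch 𝒵 (g.obj y)) := isAffine_img (π := g) y hy
  obtain ⟨R⟩ := exists_pres h𝒳 h𝒵 (BasedFunctor.comp f g) (StFib.isQuasiCompactMor_comp h𝒴 h𝒵 hfqc hgqc)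
    (StFib.diag_comp_mem StFib.good_qcqs h𝒳f h𝒴f hfqs hgqs) (g.obj y) hξ
  -- lift the target of the covering object
  obtain ⟨y', e, ψ, hψ⟩ := StFib.grpd_exists_lift h𝒴f y
    (eqToHom (g.w_obj (f.obj R.x₀.left)).symm ≫ 𝒵.p.map R.x₀.hom ≫ eqToHom (g.w_obj y))
  obtain ⟨χ, ⟨e₁, he₁⟩, hχ⟩ := StFib.grpd_exists_vert_fac h𝒵f (g.map ψ) R.x₀.hom
    ((g.w_obj (f.obj R.x₀.left)).trans (e.symm.trans (g.w_obj y').symm)) (by
      erw [StFib.w_map g, hψ]
      simp)
  have h : EtaData (f := f) ψ χ := ⟨IsHomLift.of_fac' _ _ _ (g.w_obj (f.obj R.x₀.left))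
    ((g.w_obj y').trans e) (by rw [he₁]; simp), hχ⟩
  have hη : IsAffine (StMod.sch (FibCat.fp g g) h.eta) := by
    haveI : IsAffine (StMod.sch 𝒳 R.x₀.left) := R.aff₀
    exact isAffine_img (π := f) R.x₀.left R.aff₀
  -- the diagonal
  have hgg := StFib.isAlgStack_fp h𝒵.isStack h𝒵.diag h𝒴 h𝒴 g g
  have hdqc := StFib.isQuasiCompactMor_of_rep h𝒴 hgg (StFib.repByAlgSpWith_mono hgqs fun _ _ _ h => h.1)
  have hΔqs : AlgSt.RepByAlgSpWith (AlgSp.IsQuasiCompactMor ⊓ AlgSp.IsQuasiSeparatedMor)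
      (FibCat.diag (FibCat.toSelf 𝒴)) :=
    StFib.repByAlgSpWith_mono hΔ𝒴 fun _ _ _ h => ⟨h.2, AlgSp.isQuasiSeparatedMor_of_sep h.1⟩
  have hdqs : AlgSt.IsQuasiSeparatedMor (FibCat.diag g) :=
    StFib.isQuasiSeparatedMor_of_comp_stack (g := BasedFunctor.comp (FibCat.fpFst g g) (FibCat.toSelf 𝒴))
      (StFib.diag_comp_mem StFib.good_qcqs hgg.isStack.1 h𝒴f (StFib.diag_fpFst_mem _ g hgqs) hΔqs) hΔqs
  obtain ⟨C⟩ := exists_finCover h𝒴 hgg (FibCat.diag g) hdqc hdqs h.eta hη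
  have H := h.fullEquiv h𝒴f h𝒵f h𝒳f
  obtain ⟨C₀⟩ := H.exists_finCover C
  have hO' : StMod.IsGenFam fun _ : PUnit.{u + 1} => StMod.OQ (StMod.fibCat (overPi f g y) R.x₀) :=
    isGenFam_iso (fun _ => (StMod.comapFunctor _).mapIso (StMod.comapOIso (StMod.fibFst (FibCat.diag g) h.eta)) ≪≫
      StMod.comapOIso (h.theta h𝒴f h𝒵f))
      (isGenFam_src H.locEquiv H.invariant _ (hO h.eta hη))
  have hgen := isGenFam_comap_of_O (π := overPi f g y) (isFibGrpd_fibCat f h𝒳f y)
    (isFibGrpd_fibCat (BasedFunctor.comp f g) h𝒳f (g.obj y)) R C₀ _ hO' (hh (g.obj y) hξ)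
  refine isGenFam_iso (fun i => ?_) hgen
  exact (StMod.comapCompIso (StMod.fibFst (BasedFunctor.comp f g) (g.obj y)) (overPi f g y) (E i).obj).symm ≪≫
    eqToIso (congrArg (fun G => StMod.Mod.comap G (E i).obj)
      (show BasedFunctor.comp (overPi f g y) (StMod.fibFst (BasedFunctor.comp f g) (g.obj y)) =
        StMod.fibFst f y from rfl))

end Groth.Agent.S17318
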