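import Groth.Statements.S17319
import Groth.Agent.S17316
import Groth.Agent.S17318

set_option autoImplicit false
set_option linter.style.haveILetI false
set_option linter.unusedVariables false
set_option backward.isDefEq.respectTransparency false
set_option backward.isDefEq.respectTransparency.types false
universe u
open CategoryTheory CategoryTheory.Limits AlgebraicGeometry
open ResProp

namespace Groth.Agent.S17319

open Groth.Agent.StGen Groth.Agent.StDesc Groth.Agent.StPush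

variable {S : Scheme.{u}} {𝒰 𝒴 : AlgSt.Cat S}

/-- A 2-isomorphism reads objects over `η` along it. -/
noncomputable def alongIso {a b : 𝒰 ⥤ᵇ 𝒴} (e : a ≅ b) (η : 𝒴.obj) : StMod.fibCat b η ⥤ᵇ StMod.fibCat a η where
  toFunctor :=
    { obj := fun o => CostructuredArrow.mk (Y := o.left) (e.hom.toNatTrans.app o.left ≫ o.hom)
      map := fun {o o'} k => CostructuredArrow.homMk k.left (by
        show a.map k.left ≫ e.hom.toNatTrans.app o'.left ≫ o'.hom = e.hom.toNatTrans.app o.left ≫ o.hom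
        rw [← Category.assoc, e.hom.toNatTrans.naturality, Category.assoc]
        exact congrArg (e.hom.toNatTrans.app o.left ≫ ·) (CostructuredArrow.w k))
      map_id := fun o => CostructuredArrow.hom_ext _ _ rfl
      map_comp := fun k k' => CostructuredArrow.hom_ext _ _ rfl }
  w := rfl

theorem fullEquiv_alongIso {a b : 𝒰 ⥤ᵇ 𝒴} (e : a ≅ b) (η : 𝒴.obj) (h𝒰 : FibCat.IsFibGrpd 𝒰.p) :
    FullEquiv (alongIso e η) := by
  let i := (BasedNatTrans.forgetful _ _).mapIso e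
  refine ⟨isFibGrpd_fibCat b h𝒰 η, isFibGrpd_fibCat a h𝒰 η, fun {o o'} m => ?_, fun {o o'} m m' h => ?_,
    fun z => ?_⟩
  · refine ⟨CostructuredArrow.homMk m.left ?_, CostructuredArrow.hom_ext _ _ rfl⟩
    show b.map m.left ≫ o'.hom = o.hom
    rw [← cancel_epi (i.hom.app o.left)]
    show e.hom.toNatTrans.app o.left ≫ b.map m.left ≫ o'.hom = e.hom.toNatTrans.app o.left ≫ o.hom
    rw [← Category.assoc, ← e.hom.toNatTrans.naturality, Category.assoc]
    exact CostructuredArrow.w m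
  · exact CostructuredArrow.hom_ext _ _ (congrArg (fun k : (alongIso e η).obj o ⟶ (alongIso e η).obj o' => k.left) h)
  · refine ⟨CostructuredArrow.mk (Y := z.left) (i.inv.app z.left ≫ z.hom), CostructuredArrow.homMk (𝟙 z.left) ?_,
      rfl, 𝒰.p.map_id _⟩
    show a.map (𝟙 z.left) ≫ z.hom = i.hom.app z.left ≫ i.inv.app z.left ≫ z.hom
    rw [a.toFunctor.map_id, Iso.hom_inv_id_app_assoc]
    exact Category.id_comp _

theorem isRelGenFam_iso {a b : 𝒰 ⥤ᵇ 𝒴} (e : a ≅ b) (h𝒰 : FibCat.IsFibGrpd 𝒰.p) {ι : Type*}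
    (E : ι → StMod.QCoh 𝒰) (h : StMod.IsRelGenFam a E) : StMod.IsRelGenFam b E := by
  intro η hη
  refine S17316.isGenFam_iso (fun i => ?_) (isGenFam_src (fullEquiv_alongIso e η h𝒰).locEquiv
    (fullEquiv_alongIso e η h𝒰).invariant _ (h η hη))
  exact (StMod.comapCompIso (StMod.fibFst a η) (alongIso e η) (E i).obj).symm ≪≫
    eqToIso (congrArg (fun G => StMod.Mod.comap G (E i).obj)
      (show BasedFunctor.comp (alongIso e η) (StMod.fibFst a η) = StMod.fibFst b η from rfl))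

theorem isFinPres_comap (u : 𝒰 ⥤ᵇ 𝒴) {F : StMod.Mod 𝒴} (hF : F.IsFinPres) :
    (StMod.Mod.comap u F).IsFinPres := by
  intro z
  have key : ∀ {X T : Scheme.{u}} (h : X = T) (M : X.Modules),
      SheafOfModules.IsFinitePresentation (R := X.ringCatSheaf) M →
        SheafOfModules.IsFinitePresentation (R := T.ringCatSheaf) (StMod.castMod h M) := by
    intro X T h M hM; subst h; exact hM
  exact key _ _ (hF (u.obj z))

/-- Let `u : 𝒰 → 𝒳`, `f : 𝒳 → 𝒴`, `g : 𝒰 → 𝒱` and `v : 𝒱 → 𝒴` be quasi-compact and quasi-separated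
morphisms of algebraic stacks over a scheme `S` (fppf topology; diagonals representable, separated
and quasi-compact, the text's standing convention) forming a square that commutes up to a
2-isomorphism `f ∘ u ≅ v ∘ g`, and `E` a family of quasi-coherent modules of finite presentation on
`𝒳`. If `E` is generating relative to `f`, the structure sheaf of `𝒰` is generating relative to `u`
and the structure sheaf of `𝒱` is generating relative to the diagonal `𝒱 → 𝒱 ×_𝒴 𝒱` of `v`, then the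
family of inverse images `u^* E i` is generating relative to `g`. (Here `g` is assumed quasi-compact
and quasi-separated as well, and `v` quasi-compact; the hypotheses on `u` and `v` hold whenever both
are quasi-affine. Only the assertion about generating families in the strong sense is stated; the
one about weakly generating families is not.) -/
theorem result (S : Scheme.{u}) (𝒰 𝒳 𝒱 𝒴 : AlgSt.Cat S)
    (h𝒰 : AlgSt.IsAlgStack Scheme.fppfPrecoverage 𝒰) (h𝒳 : AlgSt.IsAlgStack Scheme.fppfPrecoverage 𝒳) (h𝒱 : AlgSt.IsAlgStack Scheme.fppfPrecoverage 𝒱) (h𝒴 : AlgSt.IsAlgStack Scheme.fppfPrecoverage 𝒴)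
    (hΔ𝒰 : AlgSt.RepByAlgSpWith (AlgSp.IsSeparatedMor ⊓ AlgSp.IsQuasiCompactMor) (FibCat.diag (FibCat.toSelf 𝒰)))
    (hΔ𝒳 : AlgSt.RepByAlgSpWith (AlgSp.IsSeparatedMor ⊓ AlgSp.IsQuasiCompactMor) (FibCat.diag (FibCat.toSelf 𝒳)))
    (hΔ𝒱 : AlgSt.RepByAlgSpWith (AlgSp.IsSeparatedMor ⊓ AlgSp.IsQuasiCompactMor) (FibCat.diag (FibCat.toSelf 𝒱)))
    (hΔ𝒴 : AlgSt.RepByAlgSpWith (AlgSp.IsSeparatedMor ⊓ AlgSp.IsQuasiCompactMor) (FibCat.diag (FibCat.toSelf 𝒴)))
    (u : 𝒰 ⥤ᵇ 𝒳) (huqc : AlgSt.IsQuasiCompactMor Scheme.fppfPrecoverage u) (huqs : AlgSt.IsQuasiSeparatedMor u)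
    (f : 𝒳 ⥤ᵇ 𝒴) (hfqc : AlgSt.IsQuasiCompactMor Scheme.fppfPrecoverage f) (hfqs : AlgSt.IsQuasiSeparatedMor f)
    (g : 𝒰 ⥤ᵇ 𝒱) (hgqc : AlgSt.IsQuasiCompactMor Scheme.fppfPrecoverage g) (hgqs : AlgSt.IsQuasiSeparatedMor g)
    (v : 𝒱 ⥤ᵇ 𝒴) (hvqc : AlgSt.IsQuasiCompactMor Scheme.fppfPrecoverage v) (hvqs : AlgSt.IsQuasiSeparatedMor v)
    (e : BasedFunctor.comp u f ≅ BasedFunctor.comp g v)
    {ι : Type u} (E : ι → StMod.QCoh 𝒳) (hE : ∀ i, (E i).obj.IsFinPres)
    (hEf : StMod.IsRelGenFam f E)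
    (hOu : StMod.IsRelGenFam u (fun _ : PUnit.{u + 1} => StMod.OQ 𝒰))
    (hOv : StMod.IsRelGenFam (FibCat.diag v) (fun _ : PUnit.{u + 1} => StMod.OQ 𝒱)) :
    StMod.IsRelGenFam g (fun i => (StMod.comapQ u).obj (E i)) := by
  have hcomp := S17316.result S 𝒰 𝒳 𝒴 h𝒰 h𝒳 h𝒴 hΔ𝒰 hΔ𝒳 hΔ𝒴 u huqc huqs f hfqc hfqs E hE hOu hEf
  exact S17318.result S 𝒰 𝒱 𝒴 h𝒰 h𝒱 h𝒴 hΔ𝒰 hΔ𝒱 hΔ𝒴 g hgqc hgqs v hvqc hvqs _
    (fun i => isFinPres_comap u (hE i)) (isRelGenFam_iso e h𝒰.isStack.1 _ hcomp) hOv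

end Groth.Agent.S17319
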