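import Groth.Statements.S1732
import Groth.Agent.InjHull.Matlis
import Groth.Agent.PSLoc.Basic
-- import your own Groth.Agent.* helpers here

set_option autoImplicit false
universe u
open LocCoh

namespace Groth.Agent.S1732

open IsLocalRing MvPowerSeries

variable {k : Type u} [Field k] [CharZero k] {d : ℕ} {M : Type u} [AddCommGroup M]
  [Module (MvPowerSeries (Fin d) k) M]


/-- Divisibility by a variable of the elements killed by other variables. -/
theorem exists_div (θ : Derivation k (MvPowerSeries (Fin d) k) (MvPowerSeries (Fin d) k)) (D : M →+ M) (hD : ∀ (f : (MvPowerSeries (Fin d) k)) (z : M), D (f • z) = θ f • z + f • D z)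
    (x : (MvPowerSeries (Fin d) k)) (hx : θ x = 1) (S : Set (MvPowerSeries (Fin d) k)) (hS : ∀ a ∈ S, θ a = 0) (N : ℕ) :
    ∀ z : M, (∀ a ∈ S, a • z = 0) → x ^ N • z = 0 → ∃ v : M, (∀ a ∈ S, a • v = 0) ∧ x • v = z := by
  induction N with
  | zero => intro z _ hz; exact ⟨0, fun a _ => smul_zero a, by simpa using hz.symm⟩
  | succ N ih =>
    intro z hzS hz
    have hDS : ∀ a ∈ S, a • D z = 0 := fun a ha => by
      have h := hD a z
      rw [hzS a ha, map_zero, hS a ha, zero_smul, zero_add] at h
      exact h.symm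
    have hθ : θ (x ^ (N + 1)) = ((N + 1 : ℕ) : (MvPowerSeries (Fin d) k)) * x ^ N := by
      rw [Derivation.leibniz_pow, hx, nsmul_eq_mul, smul_eq_mul, mul_one, Nat.add_sub_cancel]
    have h := hD (x ^ (N + 1)) z
    rw [hz, map_zero, hθ, pow_succ, mul_comm ((N + 1 : ℕ) : (MvPowerSeries (Fin d) k)), mul_smul, mul_smul, ← smul_add] at h
    obtain ⟨v, hvS, hv⟩ := ih (((N + 1 : ℕ) : (MvPowerSeries (Fin d) k)) • z + x • D z)
      (fun a ha => by rw [smul_add, smul_comm, hzS a ha, smul_zero, smul_comm a x, hDS a ha, smul_zero, add_zero])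
      h.symm
    refine ⟨algebraMap k (MvPowerSeries (Fin d) k) ((N + 1 : ℕ) : k)⁻¹ • (v - D z), fun a ha => ?_, ?_⟩
    · rw [smul_comm, smul_sub, hvS a ha, hDS a ha, sub_zero, smul_zero]
    · rw [smul_comm, smul_sub, hv, add_sub_cancel_right, smul_smul]
      have : algebraMap k (MvPowerSeries (Fin d) k) ((N + 1 : ℕ) : k)⁻¹ * ((N + 1 : ℕ) : (MvPowerSeries (Fin d) k)) = 1 := by
        rw [← map_natCast (algebraMap k (MvPowerSeries (Fin d) k)), ← map_mul, inv_mul_cancel₀ (by exact_mod_cast Nat.succ_ne_zero N), map_one]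
      rw [this, one_smul]

/-- Solving compatible systems of linear equations. -/
theorem exists_solve (hM : LocCoh.IsPowerTorsion (maximalIdeal (MvPowerSeries (Fin d) k)) M) (θ : Fin d → Derivation k (MvPowerSeries (Fin d) k) (MvPowerSeries (Fin d) k))
    (hθ : ∀ i j : Fin d, θ i (X j) = if i = j then 1 else 0) (D : Fin d → M →+ M)
    (hD : ∀ (i : Fin d) (f : (MvPowerSeries (Fin d) k)) (z : M), D i (f • z) = θ i f • z + f • D i z) (y : Fin d → M)
    (hy : ∀ i j : Fin d, (X i : (MvPowerSeries (Fin d) k)) • y j = (X j : (MvPowerSeries (Fin d) k)) • y i) :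
    ∀ n ≤ d, ∃ v : M, ∀ i : Fin d, (i : ℕ) < n → (X i : (MvPowerSeries (Fin d) k)) • v = y i := by
  intro n hn
  induction n with
  | zero => exact ⟨0, fun i hi => absurd hi (Nat.not_lt_zero _)⟩
  | succ n ih =>
    obtain ⟨v, hv⟩ := ih (by omega)
    let j : Fin d := ⟨n, by omega⟩
    obtain ⟨N, hN⟩ := hM (y j - (X j : (MvPowerSeries (Fin d) k)) • v)
    have hXm : (X j : (MvPowerSeries (Fin d) k)) ∈ maximalIdeal (MvPowerSeries (Fin d) k) := by
      rw [PSLoc.maximalIdeal_eq]
      exact Ideal.subset_span ⟨j, rfl⟩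
    obtain ⟨w, hwS, hw⟩ := exists_div (θ j) (D j) (hD j) (X j) (by rw [hθ, if_pos rfl])
      ((fun i => (X i : (MvPowerSeries (Fin d) k))) '' {i : Fin d | (i : ℕ) < n})
      (by
        rintro _ ⟨i, hi, rfl⟩
        rw [hθ, if_neg]
        intro h
        rw [← h] at hi
        exact Nat.lt_irrefl n hi) N (y j - (X j : (MvPowerSeries (Fin d) k)) • v)
      (by
        rintro _ ⟨i, hi, rfl⟩
        rw [smul_sub, smul_comm, hv i hi, hy i j, sub_self])
      (hN _ (Ideal.pow_mem_pow hXm N))
    refine ⟨v + w, fun i hi => ?_⟩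
    rw [smul_add]
    rcases Nat.lt_succ_iff_lt_or_eq.mp hi with hi' | hi'
    · rw [hv i hi', hwS _ ⟨i, hi', rfl⟩, add_zero]
    · rw [show i = j from Fin.ext hi', hw, add_sub_cancel]


/-- Let k be a field of characteristic zero, d ≥ 1, A = k[[x_1, …, x_d]] with maximal ideal m, and E an
injective hull of the residue field of A. Let M be an m-power torsion A-module equipped with
additive maps D_1, …, D_d such that D_i(f z) = θ_i(f) z + f D_i(z), where θ_i is the k-derivation of
A with θ_i(x_j) = δ_ij (the partial derivative in x_i). Then M is, up to isomorphism, a direct sum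
of copies of E. -/
theorem result (k : Type u) [Field k] [CharZero k] (d : ℕ) (hd : 1 ≤ d) (E : Type u) [AddCommGroup E] [Module (MvPowerSeries (Fin d) k) E] (e : IsLocalRing.ResidueField (MvPowerSeries (Fin d) k) →ₗ[MvPowerSeries (Fin d) k] E) (he : InjHull.IsInjectiveHull e) (θ : Fin d → Derivation k (MvPowerSeries (Fin d) k) (MvPowerSeries (Fin d) k)) (hθ : ∀ i j : Fin d, θ i (MvPowerSeries.X j) = if i = j then 1 else 0) (M : Type u) [AddCommGroup M] [Module (MvPowerSeries (Fin d) k) M] (hM : LocCoh.IsPowerTorsion (IsLocalRing.maximalIdeal (MvPowerSeries (Fin d) k)) M) (D : Fin d → M →+ M) (hD : ∀ (i : Fin d) (f : MvPowerSeries (Fin d) k) (z : M), D i (f • z) = θ i f • z + f • D i z) : ∃ J : Type u, Nonempty (M ≃ₗ[MvPowerSeries (Fin d) k] (J →₀ E)) := by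
  classical
  have hker : ∀ a ∈ maximalIdeal (MvPowerSeries (Fin d) k), ∀ x : torsionBy (maximalIdeal (MvPowerSeries (Fin d) k)) M, a • x = 0 := fun a ha x =>
    Subtype.ext ((Submodule.mem_torsionBySet_iff _ _).mp x.2 ⟨a, ha⟩)
  let V := torsionBy (maximalIdeal (MvPowerSeries (Fin d) k)) M
  have htor : Module.IsTorsionBySet (MvPowerSeries (Fin d) k) V (maximalIdeal (MvPowerSeries (Fin d) k) : Set (MvPowerSeries (Fin d) k)) := fun x a => hker a a.2 x
  letI : Module (ResidueField (MvPowerSeries (Fin d) k)) V := htor.module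
  haveI : IsScalarTower (MvPowerSeries (Fin d) k) (ResidueField (MvPowerSeries (Fin d) k)) V := htor.isScalarTower
  let J : Type u := Module.Basis.ofVectorSpaceIndex (ResidueField (MvPowerSeries (Fin d) k)) V
  let b : V ≃ₗ[(MvPowerSeries (Fin d) k)] (J →₀ ResidueField (MvPowerSeries (Fin d) k)) := (Module.Basis.ofVectorSpace (ResidueField (MvPowerSeries (Fin d) k)) V).repr.restrictScalars (MvPowerSeries (Fin d) k)
  let g₀ : V →ₗ[(MvPowerSeries (Fin d) k)] (J →₀ E) := (Finsupp.mapRange.linearMap e).comp b.toLinearMap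
  have hinjE : Module.Injective (MvPowerSeries (Fin d) k) (J →₀ E) :=
    InjHull.Basic.injective_of_equiv (InjHull.Noetherian.injective_directSum (fun _ : J => E) fun _ => he.isInjective)
      (finsuppLequivDFinsupp (MvPowerSeries (Fin d) k)).symm
  obtain ⟨g, hg⟩ := InjHull.Basic.extend hinjE V.subtype V.injective_subtype g₀
  have hg' : ∀ x : V, g x = g₀ x := fun x => LinearMap.congr_fun hg x
  have hg₀ : Function.Injective g₀ := (Finsupp.mapRange_injective _ (map_zero e) he.injective).comp b.injective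
  have hginj : Function.Injective g := InjHull.Matlis.injective_of_socle hM g fun x hx hgx => by
    have hxV : x ∈ V := (Submodule.mem_torsionBySet_iff _ _).mpr fun a => hx a a.2
    exact congrArg Subtype.val (hg₀ (show g₀ ⟨x, hxV⟩ = g₀ 0 by rw [map_zero, ← hg']; exact hgx))
  have hsoc : ∀ z : J →₀ E, (∀ a ∈ maximalIdeal (MvPowerSeries (Fin d) k), a • z = 0) → z ∈ LinearMap.range g := fun z hz => by
    have hz' : ∀ j : J, z j ∈ LinearMap.range e := fun j => (InjHull.Matlis.mem_range_iff he).mpr fun a ha => by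
      rw [← Finsupp.smul_apply, hz a ha, Finsupp.zero_apply]
    let c : J →₀ ResidueField (MvPowerSeries (Fin d) k) := Finsupp.onFinset z.support (fun j => Function.invFun e (z j)) fun j hj => by
      by_contra h
      rw [Finsupp.notMem_support_iff] at h
      refine hj (he.injective ?_)
      rw [Function.invFun_eq (hz' j), h, map_zero]
    refine ⟨b.symm c, (hg' _).trans (Finsupp.ext fun j => ?_)⟩
    show e ((b (b.symm c)) j) = z j
    rw [LinearEquiv.apply_symm_apply]
    exact Function.invFun_eq (hz' j)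
  have htorJ : ∀ z : J →₀ E, ∃ n : ℕ, ∀ a ∈ maximalIdeal (MvPowerSeries (Fin d) k) ^ n, a • z = 0 := fun z => by
    choose n hn using fun j => InjHull.Matlis.isPowerTorsion_hull he (z j)
    refine ⟨z.support.sup n, fun a ha => Finsupp.ext fun j => ?_⟩
    rw [Finsupp.smul_apply, Finsupp.zero_apply]
    by_cases hj : j ∈ z.support
    · exact hn j a (Ideal.pow_le_pow_right (Finset.le_sup hj) ha)
    · rw [Finsupp.notMem_support_iff.mp hj, smul_zero]
  have hsur : ∀ (n : ℕ) (z : J →₀ E), (∀ a ∈ maximalIdeal (MvPowerSeries (Fin d) k) ^ n, a • z = 0) → z ∈ LinearMap.range g := by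
    intro n
    induction n with
    | zero => exact fun z hz => ⟨0, by rw [map_zero]; simpa using (hz 1 (by simp)).symm⟩
    | succ n ih =>
      intro z hz
      have hX : ∀ i : Fin d, (X i : (MvPowerSeries (Fin d) k)) ∈ maximalIdeal (MvPowerSeries (Fin d) k) := fun i => by
        rw [PSLoc.maximalIdeal_eq]; exact Ideal.subset_span ⟨i, rfl⟩
      have hy' : ∀ i : Fin d, ∃ y : M, g y = (X i : (MvPowerSeries (Fin d) k)) • z := fun i => ih _ fun a ha => by
        rw [smul_smul]
        exact hz _ (by rw [pow_succ]; exact Ideal.mul_mem_mul ha (hX i))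
      choose y hy using hy'
      obtain ⟨v, hv⟩ := exists_solve hM θ hθ D hD y
        (fun i j => hginj (by rw [map_smul, map_smul, hy, hy, smul_comm])) d le_rfl
      obtain ⟨w, hw⟩ := hsoc (z - g v) fun a ha => by
        rw [PSLoc.maximalIdeal_eq] at ha
        refine Submodule.span_induction (p := fun a _ => a • (z - g v) = 0) ?_ (zero_smul _ _)
          (fun a b _ _ ha hb => by rw [add_smul, ha, hb, add_zero])
          (fun c a _ ha => by rw [smul_eq_mul, mul_smul, ha, smul_zero]) ha
        rintro _ ⟨i, rfl⟩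
        rw [smul_sub, ← map_smul, hv i i.2, hy, sub_self]
      exact ⟨v + w, by rw [map_add, hw, add_sub_cancel]⟩
  refine ⟨J, ⟨LinearEquiv.ofBijective g ⟨hginj, fun z => ?_⟩⟩⟩
  obtain ⟨n, hn⟩ := htorJ z
  exact hsur n z hn

end Groth.Agent.S1732
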