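import Groth.Statements.S17320
import Groth.Agent.S17314
import Groth.Agent.StGen.Fib
import Groth.Agent.StModLib.FinDesc
import Groth.Agent.StFib.SmoothLocal

set_option autoImplicit false
universe u
open CategoryTheory CategoryTheory.Limits AlgebraicGeometry
open ResProp

namespace Groth.Agent.S17320

/-- Let `f : 𝒳 → 𝒴` be a quasi-compact and quasi-separated morphism of algebraic stacks over a scheme
`S` (fppf topology; diagonals representable, separated and quasi-compact, the text's standing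
convention), `E` a family of quasi-coherent modules on `𝒳`, and `u a : 𝒴' a → 𝒴` a family of
morphisms of algebraic stacks, each flat and locally of finite presentation, jointly surjective on
points. If for every `a` the family `E` pulled back to the fibre product `𝒳 ×_𝒴 𝒴' a` consists of
locally free modules of finite type and is generating relative to the projection to `𝒴' a`, then
every `E i` is locally free of finite type and `E` is generating relative to `f`. (The published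
statement allows an fpqc covering family pulled back from an auxiliary base stack; here the family
is fppf and maps to the target itself, and `f` is assumed quasi-compact and quasi-separated, which
the published first alternative obtains from the covering. Its other alternative, where `f` is
quasi-compact and quasi-separated and `E` is already locally free of finite type on `𝒳`, is the
locality of generating families on the base and is not restated.) -/
theorem result (S : Scheme.{u}) (𝒳 𝒴 : AlgSt.Cat S)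
    (h𝒳 : AlgSt.IsAlgStack Scheme.fppfPrecoverage 𝒳) (h𝒴 : AlgSt.IsAlgStack Scheme.fppfPrecoverage 𝒴)
    (hΔ𝒳 : AlgSt.RepByAlgSpWith (AlgSp.IsSeparatedMor ⊓ AlgSp.IsQuasiCompactMor) (FibCat.diag (FibCat.toSelf 𝒳)))
    (hΔ𝒴 : AlgSt.RepByAlgSpWith (AlgSp.IsSeparatedMor ⊓ AlgSp.IsQuasiCompactMor) (FibCat.diag (FibCat.toSelf 𝒴)))
    (f : 𝒳 ⥤ᵇ 𝒴) (hfqc : AlgSt.IsQuasiCompactMor Scheme.fppfPrecoverage f) (hfqs : AlgSt.IsQuasiSeparatedMor f)
    {ι : Type u} (E : ι → StMod.QCoh 𝒳)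
    {A : Type u} (𝒴' : A → AlgSt.Cat S) (h𝒴' : ∀ a, AlgSt.IsAlgStack Scheme.fppfPrecoverage (𝒴' a))
    (hΔ' : ∀ a, AlgSt.RepByAlgSpWith (AlgSp.IsSeparatedMor ⊓ AlgSp.IsQuasiCompactMor)
      (FibCat.diag (FibCat.toSelf (𝒴' a))))
    (u : ∀ a, 𝒴' a ⥤ᵇ 𝒴)
    (hfl : ∀ a, AlgSt.LocQ (AlgSp.LocP (@Flat ⊓ @LocallyOfFinitePresentation)) (u a))
    (hsurj : ∀ p : AlgSt.Points 𝒴, ∃ (a : A) (q : AlgSt.Points (𝒴' a)), AlgSt.Points.map (u a) q = p)
    (hlf : ∀ a i, ((StMod.comapQ (FibCat.fpFst f (u a))).obj (E i)).obj.IsLocFree ∧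
      ((StMod.comapQ (FibCat.fpFst f (u a))).obj (E i)).obj.IsFinType)
    (hgen : ∀ a, StMod.IsRelGenFam (FibCat.fpSnd f (u a))
      (fun i => (StMod.comapQ (FibCat.fpFst f (u a))).obj (E i))) :
    (∀ i, (E i).obj.IsLocFree ∧ (E i).obj.IsFinType) ∧ StMod.IsRelGenFam f E := by
  have hlocQ : ∀ (P : MorphismProperty Scheme.{u}),
      (∀ ⦃A B : Scheme.{u}⦄ (e : A ⟶ B), (@Flat ⊓ @LocallyOfFinitePresentation) e → P e) →
      ∀ a, AlgSt.LocQ (AlgSp.LocP P) (u a) := fun P hP a => by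
    obtain ⟨U, V, x, y, h, α, hx, hxs, hy, hh⟩ := hfl a
    exact ⟨U, V, x, y, h, α, hx, hxs, hy, Groth.Agent.StFib.locP_mono_scheme hP hh⟩
  have hflat := hlocQ @Flat fun A B e he => he.1
  have hlfp := hlocQ @LocallyOfFinitePresentation fun A B e he => he.2
  have hfin : ∀ i ξ, FlatMod.IsFinLocFree ((E i).obj.obj ξ) := by
    intro i ξ
    haveI : ((E i).obj.obj ξ).IsQuasicoherent := (E i).property.2 ξ
    obtain ⟨R, hR, hlift⟩ := Groth.Agent.StFib.exists_lift_sieve_family h𝒴 𝒴' h𝒴' u hflat hlfp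
      (fun p => by obtain ⟨a, q, hq⟩ := hsurj p; exact ⟨a, q, hq⟩) (f.obj ξ)
    have key : ∀ t : StMod.sch 𝒳 ξ, ∃ (ξ' : 𝒳.obj) (ν : ξ' ⟶ ξ), Groth.Agent.StGen.IsNhd ν t ∧
        ∃ (a : A) (c : (𝒴' a).obj) (j : f.obj ξ' ≅ (u a).obj c), Groth.Agent.StFib.Vert j.hom := by
      intro t
      have hw : 𝒴.p.obj (f.obj ξ) = 𝒳.p.obj ξ := f.w_obj ξ
      let R' := R.pullback (eqToHom hw.symm)
      have hR' : R' ∈ QuotSh.J Scheme.fppfPrecoverage S (𝒳.p.obj ξ) :=
        (QuotSh.J Scheme.fppfPrecoverage S).pullback_stable _ hR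
      obtain ⟨V, g, ξ', ν, hg, hν, hn⟩ := Groth.Agent.StGen.exists_nhd h𝒳.isStack.1 hR' t
      haveI := hν
      haveI hl : 𝒴.p.IsHomLift g (f.map ν) := inferInstance
      haveI : 𝒴.p.IsHomLift (g ≫ eqToHom hw.symm) (f.map ν) := inferInstance
      obtain ⟨a, c, j, hj⟩ := hlift (g ≫ eqToHom hw.symm) hg (f.obj ξ') (f.map ν) inferInstance
      exact ⟨ξ', ν, hn, a, c, j.symm, hj.inv⟩
    choose ξ' ν hn a c j hj using key
    haveI : ∀ t, ((E i).obj.obj (ξ' t)).IsQuasicoherent := fun t => (E i).property.2 _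
    refine Groth.Agent.StModLib.isFinLocFree_of_family (fun t => StMod.bmap 𝒳 (ν t)) (fun t => (hn t).1)
      (fun t => (hn t).2.1) (fun t => ⟨t, (hn t).2.2⟩) ((E i).obj.obj ξ) (fun t => (E i).obj.obj (ξ' t))
      (fun t => (Groth.Agent.StDesc.exists_pb_eq (E i).property.1 (ν t)).choose) fun t => ?_
    let o : (FibCat.fp f (u (a t))).obj := Groth.Agent.StFib.fpMk (ξ' t) (c t) (j t) (hj t)
    obtain ⟨h1, h2⟩ := hlf (a t) i
    haveI : SheafOfModules.IsFiniteType.{u} ((E i).obj.obj (ξ' t)) := h2 o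
    haveI : ((E i).obj.obj (ξ' t)).IsQuasicoherent := (E i).property.2 _
    exact Groth.Agent.StModLib.isFinLocFree_of_isLocallyFree _ (h1 o)
  have hfp : ∀ i, (E i).obj.IsFinPres := fun i ξ => by
    haveI : ((E i).obj.obj ξ).IsQuasicoherent := (E i).property.2 ξ
    exact Groth.Agent.Props.QProj.isFP _ (hfin i ξ)
  refine ⟨fun i => ⟨fun ξ => Groth.Agent.StModLib.isLocallyFree_of_isFinLocFree _ (hfin i ξ), fun ξ => ?_⟩,
    Groth.Agent.S17314.result S 𝒳 𝒴 h𝒳 h𝒴 hΔ𝒳 hΔ𝒴 f hfqc hfqs E hfp 𝒴' h𝒴' hΔ' u hflat hsurj hgen⟩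
  haveI : SheafOfModules.IsFinitePresentation.{u} ((E i).obj.obj ξ) := hfp i ξ
  haveI : ((E i).obj.obj ξ).IsQuasicoherent := (E i).property.2 ξ
  exact (Groth.Agent.QCoh.isFiniteType_iff _).2 fun U hU => by
    haveI := Groth.Agent.Props.QFP.finitePresentation_sections_of_isFP ((E i).obj.obj ξ) hU
    infer_instance

end Groth.Agent.S17320
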