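import Groth.Statements.S17321
import Groth.Agent.CAlg.FiniteAlgClosed

set_option autoImplicit false
universe u v
open CAlg

namespace Groth.Agent.S17321

/-- Let k be an algebraically closed field and A a commutative k-algebra which is finite-dimensional as
a k-vector space (the coordinate ring of a finite k-scheme). Then the space Der(A) of k-derivations
A → A is zero if and only if A is reduced. -/
theorem result (k : Type u) [Field k] [IsAlgClosed k]
    (A : Type v) [CommRing A] [Algebra k A] [Module.Finite k A] :
    Subsingleton (Derivation k A A) ↔ IsReduced A := by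
  constructor
  · intro hD
    haveI : IsArtinianRing A := IsArtinianRing.of_finite k A
    haveI : IsNoetherianRing A := inferInstance
    by_contra hred
    have hm : ∃ m : Ideal A, m.IsMaximal ∧ ¬ IsIdempotentElem m := by
      by_contra hc
      push Not at hc
      refine hred ((isReduced_iff _).2 fun x hx => ?_)
      by_contra hx0
      obtain ⟨m, hm, hle⟩ := Ideal.exists_le_maximal (Submodule.annihilator (Submodule.span A {x})) (by
        simp [hx0])
      obtain ⟨e, he, he'⟩ := (Ideal.isIdempotentElem_iff_of_fg m (IsNoetherian.noetherian m)).1 (hc m hm)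
      have hxm : x ∈ m := by
        obtain ⟨N, hN⟩ := hx
        exact hm.isPrime.mem_of_pow_mem N (hN ▸ m.zero_mem)
      rw [he', Submodule.mem_span_singleton] at hxm
      obtain ⟨c, rfl⟩ := hxm
      have h1 : (1 - e) ∈ Submodule.annihilator (Submodule.span A {c • e}) := by
        rw [Submodule.mem_annihilator_span_singleton]
        simp only [smul_eq_mul]
        linear_combination -c * he.eq
      have h2 : e ∈ m := by rw [he']; exact Submodule.mem_span_singleton_self e
      exact hm.ne_top ((Ideal.eq_top_iff_one _).2 (by simpa using m.add_mem (hle h1) h2))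
    obtain ⟨m, hm, hm2⟩ := hm
    obtain ⟨f, hf⟩ := Groth.Agent.CAlg.FiniteAlgClosed.exists_point k A m
    have hass : IsAssociatedPrime m A := by
      show m ∈ associatedPrimes A A
      refine Module.associatedPrimes.minimalPrimes_annihilator_subset_associatedPrimes A A ?_
      refine ⟨⟨hm.isPrime, ?_⟩, fun q hq hqm => ?_⟩
      · intro x hx
        have := Module.mem_annihilator.1 hx (1 : A)
        simp only [smul_eq_mul, mul_one] at this
        simp [this]
      · haveI := hq.1
        exact ((IsArtinianRing.isMaximal_of_isPrime q).eq_of_le hm.ne_top hqm).ge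
    obtain ⟨-, c, hc⟩ := isAssociatedPrime_iff.1 hass
    have hc0 : c ≠ 0 := by
      rintro rfl
      exact hm.ne_top ((Ideal.eq_top_iff_one _).2 (by rw [hc, Submodule.mem_colon_singleton]; simp))
    have hc' : ∀ a : A, a * c = f a • c := by
      intro a
      have h1 : a - algebraMap k A (f a) ∈ m := by rw [← hf]; simp [RingHom.mem_ker]
      rw [hc, Submodule.mem_colon_singleton, Submodule.mem_bot, smul_eq_mul, sub_mul, sub_eq_zero,
        ← Algebra.smul_def] at h1
      exact h1
    obtain ⟨u, hu, hu2⟩ := SetLike.exists_of_lt (lt_of_le_of_ne Ideal.mul_le_left (fun h => hm2 h) : m * m < m)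
    have hu3 : u ∉ (m * m).restrictScalars k ⊔ Submodule.span k {(1 : A)} := by
      intro h
      obtain ⟨w, hw, z, hz, hwz⟩ := Submodule.mem_sup.1 h
      obtain ⟨r, rfl⟩ := Submodule.mem_span_singleton.1 hz
      have hwm : w ∈ m := Ideal.mul_le_left hw
      have h0 : f w + r = 0 := by
        have : f (w + r • 1) = 0 := by rw [hwz, ← RingHom.mem_ker, hf]; exact hu
        simpa using this
      rw [show f w = 0 by rw [← RingHom.mem_ker, hf]; exact hwm, zero_add] at h0
      exact hu2 (by rw [← hwz, h0, zero_smul, add_zero]; exact hw)
    obtain ⟨φ, hφu, hφ⟩ := Submodule.exists_dual_map_eq_bot_of_notMem hu3 inferInstance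
    have hker : ∀ x ∈ (m * m).restrictScalars k ⊔ Submodule.span k {(1 : A)}, φ x = 0 := fun x hx =>
      (Submodule.mem_bot k).1 (hφ ▸ Submodule.mem_map_of_mem hx)
    have hmul : ∀ a b, φ (a * b) = f a * φ b + f b * φ a := by
      intro a b
      have ha : a - algebraMap k A (f a) ∈ m := by rw [← hf]; simp [RingHom.mem_ker]
      have hb : b - algebraMap k A (f b) ∈ m := by rw [← hf]; simp [RingHom.mem_ker]
      have h1 := hker _ (Submodule.mem_sup_left (show (a - algebraMap k A (f a)) * (b - algebraMap k A (f b)) ∈ (m * m).restrictScalars k from Ideal.mul_mem_mul ha hb))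
      have h2 : (a - algebraMap k A (f a)) * (b - algebraMap k A (f b)) = a * b - f a • b - f b • a + (f a * f b) • 1 := by
        simp only [Algebra.smul_def, map_mul, mul_one]; ring
      have h3 : φ 1 = 0 := hker 1 (Submodule.mem_sup_right (Submodule.mem_span_singleton_self 1))
      rw [h2] at h1
      simp [h3] at h1
      linear_combination h1
    let D : Derivation k A A := Derivation.mk' ((LinearMap.toSpanSingleton k A c).comp φ) (fun a b => by
      simp only [LinearMap.comp_apply, LinearMap.toSpanSingleton_apply, smul_eq_mul, hmul, add_smul,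
        mul_smul_comm, hc', smul_smul]
      rw [mul_comm (f a), mul_comm (f b)])
    have : D u = φ u • c := rfl
    rw [Subsingleton.elim D 0, Derivation.zero_apply, eq_comm, smul_eq_zero] at this
    exact this.elim hφu hc0
  · intro hr
    haveI := Groth.Agent.CAlg.FiniteAlgClosed.formallyEtale_of_isReduced k A
    exact (KaehlerDifferential.linearMapEquivDerivation (R := k) (S := A)).symm.injective.subsingleton

end Groth.Agent.S17321
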