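import Groth.Statements.S17322
import Groth.Agent.Comod.FiniteNorm
import Mathlib.RingTheory.Adjoin.Tower
-- import your own Groth.Agent.* helpers here

set_option autoImplicit false
universe u v w
open Hopf

namespace Groth.Agent.S17322

/-- Let k be an algebraically closed field, A a commutative Hopf algebra over k which is
finite-dimensional as a k-vector space (a finite group scheme G = Spec A over k), and R a finitely
generated commutative k-algebra with an A-comodule structure whose coaction R → R ⊗ A is a k-algebra
homomorphism (an action of G on the affine scheme Spec R). Then the subalgebra R^G of invariants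
(elements whose coaction is r ⊗ 1) is finitely generated as a k-algebra, and R is finitely generated
as a module over R^G. -/
theorem result (k : Type u) [Field k] [IsAlgClosed k]
    (A : Type v) [CommRing A] [HopfAlgebra k A] [Module.Finite k A]
    (R : Type w) [CommRing R] [Algebra k R] [Algebra.FiniteType k R]
    [HopfRep.Comod k A R] [GLin.IsCoactAlg k A R] :
    Algebra.FiniteType k ↥(GLin.invariants k A R) ∧ Module.Finite ↥(GLin.invariants k A R) R := by
  haveI := Groth.Agent.Comod.FiniteNorm.isIntegral_invariants (k := k) (A := A) (R := R)
  haveI : Algebra.FiniteType ↥(GLin.invariants k A R) R := Algebra.FiniteType.of_restrictScalars_finiteType k _ R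
  have hfin : Module.Finite ↥(GLin.invariants k A R) R := Algebra.IsIntegral.finite
  refine ⟨⟨?_⟩, hfin⟩
  exact fg_of_fg_of_fg k _ R ‹Algebra.FiniteType k R›.1 hfin.fg_top Subtype.val_injective

end Groth.Agent.S17322
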