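import Groth.Statements.S17323
import Groth.Agent.CAlg.FiniteAlgClosed

set_option autoImplicit false
universe u v
open CAlg

namespace Groth.Agent.S17323

/-- Let k be an algebraically closed field and A a commutative k-algebra which is finite-dimensional as
a k-vector space. Then A has a largest reduced subalgebra: a k-subalgebra B which is reduced and
contains every reduced k-subalgebra of A; moreover the composite of the inclusion B → A with the
projection A → A/nilradical(A) is bijective. -/
theorem result (k : Type u) [Field k] [IsAlgClosed k]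
    (A : Type v) [CommRing A] [Algebra k A] [Module.Finite k A] :
    ∃ B : Subalgebra k A, IsReduced ↥B ∧ (∀ C : Subalgebra k A, IsReduced ↥C → C ≤ B) ∧
      Function.Bijective ((Ideal.Quotient.mkₐ k (nilradical A)).comp B.val) := by
  obtain ⟨s, hs, -⟩ := Groth.Agent.CAlg.FiniteAlgClosed.existsUnique_section k A
  have hinj : Function.Injective s := Function.LeftInverse.injective (g := Ideal.Quotient.mkₐ k (nilradical A)) (fun x => AlgHom.congr_fun hs x)
  refine ⟨s.range, ?_, fun C hC => ?_, ?_⟩
  · haveI : IsReduced (A ⧸ nilradical A) :=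
      (Ideal.isRadical_iff_quotient_reduced _).1 (fun x ⟨n, hn⟩ => mem_nilradical.2 (IsNilpotent.of_pow (mem_nilradical.1 hn)))
    exact isReduced_of_injective (AlgEquiv.ofInjective s hinj).symm.toRingEquiv
      (AlgEquiv.ofInjective s hinj).symm.toRingEquiv.injective
  · haveI : Module.Finite k C := Module.Finite.of_injective C.val.toLinearMap Subtype.val_injective
    haveI := Groth.Agent.CAlg.FiniteAlgClosed.formallyEtale_of_isReduced k C
    have h : C.val = (s.comp (Ideal.Quotient.mkₐ k (nilradical A))).comp C.val := by
      refine Algebra.FormallyUnramified.lift_unique _ (Groth.Agent.CAlg.FiniteAlgClosed.isNilpotent_nilradical' k A) _ _ ?_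
      rw [← AlgHom.comp_assoc, ← AlgHom.comp_assoc, hs, AlgHom.id_comp]
    intro x hx
    exact ⟨Ideal.Quotient.mk _ x, (AlgHom.congr_fun h ⟨x, hx⟩).symm⟩
  · constructor
    · rintro ⟨_, a, rfl⟩ ⟨_, b, rfl⟩ h
      have h' : (Ideal.Quotient.mkₐ k (nilradical A)).comp s a = (Ideal.Quotient.mkₐ k (nilradical A)).comp s b := h
      rw [hs] at h'
      exact Subtype.ext (congrArg s h')
    · intro q
      exact ⟨⟨s q, ⟨q, rfl⟩⟩, AlgHom.congr_fun hs q⟩

end Groth.Agent.S17323
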