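import Groth.Statements.S17324
import Groth.Agent.CAlg.FiniteAlgClosed

set_option autoImplicit false
universe u v
open CAlg

namespace Groth.Agent.S17324

/-- (i) ⟺ (ii): let k be an algebraically closed field, A a commutative k-algebra which is
finite-dimensional as a k-vector space and is a local ring with maximal ideal m, and a_1, …, a_m ∈
m. Then A is generated as a k-algebra by a_1, …, a_m if and only if m is generated as an ideal by
a_1, …, a_m. (The printed lemma has a third equivalent condition, that the images of the a_i span
m/m²; its equivalence with (ii) is Nakayama's lemma.) -/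
theorem result (k : Type u) [Field k] [IsAlgClosed k]
    (A : Type v) [CommRing A] [Algebra k A] [Module.Finite k A] [IsLocalRing A]
    (m : ℕ) (a : Fin m → A) (ha : ∀ i, a i ∈ IsLocalRing.maximalIdeal A) :
    Algebra.adjoin k (Set.range a) = ⊤ ↔ Ideal.span (Set.range a) = IsLocalRing.maximalIdeal A := by
  obtain ⟨π, hπ⟩ := Groth.Agent.CAlg.FiniteAlgClosed.exists_point k A (IsLocalRing.maximalIdeal A)
  constructor
  · intro h
    refine le_antisymm (Ideal.span_le.2 (by rintro _ ⟨i, rfl⟩; exact ha i)) fun x hx => ?_
    have key : ∀ y ∈ Algebra.adjoin k (Set.range a), y - algebraMap k A (π y) ∈ Ideal.span (Set.range a) := by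
      intro y hy
      induction hy using Algebra.adjoin_induction with
      | mem y hy =>
        obtain ⟨i, rfl⟩ := hy
        have h0 : π (a i) = 0 := by rw [← RingHom.mem_ker, hπ]; exact ha i
        simpa [h0] using Ideal.subset_span (Set.mem_range_self i)
      | algebraMap c => simp
      | add y z _ _ h1 h2 => simpa [map_add, add_sub_add_comm] using add_mem h1 h2
      | mul y z _ _ h1 h2 =>
        have : y * z - algebraMap k A (π (y * z)) = (y - algebraMap k A (π y)) * z + algebraMap k A (π y) * (z - algebraMap k A (π z)) := by
          rw [map_mul, map_mul]; ring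
        rw [this]
        exact add_mem (Ideal.mul_mem_right _ _ h1) (Ideal.mul_mem_left _ _ h2)
    have h0 : π x = 0 := by rw [← RingHom.mem_ker, hπ]; exact hx
    simpa [h0] using key x (h ▸ Algebra.mem_top)
  · intro h
    have : IsArtinianRing A := IsArtinianRing.of_finite k A
    obtain ⟨N, hN⟩ := IsArtinianRing.isNilpotent_jacobson_bot (R := A)
    rw [IsLocalRing.jacobson_eq_maximalIdeal ⊥ bot_ne_top] at hN
    have key : ∀ j, ∀ x : A, ∃ y ∈ Algebra.adjoin k (Set.range a), x - y ∈ IsLocalRing.maximalIdeal A ^ j := by
      intro j
      induction j with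
      | zero => intro x; exact ⟨0, zero_mem _, by simp⟩
      | succ j ih =>
        intro x
        have hx : x - algebraMap k A (π x) ∈ Ideal.span (Set.range a) := by
          rw [h, ← hπ]; simp [RingHom.mem_ker]
        obtain ⟨c, hc⟩ := Ideal.mem_span_range_iff_exists_fun.1 hx
        choose y hy hy' using fun i => ih (c i)
        refine ⟨algebraMap k A (π x) + ∑ i, y i * a i, add_mem (Subalgebra.algebraMap_mem _ _) (sum_mem fun i _ => mul_mem (hy i) (Algebra.subset_adjoin (Set.mem_range_self i))), ?_⟩
        rw [← sub_sub, ← hc, ← Finset.sum_sub_distrib, pow_succ]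
        refine sum_mem fun i _ => ?_
        rw [← sub_mul]
        exact Ideal.mul_mem_mul (hy' i) (ha i)
    refine eq_top_iff.2 fun x _ => ?_
    obtain ⟨y, hy, hxy⟩ := key N x
    rw [hN] at hxy
    have hxy' : x - y = 0 := by simpa using hxy
    rw [sub_eq_zero.1 hxy']
    exact hy

end Groth.Agent.S17324
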