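import Groth.Statements.S17325
import Mathlib.Algebra.CharP.Lemmas
import Mathlib.Algebra.CharP.Algebra
import Mathlib.RingTheory.Adjoin.Basic
import Mathlib.Algebra.Polynomial.RingDivision
import Mathlib.LinearAlgebra.Dimension.Finite
import Mathlib.LinearAlgebra.FiniteDimensional.Basic
import Mathlib.Tactic.Linarith
import Mathlib.Tactic.Abel
-- import your own Groth.Agent.* helpers here

set_option autoImplicit false
universe u v
open LieAlg

namespace Groth.Agent.S17325

/-- Let k be an algebraically closed field of characteristic p > 0, V a finite-dimensional k-vector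
space and g a nonzero k-linear subspace of End_k(V) closed under the p-th power map u ↦ u^p. Then g
contains a nonzero u with u^p = c u for some c ∈ k, i.e. a line k u closed under p-th powers. (The
published lemma concerns an abstract nonzero finite-dimensional restricted Lie algebra; this row
concerns subspaces of End_k(V) closed under p-th powers, a class that contains every restricted Lie
subalgebra of gl(V).) -/
theorem result (k : Type u) [Field k] [IsAlgClosed k]
    (p : ℕ) [Fact p.Prime] [CharP k p] (V : Type v) [AddCommGroup V] [Module k V] [FiniteDimensional k V]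
    (g : Submodule k (Module.End k V)) (hg : ∀ u ∈ g, u ^ p ∈ g) (hne : g ≠ ⊥) :
    ∃ u ∈ g, u ≠ 0 ∧ ∃ c : k, u ^ p = c • u := by
  classical
  obtain ⟨u, hu, hu0⟩ := Submodule.exists_mem_ne_zero_of_ne_bot hne
  have hpp : p.Prime := Fact.out
  have hug : ∀ i, u ^ (p ^ i) ∈ g := by
    intro i
    induction i with
    | zero => simpa using hu
    | succ i ih => rw [pow_succ, pow_mul]; exact hg _ ih
  let S : ℕ → Submodule k (Module.End k V) := fun n =>
    Submodule.span k (Set.range fun i : Fin n => u ^ (p ^ (i : ℕ)))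
  have hex : ∃ n, u ^ (p ^ n) ∈ S n := by
    by_contra hno
    simp only [not_exists] at hno
    have hlt : ∀ n, Module.finrank k (S n) < Module.finrank k (S (n + 1)) := by
      intro n
      apply Submodule.finrank_lt_finrank_of_lt
      refine lt_of_le_of_ne (Submodule.span_mono ?_) (fun h => hno n ?_)
      · rintro _ ⟨i, rfl⟩
        exact ⟨Fin.castSucc i, rfl⟩
      · rw [h]
        exact Submodule.subset_span ⟨Fin.last n, rfl⟩
    have hge : ∀ n, n ≤ Module.finrank k (S n) := by
      intro n
      induction n with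
      | zero => exact Nat.zero_le _
      | succ n ih => exact ih.trans_lt (hlt n)
    have := hge (Module.finrank k (Module.End k V) + 1)
    have := Submodule.finrank_le (S (Module.finrank k (Module.End k V) + 1))
    omega
  obtain ⟨n, hn, hmin⟩ : ∃ n, u ^ (p ^ n) ∈ S n ∧ ∀ j < n, u ^ (p ^ j) ∉ S j :=
    ⟨Nat.find hex, Nat.find_spec hex, fun j hj => Nat.find_min hex hj⟩
  obtain ⟨n, rfl⟩ : ∃ m, n = m + 1 := by
    refine ⟨n - 1, ?_⟩
    rcases n with - | n
    · simp [S] at hn
      exact absurd hn hu0
    · simp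
  obtain ⟨a, ha⟩ := (Submodule.mem_span_range_iff_exists_fun k).mp hn
  have htop : u ^ (p ^ n) ≠ 0 := fun h => hmin n (Nat.lt_succ_self n) (h ▸ zero_mem _)
  by_cases hall : ∀ i, a i = 0
  · refine ⟨u ^ (p ^ n), hug n, htop, 0, ?_⟩
    rw [← pow_mul, ← pow_succ, ← ha, zero_smul]
    simp [hall]
  -- solve for a fixed vector
  let e : ℕ → ℕ := fun j => p ^ j
  let b : ℕ → Polynomial k := fun i => Nat.rec (Polynomial.C (a 0) * Polynomial.X ^ p)
    (fun j q => q ^ p + (if h : j + 1 < n + 1 then Polynomial.C (a ⟨j + 1, h⟩) else 0) * Polynomial.X ^ p) i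
  have hb0 : b 0 = Polynomial.C (a 0) * Polynomial.X ^ p := rfl
  have hbs : ∀ j (h : j + 1 < n + 1), b (j + 1) = b j ^ p + Polynomial.C (a ⟨j + 1, h⟩) * Polynomial.X ^ p := by
    intro j h
    show b j ^ p + (if h : j + 1 < n + 1 then Polynomial.C (a ⟨j + 1, h⟩) else 0) * Polynomial.X ^ p = _
    rw [dif_pos h]
  have hX : ∀ j, j ≤ n → Polynomial.X ^ 2 ∣ b j := by
    intro j
    induction j with
    | zero => exact fun _ => hb0 ▸ Dvd.dvd.mul_left (pow_dvd_pow _ hpp.two_le) _
    | succ j ih =>
      intro hj
      rw [hbs j (by omega)]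
      exact dvd_add ((ih (by omega)).trans (dvd_pow_self _ hpp.ne_zero))
        (Dvd.dvd.mul_left (pow_dvd_pow _ hpp.two_le) _)
  have hdeg : ∀ j, j ≤ n → (∀ i : Fin (n + 1), (i : ℕ) ≤ j → a i = 0) ∨ b j ≠ 0 := by
    intro j
    induction j with
    | zero =>
      intro _
      by_cases h : a 0 = 0
      · left; intro i hi
        rwa [show i = 0 from Fin.ext (Nat.le_zero.mp hi)]
      · right; rw [hb0]; exact mul_ne_zero (by simpa using h) (pow_ne_zero _ Polynomial.X_ne_zero)
    | succ j ih =>
      intro hj
      rcases eq_or_ne (b j) 0 with hbj | hbj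
      · by_cases h : a ⟨j + 1, by omega⟩ = 0
        · left
          intro i hi
          rcases hi.eq_or_lt with hi | hi
          · rwa [show i = ⟨j + 1, by omega⟩ from Fin.ext hi]
          · rcases ih (by omega) with h' | h'
            · exact h' i (by omega)
            · exact absurd hbj h'
        · right
          rw [hbs j (by omega), hbj, zero_pow hpp.ne_zero, zero_add]
          exact mul_ne_zero (by simpa using h) (pow_ne_zero _ Polynomial.X_ne_zero)
      · right
        rw [hbs j (by omega)]
        intro h0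
        have := congrArg Polynomial.natDegree (eq_neg_of_add_eq_zero_left h0)
        rw [Polynomial.natDegree_pow, Polynomial.natDegree_neg] at this
        have h2 := Polynomial.natDegree_C_mul_le (a ⟨j + 1, by omega⟩) ((Polynomial.X : Polynomial k) ^ p)
        rw [Polynomial.natDegree_X_pow] at h2
        have h3 : 2 ≤ (b j).natDegree := by
          have := Polynomial.natDegree_le_of_dvd (hX j (by omega)) hbj
          rwa [Polynomial.natDegree_X_pow] at this
        have := hpp.two_le
        nlinarith
  obtain ⟨Q, hQ⟩ := hX n le_rfl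
  have hQ0 : Q ≠ 0 := by
    rintro rfl
    rcases hdeg n le_rfl with h | h
    · exact hall fun i => h i (by omega)
    · exact h (by simpa using hQ)
  have hd : (Polynomial.X * Q - 1).natDegree = 1 + Q.natDegree := by
    rw [← Polynomial.C_1, Polynomial.natDegree_sub_C, Polynomial.natDegree_X_mul hQ0, add_comm]
  obtain ⟨t, ht⟩ := IsAlgClosed.exists_root (Polynomial.X * Q - 1) (by
    intro h
    have := Polynomial.natDegree_eq_zero_iff_degree_le_zero.mpr h.le
    omega)
  have htn : (b n).eval t = t := by
    have : t * Q.eval t = 1 := by simpa [Polynomial.IsRoot, sub_eq_zero] using ht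
    rw [hQ, Polynomial.eval_mul, Polynomial.eval_pow, Polynomial.eval_X, pow_two, mul_assoc, this, mul_one]
  have ht0 : t ≠ 0 := by
    rintro rfl
    simp [Polynomial.IsRoot] at ht
  let β : Fin (n + 1) → k := fun i => (b (i : ℕ)).eval t
  let v := ∑ i : Fin (n + 1), β i • u ^ (p ^ (i : ℕ))
  refine ⟨v, Submodule.sum_mem _ fun i _ => g.smul_mem _ (hug _), fun hv => hmin n (Nat.lt_succ_self n) ?_, 1, ?_⟩
  · simp only [v, Fin.sum_univ_castSucc, Fin.val_last, β, htn] at hv
    rw [add_comm, ← eq_neg_iff_add_eq_zero] at hv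
    have : u ^ (p ^ n) = t⁻¹ • (- ∑ i : Fin n, (b (i : ℕ)).eval t • u ^ (p ^ (i : ℕ))) := by
      simp only [Fin.val_castSucc] at hv
      rw [← hv, smul_smul, inv_mul_cancel₀ ht0, one_smul]
    rw [this]
    exact Submodule.smul_mem _ _ (Submodule.neg_mem _ (Submodule.sum_mem _ fun i _ =>
      Submodule.smul_mem _ _ (Submodule.subset_span ⟨i, rfl⟩)))
  · let Pv : Polynomial k := ∑ i : Fin (n + 1), Polynomial.C (β i) * Polynomial.X ^ (p ^ (i : ℕ))
    have hv : v = Polynomial.aeval u Pv := by
      simp [v, Pv, Algebra.smul_def]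
    have hp' : Pv ^ p = ∑ i : Fin (n + 1), Polynomial.C (β i ^ p) * Polynomial.X ^ (p ^ ((i : ℕ) + 1)) := by
      rw [sum_pow_char]
      exact Finset.sum_congr rfl fun i _ => by rw [mul_pow, ← map_pow, ← pow_mul, ← pow_succ]
    have hv' : v ^ p = ∑ i : Fin (n + 1), β i ^ p • u ^ (p ^ ((i : ℕ) + 1)) := by
      rw [hv, ← map_pow, hp']
      simp [Algebra.smul_def]
    have hb' : ∀ i : Fin n, β i.castSucc ^ p = β i.succ - a i.succ * t ^ p := by
      intro i
      simp only [β, Fin.val_succ, Fin.val_castSucc, hbs (i : ℕ) (by omega), Polynomial.eval_add,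
        Polynomial.eval_pow, Polynomial.eval_mul, Polynomial.eval_C, Polynomial.eval_X]
      exact (add_sub_cancel_right _ _).symm
    have hb0' : β 0 = a 0 * t ^ p := by simp [β, hb0]
    have hsum1 : v = β 0 • u ^ (p ^ 0) + ∑ i : Fin n, β i.succ • u ^ (p ^ ((i : ℕ) + 1)) := by
      simp [v, Fin.sum_univ_succ]
    have hlast : β (Fin.last n) = t := by simp [β, htn]
    rw [one_smul, hv', Fin.sum_univ_castSucc, hlast, hsum1, hb0']
    simp only [Fin.val_castSucc, hb', Fin.val_last]
    rw [← ha, Fin.sum_univ_succ]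
    simp only [Fin.val_zero, Fin.val_succ]
    simp only [sub_smul, Finset.sum_sub_distrib, smul_add, Finset.smul_sum, smul_smul, mul_comm (t ^ p)]
    abel

end Groth.Agent.S17325
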