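import Groth.Statements.S17326
import Groth.Agent.CAlg.FiniteAlgClosed

set_option autoImplicit false
universe u v
open CAlg

namespace Groth.Agent.S17326

/-- Let k be an algebraically closed field of characteristic p > 0, A a commutative k-algebra which is
finite-dimensional as a k-vector space (a finite k-scheme X), and n ≥ 1. The n-th iterated relative
Frobenius morphism X → X^(p^n) is an isomorphism if and only if X is reduced; on rings: the map a ↦
a^(p^n) of A to itself (which is the ring homomorphism underlying the relative Frobenius, the twist
A^(p^n) having the same underlying ring as A) is bijective if and only if A is reduced. -/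
theorem result (k : Type u) [Field k] [IsAlgClosed k]
    (p : ℕ) [Fact p.Prime] [CharP k p] (A : Type v) [CommRing A] [Algebra k A] [Module.Finite k A]
    (n : ℕ) (hn : 1 ≤ n) :
    Function.Bijective (fun a : A => a ^ p ^ n) ↔ IsReduced A := by
  constructor
  · intro h
    refine isReduced_iff _ |>.2 fun x ⟨N, hN⟩ => ?_
    have hq : 1 < p ^ n := Nat.one_lt_pow (by omega) (Nat.Prime.one_lt Fact.out)
    have hinj : Function.Injective (fun a : A => a ^ p ^ n)^[N] := h.1.iterate N
    apply hinj
    have e : ∀ (N : ℕ) (y : A), (fun a : A => a ^ p ^ n)^[N] y = y ^ (p ^ n) ^ N := by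
      intro N y
      rw [pow_iterate]
    rw [e, e]
    have h1 : N ≤ (p ^ n) ^ N := (Nat.lt_pow_self hq).le
    rw [pow_eq_zero_of_le h1 hN, zero_pow (by positivity)]
  · intro hr
    have hs := Groth.Agent.CAlg.FiniteAlgClosed.eval_surjective k A
    have hk : Function.Injective (AlgHom.pi (R := k) (fun f : A →ₐ[k] k => f)) := by
      rw [← RingHom.coe_coe, RingHom.injective_iff_ker_eq_bot]
      exact (Groth.Agent.CAlg.FiniteAlgClosed.ker_eval k A).trans (nilradical_eq_zero A)
    have hp : 0 < p := Nat.Prime.pos Fact.out
    constructor
    · intro a b hab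
      apply hk
      funext f
      have h1 : (f a) ^ p ^ n = (f b) ^ p ^ n := by rw [← map_pow, ← map_pow]; exact congrArg f hab
      exact iterateFrobenius_inj k p n h1
    · intro a
      choose r hr using fun f : A →ₐ[k] k => IsAlgClosed.exists_pow_nat_eq (f a) (pow_pos hp n)
      obtain ⟨b, hb⟩ := hs r
      refine ⟨b, hk ?_⟩
      funext f
      show f (b ^ p ^ n) = f a
      rw [map_pow, show f b = r f from congrFun hb f, hr]

end Groth.Agent.S17326
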