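import Groth.Statements.S17328
import Groth.Agent.FiniteGrp.Local

set_option autoImplicit false
universe u v
open Hopf

namespace Groth.Agent.S17328

section
variable (k : Type u) [Field k] (p : ℕ) [Fact p.Prime] [CharP k p] (A : Type v) [CommRing A] [HopfAlgebra k A]
  [Module.Finite k A]

theorem finrank_eq (h1 : ∀ f : A, Bialgebra.counitAlgHom k A f = 0 → f ^ p = 0) :
    Module.finrank k A = p ^ Module.finrank k (RingHom.ker (Bialgebra.counitAlgHom k A)).Cotangent := by
  classical
  set ε := Bialgebra.counitAlgHom k A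
  obtain ⟨hl, d, x₀, D₀, hnil, hxM, hgen, hconst, hD⟩ := FiniteGrp.Local.exists_system (k := k) (⊥ : Ideal A)
    (fun a ha => by rw [(Submodule.mem_bot A).1 ha, map_zero])
    (fun a ha => by
      have hn : IsNilpotent (a - algebraMap k A (ε a)) := ⟨p, h1 _ (by simp [ε])⟩
      have hu : IsUnit (algebraMap k A (ε a)) := (Ne.isUnit ha).map _
      have := hn.isUnit_add_left_of_commute hu (Commute.all _ _)
      rw [add_sub_cancel] at this
      exact this.map _)
    (fun ξ h _ a ha => by rw [(Submodule.mem_bot A).1 ha, map_zero]; exact Submodule.zero_mem _)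
  let Q := A ⧸ (⊥ : Ideal A)
  let e : Q ≃ₐ[k] A := AlgEquiv.quotientBot k A
  have hM : ∀ q : Q, q ∈ IsLocalRing.maximalIdeal Q ↔ ε (e q) = 0 := by
    intro q
    rw [IsLocalRing.mem_maximalIdeal, mem_nonunits_iff]
    constructor
    · intro hq
      by_contra h0
      refine hq ?_
      obtain ⟨a, rfl⟩ := Ideal.Quotient.mk_surjective q
      change ε a ≠ 0 at h0
      have hn : IsNilpotent (a - algebraMap k A (ε a)) := ⟨p, h1 _ (by simp [ε])⟩
      have hu : IsUnit (algebraMap k A (ε a)) := (Ne.isUnit h0).map _
      have := hn.isUnit_add_left_of_commute hu (Commute.all _ _)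
      rw [add_sub_cancel] at this
      exact this.map _
    · intro h0 hu
      have := (hu.map e).map ε
      rw [h0] at this
      exact not_isUnit_zero this
  haveI : CharP Q p := FiniteGrp.Local.charP_alg (k := k) p
  let S : Subalgebra k Q := ⊥
  have hxS : ∀ i, x₀ i ^ p ∈ S := fun i => by
    have h0 : e (x₀ i ^ p) = 0 := by rw [map_pow]; exact h1 _ ((hM _).1 (hxM i))
    rw [(map_eq_zero_iff e e.injective).1 h0]
    exact S.zero_mem
  have hspan := FiniteGrp.Monomials.span_mon_eq_top S _ (Fact.out : p.Prime).pos x₀ hnil hxM hgen hconst hxS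
  have hspan' : Submodule.span k (Set.range (fun α : Fin d → Fin p => FiniteGrp.Monomials.mon x₀ α)) = ⊤ := by
    rw [eq_top_iff]
    intro q hqtop
    clear hqtop
    have hq : q ∈ Submodule.span S (Set.range (fun α : Fin d → Fin p => FiniteGrp.Monomials.mon x₀ α)) :=
      hspan ▸ Submodule.mem_top
    induction hq using Submodule.span_induction with
    | mem y hy => exact Submodule.subset_span hy
    | zero => exact Submodule.zero_mem _
    | add y z _ _ hy hz => exact Submodule.add_mem _ hy hz
    | smul c y _ hy =>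
      obtain ⟨c', hc'⟩ := Algebra.mem_bot.1 c.2
      rw [Subalgebra.smul_def, ← hc', smul_eq_mul, ← Algebra.smul_def]
      exact Submodule.smul_mem _ _ hy
  have hN : ∀ m : ℕ, 0 < m → m < p → (m : Q) ∉ IsLocalRing.maximalIdeal Q := by
    intro m hm hmp
    rw [hM, map_natCast, map_natCast, CharP.cast_eq_zero_iff k p]
    exact Nat.not_dvd_of_pos_of_lt hm hmp
  have hli : LinearIndependent k (fun α : Fin d → Fin p => FiniteGrp.Monomials.mon x₀ α) := by
    rw [Fintype.linearIndependent_iff]
    intro g hg i
    have := FiniteGrp.Monomials.eq_zero_of_sum_eq_zero x₀ D₀ hxM hD hN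
      (fun α => algebraMap k Q (g α)) (fun j α => (D₀ j).map_algebraMap _)
      (by simpa [Algebra.smul_def] using hg)
    simpa using congrFun this i
  have hfr : Module.finrank k A = p ^ d := by
    rw [← e.toLinearEquiv.finrank_eq, Module.finrank_eq_card_basis (Module.Basis.mk hli hspan'.ge),
      Fintype.card_fun, Fintype.card_fin, Fintype.card_fin]
  rw [hfr]
  congr 1
  let I := RingHom.ker ε
  have hxI : ∀ i, e (x₀ i) ∈ I := fun i => (hM _).1 (hxM i)
  let f : (Fin d → k) →ₗ[k] I.Cotangent :=
    Fintype.linearCombination k fun i => I.toCotangent ⟨e (x₀ i), hxI i⟩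
  have hf : ∀ c, f c = ∑ i, c i • I.toCotangent ⟨e (x₀ i), hxI i⟩ := fun c => by
    simp [f, Fintype.linearCombination_apply]
  have hsm : ∀ (r : k) (z : I), r • I.toCotangent z = I.toCotangent (algebraMap k A r • z) := fun r z => by
    rw [map_smul, algebraMap_smul]
  have hfinj : Function.Injective f := by
    rw [injective_iff_map_eq_zero]
    intro c hc
    rw [hf] at hc
    simp only [hsm, ← map_sum] at hc
    rw [Ideal.toCotangent_eq_zero] at hc
    simp only [AddSubmonoidClass.coe_finsetSum, Submodule.coe_smul, smul_eq_mul] at hc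
    funext j
    have hq : (∑ i, algebraMap k Q (c i) * x₀ i) ∈ IsLocalRing.maximalIdeal Q ^ 2 := by
      have hmap : Ideal.map (e.symm : A →+* Q) (I ^ 2) ≤ IsLocalRing.maximalIdeal Q ^ 2 := by
        rw [Ideal.map_pow]
        refine Ideal.pow_right_mono ?_ 2
        rw [Ideal.map_le_iff_le_comap]
        intro a ha
        rw [Ideal.mem_comap, hM]
        show ε (e (e.symm a)) = 0
        rw [AlgEquiv.apply_symm_apply]
        exact ha
      have := hmap (Ideal.mem_map_of_mem (e.symm : A →+* Q) hc)
      simpa using this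
    have hDq : D₀ j (∑ i, algebraMap k Q (c i) * x₀ i) ∈ IsLocalRing.maximalIdeal Q := by
      have := FiniteGrp.Monomials.deriv_mem_pow (D₀ j) (IsLocalRing.maximalIdeal Q) 1 _ hq
      simpa using this
    rw [map_sum] at hDq
    have key : algebraMap k Q (c j) ∈ IsLocalRing.maximalIdeal Q := by
      have hdiff : (∑ i, D₀ j (algebraMap k Q (c i) * x₀ i)) - algebraMap k Q (c j) ∈ IsLocalRing.maximalIdeal Q := by
        have heq : (∑ i, D₀ j (algebraMap k Q (c i) * x₀ i)) - algebraMap k Q (c j) =
            ∑ i, algebraMap k Q (c i) * (D₀ j (x₀ i) - (if j = i then 1 else 0)) := by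
          have hl' : ∀ i, D₀ j (algebraMap k Q (c i) * x₀ i) = algebraMap k Q (c i) * D₀ j (x₀ i) := fun i => by
            rw [(D₀ j).leibniz, (D₀ j).map_algebraMap, smul_zero, add_zero, smul_eq_mul]
          simp [mul_sub, Finset.sum_sub_distrib, hl']
        rw [heq]
        exact Ideal.sum_mem _ fun i _ => Ideal.mul_mem_left _ _ (hD j i)
      have := Ideal.sub_mem _ hDq hdiff
      rwa [sub_sub_cancel] at this
    rw [hM, AlgEquiv.commutes, AlgHom.commutes] at key
    simpa using key
  have hfsurj : Function.Surjective f := by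
    intro z
    obtain ⟨⟨a, ha⟩, rfl⟩ := I.toCotangent_surjective z
    have hq : e.symm a ∈ IsLocalRing.maximalIdeal Q := by
      rw [hM, AlgEquiv.apply_symm_apply]; exact ha
    obtain ⟨w, hw⟩ := Ideal.mem_span_range_iff_exists_fun.mp (hgen hq)
    refine ⟨fun i => ε (e (w i)), ?_⟩
    rw [hf]
    simp only [hsm, ← map_sum]
    rw [Ideal.toCotangent_eq]
    simp only [AddSubmonoidClass.coe_finsetSum, Submodule.coe_smul, smul_eq_mul]
    rw [show a = ∑ i, e (w i) * e (x₀ i) by rw [← AlgEquiv.apply_symm_apply e a, ← hw, map_sum]; simp,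
      ← Finset.sum_sub_distrib]
    refine Ideal.sum_mem _ fun i _ => ?_
    rw [← sub_mul, pow_two]
    exact Ideal.mul_mem_mul (by simp [I, ε, RingHom.mem_ker]) (hxI i)
  have := (LinearEquiv.ofBijective f ⟨hfinj, hfsurj⟩).finrank_eq
  rwa [Module.finrank_pi, Fintype.card_fin] at this

end

/-- Let k be an algebraically closed field of characteristic p > 0 and A a commutative Hopf algebra over
k, finite-dimensional as a k-vector space, with augmentation ideal I (kernel of the counit), such
that f^p = 0 for every f ∈ I (the finite group scheme G = Spec A is infinitesimal of height at most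
one: A is then a local ring with maximal ideal I). Then the order of G is dim_k A = p^n where n =
dim_k I/I² is the dimension of the Lie algebra of G. -/
theorem result (k : Type u) [Field k] [IsAlgClosed k]
    (p : ℕ) [Fact p.Prime] [CharP k p] (A : Type v) [CommRing A] [HopfAlgebra k A] [Module.Finite k A]
    (h1 : ∀ f : A, Bialgebra.counitAlgHom k A f = 0 → f ^ p = 0) :
    Module.finrank k A = p ^ Module.finrank k (RingHom.ker (Bialgebra.counitAlgHom k A)).Cotangent := by
  exact finrank_eq k p A h1

end Groth.Agent.S17328
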