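import Groth.Statements.S17329
import Groth.Agent.CartKit.QuotRank

set_option autoImplicit false
universe u v
open scoped TensorProduct
open Hopf

namespace Groth.Agent.S17329

/-- Let k be an algebraically closed field, A a commutative Hopf algebra over k which is
finite-dimensional as a k-vector space (a finite group scheme G = Spec A), and I a Hopf ideal of A
(a subgroup scheme H = Spec (A/I) of G, of order dim_k (A/I)). Let B ⊆ A be the k-subalgebra of
functions invariant under right multiplication by H: the equaliser of the two algebra maps A → A ⊗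
(A/I), a ↦ (id ⊗ π)(Δ a) and a ↦ a ⊗ 1, so that Spec B is the quotient G/H. Then the quotient
morphism G → G/H is finite locally free of rank |H|: A is a free B-module of rank dim_k (A/I) (B
being a finite product of local rings, locally free of constant rank is the same as free of that
rank). -/
theorem result (k : Type u) [Field k] [IsAlgClosed k]
    (A : Type v) [CommRing A] [HopfAlgebra k A] [Module.Finite k A] (I : Ideal A) [I.IsHopfIdeal k] :
    Module.Free
        ↥(AlgHom.equalizer
          ((Algebra.TensorProduct.map (AlgHom.id k A) (Ideal.Quotient.mkₐ k I)).comp (Bialgebra.comulAlgHom k A))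
          (Algebra.TensorProduct.includeLeft : A →ₐ[k] A ⊗[k] (A ⧸ I))) A ∧
      Module.finrank
        ↥(AlgHom.equalizer
          ((Algebra.TensorProduct.map (AlgHom.id k A) (Ideal.Quotient.mkₐ k I)).comp (Bialgebra.comulAlgHom k A))
          (Algebra.TensorProduct.includeLeft : A →ₐ[k] A ⊗[k] (A ⧸ I))) A =
        Module.finrank k (A ⧸ I) := by
  have : Module.Finite k (A ⧸ I) :=
    Module.Finite.of_surjective (Ideal.Quotient.mkₐ k I).toLinearMap Ideal.Quotient.mk_surjective
  obtain ⟨hfin, hproj, hff, -⟩ := Groth.Agent.CartKit.Quot.main (R := k) I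
  let C := Groth.Agent.CartKit.Quot.coinv (R := k) I
  have : Nontrivial A := Function.Surjective.nontrivial
    (f := Bialgebra.counitAlgHom k A) fun r => ⟨algebraMap k A r, AlgHom.commutes _ r⟩
  have : Nontrivial C := ⟨0, 1, fun h => zero_ne_one (congrArg Subtype.val h : (0 : A) = 1)⟩
  obtain ⟨hC, -⟩ := Groth.Agent.CartKit.Quot.finite_projective_coinv (R := k) I
  have : IsArtinianRing C := IsArtinianRing.of_finite k C
  exact Groth.Agent.CartKit.Quot.free_of_rank (S := C) (M := A) _ fun P => by
    rw [Groth.Agent.CartKit.Quot.rankAtStalk_coinv, Module.rankAtStalk_eq_finrank_of_free]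
    rfl

end Groth.Agent.S17329
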