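import Groth.Statements.S17331
import Groth.Agent.H85.SubgrpMuAlpha
import Groth.Agent.FiniteGrp.Order

set_option autoImplicit false
universe u v
open Hopf

namespace Groth.Agent.S17331

open WithConv TensorProduct Groth.Agent.FiniteGrp

variable {k : Type u} [Field k] {A : Type v} [CommRing A] [HopfAlgebra k A]

/-- evaluation at the points indexed by a finite group -/
noncomputable def evHom {G : Type*} [Group G] [Fintype G] [DecidableEq G]
    (e : G ≃* WithConv (A →ₐ[k] k)) : A →ₐc[k] ConstGrp.F k G :=
  let f₀ : A →ₐ[k] ConstGrp.F k G := AlgHom.comp (ConstGrp.equivFun (R := k) (G := G)).symm.toAlgHom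
    (Pi.algHom k (fun _ : G => k) fun g => (e g).ofConv)
  BialgHom.ofAlgHom f₀
    (by
      ext a
      show ((e 1).ofConv) a = Bialgebra.counitAlgHom k A a
      rw [map_one]
      simp [AlgHom.convOne_def])
    (by
      ext a
      show TensorProduct.map f₀.toLinearMap f₀.toLinearMap (Coalgebra.comul (R := k) a) =
        Coalgebra.comul (R := k) (f₀ a)
      have h : ∀ u : A ⊗[k] A, TensorProduct.map f₀.toLinearMap f₀.toLinearMap u =
          ∑ g : G, ∑ h : G,
            (LinearMap.mul' k k (TensorProduct.map (e g).ofConv.toLinearMap (e h).ofConv.toLinearMap u)) •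
              (ConstGrp.e k g ⊗ₜ[k] ConstGrp.e k h) := by
        intro u
        induction u using TensorProduct.induction_on with
        | zero => simp
        | add u w hu hw => simp only [map_add, hu, hw, add_smul, Finset.sum_add_distrib]
        | tmul x y =>
          rw [TensorProduct.map_tmul]
          conv_lhs => rw [ConstGrp.eq_sum_smul_e (f₀.toLinearMap x),
            ConstGrp.eq_sum_smul_e (f₀.toLinearMap y)]
          rw [sum_tmul]
          refine Finset.sum_congr rfl fun g _ => ?_
          rw [tmul_sum]
          refine Finset.sum_congr rfl fun h _ => ?_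
          rw [smul_tmul_smul]
          rfl
      rw [h, ConstGrp.comul_eq_sum]
      refine Finset.sum_congr rfl fun g _ => Finset.sum_congr rfl fun h _ => ?_
      congr 1
      show _ = (e (g * h)).ofConv a
      rw [map_mul, AlgHom.convMul_apply]
      show _ = _
      generalize Coalgebra.comul (R := k) a = u
      induction u using TensorProduct.induction_on with
      | zero => simp
      | add u w hu hw => simp only [map_add, hu, hw]
      | tmul x y => simp)

theorem evHom_apply {G : Type*} [Group G] [Fintype G] [DecidableEq G]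
    (e : G ≃* WithConv (A →ₐ[k] k)) (a : A) (g : G) : evHom e a g = (e g).ofConv a := rfl

variable [IsAlgClosed k] [Module.Finite k A]

theorem evHom_injective {G : Type*} [Group G] [Fintype G] [DecidableEq G]
    (e : G ≃* WithConv (A →ₐ[k] k)) [IsReduced A] : Function.Injective (evHom e) := by
  refine (injective_iff_map_eq_zero _).mpr fun a ha => ?_
  haveI : IsArtinianRing A := IsArtinianRing.of_finite k A
  refine IsReduced.eq_zero a (mem_nilradical.mp ?_)
  rw [nilradical_eq_sInf, Ideal.mem_sInf]
  intro P hP
  haveI : P.IsPrime := hP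
  obtain ⟨g, hg⟩ := Order.exists_point (k := k) P inferInstance
  have h1 : RingHom.ker g = P := by
    refine ((inferInstance : P.IsMaximal).eq_of_le ?_ fun x hx => ?_).symm
    · exact (RingHom.ker_ne_top _)
    · exact hg x hx
  rw [← h1, RingHom.mem_ker]
  have h2 := congrFun ha (e.symm (toConv g))
  rw [evHom_apply, MulEquiv.apply_symm_apply] at h2
  exact h2

theorem evHom_surjective {G : Type*} [Group G] [Fintype G] [DecidableEq G]
    (e : G ≃* WithConv (A →ₐ[k] k)) : Function.Surjective (evHom e) := by
  let L : A →ₗ[k] (G → k) := LinearMap.pi fun g => (e g).ofConv.toLinearMap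
  show Function.Surjective L
  rw [← LinearMap.dualMap_injective_iff]
  refine (injective_iff_map_eq_zero _).mpr fun c hc => ?_
  have hli : LinearIndependent k (fun g : G => (e g).ofConv.toLinearMap) := by
    refine LinearIndependent.of_comp (LinearMap.ltoFun k A k k) ?_
    exact (linearIndependent_monoidHom A k).comp (fun g : G => ((e g).ofConv : A →* k))
      (fun f g hfg => e.injective (WithConv.ofConv_injective
        (AlgHom.ext fun a => DFunLike.congr_fun hfg a)))
  have h0 := Fintype.linearIndependent_iff.mp hli (fun g => c (Pi.single g 1)) (by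
    ext a
    have h2 : c (L a) = 0 := LinearMap.congr_fun hc a
    rw [show L a = ∑ g : G, (e g).ofConv a • Pi.single g (1 : k) from pi_eq_sum_univ' (L a),
      map_sum] at h2
    simpa [LinearMap.sum_apply, mul_comm] using h2)
  refine (Pi.basisFun k G).ext fun g => ?_
  simpa [Pi.basisFun_apply] using h0 g

theorem finrank_muAlg (p : ℕ) [Fact p.Prime] :
    Module.finrank k (MonoidAlgebra k (Multiplicative (ZMod p))) = p := by
  rw [Module.finrank_eq_card_basis (MonoidAlgebra.basis (Multiplicative (ZMod p)) k),
    Fintype.card_multiplicative, ZMod.card]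

theorem main (p : ℕ) [Fact p.Prime] [CharP k p] (ℓ : ℕ) [Fact ℓ.Prime] (hA : Module.finrank k A = ℓ) :
    Nonempty (A ≃ₐc[k] ConstGrp.F k (Multiplicative (ZMod ℓ))) ∨
      (ℓ = p ∧ (Nonempty (A ≃ₐc[k] MonoidAlgebra k (Multiplicative (ZMod p))) ∨
        Nonempty (A ≃ₐc[k] AlphaP.A p k))) := by
  classical
  have hℓ : ℓ.Prime := Fact.out
  haveI := Order.finite_points (k := k) (A := A)
  haveI := Fintype.ofFinite (WithConv (A →ₐ[k] k))
  obtain ⟨e₀, he, hε, hg0⟩ := Order.exists_idem (k := k) (A := A)
  have hcard := Order.finrank_eq_card_mul he hε hg0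
  rw [hA] at hcard
  rcases hℓ.eq_one_or_self_of_dvd _ (Dvd.intro _ hcard.symm) with hc | hc
  · refine Or.inr ?_
    have hone : (1 : WithConv (A →ₐ[k] k)).ofConv = Bialgebra.counitAlgHom k A := by
      ext a; simp [AlgHom.convOne_def]
    have hloc : ∀ a, Bialgebra.counitAlgHom k A a ≠ 0 → IsUnit (a * e₀ + (1 - e₀)) := by
      intro a ha
      refine Order.isUnit_of_points (k := k) fun g => ?_
      rw [map_add, map_mul, map_sub, map_one]
      by_cases h : toConv g = 1
      · have hg : g = Bialgebra.counitAlgHom k A := by rw [← hone, ← h]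
        subst hg
        rw [hε]
        simpa using ha
      · have := hg0 (toConv g) h
        simp only [WithConv.ofConv_toConv] at this
        rw [this]
        simp
    obtain ⟨v, hv⟩ := Local.finrank_pow he hε hloc p
    rw [hc, one_mul, hv] at hcard
    have hℓp : ℓ = p := ((Nat.prime_dvd_prime_iff_eq hℓ Fact.out).mp
      (hℓ.dvd_of_dvd_pow (dvd_of_eq hcard)))
    refine ⟨hℓp, ?_⟩
    have hred : ¬ IsReduced A := by
      intro h
      have hinj := evHom_injective (MulEquiv.refl (WithConv (A →ₐ[k] k)))
      have := LinearMap.finrank_le_finrank_of_injective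
        (f := LinearMap.pi fun g : WithConv (A →ₐ[k] k) => g.ofConv.toLinearMap) hinj
      rw [hA, Module.finrank_pi, ← Nat.card_eq_fintype_card, hc] at this
      exact absurd hℓ.one_lt (not_lt.mpr this)
    rcases Groth.Agent.H85.SubgrpMuAlpha.main (k := k) p A hred with ⟨f, hf⟩ | ⟨f, hf⟩
    · haveI : Module.Finite k (MonoidAlgebra k (Multiplicative (ZMod p))) :=
        Module.Finite.of_basis (MonoidAlgebra.basis (Multiplicative (ZMod p)) k)
      refine Or.inl ⟨BialgEquiv.ofBijective f ⟨?_, hf⟩⟩
      exact (LinearMap.injective_iff_surjective_of_finrank_eq_finrank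
        (f := (f : A →ₗ[k] MonoidAlgebra k (Multiplicative (ZMod p))))
        (by rw [hA, finrank_muAlg, hℓp])).mpr hf
    · refine Or.inr ⟨BialgEquiv.ofBijective f ⟨?_, hf⟩⟩
      exact (LinearMap.injective_iff_surjective_of_finrank_eq_finrank
        (f := (f : A →ₗ[k] AlphaP.A p k)) (by rw [hA, AlphaP.finrank_eq, hℓp])).mpr hf
  · refine Or.inl ?_
    let e : Multiplicative (ZMod ℓ) ≃* WithConv (A →ₐ[k] k) :=
      mulEquivOfPrimeCardEq (p := ℓ) (by simp) hc
    have hsurj := evHom_surjective e
    refine ⟨BialgEquiv.ofBijective (evHom e) ⟨?_, hsurj⟩⟩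
    exact (LinearMap.injective_iff_surjective_of_finrank_eq_finrank
      (f := LinearMap.pi fun g => (e g).ofConv.toLinearMap)
      (by rw [hA, Module.finrank_pi, Fintype.card_multiplicative, ZMod.card])).mpr hsurj

/-- Let k be an algebraically closed field of characteristic p > 0, ℓ a prime, and A a commutative Hopf
algebra over k of dimension ℓ as a k-vector space (a finite group scheme G of prime order ℓ). If ℓ ≠
p then G ≅ ℤ/ℓ: A is isomorphic as a bialgebra to the algebra of k-valued functions on the cyclic
group of order ℓ. If ℓ = p then G is isomorphic to ℤ/p, μ_p or α_p: A is isomorphic as a bialgebra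
to the algebra of functions on the cyclic group of order p, to its group algebra (group elements
group-like), or to k[X]/(X^p) with X primitive. -/
theorem result (k : Type u) [Field k] [IsAlgClosed k]
    (p : ℕ) [Fact p.Prime] [CharP k p] (A : Type v) [CommRing A] [HopfAlgebra k A]
    (ℓ : ℕ) [Fact ℓ.Prime] (hA : Module.finrank k A = ℓ) :
    (ℓ ≠ p → Nonempty (A ≃ₐc[k] ConstGrp.F k (Multiplicative (ZMod ℓ)))) ∧
      (ℓ = p → Nonempty (A ≃ₐc[k] ConstGrp.F k (Multiplicative (ZMod p))) ∨
        Nonempty (A ≃ₐc[k] MonoidAlgebra k (Multiplicative (ZMod p))) ∨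
        Nonempty (A ≃ₐc[k] AlphaP.A p k)) := by
  haveI : Module.Finite k A := Module.finite_of_finrank_pos (by rw [hA]; exact (Fact.out : ℓ.Prime).pos)
  rcases main p ℓ hA with h | ⟨hℓp, h⟩
  · refine ⟨fun _ => h, ?_⟩
    rintro rfl
    exact Or.inl h
  · exact ⟨fun hne => absurd hℓp hne, fun _ => Or.inr h⟩

end Groth.Agent.S17331
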