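import Groth.Statements.S17332
import Mathlib

set_option autoImplicit false
universe u v w
open CAlg

namespace Groth.Agent.S17332

/-- Let k be a field, E and F finite sets, and O(E), O(F) the k-algebras of k-valued functions with
pointwise operations. Then every k-algebra homomorphism u : O(F) → O(E) is pull-back along a unique
map φ : E → F, i.e. u(g) = g ∘ φ for all g. (In the source k is algebraically closed; the printed
argument only uses that k is a field.) -/
theorem result (k : Type u) [Field k] (E : Type v) [Finite E]
    (F : Type w) [Finite F] (u : (F → k) →ₐ[k] (E → k)) :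
    ∃! φ : E → F, ∀ g : F → k, u g = g ∘ φ := by
  classical
  haveI := Fintype.ofFinite F
  have h : ∀ x : E, ∃! y : F, ∀ g : F → k, u g x = g y := by
    intro x
    have h1 : ∑ y, u (Pi.single y 1) x = 1 := by
      have : (∑ y, Pi.single y (1 : k)) = (1 : F → k) := by
        ext z; simp [Finset.sum_pi_single']
      have h2 := congrFun (congrArg u this) x
      rw [map_sum, Finset.sum_apply, map_one] at h2
      exact h2
    obtain ⟨y, hy⟩ : ∃ y, u (Pi.single y 1) x ≠ 0 := by
      by_contra! hc
      simp [hc] at h1
    have key : ∀ g, u g x = g y := by
      intro g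
      have h3 : g * Pi.single y 1 = g y • Pi.single y (1 : k) := by
        ext z; by_cases hz : z = y <;> simp [hz]
      have h4 := congrFun (congrArg u h3) x
      rw [map_mul, map_smul, Pi.mul_apply, Pi.smul_apply, smul_eq_mul] at h4
      exact mul_right_cancel₀ hy h4
    refine ⟨y, key, fun z hz => ?_⟩
    by_contra hne
    exact hy (by rw [hz, Pi.single_eq_of_ne hne])
  choose φ hφ huniq using h
  exact ⟨φ, fun g => funext fun x => hφ x g, fun ψ hψ => funext fun x => huniq x _ fun g => congrFun (hψ g) x⟩

end Groth.Agent.S17332
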