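import Groth.Statements.S17333
import Mathlib

set_option autoImplicit false
universe u v w
open CAlg

namespace Groth.Agent.S17333

/-- Let k be a field and A = B × C a decomposable commutative k-algebra. Then the natural map Der(B) ×
Der(C) → Der(A) is bijective: every k-derivation D : A → A is (b, c) ↦ (D₁ b, D₂ c) for a unique
pair of k-derivations D₁ : B → B, D₂ : C → C. Compatibility with brackets is not stated. (The
published statement takes k algebraically closed; this row takes any field.) -/
theorem result (k : Type u) [Field k] (B : Type v) [CommRing B] [Algebra k B]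
    (C : Type w) [CommRing C] [Algebra k C] (D : Derivation k (B × C) (B × C)) :
    ∃! P : Derivation k B B × Derivation k C C, ∀ (b : B) (c : C), D (b, c) = (P.1 b, P.2 c) := by
  have he : D ((1, 0) : B × C) = 0 := by
    set e : B × C := (1, 0)
    have h1 : D e = e * D e + e * D e := by
      have h := D.leibniz e e
      rwa [show e * e = e by simp [e], smul_eq_mul] at h
    have h2 : e * D e = 0 := by
      have h3 := congrArg (e * ·) h1
      simp only [mul_add, ← mul_assoc, show e * e = e by simp [e]] at h3
      simpa using h3
    rw [h1, h2, add_zero]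
  have he' : D ((0, 1) : B × C) = 0 := by
    have h : ((0, 1) : B × C) = 1 - (1, 0) := Prod.ext (by simp) (by simp)
    rw [h, map_sub, Derivation.map_one_eq_zero, he, sub_zero]
  have hl : ∀ b : B, D (b, 0) = ((D (b, 0)).1, 0) := fun b => by
    have h := D.leibniz ((1, 0) : B × C) (b, 0)
    rw [show ((1, 0) : B × C) * (b, 0) = (b, 0) by simp, he, smul_zero, add_zero, smul_eq_mul] at h
    refine Prod.ext rfl ?_
    rw [h]; simp
  have hr : ∀ c : C, D (0, c) = (0, (D (0, c)).2) := fun c => by
    have h := D.leibniz ((0, 1) : B × C) (0, c)
    rw [show ((0, 1) : B × C) * (0, c) = (0, c) by simp, he', smul_zero, add_zero, smul_eq_mul] at h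
    refine Prod.ext ?_ rfl
    rw [h]; simp
  let D₁ : Derivation k B B := Derivation.mk'
    ((LinearMap.fst k B C).comp ((D : B × C →ₗ[k] B × C).comp (LinearMap.inl k B C))) (fun a b => by
      have h := D.leibniz ((a, 0) : B × C) (b, 0)
      simp only [Prod.mk_mul_mk, mul_zero, smul_eq_mul] at h
      simpa using congrArg Prod.fst h)
  let D₂ : Derivation k C C := Derivation.mk'
    ((LinearMap.snd k B C).comp ((D : B × C →ₗ[k] B × C).comp (LinearMap.inr k B C))) (fun a b => by
      have h := D.leibniz ((0, a) : B × C) (0, b)
      simp only [Prod.mk_mul_mk, mul_zero, smul_eq_mul] at h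
      simpa using congrArg Prod.snd h)
  refine ⟨(D₁, D₂), fun b c => ?_, fun P hP => ?_⟩
  · have h : D (b, c) = D (b, 0) + D (0, c) := by rw [← map_add]; simp
    rw [h, hl b, hr c]
    simp [D₁, D₂]
  · refine Prod.ext (Derivation.ext fun b => ?_) (Derivation.ext fun c => ?_)
    · have := congrArg Prod.fst (hP b 0)
      simpa [D₁] using this.symm
    · have := congrArg Prod.snd (hP 0 c)
      simpa [D₂] using this.symm

end Groth.Agent.S17333
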