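import Groth.Statements.S17334
import Mathlib

set_option autoImplicit false
universe u v
open CAlg

namespace Groth.Agent.S17334

/-- Let k be a field and A a nonzero commutative k-algebra which is finite-dimensional as a k-vector
space. Then A is indecomposable (no decomposition as a product of two nonzero rings, i.e. no
idempotent other than 0 and 1) if and only if A is a local ring. (In the source k is algebraically
closed and the lemma adds that the maximal ideal is then the nilradical, is nilpotent, and has
residue field k; the equivalence itself uses only that k is a field, and the zero algebra is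
excluded here explicitly.) -/
theorem result (k : Type u) [Field k]
    (A : Type v) [CommRing A] [Algebra k A] [Module.Finite k A] [Nontrivial A] :
    (∀ e : A, IsIdempotentElem e → e = 0 ∨ e = 1) ↔ IsLocalRing A := by
  constructor
  · intro h
    haveI : IsArtinianRing A := IsArtinianRing.of_finite k A
    refine IsLocalRing.of_isUnit_or_isUnit_one_sub_self fun a => ?_
    obtain ⟨n, x, hx⟩ := IsArtinian.exists_pow_succ_smul_dvd a (1 : A)
    simp only [smul_eq_mul, mul_one] at hx
    have h1 : ∀ i, a ^ n = a ^ (n + i) * x ^ i := by
      intro i
      induction i with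
      | zero => simp
      | succ i ih =>
        calc a ^ n = a ^ (n + i) * x ^ i := ih
          _ = a ^ i * (a ^ (n + 1) * x) * x ^ i := by rw [hx]; ring
          _ = a ^ (n + (i + 1)) * x ^ (i + 1) := by ring
    rcases h (a ^ n * x ^ n) (by
      show (a ^ n * x ^ n) * (a ^ n * x ^ n) = a ^ n * x ^ n
      calc _ = (a ^ (n + n) * x ^ n) * x ^ n := by ring
        _ = _ := by rw [← h1 n]) with h0 | h0
    · right
      refine IsNilpotent.isUnit_one_sub ⟨n, ?_⟩
      rw [h1 n, pow_add, mul_assoc, h0, mul_zero]
    · left
      rcases n with _ | m
      · simp only [Nat.succ_eq_add_one, pow_zero, zero_add, pow_one] at hx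
        exact IsUnit.of_mul_eq_one _ hx
      · exact IsUnit.of_mul_eq_one (a ^ m * x ^ (m + 1)) (by rw [← mul_assoc, ← pow_succ']; exact h0)
  · intro h e he
    rcases IsLocalRing.isUnit_or_isUnit_one_sub_self e with h1 | h1
    · right; exact (IsIdempotentElem.iff_eq_one_of_isUnit h1).1 he
    · left
      have h2 := (IsIdempotentElem.iff_eq_one_of_isUnit h1).1 he.one_sub
      simpa using h2

end Groth.Agent.S17334
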