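import Groth.Statements.S17337
import Groth.Agent.PLieLib.Exists
import Mathlib.LinearAlgebra.Dimension.Free
import Mathlib.LinearAlgebra.Basis.VectorSpace
import Mathlib.LinearAlgebra.Matrix.ToLin

set_option autoImplicit false
universe u v
open PLie
attribute [local instance 100] LieRing.ofAssociativeRing

namespace Groth.Agent.S17337

/-- Let k be a field of characteristic p > 0 and (L, x ↦ x^[p]) a finite-dimensional restricted Lie
algebra over k. Then L is isomorphic to a restricted Lie subalgebra of gl_n(k) for some n: there is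
an injective k-linear map e : L → M_n(k) with e[x, y] = e(x)e(y) − e(y)e(x) and e(x^[p]) = e(x)^p
for all x, y. (The published statement takes k algebraically closed; this row takes any field of
characteristic p.) -/
theorem result (k : Type u) [Field k] (p : ℕ) [Fact p.Prime] [CharP k p]
    (L : Type v) [LieRing L] [LieAlgebra k L] [Module.Finite k L] (φ : PLie.PMap k p L) :
    ∃ (n : ℕ) (e : L →ₗ[k] Matrix (Fin n) (Fin n) k), PLie.IsPSubOfAssoc φ e := by
  obtain ⟨W, i1, i2, ρ, hfin, hρ, hpow⟩ :=
    PLieLib.exists_finite_faithful (Module.finBasis k L) φ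
  let B := Module.finBasis k W
  let e' := LinearMap.toMatrixAlgEquiv B
  refine ⟨_, e'.toLinearMap ∘ₗ ρ.toLinearMap, e'.injective.comp hρ,
    fun x y => ?_, fun x => ?_⟩
  · change e' (ρ ⁅x, y⁆) = e' (ρ x) * e' (ρ y) - e' (ρ y) * e' (ρ x)
    rw [← map_mul e', ← map_mul e', ← map_sub e']
    exact congrArg e' (ρ.map_lie x y)
  · change e' (ρ (φ x)) = e' (ρ x) ^ p
    rw [hpow, map_pow]

end Groth.Agent.S17337
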