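import Groth.Statements.S17344
import Groth.Agent.NumTriv.PointLen
import Groth.Agent.PicLaw.Swap
import Groth.Agent.Snapper.Binom
import Groth.Agent.AmpCrit.SerreVan

set_option autoImplicit false
universe u
open CategoryTheory CategoryTheory.Limits AlgebraicGeometry
open AdjLin

namespace Groth.Agent.S17344

/-- Let k be an algebraically closed field of characteristic zero, X a smooth projective surface over k
(irreducible, proper, smooth of dimension 2, with an ample invertible module), L an ample invertible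
O_X-module with tensor inverse L⁻¹, and Z a finite set of closed points of X such that the
self-intersection number (L²), the alternating sum of Euler characteristics attached to two copies
of L⁻¹, exceeds 4 · #Z. Then for every sufficiently large m there is a non-zero global section of
(⋂_{z ∈ Z} m_z^(2m+1)) ⊗ L^{⊗m}: a divisor in the linear series of L^{⊗m} with multiplicity greater
than 2m at every point of Z. (In the source L is the ample determinant of a globally generated
rank-2 bundle E and Z the reduced zero set of a section of E, so that (L²) = c_1(E)² and #Z =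
c_2(E); the assertion is the dimension count under c_1(E)² > 4 c_2(E).) -/
theorem result (k : Type u) [Field k] [IsAlgClosed k] [CharZero k]
    (X : Scheme.{u}) [X.Over (Spec (CommRingCat.of k))] [IsProper (X ↘ (Spec (CommRingCat.of k)))]
    [Smooth (X ↘ (Spec (CommRingCat.of k)))] [IrreducibleSpace X] (hdim : topologicalKrullDim X = 2)
    (H : X.Modules) (hH : CohB1.IsAmple H)
    (L Linv : X.Modules) (hL : CohB1.IsAmple L) (hLinv : ClSub.IsInverseOf Linv L)
    (Z : Finset X) (hZ : ∀ z ∈ Z, IsClosed ({z} : Set X))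
    (hsq : 4 * (Z.card : ℤ) < FGA.intNum k X 2 (fun _ : Fin 2 => Linv) (Coh.structureModule X)) :
    ∃ m₀ : ℕ, ∀ m : ℕ, m₀ ≤ m →
      Nontrivial (Coh.HH X (CohB1.tensorMod
        (ClSub.idealMod (⨅ z : ↥Z, (W4c2seshadripos.pointIdeal (z : X) (hZ z z.2)) ^ (2 * m + 1)))
        (CohB1.tensorPow L m)) 0) := by
  haveI := EulerChar.isNoetherian k (X := X)
  have hO := ProperFin.isCoh_structureModule X
  have e : CohB1.tensorMod L Linv ≅ Coh.structureModule X := ProjTwist.tensComm L Linv ≪≫ hLinv.some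
  have hI : PicF.IsInvertible Linv := PicLaw.isInvertible_of_tensor_left hL.1
    (PicCl.isInvertible_of_iso e.symm (LFFrame.isInvertible_structureModule X))
  have hd : topologicalKrullDim ↥(CohB1.support (Coh.structureModule X)) ≤ ((2 : ℕ) : WithBot ℕ∞) :=
    EulerChar.dim_support_le (le_of_eq hdim)
  obtain ⟨m₀, hm₀⟩ := AmpCrit.SerreVan.serre_vanishing (X ↘ Spec (CommRingCat.of k)) hL (Coh.structureModule X) hO
  rw [Snapper.intNum_eq k (le_of_eq hdim)] at hsq
  set I₀ := Snapper.intE k (fun _ : Fin 0 => Linv) (Coh.structureModule X)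
  set I₁ := Snapper.intE k (fun _ : Fin 1 => Linv) (Coh.structureModule X)
  set I₂ := Snapper.intE k (fun _ : Fin 2 => Linv) (Coh.structureModule X)
  refine ⟨m₀ + 2 + (2 * Z.card + 2 * I₀.natAbs + 2 * I₁.natAbs + 6 * Z.card + 2), fun m hm => ?_⟩
  have hT : PicF.IsInvertible (CohB1.tensorPow L m) := AmpleLib.isInvertible_tensorPow hL.1 m
  have hχ := Snapper.euler_tensorPow_eq k hL.1 hI e 2 m hO hd
  rw [Finset.sum_range_succ, Finset.sum_range_succ, Finset.sum_range_one] at hχ
  have heuler : Curv2.euler k X (CohB1.tensorMod (CohB1.tensorPow L m) (Coh.structureModule X)) =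
      (Module.finrank k (Coh.HH X (CohB1.tensorPow L m) 0) : ℤ) := by
    rw [EulerChar.euler_eq_sum k (t := 1) (fun p hp => ?_)]
    · simp [ProjTwist.Pn.finrank_hh_iso (k := k) (ProjTwist.tensOne (CohB1.tensorPow L m)) 0]
    · haveI := hm₀ m (by omega) p hp
      exact AmpCrit.subsingleton_HH_of_iso (ProjTwist.tensComm _ _) p
  have h0 := NumTriv.PointLen.h0_le k (le_of_eq hdim) hT Z hZ (2 * m + 1)
  apply Module.nontrivial_of_finrank_pos (R := k)
  by_contra hneg
  rw [not_lt, nonpos_iff_eq_zero] at hneg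
  rw [hneg, Nat.zero_add] at h0
  rw [heuler, Nat.choose_one_right, Nat.choose_zero_right] at hχ
  have hc1 : (((m + 2 - 1).choose 2 : ℕ) : ℤ) * 2 = (m + 1 : ℤ) * m := by
    rw [show m + 2 - 1 = m + 1 by omega]
    have := Nat.choose_two_right (m + 1)
    have h2 : (m + 1).choose 2 * 2 = (m + 1) * m := by
      rw [this, Nat.add_sub_cancel]
      exact Nat.div_mul_cancel (by rw [mul_comm]; exact (Nat.even_mul_succ_self m).two_dvd)
    exact_mod_cast h2
  have hc2 : (((2 * m + 1 + 1).choose 2 : ℕ) : ℤ) = (m + 1 : ℤ) * (2 * m + 1) := by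
    have h2 : (2 * m + 1 + 1).choose 2 = (m + 1) * (2 * m + 1) := by
      rw [Nat.choose_two_right, Nat.add_sub_cancel, show (2 * m + 1 + 1) = 2 * (m + 1) by ring, mul_assoc,
        Nat.mul_div_cancel_left _ two_pos]
    exact_mod_cast h2
  have h0' : (Module.finrank k (Coh.HH X (CohB1.tensorPow L m) 0) : ℤ) ≤
      (Z.card : ℤ) * (((2 * m + 1 + 1).choose 2 : ℕ) : ℤ) := by exact_mod_cast h0
  rw [hc2, hχ] at h0'
  simp only [Nat.add_sub_cancel, Nat.cast_one, one_mul] at h0'
  have hm' : (2 * Z.card + 2 * I₀.natAbs + 2 * I₁.natAbs + 6 * Z.card + 2 : ℕ) ≤ m := by omega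
  have hm'' : (2 * (Z.card : ℤ) + 2 * |I₀| + 2 * |I₁| + 6 * Z.card + 2) ≤ (m : ℤ) := by
    have := Int.ofNat_le.2 hm'
    push_cast [Int.natCast_natAbs] at this
    exact this
  have b0 := neg_abs_le I₀
  have b1 := neg_abs_le I₁
  have hI2 : 4 * (Z.card : ℤ) + 1 ≤ I₂ := hsq
  have hcz : (0 : ℤ) ≤ Z.card := Int.natCast_nonneg _
  have hmz : (0 : ℤ) ≤ m := Int.natCast_nonneg _
  nlinarith [mul_le_mul_of_nonneg_left hI2 (mul_nonneg (by linarith : (0 : ℤ) ≤ (m : ℤ) + 1) hmz),
    mul_le_mul_of_nonneg_right hm'' hmz, mul_le_mul_of_nonneg_right b1 hmz, mul_nonneg (abs_nonneg I₀) hmz,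
    mul_nonneg hcz hmz, abs_nonneg I₀, abs_nonneg I₁]

end Groth.Agent.S17344
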