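import Groth.Statements.S17352
import Groth.Agent.AzInvLib.Types
import Groth.Agent.AzInvLib.QuadType

set_option autoImplicit false
universe u v w w'
open scoped TensorProduct
open AzInv

namespace Groth.Agent.S17352

open Groth.Agent.AzInvLib

/-- (b) ⇒ (a): let `R` be a commutative ring with an involution `lam` whose fixed ring is exactly `S`;
assume that units have square roots locally for the etale topology of `S` (every unit of an etale
`S`-algebra becomes a square in some etale faithfully flat extension), and that `2` is a unit in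
`S`, or `R` is a quadratic etale `S`-algebra, or `n` is odd. Let `A` and `A'` be Azumaya
`R`-algebras of the same degree `n ≥ 1` with `lam`-involutions `t` and `t'`. If `t` and `t'` have
the same type, i.e. for some positive sizes the matrix algebras over `A` and `A'` with the
involutions induced by `t` and `t'` (apply the involution entrywise, then transpose) become
isomorphic as `R`-algebras with involution after an etale faithfully flat base change of `S`, then
`(A, t)` and `(A', t')` themselves become isomorphic as `R`-algebras with involution after an etale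
faithfully flat base change of `S`. (The source states this for an exact quotient of a locally
ringed topos with involution; the row is the affine case `Spec R → Spec S`, with etale coverings of
`Spec S` replaced by a single etale faithfully flat `S`-algebra.) -/
theorem result (S : Type u) (R : Type v) [CommRing S] [CommRing R] [Algebra S R]
    (lam : R ≃ₐ[S] R) (hlam : ∀ r, lam (lam r) = r) (hfix : RInv.IsFixedRing S R lam.toRingEquiv)
    (hsq : ∀ (S₁ : Type u) [CommRing S₁] [Algebra S S₁] [Algebra.Etale S S₁] (x : S₁ˣ),
      ∃ (S₂ : Type u) (_ : CommRing S₂) (_ : Algebra S₁ S₂) (_ : Algebra.Etale S₁ S₂)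
        (_ : Module.FaithfullyFlat S₁ S₂) (y : S₂), y * y = algebraMap S₁ S₂ ↑x)
    (n : ℕ) (hn : 0 < n) (hcond : IsUnit (2 : S) ∨ RInv.IsQuadEtale S R ∨ Odd n)
    (A : Type w) [Ring A] [Algebra S A] [Algebra R A] [IsScalarTower S R A]
    (A' : Type w') [Ring A'] [Algebra S A'] [Algebra R A'] [IsScalarTower S R A']
    (hA : AzInv.IsAzumayaDeg R A n) (hA' : AzInv.IsAzumayaDeg R A' n)
    (t : AzInv.LamInv R A lam) (t' : AzInv.LamInv R A' lam) (h : AzInv.SameType S lam t t') :
    AzInv.LocIsoEt S lam t t' := by
  classical
  have hg := hasGram hlam hfix hn hA t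
  have hg' := hasGram hlam hfix hn hA' t'
  rcases hcond with h2 | hq | hodd
  · obtain ⟨m, m', hm, hm', hloc⟩ := h
    refine locIsoEt_of_signs hlam hfix h2 hsq hn hg hg' fun q hq => ?_
    obtain ⟨heq, hsign⟩ := locIsoEt_degree_sign hlam hfix hloc (hg.matrix m) (hg'.matrix m')
      (PrimeSpectrum.comap (algebraMap S R) q)
    obtain rfl : m = m' := Nat.eq_of_mul_eq_mul_right hn heq
    rw [← orth_matrix_iff hlam hfix h2 hn hg hm q hq, ← orth_matrix_iff hlam hfix h2 hn hg' hm q hq]
    exact hsign (Nat.mul_pos hm hn) h2 q hq rfl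
  · obtain ⟨T, _, _, _, _, ⟨φ⟩⟩ := exists_etale_split hA
    obtain ⟨T', _, _, _, _, ⟨φ'⟩⟩ := exists_etale_split hA'
    haveI : Algebra.Etale R (T ⊗[R] T') := Algebra.Etale.comp R T (T ⊗[R] T')
    haveI : Module.FaithfullyFlat R (T ⊗[R] T') := Module.FaithfullyFlat.trans R T (T ⊗[R] T')
    obtain ⟨Ψ⟩ := exists_matrix_of_split n φ (T ⊗[R] T') (Algebra.TensorProduct.includeLeft : T →ₐ[R] T ⊗[R] T')
    obtain ⟨Ψ'⟩ := exists_matrix_of_split n φ' (T ⊗[R] T') (Algebra.TensorProduct.includeRight : T' →ₐ[R] T ⊗[R] T')
    exact locIsoEt_of_split lam hlam hfix hq (T ⊗[R] T') (Ψ.trans Ψ'.symm) t t'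
  · exact locIsoEt_of_nf t t' fun p => ⟨n, 1, nf_one_of_hasGram hlam hfix hsq hodd hg p,
      nf_one_of_hasGram hlam hfix hsq hodd hg' p⟩

end Groth.Agent.S17352
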