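import Groth.Statements.S17354
import Groth.Agent.AzInvLib.QuadType

set_option autoImplicit false
universe u v w
open scoped TensorProduct
open AzInv

namespace Groth.Agent.S17354

/-- Let `R` be a quadratic etale `S`-algebra with an involution `lam` whose fixed ring is exactly `S`
(the unramified case), and assume that units have square roots locally for the etale topology of `S`
(every unit of an etale `S`-algebra becomes a square in some etale faithfully flat extension). Then
every `lam`-involution `t` of an Azumaya `R`-algebra `A` of degree `n ≥ 1` has the same type as the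
involution `lam` of `R` itself: for some positive sizes `m`, `m'` the matrix algebras of size `m`
over `A` and of size `m'` over `R`, with the involutions induced by `t` and by `lam`, become
isomorphic as `R`-algebras with involution after an etale faithfully flat base change of `S`; in
other words there is a single type. (The source states this for an exact quotient of a locally
ringed topos with involution; the row is the affine case `Spec R → Spec S`, with etale coverings of
`Spec S` replaced by a single etale faithfully flat `S`-algebra.) -/
theorem result (S : Type u) (R : Type v) [CommRing S] [CommRing R] [Algebra S R]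
    (lam : R ≃ₐ[S] R) (hlam : ∀ r, lam (lam r) = r) (hfix : RInv.IsFixedRing S R lam.toRingEquiv)
    (hq : RInv.IsQuadEtale S R)
    (hsq : ∀ (S₁ : Type u) [CommRing S₁] [Algebra S S₁] [Algebra.Etale S S₁] (x : S₁ˣ),
      ∃ (S₂ : Type u) (_ : CommRing S₂) (_ : Algebra S₁ S₂) (_ : Algebra.Etale S₁ S₂)
        (_ : Module.FaithfullyFlat S₁ S₂) (y : S₂), y * y = algebraMap S₁ S₂ ↑x)
    (A : Type w) [Ring A] [Algebra S A] [Algebra R A] [IsScalarTower S R A]
    (n : ℕ) (hn : 0 < n) (hA : AzInv.IsAzumayaDeg R A n) (t : AzInv.LamInv R A lam) :
    AzInv.SameType S lam t (AzInv.LamInv.self lam hlam) := by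
  classical
  obtain ⟨T, _, _, _, _, ⟨φ⟩⟩ := Groth.Agent.AzInvLib.exists_etale_split hA
  let ψ : Matrix (Fin n) (Fin n) T ≃ₐ[T] T ⊗[R] Matrix (Fin n) (Fin n) R :=
    AlgEquiv.ofRingEquiv (f := (matrixEquivTensor (Fin n) R T).toRingEquiv) fun x => by
      show matrixEquivTensor (Fin n) R T _ = _
      apply (matrixEquivTensor (Fin n) R T).symm.injective
      rw [AlgEquiv.symm_apply_apply, Algebra.TensorProduct.algebraMap_apply]
      ext a c
      rcases eq_or_ne a c with rfl | h
      · simp [Matrix.algebraMap_matrix_apply]
      · simp [Matrix.algebraMap_matrix_apply, h]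
  let u : Matrix (Fin 1) (Fin 1) A ≃ₐ[R] A := 
    { toFun := fun M => M 0 0
      invFun := fun a => Matrix.of fun _ _ => a
      left_inv := fun M => by ext i j; simp [Fin.eq_zero i, Fin.eq_zero j]
      right_inv := fun a => rfl
      map_mul' := fun M N => by simp [Matrix.mul_apply]
      map_add' := fun M N => rfl
      commutes' := fun r => by simp [Matrix.algebraMap_matrix_apply] }
  exact ⟨1, n, one_pos, hn, Groth.Agent.AzInvLib.locIsoEt_of_split lam hlam hfix hq T
    ((Algebra.TensorProduct.congr (AlgEquiv.refl : T ≃ₐ[T] T) u).trans (φ.trans ψ)) _ _⟩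

end Groth.Agent.S17354
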