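import Groth.Statements.S17355
import Groth.Agent.AzInvLib.GramExists

set_option autoImplicit false
universe u v w
open scoped TensorProduct
open AzInv

namespace Groth.Agent.S17355

open Groth.Agent.AzInvLib

/-- Let `R` be a commutative ring with an involution `lam` whose fixed ring is exactly `S`, assume that
units have square roots locally for the etale topology of `S` (every unit of an etale `S`-algebra
becomes a square in some etale faithfully flat extension), and let `A` be an Azumaya `R`-algebra of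
degree `n ≥ 1` with a `lam`-involution `t`. Then every `R`-algebra automorphism `ψ` of `A` that
commutes with `t` is, locally for the etale topology of `S`, conjugation by a unitary element: there
are an etale faithfully flat `S`-algebra `S'` and a unit `u` of `S' ⊗_S A` with `(id ⊗ t)(u) * u =
1` such that `id ⊗ ψ` is `x ↦ u x u⁻¹` (the map from the unitary group to the automorphism sheaf of
`(A, t)` is an epimorphism). This row states the surjectivity part only; the published statement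
also identifies the kernel of the map from the unitary group as the group of norm-one elements of
`R` (the units `r` of `R` with `lam r * r = 1`), so that the projective unitary group of `(A, t)` is
its automorphism sheaf. (The source states this for an exact quotient of a locally ringed topos with
involution; the row is the affine case `Spec R → Spec S`, with etale coverings of `Spec S` replaced
by a single etale faithfully flat `S`-algebra.) -/
theorem result (S : Type u) (R : Type v) [CommRing S] [CommRing R] [Algebra S R]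
    (lam : R ≃ₐ[S] R) (hlam : ∀ r, lam (lam r) = r) (hfix : RInv.IsFixedRing S R lam.toRingEquiv)
    (hsq : ∀ (S₁ : Type u) [CommRing S₁] [Algebra S S₁] [Algebra.Etale S S₁] (x : S₁ˣ),
      ∃ (S₂ : Type u) (_ : CommRing S₂) (_ : Algebra S₁ S₂) (_ : Algebra.Etale S₁ S₂)
        (_ : Module.FaithfullyFlat S₁ S₂) (y : S₂), y * y = algebraMap S₁ S₂ ↑x)
    (A : Type w) [Ring A] [Algebra S A] [Algebra R A] [IsScalarTower S R A]
    (n : ℕ) (hn : 0 < n) (hA : AzInv.IsAzumayaDeg R A n) (t : AzInv.LamInv R A lam)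
    (ψ : A ≃ₐ[R] A) (hψ : AzInv.IsInvHom t t ψ) :
    ∃ (S' : Type u) (_ : CommRing S') (_ : Algebra S S') (_ : Algebra.Etale S S')
      (_ : Module.FaithfullyFlat S S') (u : (S' ⊗[S] A)ˣ),
      t.bc S lam S' (↑u : S' ⊗[S] A) * ↑u = 1 ∧
        ∀ x : S' ⊗[S] A,
          Algebra.TensorProduct.congr (AlgEquiv.refl : S' ≃ₐ[S'] S') (ψ.restrictScalars S) x =
            ↑u * x * ↑u⁻¹ := by
  classical
  obtain ⟨S₁, _, _, _, _, u, hu⟩ := Groth.Agent.S17357.result S R lam hlam hfix A n hn hA ψ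
  obtain ⟨X, _, _, _, _, f, hf⟩ := Groth.Agent.S17356.result S R lam hlam hfix A n hn hA
  let Y := S₁ ⊗[S] X
  haveI : Algebra.Etale S Y := Algebra.Etale.comp S S₁ Y
  haveI : Module.FaithfullyFlat S Y := Module.FaithfullyFlat.trans S S₁ Y
  let φ : A →ₐ[S] Matrix (Fin n) (Fin n) (X ⊗[S] R) :=
    (f.toAlgHom.restrictScalars S).comp Algebra.TensorProduct.includeRight
  have hφ : ∀ (r : R) a, φ (r • a) = ((1 : X) ⊗ₜ[S] r) • φ a := fun r a => by
    show f ((1 : X) ⊗ₜ (r • a)) = ((1 : X) ⊗ₜ[S] r) • f ((1 : X) ⊗ₜ a)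
    rw [show ((1 : X) ⊗ₜ[S] (r • a)) = ((1 : X) ⊗ₜ[S] algebraMap R A r) * ((1 : X) ⊗ₜ a) by
      rw [Algebra.TensorProduct.tmul_mul_tmul, one_mul, Algebra.smul_def], hf,
      Matrix.scalar_apply, ← Matrix.smul_eq_diagonal_mul]
  have hF : ⇑(liftF φ) = ⇑f := funext fun z => by
    induction z using TensorProduct.induction_on with
    | zero => simp
    | add a b ha hb => simp only [map_add, ha, hb]
    | tmul c a =>
      rw [liftF_tmul]
      show c • f ((1 : X) ⊗ₜ a) = _
      rw [← map_smul, TensorProduct.smul_tmul', smul_eq_mul, mul_one]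
  let s : Spl S R A (Fin n) Y :=
    Spl.push ⟨φ, hφ, hF ▸ f.bijective⟩ (Algebra.TensorProduct.includeRight : X →ₐ[S] Y)
  let i₁ : S₁ →ₐ[S] Y := Algebra.TensorProduct.includeLeft
  let U : (Y ⊗[S] A)ˣ := Units.map (Spl.pushA (A := A) i₁).toRingHom.toMonoidHom u
  set T := t.bc S lam Y with hT
  have hUψ : ∀ a : A, (1 : Y) ⊗ₜ[S] ψ a = (U : Y ⊗[S] A) * ((1 : Y) ⊗ₜ a) *
      ((U⁻¹ : (Y ⊗[S] A)ˣ) : Y ⊗[S] A) := fun a => by
    have h1 := congrArg (Spl.pushA (A := A) i₁) (hu ((1 : S₁) ⊗ₜ a))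
    rw [Algebra.TensorProduct.congr_apply, Algebra.TensorProduct.map_tmul, map_mul, map_mul] at h1
    simp only [map_one, Spl.pushA, Algebra.TensorProduct.map_tmul, AlgHom.id_apply] at h1
    exact h1
  have hUinv : T ((U⁻¹ : (Y ⊗[S] A)ˣ) : Y ⊗[S] A) * T (U : Y ⊗[S] A) = 1 := by
    rw [hT, ← bc_mul, Units.mul_inv, Algebra.TensorProduct.one_def, AzInv.LamInv.bc_tmul, t.map_one]
  set c : Y ⊗[S] A := T (U : Y ⊗[S] A) * U with hc
  have hcomm : ∀ a : A, Commute c ((1 : Y) ⊗ₜ[S] a) := fun a => by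
    have h1 : T ((1 : Y) ⊗ₜ[S] ψ (t a)) = (1 : Y) ⊗ₜ[S] ψ a := by
      rw [hT, AzInv.LamInv.bc_tmul, ← hψ, t.invol]
    rw [hUψ, hUψ, hT, bc_mul, bc_mul, AzInv.LamInv.bc_tmul, t.invol, ← hT] at h1
    show c * _ = _ * c
    calc c * ((1 : Y) ⊗ₜ[S] a)
        = T (U : Y ⊗[S] A) * ((U : Y ⊗[S] A) * ((1 : Y) ⊗ₜ[S] a) *
            ((U⁻¹ : (Y ⊗[S] A)ˣ) : Y ⊗[S] A)) * U := by
          simp only [hc, mul_assoc, Units.inv_mul, mul_one]
      _ = T (U : Y ⊗[S] A) * T ((U⁻¹ : (Y ⊗[S] A)ˣ) : Y ⊗[S] A) *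
            (((1 : Y) ⊗ₜ[S] a) * (T (U : Y ⊗[S] A) * U)) := by
          rw [← h1]; simp only [mul_assoc]
      _ = ((1 : Y) ⊗ₜ[S] a) * c := by
          rw [hT, ← bc_mul, Units.inv_mul, Algebra.TensorProduct.one_def, AzInv.LamInv.bc_tmul,
            t.map_one, ← Algebra.TensorProduct.one_def, one_mul]
  have hcall : ∀ z : Y ⊗[S] A, Commute c z := fun z => by
    induction z using TensorProduct.induction_on with
    | zero => simp
    | add a b ha hb => exact ha.add_right hb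
    | tmul y a =>
      rw [show y ⊗ₜ[S] a = y • ((1 : Y) ⊗ₜ[S] a) by rw [TensorProduct.smul_tmul', smul_eq_mul, mul_one]]
      exact (hcomm a).smul_right y
  obtain ⟨γ, hγ⟩ := Matrix.mem_range_scalar_iff_commute_single'.mpr fun i j => by
    obtain ⟨z, hz⟩ := s.equiv.surjective (Matrix.single i j 1)
    rw [← hz]
    exact ((hcall z).map s.equiv).symm
  have hscal : ∀ d : Y ⊗[S] R, s.equiv (scal Y A d) = d • (1 : Matrix (Fin n) (Fin n) (Y ⊗[S] R)) :=
    fun d => by rw [← mul_one (scal Y A d), Spl.equiv_scal, map_one]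
  have hinj : Function.Injective (scal Y A : Y ⊗[S] R → Y ⊗[S] A) := fun d d' h => by
    have h1 := congrArg s.equiv h
    rw [hscal, hscal] at h1
    simpa using congrFun (congrFun h1 ⟨0, hn⟩) ⟨0, hn⟩
  have hcγ : c = scal Y A γ := s.equiv.injective (by
    rw [← hγ, hscal, Matrix.scalar_apply, Matrix.smul_one_eq_diagonal])
  have hγfix : lamX lam Y γ = γ := hinj (by
    have h1 : T c = c := by
      rw [hc, hT, bc_mul, bc_bc']
    rw [hcγ, hT] at h1
    nth_rw 1 [← mul_one (scal Y A γ)] at h1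
    rwa [bc_scal, Algebra.TensorProduct.one_def, AzInv.LamInv.bc_tmul, t.map_one,
      ← Algebra.TensorProduct.one_def, mul_one] at h1)
  have hfY := isFixed_lamX lam Y hfix
  obtain ⟨y, hy⟩ := (hfY.2 γ).mp hγfix
  obtain ⟨δ, hδ⟩ : ∃ δ : Y ⊗[S] R, γ * δ = 1 := by
    have hTU : IsUnit (T (U : Y ⊗[S] A)) := ⟨⟨_, _, (by rw [hT, ← bc_mul, Units.inv_mul,
      Algebra.TensorProduct.one_def, AzInv.LamInv.bc_tmul, t.map_one]), hUinv⟩, rfl⟩
    have hcu : IsUnit c := hTU.mul U.isUnit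
    have h1 := (Matrix.isUnit_iff_isUnit_det _).mp (hγ ▸ hcu.map s.equiv)
    rw [Matrix.scalar_apply, Matrix.det_diagonal, Finset.prod_const, Finset.card_univ,
      Fintype.card_fin, isUnit_pow_iff hn.ne'] at h1
    exact h1.exists_right_inv
  have hδfix : lamX lam Y δ = δ := by
    have h1 := congrArg (lamX lam Y) hδ
    rw [map_mul, hγfix, map_one] at h1
    calc lamX lam Y δ = lamX lam Y δ * (γ * δ) := by rw [hδ, mul_one]
      _ = γ * lamX lam Y δ * δ := by ring
      _ = δ := by rw [h1, one_mul]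
  obtain ⟨y', hy'⟩ := (hfY.2 δ).mp hδfix
  have hyy : y * y' = 1 := hfY.1 (by rw [map_mul, hy, hy', hδ, map_one])
  obtain ⟨Y₂, _, _, _, _, z, hz⟩ := hsq Y (Units.mkOfMulEqOne y y' hyy)
  letI : Algebra S Y₂ := ((algebraMap Y Y₂).comp (algebraMap S Y)).toAlgebra
  haveI : IsScalarTower S Y Y₂ := IsScalarTower.of_algebraMap_eq' rfl
  haveI : Algebra.Etale S Y₂ := Algebra.Etale.comp S Y Y₂
  haveI : Module.FaithfullyFlat S Y₂ := Module.FaithfullyFlat.trans S Y Y₂
  have hzu : IsUnit z := by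
    have h1 : IsUnit (z * z) := hz.symm ▸ (Units.isUnit _).map _
    exact isUnit_of_mul_isUnit_left h1
  obtain ⟨zi, hzi⟩ := hzu.exists_left_inv
  let g : Y →ₐ[S] Y₂ := IsScalarTower.toAlgHom S Y Y₂
  let V : (Y₂ ⊗[S] A)ˣ := Units.map (Spl.pushA (A := A) g).toRingHom.toMonoidHom U
  have hsm : ∀ (a b : Y₂) (x x' : Y₂ ⊗[S] A), (a • x) * (b • x') = (a * b) • (x * x') :=
    fun a b x x' => smul_mul_smul_comm a x b x'
  let W : (Y₂ ⊗[S] A)ˣ :=
    ⟨zi • (V : Y₂ ⊗[S] A), z • ((V⁻¹ : (Y₂ ⊗[S] A)ˣ) : Y₂ ⊗[S] A),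
      by rw [hsm, hzi, V.mul_inv, one_smul], by rw [hsm, mul_comm z, hzi, V.inv_mul, one_smul]⟩
  refine ⟨Y₂, inferInstance, inferInstance, inferInstance, inferInstance, W, ?_, fun x => ?_⟩
  · show t.bc S lam Y₂ (zi • (V : Y₂ ⊗[S] A)) * (zi • (V : Y₂ ⊗[S] A)) = 1
    have hbc : ∀ w : Y ⊗[S] A, t.bc S lam Y₂ (Spl.pushA g w) = Spl.pushA g (T w) := fun w => by
      induction w using TensorProduct.induction_on with
      | zero => simp
      | add a b ha hb => simp only [map_add, ha, hb]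
      | tmul a b => simp [hT]
    have h1 : t.bc S lam Y₂ (V : Y₂ ⊗[S] A) * V = algebraMap Y₂ _ (z * z) := by
      show t.bc S lam Y₂ (Spl.pushA g U) * Spl.pushA g U = _
      rw [hbc, ← map_mul, ← hc, hcγ, ← hy, AlgHom.commutes, hz]
      rfl
    rw [map_smul, hsm, h1, Algebra.smul_def, ← map_mul,
      show zi * zi * (z * z) = (zi * z) * (zi * z) by ring, hzi, one_mul, map_one]
  · show _ = zi • (V : Y₂ ⊗[S] A) * x * (z • ((V⁻¹ : (Y₂ ⊗[S] A)ˣ) : Y₂ ⊗[S] A))
    rw [smul_mul_assoc, hsm, hzi, one_smul]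
    induction x using TensorProduct.induction_on with
    | zero => simp
    | add a b ha hb => rw [map_add, mul_add, add_mul, ha, hb]
    | tmul d a =>
      have h1 : (1 : Y₂) ⊗ₜ[S] ψ a = (V : Y₂ ⊗[S] A) * ((1 : Y₂) ⊗ₜ a) *
          ((V⁻¹ : (Y₂ ⊗[S] A)ˣ) : Y₂ ⊗[S] A) := by
        have h0 := congrArg (Spl.pushA (A := A) g) (hUψ a)
        rw [map_mul, map_mul] at h0
        simp only [Spl.pushA, Algebra.TensorProduct.map_tmul, map_one, AlgHom.id_apply] at h0
        exact h0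
      calc Algebra.TensorProduct.congr (AlgEquiv.refl : Y₂ ≃ₐ[Y₂] Y₂) (ψ.restrictScalars S) (d ⊗ₜ a)
          = d • ((1 : Y₂) ⊗ₜ[S] ψ a) := by simp [TensorProduct.smul_tmul']
        _ = _ := by
          rw [h1, ← smul_mul_assoc, ← mul_smul_comm, TensorProduct.smul_tmul', smul_eq_mul, mul_one]

end Groth.Agent.S17355
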