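import Groth.Statements.S17358
import Groth.Agent.AzInvLib.Global
import Groth.Agent.AzInvLib.QuadType

set_option autoImplicit false
universe u v w
open scoped TensorProduct
open AzInv

namespace Groth.Agent.S17358

open Groth.Agent.AzInvLib

/-- Let `R` be a commutative ring with an involution `lam` whose fixed ring is exactly `S`; assume that
units have square roots locally for the etale topology of `S` (every unit of an etale `S`-algebra
becomes a square in some etale faithfully flat extension), and that either `2` is a unit in `S` and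
the quotient `Spec R → Spec S` is everywhere ramified (for no prime `p` of `S` is `S_p ⊗_S R` a
quadratic etale `S_p`-algebra; the case `R = S` is included), or `R` is a quadratic etale
`S`-algebra (the unramified case). Then every `lam`-involution `t` of an Azumaya `R`-algebra `A` of
degree `n ≥ 1` is ordinary: there are a global invertible `n × n` matrix `w` over `R` and an element
`e` of `R` with `lam`-transpose of `w` equal to `e • w` and `lam e * e = 1`, such that `(A, t)`
becomes isomorphic, after an etale faithfully flat base change of `S`, to the matrix algebra over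
`R` with the involution `x ↦ w * (lam-transpose of x) * w⁻¹` (equivalently `x ↦ (a x a⁻¹)` followed
by the `lam`-transpose, for the global matrix `a` whose `lam`-transpose is `w⁻¹`). (The source
states this for an exact quotient of a locally ringed topos with involution; the row is the affine
case `Spec R → Spec S`, with etale coverings of `Spec S` replaced by a single etale faithfully flat
`S`-algebra.) -/
theorem result (S : Type u) (R : Type v) [CommRing S] [CommRing R] [Algebra S R]
    (lam : R ≃ₐ[S] R) (hlam : ∀ r, lam (lam r) = r) (hfix : RInv.IsFixedRing S R lam.toRingEquiv)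
    (hsq : ∀ (S₁ : Type u) [CommRing S₁] [Algebra S S₁] [Algebra.Etale S S₁] (x : S₁ˣ),
      ∃ (S₂ : Type u) (_ : CommRing S₂) (_ : Algebra S₁ S₂) (_ : Algebra.Etale S₁ S₂)
        (_ : Module.FaithfullyFlat S₁ S₂) (y : S₂), y * y = algebraMap S₁ S₂ ↑x)
    (hram : (IsUnit (2 : S) ∧ ∀ p : PrimeSpectrum S,
        ¬ RInv.IsQuadEtale (Localization.AtPrime p.asIdeal) (Localization.AtPrime p.asIdeal ⊗[S] R)) ∨
      RInv.IsQuadEtale S R)
    (A : Type w) [Ring A] [Algebra S A] [Algebra R A] [IsScalarTower S R A]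
    (n : ℕ) (hn : 0 < n) (hA : AzInv.IsAzumayaDeg R A n) (t : AzInv.LamInv R A lam) :
    ∃ (w : (Matrix (Fin n) (Fin n) R)ˣ) (e : R)
      (hw : AzInv.LamInv.transpose lam (Fin n) hlam (↑w : Matrix (Fin n) (Fin n) R) = e • (↑w : Matrix (Fin n) (Fin n) R))
      (he : lam e * e = 1),
      AzInv.LocIsoEt S lam t ((AzInv.LamInv.transpose lam (Fin n) hlam).conj w e hw he) := by
  classical
  have hsq' : HasSqrt S := hsq
  have hg := hasGram hlam hfix hn hA t
  rcases hram with ⟨h2, hnq⟩ | hq
  swap
  · refine ⟨1, 1, by rw [Units.val_one, one_smul]; exact lamTr_one lam, by simp, ?_⟩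
    obtain ⟨T, _, _, _, _, ⟨φ⟩⟩ := exists_etale_split hA
    obtain ⟨Ψ⟩ : Nonempty (T ⊗[R] Matrix (Fin n) (Fin n) R ≃ₐ[T] Matrix (Fin n) (Fin n) T) := by
      refine ⟨(AlgEquiv.ofRingEquiv (f := (matrixEquivTensor (Fin n) R T).toRingEquiv) fun x => ?_).symm⟩
      show matrixEquivTensor (Fin n) R T _ = _
      apply (matrixEquivTensor (Fin n) R T).symm.injective
      rw [AlgEquiv.symm_apply_apply, Algebra.TensorProduct.algebraMap_apply]
      ext a c
      rcases eq_or_ne a c with rfl | h
      · simp [Matrix.algebraMap_matrix_apply]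
      · simp [Matrix.algebraMap_matrix_apply, h]
    exact locIsoEt_of_split lam hlam hfix hq T (φ.trans Ψ.symm) t _
  · have hR : ∀ p : PrimeSpectrum S, Ram lam p := fun p => ram_of_not_quad hlam hfix p (hnq p)
    have hram : ∀ (q : PrimeSpectrum R) (r : R), lam r - r ∈ q.asIdeal := fun q r =>
      hR (PrimeSpectrum.comap (algebraMap S R) q) q.asIdeal q.isPrime rfl r
    obtain ⟨ε, hε, hlε, hiff⟩ := exists_sign_idempotent hlam hfix h2 hram hn hg
    obtain ⟨ε₀, hε₀⟩ := (hfix.2 ε).mp hlε
    have hd : ∀ p, ∀ q : PrimeSpectrum R, PrimeSpectrum.comap (algebraMap S R) q = p →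
        (Orth lam t n q → Nf lam t p (1 : Matrix (Fin n) (Fin n) R)) ∧
          (¬ Orth lam t n q → ∃ m, n = 2 * m ∧ Nf lam t p (Jm R m)) := by
      intro p q hqp
      obtain ⟨N, s, w, e, hp, g⟩ := hg p
      have h1 := (nf_cases hlam hfix h2 hsq' hn g).2 q (hram q) (hqp.trans hp.symm)
      rwa [hp] at h1
    by_cases hev : Even n
    swap
    · refine ⟨1, 1, by rw [Units.val_one, one_smul]; exact lamTr_one lam, by simp,
        locIsoEt_of_local lam _ _ fun p => ?_⟩
      obtain ⟨Q, hQp, hQ⟩ := Herm.exists_over lam hlam hfix p.asIdeal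
      have ho : Orth lam t n ⟨Q, hQp⟩ := by
        by_contra ho
        obtain ⟨m, hm, -⟩ := (hd p ⟨Q, hQp⟩ (PrimeSpectrum.ext hQ)).2 ho
        exact hev ⟨m, by omega⟩
      exact exists_isoOver_of_nf ((hd p ⟨Q, hQp⟩ (PrimeSpectrum.ext hQ)).1 ho)
        (nf_model _ 1 1 (by simp) (by rw [lamTr_one, one_smul]) (by simp)
          (fun M => by simp [AzInv.LamInv.transpose]; rfl) p)
    obtain ⟨m, hm⟩ := hev
    obtain ⟨eq, hJt, hJJ⟩ := exists_Jn (lam := lam) (R := R) (n := n) (m := m) (by omega)
    set J := (Jm R m).submatrix eq.symm eq.symm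
    have hεε : ε * ε = ε := hε
    let wv : Matrix (Fin n) (Fin n) R := (1 - ε) • 1 + ε • J
    let wi : Matrix (Fin n) (Fin n) R := (1 - ε) • 1 - ε • J
    have h0 : (1 - ε) * ε = 0 := by rw [sub_mul, one_mul, hεε, sub_self]
    have h1 : (1 - ε) * (1 - ε) = 1 - ε := by rw [mul_sub, mul_one, h0, sub_zero]
    have hwwi : wv * wi = 1 := by
      simp only [wv, wi, add_mul, mul_sub, mul_add, sub_mul, smul_mul_assoc, mul_smul_comm, one_mul,
        mul_one, hJJ, smul_add, smul_sub, smul_neg, smul_smul, h1, h0, mul_comm ε (1 - ε), hεε,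
        zero_smul]
      simp only [sub_zero, zero_sub, neg_neg, sub_neg_eq_add, zero_add, add_zero]
      rw [← add_smul, sub_add_cancel, one_smul]
    have hwiw : wi * wv = 1 := by
      simp only [wv, wi, add_mul, mul_sub, mul_add, sub_mul, smul_mul_assoc, mul_smul_comm, one_mul,
        mul_one, hJJ, smul_add, smul_sub, smul_neg, smul_smul, h1, h0, mul_comm ε (1 - ε), hεε,
        zero_smul]
      simp only [sub_zero, zero_sub, neg_neg, sub_neg_eq_add, zero_add, add_zero]
      rw [← add_smul, sub_add_cancel, one_smul]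
    let w : (Matrix (Fin n) (Fin n) R)ˣ := ⟨wv, wi, hwwi, hwiw⟩
    have hh : AzInv.lamTr lam wv = (1 - 2 * ε) • wv := by
      simp only [wv, lamTr_add, lamTr_smul, lamTr_one, hJt, map_sub, map_one, hlε, smul_add, smul_smul,
        smul_neg, ← neg_smul]
      rw [show (1 - 2 * ε) * (1 - ε) = 1 - ε by linear_combination 2 * hεε,
        show (1 - 2 * ε) * ε = -ε by linear_combination -2 * hεε]
    have hee : lam (1 - 2 * ε) * (1 - 2 * ε) = 1 := by
      rw [map_sub, map_one, map_mul, map_ofNat, hlε]; linear_combination 4 * hεε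
    refine ⟨w, 1 - 2 * ε, hh, hee, locIsoEt_of_local lam _ _ fun p => ?_⟩
    set t' := (AzInv.LamInv.transpose lam (Fin n) hlam).conj w (1 - 2 * ε) hh hee
    have ht' : ∀ M : Matrix (Fin n) (Fin n) R, t' M * wv = wv * AzInv.lamTr lam M := fun M => by
      show wv * AzInv.lamTr lam M * wi * wv = _
      rw [mul_assoc, hwiw, mul_one]
    have hwd : IsUnit wv.det := (Matrix.isUnit_iff_isUnit_det _).mp w.isUnit
    obtain ⟨Q, hQp, hQ⟩ := Herm.exists_over lam hlam hfix p.asIdeal
    obtain ⟨hd1, hd2⟩ := hd p ⟨Q, hQp⟩ (PrimeSpectrum.ext hQ)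
    have hε₀p : ε₀ ∈ p.asIdeal ↔ Orth lam t n ⟨Q, hQp⟩ := by
      rw [← hiff]
      show _ ↔ ε ∈ Q
      rw [← hε₀, ← hQ, Ideal.mem_comap]
    have hidem : ε₀ * (1 - ε₀) = 0 := hfix.1 (by rw [map_mul, map_sub, map_one, hε₀, map_zero, mul_comm, h0])
    by_cases ho : ε₀ ∈ p.asIdeal
    · obtain ⟨N, f, hu⟩ := (Nbd.self p).exists_isUnit (x := ((1 - ε₀ : S) : (Nbd.self p).X)) fun hm' =>
        p.isPrime.ne_top (p.asIdeal.eq_top_iff_one.mpr (by
          have h3 := p.asIdeal.add_mem (show (1 - ε₀ : S) ∈ p.asIdeal from hm') ho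
          rwa [sub_add_cancel] at h3))
      have hz : algebraMap S N.X ε₀ = 0 := by
        have hu' : IsUnit (algebraMap S N.X (1 - ε₀)) := f.g.commutes (1 - ε₀) ▸ hu
        rw [← hu'.mul_left_eq_zero (a := algebraMap S N.X ε₀), ← map_mul, hidem, map_zero]
      have hinc : incl (S := S) N.X wv = incl (S := S) N.X (1 : Matrix (Fin n) (Fin n) R) := by
        show incl (S := S) N.X ((1 - ε) • 1 + ε • J) = _
        rw [incl, Matrix.map_add _ (map_add _)]
        show incl (S := S) N.X ((1 - ε) • 1) + incl (S := S) N.X (ε • J) = _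
        rw [← hε₀, ← map_one (algebraMap S R), ← map_sub, incl_smul_eq, incl_smul_eq, map_sub, hz,
          map_one, sub_zero, one_smul, zero_smul, add_zero]
      have g := gram_model N.X t' wv _ hwd hh hee ht'
      rw [hinc] at g
      exact exists_isoOver_of_nf (hd1 (hε₀p.mp ho))
        ⟨N, _, _, f.base_eq.trans (Nbd.base_self p), g⟩
    · obtain ⟨m', hm', hJ'⟩ := hd2 fun ho' => ho (hε₀p.mpr ho')
      obtain rfl : m = m' := by omega
      obtain ⟨N, f, hu⟩ := (Nbd.self p).exists_isUnit (x := ε₀) ho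
      have hz : algebraMap S N.X ε₀ = 1 := by
        have e : algebraMap S N.X ε₀ * (1 - algebraMap S N.X ε₀) = 0 := by
          rw [← map_one (algebraMap S N.X), ← map_sub, ← map_mul, hidem, map_zero]
        have hu' : IsUnit (algebraMap S N.X ε₀) := f.g.commutes ε₀ ▸ hu
        exact (sub_eq_zero.mp (hu'.mul_right_eq_zero.mp e)).symm
      have hinc : incl (S := S) N.X wv = incl (S := S) N.X J := by
        show incl (S := S) N.X ((1 - ε) • 1 + ε • J) = _
        rw [incl, Matrix.map_add _ (map_add _)]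
        show incl (S := S) N.X ((1 - ε) • 1) + incl (S := S) N.X (ε • J) = _
        rw [← hε₀, ← map_one (algebraMap S R), ← map_sub, incl_smul_eq, incl_smul_eq, map_sub, hz,
          map_one, sub_self, zero_smul, zero_add, one_smul]
      have g := gram_model N.X t' wv _ hwd hh hee ht'
      rw [hinc] at g
      exact exists_isoOver_of_nf (hJ'.reindex eq) ⟨N, _, _, f.base_eq.trans (Nbd.base_self p), g⟩

end Groth.Agent.S17358
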