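import Groth.Statements.S17359
import Groth.Agent.AzInvLib.Global
import Groth.Agent.AzInvLib.QuadType

set_option autoImplicit false
universe u w
open scoped TensorProduct
open AzInv

namespace Groth.Agent.S17359

open Groth.Agent.AzInvLib

/-- Let `R` be a nontrivial commutative ring with connected spectrum in which `2` is a unit, with the
trivial involution (so that the involutions considered are of the first kind and the quotient is the
trivial one). Then there are exactly two types, the orthogonal and the symplectic one; this row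
states the first half: every involution of the first kind `t` of an Azumaya `R`-algebra `A` of
degree `n ≥ 1` has the same type either as the identity of `R` or as the standard symplectic
involution `x ↦ J xᵀ J⁻¹` of the `2 × 2` matrix algebra, `J` the matrix with rows `(0, -1)` and `(1,
0)` (same type: suitable matrix algebras over the two, with the induced involutions, become
isomorphic as `R`-algebras with involution after an etale faithfully flat base change of `R`). (The
source states that the monoid of types is isomorphic to the group of global square roots of `1`, for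
a locally ringed topos with trivial involution and `2` invertible; the row is the affine case with
connected spectrum, where that group is `{1, -1}`.) -/
theorem result (R : Type u) [CommRing R] (hlam : ∀ r : R, (AlgEquiv.refl : R ≃ₐ[R] R) ((AlgEquiv.refl : R ≃ₐ[R] R) r) = r)
    [Nontrivial R] [ConnectedSpace (PrimeSpectrum R)] (h2 : IsUnit (2 : R))
    (J : (Matrix (Fin 2) (Fin 2) R)ˣ) (hJ : (↑J : Matrix (Fin 2) (Fin 2) R) = Matrix.of ![![0, -1], ![1, 0]])
    (hJt : AzInv.LamInv.transpose (AlgEquiv.refl : R ≃ₐ[R] R) (Fin 2) hlam (↑J : Matrix (Fin 2) (Fin 2) R) = (-1 : R) • (↑J : Matrix (Fin 2) (Fin 2) R))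
    (hneg : (AlgEquiv.refl : R ≃ₐ[R] R) (-1) * (-1) = 1)
    (A : Type w) [Ring A] [Algebra R A]
    (n : ℕ) (hn : 0 < n) (hA : AzInv.IsAzumayaDeg R A n) (t : AzInv.LamInv R A (AlgEquiv.refl : R ≃ₐ[R] R)) :
    AzInv.SameType R (AlgEquiv.refl : R ≃ₐ[R] R) t (AzInv.LamInv.self (AlgEquiv.refl : R ≃ₐ[R] R) hlam) ∨
      AzInv.SameType R (AlgEquiv.refl : R ≃ₐ[R] R) t ((AzInv.LamInv.transpose (AlgEquiv.refl : R ≃ₐ[R] R) (Fin 2) hlam).conj J (-1) hJt hneg) := by
  classical
  have hfix : RInv.IsFixedRing R R (AlgEquiv.refl : R ≃ₐ[R] R).toRingEquiv :=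
    ⟨fun a b h => h, fun r => ⟨fun _ => ⟨r, rfl⟩, fun _ => rfl⟩⟩
  have hram : ∀ (q : PrimeSpectrum R) (r : R), (AlgEquiv.refl : R ≃ₐ[R] R) r - r ∈ q.asIdeal := fun q r => by simp
  have hbase : ∀ p : PrimeSpectrum R, PrimeSpectrum.comap (algebraMap R R) p = p := fun p => by
    rw [Algebra.algebraMap_self, PrimeSpectrum.comap_id]
  have hsq := hasSqrt_of_two h2
  have hg := hasGram hlam hfix hn hA t
  obtain ⟨ε, hε, -, hiff⟩ := exists_sign_idempotent hlam hfix h2 hram hn hg
  have hg1 := hg.matrix 1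
  have hn1 : 0 < 1 * n := by omega
  have horth : ∀ p, Orth (AlgEquiv.refl : R ≃ₐ[R] R) (t.matrix (Fin 1)) (1 * n) p ↔ ε ∈ p.asIdeal := fun p => by
    rw [orth_matrix_iff hlam hfix h2 hn hg one_pos p (hram p), hiff]
  have hcases : (∀ p : PrimeSpectrum R, ε ∈ p.asIdeal) ∨ (∀ p : PrimeSpectrum R, ε ∉ p.asIdeal) := by
    rcases isClopen_iff.mp ((PrimeSpectrum.isClopen_iff (s :=
      (PrimeSpectrum.basicOpen ε : Set (PrimeSpectrum R)))).mpr ⟨ε, hε, rfl⟩) with h | h
    · refine Or.inl fun p => by_contra fun hp => ?_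
      exact Set.notMem_empty p (h ▸ (show p ∈ (PrimeSpectrum.basicOpen ε : Set (PrimeSpectrum R)) from hp))
    · exact Or.inr fun p => (show p ∈ (PrimeSpectrum.basicOpen ε : Set (PrimeSpectrum R)) from
        h ▸ Set.mem_univ p)
  rcases hcases with h | h
  · left
    refine ⟨1, n, one_pos, hn, locIsoEt_of_local (AlgEquiv.refl : R ≃ₐ[R] R) _ _ fun p => ?_⟩
    obtain ⟨N, s, w, e, hp, g⟩ := hg1 p
    have h1 := ((nf_cases hlam hfix h2 hsq hn1 g).2 p (hram p) ((hbase p).trans hp.symm)).1
      ((horth p).mpr (h p))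
    rw [hp] at h1
    have h2' : Nf (AlgEquiv.refl : R ≃ₐ[R] R) ((AzInv.LamInv.self (AlgEquiv.refl : R ≃ₐ[R] R) hlam).matrix (Fin n)) p (1 : Matrix (Fin n) (Fin n) R) :=
      nf_model _ 1 1 (by simp) (by rw [lamTr_one, one_smul]) (by simp)
        (fun M => by rw [mul_one, one_mul]; rfl) p
    have h1' := h1.reindex (finCongr (one_mul n))
    rw [Matrix.submatrix_one_equiv] at h1'
    exact exists_isoOver_of_nf h1' h2'
  · right
    have hev : ∀ p : PrimeSpectrum R, ∃ m, 1 * n = 2 * m ∧ Nf (AlgEquiv.refl : R ≃ₐ[R] R) (t.matrix (Fin 1)) p (Jm R m) := by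
      intro p
      obtain ⟨N, s, w, e, hp, g⟩ := hg1 p
      obtain ⟨m, hm, h1⟩ := ((nf_cases hlam hfix h2 hsq hn1 g).2 p (hram p) ((hbase p).trans hp.symm)).2
        fun ho => h p ((horth p).mp ho)
      exact ⟨m, hm, hp ▸ h1⟩
    obtain ⟨p₀⟩ := (inferInstance : Nonempty (PrimeSpectrum R))
    obtain ⟨m, hm, -⟩ := hev p₀
    refine ⟨1, m, one_pos, by omega, locIsoEt_of_local (AlgEquiv.refl : R ≃ₐ[R] R) _ _ fun p => ?_⟩
    obtain ⟨m', hm', h1⟩ := hev p
    obtain rfl : m' = m := by omega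
    refine exists_isoOver_of_nf h1 ?_
    set tJ := (AzInv.LamInv.transpose (AlgEquiv.refl : R ≃ₐ[R] R) (Fin 2) hlam).conj J (-1) hJt hneg
    have htJ' : ∀ M : Matrix (Fin 2) (Fin 2) R, tJ M * (↑J : Matrix (Fin 2) (Fin 2) R) =
        (↑J : Matrix (Fin 2) (Fin 2) R) * AzInv.lamTr (AlgEquiv.refl : R ≃ₐ[R] R) M := fun M => by
      show (↑J : Matrix (Fin 2) (Fin 2) R) * AzInv.lamTr (AlgEquiv.refl : R ≃ₐ[R] R) M * (↑J⁻¹ : Matrix (Fin 2) (Fin 2) R) *
        (↑J : Matrix (Fin 2) (Fin 2) R) = _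
      rw [Units.inv_mul_cancel_right]
    let N := Nbd.self p
    have g := (gram_model N.X tJ ↑J (-1) ((Matrix.isUnit_iff_isUnit_det _).mp J.isUnit) hJt hneg
      htJ').block (Fin m')
    have hw : Matrix.compAlgEquiv (Fin m') (Fin 2) (N.X ⊗[R] R) R
        (Matrix.diagonal fun _ => incl N.X (↑J : Matrix (Fin 2) (Fin 2) R)) = incl N.X (Jm R m') := by
      ext ⟨i, a⟩ ⟨j, b⟩
      rcases eq_or_ne i j with rfl | hne
      · simp [Matrix.compAlgEquiv, Jm, incl, hJ]
      · simp [Matrix.compAlgEquiv, Jm, incl, hne, Matrix.diagonal_apply_ne _ hne]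
    rw [hw] at g
    exact ⟨N, _, _, Nbd.base_self p, g⟩

end Groth.Agent.S17359
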