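import Groth.Statements.S1736
import Groth.Agent.LocCoh.TopVanishing
-- import your own Groth.Agent.* helpers here

set_option autoImplicit false
universe u
open LocCoh

namespace Groth.Agent.S1736

/-- Let A be a Noetherian ring of finite dimension d and I ⊆ I' ideals with I' contained in the Jacobson
radical of A. If cd(A, I') < d, i.e. H^i_{I'}(M) = 0 for all A-modules M and all i ≥ d, then also
cd(A, I) < d: H^i_I(M) = 0 for all A-modules M and all i ≥ d. -/
theorem result (A : Type u) [CommRing A] [IsNoetherianRing A] (d : ℕ) (hd : ringKrullDim A = d) (I I' : Ideal A) (hII' : I ≤ I') (hJ : I' ≤ (⊥ : Ideal A).jacobson) (h : ∀ (M : Type u) [AddCommGroup M] [Module A M] (i : ℕ), d ≤ i → Subsingleton (LocCoh.H I' i M)) (M : Type u) [AddCommGroup M] [Module A M] (i : ℕ) (hi : d ≤ i) : Subsingleton (LocCoh.H I i M) := by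
  rcases d with - | d
  · -- in dimension zero the Jacobson radical is the nilradical
    have hdim : Ring.KrullDimLE 0 A := Ring.krullDimLE_iff.mpr (by rw [hd])
    have hnil : ∃ n, I' ^ n = ⊥ := by
      have hle : I' ≤ (⊥ : Ideal A).radical := by
        refine hJ.trans ?_
        rw [Ideal.radical_eq_sInf]
        exact le_sInf fun p hp => sInf_le ⟨bot_le, hp.2.isMaximal'⟩
      obtain ⟨n, hn⟩ := Ideal.exists_pow_le_of_le_radical_of_fg hle (IsNoetherian.noetherian I')
      exact ⟨n, eq_bot_iff.mpr hn⟩
    obtain ⟨n, hn⟩ := hnil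
    have : Subsingleton (ModuleCat.of A M) := by
      have h0 := Groth.Agent.LocCoh.torsionSub_eq_bot_of_subsingleton_H_zero
        (G := ModuleCat.of A M) (h M 0 le_rfl)
      refine subsingleton_of_forall_eq 0 fun m => ?_
      have hm : m ∈ DRing.torsionSub I' (ModuleCat.of A M) := ⟨n, fun a ha => by
        rw [hn, Ideal.mem_bot] at ha; rw [ha, zero_smul]⟩
      rwa [h0, Submodule.mem_bot] at hm
    exact Groth.Agent.LocCoh.subsingleton_H_of_isZero (M := ModuleCat.of A M) this
  · obtain ⟨j, rfl⟩ : ∃ j, i = j + 1 := ⟨i - 1, by omega⟩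
    exact Groth.Agent.LocCoh.subsingleton_H_of_le_jacobson d hd.le I I' hII' hJ
      (fun M j hj => h M (j + 1) (by omega)) (ModuleCat.of A M) j (by omega)

end Groth.Agent.S1736
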