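import Groth.Statements.S17360
import Groth.Agent.AzInvLib.Types

set_option autoImplicit false
universe u
open scoped TensorProduct
open AzInv

namespace Groth.Agent.S17360

open Groth.Agent.AzInvLib

/-- Let `R` be a nontrivial commutative ring in which `2` is a unit, with the trivial involution. This
row states the second half of the count of types: the identity of `R` (the orthogonal type) and the
standard symplectic involution `x ↦ J xᵀ J⁻¹` of the `2 × 2` matrix algebra, `J` the matrix with
rows `(0, -1)` and `(1, 0)`, do not have the same type, i.e. for no positive sizes do the matrix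
algebras over `R` with the transpose and over `M_2(R)` with the involution induced by the symplectic
one become isomorphic as `R`-algebras with involution after an etale faithfully flat base change of
`R`. (The source states that the monoid of types is isomorphic to the group of global square roots
of `1`, for a locally ringed topos with trivial involution and `2` invertible; the row is the affine
case.) -/
theorem result (R : Type u) [CommRing R] (hlam : ∀ r : R, (AlgEquiv.refl : R ≃ₐ[R] R) ((AlgEquiv.refl : R ≃ₐ[R] R) r) = r)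
    [Nontrivial R] (h2 : IsUnit (2 : R))
    (J : (Matrix (Fin 2) (Fin 2) R)ˣ) (hJ : (↑J : Matrix (Fin 2) (Fin 2) R) = Matrix.of ![![0, -1], ![1, 0]])
    (hJt : AzInv.LamInv.transpose (AlgEquiv.refl : R ≃ₐ[R] R) (Fin 2) hlam (↑J : Matrix (Fin 2) (Fin 2) R) = (-1 : R) • (↑J : Matrix (Fin 2) (Fin 2) R))
    (hneg : (AlgEquiv.refl : R ≃ₐ[R] R) (-1) * (-1) = 1) :
    ¬ AzInv.SameType R (AlgEquiv.refl : R ≃ₐ[R] R) (AzInv.LamInv.self (AlgEquiv.refl : R ≃ₐ[R] R) hlam) ((AzInv.LamInv.transpose (AlgEquiv.refl : R ≃ₐ[R] R) (Fin 2) hlam).conj J (-1) hJt hneg) := by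
  classical
  rintro ⟨m, m', hm, hm', hloc⟩
  have hfix : RInv.IsFixedRing R R (AlgEquiv.refl : R ≃ₐ[R] R).toRingEquiv :=
    ⟨fun a b h => h, fun r => ⟨fun _ => ⟨r, rfl⟩, fun _ => rfl⟩⟩
  obtain ⟨p⟩ := (inferInstance : Nonempty (PrimeSpectrum R))
  set lam : R ≃ₐ[R] R := AlgEquiv.refl with hl
  set tJ := (AzInv.LamInv.transpose lam (Fin 2) hlam).conj J (-1) hJt hneg with htJ
  have htJ' : ∀ M : Matrix (Fin 2) (Fin 2) R, tJ M * (↑J : Matrix (Fin 2) (Fin 2) R) =
      (↑J : Matrix (Fin 2) (Fin 2) R) * AzInv.lamTr lam M := fun M => by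
    show (↑J : Matrix (Fin 2) (Fin 2) R) * AzInv.lamTr lam M * (↑J⁻¹ : Matrix (Fin 2) (Fin 2) R) *
      (↑J : Matrix (Fin 2) (Fin 2) R) = _
    rw [Units.inv_mul_cancel_right]
  have hJd : IsUnit (↑J : Matrix (Fin 2) (Fin 2) R).det := (Matrix.isUnit_iff_isUnit_det _).mp J.isUnit
  have G1 : ∀ t : AzInv.LamInv R (Matrix (Fin m) (Fin m) R) lam, (∀ M, t M = AzInv.lamTr lam M) →
      HasGram lam t m := fun t ht =>
    hasGram_model t 1 1 (by simp) (by rw [lamTr_one, one_smul]) (by simp) fun M => by
      rw [mul_one, one_mul, ht]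
  have g1 := G1 ((AzInv.LamInv.self lam hlam).matrix (Fin m)) fun M => rfl
  have g2 := hasGram_model tJ ↑J (-1) hJd hJt hneg htJ'
  obtain ⟨heq, hsign⟩ := locIsoEt_degree_sign hlam hfix hloc g1 (g2.matrix m') p
  have hq : ∀ r, lam r - r ∈ p.asIdeal := fun r => by simp [hl]
  have hbase : PrimeSpectrum.comap (algebraMap R R) p = p := by
    rw [Algebra.algebraMap_self, PrimeSpectrum.comap_id]
  have hiff := hsign hm h2 p hq hbase
  rw [orth_matrix_iff hlam hfix h2 two_pos g2 hm' p hq] at hiff
  let N := Nbd.self p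
  have k₁ := gram_model N.X ((AzInv.LamInv.self lam hlam).matrix (Fin m)) 1 1 (by simp)
    (by rw [lamTr_one, one_smul]) (by simp) (fun M => by rw [mul_one, one_mul]; rfl)
  have k₂ := gram_model N.X tJ ↑J (-1) hJd hJt hneg htJ'
  haveI := N.pt.isPrime
  obtain ⟨Q, hQp, hQ⟩ := Herm.exists_over (lamX lam N.X) (lamX_lamX lam N.X hlam)
    (isFixed_lamX lam N.X hfix) N.pt.asIdeal
  haveI := hQp
  have hb : PrimeSpectrum.comap (algebraMap R R) p = N.base := hbase.trans (Nbd.base_self p).symm
  rw [orth_iff hlam hfix h2 (Fintype.card_fin m) hm k₁ p hq hb hQ,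
    orth_iff hlam hfix h2 (Fintype.card_fin 2) two_pos k₂ p hq hb hQ] at hiff
  refine hiff.mp ?_ ?_
  · rw [← Algebra.TensorProduct.one_def, one_add_one_eq_two]
    exact two_notMem h2 Q hQp.ne_top
  · rw [TensorProduct.tmul_neg, ← Algebra.TensorProduct.one_def, add_neg_cancel]
    exact Q.zero_mem

end Groth.Agent.S17360
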