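import Groth.Statements.S17363
import Groth.Agent.AzInvLib.Normal
import Mathlib.RingTheory.Jacobson.Ideal

set_option autoImplicit false
universe u v
open scoped TensorProduct
open RInv

namespace Groth.Agent.S17363

open Groth.Agent.AzInvLib

/-- Let `A` be a commutative ring with an involution `lam` whose fixed ring `B` is local; assume that
`lam` is the identity modulo the Jacobson radical of `A`, that `2` is a unit of `A`, and that `h` is
an invertible `2 × 2` matrix over `A` with `h = -(lam h)ᵀ` whose entries are congruent modulo the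
Jacobson radical to those of the matrix with rows `(0, 1)`, `(-1, 0)`. Then there are units `s, t`
of `B`, finitely many elements `f_i` of `B' = B[X, Y]/(X² - s, Y² - t)` (`B` with square roots of
`s` and `t` adjoined) that generate the unit ideal, and for every `i` an invertible `2 × 2` matrix
`v` over `B'_{f_i} ⊗_B A` (that is, `A` with the two square roots adjoined, localised at `f_i`;
`lam` extends so as to fix the square roots) such that `(lam v)ᵀ h v` is the matrix with rows `(0,
1)`, `(-1, 0)`. (The published statement writes the congruence with the plain transpose `vᵀ h v`,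
which fails in general: for a field `k` of characteristic not `2`, the ring `A` of formal power
series in `y` over `k`, with `B` its subring of series in `y²`, `lam y = -y` and `h` with rows `(y,
1)`, `(-1, y)`, satisfies every hypothesis, while `vᵀ h v` equal to the matrix with rows `(0, 1)`,
`(-1, 0)` would, added to its transpose, give `2y · vᵀ v = 0` and hence `det v = 0` over a nonzero
ring in which `y` is not a zero divisor. The proof computes the Gram matrix of the hermitian form
`(a, b) ↦ (lam a)ᵀ h b` in a new basis, which is `(lam v)ᵀ h v`, and that is what is stated here.) -/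
theorem result (B : Type u) (A : Type v) [CommRing B] [CommRing A]
    [Algebra B A] (lam : A ≃ₐ[B] A) (hlam : ∀ a, lam (lam a) = a) (hB : RInv.IsFixedRing B A lam.toRingEquiv)
    [IsLocalRing B] (hid : ∀ a : A, lam a - a ∈ Ring.jacobson A) (h2 : IsUnit (2 : A))
    (h : Matrix (Fin 2) (Fin 2) A) (hh : IsUnit h) (herm : -(h.map lam).transpose = h)
    (hJ : ∀ i j : Fin 2, h i j - Matrix.of ![![(0 : A), 1], ![-1, 0]] i j ∈ Ring.jacobson A) :
    ∃ (s t : Bˣ) (r : ℕ) (f : Fin r → (MvPolynomial (Fin 2) B ⧸ Ideal.span ({MvPolynomial.X 0 ^ 2 - MvPolynomial.C (s : B), MvPolynomial.X 1 ^ 2 - MvPolynomial.C (t : B)} : Set (MvPolynomial (Fin 2) B)))),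
      Ideal.span (Set.range f) = ⊤ ∧
      ∀ i : Fin r, ∃ v : Matrix (Fin 2) (Fin 2) (Localization.Away (f i) ⊗[B] A), IsUnit v ∧
        (v.map (Algebra.TensorProduct.congr (AlgEquiv.refl : Localization.Away (f i) ≃ₐ[Localization.Away (f i)] Localization.Away (f i)) lam)).transpose * h.map (Algebra.TensorProduct.includeRight : A →ₐ[B] Localization.Away (f i) ⊗[B] A) * v
          = (Matrix.of ![![(0 : A), 1], ![-1, 0]]).map (Algebra.TensorProduct.includeRight : A →ₐ[B] Localization.Away (f i) ⊗[B] A) := by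
  classical
  set c := h 0 1 with hc
  set a := h 0 0 with ha
  set b := h 1 1 with hb
  have hsk : ∀ i j, lam (h i j) = -h j i := fun i j => by
    have h1 := congrFun (congrFun herm j) i
    simp only [Matrix.neg_apply, Matrix.transpose_apply, Matrix.map_apply] at h1
    rw [← h1, neg_neg]
  have hJ' : ∀ i, h i i ∈ Ring.jacobson A := fun i => by
    fin_cases i
    · simpa using hJ 0 0
    · simpa using hJ 1 1
  obtain ⟨s₀, hs₀⟩ := Herm.exists_fixed lam hB (x := c * lam c) (by rw [map_mul, hlam, mul_comm])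
  obtain ⟨k₀, hk₀⟩ := Herm.exists_fixed lam hB (x := a * (lam c * c * b))
    (by rw [map_mul, map_mul, map_mul, hlam, show lam a = -a from hsk 0 0, show lam b = -b from hsk 1 1]; ring)
  haveI : Algebra.IsIntegral B A := isIntegral_fixed (lam := lam.toRingEquiv) hlam hB
  have hjm : ∀ x : B, algebraMap B A x ∈ Ring.jacobson A → x ∈ IsLocalRing.maximalIdeal B := by
    intro x hx
    haveI : Nontrivial A := hB.1.nontrivial
    obtain ⟨M, hM⟩ := Ideal.exists_maximal A
    rw [← Ideal.jacobson_bot, Ideal.jacobson, Submodule.mem_sInf] at hx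
    have h1 := hx M ⟨bot_le, hM⟩
    rwa [← Ideal.mem_comap,
      IsLocalRing.eq_maximalIdeal (Ideal.isMaximal_comap_of_isIntegral_of_isMaximal M)] at h1
  have hk : k₀ ∈ IsLocalRing.maximalIdeal B := hjm k₀ (by
    rw [hk₀]; exact Ideal.mul_mem_right _ _ (hJ' 0))
  have hs₀u : IsUnit s₀ := by
    rw [← IsLocalRing.notMem_maximalIdeal]
    intro hm
    have h1 : c * lam c ∈ (IsLocalRing.maximalIdeal B).map (algebraMap B A) := by
      rw [← hs₀]; exact Ideal.mem_map_of_mem _ hm
    haveI : Nontrivial A := hB.1.nontrivial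
    obtain ⟨M, hM⟩ := Ideal.exists_maximal A
    have hMm : M.comap (algebraMap B A) = IsLocalRing.maximalIdeal B :=
      IsLocalRing.eq_maximalIdeal (Ideal.isMaximal_comap_of_isIntegral_of_isMaximal M)
    have hJM : ∀ z ∈ Ring.jacobson A, z ∈ M := fun z hz => by
      rw [← Ideal.jacobson_bot, Ideal.jacobson, Submodule.mem_sInf] at hz
      exact hz M ⟨bot_le, hM⟩
    have h2 : c * lam c ∈ M := by rw [← hs₀]; rw [← hMm, Ideal.mem_comap] at hm; exact hm
    have hc1 : c - 1 ∈ M := hJM _ (by simpa using hJ 0 1)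
    have hc2 : c ∈ M := (hM.isPrime.mem_or_mem h2).elim id fun h3 => by
      rw [← sub_sub_cancel (lam c) c]; exact sub_mem h3 (hJM _ (hid c))
    exact hM.ne_top (M.eq_top_iff_one.mpr (by simpa using sub_mem hc2 hc1))
  have hsu : IsUnit (s₀ * s₀ + k₀) := by
    rw [← IsLocalRing.notMem_maximalIdeal]
    intro hm
    have h1 := sub_mem hm hk
    rw [add_sub_cancel_right] at h1
    exact IsLocalRing.notMem_maximalIdeal.mpr (hs₀u.mul hs₀u) h1
  have h2B : IsUnit (2 : B) := by
    rw [← IsLocalRing.notMem_maximalIdeal]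
    intro hm
    haveI : Nontrivial A := hB.1.nontrivial
    obtain ⟨M, hM⟩ := Ideal.exists_maximal A
    rw [← IsLocalRing.eq_maximalIdeal (Ideal.isMaximal_comap_of_isIntegral_of_isMaximal M
      (R := B)), Ideal.mem_comap, map_ofNat] at hm
    exact hM.ne_top (M.eq_top_of_isUnit_mem hm h2)
  let I : Ideal (MvPolynomial (Fin 2) B) := Ideal.span ({MvPolynomial.X 0 ^ 2 - MvPolynomial.C (hsu.unit : B), MvPolynomial.X 1 ^ 2 - MvPolynomial.C ((1 : Bˣ) : B)} : Set (MvPolynomial (Fin 2) B))
  let S₀ : MvPolynomial (Fin 2) B ⧸ I := algebraMap B _ s₀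
  let Xq : MvPolynomial (Fin 2) B ⧸ I := Ideal.Quotient.mk I (MvPolynomial.X 0)
  have hXq : Xq * Xq = algebraMap B _ (s₀ * s₀ + k₀) := by
    show Ideal.Quotient.mk I _ * Ideal.Quotient.mk I _ = Ideal.Quotient.mk I (MvPolynomial.C (s₀ * s₀ + k₀))
    rw [← map_mul, Ideal.Quotient.mk_eq_mk_iff_sub_mem, ← pow_two]
    exact Ideal.subset_span (Or.inl rfl)
  let f : Fin 2 → MvPolynomial (Fin 2) B ⧸ I := ![S₀ + Xq, S₀ - Xq]
  refine ⟨hsu.unit, 1, 2, f, ?_, fun i => ?_⟩
  · rw [Ideal.eq_top_iff_one]
    have h0 : f 0 ∈ Ideal.span (Set.range f) := Ideal.subset_span ⟨0, rfl⟩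
    have h1 : f 1 ∈ Ideal.span (Set.range f) := Ideal.subset_span ⟨1, rfl⟩
    have h3 : IsUnit (f 0 + f 1) := by
      rw [show f 0 + f 1 = algebraMap B _ (2 * s₀) by
        simp only [f, Matrix.cons_val_zero, Matrix.cons_val_one, map_mul, map_ofNat]; ring]
      exact (h2B.mul hs₀u).map _
    obtain ⟨z, hz⟩ := h3.exists_left_inv
    rw [← hz]
    exact Ideal.mul_mem_left _ z (add_mem h0 h1)
  · let L := Localization.Away (f i)
    let q : MvPolynomial (Fin 2) B ⧸ I →ₐ[B] L := IsScalarTower.toAlgHom B _ L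
    obtain ⟨σ, hσ, hu⟩ : ∃ σ : L, σ * σ = algebraMap B L (s₀ * s₀ + k₀) ∧
        IsUnit (algebraMap B L s₀ + σ) := by
      have hu : IsUnit (q (f i)) := IsLocalization.Away.algebraMap_isUnit (f i)
      fin_cases i
      · refine ⟨q Xq, by rw [← map_mul, hXq, AlgHom.commutes], ?_⟩
        rw [← AlgHom.commutes q s₀, ← map_add]
        exact hu
      · refine ⟨-q Xq, by rw [neg_mul_neg, ← map_mul, hXq, AlgHom.commutes], ?_⟩
        rw [← AlgHom.commutes q s₀, ← sub_eq_add_neg, ← map_sub]
        exact hu
    obtain ⟨ti, hti⟩ := hu.exists_left_inv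
    obtain ⟨si, hsi⟩ := (hsu.map (algebraMap B L)).exists_left_inv
    obtain ⟨half, hhalf⟩ := (h2B.map (algebraMap B L)).exists_left_inv
    rw [map_ofNat] at hhalf
    rw [map_add, map_mul] at hσ hsi
    set S1 := algebraMap B L s₀
    set K1 := algebraMap B L k₀
    let ιA : A →ₐ[B] L ⊗[B] A := Algebra.TensorProduct.includeRight
    set μ := lamX lam L
    have hιμ : ∀ z : A, μ (ιA z) = ιA (lam z) := fun z => rfl
    let h' := h.map ιA
    have hskew : AzInv.lamTr μ h' = -h' := by
      ext i j
      show μ (ιA (h j i)) = -ιA (h i j)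
      rw [hιμ, hsk, map_neg]
    let u : Fin 2 → L ⊗[B] A := Pi.single 0 1
    let v : Fin 2 → L ⊗[B] A := Pi.single 1 (ιA (lam c))
    have hH : ∀ (i j : Fin 2) (x y : L ⊗[B] A),
        Herm.H μ h' (Pi.single i x) (Pi.single j y) = μ x * ιA (h i j) * y := by
      intro i j x y
      rw [Herm.H_def, Finset.sum_eq_single i, Finset.sum_eq_single j]
      · simp [h']
      · intro k _ hk; simp [hk]
      · simp
      · intro k _ hk; simp [hk]
      · simp
    have hfix : ∀ x : B, ιA (algebraMap B A x) = algebraMap L (L ⊗[B] A) (algebraMap B L x) := fun x => by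
      rw [AlgHom.commutes, IsScalarTower.algebraMap_apply B L (L ⊗[B] A)]
    obtain ⟨x, y, hxy⟩ := exists_hyp_succ μ (lamX_lamX lam L hlam) h' hskew
      (x := Fin.elim0) (y := Fin.elim0) (fun i => i.elim0) (u := u) (v := v)
      (fun i => i.elim0) (fun i => i.elim0) (fun i => i.elim0) (fun i => i.elim0)
      (s := S1) (c := K1) (t := -ti) (di := σ * si) (half := half)
      (by rw [hH, map_one, one_mul, ← map_mul, ← hc, ← hs₀, hfix])
      (by
        rw [hH, hH, map_one, one_mul, mul_one, hιμ, hlam, ← map_mul, ← map_mul, ← map_mul, ← ha, ← hb,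
          show a * (c * b * lam c) = a * (lam c * c * b) by ring, ← hk₀, hfix])
      (by linear_combination (-(ti * ti)) * hσ + (ti * (σ - S1) + 1) * hti)
      (by
        have e : S1 - K1 * -ti = σ := by
          linear_combination (-ti) * hσ + (σ - S1) * hti
        rw [e]
        linear_combination si * hσ + hsi) hhalf
    let V : Matrix (Fin 2) (Fin 2) (L ⊗[B] A) := Matrix.of fun a k => (![x 0, y 0] k) a
    have hV : AzInv.lamTr μ V * h' * V =
        (Matrix.of ![![(0 : A), 1], ![-1, 0]]).map ιA := by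
      ext p q
      refine (Herm.gram_eq μ h' (fun k => ![x 0, y 0] k) p q).trans ?_
      obtain ⟨h1, h3, h4⟩ := hxy 0 0
      have h5 := Herm.lam_H_skew μ h' (lamX_lamX lam L hlam) hskew (x 0) (y 0)
      rw [h4, if_pos rfl, map_one] at h5
      fin_cases p <;> fin_cases q
      · simpa using h1
      · simpa using h4
      · simp only [Matrix.map_apply, Matrix.of_apply]
        simpa using (eq_neg_iff_add_eq_zero.mpr (by linear_combination h5) :
          Herm.H μ h' (y 0) (x 0) = -1)
      · simpa using h3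
    refine ⟨V, ?_, hV⟩
    rw [Matrix.isUnit_iff_isUnit_det]
    have h6 := congrArg Matrix.det hV
    rw [Matrix.det_mul] at h6
    have h7 : IsUnit ((Matrix.of ![![(0 : A), 1], ![-1, 0]]).map ιA).det := by
      simp [Matrix.det_fin_two]
    rw [← h6] at h7
    exact isUnit_of_mul_isUnit_right h7

end Groth.Agent.S17363
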