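import Groth.Statements.S17364
import Groth.Agent.HermSpread.SqrtAlg

set_option autoImplicit false
universe u v
open scoped TensorProduct
open RInv

namespace Groth.Agent.S17364

/-- Let `A` be a commutative ring with an involution `lam` whose fixed ring is `B`, let `ε = ±1`, and
let `h, h'` be invertible `n × n` matrices over `A` with `h = ε (lam h)ᵀ` and `h' = ε (lam h')ᵀ`.
Let `p` be a prime of `B` and suppose there are units `s_1, …, s_l` of the local ring `B_p`,
elements `f_1, …, f_r` of `B_p[X_1, …, X_l]/(X_k² - s_k)` (square roots of the `s_k` adjoined)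
generating the unit ideal, and for each `i` an invertible matrix `v` over `C ⊗_B A` for the
localisation `C` of that ring at `f_i` (any `B`-algebra with the universal property of that
localisation) (`lam` extended so as to fix the square roots and `B_p`) with `(lam v)ᵀ h v = h'`.
Then there is `b ∉ p` in `B` such that the same kind of data exists with `B_p` replaced by `B_b`:
units of `B_b`, a finite family generating the unit ideal of `B_b[X_1, …, X_l]/(X_k² - s_k)`, and
invertible matrices over the corresponding localisations tensored with `A` congruating `h` to `h'`. -/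
theorem result (B : Type u) (A : Type v) [CommRing B] [CommRing A]
    [Algebra B A] (lam : A ≃ₐ[B] A) (hlam : ∀ a, lam (lam a) = a) (hB : RInv.IsFixedRing B A lam.toRingEquiv)
    (n : ℕ) (ε : A) (hε : ε = 1 ∨ ε = -1) (h h' : Matrix (Fin n) (Fin n) A) (hh : IsUnit h) (hh' : IsUnit h')
    (herm : ε • (h.map lam).transpose = h) (herm' : ε • (h'.map lam).transpose = h')
    (p : Ideal B) [p.IsPrime]
    (hdata : (∃ (l : ℕ) (s : Fin l → (Localization.AtPrime p)ˣ) (r : ℕ) (f : Fin r → (MvPolynomial (Fin l) (Localization.AtPrime p) ⧸ Ideal.span (Set.range fun k : Fin l => MvPolynomial.X k ^ 2 - MvPolynomial.C (s k : Localization.AtPrime p)))),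
        Ideal.span (Set.range f) = ⊤ ∧
        ∀ (i : Fin r) (C : Type u) [CommRing C] [Algebra B C]
          [Algebra (MvPolynomial (Fin l) (Localization.AtPrime p) ⧸ Ideal.span (Set.range fun k : Fin l => MvPolynomial.X k ^ 2 - MvPolynomial.C (s k : Localization.AtPrime p))) C]
          [IsScalarTower B (MvPolynomial (Fin l) (Localization.AtPrime p) ⧸ Ideal.span (Set.range fun k : Fin l => MvPolynomial.X k ^ 2 - MvPolynomial.C (s k : Localization.AtPrime p))) C]
          [IsLocalization.Away (f i) C],
          ∃ v : Matrix (Fin n) (Fin n) (C ⊗[B] A), IsUnit v ∧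
            (v.map (Algebra.TensorProduct.congr (AlgEquiv.refl : C ≃ₐ[C] C) lam)).transpose * h.map (Algebra.TensorProduct.includeRight : A →ₐ[B] C ⊗[B] A) * v = h'.map (Algebra.TensorProduct.includeRight : A →ₐ[B] C ⊗[B] A))) :
    ∃ b : B, b ∉ p ∧
      (∃ (l : ℕ) (s : Fin l → (Localization.Away b)ˣ) (r : ℕ) (f : Fin r → (MvPolynomial (Fin l) (Localization.Away b) ⧸ Ideal.span (Set.range fun k : Fin l => MvPolynomial.X k ^ 2 - MvPolynomial.C (s k : Localization.Away b)))),
        Ideal.span (Set.range f) = ⊤ ∧
        ∀ (i : Fin r) (C : Type u) [CommRing C] [Algebra B C]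
          [Algebra (MvPolynomial (Fin l) (Localization.Away b) ⧸ Ideal.span (Set.range fun k : Fin l => MvPolynomial.X k ^ 2 - MvPolynomial.C (s k : Localization.Away b))) C]
          [IsScalarTower B (MvPolynomial (Fin l) (Localization.Away b) ⧸ Ideal.span (Set.range fun k : Fin l => MvPolynomial.X k ^ 2 - MvPolynomial.C (s k : Localization.Away b))) C]
          [IsLocalization.Away (f i) C],
          ∃ v : Matrix (Fin n) (Fin n) (C ⊗[B] A), IsUnit v ∧
            (v.map (Algebra.TensorProduct.congr (AlgEquiv.refl : C ≃ₐ[C] C) lam)).transpose * h.map (Algebra.TensorProduct.includeRight : A →ₐ[B] C ⊗[B] A) * v = h'.map (Algebra.TensorProduct.includeRight : A →ₐ[B] C ⊗[B] A)) := by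
  classical
  obtain ⟨l, s, r, f, hspan, hC⟩ := hdata
  choose a t ht hs using fun k => Groth.Agent.HermSpread.exists_num_den (B := B) (M := p.primeCompl)
    (s k : Localization.AtPrime p)
  have ha : ∀ k, a k ∈ p.primeCompl := fun k => by
    rw [← IsLocalization.AtPrime.isUnit_to_map_iff (Localization.AtPrime p) p, ← hs k]
    exact (IsLocalization.map_units _ (⟨t k, ht k⟩ : p.primeCompl)).mul (s k).isUnit
  choose g hg m hm hgC using fun i => Groth.Agent.HermSpread.exists_congr_of_away lam p a t
    (fun k => (s k : Localization.AtPrime p)) hs ht h h' (f i) (hC i (Localization.Away (f i)))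
  let ρ := Groth.Agent.HermSpread.toSq a t (fun k => (s k : Localization.AtPrime p)) hs
  have htop : (Ideal.span (Set.range g)).map ρ = ⊤ := by
    rw [Ideal.map_span, eq_top_iff, ← hspan, Ideal.span_le]
    rintro _ ⟨i, rfl⟩
    exact Ideal.mem_of_dvd _ (hg i).symm.dvd (Ideal.subset_span ⟨g i, ⟨i, rfl⟩, rfl⟩)
  obtain ⟨m₀, hm₀, hmem⟩ : ∃ m₀ ∈ p.primeCompl,
      algebraMap B (Groth.Agent.HermSpread.Root a t) m₀ ∈ Ideal.span (Set.range g) := by
    letI := ρ.toRingHom.toAlgebra
    haveI := Groth.Agent.HermSpread.isLocalization_toSq a t (fun k => (s k : Localization.AtPrime p)) hs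
      p.primeCompl ht
    have := (IsLocalization.map_algebraMap_ne_top_iff_disjoint
      (Algebra.algebraMapSubmonoid (Groth.Agent.HermSpread.Root a t) p.primeCompl)
      (MvPolynomial (Fin l) (Localization.AtPrime p) ⧸ Groth.Agent.HermSpread.sqIdeal
        fun k => (s k : Localization.AtPrime p)) (Ideal.span (Set.range g))).not.1 (not_not.2 htop)
    obtain ⟨_, ⟨m₀, hm₀, rfl⟩, hz⟩ := Set.not_disjoint_iff.1 this
    exact ⟨m₀, hm₀, hz⟩
  let b : B := (∏ k, a k) * (∏ k, t k) * m₀ * ∏ i, m i
  have hb : b ∈ p.primeCompl :=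
    mul_mem (mul_mem (mul_mem (Submonoid.prod_mem _ fun k _ => ha k) (Submonoid.prod_mem _ fun k _ => ht k)) hm₀)
      (Submonoid.prod_mem _ fun i _ => hm i)
  refine ⟨b, hb, ?_⟩
  have hdiv : ∀ {x : B}, x ∣ b → IsUnit (algebraMap B (Localization.Away b) x) := fun hx =>
    isUnit_of_dvd_unit (map_dvd _ hx) (IsLocalization.Away.algebraMap_isUnit b)
  have hta : ∀ k, IsUnit (algebraMap B (Localization.Away b) (t k)) := fun k => hdiv
    (((Finset.dvd_prod_of_mem t (Finset.mem_univ k)).mul_left _).mul_right _ |>.mul_right _)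
  have haa : ∀ k, IsUnit (algebraMap B (Localization.Away b) (a k)) := fun k => hdiv
    (((Finset.dvd_prod_of_mem a (Finset.mem_univ k)).mul_right _).mul_right _ |>.mul_right _)
  let s' : Fin l → (Localization.Away b)ˣ := fun k => (haa k).unit * (hta k).unit⁻¹
  have hs' : ∀ k, algebraMap B (Localization.Away b) (t k) * (s' k : Localization.Away b) =
      algebraMap B (Localization.Away b) (a k) := fun k => by
    simp only [s', Units.val_mul, IsUnit.unit_spec]
    rw [mul_comm, mul_assoc, IsUnit.val_inv_mul, mul_one]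
  let φ := Groth.Agent.HermSpread.toSq a t (fun k => (s' k : Localization.Away b)) hs'
  refine ⟨l, s', r, fun i => φ (g i), ?_, fun i C _ _ _ _ _ => ?_⟩
  · rw [show (Set.range fun i => φ (g i)) = φ '' Set.range g from Set.range_comp φ g, ← Ideal.map_span]
    refine Ideal.eq_top_of_isUnit_mem _ (Ideal.mem_map_of_mem φ hmem) ?_
    rw [AlgHom.commutes, IsScalarTower.algebraMap_apply B (Localization.Away b)]
    exact (hdiv ((dvd_mul_left _ _).mul_right _)).map _
  · refine hgC i C ((IsScalarTower.toAlgHom B _ C).comp φ) (IsLocalization.Away.algebraMap_isUnit (φ (g i))) ?_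
    rw [IsScalarTower.algebraMap_apply B
        (MvPolynomial (Fin l) (Localization.Away b) ⧸ Groth.Agent.HermSpread.sqIdeal
          fun k => (s' k : Localization.Away b)) C,
      IsScalarTower.algebraMap_apply B (Localization.Away b) (MvPolynomial (Fin l) (Localization.Away b) ⧸ _)]
    exact ((hdiv ((Finset.dvd_prod_of_mem m (Finset.mem_univ i)).mul_left _)).map _).map _

end Groth.Agent.S17364
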