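import Groth.Statements.S1737
import Groth.Agent.Depth.Local

set_option autoImplicit false
universe u
open LocCoh

namespace Groth.Agent.S1737

/-- Let A be a Noetherian ring, T ⊆ Spec A stable under specialization and M a finite A-module. There
are a finite A-module M' and a surjection M → M' which is bijective after localizing at every prime
outside T and such that M'_p has depth ≥ 1 over A_p for every p in T. (The source states this for
coherent modules on a Noetherian scheme, with uniqueness.) -/
theorem result (A : Type u) [CommRing A] [IsNoetherianRing A] (T : Set (PrimeSpectrum A)) (hT : StableUnderSpecialization T) (M : Type u) [AddCommGroup M] [Module A M] [Module.Finite A M] : ∃ (M' : Type u) (_ : AddCommGroup M') (_ : Module A M') (_ : Module.Finite A M') (f : M →ₗ[A] M'), Function.Surjective f ∧ (∀ p : PrimeSpectrum A, p ∉ T → Function.Bijective (LocalizedModule.map p.asIdeal.primeCompl f)) ∧ ∀ p : PrimeSpectrum A, p ∈ T → 1 ≤ LocCoh.depth (Localization.AtPrime p.asIdeal) (LocalizedModule p.asIdeal.primeCompl M')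 := by
  classical
  let N : Submodule A M := ⨅ p ∈ Tᶜ, LinearMap.ker (LocalizedModule.mkLinearMap (p : PrimeSpectrum A).asIdeal.primeCompl M)
  have hmem : ∀ m : M, m ∈ N ↔ ∀ p : PrimeSpectrum A, p ∉ T → ∃ s ∈ p.asIdeal.primeCompl, s • m = 0 := by
    intro m
    simp only [N, Submodule.mem_iInf, LinearMap.mem_ker, Set.mem_compl_iff]
    exact forall₂_congr fun p _ => by
      rw [IsLocalizedModule.eq_zero_iff p.asIdeal.primeCompl]
      exact ⟨fun ⟨s, h⟩ => ⟨s.1, s.2, h⟩, fun ⟨s, hs, h⟩ => ⟨⟨s, hs⟩, h⟩⟩
  refine ⟨M ⧸ N, inferInstance, inferInstance, inferInstance, N.mkQ, N.mkQ_surjective, fun p hp => ⟨?_, ?_⟩, fun p hp => ?_⟩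
  · refine (injective_iff_map_eq_zero _).mpr fun z => ?_
    induction z using LocalizedModule.induction_on with
    | h m s =>
      intro hz
      rw [LocalizedModule.map_mk, IsLocalizedModule.mk_eq_mk', IsLocalizedModule.mk'_eq_zero'] at hz
      obtain ⟨t, ht⟩ := hz
      rw [Submonoid.smul_def, ← map_smul, Submodule.mkQ_apply, Submodule.Quotient.mk_eq_zero] at ht
      obtain ⟨u, hu, htu⟩ := (hmem _).mp ht p hp
      rw [IsLocalizedModule.mk_eq_mk', IsLocalizedModule.mk'_eq_zero']
      exact ⟨⟨u * t.1, mul_mem hu t.2⟩, by rw [Submonoid.smul_def, mul_smul]; exact htu⟩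
  · exact LocalizedModule.map_surjective p.asIdeal.primeCompl _ N.mkQ_surjective
  · rw [LocCoh.depth, Groth.Agent.Depth.one_le_idealDepth_iff]
    intro P hP hle
    have hass := Module.associatedPrimes.comap_mem_associatedPrimes_of_mem_associatedPrimes_of_isLocalizedModule_of_fg
      p.asIdeal.primeCompl (LocalizedModule.mkLinearMap p.asIdeal.primeCompl (M ⧸ N)) P hP
      ((isNoetherianRing_iff_ideal_fg A).mp inferInstance _)
    obtain ⟨hPp, x, hx⟩ := isAssociatedPrime_iff.mp hass
    have hle' : p.asIdeal ≤ P.comap (algebraMap A (Localization.AtPrime p.asIdeal)) :=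
      (IsLocalization.AtPrime.under_maximalIdeal (Localization.AtPrime p.asIdeal) p.asIdeal).ge.trans
        (Ideal.comap_mono hle)
    obtain ⟨m, rfl⟩ := N.mkQ_surjective x
    have hm : m ∈ N := by
      rw [hmem]
      intro q hq
      obtain ⟨a, hap, haq⟩ := SetLike.not_le_iff_exists.mp fun (hpq : p.asIdeal ≤ q.asIdeal) =>
        hq (hT ((PrimeSpectrum.le_iff_specializes p q).mp hpq) hp)
      have ha : a • m ∈ N := by
        have h1 : a ∈ (⊥ : Submodule A (M ⧸ N)).colon {N.mkQ m} := hx ▸ hle' hap
        rw [Submodule.mem_colon_singleton, Submodule.mem_bot, ← map_smul, Submodule.mkQ_apply,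
          Submodule.Quotient.mk_eq_zero] at h1
        exact h1
      obtain ⟨u, hu, h⟩ := (hmem _).mp ha q hq
      exact ⟨u * a, mul_mem hu haq, by rw [mul_smul]; exact h⟩
    refine hPp.ne_top ((Ideal.eq_top_iff_one _).mpr ?_)
    rw [hx, Submodule.mem_colon_singleton, one_smul, Submodule.mkQ_apply,
      (Submodule.Quotient.mk_eq_zero N).mpr hm]
    exact Submodule.zero_mem _

end Groth.Agent.S1737
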