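import Groth.Statements.S17372
import Groth.Agent.SmoothingLib.AlgebraizeVersal
-- import your own Groth.Agent.* helpers here

set_option autoImplicit false
universe u
open CategoryTheory CategoryTheory.Limits
open Algz

namespace Groth.Agent.S17372

/-- Functor form. Let k be an algebraically closed field and F a set-valued functor on commutative
k-algebras which preserves filtered colimits (limit preserving). Let R be a complete local
Noetherian k-algebra with residue field k and ξ an element of F(R) which is versal: for every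
surjection π : B → B₀ of local Artinian k-algebras with residue field k, every k-algebra map g₀ : R
→ B₀ and every y in F(B) whose image in F(B₀) is the image of ξ under g₀, there is a k-algebra map g
: R → B lifting g₀ along π with image of ξ equal to y. Then there exist a finitely generated
k-algebra A, a maximal ideal m of A with residue field k, an element η of F(A) and a ring
isomorphism α from R to the m-adic completion of A commuting with the scalars from k, such that for
every n, pushing ξ forward along the k-algebra map R → A/m^(n+1) obtained from α and the evaluation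
of the completion gives the image of η under A → A/m^(n+1). (The published statement is for
limit-preserving prestacks over k-schemes; this row is stated for set-valued functors on k-algebras,
with the residue field k that a formal deformation carries by definition made an explicit
hypothesis.) -/
theorem result (k : Type u) [Field k] [IsAlgClosed k]
    (F : CommAlgCat.{u} k ⥤ Type u)
    (hF : ∀ (J : Type u) [SmallCategory J] [IsFiltered J], PreservesColimitsOfShape J F)
    (R : Type u) [CommRing R] [Algebra k R] [IsLocalRing R] [IsNoetherianRing R]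
    [IsAdicComplete (IsLocalRing.maximalIdeal R) R]
    (hres : Function.Surjective (fun c : k => IsLocalRing.residue R (algebraMap k R c)))
    (ξ : F.obj (CommAlgCat.of k R))
    (hvers : ∀ (B B₀ : Type u) [CommRing B] [Algebra k B] [IsLocalRing B] [IsArtinianRing B]
        [CommRing B₀] [Algebra k B₀] [IsLocalRing B₀] [IsArtinianRing B₀],
        Function.Surjective (fun c : k => IsLocalRing.residue B (algebraMap k B c)) →
        ∀ (π : B →ₐ[k] B₀), Function.Surjective π →
          ∀ (g₀ : R →ₐ[k] B₀) (y : F.obj (CommAlgCat.of k B)),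
            F.map (CommAlgCat.ofHom π) y = F.map (CommAlgCat.ofHom g₀) ξ →
              ∃ g : R →ₐ[k] B, π.comp g = g₀ ∧ F.map (CommAlgCat.ofHom g) ξ = y) :
    ∃ (A : Type u) (_ : CommRing A) (_ : Algebra k A) (_ : Algebra.FiniteType k A)
      (m : Ideal A) (_ : m.IsMaximal)
      (_ : Function.Surjective (fun c : k => Ideal.Quotient.mk m (algebraMap k A c)))
      (η : F.obj (CommAlgCat.of k A))
      (α : R ≃+* AdicCompletion m A),
      (∀ c : k, α (algebraMap k R c) = algebraMap A (AdicCompletion m A) (algebraMap k A c)) ∧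
      ∀ (n : ℕ) (ψ : R →ₐ[k] A ⧸ m ^ (n + 1)),
        ψ.toRingHom = (AdicCompletion.evalₐ m (n + 1) :
            AdicCompletion m A →ₐ[A] A ⧸ m ^ (n + 1)).toRingHom.comp α.toRingHom →
          F.map (CommAlgCat.ofHom ψ) ξ = F.map (CommAlgCat.ofHom (Ideal.Quotient.mkₐ k (m ^ (n + 1)))) η := by
  haveI : PreservesFilteredColimits F := ⟨fun J _ _ => hF J⟩
  obtain ⟨A, _, _, hA, m, hm, hres', η, P, _, _, _, I, α, β, hαI, hβI, hP, hsR, hsA, hk, hN, hcompat⟩ :=
    Groth.Agent.SmoothingLib.Algebraize.exists_model F R hres ξ 1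
  obtain ⟨φ₁, hφ₁⟩ := Groth.Agent.SmoothingLib.Algebraize.exists_truncEquiv hαI hβI hsR hsA 2 hN
  haveI : IsNoetherianRing A := Algebra.FiniteType.isNoetherianRing k A
  have hloc : ∀ n, IsLocalRing (A ⧸ m ^ (n + 1)) := fun n => by
    refine IsLocalRing.of_unique_max_ideal ⟨m.map (Ideal.Quotient.mk _), ?_, fun M hM => ?_⟩
    · exact (Ideal.map_eq_top_or_isMaximal_of_surjective _ Ideal.Quotient.mk_surjective hm).resolve_left
        fun h => hm.ne_top (by
          have := congrArg (Ideal.comap (Ideal.Quotient.mk (m ^ (n + 1)))) h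
          rwa [Ideal.comap_map_of_surjective _ Ideal.Quotient.mk_surjective, ← RingHom.ker_eq_comap_bot,
            Ideal.mk_ker, Ideal.comap_top, sup_eq_left.2 (Ideal.pow_le_self n.succ_ne_zero)] at this)
    · haveI := hM
      have h1 : m ≤ M.comap (Ideal.Quotient.mk (m ^ (n + 1))) := by
        haveI : (M.comap (Ideal.Quotient.mk (m ^ (n + 1)))).IsPrime := Ideal.comap_isPrime _ M
        refine Ideal.IsPrime.le_of_pow_le (n := n + 1) fun x hx => ?_
        rw [Ideal.mem_comap, Ideal.Quotient.eq_zero_iff_mem.2 hx]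
        exact zero_mem _
      have h2 := hm.eq_of_le (Ideal.comap_ne_top _ hM.ne_top) h1
      exact (Ideal.map_comap_of_surjective _ Ideal.Quotient.mk_surjective M).symm.trans
        (congrArg (Ideal.map _) h2.symm)
  have hart : ∀ n, IsArtinianRing (A ⧸ m ^ (n + 1)) := fun n => by
    letI := Ideal.Quotient.field m
    exact Groth.Agent.S14020.result A m (IsNoetherian.noetherian m) (n + 1)
  have hresB : ∀ n, letI := hloc n
      Function.Surjective (fun c : k => IsLocalRing.residue (A ⧸ m ^ (n + 1)) (algebraMap k _ c)) := fun n => by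
    letI := hloc n
    intro w
    obtain ⟨b, rfl⟩ := IsLocalRing.residue_surjective w
    obtain ⟨x, rfl⟩ := Ideal.Quotient.mk_surjective b
    obtain ⟨c, hc⟩ := hres' (Ideal.Quotient.mk m x)
    refine ⟨c, Ideal.Quotient.eq.2 (fun hu => ?_)⟩
    have h1 := hu.map (Ideal.Quotient.factor (Ideal.pow_le_self n.succ_ne_zero : m ^ (n + 1) ≤ m))
    rw [map_sub, show Ideal.Quotient.factor _ (algebraMap k (A ⧸ m ^ (n + 1)) c) =
      Ideal.Quotient.mk m (algebraMap k A c) from rfl, Ideal.Quotient.factor_mk,
      show Ideal.Quotient.mk m (algebraMap k A c) = Ideal.Quotient.mk m x from hc, sub_self] at h1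
    haveI : Nontrivial (A ⧸ m) := Ideal.Quotient.nontrivial_iff.2 hm.ne_top
    exact not_isUnit_zero h1
  -- successive lifts
  let Good : ∀ n, (R →ₐ[k] A ⧸ m ^ (n + 2)) → Prop := fun n g =>
    F.map (CommAlgCat.ofHom g) ξ = F.map (CommAlgCat.ofHom (Ideal.Quotient.mkₐ k (m ^ (n + 2)))) η
  have hstep : ∀ n (g : {g // Good n g}), ∃ g' : {g' // Good (n + 1) g'},
      (Ideal.Quotient.factorₐ k (Ideal.pow_le_pow_right (n + 2).le_succ)).comp g'.1 = g.1 := by
    intro n g
    letI := hloc (n + 1)
    letI := hloc (n + 2)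
    letI := hart (n + 1)
    letI := hart (n + 2)
    obtain ⟨g', hg', hg''⟩ := hvers (A ⧸ m ^ (n + 3)) (A ⧸ m ^ (n + 2)) (hresB (n + 2))
      (Ideal.Quotient.factorₐ k (Ideal.pow_le_pow_right (n + 2).le_succ))
      (Ideal.Quotient.factor_surjective (Ideal.pow_le_pow_right (n + 2).le_succ)) g.1
      (F.map (CommAlgCat.ofHom (Ideal.Quotient.mkₐ k (m ^ (n + 3)))) η) (by
        rw [g.2, ← FunctorToTypes.map_comp_apply, ← CommAlgCat.ofHom_comp, Ideal.Quotient.factorₐ_comp_mk])
    exact ⟨⟨g', hg''⟩, hg'⟩
  choose next hnext using hstep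
  let G : ∀ n, {g // Good n g} := fun n => Nat.rec
    ⟨φ₁.toAlgHom.comp (Ideal.Quotient.mkₐ k _), hcompat _ (fun p => hφ₁ p) fun r hr => by
      show φ₁ (Ideal.Quotient.mk _ r) = 0
      rw [Ideal.Quotient.eq_zero_iff_mem.2 hr, map_zero]⟩ next n
  let ψ : ∀ n, R →ₐ[k] A ⧸ m ^ n := fun n =>
    (Ideal.Quotient.factorₐ k (Ideal.pow_le_pow_right (show n ≤ n + 2 by omega))).comp (G n).1
  have hGle : ∀ a b (h : a ≤ b), (Ideal.Quotient.factorₐ k
      (Ideal.pow_le_pow_right (Nat.add_le_add_right h 2))).comp (G b).1 = (G a).1 := fun a b h => by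
    induction b, h using Nat.le_induction with
    | base => exact AlgHom.ext fun r => by simp
    | succ b hab ih =>
      rw [← ih, ← hnext b (G b), ← AlgHom.comp_assoc, Ideal.Quotient.factorₐ_comp]
  have hψle : ∀ {a b : ℕ} (h : a ≤ b),
      (Ideal.Quotient.factorₐ k (Ideal.pow_le_pow_right h)).comp (ψ b) = ψ a := fun {a b} h => by
    rw [← AlgHom.comp_assoc, Ideal.Quotient.factorₐ_comp]
    show _ = (Ideal.Quotient.factorₐ k _).comp (G a).1
    rw [← hGle a b h, ← AlgHom.comp_assoc, Ideal.Quotient.factorₐ_comp]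
  have hbij : ∀ n, Function.Surjective (G n).1 ∧ ∀ r, (G n).1 r = 0 ↔ r ∈ IsLocalRing.maximalIdeal R ^ (n + 2) :=
    fun n => by
    refine Groth.Agent.SmoothingLib.Algebraize.bijective_of_congr hαI hβI hsR hsA hk (by omega)
      (G n).1.toRingHom fun p => ?_
    have h0 : Ideal.Quotient.factor (Ideal.pow_le_pow_right (Nat.add_le_add_right n.zero_le 2))
        ((G n).1 (α p)) = Ideal.Quotient.mk (m ^ 2) (β p) :=
      (DFunLike.congr_fun (hGle 0 n n.zero_le) (α p)).trans (hφ₁ p)
    obtain ⟨x, hx⟩ := Ideal.Quotient.mk_surjective ((G n).1 (α p))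
    show (G n).1 (α p) - _ ∈ _
    rw [← hx, Ideal.Quotient.factor_mk] at h0
    rw [← hx, ← map_sub]
    exact Ideal.mem_map_of_mem _ (Ideal.Quotient.eq.1 h0)
  let Ψ : R →ₐ[k] AdicCompletion m A := AdicCompletion.liftAlgHom m ψ hψle
  have hΨ : ∀ n r, AdicCompletion.evalₐ m n (Ψ r) = ψ n r :=
    fun n r => AdicCompletion.evalₐ_liftAlgHom m ψ hψle n r
  have hψ2 : ∀ n, ψ (n + 2) = (G n).1 := fun n => by
    rw [← hGle n (n + 2) (by omega)]
  have hinj : Function.Injective Ψ := (injective_iff_map_eq_zero _).2 fun r hr => by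
    refine IsHausdorff.haus (I := IsLocalRing.maximalIdeal R) inferInstance r fun n => ?_
    rw [SModEq.zero, smul_eq_mul, Ideal.mul_top]
    have h1 := hΨ (n + 2) r
    rw [hr, map_zero, hψ2] at h1
    exact Ideal.pow_le_pow_right (by omega) (((hbij n).2 r).1 h1.symm)
  have hsurj : Function.Surjective Ψ := fun x => by
    choose r hr using fun n => (hbij n).1 (AdicCompletion.evalₐ m (n + 2) x)
    have hev : ∀ {a b : ℕ} (h : a ≤ b), Ideal.Quotient.factorₐ k (Ideal.pow_le_pow_right h)
        (AdicCompletion.evalₐ m b x) = AdicCompletion.evalₐ m a x := fun {a b} h => by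
      obtain ⟨z, rfl⟩ := AdicCompletion.mk_surjective m A x
      simp only [AdicCompletion.evalₐ_mk]
      exact (AdicCompletion.Ideal.mk_eq_mk m h z).symm ▸ rfl
    have hG' : ∀ a b, a ≤ b → (G a).1 (r b) = AdicCompletion.evalₐ m (a + 2) x := fun a b h => by
      rw [← hGle a b h, AlgHom.comp_apply, hr b, hev (Nat.add_le_add_right h 2)]
    obtain ⟨L, hL⟩ := IsPrecomplete.prec' (I := IsLocalRing.maximalIdeal R) r (fun {a b} h => by
      rw [SModEq.sub_mem, smul_eq_mul, Ideal.mul_top]
      refine Ideal.pow_le_pow_right (by omega : a ≤ a + 2) (((hbij a).2 _).1 ?_)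
      rw [map_sub, hG' a b h, hr a, sub_self])
    refine ⟨L, AdicCompletion.ext_evalₐ fun n => ?_⟩
    have h1 := hL (n + 2)
    rw [SModEq.sub_mem, smul_eq_mul, Ideal.mul_top] at h1
    have h2 : (G n).1 (r (n + 2) - L) = 0 := ((hbij n).2 _).2 h1
    rw [map_sub, sub_eq_zero, hG' n (n + 2) (by omega)] at h2
    rw [hΨ, ← hev (show n ≤ n + 2 by omega), h2]
    rfl
  refine ⟨A, inferInstance, inferInstance, hA, m, hm, hres', η,
    RingEquiv.ofBijective Ψ ⟨hinj, hsurj⟩, fun c => ?_, fun n g hg => ?_⟩
  · show Ψ (algebraMap k R c) = _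
    rw [AlgHom.commutes]
    exact IsScalarTower.algebraMap_apply k A (AdicCompletion m A) c
  · have hgψ : g = ψ (n + 1) := AlgHom.ext fun r => (DFunLike.congr_fun hg r).trans (hΨ (n + 1) r)
    rw [hgψ, CommAlgCat.ofHom_comp, FunctorToTypes.map_comp_apply, (G (n + 1)).2,
      ← FunctorToTypes.map_comp_apply, ← CommAlgCat.ofHom_comp, Ideal.Quotient.factorₐ_comp_mk]

end Groth.Agent.S17372
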