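import Groth.Statements.S17375
import Groth.Agent.BigVol.GenFin
-- import your own Groth.Agent.* helpers here

set_option autoImplicit false
set_option linter.style.haveILetI false
universe u
open CategoryTheory CategoryTheory.Limits AlgebraicGeometry Asymptotics
open Variety

namespace Groth.Agent.S17375

/-- Let X and Y be geometrically integral schemes proper over a field k, each admitting an ample
invertible module, with X of dimension d, and let f : Y → X be a k-morphism which is dominant and
generically finite of degree n ≥ 1: f maps the generic point of Y to the generic point of X and the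
induced extension of function fields has finite degree n. Then for every invertible module L on X
the difference dim_k H^0(Y, (f^*L)^m) − n · dim_k H^0(X, L^m) is O(m^(d−1)) as m → ∞ (so the volume
of f^*L is n times that of L). -/
theorem result (k : Type u) [Field k] (X Y : Scheme.{u})
    [X.Over (Spec (CommRingCat.of k))] [Y.Over (Spec (CommRingCat.of k))] [IsIntegral X] [IsIntegral Y]
    [GeometricallyIntegral (X ↘ Spec (CommRingCat.of k))] [GeometricallyIntegral (Y ↘ Spec (CommRingCat.of k))]
    [IsProper (X ↘ Spec (CommRingCat.of k))] [IsProper (Y ↘ Spec (CommRingCat.of k))]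
    (hXproj : ∃ A : X.Modules, CohB1.IsAmple A) (hYproj : ∃ B : Y.Modules, CohB1.IsAmple B)
    (d : ℕ) (hd : topologicalKrullDim X = d)
    (f : Y ⟶ X) (hf : f ≫ (X ↘ Spec (CommRingCat.of k)) = Y ↘ Spec (CommRingCat.of k))
    (hdom : f.base (genericPoint Y) = genericPoint X) (n : ℕ) (hn : f.residueDegree (genericPoint Y) = n) (hn0 : 0 < n)
    (L : X.Modules) (hL : PicF.IsInvertible L) :
    (fun m : ℕ => (Module.finrank k (Coh.HH Y (CohB1.tensorPow ((Scheme.Modules.pullback f).obj L) m) 0) : ℝ) -
        n * Module.finrank k (Coh.HH X (CohB1.tensorPow L m) 0)) =O[Filter.atTop]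
      (fun m : ℕ => (m : ℝ) ^ (d - 1)) := by
  obtain ⟨A, hA⟩ := hXproj
  obtain ⟨B, hB⟩ := hYproj
  obtain ⟨C, hC⟩ := Groth.Agent.BigVol.GenFin.exists_close_pullback k f hf hdom (hn.symm ▸ hn0) hA hB hd hL 0
  simp only [hn] at hC
  refine Asymptotics.IsBigO.of_bound ((C * 2 ^ (d - 1) : ℕ) : ℝ) ?_
  filter_upwards [Filter.eventually_ge_atTop 1] with m hm
  have hg : BigVol.CohBound.g d m ≤ 2 ^ (d - 1) * m ^ (d - 1) := by
    cases d with
    | zero => simp [BigVol.CohBound.g]
    | succ e =>
      rw [Nat.add_sub_cancel, ← mul_pow]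
      exact Nat.pow_le_pow_left (by omega) e
  obtain ⟨a, b⟩ := hC m
  have a' : ((_ : ℕ) : ℝ) ≤ ((_ : ℕ) : ℝ) := Nat.cast_le.2 (a.trans (Nat.add_le_add_left (Nat.mul_le_mul_left C hg) _))
  have b' : ((_ : ℕ) : ℝ) ≤ ((_ : ℕ) : ℝ) := Nat.cast_le.2 (b.trans (Nat.add_le_add_left (Nat.mul_le_mul_left C hg) _))
  push_cast at a' b' ⊢
  rw [Real.norm_eq_abs, Real.norm_of_nonneg (by positivity), abs_le]
  constructor <;> nlinarith

end Groth.Agent.S17375
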