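import Groth.Statements.S17376
import Groth.Agent.CAlg.DetRegular

set_option autoImplicit false
universe u
open scoped TensorProduct
open CAlg

namespace Groth.Agent.S17376

theorem isRegular_iff_aux {R : Type*} [CommRing R] (a : R) : IsRegular a ↔ ∀ x, a * x = 0 → x = 0 :=
  ⟨fun h x hx => h.left (by simpa using hx), fun h =>
    isRegular_iff_mem_nonZeroDivisors.2 (mem_nonZeroDivisors_iff_right.2 fun x hx => h x (by rwa [mul_comm]))⟩

section
variable {k K L R : Type u} [Field k] [Field K] [Field L] [Algebra k K] [Algebra K L] [Algebra k L]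
  [IsScalarTower k K L] [CommRing R] [Algebra k R] {ι : Type u} [Fintype ι] [DecidableEq ι] (bK : Module.Basis ι K L)

abbrev algKR : Algebra (K ⊗[k] R) (L ⊗[k] R) :=
  (Algebra.TensorProduct.map (IsScalarTower.toAlgHom k K L) (AlgHom.id k R)).toRingHom.toAlgebra

attribute [local instance] algKR

theorem smul_def_tmul (c : K) (r : R) (l : L) (s : R) :
    (c ⊗ₜ[k] r) • (l ⊗ₜ[k] s) = (c • l) ⊗ₜ[k] (r * s) := by
  rw [Algebra.smul_def, RingHom.algebraMap_toAlgebra]
  simp [Algebra.TensorProduct.tmul_mul_tmul, Algebra.smul_def]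

/-- Coordinates. -/
noncomputable def coords : L ⊗[k] R →ₗ[k] ι → K ⊗[k] R :=
  LinearMap.pi fun i => LinearMap.rTensor R ((bK.coord i).restrictScalars k)

theorem coords_tmul (l : L) (r : R) (i : ι) : coords bK (l ⊗ₜ[k] r) i = bK.repr l i ⊗ₜ[k] r := rfl

theorem exists_basis : ∃ b : Module.Basis ι (K ⊗[k] R) (L ⊗[k] R),
    (∀ i, b i = bK i ⊗ₜ[k] 1) ∧ ∀ x i, b.repr x i = coords bK x i := by
  let Φ : (ι → K ⊗[k] R) →ₗ[K ⊗[k] R] L ⊗[k] R := Fintype.linearCombination (K ⊗[k] R) (fun i => bK i ⊗ₜ[k] (1 : R))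
  have hΦ : ∀ f, Φ f = ∑ i, f i • (bK i ⊗ₜ[k] (1 : R)) := fun f => rfl
  have h1 : ∀ x, Φ (coords bK x) = x := by
    intro x
    induction x using TensorProduct.induction_on with
    | zero => simp
    | tmul l r =>
      rw [hΦ]
      simp only [coords_tmul, smul_def_tmul, mul_one, ← TensorProduct.sum_tmul, bK.sum_repr]
    | add x y hx hy => rw [map_add, map_add, hx, hy]
  have h2 : ∀ f, coords bK (Φ f) = f := by
    intro f
    rw [hΦ, map_sum]
    funext i
    rw [Finset.sum_apply]
    have hj : ∀ (j : ι) (z : K ⊗[k] R), coords bK (z • (bK j ⊗ₜ[k] (1 : R))) i = if j = i then z else 0 := by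
      intro j z
      induction z using TensorProduct.induction_on with
      | zero => simp
      | tmul c r =>
        rw [smul_def_tmul, mul_one, coords_tmul, map_smul, Finsupp.smul_apply, bK.repr_self, Finsupp.single_apply]
        split_ifs <;> simp
      | add a b ha hb => rw [add_smul, map_add, Pi.add_apply, ha, hb]; split_ifs <;> simp
    simp [hj]
  let e := LinearEquiv.ofBijective Φ ⟨fun f g h => by rw [← h2 f, ← h2 g, h], fun x => ⟨_, h1 x⟩⟩
  refine ⟨Module.Basis.ofEquivFun e.symm, fun i => ?_, fun x i => ?_⟩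
  · rw [Module.Basis.coe_ofEquivFun]
    show Φ (Pi.single i 1) = _
    rw [hΦ, Finset.sum_eq_single i (fun j _ hj => by simp [Pi.single_eq_of_ne hj]) (by simp), Pi.single_eq_same, one_smul]
  · rw [Module.Basis.ofEquivFun_repr_apply]
    exact congrFun (e.injective ((e.apply_symm_apply x).trans (h1 x).symm)) i

theorem leftMulMatrix_tmul (b : Module.Basis ι (K ⊗[k] R) (L ⊗[k] R)) (hb : ∀ i, b i = bK i ⊗ₜ[k] 1)
    (hb' : ∀ x i, b.repr x i = coords bK x i) (l : L) (r : R) (i j : ι) :
    Algebra.leftMulMatrix b (l ⊗ₜ[k] r) i j = Algebra.leftMulMatrix bK l i j ⊗ₜ[k] r := by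
  rw [Algebra.leftMulMatrix_eq_repr_mul, Algebra.leftMulMatrix_eq_repr_mul, hb', hb,
    Algebra.TensorProduct.tmul_mul_tmul, mul_one, coords_tmul]

end

open MvPolynomial in
attribute [local instance] MvPolynomial.algebraMvPolynomial in
theorem det_generic_mem {A K L : Type u} [CommRing A] [IsDomain A] [IsIntegrallyClosed A] [Field K] [Algebra A K]
    [IsFractionRing A K] [Field L] [Algebra K L] [Algebra A L] [IsScalarTower A K L]
    {ι : Type u} [Fintype ι] [DecidableEq ι] (bK : Module.Basis ι K L) {σ : Type u} [Fintype σ] (v : σ → L)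
    (hv : ∀ x, IsIntegral A (v x)) :
    ∃ q : MvPolynomial σ A, MvPolynomial.map (algebraMap A K) q =
      (∑ x, (X x : MvPolynomial σ K) • (Algebra.leftMulMatrix bK (v x)).map C).det := by
  set P : Matrix ι ι (MvPolynomial σ K) := ∑ x, (X x : MvPolynomial σ K) • (Algebra.leftMulMatrix bK (v x)).map C
  let MK : L →ₐ[K] Matrix ι ι (MvPolynomial σ K) :=
    ((IsScalarTower.toAlgHom K K (MvPolynomial σ K)).mapMatrix).comp (Algebra.leftMulMatrix bK)
  let Φ : L ⊗[K] MvPolynomial σ K →ₐ[K] Matrix ι ι (MvPolynomial σ K) :=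
    Algebra.TensorProduct.lift MK (IsScalarTower.toAlgHom K (MvPolynomial σ K) _) fun x y => (Algebra.commutes y (MK x)).symm
  let φ : MvPolynomial σ A →+* L ⊗[K] MvPolynomial σ K :=
    (Algebra.TensorProduct.includeRight : MvPolynomial σ K →ₐ[K] L ⊗[K] MvPolynomial σ K).toRingHom.comp (MvPolynomial.map (algebraMap A K))
  let y : L ⊗[K] MvPolynomial σ K := ∑ x, v x ⊗ₜ[K] (X x : MvPolynomial σ K)
  have hy : φ.IsIntegralElem y := by
    letI := φ.toAlgebra
    refine IsIntegral.sum _ fun x _ => ?_
    rw [show v x ⊗ₜ[K] (X x : MvPolynomial σ K) = (v x ⊗ₜ[K] 1) * φ (X x) by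
      show _ = _ * ((1 : L) ⊗ₜ[K] MvPolynomial.map (algebraMap A K) (X x))
      rw [map_X, Algebra.TensorProduct.tmul_mul_tmul, mul_one, one_mul]]
    refine IsIntegral.mul ?_ (φ.isIntegralElem_map)
    obtain ⟨q, hq, hq0⟩ := hv x
    refine ⟨q.map C, hq.map _, ?_⟩
    have hc : φ.comp C = (Algebra.TensorProduct.includeLeftRingHom (R := K) (B := MvPolynomial σ K)).comp (algebraMap A L) := RingHom.ext fun a => by
      show (1 : L) ⊗ₜ[K] MvPolynomial.map (algebraMap A K) (C a) = algebraMap A L a ⊗ₜ[K] 1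
      rw [map_C, IsScalarTower.algebraMap_apply A K L, Algebra.algebraMap_eq_smul_one (A := L) (algebraMap A K a),
        TensorProduct.smul_tmul, ← Algebra.algebraMap_eq_smul_one, MvPolynomial.algebraMap_eq]
    rw [RingHom.algebraMap_toAlgebra, Polynomial.eval₂_map, hc,
      show v x ⊗ₜ[K] (1 : MvPolynomial σ K) = Algebra.TensorProduct.includeLeftRingHom (v x) from rfl, ← Polynomial.hom_eval₂, hq0, map_zero]
  obtain ⟨Q, hQ, hQ0⟩ := hy
  have hΦy : Φ y = P := by
    simp only [y, map_sum]
    refine Finset.sum_congr rfl fun x _ => ?_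
    rw [Algebra.TensorProduct.lift_tmul]
    show _ * algebraMap (MvPolynomial σ K) _ (X x) = _
    rw [← Algebra.commutes, ← Algebra.smul_def]
    rfl
  let F := AlgebraicClosure (FractionRing (MvPolynomial σ K))
  let jF : MvPolynomial σ K →+* F := (algebraMap (FractionRing (MvPolynomial σ K)) F).comp (algebraMap _ _)
  have hj : Function.Injective jF := (algebraMap (FractionRing (MvPolynomial σ K)) F).injective.comp (IsFractionRing.injective _ _)
  have hint := Groth.Agent.CAlg.DetRegular.isIntegralElem_det (jF.comp (MvPolynomial.map (algebraMap A K))) (P.map jF) hQ (by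
    have h := congrArg (jF.mapMatrix.comp Φ.toRingHom) hQ0
    rw [map_zero, Polynomial.hom_eval₂] at h
    rw [Polynomial.aeval_def, Polynomial.eval₂_map]
    refine (congrArg₂ (fun f z => Polynomial.eval₂ f z Q) (RingHom.ext fun a => ?_) ?_).trans h
    · show algebraMap F (Matrix ι ι F) (jF (MvPolynomial.map (algebraMap A K) a)) = jF.mapMatrix (Φ ((1 : L) ⊗ₜ[K] MvPolynomial.map (algebraMap A K) a))
      rw [Algebra.TensorProduct.lift_tmul, map_one, one_mul]
      show algebraMap F (Matrix ι ι F) _ = (algebraMap (MvPolynomial σ K) (Matrix ι ι (MvPolynomial σ K)) _).map jF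
      rw [Matrix.algebraMap_eq_diagonal, Matrix.algebraMap_eq_diagonal, Matrix.diagonal_map (map_zero _)]
      rfl
    · show P.map jF = jF.mapMatrix (Φ y)
      rw [hΦy]
      rfl)
  obtain ⟨Q', hQ', hQ'0⟩ := hint
  rw [show (P.map jF).det = jF P.det from (jF.map_det P).symm, ← Polynomial.hom_eval₂] at hQ'0
  have hdet : IsIntegral (MvPolynomial σ A) P.det := ⟨Q', hQ', hj (hQ'0.trans (map_zero _).symm)⟩
  rw [MvPolynomial.isIntegral_iff_isIntegral_coeff] at hdet
  have hmem : P.det ∈ RingHom.range (MvPolynomial.map (σ := σ) (algebraMap A K)) := by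
    show P.det ∈ Set.range (MvPolynomial.map (σ := σ) (algebraMap A K))
    rw [MvPolynomial.mem_range_map_iff_coeffs_subset]
    intro c hc
    obtain ⟨n, -, rfl⟩ := MvPolynomial.mem_coeffs_iff.1 hc
    exact IsIntegrallyClosed.isIntegral_iff.1 (hdet n)
  exact hmem

attribute [local instance] algKR

/-- Let k be a field, A an integrally closed domain over k with fraction field K, L a finite extension
of K, B the integral closure of A in L, and R an arbitrary commutative k-algebra; view L ⊗_k R as an
algebra over K ⊗_k R through K → L. Then L ⊗_k R is finite free over K ⊗_k R, so the norm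
(determinant of multiplication) L ⊗_k R → K ⊗_k R is defined; the norm of any element β of B ⊗_k R
(mapped into L ⊗_k R) lies in the image of A ⊗_k R; and β is a nonzerodivisor in B ⊗_k R if and only
if its norm is a nonzerodivisor in K ⊗_k R. (Nonzerodivisors of A ⊗_k R are exactly its elements
that are nonzerodivisors in K ⊗_k R, the latter being a localisation of the former at
nonzerodivisors, so this is the source's formulation with the norm regarded in A ⊗_k R.) -/
theorem result (k A K L R : Type u) [Field k]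
    [CommRing A] [IsDomain A] [IsIntegrallyClosed A] [Algebra k A]
    [Field K] [Algebra A K] [IsFractionRing A K] [Algebra k K] [IsScalarTower k A K]
    [Field L] [Algebra K L] [FiniteDimensional K L] [Algebra A L] [IsScalarTower A K L]
    [Algebra k L] [IsScalarTower k K L] [IsScalarTower k A L]
    [CommRing R] [Algebra k R] :
    letI : Algebra (K ⊗[k] R) (L ⊗[k] R) :=
      (Algebra.TensorProduct.map (IsScalarTower.toAlgHom k K L) (AlgHom.id k R)).toRingHom.toAlgebra
    Module.Free (K ⊗[k] R) (L ⊗[k] R) ∧ Module.Finite (K ⊗[k] R) (L ⊗[k] R) ∧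
      ∀ b : (integralClosure A L) ⊗[k] R,
        Algebra.norm (K ⊗[k] R)
            (Algebra.TensorProduct.map ((integralClosure A L).val.restrictScalars k) (AlgHom.id k R) b) ∈
          Set.range (Algebra.TensorProduct.map (IsScalarTower.toAlgHom k A K) (AlgHom.id k R)) ∧
        (IsRegular b ↔ IsRegular (Algebra.norm (K ⊗[k] R)
            (Algebra.TensorProduct.map ((integralClosure A L).val.restrictScalars k) (AlgHom.id k R) b))) := by
  classical
  let bK := Module.finBasis K L
  let bK' := bK.reindex (Equiv.ulift.{u, 0}.symm)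
  obtain ⟨b, hb, hb'⟩ := exists_basis (k := k) (R := R) bK'
  letI : Algebra (K ⊗[k] R) (L ⊗[k] R) := algKR
  refine ⟨Module.Free.of_basis b, Module.Finite.of_basis b, fun β => ?_⟩
  set ιB : (integralClosure A L) ⊗[k] R →ₐ[k] L ⊗[k] R := Algebra.TensorProduct.map ((integralClosure A L).val.restrictScalars k) (AlgHom.id k R) with hιB
  have hinj : Function.Injective ιB := by
    have h := Module.Flat.rTensor_preserves_injective_linearMap (M := R) ((integralClosure A L).val.restrictScalars k).toLinearMap Subtype.val_injective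
    exact h
  refine ⟨?_, ?_⟩
  · obtain ⟨s, hs⟩ := TensorProduct.exists_finset (R := k) β
    obtain ⟨q, hq⟩ := det_generic_mem (A := A) bK' (σ := ↥s) (fun x => (x.1.1 : L)) (fun x => x.1.1.2)
    let evA : MvPolynomial s A →ₐ[A] A ⊗[k] R := MvPolynomial.aeval fun x => (1 : A) ⊗ₜ[k] x.1.2
    let evK : MvPolynomial s K →ₐ[K] K ⊗[k] R := MvPolynomial.aeval fun x => (1 : K) ⊗ₜ[k] x.1.2
    refine ⟨evA q, ?_⟩
    have hnat : (Algebra.TensorProduct.map (IsScalarTower.toAlgHom k A K) (AlgHom.id k R)).toRingHom.comp evA.toRingHom =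
        evK.toRingHom.comp (MvPolynomial.map (algebraMap A K)) := by
      refine MvPolynomial.ringHom_ext (fun a => ?_) (fun x => ?_)
      · show Algebra.TensorProduct.map _ _ (evA (MvPolynomial.C a)) = evK (MvPolynomial.map _ (MvPolynomial.C a))
        rw [MvPolynomial.map_C, show evA (MvPolynomial.C a) = a ⊗ₜ[k] (1 : R) from MvPolynomial.aeval_C _ a,
          show evK (MvPolynomial.C (algebraMap A K a)) = algebraMap A K a ⊗ₜ[k] (1 : R) from MvPolynomial.aeval_C _ _]
        rfl
      · show Algebra.TensorProduct.map _ _ (evA (MvPolynomial.X x)) = evK (MvPolynomial.map _ (MvPolynomial.X x))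
        rw [MvPolynomial.map_X, show evA (MvPolynomial.X x) = (1 : A) ⊗ₜ[k] x.1.2 from MvPolynomial.aeval_X _ x,
          show evK (MvPolynomial.X x) = (1 : K) ⊗ₜ[k] x.1.2 from MvPolynomial.aeval_X _ x, Algebra.TensorProduct.map_tmul, map_one]
        rfl
    refine (RingHom.congr_fun hnat q).trans ?_
    show evK (MvPolynomial.map (algebraMap A K) q) = _
    rw [hq, Algebra.norm_eq_matrix_det b, show evK (Matrix.det _) = _ from evK.toRingHom.map_det _]
    congr 1
    ext i j
    rw [hs, ← Finset.sum_attach s]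
    simp only [map_sum, Matrix.sum_apply]
    refine Finset.sum_congr rfl fun x _ => ?_
    rw [Algebra.TensorProduct.map_tmul, leftMulMatrix_tmul bK' b hb hb']
    simp only [RingHom.mapMatrix_apply, AlgHom.toRingHom_eq_coe, RingHom.coe_coe, Matrix.map_apply, Matrix.smul_apply, smul_eq_mul, map_mul]
    rw [ show evK (MvPolynomial.X x) = (1 : K) ⊗ₜ[k] x.1.2 from MvPolynomial.aeval_X _ x,
      show ∀ c : K, evK (MvPolynomial.C c) = c ⊗ₜ[k] (1 : R) from fun c => MvPolynomial.aeval_C _ c,
      Algebra.TensorProduct.tmul_mul_tmul, one_mul, mul_one]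
    rfl
  · have h1 : IsRegular β ↔ IsRegular (ιB β) := by
      rw [isRegular_iff_aux, isRegular_iff_aux]
      refine ⟨fun h x hx => ?_, fun h x hx => hinj ((h _ (by rw [← map_mul, hx, map_zero])).trans (map_zero _).symm)⟩
      have hden : ∀ z : L ⊗[k] R, ∃ (a : A) (w : (integralClosure A L) ⊗[k] R), a ≠ 0 ∧ ιB w = (algebraMap A L a ⊗ₜ[k] (1 : R)) * z := by
        intro z
        induction z using TensorProduct.induction_on with
        | zero => exact ⟨1, 0, one_ne_zero, by simp⟩
        | tmul l r =>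
          obtain ⟨a, ha, hint⟩ := exists_integral_multiples (A := A) (K := K) ({l} : Finset L)
          refine ⟨a, ⟨a • l, hint l (Finset.mem_singleton_self l)⟩ ⊗ₜ[k] r, ha, ?_⟩
          rw [hιB, Algebra.TensorProduct.map_tmul, Algebra.TensorProduct.tmul_mul_tmul, one_mul, ← Algebra.smul_def]
          rfl
        | add z₁ z₂ h₁ h₂ =>
          obtain ⟨a₁, w₁, ha₁, hw₁⟩ := h₁
          obtain ⟨a₂, w₂, ha₂, hw₂⟩ := h₂
          refine ⟨a₁ * a₂, (algebraMap A (integralClosure A L) a₂ ⊗ₜ[k] (1 : R)) * w₁ + (algebraMap A (integralClosure A L) a₁ ⊗ₜ[k] (1 : R)) * w₂, mul_ne_zero ha₁ ha₂, ?_⟩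
          rw [map_add, map_mul, map_mul, hw₁, hw₂, hιB, Algebra.TensorProduct.map_tmul, Algebra.TensorProduct.map_tmul]
          show (algebraMap A L a₂ ⊗ₜ[k] (1 : R)) * _ + (algebraMap A L a₁ ⊗ₜ[k] (1 : R)) * _ = _
          rw [mul_add, ← mul_assoc, ← mul_assoc, Algebra.TensorProduct.tmul_mul_tmul, Algebra.TensorProduct.tmul_mul_tmul,
            mul_one, ← map_mul, ← map_mul, mul_comm a₂]
      obtain ⟨a, w, ha, hw⟩ := hden x
      have hw0 : w = 0 := h w (hinj (by rw [map_mul, hw, ← mul_assoc, mul_comm (ιB β), mul_assoc, hx, mul_zero, map_zero]))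
      rw [hw0, map_zero] at hw
      have hu : IsUnit (algebraMap A L a ⊗ₜ[k] (1 : R)) := by
        have hne : algebraMap A L a ≠ 0 := by
          rw [IsScalarTower.algebraMap_apply A K L, map_ne_zero]
          exact (map_ne_zero_iff _ (IsFractionRing.injective A K)).2 ha
        exact (isUnit_iff_ne_zero.2 hne).map (Algebra.TensorProduct.includeLeftRingHom (R := k) (B := R))
      exact hu.mul_right_eq_zero.1 hw.symm
    rw [h1, Algebra.norm_eq_matrix_det b]
    rw [isRegular_iff_mem_nonZeroDivisors (r := Matrix.det _), ← Groth.Agent.CAlg.DetRegular.injective_mulVec_iff, isRegular_iff_aux]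
    constructor
    · intro h v w hvw
      have h0 : Matrix.mulVec (Algebra.leftMulMatrix b (ιB β)) (v - w) = 0 := by rw [Matrix.mulVec_sub, hvw, sub_self]
      have h2 := Algebra.leftMulMatrix_mulVec_repr b (ιB β) (b.equivFun.symm (v - w))
      rw [show ⇑(b.repr (b.equivFun.symm (v - w))) = v - w from b.equivFun.apply_symm_apply _, h0] at h2
      have h3 := h _ (b.equivFun.injective (show b.equivFun (ιB β * b.equivFun.symm (v - w)) = b.equivFun 0 by
        rw [map_zero]; exact h2.symm))
      rw [LinearEquiv.map_eq_zero_iff, sub_eq_zero] at h3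
      exact h3
    · intro h x hx
      apply b.equivFun.injective
      apply h
      rw [map_zero, Matrix.mulVec_zero]
      show Matrix.mulVec _ (⇑(b.repr x)) = 0
      rw [Algebra.leftMulMatrix_mulVec_repr, hx, map_zero]
      rfl

end Groth.Agent.S17376
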