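import Groth.Statements.S17377
import Mathlib
import Groth.Agent.BirFinite.Basic
import Groth.Agent.IdealSh.EffCartier

set_option autoImplicit false
universe u
set_option linter.style.haveILetI false
set_option backward.isDefEq.respectTransparency false
open CategoryTheory CategoryTheory.Limits AlgebraicGeometry
open Variety

namespace Groth.Agent.S17377

theorem isOpenImmersion_of_section {P S : Scheme.{u}} (p : P ⟶ S) [Etale p] (l : S ⟶ P)
    (h : l ≫ p = 𝟙 S) : IsOpenImmersion l := by
  have : Etale (l ≫ p) := by rw [h]; infer_instance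
  have : Etale l := Etale.of_comp l p
  have : IsSplitMono l := IsSplitMono.mk' ⟨p, h⟩
  exact IsOpenImmersion.of_flat_of_mono l

theorem app_ker_eq {Z Z' Y : Scheme.{u}} (j : Z ⟶ Z') [IsOpenImmersion j] (h : Z' ⟶ Y) (f : Z ⟶ Y)
    (hf : j ≫ h = f) [QuasiCompact f] [QuasiCompact h] (V : Y.affineOpens) (hV : h ⁻¹ᵁ V.1 ≤ j.opensRange) :
    f.ker.ideal V = h.ker.ideal V := by
  subst hf
  rw [Scheme.Hom.ker_apply, Scheme.Hom.ker_apply]
  haveI : IsIso (j.app (h ⁻¹ᵁ V.1)) := Scheme.Hom.isIso_app j _ hV
  ext a
  rw [RingHom.mem_ker, RingHom.mem_ker, Scheme.Hom.comp_app]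
  exact map_eq_zero_iff _ (ConcreteCategory.bijective_of_isIso (j.app (h ⁻¹ᵁ V.1))).1

/-- A finite birational morphism to a normal integral scheme is an isomorphism. -/
theorem isIso_of_finite_birational {E D : Scheme.{u}} [IsIntegral E] [IsIntegral D]
    (hD : Pi1.IsNormalScheme D) (g : E ⟶ D) [IsFinite g] (hsurj : Function.Surjective g.base)
    (hdeg : g.residueDegree (genericPoint E) = 1) : IsIso g := by
  have hgen : g (genericPoint E) = genericPoint D := by
    obtain ⟨e, he⟩ := hsurj (genericPoint D)
    exact ((he ▸ (genericPoint_specializes e).map g.continuous).antisymm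
      (genericPoint_specializes _)).eq
  have hfieldE : IsField (E.presheaf.stalk (genericPoint E)) :=
    (Field.toIsField E.functionField)
  have hfieldD : IsField (D.presheaf.stalk (g (genericPoint E))) := by
    rw [hgen]; exact Field.toIsField D.functionField
  have hbir : Function.Bijective (g.stalkMap (genericPoint E)) := by
    letI := hfieldD.toField
    refine ⟨(g.stalkMap (genericPoint E)).hom.injective, fun b => ?_⟩
    letI := (g.residueFieldMap (genericPoint E)).hom.toAlgebra
    haveI : Module.Free (D.residueField (g (genericPoint E))) (E.residueField (genericPoint E)) :=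
      inferInstance
    obtain ⟨c, hc⟩ := (Module.Free.bijective_algebraMap_of_finrank_eq_one
      (R := D.residueField (g (genericPoint E))) (S := E.residueField (genericPoint E)) hdeg).2
        (E.residue _ b)
    obtain ⟨c, rfl⟩ := IsLocalRing.residue_surjective c
    refine ⟨c, ?_⟩
    have h1 : E.residue _ (g.stalkMap (genericPoint E) c) = E.residue _ b := by
      rw [← hc, ← CommRingCat.comp_apply, ← Scheme.residue_residueFieldMap]
      rfl
    letI := hfieldE.toField
    exact (E.residue (genericPoint E)).hom.injective h1
  have hloc : ∀ x : D, ∃ U : D.Opens, x ∈ U ∧ IsIso (g ∣_ U) := by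
    intro x
    obtain ⟨_, ⟨V, hV, rfl⟩, hxV, -⟩ :=
      D.isBasis_affineOpens.exists_subset_of_mem_open (Set.mem_univ x) isOpen_univ
    haveI : Nonempty V := ⟨⟨x, hxV⟩⟩
    have hηD : genericPoint D ∈ V := (genericPoint_specializes x).mem_open V.2 hxV
    have hinj : Function.Injective (g.app V) := by
      intro a b hab
      have hm : g (genericPoint E) ∈ V := by rw [hgen]; exact hηD
      refine germ_injective_of_isIntegral D _ hm (hbir.1 ?_)
      rw [Scheme.Hom.germ_stalkMap_apply, Scheme.Hom.germ_stalkMap_apply, hab]
    refine Groth.Agent.BirFinite.exists_isIso_of_denominators g hV (hV.preimage g) hinj hxV fun c => ?_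
    exact Groth.Agent.BirFinite.exists_denominator g hgen hbir hV hxV (hD x).2 c
      ((g.finite_app V hV).to_isIntegral c)
  choose U hxU hU using hloc
  exact IsZariskiLocalAtTarget.of_iSup_eq_top (P := MorphismProperty.isomorphisms Scheme) U
    (top_le_iff.mp fun x _ => TopologicalSpace.Opens.mem_iSup.mpr ⟨x, hxU x⟩) hU

/-- Let X and Y be integral normal schemes locally of finite type over a field k and f : Y → X a finite
étale k-morphism; let D ⊆ X be a closed subscheme which is an effective Cartier divisor and is
integral and normal as a scheme, and E ⊆ Y an integral closed subscheme mapping to D by a surjective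
morphism g compatible with the inclusions whose residue-field extension at the generic point of E
has degree 1 (so E is a prime divisor of Y over D with the same function field: D splits in Y at the
level of Weil divisors). Then g is an isomorphism and E is an effective Cartier divisor on Y; in
particular D is the image of the relative Cartier divisor E (D is c-split). (The source works with
projective, geometrically normal and geometrically integral X, Y of dimension at least 2 and
geometrically normal, geometrically integral D; those hypotheses only serve base change to extension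
fields and are dropped here.) -/
theorem result (k : Type u) [Field k] (X Y : Scheme.{u})
    [X.Over (Spec (CommRingCat.of k))] [Y.Over (Spec (CommRingCat.of k))]
    [LocallyOfFiniteType (X ↘ Spec (CommRingCat.of k))] [LocallyOfFiniteType (Y ↘ Spec (CommRingCat.of k))]
    [IsIntegral X] [IsIntegral Y] (hX : Pi1.IsNormalScheme X) (hY : Pi1.IsNormalScheme Y)
    (f : Y ⟶ X) (hf : f ≫ (X ↘ Spec (CommRingCat.of k)) = Y ↘ Spec (CommRingCat.of k)) [IsFinite f] [Etale f]
    (D : X.IdealSheafData) (hD : FGA.IsEffCartier D) [IsIntegral D.subscheme] (hDn : Pi1.IsNormalScheme D.subscheme)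
    (E : Y.IdealSheafData) [IsIntegral E.subscheme]
    (g : (E.subscheme : Scheme.{u}) ⟶ D.subscheme) (hg : g ≫ D.subschemeι = E.subschemeι ≫ f)
    (hsurj : Function.Surjective g.base) (hdeg : g.residueDegree (genericPoint E.subscheme) = 1) :
    IsIso g ∧ FGA.IsEffCartier E := by
  haveI : IsFinite (g ≫ D.subschemeι) := by rw [hg]; infer_instance
  haveI : IsFinite g := IsFinite.of_comp g D.subschemeι
  have hiso : IsIso g := isIso_of_finite_birational hDn g hsurj hdeg
  refine ⟨hiso, ?_⟩
  -- the section of `D' ⟶ D`
  let j : E.subscheme ⟶ pullback f D.subschemeι := pullback.lift E.subschemeι g hg.symm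
  haveI : Etale (pullback.snd f D.subschemeι) :=
    MorphismProperty.pullback_snd (P := @Etale) _ _ inferInstance
  haveI : IsOpenImmersion (inv g ≫ j) := isOpenImmersion_of_section (pullback.snd f D.subschemeι) _
    (by rw [Category.assoc, pullback.lift_snd, IsIso.inv_hom_id])
  haveI : IsOpenImmersion j := by
    have : j = g ≫ (inv g ≫ j) := by simp
    rw [this]; infer_instance
  haveI : IsClosedImmersion (j ≫ pullback.fst f D.subschemeι) := by
    rw [pullback.lift_fst]; infer_instance
  haveI : IsClosedImmersion j := IsClosedImmersion.of_comp j (pullback.fst f D.subschemeι)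
  let h := pullback.fst f D.subschemeι
  haveI : IsClosedImmersion h := MorphismProperty.pullback_fst _ _ inferInstance
  have hD' : BlowUp.IsEffCartierIdeal (D.comap f) := Groth.Agent.IdealSh.EffCartier.comap_of_flat f hD
  let W : Y.Opens := ⟨(h '' (Set.range j)ᶜ)ᶜ,
    (h.isClosedEmbedding.isClosedMap _ j.isOpenEmbedding.isOpen_range.isClosed_compl).isOpen_compl⟩
  intro y
  by_cases hy : y ∈ Set.range E.subschemeι
  · obtain ⟨e, rfl⟩ := hy
    have hje : h (j e) = E.subschemeι e := by
      rw [← Scheme.Hom.comp_apply, pullback.lift_fst]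
    have hyW : E.subschemeι e ∈ W := by
      rintro ⟨z, hz, hze⟩
      exact hz ⟨e, h.isClosedEmbedding.injective (hje.trans hze.symm)⟩
    obtain ⟨V, hyV, hVW, a, ha, heq⟩ := Groth.Agent.IdealSh.EffCartier.exists_equation hD' _ W hyW
    refine ⟨V, hyV, a, ha, ?_⟩
    rw [← heq, Scheme.IdealSheafData.comap]
    have := app_ker_eq j h E.subschemeι (pullback.lift_fst _ _ _) V (fun z hz => by
      by_contra hzj
      exact hVW hz ⟨z, hzj, rfl⟩)
    rw [Scheme.IdealSheafData.ker_subschemeι] at this
    exact this
  · obtain ⟨V, hV, hyV, hle⟩ := exists_isAffineOpen_mem_and_subset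
      (U := ⟨(Set.range E.subschemeι)ᶜ, E.subschemeι.isClosedEmbedding.isClosed_range.isOpen_compl⟩) hy
    refine ⟨⟨V, hV⟩, hyV, 1, Submonoid.one_mem _, ?_⟩
    rw [Ideal.span_singleton_one, eq_top_iff]
    intro a _
    have hb : E.subschemeι ⁻¹ᵁ V = ⊥ := eq_bot_iff.2 fun z hz => (hle hz ⟨z, rfl⟩).elim
    rw [← E.ker_subschemeι, Scheme.Hom.ker_apply, RingHom.mem_ker]
    haveI : Subsingleton Γ(E.subscheme, E.subschemeι ⁻¹ᵁ V) := by
      rw [hb]; infer_instance
    exact Subsingleton.elim _ _

end Groth.Agent.S17377
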