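import Groth.Statements.S1738
import Groth.Agent.LocCoh.AnnModule
import Groth.Agent.Depth.Local
import Mathlib.Algebra.Homology.DerivedCategory.Ext.ExactSequences

set_option autoImplicit false
universe u
open CategoryTheory
attribute [local instance] HasDerivedCategory.standard
open LocCoh

namespace Groth.Agent.S1738

open Groth.Agent.DualCx
open Groth.Agent.DualCx.Dimfun (deg)
open Groth.Agent.LocCoh (quotMod qmap)
open Groth.Agent.LocCoh.SuppTors (tors)
open CategoryTheory

variable {A : Type u} [CommRing A] [IsNoetherianRing A] {T : Set (PrimeSpectrum A)}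

omit [IsNoetherianRing A] in
theorem zeroLocus_mul_subset {J J' : Ideal A} (hJ : PrimeSpectrum.zeroLocus (J : Set A) ⊆ T)
    (hJ' : PrimeSpectrum.zeroLocus (J' : Set A) ⊆ T) :
    PrimeSpectrum.zeroLocus ((J * J' : Ideal A) : Set A) ⊆ T := by
  rw [PrimeSpectrum.zeroLocus_mul]
  exact Set.union_subset hJ hJ'

omit [IsNoetherianRing A] in
theorem eq_zero_of_mem_tors {E : Type u} [AddCommGroup E] [Module A E] (hE : tors T E = ⊥) {J : Ideal A}
    (hJ : PrimeSpectrum.zeroLocus (J : Set A) ⊆ T) {e : E} (h : ∀ c ∈ J, c • e = 0) : e = 0 := by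
  have : e ∈ tors T E := ⟨J, hJ, h⟩
  rwa [hE, Submodule.mem_bot] at this

/-- quotients by the sections with supports have none -/
theorem tors_quotient (N : Type u) [AddCommGroup N] [Module A N] : tors T (N ⧸ tors T N) = ⊥ := by
  classical
  rw [eq_bot_iff]
  intro y hy
  obtain ⟨J, hJ, hy⟩ := hy
  obtain ⟨x, rfl⟩ := Submodule.Quotient.mk_surjective _ y
  obtain ⟨S, hS⟩ := IsNoetherian.noetherian J
  choose J' hJ' hx using fun c : S => (show c.1 • x ∈ tors T N from
    (Submodule.Quotient.mk_eq_zero _).1 (hy c.1 (hS ▸ Submodule.subset_span c.2)))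
  rw [Submodule.mem_bot, Submodule.Quotient.mk_eq_zero]
  refine ⟨J * Finset.univ.inf J', zeroLocus_mul_subset hJ fun p hp => ?_, fun c hc => ?_⟩
  · obtain ⟨c, -, hc⟩ := (Ideal.IsPrime.inf_le' p.2).1 hp
    exact hJ' c hc
  · induction hc using Submodule.mul_induction_on' with
    | mem_mul_mem a ha b hb =>
      have ha' : a ∈ Submodule.span A (S : Set A) := hS.symm ▸ ha
      rw [mul_comm, mul_smul]
      clear ha
      induction ha' using Submodule.span_induction with
      | mem a ha => exact hx ⟨a, ha⟩ b ((Finset.inf_le (f := J') (Finset.mem_univ (⟨a, ha⟩ : {a // a ∈ S}))) hb)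
      | zero => rw [zero_smul, smul_zero]
      | add a₁ a₂ h₁ h₂ i₁ i₂ =>
        rw [add_smul, smul_add, i₁, i₂, add_zero]
      | smul r a h₁ i₁ => rw [smul_assoc, smul_comm, i₁, smul_zero]
    | add u hu v hv iu iv => rw [add_smul, iu, iv, add_zero]

/-- an embedding into an injective module without sections with supports -/
theorem exists_embedding (M : Type u) [AddCommGroup M] [Module A M] (hM : tors T M = ⊥) :
    ∃ (E : Type u) (_ : AddCommGroup E) (_ : Module A E) (_ : Module.Injective A E) (j : M →ₗ[A] E),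
      Function.Injective j ∧ tors T E = ⊥ := by
  let I : ModuleCat.{u} A := Injective.under (ModuleCat.of A M)
  let j₀ : ModuleCat.of A M ⟶ I := Injective.ι (ModuleCat.of A M)
  have hI : Injective I := inferInstanceAs (Injective (Injective.under _))
  have hI' : Module.Injective A I := (Module.injective_iff_injective_object A _).mpr hI
  have hj₀ : Function.Injective j₀.hom := (ModuleCat.mono_iff_injective j₀).mp inferInstance
  have ht : Module.Injective A (tors T I) := LocCoh.SuppTors.injective_tors T I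
  obtain ⟨r, hr⟩ := ht.out (tors T I).subtype (Submodule.injective_subtype _) LinearMap.id
  refine ⟨I ⧸ tors T I, inferInstance, inferInstance, Module.Baer.injective fun 𝔞 g => ?_,
    (tors T I).mkQ.comp j₀.hom, ?_, tors_quotient I⟩
  · have hker : tors T I ≤ LinearMap.ker (LinearMap.id - (tors T I).subtype.comp r) := fun x hx => by
      rw [LinearMap.mem_ker, LinearMap.sub_apply, LinearMap.id_apply, LinearMap.comp_apply,
        show r x = ⟨x, hx⟩ from hr ⟨x, hx⟩]
      exact sub_self x
    let σ := (tors T I).liftQ _ hker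
    obtain ⟨h, hh⟩ := Module.Baer.of_injective hI' 𝔞 (σ.comp g)
    refine ⟨(tors T I).mkQ.comp h, fun x hx => ?_⟩
    rw [LinearMap.comp_apply, hh x hx, LinearMap.comp_apply]
    obtain ⟨y, hy⟩ := Submodule.Quotient.mk_surjective _ (g ⟨x, hx⟩)
    rw [← hy]
    change Submodule.Quotient.mk (y - ((r y : tors T I) : I)) = _
    rw [Submodule.Quotient.mk_sub, (Submodule.Quotient.mk_eq_zero _).2 (r y).2, sub_zero]
  · rw [injective_iff_map_eq_zero]
    intro x hx
    obtain ⟨J, hJ, hJx⟩ := (Submodule.Quotient.mk_eq_zero _).1 hx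
    exact eq_zero_of_mem_tors hM hJ fun c hc => hj₀ (by rw [map_smul, hJx c hc, map_zero])

omit [IsNoetherianRing A] in
/-- an ideal killing `H¹` kills the torsion of the cokernel -/
theorem kills_coker {M E : Type u} [AddCommGroup M] [Module A M] [AddCommGroup E] [Module A E]
    {j : M →ₗ[A] E} (hj : Function.Injective j) (hE : tors T E = ⊥) {J₀ : Ideal A}
    (hk : ∀ a ∈ J₀, ∀ x : Dual2.HT T 1 M, a • x = 0) {e : E} {J : Ideal A}
    (hJ : PrimeSpectrum.zeroLocus (J : Set A) ⊆ T) (he : ∀ c ∈ J, c • e ∈ LinearMap.range j) :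
    ∀ c ∈ J₀, c • e ∈ LinearMap.range j := by
  intro c hc
  have hS : (Devissage.sc (LinearMap.exact_map_mkQ_range j)).ShortExact :=
    Devissage.sc_shortExact hj (Submodule.mkQ_surjective _) (LinearMap.exact_map_mkQ_range j)
  let J₁ : LocCoh.SuppGamma.Idx T := ⟨J, hJ⟩
  let y : E ⧸ LinearMap.range j := Submodule.Quotient.mk e
  let l : quotMod.{u, u} J ⟶ (Devissage.sc (LinearMap.exact_map_mkQ_range j)).X₃ :=
    ModuleCat.ofHom (Submodule.liftQ J (LinearMap.toSpanSingleton A (E ⧸ LinearMap.range j) y)
      fun a ha => by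
        rw [LinearMap.mem_ker, LinearMap.toSpanSingleton_apply, ← Submodule.Quotient.mk_smul,
          Submodule.Quotient.mk_eq_zero]
        exact he a ha)
  have h0 := hk c hc (LocCoh.ι.{u, u} (Dual2.idealsInDiagram T) 1 J₁ (ModuleCat.of A M)
    ((Abelian.Ext.mk₀ l).comp hS.extClass (zero_add 1)))
  rw [← map_smul, LocCoh.ι_eq_zero_iff.{u, u}] at h0
  obtain ⟨J', w, h0⟩ := h0
  let q : quotMod.{u, u} J'.obj ⟶ quotMod.{u, u} J := qmap.{u, u} (LocCoh.SuppGamma.le_of_hom w)
  have h1 : (Abelian.Ext.mk₀ (c • (q ≫ l))).comp hS.extClass (zero_add 1) = 0 := by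
    rw [Abelian.Ext.mk₀_smul, Abelian.Ext.smul_comp, ← Abelian.Ext.mk₀_comp_mk₀,
      Abelian.Ext.comp_assoc_of_second_deg_zero]
    exact (Abelian.Ext.comp_smul _ _ _ _).symm.trans h0
  obtain ⟨x₂, hx₂⟩ := Abelian.Ext.covariant_sequence_exact₃ _ hS _ (zero_add 1) h1
  obtain ⟨φ, rfl⟩ := (Abelian.Ext.mk₀_bijective _ _).2 x₂
  rw [Abelian.Ext.mk₀_comp_mk₀] at hx₂
  have hφ := ConcreteCategory.congr_hom ((Abelian.Ext.mk₀_bijective _ _).1 hx₂)
    (Submodule.Quotient.mk (1 : A))
  have hzero : φ.hom (Submodule.Quotient.mk (1 : A)) = 0 := eq_zero_of_mem_tors hE J'.property fun a ha => by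
    rw [← map_smul, ← Submodule.Quotient.mk_smul]
    exact (congrArg φ.hom ((Submodule.Quotient.mk_eq_zero _).2 (by simpa using ha))).trans (map_zero _)
  change Submodule.Quotient.mk (φ.hom (Submodule.Quotient.mk (1 : A))) = c • ((1 : A) • y) at hφ
  rw [hzero, Submodule.Quotient.mk_zero, one_smul] at hφ
  exact (Submodule.Quotient.mk_eq_zero _).1 ((Submodule.Quotient.mk_smul _ c e).trans hφ.symm)

/-- depth two at a prime from a regular element with torsion-free quotient -/
theorem two_le_depth (p : PrimeSpectrum A) (N : Type u) [AddCommGroup N] [Module A N] [Module.Finite A N]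
    {x : A} (hxp : x ∈ p.asIdeal) (hx : IsSMulRegular N x)
    (hdiv : ∀ e : N, (∀ c ∈ p.asIdeal, ∃ e' : N, c • e = x • e') → ∃ e' : N, x • e' = e) :
    2 ≤ LocCoh.depth (Localization.AtPrime p.asIdeal) (LocalizedModule p.asIdeal.primeCompl N) := by
  classical
  let B := Localization.AtPrime p.asIdeal
  let L := LocalizedModule p.asIdeal.primeCompl N
  have hfin : Module.Finite B L := Normalized.finite_localized p N
  have hxB : algebraMap A B x ∈ IsLocalRing.maximalIdeal B :=
    (IsLocalization.AtPrime.to_map_mem_maximal_iff B p.asIdeal x).2 hxp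
  have hxL : IsSMulRegular L (algebraMap A B x) :=
    hx.of_isLocalizedModule B p.asIdeal.primeCompl (LocalizedModule.mkLinearMap _ N)
  rw [Depth.depth_eq_idealDepth]
  refine (Depth.le_idealDepth_quotSMulTop_iff hxB hxL 1).1 (Depth.one_le_idealDepth_iff.2 fun P hP hle => ?_)
  obtain ⟨hPp, v, hv⟩ := isAssociatedPrime_iff.1 hP
  obtain ⟨w, rfl⟩ := Submodule.Quotient.mk_surjective _ v
  induction w using LocalizedModule.induction_on with
  | h m s =>
    obtain ⟨S, hS⟩ := IsNoetherian.noetherian p.asIdeal
    have hgen : ∀ c : S, ∃ u : p.asIdeal.primeCompl, ∃ e' : N, u.1 • c.1 • m = x • e' := by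
      intro c
      have hc : algebraMap A B c.1 ∈ P :=
        hle ((IsLocalization.AtPrime.to_map_mem_maximal_iff B p.asIdeal c.1).2 (hS ▸ Submodule.subset_span c.2))
      rw [hv, Submodule.mem_colon_singleton, Submodule.mem_bot, ← Submodule.Quotient.mk_smul,
        Submodule.Quotient.mk_eq_zero, Submodule.mem_smul_pointwise_iff_exists] at hc
      obtain ⟨w, -, hw⟩ := hc
      induction w using LocalizedModule.induction_on with
      | h e t =>
        rw [algebraMap_smul, algebraMap_smul, LocalizedModule.smul'_mk, LocalizedModule.smul'_mk,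
          LocalizedModule.mk_eq] at hw
        obtain ⟨u, hu⟩ := hw
        refine ⟨u * t, (u * s) • e, ?_⟩
        simp only [Submonoid.smul_def, Submonoid.coe_mul] at hu ⊢
        rw [mul_smul, smul_comm x]
        rw [mul_smul]
        exact hu.symm
    choose u e' he' using hgen
    obtain ⟨e, he⟩ := hdiv ((∏ c : S, u c : p.asIdeal.primeCompl).1 • m) fun c hc => by
      have hc' : c ∈ Submodule.span A (S : Set A) := hS.symm ▸ hc
      induction hc' using Submodule.span_induction with
      | mem a ha =>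
        obtain ⟨r, hr⟩ := Finset.dvd_prod_of_mem u (Finset.mem_univ (⟨a, ha⟩ : {a // a ∈ S}))
        refine ⟨r.1 • e' ⟨a, ha⟩, ?_⟩
        rw [hr, Submonoid.coe_mul, smul_comm x, ← he', mul_comm, mul_smul, smul_comm a, smul_comm a]
      | zero => exact ⟨0, by rw [zero_smul, smul_zero]⟩
      | add a b h₁ h₂ i₁ i₂ =>
        obtain ⟨e₁, h₁'⟩ := i₁ (hS ▸ h₁)
        obtain ⟨e₂, h₂'⟩ := i₂ (hS ▸ h₂)
        exact ⟨e₁ + e₂, by rw [add_smul, h₁', h₂', smul_add]⟩
      | smul r a h₁ i₁ =>
        obtain ⟨e₁, h₁'⟩ := i₁ (hS ▸ h₁)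
        exact ⟨r • e₁, by rw [smul_assoc, h₁', smul_comm]⟩
    refine hPp.ne_top ?_
    have hzero : (Submodule.Quotient.mk (LocalizedModule.mk m s) : QuotSMulTop (algebraMap A B x) L) = 0 := by
      rw [Submodule.Quotient.mk_eq_zero, Submodule.mem_smul_pointwise_iff_exists]
      refine ⟨LocalizedModule.mk e ((∏ c : S, u c) * s), trivial, ?_⟩
      rw [algebraMap_smul, LocalizedModule.smul'_mk, he, ← Submonoid.smul_def]
      exact LocalizedModule.mk_cancel_common_left _ s m
    rw [hv, hzero]
    ext a
    simp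

variable {ω : Dual.D A}

theorem exists_hull (hω : Dual.IsDualizing A ω) (hT : StableUnderSpecialization T) (M : Type u)
    [AddCommGroup M] [Module A M] [Module.Finite A M]
    (hM : ∀ p q : PrimeSpectrum A, p ⋖ q → q ∈ T → p ∉ T →
      1 ≤ LocCoh.depth (Localization.AtPrime p.asIdeal) (LocalizedModule p.asIdeal.primeCompl M)) :
    ∃ (M'' : Type u) (_ : AddCommGroup M'') (_ : Module A M'') (_ : Module.Finite A M'') (f : M →ₗ[A] M''),
      (∀ p : PrimeSpectrum A, p ∉ T → Function.Bijective (LocalizedModule.map p.asIdeal.primeCompl f)) ∧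
      ∀ p : PrimeSpectrum A, p ∈ T →
        2 ≤ LocCoh.depth (Localization.AtPrime p.asIdeal) (LocalizedModule p.asIdeal.primeCompl M'') := by
  classical
  let M' := M ⧸ tors T M
  -- localisations outside `T`
  have hout : ∀ p : PrimeSpectrum A, p ∉ T →
      Function.Bijective (LocalizedModule.map p.asIdeal.primeCompl (tors T M).mkQ) := by
    intro p hp
    refine ⟨(injective_iff_map_eq_zero _).2 fun x hx => ?_,
      LocalizedModule.map_surjective _ _ (Submodule.mkQ_surjective _)⟩
    induction x using LocalizedModule.induction_on with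
    | h m s =>
      rw [LocalizedModule.map_mk, ← LocalizedModule.zero_mk s, LocalizedModule.mk_eq] at hx
      obtain ⟨u, hu⟩ := hx
      simp only [smul_zero, Submonoid.smul_def] at hu
      rw [smul_smul, ← map_smul, Submodule.mkQ_apply, Submodule.Quotient.mk_eq_zero] at hu
      obtain ⟨J, hJ, hJu⟩ := hu
      obtain ⟨c, hc, hcp⟩ := SetLike.not_le_iff_exists.1 fun hle : J ≤ p.asIdeal => hp (hJ hle)
      rw [← LocalizedModule.zero_mk s, LocalizedModule.mk_eq]
      refine ⟨⟨c, hcp⟩ * u, ?_⟩
      simp only [smul_zero, Submonoid.smul_def, Submonoid.coe_mul]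
      rw [smul_smul, mul_assoc, mul_smul]
      exact hJu c hc
  -- the finiteness of the first cohomology with supports
  obtain ⟨J₀, hJ₀, hk⟩ := (LocCoh.AnnModule.annihilator_iff (M := M') hω hT hT 1).2 fun p q hp hq hpq => by
    have := LocalizedModule.map p.asIdeal.primeCompl (tors T M).mkQ
    rw [show LocCoh.depth (Localization.AtPrime p.asIdeal) (LocalizedModule p.asIdeal.primeCompl M') =
      LocCoh.depth (Localization.AtPrime p.asIdeal) (LocalizedModule p.asIdeal.primeCompl M) from
      (Depth.idealDepth_congr (LinearEquiv.ofBijective _ (hout p hp))).symm,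
      LocCoh.AnnModule.krullDim_Icc hpq, LocCoh.AnnThm.height_Ici hω hpq, ← WithBot.coe_add,
      show ((1 : ℕ) : WithBot ℕ∞) = (((1 : ℕ) : ℕ∞) : WithBot ℕ∞) from rfl, WithBot.coe_lt_coe]
    have hne : p < q := lt_of_le_of_ne hpq fun h => hp (h ▸ hq)
    have hdeg := Dimfun.deg_lt hω hne
    by_cases h1 : deg hω q - deg hω p = 1
    · have hcov : p ⋖ q := ⟨hne, fun c hpc hcq => by
        have := Dimfun.deg_lt hω hpc
        have := Dimfun.deg_lt hω hcq
        omega⟩
      refine lt_of_lt_of_le ?_ (add_le_add (hM p q hcov hq hp) le_rfl)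
      rw [h1]
      norm_num
    · refine lt_of_lt_of_le ?_ le_add_self
      exact_mod_cast (show 1 < (deg hω q - deg hω p).toNat by omega)
  replace hk := hk 1 le_rfl
  obtain ⟨E, _, _, hinj, j, hj, hE⟩ := exists_embedding M' (tors_quotient M)
  let N : Submodule A E :=
    { carrier := {e | ∀ c ∈ J₀, c • e ∈ LinearMap.range j}
      zero_mem' := fun c _ => by rw [smul_zero]; exact zero_mem _
      add_mem' := fun hx hy c hc => by rw [smul_add]; exact add_mem (hx c hc) (hy c hc)
      smul_mem' := fun a x hx c hc => by rw [smul_comm]; exact Submodule.smul_mem _ _ (hx c hc) }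
  -- `N` is finite
  have hNfin : Module.Finite A N := by
    obtain ⟨S, hS⟩ := IsNoetherian.noetherian J₀
    let g : N →ₗ[A] (S → LinearMap.range j) := LinearMap.pi fun c =>
      ((c.1 • LinearMap.id).comp N.subtype).codRestrict _ fun e => e.2 c.1 (hS ▸ Submodule.subset_span c.2)
    refine Module.Finite.of_injective g ((injective_iff_map_eq_zero g).2 fun e he => Subtype.ext ?_)
    refine eq_zero_of_mem_tors hE hJ₀ fun c hc => ?_
    have hc' : c ∈ Submodule.span A (S : Set A) := hS.symm ▸ hc
    induction hc' using Submodule.span_induction with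
    | mem a ha => exact congrArg Subtype.val (congrFun he ⟨a, ha⟩)
    | zero => exact zero_smul A _
    | add a b h₁ h₂ i₁ i₂ => rw [add_smul, i₁ (hS ▸ h₁), i₂ (hS ▸ h₂), add_zero]
    | smul r a h₁ i₁ => rw [smul_assoc, i₁ (hS ▸ h₁), smul_zero]
  let jN : M' →ₗ[A] N := j.codRestrict N fun m c _ => ⟨c • m, map_smul j c m⟩
  refine ⟨N, inferInstance, inferInstance, hNfin, jN.comp (tors T M).mkQ, fun p hp => ?_, fun p hp => ?_⟩
  · have hb : Function.Bijective (LocalizedModule.map p.asIdeal.primeCompl jN) := by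
      refine ⟨LocalizedModule.map_injective _ _ fun a b h => hj (congrArg Subtype.val h), fun x => ?_⟩
      induction x using LocalizedModule.induction_on with
      | h e s =>
        obtain ⟨c, hc, hcp⟩ := SetLike.not_le_iff_exists.1 fun hle : J₀ ≤ p.asIdeal => hp (hJ₀ hle)
        obtain ⟨m, hm⟩ := e.2 c hc
        refine ⟨LocalizedModule.mk m (⟨c, hcp⟩ * s), ?_⟩
        rw [LocalizedModule.map_mk, show jN m = c • e from Subtype.ext hm]
        exact LocalizedModule.mk_cancel_common_left ⟨c, hcp⟩ s e
    have hcomp : ∀ y, LocalizedModule.map p.asIdeal.primeCompl (jN.comp (tors T M).mkQ) y =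
        LocalizedModule.map p.asIdeal.primeCompl jN (LocalizedModule.map p.asIdeal.primeCompl (tors T M).mkQ y) := by
      intro y
      induction y using LocalizedModule.induction_on with
      | h m s => rw [LocalizedModule.map_mk, LocalizedModule.map_mk, LocalizedModule.map_mk]; rfl
    rw [show ⇑(LocalizedModule.map p.asIdeal.primeCompl (jN.comp (tors T M).mkQ)) = _ ∘ _ from funext hcomp]
    exact hb.comp (hout p hp)
  · -- depth at least two on `T`
    have hNtors : ∀ (e : N) (J : Ideal A), PrimeSpectrum.zeroLocus (J : Set A) ⊆ T →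
        (∀ c ∈ J, c • e = 0) → e = 0 := fun e J hJ h =>
      Subtype.ext (eq_zero_of_mem_tors hE hJ fun c hc => congrArg Subtype.val (h c hc))
    have hVp : PrimeSpectrum.zeroLocus (p.asIdeal : Set A) ⊆ T := fun q hq =>
      hT ((PrimeSpectrum.le_iff_specializes p q).1 hq) hp
    obtain ⟨x, hxp, hx⟩ : ∃ x ∈ p.asIdeal, IsSMulRegular N x := by
      refine Depth.exists_isSMulRegular_of_one_le_idealDepth (Depth.one_le_idealDepth_iff.2 fun P hP hle => ?_)
      obtain ⟨hPp, e, he⟩ := isAssociatedPrime_iff.1 hP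
      refine hPp.ne_top ?_
      rw [he, hNtors e p.asIdeal hVp fun c hc => ?_]
      · ext a; simp
      · have := hle hc
        rw [he, Submodule.mem_colon_singleton, Submodule.mem_bot] at this
        exact this
    have hdiv : ∀ e : N, (∀ c ∈ p.asIdeal, ∃ e' : N, c • e = x • e') → ∃ e' : N, x • e' = e := by
      intro e he
      choose g hg using fun c : p.asIdeal => he c.1 c.2
      let g' : p.asIdeal →ₗ[A] E :=
        { toFun := fun c => (g c).1
          map_add' := fun a b => congrArg Subtype.val (hx (show x • g (a + b) = x • (g a + g b) by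
            rw [smul_add, ← hg, ← hg, ← hg, Submodule.coe_add, add_smul]))
          map_smul' := fun r a => congrArg Subtype.val (hx (show x • g (r • a) = x • (r • g a) by
            rw [← hg, smul_comm, ← hg, Submodule.coe_smul, smul_assoc])) }
      obtain ⟨h, hh⟩ := hinj.out p.asIdeal.subtype (Submodule.injective_subtype _) g'
      have hc : ∀ c : p.asIdeal, c.1 • h 1 = (g c).1 := fun c => by
        rw [← map_smul, smul_eq_mul, mul_one]
        exact hh c
      have hmem : h 1 ∈ N := by
        refine kills_coker hj hE hk (zeroLocus_mul_subset hVp hJ₀) fun c hc' => ?_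
        induction hc' using Submodule.mul_induction_on' with
        | mem_mul_mem a ha b hb =>
          rw [mul_comm, mul_smul, hc ⟨a, ha⟩]
          exact (g ⟨a, ha⟩).2 b hb
        | add u hu v hv iu iv => rw [add_smul]; exact add_mem iu iv
      refine ⟨⟨h 1, hmem⟩, Subtype.ext (sub_eq_zero.1 (eq_zero_of_mem_tors hE hVp fun c hc' => ?_))⟩
      rw [smul_sub, sub_eq_zero, Submodule.coe_smul, smul_comm, hc ⟨c, hc'⟩]
      exact (congrArg Subtype.val (hg ⟨c, hc'⟩)).symm
    exact two_le_depth p N hxp hx hdiv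

/-- Let A be a Noetherian ring with a dualizing complex, T' ⊆ Spec A stable under specialization, and M
a finite A-module such that depth(M_p) ≥ 1 whenever q covers p in Spec A with q in T' and p outside
T'. Then there are a finite A-module M'' and a map M → M'' which is bijective after localizing at
every prime outside T' and such that M''_p has depth ≥ 2 for every p in T'. (The source: coherent
modules on a Noetherian scheme locally having a dualizing complex, with uniqueness and a pullback
clause.) -/
theorem result (A : Type u) [CommRing A] [IsNoetherianRing A] (hA : ∃ ω : Dual.D A, Dual.IsDualizing A ω) (T' : Set (PrimeSpectrum A)) (hT : StableUnderSpecialization T') (M : Type u) [AddCommGroup M] [Module A M] [Module.Finite A M] (hM : ∀ p q : PrimeSpectrum A, p ⋖ q → q ∈ T' → p ∉ T' → 1 ≤ LocCoh.depth (Localization.AtPrime p.asIdeal) (LocalizedModule p.asIdeal.primeCompl M)) : ∃ (M'' : Type u) (_ : AddCommGroup M'') (_ : Module A M'') (_ : Module.Finite A M'') (f : M →ₗ[A] M''), (∀ p : PrimeSpectrum A, p ∉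 T' → Function.Bijective (LocalizedModule.map p.asIdeal.primeCompl f)) ∧ ∀ p : PrimeSpectrum A, p ∈ T' → 2 ≤ LocCoh.depth (Localization.AtPrime p.asIdeal) (LocalizedModule p.asIdeal.primeCompl M'') := by
  obtain ⟨ω, hω⟩ := hA
  exact exists_hull hω hT M hM

end Groth.Agent.S1738
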