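import Groth.Statements.S17380
import Groth.Agent.BigVol.NumTrivH0
-- import your own Groth.Agent.* helpers here

set_option autoImplicit false
set_option linter.style.haveILetI false
universe u
open CategoryTheory CategoryTheory.Limits AlgebraicGeometry
open scoped ENNReal
open Variety

namespace Groth.Agent.S17380

/-- Let X be a geometrically integral scheme of dimension d, proper over a field k and admitting an
ample invertible module, and L an invertible module on X which is big, i.e. the lower limit of dim_k
H^0(X, L^m)/m^d as m → ∞ is positive. Then some power L^a, a > 0, is such that H^0(X, L^(aj) ⊗ N) ≠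
0 for every j > 0 and every numerically trivial invertible module N (degree zero on every integral
closed one-dimensional subscheme); in other words every invertible module numerically equivalent to
L^(aj) comes from an effective divisor. (The published statement asserts this for all sufficiently
large powers of L; its printed reduction to an ample module yields one power a and its multiples,
which is what is stated.) -/
theorem result (k : Type u) [Field k] (X : Scheme.{u})
    [X.Over (Spec (CommRingCat.of k))] [IsIntegral X] [GeometricallyIntegral (X ↘ Spec (CommRingCat.of k))]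
    [IsProper (X ↘ Spec (CommRingCat.of k))] (hproj : ∃ A : X.Modules, CohB1.IsAmple A)
    (d : ℕ) (hd : topologicalKrullDim X = d) (L : X.Modules) (hL : PicF.IsInvertible L)
    (hbig : 0 < Filter.liminf (fun m : ℕ => (Module.finrank k (Coh.HH X (CohB1.tensorPow L m) 0) : ℝ≥0∞) /
        (m : ℝ≥0∞) ^ d) Filter.atTop) :
    ∃ a : ℕ, 0 < a ∧ ∀ j : ℕ, 0 < j → ∀ N : X.Modules, PicF.IsInvertible N → Pic13.IsNumEquivZero k X N →
      0 < Module.finrank k (Coh.HH X (CohB1.tensorMod (CohB1.tensorPow L (a * j)) N) 0) := by
  obtain ⟨H, hH⟩ := hproj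
  obtain ⟨m₀, hm₀⟩ := Groth.Agent.BigVol.NumTrivH0.exists_h0 k hH
  let A := CohB1.tensorPow H (m₀ + 1)
  have hA : CohB1.IsAmple A := (Props.AmpleFrames.isAmple_tensorPow_iff hH.1 (Nat.succ_pos m₀)).1 hH
  have hlim : 0 < Filter.limsup (Groth.Agent.BigVol.f k L d) Filter.atTop :=
    lt_of_lt_of_le hbig Filter.liminf_le_limsup
  obtain ⟨a, ha, hs⟩ := Groth.Agent.BigVol.sub_ample_of_growth k hA hL hd.le
    (Groth.Agent.BigVol.growth_of_limsup_pos k hlim)
  refine ⟨a, ha, fun j hj N hN hnum => ?_⟩
  have hN1 := NumTriv.num1_of_isNumEquivZero k hN hnum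
  haveI := EulerChar.isNoetherian k (X := X)
  have hLa := AmpleLib.isInvertible_tensorPow hL a
  obtain ⟨e₁⟩ := Groth.Agent.BigVol.nonempty_pow_mul hH.1 (m₀ + 1) j
  obtain ⟨e₂⟩ := Groth.Agent.BigVol.nonempty_pow_mul hL a j
  have h1 : Groth.Agent.BigVol.Sub (CohB1.tensorMod (CohB1.tensorPow H ((m₀ + 1) * j)) N)
      (CohB1.tensorMod (CohB1.tensorPow L (a * j)) N) :=
    (((Groth.Agent.BigVol.Sub.of_iso e₁.symm).trans
      (Groth.Agent.BigVol.sub_tensorPow hA.1 hLa hs j)).iso e₂).tensor hN
  obtain ⟨e, hpos⟩ := hm₀ ((m₀ + 1) * j) (le_trans (Nat.le_succ m₀) (Nat.le_mul_of_pos_right _ hj)) N hN1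
  exact lt_of_lt_of_le (e.symm ▸ hpos) (Groth.Agent.BigVol.h0_le_of_sub k
    (ProjTwist.isCoh_tensor hN (Groth.Agent.BigVol.isCoh_of_isInvertible
      (AmpleLib.isInvertible_tensorPow hL (a * j)))) h1)

end Groth.Agent.S17380
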