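import Groth.Statements.S17383
import Groth.Agent.BlowUp.QProj
import Groth.Agent.QDom.Pair

set_option autoImplicit false
universe u
open FlatMor

namespace Groth.Agent.S17383

set_option backward.isDefEq.respectTransparency false

open AlgebraicGeometry CategoryTheory Limits in
/-- Let S be a quasi-compact quasi-separated scheme, f : X → S a separated morphism of finite type, and
U ⊆ X a quasi-compact dense open subscheme which is quasi-projective over S (of finite type with a
relatively ample invertible module). Then there are a blowing up q : X' → X in a quasi-coherent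
ideal of finite type with support disjoint from U, a projective morphism g : P → S (P the relative
homogeneous spectrum of a quasi-coherent graded algebra generated in degree one with degree-one part
of finite type) and an open immersion j : X' → P with dense image such that j ≫ g = q ≫ f. The
centre of the blow-up misses the prescribed open U. -/
theorem result
    {X S : Scheme.{u}} [CompactSpace S] [QuasiSeparatedSpace S]
    (f : X ⟶ S) [IsSeparated f] [QuasiCompact f] [LocallyOfFiniteType f]
    (U : X.Opens) (hU : IsCompact (U : Set X)) (hUd : Dense (U : Set X))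
    (hq : RelProj.IsQuasiProjective (U.ι ≫ f)) :
    ∃ (𝓘 : X.IdealSheafData) (X' P : Scheme.{u}) (q : X' ⟶ X) (j : X' ⟶ P) (g : P ⟶ S),
      BlowUp.IsBlowUp q 𝓘 ∧ BlowUp.IsAdmissibleFor U 𝓘 ∧ RelProj.IsProjective g ∧
      IsOpenImmersion j ∧ IsDominant j ∧ j ≫ g = q ≫ f := by
  obtain ⟨P₀, j₀, g₀, hj₀, hj₀c, hj₀d, hg₀, hjg₀⟩ :=
    Groth.Agent.BlowUp.QProj.exists_dense_projective (U.ι ≫ f) hq
  obtain ⟨hg₀q, hg₀p⟩ := S4418.result g₀ hg₀
  haveI : CompactSpace U.toScheme := isCompact_iff_compactSpace.mp hU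
  haveI : IsDominant U.ι := ⟨by
    show Dense (Set.range U.ι)
    rwa [Scheme.Opens.range_ι]⟩
  haveI : IsDominant j₀ := inferInstance
  obtain ⟨Y, q, _, _, _, A, a, B, b, iA, iB, uA, uB, ⟨𝓛, ha, h𝓛, h𝓛s⟩, ⟨𝓜, hb, h𝓜, -⟩,
    _, _, hcov, hua, -, huAB, hiA, hiB, _, hdom, hqc⟩ :=
    Groth.Agent.QDom.Pair.exists_glue f g₀ U.ι j₀ hjg₀.symm
  haveI : IsProper b := Groth.Agent.BlowUpProper.Basic.isProper hb h𝓜
  haveI : IsProper (iB ≫ q) := by rw [hiB]; infer_instance
  haveI : IsProper iB := IsProper.of_comp iB q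
  haveI := hdom
  haveI := hqc
  have hd : Dense (Set.range (uA ≫ iA)) := (uA ≫ iA).denseRange
  have hs : Surjective iB := ⟨fun y => by
    have h1 : y ∈ closure (Set.range iB) := by
      refine closure_mono ?_ (hd y)
      rintro _ ⟨x, rfl⟩
      exact ⟨uB x, (congr(($huAB) x)).symm⟩
    rwa [iB.isClosedMap.isClosed_range.closure_eq] at h1⟩
  haveI : IsIso iB := by
    haveI : Epi iB.base := (TopCat.epi_iff_surjective _).mpr hs.1
    exact IsOpenImmersion.isIso iB
  have hdj : IsDominant (iA ≫ inv iB) := by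
    haveI : IsDominant iA := ⟨hd.mono (by rintro _ ⟨x, rfl⟩; exact ⟨uA x, rfl⟩)⟩
    infer_instance
  refine ⟨𝓛, A, B, a, iA ≫ inv iB, b ≫ g₀, ha, ⟨h𝓛, ?_⟩,
    Groth.Agent.BlowUp.QProj.isProjective_of_isProper (b ≫ g₀)
      (Groth.Agent.BlowUp.QProj.isQuasiProjective_comp
        (Groth.Agent.BlowUp.QProj.isQuasiProjective_of_isBlowUp hb h𝓜) hg₀q),
    inferInstance, hdj, ?_⟩
  · rw [h𝓛s, Scheme.Opens.opensRange_ι]
    exact disjoint_compl_left
  · rw [← hiA, ← hiB, Category.assoc, IsIso.inv_hom_id_assoc]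

end Groth.Agent.S17383
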