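import Groth.Statements.S17387
import Groth.Agent.QDom.Pair
import Groth.Agent.BlowUp.Local

set_option maxHeartbeats 1000000
set_option backward.isDefEq.respectTransparency false
set_option backward.defeqAttrib.useBackward true

set_option autoImplicit false
universe u
open FlatMor

namespace Groth.Agent.S17387

open AlgebraicGeometry CategoryTheory Limits TopologicalSpace

/-- The identity is a blow-up in the unit ideal. -/
lemma isBlowUp_id (X : Scheme.{u}) : BlowUp.IsBlowUp (𝟙 X) (⊤ : X.IdealSheafData) := by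
  refine ⟨?_, fun Y g _ => ⟨g, Category.comp_id g, fun l hl => ?_⟩⟩
  · rw [Scheme.IdealSheafData.comap_top]; exact IdealSh.EffCartier.top
  · simpa using hl

/-- The statement to be proved by induction. -/
def Good {S U : Scheme.{u}} (gU : U ⟶ S) {n : ℕ} (X : Fin n → Scheme.{u}) (g : ∀ i, X i ⟶ S)
    (j : ∀ i, U ⟶ X i) [∀ i, IsOpenImmersion (j i)] : Prop :=
  ∃ (Xc : Scheme.{u}) (q : Xc ⟶ S) (_ : IsSeparated q) (_ : QuasiCompact q) (_ : LocallyOfFiniteType q)
    (jc : U ⟶ Xc) (_ : IsOpenImmersion jc) (_ : IsDominant jc)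
    (𝓘 : ∀ i, (X i).IdealSheafData) (X' : Fin n → Scheme.{u}) (b : ∀ i, X' i ⟶ X i)
    (o : ∀ i, X' i ⟶ Xc) (u : ∀ i, U ⟶ X' i),
    jc ≫ q = gU ∧
    (∀ i, BlowUp.IsBlowUp (b i) (𝓘 i) ∧ BlowUp.IsAdmissibleFor (j i).opensRange (𝓘 i) ∧
      IsOpenImmersion (o i) ∧ o i ≫ q = b i ≫ g i ∧ u i ≫ b i = j i) ∧
    (⋃ i, Set.range (fun x => o i x)) = Set.univ ∧ (∀ i, u i ≫ o i = jc)

lemma good_succ {S U : Scheme.{u}} [CompactSpace S] [QuasiSeparatedSpace S] [CompactSpace U]
    (gU : U ⟶ S) : ∀ (n : ℕ)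
    (X : Fin (n + 1) → Scheme.{u}) (g : ∀ i, X i ⟶ S)
    [∀ i, IsSeparated (g i)] [∀ i, QuasiCompact (g i)] [∀ i, LocallyOfFiniteType (g i)]
    (j : ∀ i, U ⟶ X i) [∀ i, IsOpenImmersion (j i)] [∀ i, IsDominant (j i)]
    (_ : ∀ i, j i ≫ g i = gU), Good gU X g j := by
  intro n
  induction n with
  | zero =>
    intro X g _ _ _ j _ _ hj
    refine ⟨X 0, g 0, inferInstance, inferInstance, inferInstance, j 0, inferInstance,
      inferInstance, fun _ => ⊤, X, fun i => 𝟙 _,
      fun i => eqToHom (by rw [Fin.fin_one_eq_zero i]), j, hj 0, fun i => ?_, ?_, fun i => ?_⟩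
    · obtain rfl : i = 0 := Fin.fin_one_eq_zero i
      exact ⟨isBlowUp_id _, IdealSh.FinType.admissible_top _, inferInstance, by simp, by simp⟩
    · refine Set.eq_univ_of_forall fun x => Set.mem_iUnion.mpr ⟨0, x, ?_⟩
      simp
    · obtain rfl : i = 0 := Fin.fin_one_eq_zero i
      simp
  | succ n ih =>
    intro X g _ _ _ j _ _ hj
    obtain ⟨Xc, q, _, _, _, jc, _, _, 𝓘, X', b, o, v, hjc, hP, hcov, hv⟩ :=
      ih (fun i => X i.castSucc) (fun i => g i.castSucc) (fun i => j i.castSucc)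
        (fun i => hj i.castSucc)
    let l := Fin.last (n + 1)
    obtain ⟨Y, qY, hs, hqc, hlft, A, a, B, c, iA, iB, uA, uB, ⟨𝓐, ha, hAft, hAs⟩,
      ⟨𝓑, hc, hBft, hBs⟩, _, _, hYcov, hua, huc, huu, hqa, hqb, hopen, hdom, hqcu⟩ :=
      QDom.Pair.exists_glue q (g l) jc (j l) (by rw [hjc, hj l])
    have hstep : ∀ i : Fin (n + 1), ∃ (𝓚 : (X i.castSucc).IdealSheafData) (P : Scheme.{u})
        (β : P ⟶ X i.castSucc) (ω : P ⟶ Y) (w : U ⟶ P),
        BlowUp.IsBlowUp β 𝓚 ∧ BlowUp.IsAdmissibleFor (j i.castSucc).opensRange 𝓚 ∧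
        IsOpenImmersion ω ∧ ω ≫ qY = β ≫ g i.castSucc ∧ w ≫ β = j i.castSucc ∧
        w ≫ ω = uA ≫ iA ∧ ∀ y : A, a y ∈ Set.range (o i) → iA y ∈ Set.range ω := by
      intro i
      obtain ⟨hbl, hadm, _, hoq, hvb⟩ := hP i
      have : QuasiSeparatedSpace (X i.castSucc) :=
        quasiSeparatedSpace_of_quasiSeparated (g i.castSucc)
      have : CompactSpace (X i.castSucc) :=
        QuasiCompact.compactSpace_of_compactSpace (g i.castSucc)
      let sq := IsPullback.of_hasPullback (o i) a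
      have hπ : BlowUp.IsBlowUp (pullback.fst (o i) a) (𝓐.comap (o i)) :=
        BlowUp.Local.of_isPullback ha sq
      obtain ⟨𝓚, h𝓚, h𝓚s, h𝓚b⟩ := BlowComp.Main.exists_comp hbl hadm.1
        (IdealSh.FinType.comap (o i) hAft) hπ
      refine ⟨𝓚, pullback (o i) a, pullback.fst (o i) a ≫ b i, pullback.snd (o i) a ≫ iA,
        pullback.lift (v i) uA (by rw [hv i, hua]), h𝓚b, ⟨h𝓚, ?_⟩, inferInstance, ?_, ?_, ?_, ?_⟩
      · rw [h𝓚s]
        refine Disjoint.union_left hadm.2 (Set.disjoint_left.mpr ?_)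
        rintro _ ⟨y, hy, rfl⟩ hyU
        have hiso := BlowUp.Basic.isIso_restrict hbl (j i.castSucc).opensRange hadm.2.symm
        obtain ⟨x, hx⟩ := hyU
        have hvy : v i x = y := by
          have h1 : b i (v i x) ∈ (j i.castSucc).opensRange :=
            ⟨x, by rw [← Scheme.Hom.comp_apply, hvb]⟩
          have h2 : b i y ∈ (j i.castSucc).opensRange := ⟨x, hx⟩
          have key : ∀ z, ((b i ∣_ (j i.castSucc).opensRange) z).1 = b i z.1 :=
            fun z => congr(($(morphismRestrict_ι (b i) (j i.castSucc).opensRange)) z)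
          refine congrArg Subtype.val
            ((b i ∣_ (j i.castSucc).opensRange).homeomorph.injective
              (a₁ := ⟨v i x, h1⟩) (a₂ := ⟨y, h2⟩) (Subtype.ext ((key ⟨_, h1⟩).trans
                (Eq.trans ?_ (key ⟨_, h2⟩).symm))))
          show b i (v i x) = b i y
          rw [← Scheme.Hom.comp_apply, hvb]
          exact hx
        rw [Scheme.IdealSheafData.support_comap] at hy
        have hy' : o i y ∈ (𝓐.support : Set Xc) := hy
        rw [hAs] at hy'
        refine hy' ⟨x, ?_⟩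
        rw [← hvy, ← Scheme.Hom.comp_apply, hv i]
      · rw [Category.assoc, hqa, ← pullback.condition_assoc, hoq, Category.assoc]
      · rw [pullback.lift_fst_assoc]; exact hvb
      · rw [pullback.lift_snd_assoc]
      · intro y hy
        have hy' : y ∈ Set.range (pullback.snd (o i) a) := by
          rw [Scheme.Pullback.range_snd]; exact hy
        obtain ⟨z, hz⟩ := hy'
        exact ⟨z, by rw [Scheme.Hom.comp_apply, hz]⟩
    have hall : ∀ i : Fin (n + 1 + 1), ∃ (𝓚 : (X i).IdealSheafData) (P : Scheme.{u})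
        (β : P ⟶ X i) (ω : P ⟶ Y) (w : U ⟶ P),
        (BlowUp.IsBlowUp β 𝓚 ∧ BlowUp.IsAdmissibleFor (j i).opensRange 𝓚 ∧
        IsOpenImmersion ω ∧ ω ≫ qY = β ≫ g i ∧ w ≫ β = j i) ∧
        w ≫ ω = uA ≫ iA ∧
        (∀ k : Fin (n + 1), i = k.castSucc → ∀ z : A, a z ∈ Set.range (o k) → iA z ∈ Set.range ω) ∧
        (i = Fin.last (n + 1) → Set.range iB ⊆ Set.range ω) := by
      intro i
      induction i using Fin.lastCases with
      | last =>
        refine ⟨𝓑, B, c, iB, uB, ⟨hc, ⟨hBft, ?_⟩, ‹IsOpenImmersion iB›, hqb, huc⟩, huu.symm,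
          fun k hk => absurd hk.symm (Fin.castSucc_ne_last k), fun _ => subset_rfl⟩
        rw [hBs]
        exact disjoint_compl_left
      | cast i =>
        obtain ⟨𝓚, P, β, ω, w, h1, h2, h3, h4, h5, h6, h7⟩ := hstep i
        exact ⟨𝓚, P, β, ω, w, ⟨h1, h2, h3, h4, h5⟩, h6,
          fun k hk => (Fin.castSucc_injective _ hk) ▸ h7,
          fun hi => absurd hi (Fin.castSucc_ne_last i)⟩
    choose 𝓚 P β ω w hPr hwω hcA hcB using hall
    refine ⟨Y, qY, hs, hqc, hlft, uA ≫ iA, hopen, inferInstance, 𝓚, P, β, ω, w,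
      by rw [Category.assoc, hqa, reassoc_of% hua, hjc], hPr, ?_, hwω⟩
    refine Set.eq_univ_of_forall fun y => ?_
    rcases hYcov.ge (Set.mem_univ y) with ⟨z, rfl⟩ | ⟨z, rfl⟩
    · obtain ⟨i, hi⟩ := Set.mem_iUnion.mp (hcov.ge (Set.mem_univ (a z)))
      exact Set.mem_iUnion.mpr ⟨i.castSucc, hcA _ i rfl z hi⟩
    · exact Set.mem_iUnion.mpr ⟨Fin.last (n + 1), hcB _ rfl ⟨z, rfl⟩⟩

open AlgebraicGeometry CategoryTheory Limits in
/-- Let S be a quasi-compact quasi-separated scheme, U and X_1, …, X_n separated S-schemes of finite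
type, and j_i : U → X_i open immersions over S with dense image. Then there are blowing ups b_i :
X_i' → X_i in quasi-coherent ideals of finite type with support disjoint from the image of U, a
separated S-scheme X of finite type, and open immersions o_i : X_i' → X over S whose images cover X,
together with the lifts u_i : U → X_i' of the j_i (u_i ≫ b_i = j_i), such that all the composites
u_i ≫ o_i : U → X coincide. -/
theorem result
    {S U : Scheme.{u}} [CompactSpace S] [QuasiSeparatedSpace S] {n : ℕ}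
    (gU : U ⟶ S) [IsSeparated gU] [QuasiCompact gU] [LocallyOfFiniteType gU]
    (X : Fin n → Scheme.{u}) (g : ∀ i, X i ⟶ S)
    [∀ i, IsSeparated (g i)] [∀ i, QuasiCompact (g i)] [∀ i, LocallyOfFiniteType (g i)]
    (j : ∀ i, U ⟶ X i) [∀ i, IsOpenImmersion (j i)] [∀ i, IsDominant (j i)] (hj : ∀ i, j i ≫ g i = gU) :
    ∃ (Xc : Scheme.{u}) (q : Xc ⟶ S) (_ : IsSeparated q) (_ : QuasiCompact q) (_ : LocallyOfFiniteType q)
      (𝓘 : ∀ i, (X i).IdealSheafData) (X' : Fin n → Scheme.{u}) (b : ∀ i, X' i ⟶ X i)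
      (o : ∀ i, X' i ⟶ Xc) (u : ∀ i, U ⟶ X' i),
      (∀ i, BlowUp.IsBlowUp (b i) (𝓘 i) ∧ BlowUp.IsAdmissibleFor (j i).opensRange (𝓘 i) ∧
        IsOpenImmersion (o i) ∧ o i ≫ q = b i ≫ g i ∧ u i ≫ b i = j i) ∧
      (⋃ i, Set.range (fun x => o i x)) = Set.univ ∧ (∀ i i', u i ≫ o i = u i' ≫ o i') := by
  rcases n with _ | n
  · refine ⟨∅, Scheme.emptyTo S, inferInstance, inferInstance, inferInstance, fun i => i.elim0,
      fun i => i.elim0, fun i => i.elim0, fun i => i.elim0, fun i => i.elim0, fun i => i.elim0, ?_, fun i => i.elim0⟩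
    exact Set.eq_univ_of_forall fun x => isEmptyElim x
  · have : CompactSpace U := QuasiCompact.compactSpace_of_compactSpace gU
    obtain ⟨Xc, q, h1, h2, h3, jc, _, _, 𝓘, X', b, o, v, -, hP, hcov, hv⟩ :=
      good_succ gU n X g j hj
    exact ⟨Xc, q, h1, h2, h3, 𝓘, X', b, o, v, hP, hcov, fun i i' => by rw [hv, hv]⟩

end Groth.Agent.S17387
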