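import Groth.Statements.S17388
import Groth.Agent.QDom.Birational
import Groth.Agent.BlowComp.Main
import Groth.Agent.IdealSh.Extend

set_option maxHeartbeats 1000000
set_option backward.isDefEq.respectTransparency false
set_option backward.defeqAttrib.useBackward true

set_option autoImplicit false
universe u
open FlatMor

namespace Groth.Agent.S17388

open AlgebraicGeometry CategoryTheory Limits TopologicalSpace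

/-- An isomorphism over an open is one over every smaller open. -/
lemma isIso_restrict_of_le {X Y : Scheme.{u}} (f : X ⟶ Y) {U V : Y.Opens} (h : V ≤ U)
    [IsIso (f ∣_ U)] : IsIso (f ∣_ V) := by
  have e : U.ι ''ᵁ (U.ι ⁻¹ᵁ V) = V := by
    rw [Scheme.Hom.image_preimage_eq_opensRange_inf, Scheme.Opens.opensRange_ι, inf_eq_right.mpr h]
  have h1 : IsIso ((f ∣_ U) ∣_ (U.ι ⁻¹ᵁ V)) := inferInstance
  have h2 := ((MorphismProperty.isomorphisms Scheme.{u}).arrow_mk_iso_iff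
    (morphismRestrictRestrict f U (U.ι ⁻¹ᵁ V))).mp h1
  rwa [e] at h2

/-- The image of a dense open lying over a dense open where `f` is an isomorphism. -/
lemma exists_image {X Y : Scheme.{u}} (f : X ⟶ Y) (U : Y.Opens) (hd : Dense (U : Set Y))
    [IsIso (f ∣_ U)] (V : X.Opens) (hVU : V ≤ f ⁻¹ᵁ U) (hV : IsCompact (V : Set X))
    (hVd : Dense (V : Set X)) :
    ∃ V' : Y.Opens, f ⁻¹ᵁ V' = V ∧ IsCompact (V' : Set Y) ∧ Dense (V' : Set Y) ∧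
      IsIso (f ∣_ V') ∧ (V' : Set Y) = (fun x => f x) '' (V : Set X) := by
  let g := (f ∣_ U) ≫ U.ι
  have hg : g = (f ⁻¹ᵁ U).ι ≫ f := morphismRestrict_ι _ _
  let V' : Y.Opens := g ''ᵁ ((f ⁻¹ᵁ U).ι ⁻¹ᵁ V)
  have himg : (V' : Set Y) = (fun x => f x) '' (V : Set X) := by
    refine Set.Subset.antisymm ?_ ?_
    · rintro _ ⟨w, hw, rfl⟩
      exact ⟨_, hw, (congr(($hg) w)).symm⟩
    · rintro _ ⟨x, hx, rfl⟩
      exact ⟨⟨x, hVU hx⟩, hx, congr(($hg) (⟨x, hVU hx⟩ : (f ⁻¹ᵁ U).toScheme))⟩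
  have hle : V' ≤ U := fun y hy => by
    obtain ⟨x, hx, rfl⟩ := himg.le hy
    exact hVU hx
  refine ⟨V', ?_, himg ▸ hV.image f.continuous, ?_, isIso_restrict_of_le f hle, himg⟩
  · refine Opens.ext (Set.Subset.antisymm (fun x hx => ?_) fun x hx => himg.ge ⟨x, hx, rfl⟩)
    obtain ⟨w, hw, hwx⟩ := hx
    have hxU : x ∈ f ⁻¹ᵁ U := hle (show f x ∈ V' from ⟨w, hw, hwx⟩)
    have : w = (⟨x, hxU⟩ : (f ⁻¹ᵁ U).toScheme) := g.isOpenEmbedding.injective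
      (hwx.trans (congr(($hg) (⟨x, hxU⟩ : (f ⁻¹ᵁ U).toScheme))).symm)
    subst this
    exact hw
  · refine dense_iff_inter_open.mpr fun O hO hne => ?_
    obtain ⟨y, hyO, hyU⟩ := dense_iff_inter_open.mp hd O hO hne
    obtain ⟨w, hw⟩ := (f ∣_ U).homeomorph.surjective ⟨y, hyU⟩
    have hwy : f ((f ⁻¹ᵁ U).ι w) = y := by
      rw [← Scheme.Hom.comp_apply, ← morphismRestrict_ι, Scheme.Hom.comp_apply]
      exact congrArg Subtype.val hw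
    obtain ⟨x, hx, hxV⟩ := dense_iff_inter_open.mp hVd (f ⁻¹' O ∩ (f ⁻¹ᵁ U : X.Opens))
      ((hO.preimage f.continuous).inter (f ⁻¹ᵁ U).2) ⟨_, show f _ ∈ O from hwy.symm ▸ hyO, w.2⟩
    exact ⟨f x, hx.1, himg.ge ⟨x, hxV, rfl⟩⟩


open AlgebraicGeometry CategoryTheory Limits in
/-- Let X, Y₁, Y₂ be quasi-compact quasi-separated schemes and π_i : X → Y_i (i = 1, 2) separated
morphisms of finite type which are birational: U_i ⊆ Y_i is a quasi-compact dense open subscheme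
over which π_i restricts to an isomorphism and whose preimage is dense in X. Let U = π₁⁻¹(U₁) ∩
π₂⁻¹(U₂), a dense quasi-compact open of X mapping isomorphically onto dense opens of Y₁ and Y₂. Then
there are blowing ups b : X̃ → X, c₁ : Ỹ₁ → Y₁, c₂ : Ỹ₂ → Y₂ in quasi-coherent ideals of finite type
whose supports are disjoint from U, π₁(U) and π₂(U) respectively, and open immersions j_i : X̃ → Ỹ_i
with j_i ≫ c_i = b ≫ π_i. -/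
theorem result
    {X Y₁ Y₂ : Scheme.{u}} [CompactSpace X] [QuasiSeparatedSpace X]
    [CompactSpace Y₁] [QuasiSeparatedSpace Y₁] [CompactSpace Y₂] [QuasiSeparatedSpace Y₂]
    (π₁ : X ⟶ Y₁) (π₂ : X ⟶ Y₂)
    [IsSeparated π₁] [QuasiCompact π₁] [LocallyOfFiniteType π₁]
    [IsSeparated π₂] [QuasiCompact π₂] [LocallyOfFiniteType π₂]
    (U₁ : Y₁.Opens) (U₂ : Y₂.Opens) (hU₁ : IsCompact (U₁ : Set Y₁)) (hU₂ : IsCompact (U₂ : Set Y₂))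
    (hd₁ : Dense (U₁ : Set Y₁)) (hd₂ : Dense (U₂ : Set Y₂)) [IsIso (π₁ ∣_ U₁)] [IsIso (π₂ ∣_ U₂)]
    (hd₁' : Dense ((π₁ ⁻¹ᵁ U₁ : X.Opens) : Set X)) (hd₂' : Dense ((π₂ ⁻¹ᵁ U₂ : X.Opens) : Set X)) :
    ∃ (𝓘 : X.IdealSheafData) (𝓙₁ : Y₁.IdealSheafData) (𝓙₂ : Y₂.IdealSheafData)
      (Xt Yt₁ Yt₂ : Scheme.{u}) (b : Xt ⟶ X) (c₁ : Yt₁ ⟶ Y₁) (c₂ : Yt₂ ⟶ Y₂) (j₁ : Xt ⟶ Yt₁) (j₂ : Xt ⟶ Yt₂),
      BlowUp.IsBlowUp b 𝓘 ∧ BlowUp.IsAdmissibleFor (π₁ ⁻¹ᵁ U₁ ⊓ π₂ ⁻¹ᵁ U₂) 𝓘 ∧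
      BlowUp.IsBlowUp c₁ 𝓙₁ ∧ BlowUp.IsFiniteTypeIdeal 𝓙₁ ∧
        Disjoint (𝓙₁.support : Set Y₁) ((fun x => π₁ x) '' ((π₁ ⁻¹ᵁ U₁ ⊓ π₂ ⁻¹ᵁ U₂ : X.Opens) : Set X)) ∧
      BlowUp.IsBlowUp c₂ 𝓙₂ ∧ BlowUp.IsFiniteTypeIdeal 𝓙₂ ∧
        Disjoint (𝓙₂.support : Set Y₂) ((fun x => π₂ x) '' ((π₁ ⁻¹ᵁ U₁ ⊓ π₂ ⁻¹ᵁ U₂ : X.Opens) : Set X)) ∧
      IsOpenImmersion j₁ ∧ IsOpenImmersion j₂ ∧ j₁ ≫ c₁ = b ≫ π₁ ∧ j₂ ≫ c₂ = b ≫ π₂ := by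
  let V : X.Opens := π₁ ⁻¹ᵁ U₁ ⊓ π₂ ⁻¹ᵁ U₂
  have hV : IsCompact (V : Set X) := QuasiSeparatedSpace.inter_isCompact _ _
    (π₁ ⁻¹ᵁ U₁).2 (π₁.isCompact_preimage hU₁) (π₂ ⁻¹ᵁ U₂).2 (π₂.isCompact_preimage hU₂)
  have hVd : Dense (V : Set X) := hd₁'.inter_of_isOpen_left hd₂' (π₁ ⁻¹ᵁ U₁).2
  obtain ⟨V₁, hV₁, hV₁c, hV₁d, _, hV₁i⟩ := exists_image π₁ U₁ hd₁ V inf_le_left hV hVd
  obtain ⟨V₂, hV₂, hV₂c, hV₂d, _, hV₂i⟩ := exists_image π₂ U₂ hd₂ V inf_le_right hV hVd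
  obtain ⟨𝓙₁, Y₁', c₁, W₁, b₁, hb₁, hc₁, hadm₁, -, hbl₁, -, -, -⟩ :=
    QDom.Birational.exists_blowUp π₁ V₁ hV₁c hV₁d
  let 𝓘₁ := 𝓙₁.comap π₁
  have hadI₁ : BlowUp.IsAdmissibleFor V 𝓘₁ := hV₁ ▸ IdealSh.FinType.admissible_comap π₁ hadm₁
  have : IsProper b₁ := BlowUpProper.Basic.isProper hbl₁ hadI₁.1
  have : CompactSpace W₁.toScheme := QuasiCompact.compactSpace_of_compactSpace b₁
  let g := b₁ ≫ π₂
  have : IsIso (g ∣_ V₂) := by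
    rw [morphismRestrict_comp]
    have : IsIso (b₁ ∣_ π₂ ⁻¹ᵁ V₂) := by
      rw [hV₂]; exact BlowUp.Basic.isIso_restrict hbl₁ V hadI₁.2.symm
    infer_instance
  obtain ⟨𝓙₂, Y₂', c₂, W₂, b₂, hb₂, hc₂, hadm₂, -, hbl₂, -, -, -⟩ :=
    QDom.Birational.exists_blowUp g V₂ hV₂c hV₂d
  let 𝓚 := 𝓙₂.comap g
  have h𝓚 : BlowUp.IsFiniteTypeIdeal 𝓚 := IdealSh.FinType.comap g hadm₂.1
  have hbl : BlowUp.IsBlowUp (b₂ ≫ b₁) (𝓘₁ * 𝓙₂.comap π₂) :=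
    BlowUp.Basic.comp_mul hbl₁ (by rwa [← Scheme.IdealSheafData.comap_comp])
  have : IsProper c₁ := BlowUpProper.Basic.isProper hc₁ hadm₁.1
  have : CompactSpace Y₁' := QuasiCompact.compactSpace_of_compactSpace c₁
  have : QuasiSeparatedSpace Y₁' := quasiSeparatedSpace_of_quasiSeparated c₁
  obtain ⟨𝓚', hK', hKc⟩ := IdealSh.Extend.exists_extension (U := c₁ ⁻¹ᵁ V₁) (V := W₁)
    (c₁.isCompact_preimage hV₁c) (isCompact_iff_compactSpace.mpr ‹CompactSpace W₁.toScheme›) h𝓚 (by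
      rw [Set.disjoint_left]
      intro w hw hwV
      rw [Scheme.IdealSheafData.support_comap] at hw
      have h1 : b₁ w ∈ V := by
        rw [← hV₁]
        show π₁ (b₁ w) ∈ V₁
        rw [← Scheme.Hom.comp_apply, ← hb₁, Scheme.Hom.comp_apply]
        exact hwV
      rw [← hV₂] at h1
      exact hadm₂.2.le_bot ⟨hw, h1⟩)
  obtain ⟨Y₁'', d₁, hdd⟩ := BlowUp.Glue.exists_isBlowUp Y₁' 𝓚'
  obtain ⟨e, he⟩ := BlowUp.Basic.exists_iso (hKc ▸ BlowUp.Local.restrict hdd W₁) hbl₂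
  obtain ⟨𝓛, h𝓛, h𝓛s, h𝓛b⟩ := BlowComp.Main.exists_comp hc₁ hadm₁.1 hK'.1 hdd
  refine ⟨_, 𝓛, 𝓙₂, _, Y₁'', Y₂', b₂ ≫ b₁, d₁ ≫ c₁, c₂, e.hom ≫ (d₁ ⁻¹ᵁ W₁).ι, W₂.ι, hbl,
    IdealSh.FinType.admissible_mul hadI₁
      (show BlowUp.IsAdmissibleFor V (𝓙₂.comap π₂) from hV₂ ▸ IdealSh.FinType.admissible_comap π₂ hadm₂), h𝓛b, h𝓛, ?_, hc₂, hadm₂.1, ?_,
    inferInstance, inferInstance, ?_, ?_⟩
  · rw [← hV₁i, h𝓛s]
    refine Disjoint.union_left hadm₁.2 (Set.disjoint_left.mpr ?_)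
    rintro _ ⟨w, hw, rfl⟩ hwV
    exact hK'.2.le_bot ⟨hw, hwV⟩
  · rw [← hV₂i]; exact hadm₂.2
  · rw [Category.assoc, ← morphismRestrict_ι_assoc, ← he, Category.assoc, Category.assoc, hb₁]
  · rw [Category.assoc]; exact hb₂

end Groth.Agent.S17388
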