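import Groth.Statements.S17390
import Groth.Agent.BlowUp.Basic
import Groth.Agent.IdealSh.FinType
import Groth.Agent.BlowUpProper.Basic
import Groth.Agent.ModPairLib.Dense
import Groth.Agent.GrpScheme.Ext
import Mathlib.AlgebraicGeometry.Morphisms.Proper

set_option maxHeartbeats 1000000
set_option backward.isDefEq.respectTransparency false
set_option backward.defeqAttrib.useBackward true

set_option autoImplicit false
universe u
open FlatMor

namespace Groth.Agent.S17390

open AlgebraicGeometry CategoryTheory Limits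

/-- A morphism factoring through a closed immersion on a schematically dense part factors through it. -/
lemma exists_factor {T' T Z P : Scheme.{u}} (i : Z ⟶ P) [IsClosedImmersion i] (g : T ⟶ P)
    (d : T' ⟶ T) [IsSchemeTheoreticallyDominant d] (k : T' ⟶ Z) (hk : d ≫ g = k ≫ i) :
    ∃ l : T ⟶ Z, l ≫ i = g := by
  have hfac : pullback.lift d k hk ≫ pullback.fst g i = d := pullback.lift_fst _ _ _
  have hker : (pullback.fst g i).ker = ⊥ := by
    rw [← le_bot_iff, ← IsSchemeTheoreticallyDominant.ker_eq_bot d]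
    conv_rhs => rw [← hfac]
    exact Scheme.Hom.le_ker_comp _ _
  have : IsIso (pullback.fst g i) := IsClosedImmersion.isIso_iff_ker_eq_bot.mpr hker
  exact ⟨inv (pullback.fst g i) ≫ pullback.snd g i, by
    rw [Category.assoc, ← pullback.condition, IsIso.inv_hom_id_assoc]⟩

/-- A quasi-compact schematically dominant morphism stays so when its target is shrunk. -/
lemma schDom_lift {U X : Scheme.{u}} (W : X.Opens) (j : U ⟶ X) [IsSchemeTheoreticallyDominant j]
    [QuasiCompact j] (k : U ⟶ W.toScheme) (hk : k ≫ W.ι = j) :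
    IsSchemeTheoreticallyDominant k := by
  have H : IsPullback (𝟙 U) k j W.ι := by
    refine ⟨⟨by simp [hk]⟩, ⟨PullbackCone.IsLimit.mk (by simp [hk]) (fun s => s.fst)
      (fun s => by simp) (fun s => ?_) (fun s m h _ => by simpa using h)⟩⟩
    rw [← cancel_mono W.ι, Category.assoc, hk]
    exact s.condition
  exact IsSchemeTheoreticallyDominant.of_isPullback H


open AlgebraicGeometry CategoryTheory Limits in
/-- Let S be a quasi-compact quasi-separated scheme, X and Y separated S-schemes of finite type, U a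
quasi-compact scheme with an open immersion jX : U → X with dense image (so U is separated of finite
type over S), V ⊆ Y a quasi-compact open subscheme with an open immersion jV : U → V which is
schematically dense and such that U has dense image in Y, and φ : V → X an S-morphism with jV ≫ φ =
jX which is a quasi-domination of Y over X (its graph morphism V → Y ×_S X has closed image). Let I
be a quasi-coherent ideal of finite type on X with support disjoint from the image of U and b : X̃ →
X a blowing up of X in I; let W ⊆ X̃ be an open subscheme, u : U → W the lift of jX (u ≫ W.ι ≫ b =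
jX), assumed schematically dense as a morphism to X̃, and ψ : W → V an S-morphism with u ≫ ψ = jV
which is a quasi-domination of X̃ over V (its graph morphism W → X̃ ×_S V has closed image). Then ψ
is a blowing up of V in the inverse image ideal I·O_V, hence proper, and the graph morphism W → X̃
×_S Y of ψ followed by V ⊆ Y has closed image. -/
theorem result
    {S U X Y Xt : Scheme.{u}} [CompactSpace S] [QuasiSeparatedSpace S]
    (gX : X ⟶ S) (gY : Y ⟶ S)
    [IsSeparated gX] [QuasiCompact gX] [LocallyOfFiniteType gX]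
    [IsSeparated gY] [QuasiCompact gY] [LocallyOfFiniteType gY]
    (jX : U ⟶ X) [IsOpenImmersion jX] [IsDominant jX] [CompactSpace U]
    (V : Y.Opens) (hVc : IsCompact (V : Set Y))
    (jV : U ⟶ (V : Scheme.{u})) [IsOpenImmersion jV] [IsSchemeTheoreticallyDominant jV]
    [IsDominant (jV ≫ V.ι)]
    (φ : (V : Scheme.{u}) ⟶ X) (hφU : jV ≫ φ = jX) (hφ : V.ι ≫ gY = φ ≫ gX)
    (hφcl : IsClosed (Set.range (fun x => pullback.lift V.ι φ hφ x)))
    (𝓘 : X.IdealSheafData) (h𝓘 : BlowUp.IsAdmissibleFor jX.opensRange 𝓘)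
    (b : Xt ⟶ X) (hb : BlowUp.IsBlowUp b 𝓘)
    (W : Xt.Opens) (u : U ⟶ (W : Scheme.{u})) (hu : u ≫ W.ι ≫ b = jX)
    [IsSchemeTheoreticallyDominant (u ≫ W.ι)]
    (ψ : (W : Scheme.{u}) ⟶ (V : Scheme.{u})) (hψU : u ≫ ψ = jV)
    (hψ : W.ι ≫ b ≫ gX = ψ ≫ V.ι ≫ gY)
    (hψcl : IsClosed (Set.range (fun x => pullback.lift W.ι ψ hψ x))) :
    BlowUp.IsBlowUp ψ (𝓘.comap φ) ∧
      IsClosed (Set.range (fun x => pullback.lift (f := b ≫ gX) (g := gY) W.ι (ψ ≫ V.ι)
        (hψ.trans (Category.assoc ψ V.ι gY).symm) x)) := by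
  have : IsProper b := BlowUpProper.Basic.isProper hb h𝓘.1
  have : QuasiSeparatedSpace X := quasiSeparatedSpace_of_quasiSeparated gX
  have : QuasiSeparatedSpace Y := quasiSeparatedSpace_of_quasiSeparated gY
  have : QuasiSeparatedSpace Xt := quasiSeparatedSpace_of_quasiSeparated b
  have : QuasiSeparatedSpace (V : Scheme.{u}) := quasiSeparatedSpace_of_quasiSeparated V.ι
  have : QuasiCompact (u ≫ W.ι) := QuasiCompact.of_comp _ (terminal.from Xt)
  have : QuasiCompact jV := QuasiCompact.of_comp _ (terminal.from (V : Scheme.{u}))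
  have : IsSchemeTheoreticallyDominant u := schDom_lift W (u ≫ W.ι) u rfl
  have e₀ : W.ι ≫ b = ψ ≫ φ := by
    refine GrpScheme.Ext.ext_of_schematicallyDominant u gX ?_ ?_
    · rw [Category.assoc, Category.assoc, hψ, hφ]
    · rw [hu, reassoc_of% hψU, hφU]
  have hjX : Disjoint (Set.range jX) (𝓘.support : Set X) := by
    have := h𝓘.2.symm
    rwa [Scheme.Hom.coe_opensRange] at this
  -- part 1: the blow-up property
  have hcart : BlowUp.IsEffCartierIdeal ((𝓘.comap φ).comap ψ) := by
    rw [← Scheme.IdealSheafData.comap_comp, ← e₀, Scheme.IdealSheafData.comap_comp]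
    exact IdealSh.EffCartier.comap_of_flat W.ι hb.1
  let Γψ := pullback.lift W.ι ψ hψ
  have : IsImmersion (Γψ ≫ pullback.fst (b ≫ gX) (V.ι ≫ gY)) := by
    rw [pullback.lift_fst]; infer_instance
  have : IsImmersion Γψ := IsImmersion.of_comp Γψ (pullback.fst (b ≫ gX) (V.ι ≫ gY))
  have : IsClosedImmersion Γψ := IsClosedImmersion.of_isPreimmersion _ hψcl
  let V₀ : (V : Scheme.{u}).Opens := ModPair.interior (𝓘.comap φ)
  have hV₀ : Disjoint (Set.range (V₀.ι ≫ φ)) (𝓘.support : Set X) := by
    rw [Set.disjoint_left]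
    rintro _ ⟨v, rfl⟩ hv
    refine v.2 ?_
    rw [Scheme.IdealSheafData.support_comap]
    exact hv
  obtain ⟨σ, hσ, -⟩ := hb.2 _ (V₀.ι ≫ φ)
    (by rw [IdealSh.Comap.comap_eq_top_of_disjoint _ _ hV₀]; exact IdealSh.EffCartier.top)
  have hjV₀ : Set.range jV ⊆ Set.range V₀.ι := by
    rw [Scheme.Opens.range_ι]
    rintro _ ⟨x, rfl⟩
    show jV x ∉ (𝓘.comap φ).support
    rw [Scheme.IdealSheafData.support_comap]
    intro hx
    refine hjX.le_bot ⟨⟨x, rfl⟩, ?_⟩
    rw [← hφU, Scheme.Hom.comp_apply]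
    exact hx
  let d := IsOpenImmersion.lift V₀.ι jV hjV₀
  have hd : d ≫ V₀.ι = jV := IsOpenImmersion.lift_fac _ _ _
  have : IsSchemeTheoreticallyDominant d := schDom_lift V₀ jV d hd
  have hdσ : d ≫ σ = u ≫ W.ι := by
    refine BlowUp.Basic.hom_ext_of_disjoint hb ?_ ?_
    · rw [Category.assoc, hσ, reassoc_of% hd, hφU]
      exact hjX
    · rw [Category.assoc, hσ, reassoc_of% hd, hφU, Category.assoc, hu]
  obtain ⟨τ, hτ⟩ := exists_factor Γψ (pullback.lift σ V₀.ι (by
      rw [reassoc_of% hσ, ← hφ])) d u (by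
    apply pullback.hom_ext
    · simp [Γψ, hdσ]
    · simp [Γψ, hd, hψU])
  have hτ₁ : τ ≫ W.ι = σ := by simpa [Γψ] using hτ =≫ pullback.fst _ _
  have hτ₂ : τ ≫ ψ = V₀.ι := by simpa [Γψ] using hτ =≫ pullback.snd _ _
  have hBl : BlowUp.IsBlowUp ψ (𝓘.comap φ) := by
    refine ⟨hcart, fun T g hg => ?_⟩
    have hg' : BlowUp.IsEffCartierIdeal (𝓘.comap (g ≫ φ)) := by
      rwa [Scheme.IdealSheafData.comap_comp]
    obtain ⟨h, hh, hhu⟩ := hb.2 T (g ≫ φ) hg'
    let T₀ : T.Opens := ModPair.interior ((𝓘.comap φ).comap g)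
    have : IsSchemeTheoreticallyDominant T₀.ι :=
      ModPairLib.Dense.isSchemeTheoreticallyDominant_interior hg
    have hT₀ : Set.range (T₀.ι ≫ g) ⊆ Set.range V₀.ι := by
      rw [Scheme.Opens.range_ι]
      rintro _ ⟨t, rfl⟩
      intro ht
      refine t.2 ?_
      rw [Scheme.IdealSheafData.support_comap]
      exact ht
    let g₀ := IsOpenImmersion.lift V₀.ι (T₀.ι ≫ g) hT₀
    have hg₀ : g₀ ≫ V₀.ι = T₀.ι ≫ g := IsOpenImmersion.lift_fac _ _ _
    have hT₀' : T₀.ι ≫ h = g₀ ≫ σ := by
      refine BlowUp.Basic.hom_ext hb ?_ ?_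
      · rw [Category.assoc, hh, Scheme.IdealSheafData.comap_comp]
        exact IdealSh.EffCartier.comap_of_flat T₀.ι hg'
      · rw [Category.assoc, hh, Category.assoc, hσ, reassoc_of% hg₀]
    obtain ⟨l, hl⟩ := exists_factor Γψ (pullback.lift h g (by
        rw [reassoc_of% hh, ← hφ])) T₀.ι (g₀ ≫ τ) (by
      apply pullback.hom_ext
      · simp [Γψ, hT₀', hτ₁]
      · simp [Γψ, hτ₂, hg₀])
    have hl₁ : l ≫ W.ι = h := by simpa [Γψ] using hl =≫ pullback.fst _ _
    have hl₂ : l ≫ ψ = g := by simpa [Γψ] using hl =≫ pullback.snd _ _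
    refine ⟨l, hl₂, fun l' hl' => ?_⟩
    rw [← cancel_mono W.ι, hl₁]
    refine hhu _ ?_
    show (l' ≫ W.ι) ≫ b = g ≫ φ
    rw [Category.assoc, e₀, reassoc_of% hl']
  refine ⟨hBl, ?_⟩
  -- part 2: the graph in the bigger product is closed
  have : IsProper ψ := BlowUpProper.Basic.isProper hBl (IdealSh.FinType.comap φ h𝓘.1)
  let Γφ := pullback.lift V.ι φ hφ
  have : IsImmersion (Γφ ≫ pullback.fst gY gX) := by
    rw [pullback.lift_fst]; infer_instance
  have : IsImmersion Γφ := IsImmersion.of_comp Γφ (pullback.fst gY gX)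
  have : IsClosedImmersion Γφ := IsClosedImmersion.of_isPreimmersion _ hφcl
  let Θ := pullback.lift (f := b ≫ gX) (g := gY) W.ι (ψ ≫ V.ι)
    (hψ.trans (Category.assoc ψ V.ι gY).symm)
  let m : pullback (b ≫ gX) gY ⟶ pullback gY gX :=
    pullback.map (b ≫ gX) gY gX gY b (𝟙 Y) (𝟙 S) (by simp) (by simp) ≫
      (pullbackSymmetry gX gY).hom
  have hm : Θ ≫ m = ψ ≫ Γφ := by
    apply pullback.hom_ext <;> simp [Θ, m, Γφ, e₀]
  have : IsSeparated m := by
    have : IsSeparated (pullback.map (b ≫ gX) gY gX gY b (𝟙 Y) (𝟙 S) (by simp) (by simp)) :=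
      MorphismProperty.pullbackMap (P := @IsSeparated) (f := b ≫ gX) (g := gY) (f' := gX) (g' := gY)
        (i₁ := b) (i₂ := 𝟙 Y) inferInstance inferInstance rfl (Category.id_comp gY).symm
    exact inferInstanceAs (IsSeparated (_ ≫ _))
  have : IsProper (Θ ≫ m) := by rw [hm]; infer_instance
  have : IsProper Θ := IsProper.of_comp Θ m
  exact Θ.isClosedMap.isClosed_range

end Groth.Agent.S17390
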