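import Groth.Statements.S17391
import Groth.Agent.BlowSep.Stalk
-- import your own Groth.Agent.* helpers here

set_option autoImplicit false
universe u
open BlowUp

namespace Groth.Agent.S17391

open AlgebraicGeometry CategoryTheory Limits in
/-- Let X and Z be schemes, p : Z → X a morphism, U ⊆ V ⊆ X open subschemes, and f : Y → Z a
quasi-compact immersion whose composite with p lands in U. Let I₁ be a quasi-coherent ideal on X
whose support contains V ∖ U and is disjoint from U, and I₂ a quasi-coherent ideal whose support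
lies in supp(I₁) ∖ V. Assume that the closed subscheme p⁻¹(V(I₁²)) ∩ Ȳ of Z, where Ȳ is the
scheme-theoretic image of f, is contained in p⁻¹(V(I₂)) as a closed subscheme: the inverse image
ideal of I₂ on Z lies in the sum of the inverse image ideal of I₁² and the kernel ideal of f. Then
for every blowing up q : X' → X of X in I₁ + I₂, writing Z' = Z ×_X X' → X' and Y' = Y ×_Z Z' → Z'
for the base changes, the closure in Z' of the image of Y' is disjoint from the preimage in Z' of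
the closure in X' of q⁻¹(V ∖ U). (The blowing up is an isomorphism over V, since the support of I₁ +
I₂ is that of I₂ and lies in X ∖ V; the point is that the closure of q⁻¹(V ∖ U) in X', which may
reach over X ∖ V, still misses the closure of Y'.) -/
theorem result
    {X Y Z X' : Scheme.{u}} (p : Z ⟶ X) (U V : X.Opens) (hUV : U ≤ V)
    (f : Y ⟶ Z) [IsImmersion f] [QuasiCompact f] (hY : Set.range (fun y => p (f y)) ⊆ (U : Set X))
    (𝓘₁ 𝓘₂ : X.IdealSheafData)
    (h₁ : (V : Set X) \ (U : Set X) ⊆ (𝓘₁.support : Set X)) (h₁' : Disjoint (𝓘₁.support : Set X) (U : Set X))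
    (h₂ : (𝓘₂.support : Set X) ⊆ (𝓘₁.support : Set X) \ (V : Set X))
    (hincl : 𝓘₂.comap p ≤ (𝓘₁ * 𝓘₁).comap p ⊔ f.ker)
    (q : X' ⟶ X) (hq : BlowUp.IsBlowUp q (𝓘₁ ⊔ 𝓘₂)) :
    Disjoint (closure (Set.range (fun y => (pullback.snd f (pullback.fst p q)) y)))
      ((fun z => (pullback.snd p q) z) ⁻¹'
        closure ((fun x' => q x') ⁻¹' ((V : Set X) \ (U : Set X)))) := by
  classical
  rw [Set.disjoint_left]
  intro z hz hzx
  set π := pullback.fst p q
  set p' := pullback.snd p q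
  have hcomm : π ≫ p = p' ≫ q := pullback.condition
  obtain ⟨U₀, hU₀, e, hend, he⟩ := hq.1 (p' z)
  set E := (𝓘₁ ⊔ 𝓘₂).comap q with hE
  have hx₀ : p' z ∈ U₀.1 := hU₀
  set ε := X'.presheaf.germ U₀.1 (p' z) hx₀ e with hε
  have hEst : IntMult.stalkIdeal E (p' z) = Ideal.span {ε} := by
    rw [Groth.Agent.IdealSh.stalkIdeal_eq _ U₀ hx₀, he, Ideal.map_span, Set.image_singleton]
  have hcl : ∀ T : X'.Opens, p' z ∈ T → ∃ y ∈ T, q y ∈ V ∧ q y ∉ U := fun T hT => by
    obtain ⟨y, hyT, hyq⟩ := mem_closure_iff.mp hzx T T.2 hT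
    exact ⟨y, hyT, hyq.1, hyq.2⟩
  -- the first ideal is not the whole of `E` at the point
  have hn1 : ε ∉ IntMult.stalkIdeal (𝓘₁.comap q) (p' z) := by
    intro hmem
    obtain ⟨T, hT, hle⟩ := Groth.Agent.BlowSep.exists_nhd_le U₀ hx₀ he hmem
    obtain ⟨y, hyT, hyV, hyU⟩ := hcl T hT
    have h2top : IntMult.stalkIdeal 𝓘₂ (q y) = ⊤ :=
      (Groth.Agent.IdealSh.stalkIdeal_eq_top_iff _ _).mpr fun hm => (h₂ hm).2 hyV
    have hEtop : IntMult.stalkIdeal E y = ⊤ := by
      rw [hE, Groth.Agent.BlowSep.stalkIdeal_comap, Groth.Agent.BlowSep.stalkIdeal_sup, h2top, sup_top_eq,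
        Ideal.map_top]
    have h1top := top_le_iff.mp (hEtop ▸ hle y hyT)
    rw [Groth.Agent.IdealSh.stalkIdeal_eq_top_iff] at h1top
    refine h1top ?_
    rw [Scheme.IdealSheafData.support_comap]
    exact h₁ ⟨hyV, hyU⟩
  -- hence the second one is, and the first is inside `E` times the maximal ideal
  have hsup : IntMult.stalkIdeal (𝓘₁.comap q) (p' z) ⊔ IntMult.stalkIdeal (𝓘₂.comap q) (p' z) = Ideal.span {ε} := by
    rw [← hEst, hE, Groth.Agent.BlowSep.stalkIdeal_comap, Groth.Agent.BlowSep.stalkIdeal_comap,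
      Groth.Agent.BlowSep.stalkIdeal_comap, ← Ideal.map_sup, Groth.Agent.BlowSep.stalkIdeal_sup]
  have h1le : IntMult.stalkIdeal (𝓘₁.comap q) (p' z) ≤ Ideal.span {ε} * IsLocalRing.maximalIdeal _ := by
    intro a ha
    obtain ⟨r, rfl⟩ := Ideal.mem_span_singleton.mp (hsup ▸ Ideal.mem_sup_left ha : a ∈ Ideal.span {ε})
    refine Ideal.mul_mem_mul (Ideal.mem_span_singleton_self ε) ((IsLocalRing.mem_maximalIdeal r).mpr fun hu => hn1 ?_)
    exact (Ideal.mul_unit_mem_iff_mem _ hu).mp ha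
  have h2mem : ε ∈ IntMult.stalkIdeal (𝓘₂.comap q) (p' z) := by
    obtain ⟨a, ha, b, hb, hab⟩ := Submodule.mem_sup.mp (hsup.symm ▸ Ideal.mem_span_singleton_self ε :
      ε ∈ IntMult.stalkIdeal (𝓘₁.comap q) (p' z) ⊔ IntMult.stalkIdeal (𝓘₂.comap q) (p' z))
    obtain ⟨r, hr, rfl⟩ := Ideal.mem_span_singleton_mul.mp (h1le ha)
    refine (Ideal.mul_unit_mem_iff_mem _ (IsLocalRing.isUnit_one_sub_self_of_mem_nonunits r
      ((IsLocalRing.mem_maximalIdeal r).mp hr))).mp (?_ : ε * (1 - r) ∈ _)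
    convert hb using 1
    rw [mul_sub, mul_one, sub_eq_iff_eq_add, add_comm, hab]
  -- upstairs
  set φ := (p'.stalkMap z).hom with hφ
  set K := f.ker.comap π
  have hcomap : ∀ I : X.IdealSheafData, (I.comap p).comap π = (I.comap q).comap p' := fun I => by
    rw [← Scheme.IdealSheafData.comap_comp, hcomm, Scheme.IdealSheafData.comap_comp]
  have hK : φ ε ∈ IntMult.stalkIdeal K z := by
    have h3 : φ ε ∈ IntMult.stalkIdeal ((𝓘₂.comap q).comap p') z := by
      rw [Groth.Agent.BlowSep.stalkIdeal_comap]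
      exact Ideal.mem_map_of_mem _ h2mem
    rw [← hcomap, Groth.Agent.BlowSep.stalkIdeal_comap] at h3
    have h4 := Ideal.map_mono (f := (π.stalkMap z).hom) (Groth.Agent.BlowSep.stalkIdeal_mono hincl (π z)) h3
    rw [Groth.Agent.BlowSep.stalkIdeal_sup, Ideal.map_sup, ← Groth.Agent.BlowSep.stalkIdeal_comap,
      ← Groth.Agent.BlowSep.stalkIdeal_comap, hcomap, Groth.Agent.IdealSh.Comap.comap_mul,
      Groth.Agent.BlowSep.stalkIdeal_comap, Groth.Agent.IdealSh.stalkIdeal_mul] at h4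
    have hle : (IntMult.stalkIdeal (𝓘₁.comap q) (p' z) * IntMult.stalkIdeal (𝓘₁.comap q) (p' z)).map φ ≤
        Ideal.span {φ ε} * IsLocalRing.maximalIdeal _ := by
      refine (Ideal.map_mono (Ideal.mul_le_left.trans h1le)).trans ?_
      rw [Ideal.map_mul, Ideal.map_span, Set.image_singleton]
      exact Ideal.mul_mono le_rfl (Ideal.map_le_iff_le_comap.mpr fun a ha => map_nonunit φ a ha)
    obtain ⟨a, ha, b, hb, hab⟩ := Submodule.mem_sup.mp h4
    obtain ⟨t, ht, rfl⟩ := Ideal.mem_span_singleton_mul.mp (hle ha)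
    refine (Ideal.mul_unit_mem_iff_mem _ (IsLocalRing.isUnit_one_sub_self_of_mem_nonunits t
      ((IsLocalRing.mem_maximalIdeal t).mp ht))).mp (?_ : φ ε * (1 - t) ∈ _)
    convert hb using 1
    rw [mul_sub, mul_one, sub_eq_iff_eq_add, add_comm, hab]
  obtain ⟨W, hzW, hW⟩ := Groth.Agent.IdealSh.Comap.exists_affine_le z (p' ⁻¹ᵁ U₀.1) hx₀
  have heW : (E.comap p').ideal W = Ideal.span {(p'.appLE U₀.1 W.1 hW).hom e} :=
    Groth.Agent.IdealSh.Comap.ideal_comap_span_singleton E p' U₀ W hW he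
  have hgerm : (pullback p q).presheaf.germ W.1 z hzW ((p'.appLE U₀.1 W.1 hW).hom e) ∈ IntMult.stalkIdeal K z := by
    convert hK using 1
    show (pullback p q).presheaf.germ W.1 z hzW ((pullback p q).presheaf.map (homOfLE hW).op (p'.app U₀.1 e)) = _
    rw [(pullback p q).presheaf.germ_res_apply, hε, hφ, Scheme.Hom.germ_stalkMap_apply]
  obtain ⟨T, hzT, hT⟩ := Groth.Agent.BlowSep.exists_nhd_le W hzW heW hgerm
  obtain ⟨_, hwT, y, rfl⟩ := mem_closure_iff.mp hz T T.2 hzT
  have hπw : π (pullback.snd f π y) = f (pullback.fst f π y) := by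
    rw [← Scheme.Hom.comp_apply, ← Scheme.Hom.comp_apply, pullback.condition]
  have hqw : q (p' (pullback.snd f π y)) ∈ (U : Set X) := by
    rw [← Scheme.Hom.comp_apply, ← hcomm, Scheme.Hom.comp_apply, hπw]
    exact hY ⟨_, rfl⟩
  have h1top : IntMult.stalkIdeal 𝓘₁ (q (p' (pullback.snd f π y))) = ⊤ :=
    (Groth.Agent.IdealSh.stalkIdeal_eq_top_iff _ _).mpr fun hm => Set.disjoint_left.mp h₁' hm hqw
  have hEtop : IntMult.stalkIdeal (E.comap p') (pullback.snd f π y) = ⊤ := by
    rw [Groth.Agent.BlowSep.stalkIdeal_comap, hE, Groth.Agent.BlowSep.stalkIdeal_comap,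
      Groth.Agent.BlowSep.stalkIdeal_sup, h1top, top_sup_eq, Ideal.map_top, Ideal.map_top]
  have hKtop := top_le_iff.mp (hEtop ▸ hT _ hwT)
  rw [Groth.Agent.IdealSh.stalkIdeal_eq_top_iff] at hKtop
  refine hKtop ?_
  rw [Scheme.IdealSheafData.support_comap]
  show π (pullback.snd f π y) ∈ (f.ker.support : Set _)
  rw [hπw]
  exact f.range_subset_ker_support ⟨_, rfl⟩

end Groth.Agent.S17391
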