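import Groth.Statements.S17392
import Groth.Agent.BlowSep.Disjoint
-- import your own Groth.Agent.* helpers here

set_option autoImplicit false
universe u
open BlowUp

namespace Groth.Agent.S17392

open AlgebraicGeometry CategoryTheory Limits in
/-- Let X₁ and X₂ be quasi-compact quasi-separated schemes, q : X₂ → X₁ a quasi-compact separated
morphism, V₁ ⊆ X₁ a quasi-compact open subscheme and U ⊆ q⁻¹(V₁) an open subscheme of X₂ on which q
restricts to an open immersion (so U is identified with an open of V₁). Let Z₁ ⊆ X₁ be a closed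
subset whose open complement is quasi-compact, put Y₁ = Z₁ ∩ V₁, and let Z₂ ⊆ X₂ be a closed subset
whose open complement is also quasi-compact, with q⁻¹(Y₁) ⊆ Z₂. Then there is a quasi-coherent ideal
E of finite type on X₁ with support contained in Z₁ ∖ V₁ (so that blowing up E is V₁-admissible)
such that, for every blowing up c : X₁' → X₁ of X₁ in E with base change q' : X₂' = X₂ ×_{X₁} X₁' →
X₁' and c₂ : X₂' → X₂, one has q'⁻¹(closure of c⁻¹(Y₁)) ∩ closure(c₂⁻¹(U)) ⊆ c₂⁻¹(Z₂) as subsets of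
X₂'. -/
theorem result
    {X₁ X₂ : Scheme.{u}} [CompactSpace X₁] [QuasiSeparatedSpace X₁] [CompactSpace X₂] [QuasiSeparatedSpace X₂]
    (q : X₂ ⟶ X₁) [QuasiCompact q] [IsSeparated q]
    (V₁ : X₁.Opens) (hV₁ : IsCompact (V₁ : Set X₁))
    (U : X₂.Opens) (hU : U ≤ q ⁻¹ᵁ V₁) [IsOpenImmersion (U.ι ≫ q)]
    (Z₁ : Set X₁) (hZ₁ : IsClosed Z₁) (hZ₁c : IsCompact Z₁ᶜ)
    (Z₂ : Set X₂) (hZ₂ : IsClosed Z₂) (hZ₂c : IsCompact Z₂ᶜ)
    (hYZ : (fun x => q x) ⁻¹' (Z₁ ∩ (V₁ : Set X₁)) ⊆ Z₂) :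
    ∃ 𝓔 : X₁.IdealSheafData, BlowUp.IsFiniteTypeIdeal 𝓔 ∧ (𝓔.support : Set X₁) ⊆ Z₁ \ (V₁ : Set X₁) ∧
      ∀ (X₁' : Scheme.{u}) (c : X₁' ⟶ X₁), BlowUp.IsBlowUp c 𝓔 →
        (fun z => (pullback.snd q c) z) ⁻¹' closure ((fun x => c x) ⁻¹' (Z₁ ∩ (V₁ : Set X₁))) ∩
            closure ((fun z => (pullback.fst q c) z) ⁻¹' (U : Set X₂)) ⊆
          (fun z => (pullback.fst q c) z) ⁻¹' Z₂ := by
  classical
  let Ω : X₂.Opens := ⟨Z₂ᶜ, hZ₂.isOpen_compl⟩
  let U₀ : X₁.Opens := V₁ ⊓ ⟨Z₁ᶜ, hZ₁.isOpen_compl⟩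
  haveI : CompactSpace (Ω : Scheme.{u}) := isCompact_iff_compactSpace.mp hZ₂c
  obtain ⟨𝓘₁, h1ft, h1s⟩ := Groth.Agent.Props.SubIdeal.exists_ideal (⟨Z₁ᶜ, hZ₁.isOpen_compl⟩ : X₁.Opens) hZ₁c
  obtain ⟨𝓙, h2ft, h2s⟩ := Groth.Agent.Props.SubIdeal.exists_ideal V₁ hV₁
  simp only [TopologicalSpace.Opens.coe_mk, compl_compl] at h1s
  let p : (Ω : Scheme.{u}) ⟶ X₁ := Ω.ι ≫ q
  haveI : QuasiCompact p :=
    QuasiCompact.of_comp p (terminal.from X₁)
  let S : Set (Ω : Scheme.{u}) := Ω.ι ⁻¹' (U : Set X₂)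
  let 𝓚 := Scheme.IdealSheafData.vanishingIdeal (⟨closure S, isClosed_closure⟩ : TopologicalSpace.Closeds (Ω : Scheme.{u}))
  have hSK : S ⊆ (𝓚.support : Set (Ω : Scheme.{u})) := by
    rw [Scheme.IdealSheafData.coe_support_vanishingIdeal]
    exact subset_closure
  set J := (𝓘₁ * 𝓘₁).comap p ⊔ 𝓚
  have hJV : ∀ x ∈ (J.support : Set (Ω : Scheme.{u})), p x ∉ V₁ := fun x hx hxV => by
    have h1 : x ∈ (((𝓘₁ * 𝓘₁).comap p).support : Set (Ω : Scheme.{u})) :=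
      (Scheme.IdealSheafData.support_antitone le_sup_left) hx
    rw [Scheme.IdealSheafData.support_comap] at h1
    have h2 : p x ∈ Z₁ := by
      rw [← h1s]
      simpa using h1
    exact x.2 (hYZ ⟨h2, hxV⟩)
  have hsupp : ((J.map p).support : Set X₁) ⊆ (𝓙.support : Set X₁) := by
    rw [Scheme.IdealSheafData.support_map, h2s]
    exact closure_minimal (by rintro _ ⟨x, hx, rfl⟩; exact hJV x hx) V₁.2.isClosed_compl
  obtain ⟨n, hn⟩ := Groth.Agent.BlowSep.exists_pow_le 𝓙 (J.map p) h2ft hsupp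
  let 𝓘₂ := 𝓙 ^ (n + 1)
  have hincl : 𝓘₂.comap p ≤ J := Scheme.IdealSheafData.le_map_iff_comap_le.mp (fun W => (by
    show (𝓙 ^ (n + 1)).ideal W ≤ (J.map p).ideal W
    refine le_trans ?_ (hn W)
    rw [Scheme.IdealSheafData.ideal_pow, Scheme.IdealSheafData.ideal_pow]
    exact Ideal.pow_le_pow_right n.le_succ))
  have h₂ : (𝓘₂.support : Set X₁) = (V₁ : Set X₁)ᶜ := by
    rw [Scheme.IdealSheafData.support_pow_succ, h2s]
  refine ⟨𝓘₁ ⊔ 𝓘₂, fun W => ?_, fun x hx => ?_, fun X₁' c hc => ?_⟩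
  · rw [Scheme.IdealSheafData.ideal_sup, Pi.sup_apply]
    refine Submodule.FG.sup (h1ft W) ?_
    rw [Scheme.IdealSheafData.ideal_pow]
    exact Ideal.FG.pow (h2ft W)
  · exact ⟨h1s ▸ Scheme.IdealSheafData.support_antitone le_sup_left hx,
      (h₂ ▸ Scheme.IdealSheafData.support_antitone le_sup_right hx : x ∈ (V₁ : Set X₁)ᶜ)⟩
  rintro z₀ ⟨hz1, hz2⟩
  by_contra hz3
  let m : pullback p c ⟶ pullback q c := pullback.lift (pullback.fst p c ≫ Ω.ι) (pullback.snd p c)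
    (by rw [Category.assoc]; exact pullback.condition)
  have hm1 : m ≫ pullback.fst q c = pullback.fst p c ≫ Ω.ι := pullback.lift_fst _ _ _
  have hm2 : m ≫ pullback.snd q c = pullback.snd p c := pullback.lift_snd _ _ _
  have hsq : IsPullback (pullback.fst p c) m Ω.ι (pullback.fst q c) := by
    refine IsPullback.of_bot ?_ hm1.symm (IsPullback.of_hasPullback q c)
    rw [hm2]
    exact IsPullback.of_hasPullback p c
  haveI : IsOpenImmersion m := MorphismProperty.of_isPullback (P := @IsOpenImmersion) hsq inferInstance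
  obtain ⟨w, rfl⟩ : z₀ ∈ Set.range m := by
    rw [← hsq.flip.isoPullback_hom_fst, Scheme.Hom.comp_base, TopCat.coe_comp, Set.range_comp,
      Set.range_eq_univ.mpr hsq.flip.isoPullback.hom.surjective, Set.image_univ, Scheme.Pullback.range_fst]
    exact ⟨⟨_, hz3⟩, rfl⟩
  have hD := Groth.Agent.BlowSep.disjoint_closure p U₀ V₁ S
    (fun z hz => ⟨hU hz, fun hzZ => z.2 (hYZ ⟨hzZ, hU hz⟩)⟩) 𝓚 hSK 𝓘₁ 𝓘₂
    (fun x hx => h1s.ge (by by_contra h; exact hx.2 ⟨hx.1, h⟩))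
    (by rw [h1s]; exact Set.disjoint_left.mpr fun x hx hx' => hx'.2 hx)
    (by rw [h₂]; exact disjoint_compl_left) hincl c hc
  have key := Set.disjoint_left.mp hD
  refine key (a := w) ?_ ?_
  · have h3 : w ∈ m ⁻¹' closure ((fun z => (pullback.fst q c) z) ⁻¹' (U : Set X₂)) := hz2
    rw [m.isOpenEmbedding.isOpenMap.preimage_closure_eq_closure_preimage m.continuous] at h3
    convert h3 using 2
    ext v
    show Ω.ι (pullback.fst p c v) ∈ (U : Set X₂) ↔ pullback.fst q c (m v) ∈ (U : Set X₂)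
    rw [← Scheme.Hom.comp_apply, ← Scheme.Hom.comp_apply, hm1]
  · show pullback.snd p c w ∈ closure _
    rw [← hm2, Scheme.Hom.comp_apply]
    have heq : (V₁ : Set X₁) \ (U₀ : Set X₁) = Z₁ ∩ (V₁ : Set X₁) := by
      ext x
      constructor
      · exact fun hx => ⟨by by_contra h; exact hx.2 ⟨hx.1, h⟩, hx.1⟩
      · exact fun hx => ⟨hx.2, fun h => h.2 hx.1⟩
    rw [heq]
    exact hz1

end Groth.Agent.S17392
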