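import Groth.Statements.S17395
import Groth.Agent.CycCovConn.Conn
import Groth.Agent.S9791
import Groth.Agent.DefoShLib.Conn
import Groth.Agent.ProjTwist.Tensor

set_option autoImplicit false
set_option linter.style.haveILetI false
set_option backward.isDefEq.respectTransparency false
set_option backward.isDefEq.respectTransparency.types false
universe u
open CycCov

namespace Groth.Agent.S17395

open CategoryTheory AlgebraicGeometry in
/-- Let X be an integral scheme smooth over an algebraically closed field k with a universal derivation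
d, D = Σ α_j D_j an effective divisor whose components form a strict normal crossing divisor, L an
invertible module, N ≥ 1 invertible in k and s a section of the N-th tensor power of L with divisor
of zeros D. For 0 ≤ i < N, any tensor inverse M of the module L^{(i)} = L^i ⊗ O_X(−[iD/N]) and any
module of differentials with logarithmic poles along the reduced divisor D^{(i)} (the components D_j
with N not dividing i·α_j), M carries a logarithmic connection along D^{(i)} admitting residues, and
N times its residue along D_j is (i·α_j mod N) times the canonical map from M to M ⊗ O_{D_j}.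
(Integrability of the connection is not asserted here. The published statement assumes X projective;
part (a) is local on X and is stated without properness.) -/
theorem result {k : Type u} [Field k] [IsAlgClosed k] {X : Scheme.{u}}
    (f : X ⟶ Spec (CommRingCat.of k)) [Smooth f] [IsIntegral X]
    {Ω' : X.Modules} (d : OmegaSh.Der f Ω') (hd : OmegaSh.IsUniversal d)
    (L : X.Modules) (hL : PicF.IsInvertible L) (N : ℕ) (hN : 0 < N) (hNk : (N : k) ≠ 0)
    {r : ℕ} (D : Fin r → X.IdealSheafData) (α : Fin r → ℕ) (hD : LogNCD.IsNCD D f)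
    (s : Coh.structureModule X ⟶ CohB1.tensorPow L N) (hs : CycCov.IsZeroDiv (CohB1.tensorPow L N) s (CycCov.divIdeal D α))
    (i : ℕ) (hi : i < N) (M : X.Modules) (hM : ClSub.IsInverseOf (CycCov.intPart L D α N i) M)
    (hDi : LogNCD.IsNCD (CycCov.poleDiv D α N i) f) (Λ : LogNCD.LogMod d (CycCov.poleDiv D α N i)) :
    ∃ nabla : Coh.toAb M ⟶ Coh.toAb (CohB1.tensorMod M Λ.L),
      ConnSh.IsConn (LogNCD.der Λ) M nabla ∧
      ∀ j : Fin r, ∃ ρ : M ⟶ CohB1.tensorMod M (ClSub.quotMod (CycCov.poleDiv D α N i j)),
        LogNCD.IsResidue Λ M nabla j ρ ∧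
        N • ρ = CycCov.resNum α N i j • ((SecTwist.unitorR M).inv ≫ KoszTw.tensorMap (𝟙 M) (ClSub.toSubscheme (CycCov.poleDiv D α N i j))) := by
  classical
  open Groth.Agent.DefoShLib in
  have hnX : Pi1.IsNormalScheme X := Groth.Agent.S9791.isNormalScheme_of_smooth_field f
  have hfree : FlatMod.IsFinLocFree Ω' := Groth.Agent.Omega.LocalStructure.isFinLocFree_of_smooth hd fun {U} hU {V} hV e => by
    letI := (f.appLE U V e).hom.toAlgebra
    have hsm : (f.appLE U V e).hom.Smooth := HasRingHomProperty.appLE @Smooth f inferInstance ⟨U, hU⟩ ⟨V, hV⟩ e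
    haveI : Algebra.Smooth Γ(Spec (CommRingCat.of k), U) Γ(X, V) := hsm
    exact ⟨inferInstance, inferInstance⟩
  have hNu : ∀ U : X.Opens, IsUnit (N : Γ(X, U)) := fun U => by
    have h1 := (isUnit_iff_ne_zero.2 hNk).map
      (((Scheme.ΓSpecIso (CommRingCat.of k)).inv ≫ f.appLE ⊤ U le_top).hom)
    rwa [map_natCast] at h1
  let φ : CohB1.tensorMod M (CycCov.intPart L D α N (⟨i, hi⟩ : Fin N)) ≅ Coh.structureModule X :=
    Groth.Agent.ProjTwist.tensComm M _ ≪≫ hM.some
  refine Groth.Agent.CycCovConn.exists_conn (s := s) (⟨i, hi⟩ : Fin N) φ Λ hd hfree (fun nabla hc j => ?_) hNu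
    (fun O x hx => Groth.Agent.CycCovConn.exists_goodX f hL hnX hD hs hx)
  obtain ⟨ρ, hρ⟩ := Groth.Agent.DefoShLib.exists_L_eq (nabla ≫ Groth.Agent.DefoShLib.L (KoszTw.tensorMap (𝟙 M) (Λ.res j))) fun U t e => by
    open Groth.Agent.DefoShLib Groth.Agent.KoszTwLib in
    rw [secApp_comp, secApp_comp, secApp_L, secApp_L, hc U t e, map_add, Scheme.Modules.Hom.app_smul]
    refine add_eq_left.mpr ?_
    refine (KoszTw.tensorMap_tmul (𝟙 M) (Λ.res j) U e _).trans ?_
    have hz : (Λ.res j).app U (Λ.ι.app U (d.app U t)) = 0 :=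
      congrArg (fun φ : Ω' ⟶ ClSub.quotMod (CycCov.poleDiv D α N i j) => φ.app U (d.app U t)) (Λ.res_ι j)
    exact (congrArg (fun n => (SecTwist.tmul M (ClSub.quotMod (CycCov.poleDiv D α N i j)) U ((𝟙 M : M ⟶ M).app U e) n :
        Γ(CohB1.tensorMod M (ClSub.quotMod (CycCov.poleDiv D α N i j)), U))) hz).trans
      ((congrArg (toT' M _ U) (TensorProduct.tmul_zero _ _)).trans (toT'_zero U))
  exact ⟨ρ, hρ⟩

end Groth.Agent.S17395
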