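import Groth.Statements.S17396
import Groth.Agent.CycCovEt.Main
-- import your own Groth.Agent.* helpers here

set_option autoImplicit false
universe u
open CycCov
set_option backward.isDefEq.respectTransparency false

namespace Groth.Agent.S17396

open CategoryTheory AlgebraicGeometry in
/-- For X integral and smooth over an algebraically closed field k, L an invertible module, N ≥ 1
invertible in k, D_1, …, D_r a strict normal crossing divisor on X with multiplicities α_j, s a
global section of the N-th tensor power of L whose divisor of zeros is D = Σ α_j D_j, and π : Y → X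
with its root datum the normalised cyclic N-th-root cover of X defined by s, the morphism π is étale
over every open W of X disjoint from the components D_j with α_j > 0. (The published claim allows
any effective divisor on a manifold; it is stated here for components forming a strict normal
crossing divisor.) -/
theorem result {k : Type u} [Field k] [IsAlgClosed k] {X Y : Scheme.{u}}
    (f : X ⟶ Spec (CommRingCat.of k)) [Smooth f] [IsIntegral X]
    (L : X.Modules) (hL : PicF.IsInvertible L) (N : ℕ) (hN : 0 < N) (hNk : (N : k) ≠ 0)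
    {r : ℕ} (D : Fin r → X.IdealSheafData) (α : Fin r → ℕ) (hD : LogNCD.IsNCD D f)
    (s : Coh.structureModule X ⟶ CohB1.tensorPow L N) (hs : CycCov.IsZeroDiv (CohB1.tensorPow L N) s (CycCov.divIdeal D α))
    (π : Y ⟶ X) (R : CycCov.Root L N s π) (hR : CycCov.IsCover R)
    (W : X.Opens) (hW : ∀ j : Fin r, 0 < α j → Disjoint (W : Set X) ((D j).support : Set X)) :
    Etale (π ∣_ W) := by
  haveI := hR.1
  refine CycCovEt.etale_restrict_of_app W fun x hx => ?_
  obtain ⟨U₁, e, hxU₁, he⟩ := Props.GenLocus.exists_isGen hL x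
  obtain ⟨_, ⟨U, hU, rfl⟩, hxU, hUW⟩ :=
    X.isBasis_affineOpens.exists_subset_of_mem_open (show x ∈ W ⊓ U₁ from ⟨hx, hxU₁⟩) (W ⊓ U₁).2
  replace hUW : U ≤ W ⊓ U₁ := hUW
  refine ⟨⟨U, hU⟩, hxU, hUW.trans inf_le_left, ?_⟩
  haveI : Nonempty U := ⟨⟨x, hxU⟩⟩
  have he' := he.restrict (hUW.trans inf_le_right)
  have hg := Props.GenTensor.isGen_pw he' N
  obtain ⟨c, hc, -⟩ := hg.exists_eq le_rfl (SecTwist.val s U)
  rw [Groth.Agent.QCoh.res_self, ← CycCovEt.lpow_eq_pw] at hc
  have hI := CycCovEt.divIdeal_eq_top D α ⟨U, hU⟩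
    (fun j hj => (hW j hj).mono_left (hUW.trans inf_le_left))
  have hu : IsUnit c := CycCovEt.isUnit_coord s hs ⟨U, hU⟩ hI
    (CycCovEt.isGen_prelude hg) (by rw [← CycCovEt.lpow_eq_pw]; exact hc)
  let φ : k →+* Γ(X, U) := ((Scheme.ΓSpecIso (CommRingCat.of k)).inv ≫ f.appLE ⊤ U le_top).hom
  haveI : NeZero (N : k) := ⟨hNk⟩
  obtain ⟨ζ, hζ⟩ := HasEnoughRootsOfUnity.exists_primitiveRoot k N
  exact CycCovEt.etale_app hN hR (S9791.isNormalScheme_of_smooth_field f) ⟨U, hU⟩
    (by simpa using (isUnit_iff_ne_zero.2 hNk).map φ) (hζ.map_of_injective φ.injective) _ he' c hu hc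

end Groth.Agent.S17396
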