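import Groth.Statements.S1741
import Groth.Agent.LocCoh.ExtTorMap

set_option autoImplicit false
universe u
open CategoryTheory
attribute [local instance] HasDerivedCategory.standard
open LocCoh

namespace Groth.Agent.S1741

/-- Equivalence of (4) and (7) in the Noetherian case. Let R be a Noetherian ring, α : M → M' a map of
R-modules with M finite, and e ≥ 0. Then precomposition with α kills all classes in Ext^{e+1}(M', N)
(maps M' → N[e+1] in D(R)) for every module N if and only if the map Tor_{e+1}(M, N) → Tor_{e+1}(M',
N) induced by α is zero for every module N. -/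
theorem result (R : Type u) [CommRing R] [IsNoetherianRing R] (M M' : Type u) [AddCommGroup M] [Module R M] [Module.Finite R M] [AddCommGroup M'] [Module R M'] (α : M →ₗ[R] M') (e : ℕ) : (∀ (N : Type u) [AddCommGroup N] [Module R N] (φ : Dual.inD R M' ⟶ (Dual.inD R N)⟦((e : ℤ) + 1)⟧), (DerivedCategory.singleFunctor (ModuleCat.{u} R) 0).map (ModuleCat.ofHom α) ≫ φ = 0) ↔ (∀ (N : Type u) [AddCommGroup N] [Module R N], ((CategoryTheory.Tor (ModuleCat.{u} R) (e + 1)).map (ModuleCat.ofHom α)).app (ModuleCat.of R N) = 0) := by
  refine Iff.trans ?_ ((Groth.Agent.LocCoh.ExtTorMap.ext_iff_tor e (ModuleCat.of R M) (ModuleCat.of R M')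
    (ModuleCat.ofHom α)).trans ?_)
  · constructor
    · intro h N x
      apply Abelian.Ext.ext
      rw [Abelian.Ext.comp_hom, Abelian.Ext.zero_hom, Abelian.Ext.mk₀_hom, ShiftedHom.mk₀_comp]
      exact h N x.hom
    · intro h N _ _ φ
      have := congrArg Abelian.Ext.hom (h (ModuleCat.of R N) (Abelian.Ext.homEquiv.symm φ))
      rw [Abelian.Ext.comp_hom, Abelian.Ext.zero_hom, Abelian.Ext.mk₀_hom, ShiftedHom.mk₀_comp] at this
      rw [show (Abelian.Ext.homEquiv.symm φ).hom = φ from Equiv.apply_symm_apply _ _] at this
      exact this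
  · constructor
    · intro h N _ _
      ext y
      exact h (ModuleCat.of R N) y
    · intro h N y
      exact congrArg (fun w => w.hom y) (h N)

end Groth.Agent.S1741
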