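import Groth.Statements.S17410
import Mathlib

set_option autoImplicit false
universe u
open Prym5

namespace Groth.Agent.S17410

/-- Over a perfect field K of characteristic different from 2 and 3, let h be an irreducible polynomial
of degree 2 in the variable z with coefficients in K[x, y] and A = K[x, y][z]/(h). For every
multiplicative subset S of K[x, y], the localisation S⁻¹A is integral over S⁻¹K[x, y] if and only if
the leading coefficient of h is invertible in S⁻¹K[x, y]; and K(x, y) ⊗ A is a K(x, y)-vector space
of dimension 2. (Geometrically: for a quartic surface with an ordinary double point, written u₂ x₃²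
+ 2 u₃ x₃ + u₄ = 0 with the node at (0:0:0:1), the projection from the node restricted to a standard
affine chart of the plane is given by such an algebra A with leading coefficient the dehomogenised
u₂, so the projection is finite of degree two exactly over the locus u₂ ≠ 0. Stated for any
irreducible h of degree 2, which is all the argument uses.) -/
theorem result (K : Type u) [Field K]
    [PerfectField K] (h2 : (2 : K) ≠ 0) (h3 : (3 : K) ≠ 0)
    (h : Polynomial (MvPolynomial (Fin 2) K)) (hirr : Irreducible h) (hdeg : h.natDegree = 2)
    (S : Submonoid (MvPolynomial (Fin 2) K)) :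
    (Algebra.IsIntegral (Localization S) (Localization (Algebra.algebraMapSubmonoid (AdjoinRoot h) S))
        ↔ IsUnit (algebraMap (MvPolynomial (Fin 2) K) (Localization S) h.leadingCoeff))
      ∧ Module.finrank (FractionRing (MvPolynomial (Fin 2) K))
          (TensorProduct (MvPolynomial (Fin 2) K) (FractionRing (MvPolynomial (Fin 2) K)) (AdjoinRoot h)) = 2 := by
  classical
  set R := MvPolynomial (Fin 2) K
  set B := AdjoinRoot h
  set M := Algebra.algebraMapSubmonoid B S
  have hh : h ≠ 0 := hirr.ne_zero
  constructor
  · constructor
    · intro hint
      obtain ⟨m, g, hg, hg0⟩ := IsIntegral.exists_multiple_integral_of_isLocalization S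
        (algebraMap B (Localization M) (AdjoinRoot.root h)) (Algebra.IsIntegral.isIntegral (R := Localization S) _)
      rw [Submonoid.smul_def, ← Polynomial.aeval_def, Algebra.smul_def, IsScalarTower.algebraMap_apply R B (Localization M),
        ← map_mul, Polynomial.aeval_algebraMap_apply, IsLocalization.map_eq_zero_iff M] at hg0
      obtain ⟨⟨_, t, ht, rfl⟩, hz⟩ := hg0
      change algebraMap R B t * _ = 0 at hz
      have e : algebraMap R B (m : R) * AdjoinRoot.root h = Polynomial.aeval (AdjoinRoot.root h) (Polynomial.C (m : R) * Polynomial.X) := by
        simp; rfl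
      rw [e, ← Polynomial.aeval_comp, ← Polynomial.aeval_C (AdjoinRoot.root h) t, ← map_mul, AdjoinRoot.aeval_eq,
        AdjoinRoot.mk_eq_zero] at hz
      by_cases hS0 : (0 : R) ∈ S
      · haveI : Subsingleton (Localization S) := IsLocalization.subsingleton (M := S) hS0
        exact isUnit_of_subsingleton _
      have hm : (m : R) ≠ 0 := fun e => hS0 (e ▸ m.2)
      have hd : h.leadingCoeff ∣ t * (m : R) ^ g.natDegree := by
        obtain ⟨q, hq⟩ := hz
        refine ⟨q.leadingCoeff, ?_⟩
        have := congrArg Polynomial.leadingCoeff hq
        rw [Polynomial.leadingCoeff_mul, Polynomial.leadingCoeff_mul, Polynomial.leadingCoeff_C,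
          Polynomial.leadingCoeff_comp (by rw [Polynomial.natDegree_C_mul_X _ hm]; exact one_ne_zero)] at this
        simpa [hg.leadingCoeff] using this
      exact isUnit_of_dvd_unit (map_dvd (algebraMap R (Localization S)) hd)
        (IsLocalization.map_units (Localization S) (⟨_, S.mul_mem ht (pow_mem m.2 g.natDegree)⟩ : S))
    · intro hu
      have hroot : IsIntegral (Localization S) (algebraMap B (Localization M) (AdjoinRoot.root h)) := by
        obtain ⟨u, hu⟩ := hu
        refine ⟨Polynomial.C (u⁻¹ : (Localization S)ˣ).1 * h.map (algebraMap R (Localization S)), ?_, ?_⟩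
        · have hl : (h.map (algebraMap R (Localization S))).coeff h.natDegree = u := by
            rw [Polynomial.coeff_map]; exact hu.symm
          rcases subsingleton_or_nontrivial (Localization S) with hs | hn
          · exact Subsingleton.elim _ _
          have hne : algebraMap R (Localization S) h.leadingCoeff ≠ 0 := hu ▸ u.ne_zero
          rw [Polynomial.Monic, Polynomial.leadingCoeff_mul' (by
              rw [Polynomial.leadingCoeff_C, Polynomial.leadingCoeff_map_of_leadingCoeff_ne_zero _ hne, ← hu,
                u.inv_mul]; exact one_ne_zero),
            Polynomial.leadingCoeff_C, Polynomial.leadingCoeff_map_of_leadingCoeff_ne_zero _ hne, ← hu, u.inv_mul]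
        · rw [← Polynomial.aeval_def, map_mul, Polynomial.aeval_map_algebraMap,
            Polynomial.aeval_algebraMap_apply (R := R) (A := B) (B := Localization M),
            AdjoinRoot.aeval_eq, AdjoinRoot.mk_self, map_zero, mul_zero]
      refine ⟨fun x => ?_⟩
      obtain ⟨b, ⟨_, t, ht, rfl⟩, rfl⟩ := IsLocalization.exists_mk'_eq M x
      obtain ⟨p, rfl⟩ := AdjoinRoot.mk_surjective b
      obtain ⟨ut, hut⟩ := IsLocalization.map_units (Localization S) (⟨t, ht⟩ : S)
      have hx : IsLocalization.mk' (Localization M) (AdjoinRoot.mk h p) (⟨algebraMap R B t, ⟨t, ht, rfl⟩⟩ : M) =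
          algebraMap (Localization S) (Localization M) (ut⁻¹ : (Localization S)ˣ).1 *
            Polynomial.aeval (algebraMap B (Localization M) (AdjoinRoot.root h)) p := by
        rw [IsLocalization.mk'_eq_iff_eq_mul, Polynomial.aeval_algebraMap_apply, AdjoinRoot.aeval_eq]
        show _ = _ * algebraMap B (Localization M) (algebraMap R B t)
        rw [← IsScalarTower.algebraMap_apply R B (Localization M),
          IsScalarTower.algebraMap_apply R (Localization S) (Localization M), show algebraMap R (Localization S) t = ut from hut.symm,
          mul_right_comm, ← map_mul, ut.inv_mul, map_one, one_mul]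
      rw [hx]
      refine (isIntegral_algebraMap).mul ?_
      clear hx
      induction p using Polynomial.induction_on' with
      | add p q hp hq => rw [map_add]; exact hp.add hq
      | monomial n a =>
        rw [Polynomial.aeval_monomial, IsScalarTower.algebraMap_apply R (Localization S) (Localization M)]
        exact isIntegral_algebraMap.mul (hroot.pow n)
  · let T := FractionRing R
    let e1 := AdjoinRoot.tensorAlgEquiv (R := R) (T := T) h (h.map Algebra.TensorProduct.includeRight.toRingHom) rfl
    let hT := h.map (algebraMap R T)
    have hT0 : hT ≠ 0 := (Polynomial.map_ne_zero_iff (IsFractionRing.injective R T)).2 hh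
    let e2 : AdjoinRoot (h.map (Algebra.TensorProduct.includeRight (R := R) (A := T)).toRingHom) ≃ₐ[T] AdjoinRoot hT :=
      AdjoinRoot.mapAlgEquiv (Algebra.TensorProduct.rid R T T) _ _ (by
        rw [Polynomial.map_map]
        refine Associated.of_eq ?_
        congr 1
        ext <;> simp [Algebra.smul_def])
    rw [(e1.trans e2).toLinearEquiv.finrank_eq, (AdjoinRoot.powerBasis hT0).finrank, AdjoinRoot.powerBasis_dim,
      Polynomial.natDegree_map_eq_of_injective (IsFractionRing.injective R T), hdeg]

end Groth.Agent.S17410
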