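import Groth.Statements.S17411
import Groth.Agent.VarDim.Scheme

set_option autoImplicit false
universe u
open CategoryTheory AlgebraicGeometry
open Prym5

namespace Groth.Agent.S17411

lemma resCompat (k : Type u) [Field k] {X Y : Scheme.{u}} [X.Over (Spec (CommRingCat.of k))]
    [Y.Over (Spec (CommRingCat.of k))] (f : X ⟶ Y)
    (hf : f ≫ (Y ↘ (Spec (CommRingCat.of k))) = (X ↘ (Spec (CommRingCat.of k)))) (x : X) (c : k) :
    f.residueFieldMap x (Curv2.resMap k Y (f x) c) = Curv2.resMap k X x c := by
  show f.residueFieldMap x (Y.residue (f x) (Y.presheaf.germ ⊤ (f x) trivial (Coh.toGlobal (Y ↘ Spec (CommRingCat.of k)) c))) =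
    X.residue x (X.presheaf.germ ⊤ x trivial (Coh.toGlobal (X ↘ Spec (CommRingCat.of k)) c))
  rw [← CommRingCat.comp_apply, Scheme.residue_residueFieldMap, CommRingCat.comp_apply]
  erw [Scheme.Hom.germ_stalkMap_apply]
  rw [← hf]
  rfl

/-- Let k be an algebraically closed field of characteristic zero and X, Y, Z schemes of finite type
over k, with Y and Z irreducible of the same dimension, η : Y → Z a dominant k-morphism and ρ : X →
Y a k-morphism. Then the composite ρ ≫ η is dominant exactly when ρ is dominant. (The published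
statement concerns the forgetful map from the moduli space of étale double covers of genus-five
curves to the moduli space of genus-five curves, both irreducible of dimension 12, and a morphism
into the former; its argument uses only the hypotheses kept here.) -/
theorem result (k : Type u) [Field k] [IsAlgClosed k]
    [CharZero k] (X Y Z : Scheme.{u}) [X.Over (Spec (CommRingCat.of k))] [Y.Over (Spec (CommRingCat.of k))]
    [Z.Over (Spec (CommRingCat.of k))]
    [LocallyOfFiniteType (X ↘ Spec (CommRingCat.of k))] [QuasiCompact (X ↘ Spec (CommRingCat.of k))]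
    [LocallyOfFiniteType (Y ↘ Spec (CommRingCat.of k))] [QuasiCompact (Y ↘ Spec (CommRingCat.of k))]
    [LocallyOfFiniteType (Z ↘ Spec (CommRingCat.of k))] [QuasiCompact (Z ↘ Spec (CommRingCat.of k))]
    [IrreducibleSpace Y] [IrreducibleSpace Z] (hdim : topologicalKrullDim Y = topologicalKrullDim Z)
    (ρ : X ⟶ Y) [ρ.IsOver (Spec (CommRingCat.of k))] (η : Y ⟶ Z) [η.IsOver (Spec (CommRingCat.of k))]
    [IsDominant η] :
    IsDominant (ρ ≫ η) ↔ IsDominant ρ := by
  refine ⟨fun h => ?_, fun h => inferInstance⟩
  haveI : IsLocallyNoetherian X := LocallyOfFiniteType.isLocallyNoetherian (X ↘ Spec (CommRingCat.of k))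
  haveI : CompactSpace X := QuasiCompact.compactSpace_of_compactSpace (X ↘ Spec (CommRingCat.of k))
  haveI : IsNoetherian X := { }
  have hfin := TopologicalSpace.NoetherianSpace.finite_irreducibleComponents (α := X)
  obtain ⟨x, hx⟩ : ∃ x : X, (ρ ≫ η) x = genericPoint Z := by
    have hirr : IsIrreducible (Set.univ : Set Z) := IrreducibleSpace.isIrreducible_univ _
    rw [isIrreducible_iff_sUnion_isClosed] at hirr
    let F : Set X → Set Z := fun T => closure ((ρ ≫ η) '' T)
    obtain ⟨D, hD, hsub⟩ := hirr (hfin.image F).toFinset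
      (fun D hD => by
        obtain ⟨T, -, rfl⟩ := (Set.Finite.mem_toFinset _).1 hD
        exact isClosed_closure) (by
        rw [Set.Finite.coe_toFinset]
        have hr : Dense (Set.range (ρ ≫ η)) := h.1
        rw [← hr.closure_eq]
        refine closure_minimal ?_ (by
          rw [Set.sUnion_eq_biUnion]
          refine (hfin.image F).isClosed_biUnion ?_
          rintro _ ⟨T, -, rfl⟩
          exact isClosed_closure)
        rintro _ ⟨y, rfl⟩
        exact ⟨_, ⟨irreducibleComponent y, irreducibleComponent_mem_irreducibleComponents y, rfl⟩,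
          subset_closure ⟨y, mem_irreducibleComponent, rfl⟩⟩)
    obtain ⟨T, hT, rfl⟩ := (Set.Finite.mem_toFinset _).1 hD
    have hTi : IsIrreducible T := hT.1
    have hξ := hTi.isGenericPoint_genericPoint_closure
    rw [(isClosed_of_mem_irreducibleComponents T hT).closure_eq] at hξ
    have := (hξ.image (ρ ≫ η).continuous)
    have he : closure ((ρ ≫ η) '' T) = Set.univ := Set.univ_subset_iff.1 hsub
    exact ⟨hTi.genericPoint, (this.eq (he ▸ genericPoint_spec Z))⟩
  have he : Groth.Agent.VarDim.dimPt k Z (η (ρ x)) ≤ Groth.Agent.VarDim.dimPt k Y (ρ x) := by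
    letI := Curv2.resAlgebra k Y (ρ x)
    letI := Curv2.resAlgebra k Z (η (ρ x))
    let g : Z.residueField (η (ρ x)) →ₐ[k] Y.residueField (ρ x) :=
      { (η.residueFieldMap (ρ x)).hom with
        commutes' := fun c => resCompat k η (comp_over η _) (ρ x) c }
    have h1 : Algebra.trdeg k (Z.residueField (η (ρ x))) ≤ Algebra.trdeg k (Y.residueField (ρ x)) :=
      trdeg_le_of_injective g g.toRingHom.injective
    rw [Groth.Agent.VarDim.trdeg_residueField, Groth.Agent.VarDim.trdeg_residueField] at h1
    exact_mod_cast h1
  rw [← Scheme.Hom.comp_apply, hx] at he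
  have hd := hdim
  rw [Groth.Agent.VarDim.topologicalKrullDim_eq_of_irreducible k,
    Groth.Agent.VarDim.topologicalKrullDim_eq_of_irreducible k] at hd
  have hd' : Groth.Agent.VarDim.dimPt k Y (genericPoint Y) =
      Groth.Agent.VarDim.dimPt k Z (genericPoint Z) := by exact_mod_cast hd
  have hρx : ρ x = genericPoint Y := by
    by_contra hne
    have hle : ρ x ≤ genericPoint Y := genericPoint_specializes (ρ x)
    have := Groth.Agent.VarDim.dimPt_lt_of_lt k (show ρ x < genericPoint Y from lt_iff_le_not_ge.2 ⟨hle, fun h' => hne (Specializes.antisymm (h' : ρ x ⤳ genericPoint Y) (genericPoint_specializes _)).eq⟩)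
    omega
  refine ⟨?_⟩
  refine dense_iff_closure_eq.2 (Set.univ_subset_iff.1 ?_)
  rw [← (genericPoint_spec Y).def]
  exact closure_mono (Set.singleton_subset_iff.2 ⟨x, hρx⟩)

end Groth.Agent.S17411
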