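import Groth.Statements.S17413
import Groth.Agent.TanDom.Local
import Groth.Agent.TanSmooth.Scheme
import Groth.Agent.Omega.GenericSmooth
import Groth.Agent.CVar22.RegSmooth
import Groth.Agent.CVar22.GenSmooth
import Groth.Agent.S10961

set_option autoImplicit false
set_option backward.isDefEq.respectTransparency.types false
set_option linter.style.haveILetI false
universe u
open CategoryTheory AlgebraicGeometry
open Prym5

namespace Groth.Agent.S17413

open IsLocalRing TopologicalSpace in
/-- A dominant morphism of noetherian schemes to an integral one sends some generic point of a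
component to the generic point. -/
theorem exists_maximal_over_generic {X Y : Scheme.{u}} [AlgebraicGeometry.IsIntegral Y]
    [NoetherianSpace X] (f : X ⟶ Y) [IsDominant f] :
    ∃ x : X, (∀ x' : X, x' ⤳ x → x' = x) ∧ f x = genericPoint Y := by
  have hfin := NoetherianSpace.finite_irreducibleComponents (α := X)
  let C : Set Y := ⋃ Z ∈ irreducibleComponents X, closure (f '' Z)
  have hC : IsClosed C := hfin.isClosed_biUnion fun Z _ => isClosed_closure
  have hsub : Set.range f ⊆ C := by
    rintro _ ⟨x, rfl⟩
    exact Set.mem_biUnion (irreducibleComponent_mem_irreducibleComponents x)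
      (subset_closure ⟨x, mem_irreducibleComponent, rfl⟩)
  have huniv : C = Set.univ := Set.eq_univ_of_univ_subset (by
    rw [← f.denseRange.closure_range]
    exact closure_minimal hsub hC)
  obtain ⟨Z, hZ, hη⟩ := Set.mem_iUnion₂.1 (huniv ▸ Set.mem_univ (genericPoint Y) : genericPoint Y ∈ C)
  obtain ⟨ζ, hζ⟩ := QuasiSober.sober hZ.1 (isClosed_of_mem_irreducibleComponents Z hZ)
  refine ⟨ζ, fun x' hx' => ?_, ?_⟩
  · have h1 : Z ⊆ closure {x'} := by
      rw [← hζ.def]
      exact specializes_iff_closure_subset.1 hx'
    have h2 := hZ.2 (isIrreducible_singleton.closure) h1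
    refine (specializes_iff_closure_subset.2 ?_).antisymm hx' |>.eq.symm
    rw [hζ.def]
    exact h2
  · have h1 : closure (f '' Z) ⊆ closure {f ζ} := by
      refine closure_minimal ?_ isClosed_closure
      rw [← hζ.def, Set.image_subset_iff]
      exact (closure_minimal (by simp [subset_closure (Set.mem_singleton (f ζ))])
        (isClosed_closure.preimage f.continuous))
    exact ((genericPoint_specializes (f ζ)).antisymm (specializes_iff_mem_closure.2 (h1 hη))).eq.symm

open IsLocalRing TopologicalSpace in
/-- A point of a scheme over a characteristic zero field with field stalk lies in the smooth locus. -/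
theorem mem_smoothLocus_of_isRegular {k : Type u} [Field k] [CharZero k] {Z : Scheme.{u}}
    (q : Z ⟶ Spec (CommRingCat.of k)) [LocallyOfFiniteType q] (z : Z)
    (h : IsRegularLocalRing (Z.presheaf.stalk z)) : z ∈ q.smoothLocus := by
  have : LocallyOfFinitePresentation q := LocallyOfFinitePresentation.iff_locallyOfFiniteType.mpr inferInstance
  haveI : CharZero (Spec (CommRingCat.of k)).functionField :=
    charZero_of_injective_ringHom (RingHom.injective (Groth.Agent.TanSmooth.constStalk (genericPoint _)))
  haveI : PerfectField (Spec (CommRingCat.of k)).functionField := PerfectField.ofCharZero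
  exact Groth.Agent.Omega.GenericSmooth.mem_smoothLocus q z (Subsingleton.elim _ _) h

open IsLocalRing TopologicalSpace in
/-- Constants give a formally smooth algebra at points of the smooth locus. -/
theorem algK_formallySmooth_of_mem {k : Type u} [Field k] {Z : Scheme.{u}}
    (q : Z ⟶ Spec (CommRingCat.of k)) [LocallyOfFinitePresentation q] (z : Z) (hz : z ∈ q.smoothLocus) :
    (Groth.Agent.TanSmooth.algK q z).FormallySmooth := by
  refine RingHom.FormallySmooth.comp ?_ (Scheme.Hom.mem_smoothLocus.1 hz)
  exact RingHom.FormallySmooth.of_bijective (Groth.Agent.TanSmooth.constStalk_bijective (q z))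

theorem isClosed_image {k : Type u} [Field k] {X Y : Scheme.{u}} (qY : Y ⟶ Spec (CommRingCat.of k))
    [LocallyOfFiniteType qY] (f : X ⟶ Y) [LocallyOfFiniteType f] (x : X)
    (hx : IsClosed ({x} : Set X)) : IsClosed ({f x} : Set Y) := by
  have := LocallyOfFiniteType.jacobsonSpace qY
  have := isClosed_singleton_iff_isClosedImmersion.mp hx
  have h := (X.fromSpecResidueField x ≫ f).closePoints_subset_preimage_closedPoints
    (IsLocalRing.isClosed_singleton_closedPoint _)
  simpa [mem_closedPoints_iff] using h

/-- An injective stalk map into an integral scheme forces dominance. -/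
theorem isDominant_of_stalkMap_injective {X Y : Scheme.{u}} [AlgebraicGeometry.IsIntegral Y]
    (f : X ⟶ Y) (P : X) (h : Function.Injective (f.stalkMap P).hom) : IsDominant f := by
  haveI : IsDomain (Y.presheaf.stalk (f P)) := inferInstance
  obtain ⟨q, hq, hqc⟩ := Ideal.exists_comap_eq_of_mem_minimalPrimes_of_injective h
    (⊥ : Ideal (Y.presheaf.stalk (f P))) (by rw [IsDomain.minimalPrimes_eq_singleton_bot]; rfl)
  let q' : (Spec (X.presheaf.stalk P) : Scheme.{u}) := ⟨q, hq⟩
  let x : X := X.fromSpecStalk P q'
  have hfx : f x = genericPoint Y := by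
    have h1 : f x = Y.fromSpecStalk (f P) (Spec.map (f.stalkMap P) q') := by
      rw [← Scheme.Hom.comp_apply, ← Scheme.Hom.comp_apply, Scheme.SpecMap_stalkMap_fromSpecStalk]
    obtain ⟨e, he⟩ : genericPoint Y ∈ Set.range (Y.fromSpecStalk (f P)) := by
      rw [Scheme.range_fromSpecStalk]
      exact genericPoint_specializes _
    have h2 : (Spec.map (f.stalkMap P) q' : Spec (Y.presheaf.stalk (f P))) ⤳ e := by
      refine (PrimeSpectrum.le_iff_specializes _ _).1 ?_
      show (Spec.map (f.stalkMap P) q').asIdeal ≤ e.asIdeal
      exact hqc.le.trans bot_le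
    have h3 := h2.map (Y.fromSpecStalk (f P)).continuous
    rw [he, ← h1] at h3
    exact (h3.antisymm (genericPoint_specializes _)).eq
  refine ⟨dense_iff_closure_eq.2 (Set.eq_univ_of_univ_subset ?_)⟩
  rw [← (genericPoint_spec Y).def]
  exact closure_mono (Set.singleton_subset_iff.2 ⟨x, hfx⟩)

/-- Let k be an algebraically closed field of characteristic zero, X a reduced scheme of finite type
over k, Y an integral scheme of finite type over k and u : X → Y a k-morphism. Then u is dominant if
and only if there is a closed point P of X such that X is regular at P and the differential of u at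
P is surjective onto the tangent space of Y at u(P); surjectivity of the differential is written
dually as injectivity of the map of cotangent spaces m_{u(P)}/m_{u(P)}² → m_P/m_P² induced by the
local homomorphism of u at P. (The published statement asks only that Y be irreducible, puts no
condition on P and concludes that the scheme-theoretic image is all of Y. Without regularity at P
the backward implication fails: the inclusion of the union of the two coordinate axes into the
affine plane induces a bijection of tangent spaces at the origin and is not dominant. Without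
reducedness of Y the forward implication fails: the reduced line inside the doubled line y² = 0 is
dominant but its differential is nowhere surjective. For Y integral and u quasi-compact, dominance
is the same as the scheme-theoretic image being Y.) -/
theorem result (k : Type u) [Field k]
    [IsAlgClosed k] [CharZero k] (X Y : Scheme.{u})
    [X.Over (Spec (CommRingCat.of k))] [Y.Over (Spec (CommRingCat.of k))]
    [LocallyOfFiniteType (X ↘ Spec (CommRingCat.of k))] [QuasiCompact (X ↘ Spec (CommRingCat.of k))]
    [LocallyOfFiniteType (Y ↘ Spec (CommRingCat.of k))] [QuasiCompact (Y ↘ Spec (CommRingCat.of k))]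
    [AlgebraicGeometry.IsReduced X] [AlgebraicGeometry.IsIntegral Y] (u : X ⟶ Y) [u.IsOver (Spec (CommRingCat.of k))] :
    IsDominant u ↔
      ∃ P : X, IsClosed ({P} : Set X) ∧ IsRegularLocalRing (X.presheaf.stalk P) ∧
        ∀ a ∈ IsLocalRing.maximalIdeal (Y.presheaf.stalk (u P)),
          (u.stalkMap P).hom a ∈ IsLocalRing.maximalIdeal (X.presheaf.stalk P) ^ 2 →
            a ∈ IsLocalRing.maximalIdeal (Y.presheaf.stalk (u P)) ^ 2 := by
  classical
  set qX := X ↘ Spec (CommRingCat.of k) with hqX
  set qY := Y ↘ Spec (CommRingCat.of k) with hqY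
  have hu : u ≫ qY = qX := comp_over u (Spec (CommRingCat.of k))
  haveI : IsLocallyNoetherian X := LocallyOfFiniteType.isLocallyNoetherian qX
  haveI : IsLocallyNoetherian Y := LocallyOfFiniteType.isLocallyNoetherian qY
  haveI : LocallyOfFiniteType (u ≫ qY) := hu ▸ inferInstance
  haveI : LocallyOfFiniteType u := locallyOfFiniteType_of_comp u qY
  haveI : LocallyOfFinitePresentation u :=
    LocallyOfFinitePresentation.iff_locallyOfFiniteType.mpr inferInstance
  haveI : CompactSpace X := QuasiCompact.compactSpace_of_compactSpace qX
  haveI : IsNoetherian X := {}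
  constructor
  · intro hdom
    obtain ⟨x, hmax, hx⟩ := exists_maximal_over_generic u
    have hregx : IsRegularLocalRing (X.presheaf.stalk x) := by
      let := (Groth.Agent.S10961.isField_stalk x hmax).toField
      infer_instance
    haveI : CharZero Y.functionField :=
      charZero_of_injective_ringHom (RingHom.injective (Groth.Agent.TanSmooth.algK qY (genericPoint Y)))
    haveI : PerfectField Y.functionField := PerfectField.ofCharZero
    have h1 : x ∈ u.smoothLocus :=
      Groth.Agent.Omega.GenericSmooth.mem_smoothLocus u x hx hregx
    have hregy : IsRegularLocalRing (Y.presheaf.stalk (u x)) := by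
      let := (Groth.Agent.CVar22.isField_stalk_of_eq_genericPoint hx).toField
      infer_instance
    have h2 : u x ∈ qY.smoothLocus := mem_smoothLocus_of_isRegular qY (u x) hregy
    let W : X.Opens := u.smoothLocus ⊓ u ⁻¹ᵁ qY.smoothLocus
    haveI := LocallyOfFiniteType.jacobsonSpace qX
    obtain ⟨P, ⟨hP1, hP2⟩, hP⟩ := nonempty_inter_closedPoints (Z := (W : Set X)) ⟨x, h1, h2⟩
      W.isOpen.isLocallyClosed
    haveI : LocallyOfFinitePresentation qY :=
      LocallyOfFinitePresentation.iff_locallyOfFiniteType.mpr inferInstance
    letI a1 : Algebra k (Y.presheaf.stalk (u P)) := (Groth.Agent.TanSmooth.algK qY (u P)).toAlgebra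
    letI a2 := (u.stalkMap P).hom.toAlgebra
    letI a3 : Algebra k (X.presheaf.stalk P) := (Groth.Agent.TanSmooth.algK (u ≫ qY) P).toAlgebra
    haveI : IsScalarTower k (Y.presheaf.stalk (u P)) (X.presheaf.stalk P) :=
      IsScalarTower.of_algebraMap_eq fun c => by
        show ((u ≫ qY).stalkMap P).hom (Groth.Agent.TanSmooth.constStalk ((u ≫ qY) P) c) =
          (u.stalkMap P).hom ((qY.stalkMap (u P)).hom (Groth.Agent.TanSmooth.constStalk (qY (u P)) c))
        rw [Scheme.Hom.stalkMap_comp]
        rfl
    haveI : IsLocalHom (algebraMap (Y.presheaf.stalk (u P)) (X.presheaf.stalk P)) :=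
      inferInstanceAs (IsLocalHom (u.stalkMap P).hom)
    haveI : Algebra.FormallySmooth k (Y.presheaf.stalk (u P)) :=
      algK_formallySmooth_of_mem qY (u P) hP2
    haveI : Algebra.FormallySmooth (Y.presheaf.stalk (u P)) (X.presheaf.stalk P) :=
      Scheme.Hom.mem_smoothLocus.1 hP1
    haveI : Algebra.FormallySmooth k (X.presheaf.stalk P) :=
      Algebra.FormallySmooth.comp k (Y.presheaf.stalk (u P)) (X.presheaf.stalk P)
    haveI : Algebra.EssFiniteType k (Y.presheaf.stalk (u P)) := Groth.Agent.TanSmooth.algK_essFiniteType qY (u P)
    haveI : Algebra.EssFiniteType k (X.presheaf.stalk P) := Groth.Agent.TanSmooth.algK_essFiniteType (u ≫ qY) P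
    have hR := Groth.Agent.TanSmooth.algK_residue_surjective qY (u P) (isClosed_image qY u P hP)
    have hS := Groth.Agent.TanSmooth.algK_residue_surjective (u ≫ qY) P hP
    exact ⟨P, hP, Groth.Agent.CVar22.isRegularLocalRing_of_formallySmooth k (X.presheaf.stalk P),
      Groth.Agent.TanSmooth.injective_of_formallySmooth k (Y.presheaf.stalk (u P)) (X.presheaf.stalk P) hR hS⟩
  · rintro ⟨P, hP, hreg, h⟩
    have hQ := isClosed_image qY u P hP
    haveI : IsDomain (Y.presheaf.stalk (u P)) := inferInstance
    have hinj := Groth.Agent.TanDom.injective_of_cotangent_injective (u.stalkMap P).hom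
      (by
        intro c
        obtain ⟨s, hs⟩ := Groth.Agent.TanSmooth.algK_residue_surjective (u ≫ qY) P hP c
        refine ⟨Groth.Agent.TanSmooth.algK qY (u P) s, ?_⟩
        rw [← hs]
        simp only [RingHom.comp_apply, Groth.Agent.TanSmooth.algK, Scheme.Hom.stalkMap_comp]
        rfl) h
    exact isDominant_of_stalkMap_injective u P hinj

end Groth.Agent.S17413
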