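import Groth.Statements.S17420
import Groth.Agent.CohOps.FPThick

set_option autoImplicit false
open CategoryTheory CategoryTheory.Limits AlgebraicGeometry
universe u
open CohB1

namespace Groth.Agent.S17420

/-- Let `X = X' ×_{T'} T` be a cartesian square of schemes in which `T ⟶ T'` is a first order
thickening, and let `F'` be a sheaf of `O_{X'}`-modules flat over `T'`. Then `F'` is of finite
presentation if and only if its pull-back to `X` is of finite presentation (finitely presented
modules being quasi-coherent, these are the four equivalent conditions of the source). (The source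
states this for algebraic spaces; this row is the case of schemes.) -/
theorem result {X X' T T' : Scheme.{u}}
    (i : X ⟶ X') (q : X ⟶ T) (q' : X' ⟶ T') (t : T ⟶ T') (hsq : IsPullback i q q' t)
    (ht : MoreMor.IsFirstOrderThickening t) (F' : X'.Modules) (hF' : FlatMod.IsFlatOver q' F') :
    CohB1.IsFP F' ↔ CohB1.IsFP ((Scheme.Modules.pullback i).obj F') := by
  refine ⟨fun h => ?_, Groth.Agent.CohOps.FPThick.isFP_of_isFP_pullback hsq ht F' hF'⟩
  have : SheafOfModules.IsFinitePresentation (R := X'.ringCatSheaf) F' := h
  have : Coh.IsQCoh F' := inferInstanceAs (SheafOfModules.IsQuasicoherent (R := X'.ringCatSheaf) F')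
  exact (Groth.Agent.ConsPairLib.isFP_pullback i F' h).2

end Groth.Agent.S17420
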