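import Groth.Statements.S17421
import Groth.Agent.S9029
import Groth.Agent.StFib.OpenLocus
import Groth.Agent.ModSt71.Fib

set_option autoImplicit false
set_option backward.isDefEq.respectTransparency false
set_option backward.isDefEq.respectTransparency.types false
set_option linter.style.haveILetI false
open CategoryTheory CategoryTheory.Limits AlgebraicGeometry
universe u
open ModSt

namespace Groth.Agent.S17421

section Lemmas

open CategoryTheory CategoryTheory.Limits AlgebraicGeometry

theorem isFreeOfRankNear_iff {X : Scheme.{u}} (M : X.Modules) [M.IsQuasicoherent] (hM : CohB1.IsFP M)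
    (x : X) (n : ℕ) :
    FlatFun.IsFreeOfRankNear M n x ↔
      Module.Free (X.presheaf.stalk x) (M.presheaf.stalk x) ∧ Groth.Agent.Props.QRank.fibreRank M x = n := by
  refine ⟨fun ⟨V, hx, ⟨φ⟩⟩ => Groth.Agent.S9029.rank_of_restrict_iso φ hx, fun ⟨h, hn⟩ => ?_⟩
  subst hn
  haveI := h
  exact Groth.Agent.S9029.isFreeOfRankNear_of_free M hM x

variable {X S : Scheme.{u}} {f : X ⟶ S}

/-- Over an object the locus where the module is invertible on the fibre is open. -/
theorem exists_open (hf : IsProper f) {A : ModSt.Obj f} (hA : ModSt.IsCohObj A) :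
    ∃ V : A.base.left.Opens, ∀ (A' : ModSt.Obj f) (φ : A' ⟶ A), ModSt.IsCohObj A' →
      (FlatMod.IsFinLocFreeOfRank 1 A'.E ↔ Set.range φ.base.left ⊆ (V : Set A.base.left)) := by
  haveI : IsProper A.q := MorphismProperty.of_isPullback A.isPullback hf
  have hfp : CohB1.IsFP A.E := hA.2
  haveI : SheafOfModules.IsFinitePresentation.{u} A.E := hfp
  haveI : A.E.IsQuasicoherent := by
    obtain ⟨σ, -⟩ := SheafOfModules.IsFinitePresentation.exists_quasicoherentData.{u} A.E
    exact { nonempty_quasicoherentData := ⟨σ⟩ }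
  let W : Set A.XT := {x | FlatFun.IsFreeOfRankNear A.E 1 x}
  have hW : IsOpen W := isOpen_iff_forall_mem_open.2 fun x ⟨U, hx, e⟩ =>
    ⟨(U : Set A.XT), fun y hy => ⟨U, hy, e⟩, U.2, hx⟩
  refine ⟨⟨(A.q '' Wᶜ)ᶜ, (A.q.isClosedMap _ hW.isClosed_compl).isOpen_compl⟩, fun A' φ hA' => ?_⟩
  obtain ⟨e⟩ := Groth.Agent.ModSt71.nonempty_pullback_iso φ
  have hfp' : CohB1.IsFP A'.E := hA'.2
  haveI : SheafOfModules.IsFinitePresentation.{u} A'.E := hfp'
  haveI : A'.E.IsQuasicoherent := by
    obtain ⟨σ, -⟩ := SheafOfModules.IsFinitePresentation.exists_quasicoherentData.{u} A'.E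
    exact { nonempty_quasicoherentData := ⟨σ⟩ }
  refine ⟨fun hQ => ?_, fun hr x' => ?_⟩
  · rintro _ ⟨t, rfl⟩ ⟨x, hx, hxt⟩
    obtain ⟨x', h1, -⟩ := Scheme.exists_preimage_of_isPullback φ.isPullback_top x t hxt
    subst h1
    refine hx ((isFreeOfRankNear_iff A.E hfp _ 1).2 ?_)
    obtain ⟨hfree, hrk⟩ := (isFreeOfRankNear_iff A'.E hfp' x' 1).1 (hQ x')
    haveI := hfree
    haveI := Groth.Agent.S9029.free_stalk_of_iso e.symm x'
    haveI := Groth.Agent.S9769.finitePresentation_stalk A.E (φ.top x')
    refine ⟨Groth.Agent.FreeAlong.free_stalk_of_isPullback φ.isPullback_top A.E x' (hA.1 _) inferInstance, ?_⟩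
    rw [← Groth.Agent.RankLocus.fibreRank_pullback φ.top A.E x', Groth.Agent.S9029.fibreRank_of_iso e x']
    exact hrk
  · have hx : φ.top x' ∈ W := by
      by_contra hn
      refine hr ⟨A'.q x', rfl⟩ ⟨φ.top x', hn, ?_⟩
      rw [← Scheme.Hom.comp_apply, φ.w_q, Scheme.Hom.comp_apply]
    obtain ⟨hfree, hrk⟩ := (isFreeOfRankNear_iff A.E hfp _ 1).1 hx
    haveI := hfree
    haveI := Groth.Agent.S9029.free_stalk_pullback φ.top A.E x'
    refine (isFreeOfRankNear_iff A'.E hfp' x' 1).2 ⟨Groth.Agent.S9029.free_stalk_of_iso e x', ?_⟩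
    rw [← Groth.Agent.S9029.fibreRank_of_iso e x', Groth.Agent.RankLocus.fibreRank_pullback φ.top A.E x']
    exact hrk

end Lemmas


/-- Let `f : X ⟶ S` be a flat proper morphism of schemes, locally of finite presentation. The inclusion,
into the stack of finitely presented flat modules on the base changes of `X`, of its full
subcategory on the objects whose module is finite locally free of rank `1` is representable by
algebraic spaces and an open immersion. (The source states this for algebraic spaces `X → B` over a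
base scheme, with the Picard stack of invertible modules as the source of the functor and modules
with proper support in the target; this row is the case of schemes with `S = B`: as `f` is flat and
proper, an invertible module on a base change `X_T`, i.e. one finite locally free of rank `1`, is
finitely presented, flat over `T` and of proper support, so the Picard stack is rendered as this
full subcategory.) -/
theorem result {X S : Scheme.{u}} (f : X ⟶ S)
    [Flat f] [IsProper f] [LocallyOfFinitePresentation f] :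
    AlgSt.IsOpenImm (AlgSt.subIncl (ModSt.Coh f) fun A => FlatMod.IsFinLocFreeOfRank 1 A.obj.E) := by
  refine Groth.Agent.StFib.isOpenImm_subIncl_of_openLoci (𝒳 := ModSt.Coh f)
    (fun A => FlatMod.IsFinLocFreeOfRank 1 A.obj.E) (fun {x y} φ hx => ?_) fun U y => ?_
  · obtain ⟨V, hV⟩ := exists_open ‹IsProper f› x.property
    refine (hV _ φ.hom y.property).2 ?_
    rintro _ ⟨t, rfl⟩
    exact (hV _ (𝟙 x.obj) x.property).1 hx ⟨φ.hom.base.left t, rfl⟩
  · let g₁ : (FibCat.overCat U).obj := Over.mk (𝟙 U)
    obtain ⟨V, hV⟩ := exists_open ‹IsProper f› (y.obj g₁).property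
    have h₁ : (y.obj g₁).obj.base = U := Functor.congr_obj y.w g₁
    refine ⟨(eqToHom h₁.symm).left ⁻¹ᵁ V, fun g => ?_⟩
    let k : g ⟶ g₁ := Over.homMk g.hom (Category.comp_id _)
    have hg : (y.obj g).obj.base = g.left := Functor.congr_obj y.w g
    have hk : (y.map k).hom.base = eqToHom hg ≫ g.hom ≫ eqToHom h₁.symm := Functor.congr_hom y.w k
    refine (hV _ (y.map k).hom (y.obj g).property).trans ?_
    rw [hk, Over.comp_left, Over.comp_left]
    constructor
    · rintro h _ ⟨t, rfl⟩
      obtain ⟨t, rfl⟩ := (eqToHom hg).left.surjective t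
      exact h ⟨t, rfl⟩
    · rintro h _ ⟨t, rfl⟩
      exact h ⟨_, rfl⟩

end Groth.Agent.S17421
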