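import Groth.Statements.S17426
import Groth.Agent.RelGenStage.Basic
import Groth.Agent.LimLib.Basic

set_option autoImplicit false
universe u
open CategoryTheory AlgebraicGeometry
open Lim

namespace Groth.Agent.S17426

open Groth.Agent.QCoh in
/-- Transport of a generating section along an isomorphism of modules and an equality of opens. -/
theorem exists_locus_transfer {X : Scheme.{u}} {M N : X.Modules} (e : M ≅ N) {A B : X.Opens} (hAB : A = B)
    {x : X} (h : ∃ τ : Γ(M, A), x ∈ AmpleLib.locus τ) : ∃ τ : Γ(N, B), x ∈ AmpleLib.locus τ := by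
  subst hAB
  obtain ⟨τ, hτ⟩ := h
  exact ⟨e.hom.app A τ, by rwa [AmpleLib.locus_app_iso]⟩


/-- Let S = lim S_i be a cofiltered limit of schemes with affine transition morphisms, with S_{i₀} a
quasi-compact quasi-separated stage; let X₀ and Y₀ be schemes of finite presentation over S_{i₀}, f₀
: X₀ → Y₀ an S_{i₀}-morphism and L₀ an invertible O_{X₀}-module. Let f : X → Y be the base change of
f₀ along S → S_{i₀} and L the pullback of L₀ to X (base changes are expressed by pullback squares).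
Call an invertible module generated relative to a morphism when the counit of the
pullback–pushforward adjunction, f^*f_*L → L, is an epimorphism. If L is generated relative to f,
then there is an index j over i₀ such that for every index k over j and every base change f_k : X_k
→ Y_k of f₀ along S_k → S_{i₀}, the pullback L_k of L₀ to X_k is generated relative to f_k. (Stated
for X₀, Y₀ of finite presentation over the quasi-compact quasi-separated stage, the setting in which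
all the schemes involved are quasi-compact and quasi-separated; the semi-ample variant of the
source, some positive tensor power generated, is not restated.) -/
theorem result {I : Type u} [SmallCategory I] [IsCofiltered I]
    (D : I ⥤ Scheme.{u}) (c : Limits.Cone D) (hc : Limits.IsLimit c)
    [∀ (i j : I) (u : i ⟶ j), IsAffineHom (D.map u)] (i₀ : I) [CompactSpace (D.obj i₀)] [QuasiSeparatedSpace (D.obj i₀)]
    {X₀ Y₀ : Scheme.{u}} (f₀ : X₀ ⟶ Y₀) (g₀ : Y₀ ⟶ D.obj i₀)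
    [LocallyOfFinitePresentation g₀] [QuasiCompact g₀] [QuasiSeparated g₀]
    [LocallyOfFinitePresentation (f₀ ≫ g₀)] [QuasiCompact (f₀ ≫ g₀)] [QuasiSeparated (f₀ ≫ g₀)]
    (L₀ : X₀.Modules) (hL₀ : PicF.IsInvertible L₀)
    {X Y : Scheme.{u}} (f : X ⟶ Y) (g : Y ⟶ c.pt) (qY : Y ⟶ Y₀) (qX : X ⟶ X₀)
    (hY : IsPullback qY g g₀ (c.π.app i₀)) (hX : IsPullback qX f f₀ qY)
    (hgen : Epi ((Scheme.Modules.pullbackPushforwardAdjunction f).counit.app ((Scheme.Modules.pullback qX).obj L₀))) :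
    ∃ (j : I) (φ : j ⟶ i₀), ∀ (k : I) (ψ : k ⟶ j) (Xk Yk : Scheme.{u}) (fk : Xk ⟶ Yk) (gk : Yk ⟶ D.obj k)
      (pY : Yk ⟶ Y₀) (pX : Xk ⟶ X₀), IsPullback pY gk g₀ (D.map (ψ ≫ φ)) → IsPullback pX fk f₀ pY →
        Epi ((Scheme.Modules.pullbackPushforwardAdjunction fk).counit.app ((Scheme.Modules.pullback pX).obj L₀)) := by
  classical
  haveI : IsAffineHom (c.π.app i₀) := isAffineHom_π_app D c hc i₀
  haveI : CompactSpace Y₀ := QuasiCompact.compactSpace_of_compactSpace g₀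
  haveI : QuasiSeparatedSpace Y₀ := quasiSeparatedSpace_of_quasiSeparated g₀
  haveI : CompactSpace X₀ := QuasiCompact.compactSpace_of_compactSpace (f₀ ≫ g₀)
  haveI : QuasiSeparatedSpace X₀ := quasiSeparatedSpace_of_quasiSeparated (f₀ ≫ g₀)
  haveI : QuasiCompact f₀ := QuasiCompact.of_comp f₀ g₀
  haveI : QuasiSeparated f₀ := QuasiSeparated.of_comp f₀ g₀
  haveI : QuasiCompact f := MorphismProperty.of_isPullback hX ‹QuasiCompact f₀›
  haveI : QuasiSeparated f := MorphismProperty.of_isPullback hX ‹QuasiSeparated f₀›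
  haveI : IsAffineHom qY := MorphismProperty.of_isPullback hY.flip ‹IsAffineHom (c.π.app i₀)›
  let D' := LimLib.bcDiag D i₀ (f₀ ≫ g₀)
  let c' := LimLib.bcCone (hX.paste_vert hY)
  have hc' : Limits.IsLimit c' := LimLib.isLimitBcCone hc (hX.paste_vert hY)
  let j₀ : Over i₀ := Over.mk (𝟙 i₀)
  let p₀ : D'.obj j₀ ⟶ X₀ := Limits.pullback.fst (f₀ ≫ g₀) (D.map j₀.hom)
  haveI : CompactSpace (D'.obj j₀) := QuasiCompact.compactSpace_of_compactSpace p₀
  haveI : QuasiSeparatedSpace (D'.obj j₀) := quasiSeparatedSpace_of_quasiSeparated p₀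
  haveI : ∀ (j k : Over i₀) (a : j ⟶ k), IsAffineHom (D'.map a) :=
    fun j k a => LimLib.isAffineHom_bcDiag_map D i₀ (f₀ ≫ g₀) j k a
  haveI : IsAffineHom p₀ := LimLib.isAffineHom_fst_bc D i₀ (f₀ ≫ g₀) j₀
  let G := (Scheme.Modules.pullback p₀).obj L₀
  have hG : PicF.IsInvertible G := PicCl.isInvertible_pullback _ hL₀
  have hπ : c'.π.app j₀ ≫ p₀ = qX := Limits.pullback.lift_fst _ _ _
  let eG : (Scheme.Modules.pullback qX).obj L₀ ≅ (Scheme.Modules.pullback (c'.π.app j₀)).obj G :=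
    ((Scheme.Modules.pullbackComp (c'.π.app j₀) p₀ ≪≫ Scheme.Modules.pullbackCongr hπ).app L₀).symm
  have hstage : ∀ V : Y₀.affineOpens, ∃ (j : Over i₀) (φ : j ⟶ j₀), ∀ (Z : Scheme.{u}) (r : Z ⟶ D'.obj j)
      (z : Z), (r ≫ D'.map φ) z ∈ (p₀ ≫ f₀) ⁻¹ᵁ V.1 →
      ∃ τ : Γ((Scheme.Modules.pullback (r ≫ D'.map φ)).obj G, (r ≫ D'.map φ) ⁻¹ᵁ ((p₀ ≫ f₀) ⁻¹ᵁ V.1)),
        z ∈ AmpleLib.locus τ := by
    intro V
    have hW : IsCompact (((p₀ ≫ f₀) ⁻¹ᵁ V.1 : (D'.obj j₀).Opens) : Set (D'.obj j₀)) :=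
      (p₀ ≫ f₀).isCompact_preimage V.2.isCompact
    refine RelGenStage.exists_stage_sections hc' hG hW fun x hx => ?_
    have hopen : f ⁻¹ᵁ (qY ⁻¹ᵁ V.1) = c'.π.app j₀ ⁻¹ᵁ ((p₀ ≫ f₀) ⁻¹ᵁ V.1) := by
      show (f ≫ qY) ⁻¹ᵁ V.1 = (c'.π.app j₀ ≫ p₀ ≫ f₀) ⁻¹ᵁ V.1
      rw [← Category.assoc (c'.π.app j₀) p₀ f₀, hπ]
      exact congrArg (fun m : X ⟶ Y₀ => m ⁻¹ᵁ V.1) hX.w.symm
    refine exists_locus_transfer eG hopen ?_
    exact RelGenStage.exists_locus_of_epi_counit f (PicCl.isInvertible_pullback _ hL₀) hgen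
      (V.2.preimage qY) (hopen.ge hx)
  choose j φ hj using hstage
  obtain ⟨S, hS⟩ := (isCompact_univ (X := Y₀)).elim_finite_subcover
    (fun V : Y₀.affineOpens => (V.1 : Set Y₀)) (fun V => V.1.2) fun y _ => by
      obtain ⟨V, hV, hyV, -⟩ := exists_isAffineOpen_mem_and_subset (x := y) (U := ⊤) trivial
      exact Set.mem_iUnion.2 ⟨⟨V, hV⟩, hyV⟩
  obtain ⟨K, hK⟩ := IsCofiltered.inf_objs_exists (S.image j)
  refine ⟨K.left, K.hom, fun k ψ Xk Yk fk gk pY pX h1 h2 => RelGenStage.epi_counit_of_locus fk fun x => ?_⟩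
  obtain ⟨V, hVS, hxV⟩ := Set.mem_iUnion₂.1 (hS (Set.mem_univ (pY (fk x))))
  obtain ⟨b⟩ := hK (Finset.mem_image_of_mem j hVS)
  have hr : pX ≫ (f₀ ≫ g₀) = ((fk ≫ gk) ≫ D.map ψ) ≫ D.map K.hom := by
    rw [← Category.assoc, h2.w, Category.assoc, h1.w, D.map_comp]
    simp only [Category.assoc]
  let r : Xk ⟶ D'.obj K := Limits.pullback.lift pX ((fk ≫ gk) ≫ D.map ψ) hr
  let R : Xk ⟶ D'.obj j₀ := (r ≫ D'.map b) ≫ D'.map (φ V)
  have hRp : R ≫ p₀ = pX := by
    show ((r ≫ D'.map b) ≫ D'.map (φ V)) ≫ p₀ = pX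
    have h : ∀ {A B : Over i₀} (a : A ⟶ B), D'.map a ≫ Limits.pullback.fst (f₀ ≫ g₀) (D.map B.hom) =
        Limits.pullback.fst (f₀ ≫ g₀) (D.map A.hom) := fun a => Limits.pullback.lift_fst _ _ _
    rw [Category.assoc, Category.assoc, h, h]
    exact Limits.pullback.lift_fst _ _ _
  have hopen : R ⁻¹ᵁ ((p₀ ≫ f₀) ⁻¹ᵁ V.1) = fk ⁻¹ᵁ (pY ⁻¹ᵁ V.1) := by
    show (R ≫ p₀ ≫ f₀) ⁻¹ᵁ V.1 = (fk ≫ pY) ⁻¹ᵁ V.1
    rw [← Category.assoc R p₀ f₀, hRp, h2.w]
  refine ⟨pY ⁻¹ᵁ V.1, hxV, exists_locus_transfer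
    ((Scheme.Modules.pullbackComp R p₀ ≪≫ Scheme.Modules.pullbackCongr hRp).app L₀) hopen ?_⟩
  exact hj V Xk (r ≫ D'.map b) x (hopen.ge hxV)

end Groth.Agent.S17426
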