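import Groth.Statements.S17428
import Groth.Agent.FrobW.RelFrob
import Mathlib.RingTheory.AdicCompletion.AsTensorProduct
import Mathlib.RingTheory.Finiteness.Ideal

set_option autoImplicit false
universe u
open FrobAlg

namespace Groth.Agent.S17428

section

variable (p : ℕ) [Fact p.Prime] (A : Type u) [CommRing A] [CharP A p] (I : Ideal A)

theorem mem_smul_top_iff {n : ℕ} {x : FrobAlg.Twist p A} :
    x ∈ I ^ n • (⊤ : Submodule A (FrobAlg.Twist p A)) ↔ x ∈ (I ^ n).map (algebraMap A (FrobAlg.Twist p A)) := by
  rw [Ideal.smul_top_eq_map]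
  rfl

theorem symm_mem_of_mem_smul {n : ℕ} {x : FrobAlg.Twist p A}
    (hx : x ∈ I ^ n • (⊤ : Submodule A (FrobAlg.Twist p A))) : (FrobAlg.toTwist p A).symm x ∈ I ^ n := by
  have h : (I ^ n).map (algebraMap A (FrobAlg.Twist p A)) ≤
      (I ^ n).comap ((FrobAlg.toTwist p A).symm : FrobAlg.Twist p A →+* A) := by
    rw [Ideal.map_le_iff_le_comap]
    intro a ha
    rw [Ideal.mem_comap, Ideal.mem_comap, RingEquiv.coe_toRingHom, FrobAlg.algebraMap_twist, RingEquiv.symm_apply_apply]
    exact (I ^ n).pow_mem_of_mem ha _ (Fact.out : p.Prime).pos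
  exact h ((mem_smul_top_iff p A I).1 hx)

variable [IsNoetherianRing A]

theorem exists_bound (n : ℕ) :
    ∃ N, n ≤ N ∧ ∀ a ∈ I ^ N, FrobAlg.toTwist p A a ∈ I ^ n • (⊤ : Submodule A (FrobAlg.Twist p A)) := by
  let K : Ideal A := ((I ^ n).map (algebraMap A (FrobAlg.Twist p A))).comap (FrobAlg.toTwist p A).toRingHom
  have hK : I ^ n ≤ K.radical := fun a ha => ⟨p, by
    change FrobAlg.toTwist p A (a ^ p) ∈ (I ^ n).map (algebraMap A (FrobAlg.Twist p A))
    rw [← FrobAlg.algebraMap_twist]
    exact Ideal.mem_map_of_mem _ ha⟩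
  obtain ⟨N, hN⟩ := Ideal.exists_pow_le_of_le_radical_of_fg hK (IsNoetherian.noetherian _)
  refine ⟨max n (n * N), le_max_left _ _, fun a ha => (mem_smul_top_iff p A I).2 (hN ?_)⟩
  rw [← pow_mul]
  exact Ideal.pow_le_pow_right (le_max_right _ _) ha

omit [IsNoetherianRing A] in
/-- The map on completions induced by the identity of underlying rings. -/
noncomputable def untwist : AdicCompletion I (FrobAlg.Twist p A) →+ AdicCompletion I A where
  toFun x := ⟨fun n => QuotientAddGroup.map (I ^ n • (⊤ : Submodule A (FrobAlg.Twist p A))).toAddSubgroup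
      (I ^ n • (⊤ : Submodule A A)).toAddSubgroup ((FrobAlg.toTwist p A).symm.toAddEquiv.toAddMonoidHom)
      (fun y hy => by
        change (FrobAlg.toTwist p A).symm y ∈ I ^ n • (⊤ : Submodule A A)
        rw [smul_eq_mul, Ideal.mul_top]
        exact symm_mem_of_mem_smul p A I hy) (x.val n), fun {m n} hmn => by
      refine Eq.trans ?_ (congrArg _ (x.2 hmn))
      obtain ⟨y, hy⟩ := Submodule.Quotient.mk_surjective _ (x.val n)
      beta_reduce
      rw [← hy]
      rfl⟩
  map_zero' := AdicCompletion.ext fun n => map_zero _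
  map_add' x y := AdicCompletion.ext fun n => map_add _ _ _

omit [IsNoetherianRing A] in
theorem untwist_mk (x : AdicCompletion I (FrobAlg.Twist p A)) (n : ℕ) (y : FrobAlg.Twist p A)
    (h : x.val n = Submodule.Quotient.mk y) :
    (untwist p A I x).val n = Submodule.Quotient.mk ((FrobAlg.toTwist p A).symm y) := by
  change QuotientAddGroup.map _ _ _ _ (x.val n) = _
  rw [h]
  rfl

theorem bijective_untwist : Function.Bijective (untwist p A I) := by
  choose N hnN hN using exists_bound p A I
  constructor
  · refine (injective_iff_map_eq_zero _).2 fun x hx => AdicCompletion.ext fun n => ?_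
    obtain ⟨y, hy⟩ := Submodule.Quotient.mk_surjective _ (x.val (N n))
    have h := congrArg (fun z => z.val (N n)) hx
    simp only [AdicCompletion.val_zero_apply] at h
    rw [untwist_mk p A I x (N n) y hy.symm, Submodule.Quotient.mk_eq_zero, smul_eq_mul, Ideal.mul_top] at h
    have h' := hN n _ h
    rw [RingEquiv.apply_symm_apply] at h'
    rw [← x.2 (hnN n), ← hy, AdicCompletion.val_zero_apply]
    exact (Submodule.Quotient.mk_eq_zero _).2 h'
  · intro d
    choose a ha using fun n => Submodule.Quotient.mk_surjective (I ^ n • (⊤ : Submodule A A)) (d.val n)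
    have hcomp : ∀ i j, i ≤ j → a j - a i ∈ I ^ i := fun i j hij => by
      have h : (Submodule.Quotient.mk (a j) : A ⧸ I ^ i • (⊤ : Submodule A A)) = Submodule.Quotient.mk (a i) := by
        rw [ha i, ← d.2 hij, ← ha j]
        rfl
      rw [Submodule.Quotient.eq, smul_eq_mul, Ideal.mul_top] at h
      exact h
    refine ⟨⟨fun n => Submodule.Quotient.mk (FrobAlg.toTwist p A (a (N n))), fun {m n} hmn => ?_⟩, AdicCompletion.ext fun n => ?_⟩
    · change (Submodule.Quotient.mk (FrobAlg.toTwist p A (a (N n))) : FrobAlg.Twist p A ⧸ I ^ m • (⊤ : Submodule A (FrobAlg.Twist p A))) = _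
      rw [Submodule.Quotient.eq]
      have hle : I ^ n • (⊤ : Submodule A (FrobAlg.Twist p A)) ≤ I ^ m • ⊤ :=
        Submodule.smul_mono_left (Ideal.pow_le_pow_right hmn)
      have e1 := hle (hN n _ (hcomp (N n) (max (N m) (N n)) (le_max_right _ _)))
      have e2 := hN m _ (hcomp (N m) (max (N m) (N n)) (le_max_left _ _))
      convert sub_mem e2 e1 using 1
      rw [map_sub, map_sub]; abel
    · refine (untwist_mk p A I _ n _ rfl).trans ?_
      rw [RingEquiv.symm_apply_apply, ← ha n, Submodule.Quotient.eq, smul_eq_mul, Ideal.mul_top]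
      exact hcomp n (N n) (hnN n)

end

/-- Let p be a prime, A a regular local ring of characteristic p whose absolute Frobenius a ↦ a^p is a
finite ring homomorphism, I an ideal of A and Â the I-adic completion of A. Then Spec Â → Spec A is
relatively perfect: the relative Frobenius Â ⊗_{A,Frob} A → Â, b ⊗ a ↦ b^p a, is bijective. (Â is
also flat over A since A is Noetherian, so the morphism is flat and relatively perfect. The instance
hypothesis that Â has characteristic p holds as soon as I ≠ A.) -/
theorem result (p : ℕ) [Fact p.Prime]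
    (A : Type u) [CommRing A] [IsRegularLocalRing A] [CharP A p] (hF : (frobenius A p).Finite)
    (I : Ideal A) [CharP (AdicCompletion I A) p] :
    Function.Bijective (FrobAlg.relFrob p A (AdicCompletion I A)) := by
  haveI : Module.Finite A (FrobAlg.Twist p A) :=
    RingHom.finite_algebraMap.1 ((RingHom.Finite.of_surjective _ (FrobAlg.toTwist p A).surjective).comp hF)
  have key : ∀ x, FrobAlg.relFrob p A (AdicCompletion I A) x =
      untwist p A I (AdicCompletion.ofTensorProduct I (FrobAlg.Twist p A) x) := fun x => by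
    induction x using TensorProduct.induction_on with
    | zero => simp
    | tmul b c =>
      obtain ⟨a, rfl⟩ := (FrobAlg.toTwist p A).surjective c
      rw [Groth.Agent.FrobW.RelFrob.relFrob_tmul, AdicCompletion.ofTensorProduct_tmul]
      refine AdicCompletion.ext fun n => ?_
      obtain ⟨r, hr⟩ := Submodule.Quotient.mk_surjective _ (b.val n)
      have h1 : (b • AdicCompletion.of I (FrobAlg.Twist p A) (FrobAlg.toTwist p A a)).val n =
          Submodule.Quotient.mk (r • FrobAlg.toTwist p A a) := by
        rw [AdicCompletion.smul_eval, ← hr]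
        rfl
      have h2 : (FrobAlg.toTwist p A).symm (r • FrobAlg.toTwist p A a) = r ^ p * a := by
        rw [Algebra.smul_def, map_mul, FrobAlg.algebraMap_twist, RingEquiv.symm_apply_apply, RingEquiv.symm_apply_apply]
      rw [untwist_mk p A I _ n _ h1, h2]
      refine ((AdicCompletion.val_mul I n (b ^ p) (algebraMap A _ a)).trans ?_)
      have hbp : (b ^ p).val n = b.val n ^ p := rfl
      refine (congrArg₂ (· * ·) (hbp.trans (congrArg (· ^ p) hr.symm)) rfl).trans ?_
      rfl
    | add x y hx hy => rw [map_add, map_add, map_add, hx, hy]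
  rw [show (FrobAlg.relFrob p A (AdicCompletion I A) : _ → _) = _ from funext key]
  exact (bijective_untwist p A I).comp (AdicCompletion.ofTensorProduct_bijective_of_finite_of_isNoetherian I _)

end Groth.Agent.S17428
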