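import Groth.Statements.S17429
import Groth.Agent.KaehlerFlat.Basic
import Groth.Agent.SmoothingLib.PopescuField
import Groth.Agent.S2672
import Groth.Agent.RegLoc.Homological
import Groth.Agent.LocCoh.DepthVanishing
import Groth.Agent.LocCoh.Acyclic

set_option autoImplicit false
universe u
open LocCoh

namespace Groth.Agent.S17429

open CategoryTheory in
theorem subsingleton_H_of_isWeaklyRegular {R : Type u} [CommRing R] (I : Ideal R) : ∀ (rs : List R),
    (∀ x ∈ rs, x ∈ I) → ∀ (M : ModuleCat.{u} R), RingTheory.Sequence.IsWeaklyRegular M rs →
      ∀ i < rs.length, Subsingleton ((localCohomology I i).obj M) := by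
  intro rs
  induction rs with
  | nil => exact fun _ M _ i hi => absurd hi (Nat.not_lt_zero i)
  | cons x rs ih =>
    intro hmem M hM i hi
    rw [RingTheory.Sequence.isWeaklyRegular_cons_iff] at hM
    obtain ⟨hx, hrs⟩ := hM
    have hxI := hmem x List.mem_cons_self
    have hS := IsSMulRegular.smulShortComplex_shortExact (M := M) hx
    rcases i with _ | i
    · refine subsingleton_of_forall_eq 0 fun y => ?_
      refine Groth.Agent.LocCoh.eq_zero_of_isPowerTorsion_of_isSMulRegular
        (Groth.Agent.LocCoh.isPowerTorsion_H (i := 0) _) hxI (fun z hz => ?_) y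
      exact (injective_iff_map_eq_zero _).mp (Groth.Agent.LocCoh.injective_map_zero (I := I) hS) z
        ((Groth.Agent.LocCoh.map_smul_id x M z).trans hz)
    · exact Groth.Agent.LocCoh.subsingleton_H_succ_of_isSMulRegular I hxI hx i
        (ih (fun a ha => hmem a (List.mem_cons_of_mem x ha)) _ hrs i (Nat.lt_of_succ_lt_succ hi))

theorem flat_kaehler_int_aux (k : Type u) [Field k] [Finite k] (A : Type u) [CommRing A] [IsRegularLocalRing A]
    [Algebra k A] (hint : ∀ c : k, ∃ z : ℤ, algebraMap k A c = (z : A)) :
    Module.Flat A (KaehlerDifferential ℤ A) := by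
  haveI : IsRegularRing A := isRegularRing_iff.mpr fun q _ => RegLoc.Homological.isRegularLocalRing_localization q
  have hgeo : CAlg.IsGeometricallyRegular k A := by
    refine (S2672.result k A).1.mpr fun L _ _ hfin hpi => ?_
    haveI := hfin
    haveI := hpi
    haveI : Algebra.IsAlgebraic k L := Algebra.IsAlgebraic.of_finite k L
    haveI : Algebra.IsSeparable k L := Algebra.IsAlgebraic.isSeparable_of_perfectField
    let e : k ≃ₐ[k] L := AlgEquiv.ofBijective (Algebra.ofId k L)
      ⟨(algebraMap k L).injective, IsPurelyInseparable.surjective_algebraMap_of_isSeparable k L⟩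
    exact IsRegularRing.of_ringEquiv
      ((Algebra.TensorProduct.lid k A).symm.trans (Algebra.TensorProduct.congr e AlgEquiv.refl)).toRingEquiv
  haveI := KaehlerFlat.flat_kaehler_of_indSmooth (SmoothingLib.PopescuField.indSmooth_field_base hgeo)
  let d : Derivation k A (KaehlerDifferential ℤ A) :=
    Derivation.mk'
      { toFun := KaehlerDifferential.D ℤ A
        map_add' := map_add _
        map_smul' := fun c a => by
          obtain ⟨z, hz⟩ := hint c
          rw [RingHom.id_apply, Algebra.smul_def, hz, Derivation.leibniz, Derivation.map_intCast, smul_zero,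
            add_zero, ← hz, algebraMap_smul] }
      fun a b => (KaehlerDifferential.D ℤ A).leibniz a b
  let d' : Derivation ℤ A (KaehlerDifferential k A) :=
    Derivation.mk' (KaehlerDifferential.D k A).toLinearMap.toAddMonoidHom.toIntLinearMap
      fun a b => (KaehlerDifferential.D k A).leibniz a b
  refine Module.Flat.of_linearEquiv
    (LinearEquiv.ofLinear d'.liftKaehlerDifferential d.liftKaehlerDifferential ?_ ?_)
  · refine Derivation.liftKaehlerDifferential_unique _ _ (Derivation.ext fun a => ?_)
    show d'.liftKaehlerDifferential (d.liftKaehlerDifferential (KaehlerDifferential.D k A a)) =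
      KaehlerDifferential.D k A a
    rw [Derivation.liftKaehlerDifferential_comp_D]
    exact Derivation.liftKaehlerDifferential_comp_D d' a
  · refine Derivation.liftKaehlerDifferential_unique _ _ (Derivation.ext fun a => ?_)
    show d.liftKaehlerDifferential (d'.liftKaehlerDifferential (KaehlerDifferential.D ℤ A a)) =
      KaehlerDifferential.D ℤ A a
    rw [Derivation.liftKaehlerDifferential_comp_D]
    exact Derivation.liftKaehlerDifferential_comp_D d a

theorem flat_kaehler_int (p : ℕ) [Fact p.Prime] (A : Type u) [CommRing A] [IsRegularLocalRing A] [CharP A p] :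
    Module.Flat A (KaehlerDifferential ℤ A) := by
  letI : Algebra (ZMod p) A := ZMod.algebra A p
  letI : Algebra (ULift.{u} (ZMod p)) A := ((algebraMap (ZMod p) A).comp ULift.ringEquiv.toRingHom).toAlgebra
  haveI : Finite (ULift.{u} (ZMod p)) := Finite.of_equiv (ZMod p) Equiv.ulift.symm
  refine flat_kaehler_int_aux (ULift.{u} (ZMod p)) A fun c => ?_
  obtain ⟨z, hz⟩ := ZMod.intCast_surjective c.down
  exact ⟨z, by
    show algebraMap (ZMod p) A c.down = _
    rw [← hz, map_intCast]⟩

/-- Let p be a prime, A a regular local ring of characteristic p, t_1, …, t_r an A-regular sequence such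
that A/(t_1, …, t_r) is again a regular local ring (a regular closed immersion Z ↪ X = Spec A of
codimension r with Z regular and non-empty), and I = (t_1, …, t_r). Then for every i and every j ≠ r
the local cohomology module H^j_I(Ω^i_A) vanishes, where Ω^i_A is the i-th exterior power over A of
the module of Kähler differentials of A over ℤ (the same module as over the prime field). (Module
form, for X local, of the vanishing of the local cohomology sheaves H^j_Z(X, Ω^i_X), j ≠ r; the same
vanishing holds more generally for the de Rham–Witt sheaves W_mΩ^i_X and their quotients by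
dV^{m-1}Ω^{i-1}_X on the étale site of a regular F_p-scheme, a form not stated here.) -/
theorem result (p : ℕ) [Fact p.Prime]
    (A : Type u) [CommRing A] [IsRegularLocalRing A] [CharP A p]
    (ts : List A) (hreg : RingTheory.Sequence.IsRegular A ts)
    (hZ : IsRegularLocalRing (A ⧸ Ideal.ofList ts))
    (i j : ℕ) (hj : j ≠ ts.length) :
    Subsingleton (LocCoh.H (Ideal.ofList ts) j
      ↥(ExteriorAlgebra.exteriorPower A i (KaehlerDifferential ℤ A))) := by
  haveI := flat_kaehler_int p A
  haveI := KaehlerFlat.flat_exteriorPower (R := A) (M := KaehlerDifferential ℤ A) i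
  rcases lt_or_gt_of_ne hj with h | h
  · refine subsingleton_H_of_isWeaklyRegular _ ts (fun x hx => Ideal.subset_span hx) (ModuleCat.of A _) ?_ j h
    exact ((TensorProduct.rid A _).isWeaklyRegular_congr ts).1 hreg.toIsWeaklyRegular.isWeaklyRegular_lTensor
  · classical
    have e : Ideal.ofList ts = Ideal.span (ts.toFinset : Set A) := by
      rw [List.coe_toFinset]
    rw [e]
    exact Groth.Agent.LocCoh.cdLE_span_finset ts.toFinset _ j (lt_of_le_of_lt ts.toFinset_card_le h)

end Groth.Agent.S17429
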