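import Groth.Statements.S17430
import Groth.Agent.AdjVar85.Highest

set_option autoImplicit false
universe u v w
open LieAlgebra LieModule
open AdjVar

namespace Groth.Agent.S17430

/-- Let L be a finite-dimensional simple Lie algebra over an algebraically closed field K of
characteristic zero, H a Cartan subalgebra and b a basis of (L, H) in Mathlib's sense (Chevalley
generators h_i, e_i, f_i indexed by a finite type, with simple roots α_i = b.baseSupp i and upper
Borel subalgebra 𝔟 = H + the Lie subalgebra generated by the e_i). Let ρ be the highest root: a root
of H on L whose root space is nonzero and such that no ρ + α_i is a root (the root space of ρ + α_i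
is zero for every i). Assume that exactly one simple root α_j is not orthogonal to ρ (ρ(h_i) ≠ 0 if
and only if i = j) and that ρ(h_j) = 1; for simple L these two conditions say precisely that L is
not of type A_r or C_r (r ≥ 1), the case excluded in the source. Then a two-dimensional linear
subspace W of L is stable under 𝔟 (bracketing with any element of 𝔟 maps W into W) if and only if W
is the sum of the root spaces of ρ and of ρ − α_j. Equivalently, the projective line spanned by the
root vectors of ρ and ρ − α_j is the only line of P(L) stable under the Borel subgroup (over the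
complex numbers, stability under the connected group B is the same as stability under its Lie
algebra 𝔟, which is the form stated here). -/
theorem result {ι : Type u} {K : Type v} {L : Type w} [Fintype ι] [Field K] [CharZero K]
    [IsAlgClosed K] [LieRing L] [LieAlgebra K L] [FiniteDimensional K L] [LieAlgebra.IsSimple K L]
    (H : LieSubalgebra K L) [H.IsCartanSubalgebra] (b : LieAlgebra.Basis ι H)
    (ρ : Module.Dual K H) (hρ : rootSpace H ρ ≠ ⊥) (htop : ∀ i, rootSpace H (ρ + b.baseSupp i) = ⊥)
    (j : ι) (hN : ∀ i, ρ (b.h' i) ≠ 0 ↔ i = j) (hj : ρ (b.h' j) = 1)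
    (W : Submodule K L) :
    (Module.finrank K W = 2 ∧
        ∀ x ∈ H.toSubmodule ⊔ (b.borelUpper : Submodule K L), ∀ w ∈ W, ⁅x, w⁆ ∈ W) ↔
      W = (rootSpace H ρ : Submodule K L) ⊔ (rootSpace H (ρ - b.baseSupp j) : Submodule K L) := by
  obtain ⟨T, rfl, rfl⟩ := AdjVar85.exists_setup ρ hρ htop j hN hj
  rw [T.rootSpace_rho, T.rootSpace_u, ← Submodule.span_insert]
  have h2 : Module.finrank K (Submodule.span K {T.v, T.u}) = 2 := by
    have := finrank_span_eq_card T.linearIndependent_vu
    rwa [Fintype.card_fin, Matrix.range_cons_cons_empty] at this
  constructor
  · rintro ⟨hW, hst⟩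
    have hne : W ≠ ⊥ := by rintro rfl; rw [finrank_bot] at hW; omega
    have hnv : ¬ W ≤ Submodule.span K {T.v} := fun h => by
      have := Submodule.finrank_mono h
      rw [finrank_span_singleton T.hv0, hW] at this; omega
    refine (Submodule.eq_of_le_of_finrank_le ?_ (by rw [hW, h2])).symm
    exact Submodule.span_le.2 (Set.insert_subset (T.v_mem hst hne) (Set.singleton_subset_iff.2 (T.u_mem hst hnv)))
  · rintro rfl
    exact ⟨h2, T.line_stable⟩

end Groth.Agent.S17430
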