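import Groth.Statements.S17432
import Groth.Agent.AdjVar85.Plane

set_option autoImplicit false
universe u v w
open LieAlgebra LieModule
open AdjVar

namespace Groth.Agent.S17432

theorem eq_zero_or {K : Type*} {M : Type*} [Field K] [AddCommGroup M] [Module K M]
    (q : QuadraticForm K M) (e : M → M) (he0 : ∀ (w : M) (t : K), e (w + t • e w) = e w + t • e (e w))
    (he : ∀ w, e (e w) = 0) (c : K) (hc : ∀ w, QuadraticMap.polar q (e w) w = c * q w) :
    c = 0 ∨ ∀ w, q w = 0 := by
  refine or_iff_not_imp_left.2 fun hc0 w => ?_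
  have hsq : ∀ w, q (e w) = 0 := by
    intro w
    have h := hc (e w)
    rw [he, show QuadraticMap.polar q 0 (e w) = 0 by simp [QuadraticMap.polar]] at h
    exact (mul_eq_zero.1 h.symm).resolve_left hc0
  have h1 := hc (w + (1 : K) • e w)
  rw [he0, he, smul_zero, add_zero, one_smul, QuadraticMap.polar_add_right, QuadraticMap.map_add q, hc w,
    QuadraticMap.polar_self, hsq, smul_zero, QuadraticMap.polar_comm q w (e w), hc w, add_zero, add_zero] at h1
  have : c * (c * q w) = 0 := by linear_combination -h1
  simpa [hc0] using this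

/-- Let L be a finite-dimensional simple Lie algebra over an algebraically closed field K of
characteristic zero, H a Cartan subalgebra and b a basis of (L, H) in Mathlib's sense (Chevalley
generators h_i, e_i, f_i indexed by a finite type, with simple roots α_i = b.baseSupp i and upper
Borel subalgebra 𝔟 = H + the Lie subalgebra generated by the e_i). Let ρ be the highest root: a root
of H on L whose root space is nonzero and such that no ρ + α_i is a root (the root space of ρ + α_i
is zero for every i). Assume that exactly one simple root α_j is not orthogonal to ρ (ρ(h_i) ≠ 0 if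
and only if i = j) and that ρ(h_j) = 1; for simple L these two conditions say precisely that L is
not of type A_r or C_r (r ≥ 1), the case excluded in the source. Let W be a three-dimensional linear
subspace of L stable under 𝔟 and q a quadratic form on W which is semi-invariant under 𝔟: for every
x in 𝔟 there is a scalar c with polar_q([x, w], w) = c q(w) for all w in W (this is the
infinitesimal condition for the line spanned by q, equivalently the conic q = 0 of the plane P(W),
to be stable under the Borel subgroup). Then q is a scalar multiple of the square of a linear form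
on W. In the source's words: P(L) contains no Borel-stable conic which is smooth or reducible (a
pair of distinct lines); only double lines occur. (Over the complex numbers a conic of rank at least
two is Borel-stable exactly when its plane is 𝔟-stable and its equation is 𝔟-semi-invariant, which
is the form stated here.) -/
theorem result {ι : Type u} {K : Type v} {L : Type w} [Fintype ι] [Field K] [CharZero K]
    [IsAlgClosed K] [LieRing L] [LieAlgebra K L] [FiniteDimensional K L] [LieAlgebra.IsSimple K L]
    (H : LieSubalgebra K L) [H.IsCartanSubalgebra] (b : LieAlgebra.Basis ι H)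
    (ρ : Module.Dual K H) (hρ : rootSpace H ρ ≠ ⊥) (htop : ∀ i, rootSpace H (ρ + b.baseSupp i) = ⊥)
    (j : ι) (hN : ∀ i, ρ (b.h' i) ≠ 0 ↔ i = j) (hj : ρ (b.h' j) = 1)
    (W : Submodule K L) (hW : Module.finrank K W = 3)
    (hst : ∀ x ∈ H.toSubmodule ⊔ (b.borelUpper : Submodule K L), ∀ w ∈ W, ⁅x, w⁆ ∈ W)
    (q : QuadraticForm K W)
    (hq : ∀ (x : L) (hx : x ∈ H.toSubmodule ⊔ (b.borelUpper : Submodule K L)), ∃ c : K, ∀ w : W,
      QuadraticMap.polar q ⟨⁅x, (w : L)⁆, hst x hx w w.property⟩ w = c * q w) :
    ∃ (ℓ : Module.Dual K W) (c : K), ∀ w : W, q w = c * ℓ w ^ 2 := by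
  classical
  obtain ⟨T, rfl, rfl⟩ := AdjVar85.exists_setup ρ hρ htop j hN hj
  obtain ⟨k, hk, hne, hWeq⟩ := T.plane hW hst
  set x := ⁅b.f k, T.u⁆ with hxdef
  have hvW : T.v ∈ W := hWeq ▸ Submodule.mem_sup_left (Submodule.mem_sup_left (Submodule.mem_span_singleton_self _))
  have huW : T.u ∈ W := hWeq ▸ Submodule.mem_sup_left (Submodule.mem_sup_right (Submodule.mem_span_singleton_self _))
  have hxW : x ∈ W := hWeq ▸ Submodule.mem_sup_right (Submodule.mem_span_singleton_self _)
  let V : W := ⟨T.v, hvW⟩
  let U : W := ⟨T.u, huW⟩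
  let X : W := ⟨x, hxW⟩
  have hspan : ⊤ ≤ Submodule.span K (Set.range ![V, U, X]) := by
    intro w _
    have hw : (w : L) ∈ Submodule.span K {T.v} ⊔ Submodule.span K {T.u} ⊔ Submodule.span K {x} := hWeq ▸ w.2
    obtain ⟨p, hp, r, hr, hpr⟩ := Submodule.mem_sup.1 hw
    obtain ⟨s, hs, t, ht, hst'⟩ := Submodule.mem_sup.1 hp
    obtain ⟨a, rfl⟩ := Submodule.mem_span_singleton.1 hs
    obtain ⟨a', rfl⟩ := Submodule.mem_span_singleton.1 ht
    obtain ⟨a'', rfl⟩ := Submodule.mem_span_singleton.1 hr
    have : w = a • V + a' • U + a'' • X := Subtype.ext (by rw [← hpr, ← hst']; rfl)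
    rw [this]
    refine add_mem (add_mem ?_ ?_) ?_ <;> refine Submodule.smul_mem _ _ (Submodule.subset_span ?_)
    · exact ⟨0, rfl⟩
    · exact ⟨1, rfl⟩
    · exact ⟨2, rfl⟩
  let B := basisOfTopLeSpanOfCardEqFinrank ![V, U, X] hspan (by rw [Fintype.card_fin, hW])
  have hB : ∀ i, B i = ![V, U, X] i := fun i => by simp [B]
  by_cases hq0 : ∀ w, q w = 0
  · exact ⟨0, 0, fun w => by simp [hq0]⟩
  have hmem : ∀ i, b.e i ∈ H.toSubmodule ⊔ (b.borelUpper : Submodule K L) := fun i =>
    Submodule.mem_sup_right (LieSubalgebra.subset_lieSpan (Set.mem_range_self i))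
  let E : ι → (W →ₗ[K] W) := fun i =>
    { toFun := fun w => ⟨⁅b.e i, (w : L)⁆, hst _ (hmem i) w w.2⟩
      map_add' := fun w w' => Subtype.ext (lie_add _ _ _)
      map_smul' := fun c w => Subtype.ext (lie_smul _ _ _) }
  have hEV : ∀ i, E i V = 0 := fun i => Subtype.ext (T.he i)
  have ha : (-(b.A T.j k : K)) ≠ 0 := neg_ne_zero.2 (Int.cast_ne_zero.2 (T.A_ne_zero hk hne).1)
  have hjU : E T.j U = V := Subtype.ext T.e_u
  have hkU : E k U = 0 := Subtype.ext (T.e_u_ne hk)
  have hjX : E T.j X = 0 := Subtype.ext (T.e_word_two hk).1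
  have hkX : E k X = (-(b.A T.j k : K)) • U := Subtype.ext (T.e_word_two hk).2.1
  have hnil : ∀ i, i = T.j ∨ i = k → ∀ w, E i (E i w) = 0 := by
    intro i hi
    refine LinearMap.congr_fun (B.ext (f₁ := (E i).comp (E i)) (f₂ := 0) fun l => ?_)
    rw [hB]
    rcases hi with rfl | rfl <;> fin_cases l <;> simp [hEV, hjU, hkU, hjX, hkX]
  have hinv : ∀ i, i = T.j ∨ i = k → ∀ w, QuadraticMap.polar q (E i w) w = 0 := by
    intro i hi w
    obtain ⟨c, hc⟩ := hq (b.e i) (hmem i)
    have hc' : ∀ w, QuadraticMap.polar q (E i w) w = c * q w := hc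
    rcases eq_zero_or q (E i) (fun w t => by simp) (hnil i hi) c hc' with rfl | h
    · rw [hc' w, zero_mul]
    · exact absurd h hq0
  have e1 := hinv T.j (Or.inl rfl) U
  rw [hjU] at e1
  have e2 := hinv T.j (Or.inl rfl) (U + V)
  rw [map_add, hjU, hEV, add_zero, QuadraticMap.polar_add_right, e1, zero_add, QuadraticMap.polar_self] at e2
  have qV : q V = 0 := by simpa using e2
  have e3 := hinv T.j (Or.inl rfl) (U + X)
  rw [map_add, hjU, hjX, add_zero, QuadraticMap.polar_add_right, e1, zero_add] at e3
  have e4 := hinv k (Or.inr rfl) X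
  rw [hkX, QuadraticMap.polar_smul_left, smul_eq_mul] at e4
  have e4' : QuadraticMap.polar q U X = 0 := (mul_eq_zero.1 e4).resolve_left ha
  have e5 := hinv k (Or.inr rfl) (X + U)
  rw [map_add, hkX, hkU, add_zero, QuadraticMap.polar_smul_left, smul_eq_mul, QuadraticMap.polar_add_right,
    e4', zero_add, QuadraticMap.polar_self] at e5
  have qU : q U = 0 := by simpa [(T.A_ne_zero hk hne).1] using e5
  refine ⟨B.coord 2, q X, fun w => ?_⟩
  have hw := B.sum_repr w
  rw [Fin.sum_univ_three, hB, hB, hB] at hw
  simp only [Matrix.cons_val_zero, Matrix.cons_val_one, Matrix.cons_val] at hw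
  conv_lhs => rw [← hw]
  simp only [QuadraticMap.map_add q, QuadraticMap.map_smul, QuadraticMap.polar_add_left,
    QuadraticMap.polar_smul_left, QuadraticMap.polar_smul_right, qV, qU, e1, e3, e4', smul_eq_mul,
    Module.Basis.coord_apply]
  ring

end Groth.Agent.S17432
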