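import Groth.Statements.S17433
import Groth.Agent.AdjVar85.Highest

set_option autoImplicit false
universe u v w
open LieAlgebra LieModule
open AdjVar

namespace Groth.Agent.S17433

open LieModule LieAlgebra Groth.Agent.AdjVar85

namespace Aux

variable {ι : Type u} {K : Type v} {L : Type w} [Fintype ι] [Field K] [CharZero K]
  [IsAlgClosed K] [LieRing L] [LieAlgebra K L] [FiniteDimensional K L] [LieAlgebra.IsSimple K L]
  {H : LieSubalgebra K L} [H.IsCartanSubalgebra] {b : LieAlgebra.Basis ι H}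

theorem root_span {μ : Module.Dual K H} {x : L} (hx : Wt H μ x) (hx0 : x ≠ 0) (hμ : μ ≠ 0) :
    (rootSpace H μ : Submodule K L) = Submodule.span K {x} := by
  have hne : rootSpace H μ ≠ ⊥ := fun h => hx0 ((LieSubmodule.eq_bot_iff _).1 h x (mem_of_wt hx))
  let χ : Weight K H L := ⟨⇑μ, hne⟩
  have hχ : χ.IsNonZero := fun h => hμ (LinearMap.coe_injective (show (⇑μ : H → K) = _ from h))
  have h1 := LieAlgebra.IsKilling.finrank_rootSpace_eq_one χ hχ
  refine (Submodule.eq_of_le_of_finrank_le ((Submodule.span_singleton_le_iff_mem _ _).2 (mem_of_wt hx)) ?_).symm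
  rw [finrank_span_singleton hx0]
  exact h1.le

theorem wt_neg_ne {μ : Module.Dual K H} {x : L} (hx : Wt H (-μ) x) (hx0 : x ≠ 0) : rootSpace H μ ≠ ⊥ := by
  have hne : rootSpace H (-μ : Module.Dual K H) ≠ ⊥ := fun h => hx0 ((LieSubmodule.eq_bot_iff _).1 h x (mem_of_wt hx))
  let χ : Weight K H L := ⟨⇑(-μ), hne⟩
  have h2 := (-χ).genWeightSpace_ne_bot
  rw [LieModule.Weight.coe_neg] at h2
  rwa [show (-⇑χ : H → K) = ⇑μ from neg_neg (⇑μ : H → K)] at h2

/-- An `sl₂` triple extended by an abelian two-dimensional ideal. -/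
structure Five (H : LieSubalgebra K L) (b : LieAlgebra.Basis ι H) (ρ : Module.Dual K H) (j : ι) where
  e : L
  h : H
  f : L
  u : L
  w : L
  t : IsSl2Triple (h : L) e f
  he : Wt H ρ e
  hf : Wt H (-ρ) f
  hu : Wt H (ρ - b.baseSupp j) u
  hw : Wt H (-b.baseSupp j) w
  hu0 : u ≠ 0
  hw0 : w ≠ 0
  hρh : ρ h = 2
  hαh : b.baseSupp j h = 1
  ew : ⁅e, w⁆ = u
  eu : ⁅e, u⁆ = 0
  fw : ⁅f, w⁆ = 0
  uw : ⁅u, w⁆ = 0

theorem exists_five (T : Setup b) (htop : ∀ i, rootSpace H (T.ρ + b.baseSupp i) = ⊥) :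
    Nonempty (Five H b T.ρ T.j) := by
  classical
  have hne : rootSpace H T.ρ ≠ ⊥ := fun h => T.hv0 ((LieSubmodule.eq_bot_iff _).1 h _ (mem_of_wt T.hv))
  let χ : Weight K H L := ⟨⇑T.ρ, hne⟩
  have hρ0 : T.ρ ≠ 0 := fun h => by simpa [h] using T.hj
  have hχ : χ.IsNonZero := fun h => hρ0 (LinearMap.coe_injective (show (⇑T.ρ : H → K) = _ from h))
  obtain ⟨h, e, f, t, he, hf⟩ := LieAlgebra.IsKilling.exists_isSl2Triple_of_weight_isNonZero hχ
  have hhc := t.h_eq_coroot hχ he hf
  subst hhc
  have hρh : T.ρ (LieAlgebra.IsKilling.coroot χ) = 2 := LieAlgebra.IsKilling.root_apply_coroot hχ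
  have hew : Wt H T.ρ e := wt_of_mem he
  have hfw : Wt H (-T.ρ) f := wt_of_mem hf
  have hes : e ∈ (rootSpace H T.ρ : Submodule K L) := mem_of_wt hew
  rw [T.rootSpace_rho, Submodule.mem_span_singleton] at hes
  obtain ⟨c, hc⟩ := hes
  have hc0 : c ≠ 0 := fun h0 => t.e_ne_zero (by rw [← hc, h0, zero_smul])
  have hew' : ⁅e, b.f T.j⁆ = -c • T.u := by
    rw [← hc, smul_lie, ← lie_skew T.v (b.f T.j), smul_neg, neg_smul]; rfl
  have hu0 : ⁅e, b.f T.j⁆ ≠ 0 := by
    rw [hew']; exact smul_ne_zero (neg_ne_zero.2 hc0) T.u_ne_zero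
  have hwu : Wt H (T.ρ - b.baseSupp T.j) ⁅e, b.f T.j⁆ := by
    have := hew.lie (wt_f b T.j)
    rwa [← sub_eq_add_neg] at this
  have htwo : ∀ x, Wt H (T.ρ + (T.ρ - b.baseSupp T.j)) x → x = 0 := by
    intro x hx
    by_contra hx0
    obtain ⟨l, hl, -⟩ := exists_word b T.hv T.he T.hv0 hfw t.f_ne_zero
    obtain ⟨l', hl', -⟩ := exists_word b T.hv T.he T.hv0 hx hx0
    rw [wordWt_eq] at hl hl'
    let δ : ι → K := fun i => if i = T.j then 1 else 0
    have hδ : ∑ i, δ i • b.baseSupp i = b.baseSupp T.j := by simp [δ]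
    have h2 : ∀ i, (l.count i : K) + 2 * (l'.count i : K) - 2 * δ i = 0 := by
      refine Fintype.linearIndependent_iff.mp b.linearIndependent_baseSupp _ ?_
      simp only [sub_smul, add_smul, mul_smul, Finset.sum_sub_distrib, Finset.sum_add_distrib,
        ← Finset.smul_sum, hδ]
      linear_combination (norm := module) -hl - (2 : K) • hl'
    have h3 : ∀ i, i ≠ T.j → l'.count i = 0 := fun i hi => by
      have := h2 i
      simp only [δ, hi, if_false, mul_zero, sub_zero] at this
      norm_cast at this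
      omega
    have h4 := h2 T.j
    simp only [δ, if_true, mul_one, sub_eq_zero] at h4
    norm_cast at h4
    have hsum : ∑ i, (l'.count i : K) • b.baseSupp i = (l'.count T.j : K) • b.baseSupp T.j :=
      Finset.sum_eq_single _ (fun i _ hi => by simp [h3 i hi]) (by simp)
    rw [hsum] at hl'
    have h5 := LinearMap.congr_fun hl' (b.h' T.j)
    simp only [LinearMap.sub_apply, LinearMap.add_apply, LinearMap.smul_apply, smul_eq_mul, T.hj,
      (b.sl2 T.j).lie_h_e_smul K] at h5
    have hA : b.baseSupp T.j (b.h' T.j) = 2 := by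
      have := (wt_e b T.j) (b.h' T.j)
      have h' : (⁅(b.h' T.j : L), b.e T.j⁆) = (2 : K) • b.e T.j := (b.sl2 T.j).lie_h_e_smul K
      rw [h'] at this
      exact (smul_left_injective K (b.sl2 T.j).e_ne_zero this).symm
    rw [hA] at h5
    have : l'.count T.j = 0 ∨ l'.count T.j = 1 := by omega
    rcases this with e0 | e0 <;> rw [e0] at h5 <;> norm_num at h5
  have hfwz : ⁅f, b.f T.j⁆ = 0 := by
    by_contra h0
    have hw' : Wt H (-(T.ρ + b.baseSupp T.j)) ⁅f, b.f T.j⁆ := by
      have := hfw.lie (wt_f b T.j)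
      rwa [← neg_add] at this
    exact wt_neg_ne hw' h0 (htop T.j)
  have P : t.symm.HasPrimitiveVectorWith (b.f T.j) (b.baseSupp T.j (LieAlgebra.IsKilling.coroot χ)) :=
    ⟨(b.sl2 T.j).f_ne_zero, by rw [neg_lie, (wt_f b T.j) _, LinearMap.neg_apply, neg_smul, neg_neg], hfwz⟩
  obtain ⟨n, hn⟩ := P.exists_nat
  have hαh : b.baseSupp T.j (LieAlgebra.IsKilling.coroot χ) = 1 := by
    rcases n with _ | _ | n
    · exfalso
      exact hu0 (by simpa using P.pow_toEnd_f_eq_zero_of_eq_nat hn)
    · simpa using hn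
    · exfalso
      refine P.pow_toEnd_f_ne_zero_of_eq_nat (i := 2) hn (by omega) ?_
      simp only [pow_two, Module.End.mul_apply, toEnd_apply_apply]
      exact htwo _ (hew.lie hwu)
  refine ⟨⟨e, LieAlgebra.IsKilling.coroot χ, f, ⁅e, b.f T.j⁆, b.f T.j, t, hew, hfw, hwu, wt_f b T.j, hu0,
    (b.sl2 T.j).f_ne_zero, hρh, hαh, rfl, htwo _ (hew.lie hwu), hfwz, ?_⟩⟩
  rw [hew', smul_lie, ← lie_skew T.u (b.f T.j), T.f_u, neg_zero, smul_zero]

namespace Five

variable {ρ : Module.Dual K H} {j : ι} (D : Five H b ρ j)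

theorem he2 : ⁅(D.h : L), D.e⁆ = (2 : K) • D.e := D.t.lie_h_e_smul K
theorem hf2 : ⁅(D.h : L), D.f⁆ = -((2 : K) • D.f) := D.t.lie_lie_smul_f K
theorem hu2 : ⁅(D.h : L), D.u⁆ = D.u := by
  rw [D.hu D.h, LinearMap.sub_apply, D.hρh, D.hαh]; norm_num
theorem hw2 : ⁅(D.h : L), D.w⁆ = -D.w := by
  rw [D.hw D.h, LinearMap.neg_apply, D.hαh, neg_one_smul]
theorem fu : ⁅D.f, D.u⁆ = D.w := by
  rw [← D.ew, leibniz_lie, D.fw, lie_zero, add_zero, ← lie_skew D.f D.e, D.t.lie_e_f, neg_lie, D.hw2, neg_neg]

def G : Submodule K L := Submodule.span K {D.e, (D.h : L), D.f, D.u, D.w}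

theorem e_mem : D.e ∈ D.G := Submodule.subset_span (by simp)
theorem h_mem : (D.h : L) ∈ D.G := Submodule.subset_span (by simp)
theorem f_mem : D.f ∈ D.G := Submodule.subset_span (by simp)
theorem u_mem : D.u ∈ D.G := Submodule.subset_span (by simp)
theorem w_mem : D.w ∈ D.G := Submodule.subset_span (by simp)

theorem exists_coord {x : L} (hx : x ∈ D.G) :
    ∃ a b' c p q : K, x = a • D.e + b' • (D.h : L) + c • D.f + p • D.u + q • D.w := by
  simp only [G, Submodule.mem_span_insert, Submodule.mem_span_singleton] at hx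
  obtain ⟨a, _, ⟨b', _, ⟨c, _, ⟨p, _, ⟨q, rfl⟩, rfl⟩, rfl⟩, rfl⟩, rfl⟩ := hx
  exact ⟨a, b', c, p, q, by abel⟩

set_option maxHeartbeats 1000000 in
theorem lie_mem {x y : L} (hx : x ∈ D.G) (hy : y ∈ D.G) : ⁅x, y⁆ ∈ D.G := by
  have he := D.e_mem
  have hh := D.h_mem
  have hf := D.f_mem
  have hu := D.u_mem
  have hw := D.w_mem
  obtain ⟨a, b', c, p, q, rfl⟩ := D.exists_coord hx
  obtain ⟨a₂, b₂, c₂, p₂, q₂, rfl⟩ := D.exists_coord hy
  have s1 : ⁅D.f, D.e⁆ = -(D.h : L) := by rw [← lie_skew, D.t.lie_e_f]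
  have s2 : ⁅D.e, (D.h : L)⁆ = -((2 : K) • D.e) := by rw [← lie_skew, D.he2]
  have s3 : ⁅D.f, (D.h : L)⁆ = (2 : K) • D.f := by rw [← lie_skew, D.hf2, neg_neg]
  have s4 : ⁅D.u, (D.h : L)⁆ = -D.u := by rw [← lie_skew, D.hu2]
  have s5 : ⁅D.w, (D.h : L)⁆ = D.w := by rw [← lie_skew, D.hw2, neg_neg]
  have s6 : ⁅D.w, D.e⁆ = -D.u := by rw [← lie_skew, D.ew]
  have s7 : ⁅D.u, D.e⁆ = 0 := by rw [← lie_skew, D.eu, neg_zero]
  have s8 : ⁅D.w, D.f⁆ = 0 := by rw [← lie_skew, D.fw, neg_zero]
  have s9 : ⁅D.u, D.f⁆ = -D.w := by rw [← lie_skew, D.fu]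
  have s10 : ⁅D.w, D.u⁆ = 0 := by rw [← lie_skew, D.uw, neg_zero]
  simp only [add_lie, lie_add, smul_lie, lie_smul, lie_self, D.t.lie_e_f, D.he2, D.hf2, D.hu2, D.hw2, D.ew,
    D.eu, D.fw, D.fu, D.uw, s1, s2, s3, s4, s5, s6, s7, s8, s9, s10, smul_zero, add_zero, zero_add]
  repeat' first
    | exact Submodule.zero_mem _
    | assumption
    | apply Submodule.add_mem
    | apply Submodule.smul_mem
    | apply Submodule.neg_mem

def sub : LieSubalgebra K L := { D.G with lie_mem' := fun hx hy => D.lie_mem hx hy }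

theorem sub_eq {T : Setup b} (D : Five H b T.ρ T.j) :
    LieSubalgebra.lieSpan K L
      ((rootSpace H T.ρ : Set L) ∪ (rootSpace H (-T.ρ) : Set L) ∪ (rootSpace H (T.ρ - b.baseSupp T.j) : Set L)) = D.sub := by
  have hρ0 : T.ρ ≠ 0 := fun h => by simpa [h] using T.hj
  have h1 := root_span D.he D.t.e_ne_zero hρ0
  have h2 := root_span D.hf D.t.f_ne_zero (neg_ne_zero.2 hρ0)
  have h3 := root_span D.hu D.hu0 fun h => by
    have := LinearMap.congr_fun h D.h
    rw [LinearMap.sub_apply, D.hρh, D.hαh] at this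
    norm_num at this
  refine le_antisymm (LieSubalgebra.lieSpan_le.2 ?_) ?_
  · rintro x ((hx | hx) | hx)
    · have : x ∈ (rootSpace H T.ρ : Submodule K L) := hx
      rw [h1] at this
      exact (Submodule.span_singleton_le_iff_mem _ _).2 D.e_mem this
    · have : x ∈ (rootSpace H (-T.ρ : Module.Dual K H) : Submodule K L) := hx
      rw [h2] at this
      exact (Submodule.span_singleton_le_iff_mem _ _).2 D.f_mem this
    · have : x ∈ (rootSpace H (T.ρ - b.baseSupp T.j : Module.Dual K H) : Submodule K L) := hx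
      rw [h3] at this
      exact (Submodule.span_singleton_le_iff_mem _ _).2 D.u_mem this
  · set S := LieSubalgebra.lieSpan K L
      ((rootSpace H T.ρ : Set L) ∪ (rootSpace H (-T.ρ) : Set L) ∪ (rootSpace H (T.ρ - b.baseSupp T.j) : Set L))
    have hsub : ∀ y, y ∈ ((rootSpace H T.ρ : Set L) ∪ (rootSpace H (-T.ρ) : Set L) ∪
        (rootSpace H (T.ρ - b.baseSupp T.j) : Set L)) → y ∈ S := fun y hy => LieSubalgebra.subset_lieSpan hy
    have he : D.e ∈ S := by
      refine hsub _ (Or.inl (Or.inl ?_))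
      exact mem_of_wt D.he
    have hf : D.f ∈ S := by
      refine hsub _ (Or.inl (Or.inr ?_))
      have h' := mem_of_wt D.hf
      exact h'
    have hu : D.u ∈ S := by
      refine hsub _ (Or.inr ?_)
      have h' := mem_of_wt D.hu
      exact h'
    have hh : (D.h : L) ∈ S := D.t.lie_e_f ▸ S.lie_mem he hf
    have hw : D.w ∈ S := D.fu ▸ S.lie_mem hf hu
    intro x hx
    refine (Submodule.span_le (p := S.toSubmodule)).2 ?_ (show x ∈ D.G from hx)
    simp only [Set.insert_subset_iff, Set.singleton_subset_iff, SetLike.mem_coe, LieSubalgebra.mem_toSubmodule]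
    exact ⟨he, hh, hf, hu, hw⟩

theorem finrank_sub : Module.finrank K D.sub = 5 := by
  let ad : Module.End K L := toEnd K L L (D.h : L)
  have hv : ∀ i, Module.End.HasEigenvector ad ((![2, 0, -2, 1, -1] : Fin 5 → K) i)
      ((![D.e, (D.h : L), D.f, D.u, D.w] : Fin 5 → L) i) := by
    intro i
    fin_cases i <;> refine ⟨Module.End.mem_eigenspace_iff.2 ?_, ?_⟩ <;>
      simp [ad, D.he2, D.hf2, D.hu2, D.hw2, D.t.e_ne_zero, D.t.f_ne_zero, D.hu0, D.hw0]
    exact fun h0 => D.t.h_ne_zero (congrArg Subtype.val h0)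
  have hinj : Function.Injective (![2, 0, -2, 1, -1] : Fin 5 → K) := by
    intro a c h
    fin_cases a <;> fin_cases c <;> first | rfl | (norm_num at h)
  have hli := Module.End.eigenvectors_linearIndependent' ad _ hinj _ hv
  have := finrank_span_eq_card hli
  rw [Fintype.card_fin] at this
  show Module.finrank K D.G = 5
  have e : Set.range ![D.e, (D.h : L), D.f, D.u, D.w] = {D.e, (D.h : L), D.f, D.u, D.w} := by
    ext x; simp [Matrix.range_cons, Matrix.range_empty]; tauto
  rw [e] at this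
  exact this

def J : Submodule K L := Submodule.span K {D.u, D.w}

def ideal : LieIdeal K D.sub :=
  { Submodule.comap D.sub.toSubmodule.subtype D.J with
    lie_mem := fun {x m} hm => by
      have hm' : (m : L) ∈ D.J := hm
      show ⁅(x : L), (m : L)⁆ ∈ D.J
      have hu : D.u ∈ D.J := Submodule.subset_span (by simp)
      have hw : D.w ∈ D.J := Submodule.subset_span (by simp)
      obtain ⟨p₂, q₂, hm''⟩ := Submodule.mem_span_pair.1 hm'
      obtain ⟨a, b', c, p, q, hx⟩ := D.exists_coord x.2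
      have s10 : ⁅D.w, D.u⁆ = 0 := by rw [← lie_skew, D.uw, neg_zero]
      rw [← hm'', hx]
      simp only [add_lie, lie_add, smul_lie, lie_smul, lie_self, D.hu2, D.hw2, D.ew,
        D.eu, D.fw, D.fu, D.uw, s10, smul_zero, add_zero, zero_add]
      repeat' first
        | exact Submodule.zero_mem _
        | assumption
        | apply Submodule.add_mem
        | apply Submodule.smul_mem
        | apply Submodule.neg_mem }

theorem ideal_solvable : IsSolvable D.ideal := by
  have : IsLieAbelian D.ideal := by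
    refine ⟨fun x y => Subtype.ext (Subtype.ext ?_)⟩
    show ⁅((x : D.sub) : L), ((y : D.sub) : L)⁆ = 0
    obtain ⟨p, q, hx⟩ := Submodule.mem_span_pair.1 (show ((x : D.sub) : L) ∈ D.J from x.2)
    obtain ⟨p₂, q₂, hy⟩ := Submodule.mem_span_pair.1 (show ((y : D.sub) : L) ∈ D.J from y.2)
    have s10 : ⁅D.w, D.u⁆ = 0 := by rw [← lie_skew, D.uw, neg_zero]
    rw [← hx, ← hy]
    simp [D.uw, s10]
  infer_instance

theorem radical_eq : LieAlgebra.radical K D.sub = D.ideal := by
  refine le_antisymm (fun x hxR => ?_) ((LieIdeal.solvable_iff_le_radical K D.sub D.ideal).1 D.ideal_solvable)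
  set R := LieAlgebra.radical K D.sub
  let eA : D.sub := ⟨D.e, D.e_mem⟩
  let fA : D.sub := ⟨D.f, D.f_mem⟩
  let hA : D.sub := ⟨(D.h : L), D.h_mem⟩
  let uA : D.sub := ⟨D.u, D.u_mem⟩
  let wA : D.sub := ⟨D.w, D.w_mem⟩
  have hI : D.ideal ≤ R := (LieIdeal.solvable_iff_le_radical K D.sub D.ideal).1 D.ideal_solvable
  have huR : uA ∈ R := hI (show D.u ∈ D.J from Submodule.subset_span (by simp))
  have hwR : wA ∈ R := hI (show D.w ∈ D.J from Submodule.subset_span (by simp))
  have heR : eA ∉ R := by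
    intro he
    have hh : hA ∈ R := by
      have h := R.lie_mem (x := fA) he
      have e1 : ⁅fA, eA⁆ = -hA := Subtype.ext (show ⁅D.f, D.e⁆ = -(D.h : L) by rw [← lie_skew, D.t.lie_e_f])
      rw [e1] at h
      simpa using R.smul_mem (-1 : K) h
    have hf : fA ∈ R := by
      have h := R.lie_mem (x := fA) hh
      have e1 : ⁅fA, hA⁆ = (2 : K) • fA :=
        Subtype.ext (show ⁅D.f, (D.h : L)⁆ = (2 : K) • D.f by rw [← lie_skew, D.hf2, neg_neg])
      rw [e1] at h
      simpa using R.smul_mem (2 : K)⁻¹ h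
    have key : ∀ k, eA ∈ derivedSeriesOfIdeal K D.sub k R ∧ hA ∈ derivedSeriesOfIdeal K D.sub k R ∧
        fA ∈ derivedSeriesOfIdeal K D.sub k R := by
      intro k
      induction k with
      | zero => exact ⟨he, hh, hf⟩
      | succ k ih =>
        rw [derivedSeriesOfIdeal_succ]
        obtain ⟨i1, i2, i3⟩ := ih
        have j1 := LieSubmodule.lie_mem_lie i1 i3
        have j2 := LieSubmodule.lie_mem_lie i2 i1
        have j3 := LieSubmodule.lie_mem_lie i2 i3
        rw [show ⁅eA, fA⁆ = hA from Subtype.ext D.t.lie_e_f] at j1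
        rw [show ⁅hA, eA⁆ = (2 : K) • eA from Subtype.ext D.he2] at j2
        rw [show ⁅hA, fA⁆ = -((2 : K) • fA) from Subtype.ext D.hf2] at j3
        refine ⟨?_, j1, ?_⟩
        · simpa using Submodule.smul_mem (LieSubmodule.toSubmodule _) (2 : K)⁻¹ j2
        · simpa using Submodule.smul_mem (LieSubmodule.toSubmodule _) (-(2 : K)⁻¹) j3
    obtain ⟨k, hk⟩ := IsSolvable.solvable (R := K) (L := R)
    rw [LieIdeal.derivedSeries_eq_bot_iff] at hk
    have := (key k).1
    rw [hk, LieSubmodule.mem_bot] at this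
    exact D.t.e_ne_zero (congrArg Subtype.val this)
  obtain ⟨a, b', c, p, q, hx⟩ := D.exists_coord x.2
  have hc : c = 0 := by
    by_contra hc
    have h := R.lie_mem (x := eA) (R.lie_mem (x := eA) hxR)
    have e1 : ⁅eA, ⁅eA, x⁆⁆ = (-(2 * c)) • eA := Subtype.ext (by
      show ⁅D.e, ⁅D.e, (x : L)⁆⁆ = (-(2 * c)) • D.e
      have s2 : ⁅D.e, (D.h : L)⁆ = -((2 : K) • D.e) := by rw [← lie_skew, D.he2]
      rw [hx]
      simp only [lie_add, lie_smul, lie_self, lie_neg, s2, D.t.lie_e_f, D.eu, D.ew, smul_zero, add_zero, zero_add,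
        neg_zero]
      module)
    rw [e1] at h
    have h2 := R.smul_mem (-(2 * c))⁻¹ h
    rw [smul_smul, inv_mul_cancel₀ (by simp [hc]), one_smul] at h2
    exact heR h2
  subst hc
  have hb : b' = 0 := by
    by_contra hb
    have h := R.lie_mem (x := eA) hxR
    have e1 : ⁅eA, x⁆ = (-(2 * b')) • eA + q • uA := Subtype.ext (by
      show ⁅D.e, (x : L)⁆ = (-(2 * b')) • D.e + q • D.u
      have s2 : ⁅D.e, (D.h : L)⁆ = -((2 : K) • D.e) := by rw [← lie_skew, D.he2]
      rw [hx]
      simp only [lie_add, lie_smul, lie_self, s2, D.eu, D.ew, zero_smul, lie_zero, smul_zero, add_zero, zero_add]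
      module)
    rw [e1] at h
    have h' := sub_mem h (R.smul_mem q huR)
    rw [add_sub_cancel_right] at h'
    have h2 := R.smul_mem (-(2 * b'))⁻¹ h'
    rw [smul_smul, inv_mul_cancel₀ (by simp [hb]), one_smul] at h2
    exact heR h2
  subst hb
  have ha : a = 0 := by
    by_contra ha
    have h := sub_mem (sub_mem hxR (R.smul_mem p huR)) (R.smul_mem q hwR)
    have e1 : x - p • uA - q • wA = a • eA := Subtype.ext (by
      show (x : L) - p • D.u - q • D.w = a • D.e
      rw [hx]; module)
    rw [e1] at h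
    exact heR (by simpa [ha] using R.smul_mem a⁻¹ h)
  subst ha
  show (x : L) ∈ D.J
  exact Submodule.mem_span_pair.2 ⟨p, q, by rw [hx]; simp⟩

theorem radical_map :
    (LieAlgebra.radical K D.sub).toSubmodule.map (D.sub.incl : D.sub →ₗ⁅K⁆ L).toLinearMap = D.J := by
  rw [D.radical_eq]
  ext x
  constructor
  · rintro ⟨y, hy, rfl⟩; exact hy
  · intro hx
    refine ⟨⟨x, ?_⟩, hx, rfl⟩
    exact (Submodule.span_le.2 (Set.insert_subset D.u_mem (Set.singleton_subset_iff.2 D.w_mem)) :
      D.J ≤ D.G) hx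

theorem finrank_J : Module.finrank K D.J = 2 := by
  have hli : LinearIndependent K ![D.u, D.w] := by
    rw [linearIndependent_fin2]
    refine ⟨D.hw0, fun a h => D.hu0 ?_⟩
    simp only [Matrix.cons_val_one, Matrix.cons_val_zero] at h
    have h1 : ⁅(D.h : L), D.u⁆ = -D.u := by rw [← h, lie_smul, D.hw2, smul_neg]
    rw [D.hu2, eq_neg_iff_add_eq_zero, ← two_smul K] at h1
    simpa using h1
  have := finrank_span_eq_card hli
  rwa [Fintype.card_fin, Matrix.range_cons_cons_empty] at this

end Five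

end Aux

/-- Let L be a finite-dimensional simple Lie algebra over an algebraically closed field K of
characteristic zero, H a Cartan subalgebra and b a basis of (L, H) in Mathlib's sense (Chevalley
generators h_i, e_i, f_i indexed by a finite type, with simple roots α_i = b.baseSupp i and upper
Borel subalgebra 𝔟 = H + the Lie subalgebra generated by the e_i). Let ρ be the highest root: a root
of H on L whose root space is nonzero and such that no ρ + α_i is a root (the root space of ρ + α_i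
is zero for every i). Assume that exactly one simple root α_j is not orthogonal to ρ (ρ(h_i) ≠ 0 if
and only if i = j) and that ρ(h_j) = 1; for simple L these two conditions say precisely that L is
not of type A_r or C_r (r ≥ 1), the case excluded in the source. Let A be the Lie subalgebra of L
generated by the root spaces of ρ, of −ρ and of ρ − α_j; this is the smallest Lie subalgebra whose
projectivisation contains both the standard twistor conic (which spans the plane on E_ρ, H_ρ,
E_{−ρ}) and the Borel-stable line (through E_ρ and E_{ρ−α_j}). Then A has dimension 5, its solvable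
radical has dimension 2, and the image of that radical in L is the sum of the root spaces of ρ − α_j
and of −α_j (the two-dimensional ideal which the source's proof displays as the unipotent radical of
A; the solvable radical and the unipotent radical agree here because the quotient of A by this ideal
is sl_2). The published statement also says that the sl_2-subalgebra spanned by the root spaces of ρ
and −ρ is a maximal reductive subalgebra of A; that clause is not stated here. The source states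
this for an arbitrary point x of the adjoint variety, a twistor conic C and a line through x, and
reduces to the present configuration by homogeneity; only this base configuration, which its proof
computes, is stated here. -/
theorem result {ι : Type u} {K : Type v} {L : Type w} [Fintype ι] [Field K] [CharZero K]
    [IsAlgClosed K] [LieRing L] [LieAlgebra K L] [FiniteDimensional K L] [LieAlgebra.IsSimple K L]
    (H : LieSubalgebra K L) [H.IsCartanSubalgebra] (b : LieAlgebra.Basis ι H)
    (ρ : Module.Dual K H) (hρ : rootSpace H ρ ≠ ⊥) (htop : ∀ i, rootSpace H (ρ + b.baseSupp i) = ⊥)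
    (j : ι) (hN : ∀ i, ρ (b.h' i) ≠ 0 ↔ i = j) (hj : ρ (b.h' j) = 1)
    (A : LieSubalgebra K L)
    (hA : A = LieSubalgebra.lieSpan K L
      ((rootSpace H ρ : Set L) ∪ (rootSpace H (-ρ) : Set L) ∪ (rootSpace H (ρ - b.baseSupp j) : Set L))) :
    Module.finrank K A = 5 ∧ Module.finrank K (LieAlgebra.radical K A) = 2 ∧
      (LieAlgebra.radical K A).toSubmodule.map (A.incl : A →ₗ⁅K⁆ L).toLinearMap =
        (rootSpace H (ρ - b.baseSupp j) : Submodule K L) ⊔ (rootSpace H (-b.baseSupp j) : Submodule K L) := by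
  obtain ⟨T, rfl, rfl⟩ := exists_setup ρ hρ htop j hN hj
  obtain ⟨D⟩ := Aux.exists_five T htop
  have e := Aux.Five.sub_eq D
  subst hA
  rw [e]
  refine ⟨D.finrank_sub, ?_, ?_⟩
  · rw [← D.finrank_J, ← D.radical_map]
    exact (Submodule.equivMapOfInjective _ Subtype.val_injective _).finrank_eq
  · rw [D.radical_map, Aux.Five.J, Submodule.span_insert]
    congr 1
    · refine (Aux.root_span D.hu D.hu0 fun h => ?_).symm
      have := LinearMap.congr_fun h D.h
      rw [LinearMap.sub_apply, D.hρh, D.hαh] at this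
      norm_num at this
    · refine (Aux.root_span D.hw D.hw0 fun h => ?_).symm
      have := LinearMap.congr_fun h D.h
      rw [LinearMap.neg_apply, D.hαh] at this
      norm_num at this

end Groth.Agent.S17433
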