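import Groth.Statements.S17443
import Groth.Agent.AbVarLib.Bilin

set_option autoImplicit false
universe u
open CategoryTheory CategoryTheory.Limits MonoidalCategory CartesianMonoidalCategory MonObj GrpObj AlgebraicGeometry
open AbVar

namespace Groth.Agent.S17443

open scoped Groth.Agent.PicLaw

/-- Let k be a field, A an abelian variety over k (a proper smooth k-group scheme with geometrically
connected fibres), (A^t, φ) a given dual abelian variety of A for the fppf topology with A^t itself
an abelian variety, and P an invertible module on A ×_k A^t whose class is a Poincaré class (it lies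
in Pic⁰ fibrewise over A^t, corresponds to the identity of A^t under φ, and is rigidified along the
unit section of A). Write [-1] for the inverse of the identity in the group of endomorphisms of A,
resp. of A^t (the inversion). Then the pull back of P along id_A × [-1] and the pull back of P along
[-1] × id_{A^t} are both inverse to P: their tensor products with P have the class of the structure
sheaf. (This is the case n = -1 of the published statement, which asserts (id_A × [n])^*P ≅ P^{⊗n} ≅
([n] × id_{A^t})^*P for every integer n; together with the case n ≥ 0 it yields every integer n.) -/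
theorem result (k : Type u) [Field k]
    (A At : Over (Spec (CommRingCat.of k))) [GrpObj A] [IsProper A.hom] [Smooth A.hom] [GeometricallyConnected A.hom]
    [GrpObj At] [IsProper At.hom] [Smooth At.hom] [GeometricallyConnected At.hom]
    (φ : ∀ T : Over (Spec (CommRingCat.of k)), PicF.Cl (PicF.XT A.hom T) → (T ⟶ At))
    (hφ : AbDual.IsDualAV Scheme.fppfPrecoverage A At φ)
    (P : (PicF.XT A.hom At).Modules) (hP : PicF.IsInvertible P)
    (hξ : AbDual.IsPoincareCl A At φ (PicF.cl P)) :
    PicF.IsTrivialCl (PicF.cl (CohB1.tensorMod ((Scheme.Modules.pullback (PicF.XTmap A.hom (𝟙 At)⁻¹)).obj P) P)) ∧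
      PicF.IsTrivialCl (PicF.cl (CohB1.tensorMod ((Scheme.Modules.pullback (AbDual.bcMap (𝟙 A)⁻¹ At)).obj P) P)) := by
  have := Groth.Agent.AbVarLib.Basics.geometricallyIntegral A
  have := Groth.Agent.AbVarLib.Basics.geometricallyIntegral At
  let c : PicLoc.PicSet (A ⊗ At).left := PicGrp.cls P hP
  have hl := Groth.Agent.AbVarLib.Bilin.poincare_left hP hξ
  have hr := Groth.Agent.AbVarLib.Bilin.poincare_right hφ hP hξ
  have hid : Groth.Agent.PicLaw.Mumford.op (lift (fst A At) (snd A At)) c = c := by
    rw [lift_fst_snd]; exact Groth.Agent.PicLaw.pl_id c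
  have eR : ∀ g : At ⟶ At, A ◁ g = lift (fst A At) (snd A At ≫ g) := fun g => by
    apply CartesianMonoidalCategory.hom_ext <;> simp
  have eL : ∀ f : A ⟶ A, f ▷ At = lift (fst A At ≫ f) (snd A At) := fun f => by
    apply CartesianMonoidalCategory.hom_ext <;> simp
  have key : ∀ f : A ⊗ At ⟶ A ⊗ At, Groth.Agent.PicLaw.Mumford.op f c * c = 1 →
      PicF.IsTrivialCl (PicF.cl (CohB1.tensorMod ((Scheme.Modules.pullback f.left).obj P) P)) := fun f h =>
    congrArg Subtype.val (((Groth.Agent.PicLaw.cls_tensor (PicLoc.isInvertible_pullback f.left hP) hP).trans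
      ((congrArg (· * c) (Groth.Agent.PicLaw.cls_pullback f.left hP)).trans h)).trans Groth.Agent.PicLaw.cls_one.symm)
  refine ⟨?_, ?_⟩
  · rw [Groth.Agent.PicZero.xtMap_eq]
    refine key _ ?_
    have h := Groth.Agent.AbVarLib.Bilin.op_inv_right c hl hr (fst A At) (snd A At)
    rwa [hid, show (snd A At)⁻¹ = snd A At ≫ (𝟙 At)⁻¹ by rw [GrpObj.comp_inv, Category.comp_id], ← eR] at h
  · rw [Groth.Agent.AbVarLib.Bilin.bcMap_eq]
    refine key _ ?_
    have h := Groth.Agent.AbVarLib.Bilin.op_inv_left c hl hr (fst A At) (snd A At)
    rwa [hid, show (fst A At)⁻¹ = fst A At ≫ (𝟙 A)⁻¹ by rw [GrpObj.comp_inv, Category.comp_id], ← eL] at h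

end Groth.Agent.S17443
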