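import Groth.Statements.S17444
import Mathlib.RingTheory.Nilpotent.Basic
import Mathlib.Algebra.Ring.GeomSum
import Mathlib.Tactic.Linarith
import Mathlib.Tactic.Ring
import Mathlib.Tactic.LinearCombination
import Mathlib.Tactic.Positivity
import Mathlib.Tactic.FieldSimp
-- import your own Groth.Agent.* helpers here

set_option autoImplicit false
universe u v
open SSRed

namespace Groth.Agent.S17444

/-- Let K be a field of characteristic zero, V a K-vector space and g a K-linear endomorphism of V such
that g - 1 is nilpotent (a unipotent automorphism). Then for every integer n > 0 the endomorphisms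
gⁿ - 1 and g - 1 have the same kernel: a vector fixed by gⁿ is fixed by g. (The published statement
assumes V finite-dimensional; this row allows any V.) -/
theorem result (K : Type u) (V : Type v) [Field K] [CharZero K]
    [AddCommGroup V] [Module K V] (g : Module.End K V) (hg : IsNilpotent (g - 1)) (n : ℕ) (hn : 0 < n) :
    LinearMap.ker (g ^ n - 1) = LinearMap.ker (g - 1) := by
  have hnil : IsNilpotent ((∑ i ∈ Finset.range n, g ^ i) - (n : Module.End K V)) := by
    have key : ∀ i, ∃ w, Commute (g - 1) w ∧ g ^ i - 1 = (g - 1) * w := fun i =>
      ⟨∑ j ∈ Finset.range i, g ^ j,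
        Commute.sum_right _ _ _ fun j _ => ((Commute.refl g).pow_right j).sub_left (Commute.one_left _),
        (mul_geom_sum g i).symm⟩
    choose w hw1 hw2 using key
    have hs : (∑ i ∈ Finset.range n, g ^ i) - (n : Module.End K V) =
        (g - 1) * ∑ i ∈ Finset.range n, w i := by
      rw [Finset.mul_sum, ← Finset.sum_congr rfl fun i _ => hw2 i, Finset.sum_sub_distrib]
      simp
    rw [hs]
    exact (Commute.sum_right _ _ _ fun i _ => hw1 i).isNilpotent_mul_right hg
  have hu : IsUnit (∑ i ∈ Finset.range n, g ^ i) := by
    have hn' : IsUnit (n : Module.End K V) := by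
      have : (n : Module.End K V) = algebraMap K (Module.End K V) n := (map_natCast _ n).symm
      rw [this]
      exact (IsUnit.mk0 _ (by exact_mod_cast hn.ne')).map _
    have := hnil.isUnit_add_left_of_commute hn' (Nat.commute_cast _ _).symm.symm
    simpa using this
  rw [← geom_sum_mul g n]
  obtain ⟨v, hv⟩ := hu
  rw [← hv]
  ext x
  simp only [LinearMap.mem_ker, Module.End.mul_apply]
  refine ⟨fun h => ?_, fun h => by rw [h, map_zero]⟩
  have := congr_arg (↑v⁻¹ : Module.End K V) h
  rw [← Module.End.mul_apply, Units.inv_mul, map_zero] at this
  simpa using this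

end Groth.Agent.S17444
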