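import Groth.Statements.S17446
import Mathlib.LinearAlgebra.FiniteDimensional.Lemmas
import Mathlib.Algebra.BigOperators.Group.List.Basic
-- import your own Groth.Agent.* helpers here

set_option autoImplicit false
universe u v
open SSRed

namespace Groth.Agent.S17446

section
variable {K : Type*} {V : Type*} [Field K] [AddCommGroup V] [Module K V]

theorem exists_fixed_mod (H : Subgroup (V ≃ₗ[K] V)) (U W : Submodule K V) (hW : ¬ U ≤ W)
    (hU : ∀ h ∈ H, ∀ v ∈ U, h v ∈ U)
    (n : ℕ) (hn : ∀ f : Fin n → ↥H,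
      (List.ofFn fun i => (((f i : ↥H) : V ≃ₗ[K] V) : Module.End K V) - 1).prod = 0) :
    ∃ v ∈ U, v ∉ W ∧ ∀ h ∈ H, h v - v ∈ W := by
  by_contra hcon
  push Not at hcon
  have key : ∀ m : ℕ, ∀ v ∈ U, v ∉ W → ∃ f : Fin m → ↥H,
      (List.ofFn fun i => (((f i : ↥H) : V ≃ₗ[K] V) : Module.End K V) - 1).prod v ∉ W := by
    intro m
    induction m with
    | zero => exact fun v _ hvW => ⟨Fin.elim0, by simpa using hvW⟩
    | succ m ih =>
      intro v hvU hvW
      obtain ⟨h, hh, hne⟩ := hcon v hvU hvW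
      obtain ⟨f, hf⟩ := ih (h v - v) (U.sub_mem (hU h hh v hvU) hvU) hne
      refine ⟨Fin.snoc f ⟨h, hh⟩, ?_⟩
      rw [List.ofFn_succ', List.concat_eq_append, List.prod_append, List.prod_singleton]
      simp only [Fin.snoc_castSucc, Fin.snoc_last]
      simpa using hf
  obtain ⟨v, hvU, hvW⟩ := SetLike.not_le_iff_exists.1 hW
  obtain ⟨f, hf⟩ := key n v hvU hvW
  rw [hn f, LinearMap.zero_apply] at hf
  exact hf W.zero_mem

/-- The next step of the canonical flag. -/
def next (G : Subgroup (V ≃ₗ[K] V)) (W : Submodule K V) : Submodule K V :=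
  ⨅ g : ↥G, Submodule.comap ((((g : V ≃ₗ[K] V)) : Module.End K V) - 1) W

theorem mem_next {G : Subgroup (V ≃ₗ[K] V)} {W : Submodule K V} {v : V} :
    v ∈ next G W ↔ ∀ g ∈ G, g v - v ∈ W := by
  simp [next, Submodule.mem_iInf]

/-- The canonical flag. -/
def flag (G : Subgroup (V ≃ₗ[K] V)) : ℕ → Submodule K V
  | 0 => ⊥
  | k + 1 => next G (flag G k)

theorem flag_le (G : Subgroup (V ≃ₗ[K] V)) : ∀ k, flag G k ≤ flag G (k + 1)
  | 0 => bot_le
  | k + 1 => fun _ hv => mem_next.2 fun g hg => flag_le G k (mem_next.1 hv g hg)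

theorem flag_stable (G : Subgroup (V ≃ₗ[K] V)) : ∀ k, ∀ g ∈ G, ∀ v ∈ flag G k, g v ∈ flag G k
  | 0, g, _, v, hv => by
    have : v = 0 := by simpa [flag] using hv
    simp [this]
  | k + 1, g, hg, v, hv => by
    have h1 := flag_le G k (mem_next.1 hv g hg)
    simpa using add_mem h1 hv

theorem prod_flag (G : Subgroup (V ≃ₗ[K] V)) : ∀ k, ∀ f : Fin k → ↥G, ∀ v ∈ flag G k,
    (List.ofFn fun i => (((f i : ↥G) : V ≃ₗ[K] V) : Module.End K V) - 1).prod v = 0
  | 0, f, v, hv => by simpa [flag] using hv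
  | k + 1, f, v, hv => by
    rw [List.ofFn_succ', List.concat_eq_append, List.prod_append, List.prod_singleton]
    rw [Module.End.mul_apply]
    exact prod_flag G k _ _ (mem_next.1 hv _ (f (Fin.last k)).2)

end

/-- Let K be a field, V a finite-dimensional K-vector space and H₁, H₂ subgroups of the group of
K-linear automorphisms of V such that H₂ normalizes H₁. Call the action of a subgroup H unipotent
when, for some n, every product (h₁ - 1)(h₂ - 1)⋯(hₙ - 1) with all hᵢ in H is the zero endomorphism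
(equivalently, V has an H-stable flag on whose successive quotients H acts trivially). If H₁ and H₂
act unipotently, then the subgroup generated by H₁ and H₂ acts unipotently. (In the published result
H₁ and H₂ are the absolute Galois groups of two finite Galois extensions of a strictly henselian
discretely valued field over which an abelian variety becomes semistable, acting on its rational
ℓ-adic Tate module, and the conclusion is semistability over the intersection of the two fields; the
printed argument uses only that H₂ normalizes H₁.) -/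
theorem result (K : Type u) (V : Type v) [Field K]
    [AddCommGroup V] [Module K V] [FiniteDimensional K V]
    (H₁ H₂ : Subgroup (V ≃ₗ[K] V)) (hnorm : ∀ g ∈ H₂, ∀ h ∈ H₁, g * h * g⁻¹ ∈ H₁)
    (h₁ : ∃ n : ℕ, ∀ f : Fin n → ↥H₁,
      (List.ofFn fun i => (((f i : ↥H₁) : V ≃ₗ[K] V) : Module.End K V) - 1).prod = 0)
    (h₂ : ∃ n : ℕ, ∀ f : Fin n → ↥H₂,
      (List.ofFn fun i => (((f i : ↥H₂) : V ≃ₗ[K] V) : Module.End K V) - 1).prod = 0) :
    ∃ n : ℕ, ∀ f : Fin n → ↥(H₁ ⊔ H₂),
      (List.ofFn fun i => (((f i : ↥(H₁ ⊔ H₂)) : V ≃ₗ[K] V) : Module.End K V) - 1).prod = 0 := by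
  obtain ⟨n₁, hn₁⟩ := h₁
  obtain ⟨n₂, hn₂⟩ := h₂
  let G := H₁ ⊔ H₂
  have step : ∀ k, flag G k ≠ ⊤ → flag G k < flag G (k + 1) := by
    intro k hk
    refine lt_of_le_not_ge (flag_le G k) fun hle => ?_
    let W := flag G k
    let U₁ : Submodule K V := next H₁ W
    obtain ⟨v, -, hvW, hv⟩ := exists_fixed_mod H₁ ⊤ W (fun h => hk (top_le_iff.1 h))
      (fun _ _ _ _ => Submodule.mem_top) n₁ hn₁
    have hU : ¬ U₁ ≤ W := fun h => hvW (h (mem_next.2 hv))
    have hstab : ∀ g ∈ H₂, ∀ x ∈ U₁, g x ∈ U₁ := by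
      intro g hg x hx
      refine mem_next.2 fun h hh => ?_
      have h1 := mem_next.1 hx (g⁻¹ * h * g) (by simpa using hnorm g⁻¹ (inv_mem hg) h hh)
      have h2 := flag_stable G k g (Subgroup.mem_sup_right hg) _ h1
      simpa using h2
    obtain ⟨w, hwU, hwW, hw⟩ := exists_fixed_mod H₂ U₁ W hU hstab n₂ hn₂
    refine hwW (hle (mem_next.2 ?_))
    let T : Subgroup (V ≃ₗ[K] V) :=
      { carrier := {g | g ∈ G ∧ g w - w ∈ W}
        one_mem' := ⟨one_mem _, by simp⟩
        mul_mem' := fun {a b} ha hb => ⟨mul_mem ha.1 hb.1, by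
          have h1 := add_mem (flag_stable G k a ha.1 _ hb.2) ha.2
          simpa using h1⟩
        inv_mem' := fun {a} ha => ⟨inv_mem ha.1, by
          have h1 := neg_mem (flag_stable G k a⁻¹ (inv_mem ha.1) _ ha.2)
          simpa using h1⟩ }
    have hT : G ≤ T := sup_le (fun h hh => ⟨Subgroup.mem_sup_left hh, mem_next.1 hwU h hh⟩)
      (fun h hh => ⟨Subgroup.mem_sup_right hh, hw h hh⟩)
    exact fun g hg => (hT hg).2
  have hdim : ∀ k, flag G k = ⊤ ∨ k ≤ Module.finrank K ↥(flag G k) := by
    intro k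
    induction k with
    | zero => right; omega
    | succ k ih =>
      by_cases hk : flag G k = ⊤
      · exact Or.inl (top_le_iff.1 (hk ▸ flag_le G k))
      · right
        have h1 := Submodule.finrank_lt_finrank_of_lt (step k hk)
        have h2 := ih.resolve_left hk
        omega
  refine ⟨Module.finrank K V + 1, fun f => LinearMap.ext fun v => ?_⟩
  rcases hdim (Module.finrank K V + 1) with h | h
  · rw [prod_flag G _ f v (h ▸ Submodule.mem_top)]
    rfl
  · exact absurd (Submodule.finrank_le (flag G (Module.finrank K V + 1))) (by omega)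

end Groth.Agent.S17446
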