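import Groth.Statements.S17448
import Groth.Agent.Hens.FinitePart

set_option autoImplicit false
universe u
open CategoryTheory CategoryTheory.Limits AlgebraicGeometry
open Hensel

namespace Groth.Agent.S17448

/-- Sections over henselian rings: let R be a henselian local ring with residue field k and X → Spec R a
quasi-finite (quasi-compact with discrete fibres), separated and étale morphism. Then the natural
map from sections X(R) to points X(k) of the special fibre is bijective: for every morphism t : Spec
k → X over Spec k → Spec R there is exactly one section s : Spec R → X of X → Spec R whose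
restriction to Spec k is t. -/
theorem result (R : Type u) [CommRing R]
    [HenselianLocalRing R] {X : Scheme.{u}} (f : X ⟶ Spec (CommRingCat.of R))
    [LocallyQuasiFinite f] [QuasiCompact f] [IsSeparated f] [Etale f]
    (t : Spec (CommRingCat.of (IsLocalRing.ResidueField R)) ⟶ X)
    (ht : t ≫ f = Spec.map (CommRingCat.ofHom (IsLocalRing.residue R))) :
    ∃! s : Spec (CommRingCat.of R) ⟶ X,
      s ≫ f = 𝟙 (Spec (CommRingCat.of R)) ∧ Spec.map (CommRingCat.ofHom (IsLocalRing.residue R)) ≫ s = t := by
  obtain ⟨s, hs, hst⟩ := Groth.Agent.EtaleSite.exists_section R f t ht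
  refine ⟨s, ⟨hs, hst⟩, fun s' hs' => ?_⟩
  exact Groth.Agent.Hens.FinPart.section_unique f hs'.1 hs (hs'.2.trans hst.symm)

end Groth.Agent.S17448
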