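import Groth.Statements.S1745
import Groth.Agent.DualCx.FlatBC
import Groth.Agent.DualCx.Gorenstein
import Groth.Agent.DualCx.Criterion

set_option autoImplicit false
universe u
open scoped TensorProduct
open InjHull

namespace Groth.Agent.S1745

/-- Let A → B be a flat homomorphism of Noetherian rings such that for every prime q of B with
contraction p, the ideal p B_q equals the maximal ideal q B_q of B_q (for instance an étale map).
Then for every injective A-module I the B-module B ⊗_A I is injective. -/
theorem result (A B : Type u) [CommRing A] [CommRing B] [Algebra A B] [IsNoetherianRing A] [IsNoetherianRing B] [Module.Flat A B] (h : ∀ q : PrimeSpectrum B, Ideal.map (algebraMap B (Localization.AtPrime q.asIdeal)) ((q.asIdeal.comap (algebraMap A B)).map (algebraMap A B)) = IsLocalRing.maximalIdeal (Localization.AtPrime q.asIdeal)) (I : Type u) [AddCommGroup I] [Module A I] [Module.Injective A I] : Module.Injective B (B ⊗[A] I) := by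
  classical
  let _ := HasDerivedCategory.standard (ModuleCat.{u} A)
  let _ := HasDerivedCategory.standard (ModuleCat.{u} B)
  let K : Dual.D B := (DualCx.BaseChange.FD A B).obj (Dual.inD A I)
  have hge : K.IsGE 0 := DualCx.FlatBC.isGE_FD (Dual.inD A I) 0
  -- vanishing downstairs
  have hA : ∀ (M : Type u) [AddCommGroup M] [Module A M] (j : ℤ), 0 < j →
      Subsingleton (DualCx.Devissage.E M (Dual.inD A I) j) := fun M _ _ j hj => by
    obtain ⟨k, rfl⟩ : ∃ k : ℕ, j = (k + 1 : ℕ) := ⟨(j - 1).toNat, by omega⟩
    have : CategoryTheory.Injective (ModuleCat.of A I) := Module.injective_object_of_injective_module A I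
    have : Subsingleton (CategoryTheory.Abelian.Ext.{u} (ModuleCat.of A M) (ModuleCat.of A I) (k + 1)) :=
      subsingleton_of_forall_eq 0 fun e => CategoryTheory.Abelian.Ext.eq_zero_of_injective e
    exact (DualCx.Gorenstein.extEquiv M I (k + 1)).symm.toEquiv.subsingleton
  -- vanishing at primes
  have hp : ∀ (Q : Ideal B), Q.IsPrime → ∀ i : ℤ, 0 < i →
      Subsingleton (DualCx.Devissage.E (B ⧸ Q) K i) := by
    intro Q
    induction Q using WellFoundedGT.induction with
    | ind Q ih =>
    intro hQ i hi
    -- multiplication by elements outside `Q` is injective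
    have hreg : ∀ x ∉ Q, ∀ e : DualCx.Devissage.E (B ⧸ Q) K i, x • e = 0 → e = 0 := fun x hx e he => by
      have hinj : Function.Injective (x • LinearMap.id : B ⧸ Q →ₗ[B] B ⧸ Q) := fun y z hyz => by
        obtain ⟨y, rfl⟩ := Submodule.Quotient.mk_surjective Q y
        obtain ⟨z, rfl⟩ := Submodule.Quotient.mk_surjective Q z
        change Submodule.Quotient.mk (x • y) = Submodule.Quotient.mk (x • z) at hyz
        rw [Submodule.Quotient.eq, smul_eq_mul, smul_eq_mul, ← mul_sub] at hyz
        exact (Submodule.Quotient.eq Q).mpr ((hQ.mem_or_mem hyz).resolve_left hx)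
      let f : B ⧸ Q →ₗ[B] B ⧸ Q := x • LinearMap.id
      have hQ' : Subsingleton (DualCx.Devissage.E ((B ⧸ Q) ⧸ LinearMap.range f) K i) := by
        refine DualCx.Criterion.subsingleton_of_primes _ _ fun r hr => ih r.1 ?_ r.2 i hi
        refine lt_of_le_of_ne (fun b hb => hr (Module.mem_annihilator.mpr fun y => ?_)) fun h => hx (h ▸
          hr (Module.mem_annihilator.mpr fun y => ?_))
        · obtain ⟨y, rfl⟩ := Submodule.Quotient.mk_surjective _ y
          obtain ⟨y, rfl⟩ := Submodule.Quotient.mk_surjective Q y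
          rw [← Submodule.Quotient.mk_smul, ← Submodule.Quotient.mk_smul, smul_eq_mul,
            (Submodule.Quotient.mk_eq_zero Q).mpr (Ideal.mul_mem_right y _ hb), Submodule.Quotient.mk_zero]
        · obtain ⟨y, rfl⟩ := Submodule.Quotient.mk_surjective _ y
          rw [← Submodule.Quotient.mk_smul, Submodule.Quotient.mk_eq_zero]
          exact ⟨y, rfl⟩
      have h1 : DualCx.Devissage.pre f K i e = 0 := by
        rw [DualCx.Devissage.pre_smul, DualCx.Devissage.pre_id]; exact he
      obtain ⟨w, rfl⟩ := (DualCx.Devissage.exact_mid (K := K) hinj (Submodule.mkQ_surjective _)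
        (LinearMap.exact_map_mkQ_range f) i e).mp h1
      rw [Subsingleton.elim (α := DualCx.Devissage.E ((B ⧸ Q) ⧸ LinearMap.range f) K i) w 0, map_zero]
    let p : Ideal A := Q.comap (algebraMap A B)
    let J : Ideal B := p.map (algebraMap A B)
    have hJQ : J ≤ Q := Ideal.map_comap_le
    -- an element carrying `Q` into `J`
    obtain ⟨u, hu, hum⟩ : ∃ u, u ∉ Q ∧ ∀ z ∈ Q, u * z ∈ J := by
      obtain ⟨t, ht⟩ := (IsNoetherian.noetherian Q : Q.FG)
      have hpt : ∀ z : B, z ∈ Q → ∃ c, c ∉ Q ∧ c * z ∈ J := fun z hz => by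
        have h1 : algebraMap B (Localization.AtPrime Q) z ∈ J.map (algebraMap B (Localization.AtPrime Q)) :=
          (h ⟨Q, hQ⟩).symm ▸
            (IsLocalization.AtPrime.to_map_mem_maximal_iff (Localization.AtPrime Q) Q z).mpr hz
        obtain ⟨c, hc, hcz⟩ := (IsLocalization.algebraMap_mem_map_algebraMap_iff Q.primeCompl
          (Localization.AtPrime Q) J z).mp h1
        exact ⟨c, hc, hcz⟩
      choose c hc hcz using hpt
      have ht' : ∀ z ∈ t, z ∈ Q := fun z hz => ht ▸ Ideal.subset_span hz
      refine ⟨∏ z ∈ t.attach, c z.1 (ht' _ z.2), fun h => ?_, fun z hz => ?_⟩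
      · obtain ⟨z, -, hz⟩ := Ideal.IsPrime.prod_mem_iff.mp h
        exact hc _ _ hz
      · rw [← ht] at hz
        induction hz using Submodule.span_induction with
        | mem z hz =>
          rw [← Finset.prod_erase_mul _ _ (Finset.mem_attach t ⟨z, hz⟩), mul_assoc]
          exact Ideal.mul_mem_left _ _ (hcz z _)
        | zero => simp
        | add y z _ _ hy hz => rw [mul_add]; exact Ideal.add_mem _ hy hz
        | smul b z _ hz => rw [mul_smul_comm]; exact Submodule.smul_mem _ b hz
    obtain ⟨eq⟩ := DualCx.FlatBC.nonempty_quotient (B := B) p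
    have := hA (A ⧸ p) i hi
    have hJ : Subsingleton (DualCx.Devissage.E (B ⧸ J) K i) :=
      DualCx.FlatBC.subsingleton_of_base (Dual.inD A I) 0 (A ⧸ p) _ eq i this
    let π : B ⧸ J →ₗ[B] B ⧸ Q := Submodule.mapQ J Q LinearMap.id hJQ
    have hπ : Function.Surjective π := fun z => by
      obtain ⟨z, rfl⟩ := Submodule.Quotient.mk_surjective _ z
      exact ⟨Submodule.Quotient.mk z, rfl⟩
    have hkill : ∀ w : DualCx.Devissage.E (LinearMap.ker π) K (i - 1), u • w = 0 := fun w => by
      have h0 : u • (LinearMap.id : LinearMap.ker π →ₗ[B] _) = (0 : B) • LinearMap.id := by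
        refine LinearMap.ext fun z => ?_
        obtain ⟨z, hz⟩ := z
        obtain ⟨y, rfl⟩ := Submodule.Quotient.mk_surjective _ z
        refine Subtype.ext ?_
        change Submodule.Quotient.mk (p := J) (u • y) = ((0 : B) • Submodule.Quotient.mk (p := J) y)
        rw [zero_smul, Submodule.Quotient.mk_eq_zero]
        exact hum y ((Submodule.Quotient.mk_eq_zero Q).mp hz)
      rw [← DualCx.Devissage.pre_id (i - 1) w, ← DualCx.Devissage.pre_smul, h0,
        DualCx.Devissage.pre_smul, zero_smul]
    refine subsingleton_of_forall_eq 0 fun e => hreg u hu e ?_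
    let hS := (DualCx.Devissage.sc_shortExact (Submodule.injective_subtype _) hπ
      (LinearMap.exact_subtype_ker_map π)).singleTriangle_distinguished
    obtain ⟨w, rfl⟩ := (DualCx.Hom.exact_cδ_pre B K hS (i - 1) i (by omega) e).mp
      (Subsingleton.elim (α := DualCx.Devissage.E (B ⧸ J) K i) _ _)
    exact (map_smul (DualCx.Hom.cδ B _ K (i - 1) i (by omega)) u w).symm.trans
      ((congrArg _ (hkill w)).trans (map_zero _))
  have hall : ∀ (M : Type u) [AddCommGroup M] [Module B M] (i : ℤ), 0 < i →
      Subsingleton (DualCx.Devissage.E M K i) := fun M _ _ i hi =>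
    DualCx.Amplitude.subsingleton_E_of_cyclic 0 0 (fun j hj J =>
      DualCx.Criterion.subsingleton_of_primes _ _ fun r _ => hp r.1 r.2 j hj) M i hi
  have : CategoryTheory.Injective (ModuleCat.of B (B ⊗[A] I)) := by
    rw [CategoryTheory.injective_iff_hasInjectiveDimensionLT_one]
    refine CategoryTheory.HasInjectiveDimensionLT.mk.{u} fun j hj Y e => ?_
    have := hall Y (j : ℤ) (by omega)
    have : Subsingleton (DualCx.Devissage.E Y (Dual.inD B (B ⊗[A] I)) (j : ℤ)) :=
      ((DualCx.Hom.congr B (CategoryTheory.Iso.refl _) ((CategoryTheory.shiftFunctor (Dual.D B) (j : ℤ)).mapIso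
        (DualCx.FlatBC.FDinD (A := A) (B := B) I)))).symm.toEquiv.subsingleton
    exact (DualCx.Gorenstein.extEquiv Y (B ⊗[A] I) j).injective
      (Subsingleton.elim (α := DualCx.Devissage.E Y (Dual.inD B (B ⊗[A] I)) (j : ℤ)) _ _)
  exact Module.injective_module_of_injective_object B (B ⊗[A] I)

end Groth.Agent.S1745
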