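import Groth.Statements.S17451
import Groth.Agent.GrpScheme.CharKernel
import Groth.Agent.GrpScheme.AVComm
import Groth.Agent.GrpScheme.Ext
import Groth.Agent.Cube.Connected
import Groth.Agent.Borel50.Lin.TorusSch
import Groth.Agent.Borel50.BaseChange
-- import your own Groth.Agent.* helpers here

set_option autoImplicit false
set_option backward.isDefEq.respectTransparency false
universe u
open CategoryTheory MonoidalCategory CartesianMonoidalCategory MonObj GrpObj AlgebraicGeometry CategoryTheory.Limits
open AlgGrp

namespace Groth.Agent.S17451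

open GrpScheme.CharSplit GrpScheme.CharKernel Groth.Agent.RedPts
attribute [local instance] Borel50.Lin.ptTop

/-- Over an algebraically closed field an extension of an abelian variety by a torus is commutative. -/
theorem isCommMonObj_of_ext (k : Type u) [Field k] [IsAlgClosed k]
    (E : Over (Spec (CommRingCat.of k))) [GrpObj E] [Smooth E.hom] [QuasiCompact E.hom] [ConnectedSpace E.left]
    (T : Over (Spec (CommRingCat.of k))) [GrpObj T] (i : T ⟶ E) (A : Over (Spec (CommRingCat.of k))) [GrpObj A] (q : E ⟶ A)
    [IsMonHom i] [IsClosedImmersion i.left] (hT : Red.IsTorus T) [IsMonHom q]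
    (hker : AlgGrp.IsKernel i q) [IsProper A.hom] [Smooth A.hom] [ConnectedSpace A.left] :
    IsCommMonObj E := by
  have : IsReduced A.left := GrpScheme.HomFlat.isReduced_of_smooth A.hom
  have : IsReduced E.left := GrpScheme.HomFlat.isReduced_of_smooth E.hom
  have : IsIntegral A.left := GrpScheme.Rosenlicht.isIntegral_group A
  have : IsIntegral E.left := GrpScheme.Rosenlicht.isIntegral_group E
  have : GeometricallyIntegral A.hom := Cube.geometricallyIntegral_of_isAlgClosed A.hom
  have : IsCommMonObj A := GrpScheme.AVComm.isCommMonObj A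
  have hAc : ∀ {X : Over (Spec (CommRingCat.of k))} (x y : X ⟶ A), x * y = y * x := fun {X} x y =>
    ((isCommMonObj_iff_isMulCommutative A).1 inferInstance X).is_comm.comm x y
  -- the commutator lands in the torus
  let c : E ⊗ E ⟶ E := fst E E * snd E E * (fst E E)⁻¹ * (snd E E)⁻¹
  have hcq : c ≫ q = 1 := by
    show (fst E E * snd E E * (fst E E)⁻¹ * (snd E E)⁻¹) ≫ q = 1
    rw [MonObj.mul_comp, MonObj.mul_comp, MonObj.mul_comp, GrpObj.inv_comp, GrpObj.inv_comp,
      hAc (fst E E ≫ q), mul_inv_cancel_right, mul_inv_cancel]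
  obtain ⟨c', hc'⟩ := GrpdLib.GrpOver.kernel_factor hker c hcq
  -- split the torus
  obtain ⟨haff, hlft, hint, hsm, hcomm, hd⟩ := Borel50.Lin.TorusSch.torus_facts hT
  have : QuasiCompact T.hom := inferInstance
  have hD : DenseSet (Tor T) := by
    intro U hU
    obtain ⟨x, hx⟩ := exists_pt_mem U.2.isLocallyClosed hU
    have ho : IsOpen {y : Pt T | cpt y ∈ U} := isOpen_induced U.2
    obtain ⟨y, hy, hy'⟩ := mem_closure_iff.1 (hd.ge (Set.mem_univ x)) _ ho hx
    exact ⟨y, hy', hy⟩
  have hic : Mono i := (Over.forget _).mono_of_mono_map (inferInstanceAs (Mono i.left))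
  have : IsCommMonObj T := by
    have : IsReduced (T ⊗ T).left := by
      have := GrpScheme.Rosenlicht.isIntegral_tensor T T
      infer_instance
    have : LocallyOfFiniteType (T ⊗ T).hom := by
      show LocallyOfFiniteType (pullback.fst T.hom T.hom ≫ T.hom)
      infer_instance
    refine ⟨?_⟩
    refine ext_of_dense (denseSet_univ (G := T ⊗ T)) fun x _ => ?_
    rw [MonObj.mul_eq_mul, MonObj.comp_mul, braiding_hom_fst, braiding_hom_snd, MonObj.comp_mul,
      MonObj.comp_mul]
    exact hcomm _ _
  obtain ⟨r, T', gT', C, -, φ, hφ, -, -, -, -, -, -, hiso⟩ := exists_basis_chars (G := T)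
  have : IsIso φ := hiso (span_units hD) haff
  have hc1 : c' = 1 := by
    rw [← cancel_mono φ, MonObj.one_comp]
    refine eq_one_of_axes C (1 : Pt E) (1 : Pt E) _ ?_ ?_
    · rw [← Category.assoc]
      suffices h : GrpScheme.Rosenlicht.sliceR E (1 : Pt E) ≫ c' = 1 by rw [h, MonObj.one_comp]
      rw [← cancel_mono i, Category.assoc, hc', MonObj.one_comp]
      simp only [c, GrpScheme.Rosenlicht.sliceR, MonObj.comp_mul, GrpObj.comp_inv, lift_fst, lift_snd, MonObj.comp_one,
        inv_one, _root_.mul_one, mul_inv_cancel]
    · rw [← Category.assoc]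
      suffices h : GrpScheme.Rosenlicht.sliceL E (1 : Pt E) ≫ c' = 1 by rw [h, MonObj.one_comp]
      rw [← cancel_mono i, Category.assoc, hc', MonObj.one_comp]
      simp only [c, GrpScheme.Rosenlicht.sliceL, MonObj.comp_mul, GrpObj.comp_inv, lift_fst, lift_snd, MonObj.comp_one,
        inv_one, _root_.mul_one, _root_.one_mul, mul_inv_cancel]
  have hc0 : c = 1 := by rw [← hc', hc1, MonObj.one_comp]
  refine (isCommMonObj_iff_isMulCommutative E).2 fun X => ⟨⟨fun a b => ?_⟩⟩
  have h := congrArg (lift a b ≫ ·) hc0
  simp only [c, MonObj.comp_mul, GrpObj.comp_inv, lift_fst, lift_snd, MonObj.comp_one] at h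
  exact eq_of_mul_inv_eq_one (by rw [_root_.mul_inv_rev, ← _root_.mul_assoc]; exact h)

/-- Let k be a field with algebraic closure K and G a smooth connected k-group scheme of finite type,
not assumed commutative, whose base change G_K has a torus as a subgroup with an abelian variety as
the quotient: there are a closed subgroup scheme T of G_K which is a torus and a flat surjective
homomorphism from G_K onto a proper smooth connected K-group scheme with kernel T. Then G is
commutative. (The published result also asserts that G then has, over k itself, a unique torus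
subgroup with abelian-variety quotient of this kind; only commutativity is stated here.) -/
theorem result (k : Type u) [Field k]
    (G : Over (Spec (CommRingCat.of k))) [GrpObj G] [Smooth G.hom] [QuasiCompact G.hom] [ConnectedSpace ↥G.left]
    (hK : (∃ (T : Over (Spec (CommRingCat.of (AlgebraicClosure k)))) (_ : GrpObj T) (i : T ⟶ Red.bc (Spec.map (CommRingCat.ofHom (algebraMap k (AlgebraicClosure k)))) G) (A : Over (Spec (CommRingCat.of (AlgebraicClosure k)))) (_ : GrpObj A) (q : Red.bc (Spec.map (CommRingCat.ofHom (algebraMap k (AlgebraicClosure k)))) G ⟶ A),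
        IsMonHom i ∧ IsClosedImmersion i.left ∧ Red.IsTorus T ∧ IsMonHom q ∧ Surjective q.left ∧ Flat q.left ∧
        AlgGrp.IsKernel i q ∧ IsProper A.hom ∧ Smooth A.hom ∧ ConnectedSpace ↥A.left)) :
    IsCommMonObj G := by
  obtain ⟨T, gT, i, A, gA, q, hi, hic, hT, hq, -, -, hker, hAp, hAs, hAc⟩ := hK
  let φ := Spec.map (CommRingCat.ofHom (algebraMap k (AlgebraicClosure k)))
  have : Smooth (Red.bc φ G).hom := inferInstanceAs (Smooth (pullback.snd G.hom φ))
  have : QuasiCompact (Red.bc φ G).hom := inferInstanceAs (QuasiCompact (pullback.snd G.hom φ))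
  have : ConnectedSpace ↥(Red.bc φ G).left := Borel50.BaseChange.connectedSpace_bc φ G
  have hc : IsCommMonObj (Red.bc φ G) := isCommMonObj_of_ext _ _ T i A q hT hker
  have : IsSeparated G.hom := GrpScheme.IdComponent.isSeparated G
  exact GrpScheme.Ext.isCommMonObj_of_baseChange φ G hc

end Groth.Agent.S17451
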