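import Groth.Statements.S17450
import Groth.Agent.S17451
import Groth.Agent.S1842
import Groth.Agent.GrpScheme.KernelPair
import Groth.Agent.GrpScheme.RedIdComponent
import Groth.Agent.GrpScheme.IdSubgroup
import Groth.Agent.FBase.Dim
import Groth.Agent.GrpArtin.Descend
import Groth.Agent.FpqcDesc.Props
import Groth.Agent.Borel50.BaseChange
-- import your own Groth.Agent.* helpers here

set_option autoImplicit false
set_option backward.isDefEq.respectTransparency false
universe u
open CategoryTheory MonoidalCategory CartesianMonoidalCategory MonObj GrpObj AlgebraicGeometry CategoryTheory.Limits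
open AlgGrp

namespace Groth.Agent.S17450

open GrpScheme.CharSplit GrpScheme.CharKernel GrpScheme.DiagRep Groth.Agent.RedPts GrpScheme.Tangent
open GrpScheme.Rosenlicht (pb pb_cst)
attribute [local instance] Borel50.Lin.ptTop Groth.Agent.SekLib.secAlgebra
attribute [-instance] Groth.Agent.GrpArtin.grpObjBC

section
variable {k : Type u} [Field k] [IsAlgClosed k]

/-- A group with one-point reduced identity component is finite. -/
lemma isFinite_of_subsingleton (P : Over (Spec (CommRingCat.of k))) [GrpObj P] [LocallyOfFiniteType P.hom] [QuasiCompact P.hom]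
    {R : Over (Spec (CommRingCat.of k))} (r : R ⟶ P) [Subsingleton R.left]
    (hr : Set.range r.left = connectedComponent (GrpScheme.IdComponent.e₀ P)) : IsFinite P.hom := by
  let e : P.left := GrpScheme.IdComponent.e₀ P
  have he : IsOpen ({e} : Set P.left) := by
    have : LocallyOfFiniteType (GrpScheme.IdSubgroup.G₀ P).hom := by
      rw [← Over.w (GrpScheme.IdSubgroup.incl P)]; infer_instance
    have : LocallyOfFinitePresentation (GrpScheme.IdSubgroup.incl P).left := GrpdLib.GrpOver.lfp_left _
    have : IsOpenImmersion (GrpScheme.IdSubgroup.incl P).left := IsOpenImmersion.of_flat_of_mono _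
    have h1 := (GrpScheme.IdSubgroup.incl P).left.isOpenEmbedding.isOpen_range
    rw [GrpScheme.IdSubgroup.range_incl, ← hr] at h1
    convert h1
    refine Set.Subset.antisymm (Set.singleton_subset_iff.2 (hr ▸ mem_connectedComponent)) ?_
    rintro _ ⟨x, rfl⟩
    obtain ⟨y, hy⟩ : e ∈ Set.range r.left := hr ▸ mem_connectedComponent
    rw [Set.mem_singleton_iff, ← hy, Subsingleton.elim x y]
  have := LocallyOfFiniteType.jacobsonSpace P.hom
  have he1 : cpt (1 : Pt P) = e := by
    show (1 : Pt P).left _ = η[P].left _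
    rw [Hom.one_def, toUnit_unique (toUnit _) (𝟙 _), Category.id_comp]
  have hopen : ∀ p : Pt P, IsOpen ({cpt p} : Set P.left) := by
    intro p
    let L : P ⟶ P := (toUnit P ≫ p⁻¹) * 𝟙 P
    let U : P.left.Opens := L.left ⁻¹ᵁ ⟨{e}, he⟩
    have hL : ∀ p' : Pt P, p' ≫ L = p⁻¹ * p' := fun p' => by
      rw [MonObj.comp_mul, Category.comp_id, ← Category.assoc, toUnit_unique (p' ≫ toUnit P) (𝟙 _),
        Category.id_comp]
    have hU : ∀ p' : Pt P, cpt p' ∈ U → p' = p := fun p' h => by
      have h' : cpt (p' ≫ L) = cpt (1 : Pt P) := by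
        rw [he1, cpt, Over.comp_left, Scheme.Hom.comp_apply]
        exact h
      exact (inv_mul_eq_one.1 ((hL p').symm.trans (pt_ext h'))).symm
    have hpU : cpt p ∈ U := by
      change L.left (p.left _) = e
      rw [← Scheme.Hom.comp_apply, ← Over.comp_left, hL, inv_mul_cancel]
      exact he1
    have : (U : Set P.left) = {cpt p} := by
      refine Set.Subset.antisymm (fun z hz => ?_) (Set.singleton_subset_iff.2 hpU)
      by_contra hne
      obtain ⟨p', hp'⟩ := exists_pt_mem (G := P) (U := (U : Set P.left) ∩ {cpt p}ᶜ)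
        (U.2.inter (isClosed_cpt p).isOpen_compl).isLocallyClosed ⟨z, hz, hne⟩
      exact hp'.2 (congrArg cpt (hU p' hp'.1))
    exact this ▸ U.2
  have hall : ∀ z : P.left, ∃ p : Pt P, cpt p = z := by
    intro z
    by_contra hz
    push Not at hz
    obtain ⟨p, hp⟩ := exists_pt_mem (G := P) (U := (⋃ p : Pt P, {cpt p})ᶜ)
      (isOpen_iUnion hopen).isClosed_compl.isLocallyClosed ⟨z, by simpa [eq_comm] using hz⟩
    exact hp (Set.mem_iUnion.2 ⟨p, rfl⟩)
  have : DiscreteTopology P.left := discreteTopology_iff_isOpen_singleton.2 fun z => by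
    obtain ⟨p, rfl⟩ := hall z
    exact hopen p
  have : CompactSpace P.left := (quasiCompact_iff_compactSpace P.hom).1 inferInstance
  have : Finite P.left := finite_of_compact_of_discrete
  have : LocallyQuasiFinite P.hom := locallyQuasiFinite_iff_isDiscrete_preimage_singleton.2 fun x => ⟨inferInstance⟩
  have : IsSeparated P.hom := GrpScheme.IdComponent.isSeparated P
  exact IsFinite.of_locallyQuasiFinite P.hom

/-- Without torsion of prime order, a connected closed subgroup of a torus is a point. -/
lemma subsingleton_of_torus {T : Over (Spec (CommRingCat.of k))} [GrpObj T] (hT : Red.IsTorus T)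
    {M : Over (Spec (CommRingCat.of k))} [GrpObj M] [Smooth M.hom] [ConnectedSpace M.left] [QuasiCompact M.hom]
    (i : M ⟶ T) [IsMonHom i] [IsClosedImmersion i.left] (ℓ : ℕ) (hℓ : ℓ.Prime)
    (htors : ∀ (Y : Over (Spec (CommRingCat.of k))) (h : Y ⟶ M), h ^ ℓ = 1 → h = 1) : Subsingleton M.left := by
  obtain ⟨haff, hlft, hint, hsm, hcomm, hd⟩ := Borel50.Lin.TorusSch.torus_facts hT
  have : IsAffine M.left := isAffine_of_isAffineHom i.left
  have : IsReduced M.left := GrpScheme.HomFlat.isReduced_of_smooth M.hom
  have : IsIntegral M.left := GrpScheme.Rosenlicht.isIntegral_group M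
  have : QuasiCompact T.hom := inferInstance
  have hD : DenseSet (Tor T) := by
    intro U hU
    obtain ⟨x, hx⟩ := exists_pt_mem U.2.isLocallyClosed hU
    have ho : IsOpen {y : Pt T | cpt y ∈ U} := isOpen_induced U.2
    obtain ⟨y, hy, hy'⟩ := mem_closure_iff.1 (hd.ge (Set.mem_univ x)) _ ho hx
    exact ⟨y, hy', hy⟩
  have : IsCommMonObj T := by
    have : IsReduced (T ⊗ T).left := by
      have := GrpScheme.Rosenlicht.isIntegral_tensor T T
      infer_instance
    have : LocallyOfFiniteType (T ⊗ T).hom := by
      show LocallyOfFiniteType (pullback.fst T.hom T.hom ≫ T.hom)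
      infer_instance
    refine ⟨?_⟩
    refine ext_of_dense (denseSet_univ (G := T ⊗ T)) fun x _ => ?_
    rw [MonObj.mul_eq_mul, MonObj.comp_mul, braiding_hom_fst, braiding_hom_snd, MonObj.comp_mul,
      MonObj.comp_mul]
    exact hcomm _ _
  obtain ⟨r, T', gT', C, -, φ, hφ, -, -, -, -, -, -, hiso⟩ := exists_basis_chars (G := M)
  have hspan : ∀ a, a ∈ Submodule.span k {b : Γ(M.left, ⊤) | IsUnit b} := by
    intro a
    obtain ⟨b, rfl⟩ := (IsClosedImmersion.isAffine_surjective_of_isAffine i.left).2 a
    refine Submodule.span_induction (fun u hu => Submodule.subset_span (hu.map i.left.appTop.hom)) ?_ ?_ ?_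
      (span_units hD b)
    · rw [map_zero]; exact zero_mem _
    · intro x y _ _ hx hy; rw [map_add]; exact add_mem hx hy
    · intro c x _ hx
      rw [Algebra.smul_def, map_mul]
      have : i.left.appTop.hom (algebraMap k _ c) = algebraMap k _ c := pb_cst i c
      rw [this, ← Algebra.smul_def]
      exact Submodule.smul_mem _ c hx
  have : IsIso φ := hiso hspan inferInstance
  rcases Nat.eq_zero_or_pos r with hr | hr
  · subst hr
    have h1 : 𝟙 M = 1 := by
      rw [← cancel_mono φ]
      exact C.θ_ext fun m => by rw [Subsingleton.elim m 0, C.θ_zero, C.θ_zero]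
    refine ⟨fun x y => ?_⟩
    have hc : ∀ z : M.left, z = η[M].left (M.hom z) := fun z => by
      conv_lhs => rw [show z = (𝟙 M : M ⟶ M).left z from rfl, h1, Hom.one_def, Over.comp_left, Scheme.Hom.comp_apply]
      rfl
    rw [hc x, hc y]
    exact congrArg η[M].left (Subsingleton.elim (α := PrimeSpectrum k) _ _)
  · exfalso
    let A := MonoidAlgebra k (Multiplicative (ZMod ℓ))
    let i₀ : Fin r := ⟨0, hr⟩
    let f : Multiplicative (Fin r → ℤ) →* Γ((TSpec (K := k) A).left, ⊤) :=
      ((ev (F := k) A).toRingEquiv.toRingHom.toMonoidHom.comp (MonoidAlgebra.of k (Multiplicative (ZMod ℓ)))).comp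
        (AddMonoidHom.toMultiplicative ((Int.castAddHom (ZMod ℓ)).comp (Pi.evalAddMonoidHom (fun _ : Fin r => ℤ) i₀)))
    obtain ⟨y, hy⟩ := C.θ_exists f
    let h := y ≫ inv φ
    have hh : h ^ ℓ = 1 := by
      rw [← cancel_mono φ, MonObj.pow_comp, MonObj.one_comp, Category.assoc, IsIso.inv_hom_id, Category.comp_id]
      refine C.θ_ext fun m => ?_
      rw [θ_pow, hy, θ_one, ← map_pow, show (Multiplicative.ofAdd m) ^ ℓ = Multiplicative.ofAdd (ℓ • m) from rfl]
      simp [f]
    have := congrArg (fun w => C.θ (w ≫ φ) (Pi.single i₀ 1)) (htors _ h hh)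
    simp only [h, Category.assoc, IsIso.inv_hom_id, Category.comp_id, MonObj.one_comp, θ_one, hy] at this
    have hf' : Fact (1 < ℓ) := ⟨hℓ.one_lt⟩
    refine one_ne_zero (α := ZMod ℓ) (Multiplicative.ofAdd.injective (MonoidAlgebra.of_injective (R := k) ?_))
    rw [show Multiplicative.ofAdd (0 : ZMod ℓ) = 1 from rfl, map_one (MonoidAlgebra.of k (Multiplicative (ZMod ℓ)))]
    simp [f] at this
    exact this

/-- Over an algebraically closed field. -/
theorem isFinite_of_ext (E : Over (Spec (CommRingCat.of k))) [GrpObj E] [Smooth E.hom] [QuasiCompact E.hom] [ConnectedSpace E.left]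
    (T : Over (Spec (CommRingCat.of k))) [GrpObj T] (i : T ⟶ E) (A : Over (Spec (CommRingCat.of k))) [GrpObj A] (q : E ⟶ A)
    [IsMonHom i] [IsClosedImmersion i.left] (hT : Red.IsTorus T) [IsMonHom q]
    (hker : AlgGrp.IsKernel i q) [IsProper A.hom] [Smooth A.hom] [ConnectedSpace A.left]
    (H : Over (Spec (CommRingCat.of k))) [GrpObj H] (j : H ⟶ E) [IsMonHom j] [IsClosedImmersion j.left]
    (ℓ : ℕ) (hℓ : ℓ.Prime)
    (htors : ∀ (Y : Over (Spec (CommRingCat.of k))) (h : Y ⟶ H), h ^ ℓ = 1 → h = 1) : IsFinite H.hom := by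
  have hcE : IsCommMonObj E := S17451.isCommMonObj_of_ext k E T i A q hT hker
  have : LocallyOfFiniteType H.hom := by rw [← Over.w j]; infer_instance
  have : QuasiCompact H.hom := by rw [← Over.w j]; infer_instance
  obtain ⟨R, gR, r, hrm, hrc, hRs, hRc, hRq, hrr, -⟩ := GrpScheme.RedIdComponent.exists_reduced_idComponent_range H
  suffices Subsingleton R.left from isFinite_of_subsingleton H r hrr
  let a : R ⟶ E := r ≫ j
  have : IsClosedImmersion a.left := by rw [show a.left = r.left ≫ j.left from rfl]; infer_instance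
  have : Mono a := Over.mono_of_mono_left a
  have hmono : Mono r := Over.mono_of_mono_left r
  have htR : ∀ (Y : Over (Spec (CommRingCat.of k))) (h : Y ⟶ R), h ^ ℓ = 1 → h = 1 := fun Y h hh => by
    rw [← cancel_mono r, MonObj.one_comp]
    exact htors Y _ (by rw [← MonObj.pow_comp, hh, MonObj.one_comp])
  have hRcomm : ∀ {X : Over (Spec (CommRingCat.of k))} (x y : X ⟶ R), x * y = y * x := fun {X} x y => by
    rw [← cancel_mono a, MonObj.mul_comp, MonObj.mul_comp]
    exact ((isCommMonObj_iff_isMulCommutative E).1 hcE X).is_comm.comm _ _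
  have : IsReduced R.left := GrpScheme.HomFlat.isReduced_of_smooth R.hom
  have : IsIntegral R.left := GrpScheme.Rosenlicht.isIntegral_group R
  obtain ⟨M, gM, iM, hiM, hMker⟩ := GrpScheme.AffineHom.exists_kernel (a ≫ q)
  have : IsSeparated A.hom := inferInstance
  have hηA : IsClosedImmersion η[A].left := by
    have : IsClosedImmersion (η[A].left ≫ A.hom) := by
      rw [Over.w η[A]]; exact inferInstanceAs (IsClosedImmersion (𝟙 _))
    exact IsClosedImmersion.of_comp η[A].left A.hom
  have : IsClosedImmersion iM.left :=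
    MorphismProperty.of_isPullback (GrpdLib.GrpOver.isPullback_left hMker).flip hηA
  have : Mono iM := Over.mono_of_mono_left iM
  have : LocallyOfFiniteType M.hom := by rw [← Over.w iM]; infer_instance
  have : QuasiCompact M.hom := by rw [← Over.w iM]; infer_instance
  -- the kernel is finite, being in the torus
  obtain ⟨iT, hiT⟩ := GrpdLib.GrpOver.kernel_factor hker (iM ≫ a) (by
    rw [Category.assoc, hMker.w, Hom.one_def])
  have : Mono i := Over.mono_of_mono_left i
  have : IsMonHom iT :=
    { one_hom := by rw [← cancel_mono i, Category.assoc, hiT, IsMonHom.one_hom, IsMonHom.one_hom]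
      mul_hom := by rw [← cancel_mono i, Category.assoc, hiT, IsMonHom.mul_hom, Category.assoc,
        IsMonHom.mul_hom, tensorHom_comp_tensorHom_assoc, hiT] }
  have : IsClosedImmersion iT.left := by
    have : IsClosedImmersion (iT.left ≫ i.left) := by rw [← Over.comp_left, hiT, Over.comp_left]; infer_instance
    exact IsClosedImmersion.of_comp iT.left i.left
  have hMfin : IsFinite M.hom := by
    obtain ⟨M₀, gM₀, m, hmm, hmc, hMs, hMc, hMq, hmr, -⟩ := GrpScheme.RedIdComponent.exists_reduced_idComponent_range M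
    have hmim : Mono (m ≫ iM) := by
      have : Mono m := Over.mono_of_mono_left m
      infer_instance
    have : IsClosedImmersion (m ≫ iT).left := by rw [Over.comp_left]; infer_instance
    have : Subsingleton M₀.left := subsingleton_of_torus hT (m ≫ iT) ℓ hℓ fun Y h hh => by
      rw [← cancel_mono (m ≫ iM), MonObj.one_comp]
      exact htR Y _ (by rw [← MonObj.pow_comp, hh, MonObj.one_comp])
    exact isFinite_of_subsingleton M m hmr
  -- so the group is an abelian variety
  have hRp : IsProper R.hom := by
    obtain ⟨X, gX, π, hπm, hπk, hπf, hπs, hXl, hXq, hXi, -, -, hdesc⟩ := exists_quot iM (fun Y g n =>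
      ⟨n, by rw [hRcomm g, mul_inv_cancel_right]⟩)
    obtain ⟨χ, hχm, hχ⟩ := hdesc A (a ≫ q) inferInstance (by rw [hMker.w, Hom.one_def])
    have : Mono χ := by
      refine ⟨fun {Y} u v huv => ?_⟩
      have : QuasiCompact π.left := GrpdLib.GrpOver.quasiCompact_left π
      obtain ⟨Y₁, c₁, u₁, hc1f, hc1s, hc1q, hc1e, hu⟩ := GrpdLib.GrpOver.exists_lift π u
      obtain ⟨Y₂, c₂, v₂, hc2f, hc2s, hc2q, hc2e, hv⟩ := GrpdLib.GrpOver.exists_lift π (c₁ ≫ v)
      refine GrpdLib.GrpOver.cancel_left c₁ (GrpdLib.GrpOver.cancel_left c₂ ?_)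
      rw [← hv, ← hu, ← Category.assoc]
      obtain ⟨z, hz⟩ := GrpdLib.GrpOver.kernel_factor hMker ((c₂ ≫ u₁) * v₂⁻¹) (by
        rw [← hχ, ← Category.assoc, MonObj.mul_comp, GrpObj.inv_comp, Category.assoc, hu, hv, MonObj.mul_comp,
          GrpObj.inv_comp, Category.assoc, Category.assoc, Category.assoc, Category.assoc, huv, mul_inv_cancel])
      have := congrArg (· ≫ π) hz
      rw [MonObj.mul_comp, GrpObj.inv_comp, Category.assoc, hπk.w, ← Hom.one_def, MonObj.comp_one] at this
      exact mul_inv_eq_one.1 this.symm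
    have : QuasiCompact χ.left := GrpdLib.GrpOver.quasiCompact_left χ
    have : IsClosedImmersion χ.left := GrpArtin.Descend.isClosedImmersion_of_mono χ
    have : QuasiCompact π.left := by
      have : QuasiCompact (π.left ≫ X.hom) := by rw [Over.w π]; infer_instance
      have : IsSeparated X.hom := GrpScheme.IdComponent.isSeparated X
      exact QuasiCompact.of_comp π.left X.hom
    haveI : MorphismProperty.DescendsAlong @IsFinite FpqcDesc.FPQC.{u} := FpqcDesc.descendsAlong_isFinite
    have : IsFinite π.left := GrpScheme.KernelPair.mem_of_kernel hπk @IsFinite FpqcDesc.FPQC.{u}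
      ⟨⟨hπs, hπf⟩, inferInstance⟩ hMfin
    rw [← Over.w (a ≫ q), ← hχ, Over.comp_left, Category.assoc]
    infer_instance
  have : GeometricallyIntegral R.hom := Cube.geometricallyIntegral_of_isAlgClosed R.hom
  obtain ⟨g, hg⟩ := FBase.Dim.exists_natCast_eq_topDim R.hom
  obtain ⟨hf, hfl, hrank⟩ := S1842.result k R g hg (ℓ : ℤ) (by exact_mod_cast hℓ.ne_zero)
  rw [zpow_natCast] at hf hfl hrank
  simp only [Int.natAbs_natCast] at hrank
  let f : R ⟶ R := 𝟙 R ^ ℓ
  have : Mono f := by
    refine ⟨fun {Y} u v huv => ?_⟩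
    rw [MonObj.comp_pow, MonObj.comp_pow, Category.comp_id, Category.comp_id] at huv
    have := htR Y (u * v⁻¹) (by
      rw [(show Commute u v⁻¹ from hRcomm u v⁻¹).mul_pow, inv_pow, huv, mul_inv_cancel])
    exact mul_inv_eq_one.1 this
  have : LocallyOfFinitePresentation f.left := GrpdLib.GrpOver.lfp_left f
  have : Mono f.left := inferInstance
  have : IsOpenImmersion f.left := IsOpenImmersion.of_flat_of_mono _
  have hx : Surjective f.left := ⟨fun y => by
    have := (GrpScheme.AVPow.isFinite_surjective_pow (A := R) (n := ℓ) hℓ.one_le).2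
    exact this.surj y⟩
  have : IsIso f.left := (isIso_iff_isOpenImmersion_and_epi_base f.left).2 ⟨inferInstance,
    (TopCat.epi_iff_surjective _).2 hx.surj⟩
  have h1 := hrank (genericPoint R.left)
  rw [Scheme.Hom.finrank_eq_one_of_isIso] at h1
  have hg0 : g = 0 := by
    by_contra hne
    exact (Nat.one_lt_pow (by omega) hℓ.one_lt).ne' h1.symm
  subst hg0
  have hgen : ∀ x : R.left, x = genericPoint R.left := fun x => by
    have hd : Order.krullDim (TopologicalSpace.IrreducibleCloseds R.left) ≤ 0 := hg.le
    let Z : TopologicalSpace.IrreducibleCloseds R.left := ⟨closure {x}, isIrreducible_singleton.closure, isClosed_closure⟩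
    let W : TopologicalSpace.IrreducibleCloseds R.left := ⟨Set.univ, IrreducibleSpace.isIrreducible_univ _, isClosed_univ⟩
    have hZW : Z = W := (Order.krullDim_nonpos_iff_forall_isMax.1 hd Z).eq_of_le (fun z _ => trivial)
    exact IsGenericPoint.eq (show IsGenericPoint x Set.univ from congrArg (fun V : TopologicalSpace.IrreducibleCloseds R.left => (V : Set R.left)) hZW) (genericPoint_spec R.left)
  exact ⟨fun x y => (hgen x).trans (hgen y).symm⟩

end

lemma map_pow_bc {S S' : Scheme.{u}} (φ : S' ⟶ S) {X H : Over S} [GrpObj H] (h : X ⟶ H) (n : ℕ) :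
    (Over.pullback φ).map (h ^ n) = (Over.pullback φ).map h ^ n := by
  induction n with
  | zero => rw [pow_zero, pow_zero, Functor.map_one]
  | succ n ih => rw [pow_succ, pow_succ, Functor.map_mul, ih]

/-- Let k be a field with algebraic closure K and G a semi-abelian variety over k, that is, a smooth
connected commutative k-group scheme of finite type whose base change to K is an extension of an
abelian variety by a torus (there are a closed subgroup scheme T of G_K which is a torus and a flat
surjective homomorphism from G_K onto a proper smooth connected K-group scheme with kernel T). Let H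
be a closed subgroup scheme of G and ℓ a prime number such that the ℓ-torsion subgroup scheme H[ℓ]
is trivial: every point h of H with values in any k-scheme satisfying h^ℓ = 1 is the unit. Then H is
finite over k. -/
theorem result (k : Type u) [Field k]
    (G : Over (Spec (CommRingCat.of k))) [GrpObj G] [IsCommMonObj G] [Smooth G.hom] [QuasiCompact G.hom]
    [ConnectedSpace ↥G.left]
    (hK : (∃ (T : Over (Spec (CommRingCat.of (AlgebraicClosure k)))) (_ : GrpObj T) (i : T ⟶ Red.bc (Spec.map (CommRingCat.ofHom (algebraMap k (AlgebraicClosure k)))) G) (A : Over (Spec (CommRingCat.of (AlgebraicClosure k)))) (_ : GrpObj A) (q : Red.bc (Spec.map (CommRingCat.ofHom (algebraMap k (AlgebraicClosure k)))) G ⟶ A),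
        IsMonHom i ∧ IsClosedImmersion i.left ∧ Red.IsTorus T ∧ IsMonHom q ∧ Surjective q.left ∧ Flat q.left ∧
        AlgGrp.IsKernel i q ∧ IsProper A.hom ∧ Smooth A.hom ∧ ConnectedSpace ↥A.left))
    (H : Over (Spec (CommRingCat.of k))) [GrpObj H] (j : H ⟶ G) [IsMonHom j] [IsClosedImmersion j.left]
    (ℓ : ℕ) (hℓ : ℓ.Prime)
    (htors : ∀ (Y : Over (Spec (CommRingCat.of k))) (h : Y ⟶ H), h ^ ℓ = 1 → h = 1) :
    IsFinite H.hom := by
  obtain ⟨T, gT, i, A, gA, q, hi, hic, hT, hq, -, -, hker, hAp, hAs, hAc⟩ := hK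
  let φ := Spec.map (CommRingCat.ofHom (algebraMap k (AlgebraicClosure k)))
  have : Smooth (Red.bc φ G).hom := inferInstanceAs (Smooth (pullback.snd G.hom φ))
  have : QuasiCompact (Red.bc φ G).hom := inferInstanceAs (QuasiCompact (pullback.snd G.hom φ))
  have : ConnectedSpace ↥(Red.bc φ G).left := Borel50.BaseChange.connectedSpace_bc φ G
  have : IsClosedImmersion ((Over.pullback φ).map j).left := LimGrp.property_map @IsClosedImmersion φ j ‹_›
  have hH : IsFinite (Red.bc φ H).hom := isFinite_of_ext (Red.bc φ G) T i A q hT hker (Red.bc φ H)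
    ((Over.pullback φ).map j) ℓ hℓ fun Y h hh => by
      obtain ⟨h', rfl⟩ := ((Over.mapPullbackAdj φ).homEquiv Y H).surjective h
      rw [Adjunction.homEquiv_unit] at hh ⊢
      have key : h' ^ ℓ = 1 := by
        apply ((Over.mapPullbackAdj φ).homEquiv Y H).injective
        rw [Adjunction.homEquiv_unit, Adjunction.homEquiv_unit, map_pow_bc, MonObj.comp_pow, hh,
          Functor.map_one, MonObj.comp_one]
      rw [htors _ h' key, Functor.map_one, MonObj.comp_one]
  haveI : MorphismProperty.DescendsAlong @IsFinite FpqcDesc.FPQC.{u} := FpqcDesc.descendsAlong_isFinite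
  have hφ : FpqcDesc.FPQC φ := ⟨⟨Borel50.BaseChange.surjective_g φ, Borel50.BaseChange.flat_g φ⟩, inferInstance⟩
  exact MorphismProperty.of_pullback_snd_of_descendsAlong (P := @IsFinite) hφ hH

end Groth.Agent.S17450
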