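import Groth.Statements.S17454
import Groth.Agent.GrpScheme.AffineToProper

set_option autoImplicit false
universe u
open CategoryTheory MonoidalCategory CartesianMonoidalCategory MonObj GrpObj AlgebraicGeometry CategoryTheory.Limits
open AlgGrp

open Limits Groth.Agent Groth.Agent.GrpScheme Groth.Agent.GrpScheme.AntiAffineProd

namespace Groth.Agent.S17454

set_option backward.isDefEq.respectTransparency false

/-- Let k be a perfect field and f : G' → G a surjective homomorphism of smooth connected k-group
schemes of finite type. Let N' → G' and N → G be Chevalley decompositions: normal closed subgroup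
schemes which are smooth, connected and affine, kernels of flat surjective homomorphisms q' : G' →
A' and q : G → A onto proper smooth connected k-group schemes. Then f maps N' onto N: there is a
homomorphism g : N' → N, compatible with f and the two inclusions, whose underlying map is
surjective; and f induces a homomorphism A' → A compatible with q' and q whose underlying map is
surjective. (The isogeny refinement of the published statement is not stated.) -/
theorem result (k : Type u) [Field k] [PerfectField k]
    (G' G : Over (Spec (CommRingCat.of k))) [GrpObj G'] [GrpObj G]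
    [Smooth G'.hom] [QuasiCompact G'.hom] [ConnectedSpace ↥G'.left]
    [Smooth G.hom] [QuasiCompact G.hom] [ConnectedSpace ↥G.left]
    (f : G' ⟶ G) [IsMonHom f] [Surjective f.left]
    (N' : Over (Spec (CommRingCat.of k))) [GrpObj N'] (i' : N' ⟶ G') [IsMonHom i'] [IsClosedImmersion i'.left]
    [Smooth N'.hom] [ConnectedSpace ↥N'.left] [IsAffine N'.left] (hn' : AlgGrp.IsNormalHom i')
    (A' : Over (Spec (CommRingCat.of k))) [GrpObj A'] (q' : G' ⟶ A') [IsMonHom q'] [Surjective q'.left] [Flat q'.left]
    [IsProper A'.hom] [Smooth A'.hom] [ConnectedSpace ↥A'.left] (hk' : AlgGrp.IsKernel i' q')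
    (N : Over (Spec (CommRingCat.of k))) [GrpObj N] (i : N ⟶ G) [IsMonHom i] [IsClosedImmersion i.left]
    [Smooth N.hom] [ConnectedSpace ↥N.left] [IsAffine N.left] (hn : AlgGrp.IsNormalHom i)
    (A : Over (Spec (CommRingCat.of k))) [GrpObj A] (q : G ⟶ A) [IsMonHom q] [Surjective q.left] [Flat q.left]
    [IsProper A.hom] [Smooth A.hom] [ConnectedSpace ↥A.left] (hk : AlgGrp.IsKernel i q) :
    (∃ g : N' ⟶ N, IsMonHom g ∧ g ≫ i = i' ≫ f ∧ Surjective g.left) ∧
      (∃ h : A' ⟶ A, IsMonHom h ∧ q' ≫ h = f ≫ q ∧ Surjective h.left) := by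
  haveI : IsReduced G.left := HomFlat.isReduced_of_smooth G.hom
  haveI : Flat f.left := HomFlat.flat_of_surjective f
  haveI : IsSeparated G.hom := GrpdLib.GrpOver.isSeparated_hom G
  have cov : ∀ {X Y : Over (Spec (CommRingCat.of k))} (t : X ⟶ Y) [QuasiCompact X.hom] [IsSeparated Y.hom]
      [Flat t.left] [Surjective t.left], UnipLib.Cover t := by
    intro X Y t _ _ _ _
    haveI : QuasiCompact (t.left ≫ Y.hom) := by rw [Over.w t]; infer_instance
    exact ⟨inferInstance, inferInstance, QuasiCompact.of_comp t.left Y.hom⟩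
  have hfc := cov f
  have hq'c := cov q'
  haveI : Mono i := Over.mono_of_mono_left i
  have hNA : i' ≫ f ≫ q = 1 := AffineToProper.eq_one _
  -- the map of abelian parts
  obtain ⟨h, hh⟩ := hq'c.exists_desc (f ≫ q) fun {T} a b hab => by
    obtain ⟨z, hz, -⟩ := hk'.exists_lift (a⁻¹ * b) (toUnit T) (by
      rw [MonObj.mul_comp, GrpObj.inv_comp, hab, inv_mul_cancel, Hom.one_def])
    have e := congrArg (· ≫ (f ≫ q)) hz
    simp only [Category.assoc, hNA, MonObj.comp_one, MonObj.mul_comp, GrpObj.inv_comp] at e
    exact inv_mul_eq_one.mp e.symm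
  haveI : IsMonHom h := hq'c.isMonHom h (by rw [hh]; infer_instance)
  have hhs : Surjective h.left := by
    haveI : Surjective (q'.left ≫ h.left) := by
      rw [← Over.comp_left, hh, Over.comp_left]
      infer_instance
    exact Surjective.of_comp q'.left h.left
  refine ⟨?_, h, inferInstance, hh, hhs⟩
  -- the map of affine parts
  obtain ⟨g, hg, -⟩ := hk.exists_lift (i' ≫ f) (toUnit N') (by rw [Category.assoc, hNA, Hom.one_def])
  haveI hgm : IsMonHom g := WittLib.Basic.isMonHom_of_points _ fun T x y => by
    rw [← cancel_mono i, Category.assoc, hg, MonObj.mul_comp x y (i' ≫ f), MonObj.mul_comp _ _ i,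
      Category.assoc x g, Category.assoc y g, hg]
  refine ⟨g, hgm, hg, ?_⟩
  haveI : QuasiCompact N'.hom := inferInstance
  obtain ⟨Qg, hQg, e, ιg, he, hιg, hec, hιgc, hQgl, hQgq, heg⟩ := exists_image g
  haveI : Mono ιg := Over.mono_of_mono_left ιg
  have hGn : AlgGrp.IsNormalHom (ιg ≫ i) := by
    haveI : Mono (ιg ≫ i) := mono_comp _ _
    exact isNormalHom_image f hfc i' hn' e hec (ιg ≫ i) (by rw [reassoc_of% heg, hg])
  have hnorm : AlgGrp.IsNormalHom ιg := fun T x y => by
    obtain ⟨y', hy'⟩ := hGn T (x ≫ i) y
    refine ⟨y', ?_⟩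
    rw [← cancel_mono i, MonObj.mul_comp _ _ i, MonObj.mul_comp _ _ i, GrpObj.inv_comp, Category.assoc y ιg,
      Category.assoc y', hy']
  obtain ⟨R, hR, π, hπ, hRaff, hRl, hπf, hπs, hπk⟩ :=
    GrpdLib.AffNormalQuot.exists_affine_quotient N Qg ιg hnorm
  -- the inverse image of `N`
  let K := pullback f i
  let a : K ⟶ G' := pullback.fst f i
  let b : K ⟶ N := pullback.snd f i
  have hK : IsPullback a b f i := IsPullback.of_hasPullback f i
  haveI : IsClosedImmersion a.left :=
    MorphismProperty.of_isPullback (P := @IsClosedImmersion) (GrpdLib.GrpOver.isPullback_left hK).flip inferInstance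
  haveI : Surjective b.left :=
    MorphismProperty.of_isPullback (GrpdLib.GrpOver.isPullback_left hK) ‹Surjective f.left›
  -- it covers the kernel of `h`
  let L := pullback h η[A]
  let l : L ⟶ A' := pullback.fst h η[A]
  have hL : IsPullback l (toUnit L) h η[A] := by
    rw [toUnit_unique (toUnit L) (pullback.snd h η[A])]
    exact IsPullback.of_hasPullback h η[A]
  haveI : IsClosedImmersion η[A].left := by
    haveI : IsClosedImmersion (η[A].left ≫ A.hom) := by
      rw [Over.w η[A]]; exact inferInstanceAs (IsClosedImmersion (𝟙 _))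
    exact IsClosedImmersion.of_comp η[A].left A.hom
  haveI : IsClosedImmersion l.left :=
    MorphismProperty.of_isPullback (P := @IsClosedImmersion) (GrpdLib.GrpOver.isPullback_left hL).flip inferInstance
  haveI : IsProper L.hom := by rw [← Over.w l]; infer_instance
  have hKker : IsPullback a (toUnit K) (f ≫ q) η[A] := by
    have h1 := hK.paste_vert hk
    rwa [toUnit_unique (b ≫ toUnit N) (toUnit K)] at h1
  obtain ⟨p, hp, -⟩ := hL.exists_lift (a ≫ q') (toUnit K) (by rw [Category.assoc, hh]; exact hKker.w)
  have hsq : IsPullback a p q' l := by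
    refine IsPullback.of_bot ?_ hp.symm hL
    rw [toUnit_unique (p ≫ toUnit L) (toUnit K), hh]
    exact hKker
  have hpc : UnipLib.Cover p := by
    have hl := GrpdLib.GrpOver.isPullback_left hsq
    exact ⟨MorphismProperty.of_isPullback hl hq'c.flat, MorphismProperty.of_isPullback hl hq'c.surj,
      MorphismProperty.of_isPullback hl hq'c.qc⟩
  haveI : Mono a := Over.mono_of_mono_left a
  obtain ⟨u, hu⟩ := hpc.exists_desc (b ≫ π) fun {T} x y hxy => by
    obtain ⟨z, hz, -⟩ := hk'.exists_lift ((x ≫ a)⁻¹ * (y ≫ a)) (toUnit T) (by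
      rw [MonObj.mul_comp, GrpObj.inv_comp, Category.assoc, Category.assoc, ← hp, reassoc_of% hxy,
        inv_mul_cancel, Hom.one_def])
    have hyb : y ≫ b = (x ≫ b) * (z ≫ g) := by
      rw [← cancel_mono i, MonObj.mul_comp _ _ i, Category.assoc, Category.assoc, Category.assoc, hg, ← hK.w,
        reassoc_of% hz, MonObj.mul_comp _ _ f, GrpObj.inv_comp, Category.assoc, Category.assoc, mul_inv_cancel_left]
    have hgπ : g ≫ π = 1 := by
      rw [← heg, Category.assoc, show ιg ≫ π = toUnit Qg ≫ η[R] from hπk.w, ← Category.assoc e,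
        toUnit_unique (e ≫ toUnit Qg) (toUnit N'), ← Hom.one_def]
    rw [← Category.assoc x, ← Category.assoc y, hyb, MonObj.mul_comp, Category.assoc z, hgπ, MonObj.comp_one,
      _root_.mul_one]
  haveI : Surjective u.left := by
    haveI : Surjective (p.left ≫ u.left) := by
      rw [← Over.comp_left, hu, Over.comp_left]
      haveI := hπs
      infer_instance
    exact Surjective.of_comp p.left u.left
  haveI := AffineToProper.isFinite_of_proper u inferInstance
  haveI : PreconnectedSpace R.left := AffineToProper.preconnectedSpace_of_surjective π.left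
  haveI := AffineToProper.subsingleton_of_isFinite R
  haveI : Surjective η[R].left := ⟨fun x => ⟨IsLocalRing.closedPoint k, Subsingleton.elim _ _⟩⟩
  haveI : Surjective ιg.left :=
    MorphismProperty.of_isPullback (GrpdLib.GrpOver.isPullback_left hπk).flip ‹Surjective η[R].left›
  haveI := hec.surj
  rw [← heg, Over.comp_left]
  infer_instance

end Groth.Agent.S17454
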