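import Groth.Statements.S17456
import Groth.Agent.GrpScheme.TorsionDeg
import Groth.Agent.S4642
import Groth.Agent.AbSch51.TorusToProper
import Groth.Agent.Borel50.BaseChange
import Groth.Agent.FpqcDesc.Props
-- import your own Groth.Agent.* helpers here

set_option autoImplicit false
set_option backward.isDefEq.respectTransparency false
universe u
open CategoryTheory MonoidalCategory CartesianMonoidalCategory MonObj GrpObj AlgebraicGeometry CategoryTheory.Limits
open AlgGrp

namespace Groth.Agent.S17456

/-- Let k be a field and G a smooth connected commutative k-group scheme of finite type which is an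
extension of an abelian variety B of dimension a by a torus T of dimension t: T → G is a
homomorphism and a closed immersion with T a torus, G → B is a flat surjective homomorphism onto a
proper smooth connected k-group scheme, and T is its kernel. Then for every integer N ≥ 1, the
characteristic of k being allowed to divide N, the N-torsion subgroup scheme G[N] (the kernel of
multiplication by N on G) is finite locally free over Spec k of degree N^(t + 2a). (In the source G
is the identity component of the special fibre of the Néron model of an abelian variety with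
semistable reduction, which is such an extension.) -/
theorem result (k : Type u) [Field k]
    (G T B : Over (Spec (CommRingCat.of k))) [GrpObj G] [IsCommMonObj G] [GrpObj T] [GrpObj B]
    [Smooth G.hom] [QuasiCompact G.hom] [ConnectedSpace ↥G.left]
    (i : T ⟶ G) [IsMonHom i] [IsClosedImmersion i.left] (hT : Red.IsTorus T)
    (q : G ⟶ B) [IsMonHom q] [Surjective q.left] [Flat q.left] (hk : AlgGrp.IsKernel i q)
    [IsProper B.hom] [Smooth B.hom] [ConnectedSpace ↥B.left]
    (t a : ℕ) (ht : topologicalKrullDim ↥T.left = t) (ha : topologicalKrullDim ↥B.left = a)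
    (N : ℕ) (hN : 0 < N)
    (K : Over (Spec (CommRingCat.of k))) [GrpObj K] (κ : K ⟶ G) [IsMonHom κ]
    (hK : AlgGrp.IsKernel κ ((𝟙 G) ^ N)) :
    Mor2.IsFinLocFreeOfDeg (N ^ (t + 2 * a)) K.hom := by
  let φ := Spec.map (CommRingCat.ofHom (algebraMap k (AlgebraicClosure k)))
  have : LocallyOfFiniteType T.hom := by rw [← Over.w i]; infer_instance
  have : Smooth (Red.bc φ G).hom := inferInstanceAs (Smooth (pullback.snd G.hom φ))
  have : QuasiCompact (Red.bc φ G).hom := inferInstanceAs (QuasiCompact (pullback.snd G.hom φ))
  have : IsProper (Red.bc φ B).hom := inferInstanceAs (IsProper (pullback.snd B.hom φ))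
  have : Smooth (Red.bc φ B).hom := inferInstanceAs (Smooth (pullback.snd B.hom φ))
  have : ConnectedSpace ↥(Red.bc φ G).left := Borel50.BaseChange.connectedSpace_bc φ G
  have : ConnectedSpace ↥(Red.bc φ B).left := Borel50.BaseChange.connectedSpace_bc φ B
  have : IsClosedImmersion ((Over.pullback φ).map i).left := LimGrp.property_map @IsClosedImmersion φ i ‹_›
  have hqs : Surjective ((Over.pullback φ).map q).left := LimGrp.property_map @Surjective φ q ‹_›
  have hqf : Flat ((Over.pullback φ).map q).left := LimGrp.property_map @Flat φ q ‹_›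
  have hT' : Red.IsTorus (Red.bc φ T) := AbSch51.TorusToProper.isTorus_bc φ hT
  have ht' : topologicalKrullDim ↥(Red.bc φ T).left = t := (S4642.result (K := AlgebraicClosure k) T.hom).trans ht
  have ha' : topologicalKrullDim ↥(Red.bc φ B).left = a := (S4642.result (K := AlgebraicClosure k) B.hom).trans ha
  have hK' : AlgGrp.IsKernel ((Over.pullback φ).map κ) (𝟙 (Red.bc φ G) ^ N) := by
    have hpow : ∀ n : ℕ, (Over.pullback φ).map (𝟙 G ^ n) = 𝟙 (Red.bc φ G) ^ n := fun n => by
      induction n with
      | zero => rw [pow_zero, pow_zero, Functor.map_one]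
      | succ n ih => rw [pow_succ, pow_succ, Functor.map_mul, ih, CategoryTheory.Functor.map_id]
    rw [← hpow]
    exact GrpScheme.TorsionDeg.isKernel_bc φ hK
  obtain ⟨⟨hfin, -, -⟩, hrk⟩ := GrpScheme.TorsionDeg.isFinLocFreeOfDeg_alg (Red.bc φ G) (Red.bc φ T) (Red.bc φ B)
    ((Over.pullback φ).map i) ((Over.pullback φ).map q) hT' (GrpScheme.TorsionDeg.isKernel_bc φ hk) t a ht' ha' N hN
    (Red.bc φ K) ((Over.pullback φ).map κ) hK'
  haveI : MorphismProperty.DescendsAlong @IsFinite FpqcDesc.FPQC.{u} := FpqcDesc.descendsAlong_isFinite
  have hφ : FpqcDesc.FPQC φ := ⟨⟨Borel50.BaseChange.surjective_g φ, Borel50.BaseChange.flat_g φ⟩, inferInstance⟩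
  have : IsFinite K.hom := MorphismProperty.of_pullback_snd_of_descendsAlong (P := @IsFinite) hφ hfin
  have : Flat K.hom := inferInstance
  have : IsLocallyNoetherian (Spec (CommRingCat.of k)) := inferInstance
  refine ⟨⟨inferInstance, inferInstance, inferInstance⟩, fun y => ?_⟩
  obtain ⟨y', rfl⟩ := (Borel50.BaseChange.surjective_g φ).surj y
  rw [← Scheme.Hom.finrank_pullback_snd]
  exact hrk y'

end Groth.Agent.S17456
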