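import Groth.Statements.S17459
import Groth.Agent.GrpScheme.Dimension
import Groth.Agent.GrpScheme.KernelPair
import Groth.Agent.GrpScheme.FibreFlat
import Groth.Agent.FlatMor.FibMapCrit
import Groth.Agent.AbVarLib.Isogeny
import Groth.Agent.UnipLib.FppfDesc
import Mathlib.AlgebraicGeometry.ZariskisMainTheorem

set_option autoImplicit false
universe u
open CategoryTheory CategoryTheory.Limits MonoidalCategory CartesianMonoidalCategory MonObj AlgebraicGeometry
open SGA7

noncomputable section

namespace Groth.Agent.S17459

/-- quasi-finite at a point from the fibre over a point of the base -/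
theorem quasiFiniteAt_of_fibre {S : Scheme.{u}} {X Y : Over S} (f : X ⟶ Y) [LocallyOfFiniteType f.left] (s : S)
    [LocallyQuasiFinite (fibreHom s f).left] (x : X.left) (hx : X.hom.base x = s) :
    f.left.QuasiFiniteAt x := by
  subst hx
  haveI : MorphismProperty.RespectsIso (@LocallyQuasiFinite : MorphismProperty Scheme.{u}) :=
    MorphismProperty.IsStableUnderBaseChange.respectsIso
  have h1 : LocallyQuasiFinite (pullback.snd f.left (Y.hom.fiberι (X.hom.base x))) :=
    (GrpScheme.FibreFlat.pullback_map_mem_iff f (X.hom.base x) @LocallyQuasiFinite).mp inferInstance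
  have hy : Y.hom.base (f.left.base x) = X.hom.base x := congrArg (fun k : X.left ⟶ S => k.base x) (Over.w f)
  rw [← hy] at h1
  have h2 := FlatMor.FibMap.fiber_of_baseChange @LocallyQuasiFinite f.left Y.hom (f.left.base x) h1
  have : IsLocallyArtinian (f.left.fiber (f.left.base x)) :=
    IsLocallyArtinian.of_locallyQuasiFinite (f.left.fiberToSpecResidueField _)
  exact Scheme.Hom.quasiFiniteAt_iff_isOpen_singleton_asFiber.mpr (isOpen_discrete _)

/-- a group scheme over a field whose unit is an isolated point is quasi-finite -/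
theorem locallyQuasiFinite_of_isolated {K : Type u} [Field K] (P : Over (Spec (CommRingCat.of K))) [GrpObj P]
    [LocallyOfFiniteType P.hom] [IsSeparated P.hom] [QuasiCompact P.hom]
    (h : IsOpen ({η[P].left.base (IsLocalRing.closedPoint K)} : Set P.left)) : LocallyQuasiFinite P.hom := by
  let e := η[P].left.base (IsLocalRing.closedPoint K)
  have hη : IsClosedImmersion η[P].left := by
    have : IsClosedImmersion (η[P].left ≫ P.hom) := by
      rw [Over.w]; exact inferInstanceAs (IsClosedImmersion (𝟙 _))
    exact IsClosedImmersion.of_comp η[P].left P.hom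
  have he : IsClosed ({e} : Set P.left) := by
    have : Subsingleton ↥(𝟙_ (Over (Spec (CommRingCat.of K)))).left :=
      inferInstanceAs (Subsingleton (PrimeSpectrum K))
    convert η[P].left.isClosedEmbedding.isClosed_range
    ext w
    exact ⟨fun hw => ⟨_, hw.symm⟩, fun ⟨v, hv⟩ => by rw [Subsingleton.elim v (IsLocalRing.closedPoint K)] at hv; exact hv.symm⟩
  have h0 : Order.coheight e = 0 := by
    rw [Order.coheight_eq_zero]
    intro z hz
    have : z = e := specializes_iff_forall_open.1 (show z ⤳ e from hz) _ h rfl
    exact this.le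
  have := LocallyOfFiniteType.jacobsonSpace P.hom
  have : CompactSpace P.left := QuasiCompact.compactSpace_of_compactSpace P.hom
  have : IsLocallyNoetherian P.left := LocallyOfFiniteType.isLocallyNoetherian P.hom
  have : IsNoetherian P.left := {}
  have hcl : ∀ z : P.left, IsClosed ({z} : Set P.left) := fun z => by
    obtain ⟨w, hw, hwc⟩ := nonempty_inter_closedPoints (Z := closure {z}) ⟨z, subset_closure rfl⟩
      isClosed_closure.isLocallyClosed
    have hw0 : Order.coheight w = 0 := (GrpScheme.Dimension.coheight_eq P w e hwc he).trans h0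
    have hzw : w ≤ z := show z ⤳ w from specializes_iff_mem_closure.mpr hw
    have : z = w := (Specializes.antisymm (show z ⤳ w from hzw) (show w ⤳ z from Order.coheight_eq_zero.1 hw0 hzw)).eq
    rwa [this]
  have : Finite P.left := by
    have hcomp : ∀ z : P.left, {z} ∈ irreducibleComponents P.left := fun z => by
      refine ⟨isIrreducible_singleton, fun C hC hzC => ?_⟩
      obtain ⟨w, hw⟩ := QuasiSober.sober (IsIrreducible.closure hC) isClosed_closure
      have hC' : closure C = {w} := by rw [← hw.def, (hcl w).closure_eq]
      have hzw : z = w := by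
        simpa using (hC' ▸ subset_closure (hzC rfl) : z ∈ ({w} : Set P.left))
      exact subset_closure.trans (hC'.le.trans (hzw ▸ le_rfl))
    have := TopologicalSpace.NoetherianSpace.finite_irreducibleComponents (α := P.left) |>.to_subtype
    exact Finite.of_injective (fun z => (⟨{z}, hcomp z⟩ : irreducibleComponents P.left))
      fun a b hab => Set.singleton_injective (congrArg Subtype.val hab)
  exact LocallyQuasiFinite.of_finite_preimage_singleton _ fun _ => Set.toFinite _

theorem isFinite_kernel {K : Type u} [Field K] {A B : Over (Spec (CommRingCat.of K))} [GrpObj A] [GrpObj B]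
    [IsProper A.hom] [IsSeparated B.hom] (f : A ⟶ B) [IsMonHom f] (V : A.left.Opens)
    (hV : η[A].left.base (IsLocalRing.closedPoint K) ∈ V) [LocallyQuasiFinite (V.ι ≫ f.left)]
    (N : Over (Spec (CommRingCat.of K))) (j : N ⟶ A) (hN : AlgGrp.IsKernel j f) : IsFinite N.hom := by
  have sq := GrpdLib.GrpOver.isPullback_left hN
  have : IsProper f.left := by
    have : IsProper (f.left ≫ B.hom) := by rw [Over.w]; infer_instance
    exact IsProper.of_comp f.left B.hom
  have : IsProper N.hom := by
    have : IsProper (toUnit N).left := MorphismProperty.of_isPullback sq ‹IsProper f.left›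
    rw [← Over.w (toUnit N)]
    exact inferInstanceAs (IsProper ((toUnit N).left ≫ 𝟙 _))
  obtain ⟨g, hg⟩ : ∃ _ : GrpObj N, IsMonHom j := by
    have : IsClosedImmersion η[B].left := by
      have : IsClosedImmersion (η[B].left ≫ B.hom) := by
        rw [Over.w]; exact inferInstanceAs (IsClosedImmersion (𝟙 _))
      exact IsClosedImmersion.of_comp η[B].left B.hom
    have : IsClosedImmersion j.left := MorphismProperty.of_isPullback sq.flip ‹_›
    have : Mono j := Over.mono_of_mono_left j
    have hw : j ≫ f = 1 := by
      rw [Hom.one_def, hN.w]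
    have hlift : ∀ {T : Over (Spec (CommRingCat.of K))} (x : T ⟶ A), x ≫ f = 1 → ∃ z, z ≫ j = x := fun {T} x hx =>
      ⟨hN.lift x (toUnit T) (by rw [hx, Hom.one_def]), hN.lift_fst _ _ _⟩
    obtain ⟨m, hm⟩ := hlift ((fst N N ≫ j) * (snd N N ≫ j))
      (by rw [MonObj.mul_comp, Category.assoc, Category.assoc, hw, MonObj.comp_one, MonObj.comp_one, _root_.mul_one])
    obtain ⟨o, ho⟩ := hlift (1 : 𝟙_ (Over (Spec (CommRingCat.of K))) ⟶ A) (MonObj.one_comp f)
    obtain ⟨v, hv⟩ := hlift j⁻¹ (by rw [GrpObj.inv_comp, hw, inv_one])
    exact GrpScheme.SubgroupObj.exists_grpObj j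
      ⟨m, hm.trans (by
        rw [Hom.mul_def]
        refine congrArg (· ≫ μ[A]) (CartesianMonoidalCategory.hom_ext _ _ ?_ ?_) <;> simp)⟩
      ⟨o, ho.trans (by rw [Hom.one_def, toUnit_unique (toUnit _) (𝟙 _), Category.id_comp])⟩
      ⟨v, hv.trans (Hom.inv_def j)⟩
  let W := j.left ⁻¹ᵁ V
  have he : η[N].left.base (IsLocalRing.closedPoint K) ∈ W := by
    show j.left.base (η[N].left.base _) ∈ V
    show (η[N].left ≫ j.left).base _ ∈ V
    rw [← Over.comp_left, IsMonHom.one_hom]
    exact hV
  have hsq : IsPullback (j.left ∣_ V) (W.ι ≫ (toUnit N).left) (V.ι ≫ f.left) η[B].left :=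
    (isPullback_morphismRestrict j.left V).paste_vert sq
  have : LocallyQuasiFinite (W.ι ≫ N.hom) := by
    have h1 : LocallyQuasiFinite (W.ι ≫ (toUnit N).left) := MorphismProperty.of_isPullback hsq ‹_›
    rw [← Over.w (toUnit N)]
    show LocallyQuasiFinite (W.ι ≫ (toUnit N).left ≫ 𝟙 _)
    rw [Category.comp_id]
    exact h1
  have : IsLocallyArtinian (W : Scheme.{u}) := IsLocallyArtinian.of_locallyQuasiFinite (W.ι ≫ N.hom)
  have : LocallyQuasiFinite N.hom := locallyQuasiFinite_of_isolated N (by
    have h := W.ι.isOpenEmbedding.isOpenMap _ (isOpen_discrete ({⟨_, he⟩} : Set (W : Scheme.{u})))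
    exact (show W.ι '' {⟨_, he⟩} = ({η[N].left.base (IsLocalRing.closedPoint K)} : Set N.left) from Set.image_singleton) ▸ h)
  exact IsFinite.of_isProper_of_locallyQuasiFinite N.hom

theorem isFinite_of_kernel {K : Type u} [Field K] {A B : Over (Spec (CommRingCat.of K))} [GrpObj A] [GrpObj B]
    [IsProper A.hom] [IsSeparated B.hom] (f : A ⟶ B) [IsMonHom f]
    (h : ∀ (N : Over (Spec (CommRingCat.of K))) (j : N ⟶ A), AlgGrp.IsKernel j f → IsFinite N.hom) :
    IsFinite f.left := by
  have : IsProper f.left := by
    have : IsProper (f.left ≫ B.hom) := by rw [Over.w]; infer_instance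
    exact IsProper.of_comp f.left B.hom
  have hN : AlgGrp.IsKernel (pullback.fst f η[B]) f := by
    have : pullback.snd f η[B] = toUnit _ := toUnit_unique _ _
    have sq := IsPullback.of_hasPullback f η[B]
    rw [this] at sq
    exact sq
  have hfin := h _ _ hN
  have sq := GrpdLib.GrpOver.isPullback_left (GrpScheme.KernelPair.isPullback hN)
  haveI := hfin
  have hfst : IsFinite (fst A (pullback f η[B])).left :=
    inferInstanceAs (IsFinite (pullback.fst A.hom (pullback f η[B]).hom))
  have : LocallyQuasiFinite f.left := LocallyQuasiFinite.of_finite_preimage_singleton _ fun y => by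
    by_cases hy : ∃ x, f.left.base x = y
    · obtain ⟨x, hx⟩ := hy
      refine (((fst A (pullback f η[B])).left.finite_preimage_singleton x).image
        (fst A _ * (snd A _ ≫ pullback.fst f η[B])).left.base).subset ?_
      intro z hz
      obtain ⟨w, hw, hw'⟩ := Scheme.exists_preimage_of_isPullback sq x z (hx.trans hz.symm)
      exact ⟨w, hw, hw'⟩
    · exact Set.finite_empty.subset fun z hz => hy ⟨z, hz⟩
  exact IsFinite.of_isProper_of_locallyQuasiFinite f.left

theorem eta_fst {S T : Scheme.{u}} (N : Over S) [GrpObj N] (σ : T ⟶ S) :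
    (η[(Over.pullback σ).obj N]).left ≫ pullback.fst N.hom σ = σ ≫ η[N].left := by
  rw [show η[(Over.pullback σ).obj N] = Functor.LaxMonoidal.ε (Over.pullback σ) ≫ (Over.pullback σ).map η[N] from
    Functor.obj.η_def .., Over.comp_left, Category.assoc]
  erw [pullback.lift_fst]
  rw [← Category.assoc]
  congr 1
  simp

/-- Let R be a discrete valuation ring with fraction field K, let N and N' be group schemes over Spec R
which are Néron models of their generic fibres A = N_K and B = N'_K, abelian varieties (proper and
geometrically integral) of the same dimension, and let u : N → N' be a homomorphism (the extension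
of u_K : A → B). If the homomorphism induced by u on the special fibres is locally quasi-finite — as
it is when it restricts to an isogeny between the identity components, the printed hypothesis, which
also forces dim A = dim B — then u_K is an isogeny: its underlying map is surjective and its kernel
is finite. -/
theorem result (R K : Type u) [CommRing R] [IsDomain R]
    [IsDiscreteValuationRing R] [Field K] [Algebra R K] [IsFractionRing R K]
    (N N' : Over (Spec (CommRingCat.of R))) [GrpObj N] [GrpObj N']
    (hN : SGA7.IsNeron R K N) (hN' : SGA7.IsNeron R K N')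
    [IsProper ((SGA7.genFib R K).obj N).hom] [GeometricallyIntegral ((SGA7.genFib R K).obj N).hom]
    [IsProper ((SGA7.genFib R K).obj N').hom] [GeometricallyIntegral ((SGA7.genFib R K).obj N').hom]
    (hdim : topologicalKrullDim ↥((SGA7.genFib R K).obj N).left = topologicalKrullDim ↥((SGA7.genFib R K).obj N').left)
    (u : N ⟶ N') [IsMonHom u]
    [LocallyQuasiFinite (SGA7.fibreHom (IsLocalRing.closedPoint R) u).left] :
    SGA7.IsIsogenyOver ((SGA7.genFib R K).map u) := by
  obtain ⟨hsmN, hsepN, hqcN, hmapN⟩ := hN
  obtain ⟨hsmN', hsepN', hqcN', hmapN'⟩ := hN'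
  have : LocallyOfFiniteType u.left := by
    have : LocallyOfFiniteType (u.left ≫ N'.hom) := by rw [Over.w]; infer_instance
    exact locallyOfFiniteType_of_comp u.left N'.hom
  let σ := Spec.map (CommRingCat.ofHom (algebraMap R K))
  let V₀ := u.left.quasiFiniteLocus
  let e := η[N].left
  have hes : e.base (IsLocalRing.closedPoint R) ∈ V₀ := by
    refine quasiFiniteAt_of_fibre u (IsLocalRing.closedPoint R) _ ?_
    exact congrArg (fun k : (𝟙_ (Over (Spec (CommRingCat.of R)))).left ⟶ _ => k.base (IsLocalRing.closedPoint R))
      (Over.w η[N])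
  let p := pullback.fst N.hom σ
  let A := (SGA7.genFib R K).obj N
  let B := (SGA7.genFib R K).obj N'
  let f : A ⟶ B := (SGA7.genFib R K).map u
  have heK : η[A].left.base (IsLocalRing.closedPoint K) ∈ p ⁻¹ᵁ V₀ := by
    show p.base _ ∈ V₀
    have h1 : p.base (η[A].left.base (IsLocalRing.closedPoint K)) = e.base (σ.base (IsLocalRing.closedPoint K)) := by
      show (η[A].left ≫ p).base _ = (σ ≫ e).base _
      rw [eta_fst]
    rw [h1]
    exact ((IsLocalRing.specializes_closedPoint _).map e.continuous).mem_open V₀.isOpen hes
  let V : A.left.Opens := p ⁻¹ᵁ V₀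
  have : LocallyQuasiFinite (V.ι ≫ f.left) := by
    have hf : f.left ≫ pullback.fst N'.hom σ = p ≫ u.left := pullback.lift_fst _ _ _
    have : LocallyQuasiFinite σ := by
      have : IsPreimmersion σ := IsPreimmersion.of_isLocalization (nonZeroDivisors R)
      infer_instance
    have : LocallyQuasiFinite p := inferInstanceAs (LocallyQuasiFinite (pullback.fst N.hom σ))
    have : LocallyQuasiFinite ((V.ι ≫ f.left) ≫ pullback.fst N'.hom σ) := by
      rw [Category.assoc, hf, ← morphismRestrict_ι_assoc]
      exact MorphismProperty.comp_mem _ _ _ inferInstance inferInstance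
    exact LocallyQuasiFinite.of_comp _ (pullback.fst N'.hom σ)
  have : IsFinite f.left := isFinite_of_kernel f fun P j hP => isFinite_kernel f V heK P j hP
  have : IsIntegral B.left := by
    have : Subsingleton ↥(Spec (CommRingCat.of K)) := inferInstanceAs (Subsingleton (PrimeSpectrum K))
    exact GeometricallyIntegral.isIntegral_of_subsingleton B.hom
  exact ⟨AbVarLib.Isogeny.surjective_of_isFinite f hdim, fun P j hP => isFinite_kernel f V heK P j hP⟩

end Groth.Agent.S17459
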