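import Groth.Statements.S17463
import Mathlib.RingTheory.Nilpotent.Basic
import Mathlib.GroupTheory.Index
import Mathlib.Algebra.Ring.GeomSum

set_option autoImplicit false
universe u v w
open SSRed

namespace Groth.Agent.S17463

/-- Let K be a field of characteristic zero, V a K-vector space, G a group with a K-linear action ρ : G
→ GL(V) such that every ρ(g) is unipotent (ρ(g) - 1 is nilpotent), and H a subgroup of G of finite
index. Then the H-invariants equal the G-invariants: a vector fixed by every element of H is fixed
by every element of G. (In the source G and H are the absolute Galois groups of K and of a finite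
extension K', acting unipotently on the rational ℓ-adic Tate module of an abelian variety.) -/
theorem result (K : Type u) (V : Type v) (G : Type w) [Field K] [CharZero K]
    [AddCommGroup V] [Module K V] [Group G] (ρ : G →* (V ≃ₗ[K] V))
    (hunip : ∀ g : G, IsNilpotent (((ρ g : V ≃ₗ[K] V) : Module.End K V) - 1))
    (H : Subgroup G) [H.FiniteIndex] (v : V) (hv : ∀ h ∈ H, ρ h v = v) (g : G) :
    ρ g v = v := by
  obtain ⟨n, hn, -, hnH⟩ := Subgroup.exists_pow_mem_of_index_ne_zero
    (Subgroup.FiniteIndex.index_ne_zero (H := H)) g
  set u : Module.End K V := ((ρ g : V ≃ₗ[K] V) : Module.End K V) with hu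
  have hnil : IsNilpotent (u - 1) := hunip g
  have hpow : ∀ m : ℕ, ∀ w, (u ^ m) w = ρ (g ^ m) w := by
    intro m
    induction m with
    | zero => intro w; simp
    | succ m ih => intro w; rw [pow_succ', pow_succ', map_mul, Module.End.mul_apply, ih]; rfl
  have hS : IsUnit (∑ i ∈ Finset.range n, u ^ i) := by
    have hdiv : ∀ i : ℕ, u ^ i - 1 = (∑ j ∈ Finset.range i, u ^ j) * (u - 1) := fun i =>
      (geom_sum_mul u i).symm
    have e : (∑ i ∈ Finset.range n, u ^ i) = (n : Module.End K V) +
        (∑ i ∈ Finset.range n, ∑ j ∈ Finset.range i, u ^ j) * (u - 1) := by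
      rw [Finset.sum_mul, ← Finset.sum_congr rfl (fun i _ => hdiv i), Finset.sum_sub_distrib]
      simp
    rw [e]
    have hcomm : Commute (∑ i ∈ Finset.range n, ∑ j ∈ Finset.range i, u ^ j) (u - 1) :=
      Commute.sum_left _ _ _ fun i _ => Commute.sum_left _ _ _ fun j _ =>
        ((Commute.refl u).pow_left j).sub_right (Commute.one_right _)
    have hunit : IsUnit (n : Module.End K V) := by
      rw [← map_natCast (algebraMap K (Module.End K V)) n]
      exact (isUnit_iff_ne_zero.mpr (Nat.cast_ne_zero.mpr (Nat.ne_of_gt hn))).map _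
    exact (hcomm.isNilpotent_mul_left hnil).isUnit_add_left_of_commute hunit (Nat.cast_commute n _).symm
  obtain ⟨S, hS⟩ := hS
  have h1 : ((S : Module.End K V) * (u - 1)) v = 0 := by
    rw [hS, geom_sum_mul, LinearMap.sub_apply, hpow, hv _ hnH, Module.End.one_apply, sub_self]
  have h2 : (((S⁻¹ : (Module.End K V)ˣ) : Module.End K V) * ((S : Module.End K V) * (u - 1))) v = 0 := by
    rw [Module.End.mul_apply, h1, map_zero]
  rw [Units.inv_mul_cancel_left] at h2
  exact sub_eq_zero.mp h2

end Groth.Agent.S17463
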