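import Groth.Statements.S17464
import Groth.Agent.S13371
import Groth.Agent.GrpScheme.CharKernel
import Groth.Agent.Borel50.Lin.TorusSch
-- import your own Groth.Agent.* helpers here

set_option autoImplicit false
set_option backward.isDefEq.respectTransparency false
universe u
open CategoryTheory MonoidalCategory CartesianMonoidalCategory MonObj GrpObj AlgebraicGeometry CategoryTheory.Limits
open AlgGrp

namespace Groth.Agent.S17464

open GrpScheme.CharSplit GrpScheme.CharKernel Groth.Agent.RedPts
attribute [local instance] Borel50.Lin.ptTop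

variable {k : Type u} [Field k] [IsAlgClosed k]

set_option backward.isDefEq.respectTransparency true in
/-- The character given by an exponent. -/
lemma exists_char {r : ℕ} {T : Over (Spec (CommRingCat.of k))} [GrpObj T] (C : GrpScheme.DiagRep.Chars T (Fin r → ℤ)) (m : Fin r → ℤ) :
    ∃ c : T ⟶ Red.Gm (Spec (CommRingCat.of k)), IsMonHom c ∧
      ∀ {X : Over (Spec (CommRingCat.of k))} (x : X ⟶ T), Red.gmFn (x ≫ c) = C.θ x m := by
  obtain ⟨c, hc⟩ := gm_surjective (S := Spec (CommRingCat.of k))
    (IsUnit.of_mul_eq_one (C.θ (𝟙 T) (-m)) (by rw [← C.θ_add, add_neg_cancel, C.θ_zero]) : IsUnit (C.θ (𝟙 T) m))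
  have hy : ∀ {X : Over (Spec (CommRingCat.of k))} (x : X ⟶ T), Red.gmFn (x ≫ c) = C.θ x m := fun x => by
    rw [gm_comp, hc, ← C.θ_comp, Category.comp_id]
  refine ⟨c, ?_, hy⟩
  exact WittLib.Basic.isMonHom_of_points _ fun X x y =>
    gm_injective (((hy (x * y)).trans (C.θ_mul x y m)).trans
      ((gm_mul (x ≫ c) (y ≫ c)).trans (congrArg₂ (· * ·) (hy x) (hy y))).symm)

/-- Descent of homomorphisms along a faithfully flat quasi-compact homomorphism. -/
lemma exists_desc {A G Q T : Over (Spec (CommRingCat.of k))} [GrpObj G] [GrpObj Q] [GrpObj T] (i : A ⟶ G) (q : G ⟶ Q)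
    [IsMonHom q] [Surjective q.left] [Flat q.left] [QuasiCompact q.left] (h : AlgGrp.IsKernel i q) (g : G ⟶ T)
    [IsMonHom g] (h1 : i ≫ g = 1) : ∃ g' : Q ⟶ T, IsMonHom g' ∧ q ≫ g' = g := by
  obtain ⟨g', hg', -⟩ := GrpdLib.GrpOver.existsUnique_desc q g fun X a b hab => by
    obtain ⟨z, hz⟩ := GrpdLib.GrpOver.kernel_factor h (a⁻¹ * b) (by
      rw [MonObj.mul_comp, GrpObj.inv_comp, hab, inv_mul_cancel])
    have := congrArg (· ≫ g) hz
    rw [Category.assoc, h1, MonObj.comp_one, MonObj.mul_comp a⁻¹ b g, GrpObj.inv_comp] at this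
    exact inv_mul_eq_one.1 this.symm
  have hp : (@Surjective ⊓ @Flat ⊓ @QuasiCompact : MorphismProperty Scheme.{u}) q.left :=
    ⟨⟨inferInstance, inferInstance⟩, inferInstance⟩
  have hqq : (@Surjective ⊓ @Flat ⊓ @QuasiCompact : MorphismProperty Scheme.{u}) (q ⊗ₘ q).left := by
    rw [MonoidalCategory.tensorHom_def, Over.comp_left]
    exact MorphismProperty.comp_mem _ _ _ (GrpScheme.Basic.whiskerRight_mem _ q _ hp)
      (GrpScheme.Basic.whiskerLeft_mem _ q _ hp)
  obtain ⟨⟨_, _⟩, _⟩ := hqq
  have : EffectiveEpi (q ⊗ₘ q).left := inferInstance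
  exact ⟨g',
    { one_hom := by rw [← IsMonHom.one_hom (f := q), Category.assoc, hg', IsMonHom.one_hom]
      mul_hom := GrpdLib.GrpOver.cancel_left (q ⊗ₘ q) (by
        rw [← Category.assoc, ← IsMonHom.mul_hom (f := q), Category.assoc, hg', IsMonHom.mul_hom,
          tensorHom_comp_tensorHom_assoc, hg']) }, hg'⟩

/-- Homomorphisms from the additive group to a torus are trivial. -/
lemma hom_Ga_eq_one {T : Over (Spec (CommRingCat.of k))} [GrpObj T] [IsCommMonObj T] (hT : Red.IsTorus T)
    (g : Red.Ga (Spec (CommRingCat.of k)) ⟶ T) [IsMonHom g] : g = 1 := by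
  obtain ⟨haff, hlft, hint, hsm, hcomm, hd⟩ := Borel50.Lin.TorusSch.torus_facts hT
  have : QuasiCompact T.hom := inferInstance
  have hD : DenseSet (Tor T) := by
    intro U hU
    obtain ⟨x, hx⟩ := exists_pt_mem U.2.isLocallyClosed hU
    have ho : IsOpen {y : Pt T | cpt y ∈ U} := isOpen_induced U.2
    obtain ⟨y, hy, hy'⟩ := mem_closure_iff.1 (hd.ge (Set.mem_univ x)) _ ho hx
    exact ⟨y, hy', hy⟩
  obtain ⟨r, T', gT', C, -, q, hq, -, -, -, -, -, -, hiso⟩ := exists_basis_chars (G := T)
  have : IsIso q := hiso (span_units hD) haff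
  rw [← cancel_mono q, MonObj.one_comp]
  refine C.θ_ext fun m => ?_
  obtain ⟨c, hc, hy⟩ := exists_char C m
  rw [← hy, ← hy]
  exact congrArg Red.gmFn ((S13371.result _ ((g ≫ q) ≫ c)).trans (MonObj.one_comp c).symm)

/-- Let k be an algebraically closed field, T a k-torus and U a smooth connected affine k-group scheme
of finite type with a composition series whose successive quotients are additive groups: closed
subgroup schemes U_0 → U_1 → … → U_n = U (homomorphisms which are closed immersions, U_i ↦ U_{i+1}),
with U_0 the trivial group, U_n identified with U by an isomorphism of group schemes, and each U_i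
the kernel of a flat surjective homomorphism from U_{i+1} onto the additive group. Then every
homomorphism from U to T is the trivial one. (The published statement is over an arbitrary field for
a torus and a smooth connected unipotent group, unipotent meaning that such a composition series
exists over an algebraic closure; this row states the case of an algebraically closed base field.
The companion assertion, that homomorphisms from T to U are trivial, is an existing statement about
groups of multiplicative type.) -/
theorem result (k : Type u) [Field k] [IsAlgClosed k]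
    (T U : Over (Spec (CommRingCat.of k))) [GrpObj T] [GrpObj U] (hT : Red.IsTorus T)
    [Smooth U.hom] [QuasiCompact U.hom] [ConnectedSpace ↥U.left] [IsAffine U.left]
    (n : ℕ) (Us : Fin (n + 1) → Over (Spec (CommRingCat.of k))) [∀ i, GrpObj (Us i)]
    (h0 : Red.IsTrivialGrp (Us 0))
    (e : Us (Fin.last n) ≅ U) [IsMonHom e.hom]
    (incl : ∀ i : Fin n, Us i.castSucc ⟶ Us i.succ) [∀ i, IsMonHom (incl i)]
    [∀ i, IsClosedImmersion (incl i).left]
    (quot : ∀ i : Fin n, Us i.succ ⟶ Red.Ga (Spec (CommRingCat.of k))) [∀ i, IsMonHom (quot i)]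
    [∀ i, Surjective (quot i).left] [∀ i, Flat (quot i).left]
    (hker : ∀ i : Fin n, AlgGrp.IsKernel (incl i) (quot i))
    (f : U ⟶ T) [IsMonHom f] :
    f = 1 := by
  obtain ⟨haff, hlft, hint, hsm, hcomm, hd⟩ := Borel50.Lin.TorusSch.torus_facts hT
  have : IsReduced (T ⊗ T).left := by
    have := GrpScheme.Rosenlicht.isIntegral_tensor T T
    infer_instance
  have : LocallyOfFiniteType (T ⊗ T).hom := by
    show LocallyOfFiniteType (pullback.fst T.hom T.hom ≫ T.hom)
    infer_instance
  have : IsCommMonObj T := by
    refine ⟨?_⟩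
    refine ext_of_dense (denseSet_univ (G := T ⊗ T)) fun x _ => ?_
    rw [MonObj.mul_eq_mul, MonObj.comp_mul, braiding_hom_fst, braiding_hom_snd, MonObj.comp_mul,
      MonObj.comp_mul]
    exact hcomm _ _
  have hqc : ∀ i, QuasiCompact (Us i).hom := by
    intro i
    induction i using Fin.reverseInduction with
    | last => rw [← Over.w e.hom]; infer_instance
    | cast i ih => rw [← Over.w (incl i)]; infer_instance
  suffices key : ∀ i : Fin (n + 1), ∀ g : Us i ⟶ T, IsMonHom g → g = 1 by
    have := key (Fin.last n) (e.hom ≫ f) inferInstance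
    rw [← cancel_epi e.hom, this, MonObj.comp_one]
  intro i
  induction i using Fin.induction with
  | zero =>
    intro g hg
    have : IsIso (toUnit (Us 0)) := by
      have : IsIso (Us 0).hom := h0
      have : IsIso ((Over.forget (Spec (CommRingCat.of k))).map (toUnit (Us 0))) := by
        have e0 : (toUnit (Us 0)).left = (Us 0).hom := by
          rw [← Over.w (toUnit (Us 0))]; exact (Category.comp_id _).symm
        show IsIso (toUnit (Us 0)).left
        rw [e0]; infer_instance
      exact isIso_of_reflects_iso _ (Over.forget _)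
    have h1 : 𝟙 (Us 0) = 1 := by
      rw [← cancel_mono (toUnit (Us 0))]
      exact toUnit_unique _ _
    rw [← Category.id_comp g, h1, MonObj.one_comp]
  | succ i ih =>
    intro g hg
    have h1 : incl i ≫ g = 1 := ih _ inferInstance
    have : QuasiCompact (Us i.succ).hom := hqc _
    have : IsSeparated (Red.Ga (Spec (CommRingCat.of k))).hom := GrpScheme.IdComponent.isSeparated _
    have : QuasiCompact ((quot i).left ≫ (Red.Ga (Spec (CommRingCat.of k))).hom) := by
      rw [Over.w (quot i)]; infer_instance
    have : QuasiSeparated (Red.Ga (Spec (CommRingCat.of k))).hom := by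
      have h := ‹IsSeparated (Red.Ga (Spec (CommRingCat.of k))).hom›
      generalize (Red.Ga (Spec (CommRingCat.of k))).hom = φ at h ⊢
      infer_instance
    have : QuasiCompact (quot i).left := QuasiCompact.of_comp _ (Red.Ga (Spec (CommRingCat.of k))).hom
    obtain ⟨g', hgm, hg'⟩ := exists_desc (incl i) (quot i) (hker i) g h1
    rw [← hg', hom_Ga_eq_one hT g', MonObj.comp_one]

end Groth.Agent.S17464
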