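import Groth.Statements.S17465
import Groth.Agent.GrpScheme.CharKernel
import Groth.Agent.GrpScheme.Rosenlicht.Group
import Groth.Agent.Borel50.Lin.TorusSch
import Groth.Agent.Borel50.BaseChange
import Groth.Agent.AbSch51.TorusToProper
-- import your own Groth.Agent.* helpers here

set_option autoImplicit false
set_option backward.isDefEq.respectTransparency false
universe u
open CategoryTheory MonoidalCategory CartesianMonoidalCategory MonObj GrpObj AlgebraicGeometry CategoryTheory.Limits
open AlgGrp

namespace Groth.Agent.S17465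

open GrpScheme.CharSplit GrpScheme.CharKernel
attribute [local instance] Borel50.Lin.ptTop

/-- A group which is a torus over an algebraic extension is a torus. -/
lemma isTorus_of_bc {k K : Type u} [Field k] [Field K] (g : Spec (CommRingCat.of K) ⟶ Spec (CommRingCat.of k))
    {T : Over (Spec (CommRingCat.of k))} [GrpObj T] (h : Red.IsTorus (Red.bc g T)) : Red.IsTorus T := by
  obtain ⟨S', f, hf, hs, hcov, hloc⟩ := h
  have := Borel50.BaseChange.flat_g g
  have := Borel50.BaseChange.surjective_g g
  refine ⟨S', f ≫ g, inferInstance, inferInstance, fun V hV => ?_, fun s' => ?_⟩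
  · rcases (V : Set ↥(Spec (CommRingCat.of k))).eq_empty_or_nonempty with he | ⟨x, hx⟩
    · exact ⟨⊥, by simp, by simp [he]⟩
    · obtain ⟨W, hW, hWe⟩ := hcov ⊤ (isAffineOpen_top _)
      refine ⟨W, hW, ?_⟩
      have hV' : (V : Set ↥(Spec (CommRingCat.of k))) = Set.univ :=
        Set.eq_univ_of_forall fun y => Subsingleton.elim (α := PrimeSpectrum k) x y ▸ hx
      rw [Scheme.Hom.comp_base, TopCat.coe_comp, Set.image_comp, hWe, hV', TopologicalSpace.Opens.coe_top,
        Set.image_univ]
      exact Set.range_eq_univ.2 g.surjective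
  · obtain ⟨U, hU, r, ⟨E⟩⟩ := hloc s'
    obtain ⟨i⟩ := Borel50.Lin.TorusSch.bc_comp (U.ι ≫ f) g _ (Category.assoc _ _ _).symm T
    exact ⟨U, hU, r, ⟨i.symm ≪≫ E⟩⟩

section AlgClosed

variable {K : Type u} [Field K] [IsAlgClosed K]

/-- Torsion is dense in a torus. -/
lemma denseSet_of_isTorus {T : Over (Spec (CommRingCat.of K))} [GrpObj T] (hT : Red.IsTorus T) :
    DenseSet (Tor T) := by
  obtain ⟨-, _, -, -, -, hd⟩ := Borel50.Lin.TorusSch.torus_facts hT
  intro U hU
  obtain ⟨x, hx⟩ := exists_pt_mem U.2.isLocallyClosed hU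
  have ho : IsOpen {y : Pt T | cpt y ∈ U} := isOpen_induced U.2
  obtain ⟨y, hy, hy'⟩ := mem_closure_iff.1 (hd.ge (Set.mem_univ x)) _ ho hx
  exact ⟨y, hy', hy⟩

/-- Commutative smooth connected affine groups with dense torsion are tori. -/
lemma isTorus_of_dense {T : Over (Spec (CommRingCat.of K))} [GrpObj T] [IsCommMonObj T] [IsAffine T.left]
    [Smooth T.hom] [ConnectedSpace T.left] (hD : DenseSet (Tor T)) : Red.IsTorus T := by
  refine Borel50.Lin.TorusSch.isTorus_of_points (Tor T) (fun x _ y _ => mul_comm x y) (fun x hx => hx) ?_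
  refine Set.eq_univ_of_forall fun x => mem_closure_iff.2 fun V hV hxV => ?_
  obtain ⟨U, hU, rfl⟩ := isOpen_induced_iff.1 hV
  obtain ⟨y, hy, hyU⟩ := hD ⟨U, hU⟩ ⟨_, hxV⟩
  exact ⟨y, hyU, hy⟩

lemma pow_comp {G H : Over (Spec (CommRingCat.of K))} [GrpObj G] [GrpObj H] (f : G ⟶ H) [IsMonHom f] (x : Pt G)
    (n : ℕ) : (x ^ n) ≫ f = (x ≫ f) ^ n := by
  induction n with
  | zero => rw [pow_zero, pow_zero, MonObj.one_comp]
  | succ n ih => rw [pow_succ, pow_succ, MonObj.mul_comp (x ^ n) x f, ih]

/-- The statement over an algebraically closed field. -/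
lemma isTorus_iff_closed {G' G : Over (Spec (CommRingCat.of K))} [GrpObj G'] [GrpObj G] [IsCommMonObj G']
    [IsCommMonObj G] [Smooth G'.hom] [QuasiCompact G'.hom] [ConnectedSpace G'.left] [IsAffine G'.left]
    [Smooth G.hom] [QuasiCompact G.hom] [ConnectedSpace G.left] [IsAffine G.left]
    (f : G' ⟶ G) [IsMonHom f] [Surjective f.left] [IsFinite f.left] : Red.IsTorus G' ↔ Red.IsTorus G := by
  constructor
  · intro h
    refine isTorus_of_dense fun U hU => ?_
    obtain ⟨u, hu⟩ := hU
    obtain ⟨v, hv⟩ := f.left.surjective u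
    obtain ⟨x, ⟨n, hn, hxn⟩, hxU⟩ := denseSet_of_isTorus h (f.left ⁻¹ᵁ U) ⟨v, by change f.left v ∈ U; rwa [hv]⟩
    refine ⟨x ≫ f, ⟨n, hn, by rw [← pow_comp, hxn, MonObj.one_comp]⟩, ?_⟩
    rw [cpt, Over.comp_left, Scheme.Hom.comp_apply]
    exact hxU
  · intro h
    have : IsIntegral G'.left := GrpScheme.Rosenlicht.isIntegral_group G'
    have : IsIntegral G.left := GrpScheme.Rosenlicht.isIntegral_group G
    obtain ⟨r, T, gT, C, -, e, he, hes, hTr, -, hTl, -, -, hiso⟩ := exists_basis_chars (G := G)
    have : IsIso e := hiso (span_units (denseSet_of_isTorus h)) inferInstance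
    let q : G' ⟶ T := f ≫ e
    have : Surjective q.left := inferInstanceAs (Surjective (f.left ≫ e.left))
    have : Flat q.left := GrpScheme.HomFlat.flat_of_surjective q
    have : LocallyOfFinitePresentation q.left := GrpdLib.GrpOver.lfp_left q
    refine isTorus_of_dense (denseSet_tor_of_finite q (denseSet_tor C) (isDivisible C) ?_)
    have h0 : ∀ x : Pt G', x ≫ q = 1 → cpt x ∈ f.left ⁻¹' {cpt (1 : Pt G)} := fun x hx => by
      have : x ≫ f = 1 := by rw [← cancel_mono e, Category.assoc, hx, MonObj.one_comp]
      rw [Set.mem_preimage, Set.mem_singleton_iff, cpt, ← Scheme.Hom.comp_apply, ← Over.comp_left, this]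
      rfl
    have : Finite ↥(f.left ⁻¹' {cpt (1 : Pt G)}) := (f.left.finite_preimage (Set.finite_singleton _)).to_subtype
    exact Finite.of_injective (fun x : {x : Pt G' // x ≫ q = 1} => (⟨cpt x.1, h0 _ x.2⟩ : f.left ⁻¹' {cpt (1 : Pt G)}))
      fun x y hxy => Subtype.ext (pt_ext (congrArg Subtype.val hxy))

end AlgClosed

/-- Let k be a field and f : G' → G an isogeny, i.e. a surjective homomorphism with finite kernel,
between smooth connected commutative affine k-group schemes of finite type. Then G' is a torus
exactly when G is one. (The published sentence draws this conclusion after treating surjective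
homomorphisms and isogenies together; for a surjective homomorphism with positive-dimensional kernel
only the implication from G' to G survives — the projection of the product of the multiplicative and
the additive group onto the multiplicative group is surjective with a non-torus source — so the
equivalence is stated for isogenies, the case the dimension count in the printed proof covers. The
companion clause about unipotence is not stated.) -/
theorem result (k : Type u) [Field k]
    (G' G : Over (Spec (CommRingCat.of k))) [GrpObj G'] [GrpObj G] [IsCommMonObj G'] [IsCommMonObj G]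
    [Smooth G'.hom] [QuasiCompact G'.hom] [ConnectedSpace ↥G'.left] [IsAffine G'.left]
    [Smooth G.hom] [QuasiCompact G.hom] [ConnectedSpace ↥G.left] [IsAffine G.left]
    (f : G' ⟶ G) [IsMonHom f] (hf : SGA7.IsIsogenyOver f) :
    Red.IsTorus G' ↔ Red.IsTorus G := by
  obtain ⟨N, gN, i, hi, hker⟩ := GrpScheme.AffineHom.exists_kernel f
  have : IsFinite N.hom := hf.2 N i hker
  have := hf.1
  have : IsReduced G.left := GrpScheme.HomFlat.isReduced_of_smooth G.hom
  have : Flat f.left := GrpScheme.HomFlat.flat_of_surjective f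
  have : IsAffineHom f.left := isAffineHom_of_isAffine _
  have := FpqcDesc.descendsAlong_isFinite.{u}
  have : IsFinite f.left := GrpScheme.KernelPair.mem_of_kernel hker @IsFinite FpqcDesc.FPQC
    ⟨⟨inferInstance, inferInstance⟩, inferInstance⟩ ‹IsFinite N.hom›
  let g := Spec.map (CommRingCat.ofHom (algebraMap k (AlgebraicClosure k)))
  let f' : Red.bc g G' ⟶ Red.bc g G := (Over.pullback g).map f
  have : IsAffine (Red.bc g G').left := Borel50.BaseChange.isAffine_bc g G'
  have : IsAffine (Red.bc g G).left := Borel50.BaseChange.isAffine_bc g G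
  have : ConnectedSpace (Red.bc g G').left := Borel50.BaseChange.connectedSpace_bc g G'
  have : ConnectedSpace (Red.bc g G).left := Borel50.BaseChange.connectedSpace_bc g G
  have : Smooth (Red.bc g G').hom := inferInstanceAs (Smooth (pullback.snd G'.hom g))
  have : Smooth (Red.bc g G).hom := inferInstanceAs (Smooth (pullback.snd G.hom g))
  have : QuasiCompact (Red.bc g G').hom := inferInstanceAs (QuasiCompact (pullback.snd G'.hom g))
  have : QuasiCompact (Red.bc g G).hom := inferInstanceAs (QuasiCompact (pullback.snd G.hom g))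
  have : IsFinite f'.left := LimGrp.property_map @IsFinite g f ‹_›
  have : Surjective f'.left := LimGrp.property_map @Surjective g f ‹_›
  have hiff := isTorus_iff_closed f'
  exact ⟨fun h => isTorus_of_bc g (hiff.1 (AbSch51.TorusToProper.isTorus_bc g h)),
    fun h => isTorus_of_bc g (hiff.2 (AbSch51.TorusToProper.isTorus_bc g h))⟩

end Groth.Agent.S17465
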