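import Groth.Statements.S17466
-- import your own Groth.Agent.* helpers here

set_option autoImplicit false
universe u v
open BigOperators
open NRGIT

namespace Groth.Agent.S17466

open HomogeneousLocalization

variable {R : Type u} {A : Type v} [CommRing R] [CommRing A] [Algebra R A]
  (𝒜 : ℕ → Submodule R A) [GradedAlgebra 𝒜]

theorem mul_le (d e : ℕ) : 𝒜 d * 𝒜 e ≤ 𝒜 (d + e) := by
  rw [Submodule.mul_le]
  exact fun x hx y hy => SetLike.mul_mem_graded (A := 𝒜) hx hy

theorem pow_T_one_le : ∀ d : ℕ, 0 < d → 𝒜 1 ^ d ≤ 𝒜 d := by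
  intro d hd
  induction d with
  | zero => omega
  | succ d ih =>
    rcases Nat.eq_zero_or_pos d with rfl | hd'
    · simp
    · rw [pow_succ]
      exact (mul_le_mul' (ih hd') le_rfl).trans (mul_le 𝒜 d 1)

theorem val_algebraMap' (f : A) (a : 𝒜 0) :
    (algebraMap (𝒜 0) (Away 𝒜 f) a).val = Localization.mk (a : A) 1 := by
  rw [algebraMap_eq]
  rfl

theorem exists_span_pow {f : A} {d : ℕ} (w : A) (hw : w ∈ 𝒜 d) (hwp : w ∈ Submonoid.powers f)
    {z : Away 𝒜 f}
    (hz : z ∈ Algebra.adjoin (𝒜 0)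
      {z : Away 𝒜 f | ∃ g ∈ 𝒜 d, z.val = Localization.mk g ⟨w, hwp⟩}) :
    ∃ (j : ℕ) (h : A), 0 < j ∧ h ∈ 𝒜 d ^ j ∧ z.val = Localization.mk h (⟨w, hwp⟩ ^ j) := by
  have hwT : ∀ j, w ^ j ∈ 𝒜 d ^ j := fun j =>
    Submodule.pow_mem_pow _ (hw) j
  induction hz using Algebra.adjoin_induction with
  | mem z hz =>
    obtain ⟨g, hg, h⟩ := hz
    exact ⟨1, g, one_pos, by rw [pow_one]; exact hg, by rw [pow_one]; exact h⟩
  | algebraMap a =>
    refine ⟨1, a * w, one_pos, ?_, ?_⟩
    · rw [pow_one]
      simpa using SetLike.mul_mem_graded (A := 𝒜) a.2 hw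
    · rw [val_algebraMap', pow_one, Localization.mk_eq_mk_iff, Localization.r_iff_exists]
      exact ⟨1, by simp [mul_comm]⟩
  | add x y _ _ hx hy =>
    obtain ⟨j, h, hj, hh, e⟩ := hx
    obtain ⟨j', h', hj', hh', e'⟩ := hy
    refine ⟨j + j', h * w ^ j' + w ^ j * h', by omega, add_mem ?_ ?_, ?_⟩
    · rw [pow_add]; exact Submodule.mul_mem_mul hh (hwT j')
    · rw [pow_add]; exact Submodule.mul_mem_mul (hwT j) hh'
    · rw [HomogeneousLocalization.val_add, e, e', Localization.add_mk, pow_add]
      congr 1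
      simp [mul_comm, add_comm]
  | mul x y _ _ hx hy =>
    obtain ⟨j, h, hj, hh, e⟩ := hx
    obtain ⟨j', h', hj', hh', e'⟩ := hy
    refine ⟨j + j', h * h', by omega, ?_, ?_⟩
    · rw [pow_add]; exact Submodule.mul_mem_mul hh hh'
    · rw [HomogeneousLocalization.val_mul, e, e', Localization.mk_mul, pow_add]

theorem exists_mem_of_span_pow {f : A} {d : ℕ} (hf : f ∈ 𝒜 d) :
    ∀ (j : ℕ) (h : A), h ∈ 𝒜 d ^ j →
      ∃ z ∈ Algebra.adjoin (𝒜 0)
        {z : Away 𝒜 f | ∃ g ∈ 𝒜 d, z.val = Localization.mk g ⟨f, Submonoid.mem_powers _⟩},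
        z.val = Localization.mk h ((⟨f, Submonoid.mem_powers _⟩ : Submonoid.powers f) ^ j) := by
  intro j
  induction j with
  | zero =>
    intro h hh
    rw [pow_zero, Submodule.mem_one] at hh
    obtain ⟨r, rfl⟩ := hh
    exact ⟨_, Subalgebra.algebraMap_mem _ ⟨algebraMap R A r, SetLike.algebraMap_mem_graded 𝒜 r⟩,
      (val_algebraMap' 𝒜 f _).trans (by rw [pow_zero])⟩
  | succ j ih =>
    intro h hh
    rw [pow_succ] at hh
    refine Submodule.mul_induction_on hh (fun x hx y hy => ?_) (fun x y hx hy => ?_)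
    · obtain ⟨z, hz, e⟩ := ih x hx
      refine ⟨z * Away.mk 𝒜 hf 1 y (by rw [one_smul]; exact hy),
        mul_mem hz (Algebra.subset_adjoin ⟨y, hy, ?_⟩), ?_⟩
      · rw [Away.val_mk]; simp
      · rw [HomogeneousLocalization.val_mul, e, Away.val_mk, Localization.mk_mul]
        congr 1
        ext
        simp [pow_succ]
    · obtain ⟨z, hz, e⟩ := hx
      obtain ⟨z', hz', e'⟩ := hy
      exact ⟨z + z', add_mem hz hz', by
        rw [HomogeneousLocalization.val_add, e, e', Localization.add_mk_self]⟩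

/-- Let A be a commutative algebra graded by the natural numbers, let σ_1, …, σ_n be homogeneous
elements of degree 1 and let s ≥ 1 be an integer such that, for every i, the degree-zero homogeneous
localisation of A away from σ_i is generated over A_0 by the fractions f / σ_i ^ s with f
homogeneous of degree s. Then for every exponent vector K = (k_1, …, k_n) with k_1 + ⋯ + k_n = s,
the degree-zero homogeneous localisation of A away from the monomial σ^K = ∏ σ_i ^ (k_i) is
generated over A_0 by the fractions f / σ^K with f homogeneous of degree s. (Equivalently: the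
natural map from the degree-zero localisation of the symmetric algebra on A_s, taken away from σ^K
viewed as an element of degree one, to the degree-zero localisation of A away from σ^K is
surjective. The published lemma concerns the algebra of invariant sections of the powers of a
linearised line bundle on an irreducible projective scheme over a field, with the σ_i a basis of a
weight space of sections, and concludes a closed immersion of a quotient into an open piece of a
projective space; this row keeps only the graded-algebra step, for any commutative graded algebra,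
with the base field replaced by A_0, which generates nothing new since a / 1 = a σ^s / σ^s for a of
degree zero.) -/
theorem result
    {R : Type u} {A : Type v} [CommRing R] [CommRing A] [Algebra R A]
    (𝒜 : ℕ → Submodule R A) [GradedAlgebra 𝒜]
    {n : ℕ} (σ : Fin n → A) (hσ : ∀ i, σ i ∈ 𝒜 1) {s : ℕ} (hs : 0 < s)
    (hgen : ∀ i, Algebra.adjoin (𝒜 0)
      {z : HomogeneousLocalization.Away 𝒜 (σ i) |
        ∃ f ∈ 𝒜 s, z.val = Localization.mk f ⟨σ i ^ s, Submonoid.pow_mem _ (Submonoid.mem_powers (σ i)) s⟩} = ⊤)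
    (K : Fin n → ℕ) (hK : ∑ i, K i = s) :
    Algebra.adjoin (𝒜 0)
      {z : HomogeneousLocalization.Away 𝒜 (∏ i, σ i ^ K i) |
        ∃ f ∈ 𝒜 s, z.val = Localization.mk f ⟨∏ i, σ i ^ K i, Submonoid.mem_powers _⟩} = ⊤ := by
  rw [eq_top_iff]
  intro z _
  have hM : ∏ i, σ i ^ K i ∈ 𝒜 s := by
    have h := SetLike.prod_mem_graded (A := 𝒜) (fun i => K i) (fun i => σ i ^ K i)
      (F := Finset.univ) (fun i _ => by simpa using SetLike.pow_mem_graded (A := 𝒜) (K i) (hσ i))
    rwa [hK] at h
  obtain ⟨m, f, hf, rfl⟩ := HomogeneousLocalization.Away.mk_surjective 𝒜 hM z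
  obtain ⟨i, hi⟩ : ∃ i, 0 < K i := by
    by_contra hne
    push_neg at hne
    have : ∑ i, K i = 0 := Finset.sum_eq_zero fun i _ => Nat.le_zero.mp (hne i)
    omega
  have hσs : σ i ^ s ∈ 𝒜 s := by simpa using SetLike.pow_mem_graded (A := 𝒜) s (hσ i)
  have hmem : HomogeneousLocalization.Away.mk 𝒜 (hσ i) (m * s) f (by simpa [smul_eq_mul] using hf) ∈
      (⊤ : Subalgebra (𝒜 0) (HomogeneousLocalization.Away 𝒜 (σ i))) := Algebra.mem_top
  rw [← hgen i] at hmem
  obtain ⟨j, h, hj, hh, e⟩ := exists_span_pow 𝒜 (σ i ^ s) hσs _ hmem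
  rw [HomogeneousLocalization.Away.val_mk, Localization.mk_eq_mk_iff, Localization.r_iff_exists] at e
  obtain ⟨⟨_, c, rfl⟩, hc⟩ := e
  simp only [SubmonoidClass.coe_pow] at hc
  -- `f` times a power of `σ i ^ s` is a combination of products
  have key : f * (σ i ^ s) ^ (j + c) ∈ 𝒜 s ^ (m + (j + c)) := by
    obtain ⟨d, hd⟩ : ∃ d, s = d + 1 := ⟨s - 1, by omega⟩
    have he : f * (σ i ^ s) ^ (j + c) = h * (σ i ^ s) ^ (m + c) * 1 := by
      calc f * (σ i ^ s) ^ (j + c)
          = σ i ^ c * ((σ i ^ s) ^ j * f) * σ i ^ (c * d) := by rw [hd]; ring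
        _ = σ i ^ c * (σ i ^ (m * s) * h) * σ i ^ (c * d) := by rw [hc]
        _ = h * (σ i ^ s) ^ (m + c) * 1 := by rw [hd]; ring
    rw [he, mul_one, show m + (j + c) = j + (m + c) by omega, pow_add (𝒜 s)]
    exact Submodule.mul_mem_mul hh (Submodule.pow_mem_pow _ hσs _)
  generalize j + c = N at key
  have hcoef : ∀ l, 0 ≤ K l := fun l => Nat.zero_le _
  let e' : Fin n → ℕ := fun l => s * N * K l - if l = i then s * N else 0
  have hle : ∀ l, (if l = i then s * N else 0) ≤ s * N * K l := by
    intro l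
    split_ifs with h
    · subst h; exact Nat.le_mul_of_pos_right _ hi
    · exact Nat.zero_le _
  have hMN : (∏ l, σ l ^ K l) ^ (s * N) = (σ i ^ s) ^ N * ∏ l, σ l ^ e' l := by
    rw [← Finset.prod_pow,
      ← pow_mul, show σ i ^ (s * N) = ∏ l, σ l ^ (if l = i then s * N else 0) by simp,
      ← Finset.prod_mul_distrib]
    refine Finset.prod_congr rfl fun l _ => ?_
    rw [← pow_add, ← pow_mul, Nat.add_sub_cancel' (hle l), mul_comm]
  have hsum : ∑ l, e' l + s * N = s * (s * N) := by
    have h1 : ∑ l, e' l + ∑ l, (if l = i then s * N else 0) = ∑ l, s * N * K l := by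
      rw [← Finset.sum_add_distrib]
      exact Finset.sum_congr rfl fun l _ => Nat.sub_add_cancel (hle l)
    rw [Finset.sum_ite_eq' Finset.univ i, if_pos (Finset.mem_univ i), ← Finset.mul_sum, hK] at h1
    rw [h1]; ring
  have hrest : ∏ l, σ l ^ e' l ∈ 𝒜 s ^ (s * N - N) := by
    have hN : N ≤ s * N := Nat.le_mul_of_pos_left _ hs
    have hsum' : ∑ l, e' l = s * (s * N - N) := by
      rw [Nat.mul_sub]
      omega
    have h1 : ∏ l, σ l ^ e' l ∈ 𝒜 1 ^ (∑ l, e' l) := by
      rw [← Finset.prod_pow_eq_pow_sum]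
      classical
      induction (Finset.univ : Finset (Fin n)) using Finset.induction with
      | empty =>
        rw [Finset.prod_empty, Finset.prod_empty]
        exact ⟨1, by simp⟩
      | insert a t ha ih =>
        rw [Finset.prod_insert ha, Finset.prod_insert ha]
        exact Submodule.mul_mem_mul (Submodule.pow_mem_pow _ (hσ a) _) ih
    rw [hsum', pow_mul] at h1
    exact pow_le_pow_left' (pow_T_one_le 𝒜 s hs) _ h1
  have hg : f * (∏ l, σ l ^ K l) ^ (s * N) ∈ 𝒜 s ^ (m + s * N) := by
    have hN : N ≤ s * N := Nat.le_mul_of_pos_left _ hs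
    rw [hMN, ← mul_assoc, show m + s * N = (m + N) + (s * N - N) by omega, pow_add]
    exact Submodule.mul_mem_mul key hrest
  obtain ⟨z, hz, e⟩ := exists_mem_of_span_pow 𝒜 hM (m + s * N) _ hg
  convert hz using 1
  apply HomogeneousLocalization.val_injective
  rw [e, HomogeneousLocalization.Away.val_mk, Localization.mk_eq_mk_iff, Localization.r_iff_exists]
  refine ⟨1, ?_⟩
  simp only [SubmonoidClass.coe_pow, OneMemClass.coe_one]
  ring

end Groth.Agent.S17466
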