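import Groth.Statements.S17467
import Groth.Agent.S2111
import Groth.Agent.NormalSec.Basic
import Mathlib.AlgebraicGeometry.Morphisms.SchemeTheoreticallyDominant

set_option autoImplicit false
universe u
open CategoryTheory AlgebraicGeometry
open Variety

namespace Groth.Agent.S17467

open Limits TensorProduct
set_option backward.isDefEq.respectTransparency false

section Alg

variable {k A B : Type u} [Field k] [IsAlgClosed k] [CharZero k] [CommRing A] [IsDomain A] [CommRing B] [IsDomain B]
  [Algebra k A] [Algebra k B] [Algebra A B] [IsScalarTower k A B]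

open Polynomial in
lemma mem_range_of_tmul_isNilpotent {K L : Type u} [Field K] [CharZero K] [Field L] [Algebra K L] (s : L)
    (h : IsNilpotent (s ⊗ₜ[K] (1 : L) - (1 : L) ⊗ₜ[K] s)) : s ∈ Set.range (algebraMap K L) := by
  classical
  let E := Algebra.adjoin K ({s} : Set L)
  let s' : E := ⟨s, Algebra.subset_adjoin rfl⟩
  have hE : IsNilpotent (s' ⊗ₜ[K] (1 : E) - (1 : E) ⊗ₜ[K] s') := by
    have hinj : Function.Injective (Algebra.TensorProduct.map E.val E.val) :=
      TensorProduct.map_injective_of_flat_flat E.val.toLinearMap E.val.toLinearMap Subtype.val_injective Subtype.val_injective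
    rw [← IsNilpotent.map_iff hinj, map_sub, Algebra.TensorProduct.map_tmul, Algebra.TensorProduct.map_tmul]
    simpa using h
  have key : ∀ {Ω : Type u} [Field Ω] [Algebra K Ω] (φ ψ : E →ₐ[K] Ω), φ s' = ψ s' := by
    intro Ω _ _ φ ψ
    have h1 := hE.map (Algebra.TensorProduct.lift φ ψ (fun _ _ => Commute.all _ _))
    simpa [sub_eq_zero] using h1.eq_zero
  by_cases hs : _root_.IsIntegral K s
  · by_contra hne
    let Ω := AlgebraicClosure K
    let e := AlgEquiv.adjoinSingletonEquivAdjoinRootMinpoly K s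
    have hes : e s' = AdjoinRoot.root (minpoly K s) := by
      rw [← e.eq_symm_apply]
      refine Subtype.ext ?_
      simp [e, s']
    have hdeg : 1 < ((minpoly K s).map (algebraMap K Ω)).roots.toFinset.card := by
      have hsep : ((minpoly K s).map (algebraMap K Ω)).Separable := (PerfectField.separable_of_irreducible (minpoly.irreducible hs)).map
      rw [Multiset.toFinset_card_of_nodup (Polynomial.nodup_roots hsep),
        IsAlgClosed.card_roots_eq_natDegree, Polynomial.natDegree_map]
      have h1 := minpoly.natDegree_pos hs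
      rcases Nat.lt_or_ge 1 (minpoly K s).natDegree with h2 | h2
      · exact h2
      · exact absurd (minpoly.natDegree_eq_one_iff.1 (le_antisymm h2 h1)) hne
    obtain ⟨r₁, h1, r₂, h2, h12⟩ := Finset.one_lt_card.1 hdeg
    rw [Multiset.mem_toFinset, Polynomial.mem_roots', Polynomial.IsRoot.def, Polynomial.eval_map] at h1 h2
    refine h12 ?_
    have h3 := key ((AdjoinRoot.liftAlgHom (minpoly K s) (Algebra.ofId K Ω) r₁ h1.2).comp e.toAlgHom)
      ((AdjoinRoot.liftAlgHom (minpoly K s) (Algebra.ofId K Ω) r₂ h2.2).comp e.toAlgHom)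
    simp only [AlgHom.comp_apply, AlgEquiv.toAlgHom_eq_coe, AlgHom.coe_coe] at h3
    erw [hes, AdjoinRoot.liftAlgHom_root, AdjoinRoot.liftAlgHom_root] at h3
    exact h3
  · exfalso
    have ht : Transcendental K s := fun ha => hs ha.isIntegral
    have hinj := transcendental_iff_injective.1 ht
    let e : K[X] ≃ₐ[K] E := (AlgEquiv.ofInjective (Polynomial.aeval s) hinj).trans
      (Subalgebra.equivOfEq _ _ (Algebra.adjoin_singleton_eq_range_aeval K s).symm)
    have hes : e.symm s' = Polynomial.X := by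
      rw [e.symm_apply_eq]
      refine Subtype.ext ?_
      simp [e, s']
    have h3 := key ((Polynomial.aeval (0 : K)).comp e.symm.toAlgHom) ((Polynomial.aeval (1 : K)).comp e.symm.toAlgHom)
    simp [hes] at h3

lemma generic_eq [Algebra.FiniteType k B] (hinj : Function.Injective (algebraMap A B)) (s : B)
    (hs : ∀ φ ψ : B →ₐ[k] k, (∀ a, φ (algebraMap A B a) = ψ (algebraMap A B a)) → φ s = ψ s) :
    ∃ a b : A, b ≠ 0 ∧ algebraMap A B a = s * algebraMap A B b := by
  haveI : Algebra.FiniteType A B := Algebra.FiniteType.of_restrictScalars_finiteType k A B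
  haveI : Algebra.FiniteType k (B ⊗[A] B) := Algebra.FiniteType.trans (S := B) inferInstance inferInstance
  haveI : IsJacobsonRing (B ⊗[A] B) := isJacobsonRing_of_finiteType (A := k)
  have hnil : IsNilpotent (s ⊗ₜ[A] (1 : B) - (1 : B) ⊗ₜ[A] s) := by
    rw [nilpotent_iff_mem_prime]
    intro P hP
    rw [← isJacobsonRing_iff.1 (inferInstance : IsJacobsonRing (B ⊗[A] B)) P hP.isRadical]
    refine Ideal.mem_sInf.2 fun {m} hm => ?_
    obtain ⟨-, hm⟩ := hm
    haveI := hm
    letI : Field ((B ⊗[A] B) ⧸ m) := Ideal.Quotient.field m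
    haveI : Algebra.FiniteType k ((B ⊗[A] B) ⧸ m) := Algebra.FiniteType.of_surjective (Ideal.Quotient.mkₐ k m) (Ideal.Quotient.mkₐ_surjective k m)
    haveI : Module.Finite k ((B ⊗[A] B) ⧸ m) := finite_of_finite_type_of_isJacobsonRing k _
    let e : k ≃ₐ[k] (B ⊗[A] B) ⧸ m :=
      AlgEquiv.ofBijective (Algebra.ofId k _) (IsAlgClosed.algebraMap_bijective_of_isIntegral (k := k))
    let Φ : B ⊗[A] B →ₐ[k] k := e.symm.toAlgHom.comp (Ideal.Quotient.mkₐ k m)
    let φ := Φ.comp (Algebra.TensorProduct.includeLeft : B →ₐ[k] B ⊗[A] B)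
    let ψ := Φ.comp ((Algebra.TensorProduct.includeRight : B →ₐ[A] B ⊗[A] B).restrictScalars k)
    have h1 : φ s = ψ s := hs φ ψ fun a => by
      simp [φ, ψ, Algebra.TensorProduct.algebraMap_apply, TensorProduct.smul_tmul', Algebra.algebraMap_eq_smul_one]
    have h2 : e.symm (Ideal.Quotient.mk m (s ⊗ₜ[A] (1 : B) - (1 : B) ⊗ₜ[A] s)) = 0 := by
      rw [map_sub, map_sub, sub_eq_zero]
      exact h1
    rwa [map_eq_zero_iff _ e.symm.injective, Ideal.Quotient.eq_zero_iff_mem] at h2
  haveI : FaithfulSMul A (FractionRing B) := (faithfulSMul_iff_algebraMap_injective A (FractionRing B)).2 (by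
    rw [IsScalarTower.algebraMap_eq A B (FractionRing B)]; exact (IsFractionRing.injective B (FractionRing B)).comp hinj)
  letI : Algebra (FractionRing A) (FractionRing B) := FractionRing.liftAlgebra A (FractionRing B)
  haveI : IsScalarTower A (FractionRing A) (FractionRing B) := FractionRing.isScalarTower_liftAlgebra A (FractionRing B)
  haveI : CharZero (FractionRing A) := by
    haveI : CharZero A := charZero_of_injective_algebraMap (algebraMap k A).injective
    exact charZero_of_injective_algebraMap (IsFractionRing.injective A (FractionRing A))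
  let ι : B →ₐ[A] (FractionRing B) := IsScalarTower.toAlgHom A B (FractionRing B)
  let Θ : B ⊗[A] B →ₐ[A] (FractionRing B) ⊗[(FractionRing A)] (FractionRing B) :=
    Algebra.TensorProduct.lift ((Algebra.TensorProduct.includeLeft : (FractionRing B) →ₐ[A] (FractionRing B) ⊗[(FractionRing A)] (FractionRing B)).comp ι)
      (((Algebra.TensorProduct.includeRight : (FractionRing B) →ₐ[(FractionRing A)] (FractionRing B) ⊗[(FractionRing A)] (FractionRing B)).restrictScalars A).comp ι) (fun _ _ => Commute.all _ _)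
  obtain ⟨c, hc⟩ := mem_range_of_tmul_isNilpotent (algebraMap B (FractionRing B) s) (by simpa [Θ, ι] using hnil.map Θ)
  obtain ⟨a, b, hb, rfl⟩ := IsFractionRing.div_surjective (A := A) c
  refine ⟨a, b, nonZeroDivisors.ne_zero hb, IsFractionRing.injective B (FractionRing B) ?_⟩
  rw [map_div₀, ← IsScalarTower.algebraMap_apply, ← IsScalarTower.algebraMap_apply, div_eq_iff] at hc
  · rw [map_mul, ← IsScalarTower.algebraMap_apply, ← IsScalarTower.algebraMap_apply]; exact hc
  · exact fun h => nonZeroDivisors.ne_zero hb ((FaithfulSMul.algebraMap_injective A (FractionRing B)) (by rw [h, map_zero]))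

end Alg

/-- A fraction which is regular after a surjective pullback is regular. -/
lemma exists_mul_eq {A : Type u} [CommRing A] [IsDomain A] [IsNoetherianRing A] [IsIntegrallyClosed A]
    (a b : A) (hb : b ≠ 0)
    (h : ∀ P : Ideal A, P.IsPrime → ∃ (B : Type u) (_ : CommRing B) (_ : IsDomain B) (g : A →+* B) (q : Ideal B) (s : B),
      Function.Injective g ∧ q.IsPrime ∧ q.comap g = P ∧ g a = s * g b) :
    ∃ c, a = c * b := by
  let K := FractionRing A
  have hbK : algebraMap A K b ≠ 0 := (map_ne_zero_iff _ (IsFractionRing.injective A K)).2 hb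
  obtain ⟨c, hc⟩ := Groth.Agent.S2111.result (algebraMap A K a / algebraMap A K b) fun P hP h1 => by
    obtain ⟨B, _, _, g, q, s, hg, hq, hcomap, hs⟩ := h P hP
    have hP0 : P ≠ ⊥ := fun h0 => by
      subst h0
      simp at h1
    haveI : IsIntegrallyClosed (Localization.AtPrime P) :=
      isIntegrallyClosed_of_isLocalization _ P.primeCompl P.primeCompl_le_nonZeroDivisors
    haveI : Ring.KrullDimLE 1 (Localization.AtPrime P) := by
      rw [Ring.krullDimLE_iff, IsLocalization.AtPrime.ringKrullDim_eq_height P, h1]; rfl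
    haveI : IsNoetherianRing (Localization.AtPrime P) := IsLocalization.isNoetherianRing P.primeCompl _ inferInstance
    haveI : ValuationRing (Localization.AtPrime P) := by
      haveI : Ring.DimensionLEOne (Localization.AtPrime P) := ⟨fun {p} hp hpp => Ring.krullDimLE_one_iff_of_noZeroDivisors.1 inferInstance p hp hpp⟩
      haveI : IsDedekindDomain (Localization.AtPrime P) := {}
      infer_instance
    obtain ⟨t, ht | ht⟩ := ValuationRing.cond (algebraMap A (Localization.AtPrime P) b) (algebraMap A (Localization.AtPrime P) a)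
    · refine ⟨t, ?_⟩
      rw [eq_div_iff hbK, IsScalarTower.algebraMap_apply A (Localization.AtPrime P) K, IsScalarTower.algebraMap_apply A (Localization.AtPrime P) K a, ← map_mul,
        mul_comm, ht]
    · obtain ⟨c, ⟨d, hd⟩, rfl⟩ := IsLocalization.exists_mk'_eq P.primeCompl t
      have hbd : a * c = b * d := by
        apply IsLocalization.injective (Localization.AtPrime P) P.primeCompl_le_nonZeroDivisors
        rw [map_mul, map_mul, ← ht, mul_assoc, IsLocalization.mk'_spec]
      by_cases hcP : c ∈ P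
      · exfalso
        refine hd (hcomap ▸ ?_)
        have h2 := congrArg g hbd
        rw [map_mul, map_mul, hs, mul_comm s, mul_assoc] at h2
        have h3 := mul_left_cancel₀ ((map_ne_zero_iff g hg).2 hb) h2
        show g d ∈ q
        rw [← h3]
        exact q.mul_mem_left _ (hcomap.symm ▸ hcP : c ∈ q.comap g)
      · refine ⟨IsLocalization.mk' _ d (⟨c, hcP⟩ : P.primeCompl), ?_⟩
        rw [eq_div_iff hbK, IsScalarTower.algebraMap_apply A (Localization.AtPrime P) K,
          IsScalarTower.algebraMap_apply A (Localization.AtPrime P) K a, ← map_mul]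
        congr 1
        rw [mul_comm, IsLocalization.mul_mk'_eq_mk'_of_mul, eq_comm, IsLocalization.eq_mk'_iff_mul_eq, ← map_mul]
        exact congrArg _ hbd
  refine ⟨c, IsFractionRing.injective A K ?_⟩
  rw [map_mul, hc, div_mul_cancel₀ _ hbK]

variable {k : Type u} [Field k] [IsAlgClosed k] [CharZero k]

lemma app_value {X : Over (Spec (CommRingCat.of k))} {V : X.left.Opens} (hV : IsAffineOpen V)
    (φ : Γ(X.left, V) ⟶ CommRingCat.of k) (s : Γ(X.left, ⊤)) :
    (Scheme.ΓSpecIso (CommRingCat.of k)).hom ((Spec.map φ ≫ hV.fromSpec).appTop s) =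
      φ (X.left.presheaf.map (homOfLE le_top).op s) := by
  rw [Scheme.Hom.comp_appTop]
  simp only [CommRingCat.comp_apply]
  rw [show hV.fromSpec.appTop = _ from hV.fromSpec_app_of_le ⊤ le_top]
  simp only [CommRingCat.comp_apply]
  rw [← CommRingCat.comp_apply, Scheme.ΓSpecIso_naturality]
  simp

lemma local_desc (X Y : Over (Spec (CommRingCat.of k)))
    [AlgebraicGeometry.IsIntegral X.left] [AlgebraicGeometry.IsIntegral Y.left]
    [LocallyOfFiniteType X.hom] [LocallyOfFiniteType Y.hom]
    (hY : Pi1.IsNormalScheme Y.left) (f : X ⟶ Y) [QuasiCompact f.left] (hf : Function.Surjective f.left.base)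
    (s : Γ(X.left, ⊤))
    (hs : ∀ x₁ x₂ : Spec (CommRingCat.of k) ⟶ X.left,
      x₁ ≫ X.hom = 𝟙 _ → x₂ ≫ X.hom = 𝟙 _ → x₁ ≫ f.left = x₂ ≫ f.left →
        x₁.appTop.hom s = x₂.appTop.hom s)
    (U : Y.left.Opens) (hU : IsAffineOpen U) :
    ∃ c : Γ(Y.left, U), f.left.app U c = X.left.presheaf.map (homOfLE le_top).op s := by
  haveI : Surjective f.left := ⟨hf⟩
  haveI : IsDominant f.left := inferInstance
  haveI : IsSchemeTheoreticallyDominant f.left := .of_isDominant _
  by_cases hUne : Nonempty U
  swap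
  · have hbot : f.left ⁻¹ᵁ U = ⊥ := eq_bot_iff.2 fun x hx => (hUne ⟨⟨_, hx⟩⟩).elim
    refine ⟨0, ?_⟩
    have : Subsingleton Γ(X.left, f.left ⁻¹ᵁ U) := by
      rw [hbot]; infer_instance
    exact Subsingleton.elim _ _
  let W := f.left ⁻¹ᵁ U
  have hWne : Nonempty W := by
    obtain ⟨⟨y, hy⟩⟩ := hUne
    obtain ⟨x, rfl⟩ := hf y
    exact ⟨⟨x, hy⟩⟩
  -- the affine neighbourhoods
  have haff : ∀ x ∈ W, ∃ (V : X.left.Opens), IsAffineOpen V ∧ x ∈ V ∧ V ≤ W := fun x hx => by
    obtain ⟨_, ⟨V, hV, rfl⟩, hxV, hVW⟩ := X.left.isBasis_affineOpens.exists_subset_of_mem_open hx W.2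
    exact ⟨V, hV, hxV, hVW⟩
  have hginj : ∀ (V : X.left.Opens) (e : V ≤ W), Nonempty V → Function.Injective (f.left.appLE U V e) := by
    intro V e hV
    rw [Scheme.Hom.appLE]
    exact (map_injective_of_isIntegral X.left (homOfLE e)).comp (f.left.app_injective U)
  haveI : IsLocallyNoetherian Y.left := LocallyOfFiniteType.isLocallyNoetherian Y.hom
  haveI : IsNoetherianRing Γ(Y.left, U) := IsLocallyNoetherian.component_noetherian ⟨U, hU⟩
  haveI : IsIntegrallyClosed Γ(Y.left, U) := NormalSec.isIntegrallyClosed_sections U (fun y _ => (hY y).1)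
    (fun y _ => (hY y).2) (fun b hb y hy h => hb (germ_injective_of_isIntegral Y.left y hy (by rw [h, map_zero])))
  obtain ⟨⟨x₀, hx₀⟩⟩ := hWne
  obtain ⟨V, hV, hxV, hVW⟩ := haff x₀ hx₀
  haveI : Nonempty V := ⟨⟨x₀, hxV⟩⟩
  let cA : CommRingCat.of k ⟶ Γ(Y.left, U) := Spec.preimage (hU.fromSpec ≫ Y.hom)
  let cB : CommRingCat.of k ⟶ Γ(X.left, V) := Spec.preimage (hV.fromSpec ≫ X.hom)
  let g := f.left.appLE U V hVW
  have hc : cA ≫ g = cB := Spec.map_injective (by
    rw [Spec.map_comp, Spec.map_preimage, Spec.map_preimage, ← Category.assoc, hU.SpecMap_appLE_fromSpec _ hV,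
      Category.assoc, Over.w f])
  letI : Algebra k Γ(Y.left, U) := cA.hom.toAlgebra
  letI : Algebra k Γ(X.left, V) := cB.hom.toAlgebra
  letI : Algebra Γ(Y.left, U) Γ(X.left, V) := g.hom.toAlgebra
  haveI : IsScalarTower k Γ(Y.left, U) Γ(X.left, V) := IsScalarTower.of_algebraMap_eq' (congrArg CommRingCat.Hom.hom hc).symm
  haveI : Algebra.FiniteType k Γ(X.left, V) := by
    have : LocallyOfFiniteType (Spec.map cB) := by rw [Spec.map_preimage]; infer_instance
    exact (HasRingHomProperty.Spec_iff (P := @LocallyOfFiniteType)).1 this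
  obtain ⟨a, b, hb, hab⟩ := generic_eq (k := k) (hginj V hVW inferInstance)
    (X.left.presheaf.map (homOfLE le_top).op s) (by
    intro φ ψ hφ
    let φ' : Γ(X.left, V) ⟶ CommRingCat.of k := CommRingCat.ofHom φ.toRingHom
    let ψ' : Γ(X.left, V) ⟶ CommRingCat.of k := CommRingCat.ofHom ψ.toRingHom
    have hφ' : ∀ χ : Γ(X.left, V) →ₐ[k] k, cB ≫ CommRingCat.ofHom χ.toRingHom = 𝟙 _ := fun χ =>
      CommRingCat.hom_ext (RingHom.ext fun r => χ.commutes r)
    have h1 := hs (Spec.map φ' ≫ hV.fromSpec) (Spec.map ψ' ≫ hV.fromSpec)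
      (by rw [Category.assoc, ← Spec.map_preimage (hV.fromSpec ≫ X.hom), ← Spec.map_comp, hφ', Spec.map_id])
      (by rw [Category.assoc, ← Spec.map_preimage (hV.fromSpec ≫ X.hom), ← Spec.map_comp, hφ', Spec.map_id])
      (by
        rw [Category.assoc, Category.assoc, ← hU.SpecMap_appLE_fromSpec f.left hV hVW, ← Spec.map_comp_assoc,
          ← Spec.map_comp_assoc]
        congr 2
        exact CommRingCat.hom_ext (RingHom.ext hφ))
    have h2 := congrArg (Scheme.ΓSpecIso (CommRingCat.of k)).hom h1
    rwa [app_value hV φ', app_value hV ψ'] at h2)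
  -- extend to the whole preimage
  have hW : f.left.app U a = X.left.presheaf.map (homOfLE le_top).op s * f.left.app U b := by
    apply map_injective_of_isIntegral X.left (homOfLE hVW)
    rw [map_mul]
    have e : (homOfLE (le_top : V ≤ ⊤)).op = (homOfLE (le_top : W ≤ ⊤)).op ≫ (homOfLE hVW).op := rfl
    rw [e, Functor.map_comp, CommRingCat.comp_apply] at hab
    exact hab
  obtain ⟨c, hc⟩ := exists_mul_eq a b hb fun P hP => by
    obtain ⟨x, hx⟩ := hf (hU.fromSpec ⟨P, hP⟩)
    have hxW : x ∈ W := by
      show f.left x ∈ U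
      rw [show f.left x = _ from hx, ← SetLike.mem_coe, ← hU.range_fromSpec]; exact ⟨_, rfl⟩
    obtain ⟨V, hV, hxV, hVW⟩ := haff x hxW
    haveI : Nonempty V := ⟨⟨x, hxV⟩⟩
    refine ⟨Γ(X.left, V), inferInstance, inferInstance, (f.left.appLE U V hVW).hom, (hV.primeIdealOf ⟨x, hxV⟩).asIdeal,
      X.left.presheaf.map (homOfLE le_top).op s, hginj V hVW inferInstance, inferInstance, ?_, ?_⟩
    · have h1 : Spec.map (f.left.appLE U V hVW) (hV.primeIdealOf ⟨x, hxV⟩) = ⟨P, hP⟩ := by
        apply hU.fromSpec.isOpenEmbedding.injective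
        rw [← Scheme.Hom.comp_apply, hU.SpecMap_appLE_fromSpec _ hV, Scheme.Hom.comp_apply, hV.fromSpec_primeIdealOf]
        exact hx
      exact congrArg PrimeSpectrum.asIdeal h1
    · have h2 := congrArg (X.left.presheaf.map (homOfLE hVW).op) hW
      rw [map_mul] at h2
      have e : (homOfLE (le_top : V ≤ ⊤)).op = (homOfLE (le_top : W ≤ ⊤)).op ≫ (homOfLE hVW).op := rfl
      rw [e, Functor.map_comp, CommRingCat.comp_apply]
      exact h2
  refine ⟨c, ?_⟩
  haveI : Nonempty W := ⟨⟨x₀, hx₀⟩⟩
  haveI : IsDomain Γ(X.left, W) := IsIntegral.component_integral W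
  refine mul_right_cancel₀ ((map_ne_zero_iff _ (f.left.app_injective U)).2 hb) ?_
  rw [← map_mul, ← hc, hW]

/-- Let k be an algebraically closed field of characteristic zero, X and Y integral separated schemes of
finite type over k with Y normal, and f : X → Y a k-morphism surjective on points. A global function
s on X which takes equal values at any two k-rational points of X having the same image under f is
the pull-back of a global function on Y. (The published statement is phrased for set-theoretic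
sections of a vector bundle on Y whose pull-back along f is a regular section; that form reduces to
the present one locally on Y, and the present one is the case of the trivial line bundle.) -/
theorem result
    (k : Type u) [Field k] [IsAlgClosed k] [CharZero k]
    (X Y : Over (Spec (CommRingCat.of k)))
    [AlgebraicGeometry.IsIntegral X.left] [AlgebraicGeometry.IsIntegral Y.left]
    [LocallyOfFiniteType X.hom] [QuasiCompact X.hom] [IsSeparated X.hom]
    [LocallyOfFiniteType Y.hom] [QuasiCompact Y.hom] [IsSeparated Y.hom]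
    (hY : Pi1.IsNormalScheme Y.left)
    (f : X ⟶ Y) (hf : Function.Surjective f.left.base)
    (s : Γ(X.left, ⊤))
    (hs : ∀ x₁ x₂ : Spec (CommRingCat.of k) ⟶ X.left,
      x₁ ≫ X.hom = 𝟙 _ → x₂ ≫ X.hom = 𝟙 _ → x₁ ≫ f.left = x₂ ≫ f.left →
        x₁.appTop.hom s = x₂.appTop.hom s) :
    ∃ r : Γ(Y.left, ⊤), f.left.appTop.hom r = s := by
  haveI : QuasiCompact (f.left ≫ Y.hom) := by rw [Over.w f]; infer_instance
  haveI : QuasiCompact f.left := QuasiCompact.of_comp f.left Y.hom
  haveI : Surjective f.left := ⟨hf⟩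
  haveI : IsSchemeTheoreticallyDominant f.left := .of_isDominant _
  choose c hc using fun U : Y.left.affineOpens => local_desc X Y hY f hf s hs U.1 U.2
  obtain ⟨r, hr, -⟩ := TopCat.Sheaf.existsUnique_gluing' Y.left.sheaf (fun U : Y.left.affineOpens => U.1) ⊤
    (fun _ => homOfLE le_top) (by
      intro y _
      obtain ⟨_, ⟨U, hU, rfl⟩, hy, -⟩ := Y.left.isBasis_affineOpens.exists_subset_of_mem_open (Set.mem_univ y) isOpen_univ
      exact TopologicalSpace.Opens.mem_iSup.2 ⟨⟨U, hU⟩, hy⟩) c (fun U U' => by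
      apply f.left.app_injective
      erw [congr($(f.left.naturality (TopologicalSpace.Opens.infLELeft U.1 U'.1).op).hom (c U)),
        congr($(f.left.naturality (TopologicalSpace.Opens.infLERight U.1 U'.1).op).hom (c U'))]
      simp only [CommRingCat.hom_comp, RingHom.comp_apply]
      erw [hc, hc]
      simp only [← CommRingCat.comp_apply, ← Functor.map_comp]
      rfl)
  refine ⟨r, TopCat.Sheaf.eq_of_locally_eq' X.left.sheaf (fun U : Y.left.affineOpens => f.left ⁻¹ᵁ U.1) ⊤
    (fun _ => homOfLE le_top) (by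
      intro x _
      obtain ⟨_, ⟨U, hU, rfl⟩, hy, -⟩ := Y.left.isBasis_affineOpens.exists_subset_of_mem_open (Set.mem_univ (f.left x)) isOpen_univ
      exact TopologicalSpace.Opens.mem_iSup.2 ⟨⟨U, hU⟩, hy⟩) _ _ fun U => ?_⟩
  refine Eq.trans ?_ (hc U)
  rw [← hr U]
  exact (congr($(f.left.naturality (homOfLE (le_top : U.1 ≤ ⊤)).op).hom r)).symm

end Groth.Agent.S17467
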