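import Groth.Statements.S17468
import Mathlib.Algebra.DirectSum.LinearMap
import Mathlib.Algebra.Lie.Sl2

set_option autoImplicit false
universe u v w
open LieRep

namespace Groth.Agent.S17468


section Helper

open LieModule Module

variable {k : Type u} [Field k] [CharZero k]

theorem sum_sq (a : k) (N : ℕ) :
    3 * ∑ i ∈ Finset.range N, (a - 2 * (i : k)) ^ 2 =
      3 * N * a ^ 2 - 6 * a * N * (N - 1) + 2 * N * (N - 1) * (2 * N - 1) := by
  induction N with
  | zero => simp
  | succ N ih => rw [Finset.sum_range_succ, mul_add, ih]; push_cast; ring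

theorem sum_sq_choose (n : ℕ) :
    ∑ i ∈ Finset.range (n + 1), ((n : k) - 2 * (i : k)) ^ 2 =
      2 * (((n + 1 + 1).choose 3 : ℕ) : k) := by
  have h1 := sum_sq (n : k) (n + 1)
  have h2 : (6 * (n + 1 + 1).choose 3 : ℕ) = n * (n + 1) * (n + 2) := by
    have := Nat.descFactorial_eq_factorial_mul_choose (n + 2) 3
    simp [Nat.descFactorial, Nat.factorial] at this
    linarith
  have h3 : (6 : k) * (((n + 1 + 1).choose 3 : ℕ) : k) = n * (n + 1) * (n + 2) := by
    exact_mod_cast h2
  have h4 : (3 : k) * ∑ i ∈ Finset.range (n + 1), ((n : k) - 2 * (i : k)) ^ 2 =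
      3 * (2 * (((n + 1 + 1).choose 3 : ℕ) : k)) := by
    rw [h1]; push_cast; linear_combination -h3
  exact mul_left_cancel₀ (by norm_num) h4

variable [IsAlgClosed k] {L : Type v} [LieRing L] [LieAlgebra k L] {h e f : L}
  (t : IsSl2Triple h e f) (hspan : t.toLieSubalgebra k = ⊤)
  (M : Type w) [AddCommGroup M] [Module k M] [LieRingModule L M] [LieModule k L M]
  [FiniteDimensional k M]

include hspan in
theorem trace_sq_irreducible (hirr : LieModule.IsIrreducible k L M) :
    LinearMap.trace k M ((LieModule.toEnd k L M h) ^ 2) =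
      2 * (((Module.finrank k M + 1).choose 3 : ℕ) : k) := by
  haveI := hirr
  haveI : Nontrivial M := by
    by_contra hn
    rw [not_nontrivial_iff_subsingleton] at hn
    exact bot_ne_top (α := LieSubmodule k L M) (Subsingleton.elim _ _)
  obtain ⟨μ, m, -, P⟩ := t.exists_hasPrimitiveVectorWith (R := k) (M := M)
  obtain ⟨n, hn⟩ := P.exists_nat
  subst hn
  let ψ : Fin (n + 1) → M := fun i => ((toEnd k L M f) ^ (i : ℕ)) m
  have hh : ∀ i : Fin (n + 1), toEnd k L M h (ψ i) = ((n : k) - 2 * (i : ℕ)) • ψ i :=
    fun i => P.lie_h_pow_toEnd_f i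
  have hLI : LinearIndependent k ψ := by
    refine Module.End.eigenvectors_linearIndependent' (toEnd k L M h)
      (fun i : Fin (n + 1) => (n : k) - 2 * (i : ℕ)) (fun i j hij => ?_) ψ fun i =>
        ⟨Module.End.mem_eigenspace_iff.2 (hh i),
          P.pow_toEnd_f_ne_zero_of_eq_nat rfl (Nat.lt_succ_iff.1 i.2)⟩
    simpa [Fin.ext_iff] using hij
  let S : Submodule k M := Submodule.span k (Set.range ψ)
  have hψ : ∀ j : ℕ, j ≤ n + 1 → ((toEnd k L M f) ^ j) m ∈ S := fun j hj => by
    rcases Nat.lt_or_eq_of_le hj with hlt | rfl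
    · exact Submodule.subset_span ⟨⟨j, hlt⟩, rfl⟩
    · rw [P.pow_toEnd_f_eq_zero_of_eq_nat rfl]; exact zero_mem _
  have hgen : ∀ x ∈ ({e, f, h} : Set L), ∀ s ∈ S, ⁅x, s⁆ ∈ S := fun x hx s hs => by
    induction hs using Submodule.span_induction with
    | zero => rw [lie_zero]; exact zero_mem _
    | add u v _ _ hu hv => rw [lie_add]; exact add_mem hu hv
    | smul c u _ hu => rw [lie_smul]; exact Submodule.smul_mem _ c hu
    | mem u hu =>
      obtain ⟨⟨i, hi⟩, rfl⟩ := hu
      rcases hx with rfl | rfl | rfl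
      · rcases i with _ | i
        · have h0 : ⁅x, ψ ⟨0, hi⟩⁆ = 0 := by simpa [ψ] using P.lie_e
          rw [h0]; exact zero_mem _
        · rw [show ψ ⟨i + 1, hi⟩ = ((toEnd k L M f) ^ (i + 1)) m from rfl,
            P.lie_e_pow_succ_toEnd_f]
          exact Submodule.smul_mem _ _ (hψ i (by omega))
      · rw [show ψ ⟨i, hi⟩ = ((toEnd k L M x) ^ i) m from rfl, P.lie_f_pow_toEnd_f]
        exact hψ (i + 1) (by omega)
      · rw [show ψ ⟨i, hi⟩ = ((toEnd k L M f) ^ i) m from rfl, P.lie_h_pow_toEnd_f]
        exact Submodule.smul_mem _ _ (hψ i (by omega))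
  have hall : ∀ x : L, ∀ s ∈ S, ⁅x, s⁆ ∈ S := fun x s hs => by
    have hx : x ∈ t.toLieSubalgebra k := hspan ▸ LieSubalgebra.mem_top x
    change x ∈ Submodule.span k {e, f, h} at hx
    induction hx using Submodule.span_induction with
    | zero => rw [zero_lie]; exact zero_mem _
    | add u v _ _ hu hv => rw [add_lie]; exact add_mem hu hv
    | smul c u _ hu => rw [smul_lie]; exact Submodule.smul_mem _ c hu
    | mem u hu => exact hgen u hu s hs
  let N : LieSubmodule k L M := { S with lie_mem := fun {x s} hs => hall x s hs }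
  have hN : N = ⊤ := (IsSimpleOrder.eq_bot_or_eq_top N).resolve_left fun h0 => by
    have hm : m ∈ N := hψ 0 (Nat.zero_le _)
    rw [h0] at hm
    exact P.ne_zero ((LieSubmodule.mem_bot _).1 hm)
  have hS : ⊤ ≤ S := fun x _ => by
    have : x ∈ N := hN ▸ LieSubmodule.mem_top x
    exact this
  let b := Module.Basis.mk hLI hS
  have hb : ∀ i, (toEnd k L M h ^ 2) (b i) = (((n : k) - 2 * (i : ℕ)) ^ 2) • b i := fun i => by
    rw [show b i = ψ i from Module.Basis.mk_apply hLI hS i, pow_two, Module.End.mul_apply, hh,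
      map_smul, hh, smul_smul, pow_two]
  rw [LinearMap.trace_eq_matrix_trace k b, Module.finrank_eq_card_basis b, Fintype.card_fin,
    Matrix.trace]
  simp only [Matrix.diag_apply, LinearMap.toMatrix_apply, hb, map_smul, Module.Basis.repr_self,
    Finsupp.smul_apply, Finsupp.single_eq_same, smul_eq_mul, mul_one]
  rw [Fin.sum_univ_eq_sum_range (fun i : ℕ => ((n : k) - 2 * (i : k)) ^ 2)]
  exact sum_sq_choose n

end Helper

/-- Let k be an algebraically closed field of characteristic zero, L a Lie algebra over k spanned by an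
sl_2-triple (h, e, f), and V a finite-dimensional L-module written as an internal direct sum of
finitely many irreducible Lie submodules V_i. Then the trace on V of the square of the action of h
is 2 Σ_i C(dim V_i + 1, 3). (The published statement concerns a finite-dimensional representation V
of a simple Lie algebra restricted to the copy of sl_2 attached to the highest root θ, with h the
coroot θ^∨; there Σ_i C(dim V_i + 1, 3) is the index of V, and the trace is the sum over the weights
λ of V, with multiplicity, of ⟨λ, θ^∨⟩².) -/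
theorem result
    (k : Type u) [Field k] [IsAlgClosed k] [CharZero k]
    (L : Type v) [LieRing L] [LieAlgebra k L]
    (h e f : L) (t : IsSl2Triple h e f) (hspan : t.toLieSubalgebra k = ⊤)
    (V : Type w) [AddCommGroup V] [Module k V] [LieRingModule L V] [LieModule k L V]
    [FiniteDimensional k V]
    (ι : Type) [Fintype ι] [DecidableEq ι] (W : ι → LieSubmodule k L V)
    (hW : DirectSum.IsInternal fun i => (W i).toSubmodule)
    (hirr : ∀ i, LieModule.IsIrreducible k L (W i)) :
    LinearMap.trace k V ((LieModule.toEnd k L V h) ^ 2) =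
      2 * ∑ i, (((Module.finrank k (W i) + 1).choose 3 : ℕ) : k) := by
  have hmap : ∀ i, Set.MapsTo ⇑((LieModule.toEnd k L V h) ^ 2 : Module.End k V) ((W i).toSubmodule : Set V)
      ((W i).toSubmodule : Set V) := fun i v hv => by
    rw [pow_two, Module.End.mul_apply]
    exact (W i).lie_mem ((W i).lie_mem hv)
  rw [LinearMap.trace_eq_sum_trace_restrict hW hmap, Finset.mul_sum]
  refine Finset.sum_congr rfl fun i _ => ?_
  refine Eq.trans ?_ (trace_sq_irreducible t hspan (W i) (hirr i))
  congr 1


end Groth.Agent.S17468
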