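import Groth.Statements.S17469
import Mathlib.AlgebraicGeometry.FunctionField

set_option autoImplicit false
universe u
open CategoryTheory AlgebraicGeometry
open Variety

namespace Groth.Agent.S17469

/-- Let X be a locally Noetherian integral scheme all of whose local rings are integrally closed domains
and U an open subset of X. A section of O_X over U that is integral over the ring of global sections
of X, the latter acting through restriction, is itself the restriction of a global section. (The
published lemma is stated for an irreducible normal variety and for the graded ring of sections over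
U of all non-negative powers of a line bundle, integral over the corresponding ring of sections over
X; for the trivial line bundle its homogeneous components are the present statement, which is made
here for any locally Noetherian normal integral scheme.) -/
theorem result
    (X : Scheme.{u}) [AlgebraicGeometry.IsIntegral X] [IsLocallyNoetherian X]
    (hX : Pi1.IsNormalScheme X) (U : X.Opens) (b : Γ(X, U))
    (hb : (X.presheaf.map (homOfLE le_top : U ⟶ ⊤).op).hom.IsIntegralElem b) :
    b ∈ Set.range (X.presheaf.map (homOfLE le_top : U ⟶ ⊤).op).hom := by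
  by_cases hU : Nonempty U
  swap
  · have hbot : U = ⊥ := by
      ext x
      exact ⟨fun hx => (hU ⟨⟨x, hx⟩⟩).elim, fun hx => (Set.notMem_empty x hx).elim⟩
    subst hbot
    haveI : Subsingleton Γ(X, ⊥) :=
      CommRingCat.subsingleton_of_isTerminal (X.sheaf.isTerminalOfEmpty)
    exact ⟨0, Subsingleton.elim _ _⟩
  obtain ⟨p, hp, hpb⟩ := hb
  set β : X.functionField := X.germToFunctionField U b
  have hspread : ∀ x : X, ∃ (W : X.Opens) (hxW : x ∈ W) (c : Γ(X, W)),
      X.presheaf.germ W (genericPoint X)
        (((genericPoint_spec X).mem_open_set_iff W.isOpen).mpr ⟨x, trivial, hxW⟩) c = β := by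
    intro x
    haveI := (hX x).1
    haveI := (hX x).2
    haveI : IsFractionRing (X.presheaf.stalk x) X.functionField := inferInstance
    have hint : IsIntegral (X.presheaf.stalk x) β := by
      refine ⟨p.map (X.presheaf.germ ⊤ x trivial).hom, hp.map _, ?_⟩
      have h := congrArg (X.germToFunctionField U).hom hpb
      rw [map_zero, Polynomial.hom_eval₂] at h
      rw [Polynomial.eval₂_map]
      refine Eq.trans (congrArg (fun φ => p.eval₂ φ β) ?_) h
      ext a
      exact (TopCat.Presheaf.germ_stalkSpecializes_apply _ (show x ∈ (⊤ : X.Opens) from trivial)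
        ((genericPoint_spec X).specializes trivial) a).trans
        (TopCat.Presheaf.germ_res_apply X.presheaf (homOfLE le_top) _ _ a).symm
    obtain ⟨c, hc⟩ := IsIntegrallyClosed.isIntegral_iff.mp hint
    obtain ⟨W, hxW, c, rfl⟩ := X.presheaf.exists_germ_eq c
    exact ⟨W, hxW, c, Eq.trans (TopCat.Presheaf.germ_stalkSpecializes_apply _ hxW _ c).symm hc⟩
  choose W hxW c hc using hspread
  have hcompat : TopCat.Presheaf.IsCompatible X.presheaf W c := by
    intro i j
    by_cases hne : Nonempty ((W i ⊓ W j : X.Opens) : Scheme.{u})
    · apply X.germToFunctionField_injective (W i ⊓ W j)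
      refine (TopCat.Presheaf.germ_res_apply X.presheaf _ _ _ _).trans ?_
      refine Eq.trans ?_ (TopCat.Presheaf.germ_res_apply X.presheaf _ _ _ _).symm
      exact (hc i).trans (hc j).symm
    · refine TopCat.Presheaf.section_ext X.sheaf _ _ _ fun z hz => ?_
      exact (hne ⟨⟨z, hz⟩⟩).elim
  obtain ⟨s, hs, -⟩ := TopCat.Sheaf.existsUnique_gluing' X.sheaf W ⊤ (fun i => homOfLE le_top)
    (fun y _ => TopologicalSpace.Opens.mem_iSup.mpr ⟨y, hxW y⟩) c hcompat
  refine ⟨s, X.germToFunctionField_injective U ?_⟩
  refine (TopCat.Presheaf.germ_res_apply X.presheaf _ _ _ _).trans ?_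
  obtain ⟨⟨x, hx⟩⟩ := hU
  refine Eq.trans ?_ (hc x)
  rw [← hs x]
  exact (TopCat.Presheaf.germ_res_apply X.presheaf _ _ _ _).symm

end Groth.Agent.S17469
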