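import Groth.Statements.S17470
import Groth.Agent.AnEps.FullFaithful
import Groth.Agent.AnPts.Connected
import Groth.Agent.AnPts.Pullback
import Mathlib.RingTheory.Etale.StandardEtale
import Mathlib.RingTheory.AlgebraicIndependent.Adjoin
import Mathlib.RingTheory.AlgebraicIndependent.TranscendenceBasis
import Mathlib.RingTheory.Norm.Basic
import Mathlib.RingTheory.Polynomial.UniqueFactorization
import Mathlib.RingTheory.Nilpotent.Lemmas
import Mathlib.Analysis.Complex.CoveringMap
import Mathlib.Topology.Homotopy.Lifting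

set_option autoImplicit false
open CategoryTheory AlgebraicGeometry
open An

namespace Groth.Agent.S17470

/-- An element of a finitely generated field over `ℂ` with roots of every order is a constant. -/
theorem eq_algebraMap_of_divisible {K : Type} [Field K] [Algebra ℂ K] [Algebra.EssFiniteType ℂ K] (u : K)
    (h : ∀ n : ℕ, 0 < n → ∃ v, v ^ n = u) : ∃ c, algebraMap ℂ K c = u := by
  by_cases hu : IsAlgebraic ℂ u
  · exact minpoly.mem_range_of_degree_eq_one ℂ u
      (IsAlgClosed.degree_eq_one_of_irreducible ℂ (minpoly.irreducible hu.isIntegral))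
  exfalso
  obtain ⟨t, hut, ht⟩ := exists_isTranscendenceBasis_superset (R := ℂ) (s := ({u} : Set K))
    ((algebraicIndependent_unique_type_iff (ι := ({u} : Set K))).2 (by exact hu))
  let L := IntermediateField.adjoin ℂ (Set.range ((↑) : t → K))
  haveI : Algebra.IsAlgebraic L K := ht.isAlgebraic_field
  haveI : Algebra.EssFiniteType L K := Algebra.EssFiniteType.of_comp ℂ L K
  haveI : FiniteDimensional L K := Algebra.finite_of_essFiniteType_of_isAlgebraic
  let i₀ : t := ⟨u, hut rfl⟩
  let φ := ht.1.aevalEquivField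
  have hu' : (φ (algebraMap (MvPolynomial t ℂ) _ (MvPolynomial.X i₀)) : K) = u :=
    (ht.1.aevalEquivField_algebraMap_apply_coe _).trans (MvPolynomial.aeval_X _ i₀)
  set uL : L := φ (algebraMap (MvPolynomial t ℂ) _ (MvPolynomial.X i₀)) with huL
  set e := Module.finrank L K with he
  obtain ⟨v, hv⟩ := h (e + 1) (Nat.succ_pos _)
  have h1 : Algebra.norm L v ^ (e + 1) = uL ^ e := by
    rw [← map_pow, hv, ← hu']
    exact Algebra.norm_algebraMap uL
  have h2 : φ.symm (Algebra.norm L v) ^ (e + 1) =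
      algebraMap (MvPolynomial t ℂ) _ (MvPolynomial.X i₀ ^ e) := by
    rw [← map_pow φ.symm, h1, huL, ← map_pow φ, AlgEquiv.symm_apply_apply, map_pow]
  obtain ⟨w, hw⟩ := IsIntegrallyClosed.exists_algebraMap_eq_of_isIntegral_pow (R := MvPolynomial t ℂ)
    (Nat.succ_pos e) (h2 ▸ isIntegral_algebraMap)
  rw [← hw, ← map_pow] at h2
  have h3 := congrArg (fun q => (MvPolynomial.aeval (fun _ : t => (Polynomial.X : Polynomial ℂ)) q).natDegree)
    (IsFractionRing.injective (MvPolynomial t ℂ) _ h2)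
  simp only [map_pow, MvPolynomial.aeval_X, Polynomial.natDegree_pow, Polynomial.natDegree_X, mul_one] at h3
  have h4 : 0 < e := Module.finrank_pos
  rcases Nat.eq_zero_or_pos (MvPolynomial.aeval (fun _ : t => (Polynomial.X : Polynomial ℂ)) w).natDegree with h5 | h5
  · rw [h5, mul_zero] at h3; omega
  · have := Nat.le_mul_of_pos_right (e + 1) h5
    omega

theorem evTop_inv {A : CommRingCat.{0}} [(Spec A).Over SC] (a : Pts (Spec A)) (z : A) :
    a.evTop ((Scheme.ΓSpecIso A).inv z) = (Spec.preimage a.1).hom z := by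
  have h : a.1.appTop ((Scheme.ΓSpecIso A).inv z) =
      (Scheme.ΓSpecIso (CommRingCat.of ℂ)).inv ((Spec.preimage a.1).hom z) := by
    conv_lhs => rw [← Spec.map_preimage a.1]
    exact congr($(Scheme.ΓSpecIso_inv_naturality (Spec.preimage a.1)) z).symm
  have h1 : a.evTop ((Scheme.ΓSpecIso A).inv z) =
      (Scheme.ΓSpecIso (CommRingCat.of ℂ)).hom (a.1.appTop ((Scheme.ΓSpecIso A).inv z)) := by
    unfold Pts.evTop Pts.ev
    rw [Scheme.Hom.appTop, Scheme.Hom.app_eq_appLE]
    rfl
  rw [h1, h]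
  exact congr($((Scheme.ΓSpecIso (CommRingCat.of ℂ)).inv_hom_id) _)

open Polynomial in
/-- A continuous logarithm on the `ℂ`-points gives regular roots of every order. -/
theorem exists_root {A : CommRingCat.{0}} [(Spec A).Over SC] [LocallyOfFiniteType (Spec A ↘ SC)] (u : A)
    (g : Pts (Spec A) → ℂ) (hg : Continuous g) (hgu : ∀ a, Complex.exp (g a) = (Spec.preimage a.1).hom u)
    (n : ℕ) (hn : 0 < n) : ∃ v : A, v ^ n = u := by
  have hu : IsUnit u := by
    by_contra hu
    obtain ⟨M, hM, huM⟩ := exists_max_ideal_of_mem_nonunits hu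
    have hT := AnEps.isOpen_eq_univ_of_pts ((Spec A).basicOpen ((Scheme.ΓSpecIso A).inv u)) fun a => by
      refine (AnPts.ev_ne_zero_iff a (TopologicalSpace.Opens.mem_top _) _).1 ?_
      change a.evTop _ ≠ 0
      rw [evTop_inv, ← hgu]
      exact Complex.exp_ne_zero _
    rw [basicOpen_eq_of_affine] at hT
    exact (hT.ge (Set.mem_univ (⟨M, hM.isPrime⟩ : PrimeSpectrum A))) huM
  obtain ⟨u, rfl⟩ := hu
  let c : A := (Spec.preimage (Spec A ↘ SC)).hom ((n : ℂ)⁻¹)
  have hc : (n : A) * c = 1 := by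
    rw [← map_natCast (Spec.preimage (Spec A ↘ SC)).hom, ← map_mul, mul_inv_cancel₀ (by exact_mod_cast hn.ne'),
      map_one]
  let P : StandardEtalePair A :=
    { f := X ^ n - C (u : A)
      monic_f := monic_X_pow_sub_C _ hn.ne'
      g := 1
      cond := ⟨C (c * (↑u⁻¹ : A)) * X, -C (↑u⁻¹ : A), 0, by
        have h1 : C (↑u : A) * C (↑u⁻¹ : A) = 1 := by rw [← C_mul, Units.mul_inv, C_1]
        have h2 : C (n : A) * C c = 1 := by rw [← C_mul, hc, C_1]
        have h3 : (X : A[X]) ^ (n - 1) * X = X ^ n := pow_sub_one_mul hn.ne' _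
        rw [derivative_sub, derivative_X_pow, derivative_C, sub_zero, pow_zero, C_mul]
        linear_combination (C (n : A) * (C c * C (↑u⁻¹ : A))) * h3 + (X ^ n * C (↑u⁻¹ : A)) * h2 + h1⟩ }
  have hm : P.HasMap (AdjoinRoot.root P.f) := ⟨by rw [AdjoinRoot.aeval_eq, AdjoinRoot.mk_self], by simp [P]⟩
  let hinv : AdjoinRoot P.f →ₐ[A] P.Ring := AdjoinRoot.liftAlgHom P.f (Algebra.ofId A P.Ring) P.X P.hasMap_X.1
  have e1 : (P.lift _ hm).comp hinv = AlgHom.id A (AdjoinRoot P.f) := AdjoinRoot.algHom_ext (by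
    rw [AlgHom.comp_apply, AlgHom.id_apply, show hinv (AdjoinRoot.root P.f) = P.X from AdjoinRoot.liftAlgHom_root _ _ _ _]
    exact P.lift_X _ hm)
  have e2 : hinv.comp (P.lift _ hm) = AlgHom.id A P.Ring := P.hom_ext (by
    rw [AlgHom.comp_apply, AlgHom.id_apply, P.lift_X _ hm]
    exact AdjoinRoot.liftAlgHom_root _ _ _ _)
  let pres : StandardEtalePresentation A (AdjoinRoot P.f) :=
    { P := P
      x := AdjoinRoot.root P.f
      hasMap := hm
      lift_bijective := (AlgEquiv.ofAlgHom (P.lift _ hm) hinv e1 e2).bijective }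
  let ρ : A ⟶ CommRingCat.of (AdjoinRoot P.f) := CommRingCat.ofHom (algebraMap A (AdjoinRoot P.f))
  haveI : Etale (Spec.map ρ) := (HasRingHomProperty.Spec_iff (P := @Etale)).2
    (RingHom.etale_algebraMap.2 (haveI : Algebra.IsStandardEtale A (AdjoinRoot P.f) := ⟨⟨pres⟩⟩; inferInstance))
  letI : (Spec (CommRingCat.of (AdjoinRoot P.f))).Over SC := ⟨Spec.map ρ ≫ Spec A ↘ SC⟩
  haveI : (Spec.map ρ).IsOver SC := ⟨rfl⟩
  haveI : LocallyOfFiniteType (Spec (CommRingCat.of (AdjoinRoot P.f)) ↘ SC) :=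
    inferInstanceAs (LocallyOfFiniteType (Spec.map ρ ≫ Spec A ↘ SC))
  have hη : ∀ a : Pts (Spec A), P.f.eval₂ (Spec.preimage a.1).hom (Complex.exp (g a / n)) = 0 := fun a => by
    simp only [P, eval₂_sub, eval₂_X_pow, eval₂_C, ← Complex.exp_nat_mul]
    rw [mul_div_cancel₀ _ (by exact_mod_cast hn.ne'), hgu, sub_self]
  let η : Pts (Spec A) → (AdjoinRoot P.f →+* ℂ) := fun a => AdjoinRoot.lift _ _ (hη a)
  let φ : Pts (Spec A) → Pts (Spec (CommRingCat.of (AdjoinRoot P.f))) := fun a =>
    ⟨Spec.map (CommRingCat.ofHom (η a)), by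
      change Spec.map _ ≫ Spec.map ρ ≫ (Spec A ↘ SC) = _
      rw [← Category.assoc, ← Spec.map_comp,
        show ρ ≫ CommRingCat.ofHom (η a) = Spec.preimage a.1 from
          CommRingCat.hom_ext (RingHom.ext fun z => AdjoinRoot.lift_of (hη a)), Spec.map_preimage]
      exact a.2⟩
  obtain ⟨m, s, hs⟩ := AnPts.exists_generators (Spec (CommRingCat.of (AdjoinRoot P.f)))
  have hφ : Continuous φ := by
    refine (AnPts.isEmbedding_of_generators s hs).1.continuous_iff.2 (continuous_pi fun i => ?_)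
    obtain ⟨q, hq⟩ := AdjoinRoot.mk_surjective ((Scheme.ΓSpecIso (CommRingCat.of (AdjoinRoot P.f))).hom (s i))
    have hsi : s i = (Scheme.ΓSpecIso (CommRingCat.of (AdjoinRoot P.f))).inv (AdjoinRoot.mk P.f q) := by
      rw [hq]; exact congr($((Scheme.ΓSpecIso (CommRingCat.of (AdjoinRoot P.f))).hom_inv_id) (s i)).symm
    have h : ∀ a, (φ a).evTop (s i) = q.eval₂ (Spec.preimage a.1).hom (Complex.exp (g a / n)) := fun a => by
      rw [hsi, evTop_inv]
      simp only [φ, Spec.preimage_map]
      exact AdjoinRoot.lift_mk (hη a) q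
    simp only [Function.comp_def, h, eval₂_eq_sum, Polynomial.sum]
    refine continuous_finsetSum _ fun k _ => Continuous.mul ?_ ((Complex.continuous_exp.comp (hg.div_const _)).pow k)
    exact (AnPts.continuous_evTop ((Scheme.ΓSpecIso A).inv (q.coeff k))).congr fun a => evTop_inv a _
  obtain ⟨sec, -, hsec, -⟩ := AnEps.exists_hom_of_pts (𝟙 (Spec A)) (Spec.map ρ) φ hφ (fun a => Subtype.ext (by
    change Spec.map (CommRingCat.ofHom (η a)) ≫ Spec.map ρ = a.1 ≫ 𝟙 _
    rw [← Spec.map_comp, Category.comp_id,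
      show ρ ≫ CommRingCat.ofHom (η a) = Spec.preimage a.1 from
        CommRingCat.hom_ext (RingHom.ext fun z => AdjoinRoot.lift_of (hη a)), Spec.map_preimage]))
  have hid : ρ ≫ Spec.preimage sec = 𝟙 A := Spec.map_injective (by
    rw [Spec.map_comp, Spec.map_preimage, Spec.map_id, hsec])
  refine ⟨Spec.preimage sec (AdjoinRoot.root P.f), ?_⟩
  have h1 : AdjoinRoot.root P.f ^ n = ρ (u : A) := by
    have := AdjoinRoot.eval₂_root P.f
    simp only [P, eval₂_sub, eval₂_X_pow, eval₂_C, sub_eq_zero] at this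
    exact this
  rw [← map_pow, h1]
  exact congr($hid (u : A))

/-- A regular function with a continuous logarithm takes locally finitely many values. -/
theorem exists_finite_values {A : CommRingCat.{0}} [(Spec A).Over SC] [LocallyOfFiniteType (Spec A ↘ SC)]
    [_root_.IsReduced A] (u : A) (g : Pts (Spec A) → ℂ) (hg : Continuous g)
    (hgu : ∀ a, Complex.exp (g a) = (Spec.preimage a.1).hom u) :
    ∃ S : Finset ℂ, ∀ a : Pts (Spec A), (Spec.preimage a.1).hom u ∈ S := by
  classical
  have hft : (Spec.preimage (Spec A ↘ SC)).hom.FiniteType :=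
    (HasRingHomProperty.Spec_iff (P := @LocallyOfFiniteType)).1 (by rw [Spec.map_preimage]; infer_instance)
  letI : Algebra ℂ A := (Spec.preimage (Spec A ↘ SC)).hom.toAlgebra
  haveI : Algebra.FiniteType ℂ A := hft
  haveI : IsNoetherianRing A := Algebra.FiniteType.isNoetherianRing ℂ A
  have hfin : (minimalPrimes A).Finite := minimalPrimes.finite_of_isNoetherianRing A
  have hconst : ∀ P ∈ minimalPrimes A, ∃ c : ℂ, u - algebraMap ℂ A c ∈ P := by
    intro P hP
    haveI : P.IsPrime := hP.1.1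
    obtain ⟨c, hc⟩ := eq_algebraMap_of_divisible (algebraMap (A ⧸ P) (FractionRing (A ⧸ P)) (Ideal.Quotient.mk P u))
      fun n hn => by
        obtain ⟨v, hv⟩ := exists_root u g hg hgu n hn
        exact ⟨algebraMap (A ⧸ P) (FractionRing (A ⧸ P)) (Ideal.Quotient.mk P v), by rw [← map_pow, ← map_pow, hv]⟩
    refine ⟨c, Ideal.Quotient.eq.1 (IsFractionRing.injective (A ⧸ P) (FractionRing (A ⧸ P)) ?_)⟩
    rw [← hc]
    exact IsScalarTower.algebraMap_apply ℂ (A ⧸ P) (FractionRing (A ⧸ P)) c
  choose! c hc using hconst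
  refine ⟨hfin.toFinset.image c, fun a => ?_⟩
  have h0 : ∏ P ∈ hfin.toFinset, (u - algebraMap ℂ A (c P)) = 0 := by
    refine (nilpotent_iff_mem_prime.2 fun Q hQ => ?_).eq_zero
    haveI := hQ
    obtain ⟨P, hP, hPQ⟩ := Ideal.exists_minimalPrimes_le (I := (⊥ : Ideal A)) (J := Q) bot_le
    have hP' : P ∈ minimalPrimes A := hP
    exact hPQ (Ideal.mem_of_dvd _ (Finset.dvd_prod_of_mem _ (hfin.mem_toFinset.2 hP')) (hc P hP'))
  have h2 := congrArg (Spec.preimage a.1).hom h0
  rw [map_prod, map_zero, Finset.prod_eq_zero_iff] at h2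
  obtain ⟨P, hP, hP0⟩ := h2
  refine Finset.mem_image.2 ⟨P, hP, ?_⟩
  have h3 : (Spec.preimage a.1).hom (algebraMap ℂ A (c P)) = c P := by
    have h4 : Spec.preimage (Spec A ↘ SC) ≫ Spec.preimage a.1 = 𝟙 _ := Spec.map_injective (by
      rw [Spec.map_comp, Spec.map_preimage, Spec.map_preimage, Spec.map_id, a.2])
    exact congr($h4 (c P))
  rw [map_sub, h3, sub_eq_zero] at hP0
  exact hP0.symm


/-- Let X be a connected variety over ℂ (reduced, separated and of finite type over ℂ, connected) and u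
a regular function on X with no zero at any ℂ-point, viewed as a regular map X → ℂ^×. If the
continuous map it induces from the ℂ-points X(ℂ), with their complex topology, to ℂ^× is
null-homotopic, then u has the same value at all ℂ-points: a null-homotopic regular map from a
connected complex variety to ℂ^× is constant. -/
theorem result
    (X : Scheme.{0}) [X.Over An.SC] [IsReduced X]
    [LocallyOfFiniteType (X ↘ An.SC)] [QuasiCompact (X ↘ An.SC)] [IsSeparated (X ↘ An.SC)]
    [ConnectedSpace X] (u : Γ(X, ⊤))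
    (φ : C(An.Pts X, {z : ℂ // z ≠ 0})) (hφ : ∀ x : An.Pts X, (φ x).1 = x.evTop u)
    (z₀ : {z : ℂ // z ≠ 0}) (hnull : φ.Homotopic (ContinuousMap.const (An.Pts X) z₀)) :
    ∀ x y : An.Pts X, x.evTop u = y.evTop u := by
  obtain ⟨H⟩ := hnull.symm
  let lift := Complex.isCoveringMap_exp.liftHomotopy H.toContinuousMap (ContinuousMap.const (Pts X) (Complex.log z₀.1))
    (fun a => by
      refine (H.apply_zero a).trans (Subtype.ext ?_)
      exact (Complex.exp_log z₀.2).symm)
  let g : Pts X → ℂ := fun a => lift (1, a)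
  have hg : Continuous g := lift.continuous.comp (by fun_prop)
  have hgu : ∀ a, Complex.exp (g a) = a.evTop u := fun a => by
    have h := congr_fun (IsCoveringMap.liftHomotopy_lifts Complex.isCoveringMap_exp H.toContinuousMap
      (ContinuousMap.const (Pts X) (Complex.log z₀.1)) (fun a => by
      refine (H.apply_zero a).trans (Subtype.ext ?_)
      exact (Complex.exp_log z₀.2).symm)) (1, a)
    exact (congrArg Subtype.val (h.trans (H.apply_one a))).trans (hφ a)
  have hloc : IsLocallyConstant fun x : Pts X => x.evTop u := by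
    refine IsLocallyConstant.iff_eventually_eq _ |>.2 fun x => ?_
    obtain ⟨U, hU, hxU, -⟩ := exists_isAffineOpen_mem_and_subset (x := x.pt) (U := ⊤) trivial
    letI : (Spec Γ(X, U)).Over SC := ⟨hU.fromSpec ≫ X ↘ SC⟩
    haveI : hU.fromSpec.IsOver SC := ⟨rfl⟩
    haveI : LocallyOfFiniteType (Spec Γ(X, U) ↘ SC) := inferInstanceAs (LocallyOfFiniteType (hU.fromSpec ≫ X ↘ SC))
    let uA : Γ(X, U) := (Scheme.ΓSpecIso Γ(X, U)).hom (hU.fromSpec.appTop u)
    have huA : ∀ a : Pts (Spec Γ(X, U)), (Spec.preimage a.1).hom uA = (Pts.map hU.fromSpec a).evTop u := fun a => by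
      rw [AnPts.evTop_map, ← evTop_inv a uA]
      exact congrArg a.evTop congr($((Scheme.ΓSpecIso Γ(X, U)).hom_inv_id) (hU.fromSpec.appTop u))
    obtain ⟨S, hS⟩ := exists_finite_values uA (g ∘ Pts.map hU.fromSpec) (hg.comp (Pts.continuous_map _))
      fun a => by rw [huA, Function.comp_apply, hgu]
    have hx : x ∈ Set.range (Pts.map hU.fromSpec) := by
      rw [AnPts.range_map_of_isOpenImmersion]
      change x.pt ∈ Set.range hU.fromSpec
      rw [hU.range_fromSpec]
      exact hxU
    have hopen : IsOpen ((S.erase (x.evTop u) : Set ℂ))ᶜ := (Finset.finite_toSet _).isClosed.isOpen_compl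
    filter_upwards [(AnPts.isOpenEmbedding_map hU.fromSpec).isOpen_range.mem_nhds hx,
      (AnPts.continuous_evTop u).continuousAt.preimage_mem_nhds (hopen.mem_nhds (by simp))] with y hy hy'
    obtain ⟨a, rfl⟩ := hy
    by_contra hne
    have h5 := hS a
    rw [huA a] at h5
    exact hy' (Finset.mem_coe.2 (Finset.mem_erase.2 ⟨hne, h5⟩))
  haveI := (AnPts.connectedSpace_iff (X := X)).1 inferInstance
  exact fun x y => hloc.apply_eq_of_preconnectedSpace x y

end Groth.Agent.S17470
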