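import Groth.Statements.S17471
import Mathlib.LinearAlgebra.RootSystem.BaseExists

set_option autoImplicit false
universe u v w x
open RootCh

namespace Groth.Agent.S17471

/-- Let Φ be a finite, reduced, crystallographic, irreducible root system with a base, and θ a positive
root such that θ + β is a root for no positive root β (so θ is the highest root). Then Σ_{β>0} ⟨β,
θ^∨⟩² = 2 + Σ_{β>0} ⟨β, θ^∨⟩ = 2(1 + ⟨ρ, θ^∨⟩), ρ being half the sum of the positive roots; in the
source the left side is the index of the adjoint representation obtained from its formal character,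
and 1 + ⟨ρ, θ^∨⟩ is the dual Coxeter number. -/
theorem result
    {ι : Type u} {R : Type v} {M : Type w} {N : Type x}
    [Field R] [LinearOrder R] [IsStrictOrderedRing R]
    [AddCommGroup M] [Module R M] [AddCommGroup N] [Module R N] [Fintype ι]
    (P : RootPairing ι R M N) [P.IsRootSystem] [P.IsCrystallographic] [P.IsReduced]
    [P.IsIrreducible] (b : P.Base) (θ : ι) (hθ : b.IsPos θ)
    (hmax : ∀ i : ι, b.IsPos i → P.root θ + P.root i ∉ Set.range P.root) :
    ∑ i ∈ Finset.univ.filter (fun i => 0 < b.height i), P.pairing i θ ^ 2 =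
      2 + ∑ i ∈ Finset.univ.filter (fun i => 0 < b.height i), P.pairing i θ := by
  classical
  set S := Finset.univ.filter (fun i => 0 < b.height i) with hS
  have hθS : θ ∈ S := by rw [hS, Finset.mem_filter]; exact ⟨Finset.mem_univ _, hθ⟩
  have key : ∀ i ∈ S, i ≠ θ → P.pairing i θ = 0 ∨ P.pairing i θ = 1 := by
    intro i hi hne
    have hi' : b.IsPos i := (Finset.mem_filter.mp hi).2
    have hnn : ∀ j : ι, b.IsPos j → 0 ≤ P.pairingIn ℤ j θ := by
      intro j hj
      by_contra! hc
      refine hmax j hj ?_
      rw [add_comm]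
      refine P.root_add_root_mem_of_pairingIn_neg hc fun e => ?_
      have : j = P.reflectionPerm θ θ := P.root.injective (by
        rw [e, P.root_reflectionPerm, P.reflection_apply_self])
      rw [this] at hj
      exact (RootPairing.Base.IsPos.neg_iff_not b θ).mp hj hθ
    have hle : P.pairingIn ℤ i θ ≤ 1 := by
      by_contra! hc
      obtain ⟨g, hg⟩ := P.root_sub_root_mem_of_pairingIn_pos (show 0 < P.pairingIn ℤ i θ by omega) hne
      have hgn : ¬ b.IsPos g := fun h => hmax g h ⟨i, by rw [hg]; abel⟩
      have hjpos : b.IsPos (P.reflectionPerm g g) :=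
        (RootPairing.Base.IsPos.neg_iff_not b g).mpr hgn
      set j := P.reflectionPerm g g with hj
      have hjr : P.root j = P.root θ - P.root i := by
        rw [hj, P.root_reflectionPerm, P.reflection_apply_self, hg]; abel
      have hsum : P.pairing θ θ = P.pairing i θ + P.pairing j θ :=
        P.pairing_eq_add_of_root_eq_add (by rw [hjr]; abel)
      rw [P.pairing_same, ← P.algebraMap_pairingIn ℤ i θ, ← P.algebraMap_pairingIn ℤ j θ] at hsum
      have hsum' : (2 : ℤ) = P.pairingIn ℤ i θ + P.pairingIn ℤ j θ :=
        FaithfulSMul.algebraMap_injective ℤ R (by rw [map_add, ← hsum]; simp)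
      have h2 := hnn j hjpos
      have hp2 : P.pairingIn ℤ i θ = 2 := by omega
      have hpR : P.pairing i θ = 2 := by rw [← P.algebraMap_pairingIn ℤ i θ, hp2]; simp
      refine hmax j hjpos ⟨P.reflectionPerm (P.reflectionPerm θ i) (P.reflectionPerm θ i), ?_⟩
      rw [P.root_reflectionPerm, P.reflection_apply_self, P.root_reflectionPerm,
        P.reflection_apply_root, hpR, hjr]
      module
    have h1 := hnn i hi'
    rw [← P.algebraMap_pairingIn ℤ i θ]
    rcases (show P.pairingIn ℤ i θ = 0 ∨ P.pairingIn ℤ i θ = 1 by omega) with h | h <;> simp [h]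
  rw [← Finset.add_sum_erase S _ hθS, ← Finset.add_sum_erase S _ hθS, P.pairing_same]
  rw [Finset.sum_congr rfl (g := fun i => P.pairing i θ) fun i hi => ?_]
  · ring
  · rcases key i (Finset.mem_of_mem_erase hi) (Finset.ne_of_mem_erase hi) with h | h <;> simp [h]

end Groth.Agent.S17471
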