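import Groth.Statements.S17472
import Groth.Agent.FinHopf.Points
import Groth.Agent.InvQLib.Basic


set_option autoImplicit false
universe u
open HopfAlg

namespace Groth.Agent.S17472

/-- Let k be an algebraically closed field and A a commutative Hopf algebra over k, finitely generated
as a k-algebra, whose only idempotents are 0 and 1 (so that Spec A is a connected affine algebraic
group over k, possibly non-reduced). Let m be the kernel of the counit, the ideal of the neutral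
element. Then the intersection of the powers m^n, n ≥ 0, is the zero ideal; equivalently the
infinitesimal neighbourhoods Spec (A/m^n) of the neutral element are jointly schematically dense.
(The published statement assumes the group smooth, that is, a connected linear algebraic group; the
statement here allows any connected affine algebraic group, possibly non-reduced, a case the
published argument also treats.) -/
theorem result (k : Type u) [Field k] [IsAlgClosed k]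
    (A : Type u) [CommRing A] [HopfAlgebra k A] [Algebra.FiniteType k A]
    (hconn : ∀ e : A, IsIdempotentElem e → e = 0 ∨ e = 1) :
    (⨅ n : ℕ, RingHom.ker (Bialgebra.counitAlgHom k A) ^ n) = ⊥ := by
  classical
  have hnoe : IsNoetherianRing A := Algebra.FiniteType.isNoetherianRing k A
  have hjac : IsJacobsonRing A := isJacobsonRing_of_finiteType (A := k) (B := A)
  set m := RingHom.ker (Bialgebra.counitAlgHom k A)
  have hm : m.IsMaximal := RingHom.ker_isMaximal_of_surjective _ fun r => ⟨algebraMap k A r, by simp⟩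
  have hpt : ∀ M : Ideal A, M.IsMaximal → ∃ σ : A ≃ₐ[k] A, m.comap σ = M := by
    intro M hM
    obtain ⟨z, hz⟩ := Groth.Agent.InvQLib.exists_point (k := k) hM.ne_top
    refine ⟨Groth.Agent.FinHopf.Points.transEquiv (WithConv.toConv z), ?_⟩
    rw [Groth.Agent.FinHopf.Points.comap_ker_trans, WithConv.ofConv_toConv]
    exact (hM.eq_of_le (RingHom.ker_ne_top z) fun f hf => hz f hf).symm
  have hcomap : ∀ (σ : A ≃ₐ[k] A), ∀ P ∈ minimalPrimes A, P.comap σ ∈ minimalPrimes A := by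
    intro σ P hP
    rw [minimalPrimes_eq_minimals] at hP ⊢
    obtain ⟨hPp, hPmin⟩ := hP
    refine ⟨Ideal.comap_isPrime σ P, fun Q hQ hQP => ?_⟩
    have hQP' : Q.comap σ.symm ≤ P := fun y hy => by simpa [Ideal.mem_comap] using hQP (Ideal.mem_comap.1 hy)
    have h' := hPmin (Ideal.comap_isPrime σ.symm Q) hQP'
    intro y hy
    simpa [Ideal.mem_comap] using h' (Ideal.mem_comap.1 hy)
  have hfin : (minimalPrimes A).Finite := minimalPrimes.finite_of_isNoetherianRing A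
  obtain ⟨P0, hP0, hP0m⟩ := Ideal.exists_minimalPrimes_le (bot_le : ⊥ ≤ m)
  have hP0' : P0 ∈ minimalPrimes A := hP0
  have hP0p : P0.IsPrime := hP0.1.1
  have hprod : ∀ P ∈ minimalPrimes A, ∃ f, f ∉ P ∧ ∀ Q ∈ minimalPrimes A, Q ≠ P → f ∈ Q := by
    intro P hP
    have hPp : P.IsPrime := hP.1.1
    have hne : ∀ Q ∈ (hfin.toFinset.erase P), ∃ f ∈ Q, f ∉ P := fun Q hQ => by
      obtain ⟨hQP, hQ⟩ := Finset.mem_erase.1 hQ
      rw [Set.Finite.mem_toFinset] at hQ
      exact SetLike.not_le_iff_exists.1 fun h => hQP (le_antisymm h (hP.2 hQ.1 h))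
    choose f hf1 hf2 using hne
    refine ⟨∏ Q ∈ (hfin.toFinset.erase P).attach, f Q.1 Q.2, fun h => ?_, fun Q hQ hQP => ?_⟩
    · obtain ⟨Q, -, hQ⟩ := hPp.prod_mem_iff.1 h
      exact hf2 Q.1 Q.2 hQ
    · have hmem : Q ∈ hfin.toFinset.erase P := Finset.mem_erase.2 ⟨hQP, hfin.mem_toFinset.2 hQ⟩
      exact Ideal.mem_of_dvd _ (Finset.dvd_prod_of_mem _ (Finset.mem_attach _ ⟨Q, hmem⟩)) (hf1 Q hmem)
  have hpoint : ∀ (P : Ideal A), P.IsPrime → ∀ f, f ∉ P → ∃ M : Ideal A, M.IsMaximal ∧ P ≤ M ∧ f ∉ M := by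
    intro P hP f hf
    by_contra! h
    apply hf
    rw [← hP.radical, Ideal.radical_eq_jacobson, Ideal.jacobson, Ideal.mem_sInf]
    rintro M ⟨hPM, hM⟩
    exact h M hM hPM
  have huniq : ∀ Q ∈ minimalPrimes A, Q ≤ m → Q = P0 := by
    intro Q hQ hQm
    obtain ⟨f, hf, hf'⟩ := hprod P0 hP0'
    obtain ⟨M, hM, hP0M, hfM⟩ := hpoint P0 hP0p f hf
    obtain ⟨σ, hσ⟩ := hpt M hM
    have h1 : ∀ R ∈ minimalPrimes A, R ≤ m → R.comap σ = P0 := fun R hR hRm => by
      by_contra hne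
      exact hfM (hσ ▸ Ideal.comap_mono hRm (hf' _ (hcomap σ R hR) hne))
    exact Ideal.comap_injective_of_surjective σ σ.surjective ((h1 Q hQ hQm).trans (h1 P0 hP0' hP0m).symm)
  have huniq' : ∀ M : Ideal A, M.IsMaximal → ∀ Q ∈ minimalPrimes A, ∀ R ∈ minimalPrimes A, Q ≤ M → R ≤ M → Q = R := by
    intro M hM Q hQ R hR hQM hRM
    obtain ⟨σ, hσ⟩ := hpt M hM
    have h : ∀ Q ∈ minimalPrimes A, Q ≤ M → Q.comap σ.symm = P0 := fun Q hQ hQM =>
      huniq _ (hcomap σ.symm Q hQ) fun y hy => by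
        have := hσ.symm ▸ hQM (Ideal.mem_comap.1 hy)
        simpa [Ideal.mem_comap] using this
    exact Ideal.comap_injective_of_surjective σ.symm σ.symm.surjective ((h Q hQ hQM).trans (h R hR hRM).symm)
  have honly : ∀ Q ∈ minimalPrimes A, Q = P0 := by
    intro Q0 hQ0
    by_contra hne
    obtain ⟨f, hf, hf'⟩ := hprod P0 hP0'
    let J : Ideal A := ⨅ Q ∈ (minimalPrimes A \ {P0}), Q
    have htop : P0 ⊔ J = ⊤ := by
      by_contra h
      obtain ⟨M, hM, hle⟩ := Ideal.exists_le_maximal _ h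
      obtain ⟨Q, hQ, hQM⟩ : ∃ Q ∈ minimalPrimes A \ {P0}, Q ≤ M := by
        by_contra! h'
        choose g hg1 hg2 using fun Q (hQ : Q ∈ hfin.toFinset.erase P0) => SetLike.not_le_iff_exists.1
          (h' Q ⟨hfin.mem_toFinset.1 (Finset.mem_erase.1 hQ).2, (Finset.mem_erase.1 hQ).1⟩)
        have hmem : ∏ Q ∈ (hfin.toFinset.erase P0).attach, g Q.1 Q.2 ∈ J := by
          simp only [J, Submodule.mem_iInf]
          intro Q hQ
          have hQ' : Q ∈ hfin.toFinset.erase P0 := Finset.mem_erase.2 ⟨hQ.2, hfin.mem_toFinset.2 hQ.1⟩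
          exact Ideal.mem_of_dvd _ (Finset.dvd_prod_of_mem _ (Finset.mem_attach _ ⟨Q, hQ'⟩)) (hg1 Q hQ')
        obtain ⟨Q, -, hQ⟩ := hM.isPrime.prod_mem_iff.1 (hle (Ideal.mem_sup_right hmem))
        exact hg2 Q.1 Q.2 hQ
      exact hQ.2 (huniq' M hM Q hQ.1 P0 hP0' hQM (le_sup_left.trans hle))
    obtain ⟨e, he, e', he', hee⟩ := Submodule.mem_sup.1 (show (1 : A) ∈ P0 ⊔ J by rw [htop]; trivial)
    have hnil : IsNilpotent (e * e') := by
      rw [← mem_nilradical, nilradical, Ideal.zero_eq_bot, ← Ideal.sInf_minimalPrimes, Ideal.mem_sInf]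
      intro Q hQ
      by_cases h : Q = P0
      · exact h ▸ P0.mul_mem_right _ he
      · simp only [J, Submodule.mem_iInf] at he'
        exact Q.mul_mem_left _ (he' Q ⟨hQ, h⟩)
    obtain ⟨n, hn⟩ := hnil
    obtain ⟨u, v, huv⟩ : IsCoprime (e ^ n) (e' ^ n) := IsCoprime.pow ⟨1, 1, by rw [one_mul, one_mul, hee]⟩
    have hidem : IsIdempotentElem (u * e ^ n) := by
      show u * e ^ n * (u * e ^ n) = u * e ^ n
      have hz : e ^ n * e' ^ n = 0 := by rw [← mul_pow, hn]
      calc u * e ^ n * (u * e ^ n) = u * e ^ n * (1 - v * e' ^ n) := by rw [← huv]; ring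
        _ = u * e ^ n - u * v * (e ^ n * e' ^ n) := by ring
        _ = u * e ^ n := by rw [hz, mul_zero, sub_zero]
    rcases hconn _ hidem with h | h
    · rw [h, zero_add] at huv
      rcases Nat.eq_zero_or_pos n with rfl | hn0
      · simp at hn
        exact hP0p.one_notMem (by simp [hn])
      simp only [J, Submodule.mem_iInf] at he'
      refine hQ0.1.1.one_notMem ?_
      rw [← huv]
      exact Q0.mul_mem_left _ (Q0.pow_mem_of_mem (he' Q0 ⟨hQ0, hne⟩) n hn0)
    · rcases Nat.eq_zero_or_pos n with rfl | hn0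
      · simp at hn
        exact hP0p.one_notMem (by simp [hn])
      refine hP0p.one_notMem ?_
      rw [← h]
      exact P0.mul_mem_left _ (P0.pow_mem_of_mem he n hn0)
  have hbelow : ∀ P : Ideal A, P.IsPrime → P0 ≤ P := fun P hP => by
    obtain ⟨Q, hQ, hQP⟩ := Ideal.exists_minimalPrimes_le (bot_le : ⊥ ≤ P)
    exact (honly Q hQ).symm.le.trans hQP
  rw [eq_bot_iff]
  intro a ha
  rw [Submodule.mem_bot]
  by_contra ha0
  obtain ⟨r, hr⟩ := (Ideal.mem_iInf_smul_pow_eq_bot_iff m a).1 (by simpa [Submodule.mem_iInf] using ha)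
  let Ass := (associatedPrimes.finite A A).toFinset.erase P0
  have hne : ∀ P ∈ Ass, ∃ f ∈ P, f ∉ P0 := fun P hP => by
    obtain ⟨hPne, hP⟩ := Finset.mem_erase.1 hP
    exact SetLike.not_le_iff_exists.1 fun h => hPne (le_antisymm h (hbelow P (((associatedPrimes.finite A A).mem_toFinset).1 hP).1))
  choose f hf1 hf2 using hne
  let F := ∏ P ∈ Ass.attach, f P.1 P.2
  have hF : F ∉ P0 := fun h => by
    obtain ⟨P, -, hP⟩ := hP0p.prod_mem_iff.1 h
    exact hf2 P.1 P.2 hP
  obtain ⟨H, hH, -, hFH⟩ := hpoint P0 hP0p F hF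
  let Ann : A → Ideal A := fun x => (⊥ : Submodule A A).colon {x}
  have hAnn : ∀ x c, c ∈ Ann x ↔ c * x = 0 := fun x c => by simp [Ann, Submodule.mem_colon_singleton]
  obtain ⟨U, hU, haU⟩ := Ideal.exists_le_maximal (Ann a) (fun h => ha0 (by
    simpa [hAnn] using (show (1 : A) ∈ Ann a by rw [h]; trivial)))
  obtain ⟨σU, hσU⟩ := hpt U hU
  obtain ⟨σH, hσH⟩ := hpt H hH
  let ρ : A ≃ₐ[k] A := σU.trans σH.symm
  have hρ : ∀ c ∈ Ann (ρ a), c ∈ H := by
    intro c hc
    rw [hAnn] at hc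
    have h1 : ρ.symm c ∈ U := haU ((hAnn _ _).2 (ρ.injective (by rw [map_mul, ρ.apply_symm_apply, hc, map_zero])))
    rw [← hσU, Ideal.mem_comap] at h1
    rw [← hσH, Ideal.mem_comap]
    simpa [ρ] using h1
  let g : ℕ →o Submodule A A := ⟨fun n => Ann (F ^ n * ρ a), monotone_nat_of_le_succ fun n c hc => by
    rw [hAnn] at hc ⊢
    rw [pow_succ, show c * (F ^ n * F * ρ a) = F * (c * (F ^ n * ρ a)) by ring, hc, mul_zero]⟩
  obtain ⟨N, hN⟩ := (monotone_stabilizes_iff_noetherian.2 hnoe) g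
  have hx : F ^ N * ρ a ≠ 0 := fun h => hFH (hH.isPrime.mem_of_pow_mem N (hρ _ ((hAnn _ _).2 h)))
  obtain ⟨P, hP, hPle⟩ : ∃ P ∈ associatedPrimes A A, Ann (F ^ N * ρ a) ≤ P ∧ ∃ y, P = Ann (y * (F ^ N * ρ a)) := by
    obtain ⟨P, ⟨hl, hne', y, rfl⟩, hmax⟩ := set_has_maximal_iff_noetherian.mpr hnoe
      { P | Ann (F ^ N * ρ a) ≤ P ∧ P ≠ ⊤ ∧ ∃ y, P = Ann (y * (F ^ N * ρ a)) }
      ⟨_, le_rfl, fun h => hx (by simpa [hAnn] using (show (1 : A) ∈ Ann (F ^ N * ρ a) by rw [h]; trivial)), 1, by rw [one_mul]⟩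
    have hprime : (Ann (y * (F ^ N * ρ a))).IsPrime := by
      refine ⟨hne', fun {b c} hbc => or_iff_not_imp_left.2 fun hb => ?_⟩
      have hle : Ann (y * (F ^ N * ρ a)) ≤ Ann (b * y * (F ^ N * ρ a)) := fun d hd => by
        rw [hAnn] at hd ⊢
        rw [show d * (b * y * (F ^ N * ρ a)) = b * (d * (y * (F ^ N * ρ a))) by ring, hd, mul_zero]
      have htop' : Ann (b * y * (F ^ N * ρ a)) ≠ ⊤ := fun h => hb ((hAnn _ _).2 (by
        have h1 : (1 : A) ∈ Ann (b * y * (F ^ N * ρ a)) := by rw [h]; trivial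
        rw [hAnn, one_mul, mul_assoc] at h1
        exact h1))
      rw [hle.eq_of_not_lt (hmax _ ⟨hl.trans hle, htop', _, rfl⟩), hAnn]
      rw [hAnn] at hbc
      rw [← hbc]; ring
    exact ⟨_, isAssociatedPrime_iff.2 ⟨hprime, _, rfl⟩, hl, y, rfl⟩
  obtain ⟨hle, y, hy⟩ := hPle
  have hPP0 : P = P0 := by
    by_contra hne
    have hPA : P ∈ Ass := Finset.mem_erase.2 ⟨hne, (associatedPrimes.finite A A).mem_toFinset.2 hP⟩
    have hFP : F ∈ P := Ideal.mem_of_dvd _ (Finset.dvd_prod_of_mem _ (Finset.mem_attach _ ⟨P, hPA⟩)) (hf1 P hPA)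
    rw [hy, hAnn] at hFP
    have h1 : y ∈ g (N + 1) := (hAnn _ _).2 (by rw [← hFP, pow_succ]; ring)
    rw [← hN (N + 1) (Nat.le_succ N)] at h1
    have h2 : (1 : A) ∈ P := by rw [hy, hAnn, one_mul]; exact (hAnn _ _).1 h1
    exact hP.1.one_notMem h2
  have hP0ρ : P0.comap ρ = P0 := honly _ (hcomap ρ P0 hP0')
  have hz : (1 - (r : A)) * a = 0 := by rw [sub_mul, one_mul, ← smul_eq_mul, hr, sub_self]
  have hz' : ρ (1 - (r : A)) ∈ P0 := hPP0 ▸ hle ((hAnn _ _).2 (by
    rw [show ρ (1 - (r : A)) * (F ^ N * ρ a) = F ^ N * (ρ (1 - (r : A)) * ρ a) by ring, ← map_mul, hz, map_zero, mul_zero]))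
  have hz2 : 1 - (r : A) ∈ m := hP0m (hP0ρ ▸ Ideal.mem_comap.2 hz')
  exact hm.ne_top ((Ideal.eq_top_iff_one _).2 (by simpa using m.add_mem hz2 r.2))

end Groth.Agent.S17472
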