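import Groth.Statements.S17474
import Groth.Agent.PicLaw.Mumford

set_option autoImplicit false
universe u
open CategoryTheory MonoidalCategory CartesianMonoidalCategory MonObj GrpObj AlgebraicGeometry CategoryTheory.Limits
open AlgGrp
open scoped Groth.Agent.PicLaw

namespace Groth.Agent.S17474

/-- Over an algebraically closed field k, let X be a projective variety (an integral k-scheme admitting
a closed immersion into some projective space over k) and let a connected k-group scheme of finite
type G act on X. For a k-point g of G write t_g : X → X, x ↦ g · x. Then for every invertible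
O_X-module L and every invertible M with L ⊗ M ≅ O_X (an inverse of L), the invertible module
t_g^*(L) ⊗ M is algebraically equivalent to zero. Equivalently, the neutral component of the
automorphism group scheme of X acts trivially on the Néron–Severi group of X. -/
theorem result (k : Type u) [Field k] [IsAlgClosed k]
    (G X : Over (Spec (CommRingCat.of k))) [GrpObj G] [LocallyOfFiniteType G.hom] [QuasiCompact G.hom]
    [ConnectedSpace ↥G.left] [IsIntegral X.left] (hX : RelProj.IsHProjective X.hom)
    (a : AlgGrp.Action G X) (g : 𝟙_ (Over (Spec (CommRingCat.of k))) ⟶ G)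
    (L M : X.left.Modules) (hL : PicF.IsInvertible L) (hM : PicF.IsInvertible M)
    (hLM : Nonempty (CohB1.tensorMod L M ≅ Coh.structureModule X.left)) :
    @Pic13.IsAlgEquivZero k _ X.left ⟨X.hom⟩
      (CohB1.tensorMod ((Scheme.Modules.pullback (lift (toUnit X ≫ g) (𝟙 X) ≫ a.act).left).obj L) M) := by
  open Groth.Agent in
  exact (by
    letI : X.left.Over (Spec (CommRingCat.of k)) := ⟨X.hom⟩
    let P : Over (Spec (CommRingCat.of k)) := X ⊗ G
    let A : P ⟶ X := lift (snd X G) (fst X G) ≫ a.act
    let N : P.left.Modules := CohB1.tensorMod ((Scheme.Modules.pullback A.left).obj L)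
      ((Scheme.Modules.pullback (fst X G).left).obj M)
    have hA := PicLoc.isInvertible_pullback A.left hL
    have hf := PicLoc.isInvertible_pullback (fst X G).left hM
    have hN : PicF.IsInvertible N := PicLaw.isInvertible_tensor hA hf
    have key : ∀ t : 𝟙_ (Over (Spec (CommRingCat.of k))) ⟶ G,
        Nonempty ((Scheme.Modules.pullback (lift (𝟙 X) (toUnit X ≫ t)).left).obj N ≅
          CohB1.tensorMod ((Scheme.Modules.pullback (lift (toUnit X ≫ t) (𝟙 X) ≫ a.act).left).obj L) M) := by
      intro t
      have h1 : lift (𝟙 X) (toUnit X ≫ t) ≫ A = lift (toUnit X ≫ t) (𝟙 X) ≫ a.act := by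
        simp only [A, comp_lift_assoc, lift_snd, lift_fst]
      have h2 : lift (𝟙 X) (toUnit X ≫ t) ≫ fst X G = 𝟙 X := lift_fst _ _
      refine (PicLaw.iso_iff (PicLoc.isInvertible_pullback _ hN)
        (PicLaw.isInvertible_tensor (PicLoc.isInvertible_pullback _ hL) hM)).mpr ?_
      rw [PicLaw.cls_pullback _ hN, PicLaw.cls_tensor hA hf, PicLaw.cls_tensor (PicLoc.isInvertible_pullback _ hL) hM, map_mul,
        PicLaw.cls_pullback _ hL, PicLaw.cls_pullback _ hM, PicLaw.cls_pullback _ hL, ← PicLaw.pl_comp,
        ← PicLaw.pl_comp, ← Over.comp_left, ← Over.comp_left, h1, h2, Over.id_left, PicLaw.pl_id]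
    obtain ⟨e⟩ := key g
    obtain ⟨e₁⟩ := key η[G]
    obtain ⟨e₀⟩ := hLM
    have h1 : lift (toUnit X ≫ η[G]) (𝟙 X) ≫ a.act = 𝟙 X := by
      have h := congrArg ((λ_ X).inv ≫ ·) a.one_act
      simp only [Iso.inv_hom_id] at h
      rw [show lift (toUnit X ≫ η[G]) (𝟙 X) = (λ_ X).inv ≫ η[G] ▷ X by
        apply CartesianMonoidalCategory.hom_ext <;> simp, Category.assoc]
      exact h
    have e₂ : Nonempty (CohB1.tensorMod ((Scheme.Modules.pullback (lift (toUnit X ≫ η[G]) (𝟙 X) ≫ a.act).left).obj L) M ≅
        CohB1.tensorMod L M) := by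
      refine (PicLaw.iso_iff (PicLaw.isInvertible_tensor (PicLoc.isInvertible_pullback _ hL) hM)
        (PicLaw.isInvertible_tensor hL hM)).mpr ?_
      rw [PicLaw.cls_tensor (PicLoc.isInvertible_pullback _ hL) hM, PicLaw.cls_tensor hL hM, PicLaw.cls_pullback _ hL, h1, Over.id_left, PicLaw.pl_id]
    obtain ⟨e₂⟩ := e₂
    have hs : ∀ (t : 𝟙_ (Over (Spec (CommRingCat.of k))) ⟶ G),
        (lift (𝟙 X) (toUnit X ≫ t)).left = Pic13.sliceAt k X.left G.hom t.left (Over.w t) := by
      intro t
      apply pullback.hom_ext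
      · exact (congrArg Over.Hom.left (lift_fst (𝟙 X) (toUnit X ≫ t))).trans (pullback.lift_fst _ _ _).symm
      · exact (congrArg Over.Hom.left (lift_snd (𝟙 X) (toUnit X ≫ t))).trans (pullback.lift_snd _ _ _).symm
    refine ⟨G.left, G.hom, inferInstance, inferInstance, inferInstance, N, hN, g.left, η[G].left, Over.w g, Over.w η[G],
      ⟨(Scheme.Modules.pullbackCongr (hs g).symm).app N ≪≫ e⟩,
      ⟨(Scheme.Modules.pullbackCongr (hs η[G]).symm).app N ≪≫ e₁ ≪≫ e₂ ≪≫ e₀⟩⟩)

end Groth.Agent.S17474
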