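import Groth.Statements.S17476
import Groth.Agent.HartogsAffine.Basic
import Groth.Agent.RegLoc.Serre
import Mathlib.AlgebraicGeometry.Modules.Tilde
import Mathlib.AlgebraicGeometry.Properties

set_option autoImplicit false
universe u
open CategoryTheory AlgebraicGeometry Opposite
open Coh

namespace Groth.Agent.S17476

section
open AlgebraicGeometry CategoryTheory TopologicalSpace Opposite
open scoped AlgebraicGeometry

variable {R : CommRingCat.{u}} (M : ModuleCat.{u} R)

theorem isLocalizedModule_toOpen_of_eq (V : (Spec R).Opens) (g : R) (h : V = PrimeSpectrum.basicOpen g) :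
    IsLocalizedModule.Away g (tilde.toOpen M V).hom := by
  subst h
  infer_instance

theorem hom_ext_of_toOpen {N : (Spec R).Modules} (U : (Spec R).Opens)
    (α β : (Scheme.Modules.restrictFunctor U.ι).obj (tilde M) ⟶ (Scheme.Modules.restrictFunctor U.ι).obj N)
    (h : ∀ (W : U.toScheme.Opens) (m : M),
      α.app W ((tilde.toOpen M (U.ι ''ᵁ W)).hom m) = β.app W ((tilde.toOpen M (U.ι ''ᵁ W)).hom m)) :
    α = β := by
  refine Scheme.Modules.hom_ext _ _ fun W => ?_
  ext s
  apply TopCat.Sheaf.eq_of_locally_eq'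
    (⟨((Scheme.Modules.restrictFunctor U.ι).obj N).presheaf, ((Scheme.Modules.restrictFunctor U.ι).obj N).isSheaf⟩)
    (fun i : {g : R // PrimeSpectrum.basicOpen g ≤ U.ι ''ᵁ W} => U.ι ⁻¹ᵁ PrimeSpectrum.basicOpen i.1) W
    (fun i => homOfLE ((U.ι.preimage_mono i.2).trans (U.ι.preimage_image_eq W).le))
  · intro x hx
    obtain ⟨_, ⟨_, ⟨g, rfl⟩, rfl⟩, hxg, hle⟩ := PrimeSpectrum.isBasis_basic_opens.exists_subset_of_mem_open
      (show U.ι x ∈ U.ι ''ᵁ W from ⟨x, hx, rfl⟩) (U.ι ''ᵁ W).2
    exact Opens.mem_iSup.2 ⟨⟨g, hle⟩, hxg⟩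
  · rintro ⟨g, hg⟩
    set D := U.ι ⁻¹ᵁ PrimeSpectrum.basicOpen g
    have hDW : D ≤ W := (U.ι.preimage_mono hg).trans (U.ι.preimage_image_eq W).le
    have hD : U.ι ''ᵁ D = PrimeSpectrum.basicOpen g := by
      refine (U.ι.image_preimage_eq_opensRange_inf _).trans (inf_eq_right.mpr ?_)
      rw [Scheme.Opens.opensRange_ι]
      exact hg.trans (fun y hy => by obtain ⟨z, _, rfl⟩ := hy; exact z.2)
    haveI := isLocalizedModule_toOpen_of_eq M _ g hD
    let s' : Γ((Scheme.Modules.restrictFunctor U.ι).obj (tilde M), D) :=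
      ((Scheme.Modules.restrictFunctor U.ι).obj (tilde M)).presheaf.map (homOfLE hDW).op s
    have key : α.app D s' = β.app D s' := by
      obtain ⟨⟨m, ⟨t, ht⟩⟩, hmt⟩ :=
        IsLocalizedModule.surj (Submonoid.powers g) (tilde.toOpen M (U.ι ''ᵁ D)).hom s'
      obtain ⟨k, rfl⟩ := ht
      let r₀ : Γ(Spec R, U.ι ''ᵁ D) :=
        (Spec R).presheaf.map (homOfLE (le_top : U.ι ''ᵁ D ≤ ⊤)).op ((Scheme.ΓSpecIso R).inv (g ^ k))
      have hr₀ : IsUnit r₀ := by
        have h0 : IsUnit ((Spec R).presheaf.map (homOfLE (le_top : U.ι ''ᵁ D ≤ ⊤)).op ((Scheme.ΓSpecIso R).inv g)) := by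
          have hle : U.ι ''ᵁ D ≤ (Spec R).basicOpen ((Scheme.ΓSpecIso R).inv g) :=
            hD.le.trans (le_of_eq (basicOpen_eq_of_affine g).symm)
          have := RingedSpace.isUnit_res_basicOpen (Spec R).toRingedSpace ((Scheme.ΓSpecIso R).inv g)
          have h2 := this.map ((Spec R).presheaf.map (homOfLE hle).op).hom
          change IsUnit (((Spec R).presheaf.map (homOfLE ((Spec R).basicOpen_le _)).op ≫
            (Spec R).presheaf.map (homOfLE hle).op) _) at h2
          rw [← Functor.map_comp] at h2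
          exact h2
        have h1 := h0.pow k
        simp only [← map_pow] at h1
        exact h1
      let r : Γ(U.toScheme, D) := (U.ι.appIso D).hom r₀
      have hr : IsUnit r := hr₀.map (U.ι.appIso D).hom.hom
      have hrs : r • s' = (tilde.toOpen M (U.ι ''ᵁ D)).hom m := by
        refine Eq.trans ?_ hmt
        show ((U.ι.appIso D).inv ((U.ι.appIso D).hom r₀)) • (show Γ(tilde M, U.ι ''ᵁ D) from s') = _
        rw [← CommRingCat.comp_apply, Iso.hom_inv_id, CommRingCat.id_apply]
        exact (Scheme.Modules.smul_Spec_def (M := tilde M) (U := U.ι ''ᵁ D) (g ^ k) (show Γ(tilde M, U.ι ''ᵁ D) from s')).symm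
      refine hr.smul_left_cancel.1 ?_
      rw [← Scheme.Modules.Hom.app_smul, ← Scheme.Modules.Hom.app_smul, hrs]
      exact h D m
    exact (ConcreteCategory.congr_hom (α.mapPresheaf.naturality (homOfLE hDW).op) s).symm.trans
      (key.trans (ConcreteCategory.congr_hom (β.mapPresheaf.naturality (homOfLE hDW).op) s))

theorem app_smul_restrict {M' N' : (Spec R).Modules} (U : (Spec R).Opens)
    (α : (Scheme.Modules.restrictFunctor U.ι).obj M' ⟶ (Scheme.Modules.restrictFunctor U.ι).obj N')
    (W : U.toScheme.Opens) (c : R) (z : Γ(M', U.ι ''ᵁ W)) :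
    α.app W (c • z : Γ(M', U.ι ''ᵁ W)) = (c • (show Γ(N', U.ι ''ᵁ W) from α.app W z) : Γ(N', U.ι ''ᵁ W)) := by
  let r₀ : Γ(Spec R, U.ι ''ᵁ W) := (Spec R).presheaf.map (U.ι ''ᵁ W).leTop.op ((Scheme.ΓSpecIso R).inv c)
  have h := Scheme.Modules.Hom.app_smul α ((U.ι.appIso W).hom r₀) (show Γ((Scheme.Modules.restrictFunctor U.ι).obj M', W) from z)
  have e : (U.ι.appIso W).inv ((U.ι.appIso W).hom r₀) = r₀ := by
    rw [← CommRingCat.comp_apply, Iso.hom_inv_id, CommRingCat.id_apply]
  change α.app W (((U.ι.appIso W).inv ((U.ι.appIso W).hom r₀)) • z : Γ(M', U.ι ''ᵁ W)) =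
    ((U.ι.appIso W).inv ((U.ι.appIso W).hom r₀)) • (show Γ(N', U.ι ''ᵁ W) from α.app W z) at h
  rw [e] at h
  exact h

theorem tilde_map_app_toOpen {N : ModuleCat.{u} R} (g : M ⟶ N) (V : (Spec R).Opens) (m : M) :
    (tilde.map g).app V ((tilde.toOpen M V).hom m) = (tilde.toOpen N V).hom (g.hom m) :=
  ConcreteCategory.congr_hom (tilde.toOpen_map_app g V) m

theorem toOpen_self (V : (Spec R).Opens) (r : R) :
    (tilde.toOpen (ModuleCat.of R R) V).hom r =
      (Spec R).presheaf.map (homOfLE (le_top : V ≤ ⊤)).op ((Scheme.ΓSpecIso R).inv r) :=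
  rfl

end

set_option maxHeartbeats 1000000 in
/-- Let R be a Noetherian ring, Z = Spec R, M a finitely generated R-module with associated
quasi-coherent sheaf M~ (so that Hom_R(M, R) = Hom_Z(M~, O_Z)), and Z₀ ⊆ Z an open subscheme. (1) If
the restriction of functions Γ(Z, O_Z) → Γ(Z₀, O_Z) is injective, then the restriction map Hom_Z(M~,
O_Z) → Hom_{Z₀}(M~|Z₀, O_{Z₀}) is injective. (2) If R is an integrally closed domain and the closed
complement of Z₀ has codimension at least 2 (every prime ideal outside Z₀ has height at least 2),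
then that restriction map is bijective. (The published first assertion assumes only that Z₀ is
dense; for R = k[x,y]/(x², xy), M = R and Z₀ the locus y ≠ 0, which is dense, multiplication by x is
a nonzero element of Hom_R(M, R) restricting to zero, so schematic density is what is needed and
what the printed argument uses. The published second assertion is for a normal irreducible affine
variety; any Noetherian integrally closed domain is allowed here.) -/
theorem result (R : Type u) [CommRing R] [IsNoetherianRing R]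
    (M : ModuleCat.{u} (CommRingCat.of R)) [Module.Finite R M] (U : (Spec (CommRingCat.of R)).Opens) :
    (Function.Injective ((Spec (CommRingCat.of R)).presheaf.map (homOfLE (le_top : U ≤ ⊤)).op) →
      Function.Injective (fun φ : AlgebraicGeometry.tilde M ⟶ Coh.structureModule (Spec (CommRingCat.of R)) =>
        (Scheme.Modules.restrictFunctor U.ι).map φ)) ∧
    (IsDomain R → IsIntegrallyClosed R → (∀ p : PrimeSpectrum R, p ∉ U → (2 : ℕ∞) ≤ p.asIdeal.height) →
      Function.Bijective (fun φ : AlgebraicGeometry.tilde M ⟶ Coh.structureModule (Spec (CommRingCat.of R)) =>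
        (Scheme.Modules.restrictFunctor U.ι).map φ)) := by
  let R' : CommRingCat.{u} := CommRingCat.of R
  let res : Γ(Spec R', ⊤) → Γ(Spec R', U) := (Spec R').presheaf.map (homOfLE (le_top : U ≤ ⊤)).op
  have hU : U.ι ''ᵁ (⊤ : U.toScheme.Opens) = U := by simp
  have inj : Function.Injective res →
      Function.Injective (fun φ : AlgebraicGeometry.tilde M ⟶ Coh.structureModule (Spec R') =>
        (Scheme.Modules.restrictFunctor U.ι).map φ) := by
    intro hinj φ φ' hφ
    haveI : (tilde.functor R').Full := (tilde.fullyFaithfulFunctor (R := R')).full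
    obtain ⟨g, rfl⟩ := (tilde.functor R').map_surjective (X := (M : ModuleCat R')) (Y := ModuleCat.of R' R') φ
    obtain ⟨g', rfl⟩ := (tilde.functor R').map_surjective (X := (M : ModuleCat R')) (Y := ModuleCat.of R' R') φ'
    congr 1
    refine ModuleCat.hom_ext (LinearMap.ext fun m => ?_)
    apply (Scheme.ΓSpecIso R').commRingCatIsoToRingEquiv.symm.injective
    apply hinj
    have e : (tilde.map g).app (U.ι ''ᵁ ⊤) ((tilde.toOpen M (U.ι ''ᵁ ⊤)).hom m) =
        (tilde.map g').app (U.ι ''ᵁ ⊤) ((tilde.toOpen M (U.ι ''ᵁ ⊤)).hom m) :=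
      congrArg (fun a : (Scheme.Modules.restrictFunctor U.ι).obj (tilde M) ⟶
          (Scheme.Modules.restrictFunctor U.ι).obj (Coh.structureModule (Spec R')) => Scheme.Modules.Hom.app a ⊤ ((tilde.toOpen M (U.ι ''ᵁ ⊤)).hom m)) hφ
    rw [tilde_map_app_toOpen, tilde_map_app_toOpen, toOpen_self, toOpen_self] at e
    have h2 := congrArg ((Spec R').presheaf.map (homOfLE hU.ge).op) e
    rw [← CommRingCat.comp_apply, ← CommRingCat.comp_apply, ← Functor.map_comp] at h2
    exact h2
  refine ⟨inj, fun hdom hint hht => ?_⟩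
  have hbij : Function.Bijective res := by
    haveI : IsLocallyNoetherian (Spec R') := inferInstance
    refine Groth.Agent.HartogsAffine.bijective_res U fun x hx => ?_
    haveI : (x.asIdeal : Ideal R).IsPrime := PrimeSpectrum.isPrime (show PrimeSpectrum R from x)
    let _ : Algebra R ((Spec R').presheaf.stalk x) := StructureSheaf.stalkAlgebra R x
    haveI : IsLocalization.AtPrime ((Spec R').presheaf.stalk x) x.asIdeal := StructureSheaf.IsLocalization.to_stalk R x
    haveI : IsDomain ((Spec R').presheaf.stalk x) := IsLocalization.isDomain_of_atPrime _ x.asIdeal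
    haveI : IsIntegrallyClosed ((Spec R').presheaf.stalk x) :=
      isIntegrallyClosed_of_isLocalization _ x.asIdeal.primeCompl
        (fun a ha => mem_nonZeroDivisors_of_ne_zero fun h0 => ha (h0 ▸ x.asIdeal.zero_mem))
    have h1 := IsLocalization.AtPrime.ringKrullDim_eq_height x.asIdeal ((Spec R').presheaf.stalk x)
    have h2 := Groth.Agent.RegLoc.Serre.min_two_dim_le_depth (A := (Spec R').presheaf.stalk x)
    rw [h1] at h2
    have h3 : min (2 : WithBot ℕ∞) (x.asIdeal.height : WithBot ℕ∞) = 2 :=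
      min_eq_left (WithBot.coe_le_coe.mpr (hht x hx))
    rw [h3] at h2
    exact WithBot.coe_le_coe.mp h2
  refine ⟨inj hbij.1, fun ψ => ?_⟩
  let ρ : R → Γ(Spec R', U.ι ''ᵁ ⊤) := fun r => (tilde.toOpen (ModuleCat.of R' R') (U.ι ''ᵁ ⊤)).hom r
  have hρ : Function.Bijective ρ := by
    have : ρ = (fun r => (Spec R').presheaf.map (homOfLE hU.le).op (res ((Scheme.ΓSpecIso R').inv r))) := by
      funext r
      simp only [ρ, res, toOpen_self, ← CommRingCat.comp_apply, Category.assoc, ← Functor.map_comp]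
      rfl
    rw [this]
    refine Function.Bijective.comp ?_ (hbij.comp (Scheme.ΓSpecIso R').commRingCatIsoToRingEquiv.symm.bijective)
    have : IsIso ((Spec R').presheaf.map (homOfLE hU.le).op) := by
      have : IsIso (homOfLE hU.le) := ⟨homOfLE hU.ge, rfl, rfl⟩
      infer_instance
    exact ConcreteCategory.bijective_of_isIso _
  let e := Equiv.ofBijective ρ hρ
  let v : M → Γ(Spec R', U.ι ''ᵁ ⊤) := fun m => ψ.app ⊤ ((tilde.toOpen M (U.ι ''ᵁ ⊤)).hom m)
  let g : M →ₗ[R] R :=
    { toFun := fun m => e.symm (v m)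
      map_add' := fun a b => hρ.1 (by
        refine (e.apply_symm_apply _).trans ?_
        refine Eq.trans ?_ (map_add (tilde.toOpen (ModuleCat.of R' R') (U.ι ''ᵁ ⊤)).hom (e.symm (v a)) (e.symm (v b))).symm
        refine Eq.trans ?_ (congrArg₂ (fun x y : Γ(Spec R', U.ι ''ᵁ ⊤) => x + y)
          (e.apply_symm_apply (v a)).symm (e.apply_symm_apply (v b)).symm)
        exact (congrArg (ψ.app ⊤) (map_add (tilde.toOpen M (U.ι ''ᵁ ⊤)).hom a b)).trans (map_add (ψ.app ⊤).hom _ _))
      map_smul' := fun c a => hρ.1 (by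
        show e (e.symm _) = ρ (c * e.symm (v a))
        rw [e.apply_symm_apply]
        show v (c • a) = (tilde.toOpen (ModuleCat.of R' R') (U.ι ''ᵁ ⊤)).hom (c • (e.symm (v a) : (ModuleCat.of R' R' : ModuleCat R')))
        rw [map_smul]
        simp only [v, map_smul]
        refine (app_smul_restrict U ψ ⊤ c _).trans ?_
        exact congrArg (fun w : (modulesSpecToSheaf.obj (tilde (ModuleCat.of R' R'))).presheaf.obj (op (U.ι ''ᵁ ⊤)) => (c : R') • w) (e.apply_symm_apply _).symm) }
  refine ⟨tilde.map (ModuleCat.ofHom g : M ⟶ ModuleCat.of R' R'), hom_ext_of_toOpen M U _ ψ fun W m => ?_⟩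
  show (tilde.map (ModuleCat.ofHom g : M ⟶ ModuleCat.of R' R')).app (U.ι ''ᵁ W) _ = _
  rw [tilde_map_app_toOpen]
  have hle : U.ι ''ᵁ W ≤ U.ι ''ᵁ ⊤ := U.ι.image_mono le_top
  have hM : (tilde.toOpen M (U.ι ''ᵁ W)).hom m =
      ((Scheme.Modules.restrictFunctor U.ι).obj (tilde M)).presheaf.map (homOfLE (le_top : W ≤ ⊤)).op
        ((tilde.toOpen M (U.ι ''ᵁ ⊤)).hom m) :=
    (ConcreteCategory.congr_hom (tilde.toOpen_res M _ _ (homOfLE hle)) m).symm
  have hN : (tilde.toOpen (ModuleCat.of R' R') (U.ι ''ᵁ W)).hom (g m) =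
      ((Scheme.Modules.restrictFunctor U.ι).obj (Coh.structureModule (Spec R'))).presheaf.map
        (homOfLE (le_top : W ≤ ⊤)).op (ρ (g m)) :=
    (ConcreteCategory.congr_hom (tilde.toOpen_res (ModuleCat.of R' R') _ _ (homOfLE hle)) (g m)).symm
  rw [hM]
  refine hN.trans ?_
  rw [show ρ (g m) = v m from e.apply_symm_apply _]
  exact (ConcreteCategory.congr_hom (ψ.mapPresheaf.naturality (homOfLE (le_top : W ≤ ⊤)).op)
    ((tilde.toOpen M (U.ι ''ᵁ ⊤)).hom m)).symm

end Groth.Agent.S17476
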