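import Groth.Statements.S1748
import Groth.Agent.DRing.InjAmp
import Groth.Agent.DualCx.Gorenstein
import Groth.Agent.DualCx.Amplitude
import Groth.Agent.InjHull.Noetherian
import Mathlib.LinearAlgebra.DirectSum.TensorProduct
import Mathlib.LinearAlgebra.DirectSum.Finsupp
import Mathlib.Algebra.Polynomial.Basis

set_option autoImplicit false
universe u
open CategoryTheory
open scoped TensorProduct Polynomial
attribute [local instance] HasDerivedCategory.standard
open InjHull

namespace Groth.Agent.S1748

/-- Let A be a Noetherian ring and E an injective A-module. Then A[x] ⊗_A E, as an object of D(A[x]) in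
degree 0, has injective amplitude in [0, 1]: it is quasi-isomorphic to a complex of injective
A[x]-modules concentrated in degrees 0 and 1. In particular it has finite injective dimension. -/
theorem result (A : Type u) [CommRing A] [IsNoetherianRing A] (E : Type u) [AddCommGroup E] [Module A E] [Module.Injective A E] : DRing.HasInjAmplitudeIn A[X] 0 1 (Dual.inD A[X] (A[X] ⊗[A] E)) := by
  classical
  let W := A[X] ⊗[A] E
  -- `W` is injective over `A`
  let eW : W ≃ₗ[A] DirectSum (ULift.{u} ℕ) (fun _ => E) :=
    (LinearEquiv.rTensor E (((Polynomial.basisMonomials A).reindex Equiv.ulift.symm).repr.trans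
      (finsuppLEquivDirectSum A A (ULift.{u} ℕ)))) ≪≫ₗ
      TensorProduct.directSumLeft A A (fun _ => A) E ≪≫ₗ
        DFinsupp.mapRange.linearEquiv (fun _ => TensorProduct.lid A E)
  have hWA : Module.Injective A W :=
    have := InjHull.Noetherian.injective_directSum (R := A) (fun _ : ULift.{u} ℕ => E) fun _ => inferInstance
    InjHull.Basic.injective_of_equiv this eW.symm
  let H : ModuleCat.{u} A[X] := (ModuleCat.coextendScalars (algebraMap A A[X])).obj (ModuleCat.of A W)
  let ev : H → (A[X] →ₗ[A] W) := fun h =>
    { toFun := fun b => ModuleCat.CoextendScalars.equiv (algebraMap A A[X]) (ModuleCat.of A W) h b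
      map_add' := fun x y => map_add _ _ _
      map_smul' := fun a x => by
        rw [Algebra.smul_def]
        exact (ModuleCat.CoextendScalars.equiv (algebraMap A A[X]) (ModuleCat.of A W) h).map_smul a x }
  have hevi : Function.Injective ev := fun h h' e => by
    refine (ModuleCat.CoextendScalars.equiv (algebraMap A A[X]) (ModuleCat.of A W)).injective (LinearMap.ext fun b => ?_)
    exact LinearMap.congr_fun e b
  let mk : (A[X] →ₗ[A] W) → H := fun g =>
    (ModuleCat.CoextendScalars.equiv (algebraMap A A[X]) (ModuleCat.of A W)).symm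
      { toFun := fun b => g b
        map_add' := fun x y => g.map_add x y
        map_smul' := fun a (x : A[X]) => (congrArg g (Algebra.smul_def a x).symm).trans (g.map_smul a x) }
  have hmk : ∀ g, ev (mk g) = g := fun g => LinearMap.ext fun b => rfl
  have hsmul : ∀ (b c : A[X]) (h : H), ev (b • h) c = ev h (c * b) := fun b c h => rfl
  have hadd : ∀ h h' c, ev (h + h') c = ev h c + ev h' c := fun h h' c => rfl
  -- the two maps
  let ι : W →ₗ[A[X]] H :=
    { toFun := fun w => mk ((LinearMap.toSpanSingleton A[X] W w).restrictScalars A)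
      map_add' := fun w w' => hevi (LinearMap.ext fun c => by
        rw [hadd, hmk, hmk, hmk]; exact smul_add c w w')
      map_smul' := fun b w => hevi (LinearMap.ext fun c => by
        rw [RingHom.id_apply, hsmul, hmk, hmk]; exact smul_smul c b w) }
  let D : H →ₗ[A[X]] H :=
    { toFun := fun h => mk ((ev h).comp (LinearMap.mulLeft A (Polynomial.X : A[X])) -
        ((LinearMap.lsmul A[X] W (Polynomial.X : A[X])).restrictScalars A).comp (ev h))
      map_add' := fun h h' => hevi (LinearMap.ext fun c => by
        rw [hadd, hmk, hmk, hmk]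
        simp only [LinearMap.sub_apply, LinearMap.comp_apply, LinearMap.coe_restrictScalars,
          LinearMap.lsmul_apply, hadd, smul_add]
        abel)
      map_smul' := fun b h => hevi (LinearMap.ext fun c => by
        rw [RingHom.id_apply, hsmul, hmk, hmk]
        simp only [LinearMap.sub_apply, LinearMap.comp_apply, LinearMap.coe_restrictScalars,
          LinearMap.lsmul_apply, LinearMap.mulLeft_apply, hsmul, mul_assoc]) }
  have hD : ∀ h c, ev (D h) c = ev h (Polynomial.X * c) - (Polynomial.X : A[X]) • ev h c := fun h c => by
    change ev (mk _) c = _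
    rw [hmk]; rfl
  have hι : ∀ w c, ev (ι w) c = c • w := fun w c => by
    change ev (mk _) c = _
    rw [hmk]; rfl
  have hιi : Function.Injective ι := fun w w' e => by
    have h1 := (hι w 1).symm.trans ((congrArg (fun h => ev h 1) e).trans (hι w' 1))
    rwa [one_smul, one_smul] at h1
  have hex : Function.Exact ι D := fun h => by
    constructor
    · intro h0
      refine ⟨ev h 1, hevi (LinearMap.ext fun c => ?_)⟩
      rw [hι]
      have hX : ∀ c, ev h (Polynomial.X * c) = (Polynomial.X : A[X]) • ev h c := fun c => by
        have h1 := hD h c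
        rw [h0] at h1
        exact sub_eq_zero.mp h1.symm
      induction c using Polynomial.induction_on with
      | C a => rw [← Polynomial.algebraMap_eq, algebraMap_smul, ← map_smul, Algebra.smul_def, mul_one]
      | add p q hp hq => rw [add_smul, hp, hq, map_add]
      | monomial k a ih =>
        rw [pow_succ', mul_left_comm, hX, ← ih, smul_smul]
    · rintro ⟨w, rfl⟩
      refine hevi (LinearMap.ext fun c => ?_)
      rw [hD, hι, hι, smul_smul, sub_self]
      rfl
  have hDs : Function.Surjective D := fun ψ => by
    let seq : ℕ → W := fun n => Nat.rec (motive := fun _ => W) 0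
      (fun k r => ev ψ (Polynomial.X ^ k) + (Polynomial.X : A[X]) • r) n
    refine ⟨mk ((Polynomial.basisMonomials A).constr A seq), hevi ?_⟩
    refine (Polynomial.basisMonomials A).ext fun k => ?_
    have hb : ∀ k, (Polynomial.basisMonomials A) k = (Polynomial.X : A[X]) ^ k := fun k => by
      rw [Polynomial.coe_basisMonomials, Polynomial.X_pow_eq_monomial]
    rw [hD, hmk, hb, ← pow_succ', ← hb (k + 1), ← hb k, Module.Basis.constr_basis,
      Module.Basis.constr_basis, hb]
    exact add_sub_cancel_right _ _
  have hH : CategoryTheory.Injective H :=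
    have : CategoryTheory.Injective (ModuleCat.of A W) :=
      Module.injective_object_of_injective_module (inj := hWA) A W
    (ModuleCat.restrictCoextendScalarsAdj (algebraMap A A[X])).map_injective _ this
  have hW : CategoryTheory.HasInjectiveDimensionLT (ModuleCat.of A[X] W) 2 := by
    have hS : (ModuleCat.shortComplexOfCompEqZero ι D hex.linearMap_comp_eq_zero).ShortExact :=
      ModuleCat.shortComplex_shortExact _ hex hιi hDs
    have h1 : CategoryTheory.HasInjectiveDimensionLT (ModuleCat.of A[X] H) 1 :=
      (inferInstance : CategoryTheory.HasInjectiveDimensionLT H 1)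
    have h2 : CategoryTheory.HasInjectiveDimensionLT (ModuleCat.of A[X] H) 2 :=
      CategoryTheory.hasInjectiveDimensionLT_of_ge _ 1 2 (by omega)
    exact hS.hasInjectiveDimensionLT_X₁ 1 h1 h2
  refine DRing.InjAmp.hasInjAmplitudeIn_of_vanishing fun J i hi => ?_
  rcases hi with hi | hi
  · exact DualCx.Amplitude.subsingleton_of_lt 0 (A[X] ⧸ J) i hi
  · obtain ⟨k, rfl⟩ : ∃ k : ℕ, i = ((k + 2 : ℕ) : ℤ) := ⟨(i - 2).toNat, by omega⟩
    have : Subsingleton (CategoryTheory.Abelian.Ext.{u} (ModuleCat.of A[X] (A[X] ⧸ J)) (ModuleCat.of A[X] W) (k + 2)) :=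
      subsingleton_of_forall_eq 0 fun e => CategoryTheory.Abelian.Ext.eq_zero_of_hasInjectiveDimensionLT e 2 (by omega)
    exact (DualCx.Gorenstein.extEquiv (A[X] ⧸ J) W (k + 2)).symm.toEquiv.subsingleton

end Groth.Agent.S1748
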