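import Groth.Statements.S17480
import Groth.Agent.GrpdLib.AffNormalQuot
import Groth.Agent.GrpdLib.MonoClosedField
import Groth.Agent.GrpScheme.Basic
import Groth.Agent.Wt.ChevalleyGeneral
import Groth.Agent.FpqcDesc.Props
import Groth.Agent.SGA1Quot.Sigma
import Mathlib.AlgebraicGeometry.Morphisms.FlatDescent
import Mathlib.AlgebraicGeometry.AlgClosed.Basic

set_option linter.style.haveILetI false
set_option backward.isDefEq.respectTransparency false
set_option maxHeartbeats 1000000

set_option autoImplicit false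
universe u
open CategoryTheory MonoidalCategory CartesianMonoidalCategory MonObj GrpObj AlgebraicGeometry CategoryTheory.Limits
open AlgGrp

namespace Groth.Agent.S17480

theorem exists_finite_translates {k : Type u} [Field k] [IsAlgClosed k]
    {K H H₀ : Over (Spec (CommRingCat.of k))} [GrpObj H] [GrpObj H₀] [LocallyOfFiniteType K.hom] [QuasiCompact K.hom]
    (π : K ⟶ H) (j : H₀ ⟶ H) [IsMonHom j] [IsOpenImmersion j.left] :
    ∃ (A₀ : Type u) (_ : Finite A₀) (c : A₀ → (𝟙_ (Over (Spec (CommRingCat.of k))) ⟶ K)),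
      ∀ x : K.left, ∃ a, ((toUnit K ≫ c a ≫ π)⁻¹ * π).left x ∈ Set.range j.left := by
  classical
  let U : (𝟙_ (Over (Spec (CommRingCat.of k))) ⟶ K) → Set K.left := fun c =>
    ((toUnit K ≫ c ≫ π)⁻¹ * π).left ⁻¹' Set.range j.left
  have hU : ∀ c, IsOpen (U c) := fun c =>
    j.left.isOpenEmbedding.isOpen_range.preimage ((toUnit K ≫ c ≫ π)⁻¹ * π).left.continuous
  haveI : JacobsonSpace K.left := LocallyOfFiniteType.jacobsonSpace K.hom
  haveI : CompactSpace K.left := QuasiCompact.compactSpace_of_compactSpace K.hom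
  have hcl : ∀ x ∈ closedPoints K.left, x ∈ ⋃ c, U c := by
    intro x hx
    let y := (pointEquivClosedPoint K.hom).symm ⟨x, hx⟩
    let c : 𝟙_ (Over (Spec (CommRingCat.of k))) ⟶ K := Over.homMk y.1 y.2
    have hc : c.left (IsLocalRing.closedPoint k) = x :=
      congrArg Subtype.val ((pointEquivClosedPoint K.hom).apply_symm_apply ⟨x, hx⟩)
    refine Set.mem_iUnion.2 ⟨c, η[H₀].left (IsLocalRing.closedPoint k), ?_⟩
    have e : c ≫ ((toUnit K ≫ c ≫ π)⁻¹ * π) = η[H] := by
      rw [MonObj.comp_mul, GrpObj.comp_inv, ← Category.assoc c (toUnit K),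
        toUnit_unique (c ≫ toUnit K) (𝟙 _), Category.id_comp, inv_mul_cancel, Hom.one_def,
        toUnit_unique (toUnit _) (𝟙 _), Category.id_comp]
    rw [← hc, ← Scheme.Hom.comp_apply, ← Over.comp_left, IsMonHom.one_hom, ← e, Over.comp_left,
      Scheme.Hom.comp_apply]
  have huniv : ⋃ c, U c = Set.univ := by
    by_contra hne
    obtain ⟨x, hx, hxc⟩ := nonempty_inter_closedPoints (Set.nonempty_compl.2 hne)
      (isOpen_iUnion hU).isClosed_compl.isLocallyClosed
    exact hx (hcl x hxc)
  obtain ⟨t, ht⟩ := isCompact_univ.elim_finite_subcover U hU huniv.ge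
  refine ⟨t, inferInstance, fun a => a.1, fun x => ?_⟩
  obtain ⟨c, hc, hxc⟩ := Set.mem_iUnion₂.1 (ht (Set.mem_univ x))
  exact ⟨⟨c, hc⟩, hxc⟩

/-- Over an algebraically closed field k, let G be a connected linear algebraic group (a smooth, affine,
connected k-group scheme), i : H → G a closed subgroup scheme (not necessarily reduced), j : H⁰ → H
its neutral component (an open subgroup scheme which is connected), and n : N → G the normaliser of
H⁰ in G. Let Q₁ = G/H and Q₂ = G/N be the quotients (G-actions with base points o₁, o₂ whose orbit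
maps are flat and surjective, with G × H ≅ G ×_{Q₁} G and likewise for N), and let f : Q₁ → Q₂ be
the morphism under which the orbit map of o₁ composes to the orbit map of o₂ (it exists since H ⊆
N). Then f is an affine morphism. -/
theorem result (k : Type u) [Field k] [IsAlgClosed k]
    (G H H₀ N Q₁ Q₂ : Over (Spec (CommRingCat.of k))) [GrpObj G] [GrpObj H] [GrpObj H₀] [GrpObj N]
    [IsAffine G.left] [Smooth G.hom] [ConnectedSpace ↥G.left]
    (i : H ⟶ G) [IsMonHom i] (hi : IsClosedImmersion i.left)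
    (j : H₀ ⟶ H) [IsMonHom j] (hj : IsOpenImmersion j.left) [ConnectedSpace ↥H₀.left]
    (n : N ⟶ G) (hN : Red.IsNormalizerOf (j ≫ i) n)
    (a₁ : AlgGrp.Action G Q₁) (o₁ : 𝟙_ (Over (Spec (CommRingCat.of k))) ⟶ Q₁) (hQ₁ : AGF.IsQuotient i Q₁ a₁ o₁)
    (a₂ : AlgGrp.Action G Q₂) (o₂ : 𝟙_ (Over (Spec (CommRingCat.of k))) ⟶ Q₂) (hQ₂ : AGF.IsQuotient n Q₂ a₂ o₂)
    (f : Q₁ ⟶ Q₂) (hf : a₁.orbitMap o₁ ≫ f = a₂.orbitMap o₂) :
    IsAffineHom f.left := by
  classical
  obtain ⟨hQ₁l, hp₁f, hp₁s, sq₁⟩ := hQ₁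
  obtain ⟨hQ₂l, hp₂f, hp₂s, sq₂⟩ := hQ₂
  haveI := hi; haveI := hj; haveI := hp₁f; haveI := hp₁s; haveI := hp₂f; haveI := hp₂s
  haveI : IsMonHom n := hN.1
  haveI : Mono n := hN.2.1
  let p₁ := a₁.orbitMap o₁
  let p₂ := a₂.orbitMap o₂
  haveI : IsLocallyNoetherian Q₁.left := LocallyOfFiniteType.isLocallyNoetherian Q₁.hom
  haveI : IsLocallyNoetherian Q₂.left := LocallyOfFiniteType.isLocallyNoetherian Q₂.hom
  have cov : ∀ (Q : Over (Spec (CommRingCat.of k))) [LocallyOfFiniteType Q.hom] (A : Over (Spec (CommRingCat.of k)))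
      [LocallyOfFiniteType A.hom] [QuasiCompact A.hom] (p : A ⟶ Q),
      LocallyOfFinitePresentation p.left ∧ QuasiCompact p.left := by
    intro Q _ A _ _ p
    haveI : IsLocallyNoetherian Q.left := LocallyOfFiniteType.isLocallyNoetherian Q.hom
    haveI : LocallyOfFiniteType (p.left ≫ Q.hom) := by rw [Over.w p]; infer_instance
    haveI : LocallyOfFiniteType p.left := locallyOfFiniteType_of_comp p.left Q.hom
    haveI : QuasiCompact (p.left ≫ Q.hom) := by rw [Over.w p]; infer_instance
    exact ⟨LocallyOfFinitePresentation.iff_locallyOfFiniteType.2 inferInstance, QuasiCompact.of_comp p.left Q.hom⟩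
  haveI : QuasiCompact G.hom := inferInstance
  obtain ⟨hp₁lfp, hp₁qc⟩ := cov Q₁ G p₁
  obtain ⟨hp₂lfp, hp₂qc⟩ := cov Q₂ G p₂
  haveI := hp₁lfp; haveI := hp₁qc; haveI := hp₂lfp; haveI := hp₂qc
  haveI : LocallyOfFiniteType H.hom := by rw [← Over.w i]; infer_instance
  haveI : QuasiCompact H.hom := by rw [← Over.w i]; infer_instance
  haveI : LocallyOfFiniteType H₀.hom := by rw [← Over.w j]; infer_instance
  haveI : IsLocallyNoetherian H.left := LocallyOfFiniteType.isLocallyNoetherian H.hom
  haveI : QuasiCompact H₀.hom := by rw [← Over.w j]; infer_instance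
  -- `N` is a closed subgroup
  have sqN := sq₂.map (Over.forget _)
  haveI : LocallyOfFiniteType (fst G N).left :=
    MorphismProperty.of_isPullback sqN.flip (inferInstance : LocallyOfFiniteType p₂.left)
  haveI : QuasiCompact (fst G N).left := MorphismProperty.of_isPullback sqN.flip hp₂qc
  have sqη : IsPullback (lift (toUnit N ≫ η[G]) (𝟙 N)) (toUnit N) (fst G N) η[G] :=
    IsPullback.of_isLimit' ⟨by simp⟩ (PullbackCone.IsLimit.mk _ (fun s => s.fst ≫ snd G N)
      (fun s => by
        refine CartesianMonoidalCategory.hom_ext _ _ ?_ (by simp)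
        rw [comp_lift, lift_fst, s.condition, ← Category.assoc]
        exact congrArg (· ≫ η[G]) (toUnit_unique _ _))
      (fun s => toUnit_unique _ _) (fun s m h₁ _ => by rw [← h₁]; simp))
  have eN : (toUnit N).left = N.hom := (Category.comp_id _).symm.trans (Over.w (toUnit N))
  haveI : LocallyOfFiniteType N.hom :=
    eN ▸ MorphismProperty.of_isPullback (sqη.map (Over.forget _)) ‹LocallyOfFiniteType (fst G N).left›
  haveI : QuasiCompact N.hom :=
    eN ▸ MorphismProperty.of_isPullback (sqη.map (Over.forget _)) ‹QuasiCompact (fst G N).left›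
  haveI : IsClosedImmersion n.left := GrpdLib.MonoClosedField.isClosedImmersion G N n
  haveI : IsAffine N.left := isAffine_of_isAffineHom n.left
  haveI : Mono i := Over.mono_of_mono_left i
  haveI : Mono j := Over.mono_of_mono_left j
  -- the neutral component is normal in `N`
  obtain ⟨w₀, hw₀⟩ := (hN.2.2 H₀ (j ≫ i)).2 fun X' x h =>
    ⟨⟨x * h * x⁻¹, by simp [MonObj.mul_comp, GrpObj.inv_comp]⟩,
     ⟨x⁻¹ * h * x, by simp [MonObj.mul_comp, GrpObj.inv_comp]⟩⟩
  haveI : IsMonHom w₀ :=
    { one_hom := (cancel_mono n).1 (by rw [Category.assoc, hw₀, IsMonHom.one_hom (j ≫ i), IsMonHom.one_hom n])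
      mul_hom := (cancel_mono n).1 (by
        rw [Category.assoc, hw₀, IsMonHom.mul_hom (j ≫ i), Category.assoc, IsMonHom.mul_hom n,
          ← hw₀, ← tensorHom_comp_tensorHom_assoc]) }
  haveI : Mono w₀ := by
    haveI : Mono (w₀ ≫ n) := by rw [hw₀]; infer_instance
    exact mono_of_mono w₀ n
  have hw₀n : AlgGrp.IsNormalHom w₀ := fun T g h => by
    obtain ⟨h', hh⟩ := ((hN.2.2 T (g ≫ n)).1 ⟨g, rfl⟩ T (𝟙 T) h).1
    refine ⟨h', (cancel_mono n).1 ?_⟩
    simpa [MonObj.mul_comp, GrpObj.inv_comp, hw₀] using hh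
  obtain ⟨Y, _, q, hqm, hYaff, hYlft, hqf, hqs, hqk⟩ :=
    GrpdLib.AffNormalQuot.exists_affine_quotient N H₀ w₀ hw₀n
  haveI := hqm; haveI := hYaff; haveI := hYlft; haveI := hqf; haveI := hqs
  obtain ⟨hqlfp, hqqc⟩ := cov Y N q
  -- the base change of `f`
  let c : G ⊗ N ⟶ G := (G ◁ n) ≫ μ[G]
  have hc : c = fst G N * (snd G N ≫ n) := by
    simp only [c, MonObj.mul_eq_mul, MonObj.comp_mul, whiskerLeft_fst, whiskerLeft_snd]
  have hmul : (G ◁ i) ≫ μ[G] = fst G H * (snd G H ≫ i) := by
    rw [MonObj.mul_eq_mul, MonObj.comp_mul, whiskerLeft_fst, whiskerLeft_snd]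
  have hrel : ∀ {T : Over (Spec (CommRingCat.of k))} (x y : T ⟶ G), x ≫ p₁ = y ≫ p₁ ↔ ∃ z : T ⟶ H, z ≫ i = x⁻¹ * y := by
    intro T x y
    refine ⟨fun he => ?_, fun ⟨z, hz⟩ => ?_⟩
    · obtain ⟨l, hl1, hl2⟩ := sq₁.exists_lift x y he
      refine ⟨l ≫ snd G H, ?_⟩
      rw [hmul, MonObj.comp_mul, hl1] at hl2
      rw [Category.assoc]
      exact eq_inv_mul_iff_mul_eq.2 hl2
    · have h := congrArg (lift x z ≫ ·) sq₁.w
      simp only [← Category.assoc, hmul, MonObj.comp_mul, lift_fst] at h
      rw [lift_snd, hz, mul_inv_cancel_left] at h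
      exact h
  let P := pullback p₂ f
  let M : G ⊗ N ⟶ P := pullback.lift (fst G N) (c ≫ p₁) (by rw [Category.assoc, hf]; exact sq₂.w)
  have big : IsPullback (M ≫ pullback.fst p₂ f) c p₂ (p₁ ≫ f) := by
    rw [hf, pullback.lift_fst]; exact sq₂
  have sqM : IsPullback M c (pullback.snd p₂ f) p₁ :=
    IsPullback.of_right big (pullback.lift_snd _ _ _) (IsPullback.of_hasPullback p₂ f)
  have sqMl := (sqM.map (Over.forget _)).flip
  haveI : Flat M.left := MorphismProperty.of_isPullback sqMl hp₁f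
  haveI : Surjective M.left := MorphismProperty.of_isPullback sqMl hp₁s
  haveI : QuasiCompact M.left := MorphismProperty.of_isPullback sqMl hp₁qc
  have hGq : (@Surjective ⊓ @Flat ⊓ @LocallyOfFinitePresentation : MorphismProperty Scheme.{u}) (G ◁ q).left :=
    GrpScheme.Basic.whiskerLeft_mem _ q G ⟨⟨hqs, hqf⟩, hqlfp⟩
  obtain ⟨⟨_, _⟩, _⟩ := hGq
  haveI : EffectiveEpi (G ◁ q).left := inferInstance
  obtain ⟨ψ, hψ, -⟩ := GrpdLib.GrpOver.existsUnique_desc (G ◁ q) M fun T x y hxy => by
    have h1 : x ≫ fst G N = y ≫ fst G N := by simpa using congrArg (· ≫ fst G Y) hxy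
    have h2 : (x ≫ snd G N) ≫ q = (y ≫ snd G N) ≫ q := by simpa using congrArg (· ≫ snd G Y) hxy
    obtain ⟨z, hz⟩ := GrpdLib.GrpOver.kernel_factor hqk ((x ≫ snd G N)⁻¹ * (y ≫ snd G N))
      (by rw [MonObj.mul_comp, GrpObj.inv_comp, h2, inv_mul_cancel])
    apply pullback.hom_ext
    · simpa [M] using h1
    · simp only [M, Category.assoc, pullback.lift_snd]
      rw [← Category.assoc x, ← Category.assoc y]
      refine (hrel _ _).2 ⟨z ≫ j, ?_⟩
      rw [Category.assoc, ← hw₀, ← Category.assoc, hz, hc]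
      simp only [MonObj.comp_mul, MonObj.mul_comp, GrpObj.inv_comp, Category.assoc, h1, _root_.mul_inv_rev,
        _root_.mul_assoc, inv_mul_cancel_left]
  haveI : Surjective ψ.left := by
    haveI : Surjective ((G ◁ q).left ≫ ψ.left) := by rw [← Over.comp_left, hψ]; infer_instance
    exact Surjective.of_comp (G ◁ q).left ψ.left
  -- finitely many translates
  let K := pullback n i
  haveI : LocallyOfFiniteType K.hom := by
    haveI : IsClosedImmersion (pullback.snd n i).left :=
      MorphismProperty.of_isPullback ((IsPullback.of_hasPullback n i).map (Over.forget _)) ‹IsClosedImmersion n.left›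
    rw [← Over.w (pullback.snd n i)]; infer_instance
  haveI : QuasiCompact K.hom := by
    haveI : IsClosedImmersion (pullback.snd n i).left :=
      MorphismProperty.of_isPullback ((IsPullback.of_hasPullback n i).map (Over.forget _)) ‹IsClosedImmersion n.left›
    rw [← Over.w (pullback.snd n i)]; infer_instance
  obtain ⟨A₀, _, d, hd⟩ := exists_finite_translates (pullback.snd n i) j
  haveI : UniversallyClosed ψ.left := by
    haveI hdesc : MorphismProperty.DescendsAlong @UniversallyClosed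
      (@Surjective ⊓ @Flat ⊓ @QuasiCompact : MorphismProperty Scheme.{u}) := inferInstance
    refine MorphismProperty.of_pullback_fst_of_descendsAlong (P := @UniversallyClosed)
      (Q := (@Surjective ⊓ @Flat ⊓ @QuasiCompact : MorphismProperty Scheme.{u})) (f := M.left) (g := ψ.left)
      ⟨⟨inferInstance, inferInstance⟩, inferInstance⟩ ?_
    let b : A₀ → (G ⊗ N ⟶ G ⊗ N) := fun a => lift (fst G N) (snd G N * (toUnit _ ≫ d a ≫ pullback.fst n i))
    have hb : ∀ a, b a ≫ M = M := fun a => by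
      apply pullback.hom_ext
      · simp [M, b]
      · simp only [M, Category.assoc, pullback.lift_snd]
        rw [← Category.assoc]
        symm
        refine (hrel _ _).2 ⟨toUnit _ ≫ d a ≫ pullback.snd n i, ?_⟩
        simp only [hc, b, MonObj.comp_mul, lift_fst, lift_snd_assoc, MonObj.mul_comp, Category.assoc,
          pullback.condition, _root_.mul_assoc, _root_.mul_inv_rev, inv_mul_cancel_left]
    let s : A₀ → ((G ⊗ N).left ⟶ pullback M.left ψ.left) := fun a =>
      pullback.lift (𝟙 _) ((b a ≫ G ◁ q).left) (by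
        rw [Category.id_comp, ← Over.comp_left, Category.assoc, hψ, hb])
    have hsurj : Surjective (Sigma.desc s) := ⟨fun z => by
      obtain ⟨w, hw⟩ : ∃ w : pullback.snd M.left ψ.left z ∈ Set.range (G ◁ q).left, True :=
        ⟨(G ◁ q).left.surjective _, trivial⟩
      obtain ⟨y₂, hy₂⟩ := w
      obtain ⟨y, hy1, hy2⟩ := Scheme.Pullback.exists_preimage_pullback
        (f := pullback.snd M.left ψ.left) (g := (G ◁ q).left) z y₂ hy₂.symm
      let r := (pullback (pullback.snd M.left ψ.left) (G ◁ q).left).fromSpecResidueField y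
      let T : Over (Spec (CommRingCat.of k)) :=
        Over.mk (r ≫ pullback.snd (pullback.snd M.left ψ.left) (G ◁ q).left ≫ (G ⊗ N).hom)
      let x₂ : T ⟶ G ⊗ N := Over.homMk (r ≫ pullback.snd (pullback.snd M.left ψ.left) (G ◁ q).left)
        (Category.assoc _ _ _)
      let r₁ := r ≫ pullback.fst (pullback.snd M.left ψ.left) (G ◁ q).left
      have e0 : r₁ ≫ pullback.snd M.left ψ.left = x₂.left ≫ (G ◁ q).left := by
        simp only [r₁, x₂, Over.homMk_left, Category.assoc, pullback.condition]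
      have e1 : (r₁ ≫ pullback.fst M.left ψ.left) ≫ M.left = x₂.left ≫ M.left := by
        rw [Category.assoc, pullback.condition, ← Category.assoc, e0, Category.assoc]
        exact congrArg (x₂.left ≫ ·) (congrArg (fun m => m.left) hψ)
      let x₁ : T ⟶ G ⊗ N := Over.homMk (r₁ ≫ pullback.fst M.left ψ.left) (by
        rw [← Over.w M, ← Category.assoc, e1, Category.assoc, Over.w M]
        exact Category.assoc _ _ _)
      have e2 : x₁ ≫ M = x₂ ≫ M := Over.OverMorphism.ext e1
      have h1 : x₁ ≫ fst G N = x₂ ≫ fst G N := by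
        simpa [M] using congrArg (· ≫ pullback.fst p₂ f) e2
      have h2 : (x₁ ≫ c) ≫ p₁ = (x₂ ≫ c) ≫ p₁ := by
        simpa [M] using congrArg (· ≫ pullback.snd p₂ f) e2
      obtain ⟨h, hh⟩ := (hrel _ _).1 h2
      let κ : T ⟶ K := pullback.lift ((x₁ ≫ snd G N)⁻¹ * (x₂ ≫ snd G N)) h (by
        rw [hh, hc]
        simp only [MonObj.comp_mul, MonObj.mul_comp, GrpObj.inv_comp, Category.assoc, h1, _root_.mul_inv_rev,
          _root_.mul_assoc, inv_mul_cancel_left])
      let s₀ : T.left := IsLocalRing.closedPoint _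
      obtain ⟨a, ha⟩ := hd (κ.left s₀)
      let v := κ ≫ ((toUnit K ≫ d a ≫ pullback.snd n i)⁻¹ * pullback.snd n i)
      have hv : Set.range v.left ⊆ Set.range j.left := by
        rintro _ ⟨t, rfl⟩
        rw [show t = s₀ from Subsingleton.elim (α := PrimeSpectrum _) _ _]
        exact ha
      let h₀ : T ⟶ H₀ := Over.homMk (IsOpenImmersion.lift j.left v.left hv)
        (by rw [← Over.w j, IsOpenImmersion.lift_fac_assoc, Over.w v])
      have hh₀ : h₀ ≫ j = v := Over.OverMorphism.ext (IsOpenImmersion.lift_fac _ _ _)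
      have hκ : κ ≫ pullback.fst n i = (toUnit T ≫ d a ≫ pullback.fst n i) * (h₀ ≫ w₀) := by
        refine (cancel_mono n).1 ?_
        rw [MonObj.mul_comp, Category.assoc h₀, hw₀, ← Category.assoc h₀, hh₀]
        simp only [v, MonObj.comp_mul, GrpObj.comp_inv, MonObj.mul_comp, GrpObj.inv_comp, Category.assoc]
        simp only [pullback.condition, ← Category.assoc κ (toUnit K), toUnit_unique (κ ≫ toUnit K) (toUnit T)]
        rw [mul_inv_cancel_left]
      have hwq : w₀ ≫ q = 1 := GrpdLib.GrpOver.kernel_comp hqk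
      have hfin : x₁ ≫ b a ≫ G ◁ q = x₂ ≫ G ◁ q := by
        refine CartesianMonoidalCategory.hom_ext _ _ (by simp [b, h1]) ?_
        have e3 := congrArg (· ≫ q) hκ
        simp only [κ, pullback.lift_fst, MonObj.mul_comp, GrpObj.inv_comp, Category.assoc, hwq, MonObj.comp_one,
          _root_.mul_one] at e3
        simp only [b, Category.assoc, whiskerLeft_snd, lift_snd_assoc, MonObj.mul_comp, MonObj.comp_mul]
        rw [← Category.assoc x₁ (toUnit _), toUnit_unique (x₁ ≫ toUnit _) (toUnit T), ← e3, mul_inv_cancel_left]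
      have e4 : x₁.left ≫ s a = r₁ := by
        apply pullback.hom_ext
        · simp [s, x₁]
        · rw [Category.assoc, pullback.lift_snd, e0]
          exact congrArg (fun m => m.left) hfin
      refine ⟨Sigma.ι (fun _ : A₀ => (G ⊗ N).left) a (x₁.left s₀), ?_⟩
      rw [← Scheme.Hom.comp_apply, Sigma.ι_desc, ← Scheme.Hom.comp_apply, e4]
      simp only [r₁, r, Scheme.Hom.comp_apply]
      exact (congrArg _ (Scheme.fromSpecResidueField_apply _ _)).trans hy1⟩
    haveI := hsurj
    haveI : UniversallyClosed (Sigma.desc s ≫ pullback.fst M.left ψ.left) := by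
      rw [show Sigma.desc s ≫ pullback.fst M.left ψ.left = Sigma.desc fun _ : A₀ => 𝟙 (G ⊗ N).left from
        Sigma.hom_ext _ _ fun a => by simp [s]]
      haveI := SGA1Quot.isFinite_sigmaDesc A₀ (fun _ => (G ⊗ N).left) (fun _ => 𝟙 _) fun _ => inferInstance
      infer_instance
    exact UniversallyClosed.of_comp_surjective (Sigma.desc s) _
  haveI : IsAffine (G ⊗ Y).left :=
    inferInstanceAs (IsAffine (Limits.pullback G.hom Y.hom))
  haveI : IsAffine P.left := Wt.Chevalley.isAffine ψ.left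
  haveI : IsAffineHom (pullback.fst p₂ f).left := inferInstance
  have := Groth.Agent.FpqcDesc.descendsAlong_isAffineHom
  exact MorphismProperty.of_isPullback_of_descendsAlong (P := @IsAffineHom)
    (Q := @Surjective ⊓ @Flat ⊓ @QuasiCompact) ((IsPullback.of_hasPullback p₂ f).map (Over.forget _))
    ⟨⟨hp₂s, hp₂f⟩, hp₂qc⟩ ‹IsAffineHom (pullback.fst p₂ f).left›

end Groth.Agent.S17480
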