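import Groth.Statements.S17482
import Groth.Agent.EulerChar.Cartier
import Groth.Agent.ProperFin.Descend
import Groth.Agent.ProjProper.Basic
import Groth.Agent.S4495
-- import your own Groth.Agent.* helpers here

set_option autoImplicit false
universe u
open CategoryTheory CategoryTheory.Limits AlgebraicGeometry
open Surf

namespace Groth.Agent.S17482

/-- Let k be an algebraically closed field of characteristic zero and X a smooth projective surface over
k (an integral scheme of dimension two with all local rings regular, admitting a closed immersion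
into some P^n_k over k) such that H^1(X, O_X) = 0. Let D be a nonempty closed subscheme of X, given
by a quasi-coherent ideal sheaf whose associated O_X-module I_D is invertible (a nonzero effective
divisor). If H^1(X, I_D) = 0, then D is connected. (The published statement is for rational
surfaces; this row assumes only H^1(X, O_X) = 0. Since H^1(X, I_D) depends only on the isomorphism
class of I_D, the same holds for every effective divisor linearly equivalent to D.) -/
theorem result
    (k : Type u) [Field k] [IsAlgClosed k] [CharZero k]
    (X : Scheme.{u}) [X.Over (Spec (CommRingCat.of k))] [AlgebraicGeometry.IsIntegral X]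
    (hdim : topologicalKrullDim X = 2) (hreg : ∀ x : X, IsRegularLocalRing (X.presheaf.stalk x))
    (hproj : ∃ (n : ℕ) (ι : X ⟶ CohB1.ProjSpace n k), IsClosedImmersion ι ∧
      ι ≫ CohB1.ProjSpace.toSpec n k = (X ↘ (Spec (CommRingCat.of k))))
    (hH1 : Subsingleton (Coh.HH X (Coh.structureModule X) 1))
    (D : X.IdealSheafData) (hD : PicF.IsInvertible (ClSub.idealMod D)) (hne : Nonempty ↥D.subscheme)
    (hvan : Subsingleton (Coh.HH X (ClSub.idealMod D) 1)) :
    ConnectedSpace ↥D.subscheme := by
  obtain ⟨n, ι, hι, hw⟩ := hproj
  haveI := hι
  haveI : IsProper (CohB1.ProjSpace.toSpec n k) := Groth.Agent.ProjProper.Basic.isProper_toSpec n k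
  haveI : IsProper (X ↘ Spec (CommRingCat.of k)) := by rw [← hw]; infer_instance
  have hS := Groth.Agent.EulerChar.shortExact_ideal D
  have hsurj : Function.Surjective D.subschemeι.appTop.hom := fun y => by
    obtain ⟨w, hw'⟩ := Groth.Agent.CohLin.exists_hMap_g_eq hS (n := 0)
      ((Groth.Agent.ProperFin.h0Sec (ClSub.quotMod D)).symm y) (@Subsingleton.elim _ hvan _ _)
    have h := congrArg (Groth.Agent.ProperFin.h0Sec (ClSub.quotMod D)) hw'
    rw [AddEquiv.apply_symm_apply, Groth.Agent.ProperFin.h0Sec_hMap] at h
    exact ⟨Groth.Agent.ProperFin.h0Sec _ w, h⟩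
  have hF : IsField Γ(X, ⊤) := isField_of_universallyClosed k (X ↘ Spec (CommRingCat.of k))
  haveI : PreconnectedSpace ↥D.subscheme := by
    refine (Groth.Agent.S4495.result D.subscheme.toLocallyRingedSpace).mpr fun e he => ?_
    obtain ⟨a, ha⟩ := hsurj e
    rcases eq_or_ne a 0 with rfl | hne0
    · exact Or.inl (ha.symm.trans (map_zero _))
    · obtain ⟨b, hb⟩ := hF.mul_inv_cancel hne0
      refine Or.inr ?_
      have he2 : D.subschemeι.appTop.hom b * e = 1 := by
        rw [← ha]
        exact (map_mul _ _ _).symm.trans ((congrArg _ ((mul_comm b a).trans hb)).trans (map_one _))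
      calc e = D.subschemeι.appTop.hom b * e * e := by rw [he2]; exact (one_mul e).symm
        _ = D.subschemeι.appTop.hom b * (e * e) := mul_assoc _ _ _
        _ = D.subschemeι.appTop.hom b * e := congrArg _ he
        _ = 1 := he2
  exact ⟨hne⟩

end Groth.Agent.S17482
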