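import Groth.Statements.S7618
import Mathlib
-- import your own Groth.Agent.* helpers here

set_option autoImplicit false
universe u
open CategoryTheory CategoryTheory.Limits AlgebraicGeometry
open Variety

namespace Groth.Agent.S7618

/-- Let X be a connected reduced scheme over a field k. Then the global functions on X that are integral
over k form a field. -/
theorem result (k : Type u) [Field k] (X : Scheme.{u}) [X.Over (Spec (CommRingCat.of k))] [ConnectedSpace ↥X] [IsReduced X] :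
    letI := ((X ↘ (Spec (CommRingCat.of k))).appTop.hom.comp (Scheme.ΓSpecIso (CommRingCat.of k)).inv.hom : k →+* Γ(X, ⊤)).toAlgebra
    IsField ↥(integralClosure k ↑Γ(X, ⊤)) := by
  letI := ((X ↘ (Spec (CommRingCat.of k))).appTop.hom.comp (Scheme.ΓSpecIso (CommRingCat.of k)).inv.hom : k →+* Γ(X, ⊤)).toAlgebra
  have hidem : ∀ e : Γ(X, ⊤), IsIdempotentElem e → e = 0 ∨ e = 1 := by
    intro e he
    have hcov : ∀ x : X, x ∈ X.basicOpen e ∨ x ∈ X.basicOpen (1 - e) := by
      intro x
      rw [Scheme.mem_basicOpen _ _ _ (show x ∈ (⊤ : X.Opens) from trivial),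
        Scheme.mem_basicOpen _ _ _ (show x ∈ (⊤ : X.Opens) from trivial), map_sub, map_one]
      exact IsLocalRing.isUnit_or_isUnit_one_sub_self _
    have hdisj : X.basicOpen e ⊓ X.basicOpen (1 - e) = ⊥ := by
      rw [← Scheme.basicOpen_mul, he.mul_one_sub_self, Scheme.basicOpen_zero]
    have hclosed : IsClosed (X.basicOpen e : Set X) := by
      rw [← isOpen_compl_iff, show (X.basicOpen e : Set X)ᶜ = X.basicOpen (1 - e) from
        Set.ext fun x => ⟨fun h => (hcov x).resolve_left h, fun h h' => by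
          have : x ∈ X.basicOpen e ⊓ X.basicOpen (1 - e) := ⟨h', h⟩
          rw [hdisj] at this
          exact this⟩]
      exact (X.basicOpen (1 - e)).2
    rcases isClopen_iff.1 ⟨hclosed, (X.basicOpen e).2⟩ with h | h
    · exact Or.inl ((basicOpen_eq_bot_iff e).1 (TopologicalSpace.Opens.ext h))
    · refine Or.inr (sub_eq_zero.1 ((basicOpen_eq_bot_iff (1 - e)).1 ?_)).symm
      rw [← hdisj, show X.basicOpen e = ⊤ from TopologicalSpace.Opens.ext h, top_inf_eq]
  haveI : Nontrivial Γ(X, ⊤) := by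
    obtain ⟨x⟩ := (inferInstance : Nonempty X)
    exact (X.presheaf.germ ⊤ x trivial).hom.domain_nontrivial
  haveI : _root_.IsReduced Γ(X, ⊤) := inferInstance
  refine ⟨⟨0, 1, zero_ne_one⟩, mul_comm, fun {a} ha => ?_⟩
  let S := Algebra.adjoin k ({(a : Γ(X, ⊤))} : Set Γ(X, ⊤))
  haveI : Module.Finite k S := Module.Finite.iff_fg.mpr (a.2.fg_adjoin_singleton)
  haveI : IsArtinianRing S := IsArtinianRing.of_finite k S
  let a' : S := ⟨a, Algebra.subset_adjoin rfl⟩
  obtain ⟨n, y, hy⟩ := IsArtinian.exists_pow_succ_smul_dvd (R := S) (M := S) a' (1 : S)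
  have hy' : (a : Γ(X, ⊤)) ^ (n + 1) * y = (a : Γ(X, ⊤)) ^ n := by
    have := congrArg (Subtype.val) hy
    simpa [a'] using this
  have key : ∀ m, (a : Γ(X, ⊤)) ^ n = (a : Γ(X, ⊤)) ^ (n + m) * (y : Γ(X, ⊤)) ^ m := by
    intro m
    induction m with
    | zero => simp
    | succ m ih =>
      rw [ih, pow_add (a : Γ(X, ⊤)) n m]
      conv_lhs => rw [← hy']
      ring
  have he : IsIdempotentElem ((a : Γ(X, ⊤)) ^ n * (y : Γ(X, ⊤)) ^ n) := by
    show _ * _ = _
    conv_rhs => rw [key n]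
    ring
  rcases hidem _ he with h | h
  · exfalso
    have h0 : (a : Γ(X, ⊤)) ^ n = 0 := by
      rw [key n, pow_add, mul_assoc, h, mul_zero]
    exact ha (Subtype.ext (IsReduced.eq_zero (a : Γ(X, ⊤)) ⟨n, h0⟩))
  · have hyint : IsIntegral k (y : Γ(X, ⊤)) :=
      (Algebra.IsIntegral.isIntegral (R := k) y).map S.val
    rcases n with _ | n
    · exact ⟨⟨_, hyint⟩, Subtype.ext (by simpa using hy')⟩
    · refine ⟨⟨(a : Γ(X, ⊤)) ^ n * (y : Γ(X, ⊤)) ^ (n + 1), (a.2.pow n).mul (hyint.pow _)⟩,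
        Subtype.ext ?_⟩
      show (a : Γ(X, ⊤)) * _ = 1
      rw [← h]
      ring

end Groth.Agent.S7618
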