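import Groth.Statements.S17483
import Groth.Agent.EulerChar.Cartier
import Groth.Agent.ProperFin.Descend
import Groth.Agent.ProjProper.Basic
import Groth.Agent.S7618
-- import your own Groth.Agent.* helpers here

set_option autoImplicit false
universe u
open CategoryTheory CategoryTheory.Limits AlgebraicGeometry
open Surf

namespace Groth.Agent.S17483

/-- Let k be an algebraically closed field of characteristic zero and X a smooth projective surface over
k (an integral scheme of dimension two with all local rings regular, admitting a closed immersion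
into some P^n_k over k) such that H^1(X, O_X) = 0. Let D be a closed subscheme of X, given by a
quasi-coherent ideal sheaf whose associated O_X-module I_D is invertible (an effective divisor). If
D is connected and reduced, then H^1(X, I_D) = 0. (The published statement asserts H^1(X, I_D) = 0
as soon as the linear system of D contains a connected curve, without reducedness; that fails: on
the blow-up of the projective plane at a point, with exceptional curve E, the divisor D = 2E is
connected and is the only member of its linear system, yet H^0(O_{2E}) is three-dimensional, so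
H^1(X, I_{2E}) is two-dimensional. The published statement is for rational surfaces; this row
assumes H^1(X, O_X) = 0 instead.) -/
theorem result
    (k : Type u) [Field k] [IsAlgClosed k] [CharZero k]
    (X : Scheme.{u}) [X.Over (Spec (CommRingCat.of k))] [AlgebraicGeometry.IsIntegral X]
    (hdim : topologicalKrullDim X = 2) (hreg : ∀ x : X, IsRegularLocalRing (X.presheaf.stalk x))
    (hproj : ∃ (n : ℕ) (ι : X ⟶ CohB1.ProjSpace n k), IsClosedImmersion ι ∧
      ι ≫ CohB1.ProjSpace.toSpec n k = (X ↘ (Spec (CommRingCat.of k))))
    (hH1 : Subsingleton (Coh.HH X (Coh.structureModule X) 1))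
    (D : X.IdealSheafData) (hD : PicF.IsInvertible (ClSub.idealMod D))
    [ConnectedSpace ↥D.subscheme] [IsReduced D.subscheme] :
    Subsingleton (Coh.HH X (ClSub.idealMod D) 1) := by
  obtain ⟨n, ι, hι, hw⟩ := hproj
  haveI := hι
  haveI : IsProper (CohB1.ProjSpace.toSpec n k) := Groth.Agent.ProjProper.Basic.isProper_toSpec n k
  haveI : IsProper (X ↘ Spec (CommRingCat.of k)) := by rw [← hw]; infer_instance
  have hS := Groth.Agent.EulerChar.shortExact_ideal D
  letI : D.subscheme.Over (Spec (CommRingCat.of k)) := ⟨D.subschemeι ≫ (X ↘ Spec (CommRingCat.of k))⟩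
  haveI : IsProper (D.subscheme ↘ Spec (CommRingCat.of k)) :=
    inferInstanceAs (IsProper (D.subschemeι ≫ (X ↘ Spec (CommRingCat.of k))))
  let φ : k →+* Γ(D.subscheme, ⊤) := (D.subscheme ↘ Spec (CommRingCat.of k)).appTop.hom.comp
    (Scheme.ΓSpecIso (CommRingCat.of k)).inv.hom
  letI : Algebra k Γ(D.subscheme, ⊤) := φ.toAlgebra
  haveI : Algebra.IsIntegral k Γ(D.subscheme, ⊤) := by
    refine Algebra.isIntegral_def.mpr ?_
    refine fun a => RingHom.IsIntegralElem.of_comp (f := RingHom.id k) (g := φ) ?_
    exact (RingHom.isIntegral_respectsIso.2 (e := (Scheme.ΓSpecIso (CommRingCat.of k)).symm.commRingCatIsoToRingEquiv)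
      _ (isIntegral_appTop_of_universallyClosed (D.subscheme ↘ Spec (CommRingCat.of k)))) a
  have hfield := Groth.Agent.S7618.result k D.subscheme
  have hbij : Function.Bijective φ := by
    have hF : IsField Γ(D.subscheme, ⊤) := by
      have htop : integralClosure k Γ(D.subscheme, ⊤) = ⊤ :=
        eq_top_iff.mpr fun a _ => Algebra.IsIntegral.isIntegral a
      exact MulEquiv.isField hfield ((Subalgebra.topEquiv (R := k)).symm.trans
        (Subalgebra.equivOfEq _ _ htop.symm)).toMulEquiv
    letI := hF.toField
    exact IsAlgClosed.algebraMap_bijective_of_isIntegral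
  refine subsingleton_of_forall_eq 0 fun x => ?_
  obtain ⟨z, rfl⟩ := Groth.Agent.CohLin.exists_hδ_eq hS (n := 0) x (@Subsingleton.elim _ hH1 _ _)
  obtain ⟨c, hc⟩ := hbij.2 (Groth.Agent.ProperFin.h0Sec (ClSub.quotMod D) z)
  let a : Γ(X, ⊤) := ((X ↘ Spec (CommRingCat.of k)).appTop.hom.comp (Scheme.ΓSpecIso (CommRingCat.of k)).inv.hom) c
  have hz : Groth.Agent.CohLin.hMap (ClSub.toSubscheme D) 0
      ((Groth.Agent.ProperFin.h0Sec (Coh.structureModule X)).symm a) = z := by
    refine (Groth.Agent.ProperFin.h0Sec _).injective ?_
    rw [Groth.Agent.ProperFin.h0Sec_hMap, AddEquiv.apply_symm_apply]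
    exact hc
  rw [← hz]
  exact Groth.Agent.CohLin.hδ_hMap_g hS _

end Groth.Agent.S17483
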