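import Groth.Statements.S17486
import Groth.Agent.FittLib.Sheaf
import Groth.Agent.QCoh.Exact
import Groth.Agent.PerfTri.Betti
import Groth.Agent.ParaFormal.Elkik.RankN
import Groth.Agent.FinCov71.Rank
-- import your own Groth.Agent.* helpers here

set_option autoImplicit false
universe u
open CategoryTheory CategoryTheory.Limits AlgebraicGeometry
open Coherent

namespace Groth.Agent.S17486

open CategoryTheory CategoryTheory.Limits AlgebraicGeometry in
theorem qcohBiprod {X : Scheme.{u}} (M N : X.Modules) [M.IsQuasicoherent] [N.IsQuasicoherent] :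
    (M ⊞ N).IsQuasicoherent := by
  haveI : ∀ j, ((pair M N).obj j).IsQuasicoherent := fun j => by
    rcases j with ⟨⟨⟩⟩ <;> assumption
  haveI : (colimit (pair M N)).IsQuasicoherent := Groth.Agent.QCoh.isQuasicoherent_colimit (pair M N)
  exact Groth.Agent.QCoh.isQuasicoherent_of_iso (biprod.isoCoprod M N).symm

open CategoryTheory CategoryTheory.Limits AlgebraicGeometry in
/-- The linear map on sections. -/
noncomputable def L {X : Scheme.{u}} {M N : X.Modules} (f : M ⟶ N) (U : X.Opens) :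
    Γ(M, U) →ₗ[Γ(X, U)] Γ(N, U) where
  toFun := f.app U
  map_add' := map_add _
  map_smul' r m := Scheme.Modules.Hom.app_smul f r m

/-- Let k be an algebraically closed field of characteristic zero and Y a smooth projective variety over
k (an integral scheme, smooth over k, with a closed immersion into some P^n_k over k). Let A = A₁ ⊕
A₂ and B = B₁ ⊕ B₂ be finite locally free O_Y-modules with A_i of rank a_i ≥ 1 and B_j of rank b_j ≥
1, a₁ + a₂ ≤ b₁ + b₂, such that the sheaves Hom(A₁, B₁), Hom(A₁, B₂), Hom(A₂, B₂) (right adjoints of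
A_i ⊗ -, whose existence is the stated instance hypothesis; it holds) are globally generated while
every morphism A₂ → B₁ is zero (the sheaf Hom(A₂, B₁) has no nonzero global section). For φ : A → B
let Z(φ) ⊆ Y be the closed set where φ drops rank, i.e. where the rank of φ on fibres is less than
a₁ + a₂: the zero set of the (b₁ + b₂ - a₁ - a₂)-th Fitting ideal sheaf of the cokernel of φ
(locally generated by the maximal minors of φ). If b₂ < a₂, then every φ : A → B drops rank at every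
point of Y, i.e. Z(φ) = Y. -/
theorem result
    (k : Type u) [Field k] [IsAlgClosed k] [CharZero k]
    (Y : Scheme.{u}) [Y.Over (Spec (CommRingCat.of k))] [AlgebraicGeometry.IsIntegral Y]
    [Smooth (Y ↘ Spec (CommRingCat.of k))]
    (hproj : ∃ (N : ℕ) (ι : Y ⟶ CohB1.ProjSpace N k), IsClosedImmersion ι ∧
      ι ≫ CohB1.ProjSpace.toSpec N k = (Y ↘ (Spec (CommRingCat.of k))))
    (A₁ A₂ B₁ B₂ : Y.Modules) (a₁ a₂ b₁ b₂ : ℕ)
    (hA₁ : FlatMod.IsFinLocFreeOfRank a₁ A₁) (hA₂ : FlatMod.IsFinLocFreeOfRank a₂ A₂)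
    (hB₁ : FlatMod.IsFinLocFreeOfRank b₁ B₁) (hB₂ : FlatMod.IsFinLocFreeOfRank b₂ B₂)
    (ha₁ : 1 ≤ a₁) (ha₂ : 1 ≤ a₂) (hb₁ : 1 ≤ b₁) (hb₂ : 1 ≤ b₂) (hab : a₁ + a₂ ≤ b₁ + b₂)
    [DCoh.HasSheafHom A₁] [DCoh.HasSheafHom A₂]
    (h₁₁ : Curv2.IsGloballyGenerated ((DCoh.sheafHom A₁).obj B₁))
    (h₁₂ : Curv2.IsGloballyGenerated ((DCoh.sheafHom A₁).obj B₂))
    (h₂₂ : Curv2.IsGloballyGenerated ((DCoh.sheafHom A₂).obj B₂))
    (h₂₁ : ∀ ψ : A₂ ⟶ B₁, ψ = 0) (hlt : b₂ < a₂) (φ : (A₁ ⊞ A₂) ⟶ (B₁ ⊞ B₂)) :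
    (((Fitt.sheafIdeal (cokernel φ) (b₁ + b₂ - (a₁ + a₂))).support : TopologicalSpace.Closeds Y) : Set Y) = Set.univ := by
  classical
  haveI := PerfTri.Betti.isQuasicoherent_of_isFinLocFree (FinCov71.isFinLocFree_of_rank hA₁)
  haveI := PerfTri.Betti.isQuasicoherent_of_isFinLocFree (FinCov71.isFinLocFree_of_rank hA₂)
  haveI := PerfTri.Betti.isQuasicoherent_of_isFinLocFree (FinCov71.isFinLocFree_of_rank hB₁)
  haveI := PerfTri.Betti.isQuasicoherent_of_isFinLocFree (FinCov71.isFinLocFree_of_rank hB₂)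
  haveI := Groth.Agent.ParaFormal.Elkik.isFiniteType_of_rank hB₁
  haveI := Groth.Agent.ParaFormal.Elkik.isFiniteType_of_rank hB₂
  haveI := qcohBiprod A₁ A₂
  haveI := qcohBiprod B₁ B₂
  let C := cokernel φ
  let π := cokernel.π φ
  haveI hCq : C.IsQuasicoherent := QCoh.isQuasicoherent_cokernel φ
  haveI hπe : Epi π := inferInstanceAs (Epi (cokernel.π φ))
  haveI hCf : SheafOfModules.IsFiniteType.{u} C := by
    refine QCoh.isFiniteType_of_forall_exists C fun x => ?_
    obtain ⟨W, hW, hxW, -⟩ := exists_isAffineOpen_mem_and_subset (show x ∈ (⊤ : Y.Opens) from trivial)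
    haveI : Module.Finite Γ(Y, W) Γ(B₁, W) := QCoh.finite_sections_of_isFiniteType B₁ hW
    haveI : Module.Finite Γ(Y, W) Γ(B₂, W) := QCoh.finite_sections_of_isFiniteType B₂ hW
    refine ⟨W, hW, hxW, Module.Finite.of_surjective
      ((L π W).comp ((L biprod.inl W).coprod (L biprod.inr W))) fun y => ?_⟩
    obtain ⟨z, rfl⟩ := QCoh.app_surjective_of_epi π hW y
    refine ⟨((biprod.fst : B₁ ⊞ B₂ ⟶ B₁).app W z, (biprod.snd : B₁ ⊞ B₂ ⟶ B₂).app W z), ?_⟩
    refine congrArg (π.app W) ?_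
    exact congr(($(biprod.total (X := B₁) (Y := B₂))).app W z)
  let r := b₁ + b₂ - (a₁ + a₂)
  refine Set.eq_univ_of_forall fun s => SetLike.mem_coe.2 (by_contra fun hs => ?_)
  obtain ⟨U, hsU, q, hq⟩ := (Groth.Agent.FittLib.exists_epi_iff C s r).2 hs
  obtain ⟨V, hsV, ⟨eA⟩⟩ := hA₁ s
  obtain ⟨V', hsV', ⟨eB⟩⟩ := hB₁ s
  obtain ⟨W, hW, hsW, hWle⟩ := exists_isAffineOpen_mem_and_subset
    (show s ∈ U ⊓ (V ⊓ V') from ⟨hsU, hsV, hsV'⟩)
  obtain ⟨m, hm⟩ := Groth.Agent.FittLib.exists_span_of_epi C q hW (fun x hx => (hWle hx).1)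
  obtain ⟨bA⟩ := Props.QProj.free_sections_of_restrict_iso A₁ eA hW (fun x hx => (hWle hx).2.1)
  obtain ⟨bB⟩ := Props.QProj.free_sections_of_restrict_iso B₁ eB hW (fun x hx => (hWle hx).2.2)
  let φ₁ : A₁ ⟶ B₁ := biprod.inl ≫ φ ≫ biprod.fst
  let π₁ := cokernel.π φ₁
  let d : C ⟶ cokernel φ₁ := cokernel.desc φ (biprod.fst ≫ π₁) (by
    apply biprod.hom_ext'
    · rw [comp_zero]
      exact (by simp only [φ₁, Category.assoc] : _ = (φ₁ ≫ π₁)).trans (cokernel.condition φ₁)
    · rw [comp_zero, ← Category.assoc φ, ← Category.assoc, h₂₁ (biprod.inr ≫ φ ≫ biprod.fst), zero_comp])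
  choose t ht using fun i => QCoh.app_surjective_of_epi π₁ hW (d.app W (m i))
  let k := kernel.lift π₁ φ₁ (cokernel.condition φ₁)
  have hex : (ShortComplex.mk φ₁ π₁ (cokernel.condition φ₁)).Exact :=
    ShortComplex.exact_of_g_is_cokernel _ (cokernelIsCokernel φ₁)
  haveI : Epi k := hex.epi_kernelLift
  haveI : (kernel π₁).IsQuasicoherent := QCoh.isQuasicoherent_kernel π₁
  let G : Fin a₁ ⊕ Fin r → Γ(B₁, W) := Sum.elim (fun i => L φ₁ W (bA i)) t
  have hspan : Submodule.span Γ(Y, W) (Set.range G) = ⊤ := by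
    refine eq_top_iff.2 fun y _ => ?_
    obtain ⟨c, hc⟩ := (Submodule.mem_span_range_iff_exists_fun _).1
      (hm ▸ Submodule.mem_top : L π W (L biprod.inl W y) ∈ Submodule.span Γ(Y, W) (Set.range m))
    have hd : π₁.app W y = d.app W (π.app W ((biprod.inl : B₁ ⟶ B₁ ⊞ B₂).app W y)) := by
      have : biprod.inl ≫ π ≫ d = π₁ := by simp only [π, d, cokernel.π_desc, biprod.inl_fst_assoc]
      exact (congr(($this).app W y)).symm
    have h0 : L π₁ W (y - ∑ i, c i • t i) = 0 := by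
      rw [map_sub, sub_eq_zero, map_sum]
      change π₁.app W y = _
      rw [hd]
      change L d W (L π W (L biprod.inl W y)) = _
      rw [← hc, map_sum]
      simp only [map_smul]
      exact Finset.sum_congr rfl fun i _ => congrArg (c i • ·) (ht i).symm
    obtain ⟨z, hz⟩ := QCoh.exists_app_eq_of_app_eq_zero
      (ShortComplex.mk (kernel.ι π₁) π₁ (kernel.condition π₁))
      (ShortComplex.exact_of_f_is_kernel _ (kernelIsKernel π₁)) W _ h0
    obtain ⟨a, rfl⟩ := QCoh.app_surjective_of_epi k hW z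
    have ha : L φ₁ W a = y - ∑ i, c i • t i := by
      rw [← hz]
      exact (congr(($(kernel.lift_ι π₁ φ₁ (cokernel.condition φ₁))).app W a)).symm
    rw [show y = L φ₁ W a + ∑ i, c i • t i by rw [ha, sub_add_cancel], ← bA.sum_repr a, map_sum]
    simp only [map_smul]
    exact Submodule.add_mem _
      (Submodule.sum_mem _ fun i _ => Submodule.smul_mem _ _ (Submodule.subset_span ⟨Sum.inl i, rfl⟩))
      (Submodule.sum_mem _ fun i _ => Submodule.smul_mem _ _ (Submodule.subset_span ⟨Sum.inr i, rfl⟩))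
  have hspan' : Submodule.span Γ(Y, W) (Set.range (G ∘ finSumFinEquiv.symm)) = ⊤ := by
    rwa [finSumFinEquiv.symm.surjective.range_comp]
  have h1 := Groth.Agent.FittLib.ideal_eq_top _ hspan' (le_refl (a₁ + r))
  rw [Groth.Agent.FittLib.ideal_eq_bot_of_basis bB (by omega)] at h1
  haveI : Nonempty W := ⟨⟨s, hsW⟩⟩
  exact bot_ne_top h1

end Groth.Agent.S17486
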