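import Groth.Statements.S17487


set_option autoImplicit false
universe u
open CategoryTheory CategoryTheory.Limits AlgebraicGeometry
open Coherent

namespace Groth.Agent.S17487

namespace Helper

open CategoryTheory CategoryTheory.Limits CategoryTheory.Abelian

universe v w

variable {C : Type v} [Category.{u} C] [Abelian C] [HasExt.{w} C]

attribute [local instance] Abelian.hasFiniteBiproducts

theorem subsingleton_into {J : Type} [Fintype J] (F : J → C) {A M : C} (e : M ≅ ∐ F) (p : ℕ)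
    (h : ∀ j, Subsingleton (Ext A (F j) p)) : Subsingleton (Ext A M p) := by
  refine subsingleton_of_forall_eq 0 fun x => ?_
  let e' : M ≅ ⨁ F := e ≪≫ (biproduct.isoCoproduct F).symm
  have h0 : (x.comp (Ext.mk₀ e'.hom) (add_zero p)).comp (Ext.mk₀ (𝟙 (⨁ F))) (add_zero p) = 0 := by
    rw [← biproduct.total, Ext.mk₀_sum, Ext.comp_sum]
    refine Finset.sum_eq_zero fun j _ => ?_
    rw [← Ext.mk₀_comp_mk₀, ← Ext.comp_assoc_of_second_deg_zero,
      Subsingleton.elim ((x.comp (Ext.mk₀ e'.hom) (add_zero p)).comp (Ext.mk₀ (biproduct.π F j)) (add_zero p)) 0,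
      Ext.zero_comp]
  have h1 := congrArg (fun z => z.comp (Ext.mk₀ e'.inv) (add_zero p)) h0
  simp only [Ext.comp_mk₀_id, Ext.zero_comp] at h1
  rwa [Ext.comp_assoc_of_second_deg_zero, Ext.mk₀_comp_mk₀, e'.hom_inv_id, Ext.comp_mk₀_id] at h1

theorem subsingleton_out {J : Type} [Fintype J] (F : J → C) {A M : C} (e : M ≅ ∐ F) (p : ℕ)
    (h : ∀ j, Subsingleton (Ext (F j) A p)) : Subsingleton (Ext M A p) := by
  refine subsingleton_of_forall_eq 0 fun x => ?_
  let e' : M ≅ ⨁ F := e ≪≫ (biproduct.isoCoproduct F).symm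
  have h0 : (Ext.mk₀ (𝟙 (⨁ F))).comp ((Ext.mk₀ e'.inv).comp x (zero_add p)) (zero_add p) = 0 := by
    rw [← biproduct.total, Ext.mk₀_sum, Ext.sum_comp]
    refine Finset.sum_eq_zero fun j _ => ?_
    rw [← Ext.mk₀_comp_mk₀, Ext.comp_assoc_of_second_deg_zero,
      Subsingleton.elim ((Ext.mk₀ (biproduct.ι F j)).comp ((Ext.mk₀ e'.inv).comp x (zero_add p)) (zero_add p)) 0,
      Ext.comp_zero]
  have h1 := congrArg (fun z => (Ext.mk₀ e'.hom).comp z (zero_add p)) h0
  simp only [Ext.mk₀_id_comp, Ext.comp_zero] at h1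
  rwa [← Ext.comp_assoc_of_second_deg_zero, Ext.mk₀_comp_mk₀, e'.hom_inv_id, Ext.mk₀_id_comp] at h1

theorem main (n d : ℕ) (E : Fin n → C)
    (hexc : ∀ i j : Fin n, j < i → ∀ p : ℕ, Subsingleton (Ext (E i) (E j) p))
    (hstr : ∀ (i j : Fin n) (p : ℕ), 1 ≤ p → Subsingleton (Ext (E i) (E j) p))
    (S : ShortComplex C) (hS : S.ShortExact)
    (m₁ : ℕ) (c₁ : Fin m₁ → Fin n) (hc₁ : ∀ t, (c₁ t : ℕ) < d) (e₁ : S.X₁ ≅ ∐ fun t => E (c₁ t))
    (m₂ : ℕ) (c₂ : Fin m₂ → Fin n) (hc₂ : ∀ t, d ≤ (c₂ t : ℕ)) (e₂ : S.X₂ ≅ ∐ fun t => E (c₂ t)) :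
    (∀ (i : Fin n) (p : ℕ), 1 ≤ p → Subsingleton (Ext (E i) S.X₃ p)) ∧
      (∀ i : Fin n, (i : ℕ) < d → ∀ p : ℕ, p ≠ 1 → Subsingleton (Ext S.X₃ (E i) p)) := by
  refine ⟨fun i p hp => subsingleton_of_forall_eq 0 fun x => ?_,
    fun i hi p hp => subsingleton_of_forall_eq 0 fun x => ?_⟩
  · have := subsingleton_into _ e₁ (p + 1) fun t => hstr i (c₁ t) (p + 1) (by omega)
    have := subsingleton_into _ e₂ p fun t => hstr i (c₂ t) p hp
    obtain ⟨y, rfl⟩ := Ext.covariant_sequence_exact₃ (E i) hS x rfl (Subsingleton.elim _ _)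
    rw [Subsingleton.elim y 0, Ext.zero_comp]
  · have := subsingleton_out _ e₂ p fun t => hexc (c₂ t) i
      (Fin.lt_def.2 (lt_of_lt_of_le hi (hc₂ t))) p
    rcases p with _ | q
    · have : Epi S.g := hS.epi_g
      exact Ext.precomp_mk₀_injective_of_epi (E i) S.g (Subsingleton.elim _ _)
    · have : 1 ≤ q := by omega
      have := subsingleton_out _ e₁ q fun t => hstr (c₁ t) i q this
      obtain ⟨y, rfl⟩ := Ext.contravariant_sequence_exact₃ hS (E i) x (Subsingleton.elim _ _) (show 1 + q = q + 1 by omega)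
      rw [Subsingleton.elim y 0, Ext.comp_zero]

end Helper

/-- Let k be an algebraically closed field of characteristic zero and Y a smooth projective variety over
k (an integral scheme, smooth over k, with a closed immersion into some P^n_k over k). Let E_1, …,
E_n be coherent O_Y-modules forming a strong exceptional sequence, expressed through Ext groups in
the category of O_Y-modules (the Ext instance is the stated hypothesis; it holds): End(E_i) is
one-dimensional over k, Ext^p(E_i, E_j) = 0 for all p when i > j, and Ext^p(E_i, E_j) = 0 for all i,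
j when p ≥ 1 (indices here run over 0, …, n-1). Let d ≤ n and let 0 → K → M → F → 0 be a short exact
sequence of O_Y-modules in which K is isomorphic to a finite direct sum of copies of members E_i
with i < d and M to a finite direct sum of copies of members E_i with i ≥ d (a two-term resolution
of F by the sequence, split at d). Then Ext^p(E_i, F) = 0 for every i and every p ≥ 1, and Ext^p(F,
E_i) = 0 for every i < d and every p ≠ 1. (The published criterion also asks that the sequence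
generate the derived category, states the first vanishing only for i ≥ d, and adds conditions on
terms of the associated filtration and cofiltration of F, which are not restated here; the
vanishings above follow from the resolution alone.) -/
theorem result
    (k : Type u) [Field k] [IsAlgClosed k] [CharZero k]
    (Y : Scheme.{u}) [Y.Over (Spec (CommRingCat.of k))] [AlgebraicGeometry.IsIntegral Y]
    [Smooth (Y ↘ Spec (CommRingCat.of k))]
    (hproj : ∃ (N : ℕ) (ι : Y ⟶ CohB1.ProjSpace N k), IsClosedImmersion ι ∧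
      ι ≫ CohB1.ProjSpace.toSpec N k = (Y ↘ (Spec (CommRingCat.of k))))
    [HasExt.{u} Y.Modules]
    (n d : ℕ) (hdn : d ≤ n) (E : Fin n → Y.Modules) (hEcoh : ∀ i, Coh.IsCoh (E i))
    (hend : ∀ i, Module.finrank k (E i ⟶ E i) = 1)
    (hexc : ∀ i j : Fin n, j < i → ∀ p : ℕ, Subsingleton (Abelian.Ext (E i) (E j) p))
    (hstr : ∀ (i j : Fin n) (p : ℕ), 1 ≤ p → Subsingleton (Abelian.Ext (E i) (E j) p))
    (S : ShortComplex Y.Modules) (hS : S.ShortExact)
    (m₁ : ℕ) (c₁ : Fin m₁ → Fin n) (hc₁ : ∀ t, (c₁ t : ℕ) < d) (e₁ : S.X₁ ≅ ∐ fun t => E (c₁ t))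
    (m₂ : ℕ) (c₂ : Fin m₂ → Fin n) (hc₂ : ∀ t, d ≤ (c₂ t : ℕ)) (e₂ : S.X₂ ≅ ∐ fun t => E (c₂ t)) :
    (∀ (i : Fin n) (p : ℕ), 1 ≤ p → Subsingleton (Abelian.Ext (E i) S.X₃ p)) ∧
      (∀ i : Fin n, (i : ℕ) < d → ∀ p : ℕ, p ≠ 1 → Subsingleton (Abelian.Ext S.X₃ (E i) p)) := by
  classical
  obtain ⟨h1, h2⟩ := Helper.main n d E hexc hstr S hS m₁ c₁ hc₁ e₁ m₂ c₂ hc₂ e₂
  exact ⟨h1, h2⟩

end Groth.Agent.S17487
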