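import Groth.Statements.S1749
import Groth.Agent.DualCx.Trace

set_option autoImplicit false
universe u
open CategoryTheory
attribute [local instance] HasDerivedCategory.standard
open Dual

namespace Groth.Agent.S1749

/-- Let A be a Noetherian local ring with a normalized dualizing complex ω and κ → E an injective hull
of the residue field. For every A-module N of finite length, the maps N → ω[i] in D(A) vanish for i
≠ 0, and the A-module of maps N → ω is isomorphic to Hom_A(N, E). (The source gives this
functorially in N; here only the existence of the isomorphism for each N is asserted.) -/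
theorem result (A : Type u) [CommRing A] [IsLocalRing A] [IsNoetherianRing A] (ω : Dual.D A) (hω : Dual.IsDualizing A ω) (hn : Dual.IsNormalized A ω) (E : Type u) [AddCommGroup E] [Module A E] (f : IsLocalRing.ResidueField A →ₗ[A] E) (hf : InjHull.IsInjectiveHull f) (N : Type u) [AddCommGroup N] [Module A N] (hN : IsFiniteLength A N) : (∀ i : ℤ, i ≠ 0 → Subsingleton (Dual.inD A N ⟶ ω⟦i⟧)) ∧ Nonempty ((Dual.inD A N ⟶ ω) ≃ₗ[A] (N →ₗ[A] E)) := by
  refine ⟨fun i hi => DualCx.Normal.subsingleton_finiteLength hn hN i hi, ?_⟩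
  obtain ⟨θ, hθ⟩ := DualCx.Trace.exists_trace hω hn hf
  have := (isFiniteLength_iff_isNoetherian_isArtinian.mp hN).1
  obtain ⟨k, hk⟩ : ∃ k : ℕ, ∀ a ∈ IsLocalRing.maximalIdeal A ^ k, ∀ x : N, a • x = 0 := by
    obtain ⟨k, hk⟩ : ∃ k : ℕ, IsLocalRing.maximalIdeal A ^ k • (⊤ : Submodule A N) = ⊥ := by
      have := (isFiniteLength_iff_isNoetherian_isArtinian.mp hN).2
      obtain ⟨k, hk⟩ := IsArtinian.monotone_stabilizes
        (⟨fun k : ℕ => OrderDual.toDual (IsLocalRing.maximalIdeal A ^ k • (⊤ : Submodule A N)),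
          fun i j hij => Submodule.smul_mono_left (Ideal.pow_le_pow_right hij)⟩ :
          ℕ →o (Submodule A N)ᵒᵈ)
      refine ⟨k, Submodule.eq_bot_of_le_smul_of_le_jacobson_bot (IsLocalRing.maximalIdeal A) _
        (IsNoetherian.noetherian _) ?_ (IsLocalRing.maximalIdeal_le_jacobson _)⟩
      have h := congrArg OrderDual.ofDual (hk (k + 1) (by omega))
      simp only [OrderHom.coe_mk, OrderDual.ofDual_toDual] at h
      conv_lhs => rw [h, pow_succ', ← smul_eq_mul, Submodule.smul_assoc]
    exact ⟨k, fun a ha x => (Submodule.mem_bot A).mp (hk ▸ Submodule.smul_mem_smul ha trivial)⟩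
  exact ⟨(DualCx.Hom.shiftZero A (Dual.inD A N) ω).symm.trans
    (LinearEquiv.ofBijective _ (DualCx.Trace.bijective_τ hω hn hf θ hθ N k hk))⟩

end Groth.Agent.S1749
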