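import Groth.Statements.S17498
import Groth.Agent.SymCoprod.Split


set_option autoImplicit false
universe u
open RelQuot

namespace Groth.Agent.S17498

open CategoryTheory CategoryTheory.Limits AlgebraicGeometry in
/-- Let k be an algebraically closed field of characteristic zero, Y a scheme of finite type over k, and
f : X → Y, f′ : X′ → Y morphisms of finite type. For every n ≥ 0 let (S_n, q_n, g_n) be an n-th
symmetric power of X over Y (q_n : X ×_Y ⋯ ×_Y X → S_n a quotient of the n-fold fibre power by the
symmetric group permuting the factors: affine, invariant, with the sections of S_n the invariant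
sections; g_n : S_n → Y its structure map, of finite type; for n = 0 this forces S_0 ≅ Y), and
likewise (S′_n, q′_n, g′_n) for X′ over Y and (T_n, Q_n, h_n) for the disjoint union X ⊔ X′ over Y
(structure map f on X and f′ on X′). Then the relative motivic zeta functions multiply: in the ring
of power series with coefficients in the Grothendieck ring of finite-type Y-schemes (multiplication
given by fibre product over Y), the series with n-th coefficient [T_n → Y] equals the product of the
series with n-th coefficients [S_n → Y] and [S′_n → Y]. The published proposition asserts that the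
motivic zeta function defines a pre-lambda structure on the whole Grothendieck ring; this row states
the multiplicativity on disjoint unions, which is the part established there, and it does not assume
f, f′ quasi-projective (that hypothesis only serves the existence of the symmetric powers, which are
taken as data here). -/
theorem result
    (k : Type u) [Field k] [IsAlgClosed k] [CharZero k] {X X' Y : Scheme.{u}}
    (pY : Y ⟶ Spec (CommRingCat.of k)) [LocallyOfFiniteType pY] [QuasiCompact pY]
    (f : X ⟶ Y) [LocallyOfFiniteType f] [QuasiCompact f]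
    (f' : X' ⟶ Y) [LocallyOfFiniteType f'] [QuasiCompact f']
    (Sy : ℕ → Scheme.{u}) (q : ∀ n, SymProd.fibPow f n ⟶ Sy n) (g : ∀ n, Sy n ⟶ Y)
    (hS : ∀ n, SymProd.IsSymProd f n (q n) (g n))
    [∀ n, LocallyOfFiniteType (g n)] [∀ n, QuasiCompact (g n)]
    (Sy' : ℕ → Scheme.{u}) (q' : ∀ n, SymProd.fibPow f' n ⟶ Sy' n) (g' : ∀ n, Sy' n ⟶ Y)
    (hS' : ∀ n, SymProd.IsSymProd f' n (q' n) (g' n))
    [∀ n, LocallyOfFiniteType (g' n)] [∀ n, QuasiCompact (g' n)]
    (T : ℕ → Scheme.{u}) (Q : ∀ n, SymProd.fibPow (coprod.desc f f') n ⟶ T n) (h : ∀ n, T n ⟶ Y)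
    (hT : ∀ n, SymProd.IsSymProd (coprod.desc f f') n (Q n) (h n))
    [∀ n, LocallyOfFiniteType (h n)] [∀ n, QuasiCompact (h n)] :
    PowerSeries.mk (fun n => K0Var.cl (h n)) =
      PowerSeries.mk (fun n => K0Var.cl (g n)) * PowerSeries.mk (fun n => K0Var.cl (g' n)) := by
  classical
  have hunit : ∀ m : ℕ, 0 < m → IsUnit ((m : ℕ) : Γ(Y, ⊤)) := fun m hm => by
    have h1 : IsUnit ((m : ℕ) : k) := isUnit_iff_ne_zero.2 (by exact_mod_cast hm.ne')
    have h2 := h1.map ((Scheme.ΓSpecIso (CommRingCat.of k)).inv ≫ pY.appTop).hom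
    rwa [map_natCast] at h2
  refine PowerSeries.ext fun n => ?_
  simp only [PowerSeries.coeff_mk, PowerSeries.coeff_mul]
  let α := {p : ℕ × ℕ // p ∈ Finset.HasAntidiagonal.antidiagonal n}
  have hp : ∀ p : α, p.1.1 + p.1.2 = n := fun p => Finset.HasAntidiagonal.mem_antidiagonal.1 p.2
  choose W e hW he using fun p : α =>
    Groth.Agent.SymCoprod.exists_piece p.1.1 p.1.2 hunit (hS p.1.1) (hS' p.1.2) (hp p) (hT n)
  have heq : ∀ p : α, (W p).ι ≫ h n =
      (e p).inv ≫ pullback.fst (g p.1.1) (g' p.1.2) ≫ g p.1.1 := fun p => by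
    rw [← he p, Iso.inv_hom_id_assoc]
  haveI : ∀ p : α, QuasiCompact ((W p).ι ≫ h n) := fun p => by rw [heq p]; infer_instance
  have hmem : ∀ (p : α) (t : T n), t ∈ W p ↔
      t ∈ (Q n) '' {z | Groth.Agent.SymCoprod.countL f f' z = p.1.1} := fun p t => by
    rw [← hW p]; rfl
  have hinj : ∀ (p r : α) (t : T n), t ∈ W p → t ∈ W r → p = r := fun p r t h1 h2 => by
    obtain ⟨z, hz, hzt⟩ := (hmem p t).1 h1
    obtain ⟨z', hz', hzt'⟩ := (hmem r t).1 h2
    obtain ⟨σ, hσ⟩ := (Groth.Agent.SGA1Quot.eq_iff_exists (hT n).isQuot z z').1 (hzt.trans hzt'.symm)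
    have hc : Groth.Agent.SymCoprod.countL f f' z' = Groth.Agent.SymCoprod.countL f f' z := by
      rw [← hσ]; exact Groth.Agent.SymCoprod.countL_perm f f' σ.down z
    have h11 : p.1.1 = r.1.1 := hz.symm.trans (hc.symm.trans hz')
    exact Subtype.ext (Prod.ext h11 (by have := hp p; have := hp r; omega))
  rw [Groth.Agent.SymCoprod.cl_disjoint_cover (h n) W (fun p r hne => Set.disjoint_left.2
      fun t h1 h2 => hne (hinj p r t h1 h2)) (fun t => ?_), ← Finset.sum_attach (Finset.HasAntidiagonal.antidiagonal n)]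
  · refine Finset.sum_congr rfl fun p _ => ?_
    rw [← K0Var.cl_mul]
    exact (K0Var.cl_congr _ _ (e p) (he p)).symm
  · obtain ⟨z, rfl⟩ := Groth.Agent.SGA1Quot.surjective (hT n).isQuot t
    have hle : Groth.Agent.SymCoprod.countL f f' z ≤ n := by
      unfold Groth.Agent.SymCoprod.countL
      exact (Finite.card_subtype_le _).trans (by simp)
    exact ⟨⟨(Groth.Agent.SymCoprod.countL f f' z, n - Groth.Agent.SymCoprod.countL f f' z),
      Finset.HasAntidiagonal.mem_antidiagonal.2 (Nat.add_sub_cancel' hle)⟩, (hmem _ _).2 ⟨z, rfl, rfl⟩⟩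

end Groth.Agent.S17498
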