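import Groth.Statements.S8925
import Groth.Agent.InjHull.Basic

set_option autoImplicit false
universe u
open InjHull

namespace Groth.Agent.S8925

open scoped TensorProduct

/-- If S is a flat R-algebra and E is an injective S-module, then E, viewed as an R-module by
restriction of scalars, is an injective R-module. -/
theorem result (R S : Type u) [CommRing R] [CommRing S] [Algebra R S] [Module.Flat R S] (E : Type u) [AddCommGroup E] [Module S E] [Module R E] [IsScalarTower R S E] [Module.Injective S E] : Module.Injective R E := by
  apply Module.Baer.injective
  intro I g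
  let i : (S ⊗[R] I) →ₗ[S] (S ⊗[R] R) := I.subtype.baseChange S
  have hi : Function.Injective i :=
    Module.Flat.lTensor_preserves_injective_linearMap I.subtype I.injective_subtype
  let G : (S ⊗[R] I) →ₗ[S] E := LinearMap.liftBaseChange S g
  obtain ⟨l, hl⟩ := InjHull.Basic.extend (inferInstance : Module.Injective S E) i hi G
  refine ⟨(l.restrictScalars R).comp (TensorProduct.mk R S R 1), fun x hx => ?_⟩
  have := LinearMap.congr_fun hl ((1 : S) ⊗ₜ[R] (⟨x, hx⟩ : I))
  simp only [LinearMap.comp_apply, i, G, LinearMap.baseChange_tmul, LinearMap.liftBaseChange_tmul,
    one_smul] at this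
  exact this

end Groth.Agent.S8925
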