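import Groth.Statements.S1750
import Groth.Agent.InjHull.Matlis
import Groth.Agent.S8925

set_option autoImplicit false
universe u
open InjHull

namespace Groth.Agent.S1750

/-- Let R → S be a flat local homomorphism of Noetherian local rings with m_R S = m_S inducing a
bijection on residue fields. If κ_S → E is an injective hull of the residue field of S over S, then
E regarded as an R-module is an injective hull of the residue field of R (for a suitable R-linear
map κ_R → E). -/
theorem result (R S : Type u) [CommRing R] [CommRing S] [IsLocalRing R] [IsLocalRing S] [IsNoetherianRing R] [IsNoetherianRing S] [Algebra R S] [IsLocalHom (algebraMap R S)] [Module.Flat R S] (hm : (IsLocalRing.maximalIdeal R).map (algebraMap R S) = IsLocalRing.maximalIdeal S) (hk : Function.Bijective (IsLocalRing.ResidueField.map (algebraMap R S))) (E : Type u) [AddCommGroup E] [Module S E] [Module R E] [IsScalarTower R S E] (f : IsLocalRing.ResidueField S →ₗ[S] E) (hf : InjHull.IsInjectiveHull f) : ∃ g : IsLocalRing.ResidueField R →ₗ[R] E, InjHull.IsInjectiveHull g := by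
  have hinj : Module.Injective S E := hf.isInjective
  have hR : Module.Injective R E := Groth.Agent.S8925.result R S E
  have hptS := InjHull.Matlis.isPowerTorsion_hull hf
  have hmle : ∀ a ∈ IsLocalRing.maximalIdeal R, algebraMap R S a ∈ IsLocalRing.maximalIdeal S :=
    fun a ha => hm ▸ Ideal.mem_map_of_mem _ ha
  have hkill : ∀ a ∈ IsLocalRing.maximalIdeal R, a • f 1 = 0 := fun a ha => by
    rw [← algebraMap_smul S a, ← map_smul, InjHull.Matlis.residue_smul_eq_zero (hmle a ha), map_zero]
  obtain ⟨g, hg, -⟩ := InjHull.Prime.exists_hull_of_socle_elem (m := IsLocalRing.maximalIdeal R) hR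
    (e := f 1) (fun h => one_ne_zero (hf.injective (h.trans (map_zero f).symm))) hkill (fun x hx => by
      have hpt : LocCoh.IsPowerTorsion (IsLocalRing.maximalIdeal R) E := fun y => by
        obtain ⟨n, hn⟩ := hptS y
        refine ⟨n, fun a ha => ?_⟩
        rw [← algebraMap_smul S a]
        refine hn _ ?_
        rw [← hm, ← Ideal.map_pow]
        exact Ideal.mem_map_of_mem _ ha
      obtain ⟨r, hr0, hr⟩ := InjHull.Matlis.exists_smul_socle hpt hx
      have hS : ∀ b ∈ IsLocalRing.maximalIdeal S, b • (r • x) = 0 := by
        intro b hb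
        rw [← hm] at hb
        refine Submodule.span_induction (p := fun u _ => u • (r • x) = 0) ?_ (zero_smul _ _)
          (fun u v _ _ hu hv => by rw [add_smul, hu, hv, add_zero])
          (fun c u _ hu => by rw [smul_eq_mul, mul_smul, hu, smul_zero]) hb
        rintro _ ⟨a, ha, rfl⟩
        rw [algebraMap_smul]
        exact hr a ha
      obtain ⟨c, hc⟩ := (InjHull.Matlis.mem_range_iff hf).mpr hS
      obtain ⟨d, rfl⟩ := hk.2 c
      obtain ⟨a, rfl⟩ := IsLocalRing.residue_surjective (R := R) d
      refine ⟨r, a, ?_, hr0⟩
      rw [← hc, ← algebraMap_smul S a, ← map_smul, Algebra.smul_def, mul_one]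
      rfl)
  exact ⟨g, hg⟩

end Groth.Agent.S1750
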