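import Mathlib.RingTheory.Flat.Basic
import Mathlib.Data.ZMod.Basic
import Mathlib.RingTheory.Flat.Tensor
import Mathlib.RingTheory.Int.Basic
import Mathlib.RingTheory.PrincipalIdealDomain

set_option autoImplicit false
universe u
namespace TorsMod
end TorsMod
open TorsMod

namespace Groth.Agent.S17500

/-- Let p be a prime number, n a natural number and H a module over ℤ/p^nℤ. Then H is flat over ℤ/p^nℤ
if and only if, for every i with 0 ≤ i ≤ n, the kernel of multiplication by p^i on H coincides with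
the image of multiplication by p^(n-i) on H. (The published item is phrased for an fppf sheaf of
ℤ/p^nℤ-modules on a scheme; this is the case of a single module, which is the case the argument
treats.) -/
theorem result (p n : ℕ) [Fact p.Prime]
    (H : Type u) [AddCommGroup H] [Module (ZMod (p ^ n)) H] :
    Module.Flat (ZMod (p ^ n)) H ↔
      ∀ i : ℕ, i ≤ n →
        LinearMap.ker ((p ^ i : ZMod (p ^ n)) • (LinearMap.id : H →ₗ[ZMod (p ^ n)] H)) =
          LinearMap.range ((p ^ (n - i) : ZMod (p ^ n)) • (LinearMap.id : H →ₗ[ZMod (p ^ n)] H)) := by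
  have hp : p.Prime := Fact.out
  have hpn : ((p : ZMod (p ^ n)) ^ n) = 0 := by rw [← Nat.cast_pow, ZMod.natCast_self]
  have hann : ∀ i ≤ n, ∀ a : ZMod (p ^ n), (p : ZMod (p ^ n)) ^ i * a = 0 →
      ∃ b, a = (p : ZMod (p ^ n)) ^ (n - i) * b := by
    intro i hi a ha
    obtain ⟨a, rfl⟩ := ZMod.natCast_zmod_surjective a
    rw [← Nat.cast_pow, ← Nat.cast_mul, ZMod.natCast_eq_zero_iff] at ha
    obtain ⟨c, hc⟩ := ha
    refine ⟨(c : ZMod (p ^ n)), ?_⟩
    rw [← Nat.cast_pow, ← Nat.cast_mul]
    congr 1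
    refine Nat.eq_of_mul_eq_mul_left (pow_pos hp.pos i) ?_
    rw [hc, ← mul_assoc, ← pow_add, Nat.add_sub_cancel' hi]
  constructor
  · intro hflat i hi
    have hex : Function.Exact
        ((p : ZMod (p ^ n)) ^ (n - i) • (LinearMap.id : ZMod (p ^ n) →ₗ[ZMod (p ^ n)] ZMod (p ^ n)))
        ((p : ZMod (p ^ n)) ^ i • (LinearMap.id : ZMod (p ^ n) →ₗ[ZMod (p ^ n)] ZMod (p ^ n))) := by
      intro a
      constructor
      · intro ha
        obtain ⟨b, hb⟩ := hann i hi a ha
        exact ⟨b, hb.symm⟩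
      · rintro ⟨b, rfl⟩
        show (p : ZMod (p ^ n)) ^ i * ((p : ZMod (p ^ n)) ^ (n - i) * b) = 0
        rw [← mul_assoc, ← pow_add, Nat.add_sub_cancel' hi, hpn, zero_mul]
    have h := Module.Flat.lTensor_exact H hex
    simp only [LinearMap.lTensor_smul, LinearMap.lTensor_id] at h
    let e := TensorProduct.rid (ZMod (p ^ n)) H
    refine le_antisymm (fun x hx => ?_) ?_
    · rw [LinearMap.mem_ker, LinearMap.smul_apply, LinearMap.id_apply] at hx
      obtain ⟨y, hy⟩ := (h (e.symm x)).1 (by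
        rw [LinearMap.smul_apply, LinearMap.id_apply, ← map_smul, hx, map_zero])
      refine ⟨e y, ?_⟩
      have := congrArg e hy
      rw [LinearMap.smul_apply, LinearMap.id_apply, map_smul, LinearEquiv.apply_symm_apply] at this
      rw [LinearMap.smul_apply, LinearMap.id_apply]
      exact this
    · rintro _ ⟨y, rfl⟩
      rw [LinearMap.mem_ker, LinearMap.smul_apply, LinearMap.id_apply, LinearMap.smul_apply,
        LinearMap.id_apply, smul_smul, ← pow_add, Nat.add_sub_cancel' hi, hpn, zero_smul]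
  · intro h
    rw [Module.Flat.iff_rTensor_injective']
    intro I
    obtain ⟨i, hin, rfl⟩ : ∃ i ≤ n, I = Ideal.span {(p : ZMod (p ^ n)) ^ i} := by
      obtain ⟨d, hd⟩ := (IsPrincipalIdealRing.principal (I.comap (Int.castRingHom (ZMod (p ^ n))))).principal
      have hmem : ((p ^ n : ℕ) : ℤ) ∈ Ideal.span {d} := by
        rw [show Ideal.span {d} = I.comap (Int.castRingHom (ZMod (p ^ n))) from hd.symm, Ideal.mem_comap,
          map_natCast, ZMod.natCast_self]
        exact I.zero_mem
      rw [Ideal.mem_span_singleton, ← Int.natAbs_dvd, Int.natCast_dvd_natCast] at hmem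
      obtain ⟨i, hi, hdi⟩ := (Nat.dvd_prime_pow hp).1 hmem
      refine ⟨i, hi, ?_⟩
      rw [← Ideal.map_comap_of_surjective (Int.castRingHom (ZMod (p ^ n))) ZMod.intCast_surjective I, hd,
        Ideal.submodule_span_eq, ← Int.span_natAbs, hdi, Ideal.map_span, Set.image_singleton]
      simp
    have hform : ∀ z : TensorProduct (ZMod (p ^ n)) (Ideal.span {(p : ZMod (p ^ n)) ^ i}) H, ∃ y : H,
        z = (⟨(p : ZMod (p ^ n)) ^ i, Ideal.mem_span_singleton_self _⟩ :
          Ideal.span {(p : ZMod (p ^ n)) ^ i}) ⊗ₜ[ZMod (p ^ n)] y := by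
      intro z
      induction z using TensorProduct.induction_on with
      | zero => exact ⟨0, (TensorProduct.tmul_zero _ _).symm⟩
      | tmul a y =>
        obtain ⟨b, hb⟩ := Ideal.mem_span_singleton'.1 a.2
        refine ⟨b • y, ?_⟩
        rw [TensorProduct.tmul_smul, TensorProduct.smul_tmul']
        exact congrArg (· ⊗ₜ[ZMod (p ^ n)] y) (Subtype.ext hb.symm)
      | add a b ha hb =>
        obtain ⟨y, rfl⟩ := ha
        obtain ⟨y', rfl⟩ := hb
        exact ⟨y + y', (TensorProduct.tmul_add _ _ _).symm⟩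
    rw [injective_iff_map_eq_zero]
    intro z hz
    obtain ⟨y, rfl⟩ := hform z
    rw [LinearMap.rTensor_tmul, Submodule.subtype_apply] at hz
    have hy : (p : ZMod (p ^ n)) ^ i • y = 0 := by
      have := congrArg (TensorProduct.lid (ZMod (p ^ n)) H) hz
      rwa [TensorProduct.lid_tmul, map_zero] at this
    have hy' : y ∈ LinearMap.range ((p : ZMod (p ^ n)) ^ (n - i) • (LinearMap.id : H →ₗ[ZMod (p ^ n)] H)) := by
      rw [← h i hin]
      exact hy
    obtain ⟨y', rfl⟩ := hy'
    rw [LinearMap.smul_apply, LinearMap.id_apply, TensorProduct.tmul_smul, TensorProduct.smul_tmul']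
    refine (congrArg (· ⊗ₜ[ZMod (p ^ n)] y') (?_ : _ = (0 : Ideal.span {(p : ZMod (p ^ n)) ^ i}))).trans
      (TensorProduct.zero_tmul _ y')
    refine Subtype.ext ?_
    show (p : ZMod (p ^ n)) ^ (n - i) * (p : ZMod (p ^ n)) ^ i = 0
    rw [← pow_add, Nat.sub_add_cancel hin, hpn]

end Groth.Agent.S17500
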