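import Groth.Statements.S17502
import Groth.Agent.BigVol.Multi
import Groth.Agent.CohTop.Vanishing
import Groth.Agent.ProjMorph.Ample
import Groth.Agent.ProjProper.Basic

set_option autoImplicit false
universe u
open CategoryTheory CategoryTheory.Limits MonoidalCategory CartesianMonoidalCategory MonObj GrpObj AlgebraicGeometry
open Coherent

namespace Groth.Agent.S17502

set_option linter.style.haveILetI false

section Aux

open Groth.Agent.BigVol Groth.Agent.BigVol.Multi Groth.Agent.BigVol.CohBound Groth.Agent.ProjTwist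

attribute [local instance] PicLaw.law

theorem cls_family {Y : Scheme.{u}} {r : ℕ} (Lb : Fin r → Y.Modules) (hLb : ∀ j, PicF.IsInvertible (Lb j))
    (F : (Fin r → ℤ) → Y.Modules) (hF0 : Nonempty (F 0 ≅ Coh.structureModule Y))
    (hF : ∀ (a : Fin r → ℤ) (j : Fin r), Nonempty (F (a + Pi.single j 1) ≅ CohB1.tensorMod (F a) (Lb j))) :
    ∀ (m : ℕ) (a : Fin r → ℤ), N a = m →
      ∃ h : PicF.IsInvertible (F a),
        PicGrp.cls (F a) h = pw (fun j => PicGrp.cls (Lb j) (hLb j)) a := by
  have step : ∀ (b : Fin r → ℤ) (j : Fin r) (hb : PicF.IsInvertible (F b))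
      (hb' : PicF.IsInvertible (F (b + Pi.single j 1))),
      PicGrp.cls (F (b + Pi.single j 1)) hb' = PicGrp.cls (F b) hb * PicGrp.cls (Lb j) (hLb j) := by
    intro b j hb hb'
    refine Eq.trans ?_ (Subtype.ext (PicGrp.cls_mul_cls_val hb (hLb j)).symm :
      PicGrp.cls (CohB1.tensorMod (F b) (Lb j)) (AmpleLib.isInvertible_tensorMod hb (hLb j)) = _)
    exact Subtype.ext ((PicGrp.cl_eq_cl_iff _ _).mpr (hF b j))
  intro m
  induction m with
  | zero =>
    intro a ha
    obtain rfl := N_eq_zero ha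
    have h := PicCl.isInvertible_of_iso hF0.some.symm (LFFrame.isInvertible_structureModule Y)
    refine ⟨h, ?_⟩
    rw [pw_zero, ← PicGrp.cls_structureModule_eq_one]
    exact Subtype.ext ((PicGrp.cl_eq_cl_iff _ _).mpr hF0)
  | succ m ih =>
    intro a ha
    obtain ⟨j, b, hb, hab⟩ := exists_step (a := a) (by omega)
    obtain ⟨hbi, eb⟩ := ih b (by omega)
    rcases hab with rfl | rfl
    · have h := PicCl.isInvertible_of_iso (hF b j).some.symm (AmpleLib.isInvertible_tensorMod hbi (hLb j))
      exact ⟨h, by rw [step b j hbi h, eb, pw_single]⟩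
    · have h : PicF.IsInvertible (F a) := PicLaw.isInvertible_of_tensor_right (hLb j)
        (PicCl.isInvertible_of_iso (hF a j).some hbi)
      refine ⟨h, ?_⟩
      have := step a j h hbi
      rw [eb, pw_single] at this
      exact (mul_right_cancel this).symm

theorem main (k : Type u) [Field k] (Y : Scheme.{u}) [Y.Over (Spec (CommRingCat.of k))]
    (N₀ : ℕ) (c : Y ⟶ CohB1.ProjSpace N₀ k) [IsClosedImmersion c]
    (hc : c ≫ CohB1.ProjSpace.toSpec N₀ k = Y ↘ Spec (CommRingCat.of k))
    (d : ℕ) (hd : topologicalKrullDim ↥Y = d)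
    (r : ℕ) (Lb : Fin r → Y.Modules) (hLb : ∀ j, PicF.IsInvertible (Lb j))
    (F : (Fin r → ℤ) → Y.Modules) (hF0 : Nonempty (F 0 ≅ Coh.structureModule Y))
    (hF : ∀ (a : Fin r → ℤ) (j : Fin r), Nonempty (F (a + Pi.single j 1) ≅ CohB1.tensorMod (F a) (Lb j))) :
    ∃ C : ℝ, 0 < C ∧ ∀ (i : ℕ) (a : Fin r → ℤ),
      (Module.finrank k (Coh.HH Y (F a) i) : ℝ) ≤ C * (1 + (∑ j, |(a j : ℝ)|) ^ d) := by
  haveI := ProjProper.Basic.isProper_toSpec N₀ k
  haveI : IsProper (Y ↘ Spec (CommRingCat.of k)) := hc ▸ inferInstance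
  haveI := EulerChar.isNoetherian k (X := Y)
  have haff : IsAffineHom c := inferInstance
  have hamp := ProjMorph.isAmple_pullback_twist_of_isAffineHom c haff
  let x : Fin r → PicLoc.PicSet Y := fun j => PicGrp.cls (Lb j) (hLb j)
  have hOi : PicF.IsInvertible (Coh.structureModule Y) := LFFrame.isInvertible_structureModule Y
  have hO : Coh.IsCoh (Coh.structureModule Y) := BigVol.isCoh_of_isInvertible hOi
  have hsupp : topologicalKrullDim (CohB1.support (Coh.structureModule Y)) < ((d + 1 : ℕ) : WithBot ℕ∞) :=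
    lt_of_le_of_lt ((Topology.IsEmbedding.subtypeVal).isInducing.topologicalKrullDim_le.trans hd.le)
      (by exact_mod_cast Nat.lt_succ_self d)
  choose C hC using fun i => exists_hc_lt k hamp x (d + 1) _ hO hsupp i
  let D : ℕ := ∑ i ∈ Finset.range (d + 1), C i
  refine ⟨((D * 2 ^ d + 1 : ℕ) : ℝ), by positivity, fun i a => ?_⟩
  have hcast : (∑ j, |(a j : ℝ)|) = ((N a : ℕ) : ℝ) := by
    rw [N, Nat.cast_sum]
    refine Finset.sum_congr rfl fun j _ => ?_
    rw [Nat.cast_natAbs, Int.cast_abs]
  rw [hcast]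
  have key : Module.finrank k (Coh.HH Y (F a) i) ≤ D * (N a + 1) ^ d := by
    by_cases hi : i ≤ d
    · obtain ⟨ha, ea⟩ := cls_family Lb hLb F hF0 hF _ a rfl
      have h1 := hC i a
      rw [hc_eq k _ ha ea i] at h1
      have h2 : Module.finrank k (Coh.HH Y (F a) i) =
          h k (CohB1.tensorMod (Coh.structureModule Y) (F a)) i :=
        Pn.finrank_hh_iso (oneTens (F a)).symm i
      rw [h2]
      refine h1.trans (Nat.mul_le_mul_right _ ?_)
      exact Finset.single_le_sum (fun l _ => Nat.zero_le _) (Finset.mem_range.2 (by omega)) (f := C)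
    · haveI : TopologicalSpace.NoetherianSpace Y.toTopCat :=
        inferInstanceAs (TopologicalSpace.NoetherianSpace Y)
      haveI : Subsingleton (Coh.HH Y (F a) i) :=
        CohTop.Vanishing.grothendieck_vanishing (X := Y.toTopCat) d hd.le (Coh.toAb (F a)) i (by omega)
      rw [Module.finrank_zero_of_subsingleton]
      exact Nat.zero_le _
  have h3 : (N a + 1) ^ d ≤ 2 ^ d * (1 + (N a) ^ d) := by
    rcases Nat.eq_zero_or_pos (N a) with h | h
    · rw [h, zero_add, one_pow]
      exact Nat.one_le_iff_ne_zero.2 (by positivity)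
    · calc (N a + 1) ^ d ≤ (2 * N a) ^ d := Nat.pow_le_pow_left (by omega) d
        _ = 2 ^ d * (N a) ^ d := mul_pow _ _ _
        _ ≤ _ := Nat.mul_le_mul_left _ (Nat.le_add_left _ _)
  have h4 : Module.finrank k (Coh.HH Y (F a) i) ≤ (D * 2 ^ d + 1) * (1 + (N a) ^ d) := by
    refine key.trans ((Nat.mul_le_mul_left D h3).trans ?_)
    rw [← _root_.mul_assoc]
    exact Nat.mul_le_mul_right _ (Nat.le_succ _)
  exact_mod_cast h4

end Aux


/-- Let k be a field, Y a projective k-scheme of dimension d (a k-scheme with a closed immersion c into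
projective N-space over k, compatible with the structure morphisms, whose underlying topological
space has Krull dimension d), L_1, …, L_r invertible O_Y-modules, and F a family of O_Y-modules
indexed by a ∈ ℤ^r with F(0) ≅ O_Y and F(a + e_j) ≅ F(a) ⊗ L_j for all a and j, so that F(a) ≅
L_1^{⊗ a_1} ⊗ ⋯ ⊗ L_r^{⊗ a_r} for every a. Then there is a real constant C > 0, depending only on Y
and the L_j, such that dim_k H^i(Y, F(a)) ≤ C · (1 + |a|^d) for every i and every a, where |a| =
|a_1| + ⋯ + |a_r|. (The published statement prints the exponent as the number r of line bundles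
instead of the dimension d of Y; that bound fails as soon as r < d — on the projective plane with r
= 1 and L_1 = O(1) the dimension of H^0(O(a)) grows like a²/2 — while the printed induction on d + r
over hyperplane sections yields the exponent d, which is what is stated here.) -/
theorem result
    (k : Type u) [Field k] (Y : Scheme.{u}) [Y.Over (Spec (CommRingCat.of k))]
    (N : ℕ) (c : Y ⟶ CohB1.ProjSpace N k) [IsClosedImmersion c]
    (hc : c ≫ CohB1.ProjSpace.toSpec N k = Y ↘ Spec (CommRingCat.of k))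
    (d : ℕ) (hd : topologicalKrullDim ↥Y = d)
    (r : ℕ) (Lb : Fin r → Y.Modules) (hLb : ∀ j, PicF.IsInvertible (Lb j))
    (F : (Fin r → ℤ) → Y.Modules) (hF0 : Nonempty (F 0 ≅ Coh.structureModule Y))
    (hF : ∀ (a : Fin r → ℤ) (j : Fin r), Nonempty (F (a + Pi.single j 1) ≅ CohB1.tensorMod (F a) (Lb j))) :
    ∃ C : ℝ, 0 < C ∧ ∀ (i : ℕ) (a : Fin r → ℤ),
      (Module.finrank k (Coh.HH Y (F a) i) : ℝ) ≤ C * (1 + (∑ j, |(a j : ℝ)|) ^ d) :=
  main k Y N c hc d hd r Lb hLb F hF0 hF

end Groth.Agent.S17502
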