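import Mathlib.RepresentationTheory.FDRep
import Mathlib.RepresentationTheory.Irreducible
import Mathlib.RepresentationTheory.Semisimple
import Mathlib.RepresentationTheory.Invariants
import Mathlib.FieldTheory.IsAlgClosed.Basic
import Mathlib.GroupTheory.Commutator.Basic
import Mathlib.Algebra.CharP.Defs
import Mathlib.SetTheory.Cardinal.Finite
import Groth.Agent.ThetaLib.Quot
import Groth.Agent.ThetaLib.Exists

set_option autoImplicit false
universe u
open CategoryTheory
namespace ThetaRep
end ThetaRep
open ThetaRep

namespace Groth.Agent.S17506

/-- Let k be an algebraically closed field and Γ a group given with an injective homomorphism ι from the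
multiplicative group kˣ onto the centre of Γ, such that the quotient K = Γ/ι(kˣ) is a finite
commutative group (every commutator lies in ι(kˣ)) whose order is prime to the characteristic
exponent of k — the group of k-points of a non-degenerate theta group 1 → G_m → G → K → 1 with
rank(K) prime to char(k), non-degeneracy of the commutator pairing being the condition that ι(kˣ) is
the whole centre. A finite-dimensional representation of Γ over k has weight 1 when ι(z) acts as
multiplication by z for every z. Then Γ has an irreducible finite-dimensional representation of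
weight 1; any two irreducible finite-dimensional representations of weight 1 are equivalent; and
every irreducible finite-dimensional representation V of weight 1 satisfies (dim_k V)² = |K|. (The
published statement is about representations of the theta group scheme; under its hypotheses K is a
constant group scheme and the statement is rendered here for the group of k-points.) -/
theorem result (k : Type u) [Field k] [IsAlgClosed k]
    (Γ : Type u) [Group Γ] (ι : kˣ →* Γ) (hι : Function.Injective ι)
    (hcent : ι.range = Subgroup.center Γ) (hcomm : commutator Γ ≤ ι.range)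
    [Finite (Γ ⧸ ι.range)] (hcop : (Nat.card (Γ ⧸ ι.range)).Coprime (ringExpChar k)) :
    (∃ V : FDRep k Γ, Representation.IsIrreducible V.ρ ∧ ∀ (z : kˣ) (v : V), V.ρ (ι z) v = (z : k) • v) ∧
    (∀ V W : FDRep k Γ, Representation.IsIrreducible V.ρ → Representation.IsIrreducible W.ρ →
      (∀ (z : kˣ) (v : V), V.ρ (ι z) v = (z : k) • v) → (∀ (z : kˣ) (w : W), W.ρ (ι z) w = (z : k) • w) →
      Nonempty (Representation.Equiv V.ρ W.ρ)) ∧
    (∀ V : FDRep k Γ, Representation.IsIrreducible V.ρ → (∀ (z : kˣ) (v : V), V.ρ (ι z) v = (z : k) • v) →
      Module.finrank k V ^ 2 = Nat.card (Γ ⧸ ι.range)) := by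
  open Groth.Agent.ThetaLib in
  have hΓ : Good ι := ⟨hι, hcent, hcomm⟩
  obtain ⟨K, _, _, q, hq, hker, hK, hcard⟩ := Groth.Agent.ThetaLib.exists_quot hΓ hcop
  refine ⟨?_, fun V W hV hW hV1 hW1 => ?_, fun V hV hV1 => ?_⟩
  · have := Groth.Agent.ThetaLib.finite_regSpace hq hker
    obtain ⟨f, hf⟩ := Groth.Agent.ThetaLib.regRep_ne_zero hΓ
    have : Nontrivial (Groth.Agent.ThetaLib.regSpace ι) := ⟨⟨f, 0, hf⟩⟩
    obtain ⟨U, hU⟩ := Groth.Agent.ThetaLib.exists_irreducible_sub (Groth.Agent.ThetaLib.regRep ι)
    refine ⟨FDRep.of (V := U.toSubmodule) U.toRepresentation, ?_, ?_⟩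
    · rw [FDRep.of_ρ']
      exact hU
    · intro z v
      rw [FDRep.of_ρ']
      exact Subtype.ext (Groth.Agent.ThetaLib.wt_regRep hΓ z v.1)
  · have h := Groth.Agent.ThetaLib.finrank_hom hΓ hq hker hK hV1 hW1
    have hVn : Nontrivial V := not_subsingleton_iff_nontrivial.1 fun hs =>
      (bot_ne_top (α := Subrepresentation V.ρ)) (Subrepresentation.toSubmodule_injective (Subsingleton.elim _ _))
    have hWn : Nontrivial W := not_subsingleton_iff_nontrivial.1 fun hs =>
      (bot_ne_top (α := Subrepresentation W.ρ)) (Subrepresentation.toSubmodule_injective (Subsingleton.elim _ _))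
    by_contra hne
    have : IsEmpty (Representation.Equiv V.ρ W.ρ) := not_nonempty_iff.1 hne
    rw [Module.finrank_zero_of_subsingleton (M := Representation.IntertwiningMap V.ρ W.ρ), mul_zero] at h
    exact (Nat.mul_ne_zero Module.finrank_pos.ne' Module.finrank_pos.ne') h
  · have h := Groth.Agent.ThetaLib.finrank_hom hΓ hq hker hK hV1 hV1
    rw [Representation.IsIrreducible.finrank_intertwiningMap_self, mul_one, hcard] at h
    rw [sq, h]

end Groth.Agent.S17506
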