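import Mathlib.RepresentationTheory.FDRep
import Mathlib.RepresentationTheory.Irreducible
import Mathlib.RepresentationTheory.Semisimple
import Mathlib.RepresentationTheory.Invariants
import Mathlib.FieldTheory.IsAlgClosed.Basic
import Mathlib.GroupTheory.Commutator.Basic
import Mathlib.Algebra.CharP.Defs
import Mathlib.SetTheory.Cardinal.Finite
import Groth.Agent.ThetaLib.Quot
import Groth.Agent.ThetaLib.Exists

set_option autoImplicit false
universe u
open CategoryTheory
namespace ThetaRep
end ThetaRep
open ThetaRep

namespace Groth.Agent.S17507

/-- Let k be an algebraically closed field and Γ a group given with an injective homomorphism ι from the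
multiplicative group kˣ onto the centre of Γ, such that the quotient K = Γ/ι(kˣ) is a finite
commutative group (every commutator lies in ι(kˣ)) whose order is prime to the characteristic
exponent of k — the group of k-points of a non-degenerate theta group 1 → G_m → G → K → 1 with
rank(K) prime to char(k), non-degeneracy of the commutator pairing being the condition that ι(kˣ) is
the whole centre. A finite-dimensional representation of Γ over k has weight 1 when ι(z) acts as
multiplication by z for every z. Let V be an irreducible finite-dimensional representation of weight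
1, W any finite-dimensional representation of weight 1, and H a maximal level subgroup of Γ: a
subgroup with H ∩ ι(kˣ) = 1 which is maximal among subgroups with this property. Then W is
semisimple (completely reducible) and dim_k W = dim_k(W^H) · dim_k V, where W^H is the subspace of
H-invariants; together with the uniqueness of the irreducible weight-1 representation this says that
W is a direct sum of dim_k(W^H) copies of V. (Rendered for the group of k-points of the theta group
scheme, as in the preceding row.) -/
theorem result (k : Type u) [Field k] [IsAlgClosed k]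
    (Γ : Type u) [Group Γ] (ι : kˣ →* Γ) (hι : Function.Injective ι)
    (hcent : ι.range = Subgroup.center Γ) (hcomm : commutator Γ ≤ ι.range)
    [Finite (Γ ⧸ ι.range)] (hcop : (Nat.card (Γ ⧸ ι.range)).Coprime (ringExpChar k))
    (V : FDRep k Γ) (hV : Representation.IsIrreducible V.ρ) (hV1 : ∀ (z : kˣ) (v : V), V.ρ (ι z) v = (z : k) • v)
    (W : FDRep k Γ) (hW1 : ∀ (z : kˣ) (w : W), W.ρ (ι z) w = (z : k) • w)
    (H : Subgroup Γ) (hH : H ⊓ ι.range = ⊥) (hmax : ∀ H' : Subgroup Γ, H' ⊓ ι.range = ⊥ → H ≤ H' → H' = H) :
    Representation.IsSemisimpleRepresentation W.ρ ∧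
      Module.finrank k W =
        Module.finrank k (Representation.invariants (W.ρ.comp H.subtype)) * Module.finrank k V := by
  have hΓ : Groth.Agent.ThetaLib.Good ι := ⟨hι, hcent, hcomm⟩
  obtain ⟨K, _, _, q, hq, hker, hK, hcard⟩ := Groth.Agent.ThetaLib.exists_quot hΓ hcop
  refine ⟨Groth.Agent.ThetaLib.isSemisimple hΓ hK hW1 hq hker, ?_⟩
  obtain ⟨hinj, hS⟩ := Groth.Agent.ThetaLib.exists_transversal hΓ hK hq hker H hH hmax
  have h := Groth.Agent.ThetaLib.finrank_hom hΓ hq hker hK hV1 hV1
  rw [Representation.IsIrreducible.finrank_intertwiningMap_self, mul_one, ← sq, ← hS] at h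
  rw [Nat.pow_left_injective two_ne_zero h,
    Groth.Agent.ThetaLib.finrank_level hΓ hK hW1 hq hker H hinj, mul_comm]

end Groth.Agent.S17507
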