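import Groth.Statements.S1937
import Groth.Agent.GrpScheme.SectionConormal
import Groth.Agent.GrpScheme.PointModules
import Groth.Agent.GrpScheme.Basic
import Groth.Agent.QCoh.Pullback
import Groth.Agent.S9386
import Groth.Agent.S9372
import Groth.Agent.S9371

set_option autoImplicit false
universe u v
open CategoryTheory MonoidalCategory CartesianMonoidalCategory MonObj GrpObj AlgebraicGeometry
open GrpSch

namespace Groth.Agent.S1937

/-- `(g, h) ↦ (g, g * h)`. -/
noncomputable def sh {S : Scheme.{u}} (G : Over S) [GrpObj G] : G ⊗ G ≅ G ⊗ G where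
  hom := lift (fst G G) (fst G G * snd G G)
  inv := lift (fst G G) ((fst G G)⁻¹ * snd G G)
  hom_inv_id := by
    refine CartesianMonoidalCategory.hom_ext _ _ (by simp) ?_
    simp [MonObj.comp_mul, GrpObj.comp_inv]
  inv_hom_id := by
    refine CartesianMonoidalCategory.hom_ext _ _ (by simp) ?_
    simp [MonObj.comp_mul]

open CategoryTheory.Limits in
/-- The translation invariance of the differentials of a group scheme. -/
theorem omega_iso {S : Scheme.{u}} (G : Over S) [GrpObj G] [QuasiSeparated G.hom] :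
    Nonempty (Omega.sheaf G.hom ≅ (Scheme.Modules.pullback G.hom).obj (Omega.conormal η[G].left)) := by
  have heη : η[G].left ≫ G.hom = 𝟙 S := Over.w η[G]
  have : IsImmersion (η[G].left ≫ G.hom) := by rw [heη]; exact inferInstanceAs (IsImmersion (𝟙 S))
  have : IsImmersion η[G].left := IsImmersion.of_comp η[G].left G.hom
  have : QuasiCompact (η[G].left ≫ G.hom) := by rw [heη]; exact inferInstanceAs (QuasiCompact (𝟙 S))
  have : QuasiCompact η[G].left := QuasiCompact.of_comp η[G].left G.hom
  let Δ : G.left ⟶ (G ⊗ G).left := pullback.diagonal G.hom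
  let s : G.left ⟶ (G ⊗ G).left := (lift (𝟙 G) (1 : G ⟶ G)).left
  let p : (G ⊗ G).left ⟶ G.left := (fst G G).left
  have : QuasiSeparated p := inferInstanceAs (QuasiSeparated (pullback.fst G.hom G.hom))
  have hs : s ≫ p = 𝟙 _ := by rw [← Over.comp_left, lift_fst]; rfl
  have : IsImmersion (s ≫ p) := by rw [hs]; infer_instance
  have : IsImmersion s := IsImmersion.of_comp s p
  have : QuasiCompact (s ≫ p) := by rw [hs]; infer_instance
  have : QuasiCompact s := QuasiCompact.of_comp s p
  have : QuasiCompact Δ := inferInstanceAs (QuasiCompact (pullback.diagonal G.hom))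
  have : IsImmersion Δ := inferInstanceAs (IsImmersion (pullback.diagonal G.hom))
  -- the shear carries the section `s` to the diagonal
  have hΔ : Δ = (lift (𝟙 G) (𝟙 G)).left := rfl
  have : IsIso (sh G).hom.left := Groth.Agent.GrpScheme.Basic.isIso_left _
  have hcomm : s ≫ (sh G).hom.left = 𝟙 G.left ≫ Δ := by
    rw [hΔ, Category.id_comp, ← Over.comp_left]
    congr 1
    refine CartesianMonoidalCategory.hom_ext _ _ (by simp [sh]) ?_
    simp [sh, MonObj.comp_mul]
  have hsq : IsPullback s (𝟙 G.left) (sh G).hom.left Δ := IsPullback.of_vert_isIso ⟨hcomm⟩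
  obtain ⟨φ, hφ, -⟩ := Groth.Agent.S9371.result s Δ (sh G).hom.left (𝟙 G.left) hcomm.symm
  have := (Groth.Agent.S9372.result s Δ (sh G).hom.left (𝟙 G.left) hsq φ hφ).2 inferInstance
  let e₁ : Omega.sheaf G.hom ≅ Omega.conormal s :=
    ((Scheme.Modules.pullbackId G.left).app (Omega.conormal Δ)).symm ≪≫ asIso φ
  -- differentials of the product over the first factor
  have huniv := Groth.Agent.Omega.DiagUniv.isUniversal_dOmega G.hom
  obtain ⟨ΩP, dP, hdP⟩ := Groth.Agent.Omega.Exists.exists_isUniversal p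
  let q : (G ⊗ G).left ⟶ G.left := (snd G G).left
  have hpq : IsPullback q p G.hom G.hom := (IsPullback.of_hasPullback G.hom G.hom).flip
  obtain ⟨c, hc, -⟩ := Groth.Agent.Omega.Basic.existsUnique_diffCompat (h := q) (b := G.hom)
    hpq.w.symm huniv dP
  have := Groth.Agent.S9386.result G.hom G.hom q p hpq _ _ huniv _ _ hdP c hc
  obtain ⟨e₂⟩ := Groth.Agent.GrpScheme.SectionConormal.nonempty_iso s dP (by rw [hs]; infer_instance) hdP
  obtain ⟨e₃⟩ := Groth.Agent.GrpScheme.SectionConormal.nonempty_iso η[G].left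
    (OmegaSh.dOmega G.hom) (by rw [heη]; exact inferInstanceAs (IsIso (𝟙 S))) huniv
  have hsq' : s ≫ q = G.hom ≫ η[G].left := by
    rw [← Over.comp_left, lift_snd, Hom.one_def, Over.comp_left]
    rfl
  exact ⟨e₁ ≪≫ e₂ ≪≫ (Scheme.Modules.pullback s).mapIso (asIso c).symm ≪≫
    (Scheme.Modules.pullbackComp s q).app _ ≪≫ (Scheme.Modules.pullbackCongr hsq').app _ ≪≫
    ((Scheme.Modules.pullbackComp G.hom η[G].left).app _).symm ≪≫
    (Scheme.Modules.pullback G.hom).mapIso e₃.symm⟩

/-- Let G be a group scheme over S with structure morphism f and unit section e : S → G. Then Ω_{G/S} ≅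
f^* C_{S/G}, the pullback of the conormal sheaf of the immersion e; and when S is the spectrum of a
field, Ω_{G/S} is a free O_G-module (a coproduct of copies of O_G). Stated for G → S
quasi-separated, where the shared prelude's Ω (conormal sheaf of the diagonal through Mathlib's
kernel ideal sheaf) and conormal sheaf of e are the usual ones. -/
theorem result (S : Scheme.{u}) (G : Over S) [GrpObj G] [QuasiSeparated G.hom] : Nonempty (Omega.sheaf G.hom ≅ (Scheme.Modules.pullback G.hom).obj (Omega.conormal η[G].left)) ∧ ∀ (K : Type u) [Field K], Nonempty (S ≅ Spec (CommRingCat.of K)) → ∃ I : Type u, Nonempty (Omega.sheaf G.hom ≅ ∐ fun _ : I => Coh.structureModule G.left) := by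
  obtain ⟨e⟩ := omega_iso G
  refine ⟨⟨e⟩, fun K _ ⟨σ⟩ => ?_⟩
  let M := (Scheme.Modules.pullback σ.inv).obj (Omega.conormal η[G].left)
  obtain ⟨I, ⟨b⟩⟩ := Groth.Agent.GrpScheme.PointModules.exists_free K M
  have : Limits.PreservesColimitsOfSize.{u, u} (Scheme.Modules.pullback (G.hom ≫ σ.hom)) :=
    (Scheme.Modules.pullbackPushforwardAdjunction (G.hom ≫ σ.hom)).leftAdjoint_preservesColimits
  refine ⟨I, ⟨e ≪≫ (Scheme.Modules.pullback G.hom).mapIso
    (((Scheme.Modules.pullbackId S).app (Omega.conormal η[G].left)).symm ≪≫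
      (Scheme.Modules.pullbackCongr σ.hom_inv_id.symm).app _ ≪≫
      ((Scheme.Modules.pullbackComp σ.hom σ.inv).app _).symm) ≪≫
    (Scheme.Modules.pullbackComp G.hom σ.hom).app _ ≪≫
    (Scheme.Modules.pullback (G.hom ≫ σ.hom)).mapIso b ≪≫ ?_⟩⟩
  have : Limits.PreservesColimitsOfShape (Discrete I) (Scheme.Modules.pullback (G.hom ≫ σ.hom)) :=
    Limits.PreservesColimitsOfSize.preservesColimitsOfShape
  exact Limits.PreservesCoproduct.iso (Scheme.Modules.pullback (G.hom ≫ σ.hom))
      (fun _ : I => SheafOfModules.unit (Spec (CommRingCat.of K)).ringCatSheaf) ≪≫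
    Limits.Sigma.mapIso (fun _ => Groth.Agent.QCoh.pullbackUnitIso (G.hom ≫ σ.hom))

end Groth.Agent.S1937
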