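import Groth.Statements.S17508
import Groth.Agent.SurfRR.Basic
import Groth.Agent.S1866
import Groth.Agent.S6472
import Groth.Agent.S1937
import Groth.Agent.AbVarLib.Basics
import Groth.Agent.ExtPowSt.OmegaBC
import Groth.Agent.CanonTriv.Basic
import Groth.Agent.JacPts.PicPt
import Groth.Agent.CycLib.DevDegVan

set_option autoImplicit false
universe u
open CategoryTheory CategoryTheory.Limits MonoidalCategory CartesianMonoidalCategory MonObj GrpObj AlgebraicGeometry
open AbVar

namespace Groth.Agent.S17508

/-- The trivial module is a top exterior power of the differentials of a smooth group scheme over a field. -/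
theorem isExtPow_structure {k : Type u} [Field k] (X : Over (Spec (CommRingCat.of k))) [GrpObj X]
    [QuasiSeparated X.hom] (n : ℕ) [SmoothOfRelativeDimension n X.hom] :
    ExtPow.IsExtPow n (Omega.sheaf X.hom) (Coh.structureModule X.left) := by
  haveI : Smooth X.hom := SmoothOfRelativeDimension.smooth (n := n) X.hom
  haveI : IsLocallyNoetherian X.left := LocallyOfFiniteType.isLocallyNoetherian X.hom
  haveI := ExtPowSt.OmegaBC.isQuasicoherent_omega X.hom
  obtain ⟨W, hW⟩ := ExtPowSt.Exists.exists_isExtPow n (Omega.sheaf X.hom)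
  have hWinv : PicF.IsInvertible W := CanonTriv.isInvertible_topDiff X.hom n hW
  obtain ⟨e⟩ := S1937.omega_iso X
  have h : η[X].left ≫ X.hom = 𝟙 _ := Over.w η[X]
  let a : (Scheme.Modules.pullback η[X].left).obj (Omega.sheaf X.hom) ≅ Omega.conormal η[X].left :=
    (Scheme.Modules.pullback η[X].left).mapIso e ≪≫
      (Scheme.Modules.pullbackComp η[X].left X.hom).app _ ≪≫
      (Scheme.Modules.pullbackCongr h).app _ ≪≫ (Scheme.Modules.pullbackId _).app _
  haveI := QCoh.isQuasicoherent_pullback η[X].left (Omega.sheaf X.hom)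
  have h1 := ExtPowSt.Pullback.isExtPow_pullback η[X].left hW
  obtain ⟨c⟩ := JacPts.nonempty_iso_structure_of_field k
    (M := (Scheme.Modules.pullback η[X].left).obj W) (PicCl.isInvertible_pullback _ hWinv)
  have h2 := ExtPowSt.Pullback.isExtPow_pullback X.hom (ExtPowSt.Pullback.isExtPow_of_iso c h1)
  exact ExtPowSt.Pullback.isExtPow_of_iso (QCoh.pullbackUnitIso X.hom)
    (ExtPowSt.Pullback.isExtPow_of_iso_left
      ((Scheme.Modules.pullback X.hom).mapIso a ≪≫ e.symm) h2)

/-- Let X be an abelian variety over a field k (a proper, geometrically integral k-group scheme) whose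
underlying space has Krull dimension g, let L be an invertible O_X-module with an inverse L' (an
O_X-module with L ⊗ L' ≅ O_X), and let i be a natural number such that H^j(X, L) = 0 for j ≠ i and
H^i(X, L) ≠ 0. Then i ≤ g, H^j(X, L') = 0 for j ≠ g − i and H^{g−i}(X, L') ≠ 0: the index of the
inverse bundle is g − i(L). (Non-degeneracy with index i is expressed by the equivalent condition
that the cohomology is concentrated in degree i and non-zero there.) -/
theorem result
    (k : Type u) [Field k] (X : Over (Spec (CommRingCat.of k))) [GrpObj X] [IsProper X.hom] [GeometricallyIntegral X.hom]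
    (g : ℕ) (hg : topologicalKrullDim ↥X.left = g)
    (L L' : X.left.Modules) (hL : PicF.IsInvertible L)
    (hL' : Nonempty (CohB1.tensorMod L L' ≅ Coh.structureModule X.left)) (i : ℕ)
    (hvan : ∀ j : ℕ, j ≠ i → Subsingleton (Coh.HH X.left L j)) (hne : Nontrivial (Coh.HH X.left L i)) :
    i ≤ g ∧ (∀ j : ℕ, j ≠ g - i → Subsingleton (Coh.HH X.left L' j)) ∧
      Nontrivial (Coh.HH X.left L' (g - i)) := by
  obtain ⟨n, j₀, hj0, hjc⟩ := S1866.result k X
  letI : X.left.Over (Spec (CommRingCat.of k)) := ⟨X.hom⟩
  haveI : IsProper (X.left ↘ Spec (CommRingCat.of k)) := ‹IsProper X.hom›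
  haveI : Smooth X.hom := AbVarLib.Basics.smooth X
  haveI : Smooth (X.left ↘ Spec (CommRingCat.of k)) := ‹Smooth X.hom›
  haveI : IsIntegral X.left := GeometricallyIntegral.isIntegral_of_subsingleton X.hom
  haveI hsd : SmoothOfRelativeDimension g X.hom := S6472.smoothOfRelativeDimension_of_dim (k := k) g hg
  haveI : SmoothOfRelativeDimension g (X.left ↘ Spec (CommRingCat.of k)) := hsd
  haveI : Nonempty X.left := IsIntegral.nonempty
  haveI := EulerChar.isNoetherian k (X := X.left)
  have hW := isExtPow_structure X g
  have hgt : ∀ (M : X.left.Modules) (j : ℕ), g < j → Subsingleton (Coh.HH X.left M j) := fun M j hj =>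
    CycLib.Dev.subsingleton_HH_of_support_dim M isClosed_univ
      (fun x hx => absurd (Set.mem_univ x) hx)
      ((Homeomorph.Set.univ X.left).isHomeomorph.topologicalKrullDim_eq.trans_le hg.le) j hj
  have hi : i ≤ g := by
    by_contra hlt
    haveI := hgt L i (by omega)
    exact not_subsingleton (Coh.HH X.left L i) inferInstance
  obtain ⟨e⟩ := hL'
  have key : ∀ p ≤ g, Nonempty (Module.Dual k (Coh.HH X.left L p) ≃ₗ[k] Coh.HH X.left L' (g - p)) := by
    intro p hp
    obtain ⟨d⟩ := SurfRR.nonempty_dual k j₀ hjc (Coh.structureModule X.left) hW hL e p hp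
    exact ⟨d.trans (SurfRR.hhEquiv k (ProjTwist.tensOne L') (g - p))⟩
  refine ⟨hi, fun j hj => ?_, ?_⟩
  · by_cases hjg : j ≤ g
    · obtain ⟨d⟩ := key (g - j) (by omega)
      rw [show g - (g - j) = j by omega] at d
      haveI := hvan (g - j) (by omega)
      exact d.symm.injective.subsingleton
    · exact hgt L' j (by omega)
  · obtain ⟨d⟩ := key i hi
    haveI := hne
    haveI : Module.Free k (Coh.HH X.left L i) := Module.Free.of_divisionRing k _
    haveI : Module.Projective k (Coh.HH X.left L i) := Module.Projective.of_free (P := Coh.HH X.left L i)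
    haveI : Nontrivial (Module.Dual k (Coh.HH X.left L i)) := (Module.nontrivial_dual_iff k).2 hne
    exact d.injective.nontrivial

end Groth.Agent.S17508
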