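import Groth.Statements.S17511
import Groth.Agent.CBC.NhdThms
import Groth.Agent.CBC.Nhd
import Groth.Agent.CBC.Deg0Thms
import Groth.Agent.Cube.Seesaw
import Groth.Agent.FlatMor.LineValuation

set_option autoImplicit false
set_option linter.style.haveILetI false
set_option maxHeartbeats 800000
set_option synthInstance.maxHeartbeats 400000
universe u
open CategoryTheory CategoryTheory.Limits MonoidalCategory CartesianMonoidalCategory MonObj GrpObj AlgebraicGeometry
open AbVar

namespace Groth.Agent.S17511

section helpers
open CategoryTheory CategoryTheory.Limits AlgebraicGeometry TopologicalSpace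
open Groth.Agent Groth.Agent.CBC

/-- Concentration in one degree on every fibre makes that degree locally constant. -/
theorem isLocallyConstant_of_concentrated {X S : Scheme.{u}} (f : X ⟶ S) [IsProper f]
    [LocallyOfFinitePresentation f] {F : X.Modules} (hF : CohB1.IsFP F) (hfl : FlatMod.IsFlatOver f F)
    (idx : S → ℕ) (h0 : ∀ (s : S) (j : ℕ), j ≠ idx s → Subsingleton (CohIII.fiberH f F s j))
    (h1 : ∀ s : S, ¬ Subsingleton (CohIII.fiberH f F s (idx s))) : IsLocallyConstant idx := by
  classical
  haveI : F.IsQuasicoherent := CBC.isQuasicoherent_of_fp hF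
  rw [IsLocallyConstant.iff_exists_open]
  intro t
  obtain ⟨N, ht⟩ := exists_nhd hF hfl t
  let n := Nat.card N.D.ι
  have hb : ∀ (s : S), s ∈ N.V → ∀ j, n ≤ j → Subsingleton (CohIII.fiberH f F s j) := fun s hs j hj => by
    refine (subsingleton_fiberH_iff N.hV s hs N.D (N.w j)).2 ?_
    rw [fiberRank_eq N.hV s hs N.D (N.w j)]
    let R := (N.hV.primeIdealOf ⟨s, hs⟩).asIdeal.ResidueField
    haveI := subsingleton_H_alg N.hV N.D F R j hj
    haveI : Subsingleton (LinearMap.ker ((N.w j).u.baseChange R)) :=
      ((N.w j).eAlg R).symm.toEquiv.subsingleton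
    exact Module.finrank_zero_of_subsingleton
  refine ⟨(N.V : Set S) ∩ ⋂ j ∈ (Finset.range n).filter (· ≠ idx t), {s | Subsingleton (CohIII.fiberH f F s j)},
    N.V.2.inter (isOpen_biInter_finset fun j _ => isOpen_setOf_subsingleton_fiberH hF hfl j),
    ⟨ht, Set.mem_iInter₂.2 fun j hj => h0 t j (Finset.mem_filter.1 hj).2⟩, ?_⟩
  rintro s ⟨hs, hs'⟩
  by_contra hne
  refine h1 s ?_
  by_cases hlt : idx s < n
  · exact Set.mem_iInter₂.1 hs' _ (Finset.mem_filter.2 ⟨Finset.mem_range.2 hlt, hne⟩)
  · exact hb s hs _ (not_lt.1 hlt)

end helpers


/-- In an algebraic family of line bundles the index cannot jump locally. Let X be an abelian variety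
over a field k (a proper, geometrically integral k-group scheme), let T be a locally Noetherian
k-scheme, M an invertible module on X ×_k T, and for each point t of T let M_t be the pull-back of M
to the fibre X ×_k Spec k(t). Suppose every M_t is non-degenerate, with index idx(t): H^j(X ×_k Spec
k(t), M_t) = 0 for j ≠ idx(t) and H^{idx(t)} ≠ 0. Then t ↦ idx(t) is a locally constant function on
T. (Non-degeneracy with index i is expressed by the equivalent condition that the cohomology is
concentrated in degree i and non-zero there.) -/
theorem result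
    (k : Type u) [Field k] (X : Over (Spec (CommRingCat.of k))) [GrpObj X] [IsProper X.hom] [GeometricallyIntegral X.hom]
    (T : Over (Spec (CommRingCat.of k))) [IsLocallyNoetherian T.left]
    (M : (X ⊗ T).left.Modules) (hM : PicF.IsInvertible M)
    (idx : ↥T.left → ℕ)
    (hidx : ∀ t : ↥T.left,
      (∀ j : ℕ, j ≠ idx t →
        Subsingleton (Coh.HH (pullback (snd X T).left (T.left.fromSpecResidueField t))
          ((Scheme.Modules.pullback (pullback.fst (snd X T).left (T.left.fromSpecResidueField t))).obj M) j)) ∧
      Nontrivial (Coh.HH (pullback (snd X T).left (T.left.fromSpecResidueField t))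
          ((Scheme.Modules.pullback (pullback.fst (snd X T).left (T.left.fromSpecResidueField t))).obj M) (idx t))) :
    IsLocallyConstant idx := by
  haveI : IsProper (snd X T).left :=
    inferInstanceAs (IsProper (pullback.snd X.hom T.hom))
  haveI : LocallyOfFinitePresentation (snd X T).left :=
    inferInstanceAs (LocallyOfFinitePresentation (pullback.snd X.hom T.hom))
  haveI : Flat (snd X T).left := by
    haveI : Flat X.hom := inferInstance
    exact inferInstanceAs (Flat (pullback.snd X.hom T.hom))
  exact isLocallyConstant_of_concentrated (snd X T).left (Groth.Agent.FlatMor.LineValuation.isFP_of_isInvertible hM).2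
    (Groth.Agent.Cube.Seesaw.isFlatOver_of_invertible _ hM) idx (fun s j hj => (hidx s).1 j hj)
    (fun s h => not_subsingleton_iff_nontrivial.2 (hidx s).2 h)

end Groth.Agent.S17511
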