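import Groth.Statements.S17514
import Groth.Agent.AbExt.TateCoker
import Groth.Agent.AbExt.TateBC

set_option autoImplicit false
universe u
open CategoryTheory CategoryTheory.Limits MonoidalCategory CartesianMonoidalCategory MonObj GrpObj AlgebraicGeometry
open AbVar

namespace Groth.Agent.S17514

/-- Let k be a field with algebraic closure k̄, ℓ a prime number invertible in k, X and Y abelian
varieties over k (proper, geometrically integral, commutative k-group schemes), f : X → Y an isogeny
(a homomorphism which is finite and surjective) and i : N → X its kernel (the square formed by i, f,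
the unit of Y and the structure map of N is cartesian). Let T_ℓ denote the Tate module formed with
k̄-valued points and T_ℓ f : T_ℓ X → T_ℓ Y the induced ℤ_ℓ-linear map. Then T_ℓ f is injective and
its cokernel is isomorphic, as a group, to the ℓ-primary part of the finite group N(k̄) of k̄-valued
points of N (existence of an isomorphism; the published sequence 0 → T_ℓ X → T_ℓ Y → N_ℓ(k_s) → 0 is
moreover Galois-equivariant with a specific connecting map, and uses points over a separable
closure, which for ℓ-power torsion gives the same groups). -/
theorem result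
    (k : Type u) [Field k] (ℓ : ℕ) [Fact ℓ.Prime] (hℓ : (ℓ : k) ≠ 0)
    (X Y : Over (Spec (CommRingCat.of k)))
    [GrpObj X] [IsCommMonObj X] [IsProper X.hom] [GeometricallyIntegral X.hom]
    [GrpObj Y] [IsCommMonObj Y] [IsProper Y.hom] [GeometricallyIntegral Y.hom]
    (f : X ⟶ Y) [IsMonHom f] [IsFinite f.left] [Surjective f.left]
    (N : Over (Spec (CommRingCat.of k))) [GrpObj N] [IsCommMonObj N] (i : N ⟶ X) [IsMonHom i]
    (hN : AlgGrp.IsKernel i f) :
    Function.Injective (AbDual.tateMapₗ (l := ℓ)
        (T := Over.mk (Spec.map (CommRingCat.ofHom (algebraMap k (AlgebraicClosure k))))) f) ∧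
      Nonempty ((AbDual.TateMod Y ℓ (Over.mk (Spec.map (CommRingCat.ofHom (algebraMap k (AlgebraicClosure k))))) ⧸
          LinearMap.range (AbDual.tateMapₗ (l := ℓ)
            (T := Over.mk (Spec.map (CommRingCat.ofHom (algebraMap k (AlgebraicClosure k))))) f)) ≃+
        Additive ↥(CommGroup.primaryComponent
          (Over.mk (Spec.map (CommRingCat.ofHom (algebraMap k (AlgebraicClosure k)))) ⟶ N) ℓ)) := by
  open Groth.Agent Groth.Agent.AbExt Limits in
  exact by
    let Ω := AlgebraicClosure k
    let T : Over (Spec (CommRingCat.of k)) := SGA7.pt Ω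
    have hsurj : ∀ b : T ⟶ Y, ∃ a : T ⟶ X, a ≫ f = b := by
      intro b
      let q : pullback f.left b.left ⟶ Spec (CommRingCat.of Ω) := pullback.snd f.left b.left
      have : IsFinite q := inferInstanceAs (IsFinite (pullback.snd f.left b.left))
      have : Surjective q := inferInstanceAs (Surjective (pullback.snd f.left b.left))
      have : JacobsonSpace ↥(pullback f.left b.left) := LocallyOfFiniteType.jacobsonSpace q
      obtain ⟨x₀, -⟩ := q.surjective (IsLocalRing.closedPoint Ω)
      obtain ⟨x, -, hx⟩ := nonempty_inter_closedPoints (Z := (Set.univ : Set ↥(pullback f.left b.left))) ⟨x₀, trivial⟩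
        isClosed_univ.isLocallyClosed
      refine ⟨Over.homMk (pointOfClosedPoint q x hx ≫ pullback.fst f.left b.left) (by
        show (pointOfClosedPoint q x hx ≫ pullback.fst f.left b.left) ≫ X.hom = T.hom
        rw [← Over.w f, Category.assoc, ← Category.assoc (pullback.fst f.left b.left), pullback.condition,
          Category.assoc, Over.w b, ← Category.assoc]
        exact (congrArg (· ≫ T.hom) (pointOfClosedPoint_comp q x hx)).trans (Category.id_comp _)),
        Over.OverMorphism.ext ?_⟩
      show (pointOfClosedPoint q x hx ≫ pullback.fst f.left b.left) ≫ f.left = b.left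
      rw [Category.assoc, pullback.condition, ← Category.assoc]
      exact (congrArg (· ≫ b.left) (pointOfClosedPoint_comp q x hx)).trans (Category.id_comp _)
    have hfinN : IsFinite N.hom := by
      have hl := hN.map (Over.forget _)
      have h1 : IsFinite (toUnit N).left := MorphismProperty.of_isPullback hl (inferInstance : IsFinite f.left)
      rw [← Over.w (toUnit N)]
      exact inferInstanceAs (IsFinite ((toUnit N).left ≫ 𝟙 _))
    have : Finite (T ⟶ N) := by
      let q : pullback N.hom T.hom ⟶ Spec (CommRingCat.of Ω) := pullback.snd N.hom T.hom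
      have : IsFinite q := inferInstanceAs (IsFinite (pullback.snd N.hom T.hom))
      have : Finite ↥(pullback N.hom T.hom) := Set.finite_univ_iff.mp
        ((q.finite_preimage_singleton (IsLocalRing.closedPoint Ω)).subset fun x _ =>
          Subsingleton.elim (α := PrimeSpectrum Ω) _ _)
      let sec : (T ⟶ N) → (Spec (CommRingCat.of Ω) ⟶ pullback N.hom T.hom) := fun b =>
        pullback.lift b.left (𝟙 _) ((Over.w b).trans (Category.id_comp _).symm)
      refine Finite.of_injective (fun b => sec b (IsLocalRing.closedPoint Ω)) fun b b' h => ?_
      have h' := ext_of_apply_closedPoint_eq q (f := sec b) (g := sec b') (pullback.lift_snd _ _ _)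
        (pullback.lift_snd _ _ _) h
      exact Over.OverMorphism.ext ((pullback.lift_fst _ _ _).symm.trans
        ((congrArg (· ≫ pullback.fst N.hom T.hom) h').trans (pullback.lift_fst _ _ _)))
    exact TateCoker.main f i ℓ hN (fun a => TateBC.exists_root X ℓ (Fact.out : ℓ.Prime).one_le a) hsurj

end Groth.Agent.S17514
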