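import Groth.Statements.S17525
import Groth.Agent.Comod.ExactSeq
import Groth.Agent.HopfSub.Main

set_option autoImplicit false
universe u
open HopfRep

namespace Groth.Agent.S17525

/-- Let `k` be a field and `1 → K → G → Q → 1` an exact sequence of affine group schemes of finite type
over `k`, written on coordinate rings: `AQ`, `AG`, `AK` are commutative Hopf algebras of finite type
over `k`, `φ : AQ → AG` is an injective bialgebra map (so `G → Q` is faithfully flat) and `ψ : AG →
AK` is a surjective bialgebra map (so `K` is a closed subgroup of `G`) whose kernel is the ideal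
generated by the image under `φ` of the augmentation ideal of `AQ` (so `K` is the kernel of `G →
Q`). Then `G` is linearly reductive — every finite-dimensional comodule is semisimple — if and only
if both `K` and `Q` are. -/
theorem result
    (k : Type u) [Field k]
    (AQ AG AK : Type u) [CommRing AQ] [HopfAlgebra k AQ] [Algebra.FiniteType k AQ]
    [CommRing AG] [HopfAlgebra k AG] [Algebra.FiniteType k AG]
    [CommRing AK] [HopfAlgebra k AK] [Algebra.FiniteType k AK]
    (φ : AQ →ₐc[k] AG) (hφ : Function.Injective φ)
    (ψ : AG →ₐc[k] AK) (hψ : Function.Surjective ψ)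
    (hker : RingHom.ker (ψ : AG →ₐ[k] AK) =
      Ideal.map (φ : AQ →ₐ[k] AG) (RingHom.ker (Bialgebra.counitAlgHom k AQ))) :
    HopfRep.IsLinearlyReductive k AG ↔
      HopfRep.IsLinearlyReductive k AK ∧ HopfRep.IsLinearlyReductive k AQ := by
  letI : Algebra AQ AG := (φ : AQ →ₐ[k] AG).toRingHom.toAlgebra
  haveI : IsScalarTower k AQ AG := IsScalarTower.of_algebraMap_eq fun x => ((φ : AQ →ₐ[k] AG).commutes x).symm
  haveI : Module.FaithfullyFlat AQ AG := Groth.Agent.HopfSub.faithfullyFlat φ (fun _ => rfl) hφ
  exact ⟨fun h => ⟨Comod.ExactSeq.linRed_kernel φ (fun _ => rfl) ψ hker hψ h,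
      Comod.ExactSeq.linRed_quotient φ (fun _ => rfl) hφ h⟩,
    fun h => Comod.ExactSeq.linRed_extension φ (fun _ => rfl) ψ hker hψ h.1 h.2⟩

end Groth.Agent.S17525
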