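import Groth.Statements.S17534
import Groth.Agent.Comod.RelInd
import Mathlib.RingTheory.RingHom.FaithfullyFlat
import Mathlib.AlgebraicGeometry.Morphisms.Flat

set_option autoImplicit false
universe u
open CategoryTheory MonoidalCategory CartesianMonoidalCategory AlgebraicGeometry
open HopfRep

namespace Groth.Agent.S17534

open CategoryTheory MonoidalCategory CartesianMonoidalCategory MonObj GrpObj AlgebraicGeometry WithConv
open scoped TensorProduct

theorem exists_pt_eq {k : Type u} [CommRing k] {B K : Type u} [CommRing B] [CommRing K] [Algebra k B] [Algebra k K]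
    (g : CoactBr.sp k K ⟶ CoactBr.sp k B) : ∃ φ : B →ₐ[k] K, CoactBr.pt φ = g := by
  have hw : Spec.map (CommRingCat.ofHom (algebraMap k B) ≫ Spec.preimage g.left) =
      Spec.map (CommRingCat.ofHom (algebraMap k K)) := by
    rw [Spec.map_comp, Spec.map_preimage]
    exact Over.w g
  have hc := Spec.map_injective hw
  let φ : B →ₐ[k] K := { (Spec.preimage g.left).hom with
    commutes' := fun r => congrArg (fun m => CommRingCat.Hom.hom m r) hc }
  refine ⟨φ, Over.OverMorphism.ext ?_⟩
  rw [CoactBr.pt_left]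
  exact Spec.map_preimage g.left

/-- Let `k` be an algebraically closed field, `AG` a commutative Hopf algebra of finite type over `k`
which is linearly reductive (every finite-dimensional comodule semisimple; `G = Spec AG`), `AH` a
commutative Hopf algebra of finite type and `ψ : AG → AH` a surjective bialgebra map, so that `H =
Spec AH → G` is a closed subgroup (assumed a homomorphism of group schemes), and let `q : G ⟶ Q`
present the `k`-scheme `Q` as the fppf quotient `G/H` (`q` surjective, flat and locally of finite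
presentation, and the square with the projection and the multiplication `G × H → G` cartesian). If
`Q` is affine, then `H` is linearly reductive. (The direct direction — `Q` affine whenever `H` is
linearly reductive — holds without hypothesis on `G`; together they form the published equivalence.) -/
theorem result
    (k : Type u) [Field k] [IsAlgClosed k]
    (AG AH : Type u) [CommRing AG] [HopfAlgebra k AG] [Algebra.FiniteType k AG]
    [CommRing AH] [HopfAlgebra k AH] [Algebra.FiniteType k AH]
    (hG : HopfRep.IsLinearlyReductive k AG)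
    (ψ : AG →ₐc[k] AH) (hψ : Function.Surjective ψ)
    [IsMonHom (CoactBr.pt (ψ : AG →ₐ[k] AH))]
    (Q : Over (Spec (CommRingCat.of k))) (q : CoactBr.sp k AG ⟶ Q)
    (hq : RedSub.IsQuotient (CoactBr.pt (ψ : AG →ₐ[k] AH)) q) :
    IsAffine Q.left → HopfRep.IsLinearlyReductive k AH := by
  intro haff
  haveI := haff
  obtain ⟨hsurj, hflat, -, hpb⟩ := hq
  haveI : Surjective q.left := hsurj
  haveI : Flat q.left := hflat
  let B : Type u := Γ(Q.left, ⊤)
  let σ : CommRingCat.of k ⟶ CommRingCat.of B := Spec.preimage (Q.left.isoSpec.inv ≫ Q.hom)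
  letI : Algebra k B := σ.hom.toAlgebra
  have hQhom : Q.left.isoSpec.hom ≫ (CoactBr.sp k B).hom = Q.hom := by
    show Q.left.isoSpec.hom ≫ Spec.map (CommRingCat.ofHom (algebraMap k B)) = Q.hom
    rw [show CommRingCat.ofHom (algebraMap k B) = σ from rfl, Spec.map_preimage, Iso.hom_inv_id_assoc]
  let e : Q ≅ CoactBr.sp k B := Over.isoMk Q.left.isoSpec hQhom
  obtain ⟨b, hb⟩ := exists_pt_eq (q ≫ e.hom)
  have hbflat : b.toRingHom.Flat ∧ Function.Surjective (PrimeSpectrum.comap b.toRingHom) := by
    have e1 : Spec.map (CommRingCat.ofHom b.toRingHom) = q.left ≫ Q.left.isoSpec.hom := by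
      rw [← CoactBr.pt_left, hb]
      rfl
    have h1 : Flat (Spec.map (CommRingCat.ofHom b.toRingHom)) := by
      rw [e1]
      exact (MorphismProperty.cancel_right_of_respectsIso @Flat q.left Q.left.isoSpec.hom).2 hflat
    have h2 : Surjective (Spec.map (CommRingCat.ofHom b.toRingHom)) := by
      rw [e1]
      exact (MorphismProperty.cancel_right_of_respectsIso @Surjective q.left Q.left.isoSpec.hom).2 hsurj
    exact ⟨HasRingHomProperty.Spec_iff.1 h1, h2.surj⟩
  letI : Algebra B AG := b.toRingHom.toAlgebra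
  haveI : IsScalarTower k B AG := IsScalarTower.of_algebraMap_eq fun x => (b.commutes x).symm
  haveI : Module.FaithfullyFlat B AG := by
    have := RingHom.FaithfullyFlat.iff_flat_and_comap_surjective.2 hbflat
    exact this
  -- the quotient map is invariant
  have hρ : ∀ c : B, Comod.ExactSeq.rho ψ (algebraMap B AG c) = algebraMap B AG c ⊗ₜ[k] (1 : AH) := by
    let L : AG →ₐ[k] AG ⊗[k] AH := Algebra.TensorProduct.includeLeft
    let R' : AH →ₐ[k] AG ⊗[k] AH := Algebra.TensorProduct.includeRight
    have h0 : (CoactBr.pt L * CoactBr.pt R' ≫ CoactBr.pt (ψ : AG →ₐ[k] AH)) ≫ q = CoactBr.pt L ≫ q := by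
      have := congrArg (fun m => lift (CoactBr.pt L) (CoactBr.pt R') ≫ m) hpb.w
      simp only [lift_fst_assoc, Category.assoc, lift_whiskerLeft_assoc] at this
      rw [Hom.mul_def, Category.assoc]
      exact this.symm
    have h1 : CoactBr.pt (Comod.ExactSeq.rho ψ) = CoactBr.pt L * CoactBr.pt R' ≫ CoactBr.pt (ψ : AG →ₐ[k] AH) := by
      rw [← CoactBr.pt_comp, CoactBr.pt_mul_pt]
      congr 1
      ext a
      simp only [Comod.ExactSeq.rho, AlgHom.comp_apply, Bialgebra.comulAlgHom_apply]
      induction Coalgebra.comul (R := k) a using TensorProduct.induction_on with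
      | zero => simp
      | tmul x y => simp [L, R']
      | add x y hx hy => simp only [map_add, hx, hy]
    have h2 : CoactBr.pt ((Comod.ExactSeq.rho ψ).comp b) = CoactBr.pt (L.comp b) := by
      rw [CoactBr.pt_comp, CoactBr.pt_comp, hb, h1, ← Category.assoc, ← Category.assoc, h0]
    exact fun c => DFunLike.congr_fun (CoactBr.pt_injective h2) c
  -- the torsor map
  let iL : AG →ₐ[k] AG ⊗[B] AG := Algebra.TensorProduct.includeLeft
  let iR : AG →ₐ[k] AG ⊗[B] AG := (Algebra.TensorProduct.includeRight : AG →ₐ[B] AG ⊗[B] AG).restrictScalars k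
  have hLR : CoactBr.pt iL ≫ q = CoactBr.pt iR ≫ q := by
    rw [← cancel_mono e.hom, Category.assoc, Category.assoc, ← hb, ← CoactBr.pt_comp, ← CoactBr.pt_comp]
    congr 1
    ext c
    show algebraMap B AG c ⊗ₜ[B] (1 : AG) = (1 : AG) ⊗ₜ[B] algebraMap B AG c
    rw [Algebra.algebraMap_eq_smul_one, TensorProduct.smul_tmul]
  let l := hpb.lift (CoactBr.pt iL) (CoactBr.pt iR) hLR
  obtain ⟨θ, hθ⟩ := exists_pt_eq (l ≫ snd _ _)
  have hl1 : l ≫ fst _ _ = CoactBr.pt iL := hpb.lift_fst _ _ _
  have hl2 : CoactBr.pt iL * CoactBr.pt θ ≫ CoactBr.pt (ψ : AG →ₐ[k] AH) = CoactBr.pt iR := by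
    refine Eq.trans ?_ (hpb.lift_snd (CoactBr.pt iL) (CoactBr.pt iR) hLR)
    show _ = l ≫ _
    have e2 : l = lift (CoactBr.pt iL) (CoactBr.pt θ) := by
      apply CartesianMonoidalCategory.hom_ext
      · rw [lift_fst, hl1]
      · rw [lift_snd, hθ]
    rw [e2, lift_whiskerLeft_assoc, Hom.mul_def]
  have hθψ : θ.comp (ψ : AG →ₐ[k] AH) = Comod.RelInd.theta₀ (k := k) (AQ := B) := by
    apply CoactBr.pt_injective
    rw [CoactBr.pt_comp, ← inv_mul_cancel_left (CoactBr.pt iL) (CoactBr.pt θ ≫ CoactBr.pt (ψ : AG →ₐ[k] AH)), hl2,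
      CoactBr.pt_inv, CoactBr.pt_mul_pt]
    congr 1
    ext a
    show _ = (toConv (iL.comp (HopfAlgebra.antipodeAlgHom k AG)) * toConv iR) a
    rw [AlgHom.convMul_apply]
    rfl
  exact Comod.RelInd.linRed_kernel ψ hψ hρ θ hθψ hG

end Groth.Agent.S17534
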