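import Groth.Statements.S17538
import Groth.Agent.CAlg.AdicAux

set_option autoImplicit false
universe u v
open CAlg

namespace Groth.Agent.S17538

/-- For a commutative ring A, an ideal I and an A-module M, the canonical map from the I-adic completion
M^ to the I-adic completion of M^ admits an A-linear retraction (it is a split injection). (That M^
is I-adically separated is standard.) -/
theorem result {A : Type u} [CommRing A] (I : Ideal A)
    (M : Type v) [AddCommGroup M] [Module A M] :
    ∃ ψ : AdicCompletion I (AdicCompletion I M) →ₗ[A] AdicCompletion I M,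
      ψ ∘ₗ AdicCompletion.of I (AdicCompletion I M) = LinearMap.id := by
  let g : ∀ n : ℕ, AdicCompletion I (AdicCompletion I M) →ₗ[A] M ⧸ (I ^ n • ⊤ : Submodule A M) := fun n =>
    (Submodule.liftQ _ (AdicCompletion.eval I M n) (AdicCompletion.pow_smul_top_le_ker_eval (I := I) n)).comp
      (AdicCompletion.eval I (AdicCompletion I M) n)
  refine ⟨AdicCompletion.lift I g ?_, ?_⟩
  · intro m n hle
    refine LinearMap.ext fun x => ?_
    obtain ⟨a, rfl⟩ := AdicCompletion.mk_surjective I (AdicCompletion I M) x
    show AdicCompletion.transitionMap I M hle ((a n).val n) = (a m).val m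
    have h := Groth.Agent.CAlg.AdicAux.val_eq_zero_of_mem (SModEq.sub_mem.1 (a.2 hle))
    rw [AdicCompletion.val_sub_apply, sub_eq_zero] at h
    rw [h]
    exact (a n).2 hle
  · ext x n
    rfl

end Groth.Agent.S17538
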