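import Groth.Statements.S17540
import Groth.Agent.CAlg.AdicAux

set_option autoImplicit false
universe u v w
open W4c5adicflatcompl
open CAlg

namespace Groth.Agent.S17540

/-- Let A be I-adically complete, M an I-adically complete A-module and m : Z → M a family. The images
of the m z generate M/IM (the span of the family together with IM is all of M) if and only if the
family I-adically generates M: every x in M is the I-adically convergent sum of g z • m z for some
I-adically decaying function g : Z → A. -/
theorem result {A : Type u} [CommRing A] (I : Ideal A) [IsAdicComplete I A]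
    (M : Type v) [AddCommGroup M] [Module A M] [IsAdicComplete I M] (Z : Type w) (m : Z → M) :
    Submodule.span A (Set.range m) ⊔ I • ⊤ = ⊤ ↔
      ∀ x : M, ∃ g : Z → A, g ∈ decaying I Z A ∧
        ∀ n : ℕ, ∃ S : Finset Z,
          (∀ z, z ∉ S → g z • m z ∈ (I ^ n • ⊤ : Submodule A M)) ∧
          x - (∑ z ∈ S, g z • m z) ∈ (I ^ n • ⊤ : Submodule A M) := by
  classical
  constructor
  · intro hspan x
    set S := Submodule.span A (Set.range m)
    have step : ∀ (k : ℕ) (r : (I ^ k • ⊤ : Submodule A M)), ∃ (c : Z →₀ A),
        (∀ z, c z ∈ I ^ k) ∧ (r : M) - c.sum (fun z a => a • m z) ∈ (I ^ (k + 1) • ⊤ : Submodule A M) := by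
      rintro k ⟨r, hr⟩
      rw [← hspan, Submodule.smul_sup] at hr
      obtain ⟨s, hs, t, ht, hst⟩ := Submodule.mem_sup.1 hr
      obtain ⟨c, hc, hcs⟩ := (Submodule.mem_ideal_smul_span_iff_exists_sum _ _ s).1 hs
      refine ⟨c, hc, ?_⟩
      show r - c.sum (fun z a => a • m z) ∈ _
      rw [hcs, ← hst, add_sub_cancel_left, pow_succ, Submodule.mul_smul]
      exact ht
    choose c hc hc' using step
    let r : ∀ k : ℕ, (I ^ k • ⊤ : Submodule A M) := fun k => Nat.rec (motive := fun k => (I ^ k • ⊤ : Submodule A M))
      ⟨x, by simp⟩ (fun k rk => ⟨_, hc' k rk⟩) k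
    let d : ℕ → Z →₀ A := fun k => c k (r k)
    have hr : ∀ k, ((r (k + 1)).val : M) = (r k).val - (d k).sum (fun z a => a • m z) := fun k => rfl
    have hp : ∀ z n, (∑ k ∈ Finset.range n, d k z) ≡ (∑ k ∈ Finset.range (n + 1), d k z)
        [SMOD (I ^ n • ⊤ : Submodule A A)] := by
      intro z n
      rw [SModEq.sub_mem, Finset.sum_range_succ, sub_add_cancel_left, neg_mem_iff, Ideal.smul_eq_mul, Ideal.mul_top]
      exact hc _ _ z
    choose g hg using fun z => IsPrecomplete.prec (inferInstance : IsPrecomplete I A)
      (AdicCompletion.AdicCauchySequence.mk I A (fun n => ∑ k ∈ Finset.range n, d k z) (hp z)).2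
    have hg' : ∀ z n, (∑ k ∈ Finset.range n, d k z) - g z ∈ I ^ n := by
      intro z n
      have h := SModEq.sub_mem.1 (hg z (n := n))
      rwa [Ideal.smul_eq_mul, Ideal.mul_top] at h
    let S' : ℕ → Finset Z := fun n => (Finset.range n).biUnion fun k => (d k).support
    have hzero : ∀ n z, z ∉ S' n → g z ∈ I ^ n := by
      intro n z hz
      have h := hg' z n
      rw [Finset.sum_eq_zero fun k hk => ?_, zero_sub, neg_mem_iff] at h
      · exact h
      · simp only [S', Finset.mem_biUnion, not_exists, not_and, Finsupp.mem_support_iff, not_not] at hz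
        exact hz k hk
    refine ⟨g, fun n => (S' n).finite_toSet.subset fun z hz => ?_, fun n => ⟨S' n, fun z hz => ?_, ?_⟩⟩
    · by_contra h
      refine hz ?_
      rw [Ideal.smul_eq_mul, Ideal.mul_top]
      exact hzero n z h
    · exact Submodule.smul_mem_smul (hzero n z hz) Submodule.mem_top
    · have hrn : ∀ n, (r n).val = x - ∑ k ∈ Finset.range n, (d k).sum (fun z a => a • m z) := by
        intro n
        induction n with
        | zero => simp [r]
        | succ n ih => rw [hr, ih, Finset.sum_range_succ, sub_sub]
      have heq : ∑ k ∈ Finset.range n, (d k).sum (fun z a => a • m z) =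
          ∑ z ∈ S' n, (∑ k ∈ Finset.range n, d k z) • m z := by
        rw [Finset.sum_congr rfl fun k hk => Finsupp.sum_of_support_subset (d k)
          (Finset.subset_biUnion_of_mem (fun k => (d k).support) hk) (fun z a => a • m z) (fun z _ => zero_smul A (m z))]
        rw [Finset.sum_comm]
        simp only [Finset.sum_smul, S']
      have : x - ∑ z ∈ S' n, g z • m z = (r n).val + ∑ z ∈ S' n, ((∑ k ∈ Finset.range n, d k z) - g z) • m z := by
        simp only [sub_smul, Finset.sum_sub_distrib]
        rw [hrn n, heq]
        abel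
      rw [this]
      exact add_mem (r n).property (sum_mem fun z _ => Submodule.smul_mem_smul (hg' z n) Submodule.mem_top)
  · intro h
    refine eq_top_iff.2 fun x _ => ?_
    obtain ⟨g, -, hg⟩ := h x
    obtain ⟨T, -, hT⟩ := hg 1
    rw [pow_one] at hT
    rw [← sub_add_cancel x (∑ z ∈ T, g z • m z)]
    exact add_mem (Submodule.mem_sup_right hT)
      (Submodule.mem_sup_left (sum_mem fun z _ => Submodule.smul_mem _ _ (Submodule.subset_span ⟨z, rfl⟩)))

end Groth.Agent.S17540
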