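import Groth.Agent.CAlg99.Decay
import Groth.Statements.S17544
-- import your own Groth.Agent.* helpers here

set_option autoImplicit false
universe u v w
open W4c5adicflatcompl
open CAlg

namespace Groth.Agent.S17544

/-- For a Noetherian ring A which is I-adically complete, a set Z and n ≥ 0, reduction modulo I^n maps
the decaying functions Z → A onto the finitely supported functions Z → A/I^n, and its kernel, the
decaying functions with all values in I^n, equals I^n times the module of decaying functions; so
(A/I^n) ⊗ F_dec(Z, A) → F_fin(Z, A/I^n) is bijective. -/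
theorem result {A : Type u} [CommRing A] [IsNoetherianRing A]
    (I : Ideal A) [IsAdicComplete I A] (Z : Type v) (n : ℕ) :
    (∀ g : Z →₀ A ⧸ I ^ n, ∃ f : decaying I Z A,
        ∀ z, Ideal.Quotient.mk (I ^ n) ((f : Z → A) z) = g z) ∧
      ∀ f : decaying I Z A,
        f ∈ (I ^ n • ⊤ : Submodule A (decaying I Z A)) ↔ ∀ z, (f : Z → A) z ∈ I ^ n := by
  refine ⟨fun g => ?_, fun f => ?_⟩
  · classical
    let f : Z → A := fun z => if z ∈ g.support then Quotient.out (g z) else 0
    have hf : f ∈ decaying I Z A := fun m => g.support.finite_toSet.subset fun z hz => by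
      by_contra h
      exact hz (by rw [show f z = 0 from if_neg h]; exact zero_mem _)
    refine ⟨⟨f, hf⟩, fun z => ?_⟩
    by_cases h : z ∈ g.support
    · simp only [f, if_pos h]; exact Quotient.out_eq _
    · simp only [f, if_neg h, map_zero]; exact (Finsupp.notMem_support_iff.mp h).symm
  · rw [CAlg99.Decay.mem_pow_smul_top_iff (IsNoetherian.noetherian I)]
    simp only [smul_eq_mul, Ideal.mul_top]

end Groth.Agent.S17544
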