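import Groth.Agent.CAlg99.Decay
import Groth.Agent.Adic.Basic
import Groth.Statements.S17549
-- import your own Groth.Agent.* helpers here

set_option autoImplicit false
universe u
open W4c5adicflatcompl
open CAlg

namespace Groth.Agent.S17549

/-- Over a Noetherian ring A with I-adic completion Â, an A-module P is I-adically projective
(I-adically complete, and every A-linear map from P to the target of a surjection between I-adically
complete modules lifts along that surjection) exactly when P is a retract of some module of
I-adically decaying functions Z → Â: there are a set Z, an A-linear map i from P to the decaying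
functions Z → Â and an A-linear map r back with r ∘ i the identity of P. Test modules, P and Z live
in the universe of A. -/
theorem result {A : Type u} [CommRing A] [IsNoetherianRing A]
    (I : Ideal A) (P : Type u) [AddCommGroup P] [Module A P] :
    IsAdicProjective I P ↔
      ∃ (Z : Type u) (i : P →ₗ[A] decaying I Z (AdicCompletion I A))
        (r : decaying I Z (AdicCompletion I A) →ₗ[A] P), r ∘ₗ i = LinearMap.id := by
  classical
  have hI : I.FG := IsNoetherian.noetherian I
  have hAhat : IsAdicComplete I (AdicCompletion I A) := AdicCompletion.isAdicComplete hI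
  constructor
  · rintro ⟨hP, hlift⟩
    let π : decaying I P (AdicCompletion I A) →ₗ[A] P :=
      CAlg99.Decay.sumMap fun p => CAlg99.Decay.evalMap p
    have hπ : Function.Surjective π := fun p =>
      ⟨single I p 1, by rw [CAlg99.Decay.sumMap_single, CAlg99.Decay.evalMap_one]⟩
    obtain ⟨χ, hχ⟩ := hlift _ P (CAlg99.Decay.isAdicComplete hI) hP π hπ LinearMap.id
    exact ⟨P, χ, π, hχ⟩
  · rintro ⟨Z, i, r, hri⟩
    have hri' : ∀ p, r (i p) = p := fun p => LinearMap.congr_fun hri p
    have hF : IsAdicComplete I (decaying I Z (AdicCompletion I A)) := CAlg99.Decay.isAdicComplete hI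
    have hP : IsAdicComplete I P :=
      { toIsPrecomplete := Adic.isPrecomplete_of_surjective I r fun p => ⟨i p, hri' p⟩
        toIsHausdorff := ⟨fun p hp => by
          rw [← hri' p, CAlg99.Decay.eq_zero_of_forall_mem (I := I) (x := i p)
            (fun n => CAlg99.Decay.map_mem_pow_smul i (SModEq.zero.mp (hp n))), map_zero]⟩ }
    refine ⟨hP, fun M N _ _ _ _ hM hN φ hφ ψ => ?_⟩
    choose m hm using fun z => hφ (ψ (r (single I z 1)))
    let χ : decaying I Z (AdicCompletion I A) →ₗ[A] M :=
      CAlg99.Decay.sumMap fun z => CAlg99.Decay.evalMap (m z)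
    have hχ : φ ∘ₗ χ = ψ ∘ₗ r := CAlg99.Decay.hom_ext_one hI fun z => by
      simp only [χ, LinearMap.comp_apply, CAlg99.Decay.sumMap_single, CAlg99.Decay.evalMap_one, hm]
    exact ⟨χ ∘ₗ i, by rw [← LinearMap.comp_assoc, hχ, LinearMap.comp_assoc, hri, LinearMap.comp_id]⟩

end Groth.Agent.S17549
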