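import Groth.Agent.CAlg99.Decay
import Mathlib.LinearAlgebra.TensorProduct.Tower
import Groth.Statements.S17550
-- import your own Groth.Agent.* helpers here

set_option autoImplicit false
universe u
open W4c5adicflatcompl
open scoped TensorProduct
open CAlg

namespace Groth.Agent.S17550

/-- For Noetherian rings A and B with B an A-algebra, ideals I of A and J of B with I B contained in J,
and an I-adically free A-module P, the J-adic completion of B ⊗ P is a J-adically free B-module (the
completed base change of an adically free module is adically free). -/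
theorem result {A B : Type u} [CommRing A] [CommRing B] [Algebra A B]
    [IsNoetherianRing A] [IsNoetherianRing B] (I : Ideal A) (J : Ideal B)
    (hIJ : I.map (algebraMap A B) ≤ J) (P : Type u) [AddCommGroup P] [Module A P]
    (hP : IsAdicFree I P) :
    IsAdicFree J (AdicCompletion J (B ⊗[A] P)) := by
  classical
  obtain ⟨Z, ⟨e⟩⟩ := hP
  have hIfg : I.FG := IsNoetherian.noetherian I
  have hJfg : J.FG := IsNoetherian.noetherian J
  let Bh := AdicCompletion J B
  have hBh : IsAdicComplete J Bh := AdicCompletion.isAdicComplete hJfg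
  have hM : IsAdicComplete J (AdicCompletion J (B ⊗[A] P)) := AdicCompletion.isAdicComplete hJfg
  have hF : IsAdicComplete J (decaying J Z Bh) := CAlg99.Decay.isAdicComplete hJfg
  have hmono : ∀ (N : Type u) [AddCommGroup N] [Module A N] [Module B N] [IsScalarTower A B N] (n : ℕ)
      (x : N), x ∈ (I ^ n • ⊤ : Submodule A N) → x ∈ (J ^ n • ⊤ : Submodule B N) := by
    intro N _ _ _ _ n x hx
    refine Submodule.smul_induction_on hx ?_ fun a b ha hb => add_mem ha hb
    intro a ha y _
    rw [← algebraMap_smul B a y]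
    refine Submodule.smul_mem_smul ?_ trivial
    exact Ideal.pow_right_mono hIJ n (Ideal.map_pow (algebraMap A B) I n ▸ Ideal.mem_map_of_mem _ ha)
  have hMI : IsHausdorff I (AdicCompletion J (B ⊗[A] P)) :=
    ⟨fun x hx => CAlg99.Decay.eq_zero_of_forall_mem (I := J) fun n =>
      hmono _ n x (SModEq.zero.mp (hx n))⟩
  -- the map `Â → B̂`
  let f : ∀ n : ℕ, A ⧸ (I ^ n • ⊤ : Submodule A A) →ₗ[A] B ⧸ (J ^ n • ⊤ : Submodule B B) := fun n =>
    Submodule.liftQ _ (((J ^ n • ⊤ : Submodule B B).mkQ.restrictScalars A) ∘ₗ Algebra.linearMap A B)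
      fun a ha => by
        rw [LinearMap.mem_ker, LinearMap.comp_apply, LinearMap.restrictScalars_apply,
          Submodule.mkQ_apply, Submodule.Quotient.mk_eq_zero]
        refine hmono B n _ ?_
        exact CAlg99.Decay.map_mem_pow_smul (Algebra.linearMap A B) ha
  let χ : AdicCompletion I A →ₗ[A] Bh :=
    { toFun := fun x => ⟨fun n => f n (x.val n), fun {m n} hle => by
        obtain ⟨a, ha⟩ := Submodule.Quotient.mk_surjective _ (x.val n)
        show AdicCompletion.transitionMap J B hle (f n (x.val n)) = f m (x.val m)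
        rw [← x.2 hle, ← ha]
        rfl⟩
      map_add' := fun x y => AdicCompletion.ext fun n => map_add (f n) _ _
      map_smul' := fun c x => AdicCompletion.ext fun n => map_smul (f n) c _ }
  have hχ1 : χ 1 = 1 := AdicCompletion.ext fun n => by
    show f n (Submodule.Quotient.mk 1) = Submodule.Quotient.mk 1
    show Submodule.Quotient.mk (algebraMap A B 1) = _
    rw [map_one]
  let χF : decaying I Z (AdicCompletion I A) →ₗ[A] decaying J Z Bh :=
    { toFun := fun g => ⟨fun z => χ ((g : Z → AdicCompletion I A) z), fun n =>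
        (g.2 n).subset fun z hz h => hz (hmono _ n _ (CAlg99.Decay.map_mem_pow_smul χ h))⟩
      map_add' := fun g g' => Subtype.ext (funext fun z => map_add χ _ _)
      map_smul' := fun c g => Subtype.ext (funext fun z => map_smul χ c _) }
  have hχF : ∀ z, χF (single I z 1) = single J z 1 := fun z => Subtype.ext (funext fun z' => by
    show χ ((single I z (1 : AdicCompletion I A) : Z → AdicCompletion I A) z') = _
    by_cases h : z' = z
    · subst h; simp [hχ1]
    · simp [h])
  let Ψ₀ : B ⊗[A] P →ₗ[B] decaying J Z Bh := LinearMap.liftBaseChange B (χF ∘ₗ e.toLinearMap)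
  let Ψ : AdicCompletion J (B ⊗[A] P) →ₗ[B] decaying J Z Bh :=
    (AdicCompletion.ofLinearEquiv J (decaying J Z Bh)).symm.toLinearMap ∘ₗ
      (AdicCompletion.map J Ψ₀).restrictScalars B
  have hΨof : ∀ t, Ψ (AdicCompletion.of J _ t) = Ψ₀ t := fun t => by
    simp [Ψ, AdicCompletion.map_of]
  let v : Z → AdicCompletion J (B ⊗[A] P) := fun z =>
    AdicCompletion.of J _ (1 ⊗ₜ e.symm (single I z 1))
  let Φ : decaying J Z Bh →ₗ[B] AdicCompletion J (B ⊗[A] P) :=
    CAlg99.Decay.sumMap fun z => CAlg99.Decay.evalMap (v z)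
  have hΦ : ∀ z, Φ (single J z 1) = v z := fun z => by
    rw [CAlg99.Decay.sumMap_single, CAlg99.Decay.evalMap_one]
  have hp : ∀ p, Φ (χF (e p)) = AdicCompletion.of J (B ⊗[A] P) (1 ⊗ₜ p) := by
    let α : decaying I Z (AdicCompletion I A) →ₗ[A] AdicCompletion J (B ⊗[A] P) :=
      Φ.restrictScalars A ∘ₗ χF
    let β : decaying I Z (AdicCompletion I A) →ₗ[A] AdicCompletion J (B ⊗[A] P) :=
      (AdicCompletion.of J (B ⊗[A] P)).restrictScalars A ∘ₗ TensorProduct.mk A B P 1 ∘ₗ e.symm.toLinearMap
    have hαβ : α = β := CAlg99.Decay.hom_ext_one hIfg fun z => by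
      show Φ (χF (single I z 1)) = AdicCompletion.of J _ (1 ⊗ₜ e.symm (single I z 1))
      rw [hχF, hΦ]
    intro p
    have := LinearMap.congr_fun hαβ (e p)
    simpa [α, β] using this
  have hΦΨ : Φ ∘ₗ Ψ = LinearMap.id := CAlg99.Decay.completion_hom_ext hJfg fun t => by
    rw [LinearMap.comp_apply, LinearMap.id_apply, hΨof]
    induction t using TensorProduct.induction_on with
    | zero => simp
    | add a b ha hb => rw [map_add, map_add, ha, hb, map_add]
    | tmul b p =>
      rw [show Ψ₀ (b ⊗ₜ p) = b • χF (e p) by simp [Ψ₀], map_smul, hp, ← map_smul,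
        TensorProduct.smul_tmul', smul_eq_mul, mul_one]
  have hΨΦ : Ψ ∘ₗ Φ = LinearMap.id := CAlg99.Decay.hom_ext_one hJfg fun z => by
    rw [LinearMap.comp_apply, LinearMap.id_apply, hΦ, hΨof]
    simp [Ψ₀, hχF]
  exact ⟨Z, ⟨LinearEquiv.ofLinearMap Ψ Φ hΨΦ hΦΨ⟩⟩

end Groth.Agent.S17550
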