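import Groth.Agent.CAlg99.AdicBasis
import Groth.Agent.Adic.LimitSys
import Mathlib.RingTheory.Ideal.Quotient.Noetherian
import Groth.Statements.S17551
-- import your own Groth.Agent.* helpers here

set_option autoImplicit false
universe u
open W4c5adicflatcompl
open CAlg

namespace Groth.Agent.S17551

/-- For a complete Noetherian local ring A (maximal ideal m, m-adic completion Â) and an m-adic system
(M n, ψ n : M (n+1) → M n) of A-modules, meaning that each M n is a module over A/m^(n+1) and each ψ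
n is surjective with kernel m^(n+1) M (n+1), if every M n is flat over A/m^(n+1) then the inverse
limit of the system is m-adically free (isomorphic to the m-adically decaying functions Z → Â for
some set Z), and for every n its projection to M n is surjective with kernel m^(n+1) times the
limit. A, the M n and Z share one universe. -/
theorem result {A : Type u} [CommRing A] [IsNoetherianRing A] [IsLocalRing A]
    [IsAdicComplete (IsLocalRing.maximalIdeal A) A]
    (M : ℕ → Type u) [∀ n, AddCommGroup (M n)] [∀ n, Module A (M n)]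
    [∀ n, Module (A ⧸ IsLocalRing.maximalIdeal A ^ (n + 1)) (M n)]
    [∀ n, IsScalarTower A (A ⧸ IsLocalRing.maximalIdeal A ^ (n + 1)) (M n)]
    [∀ n, Module.Flat (A ⧸ IsLocalRing.maximalIdeal A ^ (n + 1)) (M n)]
    (ψ : ∀ n, M (n + 1) →ₗ[A] M n) (hψ : ∀ n, Function.Surjective (ψ n))
    (hker : ∀ n, LinearMap.ker (ψ n) =
      (IsLocalRing.maximalIdeal A ^ (n + 1) • ⊤ : Submodule A (M (n + 1)))) :
    IsAdicFree (IsLocalRing.maximalIdeal A) (sysLim M ψ) ∧
      ∀ n, Function.Surjective (sysProj M ψ n) ∧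
        LinearMap.ker (sysProj M ψ n) =
          (IsLocalRing.maximalIdeal A ^ (n + 1) • ⊤ : Submodule A (sysLim M ψ)) := by
  classical
  let m := IsLocalRing.maximalIdeal A
  have hI : m.FG := IsNoetherian.noetherian m
  let L := sysLim M ψ
  have h : Adic.LimSys A m M ψ L (sysProj M ψ) :=
    { surj := hψ
      ker_eq := hker
      compat := fun n => LinearMap.ext fun x => x.2 n
      inj := fun x hx => Subtype.ext (funext hx)
      lift := fun y hy => ⟨⟨y, hy⟩, fun _ => rfl⟩ }
  have hkerπ := h.ker_proj_of_fg hI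
  refine ⟨?_, fun n => ⟨h.surjective_proj n, hkerπ n⟩⟩
  have hL : IsAdicComplete m L :=
    { toIsHausdorff := h.isHausdorff
      toIsPrecomplete := h.isPrecomplete hkerπ }
  obtain ⟨Z, v, h1, h2⟩ := CAlg99.AdicBasis.exists_family_mod_maximal (A := A) (M := L)
  suffices key : ∀ (n : ℕ) (S : Finset Z) (c : Z → A),
      ∑ z ∈ S, c z • v z ∈ (m ^ n • ⊤ : Submodule A L) → ∀ z ∈ S, c z ∈ m ^ n by
    obtain ⟨e⟩ := CAlg99.AdicBasis.nonempty_equiv hI v h1 key
    exact ⟨_, ⟨e.symm.trans (CAlg99.AdicBasis.congrValues (AdicCompletion.ofLinearEquiv m A))⟩⟩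
  intro n S c hc z hz
  cases n with
  | zero => simp
  | succ n =>
    have hne : (m ^ (n + 1)) ≠ ⊤ := fun h0 =>
      (IsLocalRing.maximalIdeal.isMaximal A).ne_top
        (top_le_iff.mp (h0.symm.le.trans (Ideal.pow_le_self n.succ_ne_zero)))
    have : Nontrivial (A ⧸ IsLocalRing.maximalIdeal A ^ (n + 1)) := Ideal.Quotient.nontrivial_iff.mpr hne
    have : IsLocalRing (A ⧸ IsLocalRing.maximalIdeal A ^ (n + 1)) := .of_surjective' (Ideal.Quotient.mk _) Ideal.Quotient.mk_surjective
    have : IsLocalHom (Ideal.Quotient.mk (IsLocalRing.maximalIdeal A ^ (n + 1))) :=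
      IsLocalHom.of_surjective _ Ideal.Quotient.mk_surjective
    have hmax : IsLocalRing.maximalIdeal (A ⧸ IsLocalRing.maximalIdeal A ^ (n + 1)) = m.map (Ideal.Quotient.mk (IsLocalRing.maximalIdeal A ^ (n + 1))) :=
      (IsLocalRing.eq_maximalIdeal (Ideal.IsMaximal.map_of_surjective_of_ker_le Ideal.Quotient.mk_surjective
        (by rw [Ideal.mk_ker]; exact Ideal.pow_le_self n.succ_ne_zero))).symm
    let π := sysProj M ψ n
    have hmk : ∀ (a : A) (x : M n), Ideal.Quotient.mk (IsLocalRing.maximalIdeal A ^ (n + 1)) a • x = a • x := fun a x =>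
      algebraMap_smul (A ⧸ IsLocalRing.maximalIdeal A ^ (n + 1)) a x
    have hv : ∀ d : S → (A ⧸ IsLocalRing.maximalIdeal A ^ (n + 1)), ∑ z : S, d z • π (v z) ∈ (IsLocalRing.maximalIdeal (A ⧸ IsLocalRing.maximalIdeal A ^ (n + 1)) • ⊤ : Submodule (A ⧸ IsLocalRing.maximalIdeal A ^ (n + 1)) (M n)) →
        ∀ z, d z ∈ IsLocalRing.maximalIdeal (A ⧸ IsLocalRing.maximalIdeal A ^ (n + 1)) := by
      intro d hd z'
      choose d' hd' using fun z => Ideal.Quotient.mk_surjective (d z)
      let d'' : Z → A := fun z => if h : z ∈ S then d' ⟨z, h⟩ else 0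
      have hd'' : ∀ z : S, d'' z = d' z := fun z => dif_pos z.2
      have h3 : ∑ z : S, d z • π (v z) = π (∑ z ∈ S, d'' z • v z) := by
        rw [map_sum, ← Finset.sum_coe_sort S]
        refine Finset.sum_congr rfl fun z _ => ?_
        rw [map_smul, hd'', ← hd' z, hmk]
      have h4 : ∀ x ∈ (IsLocalRing.maximalIdeal (A ⧸ IsLocalRing.maximalIdeal A ^ (n + 1)) • ⊤ : Submodule (A ⧸ IsLocalRing.maximalIdeal A ^ (n + 1)) (M n)),
          x ∈ (m • ⊤ : Submodule A L).map π := by
        intro x hx
        refine Submodule.smul_induction_on hx ?_ fun a b ha hb => add_mem ha hb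
        intro r hr y _
        rw [hmax, Ideal.mem_map_iff_of_surjective _ Ideal.Quotient.mk_surjective] at hr
        obtain ⟨a, ha, rfl⟩ := hr
        obtain ⟨l, rfl⟩ := h.surjective_proj n y
        exact ⟨a • l, Submodule.smul_mem_smul ha trivial, by rw [map_smul, hmk]⟩
      obtain ⟨l, hl, hl'⟩ := h4 _ (h3 ▸ hd)
      have h5 : ∑ z ∈ S, d'' z • v z ∈ (m • ⊤ : Submodule A L) := by
        have h6 : ∑ z ∈ S, d'' z • v z - l ∈ (m • ⊤ : Submodule A L) := by
          have h7 : ∑ z ∈ S, d'' z • v z - l ∈ LinearMap.ker π := by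
            rw [LinearMap.mem_ker, map_sub, hl', sub_self]
          rw [hkerπ n] at h7
          have h8 := Submodule.pow_smul_top_le m L (show 1 ≤ n + 1 by omega) h7
          rwa [pow_one] at h8
        simpa using add_mem h6 hl
      have h9 := h2 S d'' h5 z' z'.2
      rw [hd''] at h9
      rw [← hd' z', hmax]
      exact Ideal.mem_map_of_mem _ h9
    have h10 := CAlg99.AdicBasis.coeff_mem_of_flat (fun z : S => π (v z)) hv (⊥ : Ideal (A ⧸ IsLocalRing.maximalIdeal A ^ (n + 1)))
      (fun z : S => Ideal.Quotient.mk _ (c z)) (by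
        have h11 : π (∑ z ∈ S, c z • v z) = 0 := by rw [← LinearMap.mem_ker, hkerπ n]; exact hc
        rw [map_sum, ← Finset.sum_coe_sort S] at h11
        simp only [map_smul] at h11
        simp only [hmk, h11]
        exact zero_mem _) ⟨z, hz⟩
    exact Ideal.Quotient.eq_zero_iff_mem.mp h10

end Groth.Agent.S17551
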