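import Groth.Agent.CAlg99.AdicBasis
import Groth.Agent.CAlg99.DecayTensor
import Groth.Statements.S17552
-- import your own Groth.Agent.* helpers here

set_option autoImplicit false
universe u
open W4c5adicflatcompl
open CAlg
open IsLocalRing

namespace Groth.Agent.S17552

/-- For a complete Noetherian local ring A (maximal ideal m, m-adic completion Â), an A-module M is
isomorphic to the module of m-adically decaying functions Z → Â for some set Z (m-adically free)
exactly when M is flat and m-adically complete. M and Z live in the universe of A. -/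
theorem result {A : Type u} [CommRing A] [IsNoetherianRing A] [IsLocalRing A]
    [IsAdicComplete (IsLocalRing.maximalIdeal A) A]
    (M : Type u) [AddCommGroup M] [Module A M] :
    IsAdicFree (IsLocalRing.maximalIdeal A) M ↔
      Module.Flat A M ∧ IsAdicComplete (IsLocalRing.maximalIdeal A) M := by
  classical
  have hI : (maximalIdeal A).FG := IsNoetherian.noetherian _
  let eA := AdicCompletion.ofLinearEquiv (maximalIdeal A) A
  constructor
  · rintro ⟨Z, ⟨e⟩⟩
    let e' := e.trans (CAlg99.AdicBasis.congrValues (Z := Z) eA).symm
    have := CAlg99.DecayTensor.flat_decaying (I := maximalIdeal A) Z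
    have := CAlg99.Decay.isAdicComplete (I := maximalIdeal A) (Z := Z) (M := A) hI
    exact ⟨Module.Flat.of_linearEquiv e', CAlg99.AdicBasis.isAdicComplete_of_equiv e'.symm⟩
  · rintro ⟨hflat, hcomp⟩
    obtain ⟨Z, v, h1, h2⟩ := CAlg99.AdicBasis.exists_family_mod_maximal (A := A) (M := M)
    obtain ⟨e⟩ := CAlg99.AdicBasis.nonempty_equiv hI v h1 fun n S c hc z hz => by
      have := CAlg99.AdicBasis.coeff_mem_of_flat (A := A) (fun z : S => v z) (fun d hd z' => by
        let d' : Z → A := fun z => if h : z ∈ S then d ⟨z, h⟩ else 0
        have hd' : ∀ z : S, d' z = d z := fun z => dif_pos z.2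
        rw [← hd' z']
        refine h2 S d' ?_ z' z'.2
        rw [← Finset.sum_coe_sort]
        simpa only [hd'] using hd) (maximalIdeal A ^ n) (fun z : S => c z)
        (by rwa [Finset.sum_coe_sort S fun z => c z • v z]) ⟨z, hz⟩
      exact this
    exact ⟨_, ⟨e.symm.trans (CAlg99.AdicBasis.congrValues eA)⟩⟩

end Groth.Agent.S17552
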