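import Groth.Statements.S1756
import Groth.Agent.LocCoh.KollarCrit
import Groth.Agent.EGA4Lib.StrictlyCatenaryEFT
import Groth.Agent.EGA4Lib.Ratliff
import Groth.Agent.S9126

set_option autoImplicit false
universe u
open LocCoh

namespace Groth.Agent.S1756

/-- Let A be a universally catenary Noetherian ring and I an ideal such that for every prime q
containing I the formal fibres of A_q satisfy (S_1), and let M be a finite A-module. If for every
associated prime p of M not containing I and every prime q containing both p and I the longest chain
of primes from p to q has length at least 2, then the local cohomology module H^1_I(M) is a finite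
A-module. (Affine form: finiteness of H^1_I(M) stands in for coherence of the pushforward of the
restriction of M~ to Spec A ∖ V(I).) -/
theorem result (A : Type u) [CommRing A] [IsNoetherianRing A] (hA : CAlg.IsUniversallyCatenary A) (I : Ideal A) (hF : ∀ q : PrimeSpectrum A, I ≤ q.asIdeal → EGA4.HasSnFormalFibres 1 (Localization.AtPrime q.asIdeal)) (M : Type u) [AddCommGroup M] [Module A M] [Module.Finite A M] (h : ∀ (p q : PrimeSpectrum A) (hpq : p ≤ q), p.asIdeal ∈ associatedPrimes A M → ¬ I ≤ p.asIdeal → I ≤ q.asIdeal → (2 : ℕ∞) ≤ Order.height (⟨q, hpq⟩ : Set.Ici p)) : Module.Finite A (LocCoh.H I 1 M) := by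
  refine Groth.Agent.LocCoh.KollarH1.finite_H1_of_catenary I M (fun q hq => ?_) h
  have : Algebra.EssFiniteType A (Localization.AtPrime q.asIdeal) :=
    Algebra.EssFiniteType.of_isLocalization _ q.asIdeal.primeCompl
  exact (EGA4Lib.isFormallyStrictlyCatenary_iff _).2
    ⟨EGA4Lib.isFormallyCatenary_of_isUniversallyCatenary _ (S9126.result A _ hA), hF q hq⟩

end Groth.Agent.S1756
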