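import Groth.Statements.S17570
import Groth.Agent.S17574
import Groth.Agent.CycLib.DevPullC1
import Groth.Agent.CycLib.DevGysinComm

set_option autoImplicit false
universe u
open CategoryTheory AlgebraicGeometry
open Bivar

namespace Groth.Agent.S17570

open CycLib.Dev Groth.Agent.PullStalk.Sky Groth.Agent.PullStalk.Exact

set_option maxHeartbeats 1000000

theorem cl_eq_of_mem_prin {Y : Scheme.{u}} [IsLocallyNoetherian Y] {δ : Y → ℤ} (hd : Cyc.IsDimFun Y δ) {k : ℤ}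
    (γ γ' : AlgebraicCycle Y ℤ) (hγ : γ ∈ Cyc.Zk Y δ k) (hγ' : γ' ∈ Cyc.Zk Y δ k)
    (h : (⇑γ : Y → ℤ) - ⇑γ' ∈ prin hd k) : ChowOps.cl γ hγ = ChowOps.cl γ' hγ' :=
  QuotientAddGroup.eq_iff_sub_mem.2 (AddSubgroup.subset_closure ((ratEquivZero_iff hd k (γ - γ')).2 h))

theorem prin_congr' {Y : Scheme.{u}} [IsLocallyNoetherian Y] {δ₁ δ₂ : Y → ℤ} (h₁ : Cyc.IsDimFun Y δ₁)
    (h₂ : Cyc.IsDimFun Y δ₂) (e : δ₁ = δ₂) {k l : ℤ} (ek : k = l) {φ : Y → ℤ} (hφ : φ ∈ prin h₁ k) :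
    φ ∈ prin h₂ l := by
  subst e; subst ek; exact hφ

theorem c1_iso_mem {Y : Scheme.{u}} {δ : Y → ℤ} (hY : Cyc.IsSetup Y δ) [IsLocallyNoetherian Y] {M M' : Y.Modules}
    (hM : PicF.IsInvertible M) (hM' : PicF.IsInvertible M') (φ : M ≅ M') {k : ℤ} {a : Y → ℤ}
    (ha : IsCyc δ (k + 1) a) (v : (ξ : Y) → Cyc.secFibre M ξ) (hv : ∀ ξ, v ξ ≠ 0)
    (v' : (ξ : Y) → Cyc.secFibre M' ξ) (hv' : ∀ ξ, v' ξ ≠ 0) :
    Cyc.c1CapFun δ M a v - Cyc.c1CapFun δ M' a v' ∈ prin hY.2.2 k := by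
  obtain ⟨u, u', hu, hu', e⟩ := S17574.exists_transport hY hM hM' φ
  have h1 := add_mem (c1_sub_mem hY.2.2 hM ha v u hv hu) (c1_sub_mem hY.2.2 hM' ha u' v' hu' hv')
  rwa [e a, sub_add_sub_cancel] at h1

theorem isZeroSchemeOf_iso {Y D : Scheme.{u}} (i : D ⟶ Y) {M M' : Y.Modules} (hM : PicF.IsInvertible M)
    (φ : M ≅ M') (σ : M.presheaf.obj (Opposite.op ⊤)) (h : Cyc.IsZeroSchemeOf i M σ) :
    Cyc.IsZeroSchemeOf i M' (φ.hom.app ⊤ σ) := by
  have hg : ∀ x : Y, (M'.presheaf.germ ⊤ x trivial) (φ.hom.app ⊤ σ) =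
      stalkLin φ.hom x ((M.presheaf.germ ⊤ x trivial) σ) := fun x => (stalkLin_germ φ.hom ⊤ x trivial σ).symm
  have hb : ∀ x, Function.Bijective (stalkLin φ.hom x) := fun x => stalkLin_iso_bijective φ.hom x
  refine ⟨h.1.trans (Set.ext fun x => ?_), fun d => ?_⟩
  · show (Submodule.Quotient.mk _ : Cyc.secFibre M x) = 0 ↔ (Submodule.Quotient.mk _ : Cyc.secFibre M' x) = 0
    rw [Submodule.Quotient.mk_eq_zero, Submodule.Quotient.mk_eq_zero, hg,
      ← Submodule.mem_comap (f := stalkLin φ.hom x)]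
    have e : Submodule.map (stalkLin φ.hom x) (IsLocalRing.maximalIdeal (Y.presheaf.stalk x) •
        (⊤ : Submodule (Y.presheaf.stalk x) (M.presheaf.stalk x))) = IsLocalRing.maximalIdeal (Y.presheaf.stalk x) • ⊤ := by
      rw [Submodule.map_smul'', Submodule.map_top, LinearMap.range_eq_top.2 (hb x).2]
    rw [← e, Submodule.comap_map_eq_of_injective (hb x).1]
  · obtain ⟨t, f, ht, hf, hk⟩ := h.2 d
    refine ⟨stalkLin φ.hom (i d) t, f, ?_, ?_, hk⟩
    · rw [← Set.image_singleton, Submodule.span_image, ht, Submodule.map_top, LinearMap.range_eq_top.2 (hb _).2]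
    · rw [hg, hf, map_smul]

variable {X : Scheme.{u}} {δX : X → ℤ} (hX : Cyc.IsSetup X δX) {L : X.Modules} (hL : PicF.IsInvertible L)

/-- The pulled back module. -/
noncomputable abbrev Mod (L : X.Modules) (s : OSq X δX) : s.Y.Modules := (Scheme.Modules.pullback s.g).obj L

include hX in
theorem setup (s : OSq X δX) : Cyc.IsSetup s.Y s.δ := by
  haveI := s.lft
  exact S17576.isSetup_of_compat s.g hX s.compat

include hL in
theorem invMod (s : OSq X δX) : PicF.IsInvertible (Mod L s) := PicCl.isInvertible_pullback s.g hL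

/-- A choice of rational sections. -/
noncomputable def sec (s : OSq X δX) : (ξ : s.Y) → Cyc.secFibre (Mod L s) ξ :=
  Classical.choose (S17573.exists_secFibre_ne_zero (invMod hL s))

theorem sec_ne_zero (s : OSq X δX) (ξ : s.Y) : sec hL s ξ ≠ 0 :=
  Classical.choose_spec (S17573.exists_secFibre_ne_zero (invMod hL s)) ξ

/-- The cap product on cycles. -/
noncomputable def gam (s : OSq X δX) (k : ℤ) (a : ↥(ChowOps.zk s.Y s.δ k)) : AlgebraicCycle s.Y ℤ :=
  Classical.choose (S17573.exists_c1_cycle (setup hX s) (invMod hL s) a.1 a.2 (sec hL s) (sec_ne_zero hL s))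

theorem gam_spec (s : OSq X δX) (k : ℤ) (a : ↥(ChowOps.zk s.Y s.δ k)) :
    gam hX hL s k a ∈ Cyc.Zk s.Y s.δ (k - 1) ∧
      ⇑(gam hX hL s k a) = Cyc.c1CapFun s.δ (Mod L s) ⇑a.1 (sec hL s) :=
  Classical.choose_spec (S17573.exists_c1_cycle (setup hX s) (invMod hL s) a.1 a.2 (sec hL s) (sec_ne_zero hL s))

include hX in
theorem isCyc' (s : OSq X δX) {k : ℤ} (α : AlgebraicCycle s.Y ℤ) (hα : α ∈ Cyc.Zk s.Y s.δ k) :
    IsCyc s.δ (k - 1 + 1) ⇑α := by
  haveI := (setup hX s).1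
  rw [sub_add_cancel]; exact IsCyc.of_cycle α hα

/-- The cap product from cycles to classes. -/
noncomputable def T (s : OSq X δX) (k : ℤ) : ↥(ChowOps.zk s.Y s.δ k) →+ ChowOps.CH s.Y s.δ (k - 1) :=
  AddMonoidHom.mk' (fun a => ChowOps.cl (gam hX hL s k a) (gam_spec hX hL s k a).1) fun a b => by
    haveI := (setup hX s).1
    rw [← Bivar.cl_add]
    refine Bivar.cl_congr ?_ _ _
    ext1 y
    have e := c1_sub (L := Mod L s) (δ := s.δ) (isCyc' hX s (a + b).1 (a + b).2) (isCyc' hX s b.1 b.2) (sec hL s)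
    have ea : ((⇑(a + b).1 : s.Y → ℤ) - ⇑b.1) = ⇑a.1 := funext fun z => by
      show a.1 z + b.1 z - b.1 z = a.1 z
      ring
    rw [ea, ← (gam_spec hX hL s k a).2, ← (gam_spec hX hL s k b).2, ← (gam_spec hX hL s k (a + b)).2] at e
    have := congrFun e y
    show gam hX hL s k (a + b) y = gam hX hL s k a y + gam hX hL s k b y
    simp only [Pi.sub_apply] at this
    omega

include hX hL in
theorem ker_T (s : OSq X δX) (k : ℤ) : ChowOps.ratTriv s.Y s.δ k ≤ (T hX hL s k).ker := by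
  haveI := (setup hX s).1
  refine (AddSubgroup.closure_le _).2 fun a ha => ?_
  have h0 : (⇑a.1 : s.Y → ℤ) ∈ prin (setup hX s).2.2 (k - 1 + 1) :=
    prin_congr' (setup hX s).2.2 _ rfl (sub_add_cancel k 1).symm ha
  have h1 := c1_mem_of_ratEquivZero (setup hX s).2.2 (invMod hL s) (isCyc' hX s a.1 a.2) h0 _ (sec_ne_zero hL s)
  show ChowOps.cl _ _ = 0
  rw [← Bivar.cl_zero]
  refine cl_eq_of_mem_prin (setup hX s).2.2 _ _ _ _ ?_
  rw [(gam_spec hX hL s k a).2]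
  exact (sub_zero (Cyc.c1CapFun s.δ (Mod L s) ⇑a.1 (sec hL s))).symm ▸ h1

/-- The operation `c₁ ∩ -`. -/
noncomputable def op (s : OSq X δX) (k : ℤ) : ChowOps.CH s.Y s.δ k →+ ChowOps.CH s.Y s.δ (k - 1) :=
  QuotientAddGroup.lift _ (T hX hL s k) (ker_T hX hL s k)

theorem op_cl (s : OSq X δX) (k : ℤ) (α : AlgebraicCycle s.Y ℤ) (hα : α ∈ Cyc.Zk s.Y s.δ k)
    (v : (ξ : s.Y) → Cyc.secFibre (Mod L s) ξ) (hv : ∀ ξ, v ξ ≠ 0) (γ : AlgebraicCycle s.Y ℤ)
    (hγ' : ⇑γ = Cyc.c1CapFun s.δ (Mod L s) ⇑α v) (hγ : γ ∈ Cyc.Zk s.Y s.δ (k - 1)) :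
    op hX hL s k (ChowOps.cl α hα) = ChowOps.cl γ hγ := by
  haveI := (setup hX s).1
  show ChowOps.cl (gam hX hL s k ⟨α, hα⟩) _ = _
  refine cl_eq_of_mem_prin (setup hX s).2.2 _ _ _ _ ?_
  rw [hγ', (gam_spec hX hL s k ⟨α, hα⟩).2]
  exact c1_sub_mem (setup hX s).2.2 (invMod hL s) (isCyc' hX s α hα) _ _ (sec_ne_zero hL s) hv

/-- The iso of pulled back modules along a morphism of test schemes. -/
noncomputable def modIso {s t : OSq X δX} (h : t.Y ⟶ s.Y) (w : h ≫ s.g = t.g) (L : X.Modules) :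
    (Scheme.Modules.pullback h).obj (Mod L s) ≅ Mod L t :=
  (Scheme.Modules.pullbackComp h s.g).app L ≪≫ (Scheme.Modules.pullbackCongr w).app L

theorem compat_of {s t : OSq X δX} (h : t.Y ⟶ s.Y) (w : h ≫ s.g = t.g) : Cyc.DeltaCompat h t.δ s.δ :=
  S17576.deltaCompat_cancel h s.g (w.symm ▸ t.compat) s.compat

theorem push' (s t : OSq X δX) (h : t.Y ⟶ s.Y) [IsProper h] (w : h ≫ s.g = t.g) (k : ℤ) :
    PushOK t.δ t.δ s.δ s.δ h h (op hX hL t k) (op hX hL s k) := by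
  intro α hα
  haveI := (setup hX s).1
  haveI := (setup hX t).1
  have hS := setup hX s
  have hT := setup hX t
  obtain ⟨g1, g2⟩ := gam_spec hX hL t k ⟨α, hα⟩
  refine ⟨_, g1, op_cl hX hL t k α hα _ (sec_ne_zero hL t) _ g2 g1, ?_⟩
  have hM := PicCl.isInvertible_pullback h (invMod hL s)
  obtain ⟨u, hu⟩ := S17573.exists_secFibre_ne_zero hM
  obtain ⟨γu, hγu, hγu'⟩ := S17573.exists_c1_cycle hT hM α hα u hu
  have hmα := Bivar.cycMap_mem_Zk h t.δ s.δ k hα
  obtain ⟨g3, g4⟩ := gam_spec hX hL s k ⟨_, hmα⟩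
  rw [op_cl hX hL s k _ hmα _ (sec_ne_zero hL s) _ g4 g3]
  have h1 := ratEquiv_map_c1 (p := h) (δX := t.δ) (δY := s.δ) (hdX := hT.2.2) (hdY := hS.2.2)
    (hδ := compat_of h w) (hL := invMod hL s) (hM := hM) (k := k - 1) α (by rwa [sub_add_cancel]) u hu _
    (sec_ne_zero hL s) γu hγu' _ g4
  refine Eq.trans (b := ChowOps.cl _ (Bivar.cycMap_mem_Zk h t.δ s.δ _ hγu))
    (cl_eq_of_mem_prin hS.2.2 _ _ g3 _ ?_) ?_
  · have h1' : (⇑(AlgebraicCycle.map h t.δ s.δ γu) : s.Y → ℤ) -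
        ⇑(gam hX hL s k ⟨_, hmα⟩) ∈ prin hS.2.2 (k - 1) := (ratEquivZero_iff hS.2.2 _ _).1 h1
    simpa [neg_sub] using neg_mem h1'
  · refine S17576.cl_map_eq hT hS h (compat_of h w) _ _ _ hγu g1 ?_
    refine cl_eq_of_mem_prin hT.2.2 _ _ _ _ ?_
    rw [hγu', g2]
    exact c1_iso_mem hT hM (invMod hL t) (modIso h w L) (isCyc' hX t α hα) u hu _ (sec_ne_zero hL t)

theorem pull' (s t : OSq X δX) (h : t.Y ⟶ s.Y) [Flat h] (r : ℕ) (hr : Cyc.HasRelDim h r) (w : h ≫ s.g = t.g)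
    (k : ℤ) : PullOK s.δ s.δ t.δ t.δ h h (r : ℤ) (op hX hL s k) (op hX hL t (k + r)) := by
  intro α hα
  haveI := (setup hX s).1
  haveI := (setup hX t).1
  haveI : LocallyOfFiniteType (h ≫ s.g) := by rw [w]; exact t.lft
  haveI : LocallyOfFiniteType h := locallyOfFiniteType_of_comp h s.g
  have hS := setup hX s
  have hT := setup hX t
  obtain ⟨g1, g2⟩ := gam_spec hX hL s k ⟨α, hα⟩
  refine ⟨_, g1, op_cl hX hL s k α hα _ (sec_ne_zero hL s) _ g2 g1, fun α₁ e hα₁ => ?_⟩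
  obtain ⟨β₁, hβ₁, hβ₁'⟩ := (isCyc_pull h hT.2.2 (compat_of h w) hr (IsCyc.of_cycle _ g1)).exists_cycle
  have hk : k - 1 + (r : ℤ) = k + r - 1 := by ring
  rw [hk] at hβ₁
  refine ⟨β₁, hβ₁, hβ₁', ?_⟩
  obtain ⟨g3, g4⟩ := gam_spec hX hL t (k + r) ⟨α₁, hα₁⟩
  rw [op_cl hX hL t (k + r) α₁ hα₁ _ (sec_ne_zero hL t) _ g4 g3]
  refine cl_eq_of_mem_prin hT.2.2 _ _ _ _ ?_
  have hM := PicCl.isInvertible_pullback h (invMod hL s)
  obtain ⟨u, hu⟩ := S17573.exists_secFibre_ne_zero hM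
  have m1 := prin_congr' hT.2.2 hT.2.2 rfl hk
    (pull_c1_mem (f := h) (hdX := hT.2.2) (hδ := compat_of h w) (hr := hr) (hdY := hS.2.2) (hL := invMod hL s)
      (hM := hM) (m := k - 1) (isCyc' hX s α hα) _ (sec_ne_zero hL s) u hu)
  have m2 := c1_iso_mem hT hM (invMod hL t) (modIso h w L) (k := k + r - 1)
    (isCyc' hX t α₁ hα₁) u hu _ (sec_ne_zero hL t)
  rw [g4, hβ₁', g2]
  rw [← e] at m1
  have m3 := neg_mem (add_mem m1 m2)
  rw [sub_add_sub_cancel, neg_sub] at m3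
  exact m3

theorem gysin' (s t : OSq X δX) (i : t.Y ⟶ s.Y) [IsClosedImmersion i] (w : i ≫ s.g = t.g) (L' : s.Y.Modules)
    (hL' : PicF.IsInvertible L') (σ : L'.presheaf.obj (Opposite.op ⊤)) (hσ : Cyc.IsZeroSchemeOf i L' σ) (k : ℤ) :
    GysinOK₁ s.δ t.δ i L' σ (op hX hL s k) (op hX hL t (k - 1)) := by
  intro α hα
  haveI := (setup hX s).1
  haveI := (setup hX t).1
  have hS := setup hX s
  have hT := setup hX t
  have eδ : t.δ = fun d => s.δ (i d) := funext fun d =>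
    CycLib.delta_eq_of_surjective i (compat_of i w) d (S17576.surjective_residueFieldMap_preimmersion i d)
  obtain ⟨g1, g2⟩ := gam_spec hX hL s k ⟨α, hα⟩
  refine ⟨_, g1, op_cl hX hL s k α hα _ (sec_ne_zero hL s) _ g2 g1, fun v hv γ hγ hγk => ?_⟩
  have hβ2 : IsCyc s.δ (k - 2 + 1) ⇑(gam hX hL s k ⟨α, hα⟩) := by
    rw [show k - 2 + 1 = k - 1 by ring]; exact IsCyc.of_cycle _ g1
  obtain ⟨ζ, hζ, hζ'⟩ := (IsCyc.comp_closed i
    (isCyc_c1 hS.2.2 hL' hβ2 _ (gysinChoice_ne_zero σ v hv))).exists_cycle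
  rw [← eδ, show k - 2 = k - 1 - 1 by ring] at hζ
  refine ⟨ζ, hζ, congrFun hζ', ?_⟩
  obtain ⟨g3, g4⟩ := gam_spec hX hL t (k - 1) ⟨γ, hγk⟩
  rw [op_cl hX hL t (k - 1) γ hγk _ (sec_ne_zero hL t) _ g4 g3]
  refine cl_eq_of_mem_prin hT.2.2 _ _ _ _ ?_
  -- sections on the pulled back modules
  have hMs := invMod hL s
  have hMi := PicCl.isInvertible_pullback i hMs
  have hL1 := PicCl.isInvertible_pullback (𝟙 s.Y) hL'
  obtain ⟨w₁, hw₁⟩ := S17573.exists_secFibre_ne_zero hMi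
  obtain ⟨w₂, hw₂⟩ := S17573.exists_secFibre_ne_zero hL1
  let φ : L' ≅ (Scheme.Modules.pullback (𝟙 s.Y)).obj L' := ((Scheme.Modules.pullbackId s.Y).app L').symm
  have hσ₂ := isZeroSchemeOf_iso i hL' φ σ hσ
  have hα2 : IsCyc s.δ (k - 2 + 1 + 1) ⇑α := by
    rw [show k - 2 + 1 + 1 = k by ring]; exact IsCyc.of_cycle α hα
  have hpb : IsPullback (𝟙 t.Y) i i (𝟙 s.Y) := IsPullback.of_horiz_isIso ⟨by simp⟩
  have hz : ∀ (Z : Scheme.{u}) (M : Z.Modules) (hM : PicF.IsInvertible M), Cyc.IsZeroSchemeOf (𝟙 Z) M 0 :=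
    fun Z M hM => S17573.isZeroSchemeOf_id hM
  have m1 := gysin_gysin i (𝟙 s.Y) (𝟙 t.Y) i hpb hS.2.2 hL' σ hσ hMs 0 (hz _ _ hMs) 0 (hz _ _ hMi)
    _ hσ₂ v hv (sec hL s) (sec_ne_zero hL s) w₁ hw₁ w₂ hw₂ hα2
  have m2 := gysin_iter_choice (𝟙 s.Y) i i (𝟙 t.Y) hpb.flip hS.2.2 hL' σ hσ _ hσ₂ v hv w₂ hw₂ hβ2
    (fun x _ => ⟨x, rfl⟩)
  simp only [gysinDiff, S17573.gysinChoice_zero] at m1
  rw [g4, hζ', g2]
  rw [g2] at m2
  have m1' := prin_congr' (l := k - 1 - 1) _ hT.2.2 (by rw [eδ]; rfl) (by ring) m1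
  have m2' := prin_congr' (l := k - 1 - 1) _ hT.2.2 (by rw [eδ]; rfl) (by ring) m2
  have m0 := c1_iso_mem hT (invMod hL t) hMi (modIso i w L).symm (k := k - 1 - 1) (isCyc' hX t γ hγk)
    (sec hL t) (sec_ne_zero hL t) w₁ hw₁
  have hm := add_mem (add_mem m0 m1') m2'
  convert hm using 1
  funext z
  simp only [Pi.add_apply, Pi.sub_apply, eδ, funext hγ]
  simp

/-- Let L be an invertible O_X-module. Then the rule assigning to every g : Y → X locally of finite type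
the operation c_1(g^*L) ∩ − : CH_k(Y) → CH_{k−1}(Y) is a bivariant class of degree 1: there is an
operational class c ∈ A^1(X) such that on every test scheme g : Y → X (with its induced dimension
function) and every k-cycle α on Y, c ∩ [α] is the class of any cycle whose coefficients are those
of c_1(g^*L) ∩ α computed from any nowhere-zero choice of rational sections of g^*L (the binder
Bivar.IsC1Class, which also records invertibility of L). In particular the operation passes to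
rational equivalence and does not depend on the sections. Here a pair (X, δ) with Cyc.IsSetup plays
the role of a scheme locally of finite type over the base (S, δ) (X locally Noetherian with
universally catenary local rings, δ a dimension function), Cyc.DeltaCompat records that a dimension
function is the induced one, and bivariant classes are taken in the operational sense of the
prelude: additive operations on the Chow groups CH_k (k-cycles modulo rational equivalence) of all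
test schemes, compatible with proper pushforward, flat pullback and the Gysin maps of zero schemes
of sections of invertible modules in representative form (Bivar.Cl for A^p(X → Y), Bivar.OpCl for
A^p(X)). -/
theorem result (X : Scheme.{u}) (δX : X → ℤ) (hX : Cyc.IsSetup X δX) (L : X.Modules) (hL : PicF.IsInvertible L) : ∃ c : Bivar.OpCl 1 X δX, Bivar.IsC1Class L c := by
  exact ⟨{ op := op hX hL
           push := fun s t h _ w k => push' hX hL s t h w k
           pull := fun s t h _ r hr w k => pull' hX hL s t h r hr w k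
           gysin := fun s t i _ w L' hL' σ hσ k => gysin' hX hL s t i w L' hL' σ hσ k },
    hL, fun s k α hα v hv γ hγ' hγ => op_cl hX hL s k α hα v hv γ hγ' hγ⟩

end Groth.Agent.S17570
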