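import Groth.Statements.S17567
import Groth.Agent.S17570
import Groth.Agent.CycLib.DevGysinPull
import Groth.Agent.CycLib.FlatBC
import Groth.Agent.CycLib.ShiftComp
import Groth.Agent.S9358

set_option autoImplicit false
universe u
open CategoryTheory AlgebraicGeometry
open Bivar
open CategoryTheory.Limits

namespace Groth.Agent.S17567

open CycLib CycLib.Dev Groth.Agent.PullStalk.Basic Groth.Agent.PullStalk.Sky IsLocalRing

set_option maxHeartbeats 1000000
set_option linter.style.haveILetI false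

theorem fibLen_baseChange' {X X' D Pt : Scheme.{u}} (f : X' ⟶ X) (i : D ⟶ X) (a : Pt ⟶ X') (b : Pt ⟶ D)
    (h : IsPullback a b f i) [IsClosedImmersion i] [IsClosedImmersion a] [IsLocallyNoetherian X] {L : X.Modules}
    (hL : PicF.IsInvertible L) (s : L.presheaf.obj (Opposite.op ⊤)) (hD : Cyc.IsZeroSchemeOf i L s) (z : Pt) :
    fibLen b z = fibLen f (a z) := by
  obtain ⟨t, ht⟩ := exists_isBas hL (f (a z))
  obtain ⟨f0, hf0⟩ := ht.2 ((L.presheaf.germ ⊤ (f (a z)) trivial) s)
  replace hf0 : f0 • t = (L.presheaf.germ ⊤ (f (a z)) trivial) s := hf0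
  have hy : i (b z) = f (a z) := by
    show (b ≫ i) z = (a ≫ f) z
    rw [h.w]
  have hk := ker_stalkMap_isPullback_pre h z (specializes_of_eq hy)
  rw [comap_ker_eq i hL s hD (b z) hy (specializes_of_eq hy) ht hf0.symm, Ideal.map_span,
    Set.image_singleton] at hk
  have hfm : f0 ∈ IsLocalRing.maximalIdeal (X.presheaf.stalk (f (a z))) := fun hu => by
    have h1 : a.stalkMap z (f.stalkMap (a z) f0) = 0 :=
      hk.ge (Ideal.mem_span_singleton_self _)
    exact not_isUnit_zero (h1 ▸ ((hu.map (f.stalkMap (a z)).hom).map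
      (a.stalkMap z).hom))
  have hsq : (f.stalkMap (a z)) ≫ a.stalkMap z =
      X.presheaf.stalkSpecializes (specializes_of_eq hy) ≫ i.stalkMap (b z) ≫
        b.stalkMap z := by
    apply Spec.map_injective
    rw [← cancel_mono (X.fromSpecStalk (f (a z)))]
    simp only [Spec.map_comp, Category.assoc,
      Scheme.SpecMap_stalkSpecializes_fromSpecStalk (specializes_of_eq hy),
      Scheme.SpecMap_stalkMap_fromSpecStalk, Scheme.SpecMap_stalkMap_fromSpecStalk_assoc, h.w]
  have hmax : (IsLocalRing.maximalIdeal (X.presheaf.stalk (f (a z)))).map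
      ((X.presheaf.stalkSpecializes (specializes_of_eq hy)) ≫ i.stalkMap (b z)).hom =
        IsLocalRing.maximalIdeal (D.presheaf.stalk (b z)) := by
    have hsurj : Function.Surjective
        ((X.presheaf.stalkSpecializes (specializes_of_eq hy)) ≫ i.stalkMap (b z)).hom := by
      intro c
      obtain ⟨c', rfl⟩ := i.stalkMap_surjective (b z) c
      refine ⟨X.presheaf.stalkSpecializes (specializes_of_eq hy.symm) c', ?_⟩
      show i.stalkMap (b z) _ = _
      refine congrArg _ ?_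
      show (X.presheaf.stalkSpecializes (specializes_of_eq hy.symm) ≫
        X.presheaf.stalkSpecializes (specializes_of_eq hy)) c' = c'
      simp
    exact IsLocalRing.map_maximalIdeal_of_surjective _ hsurj
  let φ := (a.stalkMap z).hom
  have hφ : Function.Surjective φ := a.stalkMap_surjective z
  have hI : (IsLocalRing.maximalIdeal (D.presheaf.stalk (b z))).map (b.stalkMap z).hom =
      ((IsLocalRing.maximalIdeal (X.presheaf.stalk (f (a z)))).map (f.stalkMap (a z)).hom).map φ := by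
    rw [← hmax, Ideal.map_map, Ideal.map_map]
    congr 1
    exact congrArg CommRingCat.Hom.hom hsq.symm
  have hle : RingHom.ker φ ≤ (IsLocalRing.maximalIdeal (X.presheaf.stalk (f (a z)))).map
      (f.stalkMap (a z)).hom :=
    hk.trans_le ((Ideal.span_singleton_le_iff_mem _).2 (Ideal.mem_map_of_mem _ hfm))
  rw [fibLen, fibLen, hI]
  congr 1
  set J := (IsLocalRing.maximalIdeal (X.presheaf.stalk (f (a z)))).map (f.stalkMap (a z)).hom
  letI := φ.toAlgebra
  haveI : IsScalarTower (X'.presheaf.stalk (a z)) (Pt.presheaf.stalk z)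
      (Pt.presheaf.stalk z ⧸ J.map φ) := inferInstance
  rw [← Module.length_eq_of_surjective (R := Pt.presheaf.stalk z)
    (S := X'.presheaf.stalk (a z)) (M := Pt.presheaf.stalk z ⧸ J.map φ) hφ]
  let ψ : X'.presheaf.stalk (a z) →ₗ[X'.presheaf.stalk (a z)]
      (Pt.presheaf.stalk z ⧸ J.map φ) := Algebra.linearMap _ _
  have hψ : Function.Surjective ψ := fun c => by
    obtain ⟨c', rfl⟩ := Ideal.Quotient.mk_surjective c
    obtain ⟨c'', rfl⟩ := hφ c'
    exact ⟨c'', rfl⟩
  have hker : LinearMap.ker ψ = J := by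
    ext c
    rw [LinearMap.mem_ker]
    show Ideal.Quotient.mk (J.map φ) (φ c) = 0 ↔ _
    rw [Ideal.Quotient.eq_zero_iff_mem, ← Ideal.mem_comap, Ideal.comap_map_of_surjective _ hφ]
    rw [sup_eq_left.2 (show Ideal.comap φ ⊥ ≤ J from hle)]
  exact ((Submodule.quotEquivOfEq _ _ hker.symm).trans (ψ.quotKerEquivOfSurjective hψ)).length_eq.symm

variable {X Y : Scheme.{u}} {δX : X → ℤ} {δY : Y → ℤ} {f : X ⟶ Y} {r : ℕ}

/-- The standing hypotheses. -/
structure Hyp (f : X ⟶ Y) (δX : X → ℤ) (δY : Y → ℤ) (r : ℕ) : Prop where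
  hX : Cyc.IsSetup X δX
  hY : Cyc.IsSetup Y δY
  flat : Flat f
  lft : LocallyOfFiniteType f
  hr : Cyc.HasRelDim f r
  hδ : Cyc.DeltaCompat f δX δY

variable (H : Hyp f δX δY r)

include H in
theorem flat' (s : Sq f δX δY) : Flat s.f' := by
  haveI := H.flat
  exact MorphismProperty.of_isPullback (P := @Flat) s.isPullback.flip inferInstance

include H in
theorem lft' (s : Sq f δX δY) : LocallyOfFiniteType s.f' := by
  haveI := H.lft
  exact MorphismProperty.of_isPullback (P := @LocallyOfFiniteType) s.isPullback.flip inferInstance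

include H in
theorem relDim' (s : Sq f δX δY) : Cyc.HasRelDim s.f' r := by
  haveI := H.lft
  exact (S9358.result f s.g s.g' s.f' s.isPullback.flip r).2.2 H.hr

include H in
theorem compat' (s : Sq f δX δY) : Cyc.DeltaCompat s.f' s.δX' s.δY' := by
  haveI := s.lft
  refine S17576.deltaCompat_cancel s.f' s.g ?_ s.compatY
  rw [s.isPullback.w]
  exact deltaCompat_comp s.g' f s.δX' δX δY s.compatX H.hδ

include H in
theorem setupY (s : Sq f δX δY) : Cyc.IsSetup s.Y' s.δY' := by
  haveI := s.lft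
  exact S17576.isSetup_of_compat s.g H.hY s.compatY

include H in
theorem setupX (s : Sq f δX δY) : Cyc.IsSetup s.X' s.δX' := by
  haveI := lft' H s
  exact S17576.isSetup_of_compat s.f' (setupY H s) (compat' H s)

include H in
theorem exists_pull (s : Sq f δX δY) (k : ℤ) (α : AlgebraicCycle s.Y' ℤ) (hα : α ∈ Cyc.Zk s.Y' s.δY' k) :
    ∃ γ : AlgebraicCycle s.X' ℤ, γ ∈ Cyc.Zk s.X' s.δX' (k - -(r : ℤ)) ∧
      ⇑γ = Cyc.pullFun s.f' s.δX' s.δY' r ⇑α := by
  haveI := lft' H s
  haveI := (setupX H s).1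
  rw [sub_neg_eq_add]
  exact (isCyc_pull s.f' (setupX H s).2.2 (compat' H s) (relDim' H s) (IsCyc.of_cycle α hα)).exists_cycle

/-- The pulled back cycle. -/
noncomputable def gam (s : Sq f δX δY) (k : ℤ) (a : ↥(ChowOps.zk s.Y' s.δY' k)) : AlgebraicCycle s.X' ℤ :=
  Classical.choose (exists_pull H s k a.1 a.2)

theorem gam_spec (s : Sq f δX δY) (k : ℤ) (a : ↥(ChowOps.zk s.Y' s.δY' k)) :
    gam H s k a ∈ Cyc.Zk s.X' s.δX' (k - -(r : ℤ)) ∧ ⇑(gam H s k a) = Cyc.pullFun s.f' s.δX' s.δY' r ⇑a.1 :=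
  Classical.choose_spec (exists_pull H s k a.1 a.2)

/-- Flat pullback from cycles to classes. -/
noncomputable def T (s : Sq f δX δY) (k : ℤ) :
    ↥(ChowOps.zk s.Y' s.δY' k) →+ ChowOps.CH s.X' s.δX' (k - -(r : ℤ)) :=
  AddMonoidHom.mk' (fun a => ChowOps.cl (gam H s k a) (gam_spec H s k a).1) fun a b => by
    rw [← Bivar.cl_add]
    refine Bivar.cl_congr ?_ _ _
    ext1 y
    show gam H s k (a + b) y = gam H s k a y + gam H s k b y
    rw [(gam_spec H s k (a + b)).2, (gam_spec H s k a).2, (gam_spec H s k b).2]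
    simp only [Cyc.pullFun]
    split_ifs
    · show (a.1 (s.f' y) + b.1 (s.f' y)) * _ = _
      ring
    · simp

include H in
theorem ker_T (s : Sq f δX δY) (k : ℤ) : ChowOps.ratTriv s.Y' s.δY' k ≤ (T H s k).ker := by
  haveI := flat' H s
  haveI := lft' H s
  haveI := (setupX H s).1
  refine (AddSubgroup.closure_le _).2 fun a ha => ?_
  have h1 := CycLib.ratEquivZero_pull s.f' (setupX H s) (setupY H s) (compat' H s) (relDim' H s) ha
    (gam H s k a) (fun x => congrFun (gam_spec H s k a).2 x)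
  show ChowOps.cl _ _ = 0
  rw [← Bivar.cl_zero]
  refine S17570.cl_eq_of_mem_prin (setupX H s).2.2 _ _ _ _ ?_
  have h2 : (⇑(gam H s k a) : s.X' → ℤ) ∈ prin (setupX H s).2.2 (k - -(r : ℤ)) :=
    S17570.prin_congr' (setupX H s).2.2 _ rfl (sub_neg_eq_add k (r : ℤ)).symm h1
  exact (sub_zero (⇑(gam H s k a) : s.X' → ℤ)).symm ▸ h2

/-- The operation of flat pullback. -/
noncomputable def op (s : Sq f δX δY) (k : ℤ) :
    ChowOps.CH s.Y' s.δY' k →+ ChowOps.CH s.X' s.δX' (k - -(r : ℤ)) :=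
  QuotientAddGroup.lift _ (T H s k) (ker_T H s k)

theorem op_cl (s : Sq f δX δY) (k : ℤ) (α : AlgebraicCycle s.Y' ℤ) (hα : α ∈ Cyc.Zk s.Y' s.δY' k)
    (γ : AlgebraicCycle s.X' ℤ) (hγ' : ⇑γ = Cyc.pullFun s.f' s.δX' s.δY' r ⇑α)
    (hγ : γ ∈ Cyc.Zk s.X' s.δX' (k - -(r : ℤ))) : op H s k (ChowOps.cl α hα) = ChowOps.cl γ hγ := by
  show ChowOps.cl (gam H s k ⟨α, hα⟩) _ = _
  refine Bivar.cl_congr ?_ _ _
  ext1 y
  rw [(gam_spec H s k ⟨α, hα⟩).2, hγ']

include H in
theorem isPullback_sq {s t : Sq f δX δY} {h : t.Y' ⟶ s.Y'} {h' : t.X' ⟶ s.X'} (w₁ : h ≫ s.g = t.g)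
    (w₂ : h' ≫ s.f' = t.f' ≫ h) (w₃ : h' ≫ s.g' = t.g') : IsPullback h' t.f' s.f' h := by
  have hbig : IsPullback t.f' (h' ≫ s.g') (h ≫ s.g) f := by
    rw [w₃, w₁]; exact t.isPullback
  exact (IsPullback.of_bot hbig w₂.symm s.isPullback).flip

include H in
theorem compat_hom' {s t : Sq f δX δY} {h' : t.X' ⟶ s.X'} (w₃ : h' ≫ s.g' = t.g') :
    Cyc.DeltaCompat h' t.δX' s.δX' := by
  haveI := s.lft
  haveI : LocallyOfFiniteType s.g' := MorphismProperty.of_isPullback (P := @LocallyOfFiniteType) s.isPullback inferInstance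
  exact S17576.deltaCompat_cancel h' s.g' (w₃.symm ▸ t.compatX) s.compatX

theorem push' (s t : Sq f δX δY) (h : t.Y' ⟶ s.Y') [IsProper h] (h' : t.X' ⟶ s.X') [IsProper h']
    (w₁ : h ≫ s.g = t.g) (w₂ : h' ≫ s.f' = t.f' ≫ h) (w₃ : h' ≫ s.g' = t.g') (k : ℤ) :
    PushOK t.δY' t.δX' s.δY' s.δX' h h' (op H t k) (op H s k) := by
  intro α hα
  haveI := flat' H s
  haveI := lft' H s
  haveI := (setupX H s).1
  haveI := s.lft
  obtain ⟨g1, g2⟩ := gam_spec H t k ⟨α, hα⟩
  refine ⟨_, g1, op_cl H t k α hα _ g2 g1, op_cl H s k _ _ _ ?_ _⟩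
  exact (CycLib.FlatBC.main_of_isPullback h s.f' (isPullback_sq H w₁ w₂ w₃) (setupX H s).2.2
    (S17576.deltaCompat_cancel h s.g (w₁.symm ▸ t.compatY) s.compatY) (compat_hom' H w₃)
    (fun x hx => CycLib.delta_eq_of_generic s.f' (compat' H s) (relDim' H s) x hx) α _ g2).symm

theorem pull' (s t : Sq f δX δY) (h : t.Y' ⟶ s.Y') [Flat h] (h' : t.X' ⟶ s.X') [Flat h'] (c : ℕ)
    (hc : Cyc.HasRelDim h c) (hc' : Cyc.HasRelDim h' c) (w₁ : h ≫ s.g = t.g) (w₂ : h' ≫ s.f' = t.f' ≫ h)
    (w₃ : h' ≫ s.g' = t.g') (k : ℤ) :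
    PullOK s.δY' s.δX' t.δY' t.δX' h h' (c : ℤ) (op H s k) (op H t (k + c)) := by
  intro α hα
  haveI := s.lft
  haveI := flat' H s
  haveI := lft' H s
  haveI := flat' H t
  haveI := lft' H t
  haveI := (setupX H s).1
  haveI := (setupX H t).1
  haveI := (setupY H t).1
  haveI : LocallyOfFiniteType (h ≫ s.g) := by rw [w₁]; exact t.lft
  haveI : LocallyOfFiniteType h := locallyOfFiniteType_of_comp h s.g
  haveI : LocallyOfFiniteType h' :=
    MorphismProperty.of_isPullback (P := @LocallyOfFiniteType) (isPullback_sq H w₁ w₂ w₃).flip inferInstance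
  have hh := S17576.deltaCompat_cancel h s.g (w₁.symm ▸ t.compatY) s.compatY
  have hh' := compat_hom' H (s := s) (t := t) w₃
  obtain ⟨g1, g2⟩ := gam_spec H s k ⟨α, hα⟩
  refine ⟨_, g1, op_cl H s k α hα _ g2 g1, fun α₁ e hα₁ => ?_⟩
  obtain ⟨β₁, hβ₁, hβ₁'⟩ := (isCyc_pull h' (setupX H t).2.2 hh' hc' (IsCyc.of_cycle _ g1)).exists_cycle
  rw [show k - -(r : ℤ) + c = k + c - -(r : ℤ) by ring] at hβ₁
  refine ⟨β₁, hβ₁, hβ₁', op_cl H t _ α₁ hα₁ β₁ ?_ hβ₁⟩
  rw [hβ₁', g2, e,
    ← CycLib.pullFun_comp_shifts h' s.f' (setupX H t).2.2 (setupX H s).2.2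
      (fun x hx => CycLib.delta_eq_of_generic h' hh' hc' x hx)
      (fun x hx => CycLib.delta_eq_of_generic s.f' (compat' H s) (relDim' H s) x hx),
    ← CycLib.pullFun_comp_shifts t.f' h (setupX H t).2.2 (setupY H t).2.2
      (fun x hx => CycLib.delta_eq_of_generic t.f' (compat' H t) (relDim' H t) x hx)
      (fun x hx => CycLib.delta_eq_of_generic h hh hc x hx), w₂, add_comm]

theorem gysin' (s t : Sq f δX δY) (i : t.Y' ⟶ s.Y') [IsClosedImmersion i] (j : t.X' ⟶ s.X') [IsClosedImmersion j]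
    (w₁ : i ≫ s.g = t.g) (w₂ : j ≫ s.f' = t.f' ≫ i) (w₃ : j ≫ s.g' = t.g') (L : s.Y'.Modules)
    (hL : PicF.IsInvertible L) (σ : L.presheaf.obj (Opposite.op ⊤)) (hσ : Cyc.IsZeroSchemeOf i L σ)
    (τ : ((Scheme.Modules.pullback s.f').obj L).presheaf.obj (Opposite.op ⊤))
    (hτ : Cyc.IsZeroSchemeOf j ((Scheme.Modules.pullback s.f').obj L) τ) (k : ℤ) :
    GysinOK s.δY' t.δY' s.δX' t.δX' i L σ j ((Scheme.Modules.pullback s.f').obj L) τ
      (op H s k) (op H t (k - 1)) := by
  intro α hα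
  haveI := s.lft
  haveI := flat' H s
  haveI := lft' H s
  haveI := (setupX H s).1
  haveI := (setupY H s).1
  haveI := (setupX H t).1
  have hdX := (setupX H s).2.2
  have hM := PicCl.isInvertible_pullback s.f' hL
  have eY : t.δY' = fun d => s.δY' (i d) := funext fun d =>
    CycLib.delta_eq_of_surjective i (S17576.deltaCompat_cancel i s.g (w₁.symm ▸ t.compatY) s.compatY) d
      (S17576.surjective_residueFieldMap_preimmersion i d)
  have eX : t.δX' = fun z => s.δX' (j z) := funext fun z =>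
    CycLib.delta_eq_of_surjective j (compat_hom' H w₃) z (S17576.surjective_residueFieldMap_preimmersion j z)
  obtain ⟨g1, g2⟩ := gam_spec H s k ⟨α, hα⟩
  refine ⟨_, g1, op_cl H s k α hα _ g2 g1, fun w hw γ hγ hγk w' hw' => ?_⟩
  have hb : IsCyc s.δX' (k + r - 1 + 1) ⇑(gam H s k ⟨α, hα⟩) := by
    rw [show k + (r : ℤ) - 1 + 1 = k - -(r : ℤ) by ring]; exact IsCyc.of_cycle _ g1
  obtain ⟨ζ, hζ, hζ'⟩ := (IsCyc.comp_closed j
    (isCyc_c1 hdX hM hb _ (gysinChoice_ne_zero τ w' hw'))).exists_cycle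
  rw [← eX, show k + (r : ℤ) - 1 = k - 1 - -(r : ℤ) by ring] at hζ
  refine ⟨ζ, hζ, congrFun hζ', ?_⟩
  obtain ⟨g3, g4⟩ := gam_spec H t (k - 1) ⟨γ, hγk⟩
  rw [op_cl H t (k - 1) γ hγk _ g4 g3]
  refine S17570.cl_eq_of_mem_prin (setupX H t).2.2 _ _ _ _ ?_
  have hgI := gysinChoice_ne_zero σ w hw
  have hσ0 : ∀ η : s.Y', ∃ ρ : L.presheaf.stalk η, IsBas ρ ∧ Submodule.Quotient.mk ρ = Cyc.gysinChoice L σ w η ∧
      (η ∉ vset L σ → ρ = (L.presheaf.germ ⊤ η trivial) σ) := fun η => by
    by_cases hη : η ∈ vset L σ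
    · obtain ⟨ρ, hρ, e⟩ := exists_isBas_lift hL (Cyc.gysinChoice L σ w η) (hgI η)
      exact ⟨ρ, hρ, e, fun h => absurd hη h⟩
    · exact ⟨_, isBas_sec hL σ hη, (if_pos hη).symm, fun _ => rfl⟩
  choose ρ hρ hρe hρs using hσ0
  have hsq := isPullback_sq H w₁ w₂ w₃
  have m := gysin_choice_mem' s.f' i j t.f' hsq hdX hL σ τ hσ hτ hb ρ hρ hρs w' hw'
  have m' := S17570.prin_congr' (l := k - 1 - -(r : ℤ)) _ (setupX H t).2.2 eX.symm (by ring) m
  have hα' : IsCyc s.δY' k ⇑α := IsCyc.of_cycle α hα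
  have hn := neg_mem m'
  rw [neg_sub] at hn
  rw [g4, hζ']
  convert hn using 1
  funext z
  rw [g2] at *
  simp only [Pi.sub_apply]
  congr 1
  rw [← pull_c1_unit s.f' hdX (compat' H s) (relDim' H s) (setupY H s).2.2 hL hM hα' ρ hρ]
  simp only [hρe, Cyc.pullFun, hγ]
  have hy : i (t.f' z) = s.f' (j z) := by
    show (t.f' ≫ i) z = (j ≫ s.f') z
    rw [w₂]
  have hl := fibLen_baseChange' s.f' i j t.f' hsq hL σ hσ z
  rw [fibLen, fibLen] at hl
  rw [eX, eY]
  simp only [hy, hl]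

/-- Let f : X → Y be flat, locally of finite type and of relative dimension r (every irreducible
component of every fibre has dimension r), with δX the dimension function induced from δY. Then flat
pullback along the base changes of f is a bivariant class of degree −r: there is c ∈ A^{-r}(X → Y)
such that on every cartesian square (Y' → Y, X' = Y' ×_Y X, f' : X' → Y') and every k-cycle α on Y',
c ∩ [α] is the class of the cycle with the coefficients of (f')^*α (the binder
Bivar.IsFlatPullClass, which also records flatness, finite type, the relative dimension and the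
compatibility of δX). Here a pair (X, δ) with Cyc.IsSetup plays the role of a scheme locally of
finite type over the base (S, δ) (X locally Noetherian with universally catenary local rings, δ a
dimension function), Cyc.DeltaCompat records that a dimension function is the induced one, and
bivariant classes are taken in the operational sense of the prelude: additive operations on the Chow
groups CH_k (k-cycles modulo rational equivalence) of all test schemes, compatible with proper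
pushforward, flat pullback and the Gysin maps of zero schemes of sections of invertible modules in
representative form (Bivar.Cl for A^p(X → Y), Bivar.OpCl for A^p(X)). -/
theorem result (X Y : Scheme.{u}) (δX : X → ℤ) (δY : Y → ℤ) (hX : Cyc.IsSetup X δX) (hY : Cyc.IsSetup Y δY) (f : X ⟶ Y) [Flat f] [LocallyOfFiniteType f] (r : ℕ) (hr : Cyc.HasRelDim f r) (hδ : Cyc.DeltaCompat f δX δY) : ∃ c : Bivar.Cl (-(r : ℤ)) f δX δY, Bivar.IsFlatPullClass f r c := by
  have H : Hyp f δX δY r := ⟨hX, hY, inferInstance, inferInstance, hr, hδ⟩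
  exact ⟨{ op := op H
           push := fun s t h _ h' _ w₁ w₂ w₃ k => push' H s t h h' w₁ w₂ w₃ k
           pull := fun s t h _ h' _ c hc hc' w₁ w₂ w₃ k => pull' H s t h h' c hc hc' w₁ w₂ w₃ k
           gysin := fun s t i _ j _ w₁ w₂ w₃ L hL σ hσ τ hτ k => gysin' H s t i j w₁ w₂ w₃ L hL σ hσ τ hτ k },
    inferInstance, inferInstance, hr, hδ, fun s k α hα α₁ hα₁' hα₁ => op_cl H s k α hα α₁ hα₁' hα₁⟩

end Groth.Agent.S17567
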