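import Groth.Statements.S17568
import Groth.Agent.S17567

set_option autoImplicit false
universe u
open CategoryTheory AlgebraicGeometry
open Bivar
open CategoryTheory.Limits

namespace Groth.Agent.S17568

open CycLib CycLib.Dev Groth.Agent.PullStalk.Basic Groth.Agent.PullStalk.Sky Groth.Agent.PullStalk.Exact IsLocalRing

set_option maxHeartbeats 1000000
set_option linter.style.haveILetI false

theorem gysin_map' {X X' D Pt : Scheme.{u}} (f : X' ⟶ X) [IsProper f] (i : D ⟶ X) [IsClosedImmersion i]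
    (a : Pt ⟶ X') [IsClosedImmersion a] (b : Pt ⟶ D) [IsProper b] (hP : IsPullback a b f i)
    [IsLocallyNoetherian X] [IsLocallyNoetherian X'] {δ : X → ℤ} {δ' : X' → ℤ}
    (hd : Cyc.IsDimFun X δ) (hd' : Cyc.IsDimFun X' δ') (hδ : Cyc.DeltaCompat f δ' δ)
    (hb' : Cyc.DeltaCompat b (fun z => δ' (a z)) (fun d => δ (i d)))
    {L : X.Modules} (hL : PicF.IsInvertible L) (s : L.presheaf.obj (Opposite.op ⊤))
    (s' : ((Scheme.Modules.pullback f).obj L).presheaf.obj (Opposite.op ⊤))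
    (hD : Cyc.IsZeroSchemeOf i L s)
    (hD' : Cyc.IsZeroSchemeOf a ((Scheme.Modules.pullback f).obj L) s') {k : ℤ}
    (α : AlgebraicCycle X' ℤ) (hα : α ∈ Cyc.Zk X' δ' (k + 1))
    (w : (ξ : X) → Cyc.secFibre L ξ) (hw : ∀ ξ, w ξ ≠ 0)
    (w' : (ξ : X') → Cyc.secFibre ((Scheme.Modules.pullback f).obj L) ξ) (hw' : ∀ ξ, w' ξ ≠ 0)
    (γ : AlgebraicCycle D ℤ)
    (hγ : ∀ d, γ d = Cyc.c1CapFun δ L ⇑(AlgebraicCycle.map f δ' δ α) (Cyc.gysinChoice L s w) (i d))
    (γ' : AlgebraicCycle Pt ℤ)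
    (hγ' : ∀ z, γ' z = Cyc.c1CapFun δ' ((Scheme.Modules.pullback f).obj L) ⇑α
      (Cyc.gysinChoice ((Scheme.Modules.pullback f).obj L) s' w') (a z)) :
    Cyc.RatEquiv (fun d => δ (i d)) k γ
      (AlgebraicCycle.map b (fun z => δ' (a z)) (fun d => δ (i d)) γ') := by
  classical
  haveI := isLocallyNoetherian_closed i
  haveI := isLocallyNoetherian_closed a
  have hM := PicCl.isInvertible_pullback f hL
  have hdP := isDimFun_comp_closed a hd'
  have hdD := isDimFun_comp_closed i hd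
  have hM' := PicCl.isInvertible_pullback a hM
  have hrange : ∀ ξ : X', ξ ∈ Set.range a ↔ f ξ ∈ vset L s := fun ξ => by
    rw [range_of_isPullback f i a b hP]
    exact Set.ext_iff.1 hD.1 (f ξ)
  have hgI := gysinChoice_ne_zero s w hw
  have hσ0 : ∀ η : X, ∃ σ : L.presheaf.stalk η, IsBas σ ∧ Submodule.Quotient.mk σ = Cyc.gysinChoice L s w η ∧
      (η ∉ vset L s → σ = (L.presheaf.germ ⊤ η trivial) s) := fun η => by
    by_cases hη : η ∈ vset L s
    · obtain ⟨σ, hσ, e⟩ := exists_isBas_lift hL (Cyc.gysinChoice L s w η) (hgI η)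
      exact ⟨σ, hσ, e, fun h => absurd hη h⟩
    · exact ⟨_, isBas_sec hL s hη, (if_pos hη).symm, fun _ => rfl⟩
  choose σ hσ hσe hσs using hσ0
  let u : (ξ : X') → Cyc.secFibre ((Scheme.Modules.pullback f).obj L) ξ := fun ξ => Submodule.Quotient.mk (unitStalkHom f L ξ (σ (f ξ)))
  have hu : ∀ ξ, u ξ ≠ 0 := fun ξ => mk_ne_zero_of_isBas (isBas_unit f hL hM ξ (hσ (f ξ)))
  let g' := Cyc.gysinChoice ((Scheme.Modules.pullback f).obj L) s' w'
  have hg' := gysinChoice_ne_zero s' w' hw'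
  have hout : ∀ ξ, ξ ∉ Set.range a →
      Cyc.secDivFun δ' ((Scheme.Modules.pullback f).obj L) ξ (u ξ) = Cyc.secDivFun δ' ((Scheme.Modules.pullback f).obj L) ξ (g' ξ) ∧
      ∀ x, x ∉ Set.range a → Cyc.secDivFun δ' ((Scheme.Modules.pullback f).obj L) ξ (g' ξ) x = 0 := by
    intro ξ hξ
    have h1 : ξ ∉ vset ((Scheme.Modules.pullback f).obj L) s' := fun h => hξ (hD'.1.ge h)
    have h2 : f ξ ∉ vset L s := fun h => hξ ((hrange ξ).2 h)
    have eg : g' ξ = Submodule.Quotient.mk ((((Scheme.Modules.pullback f).obj L).presheaf.germ ⊤ ξ trivial) s') := if_pos h1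
    refine ⟨?_, fun x hx => by rw [eg]; exact secDiv_germ_zero hd' hM s' fun h => hx (hD'.1.ge h)⟩
    rw [eg, show u ξ = Submodule.Quotient.mk (unitStalkHom f L ξ ((L.presheaf.germ ⊤ (f ξ) trivial) s)) by
      simp only [u, hσs _ h2]]
    refine (secDiv_agree hd' hM (fun x _ => unitStalkHom f L x ((L.presheaf.germ ⊤ (f x) trivial) s))
      (fun x _ => (((Scheme.Modules.pullback f).obj L).presheaf.germ ⊤ x trivial) s') (fun x h => ?_) (fun x h => Ref1.sp_germ ((Scheme.Modules.pullback f).obj L) h (U := ⊤) trivial s')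
      (isBas_unit f hL hM ξ (isBas_sec hL s h2)) fun x _ => unit_agree' f i a b hP hL s s' hD hD' x).symm
    exact (sp_unit f L h _).trans (congrArg _ (Ref1.sp_germ L (h.map f.continuous) (U := ⊤) trivial s))
  have ha := IsCyc.of_cycle α hα
  obtain ⟨γ0, -, hγ0⟩ := (isCyc_c1 hd' hM ha u hu).exists_cycle
  have hs0 : ∀ x, γ0 x ≠ 0 → x ∈ Set.range a := fun x hx => by
    rw [hγ0] at hx
    obtain ⟨ξ, hξ⟩ : ∃ ξ, α ξ * Cyc.secDivFun δ' ((Scheme.Modules.pullback f).obj L) ξ (u ξ) x ≠ 0 := by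
      by_contra hh
      push Not at hh
      exact hx (finsum_eq_zero_of_forall_eq_zero hh)
    obtain ⟨h1, h2⟩ := mul_ne_zero_iff.1 hξ
    by_cases hr : ξ ∈ Set.range a
    · exact specializes_range a (secDivFun_ne_zero h2).1 hr
    · rw [(hout ξ hr).1] at h2
      by_contra hxr
      exact h2 ((hout ξ hr).2 x hxr)
  obtain ⟨ζ, -, hζ⟩ := (IsCyc.comp_closed a (isCyc_c1 hd' hM ha u hu)).exists_cycle
  have e0 : AlgebraicCycle.map a (fun z => δ' (a z)) δ' ζ = γ0 := by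
    ext x
    by_cases hx : x ∈ Set.range a
    · obtain ⟨z, rfl⟩ := hx
      rw [map_closed_apply a ζ z, hζ, hγ0]
    · rw [map_closed_apply_of_notMem a ζ hx]
      by_contra h
      exact hx (hs0 x (Ne.symm h))
  have eγ : γ = AlgebraicCycle.map b (fun z => δ' (a z)) (fun d => δ (i d)) ζ := by
    ext d
    have e1 := congrFun (map_c1_unit f hd' hL hM hd hδ α γ0 hα σ hσ hγ0) (i d)
    simp only [hσe] at e1
    rw [hγ, ← e1, ← e0,
      map_map_of_deltaCompat _ f (deltaCompat_preimmersion a δ') hδ ζ,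
      map_congr_hom hP.w,
      ← map_map_of_deltaCompat _ i hb' (deltaCompat_preimmersion i δ) ζ,
      map_closed_apply]
  rw [eγ]
  refine ratEquiv_map _ _ hdP hdD b hb' k ζ γ' ?_
  rw [Cyc.RatEquiv, ratEquivZero_iff hdP, show ⇑(ζ - γ') = ⇑ζ - ⇑γ' from rfl, hζ,
    show ⇑γ' = _ from funext hγ']
  let ain : X' → ℤ := fun x => if x ∈ Set.range a then α x else 0
  have cin : IsCyc δ' (k + 1) ain :=
    ⟨fun U hU => (ha.finite U hU).subset fun x hx => ⟨hx.1, fun h => hx.2 (by simp [ain, h])⟩,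
      fun x hx => by simp [ain, ha.zero x hx]⟩
  have e : Cyc.c1CapFun δ' ((Scheme.Modules.pullback f).obj L) (⇑α - ain) u = Cyc.c1CapFun δ' ((Scheme.Modules.pullback f).obj L) (⇑α - ain) g' := by
    funext x
    refine finsum_congr fun ξ => ?_
    by_cases hr : ξ ∈ Set.range a
    · rw [Pi.sub_apply, show ain ξ = α ξ from if_pos hr, sub_self, zero_mul, zero_mul]
    · rw [(hout ξ hr).1]
  rw [c1_sub ha cin, c1_sub ha cin] at e
  have s0 : ∀ x, ain x ≠ 0 → x ∈ Set.range a := fun x hx => by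
    by_contra h
    exact hx (if_neg h)
  obtain ⟨u1, hu1, huu⟩ := exists_sec_closed hd' a hM hM' u hu
  obtain ⟨g1, hg1, hgg⟩ := exists_sec_closed hd' a hM hM' g' hg'
  have m := c1_sub_mem hdP hM' (IsCyc.comp_closed a cin) u1 g1 hu1 hg1
  rw [← c1_comp_closed a s0 u u1 huu, ← c1_comp_closed a s0 g' g1 hgg] at m
  convert m using 1
  funext z
  have := congrFun e (a z)
  simp only [Pi.sub_apply] at this ⊢
  linarith


/-- The zero scheme of a section pulls back to the zero scheme of the pulled back section. -/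
theorem isZeroSchemeOf_pullback' {X X' D Pt : Scheme.{u}} (f : X' ⟶ X) {i : D ⟶ X} [IsClosedImmersion i]
    {a : Pt ⟶ X'} [IsClosedImmersion a] {b : Pt ⟶ D} [IsLocallyNoetherian X] (h : IsPullback a b f i)
    {L : X.Modules} (hL : PicF.IsInvertible L) (s : L.presheaf.obj (Opposite.op ⊤))
    (hD : Cyc.IsZeroSchemeOf i L s) :
    Cyc.IsZeroSchemeOf a ((Scheme.Modules.pullback f).obj L) (LFFrame.unitSec f L ⊤ s) := by
  have hM := PicCl.isInvertible_pullback f hL
  have hg : ∀ x, (((Scheme.Modules.pullback f).obj L).presheaf.germ ⊤ x trivial) (LFFrame.unitSec f L ⊤ s) =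
      unitStalkHom f L x ((L.presheaf.germ ⊤ (f x) trivial) s) := fun x => (unitStalkHom_germ f L x ⊤ trivial s).symm
  refine ⟨?_, fun z => ?_⟩
  · rw [range_of_isPullback f i a b h, hD.1]
    ext x
    show (Submodule.Quotient.mk _ : Cyc.secFibre L (f x)) = 0 ↔
      (Submodule.Quotient.mk _ : Cyc.secFibre ((Scheme.Modules.pullback f).obj L) x) = 0
    obtain ⟨t, ht⟩ := exists_isBas hL (f x)
    obtain ⟨c, hc⟩ := ht.2 ((L.presheaf.germ ⊤ (f x) trivial) s)
    replace hc : c • t = (L.presheaf.germ ⊤ (f x) trivial) s := hc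
    rw [hg, ← hc, unitStalkHom_smul]
    refine ⟨fun h0 => ?_, fun h0 => ?_⟩
    · by_contra hne
      refine S17573.mk_ne_zero_of_isBas (isBas_smul ht ?_) h0
      refine by_contra fun hu => hne ?_
      rw [Submodule.Quotient.mk_eq_zero]
      exact Submodule.smul_mem_smul (map_nonunit (f.stalkMap x).hom c hu) trivial
    · by_contra hne
      refine S17573.mk_ne_zero_of_isBas (isBas_smul (isBas_unit f hL hM x ht) ((IsUnit.map (f.stalkMap x).hom) ?_)) h0
      refine by_contra fun hu => hne ?_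
      rw [Submodule.Quotient.mk_eq_zero]
      exact Submodule.smul_mem_smul hu trivial
  · obtain ⟨t, ht⟩ := exists_isBas hL (f (a z))
    obtain ⟨f0, hf0⟩ := ht.2 ((L.presheaf.germ ⊤ (f (a z)) trivial) s)
    replace hf0 : f0 • t = (L.presheaf.germ ⊤ (f (a z)) trivial) s := hf0
    have hy : i (b z) = f (a z) := by
      show (b ≫ i) z = (a ≫ f) z
      rw [h.w]
    have hk := ker_stalkMap_isPullback_pre h z (specializes_of_eq hy)
    rw [comap_ker_eq i hL s hD (b z) hy (specializes_of_eq hy) ht hf0.symm, Ideal.map_span, Set.image_singleton] at hk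
    refine ⟨unitStalkHom f L (a z) t, f.stalkMap (a z) f0,
      eq_top_iff.2 fun v _ => Submodule.mem_span_singleton.2 ((isBas_unit f hL hM (a z) ht).2 v), ?_, hk⟩
    rw [hg, ← hf0, unitStalkHom_smul]

/-- Gysin functions do not change under an isomorphism of the modules. -/
theorem exists_choice_iso {Z : Scheme.{u}} {δ : Z → ℤ} (hZ : Cyc.IsSetup Z δ) [IsLocallyNoetherian Z]
    {M M' : Z.Modules} (hM : PicF.IsInvertible M) (hM' : PicF.IsInvertible M') (φ : M ≅ M')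
    (τ : M.presheaf.obj (Opposite.op ⊤)) (w : (ξ : Z) → Cyc.secFibre M ξ) (hw : ∀ ξ, w ξ ≠ 0) :
    ∃ w' : (ξ : Z) → Cyc.secFibre M' ξ, (∀ ξ, w' ξ ≠ 0) ∧ ∀ a : Z → ℤ,
      Cyc.c1CapFun δ M a (Cyc.gysinChoice M τ w) =
        Cyc.c1CapFun δ M' a (Cyc.gysinChoice M' (φ.hom.app ⊤ τ) w') := by
  have hbas : ∀ (y : Z) {t : M.presheaf.stalk y}, IsBas t → IsBas (stalkLin φ.hom y t) := fun y t ht =>
    isBas_of_span hM' (by
      rw [← Set.image_singleton, Submodule.span_image, show Submodule.span (Z.presheaf.stalk y) {t} = ⊤ from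
          eq_top_iff.2 fun v _ => Submodule.mem_span_singleton.2 (ht.2 v),
        Submodule.map_top, LinearMap.range_eq_top.2 (stalkLin_iso_bijective φ.hom y).2])
  have hg : ∀ x : Z, (M'.presheaf.germ ⊤ x trivial) (φ.hom.app ⊤ τ) =
      stalkLin φ.hom x ((M.presheaf.germ ⊤ x trivial) τ) := fun x => (stalkLin_germ φ.hom ⊤ x trivial τ).symm
  have h0 : ∀ η : Z, ∃ ρ : M.presheaf.stalk η, IsBas ρ ∧ Submodule.Quotient.mk ρ = Cyc.gysinChoice M τ w η ∧
      (η ∉ vset M τ → ρ = (M.presheaf.germ ⊤ η trivial) τ) := fun η => by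
    by_cases hη : η ∈ vset M τ
    · obtain ⟨ρ, hρ, e⟩ := exists_isBas_lift hM (Cyc.gysinChoice M τ w η) (gysinChoice_ne_zero τ w hw η)
      exact ⟨ρ, hρ, e, fun h => absurd hη h⟩
    · exact ⟨_, isBas_sec hM τ hη, (if_pos hη).symm, fun _ => rfl⟩
  choose ρ hρ hρe hρs using h0
  refine ⟨fun x => Submodule.Quotient.mk (stalkLin φ.hom x (ρ x)),
    fun x => S17573.mk_ne_zero_of_isBas (hbas x (hρ x)), fun a => funext fun x => finsum_congr fun ξ => ?_⟩
  have hc : Cyc.gysinChoice M' (φ.hom.app ⊤ τ) (fun x => Submodule.Quotient.mk (stalkLin φ.hom x (ρ x))) ξ =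
      Submodule.Quotient.mk (stalkLin φ.hom ξ (ρ ξ)) := by
    simp only [Cyc.gysinChoice]
    split_ifs with h
    · rw [hρs ξ (fun hv => h ?_), hg]
      have hv' : (M.presheaf.germ ⊤ ξ trivial) τ ∈
          IsLocalRing.maximalIdeal (Z.presheaf.stalk ξ) • (⊤ : Submodule (Z.presheaf.stalk ξ) (M.presheaf.stalk ξ)) :=
        (Submodule.Quotient.mk_eq_zero _).1 hv
      have h2 := Submodule.mem_map_of_mem (f := stalkLin φ.hom ξ) hv'
      rw [Submodule.map_smul'', Submodule.map_top, LinearMap.range_eq_top.2 (stalkLin_iso_bijective φ.hom ξ).2,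
        ← hg] at h2
      exact (Submodule.Quotient.mk_eq_zero _).2 h2
    · rfl
  rw [hc, ← hρe ξ]
  congr 1
  by_cases h : ξ ⤳ x ∧ δ x + 1 = δ ξ
  swap
  · rw [Cyc.secDivFun, dif_neg h, Cyc.secDivFun, dif_neg h]
  obtain ⟨h, h1⟩ := h
  obtain ⟨t, ht⟩ := exists_isBas hM x
  obtain ⟨c, hc'⟩ := (hρ ξ).2 (Ref1.sp M h t)
  replace hc' : c • ρ ξ = Ref1.sp M h t := hc'
  rw [secDivFun_of_bas hZ.2.2 hM h rfl h1.symm (hρ ξ) ht hc'.symm,
    secDivFun_of_bas hZ.2.2 hM' h rfl h1.symm (hbas ξ (hρ ξ)) (hbas x ht)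
      (by rw [← stalkLin_sp, ← hc', map_smul])]

variable {X D : Scheme.{u}} {δX : X → ℤ} {δD : D → ℤ} {i : D ⟶ X} {L : X.Modules}
  {σ : L.presheaf.obj (Opposite.op ⊤)}

/-- The standing hypotheses. -/
structure Hyp (i : D ⟶ X) (δD : D → ℤ) (δX : X → ℤ) (L : X.Modules) (σ : L.presheaf.obj (Opposite.op ⊤)) : Prop where
  hX : Cyc.IsSetup X δX
  closed : IsClosedImmersion i
  hδ : Cyc.DeltaCompat i δD δX
  hL : PicF.IsInvertible L
  hσ : Cyc.IsZeroSchemeOf i L σ

variable (H : Hyp i δD δX L σ)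

/-- The pulled back module. -/
noncomputable abbrev Mod (L : X.Modules) (s : Sq i δD δX) : s.Y'.Modules := (Scheme.Modules.pullback s.g).obj L

include H in
theorem closed' (s : Sq i δD δX) : IsClosedImmersion s.f' := by
  haveI := H.closed
  exact MorphismProperty.of_isPullback (P := @IsClosedImmersion) s.isPullback.flip inferInstance

include H in
theorem invMod (s : Sq i δD δX) : PicF.IsInvertible (Mod L s) := PicCl.isInvertible_pullback s.g H.hL

include H in
theorem setupY (s : Sq i δD δX) : Cyc.IsSetup s.Y' s.δY' := by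
  haveI := s.lft
  exact S17576.isSetup_of_compat s.g H.hX s.compatY

include H in
theorem compat' (s : Sq i δD δX) : Cyc.DeltaCompat s.f' s.δX' s.δY' := by
  haveI := s.lft
  refine S17576.deltaCompat_cancel s.f' s.g ?_ s.compatY
  rw [s.isPullback.w]
  exact deltaCompat_comp s.g' i s.δX' δD δX s.compatX H.hδ

include H in
theorem setupX (s : Sq i δD δX) : Cyc.IsSetup s.X' s.δX' := by
  haveI := closed' H s
  exact S17576.isSetup_of_compat s.f' (setupY H s) (compat' H s)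

include H in
theorem delta_eq (s : Sq i δD δX) : s.δX' = fun d => s.δY' (s.f' d) := funext fun d => by
  haveI := closed' H s
  exact CycLib.delta_eq_of_surjective s.f' (compat' H s) d (S17576.surjective_residueFieldMap_preimmersion s.f' d)

include H in
theorem zero' (s : Sq i δD δX) : Cyc.IsZeroSchemeOf s.f' (Mod L s) (LFFrame.unitSec s.g L ⊤ σ) := by
  haveI := H.closed
  haveI := H.hX.1
  haveI := closed' H s
  exact isZeroSchemeOf_pullback' s.g s.isPullback H.hL σ H.hσ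

/-- A choice of rational sections. -/
noncomputable def sec (s : Sq i δD δX) : (ξ : s.Y') → Cyc.secFibre (Mod L s) ξ :=
  Classical.choose (S17573.exists_secFibre_ne_zero (invMod H s))

theorem sec_ne_zero (s : Sq i δD δX) (ξ : s.Y') : sec H s ξ ≠ 0 :=
  Classical.choose_spec (S17573.exists_secFibre_ne_zero (invMod H s)) ξ

include H in
theorem exists_gysin (s : Sq i δD δX) (τ : (Mod L s).presheaf.obj (Opposite.op ⊤))
    (w : (ξ : s.Y') → Cyc.secFibre (Mod L s) ξ) (hw : ∀ ξ, w ξ ≠ 0) (k : ℤ) (α : AlgebraicCycle s.Y' ℤ)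
    (hα : α ∈ Cyc.Zk s.Y' s.δY' k) :
    ∃ γ : AlgebraicCycle s.X' ℤ, γ ∈ Cyc.Zk s.X' s.δX' (k - 1) ∧
      ∀ d, γ d = Cyc.c1CapFun s.δY' (Mod L s) ⇑α (Cyc.gysinChoice (Mod L s) τ w) (s.f' d) := by
  haveI := closed' H s
  haveI := (setupY H s).1
  have hα' : IsCyc s.δY' (k - 1 + 1) ⇑α := by rw [sub_add_cancel]; exact IsCyc.of_cycle α hα
  obtain ⟨γ, hγ, e⟩ := (IsCyc.comp_closed s.f'
    (isCyc_c1 (setupY H s).2.2 (invMod H s) hα' _ (gysinChoice_ne_zero τ w hw))).exists_cycle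
  rw [← delta_eq H s] at hγ
  exact ⟨γ, hγ, congrFun e⟩

/-- The Gysin cycle. -/
noncomputable def gam (s : Sq i δD δX) (k : ℤ) (a : ↥(ChowOps.zk s.Y' s.δY' k)) : AlgebraicCycle s.X' ℤ :=
  Classical.choose (exists_gysin H s (LFFrame.unitSec s.g L ⊤ σ) (sec H s) (sec_ne_zero H s) k a.1 a.2)

theorem gam_spec (s : Sq i δD δX) (k : ℤ) (a : ↥(ChowOps.zk s.Y' s.δY' k)) :
    gam H s k a ∈ Cyc.Zk s.X' s.δX' (k - 1) ∧ ∀ d, gam H s k a d = Cyc.c1CapFun s.δY' (Mod L s) ⇑a.1
      (Cyc.gysinChoice (Mod L s) (LFFrame.unitSec s.g L ⊤ σ) (sec H s)) (s.f' d) :=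
  Classical.choose_spec (exists_gysin H s (LFFrame.unitSec s.g L ⊤ σ) (sec H s) (sec_ne_zero H s) k a.1 a.2)

/-- The Gysin map from cycles to classes. -/
noncomputable def T (s : Sq i δD δX) (k : ℤ) :
    ↥(ChowOps.zk s.Y' s.δY' k) →+ ChowOps.CH s.X' s.δX' (k - 1) :=
  AddMonoidHom.mk' (fun a => ChowOps.cl (gam H s k a) (gam_spec H s k a).1) fun a b => by
    haveI := (setupY H s).1
    rw [← Bivar.cl_add]
    refine Bivar.cl_congr ?_ _ _
    ext1 y
    have e := c1_sub (L := Mod L s) (IsCyc.of_cycle (a + b).1 (a + b).2) (IsCyc.of_cycle b.1 b.2)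
      (Cyc.gysinChoice (Mod L s) (LFFrame.unitSec s.g L ⊤ σ) (sec H s))
    have ea : ((⇑(a + b).1 : s.Y' → ℤ) - ⇑b.1) = ⇑a.1 := funext fun z => by
      show a.1 z + b.1 z - b.1 z = a.1 z
      ring
    rw [ea] at e
    have := congrFun e (s.f' y)
    simp only [Pi.sub_apply] at this
    show gam H s k (a + b) y = gam H s k a y + gam H s k b y
    rw [(gam_spec H s k (a + b)).2, (gam_spec H s k a).2, (gam_spec H s k b).2]
    omega

include H in
theorem ker_T (s : Sq i δD δX) (k : ℤ) : ChowOps.ratTriv s.Y' s.δY' k ≤ (T H s k).ker := by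
  haveI := closed' H s
  haveI := (setupY H s).1
  haveI := (setupX H s).1
  refine (AddSubgroup.closure_le _).2 fun a ha => ?_
  have h0 : (⇑a.1 : s.Y' → ℤ) ∈ prin (setupY H s).2.2 (k - 1 + 1) :=
    S17570.prin_congr' (setupY H s).2.2 _ rfl (sub_add_cancel k 1).symm ha
  have h1 := gysin_mem (invMod H s) (LFFrame.unitSec s.g L ⊤ σ) (setupY H s).2.2 s.f' (zero' H s).1
    (PicCl.isInvertible_pullback s.f' (invMod H s)) h0 (sec H s) (sec_ne_zero H s)
  have h1' := S17570.prin_congr' _ (setupX H s).2.2 (delta_eq H s).symm rfl h1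
  show ChowOps.cl _ _ = 0
  rw [← Bivar.cl_zero]
  refine S17570.cl_eq_of_mem_prin (setupX H s).2.2 _ _ _ _ ?_
  rw [show (⇑(gam H s k a) : s.X' → ℤ) = _ from funext (gam_spec H s k a).2]
  exact (sub_zero (fun d => Cyc.c1CapFun s.δY' (Mod L s) ⇑a.1
    (Cyc.gysinChoice (Mod L s) (LFFrame.unitSec s.g L ⊤ σ) (sec H s)) (s.f' d))).symm ▸ h1'

/-- The Gysin operation. -/
noncomputable def op (s : Sq i δD δX) (k : ℤ) :
    ChowOps.CH s.Y' s.δY' k →+ ChowOps.CH s.X' s.δX' (k - 1) :=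
  QuotientAddGroup.lift _ (T H s k) (ker_T H s k)

theorem op_cl (s : Sq i δD δX) (k : ℤ) (α : AlgebraicCycle s.Y' ℤ) (hα : α ∈ Cyc.Zk s.Y' s.δY' k)
    (τ : (Mod L s).presheaf.obj (Opposite.op ⊤)) (hτ : Cyc.IsZeroSchemeOf s.f' (Mod L s) τ)
    (w : (ξ : s.Y') → Cyc.secFibre (Mod L s) ξ) (hw : ∀ ξ, w ξ ≠ 0) (γ : AlgebraicCycle s.X' ℤ)
    (hγ' : ∀ d, γ d = Cyc.c1CapFun s.δY' (Mod L s) ⇑α (Cyc.gysinChoice (Mod L s) τ w) (s.f' d))
    (hγ : γ ∈ Cyc.Zk s.X' s.δX' (k - 1)) : op H s k (ChowOps.cl α hα) = ChowOps.cl γ hγ := by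
  haveI := H.closed
  haveI := H.hX.1
  haveI := closed' H s
  haveI := (setupY H s).1
  haveI := (setupX H s).1
  show ChowOps.cl (gam H s k ⟨α, hα⟩) _ = _
  refine S17570.cl_eq_of_mem_prin (setupX H s).2.2 _ _ _ _ ?_
  rw [show (⇑(gam H s k ⟨α, hα⟩) : s.X' → ℤ) = _ from funext (gam_spec H s k ⟨α, hα⟩).2,
    show (⇑γ : s.X' → ℤ) = _ from funext hγ']
  obtain ⟨v, hv⟩ := S17573.exists_secFibre_ne_zero H.hL
  have h0 : ∀ η : X, ∃ ρ : L.presheaf.stalk η, IsBas ρ ∧ (η ∉ vset L σ → ρ = (L.presheaf.germ ⊤ η trivial) σ) :=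
    fun η => by
      by_cases hη : η ∈ vset L σ
      · obtain ⟨ρ, hρ⟩ := exists_isBas H.hL η
        exact ⟨ρ, hρ, fun h => absurd hη h⟩
      · exact ⟨_, isBas_sec H.hL σ hη, fun _ => rfl⟩
  choose ρ hρ hρs using h0
  have hα' : IsCyc s.δY' (k - 1 + 1) ⇑α := by rw [sub_add_cancel]; exact IsCyc.of_cycle α hα
  have m1 := gysin_choice_mem' s.g i s.f' s.g' s.isPullback (setupY H s).2.2 H.hL σ
    (LFFrame.unitSec s.g L ⊤ σ) H.hσ (zero' H s) hα' ρ hρ hρs (sec H s) (sec_ne_zero H s)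
  have m2 := gysin_choice_mem' s.g i s.f' s.g' s.isPullback (setupY H s).2.2 H.hL σ
    τ H.hσ hτ hα' ρ hρ hρs w hw
  have m := sub_mem m1 m2
  rw [sub_sub_sub_cancel_right] at m
  exact S17570.prin_congr' _ (setupX H s).2.2 (delta_eq H s).symm rfl m

/-- The iso of pulled back modules along a morphism of squares. -/
noncomputable def modIso {s t : Sq i δD δX} (h : t.Y' ⟶ s.Y') (w : h ≫ s.g = t.g) (L : X.Modules) :
    (Scheme.Modules.pullback h).obj (Mod L s) ≅ Mod L t :=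
  (Scheme.Modules.pullbackComp h s.g).app L ≪≫ (Scheme.Modules.pullbackCongr w).app L

include H in
theorem compat_hom' {s t : Sq i δD δX} {h' : t.X' ⟶ s.X'} (w₃ : h' ≫ s.g' = t.g') :
    Cyc.DeltaCompat h' t.δX' s.δX' := by
  haveI := s.lft
  haveI : LocallyOfFiniteType s.g' := MorphismProperty.of_isPullback (P := @LocallyOfFiniteType) s.isPullback inferInstance
  exact S17576.deltaCompat_cancel h' s.g' (w₃.symm ▸ t.compatX) s.compatX

theorem compat_hom {s t : Sq i δD δX} {h : t.Y' ⟶ s.Y'} (w₁ : h ≫ s.g = t.g) :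
    Cyc.DeltaCompat h t.δY' s.δY' := by
  haveI := s.lft
  exact S17576.deltaCompat_cancel h s.g (w₁.symm ▸ t.compatY) s.compatY

include H in
theorem isPullback_sq {s t : Sq i δD δX} {h : t.Y' ⟶ s.Y'} {h' : t.X' ⟶ s.X'} (w₁ : h ≫ s.g = t.g)
    (w₂ : h' ≫ s.f' = t.f' ≫ h) (w₃ : h' ≫ s.g' = t.g') : IsPullback t.f' h' h s.f' := by
  have hbig : IsPullback t.f' (h' ≫ s.g') (h ≫ s.g) i := by
    rw [w₃, w₁]; exact t.isPullback
  exact IsPullback.of_bot hbig w₂.symm s.isPullback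

theorem push' (s t : Sq i δD δX) (h : t.Y' ⟶ s.Y') [IsProper h] (h' : t.X' ⟶ s.X') [IsProper h']
    (w₁ : h ≫ s.g = t.g) (w₂ : h' ≫ s.f' = t.f' ≫ h) (w₃ : h' ≫ s.g' = t.g') (k : ℤ) :
    PushOK t.δY' t.δX' s.δY' s.δX' h h' (op H t k) (op H s k) := by
  intro α hα
  haveI := closed' H s
  haveI := closed' H t
  haveI := (setupY H s).1
  haveI := (setupY H t).1
  haveI := (setupX H s).1
  haveI := (setupX H t).1
  have hsq := isPullback_sq H w₁ w₂ w₃
  obtain ⟨g1, g2⟩ := gam_spec H t k ⟨α, hα⟩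
  have e1 := op_cl H t k α hα _ (zero' H t) _ (sec_ne_zero H t) _ g2 g1
  refine ⟨_, g1, e1, ?_⟩
  have hmα := Bivar.cycMap_mem_Zk h t.δY' s.δY' k hα
  obtain ⟨g3, g4⟩ := gam_spec H s k ⟨_, hmα⟩
  rw [op_cl H s k _ hmα _ (zero' H s) _ (sec_ne_zero H s) _ g4 g3]
  have hM := PicCl.isInvertible_pullback h (invMod H s)
  have hz := isZeroSchemeOf_pullback' h hsq (invMod H s) _ (zero' H s)
  obtain ⟨u, hu⟩ := S17573.exists_secFibre_ne_zero hM
  obtain ⟨u', hu', he⟩ := exists_choice_iso (setupY H t) hM (invMod H t) (modIso h w₁ L) (LFFrame.unitSec h (Mod L s) ⊤ (LFFrame.unitSec s.g L ⊤ σ)) u hu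
  have hz' := S17570.isZeroSchemeOf_iso t.f' hM (modIso h w₁ L) _ hz
  obtain ⟨γu, hγu, hγu'⟩ := exists_gysin H t _ u' hu' k α hα
  have e2 := op_cl H t k α hα _ hz' u' hu' γu hγu' hγu
  have hb' : Cyc.DeltaCompat h' (fun z => t.δY' (t.f' z)) (fun d => s.δY' (s.f' d)) := by
    rw [← delta_eq H s, ← delta_eq H t]; exact compat_hom' H w₃
  have m := gysin_map' h s.f' t.f' h' hsq (setupY H s).2.2 (setupY H t).2.2 (compat_hom w₁) hb' (invMod H s) _ _
    (zero' H s) hz (k := k - 1) α (by rwa [sub_add_cancel]) (sec H s) (sec_ne_zero H s) u hu _ g4 γu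
    (fun z => (hγu' z).trans (congrFun (he ⇑α) (t.f' z)).symm)
  rw [← delta_eq H s, ← delta_eq H t] at m
  refine Eq.trans (b := ChowOps.cl _ (Bivar.cycMap_mem_Zk h' t.δX' s.δX' _ hγu))
    (S17570.cl_eq_of_mem_prin (setupX H s).2.2 _ _ g3 _ ((ratEquivZero_iff (setupX H s).2.2 _ _).1 m)) ?_
  exact S17576.cl_map_eq (setupX H t) (setupX H s) h' (compat_hom' H w₃) _ _ _ hγu g1 (e2.symm.trans e1)

theorem pull' (s t : Sq i δD δX) (h : t.Y' ⟶ s.Y') [Flat h] (h' : t.X' ⟶ s.X') [Flat h'] (c : ℕ)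
    (hc : Cyc.HasRelDim h c) (hc' : Cyc.HasRelDim h' c) (w₁ : h ≫ s.g = t.g) (w₂ : h' ≫ s.f' = t.f' ≫ h)
    (w₃ : h' ≫ s.g' = t.g') (k : ℤ) :
    PullOK s.δY' s.δX' t.δY' t.δX' h h' (c : ℤ) (op H s k) (op H t (k + c)) := by
  intro α hα
  haveI := s.lft
  haveI := closed' H s
  haveI := closed' H t
  haveI := (setupY H s).1
  haveI := (setupY H t).1
  haveI := (setupX H s).1
  haveI := (setupX H t).1
  haveI : LocallyOfFiniteType (h ≫ s.g) := by rw [w₁]; exact t.lft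
  haveI : LocallyOfFiniteType h := locallyOfFiniteType_of_comp h s.g
  have hsq := isPullback_sq H w₁ w₂ w₃
  haveI : LocallyOfFiniteType h' :=
    MorphismProperty.of_isPullback (P := @LocallyOfFiniteType) hsq inferInstance
  obtain ⟨g1, g2⟩ := gam_spec H s k ⟨α, hα⟩
  refine ⟨_, g1, op_cl H s k α hα _ (zero' H s) _ (sec_ne_zero H s) _ g2 g1, fun α₁ e hα₁ => ?_⟩
  obtain ⟨β₁, hβ₁, hβ₁'⟩ :=
    (isCyc_pull h' (setupX H t).2.2 (compat_hom' H w₃) hc' (IsCyc.of_cycle _ g1)).exists_cycle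
  have hk : k - 1 + (c : ℤ) = k + c - 1 := by ring
  rw [hk] at hβ₁
  refine ⟨β₁, hβ₁, hβ₁', ?_⟩
  have hM := PicCl.isInvertible_pullback h (invMod H s)
  have hz := isZeroSchemeOf_pullback' h hsq (invMod H s) _ (zero' H s)
  obtain ⟨u, hu⟩ := S17573.exists_secFibre_ne_zero hM
  obtain ⟨u', hu', he⟩ := exists_choice_iso (setupY H t) hM (invMod H t) (modIso h w₁ L) (LFFrame.unitSec h (Mod L s) ⊤ (LFFrame.unitSec s.g L ⊤ σ)) u hu
  have hz' := S17570.isZeroSchemeOf_iso t.f' hM (modIso h w₁ L) _ hz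
  obtain ⟨γu, hγu, hγu'⟩ := exists_gysin H t _ u' hu' (k + c) α₁ hα₁
  rw [op_cl H t (k + c) α₁ hα₁ _ hz' u' hu' γu hγu' hγu]
  refine S17570.cl_eq_of_mem_prin (setupX H t).2.2 _ _ _ _ ?_
  have hgI := gysinChoice_ne_zero (LFFrame.unitSec s.g L ⊤ σ) (sec H s) (sec_ne_zero H s)
  have hσ0 : ∀ η : s.Y', ∃ ρ : (Mod L s).presheaf.stalk η, IsBas ρ ∧
      Submodule.Quotient.mk ρ = Cyc.gysinChoice (Mod L s) (LFFrame.unitSec s.g L ⊤ σ) (sec H s) η ∧
      (η ∉ vset (Mod L s) (LFFrame.unitSec s.g L ⊤ σ) →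
        ρ = ((Mod L s).presheaf.germ ⊤ η trivial) (LFFrame.unitSec s.g L ⊤ σ)) := fun η => by
    by_cases hη : η ∈ vset (Mod L s) (LFFrame.unitSec s.g L ⊤ σ)
    · obtain ⟨ρ, hρ, e⟩ := exists_isBas_lift (invMod H s) _ (hgI η)
      exact ⟨ρ, hρ, e, fun h => absurd hη h⟩
    · exact ⟨_, isBas_sec (invMod H s) _ hη, (if_pos hη).symm, fun _ => rfl⟩
  choose ρ hρ hρe hρs using hσ0
  have hc1 : IsCyc t.δY' (k + c - 1 + 1) ⇑α₁ := by rw [sub_add_cancel]; exact IsCyc.of_cycle α₁ hα₁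
  have m := gysin_choice_mem' h s.f' t.f' h' hsq (setupY H t).2.2 (invMod H s) _ _ (zero' H s) hz hc1 ρ hρ hρs u hu
  have m' := S17570.prin_congr' _ (setupX H t).2.2 (delta_eq H t).symm rfl m
  rw [show (⇑γu : t.X' → ℤ) = _ from funext hγu', hβ₁', ← he]
  convert m' using 1
  funext z
  simp only [Pi.sub_apply]
  congr 1
  rw [e, ← pull_c1_unit h (setupY H t).2.2 (compat_hom w₁) hc (setupY H s).2.2 (invMod H s) hM
    (IsCyc.of_cycle α hα) ρ hρ]
  simp only [hρe, Cyc.pullFun, g2]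
  have hy : s.f' (h' z) = h (t.f' z) := by
    show (h' ≫ s.f') z = (t.f' ≫ h) z
    rw [w₂]
  have hl := S17567.fibLen_baseChange' h s.f' t.f' h' hsq (invMod H s) _ (zero' H s) z
  rw [fibLen, fibLen] at hl
  rw [delta_eq H t, delta_eq H s]
  simp only [hy, hl]

theorem gysin' (s t : Sq i δD δX) (i' : t.Y' ⟶ s.Y') [IsClosedImmersion i'] (j : t.X' ⟶ s.X') [IsClosedImmersion j]
    (w₁ : i' ≫ s.g = t.g) (w₂ : j ≫ s.f' = t.f' ≫ i') (w₃ : j ≫ s.g' = t.g') (L' : s.Y'.Modules)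
    (hL' : PicF.IsInvertible L') (σ' : L'.presheaf.obj (Opposite.op ⊤)) (hσ' : Cyc.IsZeroSchemeOf i' L' σ')
    (τ' : ((Scheme.Modules.pullback s.f').obj L').presheaf.obj (Opposite.op ⊤))
    (hτ' : Cyc.IsZeroSchemeOf j ((Scheme.Modules.pullback s.f').obj L') τ') (k : ℤ) :
    GysinOK s.δY' t.δY' s.δX' t.δX' i' L' σ' j ((Scheme.Modules.pullback s.f').obj L') τ'
      (op H s k) (op H t (k - 1)) := by
  intro α hα
  haveI := closed' H s
  haveI := closed' H t
  haveI := (setupY H s).1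
  haveI := (setupY H t).1
  haveI := (setupX H s).1
  haveI := (setupX H t).1
  have hsq := (isPullback_sq H w₁ w₂ w₃)
  have hL'' := PicCl.isInvertible_pullback s.f' hL'
  obtain ⟨g1, g2⟩ := gam_spec H s k ⟨α, hα⟩
  refine ⟨_, g1, op_cl H s k α hα _ (zero' H s) _ (sec_ne_zero H s) _ g2 g1, fun w hw γ hγ hγk w' hw' => ?_⟩
  have eY : t.δY' = fun d => s.δY' (i' d) := funext fun d =>
    CycLib.delta_eq_of_surjective i' (compat_hom w₁) d (S17576.surjective_residueFieldMap_preimmersion i' d)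
  have eX : t.δX' = fun d => s.δX' (j d) := funext fun d =>
    CycLib.delta_eq_of_surjective j (compat_hom' H w₃) d (S17576.surjective_residueFieldMap_preimmersion j d)
  have hb : IsCyc s.δX' (k - 2 + 1) ⇑(gam H s k ⟨α, hα⟩) := by
    rw [show k - 2 + 1 = k - 1 by ring]; exact IsCyc.of_cycle _ g1
  obtain ⟨ζ, hζ, hζ'⟩ := (IsCyc.comp_closed j
    (isCyc_c1 (setupX H s).2.2 hL'' hb _ (gysinChoice_ne_zero τ' w' hw'))).exists_cycle
  rw [← eX, show k - 2 = k - 1 - 1 by ring] at hζ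
  refine ⟨ζ, hζ, congrFun hζ', ?_⟩
  have hM := PicCl.isInvertible_pullback i' (invMod H s)
  have hz := isZeroSchemeOf_pullback' i' hsq (invMod H s) _ (zero' H s)
  obtain ⟨u, hu⟩ := S17573.exists_secFibre_ne_zero hM
  obtain ⟨u', hu', he⟩ := exists_choice_iso (setupY H t) hM (invMod H t) (modIso i' w₁ L) (LFFrame.unitSec i' (Mod L s) ⊤ (LFFrame.unitSec s.g L ⊤ σ)) u hu
  have hz' := S17570.isZeroSchemeOf_iso t.f' hM (modIso i' w₁ L) _ hz
  obtain ⟨γu, hγu, hγu'⟩ := exists_gysin H t _ u' hu' (k - 1) γ hγk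
  rw [op_cl H t (k - 1) γ hγk _ hz' u' hu' γu hγu' hγu]
  refine S17570.cl_eq_of_mem_prin (setupX H t).2.2 _ _ _ _ ?_
  have hα2 : IsCyc s.δY' (k - 2 + 1 + 1) ⇑α := by
    rw [show k - 2 + 1 + 1 = k by ring]; exact IsCyc.of_cycle α hα
  have hsq' : IsPullback j t.f' s.f' i' := hsq.flip
  have m := gysin_gysin s.f' i' j t.f' hsq' (setupY H s).2.2 (invMod H s) _ (zero' H s) hL' σ' hσ' τ' hτ'
    _ hz (sec H s) (sec_ne_zero H s) w hw w' hw' u hu hα2
  have m' := neg_mem (S17570.prin_congr' (l := k - 1 - 1) _ (setupX H t).2.2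
    (by rw [eX, delta_eq H s]) (by ring) m)
  rw [show (⇑γu : t.X' → ℤ) = _ from funext hγu', hζ', ← he]
  simp only [gysinDiff, neg_sub] at m'
  rw [show (⇑(gam H s k ⟨α, hα⟩) : s.X' → ℤ) = _ from funext g2, show (⇑γ : t.Y' → ℤ) = _ from funext hγ,
    delta_eq H s, eY]
  exact m'

/-- Let L be an invertible O_X-module, σ a global section of L and i : D → X the closed immersion of its
zero scheme, with δD the dimension function induced from δX. Then the Gysin maps of the base changes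
of this triple form a bivariant class of degree 1: there is c ∈ A^1(D → X) such that on every
cartesian square (X' → X, D' = X' ×_X D, i' : D' → X'), for every global section τ of the
pulled-back module with zero scheme i', and every k-cycle α on X', c ∩ [α] is the class of any cycle
whose coefficients are those of (i')^*α, computed as c_1 ∩ α with the rational sections taken to be
τ where it is nonzero and a nowhere-zero fallback elsewhere and read at the points of D' (the binder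
Bivar.IsGysinClass, which also records invertibility of L, that i is the zero scheme of σ and the
compatibility of δD). Here a pair (X, δ) with Cyc.IsSetup plays the role of a scheme locally of
finite type over the base (S, δ) (X locally Noetherian with universally catenary local rings, δ a
dimension function), Cyc.DeltaCompat records that a dimension function is the induced one, and
bivariant classes are taken in the operational sense of the prelude: additive operations on the Chow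
groups CH_k (k-cycles modulo rational equivalence) of all test schemes, compatible with proper
pushforward, flat pullback and the Gysin maps of zero schemes of sections of invertible modules in
representative form (Bivar.Cl for A^p(X → Y), Bivar.OpCl for A^p(X)). -/
theorem result (X D : Scheme.{u}) (δX : X → ℤ) (δD : D → ℤ) (hX : Cyc.IsSetup X δX) (hD : Cyc.IsSetup D δD) (i : D ⟶ X) [IsClosedImmersion i] (hδ : Cyc.DeltaCompat i δD δX) (L : X.Modules) (hL : PicF.IsInvertible L) (σ : L.presheaf.obj (Opposite.op ⊤)) (hσ : Cyc.IsZeroSchemeOf i L σ) : ∃ c : Bivar.Cl 1 i δD δX, Bivar.IsGysinClass i L σ c := by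
  have H : Hyp i δD δX L σ := ⟨hX, inferInstance, hδ, hL, hσ⟩
  exact ⟨{ op := op H
           push := fun s t h _ h' _ w₁ w₂ w₃ k => push' H s t h h' w₁ w₂ w₃ k
           pull := fun s t h _ h' _ c hc hc' w₁ w₂ w₃ k => pull' H s t h h' c hc hc' w₁ w₂ w₃ k
           gysin := fun s t i' _ j _ w₁ w₂ w₃ L' hL' σ' hσ' τ' hτ' k =>
             gysin' H s t i' j w₁ w₂ w₃ L' hL' σ' hσ' τ' hτ' k },
    hL, hσ, hδ, fun s τ hτ k α hα w hw γ hγ' hγ => op_cl H s k α hα τ hτ w hw γ hγ' hγ⟩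

end Groth.Agent.S17568
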