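import Groth.Statements.S17569
import Groth.Agent.S17568

set_option autoImplicit false
universe u
open CategoryTheory AlgebraicGeometry
open Bivar
open CategoryTheory.Limits

namespace Groth.Agent.S17569

open CycLib CycLib.Dev IsLocalRing

set_option maxHeartbeats 1000000
set_option linter.style.haveILetI false

/-- The descended push-forward of classes. -/
theorem exists_pushHom {X Y : Scheme.{u}} {δX : X → ℤ} {δY : Y → ℤ} (hX : Cyc.IsSetup X δX)
    (hY : Cyc.IsSetup Y δY) (p : X ⟶ Y) [IsProper p] (hδ : Cyc.DeltaCompat p δX δY) (k : ℤ) :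
    ∃ F : ChowOps.CH X δX k →+ ChowOps.CH Y δY k, ∀ (α : AlgebraicCycle X ℤ) (hα : α ∈ Cyc.Zk X δX k),
      F (ChowOps.cl α hα) = ChowOps.cl (AlgebraicCycle.map p δX δY α) (Bivar.cycMap_mem_Zk p δX δY k hα) := by
  let F : ↥(ChowOps.zk X δX k) →+ ChowOps.CH Y δY k :=
    { toFun := fun a => ChowOps.cl (AlgebraicCycle.map p δX δY a.1) (Bivar.cycMap_mem_Zk p δX δY k a.2)
      map_zero' := (Bivar.cl_congr (Bivar.cycMap_zero p δX δY) _ _).trans Bivar.cl_zero
      map_add' := fun a b => (Bivar.cl_congr (Bivar.cycMap_add p δX δY a.1 b.1) _ _).trans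
        (Bivar.cl_add _ _ (Bivar.cycMap_mem_Zk p δX δY k a.2) (Bivar.cycMap_mem_Zk p δX δY k b.2)) }
  have hker : ChowOps.ratTriv X δX k ≤ F.ker := by
    intro a ha
    refine (S17576.cl_map_eq hX hY p hδ k a.1 0 a.2 (ChowOps.zk X δX k).zero_mem ?_).trans
      ((Bivar.cl_congr (Bivar.cycMap_zero p δX δY) _ _).trans Bivar.cl_zero)
    exact ((QuotientAddGroup.eq_zero_iff _).2 ha).trans Bivar.cl_zero.symm
  exact ⟨QuotientAddGroup.lift _ F hker, fun α hα => rfl⟩

variable {X Y Z : Scheme.{u}} {δX : X → ℤ} {δY : Y → ℤ} {δZ : Z → ℤ} {f : X ⟶ Y} {g : Y ⟶ Z}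

/-- The standing hypotheses. -/
structure Hyp (f : X ⟶ Y) (g : Y ⟶ Z) (δX : X → ℤ) (δY : Y → ℤ) (δZ : Z → ℤ) : Prop where
  hX : Cyc.IsSetup X δX
  hY : Cyc.IsSetup Y δY
  hZ : Cyc.IsSetup Z δZ
  proper : IsProper f
  hδf : Cyc.DeltaCompat f δX δY

variable (H : Hyp f g δX δY δZ)

include H in
theorem lftg' (s : Sq g δY δZ) : LocallyOfFiniteType s.g' :=
  MorphismProperty.of_isPullback (P := @LocallyOfFiniteType) s.isPullback s.lft

include H in
theorem setupY (s : Sq g δY δZ) : Cyc.IsSetup s.Y' s.δY' := by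
  haveI := s.lft
  exact S17576.isSetup_of_compat s.g H.hZ s.compatY

include H in
theorem setupX (s : Sq g δY δZ) : Cyc.IsSetup s.X' s.δX' := by
  haveI := lftg' H s
  exact S17576.isSetup_of_compat s.g' H.hY s.compatX

include H in
theorem exists_dim (s : Sq g δY δZ) : ∃ δ : ↥(pullback s.g' f) → ℤ,
    Cyc.IsSetup (pullback s.g' f) δ ∧ Cyc.DeltaCompat (pullback.snd s.g' f) δ δX := by
  haveI := lftg' H s
  exact S17576.exists_setup (pullback.snd s.g' f) H.hX

/-- The dimension function on the chosen fibre product. -/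
noncomputable def dim (s : Sq g δY δZ) : ↥(pullback s.g' f) → ℤ := Classical.choose (exists_dim H s)

theorem dim_spec (s : Sq g δY δZ) :
    Cyc.IsSetup (pullback s.g' f) (dim H s) ∧ Cyc.DeltaCompat (pullback.snd s.g' f) (dim H s) δX :=
  Classical.choose_spec (exists_dim H s)

include H in
theorem proper_fst (s : Sq g δY δZ) : IsProper (pullback.fst s.g' f) := by
  haveI := H.proper
  infer_instance

theorem compat_fst (s : Sq g δY δZ) : Cyc.DeltaCompat (pullback.fst s.g' f) (dim H s) s.δX' := by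
  haveI := lftg' H s
  refine S17576.deltaCompat_cancel (pullback.fst s.g' f) s.g' ?_ s.compatX
  rw [pullback.condition]
  exact deltaCompat_comp (pullback.snd s.g' f) f (dim H s) δX δY (dim_spec H s).2 H.hδf

/-- The square over the composite. -/
noncomputable abbrev sq (s : Sq g δY δZ) : Sq (f ≫ g) δX δZ :=
  ⟨s.Y', pullback s.g' f, s.g, pullback.fst s.g' f ≫ s.f', pullback.snd s.g' f,
    (IsPullback.of_hasPullback s.g' f).paste_horiz s.isPullback, s.lft, s.δY', dim H s, s.compatY, (dim_spec H s).2⟩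

include H in
theorem exists_hom (s : Sq g δY δZ) (k : ℤ) :
    ∃ F : ChowOps.CH (pullback s.g' f) (dim H s) k →+ ChowOps.CH s.X' s.δX' k,
      haveI := proper_fst H s
      ∀ (α : AlgebraicCycle (pullback s.g' f) ℤ) (hα : α ∈ Cyc.Zk (pullback s.g' f) (dim H s) k),
        F (ChowOps.cl α hα) = ChowOps.cl (AlgebraicCycle.map (pullback.fst s.g' f) (dim H s) s.δX' α)
          (Bivar.cycMap_mem_Zk (pullback.fst s.g' f) (dim H s) s.δX' k hα) := by
  haveI := proper_fst H s
  exact exists_pushHom (dim_spec H s).1 (setupX H s) (pullback.fst s.g' f) (compat_fst H s) k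

variable {p : ℤ} (c : Bivar.Cl p (f ≫ g) δX δZ)

/-- The operation. -/
noncomputable def op (s : Sq g δY δZ) (k : ℤ) : ChowOps.CH s.Y' s.δY' k →+ ChowOps.CH s.X' s.δX' (k - p) :=
  (Classical.choose (exists_hom H s (k - p))).comp (c.op (sq H s) k)

theorem op_cl (s : Sq g δY δZ) [IsProper (pullback.fst s.g' f)] (k : ℤ) (α : AlgebraicCycle s.Y' ℤ)
    (hα : α ∈ Cyc.Zk s.Y' s.δY' k) (β : AlgebraicCycle (pullback s.g' f) ℤ)
    (hβ : β ∈ Cyc.Zk (pullback s.g' f) (dim H s) (k - p))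
    (e : c.op (sq H s) k (ChowOps.cl α hα) = ChowOps.cl β hβ) :
    op H c s k (ChowOps.cl α hα) = ChowOps.cl (AlgebraicCycle.map (pullback.fst s.g' f) (dim H s) s.δX' β)
      (Bivar.cycMap_mem_Zk (pullback.fst s.g' f) (dim H s) s.δX' (k - p) hβ) := by
  show Classical.choose (exists_hom H s (k - p)) (c.op (sq H s) k (ChowOps.cl α hα)) = _
  rw [e]
  exact Classical.choose_spec (exists_hom H s (k - p)) β hβ

include H in
theorem compat_hom' {s t : Sq g δY δZ} {h' : t.X' ⟶ s.X'} (w₃ : h' ≫ s.g' = t.g') :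
    Cyc.DeltaCompat h' t.δX' s.δX' := by
  haveI := lftg' H s
  exact S17576.deltaCompat_cancel h' s.g' (w₃.symm ▸ t.compatX) s.compatX

/-- The morphism of the chosen fibre products. -/
noncomputable def lift' {s t : Sq g δY δZ} (h' : t.X' ⟶ s.X') (w₃ : h' ≫ s.g' = t.g') :
    pullback t.g' f ⟶ pullback s.g' f :=
  pullback.lift (pullback.fst t.g' f ≫ h') (pullback.snd t.g' f)
    (by rw [Category.assoc, w₃, pullback.condition])

theorem lift'_fst {s t : Sq g δY δZ} (h' : t.X' ⟶ s.X') (w₃ : h' ≫ s.g' = t.g') :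
    lift' (f := f) h' w₃ ≫ pullback.fst s.g' f = pullback.fst t.g' f ≫ h' := pullback.lift_fst _ _ _

theorem lift'_snd {s t : Sq g δY δZ} (h' : t.X' ⟶ s.X') (w₃ : h' ≫ s.g' = t.g') :
    lift' (f := f) h' w₃ ≫ pullback.snd s.g' f = pullback.snd t.g' f := pullback.lift_snd _ _ _

theorem isPullback_lift' {s t : Sq g δY δZ} (h' : t.X' ⟶ s.X') (w₃ : h' ≫ s.g' = t.g') :
    IsPullback (pullback.fst t.g' f) (lift' (f := f) h' w₃) h' (pullback.fst s.g' f) := by
  have hbig : IsPullback (pullback.fst t.g' f) (lift' (f := f) h' w₃ ≫ pullback.snd s.g' f) (h' ≫ s.g') f := by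
    rw [lift'_snd, w₃]; exact IsPullback.of_hasPullback _ _
  exact IsPullback.of_bot hbig (lift'_fst h' w₃).symm (IsPullback.of_hasPullback _ _)

include H in
theorem compat_lift' {s t : Sq g δY δZ} (h' : t.X' ⟶ s.X') (w₃ : h' ≫ s.g' = t.g') :
    Cyc.DeltaCompat (lift' (f := f) h' w₃) (dim H t) (dim H s) := by
  haveI := lftg' H s
  exact S17576.deltaCompat_cancel _ (pullback.snd s.g' f) ((lift'_snd h' w₃).symm ▸ (dim_spec H t).2) (dim_spec H s).2

theorem w₂' {s t : Sq g δY δZ} (h : t.Y' ⟶ s.Y') (h' : t.X' ⟶ s.X') (w₂ : h' ≫ s.f' = t.f' ≫ h)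
    (w₃ : h' ≫ s.g' = t.g') :
    lift' (f := f) h' w₃ ≫ pullback.fst s.g' f ≫ s.f' = (pullback.fst t.g' f ≫ t.f') ≫ h := by
  rw [← Category.assoc, lift'_fst, Category.assoc, Category.assoc, w₂]

theorem push' (s t : Sq g δY δZ) (h : t.Y' ⟶ s.Y') [IsProper h] (h' : t.X' ⟶ s.X') [IsProper h']
    (w₁ : h ≫ s.g = t.g) (w₂ : h' ≫ s.f' = t.f' ≫ h) (w₃ : h' ≫ s.g' = t.g') (k : ℤ) :
    PushOK t.δY' t.δX' s.δY' s.δX' h h' (op H c t k) (op H c s k) := by
  intro α hα
  haveI := proper_fst H s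
  haveI := proper_fst H t
  haveI : IsProper (lift' (f := f) h' w₃) :=
    MorphismProperty.of_isPullback (P := @IsProper) (isPullback_lift' h' w₃) inferInstance
  obtain ⟨γ, hγ, e1, e2⟩ := c.push (sq H s) (sq H t) h (lift' (f := f) h' w₃) w₁ (w₂' h h' w₂ w₃)
    (lift'_snd h' w₃) k α hα
  refine ⟨_, _, op_cl H c t k α hα γ hγ e1, (op_cl H c s k _ _ _ _ e2).trans (Bivar.cl_congr ?_ _ _)⟩
  rw [CycLib.map_map_of_deltaCompat _ _ (compat_lift' H h' w₃) (compat_fst H s),
    CycLib.map_map_of_deltaCompat _ _ (compat_fst H t) (compat_hom' H w₃),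
    map_congr_hom (lift'_fst h' w₃)]

theorem pull' (s t : Sq g δY δZ) (h : t.Y' ⟶ s.Y') [Flat h] (h' : t.X' ⟶ s.X') [Flat h'] (r : ℕ)
    (hr : Cyc.HasRelDim h r) (hr' : Cyc.HasRelDim h' r) (w₁ : h ≫ s.g = t.g) (w₂ : h' ≫ s.f' = t.f' ≫ h)
    (w₃ : h' ≫ s.g' = t.g') (k : ℤ) :
    PullOK s.δY' s.δX' t.δY' t.δX' h h' (r : ℤ) (op H c s k) (op H c t (k + r)) := by
  intro α hα
  haveI := lftg' H s
  haveI := lftg' H t
  haveI := proper_fst H s
  haveI := proper_fst H t
  haveI := (setupX H t).1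
  haveI : LocallyOfFiniteType (h' ≫ s.g') := by rw [w₃]; infer_instance
  haveI : LocallyOfFiniteType h' := locallyOfFiniteType_of_comp h' s.g'
  have hsq := isPullback_lift' (f := f) h' w₃
  haveI : Flat (lift' (f := f) h' w₃) := MorphismProperty.of_isPullback (P := @Flat) hsq inferInstance
  have hr'' : Cyc.HasRelDim (lift' (f := f) h' w₃) r :=
    (S9358.result h' (pullback.fst s.g' f) (pullback.fst t.g' f) _ hsq r).2.2 hr'
  obtain ⟨β0, hβ0, e1, Hp⟩ := c.pull (sq H s) (sq H t) h (lift' (f := f) h' w₃) r hr hr'' w₁ (w₂' h h' w₂ w₃)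
    (lift'_snd h' w₃) k α hα
  refine ⟨_, _, op_cl H c s k α hα β0 hβ0 e1, fun α₁ e hα₁ => ?_⟩
  obtain ⟨β1, hβ1, e3, e4⟩ := Hp α₁ e hα₁
  refine ⟨_, _, ?_, op_cl H c t (k + r) α₁ hα₁ β1 hβ1 e4⟩
  exact (CycLib.FlatBC.main_of_isPullback (pullback.fst s.g' f) h' hsq (setupX H t).2.2 (compat_fst H s)
    (compat_fst H t) (fun x hx => CycLib.delta_eq_of_generic h' (compat_hom' H w₃) hr' x hx) β0 β1 e3).symm

theorem gysin' (s t : Sq g δY δZ) (i : t.Y' ⟶ s.Y') [IsClosedImmersion i] (j : t.X' ⟶ s.X') [IsClosedImmersion j]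
    (w₁ : i ≫ s.g = t.g) (w₂ : j ≫ s.f' = t.f' ≫ i) (w₃ : j ≫ s.g' = t.g') (L : s.Y'.Modules)
    (hL : PicF.IsInvertible L) (σ : L.presheaf.obj (Opposite.op ⊤)) (hσ : Cyc.IsZeroSchemeOf i L σ)
    (τ : ((Scheme.Modules.pullback s.f').obj L).presheaf.obj (Opposite.op ⊤))
    (hτ : Cyc.IsZeroSchemeOf j ((Scheme.Modules.pullback s.f').obj L) τ) (k : ℤ) :
    GysinOK s.δY' t.δY' s.δX' t.δX' i L σ j ((Scheme.Modules.pullback s.f').obj L) τ
      (op H c s k) (op H c t (k - 1)) := by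
  intro α hα
  haveI := proper_fst H s
  haveI := proper_fst H t
  haveI := (setupX H s).1
  haveI := (setupX H t).1
  haveI := (dim_spec H s).1.1
  have hsq := isPullback_lift' (f := f) j w₃
  haveI : IsClosedImmersion (lift' (f := f) j w₃) :=
    MorphismProperty.of_isPullback (P := @IsClosedImmersion) hsq inferInstance
  have hN := PicCl.isInvertible_pullback s.f' hL
  have hM := PicCl.isInvertible_pullback (pullback.fst s.g' f) hN
  have hM0 := PicCl.isInvertible_pullback (pullback.fst s.g' f ≫ s.f') hL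
  let φ := (Scheme.Modules.pullbackComp (pullback.fst s.g' f) s.f').app L
  have hz := S17568.isZeroSchemeOf_pullback' (pullback.fst s.g' f) hsq.flip hN τ hτ
  have hz' := S17570.isZeroSchemeOf_iso (lift' (f := f) j w₃) hM φ _ hz
  obtain ⟨β0, hβ0, e1, HG⟩ := c.gysin (sq H s) (sq H t) i (lift' (f := f) j w₃) w₁ (w₂' i j w₂ w₃)
    (lift'_snd j w₃) L hL σ hσ _ hz' k α hα
  refine ⟨_, _, op_cl H c s k α hα β0 hβ0 e1, fun w hw γ hγ hγk w' hw' => ?_⟩
  obtain ⟨u, hu⟩ := S17573.exists_secFibre_ne_zero hM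
  obtain ⟨w0, hw0, he⟩ := S17568.exists_choice_iso (dim_spec H s).1 hM hM0 φ
    (LFFrame.unitSec (pullback.fst s.g' f) ((Scheme.Modules.pullback s.f').obj L) ⊤ τ) u hu
  obtain ⟨ζ0, hζ0, hζ0', e2⟩ := HG w hw γ hγ hγk w0 hw0
  have eX : t.δX' = fun d => s.δX' (j d) := funext fun d =>
    CycLib.delta_eq_of_surjective j (compat_hom' H w₃) d (S17576.surjective_residueFieldMap_preimmersion j d)
  have eP : dim H t = fun z => dim H s (lift' (f := f) j w₃ z) := funext fun z =>
    CycLib.delta_eq_of_surjective _ (compat_lift' H j w₃) z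
      (S17576.surjective_residueFieldMap_preimmersion (lift' (f := f) j w₃) z)
  have hβm := Bivar.cycMap_mem_Zk (pullback.fst s.g' f) (dim H s) s.δX' (k - p) hβ0
  have hb : IsCyc s.δX' (k - p - 1 + 1) ⇑(AlgebraicCycle.map (pullback.fst s.g' f) (dim H s) s.δX' β0) := by
    rw [sub_add_cancel]; exact IsCyc.of_cycle _ hβm
  obtain ⟨ζ, hζ, hζ'⟩ := (IsCyc.comp_closed j
    (isCyc_c1 (setupX H s).2.2 hN hb _ (gysinChoice_ne_zero τ w' hw'))).exists_cycle
  rw [← eX, sub_right_comm k p 1] at hζ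
  refine ⟨ζ, hζ, congrFun hζ', ?_⟩
  rw [op_cl H c t (k - 1) γ hγk ζ0 hζ0 e2]
  have hb' : Cyc.DeltaCompat (pullback.fst t.g' f) (fun z => dim H s (lift' (f := f) j w₃ z))
      (fun d => s.δX' (j d)) := by
    rw [← eX, ← eP]; exact compat_fst H t
  have m := S17568.gysin_map' (pullback.fst s.g' f) j (lift' (f := f) j w₃) (pullback.fst t.g' f) hsq.flip
    (setupX H s).2.2 (dim_spec H s).1.2.2 (compat_fst H s) hb' hN τ _ hτ hz (k := k - p - 1) β0
    (by rwa [sub_add_cancel]) w' hw' u hu ζ (congrFun hζ') ζ0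
    (fun z => (hζ0' z).trans (congrFun (he ⇑β0) _).symm)
  rw [← eX, ← eP] at m
  refine (S17570.cl_eq_of_mem_prin (setupX H t).2.2 _ _ _ _ ?_).symm
  exact S17570.prin_congr' _ (setupX H t).2.2 rfl (sub_right_comm k p 1)
    ((ratEquivZero_iff (setupX H t).2.2 _ _).1 m)

theorem op_any (s : Sq g δY δZ) (X' : Scheme.{u}) (f' : X' ⟶ s.X') [IsProper f'] (gX : X' ⟶ X)
    (hp : IsPullback f' gX s.g' f) (δX' : X' → ℤ) (hX' : Cyc.DeltaCompat gX δX' δX) (k : ℤ)
    (α : AlgebraicCycle s.Y' ℤ) (hα : α ∈ Cyc.Zk s.Y' s.δY' k) (β : AlgebraicCycle X' ℤ)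
    (hβ : β ∈ Cyc.Zk X' δX' (k - p))
    (e : c.op ⟨s.Y', X', s.g, f' ≫ s.f', gX, hp.paste_horiz s.isPullback, s.lft, s.δY', δX', s.compatY, hX'⟩ k
      (ChowOps.cl α hα) = ChowOps.cl β hβ) :
    op H c s k (ChowOps.cl α hα) =
      ChowOps.cl (AlgebraicCycle.map f' δX' s.δX' β) (Bivar.cycMap_mem_Zk f' δX' s.δX' (k - p) hβ) := by
  haveI := proper_fst H s
  haveI := lftg' H s
  haveI : LocallyOfFiniteType gX := MorphismProperty.of_isPullback (P := @LocallyOfFiniteType) hp inferInstance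
  let t : Sq (f ≫ g) δX δZ :=
    ⟨s.Y', X', s.g, f' ≫ s.f', gX, hp.paste_horiz s.isPullback, s.lft, s.δY', δX', s.compatY, hX'⟩
  let u : X' ⟶ pullback s.g' f := hp.isoPullback.hom
  haveI : IsIso u := inferInstanceAs (IsIso hp.isoPullback.hom)
  haveI : IsProper u := inferInstance
  obtain ⟨β', hβ', e1, e2⟩ := c.push (sq H s) t (𝟙 s.Y') u (Category.id_comp _)
    (by show u ≫ pullback.fst s.g' f ≫ s.f' = (f' ≫ s.f') ≫ 𝟙 s.Y'
        rw [Category.comp_id, hp.isoPullback_hom_fst_assoc]) hp.isoPullback_hom_snd k α hα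
  have hu : Cyc.DeltaCompat u δX' (dim H s) :=
    S17576.deltaCompat_cancel u (pullback.snd s.g' f) (hp.isoPullback_hom_snd.symm ▸ hX') (dim_spec H s).2
  have hXs : Cyc.IsSetup X' δX' := S17576.isSetup_of_compat gX H.hX hX'
  have hf' : Cyc.DeltaCompat f' δX' s.δX' := by
    have h := deltaCompat_comp u (pullback.fst s.g' f) δX' (dim H s) s.δX' hu (compat_fst H s)
    rwa [hp.isoPullback_hom_fst] at h
  have e3 : c.op (sq H s) k (ChowOps.cl α hα) =
      ChowOps.cl (AlgebraicCycle.map u δX' (dim H s) β') (Bivar.cycMap_mem_Zk u δX' (dim H s) (k - p) hβ') := by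
    refine Eq.trans ?_ e2
    exact congrArg (c.op (sq H s) k) (Bivar.cl_congr (AlgebraicCycle.map_id _ α).symm _ _)
  refine (op_cl H c s k α hα _ _ e3).trans ?_
  refine Eq.trans (Bivar.cl_congr ?_ _ (Bivar.cycMap_mem_Zk f' δX' s.δX' (k - p) hβ'))
    (S17576.cl_map_eq hXs (setupX H s) f' hf' _ β' β hβ' hβ (e1.symm.trans e))
  rw [CycLib.map_map_of_deltaCompat _ _ hu (compat_fst H s), map_congr_hom hp.isoPullback_hom_fst]

/-- Let f : X → Y be proper and g : Y → Z locally of finite type, with δX induced from δY along f and δY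
induced from δZ along g, and let c ∈ A^p(X → Z) be a bivariant class for the composite X → Z. Then α
↦ f'_*(c ∩ α) is a bivariant class f_* ∘ c ∈ A^p(Y → Z): there is c' ∈ A^p(Y → Z) such that on every
cartesian square (Z' → Z, Y' = Z' ×_Z Y) and every fibre product X' = Y' ×_Y X (a square over X → Z
by pasting), for every k-cycle α on Z' and every cycle β on X' representing c ∩ [α], the class c' ∩
[α] is the class of the pushforward of β along X' → Y' (the binder Bivar.IsProperPushClass, which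
also records properness of f and the compatibility of δX). Here a pair (X, δ) with Cyc.IsSetup plays
the role of a scheme locally of finite type over the base (S, δ) (X locally Noetherian with
universally catenary local rings, δ a dimension function), Cyc.DeltaCompat records that a dimension
function is the induced one, and bivariant classes are taken in the operational sense of the
prelude: additive operations on the Chow groups CH_k (k-cycles modulo rational equivalence) of all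
test schemes, compatible with proper pushforward, flat pullback and the Gysin maps of zero schemes
of sections of invertible modules in representative form (Bivar.Cl for A^p(X → Y), Bivar.OpCl for
A^p(X)). -/
theorem result (X Y Z : Scheme.{u}) (δX : X → ℤ) (δY : Y → ℤ) (δZ : Z → ℤ) (hX : Cyc.IsSetup X δX) (hY : Cyc.IsSetup Y δY) (hZ : Cyc.IsSetup Z δZ) (f : X ⟶ Y) [IsProper f] (g : Y ⟶ Z) [LocallyOfFiniteType g] (hδf : Cyc.DeltaCompat f δX δY) (hδg : Cyc.DeltaCompat g δY δZ) (p : ℤ) (c : Bivar.Cl p (f ≫ g) δX δZ) : ∃ c' : Bivar.Cl p g δY δZ, Bivar.IsProperPushClass f g c c' := by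
  have H : Hyp f g δX δY δZ := ⟨hX, hY, hZ, inferInstance, hδf⟩
  exact ⟨{ op := op H c
           push := fun s t h _ h' _ w₁ w₂ w₃ k => push' H c s t h h' w₁ w₂ w₃ k
           pull := fun s t h _ h' _ r hr hr' w₁ w₂ w₃ k => pull' H c s t h h' r hr hr' w₁ w₂ w₃ k
           gysin := fun s t i _ j _ w₁ w₂ w₃ L hL σ hσ τ hτ k =>
             gysin' H c s t i j w₁ w₂ w₃ L hL σ hσ τ hτ k },
    inferInstance, hδf, fun s X' f' _ gX hp δX' hX' k α hα β hβ e => op_any H c s X' f' gX hp δX' hX' k α hα β hβ e⟩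

end Groth.Agent.S17569
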