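import Groth.Statements.S17571
import Groth.Agent.ChernUniq88.Iso
import Groth.Agent.ChernUniq88.Caps
import Groth.Agent.S12659
import Groth.Agent.S12660
import Groth.Agent.S12661
import Groth.Agent.S17576
import Groth.Agent.CycLib.DevPullC1
import Groth.Agent.CycLib.DevGysinComm
import Groth.Agent.CycLib.VecBdl.Completion
import Groth.Agent.CycLib.ProjBdl.BundleBC
-- import your own Groth.Agent.* helpers here

set_option autoImplicit false
universe u
open CategoryTheory AlgebraicGeometry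
open Bivar

namespace Groth.Agent.S17571

open CycLib CycLib.Dev

set_option maxHeartbeats 1000000

theorem cl_eq_of_ratEquiv {Y : Scheme.{u}} {δ : Y → ℤ} {k : ℤ} {α β : AlgebraicCycle Y ℤ}
    (h : Cyc.RatEquiv δ k α β) (hα : α ∈ Cyc.Zk Y δ k) (hβ : β ∈ Cyc.Zk Y δ k) :
    ChowOps.cl α hα = ChowOps.cl β hβ := by
  rw [ChowOps.cl, ChowOps.cl, ← sub_eq_zero, ← map_sub]
  exact (QuotientAddGroup.eq_zero_iff _).2 (AddSubgroup.subset_closure h)

theorem ratEquiv_refl {Y : Scheme.{u}} [IsLocallyNoetherian Y] {δ : Y → ℤ} (hd : Cyc.IsDimFun Y δ) (k : ℤ)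
    (α : AlgebraicCycle Y ℤ) : Cyc.RatEquiv δ k α α := by
  rw [Cyc.RatEquiv, CycLib.Dev.ratEquivZero_iff hd, sub_self]; exact zero_mem _

/-- A proper projective bundle of a module with its dimension function. -/
structure Bdl {Y : Scheme.{u}} (E : Y.Modules) (δ : Y → ℤ) : Type (u + 1) where
  P : Scheme.{u}
  π : P ⟶ Y
  O1 : P.Modules
  q : (Scheme.Modules.pullback π).obj E ⟶ O1
  hP : KRR.IsProjBundle π E O1 q
  [proper : IsProper π]
  δP : P → ℤ
  hPs : Cyc.IsSetup P δP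
  hδ : Cyc.DeltaCompat π δP δ

attribute [instance] Bdl.proper

theorem exists_cap {Y : Scheme.{u}} {E : Y.Modules} {δ : Y → ℤ} (B : Bdl E δ) (hY : Cyc.IsSetup Y δ) {r : ℕ}
    (hr : 1 ≤ r) (hE : FlatMod.IsFinLocFreeOfRank r E) {k : ℤ} (α : AlgebraicCycle Y ℤ) (hα : α ∈ Cyc.Zk Y δ k) :
    ∃ γ : Fin (r + 1) → AlgebraicCycle Y ℤ, Cyc.IsChernCap B.π δ B.δP B.O1 r k α γ := by
  haveI := B.hPs.1
  obtain ⟨L⟩ := CycLib.ProjBdl.exists_cov_of_isProjBundle B.hP hr hE
  exact L.exists_chernCap hr B.hPs.2.2 B.hδ (Desc44.ProjBundle.isInvertible_of_rank_one B.hP.invertible) k hY α hα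

variable {X : Scheme.{u}} {δX : X → ℤ} (hX : Cyc.IsSetup X δX) {E : X.Modules} {r : ℕ}
  (hE : FlatMod.IsFinLocFreeOfRank r E) (hr : 1 ≤ r)

/-- The pulled back module. -/
noncomputable abbrev Mod (E : X.Modules) (s : OSq X δX) : s.Y.Modules := (Scheme.Modules.pullback s.g).obj E

include hX in
theorem setup (s : OSq X δX) : Cyc.IsSetup s.Y s.δ := by
  haveI := s.lft
  exact S17576.isSetup_of_compat s.g hX s.compat

include hE in
theorem rankMod (s : OSq X δX) : FlatMod.IsFinLocFreeOfRank r (Mod E s) :=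
  CycLib.ProjBdl.isFinLocFreeOfRank_pullback s.g hE

include hX hE in
theorem nonempty_bdl (s : OSq X δX) : Nonempty (Bdl (Mod E s) s.δ) := by
  have h := CycLib.ChowOp.isFinLocFree_of_rank (rankMod hE s)
  haveI : (Mod E s).IsQuasicoherent := PerfTri.Betti.isQuasicoherent_of_isFinLocFree h
  obtain ⟨P, π, O1, q, hP, hπ⟩ := ChernUniq88.exists_isProjBundle h
  haveI := hπ
  obtain ⟨δP, hPs, hδ⟩ := CycLib.VecBdl.exists_setup π (setup hX s)
  exact ⟨⟨P, π, O1, q, hP, δP, hPs, hδ⟩⟩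

/-- The chosen bundle. -/
noncomputable def bdl (s : OSq X δX) : Bdl (Mod E s) s.δ := Classical.choice (nonempty_bdl hX hE s)

/-- The chosen cap. -/
noncomputable def gam (s : OSq X δX) (k : ℤ) (α : AlgebraicCycle s.Y ℤ) (hα : α ∈ Cyc.Zk s.Y s.δ k) :
    Fin (r + 1) → AlgebraicCycle s.Y ℤ :=
  Classical.choose (exists_cap (bdl hX hE s) (setup hX s) hr (rankMod hE s) α hα)

theorem gam_spec (s : OSq X δX) (k : ℤ) (α : AlgebraicCycle s.Y ℤ) (hα : α ∈ Cyc.Zk s.Y s.δ k) :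
    Cyc.IsChernCap (bdl hX hE s).π s.δ (bdl hX hE s).δP (bdl hX hE s).O1 r k α (gam hX hE hr s k α hα) :=
  Classical.choose_spec (exists_cap (bdl hX hE s) (setup hX s) hr (rankMod hE s) α hα)

/-- The cap from cycles to classes. -/
noncomputable def T (j : Fin (r + 1)) (s : OSq X δX) (k : ℤ) :
    ↥(ChowOps.zk s.Y s.δ k) →+ ChowOps.CH s.Y s.δ (k - ((j : ℕ) : ℤ)) :=
  AddMonoidHom.mk' (fun a => ChowOps.cl (gam hX hE hr s k a.1 a.2 j) ((gam_spec hX hE hr s k a.1 a.2).2.1 j))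
    fun a b => by
      haveI := (setup hX s).1
      rw [← Bivar.cl_add]
      exact cl_eq_of_ratEquiv (ChernUniq88.caps_add (setup hX s) (rankMod hE s) (bdl hX hE s).hP
        (bdl hX hE s).hPs (bdl hX hE s).hδ a.2 b.2 (gam_spec hX hE hr s k a.1 a.2)
        (gam_spec hX hE hr s k b.1 b.2) (gam_spec hX hE hr s k (a + b).1 (a + b).2) j) _ _

theorem ker_T (j : Fin (r + 1)) (s : OSq X δX) (k : ℤ) : ChowOps.ratTriv s.Y s.δ k ≤ (T hX hE hr j s k).ker := by
  haveI := (setup hX s).1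
  refine (AddSubgroup.closure_le _).2 fun a ha => ?_
  show ChowOps.cl _ _ = 0
  rw [← Bivar.cl_zero]
  refine cl_eq_of_ratEquiv ?_ _ _
  have h := ChernUniq88.caps_zero (setup hX s) (rankMod hE s) (bdl hX hE s).hP
    (bdl hX hE s).hPs (bdl hX hE s).hδ a.2 ha (gam_spec hX hE hr s k a.1 a.2) j
  simpa [Cyc.RatEquiv] using h

/-- The operation `c_j ∩ -`. -/
noncomputable def op (j : Fin (r + 1)) (s : OSq X δX) (k : ℤ) :
    ChowOps.CH s.Y s.δ k →+ ChowOps.CH s.Y s.δ (k - ((j : ℕ) : ℤ)) :=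
  QuotientAddGroup.lift _ (T hX hE hr j s k) (ker_T hX hE hr j s k)

theorem op_cl (j : Fin (r + 1)) (s : OSq X δX) (k : ℤ) (α : AlgebraicCycle s.Y ℤ) (hα : α ∈ Cyc.Zk s.Y s.δ k) :
    op hX hE hr j s k (ChowOps.cl α hα) =
      ChowOps.cl (gam hX hE hr s k α hα j) ((gam_spec hX hE hr s k α hα).2.1 j) :=
  rfl

/-- Caps through any bundle of an isomorphic module compute the operation. -/
theorem op_cl' (j : Fin (r + 1)) (s : OSq X δX) (k : ℤ) (α : AlgebraicCycle s.Y ℤ) (hα : α ∈ Cyc.Zk s.Y s.δ k)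
    {E' : s.Y.Modules} (e : Mod E s ≅ E') (hE' : FlatMod.IsFinLocFreeOfRank r E') (B : Bdl E' s.δ)
    (γ : Fin (r + 1) → AlgebraicCycle s.Y ℤ) (hγ : Cyc.IsChernCap B.π s.δ B.δP B.O1 r k α γ)
    (h : γ j ∈ Cyc.Zk s.Y s.δ (k - ((j : ℕ) : ℤ))) :
    op hX hE hr j s k (ChowOps.cl α hα) = ChowOps.cl (γ j) h := by
  haveI := (setup hX s).1
  rw [op_cl]
  exact cl_eq_of_ratEquiv (ChernUniq88.caps_agree (setup hX s) (rankMod hE s) (bdl hX hE s).hP (bdl hX hE s).hPs
    (bdl hX hE s).hδ e hE' B.hP B.hPs B.hδ hα hα (ratEquiv_refl (setup hX s).2.2 k α)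
    (gam_spec hX hE hr s k α hα) hγ j) _ _

/-- The iso of pulled back modules along a morphism of test schemes. -/
noncomputable def modIso {s t : OSq X δX} (h : t.Y ⟶ s.Y) (w : h ≫ s.g = t.g) (E : X.Modules) :
    (Scheme.Modules.pullback h).obj (Mod E s) ≅ Mod E t :=
  (Scheme.Modules.pullbackComp h s.g).app E ≪≫ (Scheme.Modules.pullbackCongr w).app E

theorem compat_of {s t : OSq X δX} (h : t.Y ⟶ s.Y) (w : h ≫ s.g = t.g) : Cyc.DeltaCompat h t.δ s.δ :=
  S17576.deltaCompat_cancel h s.g (w.symm ▸ t.compat) s.compat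

include hX in
/-- Base change of a bundle along a morphism of test schemes. -/
theorem exists_bc {s t : OSq X δX} {E' : s.Y.Modules} (B : Bdl E' s.δ) (h : t.Y ⟶ s.Y) :
    ∃ (B' : Bdl ((Scheme.Modules.pullback h).obj E') t.δ) (f' : B'.P ⟶ B.P),
      IsPullback f' B'.π B.π h ∧ B'.O1 = (Scheme.Modules.pullback f').obj B.O1 := by
  obtain ⟨δ', hs', hd'⟩ := CycLib.VecBdl.exists_setup (Limits.pullback.snd B.π h) (setup hX t)
  exact ⟨⟨_, _, _, _, CycLib.ProjBdl.isProjBundle_baseChange B.hP (IsPullback.of_hasPullback B.π h), δ', hs', hd'⟩,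
    _, IsPullback.of_hasPullback B.π h, rfl⟩

theorem push' (j : Fin (r + 1)) (s t : OSq X δX) (h : t.Y ⟶ s.Y) [IsProper h] (w : h ≫ s.g = t.g) (k : ℤ) :
    PushOK t.δ t.δ s.δ s.δ h h (op hX hE hr j t k) (op hX hE hr j s k) := by
  intro α hα
  haveI := (setup hX s).1
  haveI := (setup hX t).1
  have hS := setup hX s
  have hT := setup hX t
  have hmα := Bivar.cycMap_mem_Zk h t.δ s.δ k hα
  obtain ⟨B', f', hsq, hO⟩ := exists_bc hX (bdl hX hE s) h
  have hE' := CycLib.ProjBdl.isFinLocFreeOfRank_pullback h (rankMod hE s)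
  obtain ⟨γ, hγ⟩ := exists_cap B' hT hr hE' α hα
  refine ⟨γ j, hγ.2.1 j, op_cl' hX hE hr j t k α hα (modIso h w E).symm hE' B' γ hγ _, ?_⟩
  rw [op_cl hX hE hr j s k _ hmα]
  refine (cl_eq_of_ratEquiv ?_ _ _).symm
  rw [hO] at hγ
  exact S12659.result t.Y s.Y t.δ s.δ hT hS h (compat_of h w) r (Mod E s) (rankMod hE s) _ _ _ _
    (bdl hX hE s).hP _ (bdl hX hE s).hPs (bdl hX hE s).hδ _ B'.π f' hsq _ B'.hPs B'.hδ k α hα γ hγ _
    (gam_spec hX hE hr s k _ hmα) j

theorem pull' (j : Fin (r + 1)) (s t : OSq X δX) (h : t.Y ⟶ s.Y) [Flat h] (c : ℕ) (hc : Cyc.HasRelDim h c)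
    (w : h ≫ s.g = t.g) (k : ℤ) :
    PullOK s.δ s.δ t.δ t.δ h h (c : ℤ) (op hX hE hr j s k) (op hX hE hr j t (k + c)) := by
  intro α hα
  haveI := (setup hX s).1
  haveI := (setup hX t).1
  haveI : LocallyOfFiniteType (h ≫ s.g) := by rw [w]; exact t.lft
  haveI : LocallyOfFiniteType h := locallyOfFiniteType_of_comp h s.g
  have hS := setup hX s
  have hT := setup hX t
  have hg := gam_spec hX hE hr s k α hα
  refine ⟨_, hg.2.1 j, op_cl hX hE hr j s k α hα, fun α₁ e hα₁ => ?_⟩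
  choose β hβ hβ' using fun i : Fin (r + 1) =>
    (isCyc_pull h hT.2.2 (compat_of h w) hc (IsCyc.of_cycle _ (hg.2.1 i))).exists_cycle
  have hk : k - ((j : ℕ) : ℤ) + (c : ℤ) = k + c - ((j : ℕ) : ℤ) := by ring
  have hβj := hβ j
  rw [hk] at hβj
  refine ⟨β j, hβj, hβ' j, ?_⟩
  obtain ⟨B', f', hsq, hO⟩ := exists_bc hX (bdl hX hE s) h
  have hE' := CycLib.ProjBdl.isFinLocFreeOfRank_pullback h (rankMod hE s)
  obtain ⟨γ, hγ⟩ := exists_cap B' hT hr hE' α₁ hα₁
  rw [op_cl' hX hE hr j t (k + c) α₁ hα₁ (modIso h w E).symm hE' B' γ hγ (hγ.2.1 j)]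
  refine (cl_eq_of_ratEquiv ?_ _ _).symm
  rw [hO] at hγ
  exact S12660.result t.Y s.Y t.δ s.δ hT hS h c hc (compat_of h w) r (Mod E s) (rankMod hE s) _ _ _ _
    (bdl hX hE s).hP _ (bdl hX hE s).hPs (bdl hX hE s).hδ _ B'.π f' hsq _ B'.hPs B'.hδ k α hα α₁ e _ hg γ hγ
    β hβ' j

theorem gysin' (j : Fin (r + 1)) (s t : OSq X δX) (i : t.Y ⟶ s.Y) [IsClosedImmersion i] (w : i ≫ s.g = t.g)
    (L : s.Y.Modules) (hL : PicF.IsInvertible L) (σ : L.presheaf.obj (Opposite.op ⊤))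
    (hσ : Cyc.IsZeroSchemeOf i L σ) (k : ℤ) :
    GysinOK₁ s.δ t.δ i L σ (op hX hE hr j s k) (op hX hE hr j t (k - 1)) := by
  intro α hα
  haveI := (setup hX s).1
  haveI := (setup hX t).1
  have hS := setup hX s
  have hT := setup hX t
  have eδ : t.δ = fun d => s.δ (i d) := funext fun d =>
    CycLib.delta_eq_of_surjective i (compat_of i w) d (S17576.surjective_residueFieldMap_preimmersion i d)
  have hg := gam_spec hX hE hr s k α hα
  refine ⟨_, hg.2.1 j, op_cl hX hE hr j s k α hα, fun v hv γ hγ hγk => ?_⟩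
  have hcy : ∀ m : Fin (r + 1), IsCyc s.δ (k - 1 - ((m : ℕ) : ℤ) + 1) ⇑(gam hX hE hr s k α hα m) := fun m => by
    rw [show k - 1 - ((m : ℕ) : ℤ) + 1 = k - ((m : ℕ) : ℤ) by ring]; exact IsCyc.of_cycle _ (hg.2.1 m)
  choose ζ hζ hζ' using fun m : Fin (r + 1) => (IsCyc.comp_closed i
    (isCyc_c1 hS.2.2 hL (hcy m) _ (gysinChoice_ne_zero σ v hv))).exists_cycle
  have hζj := hζ j
  rw [← eδ] at hζj
  refine ⟨ζ j, hζj, congrFun (hζ' j), ?_⟩
  obtain ⟨B', f', hsq, hO⟩ := exists_bc hX (bdl hX hE s) i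
  haveI : IsClosedImmersion f' := MorphismProperty.of_isPullback hsq.flip inferInstance
  have eP : B'.δP = fun y => (bdl hX hE s).δP (f' y) := funext fun y => by
    refine CycLib.delta_eq_of_surjective f' ?_ y (S17576.surjective_residueFieldMap_preimmersion f' y)
    refine S17576.deltaCompat_cancel f' (bdl hX hE s).π ?_ (bdl hX hE s).hδ
    rw [hsq.w]
    exact Bivar.deltaCompat_comp B'.π i B'.δP t.δ s.δ B'.hδ (compat_of i w)
  have hE' := CycLib.ProjBdl.isFinLocFreeOfRank_pullback i (rankMod hE s)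
  obtain ⟨γ', hγ'⟩ := exists_cap B' hT hr hE' γ hγk
  rw [op_cl' hX hE hr j t (k - 1) γ hγk (modIso i w E).symm hE' B' γ' hγ' (hγ'.2.1 j)]
  refine (cl_eq_of_ratEquiv ?_ _ _).symm
  have hγ'' : Cyc.IsChernCap B'.π (fun d => s.δ (i d)) (fun y => (bdl hX hE s).δP (f' y))
      ((Scheme.Modules.pullback f').obj (bdl hX hE s).O1) r (k - 1) γ γ' := by
    rw [← eδ, ← eP, ← hO]; exact hγ'
  rw [eδ]
  exact S12661.result s.Y s.δ hS r (Mod E s) (rankMod hE s) _ _ _ _ (bdl hX hE s).hP _ (bdl hX hE s).hPs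
    (bdl hX hE s).hδ L hL σ t.Y i hσ _ B'.π f' hsq v hv k α hα _ hg γ hγ γ' hγ'' ζ
    (fun m d => congrFun (hζ' m) d) j

/-- The class `c_j`. -/
noncomputable def chernCl (j : Fin (r + 1)) : Bivar.OpCl ((j : ℕ) : ℤ) X δX where
  op := op hX hE hr j
  push := fun s t h _ w k => push' hX hE hr j s t h w k
  pull := fun s t h _ c hc w k => pull' hX hE hr j s t h c hc w k
  gysin := fun s t i _ w L hL σ hσ k => gysin' hX hE hr j s t i w L hL σ hσ k


/-- Suppose E is an O_X-module that is finite locally free, of rank r. Then for 0 ≤ p ≤ r the rule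
assigning to g : Y → X locally of finite type the operation c_p(g^*E) ∩ − : CH_k(Y) → CH_{k−p}(Y) is
a bivariant class of degree p, the p-th Chern class of E. Stated through the characterisation of the
Chern class operations by the projective bundle: there is a family of operational classes c_j ∈
A^j(X), j ≥ 0, with c_0 = 1 and c_j = 0 for j > r (a convention for j > r), such that on every test
scheme g : Y → X (with induced dimension function), for every projective bundle (π : P → Y, O_P(1),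
π^*g^*E → O_P(1)) of g^*E with its induced dimension function and every k-cycle α on Y, any cycles
ζ_0 = α, ζ_1, …, ζ_r representing the classes c_j ∩ [α] satisfy Σ_{i=0}^r (−1)^i c_1(O_P(1))^i ∩
π^*(ζ_{r−i}) ∼_rat 0 on P for every nowhere-zero choice of rational sections of O_P(1) (the binder
Bivar.IsChernClasses, which also records the rank of E). Here a pair (X, δ) with Cyc.IsSetup plays
the role of a scheme locally of finite type over the base (S, δ) (X locally Noetherian with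
universally catenary local rings, δ a dimension function), Cyc.DeltaCompat records that a dimension
function is the induced one, and bivariant classes are taken in the operational sense of the
prelude: additive operations on the Chow groups CH_k (k-cycles modulo rational equivalence) of all
test schemes, compatible with proper pushforward, flat pullback and the Gysin maps of zero schemes
of sections of invertible modules in representative form (Bivar.Cl for A^p(X → Y), Bivar.OpCl for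
A^p(X)). -/
theorem result (X : Scheme.{u}) (δX : X → ℤ) (hX : Cyc.IsSetup X δX) (E : X.Modules) (r : ℕ) (hE : FlatMod.IsFinLocFreeOfRank r E) : ∃ c : (j : ℕ) → Bivar.OpCl (j : ℤ) X δX, Bivar.IsChernClasses E r c := by
  classical
  let c : (j : ℕ) → Bivar.OpCl (j : ℤ) X δX := fun j => match j with
    | 0 => Bivar.OpCl.one X δX
    | (m + 1) => if h : m + 1 ≤ r then chernCl hX hE (by omega) ⟨m + 1, by omega⟩ else 0
  refine ⟨c, hE, rfl, fun j hj => ?_, ?_⟩
  · obtain ⟨m, rfl⟩ : ∃ m, j = m + 1 := ⟨j - 1, by omega⟩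
    exact dif_neg (by omega)
  intro s P π O1 q hP δP hδP k α hα ζ hζ0 hζ hζc
  have hY := setup hX s
  haveI := hY.1
  rcases Nat.eq_zero_or_pos r with rfl | hr
  · haveI : IsEmpty P := ⟨fun x => by
      obtain ⟨U, f, hxU, hf⟩ := Desc44.ProjBundle.exists_frame_of_rank (rankMod hE s) (π x)
      exact Desc44.ProjBundle.not_mem_of_frame_zero π q hP (e := f) hf x hxU⟩
    refine ⟨hζ0, hζ, fun t ht β hβ => ?_⟩
    have hb : (β : AlgebraicCycle P ℤ) = 0 := by ext y; exact isEmptyElim y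
    rw [hb]
    exact ⟨PEmpty, (fun i => i.elim), (fun i => i.elim), fun i => i.elim, fun i => i.elim,
      fun x => isEmptyElim x, fun x => isEmptyElim x⟩
  have hEY := rankMod hE s
  have hflf := CycLib.ChowOp.isFinLocFree_of_rank hEY
  haveI : (Mod E s).IsQuasicoherent := PerfTri.Betti.isQuasicoherent_of_isFinLocFree hflf
  haveI : IsProper π := ChernUniq88.isProper_of_isProjBundle hflf hP
  have hPs : Cyc.IsSetup P δP := by
    obtain ⟨δ', h', hc'⟩ := CycLib.VecBdl.exists_setup π hY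
    rwa [CycLib.deltaCompat_eq hδP hc']
  let B : Bdl (Mod E s) s.δ := ⟨P, π, O1, q, hP, δP, hPs, hδP⟩
  haveI := hPs.1
  obtain ⟨γ, hγ⟩ := exists_cap B hY hr hEY α hα
  obtain ⟨L⟩ := CycLib.ProjBdl.exists_cov_of_isProjBundle hP hr hEY
  have hsame : ∀ i : Fin (r + 1), Cyc.RatEquiv s.δ (k - ((i : ℕ) : ℤ)) (ζ i) (γ i) := by
    intro i
    refine Fin.cases ?_ (fun m => ?_) i
    · rw [hζ0, hγ.1]; exact ratEquiv_refl hY.2.2 _ α
    · have h1 := hζc m.succ
      have hc' : c ((m.succ : Fin (r + 1)) : ℕ) = chernCl hX hE hr m.succ := by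
        show c ((m : ℕ) + 1) = _
        exact dif_pos (show (m : ℕ) + 1 ≤ r by omega)
      rw [hc'] at h1
      have h2 := h1.symm.trans (op_cl' hX hE hr m.succ s k α hα (Iso.refl _) hEY B γ hγ (hγ.2.1 _))
      rw [ChowOps.cl, ChowOps.cl, ← sub_eq_zero, ← map_sub] at h2
      have h3 := (QuotientAddGroup.eq_zero_iff _).1 h2
      refine (CycLib.Dev.ratEquivZero_iff hY.2.2 _ _).2 ?_
      exact (AddSubgroup.closure_le (K := (prin hY.2.2 (k - (((m.succ : Fin (r + 1)) : ℕ) : ℤ))).comap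
        ({ toFun := fun a => ⇑a.1, map_zero' := rfl, map_add' := fun _ _ => rfl } :
          ↥(ChowOps.zk s.Y s.δ (k - (((m.succ : Fin (r + 1)) : ℕ) : ℤ))) →+ (s.Y → ℤ)))).2
        (fun a ha => (CycLib.Dev.ratEquivZero_iff hY.2.2 _ _).1 ha) h3
  exact CycLib.ProjBdl.isChernCap_congr L hr hY hPs hδP
    (Desc44.ProjBundle.isInvertible_of_rank_one hP.invertible) hγ hζ0 hζ hsame

end Groth.Agent.S17571
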