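import Groth.Statements.S17572
import Groth.Agent.Bivar35.ProjBdl
import Groth.Agent.S12658
import Groth.Agent.S17576
import Groth.Agent.CycLib.ProjBdl.BundleBC

set_option autoImplicit false
universe u
open CategoryTheory AlgebraicGeometry
open Bivar

namespace Groth.Agent.S17572

/-- Fix a finite locally free O_X-module E whose rank is r. Let π : P → X denote the projective bundle
attached to E and put ξ := c_1(O_P(1)); then the c_j(E) ∩ α form the only sequence of classes α_j,
starting with α_0 = α, such that the alternating sum, taken over indices i from 0 up to r, of the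
terms (−1)^i ξ^i ∩ π^*α_{r−i} vanishes in CH_*(P). Consequently two families of operational classes
c, c' : ℕ → A^*(X) which both are Chern classes of E in the sense of the binder Bivar.IsChernClasses
E r (c_0 = 1, c_j = 0 for j > r, and on every test scheme g : Y → X, every projective bundle of g^*E
with induced dimension function and every k-cycle α on Y, all representatives of the c_j ∩ [α]
satisfy that relation up to rational equivalence on P) coincide. Here a pair (X, δ) with Cyc.IsSetup
plays the role of a scheme locally of finite type over the base (S, δ) (X locally Noetherian with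
universally catenary local rings, δ a dimension function), Cyc.DeltaCompat records that a dimension
function is the induced one, and bivariant classes are taken in the operational sense of the
prelude: additive operations on the Chow groups CH_k (k-cycles modulo rational equivalence) of all
test schemes, compatible with proper pushforward, flat pullback and the Gysin maps of zero schemes
of sections of invertible modules in representative form (Bivar.Cl for A^p(X → Y), Bivar.OpCl for
A^p(X)). -/
theorem result (X : Scheme.{u}) (δX : X → ℤ) (hX : Cyc.IsSetup X δX) (E : X.Modules) (r : ℕ) (hE : FlatMod.IsFinLocFreeOfRank r E) (c c' : (j : ℕ) → Bivar.OpCl (j : ℤ) X δX) (hc : Bivar.IsChernClasses E r c) (hc' : Bivar.IsChernClasses E r c') : c = c' := by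
  classical
  obtain ⟨-, h0, hbig, hrel⟩ := hc
  obtain ⟨-, h0', hbig', hrel'⟩ := hc'
  funext j
  by_cases hj : r < j
  · rw [hbig j hj, hbig' j hj]
  refine Bivar.OpCl.ext (funext fun s => funext fun k => AddMonoidHom.ext fun x => ?_)
  obtain ⟨α, hα, rfl⟩ := Bivar.exists_rep x
  haveI := s.lft
  have hY : Cyc.IsSetup s.Y s.δ := S17576.isSetup_of_compat s.g hX s.compat
  have hE' := CycLib.ProjBdl.isFinLocFreeOfRank_pullback s.g hE
  obtain ⟨P, p, O1, q, hp, hP⟩ := Bivar35.exists_isProjBundle hE'
  haveI := hp
  obtain ⟨δP, hPs, hδ⟩ := S17576.exists_setup p hY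
  have key : ∀ (d : (i : ℕ) → Bivar.OpCl (i : ℤ) X δX), d 0 = Bivar.OpCl.one X δX →
      ∃ (ζ : Fin (r + 1) → AlgebraicCycle s.Y ℤ) (hζ : ∀ i : Fin (r + 1), ζ i ∈ Cyc.Zk s.Y s.δ (k - ((i : ℕ) : ℤ))),
        ζ 0 = α ∧ ∀ i : Fin (r + 1), (d (i : ℕ)).op s k (ChowOps.cl α hα) = ChowOps.cl (ζ i) (hζ i) := by
    intro d hd
    choose z hz ez using fun i : Fin (r + 1) => Bivar.exists_rep ((d (i : ℕ)).op s k (ChowOps.cl α hα))
    have h00 : α ∈ Cyc.Zk s.Y s.δ (k - (((0 : Fin (r + 1)) : ℕ) : ℤ)) := by simpa using hα
    refine ⟨fun i => if i = 0 then α else z i, fun i => ?_, if_pos rfl, fun i => ?_⟩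
    · by_cases hi : i = 0
      · subst hi; simpa using hα
      · simpa [hi] using hz i
    · by_cases hi : i = 0
      · subst hi
        have e1 : (d ((0 : Fin (r + 1)) : ℕ)).op s k (ChowOps.cl α hα) =
            (Bivar.OpCl.one X δX).op s k (ChowOps.cl α hα) :=
          congrArg (fun c : Bivar.OpCl ((0 : ℕ) : ℤ) X δX => c.op s k (ChowOps.cl α hα)) hd
        refine e1.trans ?_
        refine (Bivar.chCast_cl s.Y s.δ (sub_zero k).symm α hα).trans (Bivar.cl_congr ?_ _ _)
        simp
      · exact (ez i).symm.trans (Bivar.cl_congr (by simp [hi]) _ _)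
  obtain ⟨ζ, hζ, hζ0, hζe⟩ := key c h0
  obtain ⟨ζ', hζ', hζ0', hζe'⟩ := key c' h0'
  have h1 := hrel s P p O1 q hP δP hδ k α hα ζ hζ0 hζ hζe
  have h2 := hrel' s P p O1 q hP δP hδ k α hα ζ' hζ0' hζ' hζe'
  haveI := hY.1
  have hrefl : Cyc.RatEquiv s.δ k α α := by
    rw [Cyc.RatEquiv, sub_self, CycLib.Dev.ratEquivZero_iff hY.2.2]
    exact zero_mem (CycLib.Dev.prin hY.2.2 k)
  let i : Fin (r + 1) := ⟨j, by omega⟩
  have h3 := S12658.result s.Y s.δ hY r _ hE' P p O1 q hP δP hPs hδ k α α hα hα hrefl ζ ζ' h1 h2 i
  refine (hζe i).trans (Eq.trans ?_ (hζe' i).symm)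
  exact QuotientAddGroup.eq_iff_sub_mem.2 (AddSubgroup.subset_closure h3)

end Groth.Agent.S17572
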