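import Groth.Statements.S17575
import Groth.Agent.S17573
import Groth.Agent.S17576
import Groth.Agent.CycLib.DevClosed
import Groth.Agent.CycLib.DevChange

set_option autoImplicit false
universe u
open CategoryTheory AlgebraicGeometry
open Bivar

namespace Groth.Agent.S17575

set_option linter.style.haveILetI false
set_option linter.unusedVariables false

open CycLib CycLib.Dev Groth.Agent.PullStalk.Basic Groth.Agent.PullStalk.Sky Groth.Agent.PullStalk.Exact

/-- `Deep m p`: there is a chain of `m` proper generisations starting from `p`. -/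
def Deep {X : Scheme.{u}} : ℕ → X → Prop
  | 0, _ => True
  | m + 1, p => ∃ q : X, q ⤳ p ∧ q ≠ p ∧ Deep m q

theorem exists_series {X : Scheme.{u}} : ∀ (m : ℕ) (p : X), Deep m p →
    ∃ l : LTSeries (TopologicalSpace.IrreducibleCloseds X), l.length = m ∧
      l.head.1 = closure {p}
  | 0, p, _ => ⟨RelSeries.singleton _ ⟨closure {p}, isIrreducible_singleton.closure, isClosed_closure⟩, rfl, rfl⟩
  | m + 1, p, ⟨q, hqp, hne, hq⟩ => by
    obtain ⟨l, hl, hh⟩ := exists_series m q hq
    let P : TopologicalSpace.IrreducibleCloseds X := ⟨closure {p}, isIrreducible_singleton.closure, isClosed_closure⟩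
    have hlt : P < l.head := by
      refine lt_of_le_of_ne ?_ fun e => hne ?_
      · show closure {p} ⊆ l.head.1
        rw [hh]
        exact closure_minimal (Set.singleton_subset_iff.2 (specializes_iff_mem_closure.1 hqp)) isClosed_closure
      · have e' : closure {p} = closure {q} := (congrArg (fun s => s.1) e).trans hh
        exact (hqp.antisymm (specializes_iff_mem_closure.2 (e' ▸ subset_closure rfl))).eq
    exact ⟨l.cons P hlt, by simp [hl], rfl⟩

theorem sp_self_of_eq {X : Scheme.{u}} (L : X.Modules) (t : (q : X) → L.presheaf.stalk q) {p q : X} (h : p ⤳ q)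
    (e : p = q) : Ref1.sp L h (t q) = t p := by
  subst e
  obtain ⟨U, hU, m, hm⟩ := exists_germM_eq L p (t p)
  rw [← hm, Ref1.sp_germ]

theorem exists_step {X Y : Scheme.{u}} (g : Y ⟶ X) {δ : Y → ℤ} (hY : Cyc.IsSetup Y δ) (L : X.Modules)
    (hL : PicF.IsInvertible L) (k : ℤ) (α : AlgebraicCycle Y ℤ) (hα : α ∈ Cyc.Zk Y δ k) (j : ℕ)
    (hD : ∀ ξ, α ξ ≠ 0 → Deep j (g ξ)) :
    ∃ (v : (ξ : Y) → Cyc.secFibre ((Scheme.Modules.pullback g).obj L) ξ) (γ : AlgebraicCycle Y ℤ)
      (_ : γ ∈ Cyc.Zk Y δ (k - 1)), (∀ ξ, v ξ ≠ 0) ∧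
      ⇑γ = Cyc.c1CapFun δ ((Scheme.Modules.pullback g).obj L) ⇑α v ∧
      ∀ x, γ x ≠ 0 → Deep (j + 1) (g x) := by
  classical
  haveI := hY.1
  have hM := PicCl.isInvertible_pullback g hL
  choose t ht using fun q : X => exists_isBas hL q
  let ρ : (ξ : Y) → ((Scheme.Modules.pullback g).obj L).presheaf.stalk ξ := fun ξ => unitStalkHom g L ξ (t (g ξ))
  have hρ : ∀ ξ, IsBas (ρ ξ) := fun ξ => isBas_unit g hL hM ξ (ht (g ξ))
  let v : (ξ : Y) → Cyc.secFibre ((Scheme.Modules.pullback g).obj L) ξ := fun ξ => Submodule.Quotient.mk (ρ ξ)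
  have hv : ∀ ξ, v ξ ≠ 0 := fun ξ => S17573.mk_ne_zero_of_isBas (hρ ξ)
  obtain ⟨γ, hγ, hγ'⟩ := S17573.exists_c1_cycle hY hM α hα v hv
  refine ⟨v, γ, hγ, hv, hγ', fun x hx => ?_⟩
  rw [hγ'] at hx
  obtain ⟨ξ, hξ⟩ : ∃ ξ, α ξ * Cyc.secDivFun δ ((Scheme.Modules.pullback g).obj L) ξ (v ξ) x ≠ 0 := by
    by_contra hc
    push Not at hc
    exact hx (finsum_eq_zero_of_forall_eq_zero hc)
  by_cases h : ξ ⤳ x ∧ δ x + 1 = δ ξ
  swap
  · exact absurd (by rw [Cyc.secDivFun, dif_neg h, mul_zero]) hξ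
  obtain ⟨hsp, h1⟩ := h
  refine ⟨g ξ, hsp.map g.continuous, fun e => hξ ?_, hD ξ (left_ne_zero_of_mul hξ)⟩
  have e1 : Ref1.sp ((Scheme.Modules.pullback g).obj L) hsp (ρ x) = (1 : Y.presheaf.stalk ξ) • ρ ξ := by
    rw [one_smul]
    show Ref1.sp _ hsp (unitStalkHom g L x (t (g x))) = unitStalkHom g L ξ (t (g ξ))
    rw [sp_unit g L hsp, sp_self_of_eq L t (hsp.map g.continuous) e]
  rw [secDivFun_of_bas hY.2.2 hM hsp rfl h1.symm (hρ ξ) (hρ x) e1, map_one, divFun_one' hY.2.2]
  simp


/-- Let X be a scheme which has an ample invertible module (in particular X is quasi-compact) and whose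
dimension (the topological Krull dimension, not the δ-dimension) is at most d. Then for any
invertible modules L_0, …, L_d on X the composite c_1(L_d) ∘ ⋯ ∘ c_1(L_0) vanishes in A^{d+1}(X):
for every test scheme g : Y → X locally of finite type (with induced dimension function), every x_0
∈ CH_k(Y) and every chain x_{j+1} = c_1(L_j) ∩ x_j ∈ CH_{k−j−1}(Y), j = 0, …, d, one has x_{d+1} =
0. Here each c_1(L_j) ∈ A^1(X) is an operational class given through the binder Bivar.IsC1Class, and
consecutive weights k − (j + 1) and k − j − 1 are matched by the transport Bivar.chCast. (The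
published statement takes the dimension equal to d; dimension at most d follows at once, the
operations being additive.) Here a pair (X, δ) with Cyc.IsSetup plays the role of a scheme locally
of finite type over the base (S, δ) (X locally Noetherian with universally catenary local rings, δ a
dimension function), Cyc.DeltaCompat records that a dimension function is the induced one, and
bivariant classes are taken in the operational sense of the prelude: additive operations on the Chow
groups CH_k (k-cycles modulo rational equivalence) of all test schemes, compatible with proper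
pushforward, flat pullback and the Gysin maps of zero schemes of sections of invertible modules in
representative form (Bivar.Cl for A^p(X → Y), Bivar.OpCl for A^p(X)). -/
theorem result (X : Scheme.{u}) (δX : X → ℤ) (hX : Cyc.IsSetup X δX) (A : X.Modules) (hA : CohB1.IsAmple A) (d : ℕ) (hd : topologicalKrullDim X ≤ (d : WithBot ℕ∞)) (L : ℕ → X.Modules) (c : ℕ → Bivar.OpCl 1 X δX) (hc : ∀ j, j ≤ d → Bivar.IsC1Class (L j) (c j)) (s : Bivar.OSq X δX) (k : ℤ) (x : (j : ℕ) → ChowOps.CH s.Y s.δ (k - (j : ℤ))) (hx : ∀ j, j ≤ d → (c j).op s (k - (j : ℤ)) (x j) = Bivar.chCast s.Y s.δ (((congrArg (fun t : ℤ => k - t) (Nat.cast_succ j)).trans (sub_sub k (j : ℤ) 1).symm)) (x (j + 1))) : x (d + 1) = 0 := by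
  haveI := s.lft
  have hY : Cyc.IsSetup s.Y s.δ := S17576.isSetup_of_compat s.g hX s.compat
  have key : ∀ j, j ≤ d + 1 → ∃ (α : AlgebraicCycle s.Y ℤ) (hα : α ∈ Cyc.Zk s.Y s.δ (k - (j : ℤ))),
      x j = ChowOps.cl α hα ∧ ∀ ξ, α ξ ≠ 0 → Deep j (s.g ξ) := by
    intro j
    induction j with
    | zero =>
      intro _
      obtain ⟨α, hα, e⟩ := Bivar.exists_rep (x 0)
      exact ⟨α, hα, e.symm, fun ξ _ => trivial⟩
    | succ j ih =>
      intro hj
      have hjd : j ≤ d := by omega
      obtain ⟨α, hα, e, hD⟩ := ih (by omega)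
      obtain ⟨v, γ, hγ, hv, hγ', hD'⟩ := exists_step s.g hY (L j) (hc j hjd).1 _ α hα j hD
      have e' := (hc j hjd).2 s _ α hα v hv γ hγ' hγ
      rw [← e, hx j hjd] at e'
      obtain ⟨β, hβ, eβ⟩ := Bivar.exists_rep (x (j + 1))
      have hγ2 : γ ∈ Cyc.Zk s.Y s.δ (k - ((j + 1 : ℕ) : ℤ)) := by
        rw [show k - ((j + 1 : ℕ) : ℤ) = k - (j : ℤ) - 1 by push_cast; ring]
        exact hγ
      refine ⟨γ, hγ2, ?_, hD'⟩
      have h3 : ∀ (l : ℤ) (el : k - ((j + 1 : ℕ) : ℤ) = l) (hl : γ ∈ Cyc.Zk s.Y s.δ l),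
          Bivar.chCast s.Y s.δ el (x (j + 1)) = ChowOps.cl γ hl → x (j + 1) = ChowOps.cl γ hγ2 := by
        intro l el hl hh
        subst el
        exact hh
      exact h3 _ _ hγ e'
  obtain ⟨α, hα, e, hD⟩ := key (d + 1) le_rfl
  rw [e, ← Bivar.cl_zero]
  refine Bivar.cl_congr ?_ _ _
  ext ξ
  by_contra hne
  obtain ⟨l, hl, -⟩ := exists_series (d + 1) _ (hD ξ hne)
  have h2 : ((d + 1 : ℕ) : WithBot ℕ∞) ≤ (d : WithBot ℕ∞) := by
    rw [← hl]
    exact (Order.LTSeries.length_le_krullDim l).trans hd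
  norm_cast at h2
  omega

end Groth.Agent.S17575
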