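import Groth.Statements.S17577
import Groth.Agent.CycLib.ClopenCycle
import Groth.Agent.CycLib.ClosedPt
import Groth.Agent.S17576

set_option autoImplicit false
universe u
open CategoryTheory AlgebraicGeometry
open Bivar

namespace Groth.Agent.S17577

set_option linter.style.haveILetI false
set_option maxHeartbeats 1000000

open CycLib CycLib.Clopen CategoryTheory.Limits

theorem surj_residueFieldMap_comp {A B C : Scheme.{u}} (f : A ⟶ B) (g : B ⟶ C) (x : A)
    (h₁ : Function.Surjective (f.residueFieldMap x).hom) (h₂ : Function.Surjective (g.residueFieldMap (f x)).hom) :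
    Function.Surjective ((f ≫ g).residueFieldMap x).hom := by
  intro z
  obtain ⟨b, rfl⟩ := h₁ z
  obtain ⟨c, rfl⟩ := h₂ b
  exact ⟨c, by rw [Scheme.residueFieldMap_comp]; rfl⟩

theorem surj_residueFieldMap_of_isIso_stalkMap {A B : Scheme.{u}} (f : A ⟶ B) (x : A) [IsIso (f.stalkMap x)] :
    Function.Surjective (f.residueFieldMap x).hom := by
  intro z
  obtain ⟨c, rfl⟩ := IsLocalRing.residue_surjective z
  obtain ⟨b, rfl⟩ := (ConcreteCategory.bijective_of_isIso (f.stalkMap x)).2 c
  exact ⟨IsLocalRing.residue _ b, rfl⟩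


/-- (3) ⇒ (1): let f : X → Y be locally of finite type and c ∈ A^p(X → Y) a bivariant class. Suppose
that for every cartesian square whose test scheme Y' is integral (Y' → Y locally of finite type, X'
= Y' ×_Y X) there is a proper birational morphism Y'' → Y' (Y'' irreducible, not necessarily
reduced, its generic point mapping to the generic point of Y' with an isomorphism of local rings
there) such that c ∩ [Y''] = 0 in CH_*(X''), where X'' = Y'' ×_Y X and [Y''] is the cycle with
coefficient 1 at the generic point of Y'' and 0 elsewhere. Then c = 0. Taking Y'' = Y' shows in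
particular that c vanishes as soon as c ∩ [Y'] = 0 for every such square with Y' integral. The
squares are the prelude's Bivar.Sq (any fibre products), the second one pasted onto the first. Here
a pair (X, δ) with Cyc.IsSetup plays the role of a scheme locally of finite type over the base (S,
δ) (X locally Noetherian with universally catenary local rings, δ a dimension function),
Cyc.DeltaCompat records that a dimension function is the induced one, and bivariant classes are
taken in the operational sense of the prelude: additive operations on the Chow groups CH_k (k-cycles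
modulo rational equivalence) of all test schemes, compatible with proper pushforward, flat pullback
and the Gysin maps of zero schemes of sections of invertible modules in representative form
(Bivar.Cl for A^p(X → Y), Bivar.OpCl for A^p(X)). -/
theorem result (X Y : Scheme.{u}) (δX : X → ℤ) (δY : Y → ℤ) (hX : Cyc.IsSetup X δX) (hY : Cyc.IsSetup Y δY) (f : X ⟶ Y) [LocallyOfFiniteType f] (hδ : Cyc.DeltaCompat f δX δY) (p : ℤ) (c : Bivar.Cl p f δX δY) (h3 : ∀ (s : Bivar.Sq f δX δY) [AlgebraicGeometry.IsIntegral s.Y'], ∃ (t : Bivar.Sq s.f' s.δX' s.δY') (_ : IrreducibleSpace t.Y') (_ : IsProper t.g), t.g (genericPoint t.Y') = genericPoint s.Y' ∧ IsIso (t.g.stalkMap (genericPoint t.Y')) ∧ ∀ (k : ℤ) (α : AlgebraicCycle t.Y' ℤ) (hα : α ∈ Cyc.Zk t.Y' t.δY' k), α (genericPoint t.Y') = 1 → (∀ y : t.Y', y ≠ genericPoint t.Y' → α y = 0) → c.op (s.paste t) k (ChowOps.cl α hα) = 0) : c = 0 := by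
  classical
  refine Bivar.Cl.ext (funext fun s => funext fun k => AddMonoidHom.ext fun z => ?_)
  obtain ⟨α, hα, rfl⟩ := Bivar.exists_rep z
  show c.op s k (ChowOps.cl α hα) = 0
  haveI := s.lft
  have hsY : Cyc.IsSetup s.Y' s.δY' := S17576.isSetup_of_compat s.g hY s.compatY
  haveI : LocallyOfFiniteType s.g' :=
    MorphismProperty.of_isPullback (P := @LocallyOfFiniteType) s.isPullback inferInstance
  have hsX : Cyc.IsSetup s.X' s.δX' := S17576.isSetup_of_compat s.g' hX s.compatX
  haveI := hsY.1
  let J := {x : s.Y' // α x ≠ 0}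
  choose Z hZint i hicl hgen hrange using fun x : J => CycLib.exists_closure_subscheme x.1
  haveI := hZint
  haveI := hicl
  choose δA hA hAc using fun x : J => S17576.exists_setup (i x) hsY
  choose δB hB hBc using fun x : J => S17576.exists_setup (Limits.pullback.snd (i x) s.f') hsX
  let r : J → Bivar.Sq s.f' s.δX' s.δY' := fun x =>
    ⟨Z x, Limits.pullback (i x) s.f', i x, Limits.pullback.fst (i x) s.f', Limits.pullback.snd (i x) s.f',
      IsPullback.of_hasPullback _ _, inferInstance, δA x, δB x, hAc x, hBc x⟩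
  choose t htirr htprop htgen htiso htzero using fun x : J =>
    @h3 (s.paste (r x)) (hZint x)
  let W : J → Scheme.{u} := fun x => (t x).Y'
  let a : ∀ x, W x ⟶ s.Y' := fun x => (t x).g ≫ i x
  let η : ∀ x, W x := fun x => @genericPoint (W x) _ _ (htirr x)
  have haη : ∀ x, a x (η x) = x.1 := fun x => by
    show i x ((t x).g (η x)) = x.1
    rw [htgen x]
    exact hgen x
  have haP : ∀ x, IsProper (a x) := fun x => by
    haveI := htprop x
    show IsProper ((t x).g ≫ i x)
    infer_instance
  have hasurj : ∀ x, Function.Surjective ((a x).residueFieldMap (η x)).hom := fun x => by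
    haveI := htiso x
    exact surj_residueFieldMap_comp _ _ _ (surj_residueFieldMap_of_isIso_stalkMap (t x).g (η x))
      (S17576.surjective_residueFieldMap_preimmersion (i x) _)
  let h : ∐ W ⟶ s.Y' := Limits.Sigma.desc a
  let e : ∀ x, W x ⟶ ∐ W := fun x => Limits.Sigma.ι W x
  haveI : ∀ x, IsOpenImmersion (e x) := fun x => inferInstance
  have heh : ∀ x, e x ≫ h = a x := fun x => Limits.Sigma.ι_desc _ _
  have hdis : ∀ x y v w, e x v = e y w → x = y := fun x y v w hv =>
    congrArg Sigma.fst ((sigmaι_eq_iff W x y v w).1 hv)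
  have hcov : ∀ v, ∃ x w, e x w = v := fun v => by
    obtain ⟨⟨x, w⟩, hw⟩ := (sigmaMk W).surjective v
    exact ⟨x, w, (sigmaMk_mk W x w).symm.trans hw⟩
  have hhe : ∀ x w, h (e x w) = a x w := fun x w => by
    rw [← Scheme.Hom.comp_apply, heh]
  have hlf : ∀ y : s.Y', ∃ U : Set s.Y', IsOpen U ∧ y ∈ U ∧ {x | ∃ w, h (e x w) ∈ U}.Finite := by
    intro y
    obtain ⟨U, hU, hfin⟩ := α.supportLocallyFiniteWithinDomain' y trivial
    obtain ⟨U', hU'U, hU'o, hyU'⟩ := mem_nhds_iff.1 hU
    refine ⟨U', hU'o, hyU', (hfin.preimage Subtype.val_injective.injOn).subset fun x hx => ?_⟩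
    obtain ⟨w, hw⟩ := hx
    rw [hhe] at hw
    have hsp : x.1 ⤳ a x w := (hrange x _).1 ⟨(t x).g w, rfl⟩
    exact ⟨hU'U (hsp.mem_open hU'o hw), x.2⟩
  haveI : IsProper h := isProper_of_pieces e h hdis hcov (fun x => (heh x).symm ▸ haP x) hlf
  obtain ⟨δV, hV, hVc⟩ := S17576.exists_setup h hsY
  obtain ⟨δXV, hXV, hXVc⟩ := S17576.exists_setup (Limits.pullback.snd h s.f') hsX
  let q : Bivar.Sq s.f' s.δX' s.δY' :=
    ⟨∐ W, Limits.pullback h s.f', h, Limits.pullback.fst h s.f', Limits.pullback.snd h s.f',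
      IsPullback.of_hasPullback _ _, inferInstance, δV, δXV, hVc, hXVc⟩
  -- the cycle on the disjoint union
  have hσinj : ∀ x y v, e x v = e y (η y) → x = y ∧ v ≍ η y := fun x y v hv => by
    obtain rfl := hdis x y v _ hv
    exact ⟨rfl, heq_of_eq ((e x).isOpenEmbedding.injective hv)⟩
  let σ : J → ↥(∐ W) := fun x => e x (η x)
  let g : AlgebraicCycle (∐ W) ℤ :=
    { toFun := fun v => if v ∈ Set.range σ then α (h v) else 0
      supportWithinDomain' := fun _ _ => trivial
      supportLocallyFiniteWithinDomain' := fun v _ => by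
        obtain ⟨x, w, rfl⟩ := hcov v
        refine ⟨Set.range (e x), (e x).isOpenEmbedding.isOpen_range.mem_nhds ⟨w, rfl⟩,
          (Set.finite_singleton (σ x)).subset fun v hv => ?_⟩
        obtain ⟨⟨w', rfl⟩, hv0⟩ := hv
        have hm : e x w' ∈ Set.range σ := by
          by_contra hn
          exact hv0 (if_neg hn)
        obtain ⟨y, hy⟩ := hm
        obtain rfl := hdis y x (η y) w' hy
        exact hy.symm }
  have hgv : ∀ v, g v = if v ∈ Set.range σ then α (h v) else 0 := fun v => rfl
  have hσh : ∀ x, h (σ x) = x.1 := fun x => (hhe x _).trans (haη x)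
  have hσsurj : ∀ x, Function.Surjective (h.residueFieldMap (σ x)).hom := fun x =>
    S17576.surjective_residueFieldMap_fst (e x) h (η x)
      (S17576.surjective_residueFieldMap_of_eq (heh x) (η x) (hasurj x))
  have hσd : ∀ x, δV (σ x) = s.δY' x.1 := fun x => by
    rw [CycLib.delta_eq_of_surjective h hVc _ (hσsurj x), hσh]
  have hg : g ∈ Cyc.Zk (∐ W) δV k := fun v hv => by
    rw [hgv]
    split_ifs with hm
    · obtain ⟨x, rfl⟩ := hm
      rw [hσh]
      exact hα _ (by rw [← hσd]; exact hv)
    · rfl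
  have hmap : AlgebraicCycle.map h δV s.δY' g = α := by
    ext y
    by_cases hy : α y = 0
    · rw [CycLib.map_apply_eq_sum h δV s.δY' g y ∅ (fun v hv hv0 => absurd (by
        rw [hgv, hv]; simp [hy]) hv0), hy]
      simp
    · rw [CycLib.map_apply_eq_sum h δV s.δY' g y {σ ⟨y, hy⟩} (fun v hv hv0 => by
        rw [Finset.mem_singleton]
        rw [hgv] at hv0
        split_ifs at hv0 with hm
        · obtain ⟨x, rfl⟩ := hm
          rw [hσh] at hv
          exact congrArg σ (Subtype.ext hv)
        · exact absurd rfl hv0)]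
      rw [Finset.filter_singleton, if_pos (hσh ⟨y, hy⟩), Finset.sum_singleton, AlgebraicCycle.mapCoeff,
        if_pos (show δV (σ ⟨y, hy⟩) = s.δY' (h (σ ⟨y, hy⟩)) by rw [hσh, hσd]),
        CycLib.residueDegree_eq_one h _ (hσsurj _), Nat.cast_one, mul_one, hgv, if_pos ⟨_, rfl⟩, hσh]
  -- the class vanishes on the disjoint union
  have hvanish : c.op (s.paste q) k (ChowOps.cl g hg) = 0 := by
    obtain ⟨β, hβ, hβeq⟩ := Bivar.exists_rep (c.op (s.paste q) k (ChowOps.cl g hg))
    rw [← hβeq]
    have hwe : ∀ x, ((t x).f' ≫ e x) ≫ h = ((t x).g' ≫ (r x).g') ≫ s.f' := fun x => by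
      rw [Category.assoc, heh, ((r x).paste (t x)).isPullback.w]
    let e' : ∀ x, (t x).X' ⟶ Limits.pullback h s.f' := fun x => Limits.pullback.lift _ _ (hwe x)
    have he1 : ∀ x, e' x ≫ q.f' = (t x).f' ≫ e x := fun x => Limits.pullback.lift_fst _ _ _
    have he2 : ∀ x, e' x ≫ q.g' = (t x).g' ≫ (r x).g' := fun x => Limits.pullback.lift_snd _ _ _
    have hpb : ∀ x, IsPullback (t x).f' (e' x) (e x) q.f' := fun x => by
      refine IsPullback.of_bot ?_ (he1 x).symm q.isPullback
      rw [he2 x, show e x ≫ q.g = ((r x).paste (t x)).g from heh x]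
      exact ((r x).paste (t x)).isPullback
    haveI he'oi : ∀ x, IsOpenImmersion (e' x) := fun x =>
      MorphismProperty.of_isPullback (P := @IsOpenImmersion) (hpb x) inferInstance
    have hdis' : ∀ x y v w, e' x v = e' y w → x = y := fun x y v w hv =>
      hdis x y ((t x).f' v) ((t y).f' w) (by
        have h1 := congrArg q.f' hv
        rw [← Scheme.Hom.comp_apply, ← Scheme.Hom.comp_apply, he1, he1] at h1
        exact h1)
    have hcov' : ∀ v, ∃ x w, e' x w = v := fun v => by
      obtain ⟨x, w, hw⟩ := hcov (q.f' v)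
      obtain ⟨p, -, hp⟩ := Scheme.exists_preimage_of_isPullback (hpb x) w v hw
      exact ⟨x, p, hp⟩
    haveI := hXV.1
    rw [cl_eq_zero_iff hXV.2.2 β hβ]
    refine mem_prin_of_pieces e' hdis' hcov' hXV.2.2 _ fun x => ?_
    haveI : LocallyOfFiniteType (t x).g := (t x).lft
    haveI : Flat (e x) := inferInstance
    haveI : Flat (e' x) := inferInstance
    have hWc : Cyc.DeltaCompat (a x) (t x).δY' s.δY' := ((r x).paste (t x)).compatY
    have hXc : Cyc.DeltaCompat ((t x).g' ≫ (r x).g') (t x).δX' s.δX' := ((r x).paste (t x)).compatX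
    have hdY : (t x).δY' = fun w => δV (e x w) := by
      refine CycLib.Clopen.deltaCompat_unique hWc ?_
      rw [← heh x]
      exact deltaCompat_comp _ _ _ _ _ (CycLib.deltaCompat_preimmersion (e x) δV) hVc
    have hdX : (t x).δX' = fun w => δXV (e' x w) := by
      refine CycLib.Clopen.deltaCompat_unique hXc ?_
      rw [← he2 x]
      exact deltaCompat_comp _ _ _ _ _ (CycLib.deltaCompat_preimmersion (e' x) δXV) hXVc
    obtain ⟨β₀, hβ₀, e₀, hpull⟩ := c.pull (s.paste q) ((s.paste (r x)).paste (t x)) (e x) (e' x) 0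
      (hasRelDim_openImmersion (e x)) (hasRelDim_openImmersion (e' x))
      (by show e x ≫ h ≫ s.g = (t x).g ≫ (r x).g ≫ s.g
          rw [← Category.assoc, heh, Category.assoc])
      (he1 x)
      (by show e' x ≫ q.g' ≫ s.g' = (t x).g' ≫ (r x).g' ≫ s.g'
          rw [← Category.assoc, he2, Category.assoc]) k g hg
    let δ' : W x → ℤ := (t x).δY'
    let g₁ : AlgebraicCycle (W x) ℤ :=
      { toFun := fun w => if w = η x then α x.1 else 0
        supportWithinDomain' := fun _ _ => trivial
        supportLocallyFiniteWithinDomain' := fun w _ => ⟨Set.univ, Filter.univ_mem,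
          (Set.finite_singleton (η x)).subset fun w hw => by
            by_contra hn
            exact hw.2 (if_neg hn)⟩ }
    let g₀ : AlgebraicCycle (W x) ℤ :=
      { toFun := fun w => if w = η x then 1 else 0
        supportWithinDomain' := fun _ _ => trivial
        supportLocallyFiniteWithinDomain' := fun w _ => ⟨Set.univ, Filter.univ_mem,
          (Set.finite_singleton (η x)).subset fun w hw => by
            by_contra hn
            exact hw.2 (if_neg hn)⟩ }
    have hkη : δ' (η x) = k := by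
      show (t x).δY' (η x) = k
      rw [hdY]
      show δV (σ x) = k
      rw [hσd]
      by_contra hn
      exact x.2 (hα _ hn)
    have hg₀ : g₀ ∈ Cyc.Zk (W x) δ' k := fun w hw =>
      if_neg fun (ee : w = η x) => hw (by rw [ee]; exact hkη)
    have hg₁' : ∀ w, g₁ w = g (e x w) := fun w => by
      show (if w = η x then α x.1 else 0) = _
      rw [hgv]
      by_cases hw : w = η x
      · subst hw
        rw [if_pos rfl, if_pos ⟨x, rfl⟩, hσh x]
      · rw [if_neg hw, if_neg]
        rintro ⟨y, hy⟩
        obtain rfl := hdis y x (η y) w hy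
        exact hw ((e y).isOpenEmbedding.injective hy).symm
    have hg₁ : g₁ ∈ Cyc.Zk (W x) δ' (k + ((0 : ℕ) : ℤ)) := fun w hw =>
      if_neg fun (ee : w = η x) => hw (by rw [ee]; simpa using hkη)
    obtain ⟨β₁, hβ₁, eβ₁, f₁⟩ := hpull g₁ (funext fun w => by
      rw [hg₁', Nat.cast_zero, CycLib.Clopen.pullFun_of_isOpenImmersion (e x) (fun w => congrFun hdY w)]) hg₁
    have hz : c.op ((s.paste (r x)).paste (t x)) (k + ((0 : ℕ) : ℤ)) (ChowOps.cl g₁ hg₁) = 0 := by
      have hk0 : k + ((0 : ℕ) : ℤ) = k := by simp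
      have h1 : ∀ (l : ℤ) (hl : l = k) (h₁ : g₁ ∈ Cyc.Zk (W x) δ' l),
          c.op ((s.paste (r x)).paste (t x)) l (ChowOps.cl g₁ h₁) = 0 := by
        intro l hl h₁
        subst hl
        have hz0 := htzero x l g₀ hg₀ (if_pos rfl) (fun w hw => if_neg hw)
        have hsm : ChowOps.cl g₁ h₁ = α x.1 • ChowOps.cl g₀ hg₀ := by
          refine Eq.trans ?_ (map_zsmul (ChowOps.clHom (W x) δ' l) (α x.1) ⟨g₀, hg₀⟩)
          refine congrArg (ChowOps.clHom (W x) δ' l) (Subtype.ext ?_)
          rw [AddSubgroup.coe_zsmul]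
          ext w
          show (if w = η x then α x.1 else 0) = α x.1 * (if w = η x then 1 else 0)
          rw [mul_ite, mul_one, mul_zero]
        rw [hsm]
        exact (map_zsmul (c.op ((s.paste (r x)).paste (t x)) l) _ _).trans
          (by rw [hz0]; exact smul_zero _)
      exact h1 _ hk0 hg₁
    haveI : IsLocallyNoetherian (t x).X' := LocallyOfFiniteType.isLocallyNoetherian (e' x)
    have hdWX : Cyc.IsDimFun (t x).X' (t x).δX' := hdX ▸ isDimFun_comp_openImmersion (e' x) hXV.2.2
    have hβ₁0 := (cl_eq_zero_iff hdWX β₁ hβ₁).1 (f₁.symm.trans hz)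
    -- `β` and `β₀` are rationally equivalent
    have hdiff : (⇑β : _ → ℤ) - ⇑β₀ ∈ CycLib.Dev.prin hXV.2.2 (k - p) := by
      have h2 := (cl_eq_zero_iff hXV.2.2 (β - β₀) ((ChowOps.zk _ δXV (k - p)).sub_mem hβ hβ₀)).1 (by
        refine (QuotientAddGroup.eq_zero_iff _).2 ?_
        exact QuotientAddGroup.eq_iff_sub_mem.1 (hβeq.trans e₀))
      exact h2
    obtain ⟨ι₁, ξ₁, f₁', p1, p2, p3, p4⟩ := hβ₁0
    obtain ⟨ι₂, ξ₂, f₂', q1, q2, q3, q4⟩ := restrict_mem_prin (e' x) hXV.2.2 hdiff
    have key : (fun w => β (e' x w)) ∈ CycLib.Dev.prin (isDimFun_comp_openImmersion (e' x) hXV.2.2) (k - p) := by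
      have hm1 : (fun w => β₀ (e' x w)) ∈
          CycLib.Dev.prin (isDimFun_comp_openImmersion (e' x) hXV.2.2) (k - p) := by
        refine prin_congr (k₁ := k + ((0 : ℕ) : ℤ) - p) hdWX _ hdX (by simp) ?_
        have e1 : (⇑β₁ : _ → ℤ) = fun w => β₀ (e' x w) := by
          rw [eβ₁]
          funext w
          rw [Nat.cast_zero]
          exact CycLib.Clopen.pullFun_of_isOpenImmersion (e' x) (fun w => congrFun hdX w) _ w
        rw [← e1]
        exact ⟨ι₁, ξ₁, f₁', p1, p2, p3, p4⟩
      have hm2 : (fun w => (⇑β - ⇑β₀ : _ → ℤ) (e' x w)) ∈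
          CycLib.Dev.prin (isDimFun_comp_openImmersion (e' x) hXV.2.2) (k - p) :=
        ⟨ι₂, ξ₂, f₂', q1, q2, q3, q4⟩
      have := add_mem hm2 hm1
      convert this using 1
      funext w
      simp
    exact key
  -- push down
  haveI : IsProper q.g' := inferInstanceAs (IsProper (Limits.pullback.snd h s.f'))
  obtain ⟨γ, hγ, eγ, fγ⟩ := c.push s (s.paste q) h q.g' rfl q.isPullback.w.symm rfl k g hg
  have h0 : ChowOps.cl γ hγ = ChowOps.cl (0 : AlgebraicCycle _ ℤ) (fun _ _ => rfl) :=
    (eγ.symm.trans hvanish).trans Bivar.cl_zero.symm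
  have h1 := S17576.cl_map_eq hXV hsX q.g' hXVc (k - p) γ 0 hγ (fun _ _ => rfl) h0
  have h2 : ChowOps.cl (AlgebraicCycle.map q.g' δXV s.δX' (0 : AlgebraicCycle _ ℤ))
      (cycMap_mem_Zk q.g' δXV s.δX' (k - p) (fun _ _ => rfl)) = 0 :=
    (Bivar.cl_congr (cycMap_zero q.g' δXV s.δX') _ (fun _ _ => rfl)).trans Bivar.cl_zero
  rw [show ChowOps.cl α hα = ChowOps.cl (AlgebraicCycle.map h δV s.δY' g) (cycMap_mem_Zk h δV s.δY' k hg)
    from Bivar.cl_congr hmap.symm _ _]
  exact fγ.trans (h1.trans h2)

end Groth.Agent.S17577
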