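import Groth.Statements.S17578
import Groth.Agent.CycLib.ClopenCycle
import Groth.Agent.S17568

set_option autoImplicit false
universe u
open CategoryTheory AlgebraicGeometry
open Bivar
open CategoryTheory.Limits

namespace Groth.Agent.S17578

set_option linter.style.haveILetI false
set_option linter.unusedVariables false
set_option linter.unusedSectionVars false
set_option maxHeartbeats 1000000

open CycLib CycLib.Clopen

section Restriction

variable {A Z : Scheme.{u}} (e : A ⟶ Z) [IsOpenImmersion e]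

/-- The restriction of a cycle to an open subscheme. -/
noncomputable def res (α : AlgebraicCycle Z ℤ) : AlgebraicCycle A ℤ where
  toFun := fun a => α (e a)
  supportWithinDomain' := fun _ _ => trivial
  supportLocallyFiniteWithinDomain' := fun a _ => by
    obtain ⟨U, hU, hfin⟩ := α.supportLocallyFiniteWithinDomain' (e a) trivial
    refine ⟨e ⁻¹' U, e.continuous.continuousAt.preimage_mem_nhds hU,
      (hfin.preimage e.isOpenEmbedding.injective.injOn).subset fun x hx => hx⟩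

theorem res_apply (α : AlgebraicCycle Z ℤ) (a : A) : res e α a = α (e a) := rfl

theorem res_mem {δ : Z → ℤ} {k : ℤ} {α : AlgebraicCycle Z ℤ} (h : α ∈ Cyc.Zk Z δ k) :
    res e α ∈ Cyc.Zk A (fun a => δ (e a)) k := fun a ha => h _ ha

theorem res_eq_pullFun {δ : Z → ℤ} (α : AlgebraicCycle Z ℤ) :
    (⇑(res e α) : A → ℤ) = Cyc.pullFun e (fun a => δ (e a)) δ 0 ⇑α :=
  funext fun a => (pullFun_of_isOpenImmersion e (fun _ => rfl) _ a).symm

variable [IsLocallyNoetherian Z] {δ : Z → ℤ} (hd : Cyc.IsDimFun Z δ) (k : ℤ)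

include hd in
theorem exists_rho : ∃ F : ChowOps.CH Z δ k →+ ChowOps.CH A (fun a => δ (e a)) k,
    ∀ (α : AlgebraicCycle Z ℤ) (hα : α ∈ Cyc.Zk Z δ k),
      F (ChowOps.cl α hα) = ChowOps.cl (res e α) (res_mem e hα) := by
  haveI : IsLocallyNoetherian A := LocallyOfFiniteType.isLocallyNoetherian e
  let T : ↥(ChowOps.zk Z δ k) →+ ChowOps.CH A (fun a => δ (e a)) k :=
    AddMonoidHom.mk' (fun a => ChowOps.cl (res e a.1) (res_mem e a.2)) fun a b => by
      rw [← Bivar.cl_add]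
      exact Bivar.cl_congr (by ext x; rfl) _ _
  have hker : ChowOps.ratTriv Z δ k ≤ T.ker := by
    refine (AddSubgroup.closure_le _).2 fun a ha => ?_
    show ChowOps.cl (res e a.1) _ = 0
    rw [cl_eq_zero_iff (isDimFun_comp_openImmersion e hd)]
    exact restrict_mem_prin e hd ((CycLib.Dev.ratEquivZero_iff hd k a.1).1 ha)
  exact ⟨QuotientAddGroup.lift _ T hker, fun α hα => rfl⟩

/-- The restriction of classes to an open subscheme. -/
noncomputable def rho : ChowOps.CH Z δ k →+ ChowOps.CH A (fun a => δ (e a)) k := (exists_rho e hd k).choose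

theorem rho_cl (α : AlgebraicCycle Z ℤ) (hα : α ∈ Cyc.Zk Z δ k) :
    rho e hd k (ChowOps.cl α hα) = ChowOps.cl (res e α) (res_mem e hα) := (exists_rho e hd k).choose_spec α hα

end Restriction

section Pieces

variable {Z : Scheme.{u}} [IsLocallyNoetherian Z] {δ : Z → ℤ} (hd : Cyc.IsDimFun Z δ) (k : ℤ)
  {I : Type u} {W : I → Scheme.{u}} (e : ∀ i, W i ⟶ Z) [∀ i, IsOpenImmersion (e i)]
  (hdis : ∀ i j x y, e i x = e j y → i = j) (hcov : ∀ z, ∃ i w, e i w = z)

include hdis hcov in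
theorem rho_injective (x : ChowOps.CH Z δ k) (h : ∀ i, rho (e i) hd k x = 0) : x = 0 := by
  obtain ⟨α, hα, rfl⟩ := Bivar.exists_rep x
  rw [cl_eq_zero_iff hd]
  refine mem_prin_of_pieces e hdis hcov hd _ fun i => ?_
  haveI : IsLocallyNoetherian (W i) := LocallyOfFiniteType.isLocallyNoetherian (e i)
  have h1 := h i
  rw [rho_cl, cl_eq_zero_iff (isDimFun_comp_openImmersion (e i) hd)] at h1
  exact h1

include hdis hcov in
theorem rho_ext (x y : ChowOps.CH Z δ k) (h : ∀ i, rho (e i) hd k x = rho (e i) hd k y) : x = y :=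
  sub_eq_zero.1 (rho_injective hd k e hdis hcov _ fun i => by rw [map_sub, h i, sub_self])

include hdis hcov in
theorem rho_surjective (y : ∀ i, ChowOps.CH (W i) (fun w => δ (e i w)) k) :
    ∃ x, ∀ i, rho (e i) hd k x = y i := by
  classical
  choose β hβ hy using fun i => Bivar.exists_rep (y i)
  choose pi pw hp using hcov
  have key : ∀ i w, β (pi (e i w)) (pw (e i w)) = β i w := fun i w => by
    have hh := hp (e i w)
    revert hh
    have : ∀ (i' : I) (w' : W i'), e i' w' = e i w → β i' w' = β i w := by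
      intro i' w' hh
      obtain rfl := hdis i' i w' w hh
      rw [(e i').isOpenEmbedding.injective hh]
    exact fun hh => this _ _ hh
  let α : AlgebraicCycle Z ℤ :=
    { toFun := fun z => β (pi z) (pw z)
      supportWithinDomain' := fun _ _ => trivial
      supportLocallyFiniteWithinDomain' := fun z _ => by
        obtain ⟨U, hU, hfin⟩ := (β (pi z)).supportLocallyFiniteWithinDomain' (pw z) trivial
        obtain ⟨U', hU'U, hU'o, hwU'⟩ := mem_nhds_iff.1 hU
        refine ⟨e (pi z) '' U', ((e (pi z)).isOpenEmbedding.isOpenMap U' hU'o).mem_nhds ⟨_, hwU', hp z⟩,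
          (hfin.image (e (pi z))).subset ?_⟩
        rintro v ⟨⟨w, hw, rfl⟩, hv⟩
        refine ⟨w, ⟨hU'U hw, ?_⟩, rfl⟩
        intro hw0
        exact hv ((key _ w).trans hw0) }
  have hα : α ∈ Cyc.Zk Z δ k := fun z hz => hβ (pi z) (pw z) (by show δ _ ≠ k; rw [hp]; exact hz)
  refine ⟨ChowOps.cl α hα, fun i => ?_⟩
  rw [rho_cl, ← hy i]
  exact Bivar.cl_congr (by ext w; exact key i w) _ _

end Pieces

theorem map_res {T S A B : Scheme.{u}} (h : T ⟶ S) [IsProper h] (e : A ⟶ S) [IsOpenImmersion e] (eT : B ⟶ T)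
    [IsOpenImmersion eT] (hA : B ⟶ A) [IsProper hA] (hsq : IsPullback eT hA h e) {δS : S → ℤ} {δT : T → ℤ}
    (hS : Cyc.IsSetup S δS) (hc : Cyc.DeltaCompat h δT δS) (α : AlgebraicCycle T ℤ) :
    res e (AlgebraicCycle.map h δT δS α) =
      AlgebraicCycle.map hA (fun b => δT (eT b)) (fun a => δS (e a)) (res eT α) := by
  haveI := hS.1
  haveI : IsLocallyNoetherian A := LocallyOfFiniteType.isLocallyNoetherian e
  have hc' : Cyc.DeltaCompat hA (fun b => δT (eT b)) (fun a => δS (e a)) := by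
    refine S17576.deltaCompat_cancel hA e ?_ (CycLib.deltaCompat_preimmersion e δS)
    rw [← hsq.w]
    exact deltaCompat_comp eT h _ δT δS (CycLib.deltaCompat_preimmersion eT δT) hc
  have key := CycLib.FlatBC.main_of_isPullback h e hsq.flip (isDimFun_comp_openImmersion e hS.2.2) hc hc'
    (c := 0) (fun x _ => (add_zero _).symm) α (res eT α) (res_eq_pullFun eT α)
  ext a
  rw [← congrFun key a, pullFun_of_isOpenImmersion e (fun _ => rfl)]
  rfl

theorem pull_res {T S A B : Scheme.{u}} (h : T ⟶ S) [Flat h] [LocallyOfFiniteType h] (e : A ⟶ S) [IsOpenImmersion e]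
    (eT : B ⟶ T) [IsOpenImmersion eT] (hA : B ⟶ A) [Flat hA] [LocallyOfFiniteType hA] (w : eT ≫ h = hA ≫ e)
    {δS : S → ℤ} {δT : T → ℤ} (hS : Cyc.IsSetup S δS) (hT : Cyc.IsSetup T δT) (hc : Cyc.DeltaCompat h δT δS)
    {r : ℕ} (hr : Cyc.HasRelDim h r) (hrA : Cyc.HasRelDim hA r) (a : S → ℤ) (b : B) :
    Cyc.pullFun h δT δS r a (eT b) =
      Cyc.pullFun hA (fun b => δT (eT b)) (fun x => δS (e x)) r (fun x => a (e x)) b := by
  haveI := hS.1
  haveI := hT.1
  haveI : IsLocallyNoetherian A := LocallyOfFiniteType.isLocallyNoetherian e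
  haveI : IsLocallyNoetherian B := LocallyOfFiniteType.isLocallyNoetherian eT
  have hdB := isDimFun_comp_openImmersion eT hT.2.2
  have hdA := isDimFun_comp_openImmersion e hS.2.2
  have hc' : Cyc.DeltaCompat hA (fun b => δT (eT b)) (fun a => δS (e a)) := by
    refine S17576.deltaCompat_cancel hA e ?_ (CycLib.deltaCompat_preimmersion e δS)
    rw [← w]
    exact deltaCompat_comp eT h _ δT δS (CycLib.deltaCompat_preimmersion eT δT) hc
  have k1 := CycLib.pullFun_comp_shifts eT h hdB hT.2.2 (r := 0) (s := r) (fun x _ => (add_zero _).symm)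
    (fun x hx => CycLib.delta_eq_of_generic h hc hr x hx) a
  have k2 := CycLib.pullFun_comp_shifts hA e hdB hdA (r := r) (s := 0)
    (fun x hx => CycLib.delta_eq_of_generic hA hc' hrA x hx) (fun x _ => (add_zero _).symm) a
  rw [w, add_zero] at k1
  rw [zero_add, k1] at k2
  have k := congrFun k2 b
  rw [pullFun_of_isOpenImmersion eT (fun _ => rfl)] at k
  rw [k]
  congr 1
  exact funext fun x => pullFun_of_isOpenImmersion e (fun _ => rfl) a x

/-- Gysin maps commute with restriction to open subschemes. -/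
theorem gysin_res {S D A B : Scheme.{u}} (i : D ⟶ S) [IsClosedImmersion i] (e : A ⟶ S) [IsOpenImmersion e]
    (eD : B ⟶ D) [IsOpenImmersion eD] (i' : B ⟶ A) [IsClosedImmersion i'] (hsq : IsPullback i' eD e i)
    {δS : S → ℤ} {δD : D → ℤ} (hS : Cyc.IsSetup S δS) (hD : Cyc.IsSetup D δD) [IsLocallyNoetherian D]
    (hc : Cyc.DeltaCompat i δD δS)
    {L : S.Modules} (hL : PicF.IsInvertible L) (σ : L.presheaf.obj (Opposite.op ⊤))
    (hσ : Cyc.IsZeroSchemeOf i L σ) {M : A.Modules} (hM : PicF.IsInvertible M)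
    (φ : (Scheme.Modules.pullback e).obj L ≅ M) {k : ℤ} (α : AlgebraicCycle S ℤ) (hα : α ∈ Cyc.Zk S δS k)
    (w : (ξ : S) → Cyc.secFibre L ξ) (hw : ∀ ξ, w ξ ≠ 0) (γ : AlgebraicCycle D ℤ)
    (hγ' : ∀ d, γ d = Cyc.c1CapFun δS L ⇑α (Cyc.gysinChoice L σ w) (i d)) (hγ : γ ∈ Cyc.Zk D δD (k - 1))
    (v : (ξ : A) → Cyc.secFibre M ξ) (hv : ∀ ξ, v ξ ≠ 0) (γ' : AlgebraicCycle B ℤ)
    (hγ'' : ∀ d, γ' d = Cyc.c1CapFun (fun a => δS (e a)) M ⇑(res e α)
      (Cyc.gysinChoice M (φ.hom.app ⊤ (LFFrame.unitSec e L ⊤ σ)) v) (i' d))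
    (hγb : γ' ∈ Cyc.Zk B (fun b => δD (eD b)) (k - 1)) :
    ChowOps.cl γ' hγb = rho eD hD.2.2 (k - 1) (ChowOps.cl γ hγ) := by
  haveI := hS.1
  obtain ⟨G, hG⟩ := S17568.result S D δS δD hS hD i hc L hL σ hσ
  obtain ⟨-, -, -, hspec⟩ := hG
  let s₀ : Sq i δD δS := ⟨S, D, 𝟙 S, i, 𝟙 D, IsPullback.of_vert_isIso ⟨by simp⟩, inferInstance, δS, δD,
    deltaCompat_id δS, deltaCompat_id δD⟩
  let q : Sq i δD δS := ⟨A, B, e, i', eD, hsq, inferInstance, fun a => δS (e a), fun b => δD (eD b),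
    CycLib.deltaCompat_preimmersion e δS, CycLib.deltaCompat_preimmersion eD δD⟩
  -- the first square
  let φ₀ : L ≅ (Scheme.Modules.pullback (𝟙 S)).obj L := ((Scheme.Modules.pullbackId S).app L).symm
  have hL₀ := PicCl.isInvertible_pullback (𝟙 S) hL
  obtain ⟨w₀, hw₀, ew₀⟩ := S17568.exists_choice_iso hS hL hL₀ φ₀ σ w hw
  have e0 : G.op s₀ k (ChowOps.cl α hα) = ChowOps.cl γ hγ :=
    hspec s₀ _ (S17570.isZeroSchemeOf_iso i hL φ₀ σ hσ) k α hα w₀ hw₀ γ
      (fun d => (hγ' d).trans (congrFun (ew₀ ⇑α) (i d))) hγ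
  -- the second square
  haveI : IsLocallyNoetherian A := LocallyOfFiniteType.isLocallyNoetherian e
  have hA : Cyc.IsSetup A (fun a => δS (e a)) :=
    S17576.isSetup_of_compat e hS (CycLib.deltaCompat_preimmersion e δS)
  have hLe := PicCl.isInvertible_pullback e hL
  have hz := S17568.isZeroSchemeOf_pullback' e hsq hL σ hσ
  obtain ⟨v', hv', ev'⟩ := S17568.exists_choice_iso hA hM hLe φ.symm (φ.hom.app ⊤ (LFFrame.unitSec e L ⊤ σ)) v hv
  have eτ : φ.symm.hom.app ⊤ (φ.hom.app ⊤ (LFFrame.unitSec e L ⊤ σ)) = LFFrame.unitSec e L ⊤ σ := by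
    show ((φ.hom ≫ φ.inv).app ⊤) _ = _
    rw [φ.hom_inv_id]
    rfl
  rw [eτ] at ev'
  have e1 : G.op q k (ChowOps.cl (res e α) (res_mem e hα)) = ChowOps.cl γ' hγb :=
    hspec q _ hz k (res e α) (res_mem e hα) v' hv' γ' (fun d => (hγ'' d).trans (congrFun (ev' _) (i' d))) hγb
  -- compare
  obtain ⟨β₀, hβ₀, e2, H⟩ := G.pull s₀ q e eD 0 (hasRelDim_openImmersion e) (hasRelDim_openImmersion eD)
    (Category.comp_id _) hsq.w.symm (Category.comp_id _) k α hα
  obtain ⟨β₁, hβ₁, e3, e4⟩ := H (res e α) (res_eq_pullFun e α)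
    (by rw [Nat.cast_zero, add_zero]; exact res_mem e hα)
  have hβ₁' : β₁ = res eD β₀ := by
    ext b
    rw [e3, Nat.cast_zero]
    exact pullFun_of_isOpenImmersion eD (fun _ => rfl) _ b
  subst hβ₁'
  have h5 : ∀ (l : ℤ) (hl : l = k) (h₁ : res e α ∈ Cyc.Zk A q.δY' l) (h₂ : res eD β₀ ∈ Cyc.Zk B q.δX' (l - 1)),
      G.op q l (ChowOps.cl (res e α) h₁) = ChowOps.cl (res eD β₀) h₂ →
      G.op q k (ChowOps.cl (res e α) (res_mem e hα)) = ChowOps.cl (res eD β₀) (res_mem eD hβ₀) := by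
    intro l hl h₁ h₂ hh
    subst hl
    exact hh
  rw [← e1, h5 _ (by simp) _ _ e4, ← rho_cl eD hD.2.2 (k - 1) β₀ hβ₀, ← e2, e0]

/-- The standing hypotheses. -/
structure Hyp {X Y : Scheme.{u}} (f : X ⟶ Y) (δX : X → ℤ) (δY : Y → ℤ) {J : Type u} (s₀ : J → Sq f δX δY) : Prop where
  hX : Cyc.IsSetup X δX
  hY : Cyc.IsSetup Y δY
  lft : LocallyOfFiniteType f
  hopen : ∀ j, IsOpenImmersion (s₀ j).g
  hdisj : ∀ j j' : J, j ≠ j' → Disjoint (Set.range (s₀ j).g.base) (Set.range (s₀ j').g.base)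
  hcov : ∀ y : Y, ∃ j, y ∈ Set.range (s₀ j).g.base

variable {X Y : Scheme.{u}} {f : X ⟶ Y} {δX : X → ℤ} {δY : Y → ℤ} {J : Type u} {s₀ : J → Sq f δX δY}
  (H : Hyp f δX δY s₀)

include H in
theorem setupY (s : Sq f δX δY) : Cyc.IsSetup s.Y' s.δY' := by
  haveI := s.lft
  exact S17576.isSetup_of_compat s.g H.hY s.compatY

include H in
theorem lftX (s : Sq f δX δY) : LocallyOfFiniteType s.g' := by
  haveI := s.lft
  exact MorphismProperty.of_isPullback (P := @LocallyOfFiniteType) s.isPullback inferInstance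

include H in
theorem setupX (s : Sq f δX δY) : Cyc.IsSetup s.X' s.δX' := by
  haveI := lftX H s
  exact S17576.isSetup_of_compat s.g' H.hX s.compatX

variable (s₀) in
/-- The open piece of a test scheme over a member of the decomposition. -/
noncomputable abbrev eY (s : Sq f δX δY) (j : J) : pullback s.g (s₀ j).g ⟶ s.Y' := pullback.fst s.g (s₀ j).g

variable (s₀) in
/-- The open piece of the fibre product. -/
noncomputable abbrev eX (s : Sq f δX δY) (j : J) : pullback s.f' (eY s₀ s j) ⟶ s.X' := pullback.fst s.f' (eY s₀ s j)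

variable (s₀) in
/-- The map between the pieces. -/
noncomputable abbrev fX (s : Sq f δX δY) (j : J) : pullback s.f' (eY s₀ s j) ⟶ pullback s.g (s₀ j).g :=
  pullback.snd s.f' (eY s₀ s j)

include H in
theorem open_eY (s : Sq f δX δY) (j : J) : IsOpenImmersion (eY s₀ s j) := by
  haveI := H.hopen j
  infer_instance

include H in
theorem open_eX (s : Sq f δX δY) (j : J) : IsOpenImmersion (eX s₀ s j) := by
  haveI := open_eY H s j
  infer_instance

include H in
theorem disY (s : Sq f δX δY) : ∀ i j x y, eY s₀ s i x = eY s₀ s j y → i = j := by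
  intro i j x y hxy
  by_contra hne
  have h1 : s.g (eY s₀ s i x) ∈ Set.range (s₀ i).g.base := ⟨pullback.snd s.g (s₀ i).g x, by
    show (pullback.snd s.g (s₀ i).g ≫ (s₀ i).g) x = (pullback.fst s.g (s₀ i).g ≫ s.g) x
    rw [pullback.condition]⟩
  have h2 : s.g (eY s₀ s i x) ∈ Set.range (s₀ j).g.base := ⟨pullback.snd s.g (s₀ j).g y, by
    rw [hxy]
    show (pullback.snd s.g (s₀ j).g ≫ (s₀ j).g) y = (pullback.fst s.g (s₀ j).g ≫ s.g) y
    rw [pullback.condition]⟩
  exact Set.disjoint_left.1 (H.hdisj i j hne) h1 h2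

include H in
theorem covY (s : Sq f δX δY) : ∀ v, ∃ j w, eY s₀ s j w = v := fun v => by
  obtain ⟨j, w, hw⟩ := H.hcov (s.g v)
  obtain ⟨z, hz, -⟩ := Scheme.Pullback.exists_preimage_pullback v w hw.symm
  exact ⟨j, z, hz⟩

include H in
theorem disX (s : Sq f δX δY) : ∀ i j x y, eX s₀ s i x = eX s₀ s j y → i = j := fun i j x y hxy =>
  disY H s i j (fX s₀ s i x) (fX s₀ s j y) (by
    show (pullback.snd s.f' (eY s₀ s i) ≫ eY s₀ s i) x = (pullback.snd s.f' (eY s₀ s j) ≫ eY s₀ s j) y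
    rw [← pullback.condition, ← pullback.condition]
    exact congrArg s.f' hxy)

include H in
theorem covX (s : Sq f δX δY) : ∀ v, ∃ j w, eX s₀ s j w = v := fun v => by
  obtain ⟨j, w, hw⟩ := covY H s (s.f' v)
  obtain ⟨z, hz, -⟩ := Scheme.Pullback.exists_preimage_pullback v w hw.symm
  exact ⟨j, z, hz⟩

variable (s₀) in
/-- The projection of the piece of the fibre product. -/
noncomputable def gX (s : Sq f δX δY) (j : J) : pullback s.f' (eY s₀ s j) ⟶ (s₀ j).X' :=
  (s₀ j).isPullback.lift (fX s₀ s j ≫ pullback.snd s.g (s₀ j).g) (eX s₀ s j ≫ s.g') (by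
    rw [Category.assoc, ← pullback.condition, ← Category.assoc]
    show (pullback.snd s.f' (eY s₀ s j) ≫ eY s₀ s j) ≫ s.g = _
    rw [← pullback.condition, Category.assoc, s.isPullback.w, Category.assoc])

theorem gX_f (s : Sq f δX δY) (j : J) :
    gX s₀ s j ≫ (s₀ j).f' = fX s₀ s j ≫ pullback.snd s.g (s₀ j).g := (s₀ j).isPullback.lift_fst _ _ _

theorem gX_g (s : Sq f δX δY) (j : J) : gX s₀ s j ≫ (s₀ j).g' = eX s₀ s j ≫ s.g' :=
  (s₀ j).isPullback.lift_snd _ _ _

include H in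
/-- The piece of a square over a member of the decomposition. -/
@[reducible] noncomputable def piece (s : Sq f δX δY) (j : J) : Sq (s₀ j).f' (s₀ j).δX' (s₀ j).δY' where
  Y' := pullback s.g (s₀ j).g
  X' := pullback s.f' (eY s₀ s j)
  g := pullback.snd s.g (s₀ j).g
  f' := fX s₀ s j
  g' := gX s₀ s j
  isPullback := by
    refine IsPullback.of_bot ?_ (gX_f s j).symm (s₀ j).isPullback
    rw [gX_g, ← pullback.condition]
    exact (IsPullback.of_hasPullback s.f' (eY s₀ s j)).flip.paste_vert s.isPullback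
  lft := by haveI := s.lft; infer_instance
  δY' := fun v => s.δY' (eY s₀ s j v)
  δX' := fun v => s.δX' (eX s₀ s j v)
  compatY := by
    haveI := open_eY H s j
    refine S17576.deltaCompat_cancel _ (s₀ j).g ?_ (s₀ j).compatY
    rw [← pullback.condition]
    exact deltaCompat_comp _ _ _ _ _ (CycLib.deltaCompat_preimmersion (eY s₀ s j) s.δY') s.compatY
  compatX := by
    haveI := open_eX H s j
    refine S17576.deltaCompat_cancel _ (s₀ j).g' ?_ (s₀ j).compatX
    rw [gX_g]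
    exact deltaCompat_comp _ _ _ _ _ (CycLib.deltaCompat_preimmersion (eX s₀ s j) s.δX') s.compatX

variable (s₀) in
/-- The induced map between pieces of test schemes. -/
noncomputable def hY' {s t : Sq f δX δY} (h : t.Y' ⟶ s.Y') (w₁ : h ≫ s.g = t.g) (j : J) :
    pullback t.g (s₀ j).g ⟶ pullback s.g (s₀ j).g :=
  pullback.lift (eY s₀ t j ≫ h) (pullback.snd t.g (s₀ j).g) (by rw [Category.assoc, w₁]; exact pullback.condition)

theorem hY'_snd {s t : Sq f δX δY} (h : t.Y' ⟶ s.Y') (w₁ : h ≫ s.g = t.g) (j : J) :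
    hY' s₀ h w₁ j ≫ pullback.snd s.g (s₀ j).g = pullback.snd t.g (s₀ j).g := pullback.lift_snd _ _ _

theorem hY'_fst {s t : Sq f δX δY} (h : t.Y' ⟶ s.Y') (w₁ : h ≫ s.g = t.g) (j : J) :
    hY' s₀ h w₁ j ≫ eY s₀ s j = eY s₀ t j ≫ h := pullback.lift_fst _ _ _

theorem isPullback_hY' {s t : Sq f δX δY} (h : t.Y' ⟶ s.Y') (w₁ : h ≫ s.g = t.g) (j : J) :
    IsPullback (eY s₀ t j) (hY' s₀ h w₁ j) h (eY s₀ s j) := by
  refine (IsPullback.of_bot ?_ (hY'_fst h w₁ j).symm (IsPullback.of_hasPullback s.g (s₀ j).g))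
  rw [hY'_snd, w₁]
  exact IsPullback.of_hasPullback _ _

variable (s₀) in
/-- The induced map between pieces of fibre products. -/
noncomputable def hX' {s t : Sq f δX δY} (h : t.Y' ⟶ s.Y') (h' : t.X' ⟶ s.X') (w₁ : h ≫ s.g = t.g)
    (w₂ : h' ≫ s.f' = t.f' ≫ h) (j : J) : pullback t.f' (eY s₀ t j) ⟶ pullback s.f' (eY s₀ s j) :=
  pullback.lift (eX s₀ t j ≫ h') (fX s₀ t j ≫ hY' s₀ h w₁ j) (by
    rw [Category.assoc, w₂, Category.assoc, hY'_fst, ← Category.assoc, ← Category.assoc]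
    exact congrArg (· ≫ h) pullback.condition)

theorem hX'_fst {s t : Sq f δX δY} (h : t.Y' ⟶ s.Y') (h' : t.X' ⟶ s.X') (w₁ : h ≫ s.g = t.g)
    (w₂ : h' ≫ s.f' = t.f' ≫ h) (j : J) : hX' s₀ h h' w₁ w₂ j ≫ eX s₀ s j = eX s₀ t j ≫ h' :=
  pullback.lift_fst _ _ _

theorem hX'_snd {s t : Sq f δX δY} (h : t.Y' ⟶ s.Y') (h' : t.X' ⟶ s.X') (w₁ : h ≫ s.g = t.g)
    (w₂ : h' ≫ s.f' = t.f' ≫ h) (j : J) : hX' s₀ h h' w₁ w₂ j ≫ fX s₀ s j = fX s₀ t j ≫ hY' s₀ h w₁ j :=
  pullback.lift_snd _ _ _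

theorem isPullback_hX' {s t : Sq f δX δY} (h : t.Y' ⟶ s.Y') (h' : t.X' ⟶ s.X') (w₁ : h ≫ s.g = t.g)
    (w₂ : h' ≫ s.f' = t.f' ≫ h) (j : J) :
    IsPullback (eX s₀ t j) (hX' s₀ h h' w₁ w₂ j) h' (eX s₀ s j) := by
  refine IsPullback.of_bot ?_ (hX'_fst h h' w₁ w₂ j).symm (IsPullback.of_hasPullback s.f' (eY s₀ s j))
  rw [hX'_snd, w₂]
  exact (IsPullback.of_hasPullback t.f' (eY s₀ t j)).paste_vert (isPullback_hY' h w₁ j)

theorem hX'_g {s t : Sq f δX δY} (h : t.Y' ⟶ s.Y') (h' : t.X' ⟶ s.X') (w₁ : h ≫ s.g = t.g)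
    (w₂ : h' ≫ s.f' = t.f' ≫ h) (w₃ : h' ≫ s.g' = t.g') (j : J) :
    hX' s₀ h h' w₁ w₂ j ≫ gX s₀ s j = gX s₀ t j := by
  refine (s₀ j).isPullback.hom_ext ?_ ?_
  · rw [Category.assoc, gX_f, ← Category.assoc, hX'_snd, Category.assoc, hY'_snd, gX_f]
  · rw [Category.assoc, gX_g, ← Category.assoc, hX'_fst, Category.assoc, w₃, gX_g]

variable {p : ℤ} (c : ∀ j, Cl p (s₀ j).f' (s₀ j).δX' (s₀ j).δY')

/-- Restriction to a piece of the test scheme. -/
noncomputable def rY (s : Sq f δX δY) (j : J) (k : ℤ) :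
    ChowOps.CH s.Y' s.δY' k →+ ChowOps.CH (piece H s j).Y' (piece H s j).δY' k :=
  haveI := (setupY H s).1
  haveI := open_eY H s j
  rho (eY s₀ s j) (setupY H s).2.2 k

/-- Restriction to a piece of the fibre product. -/
noncomputable def rX (s : Sq f δX δY) (j : J) (k : ℤ) :
    ChowOps.CH s.X' s.δX' k →+ ChowOps.CH (piece H s j).X' (piece H s j).δX' k :=
  haveI := (setupX H s).1
  haveI := open_eX H s j
  rho (eX s₀ s j) (setupX H s).2.2 k

include H in
theorem rX_ext (s : Sq f δX δY) (k : ℤ) (x y : ChowOps.CH s.X' s.δX' k) (h : ∀ j, rX H s j k x = rX H s j k y) :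
    x = y := by
  haveI := (setupX H s).1
  haveI := fun j => open_eX H s j
  exact rho_ext (setupX H s).2.2 k (eX s₀ s) (disX H s) (covX H s) x y h

include H in
theorem exists_glue (s : Sq f δX δY) (k : ℤ) :
    ∃ F : ChowOps.CH s.Y' s.δY' k →+ ChowOps.CH s.X' s.δX' (k - p),
      ∀ x j, rX H s j (k - p) (F x) = (c j).op (piece H s j) k (rY H s j k x) := by
  haveI := (setupX H s).1
  haveI := fun j => open_eX H s j
  choose F hF using fun x => rho_surjective (setupX H s).2.2 (k - p) (eX s₀ s) (disX H s) (covX H s)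
    (fun j => (c j).op (piece H s j) k (rY H s j k x))
  refine ⟨AddMonoidHom.mk' F fun x y => rX_ext H s _ _ _ fun j => ?_, hF⟩
  have hF' : ∀ x, rX H s j (k - p) (F x) = (c j).op (piece H s j) k (rY H s j k x) := fun x => hF x j
  rw [map_add, hF', hF', hF', map_add, map_add]

/-- The glued operation. -/
noncomputable def op (s : Sq f δX δY) (k : ℤ) : ChowOps.CH s.Y' s.δY' k →+ ChowOps.CH s.X' s.δX' (k - p) :=
  (exists_glue H c s k).choose

theorem rX_op (s : Sq f δX δY) (j : J) (k : ℤ) (x : ChowOps.CH s.Y' s.δY' k) :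
    rX H s j (k - p) (op H c s k x) = (c j).op (piece H s j) k (rY H s j k x) :=
  (exists_glue H c s k).choose_spec x j

include H in
theorem compat_hom {s t : Sq f δX δY} {h : t.Y' ⟶ s.Y'} (w₁ : h ≫ s.g = t.g) :
    Cyc.DeltaCompat h t.δY' s.δY' :=
  S17576.deltaCompat_cancel h s.g (w₁.symm ▸ t.compatY) s.compatY

include H in
theorem compat_hom' {s t : Sq f δX δY} {h' : t.X' ⟶ s.X'} (w₃ : h' ≫ s.g' = t.g') :
    Cyc.DeltaCompat h' t.δX' s.δX' :=
  S17576.deltaCompat_cancel h' s.g' (w₃.symm ▸ t.compatX) s.compatX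

theorem rY_cl (s : Sq f δX δY) (j : J) [IsOpenImmersion (eY s₀ s j)] (k : ℤ) (α : AlgebraicCycle s.Y' ℤ)
    (hα : α ∈ Cyc.Zk s.Y' s.δY' k) :
    rY H s j k (ChowOps.cl α hα) = ChowOps.cl (res (eY s₀ s j) α) (res_mem _ hα) := by
  haveI := (setupY H s).1
  exact rho_cl (eY s₀ s j) (setupY H s).2.2 k α hα

theorem rX_cl (s : Sq f δX δY) (j : J) [IsOpenImmersion (eX s₀ s j)] (k : ℤ) (α : AlgebraicCycle s.X' ℤ)
    (hα : α ∈ Cyc.Zk s.X' s.δX' k) :
    rX H s j k (ChowOps.cl α hα) = ChowOps.cl (res (eX s₀ s j) α) (res_mem _ hα) := by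
  haveI := (setupX H s).1
  exact rho_cl (eX s₀ s j) (setupX H s).2.2 k α hα

theorem push' (s t : Sq f δX δY) (h : t.Y' ⟶ s.Y') [IsProper h] (h' : t.X' ⟶ s.X') [IsProper h']
    (w₁ : h ≫ s.g = t.g) (w₂ : h' ≫ s.f' = t.f' ≫ h) (w₃ : h' ≫ s.g' = t.g') (k : ℤ) :
    PushOK t.δY' t.δX' s.δY' s.δX' h h' (op H c t k) (op H c s k) := by
  intro α hα
  obtain ⟨β, hβ, eβ⟩ := Bivar.exists_rep (op H c t k (ChowOps.cl α hα))
  refine ⟨β, hβ, eβ.symm, rX_ext H s _ _ _ fun j => ?_⟩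
  haveI := (setupY H s).1
  haveI := (setupX H s).1
  haveI := (setupY H t).1
  haveI := (setupX H t).1
  haveI := open_eY H s j
  haveI := open_eX H s j
  haveI := open_eY H t j
  haveI := open_eX H t j
  haveI hpY : IsProper (hY' s₀ h w₁ j) :=
    MorphismProperty.of_isPullback (P := @IsProper) (isPullback_hY' h w₁ j) inferInstance
  haveI hpX : IsProper (hX' s₀ h h' w₁ w₂ j) :=
    MorphismProperty.of_isPullback (P := @IsProper) (isPullback_hX' h h' w₁ w₂ j) inferInstance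
  rw [rX_op, rY_cl]
  obtain ⟨b, hb, e1, e2⟩ := (c j).push (piece H s j) (piece H t j) (hY' s₀ h w₁ j) (hX' s₀ h h' w₁ w₂ j)
    (hY'_snd h w₁ j) (hX'_snd h h' w₁ w₂ j) (hX'_g h h' w₁ w₂ w₃ j) k (res (eY s₀ t j) α) (res_mem _ hα)
  refine (congrArg ((c j).op (piece H s j) k)
    (Bivar.cl_congr (map_res h (eY s₀ s j) (eY s₀ t j) (hY' s₀ h w₁ j) (isPullback_hY' h w₁ j) (setupY H s)
      (compat_hom H w₁) α) _ (cycMap_mem_Zk _ _ _ k (res_mem _ hα)))).trans (e2.trans ?_)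
  have e3 : ChowOps.cl b hb = ChowOps.cl (res (eX s₀ t j) β) (res_mem _ hβ) := by
    refine e1.symm.trans ?_
    have := rX_op H c t j k (ChowOps.cl α hα)
    rw [← eβ, rX_cl, rY_cl] at this
    exact this.symm
  have hcq : Cyc.DeltaCompat (hX' s₀ h h' w₁ w₂ j) (piece H t j).δX' (piece H s j).δX' := by
    refine S17576.deltaCompat_cancel _ (eX s₀ s j) ?_ (CycLib.deltaCompat_preimmersion (eX s₀ s j) s.δX')
    rw [hX'_fst]
    exact deltaCompat_comp _ _ _ _ _ (CycLib.deltaCompat_preimmersion (eX s₀ t j) t.δX') (compat_hom' H w₃)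
  rw [rX_cl]
  refine (S17576.cl_map_eq (S17576.isSetup_of_compat (eX s₀ t j) (setupX H t) (CycLib.deltaCompat_preimmersion _ _))
    (S17576.isSetup_of_compat (eX s₀ s j) (setupX H s) (CycLib.deltaCompat_preimmersion _ _))
    (hX' s₀ h h' w₁ w₂ j) hcq (k - p) b _ hb (res_mem _ hβ) e3).trans ?_
  exact (Bivar.cl_congr (map_res h' (eX s₀ s j) (eX s₀ t j) (hX' s₀ h h' w₁ w₂ j) (isPullback_hX' h h' w₁ w₂ j)
    (setupX H s) (compat_hom' H w₃) β) _ _).symm

theorem pull' (s t : Sq f δX δY) (h : t.Y' ⟶ s.Y') [Flat h] (h' : t.X' ⟶ s.X') [Flat h'] (r : ℕ)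
    (hr : Cyc.HasRelDim h r) (hr' : Cyc.HasRelDim h' r) (w₁ : h ≫ s.g = t.g) (w₂ : h' ≫ s.f' = t.f' ≫ h)
    (w₃ : h' ≫ s.g' = t.g') (k : ℤ) :
    PullOK s.δY' s.δX' t.δY' t.δX' h h' (r : ℤ) (op H c s k) (op H c t (k + r)) := by
  intro α hα
  obtain ⟨β, hβ, eβ⟩ := Bivar.exists_rep (op H c s k (ChowOps.cl α hα))
  haveI := (setupY H s).1
  haveI := (setupX H s).1
  haveI := (setupY H t).1
  haveI := (setupX H t).1
  haveI := lftX H s
  haveI := lftX H t
  haveI := s.lft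
  haveI : LocallyOfFiniteType (h ≫ s.g) := by rw [w₁]; exact t.lft
  haveI : LocallyOfFiniteType h := locallyOfFiniteType_of_comp h s.g
  haveI : LocallyOfFiniteType (h' ≫ s.g') := by rw [w₃]; infer_instance
  haveI : LocallyOfFiniteType h' := locallyOfFiniteType_of_comp h' s.g'
  refine ⟨β, hβ, eβ.symm, fun α₁ ec hα₁ => ?_⟩
  obtain ⟨β₁, hβ₁, hβ₁'⟩ :=
    (CycLib.Dev.isCyc_pull h' (setupX H t).2.2 (compat_hom' H w₃) hr' (CycLib.Dev.IsCyc.of_cycle β hβ)).exists_cycle
  rw [show k - p + (r : ℤ) = k + r - p by ring] at hβ₁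
  refine ⟨β₁, hβ₁, hβ₁', rX_ext H t _ _ _ fun j => ?_⟩
  haveI := open_eY H s j
  haveI := open_eX H s j
  haveI := open_eY H t j
  haveI := open_eX H t j
  haveI : Flat (hY' s₀ h w₁ j) :=
    MorphismProperty.of_isPullback (P := @Flat) (isPullback_hY' h w₁ j) inferInstance
  haveI : Flat (hX' s₀ h h' w₁ w₂ j) :=
    MorphismProperty.of_isPullback (P := @Flat) (isPullback_hX' h h' w₁ w₂ j) inferInstance
  haveI : LocallyOfFiniteType (hY' s₀ h w₁ j) :=
    MorphismProperty.of_isPullback (P := @LocallyOfFiniteType) (isPullback_hY' h w₁ j) inferInstance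
  haveI : LocallyOfFiniteType (hX' s₀ h h' w₁ w₂ j) :=
    MorphismProperty.of_isPullback (P := @LocallyOfFiniteType) (isPullback_hX' h h' w₁ w₂ j) inferInstance
  have hrY : Cyc.HasRelDim (hY' s₀ h w₁ j) r :=
    (S9358.result h (eY s₀ s j) (eY s₀ t j) (hY' s₀ h w₁ j) (isPullback_hY' h w₁ j) r).2.2 hr
  have hrX : Cyc.HasRelDim (hX' s₀ h h' w₁ w₂ j) r :=
    (S9358.result h' (eX s₀ s j) (eX s₀ t j) (hX' s₀ h h' w₁ w₂ j) (isPullback_hX' h h' w₁ w₂ j) r).2.2 hr'
  rw [rX_op, rY_cl, rX_cl]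
  obtain ⟨b, hb, e1, Hb⟩ := (c j).pull (piece H s j) (piece H t j) (hY' s₀ h w₁ j) (hX' s₀ h h' w₁ w₂ j) r hrY hrX
    (hY'_snd h w₁ j) (hX'_snd h h' w₁ w₂ j) (hX'_g h h' w₁ w₂ w₃ j) k (res (eY s₀ s j) α) (res_mem _ hα)
  obtain ⟨b₁, hb₁, eb₁, e2⟩ := Hb (res (eY s₀ t j) α₁) (funext fun v => (congrFun ec _).trans
    (pull_res h (eY s₀ s j) (eY s₀ t j) (hY' s₀ h w₁ j) (isPullback_hY' h w₁ j).w (setupY H s) (setupY H t)
      (compat_hom H w₁) hr hrY ⇑α v)) (res_mem _ hα₁)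
  have e3 : ChowOps.cl (res (eX s₀ s j) β) (res_mem _ hβ) = ChowOps.cl b hb := by
    refine Eq.trans ?_ e1
    have := rX_op H c s j k (ChowOps.cl α hα)
    rw [← eβ, rX_cl, rY_cl] at this
    exact this
  refine e2.trans ?_
  have hT := S17576.isSetup_of_compat (eX s₀ t j) (setupX H t) (CycLib.deltaCompat_preimmersion _ t.δX')
  have hS := S17576.isSetup_of_compat (eX s₀ s j) (setupX H s) (CycLib.deltaCompat_preimmersion _ s.δX')
  haveI := hT.1
  haveI := hS.1
  have hcq : Cyc.DeltaCompat (hX' s₀ h h' w₁ w₂ j) (piece H t j).δX' (piece H s j).δX' := by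
    refine S17576.deltaCompat_cancel _ (eX s₀ s j) ?_ (CycLib.deltaCompat_preimmersion (eX s₀ s j) s.δX')
    rw [hX'_fst]
    exact deltaCompat_comp _ _ _ _ _ (CycLib.deltaCompat_preimmersion (eX s₀ t j) t.δX') (compat_hom' H w₃)
  -- pull back of `b - β|`
  have hd : (⇑(b - res (eX s₀ s j) β) : _ → ℤ) ∈ CycLib.Dev.prin hS.2.2 (k - p) :=
    (cl_eq_zero_iff hS.2.2 _ ((ChowOps.zk _ _ (k - p)).sub_mem hb (res_mem _ hβ))).1
      ((QuotientAddGroup.eq_zero_iff _).2 (QuotientAddGroup.eq_iff_sub_mem.1 e3.symm))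
  have hsub : (⇑(b₁ - res (eX s₀ t j) β₁) : _ → ℤ) =
      Cyc.pullFun (hX' s₀ h h' w₁ w₂ j) (piece H t j).δX' (piece H s j).δX' (r : ℤ)
        ⇑(b - res (eX s₀ s j) β) := by
    funext v
    have h1 := congrFun eb₁ v
    have h2 : res (eX s₀ t j) β₁ v = Cyc.pullFun (hX' s₀ h h' w₁ w₂ j) (piece H t j).δX' (piece H s j).δX' (r : ℤ)
        (fun x => β (eX s₀ s j x)) v := (congrFun hβ₁' _).trans
      (pull_res h' (eX s₀ s j) (eX s₀ t j) (hX' s₀ h h' w₁ w₂ j) (isPullback_hX' h h' w₁ w₂ j).w (setupX H s)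
        (setupX H t) (compat_hom' H w₃) hr' hrX ⇑β v)
    rw [Function.locallyFinsuppWithin.coe_sub, Pi.sub_apply, h1, h2]
    simp only [Cyc.pullFun]
    split_ifs
    · rw [Function.locallyFinsuppWithin.coe_sub, Pi.sub_apply]
      show _ - β _ * _ = (_ - β _) * _
      ring
    · simp
  have hm := CycLib.ratEquivZero_pull (hX' s₀ h h' w₁ w₂ j) hT hS hcq hrX
    ((CycLib.Dev.ratEquivZero_iff hS.2.2 (k - p) (b - res (eX s₀ s j) β)).2 hd)
    (b₁ - res (eX s₀ t j) β₁) (fun v => congrFun hsub v)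
  refine S17570.cl_eq_of_mem_prin hT.2.2 b₁ _ hb₁ (res_mem _ hβ₁) ?_
  exact S17570.prin_congr' hT.2.2 hT.2.2 rfl (show k - p + (r : ℤ) = k + r - p by ring) hm

theorem gysin' (s t : Sq f δX δY) (i : t.Y' ⟶ s.Y') [IsClosedImmersion i] (i₂ : t.X' ⟶ s.X')
    [IsClosedImmersion i₂] (w₁ : i ≫ s.g = t.g) (w₂ : i₂ ≫ s.f' = t.f' ≫ i) (w₃ : i₂ ≫ s.g' = t.g')
    (L : s.Y'.Modules) (hL : PicF.IsInvertible L) (σ : L.presheaf.obj (Opposite.op ⊤))
    (hσ : Cyc.IsZeroSchemeOf i L σ) (τ : ((Scheme.Modules.pullback s.f').obj L).presheaf.obj (Opposite.op ⊤))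
    (hτ : Cyc.IsZeroSchemeOf i₂ ((Scheme.Modules.pullback s.f').obj L) τ) (k : ℤ) :
    GysinOK s.δY' t.δY' s.δX' t.δX' i L σ i₂ ((Scheme.Modules.pullback s.f').obj L) τ
      (op H c s k) (op H c t (k - 1)) := by
  intro α hα
  obtain ⟨β, hβ, eβ⟩ := Bivar.exists_rep (op H c s k (ChowOps.cl α hα))
  haveI := (setupY H s).1
  haveI := (setupX H s).1
  haveI := (setupY H t).1
  haveI := (setupX H t).1
  refine ⟨β, hβ, eβ.symm, fun w hw γ hγ hγk w' hw' => ?_⟩
  have hN := PicCl.isInvertible_pullback s.f' hL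
  have hcY := compat_hom H w₁
  have hcX := compat_hom' H w₃
  have eXd : t.δX' = fun d => s.δX' (i₂ d) := funext fun d =>
    CycLib.delta_eq_of_surjective i₂ hcX d (S17576.surjective_residueFieldMap_preimmersion i₂ d)
  have hb : CycLib.Dev.IsCyc s.δX' (k - p - 1 + 1) ⇑β := by
    rw [sub_add_cancel]; exact CycLib.Dev.IsCyc.of_cycle β hβ
  obtain ⟨ζ, hζ, hζ'⟩ := (CycLib.Dev.IsCyc.comp_closed i₂ (CycLib.Dev.isCyc_c1 (setupX H s).2.2 hN hb _
    (CycLib.Dev.gysinChoice_ne_zero τ w' hw'))).exists_cycle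
  rw [← eXd, show k - p - 1 = k - 1 - p by ring] at hζ
  refine ⟨ζ, hζ, congrFun hζ', rX_ext H t _ _ _ fun j => ?_⟩
  haveI := open_eY H s j
  haveI := open_eX H s j
  haveI := open_eY H t j
  haveI := open_eX H t j
  haveI : IsClosedImmersion (hY' s₀ i w₁ j) :=
    MorphismProperty.of_isPullback (P := @IsClosedImmersion) (isPullback_hY' i w₁ j) inferInstance
  haveI : IsClosedImmersion (hX' s₀ i i₂ w₁ w₂ j) :=
    MorphismProperty.of_isPullback (P := @IsClosedImmersion) (isPullback_hX' i i₂ w₁ w₂ j) inferInstance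
  let M := (Scheme.Modules.pullback (eY s₀ s j)).obj L
  have hM : PicF.IsInvertible M := PicCl.isInvertible_pullback _ hL
  have hMN : PicF.IsInvertible ((Scheme.Modules.pullback (fX s₀ s j)).obj M) := PicCl.isInvertible_pullback _ hM
  let ψ : (Scheme.Modules.pullback (eX s₀ s j)).obj ((Scheme.Modules.pullback s.f').obj L) ≅
      (Scheme.Modules.pullback (fX s₀ s j)).obj M :=
    (Scheme.Modules.pullbackComp (eX s₀ s j) s.f').app L ≪≫
      (Scheme.Modules.pullbackCongr pullback.condition).app L ≪≫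
      ((Scheme.Modules.pullbackComp (fX s₀ s j) (eY s₀ s j)).app L).symm
  have hzM := S17568.isZeroSchemeOf_pullback' (eY s₀ s j) (isPullback_hY' i w₁ j).flip hL σ hσ
  have hNe := PicCl.isInvertible_pullback (eX s₀ s j) hN
  have hzN := S17570.isZeroSchemeOf_iso (hX' s₀ i i₂ w₁ w₂ j) hNe ψ _
    (S17568.isZeroSchemeOf_pullback' (eX s₀ s j) (isPullback_hX' i i₂ w₁ w₂ j).flip hN τ hτ)
  obtain ⟨bb, hbb, e1, Hb⟩ := (c j).gysin (piece H s j) (piece H t j) (hY' s₀ i w₁ j) (hX' s₀ i i₂ w₁ w₂ j)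
    (hY'_snd i w₁ j) (hX'_snd i i₂ w₁ w₂ j) (hX'_g i i₂ w₁ w₂ w₃ j) M hM _ hzM _ hzN k
    (res (eY s₀ s j) α) (res_mem _ hα)
  have hSY := S17576.isSetup_of_compat (eY s₀ s j) (setupY H s) (CycLib.deltaCompat_preimmersion _ s.δY')
  have hSX := S17576.isSetup_of_compat (eX s₀ s j) (setupX H s) (CycLib.deltaCompat_preimmersion _ s.δX')
  haveI := hSY.1
  haveI := hSX.1
  obtain ⟨u, hu⟩ := S17573.exists_secFibre_ne_zero hM
  obtain ⟨u', hu'⟩ := S17573.exists_secFibre_ne_zero hMN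
  have eYd : (piece H t j).δY' = fun d => (piece H s j).δY' (hY' s₀ i w₁ j d) := funext fun d => by
    show t.δY' (eY s₀ t j d) = s.δY' (eY s₀ s j (hY' s₀ i w₁ j d))
    rw [← Scheme.Hom.comp_apply (hY' s₀ i w₁ j), hY'_fst, Scheme.Hom.comp_apply,
      CycLib.delta_eq_of_surjective i hcY _ (S17576.surjective_residueFieldMap_preimmersion i _)]
  have ha : CycLib.Dev.IsCyc (piece H s j).δY' (k - 1 + 1) ⇑(res (eY s₀ s j) α) := by
    rw [sub_add_cancel]; exact CycLib.Dev.IsCyc.of_cycle _ (res_mem _ hα)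
  obtain ⟨γj, hγj, hγj'⟩ := (CycLib.Dev.IsCyc.comp_closed (hY' s₀ i w₁ j) (CycLib.Dev.isCyc_c1 hSY.2.2 hM ha _
    (CycLib.Dev.gysinChoice_ne_zero (LFFrame.unitSec (eY s₀ s j) L ⊤ σ) u hu))).exists_cycle
  rw [← eYd] at hγj
  obtain ⟨ζj, hζj, hζj', e2⟩ := Hb u hu γj (congrFun hγj') hγj u' hu'
  have g1 := gysin_res i (eY s₀ s j) (eY s₀ t j) (hY' s₀ i w₁ j) (isPullback_hY' i w₁ j).flip (setupY H s)
    (setupY H t) hcY hL σ hσ hM (Iso.refl _) α hα w hw γ hγ hγk u hu γj (fun d => congrFun hγj' d) hγj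
  rw [rX_op, show rY H t j (k - 1) (ChowOps.cl γ hγk) = ChowOps.cl γj hγj from g1.symm]
  refine e2.trans ?_
  have e3 : ChowOps.cl bb hbb = ChowOps.cl (res (eX s₀ s j) β) (res_mem _ hβ) := by
    refine e1.symm.trans ?_
    have := rX_op H c s j k (ChowOps.cl α hα)
    rw [← eβ, rX_cl, rY_cl] at this
    exact this.symm
  -- the Gysin image of `bb` agrees with that of `β|`
  obtain ⟨G, -, -, -, hspec⟩ := S17568.result (piece H s j).X' (piece H t j).X' (piece H s j).δX'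
    (piece H t j).δX' hSX (S17576.isSetup_of_compat (eX s₀ t j) (setupX H t) (CycLib.deltaCompat_preimmersion _ _))
    (hX' s₀ i i₂ w₁ w₂ j) (by
      refine S17576.deltaCompat_cancel _ (eX s₀ s j) ?_ (CycLib.deltaCompat_preimmersion (eX s₀ s j) s.δX')
      rw [hX'_fst]
      exact deltaCompat_comp _ _ _ _ _ (CycLib.deltaCompat_preimmersion (eX s₀ t j) t.δX') hcX)
    _ hMN _ hzN
  let q : Sq (hX' s₀ i i₂ w₁ w₂ j) (piece H t j).δX' (piece H s j).δX' :=
    ⟨_, _, 𝟙 _, hX' s₀ i i₂ w₁ w₂ j, 𝟙 _, IsPullback.of_vert_isIso ⟨by simp⟩, inferInstance, _, _,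
      deltaCompat_id _, deltaCompat_id _⟩
  let φ₀ : (Scheme.Modules.pullback (fX s₀ s j)).obj M ≅
      (Scheme.Modules.pullback (𝟙 (piece H s j).X')).obj ((Scheme.Modules.pullback (fX s₀ s j)).obj M) :=
    ((Scheme.Modules.pullbackId (piece H s j).X').app _).symm
  have hz0 := S17570.isZeroSchemeOf_iso (hX' s₀ i i₂ w₁ w₂ j) hMN φ₀ _ hzN
  obtain ⟨u₀, hu₀, eu₀⟩ := S17568.exists_choice_iso hSX hMN (PicCl.isInvertible_pullback _ hMN) φ₀
    (ψ.hom.app ⊤ (LFFrame.unitSec (eX s₀ s j) _ ⊤ τ)) u' hu'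
  have hk2 : k - 1 - p = k - p - 1 := by ring
  have hb' : CycLib.Dev.IsCyc (piece H s j).δX' (k - p - 1 + 1) ⇑(res (eX s₀ s j) β) := by
    rw [sub_add_cancel]; exact CycLib.Dev.IsCyc.of_cycle _ (res_mem _ hβ)
  obtain ⟨ζj₂, hζj₂, hζj₂'⟩ := (CycLib.Dev.IsCyc.comp_closed (hX' s₀ i i₂ w₁ w₂ j) (CycLib.Dev.isCyc_c1 hSX.2.2
    hMN hb' _ (CycLib.Dev.gysinChoice_ne_zero (ψ.hom.app ⊤ (LFFrame.unitSec (eX s₀ s j) _ ⊤ τ)) u' hu'))).exists_cycle
  have eX2 : (piece H t j).δX' = fun d => (piece H s j).δX' (hX' s₀ i i₂ w₁ w₂ j d) := funext fun d => by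
    show t.δX' (eX s₀ t j d) = s.δX' (eX s₀ s j (hX' s₀ i i₂ w₁ w₂ j d))
    rw [← Scheme.Hom.comp_apply (hX' s₀ i i₂ w₁ w₂ j), hX'_fst, Scheme.Hom.comp_apply]
    exact congrFun eXd _
  rw [← eX2] at hζj₂
  have hζj₂k : ζj₂ ∈ Cyc.Zk (piece H t j).X' (piece H t j).δX' (k - 1 - p) := by rw [hk2]; exact hζj₂
  have hζk : ζ ∈ Cyc.Zk t.X' t.δX' (k - p - 1) := by rw [← hk2]; exact hζ
  have hζjk : ζj ∈ Cyc.Zk (piece H t j).X' (piece H t j).δX' (k - p - 1) := by rw [← hk2]; exact hζj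
  have g2 := gysin_res i₂ (eX s₀ s j) (eX s₀ t j) (hX' s₀ i i₂ w₁ w₂ j) (isPullback_hX' i i₂ w₁ w₂ j).flip
    (setupX H s) (setupX H t) hcX hN τ hτ hMN ψ β hβ w' hw' ζ (congrFun hζ') hζk u' hu' ζj₂
    (fun d => congrFun hζj₂' d) hζj₂
  have g3 : ChowOps.cl ζj hζjk = ChowOps.cl ζj₂ hζj₂ := by
    have t1 := hspec q _ hz0 (k - p) bb hbb u₀ hu₀ ζj
      (fun d => (hζj' d).trans (congrFun (eu₀ ⇑bb) _)) hζjk
    have t2 := hspec q _ hz0 (k - p) _ (res_mem _ hβ) u₀ hu₀ ζj₂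
      (fun d => (congrFun hζj₂' d).trans (congrFun (eu₀ _) _)) hζj₂
    exact t1.symm.trans ((congrArg (G.op q (k - p)) e3).trans t2)
  have hcast : ∀ (l : ℤ) (hl : l = k - p - 1) (h₁ : ζj ∈ Cyc.Zk _ (piece H t j).δX' l)
      (h₂ : ζ ∈ Cyc.Zk t.X' t.δX' l), ChowOps.cl ζj h₁ = rX H t j l (ChowOps.cl ζ h₂) := by
    intro l hl h₁ h₂
    subst hl
    exact g3.trans g2
  exact hcast _ hk2 hζj hζ


/-- Let f : X → Y be locally of finite type and Y = ∐_{j ∈ J} Y_j a decomposition into open and closed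
subschemes, given as open immersions Y_j → Y with pairwise disjoint images covering Y, each with a
fibre product X_j = Y_j ×_Y X (so X = ∐ X_j and f(X_j) ⊂ Y_j). Then A^p(X → Y) = ∏_j A^p(X_j → Y_j):
the map sending a bivariant class to the family of its restrictions along the squares (Y_j → Y, X_j)
is bijective. (The published statement also allows a finer decomposition of X indexed by a set
mapping to J; that refinement is not stated here.) Here a pair (X, δ) with Cyc.IsSetup plays the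
role of a scheme locally of finite type over the base (S, δ) (X locally Noetherian with universally
catenary local rings, δ a dimension function), Cyc.DeltaCompat records that a dimension function is
the induced one, and bivariant classes are taken in the operational sense of the prelude: additive
operations on the Chow groups CH_k (k-cycles modulo rational equivalence) of all test schemes,
compatible with proper pushforward, flat pullback and the Gysin maps of zero schemes of sections of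
invertible modules in representative form (Bivar.Cl for A^p(X → Y), Bivar.OpCl for A^p(X)). -/
theorem result (X Y : Scheme.{u}) (δX : X → ℤ) (δY : Y → ℤ) (hX : Cyc.IsSetup X δX) (hY : Cyc.IsSetup Y δY) (f : X ⟶ Y) [LocallyOfFiniteType f] (hδ : Cyc.DeltaCompat f δX δY) (p : ℤ) (J : Type u) (s : J → Bivar.Sq f δX δY) (hopen : ∀ j, IsOpenImmersion (s j).g) (hdisj : ∀ j j' : J, j ≠ j' → Disjoint (Set.range (s j).g.base) (Set.range (s j').g.base)) (hcov : ∀ y : Y, ∃ j, y ∈ Set.range (s j).g.base) : Function.Bijective (fun c : Bivar.Cl p f δX δY => fun j : J => c.res (s j)) := by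
  classical
  have H : Hyp f δX δY s := ⟨hX, hY, inferInstance, hopen, hdisj, hcov⟩
  refine ⟨fun c d hcd => ?_, fun c => ?_⟩
  · refine Bivar.Cl.ext (funext fun r => funext fun k => AddMonoidHom.ext fun x => ?_)
    refine rX_ext H r _ _ _ fun j => ?_
    obtain ⟨α, hα, rfl⟩ := Bivar.exists_rep x
    have key : ∀ (e : Bivar.Cl p f δX δY),
        rX H r j (k - p) (e.op r k (ChowOps.cl α hα)) =
          (e.res (s j)).op (piece H r j) k (rY H r j k (ChowOps.cl α hα)) := by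
      intro e
      haveI := (setupY H r).1
      haveI := (setupX H r).1
      haveI := open_eY H r j
      haveI := open_eX H r j
      obtain ⟨β, hβ, e1, He⟩ := e.pull r ((s j).paste (piece H r j)) (eY s r j) (eX s r j) 0
        (hasRelDim_openImmersion _) (hasRelDim_openImmersion _)
        pullback.condition pullback.condition (gX_g r j).symm k α hα
      obtain ⟨β₁, hβ₁, e3, e4⟩ := He (res (eY s r j) α) (res_eq_pullFun _ α)
        (by rw [Nat.cast_zero, add_zero]; exact res_mem _ hα)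
      have hβ₁' : β₁ = res (eX s r j) β := by
        ext b
        rw [e3, Nat.cast_zero]
        exact pullFun_of_isOpenImmersion (eX s r j) (fun _ => rfl) _ b
      subst hβ₁'
      have h5 : ∀ (l : ℤ) (hl : l = k) (h₁ : res (eY s r j) α ∈ Cyc.Zk _ (piece H r j).δY' l)
          (h₂ : res (eX s r j) β ∈ Cyc.Zk _ (piece H r j).δX' (l - p)),
          (e.res (s j)).op (piece H r j) l (ChowOps.cl _ h₁) = ChowOps.cl _ h₂ →
          (e.res (s j)).op (piece H r j) k (ChowOps.cl (res (eY s r j) α) (res_mem _ hα)) =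
            ChowOps.cl (res (eX s r j) β) (res_mem _ hβ) := by
        intro l hl h₁ h₂ hh
        subst hl
        exact hh
      rw [e1, rX_cl, rY_cl]
      exact (h5 _ (by simp) _ _ e4).symm
    rw [key c, key d, show c.res (s j) = d.res (s j) from congrFun hcd j]
  · let C : Bivar.Cl p f δX δY :=
      { op := fun r k => op H c r k
        push := fun r t h _ h' _ w₁ w₂ w₃ k => push' H c r t h h' w₁ w₂ w₃ k
        pull := fun r t h _ h' _ n hn hn' w₁ w₂ w₃ k => pull' H c r t h h' n hn hn' w₁ w₂ w₃ k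
        gysin := fun r t i _ i₂ _ w₁ w₂ w₃ L hL σ hσ τ hτ k =>
          gysin' H c r t i i₂ w₁ w₂ w₃ L hL σ hσ τ hτ k }
    refine ⟨C, funext fun j => Bivar.Cl.ext (funext fun q => funext fun k => AddMonoidHom.ext fun x => ?_)⟩
    haveI := q.lft
    haveI := hopen j
    let r := (s j).paste q
    show op H c r k x = (c j).op q k x
    refine rX_ext H r _ _ _ fun j' => ?_
    rw [rX_op]
    obtain ⟨α, hα, rfl⟩ := Bivar.exists_rep x
    haveI := (setupY H r).1
    haveI := (setupX H r).1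
    haveI := open_eY H r j'
    haveI := open_eX H r j'
    obtain ⟨β, hβ, eβ⟩ := Bivar.exists_rep ((c j).op q k (ChowOps.cl α hα))
    rw [← eβ, rY_cl, rX_cl]
    by_cases hjj : j' = j
    · subst hjj
      have hw : eY s r j' ≫ q.g = (piece H r j').g := by
        haveI : Mono (s j').g := inferInstance
        rw [← cancel_mono (s j').g, Category.assoc]
        exact pullback.condition
      have hw3 : eX s r j' ≫ q.g' = (piece H r j').g' := by
        refine (s j').isPullback.hom_ext ?_ ?_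
        · show (eX s r j' ≫ q.g') ≫ (s j').f' = gX s r j' ≫ (s j').f'
          rw [gX_f, Category.assoc, ← q.isPullback.w, ← Category.assoc]
          show (eX s r j' ≫ r.f') ≫ q.g = _
          rw [pullback.condition, Category.assoc]
          exact congrArg (fX s r j' ≫ ·) hw
        · rw [Category.assoc]
          exact (gX_g r j').symm
      obtain ⟨β₀, hβ₀, e1, He⟩ := (c j').pull q (piece H r j') (eY s r j') (eX s r j') 0
        (hasRelDim_openImmersion _) (hasRelDim_openImmersion _) hw pullback.condition hw3 k α hα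
      obtain ⟨β₁, hβ₁, e3, e4⟩ := He (res (eY s r j') α) (res_eq_pullFun _ α)
        (by rw [Nat.cast_zero, add_zero]; exact res_mem _ hα)
      have hβ₁' : β₁ = res (eX s r j') β₀ := by
        ext b
        rw [e3, Nat.cast_zero]
        exact pullFun_of_isOpenImmersion (eX s r j') (fun _ => rfl) _ b
      subst hβ₁'
      have h5 : ∀ (l : ℤ) (hl : l = k) (h₁ : res (eY s r j') α ∈ Cyc.Zk _ (piece H r j').δY' l)
          (h₂ : res (eX s r j') β₀ ∈ Cyc.Zk _ (piece H r j').δX' (l - p)),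
          (c j').op (piece H r j') l (ChowOps.cl _ h₁) = ChowOps.cl _ h₂ →
          (c j').op (piece H r j') k (ChowOps.cl (res (eY s r j') α) (res_mem _ hα)) =
            ChowOps.cl (res (eX s r j') β₀) (res_mem _ hβ₀) := by
        intro l hl h₁ h₂ hh
        subst hl
        exact hh
      refine (h5 _ (by simp) _ _ e4).trans ?_
      have := congrArg (rho (eX s r j') (setupX H r).2.2 (k - p)) (e1.symm.trans eβ.symm)
      rw [rho_cl, rho_cl] at this
      exact this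
    · have hempty : IsEmpty ↥(piece H r j').Y' := ⟨fun v => by
        have h1 : r.g (eY s r j' v) ∈ Set.range (s j').g.base := ⟨pullback.snd r.g (s j').g v, by
          show (pullback.snd r.g (s j').g ≫ (s j').g) v = (pullback.fst r.g (s j').g ≫ r.g) v
          rw [pullback.condition]⟩
        have h2 : r.g (eY s r j' v) ∈ Set.range (s j).g.base := ⟨q.g (eY s r j' v), rfl⟩
        exact Set.disjoint_left.1 (hdisj j' j hjj) h1 h2⟩
      have hempty' : IsEmpty ↥(piece H r j').X' := ⟨fun v => hempty.elim ((piece H r j').f' v)⟩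
      have e1 : res (eY s r j') α = 0 := by ext v; exact hempty.elim v
      have e2 : res (eX s r j') β = 0 := by ext v; exact hempty'.elim v
      refine (congrArg ((c j').op (piece H r j') k) ((Bivar.cl_congr e1 _ (fun _ _ => rfl)).trans Bivar.cl_zero)).trans ?_
      exact (map_zero _).trans ((Bivar.cl_congr e2 _ (fun _ _ => rfl)).trans Bivar.cl_zero).symm

end Groth.Agent.S17578
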