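import Groth.Statements.S17583
import Groth.Agent.Props.GenPull

set_option autoImplicit false
open CategoryTheory CategoryTheory.Limits AlgebraicGeometry
open PosLin

namespace Groth.Agent.S17583

/-- Let X and Y each be a projective variety over the complex numbers (an integral scheme, proper over
ℂ, with an ample invertible module), and let f : X → Y be an algebraic fibre space: a surjective
morphism over ℂ such that the canonical map O_Y → f_*O_X is an isomorphism. Then for every
invertible O_Y-module L the unit L → f_* f^* L of the pullback–pushforward adjunction is an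
isomorphism; taking global sections, H^0(X, f^*L) = H^0(Y, L) (the printed statement is this
equality for the powers L^⊗m, m > 0, and adds the equality of Iitaka dimensions, which is not stated
here). -/
theorem result (X : Scheme.{0}) [X.Over (Spec (CommRingCat.of ℂ))] [IsIntegral X] [IsProper (X ↘ Spec (CommRingCat.of ℂ))]
    (HX : X.Modules) (hHX : CohB1.IsAmple HX)
    (Y : Scheme.{0}) [Y.Over (Spec (CommRingCat.of ℂ))] [IsIntegral Y] [IsProper (Y ↘ Spec (CommRingCat.of ℂ))]
    (HY : Y.Modules) (hHY : CohB1.IsAmple HY)
    (f : X ⟶ Y) (hf : f ≫ (Y ↘ Spec (CommRingCat.of ℂ)) = X ↘ Spec (CommRingCat.of ℂ)) [Surjective f]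
    (hfs : IsIso (ClSub.unitToPush f))
    (L : Y.Modules) (hL : PicF.IsInvertible L) :
    IsIso ((Scheme.Modules.pullbackPushforwardAdjunction f).unit.app L) := by
  open Groth.Agent.QCoh Groth.Agent.Props.GenLocus Groth.Agent.Props.GenPull in
  refine Groth.Agent.LFFrame.isIso_of_locally_bijective _ fun y => ?_
  obtain ⟨U, e, hyU, he⟩ := Groth.Agent.Props.GenLocus.exists_isGen hL y
  refine ⟨U, hyU, fun V hV => ?_⟩
  have hf' : Function.Bijective (f.app V).hom :=
    ConcreteCategory.bijective_of_isIso (Scheme.Modules.Hom.app (ClSub.unitToPush f) V)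
  have he' := Groth.Agent.Props.GenPull.isGen_pb f he
  have hgen := he V hV
  have hgen' := he' (f ⁻¹ᵁ V) (f.preimage_mono hV)
  have key : ∀ r, Groth.Agent.LFFrame.unitSec f L V (Groth.Agent.Props.GenLocus.sm e hV r) =
      Groth.Agent.Props.GenLocus.sm (Groth.Agent.Props.GenPull.pb f e) (f.preimage_mono hV) ((f.app V).hom r) := by
    intro r
    simp only [Groth.Agent.Props.GenLocus.sm]
    refine (Groth.Agent.LFFrame.unitSec_smul f L V r _).trans ?_
    rw [Groth.Agent.LFFrame.unitSec_res]
  have h2 : Function.Bijective (Groth.Agent.LFFrame.unitSec f L V) := by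
    refine (Function.Bijective.of_comp_iff _ hgen).1 ?_
    rw [show (Groth.Agent.LFFrame.unitSec f L V : _ → _) ∘ Groth.Agent.Props.GenLocus.sm e hV = _ from funext key]
    exact hgen'.comp hf'
  exact h2

end Groth.Agent.S17583
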