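import Groth.Statements.S18163
import Groth.Agent.AmpleLib.GlobGen
import Groth.Agent.InvOfTensor
import Groth.Agent.LFDesc.Trivial
import Groth.Agent.LFDesc.Invertible
import Groth.Agent.DimOneAmple.AmpleOfGG
import Groth.Agent.Props.GenPull
import Groth.Agent.CMReg.Closed
import Groth.Agent.FormalFun.TowerVan
import Groth.Agent.HilbPolyX.Ample
import Groth.Agent.ZeroSchemeLib.Basic

set_option autoImplicit false
universe u
open BSB

namespace Groth.Agent.S18163

open AlgebraicGeometry CategoryTheory CategoryTheory.Limits TopologicalSpace Opposite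
open Groth.Agent.QCoh Groth.Agent.Props.GenLocus Groth.Agent.Props.GenTensor Groth.Agent.Props.GenProd
open Groth.Agent.Props.GenPull Groth.Agent.AmpleLib

/-- frames over preimages of a neighbourhood of every point of the base -/
def Triv {X X' : Scheme.{u}} (π : X ⟶ X') (B : X.Modules) : Prop :=
  ∀ y : X', ∃ (V : X'.Opens) (e : Γ(B, π ⁻¹ᵁ V)), y ∈ V ∧ IsGen B (π ⁻¹ᵁ V) e

theorem nonempty_powMul {X : Scheme.{u}} (L : X.Modules) (a : ℕ) : ∀ b : ℕ,
    Nonempty (CohB1.tensorPow (CohB1.tensorPow L a) b ≅ CohB1.tensorPow L (a * b))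
  | 0 => ⟨Iso.refl _⟩
  | b + 1 => (nonempty_powMul L a b).map fun t =>
      ProjTwist.tensCongr t (Iso.refl _) ≪≫ HilbPolyX.powAdd L (a * b) a

theorem triv_of_gg {X X' : Scheme.{u}} (π : X ⟶ X') [IsProper π]
    (hπ : ∀ U : X'.Opens, IsIso (π.app U)) {B : X.Modules} (hB : PicF.IsInvertible B)
    (hgg : Curv2.IsGloballyGenerated B) {P : X'.Modules} (hP : PicF.IsInvertible P)
    {m : ℕ} (hm : 0 < m) (φ : CohB1.tensorPow B m ≅ (Scheme.Modules.pullback π).obj P) :
    Triv π B := by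
  intro y
  have hbij : ∀ U : X'.Opens, Function.Bijective (π.app U) :=
    fun U => (ConcreteCategory.isIso_iff_bijective _).1 (hπ U)
  obtain ⟨x, rfl⟩ : ∃ x, π x = y := by
    by_contra hy
    let V : X'.Opens := ⟨(Set.range π)ᶜ, (π.isClosedMap.isClosed_range).isOpen_compl⟩
    have hyV : y ∈ V := fun ⟨x, hx⟩ => hy ⟨x, hx⟩
    have hb : π ⁻¹ᵁ V = ⊥ := le_bot_iff.1 fun x hx => (hx ⟨x, rfl⟩).elim
    haveI : Subsingleton Γ(X, π ⁻¹ᵁ V) := by rw [hb]; infer_instance
    have h01 : (0 : Γ(X', V)) = 1 := (hbij V).1 (Subsingleton.elim _ _)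
    have := congrArg (X'.presheaf.germ V y hyV).hom h01
    rw [map_zero, map_one] at this
    exact zero_ne_one this
  obtain ⟨σ, hσ⟩ := DimOneAmple.exists_genLocus_mem hB hgg x
  obtain ⟨V, g, hxV, hg⟩ := exists_isGen hP (π x)
  let s := homOfSec σ
  have hs : sec s ⊤ = σ := by rw [sec_homOfSec, res_self]
  have hsx : x ∈ CohB1.genLocus B s := by rw [genLocus_eq_locus, hs]; exact hσ
  let t := homOfSec (pw B σ m)
  have ht : CohB1.genLocus _ t = CohB1.genLocus B s := genLocus_ext hB fun W e he => by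
    obtain ⟨c, hc, -⟩ := he.exists_eq le_rfl (res B le_top σ)
    rw [res_self] at hc
    rw [genLocus_inf he s (f := c) (by rw [sec_homOfSec, hc]),
      genLocus_inf (isGen_pw he m) t (f := c ^ m) (by rw [sec_homOfSec, res_pw, hc, pw_smul]),
      Scheme.basicOpen_pow _ _ hm]
  let r : Coh.structureModule X ⟶ (Scheme.Modules.pullback π).obj P := t ≫ φ.hom
  have hr : CohB1.genLocus _ r = CohB1.genLocus B s := by
    rw [← ht]
    show sSup _ = sSup _
    congr 1
    refine Set.ext fun W => ?_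
    simp only [r, Set.mem_ofPred_eq, Functor.map_comp, isIso_comp_right_iff]
  obtain ⟨a', ha', -⟩ := (isGen_pb π hg).exists_eq le_rfl (sec r (π ⁻¹ᵁ V))
  rw [res_self] at ha'
  obtain ⟨a, rfl⟩ := (hbij V).2 a'
  have h := genLocus_inf (isGen_pb π hg) r ha'
  rw [hr, ← Scheme.preimage_basicOpen] at h
  have hle : π ⁻¹ᵁ X'.basicOpen a ≤ CohB1.genLocus B s := h ▸ inf_le_left
  refine ⟨X'.basicOpen a, sec s (π ⁻¹ᵁ X'.basicOpen a), ?_, ?_⟩
  · show x ∈ π ⁻¹ᵁ X'.basicOpen a
    rw [← h]; exact ⟨hsx, hxV⟩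
  · have := (isGen_genLocus s).restrict hle
    rwa [sec_res] at this

theorem triv_sub {X X' : Scheme.{u}} (π : X ⟶ X') {A B C : X.Modules}
    (φ : CohB1.tensorMod C A ≅ B) (hA : Triv π A) (hB : Triv π B) : Triv π C := by
  intro y
  obtain ⟨V₁, a, h1, ha⟩ := hA y
  obtain ⟨V₂, b, h2, hb⟩ := hB y
  have hl : π ⁻¹ᵁ (V₁ ⊓ V₂) ≤ π ⁻¹ᵁ V₁ := π.preimage_mono inf_le_left
  have hr : π ⁻¹ᵁ (V₁ ⊓ V₂) ≤ π ⁻¹ᵁ V₂ := π.preimage_mono inf_le_right
  have hbg := InvOfTensor.isGen_of_iso φ.inv (hb.restrict hr)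
  obtain ⟨c, hc⟩ := (tmul_gen_bijective ha C hl).2 (φ.inv.app _ (res B hr b))
  refine ⟨V₁ ⊓ V₂, c, ⟨h1, h2⟩, fun W hW => ?_⟩
  have : (fun m : Γ(C, W) => tmul m (res A (hW.trans hl) a)) ∘ sm c hW =
      sm (φ.inv.app _ (res B hr b)) hW := funext fun r => by
    simp only [Function.comp_apply, sm, tmul_smul_left, ← hc, res_tmul, res_res]
  refine (Function.Bijective.of_comp_iff' (tmul_gen_bijective ha C (hW.trans hl)) _).1 ?_
  rw [this]
  exact hbg W hW

theorem descend {X X' : Scheme.{u}} (π : X ⟶ X') (hπ : ∀ U : X'.Opens, IsIso (π.app U))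
    {B : X.Modules} (hB : Triv π B) :
    ∃ L' : X'.Modules, PicF.IsInvertible L' ∧ Nonempty ((Scheme.Modules.pullback π).obj L' ≅ B) := by
  have hbij : ∀ U : X'.Opens, Function.Bijective (π.app U) :=
    fun U => (ConcreteCategory.isIso_iff_bijective _).1 (hπ U)
  let L' := (Scheme.Modules.pushforward π).obj B
  have hgen : ∀ (V : X'.Opens) (e : Γ(B, π ⁻¹ᵁ V)), IsGen B (π ⁻¹ᵁ V) e →
      IsGen L' V (show Γ(L', V) from e) := fun V e he W hW => by
    have : sm (L := L') (show Γ(L', V) from e) hW = sm e (π.preimage_mono hW) ∘ π.app W := rfl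
    rw [this]
    exact (he _ (π.preimage_mono hW)).comp (hbij W)
  refine ⟨L', fun y => ?_, ?_⟩
  · obtain ⟨V, e, hy, he⟩ := hB y
    exact ⟨V, hy, LFFrame.IsFrame.nonempty_restrict_iso ((isGen_iff_isFrame _).mp (hgen V e he))⟩
  let adj := Scheme.Modules.pullbackPushforwardAdjunction π
  let ε : (Scheme.Modules.pullback π).obj L' ⟶ B := adj.counit.app B
  haveI : IsIso ε := by
    refine LFDesc.isIso_of_bijective_small ε fun x U hxU => ?_
    obtain ⟨V, e, hy, he⟩ := hB (π x)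
    have hp := isGen_pb π (hgen V e he)
    have hεe : ε.app (π ⁻¹ᵁ V) (pb π (show Γ(L', V) from e)) = e :=
      congrArg (fun χ : L' ⟶ L' => χ.app V (show Γ(L', V) from e)) (adj.right_triangle_components B)
    refine ⟨U ⊓ π ⁻¹ᵁ V, ⟨hxU, hy⟩, inf_le_left, ?_⟩
    have hs : sm e (inf_le_right : U ⊓ π ⁻¹ᵁ V ≤ _) =
        ε.app (U ⊓ π ⁻¹ᵁ V) ∘ sm (pb π (show Γ(L', V) from e)) inf_le_right := funext fun r => by
      simp only [Function.comp_apply, sm, Scheme.Modules.Hom.app_smul, app_res, hεe]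
    have := he _ (inf_le_right : U ⊓ π ⁻¹ᵁ V ≤ _)
    rw [hs] at this
    exact (Function.Bijective.of_comp_iff _ (hp _ inf_le_right)).1 this
  exact ⟨asIso ε⟩

open AlgebraicGeometry CategoryTheory CategoryTheory.Limits in
/-- Let X and X' be proper over a field k, π : X ⟶ X' a k-morphism such that O_{X'} ⟶ π_* O_X is an
isomorphism, L an invertible O_X-module, M an ample invertible module on X' whose pullback along π
is isomorphic to L^m for some m > 0, and d > 0 such that for all large n the power L^n is globally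
generated exactly when d ∣ n (d is the exponent of the semiample module L, and X' with π is the
contraction L determines). Then for e > 0 the power L^e is isomorphic to the pullback of an
invertible module on X' if and only if d ∣ e. -/
theorem result (k : Type u) [Field k] (X X' : Scheme.{u})
    [X.Over (Spec (CommRingCat.of k))] [X'.Over (Spec (CommRingCat.of k))]
    [IsProper (X ↘ Spec (CommRingCat.of k))] [IsProper (X' ↘ Spec (CommRingCat.of k))]
    (π : X ⟶ X') (hover : π ≫ (X' ↘ Spec (CommRingCat.of k)) = X ↘ Spec (CommRingCat.of k))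
    (hπ : ∀ U : X'.Opens, IsIso (π.app U))
    (L : X.Modules) (hL : PicF.IsInvertible L) (M : X'.Modules) (hM : PicF.IsInvertible M) (hMa : CohB1.IsAmple M)
    (m : ℕ) (hm : 0 < m) (e0 : Nonempty ((Scheme.Modules.pullback π).obj M ≅ CohB1.tensorPow L m))
    (d : ℕ) (hd : 0 < d)
    (hexp : ∃ m0 : ℕ, ∀ n : ℕ, m0 ≤ n → (Curv2.IsGloballyGenerated (CohB1.tensorPow L n) ↔ d ∣ n)) :
    ∀ e : ℕ, 0 < e →
      ((∃ L' : X'.Modules, PicF.IsInvertible L' ∧ Nonempty ((Scheme.Modules.pullback π).obj L' ≅ CohB1.tensorPow L e)) ↔ d ∣ e) := by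
  intro e he
  haveI : IsProper π := by
    have : IsProper (π ≫ (X' ↘ Spec (CommRingCat.of k))) := by rw [hover]; infer_instance
    exact IsProper.of_comp π (X' ↘ Spec (CommRingCat.of k))
  obtain ⟨m0, hexp⟩ := hexp
  obtain ⟨e0⟩ := e0
  constructor
  · rintro ⟨L', hL', ⟨i⟩⟩
    haveI : L'.IsQuasicoherent := ProjTwist.isQCoh_of_isInvertible hL'
    obtain ⟨n₀, hn₀⟩ := AmpleLib.eventually_globallyGenerated hMa
      (ProjTwist.isQCoh_of_isInvertible hL') (ZeroSchemeLib.isFiniteType_of_isInvertible hL')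
    have key : ∀ n, n₀ + m0 ≤ n → d ∣ e + m * n := by
      intro n hn
      refine (hexp _ ?_).1 ?_
      · have := Nat.le_mul_of_pos_left n hm; omega
      · obtain ⟨t1⟩ := PicLaw.pullback_tensor π hL' (AmpleLib.isInvertible_tensorPow hM n)
        obtain ⟨t2⟩ := FormalFun.nonempty_pullback_tensorPow π hM n
        obtain ⟨t3⟩ := FormalFun.nonempty_tensorPow_congr e0 n
        obtain ⟨t4⟩ := nonempty_powMul L m n
        exact CMReg.isGloballyGenerated_iso
          (t1 ≪≫ ProjTwist.tensCongr i (t2 ≪≫ t3 ≪≫ t4) ≪≫ HilbPolyX.powAdd L e (m * n))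
          (CMReg.isGloballyGenerated_pullback π (hn₀ n (by omega)))
    have h1 := key (n₀ + m0) le_rfl
    have h2 := key (n₀ + m0 + 1) (Nat.le_succ _)
    rw [Nat.mul_succ, ← Nat.add_assoc] at h2
    have h3 : d ∣ m := (Nat.dvd_add_right h1).1 h2
    exact (Nat.dvd_add_left (h3.mul_right _)).1 h1
  · intro hde
    have htriv : ∀ q : ℕ, m0 ≤ q → Triv π (CohB1.tensorPow L (e * q)) := by
      intro q hq
      obtain ⟨t1⟩ := FormalFun.nonempty_pullback_tensorPow π hM (e * q)
      obtain ⟨t2⟩ := FormalFun.nonempty_tensorPow_congr e0 (e * q)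
      obtain ⟨t3⟩ := nonempty_powMul L m (e * q)
      obtain ⟨t4⟩ := nonempty_powMul L (e * q) m
      refine triv_of_gg π hπ (AmpleLib.isInvertible_tensorPow hL _)
        ((hexp _ ?_).2 (hde.mul_right q)) (AmpleLib.isInvertible_tensorPow hM (e * q)) hm
        (t4 ≪≫ eqToIso (congrArg (CohB1.tensorPow L) (Nat.mul_comm (e * q) m)) ≪≫
          (t1 ≪≫ t2 ≪≫ t3).symm)
      exact hq.trans (Nat.le_mul_of_pos_left q he)
    exact descend π hπ (triv_sub π
      (HilbPolyX.powAdd L e (e * m0) ≪≫ eqToIso (congrArg (CohB1.tensorPow L) (by ring)))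
      (htriv m0 le_rfl) (htriv (m0 + 1) (Nat.le_succ _)))

end Groth.Agent.S18163
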