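import Groth.Statements.S17585
import Groth.Agent.S18163
import Groth.Agent.BigVol.SemiAmple
import Groth.Agent.FormalFun.Stein
import Groth.Agent.Fibration.H1
import Groth.Agent.S1340

set_option autoImplicit false
open CategoryTheory CategoryTheory.Limits AlgebraicGeometry
open PosLin

namespace Groth.Agent.S17585

open AlgebraicGeometry CategoryTheory CategoryTheory.Limits TopologicalSpace Opposite
open Groth.Agent.Props.GenLocus

theorem isIso_unit {X X' : Scheme.{0}} (π : X ⟶ X') (hπ : ∀ U : X'.Opens, IsIso (π.app U))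
    {P : X'.Modules} (hP : PicF.IsInvertible P) :
    IsIso ((Scheme.Modules.pullbackPushforwardAdjunction π).unit.app P) := by
  refine LFDesc.isIso_of_bijective_small _ fun y U hyU => ?_
  obtain ⟨V, e, hy, he⟩ := exists_isGen hP y
  exact ⟨U ⊓ V, ⟨hyU, hy⟩, inf_le_left, ((isGen_iff_isFrame e).mp he).unitSec_bijective π
    (fun W => (ConcreteCategory.isIso_iff_bijective _).1 (hπ W)) _ inf_le_right⟩

theorem iso_of_pullback_iso {X X' : Scheme.{0}} (π : X ⟶ X') (hπ : ∀ U : X'.Opens, IsIso (π.app U))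
    {P Q : X'.Modules} (hP : PicF.IsInvertible P) (hQ : PicF.IsInvertible Q)
    (e : (Scheme.Modules.pullback π).obj P ≅ (Scheme.Modules.pullback π).obj Q) : Nonempty (P ≅ Q) := by
  haveI := isIso_unit π hπ hP
  haveI := isIso_unit π hπ hQ
  exact ⟨asIso ((Scheme.Modules.pullbackPushforwardAdjunction π).unit.app P) ≪≫
    (Scheme.Modules.pushforward π).mapIso e ≪≫
    (asIso ((Scheme.Modules.pullbackPushforwardAdjunction π).unit.app Q)).symm⟩

/-- Let X be a projective variety over the complex numbers (an integral scheme, proper over ℂ, with an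
ample invertible module) which is normal, and L a semiample invertible O_X-module: L^⊗m is globally
generated for some m > 0. Then there exist Y, a projective variety over the complex numbers (an
integral scheme, proper over ℂ, with an ample invertible module), and an algebraic fibre space φ : X
→ Y over ℂ (surjective, with O_Y → φ_*O_X an isomorphism), such that for every m > 0 with L^⊗m
globally generated there is an ample invertible O_Y-module A with φ^*A ≅ L^⊗m. (The published
statement says more: φ is the morphism defined by the complete linear series of L^⊗m for every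
sufficiently large such m, its image being Y, and the ample module with φ^*A ≅ L^⊗f, f the exponent
of the semigroup of such m, is fixed; this row keeps the existence of the fibre space and of the
ample modules pulling back to the globally generated powers.) -/
theorem result (X : Scheme.{0}) [X.Over (Spec (CommRingCat.of ℂ))] [IsIntegral X]
    [IsProper (X ↘ Spec (CommRingCat.of ℂ))] (H : X.Modules) (hH : CohB1.IsAmple H)
    (hXn : Pi1.IsNormalScheme X)
    (L : X.Modules) (hL : PicF.IsInvertible L)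
    (hsa : ∃ m : ℕ, 0 < m ∧ Curv2.IsGloballyGenerated (CohB1.tensorPow L m)) :
    ∃ (Y : Scheme.{0}) (g : Y ⟶ Spec (CommRingCat.of ℂ)) (HY : Y.Modules) (φ : X ⟶ Y),
      IsIntegral Y ∧ IsProper g ∧ CohB1.IsAmple HY ∧
      φ ≫ g = X ↘ Spec (CommRingCat.of ℂ) ∧ Surjective φ ∧ IsIso (ClSub.unitToPush φ) ∧
      ∀ m : ℕ, 0 < m → Curv2.IsGloballyGenerated (CohB1.tensorPow L m) →
        ∃ A : Y.Modules, CohB1.IsAmple A ∧ Nonempty ((Scheme.Modules.pullback φ).obj A ≅ CohB1.tensorPow L m) := by
  obtain ⟨m₀, hm₀, hgg₀⟩ := hsa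
  have hL₀ := AmpleLib.isInvertible_tensorPow hL m₀
  obtain ⟨c, ψ, hψ, hψo, ⟨τ⟩⟩ := BigVol.SemiAmple.exists_toProjSpace ℂ hL₀ hgg₀
  haveI := ProjProper.Basic.isProper_toSpec c ℂ
  haveI : IsLocallyNoetherian (CohB1.ProjSpace c ℂ) :=
    LocallyOfFiniteType.isLocallyNoetherian (CohB1.ProjSpace.toSpec c ℂ)
  haveI : IsFinite ψ.fromNormalization := FormalFun.isFinite_fromNormalization ψ
  haveI : IsProper ψ.toNormalization := by
    have : IsProper (ψ.toNormalization ≫ ψ.fromNormalization) := by
      rw [ψ.toNormalization_fromNormalization]; infer_instance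
    exact IsProper.of_comp ψ.toNormalization ψ.fromNormalization
  have hπ : ∀ U : ψ.normalization.Opens, IsIso (ψ.toNormalization.app U) := fun U => S1340.result ψ U
  let φ := ψ.toNormalization
  let O1 := Twist.twistProjSpace c ℂ 1
  let A₀ := (Scheme.Modules.pullback ψ.fromNormalization).obj O1
  have haff : IsAffineHom ψ.fromNormalization := inferInstance
  have hA₀ : CohB1.IsAmple A₀ :=
    ProjMorph.isAmple_pullback_twist_of_isAffineHom ψ.fromNormalization haff
  let τ' : (Scheme.Modules.pullback φ).obj A₀ ≅ CohB1.tensorPow L m₀ :=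
    (Scheme.Modules.pullbackComp φ ψ.fromNormalization).app O1 ≪≫
      (Scheme.Modules.pullbackCongr ψ.toNormalization_fromNormalization).app O1 ≪≫ τ
  refine ⟨ψ.normalization, ψ.fromNormalization ≫ CohB1.ProjSpace.toSpec c ℂ, A₀, φ, inferInstance,
    inferInstance, hA₀, ?_, ⟨FormalFun.surjective_toNormalization ψ⟩,
    Fibration.isIso_unitToPush φ hπ, fun m hm hgg => ?_⟩
  · rw [← Category.assoc, ψ.toNormalization_fromNormalization, hψo]
  have hP := AmpleLib.isInvertible_tensorPow hA₀.1 m
  obtain ⟨t1⟩ := FormalFun.nonempty_pullback_tensorPow φ hA₀.1 m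
  obtain ⟨t2⟩ := FormalFun.nonempty_tensorPow_congr τ' m
  obtain ⟨t3⟩ := S18163.nonempty_powMul L m₀ m
  obtain ⟨t4⟩ := S18163.nonempty_powMul L m m₀
  let χ : CohB1.tensorPow (CohB1.tensorPow L m) m₀ ≅
      (Scheme.Modules.pullback φ).obj (CohB1.tensorPow A₀ m) :=
    t4 ≪≫ eqToIso (congrArg (CohB1.tensorPow L) (Nat.mul_comm m m₀)) ≪≫ (t1 ≪≫ t2 ≪≫ t3).symm
  obtain ⟨A, hA, ⟨i⟩⟩ := S18163.descend φ hπ
    (S18163.triv_of_gg φ hπ (AmpleLib.isInvertible_tensorPow hL m) hgg hP hm₀ χ)
  obtain ⟨u1⟩ := FormalFun.nonempty_pullback_tensorPow φ hA m₀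
  obtain ⟨u2⟩ := FormalFun.nonempty_tensorPow_congr i m₀
  obtain ⟨w⟩ := iso_of_pullback_iso φ hπ (AmpleLib.isInvertible_tensorPow hA m₀) hP (u1 ≪≫ u2 ≪≫ χ)
  refine ⟨A, (Props.AmpleFrames.isAmple_tensorPow_iff hA hm₀).2 (Props.AmpleFrames.isAmple_of_iso w.symm ?_), ⟨i⟩⟩
  exact (Props.AmpleFrames.isAmple_tensorPow_iff hA₀.1 hm).1 hA₀

end Groth.Agent.S17585
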