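import Groth.Statements.S17587
import Groth.Agent.BigVol.Basic
import Groth.Agent.S17278
import Groth.Agent.VarDim.Scheme
-- import your own Groth.Agent.* helpers here

set_option autoImplicit false
set_option linter.style.haveILetI false
open CategoryTheory CategoryTheory.Limits AlgebraicGeometry
open PosLin

namespace Groth.Agent.S17587

/-- Let X be a projective variety over the complex numbers (an integral scheme, proper over ℂ, with an
ample invertible module), and L an invertible O_X-module which is big, bigness being expressed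
through the equivalent condition that every ample invertible O_X-module A admits a monomorphism A →
L^⊗m for some m > 0. Then the exponent of L is 1, that is, H^0(X, L^⊗m) ≠ 0 for every sufficiently
large m. -/
theorem result (X : Scheme.{0}) [X.Over (Spec (CommRingCat.of ℂ))] [IsIntegral X]
    [IsProper (X ↘ Spec (CommRingCat.of ℂ))] (H : X.Modules) (hH : CohB1.IsAmple H)
    (L : X.Modules) (hL : PicF.IsInvertible L)
    (hbig : ∀ A : X.Modules, CohB1.IsAmple A → ∃ (m : ℕ) (φ : A ⟶ CohB1.tensorPow L m), 0 < m ∧ Mono φ) :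
    ∃ m₁ : ℕ, ∀ m : ℕ, m₁ ≤ m → Nontrivial (Coh.HH X (CohB1.tensorPow L m) 0) := by
  haveI := EulerChar.isNoetherian ℂ (X := X)
  obtain ⟨d, hd⟩ : ∃ d : ℕ, topologicalKrullDim X = (d : WithBot ℕ∞) :=
    ⟨_, VarDim.topologicalKrullDim_eq_of_irreducible ℂ⟩
  obtain ⟨⟨r₀, hr₀⟩, -⟩ := BigVol.big_of_sub ℂ hH hL hd fun A hA => by
    obtain ⟨m, φ, hm, hφ⟩ := hbig A hA
    exact ⟨m, hm, φ, hφ⟩
  refine ⟨r₀, fun m hm => ?_⟩
  have hO := LFFrame.isInvertible_structureModule X
  have hLm := AmpleLib.isInvertible_tensorPow hL m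
  have h1 := (S17278.nontrivial_iff_sub (k := ℂ) hO hO hLm (BigVol.structure_tensor hO).some).mpr (hr₀ m hm)
  have := EulerChar.finite_HH ℂ _ (BigVol.isCoh_of_isInvertible (AmpleLib.isInvertible_tensorMod hO hLm)) 0
  have h2 := Module.finrank_pos (R := ℂ) (M := Coh.HH X (CohB1.tensorMod (Coh.structureModule X) (CohB1.tensorPow L m)) 0)
  rw [ProjTwist.Pn.finrank_hh_iso (BigVol.structure_tensor hLm).some 0] at h2
  exact Module.nontrivial_of_finrank_pos h2

end Groth.Agent.S17587
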