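import Groth.Statements.S17588
import Groth.Agent.NefPos.Growth

set_option autoImplicit false
open CategoryTheory CategoryTheory.Limits AlgebraicGeometry
open PosLin

namespace Groth.Agent.S17588

/-- Let X be a projective variety over the complex numbers (an integral scheme, proper over ℂ, with an
ample invertible module) of dimension n, L an invertible O_X-module which is numerically effective
(its restriction to every integral one-dimensional closed subscheme has non-negative degree), and
L⁻¹ a tensor inverse of L. Then L is big, bigness being expressed through the equivalent growth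
condition dim_ℂ H^0(X, L^⊗m) ≥ C·m^n for some constant C > 0 and all sufficiently large m, if and
only if the self-intersection number (L^n) = ∫ c_1(L)^n · [O_X] (the alternating sum of Euler
characteristics attached to n copies of L⁻¹) is positive. -/
theorem result (X : Scheme.{0}) [X.Over (Spec (CommRingCat.of ℂ))] [IsIntegral X]
    [IsProper (X ↘ Spec (CommRingCat.of ℂ))] (H : X.Modules) (hH : CohB1.IsAmple H)
    (n : ℕ) (hn : topologicalKrullDim X = n)
    (L Linv : X.Modules) (hL : PicF.IsInvertible L) (hLinv : ClSub.IsInverseOf Linv L)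
    (hnef : ∀ (Z : Scheme.{0}) (i : Z ⟶ X) [IsClosedImmersion i], IsIntegral Z → topologicalKrullDim Z = 1 →
      0 ≤ Pic13.curveDeg ℂ (i ≫ (X ↘ Spec (CommRingCat.of ℂ))) ((Scheme.Modules.pullback i).obj L)) :
    (∃ C : ℝ, 0 < C ∧ ∃ m₁ : ℕ, ∀ m : ℕ, m₁ ≤ m →
        C * (m : ℝ) ^ n ≤ (Module.finrank ℂ (Coh.HH X (CohB1.tensorPow L m) 0) : ℝ)) ↔
      0 < FGA.intNum ℂ X n (fun _ : Fin n => Linv) (Coh.structureModule X) := by
  have hO := ProperFin.isCoh_structureModule X
  have hd := NefPos.dim_support_structure_le hn.le (Coh.structureModule X)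
  have e : CohB1.tensorMod L Linv ≅ Coh.structureModule X := ProjTwist.tensComm L Linv ≪≫ hLinv.some
  have hI : PicF.IsInvertible Linv := PicLaw.isInvertible_of_tensor_left hL
    (PicCl.isInvertible_of_iso e.symm (LFFrame.isInvertible_structureModule X))
  have hint : FGA.intNum ℂ X n (fun _ : Fin n => Linv) (Coh.structureModule X) =
      IntProd70.intC ℂ (fun _ : Fin n => L) (Coh.structureModule X) := by
    rw [Snapper.intNum_eq ℂ hn.le, IntProd70.intC,
      IntProd70.intE_inverse ℂ (fun _ => hL) (fun _ => hI) (fun _ => ⟨e⟩) hO hd, ← mul_assoc, ← pow_add,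
      ← two_mul, pow_mul]
    simp
  rw [hint, ← NefPos.big_iff ℂ hL (NefPos.nef_of_curveDeg ℂ hL hnef) hH hn]
  constructor
  · rintro ⟨C, hC, m₁, h⟩
    refine NefPos.big_of_hbig ℂ hH hL hn.le fun c => ?_
    let m := max m₁ (⌈(c : ℝ) / C⌉₊ + 1)
    have hm : 0 < m := by omega
    refine ⟨m, hm, ?_⟩
    have hcm : (c : ℝ) < m * C := by
      rw [← div_lt_iff₀ hC]
      refine lt_of_le_of_lt (Nat.le_ceil _) ?_
      exact_mod_cast (show ⌈(c : ℝ) / C⌉₊ < m by omega)
    have hmR : (0 : ℝ) < m := Nat.cast_pos.2 hm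
    rw [← Nat.cast_lt (α := ℝ)]
    push_cast
    calc (c : ℝ) * (m : ℝ) ^ n < m * C * (m : ℝ) ^ n := mul_lt_mul_of_pos_right hcm (pow_pos hmR n)
      _ = m * (C * (m : ℝ) ^ n) := mul_assoc _ _ _
      _ ≤ _ := mul_le_mul_of_nonneg_left (h m (le_max_left _ _)) hmR.le
  · rintro ⟨ν, A, φ, hν, hA, hφ⟩
    exact NefPos.growth_of_sub ℂ hA hL hν ⟨φ, hφ⟩ hn

end Groth.Agent.S17588
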