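import Groth.Statements.S17592
import Groth.Agent.Hens.PairStage
set_option linter.style.haveILetI false

set_option autoImplicit false
universe u
open Hensel

namespace Groth.Agent.S17592

/-- Let R → S be an étale ring map and I an ideal of R such that the induced map R/I → S/IS is
bijective. Then a Henselization of the pair (S, IS), regarded as an R-algebra, is a Henselization of
the pair (R, I). -/
theorem result (R : Type u) [CommRing R] (I : Ideal R)
    (S : Type u) [CommRing S] [Algebra R S] [Algebra.Etale R S]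
    (hq : Function.Bijective
      (Ideal.quotientMap (I.map (algebraMap R S)) (algebraMap R S) Ideal.le_comap_map))
    (H : Type u) [CommRing H] [Algebra S H] [Algebra R H] [IsScalarTower R S H]
    (hH : Hens2.IsPairHenselization S (I.map (algebraMap R S)) H) :
    Hens2.IsPairHenselization R I H := by
  refine ⟨?_, fun C _ J f hC hIJ => ?_⟩
  · have h := hH.1
    rwa [Ideal.map_map, ← IsScalarTower.algebraMap_eq] at h
  letI := f.toAlgebra
  haveI := hC
  obtain ⟨σ, -⟩ := Groth.Agent.Hens.exists_section_of_bijective hq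
  have hzero : ∀ a ∈ I, algebraMap R (C ⧸ J) a = 0 := fun a ha =>
    Ideal.Quotient.eq_zero_iff_mem.2 (hIJ (Ideal.mem_map_of_mem f ha))
  let q : (R ⧸ I) →ₐ[R] C ⧸ J := Ideal.Quotient.liftₐ _ (Algebra.ofId R (C ⧸ J)) hzero
  let σC : TensorProduct R C S →ₐ[C] C ⧸ J :=
    Algebra.TensorProduct.lift (Algebra.ofId C (C ⧸ J)) (q.comp σ) (fun _ _ => Commute.all _ _)
  obtain ⟨τ, hτ⟩ := Groth.Agent.Hensel.exists_algHom_lift (TensorProduct R C S) σC
  let η : S →ₐ[R] C := (τ.restrictScalars R).comp Algebra.TensorProduct.includeRight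
  have hSJ : ∀ φ : S →ₐ[R] C, (I.map (algebraMap R S)).map φ.toRingHom ≤ J := fun φ => by
    rw [Ideal.map_map, show φ.toRingHom.comp (algebraMap R S) = f from φ.comp_algebraMap]
    exact hIJ
  obtain ⟨g, hg, hu⟩ := hH.2 C J η.toRingHom hC (hSJ η)
  refine ⟨g, ?_, fun g' hg' => hu g' ?_⟩
  · show g.comp (algebraMap R H) = f
    rw [IsScalarTower.algebraMap_eq R S H, ← RingHom.comp_assoc, hg]
    exact η.comp_algebraMap
  · let φ : S →ₐ[R] C := ⟨g'.comp (algebraMap S H), fun r => by
      show g' (algebraMap S H (algebraMap R S r)) = _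
      rw [← IsScalarTower.algebraMap_apply]
      exact RingHom.congr_fun hg' r⟩
    have hmod : (Ideal.Quotient.mkₐ R J).comp φ = (Ideal.Quotient.mkₐ R J).comp η :=
      Groth.Agent.Hens.section_unique hq.2 _ _ hzero
    exact congrArg AlgHom.toRingHom (Groth.Agent.Hensel.algHom_eq_of_sub_mem hC.jac (f := φ)
      (g := η) fun s => Ideal.Quotient.eq.1 (AlgHom.congr_fun hmod s))

end Groth.Agent.S17592
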