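import Groth.Statements.S17593
import Groth.Agent.FlatOpen.API

set_option autoImplicit false
set_option linter.style.haveILetI false
universe u
open Hensel

namespace Groth.Agent.S17593

/-- Suppose (A, I) is a Henselian pair, and R is an A-algebra of finite presentation for which A → R is
flat at each prime of R that contains IR. Then there is an étale R-algebra R' such that R/IR →
R'/IR' is bijective and A → R' is flat. -/
theorem result (A : Type u) [CommRing A] (I : Ideal A) [HenselianRing A I]
    (R : Type u) [CommRing R] [Algebra A R] [Algebra.FinitePresentation A R]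
    (h : ∀ (p : Ideal R) [p.IsPrime], I.map (algebraMap A R) ≤ p → Module.Flat A (Localization.AtPrime p))
    : ∃ (R' : Type u) (_ : CommRing R') (_ : Algebra R R') (_ : Algebra A R') (_ : IsScalarTower A R R'),
      Algebra.Etale R R' ∧
      Function.Bijective (Ideal.quotientMap ((I.map (algebraMap A R)).map (algebraMap R R'))
        (algebraMap R R') Ideal.le_comap_map) ∧ Module.Flat A R' := by
  classical
  have hflat : ∀ (p : Ideal R) [p.IsPrime], Module.Flat A (Localization.AtPrime p) →
      FlatCA.FlatAt A p R := fun p _ hp =>
    Module.Flat.of_linearEquiv ((IsLocalizedModule.iso p.primeCompl (Algebra.linearMap R (Localization.AtPrime p))).restrictScalars A)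
  obtain ⟨J, hJ⟩ := (PrimeSpectrum.isClosed_iff_zeroLocus_ideal _).1
    (FlatOpen.isOpen_flatLocus A R R).isClosed_compl
  have htop : J ⊔ I.map (algebraMap A R) = ⊤ := by
    by_contra hne
    obtain ⟨m, hm, hle⟩ := Ideal.exists_le_maximal _ hne
    have h1 : (⟨m, hm.isPrime⟩ : PrimeSpectrum R) ∈ PrimeSpectrum.zeroLocus (J : Set R) := le_trans le_sup_left hle
    rw [← hJ] at h1
    haveI := hm.isPrime
    exact h1 (hflat m (h m (le_trans le_sup_right hle)))
  obtain ⟨f, hf, i, hi, hfi⟩ := Submodule.mem_sup.1 ((Ideal.eq_top_iff_one _).1 htop)
  refine ⟨Localization.Away f, inferInstance, inferInstance, inferInstance, inferInstance,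
    Algebra.Etale.of_isLocalizationAway f, ?_, ?_⟩
  · let K := I.map (algebraMap A R)
    have hu : IsUnit (Ideal.Quotient.mk K f) := by
      rw [show Ideal.Quotient.mk K f = 1 by
        rw [← sub_eq_zero, ← map_one (Ideal.Quotient.mk K), ← map_sub, Ideal.Quotient.eq_zero_iff_mem]
        rw [← hfi, sub_add_cancel_left]
        exact K.neg_mem hi]
      exact isUnit_one
    let g : Localization.Away f →+* R ⧸ K := IsLocalization.Away.lift f hu
    have hg : ∀ x, g (algebraMap R _ x) = Ideal.Quotient.mk K x := fun x => IsLocalization.Away.lift_eq f hu x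
    have hK : K.map (algebraMap R (Localization.Away f)) ≤ RingHom.ker g :=
      Ideal.map_le_iff_le_comap.2 fun x hx => by
        show g (algebraMap R _ x) = 0
        rw [hg]; exact Ideal.Quotient.eq_zero_iff_mem.2 hx
    let g' := Ideal.Quotient.lift _ g hK
    let q := Ideal.quotientMap (K.map (algebraMap R (Localization.Away f))) (algebraMap R _) Ideal.le_comap_map
    have h1 : g'.comp q = RingHom.id _ := Ideal.Quotient.ringHom_ext (RingHom.ext fun x => hg x)
    have h2 : q.comp g' = RingHom.id _ := by
      refine Ideal.Quotient.ringHom_ext (IsLocalization.ringHom_ext (Submonoid.powers f) (RingHom.ext fun x => ?_))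
      show q (g (algebraMap R _ x)) = _
      rw [hg]
      rfl
    exact Function.bijective_iff_has_inverse.2 ⟨g', RingHom.congr_fun h1, RingHom.congr_fun h2⟩
  · refine Module.flat_of_isLocalized_maximal (R := A) (Localization.Away f) (Localization.Away f)
      (fun P => Localization.AtPrime P) (fun P => Algebra.linearMap _ _) fun P _ => ?_
    let p := P.comap (algebraMap R (Localization.Away f))
    have hfp : f ∉ p := fun hmem => Ideal.IsMaximal.ne_top inferInstance
      (P.eq_top_of_isUnit_mem hmem (IsLocalization.Away.algebraMap_isUnit f))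
    have hp : FlatCA.FlatAt A p R := by
      by_contra hn
      have h1 : (⟨p, inferInstance⟩ : PrimeSpectrum R) ∈
          ({q : PrimeSpectrum R | FlatCA.FlatAt A q.asIdeal R})ᶜ := hn
      rw [hJ] at h1
      exact hfp (h1 hf)
    haveI : Module.Flat A (LocalizedModule p.primeCompl R) := hp
    haveI : Module.Flat A (Localization.AtPrime p) := Module.Flat.of_linearEquiv
      ((IsLocalizedModule.iso p.primeCompl (Algebra.linearMap R (Localization.AtPrime p))).restrictScalars A).symm
    exact Module.Flat.of_linearEquiv
      ((IsLocalization.localizationLocalizationAtPrimeIsoLocalization (Submonoid.powers f) P).restrictScalars A).toLinearEquiv.symm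

end Groth.Agent.S17593
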