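import Groth.Statements.S17595
import Groth.Agent.Hens.PairLocus
set_option linter.style.haveILetI false

set_option autoImplicit false
universe u
open Hensel

namespace Groth.Agent.S17595

/-- Suppose (A, I) is a Henselian pair, and R is an A-algebra of finite presentation for which A → R is
quasi-finite at each prime of R that contains IR. Then there is an étale R-algebra R' such that R/IR
→ R'/IR' is bijective and A → R' is quasi-finite. -/
theorem result (A : Type u) [CommRing A] (I : Ideal A) [HenselianRing A I]
    (R : Type u) [CommRing R] [Algebra A R] [Algebra.FinitePresentation A R]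
    (h : ∀ (p : Ideal R) [p.IsPrime], I.map (algebraMap A R) ≤ p → Algebra.QuasiFiniteAt A p)
    : ∃ (R' : Type u) (_ : CommRing R') (_ : Algebra R R') (_ : Algebra A R') (_ : IsScalarTower A R R'),
      Algebra.Etale R R' ∧
      Function.Bijective (Ideal.quotientMap ((I.map (algebraMap A R)).map (algebraMap R R'))
        (algebraMap R R') Ideal.le_comap_map) ∧ Algebra.QuasiFinite A R' := by
  have hopen : IsOpen {q : PrimeSpectrum R | Algebra.QuasiFiniteAt A q.asIdeal} := by
    refine isOpen_iff_forall_mem_open.2 fun q hq => ?_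
    haveI : Algebra.QuasiFiniteAt A q.asIdeal := hq
    obtain ⟨r, hr, hqf⟩ := Groth.Agent.Hens.exists_away_quasiFinite (A := A) q.asIdeal
    refine ⟨PrimeSpectrum.basicOpen r, fun q' hq' => ?_, (PrimeSpectrum.basicOpen r).isOpen, hr⟩
    haveI := hqf
    let g : Localization.Away r →ₐ[R] Localization.AtPrime q'.asIdeal :=
      IsLocalization.Away.liftAlgHom r (f := Algebra.ofId _ _)
        (IsLocalization.map_units (M := q'.asIdeal.primeCompl) _ ⟨r, hq'⟩)
    refine Algebra.QuasiFinite.of_forall_exists_mul_mem_range (g.restrictScalars A) fun x => ?_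
    obtain ⟨x, ⟨s, hs⟩, rfl⟩ := IsLocalization.exists_mk'_eq q'.asIdeal.primeCompl x
    exact ⟨algebraMap _ _ s, by simpa using IsLocalization.map_units _ ⟨s, hs⟩,
      algebraMap _ _ x, by simp⟩
  obtain ⟨u, hu, het, hb⟩ := Groth.Agent.Hens.exists_away_of_zeroLocus_subset
    (J := I.map (algebraMap A R)) hopen (fun q hq => h q.asIdeal hq)
  exact ⟨Localization.Away u, _, _, _, inferInstance, het, hb,
    Groth.Agent.Hens.quasiFinite_away u fun q hq => hu hq⟩

end Groth.Agent.S17595
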