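import Groth.Statements.S17596
import Groth.Agent.Hens.PairHfp
set_option linter.style.haveILetI false

set_option autoImplicit false
universe u
open Hensel

namespace Groth.Agent.S17596

/-- Let (A, I) be a Henselian pair and let B be a Henselization of the pair (R, IR) for a finitely
presented A-algebra R (that is, A → B is a Henselian finitely presented map of Henselian pairs). If
the induced map A/I → B/IB is module-finite, then B is module-finite and finitely presented over A. -/
theorem result (A : Type u) [CommRing A] (I : Ideal A)
    [HenselianRing A I] (R : Type u) [CommRing R] [Algebra A R] [Algebra.FinitePresentation A R]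
    (B : Type u) [CommRing B] [Algebra R B] [Algebra A B] [IsScalarTower A R B]
    (hB : Hens2.IsPairHenselization R (I.map (algebraMap A R)) B)
    (hfin : (Ideal.quotientMap (I.map (algebraMap A B)) (algebraMap A B) Ideal.le_comap_map).Finite) :
    Module.Finite A B ∧ Algebra.FinitePresentation A B := by
  let J := I.map (algebraMap A R)
  have hbij := Groth.Agent.Hens.bijective_quotientMap_of_isPairHenselization hB
  have hmap : I.map (algebraMap A B) = J.map (algebraMap R B) := by
    rw [Ideal.map_map, ← IsScalarTower.algebraMap_eq]
  let e : (R ⧸ J) ≃ₐ[A] B ⧸ I.map (algebraMap A B) :=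
    (AlgEquiv.ofBijective
      ({ __ := Ideal.quotientMap (J.map (algebraMap R B)) (algebraMap R B) Ideal.le_comap_map
         commutes' := fun a => by
           show Ideal.Quotient.mk _ (algebraMap R B (algebraMap A R a)) = _
           rw [← IsScalarTower.algebraMap_apply]; rfl } :
        (R ⧸ J) →ₐ[A] B ⧸ J.map (algebraMap R B)) hbij).trans
      (Ideal.quotientEquivAlgOfEq A hmap.symm)
  haveI : Module.Finite A (B ⧸ I.map (algebraMap A B)) := by
    letI : Algebra (A ⧸ I) (B ⧸ I.map (algebraMap A B)) :=
      (Ideal.quotientMap (I.map (algebraMap A B)) (algebraMap A B) Ideal.le_comap_map).toAlgebra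
    haveI : IsScalarTower A (A ⧸ I) (B ⧸ I.map (algebraMap A B)) := .of_algebraMap_eq' rfl
    haveI : Module.Finite (A ⧸ I) (B ⧸ I.map (algebraMap A B)) := hfin
    exact Module.Finite.trans (A ⧸ I) _
  haveI : Module.Finite A (R ⧸ I.map (algebraMap A R)) :=
    Module.Finite.equiv e.symm.toLinearEquiv
  obtain ⟨E, -, -, hfinT, hT⟩ := Groth.Agent.Hens.exists_finite_isPairHenselization (I := I) R
  obtain ⟨Φ⟩ := Groth.Agent.Hens.nonempty_algEquiv_of_isPairHenselization hT hB
  haveI := hfinT
  haveI : Algebra.FinitePresentation A (R ⧸ Ideal.span {1 - E}) :=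
    Algebra.FinitePresentation.quotient (Submodule.fg_span_singleton _)
  exact ⟨Module.Finite.equiv (Φ.restrictScalars A).toLinearEquiv,
    Algebra.FinitePresentation.equiv (Φ.restrictScalars A)⟩

end Groth.Agent.S17596
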