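import Groth.Statements.S17597
import Groth.Agent.Hens.PairHfp
set_option linter.style.haveILetI false

set_option autoImplicit false
universe u
open Hensel

namespace Groth.Agent.S17597

/-- Let (A, I) be a Henselian pair and let B be a Henselization of the pair (R, IR) for a finitely
presented A-algebra R (so A → B is Henselian finitely presented). If the induced map A/I → B/IB is
surjective, then A → B is surjective. -/
theorem result (A : Type u) [CommRing A] (I : Ideal A)
    [HenselianRing A I] (R : Type u) [CommRing R] [Algebra A R] [Algebra.FinitePresentation A R]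
    (B : Type u) [CommRing B] [Algebra R B] [Algebra A B] [IsScalarTower A R B]
    (hB : Hens2.IsPairHenselization R (I.map (algebraMap A R)) B)
    (hsurj : Function.Surjective
      (Ideal.quotientMap (I.map (algebraMap A B)) (algebraMap A B) Ideal.le_comap_map)) :
    Function.Surjective (algebraMap A B) := by
  let J := I.map (algebraMap A R)
  have hbij := Groth.Agent.Hens.bijective_quotientMap_of_isPairHenselization hB
  have hmap : I.map (algebraMap A B) = J.map (algebraMap R B) := by
    rw [Ideal.map_map, ← IsScalarTower.algebraMap_eq]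
  let e : (R ⧸ J) ≃ₐ[A] B ⧸ I.map (algebraMap A B) :=
    (AlgEquiv.ofBijective
      ({ __ := Ideal.quotientMap (J.map (algebraMap R B)) (algebraMap R B) Ideal.le_comap_map
         commutes' := fun a => by
           show Ideal.Quotient.mk _ (algebraMap R B (algebraMap A R a)) = _
           rw [← IsScalarTower.algebraMap_apply]; rfl } :
        (R ⧸ J) →ₐ[A] B ⧸ J.map (algebraMap R B)) hbij).trans
      (Ideal.quotientEquivAlgOfEq A hmap.symm)
  have hs : ∀ y : R ⧸ J, ∃ a : A, algebraMap A (R ⧸ J) a = y := fun y => by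
    obtain ⟨x, hx⟩ := hsurj (e y)
    obtain ⟨a, rfl⟩ := Ideal.Quotient.mk_surjective x
    refine ⟨a, e.injective ?_⟩
    rw [e.commutes, ← hx]
    rfl
  haveI : Module.Finite A (R ⧸ I.map (algebraMap A R)) :=
    Module.Finite.of_surjective (Algebra.linearMap A (R ⧸ J)) hs
  obtain ⟨E, -, -, hfinT, hT⟩ := Groth.Agent.Hens.exists_finite_isPairHenselization (I := I) R
  obtain ⟨Φ⟩ := Groth.Agent.Hens.nonempty_algEquiv_of_isPairHenselization hT hB
  haveI := hfinT
  have hle : (⊤ : Submodule A (R ⧸ Ideal.span {1 - E})) ≤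
      LinearMap.range (Algebra.linearMap A (R ⧸ Ideal.span {1 - E})) ⊔ I • ⊤ := by
    intro t _
    obtain ⟨r, rfl⟩ := Ideal.Quotient.mk_surjective t
    obtain ⟨a, ha⟩ := hs (Ideal.Quotient.mk J r)
    rw [IsScalarTower.algebraMap_apply A R (R ⧸ J), Ideal.Quotient.algebraMap_eq, eq_comm,
      Ideal.Quotient.eq] at ha
    rw [Submodule.mem_sup]
    refine ⟨algebraMap A _ a, ⟨a, rfl⟩, Ideal.Quotient.mk _ (r - algebraMap A R a), ?_, ?_⟩
    · rw [Ideal.smul_top_eq_map, IsScalarTower.algebraMap_eq A R (R ⧸ Ideal.span {1 - E}),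
        ← Ideal.map_map, Submodule.restrictScalars_mem, Ideal.Quotient.algebraMap_eq]
      exact Ideal.mem_map_of_mem _ ha
    · rw [map_sub, ← Ideal.Quotient.algebraMap_eq, ← IsScalarTower.algebraMap_apply,
        add_sub_cancel]
  intro b
  obtain ⟨t, rfl⟩ := (Φ.restrictScalars A).surjective b
  obtain ⟨a, ha⟩ := Submodule.le_of_le_smul_of_le_jacobson_bot Module.Finite.fg_top
    (HenselianRing.jac) hle (Submodule.mem_top (x := t))
  refine ⟨a, ?_⟩
  rw [← (Φ.restrictScalars A).commutes, ← ha]
  rfl

end Groth.Agent.S17597
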