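import Groth.Statements.S17600
import Groth.Agent.Hens.HfpEtale
-- import your own Groth.Agent.* helpers here

set_option autoImplicit false
universe u
open Hensel

namespace Groth.Agent.S17600

/-- Let (A, I) be a Henselian pair and let B be a Henselization of the pair (R₀, IR₀) for a finitely
presented A-algebra R₀ (so A → B is Henselian finitely presented). If B is flat over A and A/I^r →
B/I^rB is étale for every r ≥ 1 (the h-formally étale property, in its equivalent form for Henselian
finitely presented maps), then A → B is h-étale: there is an étale A-algebra R, with an R-algebra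
structure on B compatible with that of A, such that B is a Henselization of the pair (R, IR). -/
theorem result (A : Type u) [CommRing A] (I : Ideal A)
    [HenselianRing A I] (R₀ : Type u) [CommRing R₀] [Algebra A R₀] [Algebra.FinitePresentation A R₀]
    (B : Type u) [CommRing B] [Algebra R₀ B] [Algebra A B] [IsScalarTower A R₀ B]
    (hB : Hens2.IsPairHenselization R₀ (I.map (algebraMap A R₀)) B) [Module.Flat A B]
    (het : ∀ r : ℕ, 1 ≤ r → Algebra.Etale (A ⧸ I ^ r) (B ⧸ (I ^ r).map (algebraMap A B))) :
    ∃ (R : Type u) (_ : CommRing R) (_ : Algebra A R) (_ : Algebra R B) (_ : IsScalarTower A R B),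
      Algebra.Etale A R ∧ Hens2.IsPairHenselization R (I.map (algebraMap A R)) B := by
  obtain ⟨R, _, _, H, _, _, _, _, hR, hH, φ, hφ, hfg, hker⟩ :=
    Groth.Agent.Hens.exists_etale_surjection hB (het 1 le_rfl)
  haveI : HenselianRing H (I.map (algebraMap A H)) := by
    have := hH.1
    rwa [Ideal.map_map, ← IsScalarTower.algebraMap_eq] at this
  have hbot := Groth.Agent.Hens.ker_eq_bot_of_flat φ hφ hfg hker
  letI : Algebra R B := (φ.comp (IsScalarTower.toAlgHom A R H)).toRingHom.toAlgebra
  haveI : IsScalarTower A R B :=
    IsScalarTower.of_algebraMap_eq' (φ.comp (IsScalarTower.toAlgHom A R H)).comp_algebraMap.symm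
  refine ⟨R, inferInstance, inferInstance, inferInstance, inferInstance, hR, ?_⟩
  exact Groth.Agent.Hens.isPairHenselization_of_quotient hH (AlgHom.id A R)
    Function.surjective_id φ hφ (fun r => rfl) (hbot.le.trans bot_le)

end Groth.Agent.S17600
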