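import Groth.Statements.S17615
import Groth.Agent.Hens.Hfp
import Groth.Agent.Hens.PairHfp
import Groth.Agent.Hens.PairLocus
import Groth.Agent.FDesc.Algebra
import Groth.Agent.FlatOpen.API

set_option autoImplicit false
set_option linter.style.haveILetI false
set_option backward.isDefEq.respectTransparency.types false
universe u
open Hensel

namespace Groth.Agent.S17615

/-- Let (A, I) be a Henselian pair and let B be a Henselization of the pair (R₀, IR₀) for a finitely
presented A-algebra R₀ (so A → B is a Henselian finitely presented map of Henselian pairs). If B is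
flat over A, then there are a finitely presented A-algebra S that is flat over A and an S-algebra
structure on B compatible with that of A for which B is a Henselization of the pair (S, IS). -/
theorem result (A : Type u) [CommRing A]
    (I : Ideal A) [HenselianRing A I]
    (R₀ : Type u) [CommRing R₀] [Algebra A R₀] [Algebra.FinitePresentation A R₀]
    (B : Type u) [CommRing B] [Algebra R₀ B] [Algebra A B] [IsScalarTower A R₀ B]
    (hB : Hens2.IsPairHenselization R₀ (I.map (algebraMap A R₀)) B) [Module.Flat A B] :
    ∃ (S : Type u) (_ : CommRing S) (_ : Algebra A S) (_ : Algebra S B) (_ : IsScalarTower A S B),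
      Algebra.FinitePresentation A S ∧ Module.Flat A S ∧
      Hens2.IsPairHenselization S (I.map (algebraMap A S)) B := by
  let K := I.map (algebraMap A R₀)
  have hbij := Hens.bijective_quotientMap_of_isPairHenselization hB
  haveI : Module.Flat R₀ B := Hens.flat_of_isPairHenselization hB
  -- flat along the zero locus
  have hflat : ∀ P : PrimeSpectrum R₀, P ∈ PrimeSpectrum.zeroLocus (K : Set R₀) →
      FlatCA.FlatAt A P.asIdeal R₀ := by
    intro P hP
    let e := RingEquiv.ofBijective _ hbij
    let q : Ideal B := ((P.asIdeal.map (Ideal.Quotient.mk K)).comap e.symm.toRingHom).comap (Ideal.Quotient.mk _)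
    haveI : (P.asIdeal.map (Ideal.Quotient.mk K)).IsPrime :=
      Ideal.map_isPrime_of_surjective Ideal.Quotient.mk_surjective (by rw [Ideal.mk_ker]; exact hP)
    haveI : q.IsPrime := Ideal.IsPrime.comap _
    have hq : q.comap (algebraMap R₀ B) = P.asIdeal := by
      ext x
      show e.symm (Ideal.Quotient.mk _ (algebraMap R₀ B x)) ∈ P.asIdeal.map (Ideal.Quotient.mk K) ↔ _
      rw [show Ideal.Quotient.mk (K.map (algebraMap R₀ B)) (algebraMap R₀ B x) = e (Ideal.Quotient.mk K x) from rfl,
        RingEquiv.symm_apply_apply, ← Ideal.mem_comap,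
        Ideal.comap_map_of_surjective' _ Ideal.Quotient.mk_surjective, Ideal.mk_ker, sup_eq_left.2 hP]
    haveI : q.LiesOver P.asIdeal := ⟨hq.symm⟩
    letI := Localization.AtPrime.algebraOfLiesOver P.asIdeal q
    haveI : IsLocalHom (algebraMap (Localization.AtPrime P.asIdeal) (Localization.AtPrime q)) :=
      Localization.isLocalHom_localRingHom P.asIdeal q (algebraMap R₀ B) hq.symm
    haveI : Module.Flat (Localization.AtPrime P.asIdeal) (Localization.AtPrime q) := inferInstance
    haveI := Module.FaithfullyFlat.of_flat_of_isLocalHom (A := Localization.AtPrime P.asIdeal) (B := Localization.AtPrime q)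
    haveI : Module.Flat A (Localization.AtPrime q) := by
      haveI : Module.Flat B (Localization.AtPrime q) := IsLocalization.flat _ q.primeCompl
      exact Module.Flat.trans A B _
    haveI : IsScalarTower A (Localization.AtPrime P.asIdeal) (Localization.AtPrime q) :=
      .of_algebraMap_eq fun a => by
        rw [IsScalarTower.algebraMap_apply A R₀ (Localization.AtPrime P.asIdeal),
          ← IsScalarTower.algebraMap_apply R₀ (Localization.AtPrime P.asIdeal) (Localization.AtPrime q),
          ← IsScalarTower.algebraMap_apply A R₀ (Localization.AtPrime q)]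
    haveI := FDesc.Algebra.flat_of_comp_faithfullyFlat (A := A) (B := Localization.AtPrime P.asIdeal) (C := Localization.AtPrime q)
    exact Module.Flat.of_linearEquiv ((IsLocalizedModule.iso P.asIdeal.primeCompl
      (Algebra.linearMap R₀ (Localization.AtPrime P.asIdeal))).restrictScalars A)
  obtain ⟨u, hu, -, hub⟩ := Hens.exists_away_of_zeroLocus_subset (J := K) (FlatOpen.isOpen_flatLocus A R₀ R₀) hflat
  let S := Localization.Away u
  haveI : Algebra.FinitePresentation R₀ S := IsLocalization.Away.finitePresentation u
  haveI : Algebra.FinitePresentation A S := Algebra.FinitePresentation.trans A R₀ S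
  haveI : HenselianRing B (K.map (algebraMap R₀ B)) := hB.1
  have hKu : Ideal.Quotient.mk K u = 1 ∨ IsUnit (Ideal.Quotient.mk K u) := .inr (by
    obtain ⟨w, hw⟩ := hub.2 (Ideal.Quotient.mk _ (IsLocalization.Away.invSelf u))
    refine IsUnit.of_mul_eq_one w (hub.1 ?_)
    rw [map_mul, hw, Ideal.quotientMap_mk, ← map_mul, IsLocalization.Away.mul_invSelf, map_one, map_one])
  have huB : IsUnit (algebraMap R₀ B u) := by
    have h1 : IsUnit (Ideal.Quotient.mk (K.map (algebraMap R₀ B)) (algebraMap R₀ B u)) := by
      rcases hKu with h | h
      · rw [show Ideal.Quotient.mk (K.map (algebraMap R₀ B)) (algebraMap R₀ B u) =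
          Ideal.quotientMap _ (algebraMap R₀ B) Ideal.le_comap_map (Ideal.Quotient.mk K u) from rfl, h, map_one]
        exact isUnit_one
      · exact h.map (Ideal.quotientMap (K.map (algebraMap R₀ B)) (algebraMap R₀ B) Ideal.le_comap_map)
    haveI : IsLocalHom (Ideal.Quotient.mk (K.map (algebraMap R₀ B))) :=
      isLocalHom_of_le_jacobson_bot _ HenselianRing.jac
    exact isUnit_of_map_unit (Ideal.Quotient.mk (K.map (algebraMap R₀ B))) _ h1
  letI : Algebra S B := (IsLocalization.Away.lift u (g := algebraMap R₀ B) huB).toAlgebra
  haveI : IsScalarTower R₀ S B := .of_algebraMap_eq fun x => (IsLocalization.Away.lift_eq u huB x).symm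
  haveI : IsScalarTower A S B := .of_algebraMap_eq fun a => by
    rw [IsScalarTower.algebraMap_apply A R₀ S, ← IsScalarTower.algebraMap_apply R₀ S B,
      ← IsScalarTower.algebraMap_apply A R₀ B]
  refine ⟨S, inferInstance, inferInstance, inferInstance, inferInstance, inferInstance, ?_, ?_⟩
  · refine Module.flat_of_isLocalized_maximal (R := A) S S (fun P => Localization.AtPrime P)
      (fun P => Algebra.linearMap _ _) fun P _ => ?_
    let p := P.comap (algebraMap R₀ S)
    have hup : u ∉ p := fun hmem => Ideal.IsMaximal.ne_top inferInstance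
      (P.eq_top_of_isUnit_mem hmem (IsLocalization.Away.algebraMap_isUnit u))
    haveI : Module.Flat A (LocalizedModule p.primeCompl R₀) := hu (show (⟨p, inferInstance⟩ : PrimeSpectrum R₀) ∈ (PrimeSpectrum.basicOpen u : Set (PrimeSpectrum R₀)) from hup)
    haveI : Module.Flat A (Localization.AtPrime p) := Module.Flat.of_linearEquiv
      ((IsLocalizedModule.iso p.primeCompl (Algebra.linearMap R₀ (Localization.AtPrime p))).restrictScalars A).symm
    exact Module.Flat.of_linearEquiv
      ((IsLocalization.localizationLocalizationAtPrimeIsoLocalization (Submonoid.powers u) P).restrictScalars A).toLinearEquiv.symm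
  · refine Hens.isPairHenselization_of_algHom (A := A) (I := I) (T := S) (C := B)
      (by simpa only [K, Ideal.map_map, ← IsScalarTower.algebraMap_eq] using hB.1) (fun D _ _ hD f => ?_)
      fun D _ _ hD g₁ g₂ h => ?_
    · obtain ⟨g, hg, -⟩ := hB.2 D _ ((f.comp (IsScalarTower.toAlgHom A R₀ S)).toRingHom) hD (by
        rw [Ideal.map_map, AlgHom.toRingHom_eq_coe, AlgHom.comp_algebraMap])
      refine ⟨⟨g, fun a => ?_⟩, fun t => ?_⟩
      · show g (algebraMap A B a) = _
        rw [IsScalarTower.algebraMap_apply A R₀ B, ← RingHom.comp_apply, hg]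
        exact (f.comp (IsScalarTower.toAlgHom A R₀ S)).commutes a
      · have : g.comp (algebraMap S B) = f.toRingHom := IsLocalization.ringHom_ext (Submonoid.powers u)
          (RingHom.ext fun x => by
            show g (algebraMap S B (algebraMap R₀ S x)) = f (algebraMap R₀ S x)
            rw [← IsScalarTower.algebraMap_apply, ← RingHom.comp_apply, hg]
            rfl)
        exact RingHom.congr_fun this t
    · obtain ⟨g, -, huniq⟩ := hB.2 D _ (g₁.toRingHom.comp (algebraMap R₀ B)) hD (by
        rw [Ideal.map_map, RingHom.comp_assoc, ← IsScalarTower.algebraMap_eq, AlgHom.toRingHom_eq_coe, AlgHom.comp_algebraMap])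
      have h2 := (huniq g₁.toRingHom rfl).trans (huniq g₂.toRingHom (RingHom.ext fun x => by
        show g₂ (algebraMap R₀ B x) = g₁ (algebraMap R₀ B x)
        rw [IsScalarTower.algebraMap_apply R₀ S B]
        exact (h _).symm)).symm
      exact AlgHom.ext fun x => RingHom.congr_fun h2 x

end Groth.Agent.S17615
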