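import Groth.Statements.S17601
import Groth.Agent.Hens.PairModel
import Groth.Agent.S17615
import Mathlib.RingTheory.Smooth.Fiber

set_option autoImplicit false
set_option linter.style.haveILetI false
set_option backward.isDefEq.respectTransparency.types false
universe u
open Hensel

namespace Groth.Agent.S17601

open scoped TensorProduct

/-- Let (A, I) be a Henselian pair and let B be a Henselization of the pair (R₀, IR₀) for a finitely
presented A-algebra R₀ (so A → B is Henselian finitely presented). If B is flat over A and A/I^r →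
B/I^rB is smooth for every r ≥ 1 (the h-formally smooth property, in its equivalent form for
Henselian finitely presented maps), then A → B is h-smooth: there is a smooth A-algebra R, with an
R-algebra structure on B compatible with that of A, such that B is a Henselization of the pair (R,
IR). -/
theorem result (A : Type u) [CommRing A] (I : Ideal A)
    [HenselianRing A I] (R₀ : Type u) [CommRing R₀] [Algebra A R₀] [Algebra.FinitePresentation A R₀]
    (B : Type u) [CommRing B] [Algebra R₀ B] [Algebra A B] [IsScalarTower A R₀ B]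
    (hB : Hens2.IsPairHenselization R₀ (I.map (algebraMap A R₀)) B) [Module.Flat A B]
    (het : ∀ r : ℕ, 1 ≤ r → Algebra.Smooth (A ⧸ I ^ r) (B ⧸ (I ^ r).map (algebraMap A B))) :
    ∃ (R : Type u) (_ : CommRing R) (_ : Algebra A R) (_ : Algebra R B) (_ : IsScalarTower A R B),
      Algebra.Smooth A R ∧ Hens2.IsPairHenselization R (I.map (algebraMap A R)) B := by
  obtain ⟨S, _, _, _, _, hSfp, hSflat, hS⟩ := S17615.result A I R₀ B hB
  let K := I.map (algebraMap A S)
  have hbij := Hens.bijective_quotientMap_of_isPairHenselization hS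
  haveI hsm1 : Algebra.Smooth (A ⧸ I) (S ⧸ K) := by
    have h1 := het 1 le_rfl
    let e₁ : (S ⧸ K) ≃+* B ⧸ (I ^ 1).map (algebraMap A B) :=
      (RingEquiv.ofBijective _ hbij).trans (Ideal.quotEquivOfEq (by
        rw [pow_one, Ideal.map_map, ← IsScalarTower.algebraMap_eq]))
    let e : (S ⧸ K) ≃ₐ[A] B ⧸ (I ^ 1).map (algebraMap A B) := AlgEquiv.ofRingEquiv (f := e₁) fun a => by
      show e₁ (Ideal.Quotient.mk K (algebraMap A S a)) = _
      show Ideal.quotEquivOfEq (show K.map (algebraMap S B) = (I ^ 1).map (algebraMap A B) by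
        rw [pow_one, Ideal.map_map, ← IsScalarTower.algebraMap_eq]) (Ideal.quotientMap _ (algebraMap S B) Ideal.le_comap_map (Ideal.Quotient.mk K (algebraMap A S a))) = _
      rw [Ideal.quotientMap_mk, ← IsScalarTower.algebraMap_apply A S B]
      rfl
    let σ : (A ⧸ I) ≃+* A ⧸ I ^ 1 := Ideal.quotEquivOfEq (pow_one I).symm
    have h2 : (algebraMap (A ⧸ I ^ 1) (B ⧸ (I ^ 1).map (algebraMap A B))).Smooth := RingHom.smooth_algebraMap.2 h1
    have h3 : algebraMap (A ⧸ I) (S ⧸ K) = (e.symm.toRingEquiv.toRingHom.comp
        (algebraMap (A ⧸ I ^ 1) (B ⧸ (I ^ 1).map (algebraMap A B)))).comp σ.toRingHom :=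
      Ideal.Quotient.ringHom_ext (RingHom.ext fun a => by
        refine e.injective ?_
        show e (algebraMap A (S ⧸ K) a) = e (e.symm (algebraMap A _ a))
        rw [AlgEquiv.apply_symm_apply, AlgEquiv.commutes])
    refine RingHom.smooth_algebraMap.1 ?_
    rw [h3]
    exact ((RingHom.Smooth.of_bijective σ.bijective).comp
      (h2.comp (RingHom.Smooth.of_bijective e.symm.bijective)))
  have hloc : PrimeSpectrum.zeroLocus (K : Set S) ⊆ Algebra.smoothLocus A S := by
    intro q hq
    let p : Ideal A := q.asIdeal.comap (algebraMap A S)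
    haveI : q.asIdeal.LiesOver p := ⟨rfl⟩
    have hIp : I ≤ p := fun a ha => hq (Ideal.mem_map_of_mem _ ha)
    let f : (A ⧸ I) →+* p.ResidueField := Ideal.Quotient.lift I (algebraMap A p.ResidueField) fun a ha => by
      rw [← RingHom.mem_ker, Ideal.ker_algebraMap_residueField]
      exact hIp ha
    letI : Algebra (A ⧸ I) p.ResidueField := f.toAlgebra
    haveI : IsScalarTower A (A ⧸ I) p.ResidueField := .of_algebraMap_eq fun a => rfl
    haveI : Algebra.FormallySmooth p.ResidueField (p.Fiber S) := by
      haveI : Algebra.FormallySmooth p.ResidueField (p.ResidueField ⊗[A ⧸ I] (S ⧸ K)) := inferInstance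
      let l : p.ResidueField ⊗[A] S →ₐ[p.ResidueField] p.ResidueField ⊗[A ⧸ I] (S ⧸ K) :=
        Algebra.TensorProduct.lift (Algebra.ofId _ _)
          ((Algebra.TensorProduct.includeRight.restrictScalars A).comp (Ideal.Quotient.mkₐ A K)) fun _ _ => .all _ _
      let r' : S ⧸ K →ₐ[A] p.ResidueField ⊗[A] S := Ideal.Quotient.liftₐ K Algebra.TensorProduct.includeRight
        fun x hx => by
          refine (Ideal.map_le_iff_le_comap (K := RingHom.ker
            (Algebra.TensorProduct.includeRight : S →ₐ[A] p.ResidueField ⊗[A] S))).2 (fun a ha => ?_) hx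
          show (1 : p.ResidueField) ⊗ₜ[A] algebraMap A S a = 0
          rw [Algebra.algebraMap_eq_smul_one, TensorProduct.tmul_smul, TensorProduct.smul_tmul',
            Algebra.smul_def, show algebraMap A p.ResidueField a = 0 from by
              rw [← RingHom.mem_ker, Ideal.ker_algebraMap_residueField]; exact hIp ha, zero_mul,
            TensorProduct.zero_tmul]
      haveI : IsScalarTower A (A ⧸ I) (p.ResidueField ⊗[A] S) := .of_algebraMap_eq fun a => rfl
      let r : p.ResidueField ⊗[A ⧸ I] (S ⧸ K) →ₐ[p.ResidueField] p.ResidueField ⊗[A] S :=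
        Algebra.TensorProduct.lift (Algebra.ofId _ _)
          { toRingHom := r'.toRingHom
            commutes' := fun a => by
              obtain ⟨a, rfl⟩ := Ideal.Quotient.mk_surjective a
              exact r'.commutes a } fun _ _ => .all _ _
      refine Algebra.FormallySmooth.of_equiv (AlgEquiv.ofAlgHom r l ?_ ?_)
      · refine Algebra.TensorProduct.ext (by ext) (AlgHom.ext fun x => ?_)
        show r (l ((1 : p.ResidueField) ⊗ₜ x)) = (1 : p.ResidueField) ⊗ₜ x
        simp [l, r, r']
      · refine Algebra.TensorProduct.ext (by ext) (AlgHom.ext fun x => ?_)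
        obtain ⟨x, rfl⟩ := Ideal.Quotient.mk_surjective x
        show l (r ((1 : p.ResidueField) ⊗ₜ Ideal.Quotient.mk K x)) = (1 : p.ResidueField) ⊗ₜ Ideal.Quotient.mk K x
        simp [l, r, r']
    exact Algebra.IsSmoothAt.of_formallySmooth_fiber p q.asIdeal
  obtain ⟨u, hu, -, hub⟩ := Hens.exists_away_of_zeroLocus_subset (J := K) Algebra.isOpen_smoothLocus hloc
  obtain ⟨i₁, i₂, h⟩ := Hens.PairModel.exists_isPairHenselization_away hS u hub
  exact ⟨Localization.Away u, inferInstance, inferInstance, i₁, i₂,
    Algebra.basicOpen_subset_smoothLocus_iff_smooth.1 hu, h⟩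

end Groth.Agent.S17601
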