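import Groth.Statements.S17602
import Groth.Agent.Hens.PairStage
import Mathlib.RingTheory.TensorProduct.Quotient
set_option linter.style.haveILetI false

set_option autoImplicit false
universe u
open Hensel

namespace Groth.Agent.S17602

/-- With converse part: let (A, I) be a Henselian pair, R an étale A-algebra and B a Henselization of
the pair (R, IR), with the induced A-algebra structure (so A → B is h-étale). Then B is flat over A
and A/I^r → B/I^rB is étale for every r ≥ 1. -/
theorem result (A : Type u) [CommRing A] (I : Ideal A) [HenselianRing A I]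
    (R : Type u) [CommRing R] [Algebra A R] [Algebra.Etale A R]
    (B : Type u) [CommRing B] [Algebra R B] [Algebra A B] [IsScalarTower A R B]
    (hB : Hens2.IsPairHenselization R (I.map (algebraMap A R)) B) :
    Module.Flat A B ∧ ∀ r : ℕ, 1 ≤ r → Algebra.Etale (A ⧸ I ^ r) (B ⧸ (I ^ r).map (algebraMap A B)) := by
  obtain ⟨E⟩ := Groth.Agent.Hens.nonempty_pairHenselization_algEquiv hB
  haveI : Module.Flat R B := Groth.Agent.Hens.flat_of_isPairHenselization hB
  refine ⟨Module.Flat.trans A R B, fun r _ => ?_⟩
  let J := I.map (algebraMap A R)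
  have hbij : Function.Bijective
      (Ideal.quotientMap (J.map (algebraMap R B)) (algebraMap R B) Ideal.le_comap_map) := by
    have h0 := Groth.Agent.Hens.bijective_quotientMap_pairHenselization (A := R) (I := J)
    have hJE : (J.map (algebraMap R (Groth.Agent.Hens.PairHenselization R J))).map E.toRingEquiv.toRingHom =
        J.map (algebraMap R B) := by
      rw [Ideal.map_map]
      exact congrArg (fun φ => J.map φ) E.toAlgHom.comp_algebraMap
    let e' := Ideal.quotientEquiv _ _ E.toRingEquiv hJE.symm
    have : Ideal.quotientMap (J.map (algebraMap R B)) (algebraMap R B) Ideal.le_comap_map =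
        e'.toRingHom.comp (Ideal.quotientMap _ (algebraMap R _) Ideal.le_comap_map) := by
      refine Ideal.Quotient.ringHom_ext (RingHom.ext fun a => ?_)
      show Ideal.Quotient.mk _ (algebraMap R B a) = Ideal.Quotient.mk _ (E (algebraMap R _ a))
      rw [E.commutes]
    rw [this, RingHom.coe_comp]
    exact e'.bijective.comp h0
  -- reduction modulo `I ^ r` agrees with that of `R`
  have hmap : (I ^ r).map (algebraMap A B) = (J ^ r).map (algebraMap R B) := by
    rw [← Ideal.map_pow, Ideal.map_map, ← IsScalarTower.algebraMap_eq]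
  let φ : R →ₐ[A] B ⧸ (I ^ r).map (algebraMap A B) :=
    (Ideal.Quotient.mkₐ A _).comp (IsScalarTower.toAlgHom A R B)
  have hφs : Function.Surjective φ := fun y => by
    obtain ⟨b, rfl⟩ := Ideal.Quotient.mk_surjective y
    obtain ⟨a, ha⟩ := Groth.Agent.Hens.exists_sub_mem_map_pow hbij.2 r b
    refine ⟨a, (Ideal.Quotient.eq.2 ?_).symm⟩
    show b - algebraMap R B a ∈ _
    rw [hmap]
    exact ha
  have hker : RingHom.ker φ.toRingHom = (I ^ r).map (algebraMap A R) := by
    refine le_antisymm (fun x hx => ?_) ?_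
    · rw [RingHom.mem_ker] at hx
      have hx' := Ideal.Quotient.eq_zero_iff_mem.1 hx
      change algebraMap R B x ∈ _ at hx'
      rw [hmap] at hx'
      rw [Ideal.map_pow]
      exact Groth.Agent.Hens.mem_pow_of_mem_map_pow hbij r x hx'
    · rw [Ideal.map_le_iff_le_comap]
      intro a ha
      show φ (algebraMap A R a) = 0
      rw [φ.commutes]
      exact Ideal.Quotient.eq_zero_iff_mem.2 (Ideal.mem_map_of_mem _ ha)
  let e : (R ⧸ (I ^ r).map (algebraMap A R)) ≃ₐ[A] B ⧸ (I ^ r).map (algebraMap A B) :=
    (Ideal.quotientEquivAlgOfEq A hker.symm).trans (Ideal.quotientKerAlgEquivOfSurjective hφs)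
  let e₂ : (R ⧸ (I ^ r).map (algebraMap A R)) ≃ₐ[A ⧸ I ^ r] B ⧸ (I ^ r).map (algebraMap A B) :=
    AlgEquiv.ofRingEquiv (f := e.toRingEquiv) fun x => by
      obtain ⟨a, rfl⟩ := Ideal.Quotient.mk_surjective x
      exact e.commutes a
  haveI : Algebra.Etale (A ⧸ I ^ r) (R ⧸ (I ^ r).map (algebraMap A R)) := by
    let e₃ : TensorProduct A (A ⧸ I ^ r) R ≃ₐ[A ⧸ I ^ r] R ⧸ (I ^ r).map (algebraMap A R) :=
      (Algebra.TensorProduct.quotIdealMapEquivQuotTensor R (I ^ r)).symm
    exact Algebra.Etale.of_equiv e₃
  exact Algebra.Etale.of_equiv e₂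

end Groth.Agent.S17602
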