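import Groth.Statements.S17604
import Groth.Agent.Hens.PairHfp
set_option linter.style.haveILetI false

set_option autoImplicit false
universe u
open Hensel

namespace Groth.Agent.S17604

/-- Let (A, I) be a Henselian pair, R and R' étale A-algebras, and B, B' Henselizations of the pairs (R,
IR), (R', IR') with their induced A-algebra structures (so B and B' are h-étale over A). Then
reduction modulo I is a bijection from A-algebra maps B → B' to A-algebra maps B/IB → B'/IB': two
A-algebra maps B → B' that agree modulo IB' are equal, and every A-algebra map B/IB → B'/IB' is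
induced by an A-algebra map B → B'. -/
theorem result (A : Type u) [CommRing A]
    (I : Ideal A) [HenselianRing A I]
    (R : Type u) [CommRing R] [Algebra A R] [Algebra.Etale A R]
    (B : Type u) [CommRing B] [Algebra R B] [Algebra A B] [IsScalarTower A R B]
    (hB : Hens2.IsPairHenselization R (I.map (algebraMap A R)) B)
    (R' : Type u) [CommRing R'] [Algebra A R'] [Algebra.Etale A R']
    (B' : Type u) [CommRing B'] [Algebra R' B'] [Algebra A B'] [IsScalarTower A R' B']
    (hB' : Hens2.IsPairHenselization R' (I.map (algebraMap A R')) B') :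
    (∀ φ ψ : B →ₐ[A] B', (∀ b : B, φ b - ψ b ∈ I.map (algebraMap A B')) → φ = ψ) ∧
    ∀ χ : (B ⧸ I.map (algebraMap A B)) →ₐ[A] (B' ⧸ I.map (algebraMap A B')),
      ∃ φ : B →ₐ[A] B', ∀ b : B,
        Ideal.Quotient.mk (I.map (algebraMap A B')) (φ b) = χ (Ideal.Quotient.mk (I.map (algebraMap A B)) b) := by
  haveI := hB'.1
  have hIB' : (I.map (algebraMap A R')).map (algebraMap R' B') = I.map (algebraMap A B') := by
    rw [Ideal.map_map, ← IsScalarTower.algebraMap_eq]
  haveI hH' : HenselianRing B' (I.map (algebraMap A B')) := hIB' ▸ hB'.1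
  have hIB : (I.map (algebraMap A R)).map (algebraMap R B) = I.map (algebraMap A B) := by
    rw [Ideal.map_map, ← IsScalarTower.algebraMap_eq]
  -- maps out of `B` are determined by their restriction to `R`
  have hext : ∀ φ ψ : B →ₐ[A] B',
      (∀ r : R, φ (algebraMap R B r) = ψ (algebraMap R B r)) → φ = ψ := by
    intro φ ψ h
    obtain ⟨g, -, hu⟩ := hB.2 B' _ (φ.toRingHom.comp (algebraMap R B)) hH' (by
      rw [Ideal.map_map, RingHom.comp_assoc, ← IsScalarTower.algebraMap_eq]
      exact le_of_eq (congrArg (fun χ => I.map χ) φ.comp_algebraMap))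
    refine AlgHom.ext fun x => RingHom.congr_fun ((hu φ.toRingHom rfl).trans
      (hu ψ.toRingHom (RingHom.ext fun r => (h r).symm)).symm) x
  have hRB : ∀ b : B, ∃ r : R, b - algebraMap R B r ∈ I.map (algebraMap A B) := fun b => by
    obtain ⟨r, hr⟩ := Groth.Agent.Hens.exists_sub_mem_map_pow
      (Groth.Agent.Hens.bijective_quotientMap_of_isPairHenselization hB).2 1 b
    exact ⟨r, by rwa [pow_one, hIB] at hr⟩
  refine ⟨fun φ ψ h => hext φ ψ fun r => ?_, fun χ => ?_⟩
  · exact AlgHom.congr_fun (Groth.Agent.Hensel.algHom_eq_of_sub_mem hH'.jac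
      (f := φ.comp (IsScalarTower.toAlgHom A R B)) (g := ψ.comp (IsScalarTower.toAlgHom A R B))
      fun s => h _) r
  · obtain ⟨η, hη⟩ := Groth.Agent.Hens.exists_algHom_lift_etale (C := B')
      (J := I.map (algebraMap A B'))
      ((χ.comp (Ideal.Quotient.mkₐ A _)).comp (IsScalarTower.toAlgHom A R B))
    obtain ⟨g, hg, -⟩ := hB.2 B' _ η.toRingHom hH' (by
      rw [Ideal.map_map]
      exact le_of_eq (congrArg (fun φ => I.map φ) η.comp_algebraMap))
    let φ : B →ₐ[A] B' := ⟨g, fun a => by
      show g (algebraMap A B a) = _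
      rw [IsScalarTower.algebraMap_apply A R B, ← RingHom.comp_apply, hg]
      exact η.commutes a⟩
    refine ⟨φ, fun b => ?_⟩
    obtain ⟨r, hr⟩ := hRB b
    have h1 := Ideal.mem_map_of_mem φ.toRingHom hr
    rw [Ideal.map_map, show φ.toRingHom.comp (algebraMap A B) = algebraMap A B' from
      φ.comp_algebraMap] at h1
    change φ (b - algebraMap R B r) ∈ _ at h1
    rw [map_sub, ← Ideal.Quotient.eq] at h1
    rw [h1, Ideal.Quotient.eq.2 hr, show φ (algebraMap R B r) = η r from RingHom.congr_fun hg r, hη]
    rfl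

end Groth.Agent.S17604
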