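import Groth.Statements.S17605
import Groth.Agent.Hens.PairStage
set_option linter.style.haveILetI false

set_option autoImplicit false
universe u
open Hensel

namespace Groth.Agent.S17605

/-- Let A be a ring with an ideal I and let f₁, f₂ be elements of A such that D(f₂) ∩ V(I) ⊆ D(f₁) ∩
V(I) in Spec A. If H₁ is a Henselization of the pair (A_{f₁}, IA_{f₁}) and H₂ a Henselization of the
pair (A_{f₂}, IA_{f₂}), with their induced A-algebra structures, then there is exactly one A-algebra
map H₁ → H₂. -/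
theorem result (A : Type u) [CommRing A]
    (I : Ideal A) (f₁ f₂ : A)
    (h : (PrimeSpectrum.basicOpen f₂ : Set (PrimeSpectrum A)) ∩ PrimeSpectrum.zeroLocus (I : Set A) ⊆
      (PrimeSpectrum.basicOpen f₁ : Set (PrimeSpectrum A)) ∩ PrimeSpectrum.zeroLocus (I : Set A))
    (H₁ : Type u) [CommRing H₁] [Algebra (Localization.Away f₁) H₁] [Algebra A H₁]
    [IsScalarTower A (Localization.Away f₁) H₁]
    (hH₁ : Hens2.IsPairHenselization (Localization.Away f₁)
      (I.map (algebraMap A (Localization.Away f₁))) H₁)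
    (H₂ : Type u) [CommRing H₂] [Algebra (Localization.Away f₂) H₂] [Algebra A H₂]
    [IsScalarTower A (Localization.Away f₂) H₂]
    (hH₂ : Hens2.IsPairHenselization (Localization.Away f₂)
      (I.map (algebraMap A (Localization.Away f₂))) H₂) :
    Nonempty (H₁ →ₐ[A] H₂) ∧ Subsingleton (H₁ →ₐ[A] H₂) := by
  haveI := hH₂.1
  have hf₂ : IsUnit (algebraMap A H₂ f₂) := by
    rw [IsScalarTower.algebraMap_apply A (Localization.Away f₂) H₂]
    exact (IsLocalization.Away.algebraMap_isUnit f₂).map _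
  have hu : IsUnit (algebraMap A H₂ f₁) := by
    by_contra hn
    obtain ⟨M, hM, hmem⟩ := exists_max_ideal_of_mem_nonunits hn
    have hIM : I.map (algebraMap A H₂) ≤ M := by
      rw [IsScalarTower.algebraMap_eq A (Localization.Away f₂) H₂, ← Ideal.map_map]
      exact hH₂.1.jac.trans (sInf_le ⟨bot_le, hM⟩)
    let P : PrimeSpectrum A := ⟨M.comap (algebraMap A H₂), Ideal.comap_isPrime _ _⟩
    have hP := @h P ⟨fun hh => hM.isPrime.ne_top (Ideal.eq_top_of_isUnit_mem _ hh hf₂),
      fun x hx => hIM (Ideal.mem_map_of_mem _ hx)⟩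
    exact hP.1 hmem
  let ψ : Localization.Away f₁ →+* H₂ :=
    IsLocalization.Away.lift f₁ (g := algebraMap A H₂) hu
  have hψ : ψ.comp (algebraMap A (Localization.Away f₁)) = algebraMap A H₂ :=
    IsLocalization.Away.lift_comp f₁ hu
  obtain ⟨g, hg, hun⟩ := hH₁.2 H₂ _ ψ hH₂.1 (by
    rw [Ideal.map_map, hψ, IsScalarTower.algebraMap_eq A (Localization.Away f₂) H₂,
      ← Ideal.map_map])
  refine ⟨⟨⟨g, fun a => ?_⟩⟩, ⟨fun φ φ' => ?_⟩⟩
  · show g (algebraMap A H₁ a) = _
    rw [IsScalarTower.algebraMap_apply A (Localization.Away f₁) H₁, ← RingHom.comp_apply, hg,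
      ← RingHom.comp_apply, hψ]
  · have key : ∀ χ : H₁ →ₐ[A] H₂, χ.toRingHom = g := fun χ => hun _
      (IsLocalization.ringHom_ext (Submonoid.powers f₁) (RingHom.ext fun a => by
        show χ (algebraMap _ H₁ (algebraMap A (Localization.Away f₁) a)) = ψ (algebraMap A _ a)
        rw [← IsScalarTower.algebraMap_apply, χ.commutes, ← RingHom.comp_apply, hψ]))
    exact AlgHom.ext fun x => RingHom.congr_fun ((key φ).trans (key φ').symm) x

end Groth.Agent.S17605
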