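import Groth.Statements.S17610
import Groth.Agent.Hens.HfpTrunc
-- import your own Groth.Agent.* helpers here

set_option autoImplicit false
universe u
open Hensel

namespace Groth.Agent.S17610

/-- Let (A, I) be a Henselian pair and let B be a Henselization of the pair (R₀, IR₀) for a finitely
presented A-algebra R₀ (so A → B is a Henselian finitely presented map of Henselian pairs). Then A →
B is h-formally étale, meaning that for all A-algebras E and C annihilated by some power I^N (N ≥
1), every surjective A-algebra map p : E → C with nilpotent kernel and every A-algebra map u : B →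
C, there is exactly one A-algebra map v : B → E with p ∘ v = u, if and only if A/I^r → B/I^rB is
étale for every r ≥ 1. (Test algebras E, C are taken in the universe of A.) -/
theorem result (A : Type u) [CommRing A] (I : Ideal A)
    [HenselianRing A I] (R₀ : Type u) [CommRing R₀] [Algebra A R₀] [Algebra.FinitePresentation A R₀]
    (B : Type u) [CommRing B] [Algebra R₀ B] [Algebra A B] [IsScalarTower A R₀ B]
    (hB : Hens2.IsPairHenselization R₀ (I.map (algebraMap A R₀)) B) :
    (∀ (E C : Type u) [CommRing E] [CommRing C] [Algebra A E] [Algebra A C] (N : ℕ), 1 ≤ N →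
        (I ^ N).map (algebraMap A E) = ⊥ → (I ^ N).map (algebraMap A C) = ⊥ →
        ∀ (p : E →ₐ[A] C), Function.Surjective p → (∃ M : ℕ, 1 ≤ M ∧ RingHom.ker p ^ M = ⊥) →
        ∀ u : B →ₐ[A] C, ∃! v : B →ₐ[A] E, p.comp v = u) ↔
    ∀ r : ℕ, 1 ≤ r → Algebra.Etale (A ⧸ I ^ r) (B ⧸ (I ^ r).map (algebraMap A B)) := by
  refine ⟨fun h r hr => ?_, fun h E C _ _ _ _ N hN hE hC p hp hnil u => ?_⟩
  · haveI := Groth.Agent.Hens.finitePresentation_truncation hB r
    haveI : Algebra.FormallyEtale (A ⧸ I ^ r) (B ⧸ (I ^ r).map (algebraMap A B)) := by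
      rw [Algebra.FormallyEtale.iff_comp_bijective]
      intro E _ _ J hJ
      refine ⟨fun v₁ v₂ he => ?_, fun u => Groth.Agent.Hens.exists_lift_truncation J hJ
        (fun E C _ _ _ _ N hN hE hC p hp hnil w => (h E C N hN hE hC p hp hnil w).exists) hr u⟩
      letI : Algebra A E := ((algebraMap (A ⧸ I ^ r) E).comp (algebraMap A (A ⧸ I ^ r))).toAlgebra
      have kE : (I ^ r).map (algebraMap A E) = ⊥ := by
        rw [RingHom.algebraMap_toAlgebra, ← Ideal.map_map, Ideal.Quotient.algebraMap_eq,
          Ideal.map_quotient_self, Ideal.map_bot]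
      have kC : (I ^ r).map (algebraMap A (E ⧸ J)) = ⊥ := by
        rw [show algebraMap A (E ⧸ J) = (Ideal.Quotient.mk J).comp (algebraMap A E) from rfl,
          ← Ideal.map_map, kE, Ideal.map_bot]
      let bar : ((B ⧸ (I ^ r).map (algebraMap A B)) →ₐ[A ⧸ I ^ r] E) → (B →ₐ[A] E) := fun v =>
        { v.toRingHom.comp (Ideal.Quotient.mk _) with
          commutes' := fun a => v.commutes (Ideal.Quotient.mk _ a) }
      have key : bar v₁ = bar v₂ :=
        (h E (E ⧸ J) r hr kE kC (Ideal.Quotient.mkₐ A J) Ideal.Quotient.mk_surjective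
          ⟨2, by norm_num, by
            rw [show RingHom.ker (Ideal.Quotient.mkₐ A J) = J from Ideal.mk_ker]; exact hJ⟩
          ((Ideal.Quotient.mkₐ A J).comp (bar v₁))).unique rfl
          (AlgHom.ext fun x => (AlgHom.congr_fun he (Ideal.Quotient.mk _ x)).symm)
      refine AlgHom.ext fun z => ?_
      obtain ⟨z, rfl⟩ := Ideal.Quotient.mk_surjective z
      exact AlgHom.congr_fun key z
    exact ⟨inferInstance, inferInstance⟩
  · obtain ⟨v, hv⟩ := Groth.Agent.Hens.exists_lift_of_formallySmooth_truncation
      (fun r hr => haveI := h r hr; inferInstance) hN hE hC p hp hnil u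
    exact ⟨v, hv, fun w hw => Groth.Agent.Hens.lift_unique_of_formallyUnramified_truncation
      (fun r hr => haveI := h r hr; inferInstance) hN hE p hnil w v (hw.trans hv.symm)⟩

end Groth.Agent.S17610
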