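import Groth.Statements.S17614
import Groth.Agent.EtZarCmp.Basic

set_option autoImplicit false
open CategoryTheory CategoryTheory.Limits AlgebraicGeometry Opposite
universe u
open EtZar

namespace Groth.Agent.S17614

/-- Suppose S is an affine scheme, and G denotes a sheaf of abelian groups on the small étale site of S.
If for every affine scheme T étale over S and every i ≥ 1 the étale cohomology group H^i(T, G|_T)
vanishes, then the Zariski cohomology groups H^i(S, G|_{S_Zar}) of the restriction of G to the site
of opens of S vanish for every i ≥ 1. (Continuity of the opens-to-étale-schemes functor is carried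
as an instance binder.) -/
theorem result (S : Scheme.{u}) [IsAffine S]
    [EtZar.ZarCont S] (G : EtCoh.Ab S)
    (hG : ∀ (T : S.Etale), IsAffine T.left → ∀ i : ℕ, 1 ≤ i →
      Subsingleton (EtCoh.H T.left ((EtCoh.pull T.hom).obj G) i))
    (i : ℕ) (hi : 1 ≤ i) :
    Subsingleton (EtZar.H ((EtZar.resZar S).obj G) i) := by
  have hA : EtZarCmp.AffVan G := (EtZarCmp.affVan_iff G).2 fun T hT q hq => hG T hT q hq
  obtain ⟨e⟩ := EtZarCmp.nonempty_zarH_equiv G hA i
  have h := hG (EtCoh.top S) (inferInstanceAs (IsAffine S)) i hi
  have : Subsingleton ↑((EtCoh.HF S i).obj ((EtCoh.pull (𝟙 S)).obj G)) := h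
  have : Subsingleton (EtCoh.H S G i) :=
    ((EtCoh.HF S i).mapIso ((Groth.Agent.EtaleSite.HpullComp.pullId S).app G)).addCommGroupIsoToAddEquiv.symm.injective.subsingleton
  exact e.injective.subsingleton

end Groth.Agent.S17614
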