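import Groth.Statements.S17617
import Groth.Agent.Hens.PairHfp
set_option linter.style.haveILetI false

set_option autoImplicit false
universe u
open Hensel

namespace Groth.Agent.S17617

/-- Let (A, I) be a Henselian pair and let M' → M → M'' be A-linear maps with zero composite. Then M' →
M → M'' is exact if and only if for every prime ideal p of A containing I and every Henselization H
of the pair (A_p, IA_p), the sequence H ⊗_A M' → H ⊗_A M → H ⊗_A M'' is exact. (The modules H ⊗_A M
are the stalks at p of the sheaf associated to M on the affine Henselian scheme of (A, I), and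
exactness of a sequence of such sheaves is exactness at every stalk, so this is the statement that
the sequence of modules is exact exactly when the associated sequence of sheaves is.) -/
theorem result (A : Type u) [CommRing A]
    (I : Ideal A) [HenselianRing A I]
    (M' M M'' : Type u) [AddCommGroup M'] [Module A M'] [AddCommGroup M] [Module A M]
    [AddCommGroup M''] [Module A M''] (f : M' →ₗ[A] M) (g : M →ₗ[A] M'') (hfg : g.comp f = 0) :
    Function.Exact f g ↔
    ∀ (p : Ideal A) [p.IsPrime], I ≤ p →
      ∀ (H : Type u) [CommRing H] [Algebra (Localization.AtPrime p) H] [Algebra A H]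
        [IsScalarTower A (Localization.AtPrime p) H],
        Hens2.IsPairHenselization (Localization.AtPrime p)
          (I.map (algebraMap A (Localization.AtPrime p))) H →
        Function.Exact (f.baseChange H) (g.baseChange H) := by
  refine ⟨fun h p _ _ H _ _ _ _ hH => ?_, fun h => ?_⟩
  · haveI : Module.Flat (Localization.AtPrime p) H :=
      Groth.Agent.Hens.flat_of_isPairHenselization hH
    haveI : Module.Flat A H := Module.Flat.trans A (Localization.AtPrime p) H
    exact Module.Flat.lTensor_exact H h
  · intro x
    refine ⟨fun hx => ?_, fun ⟨y, hy⟩ => by rw [← hy]; exact LinearMap.congr_fun hfg y⟩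
    -- the ideal of `a` with `a x` in the image
    let 𝔞 : Ideal A := Submodule.comap ((LinearMap.id : A →ₗ[A] A).smulRight x) (LinearMap.range f)
    by_contra hxr
    obtain ⟨p, hp, hle⟩ := Ideal.exists_le_maximal 𝔞 (fun htop => hxr (by
      have h1 : (1 : A) ∈ 𝔞 := htop ▸ Submodule.mem_top
      simpa [𝔞] using h1))
    haveI : p.IsPrime := hp.isPrime
    have hIp : I ≤ p := (HenselianRing.jac (I := I)).trans (sInf_le ⟨bot_le, hp⟩)
    let L := Localization.AtPrime p
    let H := Groth.Agent.Hens.PairHenselization L (I.map (algebraMap A L))
    letI : Algebra A H := ((algebraMap L H).comp (algebraMap A L)).toAlgebra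
    haveI : IsScalarTower A L H := .of_algebraMap_eq' rfl
    have hex := h p hIp H Groth.Agent.Hens.isPairHenselization_pairHenselization
    have hIL : I.map (algebraMap A L) ≤ IsLocalRing.maximalIdeal L := by
      rw [Ideal.map_le_iff_le_comap]
      exact hIp.trans (IsLocalization.AtPrime.comap_maximalIdeal L p).ge
    haveI : Module.FaithfullyFlat L H := by
      refine ⟨fun m hm htop => ?_⟩
      rw [IsLocalRing.eq_maximalIdeal hm] at htop
      rw [Ideal.smul_top_eq_map] at htop
      have h1 : (IsLocalRing.maximalIdeal L).map (algebraMap L H) = ⊤ :=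
        (Submodule.restrictScalars_eq_top_iff _ _ _).1 htop
      have h2 := congrArg (Ideal.map (Groth.Agent.Hens.pairPoint L (I.map (algebraMap A L))).toRingHom) h1
      rw [Ideal.map_map, Ideal.map_top,
        show (Groth.Agent.Hens.pairPoint L (I.map (algebraMap A L))).toRingHom.comp (algebraMap L H) =
          algebraMap L _ from (Groth.Agent.Hens.pairPoint L _).comp_algebraMap,
        Ideal.Quotient.algebraMap_eq] at h2
      have h3 := congrArg (Ideal.comap (Ideal.Quotient.mk (I.map (algebraMap A L)))) h2
      rw [Ideal.comap_map_of_surjective _ Ideal.Quotient.mk_surjective, Ideal.comap_top,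
        ← RingHom.ker_eq_comap_bot, Ideal.mk_ker, sup_eq_left.2 hIL] at h3
      exact Ideal.IsPrime.ne_top inferInstance h3
    -- exactness over `L`
    have hexL : Function.Exact (f.baseChange L) (g.baseChange L) := by
      refine (Module.FaithfullyFlat.lTensor_exact_iff_exact L H _ _).1 ?_
      have key : ∀ {M N : Type u} [AddCommGroup M] [Module A M] [AddCommGroup N] [Module A N]
          (φ : M →ₗ[A] N),
          LinearMap.lTensor H (φ.baseChange L) ∘ₗ
            ((TensorProduct.AlgebraTensorModule.cancelBaseChange A L L H M).symm.toLinearMap) =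
          ((TensorProduct.AlgebraTensorModule.cancelBaseChange A L L H N).symm.toLinearMap) ∘ₗ
            ((φ.baseChange H).restrictScalars L) := by
        intro M N _ _ _ _ φ
        refine LinearMap.ext fun z => ?_
        induction z using TensorProduct.induction_on with
        | zero => simp only [map_zero]
        | tmul a m => simp
        | add a b ha hb => simp only [map_add, ha, hb]
      exact Function.Exact.of_ladder_linearEquiv_of_exact (key f) (key g) hex
    have hx1 : g.baseChange L ((1 : L) ⊗ₜ[A] x) = 0 := by
      rw [LinearMap.baseChange_tmul, hx, TensorProduct.tmul_zero]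
    obtain ⟨y, hy⟩ := (hexL _).1 hx1
    obtain ⟨⟨y₀, s⟩, hys⟩ := IsLocalizedModule.surj p.primeCompl (TensorProduct.mk A L M' 1) y
    have h1 : (s : A) • ((1 : L) ⊗ₜ[A] x) = (1 : L) ⊗ₜ[A] f y₀ := by
      rw [← hy, ← LinearMap.map_smul_of_tower]
      show f.baseChange L ((s : A) • y) = _
      rw [show (s : A) • y = (1 : L) ⊗ₜ[A] y₀ from hys, LinearMap.baseChange_tmul]
    rw [← TensorProduct.tmul_smul] at h1
    obtain ⟨c, hc⟩ := (IsLocalizedModule.eq_iff_exists p.primeCompl (TensorProduct.mk A L M 1)).1 h1
    have hmem : (c : A) * s ∈ 𝔞 := by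
      refine ⟨(c : A) • y₀, ?_⟩
      show f ((c : A) • y₀) = ((c : A) * s) • x
      rw [map_smul, mul_smul]
      exact hc.symm
    exact (hp.isPrime.mem_or_mem (hle hmem)).elim c.2 s.2

end Groth.Agent.S17617
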