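import Groth.Statements.S17619
import Groth.Agent.S1223
import Groth.Agent.CAlgA.FibreMod
import Mathlib.RingTheory.Ideal.AssociatedPrime.Finiteness
import Mathlib.RingTheory.Filtration

set_option autoImplicit false
universe u
open FlatMor

namespace Groth.Agent.S17619

open TensorProduct

section
variable {A B : Type u} [CommRing A] [CommRing B] [Algebra A B]

/-- An element taking the value one under a retraction acts regularly on the base change of any finite module. -/
theorem smul_eq_zero_imp [IsNoetherianRing A] [Module.Flat A B] (hfib : FlatCA.GeomIntegralFibres A B)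
    (u : B →ₐ[A] A) {s : B} (hs : u s = 1) (Q : Type u) [AddCommGroup Q] [Module A Q] [Module.Finite A Q] :
    ∀ x : B ⊗[A] Q, s • x = 0 → x = 0 := by
  induction ‹Module.Finite A Q› using IsNoetherianRing.induction_on_isQuotientEquivQuotientPrime A with
  | subsingleton N => exact fun x _ => Subsingleton.elim _ _
  | quotient N p e =>
    let K := p.asIdeal.ResidueField
    haveI := S1223.isDomain_tensor hfib K
    let j : A ⧸ p.asIdeal →ₗ[A] K := (IsScalarTower.toAlgHom A (A ⧸ p.asIdeal) K).toLinearMap
    let φ : B ⊗[A] N →ₗ[A] K ⊗[A] B :=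
      (TensorProduct.comm A B K).toLinearMap.comp (LinearMap.lTensor B (j.comp e.toLinearMap))
    have hφ : Function.Injective φ :=
      (TensorProduct.comm A B K).injective.comp (Module.Flat.lTensor_preserves_injective_linearMap _
        ((Ideal.injective_algebraMap_quotient_residueField p.asIdeal).comp e.injective))
    let c : K ⊗[A] B := Algebra.TensorProduct.includeRight s
    have hc : c ≠ 0 := fun h => by
      have := congrArg (Algebra.TensorProduct.lift (Algebra.ofId K K) ((Algebra.ofId A K).comp u)
        (fun _ _ => Commute.all _ _)) h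
      simp [c, hs] at this
    have hmul : ∀ x, φ (s • x) = c * φ x := fun x => by
      induction x with
      | zero => simp
      | tmul b q => simp [φ, c, TensorProduct.smul_tmul']
      | add x y hx hy => rw [smul_add, map_add, map_add, hx, hy, mul_add]
    intro x hx
    have := hmul x
    rw [hx, map_zero, eq_comm, mul_eq_zero] at this
    exact hφ ((this.resolve_left hc).trans (map_zero φ).symm)
  | exact N₁ N₂ N₃ f g hf hg hfg h₁ h₃ =>
    intro x hx
    let F := AlgebraTensorModule.lTensor B B f
    let G := AlgebraTensorModule.lTensor B B g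
    have hG : G x = 0 := h₃ _ (by rw [← map_smul, hx, map_zero])
    obtain ⟨y, rfl⟩ := (lTensor_exact B hfg hg x).1 hG
    have hF : Function.Injective F := Module.Flat.lTensor_preserves_injective_linearMap f hf
    have h0 : s • y = 0 := hF ((map_smul F s y).trans (hx.trans (map_zero F).symm))
    rw [h₁ y h0, map_zero]

/-- The base change of a finite module is separated along an ideal whose elements are killed by a retraction. -/
theorem eq_zero_of_forall_mkQ [IsNoetherianRing A] [IsNoetherianRing B] [Module.Flat A B]
    (hfib : FlatCA.GeomIntegralFibres A B) (u : B →ₐ[A] A) (Q : Type u) [AddCommGroup Q] [Module A Q]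
    [Module.Finite A Q] (x : B ⊗[A] Q)
    (hx : ∀ n : ℕ, ((RingHom.ker u ^ n).restrictScalars A).mkQ.rTensor Q x = 0) : x = 0 := by
  let J := RingHom.ker u
  have hmem : ∀ n : ℕ, x ∈ (J ^ n • ⊤ : Submodule B (B ⊗[A] Q)) := by
    intro n
    obtain ⟨z, rfl⟩ := ((rTensor_exact Q (LinearMap.exact_subtype_mkQ ((J ^ n).restrictScalars A))
      (Submodule.mkQ_surjective _)) x).mp (hx n)
    clear hx
    induction z with
    | zero => simp
    | tmul k q =>
      rw [LinearMap.rTensor_tmul]
      have : (k : B) ⊗ₜ[A] q = (k : B) • ((1 : B) ⊗ₜ[A] q) := by simp [TensorProduct.smul_tmul']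
      rw [Submodule.subtype_apply, this]
      exact Submodule.smul_mem_smul k.2 Submodule.mem_top
    | add a b ha hb => rw [map_add]; exact add_mem ha hb
  obtain ⟨⟨r, hr⟩, hrx⟩ := (J.mem_iInf_smul_pow_eq_bot_iff x).mp (Submodule.mem_iInf _ |>.mpr hmem)
  refine smul_eq_zero_imp hfib u (s := 1 - r) ?_ Q x ?_
  · rw [map_sub, map_one, show u r = 0 from hr, sub_zero]
  · refine (sub_smul (R := B) (1 : B) r x).trans (sub_eq_zero.2 ((one_smul B x).trans hrx.symm))

end

/-- Let A be a Noetherian ring and B a smooth A-algebra whose fibres are geometrically integral, and let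
u : B → A be an A-algebra retraction with kernel I (the situation reached, after a faithfully flat
base change, in the proof that flat and pure modules are projective). Let B̂ be the I-adic
completion of B, presented as a B-algebra, compatibly an A-algebra, that is I B̂-adically complete
and for which every truncation B/I^n → B̂/I^n B̂ is bijective. Then the canonical map B → B̂ is
universally injective over A: it remains injective after tensoring over A with any A-module (modules
in the universe of A). -/
theorem result (A : Type u) [CommRing A]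
    [IsNoetherianRing A] (B : Type u) [CommRing B] [Algebra A B] [Algebra.Smooth A B]
    (hfib : FlatCA.GeomIntegralFibres A B) (u : B →ₐ[A] A)
    (Bh : Type u) [CommRing Bh] [Algebra B Bh] [Algebra A Bh] [IsScalarTower A B Bh]
    [IsAdicComplete ((RingHom.ker u).map (algebraMap B Bh)) Bh]
    (hq : ∀ n : ℕ, Function.Bijective (Ideal.quotientMap ((RingHom.ker u ^ n).map (algebraMap B Bh))
      (algebraMap B Bh) Ideal.le_comap_map)) :
    FlatCA.UnivInj A (IsScalarTower.toAlgHom A B Bh).toLinearMap := by
  haveI : IsNoetherianRing B := Algebra.FiniteType.isNoetherianRing A B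
  classical
  let ι : B →ₗ[A] Bh := (IsScalarTower.toAlgHom A B Bh).toLinearMap
  intro Q _ _
  rw [LinearMap.lTensor_inj_iff_rTensor_inj, injective_iff_map_eq_zero]
  intro x hx
  obtain ⟨t, ht⟩ := TensorProduct.exists_finset x
  let Q' : Submodule A Q := Submodule.span A ((t.image Prod.snd : Finset Q) : Set Q)
  let x' : B ⊗[A] Q' := ∑ i ∈ t.attach, i.1.1 ⊗ₜ ⟨i.1.2, Submodule.subset_span (Finset.mem_image_of_mem _ i.2)⟩
  have hx' : Q'.subtype.lTensor B x' = x := by
    rw [ht, map_sum, ← Finset.sum_attach t fun i => i.1 ⊗ₜ[A] i.2]
    rfl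
  have hy : Q'.subtype.lTensor Bh (ι.rTensor Q' x') = 0 := by
    rw [← LinearMap.comp_apply, LinearMap.lTensor_comp_rTensor, ← LinearMap.rTensor_comp_lTensor,
      LinearMap.comp_apply, hx']
    exact hx
  obtain ⟨Q'', hle, hfg, hy''⟩ :=
    CAlgA.FibreMod.exists_fg_lTensor_eq_zero (R := A) Bh Q' ⟨_, rfl⟩ _ hy
  haveI : Module.Finite A Q'' := Module.Finite.of_fg hfg
  have h0 : (Submodule.inclusion hle).lTensor B x' = 0 := by
    refine eq_zero_of_forall_mkQ hfib u Q'' _ fun n => ?_
    let J := RingHom.ker u ^ n
    let e := RingEquiv.ofBijective _ (hq n)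
    let π : Bh →ₗ[A] B ⧸ J.restrictScalars A :=
      { toFun := fun z => e.symm (Ideal.Quotient.mk (J.map (algebraMap B Bh)) z)
        map_add' := fun z w => by rw [map_add, map_add]; rfl
        map_smul' := fun a z => by
          rw [Algebra.smul_def, IsScalarTower.algebraMap_apply A B Bh, map_mul, map_mul]
          rw [show e.symm (Ideal.Quotient.mk (J.map (algebraMap B Bh)) (algebraMap B Bh (algebraMap A B a))) =
            Ideal.Quotient.mk J (algebraMap A B a) from e.symm_apply_eq.2 (Ideal.quotientMap_mk (H := Ideal.le_comap_map)).symm]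
          obtain ⟨b, hb⟩ := Ideal.Quotient.mk_surjective (e.symm (Ideal.Quotient.mk (J.map (algebraMap B Bh)) z))
          rw [← hb, ← map_mul, ← Algebra.smul_def]
          rfl }
    have hπ : π.comp ι = (J.restrictScalars A).mkQ :=
      LinearMap.ext fun b => e.symm_apply_eq.2 (Ideal.quotientMap_mk (H := Ideal.le_comap_map)).symm
    rw [← hπ, LinearMap.rTensor_comp_apply]
    have : ι.rTensor Q'' ((Submodule.inclusion hle).lTensor B x') = 0 := by
      rw [← LinearMap.comp_apply, LinearMap.rTensor_comp_lTensor, ← LinearMap.lTensor_comp_rTensor,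
        LinearMap.comp_apply]
      exact hy''
    rw [this, map_zero]
  rw [← hx', show Q'.subtype = Q''.subtype.comp (Submodule.inclusion hle) from rfl, LinearMap.lTensor_comp_apply,
    h0, map_zero]

end Groth.Agent.S17619
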