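import Groth.Statements.S1762
import Groth.Agent.DualCx.Dimfun

set_option autoImplicit false
universe u
open CategoryTheory
attribute [local instance] HasDerivedCategory.standard
open Dual

namespace Groth.Agent.S1762

/-- Let A be a Noetherian ring with a dualizing complex ω and p a minimal prime of A. Then there is
exactly one integer i for which H^i(ω) localized at p is nonzero. -/
theorem result (A : Type u) [CommRing A] [IsNoetherianRing A] (ω : Dual.D A) (hω : Dual.IsDualizing A ω) (p : Ideal A) (hp : p ∈ minimalPrimes A) : ∃! i : ℤ, Nontrivial (LocalizedModule (Ideal.primeCompl p (hp := hp.1.1)) (Dual.HD A ω i)) := by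
  let P : PrimeSpectrum A := ⟨p, hp.1.1⟩
  have key : ∀ i : ℤ, Nontrivial (LocalizedModule (Ideal.primeCompl p (hp := hp.1.1)) (Dual.HD A ω i)) ↔
      i = Groth.Agent.DualCx.Dimfun.deg hω P := fun i => by
    rw [← Groth.Agent.DualCx.Dimfun.not_Z_HD_iff_minimal hω P hp i,
      Groth.Agent.DualCx.Dimfun.Z_iff_localized, not_subsingleton_iff_nontrivial]
  exact ⟨_, (key _).mpr rfl, fun i hi => (key i).mp hi⟩

end Groth.Agent.S1762
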