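import Groth.Statements.S17620
import Groth.Agent.Hens.PairHfp
set_option linter.style.haveILetI false

set_option autoImplicit false
universe u
open Hensel

namespace Groth.Agent.S17620

/-- Let R be a local ring and J an ideal of R contained in the maximal ideal, let H be a Henselization
of the pair (R, J) which is a local ring with local structure map R → H, and let S be a strict
Henselization of the local ring H. Then S, with its composite R-algebra structure, is a strict
Henselization of the local ring R. (This is the identification of the strict Henselization of the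
local ring of a scheme at a point with that of the local ring of its Henselization along a closed
subscheme through the point.) -/
theorem result
    (R : Type u) [CommRing R] [IsLocalRing R] (J : Ideal R) (hJ : J ≤ IsLocalRing.maximalIdeal R)
    (H : Type u) [CommRing H] [IsLocalRing H] [Algebra R H] [IsLocalHom (algebraMap R H)]
    (hH : Hens2.IsPairHenselization R J H)
    (S : Type u) [CommRing S] [IsLocalRing S] [Algebra H S] [IsLocalHom (algebraMap H S)]
    [Hensel.IsStrictHenselization H S]
    [Algebra R S] [IsScalarTower R H S] [IsLocalHom (algebraMap R S)] :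
    Hensel.IsStrictHenselization R S := by
  haveI hS : HenselianLocalRing S := ‹Hensel.IsStrictHenselization H S›.henselian
  have hbij := Groth.Agent.Hens.bijective_quotientMap_of_isPairHenselization hH
  -- `κ(R) → κ(H)` is surjective
  have hres : ∀ x : H, ∃ r : R, x - algebraMap R H r ∈ IsLocalRing.maximalIdeal H := fun x => by
    obtain ⟨r, hr⟩ := Groth.Agent.Hens.exists_sub_mem_map_pow hbij.2 1 x
    rw [pow_one] at hr
    refine ⟨r, ((Ideal.map_mono hJ).trans ?_) hr⟩
    rw [Ideal.map_le_iff_le_comap]
    exact fun a ha hu => ha (isUnit_of_map_unit _ _ hu)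
  haveI hκ := (‹Hensel.IsStrictHenselization H S›).isSepClosure
  refine ⟨hS, ?_, fun T _ _ f _ τ hτ => ?_⟩
  · let k := IsLocalRing.ResidueField R
    let k' := IsLocalRing.ResidueField H
    let ρ : k →+* k' := IsLocalRing.ResidueField.map (algebraMap R H)
    have hρ : Function.Bijective ρ := ⟨RingHom.injective _, fun y => by
      obtain ⟨x, rfl⟩ := IsLocalRing.residue_surjective y
      obtain ⟨r, hr⟩ := hres x
      refine ⟨IsLocalRing.residue R r, ?_⟩
      rw [IsLocalRing.ResidueField.map_residue, eq_comm, ← sub_eq_zero, ← map_sub,
        IsLocalRing.residue_eq_zero_iff]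
      exact hr⟩
    letI := ρ.toAlgebra
    haveI : IsScalarTower k k' (IsLocalRing.ResidueField S) := .of_algebraMap_eq fun x => by
      obtain ⟨r, rfl⟩ := IsLocalRing.residue_surjective x
      show IsLocalRing.residue S (algebraMap R S r) =
        IsLocalRing.residue S (algebraMap H S (algebraMap R H r))
      rw [← IsScalarTower.algebraMap_apply]
    haveI : Algebra.IsSeparable k k' :=
      ⟨fun y => by obtain ⟨x, rfl⟩ := hρ.2 y; exact isSeparable_algebraMap x⟩
    haveI : Algebra.IsSeparable k' (IsLocalRing.ResidueField S) := hκ.separable
    exact ⟨hκ.sep_closed, Algebra.IsSeparable.trans k k' _⟩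
  · letI := f.toAlgebra
    haveI hfJ : HenselianRing T (IsLocalRing.maximalIdeal T) := inferInstance
    have hJT : J.map f ≤ IsLocalRing.maximalIdeal T := by
      rw [Ideal.map_le_iff_le_comap]
      exact fun a ha hu => hJ ha (isUnit_of_map_unit f _ hu)
    obtain ⟨h, hh, hhu⟩ := hH.2 T _ f hfJ hJT
    have hhJ : ∀ x ∈ IsLocalRing.maximalIdeal H, h x ∈ IsLocalRing.maximalIdeal T := by
      intro x hx
      obtain ⟨r, hr⟩ := Groth.Agent.Hens.exists_sub_mem_map_pow hbij.2 1 x
      rw [pow_one] at hr
      have hxr : h (x - algebraMap R H r) ∈ IsLocalRing.maximalIdeal T := by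
        have := Ideal.mem_map_of_mem h hr
        rw [Ideal.map_map, hh] at this
        exact hJT this
      have hrm : r ∈ IsLocalRing.maximalIdeal R := fun hu => by
        have h1 : algebraMap R H r ∈ IsLocalRing.maximalIdeal H := by
          rw [show algebraMap R H r = x - (x - algebraMap R H r) by ring]
          refine Ideal.sub_mem _ hx ?_
          refine (Ideal.map_mono hJ).trans ?_ hr
          rw [Ideal.map_le_iff_le_comap]
          exact fun a ha hu => ha (isUnit_of_map_unit _ _ hu)
        exact h1 (hu.map _)
      rw [show h x = h (x - algebraMap R H r) + h (algebraMap R H r) by rw [← map_add, sub_add_cancel],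
        ← RingHom.comp_apply h (algebraMap R H), hh]
      exact Ideal.add_mem _ hxr (fun hu => hrm (isUnit_of_map_unit f _ hu))
    haveI : IsLocalHom h := ⟨fun x hx => by_contra fun hn => hhJ x hn hx⟩
    have hτ' : τ.comp (IsLocalRing.ResidueField.map (algebraMap H S)) =
        IsLocalRing.ResidueField.map h := by
      refine RingHom.ext fun y => ?_
      obtain ⟨x, rfl⟩ := IsLocalRing.residue_surjective y
      obtain ⟨r, hr⟩ := hres x
      rw [← IsLocalRing.residue_eq_zero_iff, map_sub, sub_eq_zero] at hr
      have h1 := RingHom.congr_fun hτ (IsLocalRing.residue R r)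
      simp only [RingHom.comp_apply, IsLocalRing.ResidueField.map_residue] at h1 ⊢
      have h2 := congrArg (IsLocalRing.ResidueField.map (algebraMap H S)) hr
      have h3 := congrArg (IsLocalRing.ResidueField.map h) hr
      simp only [IsLocalRing.ResidueField.map_residue, ← IsScalarTower.algebraMap_apply] at h2
      simp only [IsLocalRing.ResidueField.map_residue, ← RingHom.comp_apply h (algebraMap R H), hh] at h3
      rw [h2, h3, h1]
    obtain ⟨g, ⟨hg1, hg2⟩, hgu⟩ :=
      (‹Hensel.IsStrictHenselization H S›).universal T h τ hτ'
    refine ⟨g, ⟨?_, hg2⟩, fun g' hg' => hgu g' ⟨hhu _ ?_, hg'.2⟩⟩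
    · rw [IsScalarTower.algebraMap_eq R H S, ← RingHom.comp_assoc, hg1, hh]
    · show (g'.comp (algebraMap H S)).comp (algebraMap R H) = f
      rw [RingHom.comp_assoc, ← IsScalarTower.algebraMap_eq]
      exact hg'.1

end Groth.Agent.S17620
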