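import Groth.Statements.S17621
import Groth.Agent.BigVol.Asymp
-- import your own Groth.Agent.* helpers here

set_option autoImplicit false
set_option linter.style.haveILetI false
universe u
open CategoryTheory CategoryTheory.Limits AlgebraicGeometry
open Variety

namespace Groth.Agent.S17621

/-- Let X be an integral scheme, proper over an algebraically closed field k of characteristic zero and
admitting an ample invertible module, of dimension n (stated in the source over the complex
numbers), L an invertible O_X-module and a ≥ 1. Then ĥ^i(X, L^{⊗a}) = a^n · ĥ^i(X, L) for every i ≥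
0, where ĥ^i(X, L) = limsup_m dim_k H^i(X, L^{⊗m}) · n!/m^n is the i-th asymptotic cohomological
function. -/
theorem result (k : Type u) [Field k] [IsAlgClosed k] [CharZero k] (X : Scheme.{u})
    [X.Over (Spec (CommRingCat.of k))] [AlgebraicGeometry.IsIntegral X]
    [IsProper (X ↘ Spec (CommRingCat.of k))] (hproj : ∃ A : X.Modules, CohB1.IsAmple A)
    (n : ℕ) (hn : topologicalKrullDim X = n)
    (L : X.Modules) (hL : PicF.IsInvertible L) (a : ℕ) (ha : 1 ≤ a) (i : ℕ) :
    W4c5asymptcohfn.hhat k X n i (CohB1.tensorPow L a) = (a : ℝ) ^ n * W4c5asymptcohfn.hhat k X n i L := by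
  haveI := EulerChar.isNoetherian k (X := X)
  obtain ⟨A, hamp⟩ := hproj
  have hO := ProperFin.isCoh_structureModule X
  obtain ⟨C', h₁⟩ := BigVol.CohBound.exists_hh_le k hamp hL hO
    (BigVol.Asymp.dim_support_le hn _) i
  obtain ⟨C, h₂⟩ := BigVol.CohBound.exists_hh_succ_close k hamp hL hO
    (BigVol.Asymp.dim_support_le hn _) i
  have e : ∀ {M : X.Modules}, PicF.IsInvertible M → Module.finrank k (Coh.HH X M i) =
      BigVol.CohBound.h k (CohB1.tensorMod (Coh.structureModule X) M) i := fun {M} hM =>
    ProjTwist.Pn.finrank_hh_iso (BigVol.structure_tensor hM).some.symm i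
  have key := BigVol.Asymp.limsup_comp_mul (n := n) (a := a) ha (f := fun m =>
    BigVol.CohBound.hh k (Coh.structureModule X) L m i) h₁ fun m => (h₂ m).1
  have el : (fun m : ℕ => (Module.finrank k (Coh.HH X (CohB1.tensorPow (CohB1.tensorPow L a) m) i) : ℝ) *
      (n.factorial : ℝ) / (m : ℝ) ^ n) =
      BigVol.Asymp.seq n fun m => BigVol.CohBound.hh k (Coh.structureModule X) L (a * m) i := by
    funext m
    rw [ProjTwist.Pn.finrank_hh_iso (BigVol.nonempty_pow_mul hL a m).some i,
      e (AmpleLib.isInvertible_tensorPow hL (a * m))]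
  have er : (fun m : ℕ => (Module.finrank k (Coh.HH X (CohB1.tensorPow L m) i) : ℝ) *
      (n.factorial : ℝ) / (m : ℝ) ^ n) =
      BigVol.Asymp.seq n fun m => BigVol.CohBound.hh k (Coh.structureModule X) L m i := by
    funext m
    rw [e (AmpleLib.isInvertible_tensorPow hL m)]
  unfold W4c5asymptcohfn.hhat
  rw [el, er]
  exact key

end Groth.Agent.S17621
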