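import Groth.Statements.S17623
import Groth.Agent.BigVol.GenFin
-- import your own Groth.Agent.* helpers here

set_option autoImplicit false
set_option linter.style.haveILetI false
universe u
open CategoryTheory CategoryTheory.Limits AlgebraicGeometry
open Variety

namespace Groth.Agent.S17623

/-- Let X and Y be integral schemes, proper over an algebraically closed field k of characteristic zero
and each admitting an ample invertible module (stated in the source over the complex numbers), with
X of dimension n, and let f : Y → X be a k-morphism which is dominant and generically finite of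
degree d ≥ 1: f maps the generic point of Y to the generic point of X and the residue-field
extension there has finite degree d (so f is proper and surjective and Y has dimension n). Then for
every invertible O_X-module L and every i ≥ 0, ĥ^i(Y, f^*L) = d · ĥ^i(X, L), where ĥ^i(−, L) =
limsup_m dim_k H^i(−, L^{⊗m}) · n!/m^n. -/
theorem result (k : Type u) [Field k] [IsAlgClosed k] [CharZero k]
    (X Y : Scheme.{u}) [X.Over (Spec (CommRingCat.of k))] [Y.Over (Spec (CommRingCat.of k))]
    [AlgebraicGeometry.IsIntegral X] [AlgebraicGeometry.IsIntegral Y]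
    [IsProper (X ↘ Spec (CommRingCat.of k))] [IsProper (Y ↘ Spec (CommRingCat.of k))]
    (hXproj : ∃ A : X.Modules, CohB1.IsAmple A) (hYproj : ∃ B : Y.Modules, CohB1.IsAmple B)
    (n : ℕ) (hn : topologicalKrullDim X = n)
    (f : Y ⟶ X) (hf : f ≫ (X ↘ Spec (CommRingCat.of k)) = Y ↘ Spec (CommRingCat.of k))
    (hdom : f.base (genericPoint Y) = genericPoint X) (d : ℕ) (hd : f.residueDegree (genericPoint Y) = d)
    (hd0 : 1 ≤ d) (L : X.Modules) (hL : PicF.IsInvertible L) (i : ℕ) :
    W4c5asymptcohfn.hhat k Y n i ((Scheme.Modules.pullback f).obj L) =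
      (d : ℝ) * W4c5asymptcohfn.hhat k X n i L := by
  obtain ⟨A, hA⟩ := hXproj
  obtain ⟨B, hB⟩ := hYproj
  obtain ⟨C, hC⟩ := Groth.Agent.BigVol.GenFin.exists_close_pullback k f hf hdom (by omega) hA hB hn hL i
  simp only [hd] at hC
  haveI := EulerChar.isNoetherian k (X := X)
  obtain ⟨K, hK⟩ := Groth.Agent.BigVol.CohBound.exists_hh_le k hA hL (ProperFin.isCoh_structureModule X)
    (BigVol.Asymp.dim_support_le hn _) i
  let u : ℕ → ℕ := fun m => Module.finrank k (Coh.HH Y (CohB1.tensorPow ((Scheme.Modules.pullback f).obj L) m) i)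
  let v : ℕ → ℕ := fun m => Module.finrank k (Coh.HH X (CohB1.tensorPow L m) i)
  have hv : ∀ m, v m ≤ K * (m + 1) ^ n := fun m =>
    (ProjTwist.Pn.finrank_hh_iso (k := k) (ProjTwist.oneTens _) i).symm.trans_le (hK m)
  have hdv : ∀ m, d * v m ≤ (d * K) * (m + 1) ^ n := fun m => by
    rw [Nat.mul_assoc]
    exact Nat.mul_le_mul_left d (hv m)
  have hu : ∀ m, u m ≤ (d * K + C) * (m + 1) ^ n := fun m => by
    have h1 := hdv m
    have h2 : BigVol.CohBound.g n m ≤ (m + 1) ^ n := by
      cases n with
      | zero => exact Nat.zero_le _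
      | succ e => exact Nat.pow_le_pow_right (Nat.succ_pos m) (Nat.le_succ e)
    have h3 := (hC m).1
    simp only [u, v] at *
    nlinarith
  have h1 : Filter.limsup (BigVol.Asymp.seq n u) Filter.atTop =
      Filter.limsup (BigVol.Asymp.seq n fun m => d * v m) Filter.atTop :=
    le_antisymm (BigVol.Asymp.limsup_le hdv fun m => (hC m).1) (BigVol.Asymp.limsup_le hu fun m => (hC m).2)
  have h2 : Filter.limsup (BigVol.Asymp.seq n fun m => d * v m) Filter.atTop =
      (d : ℝ) * Filter.limsup (BigVol.Asymp.seq n v) Filter.atTop := by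
    have hmono : Monotone fun x : ℝ => (d : ℝ) * x := fun a b h => mul_le_mul_of_nonneg_left h (Nat.cast_nonneg d)
    refine Eq.trans ?_ (hmono.map_limsup_of_continuousAt _ (continuous_const.mul continuous_id).continuousAt
      (BigVol.Asymp.bounded hv) (BigVol.Asymp.cobounded n v)).symm
    congr 1
    funext m
    simp only [BigVol.Asymp.seq, Function.comp, Nat.cast_mul]
    ring
  exact h1.trans h2

end Groth.Agent.S17623
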