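import Groth.Statements.S17624
import Groth.Agent.BigVol.RelBound
-- import your own Groth.Agent.* helpers here

set_option autoImplicit false
set_option linter.style.haveILetI false
universe u
open CategoryTheory CategoryTheory.Limits AlgebraicGeometry
open Variety

namespace Groth.Agent.S17624

/-- Let X and Y be integral schemes, proper over an algebraically closed field k of characteristic zero
and each admitting an ample invertible module (stated in the source over the complex numbers), of
dimensions n and e with e > n, and let f : Y → X be a dominant k-morphism (so proper and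
surjective). Then for every invertible O_X-module L and every i ≥ 0, ĥ^i(Y, f^*L) = 0, where ĥ^i(Y,
M) = limsup_m dim_k H^i(Y, M^{⊗m}) · e!/m^e is normalised by the dimension e of Y. -/
theorem result (k : Type u) [Field k] [IsAlgClosed k] [CharZero k]
    (X Y : Scheme.{u}) [X.Over (Spec (CommRingCat.of k))] [Y.Over (Spec (CommRingCat.of k))]
    [AlgebraicGeometry.IsIntegral X] [AlgebraicGeometry.IsIntegral Y]
    [IsProper (X ↘ Spec (CommRingCat.of k))] [IsProper (Y ↘ Spec (CommRingCat.of k))]
    (hXproj : ∃ A : X.Modules, CohB1.IsAmple A) (hYproj : ∃ B : Y.Modules, CohB1.IsAmple B)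
    (n e : ℕ) (hn : topologicalKrullDim X = n) (he : topologicalKrullDim Y = e) (hne : n < e)
    (f : Y ⟶ X) (hf : f ≫ (X ↘ Spec (CommRingCat.of k)) = Y ↘ Spec (CommRingCat.of k))
    (hdom : f.base (genericPoint Y) = genericPoint X) (L : X.Modules) (hL : PicF.IsInvertible L) (i : ℕ) :
    W4c5asymptcohfn.hhat k Y e i ((Scheme.Modules.pullback f).obj L) = 0 := by
  haveI := EulerChar.isNoetherian k (X := Y)
  obtain ⟨A, hamp⟩ := hXproj
  have hd : topologicalKrullDim
      (f.base '' CohB1.support (Coh.structureModule Y) : Set X) < (e : WithBot ℕ∞) :=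
    lt_of_le_of_lt ((Topology.IsEmbedding.subtypeVal).isInducing.topologicalKrullDim_le.trans hn.le)
      (by exact_mod_cast hne)
  obtain ⟨C, hC⟩ := BigVol.RelBound.exists_hh_pull_lt f k hf hamp hL e _
    (ProperFin.isCoh_structureModule Y) hd i
  refine Filter.Tendsto.limsup_eq (squeeze_zero (fun m => ?_) (fun m => ?_) (BigVol.Asymp.small e C))
  · positivity
  · refine div_le_div_of_nonneg_right (mul_le_mul_of_nonneg_right ?_ (by positivity)) (by positivity)
    rw [← ProjTwist.Pn.finrank_hh_iso (k := k) (BigVol.structure_tensor
      (AmpleLib.isInvertible_tensorPow (PicCl.isInvertible_pullback f hL) m)).some i]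
    exact_mod_cast hC m

end Groth.Agent.S17624
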