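import Groth.Statements.S17626
import Groth.Agent.BigVol.Asymp
-- import your own Groth.Agent.* helpers here

set_option autoImplicit false
set_option linter.style.haveILetI false
universe u
open CategoryTheory CategoryTheory.Limits AlgebraicGeometry
open Variety

namespace Groth.Agent.S17626

section

open CategoryTheory CategoryTheory.Limits AlgebraicGeometry Filter TopologicalSpace Groth.Agent.ProjTwist

/-- A mono of invertible modules is bijective at the generic point, so its cokernel is small. -/
theorem dim_support_cokernel_lt {X : Scheme.{u}} [IsIntegral X] [IsNoetherian X] {B M : X.Modules}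
    (hB : PicF.IsInvertible B) (hM : PicF.IsInvertible M) {d : ℕ}
    (hd : topologicalKrullDim X ≤ (d : WithBot ℕ∞)) (ψ : B ⟶ M) (hψ : ψ ≠ 0) :
    topologicalKrullDim (CohB1.support (cokernel ψ)) < (d : WithBot ℕ∞) := by
  have hQ : Coh.IsCoh (cokernel ψ) := CohDev.isCoh_cokernel ψ
    (ProjTwist.isQCoh_of_isInvertible hB) (BigVol.isCoh_of_isInvertible hM)
  have hξ : genericPoint X ∉ CohB1.support (cokernel ψ) :=
    CohDev.not_mem_support_cokernel ψ (EulerChar.bijective_stalk_generic hB hM ψ hψ).2
  refine Pn.dim_add_one_le_of_forall_specializes (Z := Set.univ) isClosed_univ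
    (CohDev.isClosed_support hQ) (fun ξ _ => ⟨genericPoint X, trivial, hξ, genericPoint_specializes ξ⟩)
    (Set.subset_univ _) ?_
  refine lt_of_le_of_lt ((Topology.IsEmbedding.subtypeVal).isInducing.topologicalKrullDim_le.trans hd) ?_
  exact_mod_cast Nat.lt_succ_self d

end

/-- Let X be an integral scheme, proper over an algebraically closed field k of characteristic zero and
admitting an ample invertible module, of dimension n ≥ 1 (stated in the source over the complex
numbers), and L an invertible O_X-module which is big, in the sense that its volume ĥ^0(X, L) =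
limsup_m dim_k H^0(X, L^{⊗m}) · n!/m^n is positive. Then ĥ^n(X, L) = 0. (The published statement
allows n = 0, where it fails: X is then a point, every L is big and ĥ^0(X, L) = 1; the printed
argument uses that L and its inverse cannot both be big, which needs n ≥ 1.) -/
theorem result (k : Type u) [Field k] [IsAlgClosed k] [CharZero k] (X : Scheme.{u})
    [X.Over (Spec (CommRingCat.of k))] [AlgebraicGeometry.IsIntegral X]
    [IsProper (X ↘ Spec (CommRingCat.of k))] (hproj : ∃ A : X.Modules, CohB1.IsAmple A)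
    (n : ℕ) (hn : topologicalKrullDim X = n) (hn1 : 1 ≤ n)
    (L : X.Modules) (hL : PicF.IsInvertible L) (hbig : 0 < W4c5asymptcohfn.hhat k X n 0 L) :
    W4c5asymptcohfn.hhat k X n n L = 0 := by
  haveI := EulerChar.isNoetherian k (X := X)
  haveI : TopologicalSpace.NoetherianSpace X := inferInstance
  obtain ⟨A, hamp⟩ := hproj
  have hO := ProperFin.isCoh_structureModule X
  let f : ℕ → ℕ → ℕ := fun j m => BigVol.CohBound.hh k (Coh.structureModule X) L m j
  have hf : ∀ j m, f j m = Module.finrank k (Coh.HH X (CohB1.tensorPow L m) j) := fun j m =>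
    ProjTwist.Pn.finrank_hh_iso (BigVol.structure_tensor (AmpleLib.isInvertible_tensorPow hL m)).some j
  have hh : ∀ j, W4c5asymptcohfn.hhat k X n j L = Filter.limsup (BigVol.Asymp.seq n (f j)) Filter.atTop := by
    intro j
    unfold W4c5asymptcohfn.hhat
    congr 1
    funext m
    show _ = (f j m : ℝ) * _ / _
    rw [hf]
  rw [hh] at hbig ⊢
  obtain ⟨C₀, hC₀⟩ := BigVol.CohBound.exists_hh_le k hamp hL hO (BigVol.Asymp.dim_support_le hn _) 0
  obtain ⟨C', hC'⟩ := BigVol.CohBound.exists_hh_le k hamp hL hO (BigVol.Asymp.dim_support_le hn _) n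
  obtain ⟨C, hC⟩ := BigVol.CohBound.exists_hh_succ_close k hamp hL hO (BigVol.Asymp.dim_support_le hn _) n
  obtain ⟨m₀, hm₀, hs⟩ := BigVol.sub_ample_of_growth k hamp hL hn.le fun B => by
    obtain ⟨c, hc0, hc⟩ := exists_between hbig
    obtain ⟨m, hm, hm1⟩ := ((Filter.frequently_lt_of_lt_limsup (BigVol.Asymp.cobounded n (f 0)) hc).and_eventually
      (Filter.eventually_ge_atTop (⌈(B : ℝ) * n.factorial / c⌉₊ + 1))).exists
    refine ⟨m, by omega, ?_⟩
    have hmp : (0 : ℝ) < m := by exact_mod_cast (show 0 < m by omega)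
    have h1 : (B : ℝ) * n.factorial < c * m := by
      have h := Nat.le_ceil ((B : ℝ) * n.factorial / c)
      rw [div_le_iff₀ hc0] at h
      have h' : ((⌈(B : ℝ) * n.factorial / c⌉₊ : ℕ) : ℝ) + 1 ≤ m := by exact_mod_cast hm1
      nlinarith
    have hm2 : c * (m : ℝ) ^ n < (f 0 m : ℝ) * n.factorial :=
      (lt_div_iff₀ (pow_pos hmp n)).mp hm
    have h2 : ((B * m ^ n * n.factorial : ℕ) : ℝ) < ((m * f 0 m * n.factorial : ℕ) : ℝ) := by
      push_cast
      calc (B : ℝ) * (m : ℝ) ^ n * n.factorial = (B * n.factorial) * (m : ℝ) ^ n := by ring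
        _ < c * m * (m : ℝ) ^ n := mul_lt_mul_of_pos_right h1 (pow_pos hmp n)
        _ = m * (c * (m : ℝ) ^ n) := by ring
        _ < m * ((f 0 m : ℝ) * n.factorial) := mul_lt_mul_of_pos_left hm2 hmp
        _ = _ := by ring
    have h3 : B * m ^ n * n.factorial < m * f 0 m * n.factorial := by exact_mod_cast h2
    rw [hf] at h3
    exact lt_of_mul_lt_mul_right h3 (Nat.zero_le _)
  obtain ⟨j₀, hj₀⟩ := AmpCrit.SerreVan.serre_vanishing (X ↘ Spec (CommRingCat.of k)) hamp _ hO
  have hvan : ∀ j, max j₀ 1 ≤ j → f n (m₀ * j) = 0 := fun j hj => by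
    have hLm := AmpleLib.isInvertible_tensorPow hL (m₀ * j)
    have hAj := AmpleLib.isInvertible_tensorPow hamp.1 j
    obtain ⟨φ, hφ⟩ := (BigVol.sub_tensorPow hamp.1 (AmpleLib.isInvertible_tensorPow hL m₀) hs j).iso
      (BigVol.nonempty_pow_mul hL m₀ j).some
    have hφ0 : φ ≠ 0 := fun h0 => by
      subst h0
      exact BigVol.not_isZero_of_isInvertible hAj (CategoryTheory.Limits.IsZero.of_mono_zero _ (CohB1.tensorPow L (m₀ * j)))
    have hlt := dim_support_cokernel_lt hAj hLm hn.le φ hφ0
    have hQ : Coh.IsCoh (CategoryTheory.Limits.cokernel φ) := CohDev.isCoh_cokernel φ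
      (ProjTwist.isQCoh_of_isInvertible hAj) (BigVol.isCoh_of_isInvertible hLm)
    have hsQ := ProjTwist.Pn.subsingleton_of_supportDim_le hQ (n - 1)
      (BigVol.le_of_lt_add_one (by rwa [Nat.sub_add_cancel hn1])) n (by omega)
    have hsA : Subsingleton (Coh.HH X (CohB1.tensorMod (Coh.structureModule X) (CohB1.tensorPow A j)) n) :=
      hj₀ j (le_of_max_le_left hj) n hn1
    have hA0 : BigVol.CohBound.h k (CohB1.tensorPow A j) n = 0 :=
      (ProjTwist.Pn.finrank_hh_iso (BigVol.structure_tensor hAj).some.symm n).trans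
        Module.finrank_zero_of_subsingleton
    have hQ0 : BigVol.CohBound.h k (CategoryTheory.Limits.cokernel φ) n = 0 :=
      Module.finrank_zero_of_subsingleton
    have h := (BigVol.CohBound.h_triangle k
      (CategoryTheory.ShortComplex.ShortExact.mk'
        (S := CategoryTheory.ShortComplex.mk φ _ (CategoryTheory.Limits.cokernel.condition φ))
        (CategoryTheory.ShortComplex.exact_cokernel φ) hφ
        (inferInstanceAs (CategoryTheory.Epi (CategoryTheory.Limits.cokernel.π φ))))
      (BigVol.isCoh_of_isInvertible hAj) (BigVol.isCoh_of_isInvertible hLm) hQ n).1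
    rw [hf]
    change BigVol.CohBound.h k (CohB1.tensorPow L (m₀ * j)) n ≤
      BigVol.CohBound.h k (CohB1.tensorPow A j) n + BigVol.CohBound.h k (CategoryTheory.Limits.cokernel φ) n at h
    change BigVol.CohBound.h k (CohB1.tensorPow L (m₀ * j)) n = 0
    omega
  have key := BigVol.Asymp.limsup_comp_mul (n := n) hm₀ hC' fun m => (hC m).1
  have hz : Filter.limsup (BigVol.Asymp.seq n fun j => f n (m₀ * j)) Filter.atTop = 0 := by
    refine Filter.Tendsto.limsup_eq (tendsto_const_nhds.congr' ?_)
    filter_upwards [Filter.eventually_ge_atTop (max j₀ 1)] with j hj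
    simp [BigVol.Asymp.seq, hvan j hj]
  rw [hz] at key
  exact (mul_eq_zero.mp key.symm).resolve_left (pow_ne_zero _ (by exact_mod_cast hm₀.ne'))

end Groth.Agent.S17626
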