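import Groth.Statements.S17627
import Groth.Agent.BigVol.Rank
-- import your own Groth.Agent.* helpers here

set_option autoImplicit false
set_option linter.style.haveILetI false
universe u
open CategoryTheory CategoryTheory.Limits AlgebraicGeometry
open Variety

namespace Groth.Agent.S17627

/-- Let X be an integral scheme, proper over an algebraically closed field k of characteristic zero and
admitting an ample invertible module, of dimension n (stated in the source over the complex
numbers), F a coherent O_X-module whose generic rank — the dimension of its stalk at the generic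
point of X over the function field — is r, and L an invertible O_X-module. Then limsup_m dim_k
H^i(X, F ⊗ L^{⊗m}) · n!/m^n = r · ĥ^i(X, L) for every i ≥ 0, where ĥ^i(X, L) = limsup_m dim_k H^i(X,
L^{⊗m}) · n!/m^n. -/
theorem result (k : Type u) [Field k] [IsAlgClosed k] [CharZero k] (X : Scheme.{u})
    [X.Over (Spec (CommRingCat.of k))] [AlgebraicGeometry.IsIntegral X]
    [IsProper (X ↘ Spec (CommRingCat.of k))] (hproj : ∃ A : X.Modules, CohB1.IsAmple A)
    (n : ℕ) (hn : topologicalKrullDim X = n)
    (F : X.Modules) (hF : Coh.IsCoh F) (r : ℕ)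
    (hr : Module.finrank (X.presheaf.stalk (genericPoint X)) (F.presheaf.stalk (genericPoint X)) = r)
    (L : X.Modules) (hL : PicF.IsInvertible L) (i : ℕ) :
    W4c5asymptcohfn.hhatF k X n i F L = (r : ℝ) * W4c5asymptcohfn.hhat k X n i L := by
  haveI := EulerChar.isNoetherian k (X := X)
  obtain ⟨A, hamp⟩ := hproj
  have hO := ProperFin.isCoh_structureModule X
  obtain ⟨C, hC⟩ := BigVol.Rank.exists_rank_close k hamp hn hF hr hL i
  obtain ⟨D, hD⟩ := BigVol.CohBound.exists_hh_le k hamp hL hF (BigVol.Asymp.dim_support_le hn _) i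
  obtain ⟨E, hE⟩ := BigVol.CohBound.exists_hh_le k hamp hL hO (BigVol.Asymp.dim_support_le hn _) i
  let f : ℕ → ℕ := fun m => BigVol.CohBound.hh k (Coh.structureModule X) L m i
  have hrf : ∀ m, r * f m ≤ r * E * (m + 1) ^ n := fun m => by
    rw [mul_assoc]
    exact Nat.mul_le_mul_left r (hE m)
  have e0 : W4c5asymptcohfn.hhat k X n i L = Filter.limsup (BigVol.Asymp.seq n f) Filter.atTop := by
    unfold W4c5asymptcohfn.hhat
    congr 1
    funext m
    show (_ : ℝ) * _ / _ = _
    rw [← ProjTwist.Pn.finrank_hh_iso (k := k)
      (BigVol.structure_tensor (AmpleLib.isInvertible_tensorPow hL m)).some i]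
  rw [e0]
  show Filter.limsup (BigVol.Asymp.seq n fun m => BigVol.CohBound.hh k F L m i) Filter.atTop = _
  refine Eq.trans (le_antisymm (BigVol.Asymp.limsup_le (f' := fun m => r * f m) hrf fun m => (hC m).1)
    (BigVol.Asymp.limsup_le hD fun m => (hC m).2)) ?_
  have heq : (BigVol.Asymp.seq n fun m => r * f m) = fun m => (r : ℝ) * BigVol.Asymp.seq n f m := by
    funext m
    simp only [BigVol.Asymp.seq]
    push_cast
    ring
  rw [heq]
  exact ((monotone_mul_left_of_nonneg (Nat.cast_nonneg (α := ℝ) r)).map_limsup_of_continuousAt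
    (F := Filter.atTop) (BigVol.Asymp.seq n f) (continuous_const_mul _).continuousAt
    (BigVol.Asymp.bounded hE) (BigVol.Asymp.cobounded n f)).symm

end Groth.Agent.S17627
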