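import Groth.Statements.S17630
import Groth.Agent.EulerLES.Finrank
import Groth.Agent.S0002

set_option autoImplicit false
universe u
open CategoryTheory CategoryTheory.Limits AlgebraicGeometry
open Coherent

namespace Groth.Agent.S17630

/-- Let X be a scheme proper over a field k and 0 → C_0 → C_1 → C_2 → ⋯ an exact sequence of coherent
O_X-modules: the composite of consecutive maps is zero, the sequence is exact at every C_j with j ≥
1, and C_0 → C_1 is a monomorphism (the source numbers the sequence from C_{−1}; its argument and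
its application use that the first map is injective). Then for every i ≥ 0, |dim_k H^i(X, C_0) −
dim_k H^i(X, C_1)| ≤ Σ_{j=1}^{i+1} dim_k H^{i+1−j}(X, C_{j+1}) + Σ_{j=1}^{i} dim_k H^{i−j}(X,
C_{j+1}). (The published bound is 2 · Σ_{j=1}^{i+1} dim_k H^{i+1−j}(X, C_{j+1}); the argument given
yields the two sums here, and the published form fails for the sequence 0 → O(−3) → O(−1) → O_Z → 0
on the projective line, Z a subscheme of length 2, with i = 1: the left side is 2 and the published
right side is 0.) -/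
theorem result (k : Type u) [Field k] (X : Scheme.{u})
    [X.Over (Spec (CommRingCat.of k))] [IsProper (X ↘ Spec (CommRingCat.of k))]
    (C : ℕ → X.Modules) (hC : ∀ j, Coh.IsCoh (C j)) (d : ∀ j, C j ⟶ C (j + 1))
    (hd : ∀ j, d j ≫ d (j + 1) = 0) [Mono (d 0)]
    (hex : ∀ j, (ShortComplex.mk (d j) (d (j + 1)) (hd j)).Exact) (i : ℕ) :
    |(Module.finrank k (Coh.HH X (C 0) i) : ℤ) - (Module.finrank k (Coh.HH X (C 1) i) : ℤ)| ≤
      (Finset.Icc 1 (i + 1)).sum (fun j => ((Module.finrank k (Coh.HH X (C (j + 1)) (i + 1 - j))) : ℤ)) +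
        (Finset.Icc 1 i).sum (fun j => ((Module.finrank k (Coh.HH X (C (j + 1)) (i - j))) : ℤ)) := by
  have hfin : ∀ j, EulerLES.Fin' k (C j) := fun j n ↦ S0002.result k X (C j) (hC j) n
  obtain ⟨h₁, h₀⟩ := EulerLES.h_zero_le k C d hd hex hfin i
  have hsum : ∀ (m : ℕ) (g : ℕ → ℕ), (∑ j ∈ Finset.Icc 1 m, g j) =
      ∑ j ∈ Finset.range m, g (j + 1) := fun m g ↦ by
    induction m with
    | zero => simp
    | succ m ih => rw [Finset.sum_Icc_succ_top (by omega), Finset.sum_range_succ, ih]
  have hb₁ : ((Finset.Icc 1 (i + 1)).sum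
      (fun j => Module.finrank k (Coh.HH X (C (j + 1)) (i + 1 - j)))) =
        EulerLES.bound k C i 2 := by
    rw [hsum, EulerLES.bound_eq]
    exact Finset.sum_congr rfl fun j _ ↦ by
      rw [Nat.succ_sub_succ, show j + 1 + 1 = 2 + j by omega]
  have hb₂ : ((Finset.Icc 1 i).sum (fun j => Module.finrank k (Coh.HH X (C (j + 1)) (i - j)))) =
        if i = 0 then 0 else EulerLES.bound k C (i - 1) 2 := by
    cases i with
    | zero => simp
    | succ m =>
      rw [if_neg (Nat.succ_ne_zero m), Nat.succ_sub_one, hsum, EulerLES.bound_eq]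
      exact Finset.sum_congr rfl fun j _ ↦ by
        rw [Nat.succ_sub_succ, show j + 1 + 1 = 2 + j by omega]
  rw [← hb₁] at h₁
  rw [← hb₂] at h₀
  have h₁' : (Module.finrank k (Coh.HH X (C 1) i) : ℤ) ≤ _ := Int.ofNat_le.2 h₁
  have h₀' : (Module.finrank k (Coh.HH X (C 0) i) : ℤ) ≤ _ := Int.ofNat_le.2 h₀
  push_cast at h₁' h₀'
  rw [abs_le]
  constructor <;> linarith [Finset.sum_nonneg (s := Finset.Icc 1 (i + 1))
    (f := fun j => ((Module.finrank k (Coh.HH X (C (j + 1)) (i + 1 - j))) : ℤ))
    fun j _ => Int.natCast_nonneg _, Finset.sum_nonneg (s := Finset.Icc 1 i)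
    (f := fun j => ((Module.finrank k (Coh.HH X (C (j + 1)) (i - j))) : ℤ))
    fun j _ => Int.natCast_nonneg _]

end Groth.Agent.S17630
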