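import Groth.Statements.S17632
import Groth.Agent.BigVol.MultiHhat
-- import your own Groth.Agent.* helpers here

set_option autoImplicit false
set_option linter.style.haveILetI false
universe u
open CategoryTheory CategoryTheory.Limits AlgebraicGeometry
open Variety

namespace Groth.Agent.S17632

/-- Let X be an integral scheme, proper over an uncountable algebraically closed field k of
characteristic zero and admitting an ample invertible module, of dimension n (stated in the source
over the complex numbers), L an invertible O_X-module and A an ample invertible O_X-module with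
inverse A', i.e. A ⊗ A' ≅ O_X. Then for every i ≥ 0, (ĥ^i(X, L^{⊗p} ⊗ A') − ĥ^i(X, L^{⊗p})) / p^n
tends to 0 as p → ∞, where ĥ^i(X, M) = limsup_m dim_k H^i(X, M^{⊗m}) · n!/m^n. -/
theorem result (k : Type u) [Field k] [IsAlgClosed k] [CharZero k] [Uncountable k] (X : Scheme.{u})
    [X.Over (Spec (CommRingCat.of k))] [AlgebraicGeometry.IsIntegral X]
    [IsProper (X ↘ Spec (CommRingCat.of k))] (hproj : ∃ A : X.Modules, CohB1.IsAmple A)
    (n : ℕ) (hn : topologicalKrullDim X = n)
    (L : X.Modules) (hL : PicF.IsInvertible L) (A A' : X.Modules) (hA : CohB1.IsAmple A)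
    (hA' : ClSub.IsInverseOf A A') (i : ℕ) :
    Filter.Tendsto (fun p : ℕ =>
        (W4c5asymptcohfn.hhat k X n i (CohB1.tensorMod (CohB1.tensorPow L p) A') -
          W4c5asymptcohfn.hhat k X n i (CohB1.tensorPow L p)) / (p : ℝ) ^ n)
      Filter.atTop (nhds 0) := by
  obtain ⟨B, hamp⟩ := hproj
  letI := PicLaw.law X
  have hA'i : PicF.IsInvertible A' := PicLaw.isInvertible_of_tensor_left hA.1
    (PicCl.isInvertible_of_iso hA'.some.symm (LFFrame.isInvertible_structureModule X))
  let x : Fin 2 → PicLoc.PicSet X := ![PicGrp.cls L hL, PicGrp.cls A' hA'i]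
  obtain ⟨C, hC⟩ := BigVol.Multi.exists_abs_hhat_sub_le k hamp hn x i
  refine squeeze_zero_norm' (a := fun p : ℕ => ((C * 2 ^ n : ℕ) : ℝ) / (p : ℝ)) ?_
    (tendsto_const_div_atTop_nhds_zero_nat _)
  filter_upwards [Filter.eventually_ge_atTop 1] with p hp
  have hLp := AmpleLib.isInvertible_tensorPow hL p
  have cp : PicGrp.cls (CohB1.tensorPow L p) hLp = PicGrp.cls L hL ^ p :=
    Subtype.ext (PicGrp.cls_pow_val hL p).symm
  have ea : PicGrp.cls (CohB1.tensorPow L p) hLp = BigVol.Multi.pw x ![(p : ℤ), 0] := by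
    rw [cp, BigVol.Multi.pw, Fin.prod_univ_two]
    simp [x]
  have eb : PicGrp.cls (CohB1.tensorMod (CohB1.tensorPow L p) A')
      (AmpleLib.isInvertible_tensorMod hLp hA'i) = BigVol.Multi.pw x ![(p : ℤ), 1] := by
    refine Eq.trans (b := PicGrp.cls (CohB1.tensorPow L p) hLp * PicGrp.cls A' hA'i)
      (Subtype.ext (PicGrp.cls_mul_cls_val hLp hA'i).symm) ?_
    rw [cp, BigVol.Multi.pw, Fin.prod_univ_two]
    simp [x]
  have h := hC _ _ _ _ hLp _ ea eb
  have hN1 : BigVol.Multi.N (![(p : ℤ), 1] - ![(p : ℤ), 0]) = 1 := by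
    simp [BigVol.Multi.N, Fin.sum_univ_two]
  have hN2 : BigVol.Multi.N ![(p : ℤ), 0] = p := by simp [BigVol.Multi.N, Fin.sum_univ_two]
  rw [hN1, hN2, Nat.cast_one, one_mul] at h
  rw [Real.norm_eq_abs, abs_div, abs_of_nonneg (pow_nonneg (Nat.cast_nonneg (α := ℝ) p) n),
    abs_sub_comm]
  have hp0 : (0 : ℝ) < p := by exact_mod_cast hp
  rw [div_le_div_iff₀ (pow_pos hp0 n) hp0]
  refine (mul_le_mul_of_nonneg_right h hp0.le).trans ?_
  have h2 : BigVol.Multi.g' n (p + 1) * p ≤ 2 ^ n * p ^ n := by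
    cases n with
    | zero => simp [BigVol.Multi.g']
    | succ e =>
      calc (p + 1) ^ e * p ≤ (2 * p) ^ e * p := Nat.mul_le_mul_right _ (Nat.pow_le_pow_left (by omega) e)
        _ = 2 ^ e * p ^ (e + 1) := by ring
        _ ≤ _ := Nat.mul_le_mul_right _ (Nat.pow_le_pow_right (by norm_num) (Nat.le_succ e))
  have h3 : C * BigVol.Multi.g' n (p + 1) * p ≤ C * 2 ^ n * p ^ n := by
    rw [mul_assoc, mul_assoc]
    exact Nat.mul_le_mul_left C h2
  exact_mod_cast h3

end Groth.Agent.S17632
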