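import Groth.Statements.S17633
import Groth.Agent.BigVol.MultiHhat
-- import your own Groth.Agent.* helpers here

set_option autoImplicit false
set_option linter.style.haveILetI false
universe u
open CategoryTheory CategoryTheory.Limits AlgebraicGeometry
open Variety

namespace Groth.Agent.S17633

/-- Let X be an integral scheme, proper over an uncountable algebraically closed field k of
characteristic zero and admitting an ample invertible module, of dimension n (the published
statement is over the complex numbers), and let L_1, …, L_r be invertible O_X-modules with inverses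
M_1, …, M_r. For a ∈ ℤ^r write L^a = ⊗_j L_j^{a_j} (negative powers taken through the M_j) and ‖a‖ =
max_j |a_j|. Then for every i (the published statement takes 0 ≤ i ≤ n; for i > n both sides vanish)
there is a constant C such that for all a, b ∈ ℤ^r, |ĥ^i(X, L^a) − ĥ^i(X, L^b)| ≤ C · Σ_{q=1}^{n}
max(‖a‖, ‖b‖)^{n−q} · ‖a − b‖^q, where ĥ^i(X, L) = limsup_m dim_k H^i(X, L^{⊗m}) · n!/m^n. (The
published statement gives this Lipschitz-type estimate for ĥ^i as a function on the rational
Néron–Severi space with any fixed norm, together with its homogeneity of degree n; restricted to the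
classes spanned by L_1, …, L_r with the maximum norm on coordinates it reads as here.) -/
theorem result (k : Type u) [Field k] [IsAlgClosed k] [CharZero k] [Uncountable k] (X : Scheme.{u})
    [X.Over (Spec (CommRingCat.of k))] [AlgebraicGeometry.IsIntegral X]
    [IsProper (X ↘ Spec (CommRingCat.of k))] (hproj : ∃ A : X.Modules, CohB1.IsAmple A)
    (n : ℕ) (hn : topologicalKrullDim X = n)
    (r : ℕ) (L M : Fin r → X.Modules) (hL : ∀ j, PicF.IsInvertible (L j))
    (hM : ∀ j, ClSub.IsInverseOf (L j) (M j)) (i : ℕ) :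
    ∃ C : ℝ, ∀ a b : Fin r → ℤ,
      |W4c5asymptcohfn.hhat k X n i (W4c5asymptcohfn.ztwist X L M a) -
          W4c5asymptcohfn.hhat k X n i (W4c5asymptcohfn.ztwist X L M b)| ≤
        C * (Finset.Icc 1 n).sum (fun q =>
          (max ‖(fun j => ((a j : ℤ) : ℝ))‖ ‖(fun j => ((b j : ℤ) : ℝ))‖) ^ (n - q) *
            ‖(fun j => ((a j - b j : ℤ) : ℝ))‖ ^ q) := by
  obtain ⟨A, hamp⟩ := hproj
  letI := PicLaw.law X
  obtain ⟨C, hC⟩ := BigVol.Multi.exists_abs_hhat_sub_le k hamp hn (fun j => PicGrp.cls (L j) (hL j)) i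
  refine ⟨(C : ℝ) * r * (3 * r : ℝ) ^ (n - 1), fun a b => ?_⟩
  obtain ⟨ha, ea⟩ := BigVol.Multi.exists_cls_ztwist L M hL hM a
  obtain ⟨hb, eb⟩ := BigVol.Multi.exists_cls_ztwist L M hL hM b
  refine (hC a b _ _ ha hb ea eb).trans ?_
  cases n with
  | zero => simp [BigVol.Multi.g']
  | succ e =>
    set x := ‖(fun j => ((a j : ℤ) : ℝ))‖ with hx
    set y := ‖(fun j => ((b j : ℤ) : ℝ))‖ with hy
    set z := ‖(fun j => ((a j - b j : ℤ) : ℝ))‖ with hz
    have hD : (BigVol.Multi.N (b - a) : ℝ) ≤ r * z := by
      refine (BigVol.Multi.N_le (b - a)).trans (le_of_eq ?_)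
      rw [hz, ← norm_neg]
      congr 2
      funext j
      simp
    have hzx : z ≤ x + y := by
      refine le_trans (le_of_eq ?_) (norm_sub_le _ _)
      rw [hz]
      congr 1
      funext j
      simp
    have hM' : ((BigVol.Multi.N a + BigVol.Multi.N (b - a) : ℕ) : ℝ) ≤ 3 * r * max x y := by
      push_cast
      have h1 := BigVol.Multi.N_le a
      have h2 : (r : ℝ) * z ≤ r * (x + y) := mul_le_mul_of_nonneg_left hzx (Nat.cast_nonneg r)
      have h3 := mul_le_mul_of_nonneg_left (le_max_left x y) (Nat.cast_nonneg (α := ℝ) r)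
      have h4 := mul_le_mul_of_nonneg_left (le_max_right x y) (Nat.cast_nonneg (α := ℝ) r)
      rw [← hx] at h1
      linarith
    have hm0 : 0 ≤ max x y := le_max_of_le_left (norm_nonneg _)
    have hq : (max x y) ^ e * z ≤
        (Finset.Icc 1 (e + 1)).sum fun q => (max x y) ^ (e + 1 - q) * z ^ q := by
      refine le_trans (le_of_eq ?_) (Finset.single_le_sum
        (f := fun q => (max x y) ^ (e + 1 - q) * z ^ q)
        (fun q _ => mul_nonneg (pow_nonneg hm0 _) (pow_nonneg (norm_nonneg _) _))
        (Finset.mem_Icc.mpr ⟨le_rfl, Nat.le_add_left 1 e⟩))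
      simp
    simp only [BigVol.Multi.g', Nat.cast_pow, Nat.add_sub_cancel]
    calc (C : ℝ) * ((BigVol.Multi.N (b - a) : ℝ) * ((BigVol.Multi.N a + BigVol.Multi.N (b - a) : ℕ) : ℝ) ^ e)
        ≤ (C : ℝ) * ((r * z) * (3 * r * max x y) ^ e) := by
          refine mul_le_mul_of_nonneg_left (mul_le_mul hD (pow_le_pow_left₀ (Nat.cast_nonneg _) hM' e)
            (by positivity) ?_) (Nat.cast_nonneg C)
          exact mul_nonneg (Nat.cast_nonneg r) (norm_nonneg _)
      _ = (C : ℝ) * r * (3 * r : ℝ) ^ e * ((max x y) ^ e * z) := by rw [mul_pow]; ring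
      _ ≤ _ := mul_le_mul_of_nonneg_left hq (by positivity)

end Groth.Agent.S17633
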