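import Groth.Statements.S17635
import Mathlib.Analysis.Normed.Module.Basic

set_option autoImplicit false
open Finset
open Variety

namespace Groth.Agent.S17635

/-- Let r and n be natural numbers and f : ℚ^r → ℝ a nonnegative function which is homogeneous of degree
n for positive rational scalars, f(q · v) = q^n · f(v) for q > 0; give ℚ^r the maximum norm ‖v‖ =
max_j |v_j| of its standard basis. Suppose that for every standard basis vector e_i there is a
constant C_i with |f(v − b · e_i) − f(v)| ≤ C_i · Σ_{q=1}^{n} ‖v‖^{n−q} · b^q for all v ∈ ℚ^r and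
all integers b ≥ 1. Then there is a constant C > 0 such that |f(v) − f(w)| ≤ C · Σ_{q=1}^{n}
max(‖v‖, ‖w‖)^{n−q} · ‖v − w‖^q for all v, w ∈ ℚ^r. (The source allows any norm on an r-dimensional
rational vector space with a chosen basis and argues with the maximum norm of that basis, which is
the case stated here.) -/
theorem result (r n : ℕ) (f : (Fin r → ℚ) → ℝ)
    (hf0 : ∀ v, 0 ≤ f v)
    (hhom : ∀ (q : ℚ) (v : Fin r → ℚ), 0 < q → f (q • v) = (q : ℝ) ^ n * f v)
    (hdir : ∀ i : Fin r, ∃ Ci : ℝ, ∀ (v : Fin r → ℚ) (b : ℕ), 1 ≤ b →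
      |f (v - (b : ℚ) • Pi.single i 1) - f v| ≤
        Ci * (Finset.Icc 1 n).sum (fun q => ‖(fun j => ((v j : ℚ) : ℝ))‖ ^ (n - q) * (b : ℝ) ^ q)) :
    ∃ C : ℝ, 0 < C ∧ ∀ v w : Fin r → ℚ,
      |f v - f w| ≤ C * (Finset.Icc 1 n).sum (fun q =>
        (max ‖(fun j => ((v j : ℚ) : ℝ))‖ ‖(fun j => ((w j : ℚ) : ℝ))‖) ^ (n - q) *
          ‖(fun j => ((v j - w j : ℚ) : ℝ))‖ ^ q) := by
  classical
  choose Ci hCi using hdir
  let C' : ℝ := 1 + ∑ i, |Ci i|
  have hC' : 0 < C' := by
    have : (0 : ℝ) ≤ ∑ i, |Ci i| := Finset.sum_nonneg fun i _ => abs_nonneg _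
    simp only [C']; linarith
  let nr : (Fin r → ℚ) → ℝ := fun v => ‖(fun j => ((v j : ℚ) : ℝ))‖
  let B : ℝ → ℝ → ℝ := fun M D => (Finset.Icc 1 n).sum (fun q => M ^ (n - q) * D ^ q)
  have hBmono : ∀ {M M' D D' : ℝ}, 0 ≤ M → M ≤ M' → 0 ≤ D → D ≤ D' → B M D ≤ B M' D' :=
    fun hM hMM' hD hDD' => Finset.sum_le_sum fun q _ =>
      mul_le_mul (pow_le_pow_left₀ hM hMM' _) (pow_le_pow_left₀ hD hDD' _)
        (pow_nonneg hD _) (pow_nonneg (hM.trans hMM') _)
  have hcoord : ∀ (v : Fin r → ℚ) (j : Fin r), |((v j : ℚ) : ℝ)| ≤ nr v := fun v j => by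
    have h := norm_le_pi_norm (fun j => ((v j : ℚ) : ℝ)) j
    rwa [Real.norm_eq_abs] at h
  refine ⟨(r : ℝ) * C' + 1, by positivity, fun v w => ?_⟩
  -- clear denominators
  obtain ⟨N, hN, hNz⟩ : ∃ N : ℕ, 0 < N ∧ ∀ j, ∃ z : ℤ, (N : ℚ) * (v j - w j) = z := by
    refine ⟨∏ j, (v j - w j).den, Finset.prod_pos fun j _ => (v j - w j).pos, fun j => ?_⟩
    obtain ⟨c, hc⟩ := Finset.dvd_prod_of_mem (fun j => (v j - w j).den) (Finset.mem_univ j)
    exact ⟨(c : ℤ) * (v j - w j).num, by
      rw [hc]; push_cast; rw [mul_comm ((v j - w j).den : ℚ), mul_assoc, Rat.den_mul_eq_num]⟩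
  choose z hz using hNz
  let V : Fin r → ℚ := (N : ℚ) • v
  let W : Fin r → ℚ := (N : ℚ) • w
  let M : ℝ := max (nr V) (nr W)
  let D : ℝ := nr (fun j => V j - W j)
  have hM0 : 0 ≤ M := le_max_of_le_left (norm_nonneg _)
  have hD0 : 0 ≤ D := norm_nonneg _
  -- one coordinate step
  have step : ∀ (i : Fin r) (x y : Fin r → ℚ) (b : ℤ), y = x - (b : ℚ) • Pi.single i 1 →
      nr x ≤ M → nr y ≤ M → |((b : ℚ) : ℝ)| ≤ D → |f y - f x| ≤ C' * B M D := by
    intro i x y b hy hx hy' hb
    have hCi' : |Ci i| ≤ C' := by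
      have := Finset.single_le_sum (fun j _ => abs_nonneg (Ci j)) (Finset.mem_univ i)
      simp only [C']; linarith
    have hB0 : 0 ≤ B M D := Finset.sum_nonneg fun q _ => mul_nonneg (pow_nonneg hM0 _) (pow_nonneg hD0 _)
    have bound : ∀ (u : Fin r → ℚ) (c : ℕ), 1 ≤ c → nr u ≤ M → (c : ℝ) ≤ D →
        |f (u - (c : ℚ) • Pi.single i 1) - f u| ≤ C' * B M D := by
      intro u c hc hu hcD
      refine (hCi i u c hc).trans ?_
      refine (mul_le_mul_of_nonneg_right (le_abs_self _) (Finset.sum_nonneg fun q _ => by positivity)).trans ?_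
      exact mul_le_mul hCi' (hBmono (norm_nonneg _) hu (Nat.cast_nonneg _) hcD)
        (Finset.sum_nonneg fun q _ => by positivity) hC'.le
    rcases Int.eq_nat_or_neg b with ⟨c, rfl | rfl⟩
    · rcases Nat.eq_zero_or_pos c with rfl | hc
      · rw [show y = x by rw [hy]; simp]; simpa using mul_nonneg hC'.le hB0
      · rw [show y = x - (c : ℚ) • Pi.single i 1 by rw [hy]; simp]
        exact bound x c hc hx (by simpa using hb)
    · rcases Nat.eq_zero_or_pos c with rfl | hc
      · rw [show y = x by rw [hy]; simp]; simpa using mul_nonneg hC'.le hB0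
      · rw [show x = y - (c : ℚ) • Pi.single i 1 by rw [hy]; simp, abs_sub_comm]
        exact bound y c hc hy' (by simpa using hb)
  -- chain along the coordinates
  let mix : Finset (Fin r) → (Fin r → ℚ) := fun S j => if j ∈ S then W j else V j
  have hmix : ∀ S, nr (mix S) ≤ M := fun S => by
    refine (pi_norm_le_iff_of_nonneg hM0).mpr fun j => ?_
    simp only [mix, Real.norm_eq_abs]
    split
    · exact (hcoord W j).trans (le_max_right _ _)
    · exact (hcoord V j).trans (le_max_left _ _)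
  have hstep : ∀ S : Finset (Fin r), |f (mix S) - f V| ≤ S.card * (C' * B M D) := by
    intro S
    induction S using Finset.induction_on with
    | empty =>
      have : mix ∅ = V := funext fun j => by simp [mix]
      simp [this]
    | @insert i S hi ih =>
      rw [Finset.card_insert_of_notMem hi]
      push_cast
      refine (abs_sub_le _ (f (mix S)) _).trans ?_
      have h1 : |f (mix (insert i S)) - f (mix S)| ≤ C' * B M D := by
        refine step i _ _ (z i) ?_ (hmix S) (hmix _) ?_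
        · funext j
          have hzi : ((z i : ℤ) : ℚ) = V i - W i := by
            rw [← hz i]; simp [V, W, mul_sub]
          rcases eq_or_ne j i with rfl | hji
          · simp [mix, hi, hzi]
          · simp [mix, hji]
        · have hzi : ((z i : ℤ) : ℚ) = V i - W i := by
            rw [← hz i]; simp [V, W, mul_sub]
          rw [hzi]
          exact hcoord (fun j => V j - W j) i
      linarith
  have hfin : |f V - f W| ≤ r * (C' * B M D) := by
    have := hstep Finset.univ
    rw [Finset.card_univ, Fintype.card_fin,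
      show mix Finset.univ = W from funext fun j => by simp [mix]] at this
    rwa [abs_sub_comm]
  have hNR : (0 : ℝ) < N := Nat.cast_pos.mpr hN
  have hscale : ∀ u : Fin r → ℚ, nr ((N : ℚ) • u) = (N : ℝ) * nr u := fun u => by
    show ‖_‖ = _ * ‖_‖
    rw [show (fun j => ((((N : ℚ) • u) j : ℚ) : ℝ)) = (N : ℝ) • (fun j => ((u j : ℚ) : ℝ)) from
      funext fun j => by simp, norm_smul, Real.norm_eq_abs, abs_of_pos hNR]
  have hBN : B M D = (N : ℝ) ^ n * B (max (nr v) (nr w)) (nr (fun j => v j - w j)) := by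
    have hD : D = (N : ℝ) * nr (fun j => v j - w j) := by
      rw [← hscale]; exact congrArg nr (funext fun j => by simp [V, W, mul_sub])
    have hM : M = (N : ℝ) * max (nr v) (nr w) := by
      show max (nr V) (nr W) = _
      rw [hscale, hscale, mul_max_of_nonneg _ _ hNR.le]
    rw [hM, hD]
    simp only [B, Finset.mul_sum]
    refine Finset.sum_congr rfl fun q hq => ?_
    have hqn : n - q + q = n := Nat.sub_add_cancel (Finset.mem_Icc.mp hq).2
    calc _ = ((N : ℝ) ^ (n - q) * (N : ℝ) ^ q) *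
        ((max (nr v) (nr w)) ^ (n - q) * (nr (fun j => v j - w j)) ^ q) := by rw [mul_pow, mul_pow]; ring
      _ = _ := by rw [← pow_add, hqn]
  have hfV : f V = (N : ℝ) ^ n * f v := by
    rw [hhom (N : ℚ) v (Nat.cast_pos.mpr hN)]; simp
  have hfW : f W = (N : ℝ) ^ n * f w := by
    rw [hhom (N : ℚ) w (Nat.cast_pos.mpr hN)]; simp
  have hpos : (0 : ℝ) < (N : ℝ) ^ n := pow_pos hNR n
  rw [hfV, hfW, hBN, ← mul_sub, abs_mul, abs_of_pos hpos] at hfin
  have hB0 : 0 ≤ B (max (nr v) (nr w)) (nr (fun j => v j - w j)) :=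
    Finset.sum_nonneg fun q _ => mul_nonneg
      (pow_nonneg (le_max_of_le_left (norm_nonneg _)) _) (pow_nonneg (norm_nonneg _) _)
  have hfin' : |f v - f w| ≤ r * C' * B (max (nr v) (nr w)) (nr (fun j => v j - w j)) := by
    refine le_of_mul_le_mul_left (hfin.trans (le_of_eq ?_)) hpos
    ring
  exact hfin'.trans (mul_le_mul_of_nonneg_right (by linarith) hB0)

end Groth.Agent.S17635
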