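import Groth.Statements.S17636
import Groth.Agent.BigVol.SemiBase
import Groth.Agent.BigVol.Asymp
-- import your own Groth.Agent.* helpers here

set_option autoImplicit false
set_option linter.style.haveILetI false
universe u
open CategoryTheory CategoryTheory.Limits AlgebraicGeometry
open Variety

namespace Groth.Agent.S17636

/-- Let X be an integral scheme, smooth and proper over an algebraically closed field k of
characteristic zero and admitting an ample invertible module, of dimension n (stated in the source
over the complex numbers), and let L be an invertible O_X-module which is big — its volume ĥ^0(X, L)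
= limsup_m dim_k H^0(X, L^{⊗m}) · n!/m^n is positive — and whose stable base locus, the set of
points of X at which every global section of every L^{⊗m}, m ≥ 1, vanishes, has dimension at most d.
Then ĥ^i(X, L) = limsup_m dim_k H^i(X, L^{⊗m}) · n!/m^n = 0 for every i > d. -/
theorem result (k : Type u) [Field k] [IsAlgClosed k] [CharZero k] (X : Scheme.{u})
    [X.Over (Spec (CommRingCat.of k))] [AlgebraicGeometry.IsIntegral X]
    [IsProper (X ↘ Spec (CommRingCat.of k))] (hproj : ∃ A : X.Modules, CohB1.IsAmple A)
    (n : ℕ) (hn : topologicalKrullDim X = n)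
    [Smooth (X ↘ Spec (CommRingCat.of k))]
    (L : X.Modules) (hL : PicF.IsInvertible L) (hbig : 0 < W4c5asymptcohfn.hhat k X n 0 L)
    (d : ℕ) (hd : topologicalKrullDim ↥(W4c5asymptcohfn.stableBaseLocus X L) ≤ (d : WithBot ℕ∞))
    (i : ℕ) (hi : d < i) :
    W4c5asymptcohfn.hhat k X n i L = 0 := by
  haveI := EulerChar.isNoetherian k (X := X)
  have hZ : IsClosed (W4c5asymptcohfn.stableBaseLocus X L) := isClosed_iInter fun m => by
    rw [show W4c5asymptcohfn.baseLocus X (CohB1.tensorPow L (m + 1)) =
      ⋂ s : Coh.structureModule X ⟶ CohB1.tensorPow L (m + 1), ((CohB1.genLocus _ s : Set X))ᶜ from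
      Set.ext fun x => by simp [W4c5asymptcohfn.baseLocus]]
    exact isClosed_iInter fun s => (CohB1.genLocus _ s).2.isClosed_compl
  have hgen : ∀ z ∉ W4c5asymptcohfn.stableBaseLocus X L,
      ∃ (l : ℕ) (t : Coh.structureModule X ⟶ CohB1.tensorPow L (l + 1)), z ∈ CohB1.genLocus _ t := by
    intro z hz
    obtain ⟨l, hl⟩ := not_forall.mp fun h => hz (Set.mem_iInter.mpr h)
    obtain ⟨t, ht⟩ := not_forall.mp hl
    exact ⟨l, t, not_not.mp ht⟩
  obtain ⟨C, hC⟩ := BigVol.SemiBase.exists_hh_le_pred k hL hZ hd hgen n _
    (ProperFin.isCoh_structureModule X)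
    (lt_of_le_of_lt (BigVol.Asymp.dim_support_le hn _) (by exact_mod_cast Nat.lt_succ_self n)) i hi
  refine Filter.Tendsto.limsup_eq (squeeze_zero (fun m => ?_) (fun m => ?_) (BigVol.Asymp.small n C))
  · positivity
  · refine div_le_div_of_nonneg_right (mul_le_mul_of_nonneg_right ?_ (by positivity)) (by positivity)
    rw [← ProjTwist.Pn.finrank_hh_iso (k := k) (BigVol.structure_tensor (AmpleLib.isInvertible_tensorPow hL m)).some i]
    exact_mod_cast hC m

end Groth.Agent.S17636
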