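import Groth.Statements.S17637
import Groth.Agent.BigVol.UniformVA
-- import your own Groth.Agent.* helpers here

set_option autoImplicit false
set_option linter.style.haveILetI false
universe u
open CategoryTheory CategoryTheory.Limits AlgebraicGeometry
open Variety

namespace Groth.Agent.S17637

/-- Let X be an integral scheme, proper over an algebraically closed field k of characteristic zero and
admitting an ample invertible module (the published statement is over the complex numbers). Then
there is a very ample invertible O_X-module A — A ≅ i^*O(1) for an immersion i : X → P^N_k over k —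
such that A ⊗ N is again very ample for every invertible O_X-module N which is numerically
equivalent to zero. (The published statement also provides one flat family over a quasi-projective
base whose fibres include every divisor of every |A ⊗ N|; that clause is not stated here.) -/
theorem result (k : Type u) [Field k] [IsAlgClosed k] [CharZero k] (X : Scheme.{u})
    [X.Over (Spec (CommRingCat.of k))] [AlgebraicGeometry.IsIntegral X]
    [IsProper (X ↘ Spec (CommRingCat.of k))] (hproj : ∃ A : X.Modules, CohB1.IsAmple A) :
    ∃ A : X.Modules, PicF.IsInvertible A ∧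
      RelAmple.IsRelVeryAmplePn (X ↘ Spec (CommRingCat.of k)) A ∧
      ∀ N : X.Modules, PicF.IsInvertible N → Pic13.IsNumEquivZero k X N →
        RelAmple.IsRelVeryAmplePn (X ↘ Spec (CommRingCat.of k)) (CohB1.tensorMod A N) := by
  obtain ⟨H, hH⟩ := hproj
  haveI := EulerChar.isNoetherian k (X := X)
  haveI : Infinite k := inferInstance
  obtain ⟨a, ha⟩ := Groth.Agent.S4386.result (X ↘ Spec (CommRingCat.of k)) H (Coh.structureModule X) hH
    (PicLoc.isInvertible_structureModule X)
  obtain ⟨N₀, hN⟩ := NumTriv.exists_uniform_gg (k := k) hH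
  let B := CohB1.tensorMod (CohB1.tensorPow H a) (Coh.structureModule X)
  let C := CohB1.tensorPow H N₀
  have hB : PicF.IsInvertible B := AmpleLib.isInvertible_tensorMod (AmpleLib.isInvertible_tensorPow hH.1 a)
    (PicLoc.isInvertible_structureModule X)
  have hC : PicF.IsInvertible C := AmpleLib.isInvertible_tensorPow hH.1 N₀
  have hgC : Curv2.IsGloballyGenerated C :=
    CMReg.isGloballyGenerated_iso (ProjTwist.tensOne C) (hN N₀ le_rfl _ (NumTriv.num1_one k))
  obtain ⟨m, s, hs⟩ := Groth.Agent.BigVol.UniformVA.exists_fin_generatedBy hC hgC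
  refine ⟨CohB1.tensorMod B C, AmpleLib.isInvertible_tensorMod hB hC,
    ProjMorph.isRelVeryAmplePn_tensorMod _ (ha a le_rfl) hC s hs, fun N hN' hnum => ?_⟩
  have hCN := AmpleLib.isInvertible_tensorMod hC hN'
  obtain ⟨m', s', hs'⟩ := Groth.Agent.BigVol.UniformVA.exists_fin_generatedBy hCN
    (hN N₀ le_rfl N (NumTriv.num1_of_isNumEquivZero k hN' hnum))
  obtain ⟨n, i, hi, hiq, ⟨e⟩⟩ := ProjMorph.isRelVeryAmplePn_tensorMod _ (ha a le_rfl) hCN s' hs'
  exact ⟨n, i, hi, hiq, ⟨ProjTwist.tensAssoc B C N ≪≫ e⟩⟩

end Groth.Agent.S17637
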