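import Groth.Statements.S17639
import Groth.Agent.GammaLib.Local
import Groth.Agent.KFlat.RPushBase

set_option autoImplicit false
universe u
open CategoryTheory CategoryTheory.Limits AlgebraicGeometry
attribute [local instance] HasDerivedCategory.standard
open Dual3

attribute [-instance] CategoryTheory.ReflQuiver.toQuiver
attribute [-instance] Groth.Agent.KFlat.FlatPull.preservesFiniteLimits_restrict

namespace Groth.Agent.S17639

open Groth.Agent.CohDerLib Groth.Agent.PerfExt Groth.Agent.GammaLib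

/-- Let f : X ⟶ Y be a separated morphism of finite type of Noetherian schemes, factored as f = f̄ ∘ j
with j : X ⟶ X̄ an open immersion and f̄ : X̄ ⟶ Y proper. Let Z ⊆ Y be a closed subset with open
complement U, and Z' ⊆ X a closed subset which is proper over Y and contained in f⁻¹(Z); such a Z'
has closed image in X̄, and it is given here as Z' = j⁻¹(X̄ ∖ W) for an open W ⊆ X̄ with X̄ ∖ W ⊆
j(X) and f⁻¹(U) ⊆ j⁻¹(W). Let Rf̄_* and Rj_* exist and preserve complexes with quasi-coherent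
cohomology, let a be a right adjoint of Rf̄_* on D_qc with its adjunction (whose counit is the trace
map of f̄), let an adjunction j^* ⊣ Rj_* be given, put f^!G = (a G)|_X, and let θ : RΓ_{Z'}(j^* aG)
⟶ j^*RΓ_{j(Z')}(aG) be the comparison morphism compatible with the two maps to j^*(aG), the unit
RΓ_{j(Z')}(aG) ⟶ Rj_* j^* RΓ_{j(Z')}(aG) being an isomorphism. Then for every F in D(O_X) with
quasi-coherent cohomology sheaves, bounded above and supported on Z', and every G in D_qc(O_Y),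
bounded below with cohomology supported on Z, the map sending φ : F ⟶ RΓ_{Z'}(f^!G) to the composite
Rf̄_* Rj_* F ⟶ Rf̄_* Rj_* RΓ_{Z'}(f^!G) ⟶ Rf̄_* Rj_* j^* RΓ_{j(Z')}(aG) ⟶ Rf̄_* RΓ_{j(Z')}(aG) ⟶
Rf̄_*(aG) ⟶ G (Rf̄_*Rj_* of φ and θ, inverse of the unit, the canonical map out of RΓ, the trace) is
a bijection from Hom(F, RΓ_{Z'} f^!G) onto Hom(Rf_* F, G), with Rf_* computed as Rf̄_* ∘ Rj_*: the
functor Rf_* is left adjoint to RΓ_{Z'} f^! on these objects. (Throughout, RΓ with support is the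
total right derived functor of the sheaf of sections supported in the closed subset. The published
statement derives instead the functor of sections killed by some power of a defining ideal; on
complexes with quasi-coherent cohomology sheaves over a Noetherian scheme the two derived functors
agree.) -/
theorem result {X Y : Scheme.{u}} [IsNoetherian X] [IsNoetherian Y]
    (f : X ⟶ Y) [IsSeparated f] [LocallyOfFiniteType f] (c : DEt.Compactification f)
    (U : Y.Opens) (W : c.Xbar.Opens) (hW : (W : Set c.Xbar)ᶜ ⊆ Set.range c.j.base) (hZ : f ⁻¹ᵁ U ≤ c.j ⁻¹ᵁ W)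
    [DCoh.HasRpush c.fbar] [DCoh.HasRpush c.j] (hfbar : DCoh.RpushPreservesQCoh c.fbar) (hj : DCoh.RpushPreservesQCoh c.j)
    (a : DCoh.DQCoh Y ⥤ DCoh.DQCoh c.Xbar) (adj : DCoh.RpushQ c.fbar hfbar ⊣ a)
    (adjj : DCoh.restrictD c.j ⊣ DCoh.Rpush c.j)
    [CxOX.HasRgammaZ W.ι] [CxOX.HasRgammaZ (c.j ⁻¹ᵁ W).ι]
    (G : DCoh.DQCoh Y) (n : ℤ) (hGn : DerivedCategory.IsGE G.obj n) (hGZ : CxOX.IsSuppD U.ι G.obj)
    (θ : (CxOX.RgammaZ (c.j ⁻¹ᵁ W).ι).obj ((Dual3.shriekC c a).obj G) ⟶
      (DCoh.restrictD c.j).obj ((CxOX.RgammaZ W.ι).obj (a.obj G).obj))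
    (hθ : θ ≫ (DCoh.restrictD c.j).map ((CxOX.RgammaZToId W.ι).app (a.obj G).obj) =
      (CxOX.RgammaZToId (c.j ⁻¹ᵁ W).ι).app ((Dual3.shriekC c a).obj G))
    [IsIso (adjj.unit.app ((CxOX.RgammaZ W.ι).obj (a.obj G).obj))]
    (F : DCoh.D X) (hF : DCoh.IsQCohD F) (m : ℤ) (hFm : DerivedCategory.IsLE F m)
    (hFZ : CxOX.IsSuppD (c.j ⁻¹ᵁ W).ι F) :
    Function.Bijective (fun φ : F ⟶ (CxOX.RgammaZ (c.j ⁻¹ᵁ W).ι).obj ((Dual3.shriekC c a).obj G) =>
      (DCoh.Rpush c.fbar).map ((DCoh.Rpush c.j).map (φ ≫ θ) ≫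
          inv (adjj.unit.app ((CxOX.RgammaZ W.ι).obj (a.obj G).obj)) ≫
          (CxOX.RgammaZToId W.ι).app (a.obj G).obj) ≫
        (adj.counit.app G).hom) := by
  let A := (a.obj G).obj
  let V : X.Opens := c.j ⁻¹ᵁ W
  have hF0 : IsZero ((DCoh.restrictD V.ι).obj F) := isZero_restrict_of_support V fun i x hx hxV =>
    hFZ i hx (by rw [Scheme.Opens.range_ι]; exact hxV)
  have hjF : IsZero ((DCoh.restrictD W.ι).obj ((DCoh.Rpush c.j).obj F)) := by
    have := KFlat.RPush.hasRpush (c.j ∣_ W)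
    exact ((DCoh.Rpush (c.j ∣_ W)).map_isZero hF0).of_iso ((KFlat.RPushBase.restrictRpushIso c.j W).app F)
  let B := (DCoh.restrictD c.j).obj ((CxOX.RgammaZ W.ι).obj A)
  let ι' : B ⟶ (DCoh.restrictD c.j).obj A := (DCoh.restrictD c.j).map ((CxOX.RgammaZToId W.ι).app A)
  let η := adjj.unit.app ((CxOX.RgammaZ W.ι).obj A)
  have : ∀ Z : DCoh.D X, IsIso (adjj.counit.app Z) := fun Z => isIso_counit c.j adjj Z
  have : IsIso adjj.counit := NatIso.isIso_of_isIso_app _
  have : (DCoh.Rpush c.j).Full := adjj.fullyFaithfulROfIsIsoCounit.full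
  have : (DCoh.Rpush c.j).Faithful := adjj.fullyFaithfulROfIsIsoCounit.faithful
  -- from maps into `j^* RΓ_W` to maps out of `Rj_*`
  let Ψ : (F ⟶ B) → ((DCoh.Rpush c.j).obj F ⟶ A) := fun ψ =>
    ((DCoh.Rpush c.j).map ψ ≫ inv η) ≫ (CxOX.RgammaZToId W.ι).app A
  have hΨ : Function.Bijective Ψ := (bijective W.ι A hjF).comp <| by
    refine ⟨fun x y h => (DCoh.Rpush c.j).map_injective ((cancel_mono (inv η)).1 h), fun z => ?_⟩
    obtain ⟨x, hx⟩ := (DCoh.Rpush c.j).map_surjective (z ≫ η)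
    exact ⟨x, by simp [hx]⟩
  -- nothing supported off `j(X)` receives maps from `Rj_* F`
  have hloc : ∀ x y : (DCoh.Rpush c.j).obj F ⟶ A,
      x ≫ adjj.unit.app A = y ≫ adjj.unit.app A → x = y := fun x y h => by
    obtain ⟨S, s, d, hT⟩ := Pretriangulated.distinguished_cocone_triangle₁ (adjj.unit.app A)
    obtain ⟨z, hz⟩ : ∃ z, x - y = z ≫ s := Pretriangulated.Triangle.coyoneda_exact₂ _ hT (x - y)
      ((Preadditive.sub_comp _ _ _).trans (sub_eq_zero.2 h))
    have hS : IsZero ((DCoh.restrictD c.j).obj S) := Pretriangulated.Triangle.isZero₁_of_isIso₂ _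
      ((DCoh.restrictD c.j).map_distinguished _ hT) (Groth.Agent.GammaLib.isIso_restrict_unit c.j adjj A)
    let R : c.Xbar.Opens := c.j.opensRange
    let l := IsOpenImmersion.lift c.j R.ι (by rw [Scheme.Opens.range_ι]; rfl)
    have : IsOpenImmersion l := by
      have : IsOpenImmersion (l ≫ c.j) := by rw [IsOpenImmersion.lift_fac]; infer_instance
      exact IsOpenImmersion.of_comp l c.j
    have hSR : IsZero ((DCoh.restrictD R.ι).obj S) := ((DCoh.restrictD l).map_isZero hS).of_iso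
      ((restrictDComp l c.j R.ι (IsOpenImmersion.lift_fac _ _ _)).app S).symm
    have := KFlat.RPush.hasRpush W.ι
    obtain ⟨adjW⟩ := exists_adj (X := c.Xbar) W.ι
    have : IsIso (adjW.unit.app S) := by
      refine isIso_of_cover W R (top_le_iff.1 fun p _ => ?_) _ (Kosz.isIso_restrict_unit W adjW S)
        (isIso_of_isInitial hSR.isInitial (IsZero.isInitial ?_) _)
      · by_cases hp : p ∈ W
        · exact Or.inl hp
        · exact Or.inr (hW hp)
      · have := KFlat.RPush.hasRpush (W.ι ∣_ R)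
        exact ((DCoh.Rpush (W.ι ∣_ R)).map_isZero ((isZero_restrict_of_range R ((W.ι ⁻¹ᵁ R).ι ≫ W.ι)
          (by rintro _ ⟨q, rfl⟩; exact q.2) hSR).of_iso ((restrictDComp (W.ι ⁻¹ᵁ R).ι W.ι _ rfl).app S))).of_iso
          ((KFlat.RPushBase.restrictRpushIso W.ι R).app _)
    have hSloc : Local W.ι S := local_of_iso _ (asIso (adjW.unit.app S)).symm (local_Rpush W.ι adjW _)
    rw [← sub_eq_zero, hz, hSloc _ hjF z, zero_comp]
  have hinj : Function.Injective fun ψ : F ⟶ B => ψ ≫ ι' := fun x y h => by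
    have hres : ∀ ψ : F ⟶ B, (DCoh.restrictD c.j).map (Ψ ψ) = adjj.counit.app F ≫ ψ ≫ ι' := fun ψ => by
      have h1 : (DCoh.restrictD c.j).map η ≫ adjj.counit.app B = 𝟙 B := adjj.left_triangle_components _
      have h2 : (DCoh.restrictD c.j).map (inv η) = adjj.counit.app B := by
        rw [Functor.map_inv]; exact IsIso.inv_eq_of_hom_inv_id h1
      have h4 := adjj.counit.naturality ψ
      simp only [Ψ, Functor.map_comp, h2]
      exact (congrArg (· ≫ ι') h4).trans (Category.assoc _ _ _)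
    refine hΨ.1 (hloc _ _ ?_)
    exact (adjj.unit.naturality (Ψ x)).trans ((congrArg (fun g => adjj.unit.app _ ≫ (DCoh.Rpush c.j).map g)
      ((hres x).trans ((congrArg (adjj.counit.app F ≫ ·) h).trans (hres y).symm))).trans (adjj.unit.naturality (Ψ y)).symm)
  have hθ' : Function.Bijective fun φ : F ⟶ (CxOX.RgammaZ V.ι).obj ((DCoh.restrictD c.j).obj A) => φ ≫ θ := by
    refine ⟨fun x y h => (bijective V.ι _ hF0).1 ?_, fun ψ => ?_⟩
    · have h' := congrArg (· ≫ ι') h
      exact ((congrArg (x ≫ ·) hθ).symm.trans (Category.assoc _ _ _).symm).trans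
        (h'.trans ((Category.assoc _ _ _).trans (congrArg (y ≫ ·) hθ)))
    · obtain ⟨φ, hφ⟩ := (bijective V.ι _ hF0).2 (ψ ≫ ι')
      exact ⟨φ, hinj (((Category.assoc _ _ _).trans (congrArg (φ ≫ ·) hθ)).trans hφ)⟩
  let F' : DCoh.DQCoh c.Xbar := ⟨(DCoh.Rpush c.j).obj F, hj F hF⟩
  have h3 : Function.Bijective fun χ : (DCoh.Rpush c.j).obj F ⟶ A =>
      (DCoh.Rpush c.fbar).map χ ≫ (adj.counit.app G).hom := by
    have e := ((adj.homEquiv F' G).symm).bijective
    refine ⟨fun x y h => ?_, fun z => ?_⟩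
    · exact congrArg (fun g : F' ⟶ a.obj G => g.hom) (e.1 (a₁ := ObjectProperty.homMk x) (a₂ := ObjectProperty.homMk y)
        (ObjectProperty.hom_ext _ h))
    · obtain ⟨x, hx⟩ := e.2 (ObjectProperty.homMk z)
      exact ⟨x.hom, congrArg (fun g => g.hom) hx⟩
  have := h3.comp (hΨ.comp hθ')
  convert this using 1
  funext φ
  simp [Ψ, Function.comp_def, η, A]

end Groth.Agent.S17639
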