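import Groth.Statements.S17648
import Groth.Agent.GabLocLib

set_option autoImplicit false
universe w v u
open CategoryTheory CategoryTheory.Limits
open GabLoc

namespace Groth.Agent.S17648

open ZeroObject

variable {C : Type u} [Category.{v} C] [Abelian C] [IsGrothendieckAbelian.{w} C]
  (P : ObjectProperty C)

instance : (subquotCoprod.{w} P).IsClosedUnderSubobjects where
  prop_of_mono := by
    rintro A' A f _ ⟨J, X, hX, B, i, p, hi, hp⟩
    have : Epi (pullback.fst f p) := Abelian.epi_pullback_of_epi_g _ _
    exact ⟨J, X, hX, pullback f p, pullback.snd f p ≫ i, pullback.fst f p, mono_comp _ _,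
      inferInstance⟩

instance : (subquotCoprod.{w} P).IsClosedUnderQuotients where
  prop_of_epi := by
    rintro A A' f _ ⟨J, X, hX, B, i, p, hi, hp⟩
    exact ⟨J, X, hX, B, i, p ≫ f, hi, epi_comp _ _⟩

lemma le_subquotCoprod : P ≤ subquotCoprod.{w} P := fun A hA =>
  ⟨PUnit.{w + 1}, fun _ => A, fun _ => hA, A, Sigma.ι (fun _ : PUnit.{w + 1} => A) ⟨⟩, 𝟙 A,
    (SplitMono.mk (Sigma.desc fun _ : PUnit.{w + 1} => 𝟙 A) (Sigma.ι_desc _ _)).mono, inferInstance⟩

lemma subquotCoprod_le {Q : ObjectProperty C} (hQ : IsLocalizing.{w} Q) (hle : P ≤ Q) :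
    subquotCoprod.{w} P ≤ Q := by
  rintro A ⟨J, X, hX, B, i, p, hi, hp⟩
  have := hQ.isSerreClass
  have := hQ.isClosedUnderCoproducts J
  exact Q.prop_of_epi p (Q.prop_of_mono i
    (Q.prop_colimit (Discrete.functor X) fun j => hle _ (hX j.as)))

omit [IsGrothendieckAbelian.{w} C] in
lemma prop_of_mono_cokernel {Q : ObjectProperty C} [Q.IsSerreClass] {A B : C} (f : A ⟶ B) [Mono f]
    (hA : Q A) (hK : Q (cokernel f)) : Q B :=
  Q.prop_X₂_of_shortExact (S := ShortComplex.mk f (cokernel.π f) (cokernel.condition f))
    { exact := ShortComplex.exact_of_g_is_cokernel _ (cokernelIsCokernel f) } hA hK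

lemma prop_colimit_of_isColimit {Q : ObjectProperty C} (hQ : IsLocalizing.{w} Q) {J : Type w}
    [SmallCategory J] {F : J ⥤ C} {c : Cocone F} (hc : IsColimit c) (hF : ∀ j, Q (F.obj j)) :
    Q c.pt := by
  have := hQ.isSerreClass
  have := hQ.isClosedUnderCoproducts J
  have : Epi (Sigma.desc fun j => c.ι.app j) := ⟨fun a b h => hc.hom_ext fun j => by
    simpa using congrArg (Sigma.ι (fun j => F.obj j) j ≫ ·) h⟩
  exact Q.prop_of_epi (Sigma.desc fun j => c.ι.app j)
    (Q.prop_colimit (Discrete.functor fun j => F.obj j) fun j => hF j.as)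

lemma locClosure_of_filtration {X : C} {Z : C} (hZ : IsZero Z) {g : Z ⟶ X} {J : Type w}
    [LinearOrder J] [OrderBot J] [SuccOrder J] [WellFoundedLT J]
    (h : (monoModSubquot.{w} P).TransfiniteCompositionOfShape J g) : locClosure.{w} P X := by
  intro Q hQ hle
  have := hQ.isSerreClass
  refine prop_colimit_of_isColimit hQ h.isColimit fun j => ?_
  induction j using SuccOrder.limitRecOn with
  | isMin j hj =>
    rw [hj.eq_bot]
    exact Q.prop_of_iso h.isoBot.symm (Q.prop_of_isZero hZ)
  | succ j hj ih =>
    obtain ⟨hm, hK⟩ := h.map_mem j hj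
    exact prop_of_mono_cokernel _ ih (subquotCoprod_le P hQ hle _ hK)
  | isSuccLimit j hj ih =>
    exact prop_colimit_of_isColimit hQ
      (Functor.isColimitOfIsWellOrderContinuous h.F j hj) fun k => ih k.1 k.2

variable {P}

lemma exists_step {X : C} (hX : GabLocLib.HasParts (subquotCoprod.{w} P) X) (A : Subobject X)
    (hA : A ≠ ⊤) : ∃ (A' : Subobject X) (h : A < A'),
      subquotCoprod.{w} P (cokernel (Subobject.ofLE A A' h.le)) := by
  obtain ⟨W, m, _, hW, hP⟩ := hX (cokernel.π A.arrow) inferInstance fun hz => hA (by
    have : Epi A.arrow := Abelian.epi_of_cokernel_π_eq_zero _ (hz.eq_of_tgt _ _)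
    have := isIso_of_mono_of_epi A.arrow
    exact (Subobject.isIso_arrow_iff_eq_top A).1 this)
  let p := pullback.fst (cokernel.π A.arrow) m
  let t := pullback.snd (cokernel.π A.arrow) m
  have : Epi t := Abelian.epi_pullback_of_epi_f _ _
  let i : (A : C) ⟶ pullback (cokernel.π A.arrow) m :=
    pullback.lift A.arrow 0 (by rw [cokernel.condition, zero_comp])
  have hip : i ≫ p = A.arrow := pullback.lift_fst _ _ _
  have hle : A ≤ Subobject.mk p := Subobject.le_mk_of_comm i hip
  refine ⟨Subobject.mk p, lt_of_le_of_ne hle fun he => hW ?_, ?_⟩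
  · refine IsZero.of_epi_eq_zero t (zero_of_comp_mono m ?_)
    rw [← pullback.condition]
    show p ≫ _ = 0
    have : A.Factors p := by
      conv => congr; rw [he]
      exact Subobject.mk_factors_self p
    rw [← A.factorThru_arrow p this, Category.assoc, cokernel.condition, comp_zero]
  · have hti : Subobject.ofLE A _ hle ≫ (Subobject.underlyingIso p).hom ≫ t = 0 := by
      refine zero_of_comp_mono m ?_
      simp only [Category.assoc, t, ← pullback.condition]
      rw [Subobject.underlyingIso_hom_comp_eq_mk_assoc, Subobject.ofLE_arrow_assoc,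
        cokernel.condition]
    have : Mono (cokernel.desc _ _ hti) := by
      refine Preadditive.mono_of_cancel_zero _ fun {V} a ha => ?_
      obtain ⟨V', π, hπ, b, hb⟩ := surjective_up_to_refinements_of_epi
        (cokernel.π (Subobject.ofLE A _ hle)) a
      have hbt : b ≫ (Subobject.underlyingIso p).hom ≫ t = 0 := by
        rw [← cokernel.π_desc (Subobject.ofLE A _ hle) _ hti, ← Category.assoc, ← hb,
          Category.assoc, ha, comp_zero]
      have hbA : (b ≫ (Subobject.mk p).arrow) ≫ cokernel.π A.arrow = 0 := by
        rw [← Subobject.underlyingIso_hom_comp_eq_mk, Category.assoc, Category.assoc,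
          pullback.condition, ← Category.assoc (Subobject.underlyingIso p).hom, ← Category.assoc]
        erw [hbt]
        exact zero_comp
      have : b = Abelian.monoLift A.arrow _ hbA ≫ Subobject.ofLE A _ hle := by
        rw [← cancel_mono (Subobject.mk p).arrow, Category.assoc, Subobject.ofLE_arrow,
          Abelian.monoLift_comp]
      rw [this, Category.assoc, cokernel.condition, comp_zero] at hb
      exact (cancel_epi π).1 (hb.trans comp_zero.symm)
    exact ObjectProperty.prop_of_mono _ (cokernel.desc _ _ hti) hP

open scoped Classical in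
/-- The iteration step. -/
noncomputable def step {X : C} (hX : GabLocLib.HasParts (subquotCoprod.{w} P) X)
    (A : Subobject X) : Subobject X :=
  if hA : A = ⊤ then ⊤ else (exists_step hX A hA).choose

lemma le_step {X : C} (hX : GabLocLib.HasParts (subquotCoprod.{w} P) X) (A : Subobject X) :
    A ≤ step hX A := by
  by_cases hA : A = ⊤
  · simp [step, hA]
  · rw [step, dif_neg hA]
    exact (exists_step hX A hA).choose_spec.choose.le

lemma step_top {X : C} (hX : GabLocLib.HasParts (subquotCoprod.{w} P) X) : step hX ⊤ = ⊤ :=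
  dif_pos rfl

lemma lt_step {X : C} (hX : GabLocLib.HasParts (subquotCoprod.{w} P) X) (A : Subobject X)
    (hA : A ≠ ⊤) : A < step hX A := by
  rw [step, dif_neg hA]
  exact (exists_step hX A hA).choose_spec.choose

lemma subquot_of_isZero {A : C} (hA : IsZero A) : subquotCoprod.{w} P A :=
  ⟨PEmpty.{w + 1}, PEmpty.elim, fun j => j.elim, _, 𝟙 _, 0, inferInstance,
    ⟨fun a b _ => hA.eq_of_src a b⟩⟩

lemma monoModSubquot_step {X : C} (hX : GabLocLib.HasParts (subquotCoprod.{w} P) X)
    (A B : Subobject X) (h : A ≤ B) (hB : B = step hX A) :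
    monoModSubquot.{w} P (Subobject.ofLE A B h) := by
  refine ⟨inferInstance, ?_⟩
  by_cases hA : A = ⊤
  · have : B = A := by rw [hB, hA, step_top]
    subst this
    exact subquot_of_isZero ((IsZero.iff_id_eq_zero _).2
      ((cancel_epi (cokernel.π _)).1 (by rw [comp_zero, Category.comp_id, Subobject.ofLE_refl, cokernel.π_of_epi])))
  · have : B = (exists_step hX A hA).choose := by rw [hB, step, dif_neg hA]
    subst this
    exact (exists_step hX A hA).choose_spec.choose_spec

section

variable {X : C} (hX : GabLocLib.HasParts (subquotCoprod.{w} P) X) (J : Type w) [LinearOrder J]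
  [OrderBot J] [SuccOrder J] [WellFoundedLT J]

/-- The filtration. -/
@[simps]
noncomputable def filt : J ⥤ MonoOver X where
  obj j := MonoOver.mk (transfiniteIterate (step hX) j ⊥).arrow
  map {j j'} f := MonoOver.homMk (Subobject.ofLE _ _
      (monotone_transfiniteIterate _ _ (le_step hX) (leOfHom f)))

/-- The underlying diagram. -/
noncomputable abbrev filtC : J ⥤ C := filt hX J ⋙ MonoOver.forget _ ⋙ Over.forget _

set_option backward.defeqAttrib.useBackward true in
instance : (filtC hX J).IsWellOrderContinuous where
  nonempty_isColimit m hm := ⟨by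
    have := hm.nonempty_Iio.to_subtype
    let c := (Set.principalSegIio m).cocone (filt hX J ⋙ MonoOver.forget _)
    have : Mono c.pt.hom := by dsimp [c]; infer_instance
    apply IsGrothendieckAbelian.isColimitMapCoconeOfSubobjectMkEqISup
      ((Set.principalSegIio m).monotone.functor ⋙ filt hX J) c
    dsimp [c]
    simp only [Subobject.mk_arrow]
    exact transfiniteIterate_limit (step hX) ⊥ m hm⟩

set_option backward.isDefEq.respectTransparency.types false in
set_option backward.defeqAttrib.useBackward true in
variable {J} in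
/-- The composition from the bottom. -/
noncomputable def compOfShape (j : J) :
    (monoModSubquot.{w} P).TransfiniteCompositionOfShape (Set.Iic j)
    ((filtC hX J).map (homOfLE bot_le : ⊥ ⟶ j)) where
  F := (Set.initialSegIic j).monotone.functor ⋙ filtC hX J
  isoBot := Iso.refl _
  incl :=
    { app k := (filtC hX J).map (homOfLE k.2)
      naturality k k' h := by simp [MonoOver.forget] }
  isColimit := colimitOfDiagramTerminal isTerminalTop _
  map_mem k hk := by
    refine monoModSubquot_step hX _ _ _ ?_
    show transfiniteIterate (step hX) (Order.succ k).1 ⊥ = _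
    rw [Set.Iic.succ_eq_of_not_isMax hk, transfiniteIterate_succ _ _ _ (Set.not_isMax_coe _ hk)]
    rfl

end

lemma exists_filtration (P : ObjectProperty C) (X : C) (hP : locClosure.{w} P X) :
    ∃ (J : Type w) (_ : LinearOrder J) (_ : OrderBot J) (_ : SuccOrder J) (_ : WellFoundedLT J),
      Nonempty ((monoModSubquot.{w} P).TransfiniteCompositionOfShape J (0 : (0 : C) ⟶ X)) := by
  have hX : GabLocLib.HasParts (subquotCoprod.{w} P) X :=
    GabLocLib.hasParts_of_locClosure fun Q hQ hle => hP Q hQ ((le_subquotCoprod P).trans hle)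
  let κ := Order.succ (Cardinal.mk (Shrink.{w} (Subobject X)))
  have : Nonempty κ.ord.ToType := by simp [κ]
  have := WellFoundedLT.toOrderBot κ.ord.ToType
  have hκ : HasCardinalLT (Subobject X) (Cardinal.mk κ.ord.ToType) := by
    rw [← hasCardinalLT_iff_of_equiv (equivShrink.{w} (Subobject X)).symm]
    rw [hasCardinalLT_iff_cardinal_mk_lt]
    simp [κ]
  obtain ⟨j, hj⟩ := top_mem_range_transfiniteIterate (step hX) (⊥ : Subobject X) (lt_step hX)
    (step_top hX) (J := κ.ord.ToType)
    (fun h ↦ by simpa [hasCardinalLT_iff_cardinal_mk_lt] using hκ.of_injective _ h)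
  refine ⟨_, _, inferInstance, _, inferInstance, ⟨(compOfShape hX j).ofArrowIso ?_⟩⟩
  have hiso : IsIso (transfiniteIterate (step hX) j (⊥ : Subobject X)).arrow :=
    (Subobject.isIso_arrow_iff_eq_top _).2 hj
  have hz : IsZero (Subobject.underlying.obj
      (transfiniteIterate (step hX) (⊥ : κ.ord.ToType) (⊥ : Subobject X))) := by
    rw [transfiniteIterate_bot]
    exact IsZero.of_iso (isZero_zero C) Subobject.botCoeIsoZero
  exact Arrow.isoMk (hz.iso (isZero_zero C))
    (@asIso C _ _ _ (transfiniteIterate (step hX) j (⊥ : Subobject X)).arrow hiso) (hz.eq_of_src _ _)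

end Groth.Agent.S17648

namespace Groth.Agent.S17648

open ZeroObject in
/-- Let C be a Grothendieck abelian category, P a class of objects and X an object of C. Then X belongs
to the localizing closure of P (the smallest Serre class containing P and closed under coproducts)
if and only if the morphism 0 ⟶ X is a transfinite composition — indexed by a small well-ordered
type, continuous at limit stages — of monomorphisms whose cokernels are subquotients of coproducts
of objects of P. Equivalently: X has an exhaustive continuous transfinite filtration 0 = X₀ ⊆ X₁ ⊆ ⋯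
by subobjects with every X_{β+1}/X_β a subquotient of a direct sum of objects of P. -/
theorem result {C : Type u} [Category.{v} C] [Abelian C]
    [IsGrothendieckAbelian.{w} C] (P : ObjectProperty C) (X : C) :
    GabLoc.locClosure.{w} P X ↔
      MorphismProperty.transfiniteCompositions.{w} (GabLoc.monoModSubquot.{w} P) (0 : (0 : C) ⟶ X) := by
  constructor
  · intro hX
    obtain ⟨J, _, _, _, _, ⟨h⟩⟩ := exists_filtration P X hX
    rw [MorphismProperty.transfiniteCompositions_iff]
    exact ⟨_, _, _, _, _, h.mem⟩
  · intro h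
    rw [MorphismProperty.transfiniteCompositions_iff] at h
    obtain ⟨J, _, _, _, _, ⟨h⟩⟩ := h
    exact locClosure_of_filtration P (isZero_zero C) h

end Groth.Agent.S17648
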