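import Groth.Statements.S17652
import Groth.Agent.ProperConn.IrredUpper

set_option autoImplicit false
universe u
open CategoryTheory CategoryTheory.Limits AlgebraicGeometry TopologicalSpace
open FlatMor

namespace Groth.Agent.S17652

/-- Let k be a field, X and Y schemes of finite type over k and f : X → Y a k-morphism which is flat and
proper and whose fibres over the closed points of Y are geometrically reduced. For y in Y let N(y)
be the number of irreducible components of the geometric fibre of f at y (the base change of the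
fibre to an algebraic closure of the residue field κ(y)). Then N is upper semicontinuous on Y: every
point y has a neighbourhood on which N ≤ N(y). -/
theorem result (k : Type u) [Field k]
    (X Y : Scheme.{u}) [X.Over (Spec (CommRingCat.of k))] [Y.Over (Spec (CommRingCat.of k))]
    [LocallyOfFiniteType (X ↘ Spec (CommRingCat.of k))] [CompactSpace ↥X]
    [LocallyOfFiniteType (Y ↘ Spec (CommRingCat.of k))] [CompactSpace ↥Y]
    (f : X ⟶ Y) (hf : f ≫ (Y ↘ Spec (CommRingCat.of k)) = X ↘ Spec (CommRingCat.of k))
    [Flat f] [IsProper f]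
    (hred : ∀ y : ↥Y, IsClosed ({y} : Set ↥Y) → GeometricallyReduced (f.fiberToSpecResidueField y)) :
    UpperSemicontinuous (fun y : ↥Y =>
      Nat.card ↥(irreducibleComponents (↥(pullback f
        (Spec.map (CommRingCat.ofHom (algebraMap (Y.residueField y) (AlgebraicClosure (Y.residueField y)))) ≫
          Y.fromSpecResidueField y)) : Type u))) := by
  haveI : IsLocallyNoetherian Y := LocallyOfFiniteType.isLocallyNoetherian (Y ↘ Spec (CommRingCat.of k))
  haveI : JacobsonSpace ↥Y := LocallyOfFiniteType.jacobsonSpace (Y ↘ Spec (CommRingCat.of k))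
  haveI : LocallyOfFinitePresentation f := inferInstance
  have hall : ∀ y : Y, GeometricallyReduced (f.fiberToSpecResidueField y) := by
    let U := {y : Y | GeometricallyReduced (f.fiberToSpecResidueField y)}
    have hU : IsOpen U := Groth.Agent.ProperConn.isOpen_geometricallyReduced_fibre f
    intro y
    by_contra hy
    obtain ⟨z, hz, hzc⟩ := nonempty_inter_closedPoints (Z := Uᶜ) ⟨y, hy⟩ hU.isClosed_compl.isLocallyClosed
    exact hz (hred z (mem_closedPoints_iff.1 hzc))
  let N : Y → ℕ∞ := fun y => MoreMor.nGeomIrredComp f y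
  have hN : ∀ y : Y, Nat.card ↥(irreducibleComponents (↥(pullback f
        (Spec.map (CommRingCat.ofHom (algebraMap (Y.residueField y) (AlgebraicClosure (Y.residueField y)))) ≫
          Y.fromSpecResidueField y)) : Type u)) = (N y).toNat := fun y => by
    rw [Nat.card_coe_set_eq, Set.ncard_def, (Groth.Agent.SecComp.nGeom_eq f _).1]
    exact congrArg (fun t => (MoreMor.nGeomIrredComp f t).toNat)
      ((Scheme.Hom.comp_apply _ _ _).trans (Scheme.fromSpecResidueField_apply _ _))
  have hfin : ∀ y : Y, N y ≠ ⊤ := fun y => by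
    obtain ⟨L, _, _, pt, hpt⟩ := Groth.Agent.SecComp.exists_algClosed_point Y y
    show MoreMor.nGeomIrredComp f y ≠ ⊤
    rw [← hpt (IsLocalRing.closedPoint L), ← (Groth.Agent.SecComp.nGeom_eq f pt).1]
    haveI : IsLocallyNoetherian (pullback f pt) := LocallyOfFiniteType.isLocallyNoetherian (pullback.snd f pt)
    haveI : CompactSpace ↥(pullback f pt) := QuasiCompact.compactSpace_of_compactSpace (pullback.snd f pt)
    haveI : IsNoetherian (pullback f pt) := {}
    exact Set.encard_ne_top_iff.2 TopologicalSpace.NoetherianSpace.finite_irreducibleComponents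
  intro y a ha
  have hlt : ∀ z, N z ≤ N y → (N z).toNat < a := fun z hz => lt_of_le_of_lt
    (ENat.toNat_le_toNat hz (hfin y)) ((hN y).symm.trans_lt ha)
  obtain ⟨n, hn⟩ := ENat.ne_top_iff_exists.1 (hfin y)
  have hcons : Topology.IsLocallyConstructible {z : Y | N z ≤ (n : ℕ∞)} := by
    have e : {z : Y | N z ≤ (n : ℕ∞)} = ⋃ m : Fin (n + 1), {z : Y | N z = (m.1 : ℕ∞)} := by
      ext z
      constructor
      · intro hz
        obtain ⟨m, hm⟩ := ENat.ne_top_iff_exists.1 (hfin z)
        refine Set.mem_iUnion.2 ⟨⟨m, Nat.lt_succ_of_le ?_⟩, hm.symm⟩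
        exact_mod_cast hm.trans_le hz
      · rintro hz
        obtain ⟨m, hm⟩ := Set.mem_iUnion.1 hz
        exact hm.trans_le (by exact_mod_cast Nat.le_of_lt_succ m.2)
    rw [e]
    exact Topology.IsLocallyConstructible.iUnion fun m =>
      Groth.Agent.Wt.GenFib.isLocallyConstructible_nGeomIrredComp f _
  refine Filter.mem_of_superset (Groth.Agent.SecDim.mem_nhds_of_generizations hcons fun z hz => ?_)
    fun z hz => (hN z).trans_lt (hlt z (hn ▸ hz))
  exact hn ▸ Groth.Agent.ProperConn.irred_ge_of_specializes f hz (hall y)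

end Groth.Agent.S17652
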