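import Groth.Statements.S17653
import Groth.Agent.EquidimPt.DimSum
-- import your own Groth.Agent.* helpers here

set_option autoImplicit false
universe u
open CategoryTheory CategoryTheory.Limits AlgebraicGeometry TopologicalSpace
open Variety

namespace Groth.Agent.S17653

/-- Suppose X and Y are locally Noetherian schemes of the same pure dimension d (every irreducible
component of X and every irreducible component of Y has topological Krull dimension d), and π : X →
Y is a proper morphism between them. If there is a point x of X which is isolated in its fibre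
π⁻¹(π(x)), i.e. some open neighbourhood of x meets that fibre only in x, then the image of π, with
the subspace topology, has the same dimension as Y. -/
theorem result
    (X Y : Scheme.{u}) [IsLocallyNoetherian X] [IsLocallyNoetherian Y] (π : X ⟶ Y) [IsProper π]
    (d : WithBot ℕ∞) (hX : ∀ Z ∈ irreducibleComponents ↥X, topologicalKrullDim ↥Z = d)
    (hY : ∀ Z ∈ irreducibleComponents ↥Y, topologicalKrullDim ↥Z = d)
    (x : ↥X) (hx : ∃ U : X.Opens, x ∈ U ∧ ∀ x' ∈ U, π x' = π x → x' = x) :
    topologicalKrullDim ↥(Set.range (fun z : ↥X => π z)) = topologicalKrullDim ↥Y := by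
  obtain ⟨U, hxU, hU⟩ := hx
  have h0 : FlatMor.fibreDimAt π x ≤ (0 : ℕ) := by
    rw [Groth.Agent.FibSemi.fibreDimAt_eq]
    refine iInf_le_of_le ⟨⟨Subtype.val ⁻¹' (U : Set X), U.2.preimage continuous_subtype_val⟩, hxU⟩ ?_
    haveI : Subsingleton ↥(Subtype.val ⁻¹' (U : Set X) : Set ↥(π ⁻¹' {π x})) :=
      ⟨fun a b => Subtype.ext (Subtype.ext ((hU _ a.2 a.1.2).trans (hU _ b.2 b.1.2).symm))⟩
    exact (topologicalKrullDim_zero_of_discreteTopology _).trans (le_of_eq Nat.cast_zero.symm)
  obtain ⟨ξ, hξx, hξ⟩ := Groth.Agent.FibSemi.exists_max_specializes (X := X) x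
  have hZ := Groth.Agent.FlatOpen.EquiDim.closure_mem_irreducibleComponents (x := ξ) fun z hz => hξ z hz
  let R : Set Y := Set.range (fun z : X => π z)
  have hR : IsClosed R := π.isClosedMap.isClosed_range
  have h1 : topologicalKrullDim Y ≤ d := Groth.Agent.EquidimPt.topDim_le_of_components fun Z hZ => (hY Z hZ).le
  refine le_antisymm (Topology.IsInducing.subtypeVal.topologicalKrullDim_le) (h1.trans ?_)
  haveI : QuasiSober ↥(closure ({ξ} : Set X)) := isClosed_closure.isClosedEmbedding_subtypeVal.quasiSober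
  rw [← hX _ hZ, show topologicalKrullDim ↥(closure ({ξ} : Set X)) = Order.krullDim ↥(closure ({ξ} : Set X)) from
    (Groth.Agent.DimLift.topDim_eq_krullDim_points (X := ↥(closure ({ξ} : Set X)))).trans (by
      congr 1
      exact Preorder.ext fun a b => subtype_specializes_iff b a)]
  refine iSup_le fun l => ?_
  have hw : ∀ i, ξ ⤳ (l i).1 ∧ (l i).1 ⤳ (l.head).1 := fun i =>
    ⟨specializes_iff_mem_closure.2 (l i).2, show l.head ≤ l i from LTSeries.monotone l (Fin.zero_le i)⟩
  obtain ⟨b, t, a, e, hb, -, ha, he, hle, -⟩ := Groth.Agent.EquidimPt.dim_equality π (hw 0).1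
  have he0 : e = 0 := by
    obtain ⟨k, t', -, -, ht', -, hfd⟩ := Groth.Agent.EquidimPt.fibre_facts π ξ
    have hm := (Groth.Agent.EquidimPt.fibreDimAt_mono π hξx).trans h0
    rw [hfd] at hm
    rw [he] at ht'
    have h' : e = t' := by exact_mod_cast ht'
    have h'' : k + t' ≤ 0 := by exact_mod_cast hm
    omega
  have hl : ((l.length : ℕ) : WithBot ℕ∞) ≤ b := by
    rw [← hb]
    exact Order.le_krullDim_iff.2 ⟨⟨l.length, fun i => ⟨(l i).1, hw i⟩, fun i => l.step i⟩, rfl⟩
  obtain ⟨l', hl'⟩ := Order.le_krullDim_iff.1 ha.ge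
  have h2 := Groth.Agent.FibSemi.length_le_topDim (S := R) (l'.map Subtype.val fun _ _ h => h)
    (fun i => (show π ξ ⤳ (l' i).1 from (l' i).2.1).mem_closed hR ⟨ξ, rfl⟩)
  refine le_trans ?_ h2
  rw [LTSeries.map_length, hl']
  refine hl.trans ?_
  exact_mod_cast (show b ≤ a by omega)

end Groth.Agent.S17653
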