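import Groth.Statements.S17655
import Groth.Agent.DefAmple27.Point
-- import your own Groth.Agent.* helpers here

set_option autoImplicit false
universe u
open CategoryTheory CategoryTheory.Limits AlgebraicGeometry TopologicalSpace
attribute [local instance] HasDerivedCategory.standard
open Curves

namespace Groth.Agent.S17655

/-- Let k be an algebraically closed field and B a connected scheme, proper over k, of dimension one,
with at-worst-nodal singularities and H^1(B, O_B) = 0, and let ω_B be its dualizing module over k
(the cohomology sheaf in degree −1 of the upper-shriek pull-back of O_{Spec k}; the existence of the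
upper-shriek functor is assumed). Call a finite locally free O_B-module deformation ample when it is
generated by global sections and H^1(B, E ⊗ ω_B) = 0. If φ : E₁ → E₂ is a morphism of finite locally
free O_B-modules whose cokernel is a torsion module (every point of its support is closed) and E₁ is
deformation ample, then E₂ is deformation ample. (The source states this for a family of prestable
genus-zero curves over an arbitrary base T, with relative global generation and R^1 of the direct
image in place of global generation and H^1; this is the case T = Spec k of a field base, the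
general case needing relative duality not available here. The source also assumes the sheaves
nonzero (positive rank), which the conclusion does not need.) -/
theorem result (k : Type u) [Field k] [IsAlgClosed k]
    (B : Scheme.{u}) [B.Over (Spec (CommRingCat.of k))] [IsProper (B ↘ Spec (CommRingCat.of k))]
    [ConnectedSpace ↥B] (hdim : topologicalKrullDim ↥B = 1) (hnod : Curv2.AtWorstNodal k B)
    (hg : Subsingleton (Coh.HH B (Coh.structureModule B) 1))
    [DCoh.HasRpush (B ↘ Spec (CommRingCat.of k))] (h : DCoh.RpushPreservesQCoh (B ↘ Spec (CommRingCat.of k))) [DCoh.HasShriek (B ↘ Spec (CommRingCat.of k)) h]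
    (OY : DCoh.DQCoh (Spec (CommRingCat.of k))) (hOY : Nonempty (OY.obj ≅ DCoh.inD (Spec (CommRingCat.of k)) (Coh.structureModule (Spec (CommRingCat.of k)))))
    (E₁ E₂ : B.Modules) (hE₁ : FlatMod.IsFinLocFree E₁) (hE₂ : FlatMod.IsFinLocFree E₂) (φ : E₁ ⟶ E₂)
    (htors : ∀ x ∈ CohB1.support (cokernel φ), IsClosed ({x} : Set ↥B))
    (h₁ : (Curv2.IsGloballyGenerated E₁ ∧ Subsingleton (Coh.HH B (CohB1.tensorMod E₁ (DCoh.dualizingMod (B ↘ Spec (CommRingCat.of k)) h OY 1)) 1))) :
    (Curv2.IsGloballyGenerated E₂ ∧ Subsingleton (Coh.HH B (CohB1.tensorMod E₂ (DCoh.dualizingMod (B ↘ Spec (CommRingCat.of k)) h OY 1)) 1)) := by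
  haveI := EulerChar.isNoetherian k (X := B)
  let ω := DCoh.dualizingMod (B ↘ Spec (CommRingCat.of k)) h OY 1
  have hc₁ := VBLib.isCoh_of_isFinLocFree hE₁
  have hc₂ := VBLib.isCoh_of_isFinLocFree hE₂
  haveI : E₁.IsQuasicoherent := hc₁.1
  haveI : E₂.IsQuasicoherent := hc₂.1
  have hQ : Coh.IsCoh (cokernel φ) := CohDev.isCoh_cokernel φ hc₁.1 hc₂
  have hfin := DefAmple27.finite_support_of_closed_points hQ htors
  haveI := hfin.to_subtype
  refine ⟨?_, ?_⟩
  · let C := ShortComplex.mk (kernel.ι (cokernel.π φ)) (cokernel.π φ) (kernel.condition _)
    have hC : C.ShortExact := { exact := ShortComplex.exact_of_f_is_kernel _ (kernelIsKernel _) }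
    have hepi : Epi (kernel.lift (cokernel.π φ) φ (cokernel.condition φ)) :=
      (ShortComplex.exact_cokernel φ).epi_kernelLift
    exact DefAmple27.gg_of_shortExact hC
      (DefAmple27.h1_of_epi (k := k) hdim (kernel.lift (cokernel.π φ) φ (cokernel.condition φ))
        (DefAmple27.h1_of_gg (k := k) hdim hg hc₁ h₁.1))
      (DefAmple27.gg_of_epi _ hepi h₁.1) (DefAmple27.gg_of_punctual hfin htors)
  · obtain ⟨f, g, w, hex, hg'⟩ := DefAmple27.exists_exact_tensor ω
      (S := ShortComplex.mk φ (cokernel.π φ) (cokernel.condition φ)) (ShortComplex.exact_cokernel φ)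
      inferInstance
    haveI := hg'
    haveI := h₁.2
    haveI := DefAmple27.h1_of_exact (k := k) hdim hex
      (CohLin.hIso (ProjTwist.tensComm ω E₁) 1).toEquiv.subsingleton
      (DefAmple27.h_subsingleton_of_punctual
        (hfin.subset (DefAmple27.support_tensor_subset ω (cokernel φ)))
        (fun x hx => htors x (DefAmple27.support_tensor_subset ω (cokernel φ) hx)) 0)
    exact (CohLin.hIso (ProjTwist.tensComm E₂ ω) 1).toEquiv.subsingleton

end Groth.Agent.S17655
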