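import Groth.Statements.S17657
import Groth.Agent.DefAmple27.Basic
-- import your own Groth.Agent.* helpers here

set_option autoImplicit false
universe u
open CategoryTheory CategoryTheory.Limits AlgebraicGeometry TopologicalSpace
attribute [local instance] HasDerivedCategory.standard
open Curves

namespace Groth.Agent.S17657

/-- Let k be an algebraically closed field and B a connected scheme, proper over k, of dimension one,
with at-worst-nodal singularities and H^1(B, O_B) = 0, and let ω_B be its dualizing module over k
(the cohomology sheaf in degree −1 of the upper-shriek pull-back of O_{Spec k}; the existence of the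
upper-shriek functor is assumed). Call a finite locally free O_B-module deformation ample when it is
generated by global sections and H^1(B, E ⊗ ω_B) = 0. If E is a deformation ample finite locally
free O_B-module then every tensor power E^{⊗ n} with n ≥ 1 is deformation ample. (The source states
this for a family of prestable genus-zero curves over an arbitrary base T, with relative global
generation and R^1 of the direct image in place of global generation and H^1; this is the case T =
Spec k of a field base, the general case needing relative duality not available here. The source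
also assumes the sheaves nonzero (positive rank), which the conclusion does not need.) -/
theorem result (k : Type u) [Field k] [IsAlgClosed k]
    (B : Scheme.{u}) [B.Over (Spec (CommRingCat.of k))] [IsProper (B ↘ Spec (CommRingCat.of k))]
    [ConnectedSpace ↥B] (hdim : topologicalKrullDim ↥B = 1) (hnod : Curv2.AtWorstNodal k B)
    (hg : Subsingleton (Coh.HH B (Coh.structureModule B) 1))
    [DCoh.HasRpush (B ↘ Spec (CommRingCat.of k))] (h : DCoh.RpushPreservesQCoh (B ↘ Spec (CommRingCat.of k))) [DCoh.HasShriek (B ↘ Spec (CommRingCat.of k)) h]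
    (OY : DCoh.DQCoh (Spec (CommRingCat.of k))) (hOY : Nonempty (OY.obj ≅ DCoh.inD (Spec (CommRingCat.of k)) (Coh.structureModule (Spec (CommRingCat.of k)))))
    (E : B.Modules) (hE : FlatMod.IsFinLocFree E) (h₁ : (Curv2.IsGloballyGenerated E ∧ Subsingleton (Coh.HH B (CohB1.tensorMod E (DCoh.dualizingMod (B ↘ Spec (CommRingCat.of k)) h OY 1)) 1))) (n : ℕ) (hn : 1 ≤ n) :
    (Curv2.IsGloballyGenerated (CohB1.tensorPow E n) ∧ Subsingleton (Coh.HH B (CohB1.tensorMod (CohB1.tensorPow E n) (DCoh.dualizingMod (B ↘ Spec (CommRingCat.of k)) h OY 1)) 1)) := by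
  haveI := EulerChar.isNoetherian k (X := B)
  have hc : Coh.IsCoh E := VBLib.isCoh_of_isFinLocFree hE
  induction n, hn using Nat.le_induction with
  | base =>
    refine ⟨DefAmple27.gg_of_epi (ProjTwist.oneTens E).inv inferInstance h₁.1, ?_⟩
    haveI := h₁.2
    exact (CohLin.hIso (ProjTwist.tensCongr (ProjTwist.oneTens E) (Iso.refl _)) 1).toEquiv.subsingleton
  | succ n hn ih =>
    refine ⟨DefAmple27.gg_tensor ih.1 hc h₁.1, ?_⟩
    obtain ⟨ι, hι, p, hp⟩ := DefAmple27.exists_epi_tensor (CohB1.tensorMod (CohB1.tensorPow E n)
      (DCoh.dualizingMod (B ↘ Spec (CommRingCat.of k)) h OY 1)) hc h₁.1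
    let W := CohB1.tensorMod (CohB1.tensorPow E n) (DCoh.dualizingMod (B ↘ Spec (CommRingCat.of k)) h OY 1)
    haveI := DefAmple27.h1_of_epi (k := k) hdim p
      (@CohLin.subsingleton_sigma B ι hι (fun _ => W) 1 (fun _ => ih.2))
    let ω := DCoh.dualizingMod (B ↘ Spec (CommRingCat.of k)) h OY 1
    exact (CohLin.hIso (ProjTwist.tensAssoc (CohB1.tensorPow E n) E ω ≪≫
      ProjTwist.tensCongr (Iso.refl _) (ProjTwist.tensComm E ω) ≪≫
      (ProjTwist.tensAssoc (CohB1.tensorPow E n) ω E).symm) 1).toEquiv.subsingleton

end Groth.Agent.S17657
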