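import Groth.Statements.S17658
import Mathlib.Tactic.LinearCombination

set_option autoImplicit false
universe u
open Surf

namespace Groth.Agent.S17658

/-- In the polynomial ring k[T₀,T₁,U,V] over a field k, bigraded by deg T₀ = deg T₁ = (0,1), deg U =
(1,−1), deg V = (1,0) (the Cox ring of the Hirzebruch surface F₁; its piece of bidegree (a,b) is the
space of sections of O(a(E+F)+bF)), let S_(a,b) denote the k-span of the monomials of bidegree
(a,b), so that S_(0,c) is the space of forms of degree c in T₀, T₁. A subspace W ⊆ S_(a,b) is called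
c-generating when W·S_(0,c) = S_(a,b+c). Fix a monomial order and natural numbers a, b, c, and let
W₀(a,b,c) be the set of monomials U^i V^(a−i) T₀^(b+i−j(c+1)) T₁^(j(c+1)) with 0 ≤ i ≤ a, j ≥ 0 and
j(c+1) < b+i, together with the monomials U^i V^(a−i) T₁^(b+i) with 0 ≤ i ≤ a. If every monomial of
W₀(a,b,c) is the leading monomial of some nonzero element of W, then W is c-generating. (The source
fixes the graded lexicographic order with U > V > T₀ > T₁ and works over the complex numbers; its
argument uses only that leading monomials are multiplicative and that W₀(a,b,c)·S_(0,c) contains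
every monomial of S_(a,b+c), so any monomial order and any field are allowed here. The printed index
j runs from 1; with that range the statement fails already for a = 0, b = c = 1 and W spanned by T₁,
and the range from 0 used here is the one matching the accompanying dimension count.) Variables are
indexed T₀ = 0, T₁ = 1, U = 2, V = 3. -/
theorem result (k : Type u) [Field k]
    (mo : MonomialOrder (Fin 4)) (a b c : ℕ) (W : Submodule k (MvPolynomial (Fin 4) k))
    (hW : W ≤ Submodule.span k {f : MvPolynomial (Fin 4) k | ∃ e : Fin 4 →₀ ℕ, e 2 + e 3 = a ∧ e 0 + e 1 = b + e 2 ∧ f = MvPolynomial.monomial e 1})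
    (h₁ : ∀ i j : ℕ, i ≤ a → j * (c + 1) < b + i → ∃ w ∈ W, w ≠ 0 ∧
      mo.degree w = Finsupp.single 0 (b + i - j * (c + 1)) + Finsupp.single 1 (j * (c + 1)) +
        Finsupp.single 2 i + Finsupp.single 3 (a - i))
    (h₂ : ∀ i : ℕ, i ≤ a → ∃ w ∈ W, w ≠ 0 ∧
      mo.degree w = Finsupp.single 1 (b + i) + Finsupp.single 2 i + Finsupp.single 3 (a - i)) :
    W * Submodule.span k {f : MvPolynomial (Fin 4) k | ∃ e : Fin 4 →₀ ℕ, e 2 + e 3 = 0 ∧ e 0 + e 1 = c + e 2 ∧ f = MvPolynomial.monomial e 1} =
      Submodule.span k {f : MvPolynomial (Fin 4) k | ∃ e : Fin 4 →₀ ℕ, e 2 + e 3 = a ∧ e 0 + e 1 = (b + c) + e 2 ∧ f = MvPolynomial.monomial e 1} := by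
  classical
  set S := Submodule.span k {f : MvPolynomial (Fin 4) k | ∃ e : Fin 4 →₀ ℕ, e 2 + e 3 = 0 ∧ e 0 + e 1 = c + e 2 ∧ f = MvPolynomial.monomial e 1}
  set T := Submodule.span k {f : MvPolynomial (Fin 4) k | ∃ e : Fin 4 →₀ ℕ, e 2 + e 3 = a ∧ e 0 + e 1 = (b + c) + e 2 ∧ f = MvPolynomial.monomial e 1}
  have hle : W * S ≤ T := by
    refine (mul_le_mul_left hW S).trans ?_
    rw [Submodule.span_mul_span, Submodule.span_le]
    rintro _ ⟨_, ⟨e, h1, h2, rfl⟩, _, ⟨e', h1', h2', rfl⟩, rfl⟩
    refine Submodule.subset_span ⟨e + e', ?_, ?_, ?_⟩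
    · simp only [Finsupp.add_apply]; lia
    · simp only [Finsupp.add_apply]; lia
    · rw [show (fun x y : MvPolynomial (Fin 4) k => x * y) (MvPolynomial.monomial e 1) (MvPolynomial.monomial e' 1) = MvPolynomial.monomial e 1 * MvPolynomial.monomial e' 1 from rfl, MvPolynomial.monomial_mul, one_mul]
  refine le_antisymm hle ?_
  have hsupp : ∀ f ∈ T, ∀ e ∈ f.support, e 2 + e 3 = a ∧ e 0 + e 1 = (b + c) + e 2 := by
    intro f hf
    induction hf using Submodule.span_induction with
    | mem f hf =>
      obtain ⟨e, h1, h2, rfl⟩ := hf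
      intro e' he'
      have := Finset.mem_singleton.1 (MvPolynomial.support_monomial_subset he')
      subst this
      exact ⟨h1, h2⟩
    | zero => simp
    | add f g _ _ hf hg =>
      intro e he
      rcases Finset.mem_union.1 (MvPolynomial.support_add he) with h | h
      exacts [hf e h, hg e h]
    | smul r f _ hf =>
      intro e he
      exact hf e (MvPolynomial.support_smul he)
  suffices ∀ (d : mo.syn) f, f ∈ T → mo.toSyn (mo.degree f) = d → f ∈ W * S from fun f hf => this _ f hf rfl
  intro d
  induction d using WellFoundedLT.induction with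
  | _ d ih =>
    intro f hf hd
    rcases eq_or_ne f 0 with rfl | hf0
    · exact Submodule.zero_mem _
    set e := mo.degree f with he
    obtain ⟨he23, he01⟩ := hsupp f hf e (mo.degree_mem_support hf0)
    obtain ⟨w, hw, hw0, x, y, hxy, hdeg⟩ : ∃ w ∈ W, w ≠ 0 ∧ ∃ x y : ℕ, x + y = c ∧
        mo.degree w + (Finsupp.single 0 x + Finsupp.single 1 y) = e := by
      set n := b + e 2 with hn
      have hdm := Nat.div_add_mod (e 1) (c + 1)
      have hm : e 1 % (c + 1) < c + 1 := Nat.mod_lt _ (Nat.succ_pos c)
      set j := e 1 / (c + 1)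
      have hjc : j * (c + 1) = (c + 1) * j := mul_comm _ _
      by_cases hj : j * (c + 1) < n
      · obtain ⟨w, hw, hw0, hdeg⟩ := h₁ (e 2) j (by lia) hj
        refine ⟨w, hw, hw0, c - e 1 % (c + 1), e 1 % (c + 1), by lia, Finsupp.ext fun v => ?_⟩
        rw [hdeg]
        fin_cases v <;> simp [Finsupp.single_apply] <;> lia
      · obtain ⟨w, hw, hw0, hdeg⟩ := h₂ (e 2) (by lia)
        refine ⟨w, hw, hw0, c - (e 1 - n), e 1 - n, by lia, Finsupp.ext fun v => ?_⟩
        rw [hdeg]
        fin_cases v <;> simp [Finsupp.single_apply] <;> lia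
    set u : MvPolynomial (Fin 4) k := MvPolynomial.monomial (Finsupp.single 0 x + Finsupp.single 1 y) 1
    have hu : u ∈ S := Submodule.subset_span ⟨_, by simp, by simpa using hxy, rfl⟩
    have hwu : w * u ∈ W * S := Submodule.mul_mem_mul hw hu
    have hu0 : u ≠ 0 := by simp [u]
    have hdu : mo.degree (w * u) = e := by
      rw [mo.degree_mul hw0 hu0, mo.degree_monomial, if_neg one_ne_zero, hdeg]
    have hlc : (w * u).coeff e ≠ 0 := by
      rw [← hdu, mo.coeff_degree_ne_zero_iff]
      exact mul_ne_zero hw0 hu0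
    set r := f.coeff e / (w * u).coeff e
    set g := f - r • (w * u)
    have hg : g ∈ W * S := by
      have hgT : g ∈ T := Submodule.sub_mem _ hf (hle (Submodule.smul_mem _ r hwu))
      rcases eq_or_ne g 0 with h | hg0
      · rw [h]; exact Submodule.zero_mem _
      refine ih _ ?_ g hgT rfl
      rw [← hd]
      refine lt_of_le_of_ne ?_ fun h => ?_
      · refine mo.degree_sub_le.trans (sup_le le_rfl ?_)
        refine mo.degree_smul_le.trans ?_
        rw [hdu]
      · have h1 := mo.toSyn.injective h
        have : g.coeff e = 0 := by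
          simp only [g, r, MvPolynomial.coeff_sub, MvPolynomial.coeff_smul, smul_eq_mul]
          rw [div_mul_cancel₀ _ hlc, sub_self]
        rw [← h1] at this
        exact hg0 (mo.coeff_degree_eq_zero_iff.1 this)
    have : f = g + r • (w * u) := (sub_add_cancel f _).symm
    rw [this]
    exact Submodule.add_mem _ hg (Submodule.smul_mem _ r hwu)

end Groth.Agent.S17658
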