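import Groth.Statements.S17661
import Groth.Agent.AffThick.Nil
import Mathlib

set_option autoImplicit false
universe u
open CategoryTheory CategoryTheory.Limits AlgebraicGeometry
open Ribbon

namespace Groth.Agent.S17661

section
open CategoryTheory AlgebraicGeometry

theorem main (k : Type u) [Field k] (C : Scheme.{u}) (sC : C ⟶ Spec (CommRingCat.of k))
    (I : C.IdealSheafData) (hI : I ^ 2 = ⊥) [IsAffine I.subscheme] [Smooth (I.subschemeι ≫ sC)] :
    ∃ r : C ⟶ I.subscheme, I.subschemeι ≫ r = 𝟙 I.subscheme ∧ r ≫ I.subschemeι ≫ sC = sC := by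
  let i := I.subschemeι
  haveI : Surjective i := ⟨Set.range_eq_univ.1 (by
    rw [Scheme.IdealSheafData.range_subschemeι, ← Scheme.IdealSheafData.support_pow I 2 two_ne_zero, hI]
    simp)⟩
  haveI : IsAffine C := Groth.Agent.AffThick.isAffine_of_surjective i
  let K := CommRingCat.of k
  let φ : K ⟶ Γ(C, ⊤) := (Scheme.ΓSpecIso K).inv ≫ sC.appTop
  have hsm : (φ ≫ i.appTop).hom.Smooth := by
    have h := (HasRingHomProperty.iff_of_isAffine (P := @Smooth) (f := i ≫ sC)).1 inferInstance
    have hb : Function.Bijective (Scheme.ΓSpecIso K).inv.hom :=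
      (Scheme.ΓSpecIso K).symm.commRingCatIsoToRingEquiv.bijective
    have := (RingHom.Smooth.respectsIso).2 (i ≫ sC).appTop.hom (Scheme.ΓSpecIso K).symm.commRingCatIsoToRingEquiv h
    simpa [φ, RingHom.comp_assoc] using this
  letI : Algebra k Γ(C, ⊤) := φ.hom.toAlgebra
  letI : Algebra k Γ(I.subscheme, ⊤) := (φ ≫ i.appTop).hom.toAlgebra
  haveI : Algebra.FormallySmooth k Γ(I.subscheme, ⊤) := (hsm : Algebra.Smooth k Γ(I.subscheme, ⊤)).formallySmooth
  let g : Γ(C, ⊤) →ₐ[k] Γ(I.subscheme, ⊤) := AlgHom.mk i.appTop.hom fun _ => rfl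
  have hg : Function.Surjective g := i.app_surjective ⊤ (isAffineOpen_top C)
  have hk : IsNilpotent (RingHom.ker (g : Γ(C, ⊤) →+* Γ(I.subscheme, ⊤))) := by
    refine ⟨2, ?_⟩
    have h := congrArg (fun J : C.IdealSheafData => J.ideal ⟨⊤, isAffineOpen_top C⟩) hI
    simp only [Scheme.IdealSheafData.ideal_pow, Pi.pow_apply] at h
    rw [show RingHom.ker (g : Γ(C, ⊤) →+* Γ(I.subscheme, ⊤)) = I.ideal ⟨⊤, isAffineOpen_top C⟩ from
      I.ker_subschemeι_app ⟨⊤, isAffineOpen_top C⟩, h]
    rfl
  let s := Algebra.FormallySmooth.liftOfSurjective (AlgHom.id k Γ(I.subscheme, ⊤)) g hg hk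
  have hs : CommRingCat.ofHom s.toRingHom ≫ i.appTop = 𝟙 _ := by
    ext x
    exact Algebra.FormallySmooth.liftOfSurjective_apply (AlgHom.id k Γ(I.subscheme, ⊤)) g hg hk x
  have hsφ : (φ ≫ i.appTop) ≫ CommRingCat.ofHom s.toRingHom = φ := by
    ext x
    exact s.commutes x
  let r : C ⟶ I.subscheme := C.isoSpec.hom ≫ Spec.map (CommRingCat.ofHom s.toRingHom) ≫ I.subscheme.isoSpec.inv
  have hr : r.appTop = CommRingCat.ofHom s.toRingHom := by
    simp [r, Scheme.isoSpec]
    exact congrArg (· ≫ CommRingCat.ofHom s.toRingHom) (Scheme.toSpecΓ_appTop I.subscheme).symm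
  refine ⟨r, ext_of_isAffine ?_, ext_of_isAffine ?_⟩
  · rw [Scheme.Hom.comp_appTop, hr, Scheme.Hom.id_appTop]
    exact hs
  · rw [Scheme.Hom.comp_appTop, hr, Scheme.Hom.comp_appTop]
    rw [← cancel_epi (Scheme.ΓSpecIso K).inv]
    simp [φ] at hsφ ⊢; exact hsφ

end

/-- Let k be a field, C a scheme locally of finite type over k and I ⊂ O_C a quasi-coherent ideal with
I² = 0, with closed subscheme D ⊂ C; suppose D is affine, connected and smooth over k and that I,
regarded as an O_D-module, is invertible (so C is a ribbon on the smooth affine scheme D, and D is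
the reduced scheme underlying C). Then the ribbon is split: the inclusion D → C admits a retraction
C → D over k. -/
theorem result (k : Type u) [Field k] (C : Scheme.{u}) [C.Over (Spec (CommRingCat.of k))]
    [LocallyOfFiniteType (C ↘ (Spec (CommRingCat.of k)))]
    (I : C.IdealSheafData) (hI : I ^ 2 = ⊥) [IsAffine I.subscheme] [ConnectedSpace I.subscheme]
    [Smooth (I.subschemeι ≫ (C ↘ (Spec (CommRingCat.of k))))]
    (hconormal : PicF.IsInvertible ((Scheme.Modules.pullback I.subschemeι).obj (ClSub.idealMod I))) :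
    ∃ r : C ⟶ I.subscheme, I.subschemeι ≫ r = 𝟙 I.subscheme ∧
      r ≫ I.subschemeι ≫ (C ↘ (Spec (CommRingCat.of k))) = C ↘ (Spec (CommRingCat.of k)) := by
  exact main k C _ I hI

end Groth.Agent.S17661
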