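import Groth.Statements.S17662
import Mathlib
import Groth.Agent.Verlinde.CauchyBinet

set_option autoImplicit false
universe u
open CIDisc

namespace Groth.Agent.S17662

open Matrix in
theorem det_mul_finset {R : Type u} [CommRing R] {e r : ℕ} (A : Matrix (Fin e) (Fin r) R)
    (B : Matrix (Fin r) (Fin e) R) :
    (A * B).det = ∑ s : {s : Finset (Fin r) // s.card = e},
      (A.submatrix id (s.1.orderEmbOfFin s.2)).det * (B.submatrix (s.1.orderEmbOfFin s.2) id).det := by
  classical
  rw [Groth.Agent.Verlinde.CauchyBinet.det_mul_eq_sum_strictAnti]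
  symm
  refine Finset.sum_bij (fun s _ => (s.1.orderEmbOfFin s.2) ∘ Fin.revPerm) ?_ ?_ ?_ ?_
  · intro s _
    refine Finset.mem_filter.2 ⟨Finset.mem_univ _, fun a b hab => ?_⟩
    exact (s.1.orderEmbOfFin s.2).strictMono (Fin.rev_lt_rev.2 hab)
  · intro s _ t _ h
    have hr := congrArg Set.range h
    rw [Set.range_comp, Set.range_comp, Fin.revPerm.surjective.range_eq, Set.image_univ,
      Set.image_univ, Finset.range_orderEmbOfFin, Finset.range_orderEmbOfFin] at hr
    exact Subtype.ext (Finset.coe_injective hr)
  · intro σ hσ
    have hs : StrictAnti σ := (Finset.mem_filter.1 hσ).2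
    refine ⟨⟨Finset.univ.image σ, ?_⟩, Finset.mem_univ _, ?_⟩
    · rw [Finset.card_image_of_injective _ hs.injective, Finset.card_univ, Fintype.card_fin]
    · have hm : StrictMono (σ ∘ Fin.revPerm) := fun a b hab => hs (Fin.rev_lt_rev.2 hab)
      funext i
      simp only [Function.comp_apply]
      have key := fun hc => Finset.orderEmbOfFin_unique (s := Finset.univ.image σ) (k := e) hc
        (f := σ ∘ Fin.revPerm) (fun x => Finset.mem_image_of_mem _ (Finset.mem_univ _)) hm
      rw [← congrFun (key _) (Fin.revPerm i)]
      simp
  · intro s _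
    have h1 : A.submatrix id ((s.1.orderEmbOfFin s.2) ∘ Fin.revPerm) =
        (A.submatrix id (s.1.orderEmbOfFin s.2)).submatrix id Fin.revPerm := rfl
    have h2 : B.submatrix ((s.1.orderEmbOfFin s.2) ∘ Fin.revPerm) id =
        (B.submatrix (s.1.orderEmbOfFin s.2) id).submatrix Fin.revPerm id := rfl
    rw [h1, h2, Matrix.det_permute', Matrix.det_permute]
    rw [mul_mul_mul_comm, ← Int.cast_mul, ← Units.val_mul, Int.units_mul_self, Units.val_one,
      Int.cast_one, one_mul]


/-- Let R be a commutative ring, M an r × n matrix over R and e ≥ 0; for each e-element set L of row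
indices let A_L be an e × r matrix over R, and form the square matrix, indexed by the e-element sets
of row indices, whose (L, L') entry is the e × e minor of A_L on the columns L'. If the determinant
of that square matrix is a unit, then the sum over L of the ideals generated by the e × e minors of
the products A_L · M is the ideal generated by all e × e minors of M. (In the source R is the
coordinate ring of an affine scheme X of codimension e cut out by f_1, …, f_r in affine n-space, M
is the image of the Jacobian matrix of the f_j, the A_L have entries in the ground field and cut out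
complete intersections Z_L = V(A_L · f), so that the two sides are Σ_L Jac(Z_L) and Jac(X); the
source states the equality for general A_L and establishes it under the present invertibility
condition, which it shows to be generic.) -/
theorem result {R : Type u} [CommRing R] (e r n : ℕ)
    (M : Matrix (Fin r) (Fin n) R)
    (A : {s : Finset (Fin r) // s.card = e} → Matrix (Fin e) (Fin r) R)
    (hA : IsUnit (Matrix.det (Matrix.of fun i j : {s : Finset (Fin r) // s.card = e} =>
      ((A i).submatrix id (j.1.orderEmbOfFin j.2)).det))) :
    (⨆ i, Ideal.span (Set.range fun t : {s : Finset (Fin n) // s.card = e} =>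
        ((A i * M).submatrix id (t.1.orderEmbOfFin t.2)).det)) =
      Ideal.span (Set.range fun p : {s : Finset (Fin r) // s.card = e} × {s : Finset (Fin n) // s.card = e} =>
        (M.submatrix (p.1.1.orderEmbOfFin p.1.2) (p.2.1.orderEmbOfFin p.2.2)).det) := by
  classical
  let Q : Matrix {s : Finset (Fin r) // s.card = e} {s : Finset (Fin r) // s.card = e} R :=
    Matrix.of fun i j => ((A i).submatrix id (j.1.orderEmbOfFin j.2)).det
  let w : {s : Finset (Fin n) // s.card = e} → {s : Finset (Fin r) // s.card = e} → R :=
    fun t p => (M.submatrix (p.1.orderEmbOfFin p.2) (t.1.orderEmbOfFin t.2)).det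
  have hv : ∀ i t, ((A i * M).submatrix id (t.1.orderEmbOfFin t.2)).det = Q.mulVec (w t) i := by
    intro i t
    rw [Matrix.submatrix_mul _ _ id id _ Function.bijective_id, det_mul_finset]
    rfl
  apply le_antisymm
  · refine iSup_le fun i => Ideal.span_le.2 ?_
    rintro _ ⟨t, rfl⟩
    simp only [SetLike.mem_coe, hv]
    rw [Matrix.mulVec, dotProduct]
    refine Ideal.sum_mem _ fun p _ => Ideal.mul_mem_left _ _ ?_
    exact Ideal.subset_span ⟨(p, t), rfl⟩
  · refine Ideal.span_le.2 ?_
    rintro _ ⟨⟨p, t⟩, rfl⟩
    have hQ : IsUnit Q.det := hA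
    have hw : w t = Q⁻¹.mulVec (Q.mulVec (w t)) := by
      rw [Matrix.mulVec_mulVec, Matrix.nonsing_inv_mul Q hQ, Matrix.one_mulVec]
    show w t p ∈ _
    rw [hw]
    simp only [SetLike.mem_coe, Matrix.mulVec, dotProduct]
    refine Ideal.sum_mem _ fun i _ => Ideal.mul_mem_left _ _ ?_
    refine Ideal.mem_iSup_of_mem i (Ideal.subset_span ⟨t, ?_⟩)
    exact hv i t

end Groth.Agent.S17662
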