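import Groth.Statements.S17663
import Groth.Agent.SplitRibbon52.Basic
import Groth.Agent.ProjTwist.Invertible

set_option autoImplicit false
set_option backward.isDefEq.respectTransparency false
set_option backward.isDefEq.respectTransparency.types false
universe u
open CategoryTheory CategoryTheory.Limits AlgebraicGeometry
open Ribbon

namespace Groth.Agent.S17663

/-- Let D be a reduced connected scheme of finite type over a field k and 𝓛 an invertible O_D-module.
Then some split ribbon on D has conormal bundle 𝓛: there are a k-scheme C locally of finite type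
together with a quasi-coherent ideal I ⊂ O_C with I² = 0, a k-isomorphism from the closed subscheme
V(I) to D, a retraction C → V(I) over k of the inclusion, and an isomorphism of O_D-modules between
I (regarded as a module on V(I) ≅ D) and 𝓛. -/
theorem result (k : Type u) [Field k] (D : Scheme.{u}) [D.Over (Spec (CommRingCat.of k))]
    [LocallyOfFiniteType (D ↘ (Spec (CommRingCat.of k)))] [QuasiCompact (D ↘ (Spec (CommRingCat.of k)))]
    [AlgebraicGeometry.IsReduced D] [ConnectedSpace D]
    (𝓛 : D.Modules) (h𝓛 : PicF.IsInvertible 𝓛) :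
    ∃ (C : Scheme.{u}) (sC : C ⟶ (Spec (CommRingCat.of k))) (I : C.IdealSheafData) (φ : I.subscheme ≅ D) (r : C ⟶ I.subscheme),
      LocallyOfFiniteType sC ∧ I ^ 2 = ⊥ ∧ φ.hom ≫ (D ↘ (Spec (CommRingCat.of k))) = I.subschemeι ≫ sC ∧ I.subschemeι ≫ r = 𝟙 I.subscheme ∧
        r ≫ I.subschemeι ≫ sC = sC ∧
        Nonempty ((Scheme.Modules.pullback (φ.inv ≫ I.subschemeι)).obj (ClSub.idealMod I) ≅ 𝓛) := by
  haveI : 𝓛.IsQuasicoherent := ProjTwist.isQCoh_of_isInvertible h𝓛
  obtain ⟨s, hs⟩ := SplitRibbon52.exists_section 𝓛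
  haveI := SplitRibbon52.isClosedImmersion_s 𝓛 s hs
  haveI := SplitRibbon52.locallyOfFiniteType_p 𝓛 h𝓛
  have hsI : s.toImage ≫ s.ker.subschemeι = s := s.toImage_imageι
  obtain ⟨e⟩ := SplitRibbon52.exists_iso_pullback_idealMod 𝓛 s hs
  refine ⟨SplitRibbon52.rib 𝓛, SplitRibbon52.p 𝓛 ≫ (D ↘ (Spec (CommRingCat.of k))), s.ker,
    (asIso s.toImage).symm, SplitRibbon52.p 𝓛 ≫ s.toImage,
    inferInstance, SplitRibbon52.ker_pow_two 𝓛 s hs, ?_, ?_, ?_, ⟨?_⟩⟩
  · rw [← cancel_epi s.toImage]
    simp only [Iso.symm_hom, asIso_inv, IsIso.hom_inv_id_assoc]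
    rw [← Category.assoc, hsI, ← Category.assoc, hs, Category.id_comp]
  · rw [← cancel_epi s.toImage, Category.comp_id, ← Category.assoc, hsI, ← Category.assoc, hs,
      Category.id_comp]
  · simp only [Category.assoc]
    rw [← Category.assoc s.toImage, hsI, ← Category.assoc s, hs, Category.id_comp]
  · exact (Scheme.Modules.pullbackCongr (by simpa using hsI)).app _ ≪≫ e

end Groth.Agent.S17663
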