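import Groth.Statements.S17664
import Groth.Agent.RibbonUniq7.Main

set_option backward.isDefEq.respectTransparency false
set_option linter.style.haveILetI false

set_option autoImplicit false
universe u
open CategoryTheory CategoryTheory.Limits AlgebraicGeometry
open Ribbon

namespace Groth.Agent.S17664

/-- Let D be a reduced connected scheme of finite type over a field k. Let C and C' be two split ribbons
on D with isomorphic conormal bundles: k-schemes with quasi-coherent ideals I ⊂ O_C, I' ⊂ O_{C'} of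
square zero, k-isomorphisms φ : V(I) ≅ D, φ' : V(I') ≅ D, retractions C → V(I), C' → V(I') over k,
with I and I' invertible when regarded as O_D-modules and an isomorphism θ between them. Then C and
C' are isomorphic over D: there is an isomorphism ψ : C ≅ C' with (V(I) → C → C') = (V(I) ≅ D ≅
V(I') → C'). -/
theorem result (k : Type u) [Field k] (D : Scheme.{u}) [D.Over (Spec (CommRingCat.of k))]
    [LocallyOfFiniteType (D ↘ (Spec (CommRingCat.of k)))] [QuasiCompact (D ↘ (Spec (CommRingCat.of k)))]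
    [AlgebraicGeometry.IsReduced D] [ConnectedSpace D]
    (C : Scheme.{u}) (sC : C ⟶ (Spec (CommRingCat.of k))) (I : C.IdealSheafData) (hI : I ^ 2 = ⊥)
    (φ : I.subscheme ≅ D) (hφ : φ.hom ≫ (D ↘ (Spec (CommRingCat.of k))) = I.subschemeι ≫ sC)
    (r : C ⟶ I.subscheme) (hr : I.subschemeι ≫ r = 𝟙 I.subscheme) (hrk : r ≫ I.subschemeι ≫ sC = sC)
    (C' : Scheme.{u}) (sC' : C' ⟶ (Spec (CommRingCat.of k))) (I' : C'.IdealSheafData) (hI' : I' ^ 2 = ⊥)
    (φ' : I'.subscheme ≅ D) (hφ' : φ'.hom ≫ (D ↘ (Spec (CommRingCat.of k))) = I'.subschemeι ≫ sC')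
    (r' : C' ⟶ I'.subscheme) (hr' : I'.subschemeι ≫ r' = 𝟙 I'.subscheme) (hrk' : r' ≫ I'.subschemeι ≫ sC' = sC')
    (h𝓛 : PicF.IsInvertible ((Scheme.Modules.pullback (φ.inv ≫ I.subschemeι)).obj (ClSub.idealMod I)))
    (h𝓛' : PicF.IsInvertible ((Scheme.Modules.pullback (φ'.inv ≫ I'.subschemeι)).obj (ClSub.idealMod I')))
    (θ : (Scheme.Modules.pullback (φ.inv ≫ I.subschemeι)).obj (ClSub.idealMod I) ≅
      (Scheme.Modules.pullback (φ'.inv ≫ I'.subschemeι)).obj (ClSub.idealMod I')) :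
    ∃ ψ : C ≅ C', I.subschemeι ≫ ψ.hom = φ.hom ≫ φ'.inv ≫ I'.subschemeι ∧ ψ.hom ≫ sC' = sC := by
  have hk : ∀ {Z : Scheme.{u}} (J : Z.IdealSheafData) (ψ : J.subscheme ≅ D), (ψ.inv ≫ J.subschemeι).ker = J :=
    fun J ψ => by rw [Scheme.Hom.ker_comp_of_isIso, Scheme.IdealSheafData.ker_subschemeι]
  let i := φ.inv ≫ I.subschemeι
  let j := φ'.inv ≫ I'.subschemeι
  have hi : i.ker = I := hk I φ
  have hj : j.ker = I' := hk I' φ'
  have hir : i ≫ (r ≫ φ.hom) = 𝟙 D := by simp [i, reassoc_of% hr]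
  have hjr : j ≫ (r' ≫ φ'.hom) = 𝟙 D := by simp [j, reassoc_of% hr']
  let θ' : Omega.conormal j ≅ Omega.conormal i :=
    (Scheme.Modules.pullback j).mapIso (eqToIso (by rw [hj])) ≪≫ θ.symm ≪≫
      (Scheme.Modules.pullback i).mapIso (eqToIso (by rw [hi]))
  obtain ⟨g, hg₁, hg₂, hg₃⟩ := Groth.Agent.RibbonUniq7.exists_hom i (by rw [hi, hI]) (r ≫ φ.hom) hir
    j (by rw [hj, hI']) (r' ≫ φ'.hom) hjr θ'.hom
  haveI := hg₃ inferInstance
  refine ⟨asIso g, ?_, ?_⟩
  · rw [asIso_hom, ← cancel_epi φ.inv, ← Category.assoc]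
    simpa [i, j] using hg₁
  · have hC : r ≫ φ.hom ≫ (D ↘ (Spec (CommRingCat.of k))) = sC := by rw [hφ, hrk]
    have hC' : r' ≫ φ'.hom ≫ (D ↘ (Spec (CommRingCat.of k))) = sC' := by rw [hφ', hrk']
    rw [asIso_hom, ← hC', ← hC, ← Category.assoc, ← Category.assoc, Category.assoc g, hg₂, Category.assoc]

end Groth.Agent.S17664
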