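import Groth.Statements.S17677
import Groth.Prelude.Def_Hoch
import Mathlib.RingTheory.Bialgebra.MonoidAlgebra

set_option autoImplicit false
universe u
open Hoch

open scoped TensorProduct

namespace Groth.Agent.S17677

/-- Let k be a commutative ring, M a commutative monoid and V a right comodule over the monoid bialgebra
k[M] (a quasi-coherent module with an action of the diagonalizable monoid scheme Spec k[M]). Then
every 1-cocycle of the Hochschild complex of V is a 1-coboundary, i.e. the first Hochschild
cohomology module of the diagonalizable monoid with coefficients in V is zero. (The source works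
over an algebraic space with M finitely generated and cancellative, hypotheses it uses only to
identify modules under the monoid with comodules; the cocycle computation, which is the affine
statement given here, uses neither.) -/
theorem result (k : Type u) [CommRing k] (M : Type u)
    [AddCommMonoid M] (V : Type u) [AddCommGroup V] [Module k V]
    [HopfRep.Comod k (AddMonoidAlgebra k M) V] :
    Hoch.cocycles k (AddMonoidAlgebra k M) V 1 ≤ Hoch.coboundaries k (AddMonoidAlgebra k M) V 1 := by
  intro x hx
  let η : (AddMonoidAlgebra k M) →ₗ[k] k := Finsupp.lapply (0 : M) ∘ₗ (AddMonoidAlgebra.coeffLinearEquiv k).toLinearMap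
  have hη : ∀ a : (AddMonoidAlgebra k M), TensorProduct.rid k (AddMonoidAlgebra k M) (η.lTensor (AddMonoidAlgebra k M) (Coalgebra.comul (R := k) a)) = η a • (1 : (AddMonoidAlgebra k M)) := by
    intro a
    induction a using AddMonoidAlgebra.induction_linear with
    | zero => simp
    | add y z hy hz => simp only [map_add, add_smul, hy, hz]
    | single g r =>
      simp only [AddMonoidAlgebra.comul_single, CommSemiring.comul_apply, TensorProduct.map_tmul,
        LinearMap.lTensor_tmul, TensorProduct.rid_tmul]
      rcases eq_or_ne g 0 with rfl | hg
      · simp [η, AddMonoidAlgebra.one_def]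
      · simp [η, hg]
  have hη1 : η 1 = 1 := by simp [η, AddMonoidAlgebra.one_def]
  let P : (V ⊗[k] (AddMonoidAlgebra k M)) ⊗[k] (AddMonoidAlgebra k M) →ₗ[k] V ⊗[k] (AddMonoidAlgebra k M) := (TensorProduct.rid k _).toLinearMap ∘ₗ η.lTensor (V ⊗[k] (AddMonoidAlgebra k M))
  let x0 : V := TensorProduct.rid k V (η.lTensor V x)
  have h1 : ∀ z : V ⊗[k] (AddMonoidAlgebra k M), P ((Hoch.d k (AddMonoidAlgebra k M) V 0).rTensor (AddMonoidAlgebra k M) z) = Hoch.d k (AddMonoidAlgebra k M) V 0 (TensorProduct.rid k V (η.lTensor V z)) := by
    intro z
    induction z using TensorProduct.induction_on with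
    | zero => simp
    | add y z hy hz => simp only [map_add, hy, hz]
    | tmul y z => simp [P]
  have h2 : ∀ z : V ⊗[k] (AddMonoidAlgebra k M), P (Hoch.tail k (AddMonoidAlgebra k M) V z) = -z := by
    intro z
    induction z using TensorProduct.induction_on with
    | zero => simp
    | add y z hy hz => simp only [map_add, hy, hz, neg_add]
    | tmul y a =>
      have h3 : ∀ w : (AddMonoidAlgebra k M) ⊗[k] (AddMonoidAlgebra k M), P ((TensorProduct.assoc k V (AddMonoidAlgebra k M) (AddMonoidAlgebra k M)).symm (y ⊗ₜ[k] w)) =
          y ⊗ₜ[k] TensorProduct.rid k (AddMonoidAlgebra k M) (η.lTensor (AddMonoidAlgebra k M) w) := by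
        intro w
        induction w using TensorProduct.induction_on with
        | zero => simp
        | add b c hb hc => simp only [TensorProduct.tmul_add, map_add, hb, hc]
        | tmul b c => simp [P]
      rw [Hoch.tail_tmul, h3, map_sub, map_sub, map_sub, map_sub, hη]
      simp [hη1]
      exact TensorProduct.tmul_neg y a
  refine ⟨-x0, ?_⟩
  have h : Hoch.d k (AddMonoidAlgebra k M) V 1 x = 0 := hx
  rw [Hoch.d_succ] at h
  have h' := congrArg P h
  simp only [LinearMap.add_apply, LinearMap.smul_apply, map_add, map_smul, map_zero] at h'
  erw [h1, h2] at h'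
  simp only [zero_add, pow_one, neg_smul, one_smul, neg_neg] at h'
  rw [map_neg]
  exact (neg_eq_iff_add_eq_zero).2 h'

end Groth.Agent.S17677
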