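import Groth.Statements.S17678
import Mathlib.Algebra.MonoidAlgebra.Basic
import Mathlib.RingTheory.Flat.Basic

set_option autoImplicit false
universe u v
open DiagMon

namespace Groth.Agent.S17678

/-- Let R be a commutative ring and N an abelian group. Then the ring map R[N] → R[N × N] of monoid
algebras induced by the diagonal n ↦ (n, n), which is the comorphism of the multiplication morphism
of the diagonalizable group scheme Spec R[N] over Spec R, is flat. (The published statement asserts
flatness for every cancellative commutative monoid N, on the ground that N acts freely on N × N
through the diagonal; but for the submonoid N of the natural numbers generated by 2 and 3, the pairs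
(x, x − 1) with x ≥ 3 form one orbit class that is not a free orbit, and the corresponding direct
summand of k[N × N] is the ideal t³k[t] viewed as a module over k[t², t³], which is not flat. The
statement is therefore given for groups, where N × N is a free N-set with basis the pairs (0, b).) -/
theorem result (R : Type u) [CommRing R] (N : Type v)
    [AddCommGroup N] :
    (AddMonoidAlgebra.mapDomainRingHom R ((AddMonoidHom.id N).prod (AddMonoidHom.id N))).Flat := by
  let θ : (N × N) →+ (N × N) :=
    { toFun := fun p => (p.1 - p.2, p.2)
      map_zero' := by simp
      map_add' := fun p q => by ext <;> simp <;> abel }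
  have hθ : Function.Bijective θ := Function.bijective_iff_has_inverse.2
    ⟨fun p => (p.1 + p.2, p.2), fun p => by simp [θ], fun p => by simp [θ]⟩
  let e : AddMonoidAlgebra R (N × N) ≃ₐ[R] AddMonoidAlgebra (AddMonoidAlgebra R N) N :=
    (AddMonoidAlgebra.domCongr R R (AddEquiv.ofBijective θ hθ)).trans (AddMonoidAlgebra.curryAlgEquiv R)
  have h : e.toRingEquiv.toRingHom.comp (AddMonoidAlgebra.mapDomainRingHom R ((AddMonoidHom.id N).prod (AddMonoidHom.id N))) =
      algebraMap (AddMonoidAlgebra R N) (AddMonoidAlgebra (AddMonoidAlgebra R N) N) := by
    refine AddMonoidAlgebra.ringHom_ext (fun r => ?_) (fun n => ?_)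
    · simp [e, θ]
    · simp [e, θ]
  rw [← RingHom.Flat.comp_iff_of_bijective_left (g := e.toRingEquiv.toRingHom) e.bijective, h]
  exact RingHom.flat_algebraMap_iff.2 inferInstance

end Groth.Agent.S17678
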