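import Groth.Statements.S17679
import Mathlib

set_option autoImplicit false
open DiagMon

namespace Groth.Agent.S17679

/-- For n ≥ 1 the minimal number of generators of ℤ^n as an additive monoid is n + 1: some n + 1
elements generate ℤ^n as a monoid, and every finite set generating ℤ^n as a monoid has at least n +
1 elements. (For n = 0 the empty set generates the zero monoid, so the count n + 1 is stated for n ≥
1 only.) -/
theorem result (n : ℕ) (hn : 1 ≤ n) :
    (∃ s : Finset (Fin n → ℤ), s.card = n + 1 ∧ AddSubmonoid.closure (s : Set (Fin n → ℤ)) = ⊤) ∧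
    ∀ s : Finset (Fin n → ℤ), AddSubmonoid.closure (s : Set (Fin n → ℤ)) = ⊤ → n + 1 ≤ s.card := by
  classical
  constructor
  · let u : Fin n → ℤ := fun _ => -1
    refine ⟨insert u (Finset.univ.image fun i => (Pi.single i 1 : Fin n → ℤ)), ?_, ?_⟩
    · rw [Finset.card_insert_of_notMem, Finset.card_image_of_injective, Finset.card_univ, Fintype.card_fin]
      · intro i j h
        by_contra hij
        have := congrFun h i
        simp [Pi.single_eq_of_ne hij] at this
      · simp only [Finset.mem_image, Finset.mem_univ, true_and, not_exists]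
        intro i h
        have := congrFun h i
        simp [u] at this
    · set H := AddSubmonoid.closure ((insert u (Finset.univ.image fun i => (Pi.single i 1 : Fin n → ℤ)) : Finset _) : Set (Fin n → ℤ))
      have hu : u ∈ H := AddSubmonoid.subset_closure (Finset.mem_coe.mpr (Finset.mem_insert_self _ _))
      have he : ∀ i, (Pi.single i 1 : Fin n → ℤ) ∈ H := fun i => AddSubmonoid.subset_closure
        (Finset.mem_coe.mpr (Finset.mem_insert_of_mem (Finset.mem_image_of_mem _ (Finset.mem_univ i))))
      have hneg : ∀ i, (Pi.single i (-1) : Fin n → ℤ) ∈ H := fun i => by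
        have : (Pi.single i (-1) : Fin n → ℤ) = u + ∑ j ∈ Finset.univ.erase i, Pi.single j 1 := by
          funext l
          simp only [Pi.add_apply, Finset.sum_apply, u, Pi.single_apply, Finset.sum_ite_eq, Finset.mem_erase,
            Finset.mem_univ, and_true]
          split_ifs with h <;> simp_all
        rw [this]
        exact add_mem hu (AddSubmonoid.sum_mem _ fun j _ => he j)
      have hall : ∀ (i : Fin n) (z : ℤ), (Pi.single i z : Fin n → ℤ) ∈ H := fun i z => by
        rcases Int.eq_nat_or_neg z with ⟨m, rfl | rfl⟩
        · have := AddSubmonoid.nsmul_mem _ (he i) m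
          rwa [← Pi.single_smul, nsmul_one] at this
        · have := AddSubmonoid.nsmul_mem _ (hneg i) m
          rwa [← Pi.single_smul, smul_neg, nsmul_one] at this
      refine top_unique fun x _ => ?_
      rw [← Finset.univ_sum_single x]
      exact AddSubmonoid.sum_mem _ fun i _ => hall i _
  · intro s hs
    by_contra hlt
    let v : s → (Fin n → ℤ) := fun i => i.1
    let L := Fintype.linearCombination ℤ v
    have hmem : ∀ x, ∃ c : s → ℤ, (∀ i, 0 ≤ c i) ∧ L c = x := by
      intro x
      have hx : x ∈ AddSubmonoid.closure (s : Set (Fin n → ℤ)) := hs ▸ trivial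
      induction hx using AddSubmonoid.closure_induction with
      | mem x hx => exact ⟨Pi.single ⟨x, hx⟩ 1, fun i => by rw [Pi.single_apply]; split_ifs <;> norm_num, by
          simp [L, v, Fintype.linearCombination_apply_single]⟩
      | zero => exact ⟨0, fun i => le_rfl, map_zero _⟩
      | add x y _ _ hx hy =>
        obtain ⟨a, ha, rfl⟩ := hx
        obtain ⟨b, hb, rfl⟩ := hy
        exact ⟨a + b, fun i => add_nonneg (ha i) (hb i), map_add _ _ _⟩
    have hsurj : Function.Surjective L := fun x => (hmem x).imp fun _ h => h.2
    have hle := LinearMap.finrank_le_finrank_of_surjective (f := L) hsurj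
    simp only [Module.finrank_pi, Module.finrank_fintype_fun_eq_card, Fintype.card_coe, Fintype.card_fin] at hle
    have hcard : s.card = n := by omega
    have hinj : Function.Injective L := by
      let e : (Fin n → ℤ) ≃ₗ[ℤ] (s → ℤ) := LinearEquiv.funCongrLeft ℤ ℤ (Fintype.equivFinOfCardEq (by simp [hcard]))
      have := OrzechProperty.injective_of_surjective_endomorphism (e.toLinearMap.comp L) (e.surjective.comp hsurj)
      exact fun a b h => this (congrArg e h)
    obtain ⟨c, hc, hcx⟩ := hmem (-∑ i, v i)
    have h0 : L (c + 1) = 0 := by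
      rw [map_add, hcx]
      simp [L, Fintype.linearCombination_apply]
    have hne : (s : Finset (Fin n → ℤ)).Nonempty := Finset.card_pos.mp (by omega)
    obtain ⟨x, hx⟩ := hne
    have := congrFun (hinj (h0.trans (map_zero L).symm)) ⟨x, hx⟩
    simp only [Pi.add_apply, Pi.one_apply, Pi.zero_apply] at this
    linarith [hc ⟨x, hx⟩]

end Groth.Agent.S17679
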