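import Groth.Statements.S17682

set_option autoImplicit false
universe u v w u'
open DiagMon

namespace Groth.Agent.S17682

/-- Let R be a commutative ring, A a commutative R-algebra graded by a commutative monoid M, N a
submonoid of M and R' a commutative R-algebra. For every R-algebra homomorphism F : A → R' vanishing
on the homogeneous elements of degree outside N there is a unique R-algebra homomorphism f : A →
R'[M] which is graded (a homogeneous element of degree m goes to a multiple of X^m), vanishes on
homogeneous elements of degree outside N, and composes with the augmentation X^m ↦ 1 to F. In the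
dictionary where an M-grading of A is an action of the diagonalizable monoid scheme Spec R[M] on
Spec A and graded maps A → R'[M] supported on N are equivariant maps from the monoid scheme of N
over R', this says that the attractor of Spec A for the magnet N is represented by the closed
subscheme of Spec A defined by the homogeneous elements of degree outside N. -/
theorem result (R : Type u) [CommRing R]
    (A : Type v) [CommRing A] [Algebra R A] (M : Type w) [AddCommMonoid M] [DecidableEq M]
    (𝒜 : M → Submodule R A) [GradedAlgebra 𝒜] (N : AddSubmonoid M) (R' : Type u') [CommRing R']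
    [Algebra R R'] (F : A →ₐ[R] R') (hF : ∀ m, m ∉ N → ∀ a ∈ 𝒜 m, F a = 0) :
    ∃! f : A →ₐ[R] AddMonoidAlgebra R' M,
      (∀ m, ∀ a ∈ 𝒜 m, f a =
          AddMonoidAlgebra.single m (Bialgebra.counitAlgHom R' (AddMonoidAlgebra R' M) (f a))) ∧
      (∀ m, m ∉ N → ∀ a ∈ 𝒜 m, f a = 0) ∧
      ∀ a, Bialgebra.counitAlgHom R' (AddMonoidAlgebra R' M) (f a) = F a := by
  classical
  have hcu : ∀ (m : M) (r : R'), Bialgebra.counitAlgHom R' (AddMonoidAlgebra R' M) (AddMonoidAlgebra.single m r) = r := by
    intro m r
    rw [Bialgebra.counitAlgHom_apply, AddMonoidAlgebra.counit_single]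
    exact CommSemiring.counit_apply R' r
  let φ : ∀ i, 𝒜 i →ₗ[R] AddMonoidAlgebra R' M := fun i =>
    { toFun := fun a => AddMonoidAlgebra.single i (F a)
      map_add' := fun a b => by rw [Submodule.coe_add, map_add, AddMonoidAlgebra.single_add]
      map_smul' := fun r a => by
        rw [Submodule.coe_smul, map_smul, RingHom.id_apply, AddMonoidAlgebra.smul_single] }
  let G : (DirectSum M fun i => 𝒜 i) →ₐ[R] AddMonoidAlgebra R' M :=
    DirectSum.toAlgebra R (fun i => 𝒜 i) φ
      (by
        change AddMonoidAlgebra.single 0 (F (GradedMonoid.GOne.one (A := fun i => 𝒜 i) : _)) = 1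
        rw [SetLike.coe_gOne, map_one, AddMonoidAlgebra.one_def])
      (fun {i j} a b => by
        change AddMonoidAlgebra.single (i + j) (F (GradedMonoid.GMul.mul (A := fun i => 𝒜 i) a b : _)) =
          AddMonoidAlgebra.single i (F a) * AddMonoidAlgebra.single j (F b)
        rw [SetLike.coe_gMul, map_mul, AddMonoidAlgebra.single_mul_single])
  let f : A →ₐ[R] AddMonoidAlgebra R' M := G.comp (DirectSum.decomposeAlgEquiv 𝒜).toAlgHom
  have hf : ∀ m, ∀ a ∈ 𝒜 m, f a = AddMonoidAlgebra.single m (F a) := by
    intro m a ha
    change G (DirectSum.decompose 𝒜 a) = _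
    rw [DirectSum.decompose_of_mem 𝒜 ha]
    exact DirectSum.toModule_lof R _ _
  refine ⟨f, ⟨fun m a ha => by rw [hf m a ha, hcu], fun m hm a ha => by rw [hf m a ha, hF m hm a ha, AddMonoidAlgebra.single_zero], fun a => ?_⟩, fun g hg => ?_⟩
  · conv_rhs => rw [← DirectSum.sum_support_decompose 𝒜 a, map_sum]
    conv_lhs => rw [← DirectSum.sum_support_decompose 𝒜 a, map_sum, map_sum]
    exact Finset.sum_congr rfl fun m _ => by rw [hf m _ (DirectSum.decompose 𝒜 a m).2, hcu]
  · refine AlgHom.ext fun a => ?_
    conv_rhs => rw [← DirectSum.sum_support_decompose 𝒜 a, map_sum]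
    conv_lhs => rw [← DirectSum.sum_support_decompose 𝒜 a, map_sum]
    refine Finset.sum_congr rfl fun m _ => ?_
    rw [hf m _ (DirectSum.decompose 𝒜 a m).2, hg.1 m _ (DirectSum.decompose 𝒜 a m).2, hg.2.2]

end Groth.Agent.S17682
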