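import Groth.Statements.S17683
import Mathlib

set_option autoImplicit false
universe u
open DiagMon

namespace Groth.Agent.S17683

/-- Let N be a commutative monoid and F a submonoid of N. The additive projection ℤ[N] → ℤ[F] of monoid
algebras keeping the monomials with exponent in F and killing the others is multiplicative, i.e. F
is a face of N, if and only if for all x, y in N the sum x + y lies in F exactly when both x and y
do. -/
theorem result {N : Type u} [AddCommMonoid N] (F : AddSubmonoid N) :
    (∀ a b : AddMonoidAlgebra ℤ N,
        AddMonoidAlgebra.comapDomain ((↑) : F → N) Subtype.val_injective (a * b) =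
          AddMonoidAlgebra.comapDomain ((↑) : F → N) Subtype.val_injective a *
            AddMonoidAlgebra.comapDomain ((↑) : F → N) Subtype.val_injective b) ↔
      ∀ x y : N, x + y ∈ F ↔ (x ∈ F ∧ y ∈ F) := by
  classical
  have hc : ∀ (x : N) (r : ℤ) (z : F), (AddMonoidAlgebra.comapDomain ((↑) : F → N) Subtype.val_injective
      (AddMonoidAlgebra.single x r)).coeff z = if x = (z : N) then r else 0 := fun x r z => by
    simp [AddMonoidAlgebra.comapDomain, Finsupp.comapDomain_apply, Finsupp.single_apply]
  have hz : ∀ (x : N) (r : ℤ), x ∉ F → AddMonoidAlgebra.comapDomain ((↑) : F → N) Subtype.val_injective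
      (AddMonoidAlgebra.single x r) = 0 := fun x r hx => by
    refine AddMonoidAlgebra.coeff_injective (Finsupp.ext fun z => ?_)
    rw [hc, if_neg (fun e : x = (z : N) => hx (by rw [e]; exact z.2))]; simp
  have hm : ∀ (x : F) (r : ℤ), AddMonoidAlgebra.comapDomain ((↑) : F → N) Subtype.val_injective
      (AddMonoidAlgebra.single (x : N) r) = AddMonoidAlgebra.single x r := fun x r => by
    refine AddMonoidAlgebra.coeff_injective (Finsupp.ext fun z => ?_)
    rw [hc, AddMonoidAlgebra.coeff_single, Finsupp.single_apply]
    exact if_congr Subtype.coe_injective.eq_iff rfl rfl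
  constructor
  · intro h x y
    refine ⟨fun hxy => ?_, fun ⟨hx, hy⟩ => F.add_mem hx hy⟩
    have h1 := h (AddMonoidAlgebra.single x 1) (AddMonoidAlgebra.single y 1)
    rw [AddMonoidAlgebra.single_mul_single, mul_one, hm ⟨_, hxy⟩] at h1
    constructor <;> by_contra hne
    · rw [hz x 1 hne, zero_mul, AddMonoidAlgebra.single_eq_zero] at h1; exact one_ne_zero h1
    · rw [hz y 1 hne, mul_zero, AddMonoidAlgebra.single_eq_zero] at h1; exact one_ne_zero h1
  · intro h a b
    induction a using AddMonoidAlgebra.induction_linear with
    | zero => simp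
    | add a a' ha ha' => rw [add_mul, AddMonoidAlgebra.comapDomain_add, AddMonoidAlgebra.comapDomain_add, ha, ha', add_mul]
    | single x r =>
      induction b using AddMonoidAlgebra.induction_linear with
      | zero => simp
      | add b b' hb hb' => rw [mul_add, AddMonoidAlgebra.comapDomain_add, AddMonoidAlgebra.comapDomain_add, hb, hb', mul_add]
      | single y s =>
        rw [AddMonoidAlgebra.single_mul_single]
        by_cases hx : x ∈ F
        · by_cases hy : y ∈ F
          · rw [hm ⟨x, hx⟩, hm ⟨y, hy⟩, hm ⟨x + y, F.add_mem hx hy⟩, AddMonoidAlgebra.single_mul_single]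
            rfl
          · rw [hz y s hy, mul_zero, hz _ _ (fun e => hy ((h x y).mp e).2)]
        · rw [hz x r hx, zero_mul, hz _ _ (fun e => hx ((h x y).mp e).1)]

end Groth.Agent.S17683
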