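import Groth.Statements.S17684
import Mathlib

set_option autoImplicit false
universe u
open DiagMon

namespace Groth.Agent.S17684

/-- Let N ⊆ L ⊆ L' be submonoids of a commutative monoid M and suppose L is a face of L', that is, for
x, y in L' the sum x + y lies in L exactly when x and y do. Then the set difference of L' by the
difference of L and N is the underlying set of a submonoid N' of M containing N, and N is a face of
N'. (The published statement also identifies the monoid scheme of N' over any base with a push-out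
of schemes; that clause is not stated here.) -/
theorem result (M : Type u) [AddCommMonoid M] (N L L' : AddSubmonoid M)
    (hNL : N ≤ L) (hLL' : L ≤ L') (hface : ∀ x ∈ L', ∀ y ∈ L', x + y ∈ L ↔ (x ∈ L ∧ y ∈ L)) :
    ∃ N' : AddSubmonoid M, (N' : Set M) = (L' : Set M) \ ((L : Set M) \ (N : Set M)) ∧ N ≤ N' ∧
      ∀ x ∈ N', ∀ y ∈ N', x + y ∈ N ↔ (x ∈ N ∧ y ∈ N) := by
  refine ⟨{ carrier := {x | x ∈ L' ∧ (x ∈ L → x ∈ N)}
            add_mem' := fun {x y} hx hy => ⟨add_mem hx.1 hy.1, fun h => by
              obtain ⟨h1, h2⟩ := (hface x hx.1 y hy.1).mp h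
              exact add_mem (hx.2 h1) (hy.2 h2)⟩
            zero_mem' := ⟨zero_mem _, fun _ => zero_mem _⟩ }, ?_, fun x hx => ⟨hLL' (hNL hx), fun _ => hx⟩,
    fun x hx y hy => ⟨fun h => ?_, fun h => add_mem h.1 h.2⟩⟩
  · ext x
    simp only [AddSubmonoid.coe_set_mk, AddSubsemigroup.coe_set_mk, Set.mem_ofPred_eq, Set.mem_diff,
      SetLike.mem_coe, Set.mem_setOf_eq]
    tauto
  · obtain ⟨h1, h2⟩ := (hface x hx.1 y hy.1).mp (hNL h)
    exact ⟨hx.2 h1, hy.2 h2⟩

end Groth.Agent.S17684
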