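import Groth.Statements.S17685
import Groth.Agent.EssFreeLocus.Basic

set_option autoImplicit false
universe u
open CategoryTheory MonoidalCategory CartesianMonoidalCategory MonObj GrpObj AlgebraicGeometry
open AlgGrp CategoryTheory.Limits

namespace Groth.Agent.S17685

open CategoryTheory AlgebraicGeometry in
/-- A finite flat morphism locally of finite presentation is essentially free. -/
theorem isEssentiallyFree_of_finite_flat {P X : Scheme.{u}} (h : P ⟶ X) [IsFinite h] [Flat h]
    [LocallyOfFinitePresentation h] : SGA3x.IsEssentiallyFree h := by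
  intro x
  obtain ⟨U, hU, hxU, -⟩ := exists_isAffineOpen_mem_and_subset (X := X) (x := x) (U := ⊤) trivial
  haveI : IsAffine (U : Scheme.{u}) := hU
  refine ⟨U, hxU, hU, U, hU, 𝟙 _, inferInstance, inferInstance, fun p => ⟨⊤, trivial, ?_, ?_⟩⟩
  · haveI : IsAffine (Limits.pullback h (𝟙 (U : Scheme.{u}) ≫ U.ι)) :=
      isAffine_of_isAffineHom (Limits.pullback.snd h (𝟙 (U : Scheme.{u}) ≫ U.ι))
    exact isAffineOpen_top _
  · haveI : IsAffine (Limits.pullback h (𝟙 (U : Scheme.{u}) ≫ U.ι)) :=
      isAffine_of_isAffineHom (Limits.pullback.snd h (𝟙 (U : Scheme.{u}) ≫ U.ι))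
    let s := Limits.pullback.snd h (𝟙 (U : Scheme.{u}) ≫ U.ι)
    let k := (⊤ : (Limits.pullback h (𝟙 (U : Scheme.{u}) ≫ U.ι)).Opens).ι ≫ s
    haveI : IsAffine ((⊤ : (Limits.pullback h (𝟙 (U : Scheme.{u}) ≫ U.ι)).Opens) : Scheme.{u}) := isAffineOpen_top _
    haveI : IsIso (⊤ : (Limits.pullback h (𝟙 (U : Scheme.{u}) ≫ U.ι)).Opens).ι :=
      (Scheme.topIso _).isIso_hom
    haveI : IsFinite k := inferInstanceAs (IsFinite (_ ≫ _))
    have h1 : k.appTop.hom.Finite := ((HasAffineProperty.iff_of_isAffine (P := @IsFinite)).mp inferInstance).2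
    have h2 : k.appTop.hom.Flat := HasRingHomProperty.appTop (P := @Flat) k inferInstance
    have h3 : k.appTop.hom.FinitePresentation :=
      HasRingHomProperty.appTop (P := @LocallyOfFinitePresentation) k inferInstance
    algebraize [k.appTop.hom]
    haveI := Module.FinitePresentation.of_finite_of_finitePresentation Γ((U : Scheme.{u}), ⊤)
      Γ(((⊤ : (Limits.pullback h (𝟙 (U : Scheme.{u}) ≫ U.ι)).Opens) : Scheme.{u}), ⊤)
    exact Module.Flat.projective_of_finitePresentation


/-- Let S be a scheme, F an S-scheme that is finite locally free over S (finite, flat and locally of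
finite presentation) with a section e of F over S which is a surjective closed immersion (an
infinitesimal pointed S-scheme), and X an S-scheme with an action of the pointed scheme F, i.e. an
S-morphism F ×_S X → X through which e acts as the identity. Then the subfunctor of F-fixed points
of X, whose T-points are the T-points x of X with g · x_{T'} = x_{T'} for every S-scheme T' over T
and every T'-point g of F, is represented by a closed subscheme of X. (The source allows F and X to
be algebraic spaces over S; this row is the case of schemes.) -/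
theorem result (S : Scheme.{u})
    (F X : Over S) (e : 𝟙_ (Over S) ⟶ F) (act : F ⊗ X ⟶ X) (he : (e ▷ X) ≫ act = (λ_ X).hom)
    [IsFinite F.hom] [Flat F.hom] [LocallyOfFinitePresentation F.hom]
    [IsClosedImmersion e.left] [Surjective e.left] :
    ∃ (Z : Scheme.{u}) (i : Z ⟶ X.left), IsClosedImmersion i ∧
      ∀ (T : Over S) (x : T ⟶ X), (∃ y : T.left ⟶ Z, y ≫ i = x.left) ↔
        ∀ (T' : Over S) (t : T' ⟶ T) (g : T' ⟶ F), lift g (t ≫ x) ≫ act = t ≫ x := by
  classical
  let P : Scheme.{u} := (F ⊗ X).left
  let pX : P ⟶ X.left := pullback.snd F.hom X.hom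
  let c : P ⟶ X.left := act.left
  have hw : c ≫ X.hom = pX ≫ X.hom := (Over.w act).trans pullback.condition
  let d : P ⟶ pullback X.hom X.hom := pullback.lift c pX hw
  let E : Scheme.{u} := pullback (pullback.diagonal X.hom) d
  let j : E ⟶ P := pullback.snd _ _
  -- the tautological section
  let σ : (𝟙_ (Over S) ⊗ X).left ⟶ P := (e ▷ X).left
  have hσsurj : Surjective σ := ⟨fun p => by
    have : p ∈ Set.range (pullback.map (𝟙_ (Over S)).hom X.hom F.hom X.hom e.left (𝟙 _) (𝟙 _) (by simp) (by simp)) := by
      rw [Scheme.Pullback.range_map]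
      exact ⟨e.left.surjective _, ⟨pullback.snd F.hom X.hom p, rfl⟩⟩
    exact this⟩
  have hσd : ∃ l, l ≫ j = σ := by
    have h1 : σ ≫ c = σ ≫ pX := by
      show (e ▷ X).left ≫ act.left = (e ▷ X).left ≫ (snd F X).left
      rw [← Over.comp_left, ← Over.comp_left, he, whiskerRight_snd, leftUnitor_hom]
    refine ⟨pullback.lift (σ ≫ c) σ ?_, pullback.lift_snd _ _ _⟩
    apply pullback.hom_ext
    · rw [Category.assoc, pullback.diagonal_fst, Category.comp_id, Category.assoc, pullback.lift_fst]
    · rw [Category.assoc, pullback.diagonal_snd, Category.comp_id, Category.assoc, pullback.lift_snd, h1]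
  obtain ⟨l₀, hl₀⟩ := hσd
  haveI : Surjective j := ⟨fun p => by
    obtain ⟨q, rfl⟩ := σ.surjective p
    exact ⟨l₀ q, by rw [← Scheme.Hom.comp_apply, hl₀]⟩⟩
  haveI : IsImmersion (pullback.diagonal X.hom) := inferInstance
  haveI : IsImmersion j := MorphismProperty.pullback_snd _ _ inferInstance
  haveI : IsClosedImmersion j := IsClosedImmersion.of_isPreimmersion j (by
    rw [j.surjective.range_eq]; exact isClosed_univ)
  haveI : IsFinite pX := MorphismProperty.pullback_snd _ _ inferInstance
  haveI : Flat pX := MorphismProperty.pullback_snd _ _ inferInstance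
  haveI : LocallyOfFinitePresentation pX := MorphismProperty.pullback_snd _ _ inferInstance
  obtain ⟨Z, i, hi, hrep, -⟩ :=
    Groth.Agent.EssFreeLocus.exists_closed_lands pX j (isEssentiallyFree_of_finite_flat pX)
  refine ⟨Z, i, hi, fun T x => (hrep T.left x.left).trans ⟨?_, fun H => ?_⟩⟩
  · rintro ⟨l, hl⟩ T' t g
    ext1
    let r : T'.left ⟶ pullback pX x.left := pullback.lift (lift g (t ≫ x)).left t.left (by
      show (lift g (t ≫ x)).left ≫ (snd F X).left = t.left ≫ x.left
      rw [← Over.comp_left, lift_snd, Over.comp_left])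
    have h1 : (r ≫ l) ≫ j = (lift g (t ≫ x)).left := by
      rw [Category.assoc, hl]
      exact pullback.lift_fst _ _ _
    have h2 : pullback.fst (pullback.diagonal X.hom) d ≫ pullback.diagonal X.hom = j ≫ d := pullback.condition
    have hc : j ≫ c = j ≫ pX := by
      have e1 := congrArg (· ≫ pullback.fst X.hom X.hom) h2
      have e2 := congrArg (· ≫ pullback.snd X.hom X.hom) h2
      rw [Category.assoc, pullback.diagonal_fst, Category.comp_id, Category.assoc, pullback.lift_fst] at e1
      rw [Category.assoc, pullback.diagonal_snd, Category.comp_id, Category.assoc, pullback.lift_snd] at e2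
      exact e1.symm.trans e2
    calc (lift g (t ≫ x) ≫ act).left = ((r ≫ l) ≫ j) ≫ c := by rw [h1]; rfl
      _ = ((r ≫ l) ≫ j) ≫ pX := by rw [Category.assoc, Category.assoc, hc, ← Category.assoc, ← Category.assoc]
      _ = (lift g (t ≫ x)).left ≫ (snd F X).left := by rw [h1]; rfl
      _ = (t ≫ x).left := by rw [← Over.comp_left, lift_snd]
  · let T' : Over S := Over.mk (pullback.snd pX x.left ≫ T.hom)
    let t : T' ⟶ T := Over.homMk (pullback.snd pX x.left) rfl
    let q : T' ⟶ F ⊗ X := Over.homMk (pullback.fst pX x.left) (by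
      show pullback.fst pX x.left ≫ pullback.fst F.hom X.hom ≫ F.hom = pullback.snd pX x.left ≫ T.hom
      rw [pullback.condition, ← Over.w x, ← pullback.condition_assoc])
    have hq : lift (q ≫ fst F X) (t ≫ x) = q := by
      apply CartesianMonoidalCategory.hom_ext
      · rw [lift_fst]
      · rw [lift_snd]
        ext1
        exact pullback.condition.symm
    have h1 := congrArg CommaMorphism.left (H T' t (q ≫ fst F X))
    rw [hq] at h1
    have h3 : pullback.fst pX x.left ≫ c = pullback.fst pX x.left ≫ pX := by
      have h4 : pullback.fst pX x.left ≫ c = pullback.snd pX x.left ≫ x.left := h1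
      rw [h4, pullback.condition]
    refine ⟨pullback.lift (pullback.fst pX x.left ≫ c) (pullback.fst pX x.left) ?_, pullback.lift_snd _ _ _⟩
    apply pullback.hom_ext
    · rw [Category.assoc, pullback.diagonal_fst, Category.comp_id, Category.assoc, pullback.lift_fst]
    · rw [Category.assoc, pullback.diagonal_snd, Category.comp_id, Category.assoc, pullback.lift_snd, h3]

end Groth.Agent.S17685
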