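import Groth.Statements.S17687
import Mathlib

set_option autoImplicit false
universe u v w
open DiagMon

namespace Groth.Agent.S17687

/-- Let R be a commutative ring and A a commutative R-algebra of finite type graded by a commutative
monoid M. Then the set of ideals J_N, N running over all submonoids of M, where J_N is generated by
the homogeneous elements of degree not in N (the ideal of the attractor of Spec A for the magnet N),
is finite: Spec A has finitely many attractors and hence finitely many pure magnets. (The source
assumes Spec A of finite presentation over the base; its proof uses only a finite set of homogeneous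
algebra generators, so finite type is assumed here.) -/
theorem result (R : Type u) [CommRing R] (A : Type v) [CommRing A]
    [Algebra R A] [Algebra.FiniteType R A] (M : Type w) [AddCommMonoid M] [DecidableEq M]
    (𝒜 : M → Submodule R A) [GradedAlgebra 𝒜] :
    (Set.range fun N : AddSubmonoid M => Ideal.span {a : A | ∃ m : M, m ∉ N ∧ a ∈ 𝒜 m}).Finite := by
  classical
  obtain ⟨S, hS⟩ := Algebra.FiniteType.out (R := R) (A := A)
  let gens : Finset (M × A) := S.biUnion fun a =>
    (DirectSum.decompose 𝒜 a).support.image fun i => (i, (DirectSum.decompose 𝒜 a i : A))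
  let f : Finset M → Ideal A := fun T => Ideal.span {a : A | ∃ m ∈ T, (m, a) ∈ gens}
  refine ((gens.image Prod.fst).powerset.finite_toSet.image f).subset ?_
  rintro _ ⟨N, rfl⟩
  refine ⟨(gens.image Prod.fst).filter (· ∉ N), Finset.mem_powerset.mpr (Finset.filter_subset _ _), ?_⟩
  change f _ = _
  set I := f ((gens.image Prod.fst).filter (· ∉ N)) with hI
  have hdeg : ∀ g ∈ gens, g.2 ∈ 𝒜 g.1 := by
    intro g hg
    simp only [gens, Finset.mem_biUnion, Finset.mem_image] at hg
    obtain ⟨a, -, i, -, rfl⟩ := hg
    exact SetLike.coe_mem _
  apply le_antisymm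
  · rw [hI, Ideal.span_le]
    rintro a ⟨m, hm, hma⟩
    exact Ideal.subset_span ⟨m, (Finset.mem_filter.mp hm).2, hdeg _ hma⟩
  · rw [Ideal.span_le]
    rintro a ⟨m, hm, ha⟩
    have key : ∀ x ∈ Algebra.adjoin R (S : Set A), ∀ m ∉ N, (DirectSum.decompose 𝒜 x m : A) ∈ I := by
      intro x hx
      induction hx using Algebra.adjoin_induction with
      | mem x hx =>
        intro m hm
        by_cases h0 : DirectSum.decompose 𝒜 x m = 0
        · rw [h0]; exact I.zero_mem
        · have hg : (m, (DirectSum.decompose 𝒜 x m : A)) ∈ gens :=
            Finset.mem_biUnion.mpr ⟨x, hx, Finset.mem_image.mpr ⟨m, DFinsupp.mem_support_iff.mpr h0, rfl⟩⟩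
          exact Ideal.subset_span ⟨m, Finset.mem_filter.mpr ⟨Finset.mem_image.mpr ⟨_, hg, rfl⟩, hm⟩, hg⟩
      | algebraMap r =>
        intro m hm
        rw [DirectSum.decompose_of_mem_ne 𝒜 (SetLike.algebraMap_mem_graded 𝒜 r) (fun e => hm (by rw [← e]; exact N.zero_mem))]
        exact I.zero_mem
      | add x y _ _ hx hy =>
        intro m hm
        rw [DirectSum.decompose_add, DirectSum.add_apply, AddMemClass.coe_add]
        exact I.add_mem (hx m hm) (hy m hm)
      | mul x y _ _ hx hy =>
        intro m hm
        rw [DirectSum.decompose_mul, DirectSum.coe_mul_apply]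
        refine Submodule.sum_mem _ fun ij hij => ?_
        simp only [Finset.mem_filter] at hij
        by_cases hi : ij.1 ∈ N
        · exact Ideal.mul_mem_left _ _ (hy _ fun hj => hm (hij.2 ▸ N.add_mem hi hj))
        · exact Ideal.mul_mem_right _ _ (hx _ hi)
    have := key a (hS ▸ Algebra.mem_top) m hm
    rwa [DirectSum.decompose_of_mem_same 𝒜 ha] at this

end Groth.Agent.S17687
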