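import Groth.Statements.S17688
import Groth.Agent.NeronLib.Dense

set_option autoImplicit false
universe u
open CategoryTheory CategoryTheory.Limits AlgebraicGeometry MonObj
open Neron

namespace Groth.Agent.S17688

/-- Let R be a discrete valuation ring whose fraction field K has characteristic p > 0, and let U be a
flat, separated, commutative group scheme over Spec R whose generic fibre U_K is annihilated by a
power p^N of p (in the group of endomorphisms of U_K as a K-scheme, the p^N-th power of the identity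
is the unit). Then for every prime ℓ invertible in R the ℓ-th power map of U (the ℓ-th power of the
identity in the group of R-morphisms U → U) is an isomorphism. -/
theorem result
    (R : Type u) [CommRing R] [IsDomain R] [IsDiscreteValuationRing R]
    (p : ℕ) (hp : p.Prime) [CharP (FractionRing R) p]
    (U : Over (Spec (CommRingCat.of R))) [GrpObj U] [IsCommMonObj U] [Flat U.hom] [IsSeparated U.hom]
    (N : ℕ) (hN : (𝟙 (Red.bc (Neron.genPt R) U) : Red.bc (Neron.genPt R) U ⟶ Red.bc (Neron.genPt R) U) ^ (p ^ N) = 1)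
    (ℓ : ℕ) (hℓ : ℓ.Prime) (hℓu : IsUnit (ℓ : R)) :
    IsIso ((𝟙 U : U ⟶ U) ^ ℓ) := by
  have hℓp : ℓ ≠ p := by
    rintro rfl
    have h := hℓu.map (algebraMap R (FractionRing R))
    rw [map_natCast, CharP.cast_eq_zero] at h
    exact not_isUnit_zero h
  have hU : ((𝟙 U : U ⟶ U) ^ (p ^ N)) = 1 := by
    apply Groth.Agent.NeronLib.Dense.eq_of_genericFibre_map_eq R
    have h := (CategoryTheory.Functor.homMonoidHom (Neron.genericFibre R) (X := U) (M := U)).map_pow
      (𝟙 U) (p ^ N)
    rw [show (Neron.genericFibre R).map ((𝟙 U : U ⟶ U) ^ (p ^ N)) =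
      ((Neron.genericFibre R).map (𝟙 U)) ^ (p ^ N) from h]
    rw [CategoryTheory.Functor.map_id, CategoryTheory.Functor.map_one]
    exact hN
  have hcomp : ∀ a b : ℕ, ((𝟙 U : U ⟶ U) ^ a) ≫ (𝟙 U : U ⟶ U) ^ b = (𝟙 U : U ⟶ U) ^ (a * b) := by
    intro a b
    rw [MonObj.comp_pow, Category.comp_id, pow_mul]
  have hcop : Nat.Coprime ℓ (p ^ N) :=
    Nat.Coprime.pow_right N ((Nat.coprime_primes hℓ hp).2 hℓp)
  by_cases hN1 : p ^ N = 1
  · have hone : (𝟙 U : U ⟶ U) = 1 := by simpa [hN1] using hU
    refine ⟨𝟙 U, ?_, ?_⟩ <;> simp [hone]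
    all_goals simp [← hone]
  obtain ⟨a, -, ha⟩ := Nat.exists_mul_mod_eq_one_of_coprime hcop
    (by have := Nat.one_le_pow N p hp.pos; omega)
  refine ⟨(𝟙 U : U ⟶ U) ^ a, ?_, ?_⟩
  · rw [hcomp, pow_eq_pow_mod _ hU, ha, pow_one]
  · rw [hcomp, mul_comm, pow_eq_pow_mod _ hU, ha, pow_one]

end Groth.Agent.S17688
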