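import Groth.Statements.S17689
import Mathlib.AlgebraicGeometry.Morphisms.UniversallyInjective
import Mathlib.AlgebraicGeometry.Morphisms.Finite
import Mathlib.AlgebraicGeometry.Morphisms.UniversallyClosed
import Mathlib.AlgebraicGeometry.Pullbacks
import Mathlib.RingTheory.Spectrum.Prime.Homeomorph
import Mathlib.RingTheory.IntegralClosure.IntegrallyClosed
import Mathlib.RingTheory.Polynomial.RationalRoot
import Mathlib.Algebra.CharP.Lemmas

set_option autoImplicit false
universe u
open CategoryTheory AlgebraicGeometry
open Neron

namespace Groth.Agent.S17689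

lemma cast_eq_zero_of_prime (K : Type u) [Field K] {q : ℕ} [h : ExpChar K q] (hp : q.Prime) :
    (q : K) = 0 := by
  cases h
  · exact absurd hp Nat.not_prime_one
  · exact CharP.cast_eq_zero K q

open scoped TensorProduct in
lemma diag_surjective (R S K L : Type u) [CommRing R] [IsDomain R] [IsDiscreteValuationRing R]
    [CommRing S] [Algebra R S] [Module.Finite R S]
    [Field K] [Field L] [Algebra R K] [IsFractionRing R K] [Algebra S L]
    (hinj : Function.Injective (algebraMap S L))
    [Algebra K L] [Algebra R L] [IsScalarTower R S L] [IsScalarTower R K L] [IsPurelyInseparable K L] :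
    Function.Surjective (PrimeSpectrum.comap
      (Algebra.TensorProduct.lmul' R : S ⊗[R] S →ₐ[R] S).toRingHom) := by
  set q := ringExpChar K with hq
  haveI : ExpChar K q := inferInstance
  have hadd : ∀ (n : ℕ) (a b : S ⊗[R] S), (a + b) ^ q ^ n = a ^ q ^ n + b ^ q ^ n := by
    intro n a b
    rcases expChar_is_prime_or_one K q with hp | h1
    · haveI := Fact.mk hp
      rcases subsingleton_or_nontrivial (S ⊗[R] S) with h | h
      · exact Subsingleton.elim _ _
      · have hR : (q : R) = 0 := IsFractionRing.injective R K (by simp [cast_eq_zero_of_prime K hp])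
        haveI : CharP (S ⊗[R] S) q := (CharP.charP_iff_prime_eq_zero hp).2
          (by rw [← map_natCast (algebraMap R (S ⊗[R] S)), hR, map_zero])
        exact add_pow_char_pow a b q n
    · simp [h1]
  have hqpos : 0 < q := expChar_pos K q
  have hS : ∀ s : S, ∃ (n : ℕ) (r : R), algebraMap R S r = s ^ q ^ n := by
    intro s
    obtain ⟨n, y, hy⟩ := IsPurelyInseparable.pow_mem K q (algebraMap S L s)
    have hint : IsIntegral R y := by
      rw [← isIntegral_algebraMap_iff (algebraMap K L).injective (A := K) (B := L), hy, ← map_pow]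
      exact (Algebra.IsIntegral.isIntegral (R := R) (s ^ q ^ n)).algebraMap
    obtain ⟨r, hr⟩ := (isIntegrallyClosed_iff K).1 inferInstance hint
    refine ⟨n, r, hinj ?_⟩
    rw [← IsScalarTower.algebraMap_apply, IsScalarTower.algebraMap_apply R K L, hr, hy, map_pow]
  have hT : ∀ x : S ⊗[R] S, ∃ (n : ℕ) (r : R), algebraMap R (S ⊗[R] S) r = x ^ q ^ n := by
    have hup : ∀ (x : S ⊗[R] S) (n m : ℕ) (r : R), algebraMap R (S ⊗[R] S) r = x ^ q ^ n →
        algebraMap R (S ⊗[R] S) (r ^ q ^ m) = x ^ q ^ (n + m) := fun x n m r h => by
      rw [map_pow, h, ← pow_mul, ← pow_add]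
    intro x
    induction x using TensorProduct.induction_on with
    | zero => exact ⟨0, 0, by simp⟩
    | tmul a b =>
      obtain ⟨n, r, hr⟩ := hS a
      obtain ⟨m, r', hr'⟩ := hS b
      refine ⟨n + m, r ^ q ^ m * r' ^ q ^ n, ?_⟩
      rw [map_mul]
      have e1 : algebraMap R (S ⊗[R] S) (r ^ q ^ m) = (a ⊗ₜ[R] (1 : S)) ^ q ^ (n + m) := by
        refine hup _ n m r ?_
        rw [Algebra.TensorProduct.tmul_pow, one_pow, ← hr, Algebra.TensorProduct.algebraMap_apply]
      have e2 : algebraMap R (S ⊗[R] S) (r' ^ q ^ n) = ((1 : S) ⊗ₜ[R] b) ^ q ^ (n + m) := by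
        rw [add_comm n m]
        refine hup _ m n r' ?_
        rw [Algebra.TensorProduct.tmul_pow, one_pow, ← hr', Algebra.TensorProduct.algebraMap_apply']
      rw [e1, e2, ← mul_pow, Algebra.TensorProduct.tmul_mul_tmul, mul_one, one_mul]
    | add a b ha hb =>
      obtain ⟨n, r, hr⟩ := ha
      obtain ⟨m, r', hr'⟩ := hb
      refine ⟨n + m, r ^ q ^ m + r' ^ q ^ n, ?_⟩
      rw [hadd, map_add, hup a n m r hr, hup b m n r' hr', add_comm m n]
  refine (PrimeSpectrum.isHomeomorph_comap _ (fun s => ?_) ?_).bijective.2
  · exact ⟨1, one_pos, s ⊗ₜ 1, by simp⟩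
  · intro x hx
    obtain ⟨n, r, hr⟩ := hT x
    refine ⟨q ^ n, ?_⟩
    have h := congrArg (Algebra.TensorProduct.lmul' R : S ⊗[R] S →ₐ[R] S) hr
    rw [map_pow, AlgHom.commutes] at h
    have hx' : (Algebra.TensorProduct.lmul' R : S ⊗[R] S →ₐ[R] S) x = 0 := hx
    rw [hx', zero_pow (pow_pos hqpos n).ne'] at h
    have hr0 : r = 0 := by
      apply IsFractionRing.injective R K
      apply (algebraMap K L).injective
      rw [← IsScalarTower.algebraMap_apply, IsScalarTower.algebraMap_apply R S L, h]
      simp
    rw [← hr, hr0, map_zero]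
    exact Submodule.zero_mem _

open CategoryTheory AlgebraicGeometry in
lemma main (R S K L : Type u) [CommRing R] [IsDomain R] [IsDiscreteValuationRing R]
    [CommRing S] [IsDomain S] [IsDiscreteValuationRing S] [Algebra R S] [Module.Finite R S] [FaithfulSMul R S]
    [Field K] [Field L] [Algebra R K] [IsFractionRing R K] [Algebra S L] [IsFractionRing S L]
    [Algebra K L] [Algebra R L] [IsScalarTower R S L] [IsScalarTower R K L] [IsPurelyInseparable K L] :
    FlatMor.IsUnivHomeo (Spec.map (CommRingCat.ofHom (algebraMap R S))) := by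
  set f := Spec.map (CommRingCat.ofHom (algebraMap R S))
  haveI : IsFinite f := by
    rw [IsFinite.SpecMap_iff]
    exact RingHom.finite_algebraMap.2 inferInstance
  haveI : Surjective f := ⟨RingHom.IsIntegral.comap_surjective
    (algebraMap_isIntegral_iff.2 inferInstance) (FaithfulSMul.algebraMap_injective R S)⟩
  haveI : UniversallyInjective f := by
    rw [UniversallyInjective.iff_diagonal, diagonal_SpecMap]
    haveI : Surjective (Spec.map (CommRingCat.ofHom
        (Algebra.TensorProduct.lmul' R : TensorProduct R S S →ₐ[R] S).toRingHom)) :=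
      ⟨diag_surjective R S K L (IsFractionRing.injective S L)⟩
    infer_instance
  intro X Y i₁ i₂ f' H
  haveI : IsFinite f' := MorphismProperty.of_isPullback H.flip inferInstance
  haveI : Surjective f' := MorphismProperty.of_isPullback H.flip inferInstance
  haveI : UniversallyInjective f' := MorphismProperty.of_isPullback H.flip inferInstance
  show IsHomeomorph f'.base
  rw [isHomeomorph_iff_continuous_isClosedMap_bijective]
  exact ⟨f'.continuous, f'.isClosedMap, f'.injective, f'.surjective⟩

/-- Let R ⊆ S be a finite extension of discrete valuation rings (the structure map R → S is injective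
and S is a finite R-module) such that the induced extension K ⊆ L of fraction fields is purely
inseparable. Then the morphism Spec S → Spec R is a universal homeomorphism: every base change of it
is a homeomorphism on underlying spaces. (No excellence hypothesis is needed here.) -/
theorem result
    (R S K L : Type u) [CommRing R] [IsDomain R] [IsDiscreteValuationRing R]
    [CommRing S] [IsDomain S] [IsDiscreteValuationRing S] [Algebra R S] [Module.Finite R S] [FaithfulSMul R S]
    [Field K] [Field L] [Algebra R K] [IsFractionRing R K] [Algebra S L] [IsFractionRing S L]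
    [Algebra K L] [Algebra R L] [IsScalarTower R S L] [IsScalarTower R K L] [IsPurelyInseparable K L] :
    FlatMor.IsUnivHomeo (Spec.map (CommRingCat.ofHom (algebraMap R S))) := by
  exact main R S K L

end Groth.Agent.S17689
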