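import Groth.Statements.S17690
import Groth.Agent.Nagata.QuasiExcellent
import Groth.Agent.Props.N2Local

set_option autoImplicit false
universe u
open Neron

namespace Groth.Agent.S17690

/-- Let R be an excellent discrete valuation ring (Noetherian, universally catenary, G-ring, J-2) with
fraction field K, and let L be a finite purely inseparable field extension of K. Then the integral
closure S of R in L is a discrete valuation ring, and S is a finite R-module. -/
theorem result
    (R K L : Type u) [CommRing R] [IsDomain R] [IsDiscreteValuationRing R] (hR : EGA4.IsExcellent R)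
    [Field K] [Algebra R K] [IsFractionRing R K] [Field L] [Algebra K L] [FiniteDimensional K L]
    [IsPurelyInseparable K L] [Algebra R L] [IsScalarTower R K L] :
    IsDiscreteValuationRing ↥(integralClosure R L) ∧ Module.Finite R ↥(integralClosure R L) := by
  obtain ⟨hNoeth, -, hG, hJ⟩ := hR
  have hNag : CAlg.IsNagata R :=
    Groth.Agent.Nagata.QuasiExcellent.isNagata_of_isJ2 R (fun m _ =>
      Groth.Agent.Nagata.QuasiExcellent.isNagata_localization_of_isGRing R hG m) hJ
  have hN2 : CAlg.IsN2 R := (Groth.Agent.Props.N2Local.isNagata_iff.mp hNag).2 R Function.surjective_id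
  let e : FractionRing R ≃ₐ[R] K := FractionRing.algEquiv R K
  let _ : Algebra (FractionRing R) K := e.toRingEquiv.toRingHom.toAlgebra
  let _ : Algebra (FractionRing R) L := ((algebraMap K L).comp e.toRingEquiv.toRingHom).toAlgebra
  have : IsScalarTower (FractionRing R) K L := IsScalarTower.of_algebraMap_eq fun _ => rfl
  have : IsScalarTower R (FractionRing R) L := IsScalarTower.of_algebraMap_eq fun r => by
    show algebraMap R L r = algebraMap K L (e (algebraMap R (FractionRing R) r))
    rw [e.commutes, ← IsScalarTower.algebraMap_apply]
  have : Module.Finite (FractionRing R) K :=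
    Module.Finite.of_surjective (Algebra.linearMap (FractionRing R) K) e.surjective
  have hfd : FiniteDimensional (FractionRing R) L := Module.Finite.trans K L
  have hfin : Module.Finite R (integralClosure R L) := hN2 L hfd
  refine ⟨?_, hfin⟩
  set S := integralClosure R L
  have : IsNoetherianRing S := IsNoetherianRing.of_finite R S
  have hinjL : Function.Injective (algebraMap R L) := by
    rw [IsScalarTower.algebraMap_eq R K L]
    exact (algebraMap K L).injective.comp (IsFractionRing.injective R K)
  have : IsFractionRing S L := integralClosure.isFractionRing_of_finite_extension K L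
  have : IsIntegrallyClosed S := integralClosure.isIntegrallyClosedOfFiniteExtension K
  have hinj : Function.Injective (algebraMap R S) := fun a b h =>
    hinjL (congrArg (fun z : S => (z : L)) h)
  have : Algebra.IsIntegral R S := inferInstance
  have : Ring.DimensionLEOne S := Ring.DimensionLEOne.integralClosure R L
  have hdd : IsDedekindDomain S := {}
  obtain ⟨q, hq⟩ := ExpChar.exists K
  -- the prime of `S` over the maximal ideal is unique, as `S` is radicial over `R`
  have key : ∀ x : S, ∃ m : ℕ, 0 < m ∧ ∃ r : R, algebraMap R S r = x ^ m := fun x => by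
    obtain ⟨n, y, hy⟩ := IsPurelyInseparable.pow_mem K q (x : L)
    have hint : IsIntegral R y := by
      have : IsIntegral R (algebraMap K L y) := hy ▸ (x.2 : IsIntegral R (x : L)).pow _
      exact (isIntegral_algebraMap_iff (algebraMap K L).injective).mp this
    obtain ⟨r, hr⟩ := IsIntegrallyClosed.isIntegral_iff.mp hint
    refine ⟨q ^ n, pow_pos (expChar_pos K q) n, r, Subtype.ext ?_⟩
    show algebraMap R L r = (x : L) ^ (q ^ n)
    rw [IsScalarTower.algebraMap_apply R K L, hr, hy]
  have : IsLocalRing S := by
    refine IsLocalRing.of_unique_max_ideal ?_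
    obtain ⟨M, hM⟩ := Ideal.exists_maximal S
    refine ⟨M, hM, fun N hN => ?_⟩
    have hover : ∀ P : Ideal S, P.IsMaximal → P.comap (algebraMap R S) = IsLocalRing.maximalIdeal R :=
      fun P hP => IsLocalRing.eq_maximalIdeal (Ideal.isMaximal_comap_of_isIntegral_of_isMaximal P)
    have hmem : ∀ P : Ideal S, P.IsMaximal → ∀ (x : S) (m : ℕ) (r : R), 0 < m → algebraMap R S r = x ^ m →
        (x ∈ P ↔ r ∈ IsLocalRing.maximalIdeal R) := fun P hP x m r hm hr => by
      rw [← hover P hP, Ideal.mem_comap, hr]
      exact (hP.isPrime.pow_mem_iff_mem m hm).symm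
    ext x
    obtain ⟨m, hm, r, hr⟩ := key x
    rw [hmem N hN x m r hm hr, hmem M hM x m r hm hr]
  have hnotfield : ¬IsField S := fun h =>
    IsDiscreteValuationRing.not_isField R (isField_of_isIntegral_of_isField hinj h)
  exact ((IsDiscreteValuationRing.TFAE S hnotfield).out 2 0).mp hdd

end Groth.Agent.S17690
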