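import Groth.Statements.S17693
import Groth.Agent.MorSGlue.Weil
import Groth.Agent.MorSGlue.GrpArt

set_option autoImplicit false
set_option backward.isDefEq.respectTransparency false
universe u
open CategoryTheory CategoryTheory.Limits AlgebraicGeometry
open WeilRes

namespace Groth.Agent.S17693

/-- Let k be a field, A a finite k-algebra and G a group scheme of finite type over Spec A, not
necessarily smooth. Then the Weil restriction of G along Spec A → Spec k is representable: there
exist a k-scheme R and an A-morphism q : R ×_k Spec A → G such that for every k-scheme T the map g ↦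
(g ×_k Spec A) ≫ q is a bijection from k-morphisms T → R onto A-morphisms T ×_k Spec A → G. (The
published statement adds that the representing k-group scheme is quasi-projective; only
representability is stated here.) -/
theorem result
    (k A : Type u) [Field k] [CommRing A] [Algebra k A] [Module.Finite k A]
    (G : Over (Spec (CommRingCat.of A))) [GrpObj G] [LocallyOfFiniteType G.hom] [QuasiCompact G.hom] :
    ∃ (R : Over (Spec (CommRingCat.of k)))
      (q : Red.bc (Spec.map (CommRingCat.ofHom (algebraMap k A))) R ⟶ G),
      WeilRes.IsWeilRes (Spec.map (CommRingCat.ofHom (algebraMap k A))) G R q := by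
  let f := Spec.map (CommRingCat.ofHom (algebraMap k A))
  have : IsArtinianRing A := IsArtinianRing.of_finite k A
  have : IsFinite f := (IsFinite.SpecMap_iff _).2 (RingHom.finite_algebraMap.2 inferInstance)
  have : Flat f := (Flat.SpecMap_iff).2 (RingHom.flat_algebraMap_iff.2 inferInstance)
  have : LocallyOfFinitePresentation f :=
    (HasRingHomProperty.Spec_iff (P := @LocallyOfFinitePresentation)).2
      (RingHom.finitePresentation_algebraMap.2 (Algebra.FinitePresentation.of_finiteType.1 inferInstance))
  have hlf : Mor2.IsFinLocFree f := ⟨inferInstance, inferInstance, inferInstance⟩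
  refine Groth.Agent.MorSGlue.exists_isWeilRes f hlf G
    (Groth.Agent.MorSGlue.representable f (G.hom ≫ f) hlf fun s d x _ => ?_)
  obtain ⟨U, hU, hxU⟩ := Groth.Agent.MorSGlue.exists_affine_of_finite_grp G (Set.finite_range x)
  exact ⟨U, hU, fun k => hxU ⟨k, rfl⟩⟩

end Groth.Agent.S17693
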