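import Groth.Statements.S17694
import Groth.Agent.AbSch51.TorusToProper
import Groth.Agent.DiagRig.MaxSplit
import Groth.Agent.DiagRig.TorusQuot

set_option autoImplicit false
set_option synthInstance.maxHeartbeats 400000
set_option maxHeartbeats 1000000
set_option backward.isDefEq.respectTransparency false
set_option backward.isDefEq.respectTransparency.types false
universe u
open CategoryTheory CategoryTheory.Limits AlgebraicGeometry MonObj
open WeilRes

namespace Groth.Agent.S17694

open MonoidalCategory CartesianMonoidalCategory in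
open scoped CategoryTheory.Obj in
lemma isMonHom_natTrans_app₂ {C D₁ D₂ E : Type*} [Category C] [Category D₁] [Category D₂] [Category E]
    [CartesianMonoidalCategory C] [CartesianMonoidalCategory D₁] [CartesianMonoidalCategory D₂]
    [CartesianMonoidalCategory E] {F₁ : C ⥤ D₁} {F₂ : D₁ ⥤ E} {G₁ : C ⥤ D₂} {G₂ : D₂ ⥤ E}
    [F₁.Monoidal] [F₂.Monoidal] [G₁.Monoidal] [G₂.Monoidal] (α : F₁ ⋙ F₂ ⟶ G₁ ⋙ G₂) (M : C) [MonObj M] :
    IsMonHom (M := F₂.obj (F₁.obj M)) (N := G₂.obj (G₁.obj M)) (α.app M) where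
  one_hom := by
    have h1 := NatTrans.IsMonoidal.unit (τ := α)
    have h2 := α.naturality η[M]
    simp only [Functor.comp_obj, Functor.comp_map, Functor.LaxMonoidal.comp_ε, Category.assoc] at h1 h2
    change (Functor.LaxMonoidal.ε F₂ ≫ F₂.map (Functor.LaxMonoidal.ε F₁ ≫ F₁.map η[M])) ≫ α.app M =
      Functor.LaxMonoidal.ε G₂ ≫ G₂.map (Functor.LaxMonoidal.ε G₁ ≫ G₁.map η[M])
    simp only [Functor.map_comp, Category.assoc]
    rw [h2, reassoc_of% h1]
  mul_hom := by
    have h1 := NatTrans.IsMonoidal.tensor (τ := α) M M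
    have h2 := α.naturality μ[M]
    simp only [Functor.comp_obj, Functor.comp_map, Functor.LaxMonoidal.comp_μ, Category.assoc] at h1 h2
    change (Functor.LaxMonoidal.μ F₂ _ _ ≫ F₂.map (Functor.LaxMonoidal.μ F₁ M M ≫ F₁.map μ[M])) ≫ α.app M =
      (α.app M ⊗ₘ α.app M) ≫ Functor.LaxMonoidal.μ G₂ _ _ ≫ G₂.map (Functor.LaxMonoidal.μ G₁ M M ≫ G₁.map μ[M])
    simp only [Functor.map_comp, Category.assoc]
    rw [h2, reassoc_of% h1]

/-- The comparison morphism of iterated base changes. -/
noncomputable def sqHom {A X Y Z : Scheme.{u}} (p : A ⟶ X) (p' : X ⟶ Z) (f : A ⟶ Y) (f' : Y ⟶ Z)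
    (w : p ≫ p' = f ≫ f') (M : Over Z) :
    pullback (pullback.snd M.hom p') p ⟶ pullback (pullback.snd M.hom f') f :=
  pullback.lift (pullback.lift (pullback.fst _ _ ≫ pullback.fst _ _) (pullback.snd _ _ ≫ f)
    (by rw [Category.assoc, Category.assoc, pullback.condition, pullback.condition_assoc, w]))
    (pullback.snd _ _) (by rw [pullback.lift_snd])

@[reassoc]
lemma sqHom_inv {A X Y Z : Scheme.{u}} (p : A ⟶ X) (p' : X ⟶ Z) (f : A ⟶ Y) (f' : Y ⟶ Z)
    (w : p ≫ p' = f ≫ f') (M : Over Z) : sqHom p p' f f' w M ≫ sqHom f f' p p' w.symm M = 𝟙 _ := by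
  apply pullback.hom_ext
  · apply pullback.hom_ext
    · simp [sqHom]
    · simp [sqHom, pullback.condition]
  · simp [sqHom]

/-- Comparison of iterated base changes around a commutative square. -/
noncomputable def sqIso {A X Y Z : Scheme.{u}} (p : A ⟶ X) (p' : X ⟶ Z) (f : A ⟶ Y) (f' : Y ⟶ Z)
    (w : p ≫ p' = f ≫ f') : Over.pullback p' ⋙ Over.pullback p ≅ Over.pullback f' ⋙ Over.pullback f :=
  NatIso.ofComponents (fun M => Over.isoMk
    ⟨sqHom p p' f f' w M, sqHom f f' p p' w.symm M, sqHom_inv p p' f f' w M, sqHom_inv f f' p p' w.symm M⟩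
    (pullback.lift_snd _ _ _))
    (fun {M N} φ => by
      apply Over.OverMorphism.ext
      apply pullback.hom_ext
      · apply pullback.hom_ext <;> simp [sqHom]
      · simp [sqHom])

theorem isTorus_Gm (S : Scheme.{u}) : Red.IsTorus (Red.Gm S) := by
  let e : ℤ ≃+ (Fin 1 → ℤ) := (LinearEquiv.funUnique (Fin 1) ℤ ℤ).symm.toAddEquiv
  let f := Red.DSmap S e.symm.toAddMonoidHom
  have : IsIso f := by
    have : IsIso ((CategoryTheory.Over.forget S).map f) := DiagRig.DSHom.isIso_DSmap _ e.symm.bijective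
    exact isIso_of_reflects_iso f (CategoryTheory.Over.forget S)
  have : IsMonHom f := DiagRig.DSQuot.isMonHom_DSmap _
  have : IsMonHom (asIso f).hom := ‹IsMonHom f›
  exact DiagRig.MaxSplit.isTorus_split ⟨Grp.mkIso' (asIso f)⟩


open scoped CategoryTheory.Obj in
open MonObj in
theorem aux
    (κ B : Type u) [Field κ] [CommRing B] [Algebra κ B] [Module.Finite κ B]
    (E : Over (Spec (CommRingCat.of B))) [GrpObj E] [IsProper E.hom] [Smooth E.hom]
    (R : Over (Spec (CommRingCat.of κ))) [GrpObj R]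
    (q : Red.bc (Spec.map (CommRingCat.ofHom (algebraMap κ B))) R ⟶ E) [IsMonHom q]
    (hR : WeilRes.IsWeilRes (Spec.map (CommRingCat.ofHom (algebraMap κ B))) E R q)
    (Ω : Type u) [Field Ω] [IsAlgClosed Ω] [Algebra κ Ω]
    (G : Over (Spec (CommRingCat.of Ω))) [GrpObj G] (hG : Red.IsTorus G)
    (φ : G ⟶ Red.bc (Spec.map (CommRingCat.ofHom (algebraMap κ Ω))) R) [IsMonHom φ] :
    φ = 1 := by
  let f := Spec.map (CommRingCat.ofHom (algebraMap κ B))
  let p := Spec.map (CommRingCat.ofHom (algebraMap κ Ω))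
  let pr1 := pullback.fst p f
  let pr2 := pullback.snd p f
  let α := sqIso pr1 p pr2 f pullback.condition
  have : IsMonHom ((Over.pullback pr1).map φ) := Functor.map.instIsMonHom _ _ _
  have : IsMonHom ((Over.pullback pr2).map q) := Functor.map.instIsMonHom _ _ _
  let αR : Red.bc pr1 (Red.bc p R) ⟶ Red.bc pr2 (Red.bc f R) := α.hom.app R
  have : IsMonHom αR := isMonHom_natTrans_app₂ α.hom R
  have hproper : IsProper (Red.bc pr2 E).hom := inferInstanceAs (IsProper (pullback.snd E.hom pr2))
  have : LocallyOfFinitePresentation (Red.bc pr2 E).hom :=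
    inferInstanceAs (LocallyOfFinitePresentation (pullback.snd E.hom pr2))
  have key : (Over.pullback pr1).map φ ≫ αR ≫ (Over.pullback pr2).map q = 1 :=
    AbSch51.TorusToProper.hom_eq_one (AbSch51.TorusToProper.isTorus_bc pr1 (hG)) _
  have key' : (Over.pullback pr1).map φ ≫ αR ≫ (Over.pullback pr2).map q =
      (Over.pullback pr1).map (1 : G ⟶ Red.bc p R) ≫ αR ≫ (Over.pullback pr2).map q := by
    rw [key]
    erw [Functor.map_one]
    rw [MonObj.one_comp]
  let T : Over (Spec (CommRingCat.of κ)) := Over.mk (G.hom ≫ p)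
  let g : (G ⟶ Red.bc p R) → (T ⟶ R) := fun ψ => Over.homMk (ψ.left ≫ pullback.fst _ _)
    (by
      rw [Category.assoc, pullback.condition, ← Category.assoc]
      exact congrArg (· ≫ p) (Over.w ψ))
  let c : (Red.bc f T).left ⟶ (Red.bc pr1 G).left :=
    pullback.lift (pullback.fst T.hom f)
      (pullback.lift (pullback.fst T.hom f ≫ G.hom) (pullback.snd T.hom f)
        (by rw [Category.assoc]; exact pullback.condition)) (by simp [pr1])
  have hc : ∀ ψ : G ⟶ Red.bc p R, (WeilRes.restr f q T (g ψ)).left =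
      c ≫ ((Over.pullback pr1).map ψ ≫ αR ≫ (Over.pullback pr2).map q).left ≫ pullback.fst E.hom pr2 := by
    intro ψ
    simp only [WeilRes.restr, Over.comp_left, Category.assoc]
    rw [show ((Over.pullback pr2).map q).left ≫ pullback.fst E.hom pr2 =
      pullback.fst (Red.bc f R).hom pr2 ≫ q.left by simp [f]]
    simp only [← Category.assoc]
    congr 1
    apply pullback.hom_ext
    · simp [αR, α, sqIso, sqHom, pullback.condition, c, g, pr1, pr2, T]
    · simp [αR, α, sqIso, sqHom, pullback.condition, c, g, pr1, pr2, T]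
  have hg : g φ = g 1 := (hR T).1 (Over.OverMorphism.ext (by rw [hc, hc, key']))
  apply Over.OverMorphism.ext
  apply pullback.hom_ext
  · exact congrArg Over.Hom.left hg
  · exact (Over.w φ).trans (Over.w (1 : G ⟶ Red.bc p R)).symm


/-- Let κ be a field, B a finite κ-algebra and E an abelian scheme over B, that is a proper smooth
B-group scheme whose geometric fibres are connected. Let R be a κ-group scheme which, with the
homomorphism q : R ×_κ Spec B → E, is the Weil restriction of E along Spec B → Spec κ. Then the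
maximal torus of R is trivial; precisely, as the proof establishes, for every algebraically closed
field Ω over κ every homomorphism of Ω-group schemes from the multiplicative group over Ω to the
base change of R to Ω is trivial. -/
theorem result
    (κ B : Type u) [Field κ] [CommRing B] [Algebra κ B] [Module.Finite κ B]
    (E : Over (Spec (CommRingCat.of B))) [GrpObj E] [IsProper E.hom] [Smooth E.hom]
    (hEc : ∀ (Ω' : Type u) [Field Ω'] (t : Spec (CommRingCat.of Ω') ⟶ Spec (CommRingCat.of B)),
      ConnectedSpace ↥(pullback E.hom t))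
    (R : Over (Spec (CommRingCat.of κ))) [GrpObj R]
    (q : Red.bc (Spec.map (CommRingCat.ofHom (algebraMap κ B))) R ⟶ E) [IsMonHom q]
    (hR : WeilRes.IsWeilRes (Spec.map (CommRingCat.ofHom (algebraMap κ B))) E R q)
    (Ω : Type u) [Field Ω] [IsAlgClosed Ω] [Algebra κ Ω]
    (φ : Red.Gm (Spec (CommRingCat.of Ω)) ⟶ Red.bc (Spec.map (CommRingCat.ofHom (algebraMap κ Ω))) R)
    [IsMonHom φ] :
    φ = 1 :=
  aux κ B E R q hR Ω _ (isTorus_Gm _) φ

end Groth.Agent.S17694
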