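import Groth.Statements.S17703
import Groth.Agent.Hensel.ExcellentHens
import Groth.Agent.EGA4Lib.HomToLocal
import Groth.Agent.S0603
import Groth.Agent.GeomFieldLib.CMTensor
import Groth.Agent.RegLoc.Completion
-- import your own Groth.Agent.* helpers here

set_option autoImplicit false
universe u
open Neron

namespace Groth.Agent.S17703

open TensorProduct

/-- Let R be a discrete valuation ring with fraction field K, R̂ its completion and K̂ = Frac R̂. Then R
is excellent (Noetherian, universally catenary, G-ring and J-2) if and only if K̂ is geometrically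
reduced over K, i.e. K ⊆ K̂ is separable; here K̂ is written as the generic formal fibre κ(0) ⊗_R R̂
of R, which is R̂ with the uniformizer inverted. -/
theorem result
    (R : Type u) [CommRing R] [IsDomain R] [IsDiscreteValuationRing R] :
    EGA4.IsExcellent R ↔
      Algebra.IsGeometricallyReduced (⊥ : Ideal R).ResidueField (EGA4.formalFibre R (⊥ : Ideal R)) := by
  haveI : IsNoetherianRing (EGA4.Cpl R) := Groth.Agent.RegLoc.Completion.isNoetherianRing_adicCompletion' _
  constructor
  · rintro ⟨-, -, hG, -⟩
    exact Groth.Agent.EGA4Lib.isGeometricallyReduced_of_isGeometricallyRegular _ _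
      (((Groth.Agent.Hensel.isGRing_iff_isRegularHom_cpl R).1 hG).2 ⊥).2
  intro hgr
  have hzero : ∀ (T : Type u) [CommRing T] [IsArtinianRing T] [IsReduced T], IsRegularRing T := fun T _ _ _ =>
    isRegularRing_iff.mpr fun Q hQ => by
      haveI : IsReduced (Localization.AtPrime Q) := inferInstance
      letI : Field (Localization.AtPrime Q) := IsField.toField Ring.KrullDimLE.isField_of_isReduced
      infer_instance
  have hreg : CAlg.IsRegularHom R (EGA4.Cpl R) := by
    refine ⟨inferInstanceAs (Module.Flat R (AdicCompletion _ R)), fun p _ => ?_⟩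
    haveI hN : IsNoetherianRing (p.Fiber (EGA4.Cpl R)) :=
      Groth.Agent.EGA4Lib.forall_isCohenMacaulayRing_fiber_iff.isNoetherianRing_fiber R p
    refine ⟨hN, fun k' _ _ hfin => ?_⟩
    haveI := hfin
    by_cases hp : p = ⊥
    · subst hp
      haveI : IsArtinianRing ((⊥ : Ideal R).Fiber (EGA4.Cpl R)) := by
        rw [isArtinianRing_iff_isNoetherianRing_krullDimLE_zero]
        refine ⟨hN, Ring.krullDimLE_zero_iff.2 fun P hP => ?_⟩
        obtain ⟨Q, hQm, hPQ⟩ := P.exists_le_maximal hP.ne_top
        have hQ : Q.IsPrime := hQm.isPrime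
        suffices P = Q by exact this ▸ hQm
        have hiso := PrimeSpectrum.preimageOrderIsoFiber R (EGA4.Cpl R) ⟨(⊥ : Ideal R), inferInstance⟩
        obtain ⟨hd, hdvr⟩ := (Groth.Agent.RegLoc.Completion.isDiscreteValuationRing_completion_iff R).1 ⟨inferInstance, inferInstance⟩
        haveI := hd
        haveI := hdvr
        have hall : ∀ P₁ : PrimeSpectrum.comap (algebraMap R (EGA4.Cpl R)) ⁻¹' {⟨(⊥ : Ideal R), inferInstance⟩},
            P₁.1.asIdeal = ⊥ := by
          rintro ⟨P₁, hP₁⟩
          by_contra hne
          haveI := P₁.isPrime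
          have hm := P₁.isPrime.isMaximal hne
          obtain ⟨π, hπ⟩ := IsDiscreteValuationRing.exists_irreducible R
          have hmem : algebraMap R (EGA4.Cpl R) π ∈ P₁.asIdeal := by
            rw [IsLocalRing.eq_maximalIdeal hm]
            exact IsLocalRing.map_maximalIdeal_le _ (Ideal.mem_map_of_mem _ (show π ∈ IsLocalRing.maximalIdeal R from hπ.not_isUnit))
          have : π ∈ (⊥ : Ideal R) := by
            exact (congrArg PrimeSpectrum.asIdeal hP₁).le hmem
          exact hπ.ne_zero this
        have h1 : hiso.symm ⟨P, hP⟩ = hiso.symm ⟨Q, hQ⟩ :=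
          Subtype.ext (PrimeSpectrum.ext ((hall _).trans (hall _).symm))
        exact congrArg PrimeSpectrum.asIdeal (hiso.symm.injective h1)
      haveI := hgr
      haveI : IsReduced (k' ⊗[(⊥ : Ideal R).ResidueField] (⊥ : Ideal R).Fiber (EGA4.Cpl R)) :=
        inferInstance
      haveI : IsArtinianRing ((⊥ : Ideal R).Fiber (EGA4.Cpl R) ⊗[(⊥ : Ideal R).ResidueField] k') :=
        isArtinian_of_tower ((⊥ : Ideal R).Fiber (EGA4.Cpl R)) (by convert isArtinian_of_fg_of_artinian' (R := (⊥ : Ideal R).Fiber (EGA4.Cpl R)) (M := (⊥ : Ideal R).Fiber (EGA4.Cpl R) ⊗[(⊥ : Ideal R).ResidueField] k'))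
      haveI : IsArtinianRing (k' ⊗[(⊥ : Ideal R).ResidueField] (⊥ : Ideal R).Fiber (EGA4.Cpl R)) :=
        (Algebra.TensorProduct.comm (⊥ : Ideal R).ResidueField ((⊥ : Ideal R).Fiber (EGA4.Cpl R)) k').surjective.isArtinianRing
      exact hzero _
    · have hpm : p = IsLocalRing.maximalIdeal R :=
        IsLocalRing.eq_maximalIdeal (Ideal.IsPrime.isMaximal inferInstance hp)
      subst hpm
      let κ := (IsLocalRing.maximalIdeal R).ResidueField
      have hsurj : Function.Surjective (algebraMap κ ((IsLocalRing.maximalIdeal R).Fiber (EGA4.Cpl R))) := by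
        intro z
        induction z using TensorProduct.induction_on with
        | zero => exact ⟨0, map_zero _⟩
        | add x y hx hy =>
          obtain ⟨a, rfl⟩ := hx
          obtain ⟨b, rfl⟩ := hy
          exact ⟨a + b, map_add _ _ _⟩
        | tmul r c =>
          obtain ⟨a, ha⟩ : ∃ a : R, c - algebraMap R (EGA4.Cpl R) a ∈
              (IsLocalRing.maximalIdeal R).map (algebraMap R (EGA4.Cpl R)) := by
            obtain ⟨y, hy⟩ := (AdicCompletion.residueField_map_bijective R).2 (IsLocalRing.residue _ c)
            obtain ⟨a, rfl⟩ := IsLocalRing.residue_surjective y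
            refine ⟨a, ?_⟩
            rw [← AdicCompletion.maximalIdeal_eq_map]
            exact (Ideal.Quotient.mk_eq_mk_iff_sub_mem _ _).1 hy.symm
          refine ⟨r * algebraMap R κ a, ?_⟩
          have h0 : ∀ d ∈ (IsLocalRing.maximalIdeal R).map (algebraMap R (EGA4.Cpl R)), (r : κ) ⊗ₜ[R] d = 0 := by
            intro d hd
            induction hd using Submodule.span_induction generalizing r with
            | mem d h =>
              obtain ⟨m, hm, rfl⟩ := h
              rw [Algebra.algebraMap_eq_smul_one, ← TensorProduct.smul_tmul, Algebra.smul_def,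
                show algebraMap R κ m = 0 from (Ideal.algebraMap_residueField_eq_zero).2 hm,
                zero_mul, TensorProduct.zero_tmul]
            | zero => rw [TensorProduct.tmul_zero]
            | add x y _ _ hx hy => rw [TensorProduct.tmul_add, hx, hy, add_zero]
            | smul s x _ hx =>
              rw [smul_eq_mul, ← one_mul r, ← Algebra.TensorProduct.tmul_mul_tmul, hx, mul_zero]
          show (r * algebraMap R κ a) ⊗ₜ[R] (1 : EGA4.Cpl R) = r ⊗ₜ[R] c
          rw [mul_comm, ← Algebra.smul_def, TensorProduct.smul_tmul, ← Algebra.algebraMap_eq_smul_one]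
          rw [← sub_eq_zero, ← TensorProduct.tmul_sub, ← neg_sub c, TensorProduct.tmul_neg, h0 _ ha, neg_zero]
      haveI : Nontrivial ((IsLocalRing.maximalIdeal R).Fiber (EGA4.Cpl R)) :=
        haveI : Module.FaithfullyFlat R (EGA4.Cpl R) := Module.FaithfullyFlat.of_flat_of_isLocalHom
        inferInstance
      let e : κ ≃ₐ[κ] (IsLocalRing.maximalIdeal R).Fiber (EGA4.Cpl R) :=
        AlgEquiv.ofBijective (Algebra.ofId κ _) ⟨RingHom.injective _, hsurj⟩
      exact IsRegularRing.of_ringEquiv (R := k')
        ((Algebra.TensorProduct.rid κ κ k').symm.toRingEquiv.trans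
          (Algebra.TensorProduct.congr (AlgEquiv.refl : k' ≃ₐ[κ] k') e).toRingEquiv)
  haveI : LocCoh.IsCohenMacaulayRing R := Groth.Agent.GeomFieldLib.isCohenMacaulayRing_of_isRegularRing R
  exact ⟨inferInstance, Groth.Agent.S0603.result R,
    (Groth.Agent.Hensel.isGRing_iff_isRegularHom_cpl R).2 hreg,
    Groth.Agent.Hensel.isJ2_of_isRegularHom_cpl R hreg⟩

end Groth.Agent.S17703
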