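import Groth.Statements.S1771
import Groth.Agent.LocCoh.KollarCrit
import Groth.Agent.EGA4Lib.Ratliff
import Groth.Agent.S9126
import Groth.Agent.S4710
import Groth.Agent.Nagata.AnalUnram
import Groth.Agent.Nagata.FiniteType

set_option autoImplicit false
universe u
open LocCoh

namespace Groth.Agent.S1771

/-- Let A be a Noetherian ring which is Nagata and universally catenary, I an ideal of A and M a finite
A-module. Suppose that for every associated prime p of M not containing I and every prime q
containing both p and I, the longest chain of primes from p to q has length at least 2. Then the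
local cohomology module H^1_I(M) is a finite A-module. The published statement asserts that the
pushforward of a coherent sheaf from the open complement of V(I) is coherent; this is its affine
form, stated as finiteness of H^1_I(M). -/
theorem result (A : Type u) [CommRing A] [IsNoetherianRing A] (hN : CAlg.IsNagata A) (hU : CAlg.IsUniversallyCatenary A) (I : Ideal A) (M : Type u) [AddCommGroup M] [Module A M] [Module.Finite A M] (h : ∀ (p q : PrimeSpectrum A) (hpq : p ≤ q), p.asIdeal ∈ associatedPrimes A M → ¬ I ≤ p.asIdeal → I ≤ q.asIdeal → (2 : ℕ∞) ≤ Order.height (⟨q, hpq⟩ : Set.Ici p)) : Module.Finite A (LocCoh.H I 1 M) := by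
  refine Groth.Agent.LocCoh.KollarH1.finite_H1_of_catenary I M (fun q hq => ?_) h
  have : Algebra.EssFiniteType A (Localization.AtPrime q.asIdeal) :=
    Algebra.EssFiniteType.of_isLocalization _ q.asIdeal.primeCompl
  have hcat := EGA4Lib.isFormallyCatenary_of_isUniversallyCatenary _
    (S9126.result A (Localization.AtPrime q.asIdeal) hU)
  intro p _ P hP
  have : IsLocalRing (Localization.AtPrime q.asIdeal ⧸ p) :=
    IsLocalRing.of_surjective' _ Ideal.Quotient.mk_surjective
  have hred := Nagata.isReduced_completion_of_isNagata (R := Localization.AtPrime q.asIdeal ⧸ p)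
    (Nagata.FiniteType.isNagata_of_surjective (Ideal.Quotient.mk p) Ideal.Quotient.mk_surjective
      (S4710.result A hN q.asIdeal.primeCompl))
  refine hcat p P ?_
  have hPp := IsAssociatedPrime.isPrime hP
  obtain ⟨-, x, hx⟩ := hP
  have hx0 : x ≠ 0 := fun h0 => hPp.ne_top (by rw [hx, h0]; simp)
  obtain ⟨P0, hP0, hxP0⟩ : ∃ P0 ∈ minimalPrimes _, x ∉ P0 := by
    by_contra! hc
    refine hx0 (IsReduced.eq_zero x ?_)
    rw [← mem_nilradical, nilradical, ← Ideal.sInf_minimalPrimes]
    exact Submodule.mem_sInf.2 hc
  have hle : P ≤ P0 := fun r hr => by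
    rw [hx] at hr
    obtain ⟨n, hn⟩ := hr
    have h1 : r ^ n * x = 0 := by simpa [Submodule.mem_colon_singleton] using hn
    exact hP0.1.1.mem_of_pow_mem n ((hP0.1.1.mem_or_mem (h1 ▸ P0.zero_mem)).resolve_right hxP0)
  exact le_antisymm hle (hP0.2 ⟨hPp, bot_le⟩ hle) ▸ hP0

end Groth.Agent.S1771
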