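import Groth.Statements.S17713
import Groth.Agent.Todd.Basic

set_option autoImplicit false
open MoretBailly

namespace Groth.Agent.S17713

open Groth.Agent.Todd


/-- Let n ≥ 2 and d ≥ 1 be natural numbers and s an integer, and write B(x) = x/(1 - e^(-x)) for the
exponential generating series of the Bernoulli numbers B'_i (convention B'_1 = 1/2). For a natural
number p consider the product B(-dx)^(-1) B(-dpx) B(x)^(n+1) e^((dp-d-n-1+s)x) in ℚ[[x]] (the
Todd-class integrand of a Hirzebruch–Riemann–Roch computation) and let λ_n(p) be its coefficient of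
x^n. Then λ_n(p) is a polynomial in p whose two top terms are B'_n (dp)^n/n! and ((2s-d-n-1)/2)
B'_(n-1) (dp)^(n-1)/(n-1)!: there is a polynomial P over ℚ of degree at most n - 2 with λ_n(p) equal
to the sum of these two terms and P(p), for every p. -/
theorem result (n d : ℕ) (s : ℤ) (hn : 2 ≤ n) (hd : 1 ≤ d) :
    ∃ P : Polynomial ℚ, P.natDegree ≤ n - 2 ∧ ∀ p : ℕ,
      PowerSeries.coeff n ((PowerSeries.rescale (-(d : ℚ)) (bernoulli'PowerSeries ℚ))⁻¹ * PowerSeries.rescale (-((d : ℚ) * p)) (bernoulli'PowerSeries ℚ) * bernoulli'PowerSeries ℚ ^ (n + 1) * PowerSeries.rescale ((d : ℚ) * p - d - n - 1 + s) (PowerSeries.exp ℚ)) =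
        bernoulli' n * ((d : ℚ) * p) ^ n / (Nat.factorial n : ℚ) +
          (2 * (s : ℚ) - d - n - 1) / 2 * bernoulli' (n - 1) * ((d : ℚ) * p) ^ (n - 1) / (Nat.factorial (n - 1) : ℚ) +
          P.eval (p : ℚ) := by
  set u : ℚ := -(d : ℚ) - n - 1 + s with hu
  refine ⟨∑ j ∈ Finset.range (n - 1), Polynomial.C ((d : ℚ) ^ j * (bernoulli' j / (Nat.factorial j : ℚ)) *
    PowerSeries.coeff (n - j) (Basic.Q d u (n + 1))) * Polynomial.X ^ j, ?_, fun p => ?_⟩
  · refine Polynomial.natDegree_sum_le_of_forall_le _ _ fun j hj => ?_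
    rw [Finset.mem_range] at hj
    exact (Polynomial.natDegree_C_mul_X_pow_le _ j).trans (by omega)
  · rw [show (d : ℚ) * p - d - n - 1 + s = (d : ℚ) * p + u by rw [hu]; ring, Basic.integrand_eq,
      Basic.coeff_integrand, Finset.sum_range_succ, show n = (n - 1) + 1 by omega,
      Finset.sum_range_succ, ← show n = (n - 1) + 1 by omega, show n - (n - 1) = 1 by omega,
      Nat.sub_self, (Basic.Q_coeffs _ _ _).1, (Basic.Q_coeffs _ _ _).2, Polynomial.eval_finsetSum]
    have e : ∑ j ∈ Finset.range (n - 1), ((d : ℚ) * p) ^ j * (bernoulli' j / (Nat.factorial j : ℚ)) *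
        PowerSeries.coeff (n - j) (Basic.Q d u (n + 1)) =
        ∑ j ∈ Finset.range (n - 1), Polynomial.eval (p : ℚ) (Polynomial.C ((d : ℚ) ^ j *
          (bernoulli' j / (Nat.factorial j : ℚ)) * PowerSeries.coeff (n - j) (Basic.Q d u (n + 1))) *
          Polynomial.X ^ j) := Finset.sum_congr rfl fun j _ => by simp [mul_pow]; ring
    rw [e, hu]
    push_cast
    ring

end Groth.Agent.S17713
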