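import Groth.Statements.S17718
import Groth.Agent.S17714

set_option autoImplicit false
open MoretBailly

namespace Groth.Agent.S17718

open Groth.Agent.Todd


/-- Let n ≥ 2 and d ≥ 1 be natural numbers with n not congruent to 2 modulo 4, and write B(x) = x/(1 -
e^(-x)) for the exponential generating series of the Bernoulli numbers (B'_1 = 1/2). Then there is
an integer s ≥ 1 such that for all sufficiently large natural numbers p the coefficient of x^n in
B(-dx)^(-1) B(-dpx) B(x)^(n+1) e^((dp-d-n-1+s)x) is strictly negative. (The published argument fixes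
any s with 2s > n + d + 1, which gives the sign only for n congruent to 0 or 1 modulo 4; for n
congruent to 3 modulo 4 the choice s = 1 makes the leading coefficient (2s-d-n-1) B'_(n-1)
d^(n-1)/(2 (n-1)!) negative instead.) -/
theorem result (n d : ℕ) (hn : 2 ≤ n)
    (hmod : n % 4 ≠ 2) (hd : 1 ≤ d) :
    ∃ s : ℤ, 1 ≤ s ∧ ∃ P : ℕ, ∀ p : ℕ, P ≤ p →
      PowerSeries.coeff n ((PowerSeries.rescale (-(d : ℚ)) (bernoulli'PowerSeries ℚ))⁻¹ * PowerSeries.rescale (-((d : ℚ) * p)) (bernoulli'PowerSeries ℚ) * bernoulli'PowerSeries ℚ ^ (n + 1) * PowerSeries.rescale ((d : ℚ) * p - d - n - 1 + s) (PowerSeries.exp ℚ)) < 0 := by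
  by_cases h : n % 4 = 0 ∨ n % 4 = 1
  · exact ⟨n + d + 1, by omega, Groth.Agent.S17714.result n d _ hn h hd (by omega)⟩
  · refine ⟨1, le_rfl, ?_⟩
    obtain ⟨P, hP, hval⟩ := Groth.Agent.S17713.result n d 1 hn hd
    have hd0 : (0 : ℚ) < d := by exact_mod_cast hd
    have hz : bernoulli' n = 0 := bernoulli'_eq_zero_of_odd (Nat.odd_iff.mpr (by omega)) (by omega)
    have hs' : (2 * ((1 : ℤ) : ℚ) - d - n - 1) / 2 < 0 := by
      have : (3 : ℚ) ≤ n := by exact_mod_cast (show 3 ≤ n by omega)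
      push_cast
      linarith
    obtain ⟨p₀, hp₀⟩ := Basic.eventually_neg P (n - 1)
      ((2 * ((1 : ℤ) : ℚ) - d - n - 1) / 2 * bernoulli' (n - 1) * (d : ℚ) ^ (n - 1) /
        (Nat.factorial (n - 1) : ℚ))
      (div_neg_of_neg_of_pos (mul_neg_of_neg_of_pos (mul_neg_of_neg_of_pos hs'
        (Basic.bernoulli'_pos (by omega))) (by positivity)) (by positivity))
      (lt_of_le_of_lt hP (by omega))
    refine ⟨p₀, fun p hp => lt_of_eq_of_lt ?_ (hp₀ p hp)⟩
    rw [hval, mul_pow, mul_pow, hz]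
    ring

end Groth.Agent.S17718
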