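import Groth.Statements.S17719
import Groth.Agent.CAlg99.NodeSeries
import Groth.Agent.RegLoc.UFD
import Groth.Agent.DVRDom.Basic

set_option maxHeartbeats 1600000

set_option autoImplicit false
universe u
open scoped TensorProduct
open CAlg

namespace Groth.Agent.S17719

open IsLocalRing MvPowerSeries CAlg99.NodeSeries TensorProduct

variable {R : Type u} [CommRing R]

/-- The multiplicity of a prime as an additive valuation. -/
noncomputable def primeVal [IsDomain R] {π : R} (hπ : Prime π) : AddValuation R ℕ∞ :=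
  AddValuation.of (emultiplicity π) (emultiplicity_zero π)
    (emultiplicity_of_one_right hπ.not_isUnit) (fun _ _ => min_le_emultiplicity_add)
    (fun _ _ => emultiplicity_mul hπ)

theorem primeVal_apply [IsDomain R] {π : R} (hπ : Prime π) (x : R) :
    primeVal hπ x = emultiplicity π x := rfl

theorem dvd_of_forall_prime [IsDomain R] [UniqueFactorizationMonoid R] :
    ∀ {a : R}, a ≠ 0 → ∀ {b : R}, (∀ π : R, Prime π → emultiplicity π a ≤ emultiplicity π b) → a ∣ b := by
  intro a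
  induction a using UniqueFactorizationMonoid.induction_on_prime with
  | h₁ => exact fun h => absurd rfl h
  | h₂ x hx => exact fun _ b _ => hx.dvd
  | h₃ a p ha hp ih =>
    intro hne b h
    have h1 : (1 : ℕ∞) ≤ emultiplicity p b := by
      refine le_trans ?_ (h p hp)
      rw [← Nat.cast_one]
      exact le_emultiplicity_of_pow_dvd (by rw [pow_one]; exact dvd_mul_right p a)
    obtain ⟨b', rfl⟩ : p ∣ b := by
      have := pow_dvd_of_le_emultiplicity (k := 1) (by exact_mod_cast h1)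
      rwa [pow_one] at this
    refine mul_dvd_mul_left p (ih ha fun π hπ => ?_)
    have h2 := h π hπ
    rw [emultiplicity_mul hπ, emultiplicity_mul hπ] at h2
    exact (ENat.add_le_add_iff_left (finiteMultiplicity_iff_emultiplicity_ne_top.1
      (FiniteMultiplicity.of_prime_left hπ hp.ne_zero))).1 h2

variable [IsRegularLocalRing R] [IsAdicComplete (maximalIdeal R) R] {r : R}

omit [IsAdicComplete (maximalIdeal R) R] in
/-- A valuation detecting divisibility by a prime `π ∤ r`, finite and positive on `r`. -/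
theorem exists_vbar {π : R} (hπ : Prime π) (hr : r ∈ maximalIdeal R) (hπr : ¬ π ∣ r) :
    ∃ (v : AddValuation R ℕ∞) (e : ℕ), v r = e ∧ 0 < e ∧ ∀ c, v c = ⊤ ↔ π ∣ c := by
  haveI := RegLoc.isDomain R
  let I : Ideal R := Ideal.span {π}
  haveI : I.IsPrime := (Ideal.span_singleton_prime hπ.ne_zero).2 hπ
  haveI : IsLocalRing (R ⧸ I) := .of_surjective' (Ideal.Quotient.mk I) Ideal.Quotient.mk_surjective
  have hr0 : Ideal.Quotient.mk I r ≠ 0 := fun h =>
    hπr (Ideal.mem_span_singleton.1 (Ideal.Quotient.eq_zero_iff_mem.1 h))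
  have hrm : Ideal.Quotient.mk I r ∈ maximalIdeal (R ⧸ I) := by
    intro hu
    obtain ⟨c, hc⟩ := hu.exists_right_inv
    obtain ⟨c, rfl⟩ := Ideal.Quotient.mk_surjective c
    rw [← map_mul, ← map_one (Ideal.Quotient.mk I), Ideal.Quotient.eq] at hc
    have h1 : r * c - 1 ∈ maximalIdeal R :=
      IsLocalRing.le_maximalIdeal (Ideal.IsPrime.ne_top ‹I.IsPrime›) hc
    have h2 := sub_mem (Ideal.mul_mem_right c _ hr) h1
    rw [sub_sub_cancel] at h2
    exact (maximalIdeal.isMaximal R).ne_top ((Ideal.eq_top_iff_one _).2 h2)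
  have hnf : ¬ IsField (R ⧸ I) := by
    rw [IsLocalRing.isField_iff_maximalIdeal_eq]
    intro h
    rw [h, Submodule.mem_bot] at hrm
    exact hr0 hrm
  obtain ⟨W, hW, hmem, hdom⟩ := DVRDom.exists_dvr_dominating (R ⧸ I) hnf
    (FractionRing (R ⧸ I)) (FractionRing (R ⧸ I))
    ⟨∅, by
      rw [Finset.coe_empty, IntermediateField.adjoin_empty]
      exact IntermediateField.bot_eq_top_of_finrank_adjoin_eq_one
        fun x => IntermediateField.finrank_adjoin_simple_eq_one_iff.2 (IntermediateField.mem_bot.2 ⟨x, rfl⟩)⟩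
  haveI := hW
  let j : R →+* W := ((algebraMap (R ⧸ I) (FractionRing (R ⧸ I))).codRestrict W.toSubring hmem).comp
    (Ideal.Quotient.mk I)
  have hj0 : ∀ c, j c = 0 ↔ π ∣ c := fun c => by
    rw [← Ideal.mem_span_singleton, ← Ideal.Quotient.eq_zero_iff_mem, Subtype.ext_iff]
    exact map_eq_zero_iff _ (IsFractionRing.injective (R ⧸ I) (FractionRing (R ⧸ I)))
  let v := (IsDiscreteValuationRing.addVal W).comap j
  have hv : ∀ c, v c = IsDiscreteValuationRing.addVal W (j c) := fun c => rfl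
  have htop : ∀ c, v c = ⊤ ↔ π ∣ c := fun c => by
    rw [hv, IsDiscreteValuationRing.addVal_eq_top_iff, hj0]
  obtain ⟨e, he⟩ := ENat.ne_top_iff_exists.1 (fun h => hπr ((htop r).1 h))
  refine ⟨v, e, he.symm, Nat.pos_of_ne_zero ?_, htop⟩
  rintro rfl
  have h1 : IsDiscreteValuationRing.addVal W (j r) ≤ IsDiscreteValuationRing.addVal W 1 := by
    rw [← hv, ← he]; simp
  rw [IsDiscreteValuationRing.addVal_le_iff_dvd] at h1
  have h2 := hdom _ hrm
  rw [← W.valuation_eq_one_iff ⟨_, hmem _⟩ |>.1 (isUnit_of_dvd_one h1)] at h2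
  exact lt_irrefl _ h2

variable (hr : r ∈ maximalIdeal R)
include hr

variable (A B : ℤ → R) (s : R) (hprod : ∀ i, phi hr (normal A * normal B) i = if i = 0 then s else 0)
include hprod

theorem exists_finite (hs : s ≠ 0) {π : R} (hπ : Prime π) :
    haveI := RegLoc.isDomain R
    haveI := RegLoc.UFD.uniqueFactorizationMonoid R
    (∃ i, primeVal hπ (A i) ≠ ⊤) ∧ ∃ i, primeVal hπ (B i) ≠ ⊤ := by
  haveI := RegLoc.isDomain R
  haveI := RegLoc.UFD.uniqueFactorizationMonoid R
  have key : ∀ c : ℤ → R, (∀ i, c i = 0) → normal c = 0 := fun c hc => by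
    refine MvPowerSeries.ext fun d => ?_
    rw [eq_E d, coeff_normal, hc, ite_self, map_zero]
  have h0 := hprod 0
  rw [if_pos rfl] at h0
  have fin : ∀ c : ℤ → R, (∃ i, c i ≠ 0) → ∃ i, primeVal hπ (c i) ≠ ⊤ := fun c ⟨i, hi⟩ =>
    ⟨i, finiteMultiplicity_iff_emultiplicity_ne_top.1 (FiniteMultiplicity.of_prime_left hπ hi)⟩
  have hphi0 : phi hr (0 : MvPowerSeries (Fin 2) R) 0 = 0 := by
    have := phi_C hr 0 0
    rwa [map_zero, ite_self] at this
  constructor <;> refine fin _ (by_contra fun hne => hs ?_) <;> push_neg at hne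
  · rw [← h0, key A hne, zero_mul, hphi0]
  · rw [← h0, key B hne, mul_zero, hphi0]

/-- Gauss at a prime dividing `r`. -/
theorem gauss_dvd (hs : s ≠ 0) {π : R} (hπ : Prime π) {e : ℕ}
    (he : emultiplicity π r = e) (he0 : 0 < e) (al be : ℕ) (hab : al + be = e)
    (sg : ℤ) (hsg : (sg = 1 ∧ 0 < be) ∨ (sg = -1 ∧ 0 < al)) :
    ∃ M N : ℕ, emultiplicity π s = ((M + N : ℕ) : ℕ∞) ∧
      (∀ i : ℤ, (M : ℕ∞) ≤ emultiplicity π (A i) + ((al * i.toNat + be * (-i).toNat : ℕ) : ℕ∞)) ∧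
      (∀ i : ℤ, (N : ℕ∞) ≤ emultiplicity π (B i) + ((al * i.toNat + be * (-i).toNat : ℕ) : ℕ∞)) := by
  haveI := RegLoc.isDomain R
  haveI := RegLoc.UFD.uniqueFactorizationMonoid R
  obtain ⟨hA, hB⟩ := exists_finite hr A B s hprod hs hπ
  obtain ⟨i₀, M, hM⟩ := exists_minIdx (primeVal hπ) al be A hA sg hsg
  obtain ⟨j₀, N, hN⟩ := exists_minIdx (primeVal hπ) al be B hB sg hsg
  have h := w_phi_mul hr (primeVal hπ) al be (by rw [primeVal_apply, he]) he0 hab
    (hsg.imp And.left And.left) hM hN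
  rw [hprod] at h
  refine ⟨M, N, ?_, hM.2.1, hN.2.1⟩
  by_cases hij : i₀ + j₀ = 0
  · rw [if_pos hij, hij] at h
    simpa [w, primeVal_apply] using h
  · rw [if_neg hij] at h
    simp [w, -Nat.cast_add] at h

/-- Contents add up at a prime not dividing `r`. -/
theorem gauss_not_dvd (hs : s ≠ 0) {π : R} (hπ : Prime π) (hπr : ¬ π ∣ r) (i j : ℤ) :
    emultiplicity π s ≤ emultiplicity π (A i) + emultiplicity π (B j) := by
  classical
  haveI := RegLoc.isDomain R
  haveI := RegLoc.UFD.uniqueFactorizationMonoid R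
  obtain ⟨hA, hB⟩ := exists_finite hr A B s hprod hs hπ
  have content : ∀ c : ℤ → R, (∃ i, primeVal hπ (c i) ≠ ⊤) → ∃ (m : ℕ) (c' : ℤ → R),
      (∀ i, c i = π ^ m * c' i) ∧ (∀ i, (m : ℕ∞) ≤ emultiplicity π (c i)) ∧ ∃ i, ¬ π ∣ c' i := by
    intro c ⟨i₁, hi₁⟩
    have hne : ∃ m : ℕ, ∃ i, emultiplicity π (c i) = m := by
      obtain ⟨m, hm⟩ := ENat.ne_top_iff_exists.1 hi₁
      exact ⟨m, i₁, hm.symm⟩
    have hle : ∀ i, ((Nat.find hne : ℕ) : ℕ∞) ≤ emultiplicity π (c i) := fun i => by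
      by_cases htop : emultiplicity π (c i) = ⊤
      · rw [htop]; exact le_top
      obtain ⟨n, hn⟩ := ENat.ne_top_iff_exists.1 htop
      rw [← hn]
      exact Nat.cast_le.2 (Nat.find_le ⟨i, hn.symm⟩)
    choose c' hc' using fun i => pow_dvd_of_le_emultiplicity (hle i)
    obtain ⟨i₀, hi₀⟩ := Nat.find_spec hne
    refine ⟨_, c', hc', hle, i₀, fun hd => ?_⟩
    have h1 : π ^ (Nat.find hne + 1) ∣ c i₀ := by
      rw [hc' i₀, pow_succ]; exact mul_dvd_mul_left _ hd
    have h2 := le_emultiplicity_of_pow_dvd h1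
    rw [hi₀] at h2
    have := Nat.cast_le.1 h2
    omega
  obtain ⟨ca, A', hA', hAle, iA, hiA⟩ := content A hA
  obtain ⟨cb, B', hB', hBle, iB, hiB⟩ := content B hB
  by_contra hlt
  push_neg at hlt
  have hlt' : (((ca + cb : ℕ)) : ℕ∞) < emultiplicity π s := by
    rw [Nat.cast_add]
    exact lt_of_le_of_lt (add_le_add (hAle i) (hBle j)) hlt
  obtain ⟨s', hs'⟩ : π ^ (ca + cb + 1) ∣ s := pow_dvd_of_le_emultiplicity (by
    rw [Nat.cast_add, Nat.cast_one]; exact Order.add_one_le_of_lt hlt')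
  have hprod' : ∀ k, π ∣ phi hr (normal A' * normal B') k := by
    intro k
    have hnA : normal A = C (π ^ ca) * normal A' := MvPowerSeries.ext fun d => by
      rw [eq_E d, coeff_C_mul, coeff_normal, coeff_normal, hA']; split_ifs <;> simp
    have hnB : normal B = C (π ^ cb) * normal B' := MvPowerSeries.ext fun d => by
      rw [eq_E d, coeff_C_mul, coeff_normal, coeff_normal, hB']; split_ifs <;> simp
    have h1 := hprod k
    rw [hnA, hnB, show C (π ^ ca) * normal A' * (C (π ^ cb) * normal B') =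
      C (π ^ (ca + cb)) * (normal A' * normal B') by rw [pow_add, map_mul]; ring, phi_C_mul] at h1
    have hne : π ^ (ca + cb) ≠ 0 := pow_ne_zero _ hπ.ne_zero
    split_ifs at h1 with hk
    · refine ⟨s', mul_left_cancel₀ hne ?_⟩
      rw [h1, hs', pow_succ]; ring
    · rw [(mul_eq_zero.1 h1).resolve_left hne]; exact dvd_zero _
  obtain ⟨v, e, he, he0, htop⟩ := exists_vbar hπ hr hπr
  obtain ⟨i₀, M, hM⟩ := exists_minIdx v e 0 A' ⟨iA, fun h => hiA ((htop _).1 h)⟩ (-1) (Or.inr ⟨rfl, he0⟩)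
  obtain ⟨j₀, N, hN⟩ := exists_minIdx v e 0 B' ⟨iB, fun h => hiB ((htop _).1 h)⟩ (-1) (Or.inr ⟨rfl, he0⟩)
  have h := w_phi_mul hr v e 0 he he0 (add_zero e) (Or.inr rfl) hM hN
  rw [show w v e 0 _ _ (phi hr (normal A' * normal B') (i₀ + j₀)) = ⊤ by
    unfold w; rw [(htop _).2 (hprod' _)]; simp] at h
  exact ENat.top_ne_coe _ h

/-- All the terms `Aᵢ B₋ᵢ r^|i|` are divisible by `s`, and equality of multiplicities at `n` makes
the `n`-th coefficient dominate. -/
theorem main (hr0 : r ≠ 0) (hs : s ≠ 0) :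
    ∃ n : ℤ, A n ≠ 0 ∧ ∀ i : ℤ, A n * r ^ n.toNat ∣ A i * r ^ i.toNat ∧
      A n * r ^ (-n).toNat ∣ A i * r ^ (-i).toNat := by
  classical
  haveI := RegLoc.isDomain R
  haveI := RegLoc.UFD.uniqueFactorizationMonoid R
  have hfin : ∀ {π x : R}, Prime π → x ≠ 0 → ∃ k : ℕ, emultiplicity π x = k := fun hπ hx => by
    obtain ⟨k, hk⟩ := ENat.ne_top_iff_exists.1
      (finiteMultiplicity_iff_emultiplicity_ne_top.1 (FiniteMultiplicity.of_prime_left hπ hx))
    exact ⟨k, hk.symm⟩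
  have hpow : ∀ {π : R}, Prime π → ∀ {e : ℕ}, emultiplicity π r = e → ∀ k : ℕ,
      emultiplicity π (r ^ k) = ((e * k : ℕ) : ℕ∞) := fun hπ e he k => by
    rw [emultiplicity_pow hπ, he, ← Nat.cast_mul, mul_comm]
  let t : ℤ → R := fun i => A i * B (-i) * r ^ (i.toNat + (-i).toNat)
  -- divisibility
  have ht : ∀ i, s ∣ t i := fun i => by
    refine dvd_of_forall_prime hs fun π hπ => ?_
    obtain ⟨e, he⟩ := hfin hπ hr0
    rw [show emultiplicity π (t i) = emultiplicity π (A i) + emultiplicity π (B (-i)) +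
        ((e * (i.toNat + (-i).toNat) : ℕ) : ℕ∞) by
      simp only [t, emultiplicity_mul hπ, hpow hπ he]]
    rcases Nat.eq_zero_or_pos e with rfl | he0
    · have hπr : ¬ π ∣ r := by rw [← emultiplicity_eq_zero, he, Nat.cast_zero]
      exact (gauss_not_dvd hr A B s hprod hs hπ hπr i (-i)).trans le_self_add
    · obtain ⟨M, N, hMN, hM, hN⟩ := gauss_dvd hr A B s hprod hs hπ he he0 e 0 (add_zero e) (-1)
        (Or.inr ⟨rfl, he0⟩)
      rw [hMN, Nat.cast_add]
      refine (add_le_add (hM i) (hN (-i))).trans (le_of_eq ?_)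
      simp only [zero_mul, add_zero, mul_add, Nat.cast_add]
      ac_rfl
  -- some term is `s` times a unit
  obtain ⟨n, hn⟩ : ∃ n, t n ∉ Ideal.span {s} * maximalIdeal R := by
    by_contra hall
    push_neg at hall
    have hsm : s ∈ Ideal.span {s} * maximalIdeal R := by
      have hJ : Ideal.span {s} * maximalIdeal R ≤ maximalIdeal R := Ideal.mul_le_right
      revert hJ hall
      generalize Ideal.span {s} * maximalIdeal R = J
      intro hall hJ
      refine mem_of_forall_mem_sup hJ fun N => ?_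
      have h0 := hprod 0
      rw [if_pos rfl, phi, T_iter hr _ N] at h0
      rw [← h0]
      refine Submodule.add_mem_sup (Ideal.sum_mem _ fun j _ => ?_) (pow_mul_mem hr N _)
      rw [coeff_mul, Finset.mul_sum]
      refine Ideal.sum_mem _ fun x hx => ?_
      rw [Finset.HasAntidiagonal.mem_antidiagonal] at hx
      obtain ⟨p₁, q₁, hx1⟩ : ∃ a b, x.1 = E a b := ⟨_, _, eq_E _⟩
      obtain ⟨p₂, q₂, hx2⟩ : ∃ a b, x.2 = E a b := ⟨_, _, eq_E _⟩
      rw [hx1, hx2] at hx ⊢
      have e0 : p₁ + p₂ = j := by simpa using DFunLike.congr_fun hx 0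
      have e1 : q₁ + q₂ = j := by simpa using DFunLike.congr_fun hx 1
      rw [coeff_normal, coeff_normal]
      split_ifs with hz1 hz2
      · rw [show ((p₂ : ℤ) - q₂) = -((p₁ : ℤ) - q₁) by omega,
          show j = ((p₁ : ℤ) - q₁).toNat + (-((p₁ : ℤ) - q₁)).toNat by omega,
          mul_comm (r ^ _)]
        exact hall _
      all_goals simp
    obtain ⟨c, hc, hcs⟩ := Ideal.mem_span_singleton_mul.1 hsm
    exact (maximalIdeal.isMaximal R).ne_top ((Ideal.eq_top_iff_one _).2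
      (by rwa [mul_left_cancel₀ hs (hcs.trans (mul_one s).symm)] at hc))
  obtain ⟨c, hc⟩ := ht n
  have hcu : IsUnit c := IsLocalRing.notMem_maximalIdeal.1 fun h =>
    hn (hc ▸ Ideal.mul_mem_mul (Ideal.mem_span_singleton_self s) h)
  have hAn : A n ≠ 0 := fun h => mul_ne_zero hs hcu.ne_zero (by
    rw [← hc]; simp [t, h])
  have hBn : B (-n) ≠ 0 := fun h => mul_ne_zero hs hcu.ne_zero (by
    rw [← hc]; simp [t, h])
  refine ⟨n, hAn, fun i => ?_⟩
  suffices ∀ π : R, Prime π →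
      emultiplicity π (A n * r ^ n.toNat) ≤ emultiplicity π (A i * r ^ i.toNat) ∧
        emultiplicity π (A n * r ^ (-n).toNat) ≤ emultiplicity π (A i * r ^ (-i).toNat) from
    ⟨dvd_of_forall_prime (mul_ne_zero hAn (pow_ne_zero _ hr0)) fun π hπ => (this π hπ).1,
      dvd_of_forall_prime (mul_ne_zero hAn (pow_ne_zero _ hr0)) fun π hπ => (this π hπ).2⟩
  intro π hπ
  obtain ⟨e, he⟩ := hfin hπ hr0
  obtain ⟨a, ha⟩ := hfin hπ hAn
  obtain ⟨bv, hb⟩ := hfin hπ hBn
  have hseq : emultiplicity π s = ((a + bv + e * (n.toNat + (-n).toNat) : ℕ) : ℕ∞) := by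
    have h1 : emultiplicity π (t n) = emultiplicity π s := by
      rw [hc, emultiplicity_mul hπ, emultiplicity_of_isUnit_right hπ.not_isUnit hcu, add_zero]
    rw [← h1]
    simp only [t, emultiplicity_mul hπ, hpow hπ he, ha, hb, Nat.cast_add]
  have hcomb : ∀ k : ℕ, emultiplicity π (A i * r ^ k) = emultiplicity π (A i) + ((e * k : ℕ) : ℕ∞) :=
    fun k => by rw [emultiplicity_mul hπ, hpow hπ he]
  rw [hcomb, hcomb, emultiplicity_mul hπ, emultiplicity_mul hπ, hpow hπ he, hpow hπ he, ha,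
    ← Nat.cast_add, ← Nat.cast_add]
  rcases Nat.eq_zero_or_pos e with rfl | he0
  · have hπr : ¬ π ∣ r := by rw [← emultiplicity_eq_zero, he, Nat.cast_zero]
    have h1 := gauss_not_dvd hr A B s hprod hs hπ hπr i (-n)
    rw [hseq, hb] at h1
    by_cases htop : emultiplicity π (A i) = ⊤
    · simp [htop]
    obtain ⟨x, hx⟩ := ENat.ne_top_iff_exists.1 htop
    rw [← hx, ← Nat.cast_add, Nat.cast_le] at h1
    simp only [zero_mul, add_zero, Nat.cast_zero, ← hx, Nat.cast_le] at h1 ⊢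
    exact ⟨by omega, by omega⟩
  obtain ⟨M, N, hMN, hM, hN⟩ := gauss_dvd hr A B s hprod hs hπ he he0 e 0 (add_zero e) (-1)
    (Or.inr ⟨rfl, he0⟩)
  obtain ⟨M', N', hMN', hM', hN'⟩ := gauss_dvd hr A B s hprod hs hπ he he0 0 e (zero_add e) 1
    (Or.inl ⟨rfl, he0⟩)
  rw [hseq, Nat.cast_inj] at hMN hMN'
  have h2 := hN (-n)
  have h2' := hN' (-n)
  rw [hb, ← Nat.cast_add, Nat.cast_le] at h2 h2'
  simp only [zero_mul, add_zero, zero_add, neg_neg] at h2 h2'
  rw [mul_add] at hMN hMN'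
  constructor
  · refine le_trans (Nat.cast_le.2 (show a + e * n.toNat ≤ M by omega)) ?_
    simpa using hM i
  · refine le_trans (Nat.cast_le.2 (show a + e * (-n).toNat ≤ M' by omega)) ?_
    simpa using hM' i

omit hr hprod

/-- `x^i`-coefficient of `xᴾ yᑫ · u`. -/
theorem phi_monomial_mul (hr : r ∈ maximalIdeal R) (U : ℤ → R) (P Q : ℕ) (i : ℤ) :
    phi hr (monomial (E P Q) 1 * normal U) i =
      r ^ (P + (i - P + Q).toNat - i.toNat) * U (i - P + Q) := by
  classical
  set k₀ := P + (i - P + Q).toNat - i.toNat with hk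
  have hle : ∀ p' q', (E P Q ≤ E p' q' ↔ P ≤ p' ∧ Q ≤ q') := fun p' q' => by
    refine ⟨fun h => ⟨by simpa using h 0, by simpa using h 1⟩, fun h j => ?_⟩
    fin_cases j
    · exact h.1
    · exact h.2
  have hsub : ∀ p' q', E p' q' - E P Q = E (p' - P) (q' - Q) := fun p' q' => by
    ext j; fin_cases j <;> simp
  have hcoef : ∀ p' q' : ℕ, coeff (E p' q') (monomial (E P Q) (1 : R) * normal U) =
      if P ≤ p' ∧ Q ≤ q' ∧ (p' = P ∨ q' = Q) then U ((p' : ℤ) - P - (q' - Q)) else 0 := by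
    intro p' q'
    rw [coeff_monomial_mul, one_mul]
    simp only [hle, hsub]
    by_cases h : P ≤ p' ∧ Q ≤ q'
    · rw [if_pos h, coeff_normal]
      have hiff : (p' - P = 0 ∨ q' - Q = 0) ↔ (P ≤ p' ∧ Q ≤ q' ∧ (p' = P ∨ q' = Q)) := by omega
      simp only [hiff]
      split_ifs
      · congr 1; omega
      · rfl
    · rw [if_neg h, if_neg (fun h' => h ⟨h'.1, h'.2.1⟩)]
  rw [phi, T_iter hr _ (k₀ + 1), T_eq_zero hr _ _ _ fun j => ?_, mul_zero, add_zero,
    Finset.sum_eq_single k₀ (fun j _ hj => ?_) fun h => absurd (Finset.mem_range.2 (Nat.lt_succ_self _)) h]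
  · rw [hcoef, if_pos (by omega)]
    congr 2
    omega
  · rw [hcoef, if_neg (by omega), mul_zero]
  · rw [hcoef, if_neg (by omega)]

open MvPowerSeries in
/-- Let R be a regular local ring, complete for its maximal ideal, with fraction field K; let r be a
non-zero element of R and A the quotient of the power series ring in two variables x, y over R by
the ideal generated by xy − r. If an element a of A maps to a unit of A ⊗_R K, then there are an
element s of R, natural numbers m and n with mn = 0 and a unit u of A with a = s xⁿ yᵐ u. -/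
theorem result
    (R : Type u) [CommRing R] [IsRegularLocalRing R]
    [IsAdicComplete (IsLocalRing.maximalIdeal R) R]
    (r : R) (hr : r ≠ 0)
    (a : (MvPowerSeries (Fin 2) R ⧸ Ideal.span {(X 0 * X 1 - C r : MvPowerSeries (Fin 2) R)}))
    (ha : IsUnit (a ⊗ₜ[R] (1 : FractionRing R) :
      (MvPowerSeries (Fin 2) R ⧸ Ideal.span {(X 0 * X 1 - C r : MvPowerSeries (Fin 2) R)}) ⊗[R] FractionRing R)) :
    ∃ (s : R) (m n : ℕ) (u : (MvPowerSeries (Fin 2) R ⧸ Ideal.span {(X 0 * X 1 - C r : MvPowerSeries (Fin 2) R)})ˣ),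
      m * n = 0 ∧ a = Ideal.Quotient.mk _ (C s * X 0 ^ n * X 1 ^ m) * (u : (MvPowerSeries (Fin 2) R ⧸ Ideal.span {(X 0 * X 1 - C r : MvPowerSeries (Fin 2) R)})) := by
  classical
  haveI := RegLoc.isDomain R
  by_cases hru : IsUnit r
  · have htop : Ideal.span {(X 0 * X 1 - C r : MvPowerSeries (Fin 2) R)} = ⊤ :=
      Ideal.span_singleton_eq_top.2 (MvPowerSeries.isUnit_iff_constantCoeff.2 (by simp [hru]))
    haveI : Subsingleton (MvPowerSeries (Fin 2) R ⧸ Ideal.span {(X 0 * X 1 - C r : MvPowerSeries (Fin 2) R)}) :=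
      Ideal.Quotient.subsingleton_iff.2 htop
    exact ⟨0, 0, 0, 1, by simp, Subsingleton.elim _ _⟩
  have hrm : r ∈ IsLocalRing.maximalIdeal R := hru
  let I : Ideal (MvPowerSeries (Fin 2) R) := Ideal.span {(X 0 * X 1 - C r : MvPowerSeries (Fin 2) R)}
  obtain ⟨z, hz⟩ := ha.exists_right_inv
  obtain ⟨⟨b₀, ⟨_, s₀, hs₀, rfl⟩⟩, hb₀⟩ :=
    IsLocalization.surj (Algebra.algebraMapSubmonoid (MvPowerSeries (Fin 2) R ⧸ Ideal.span {(X 0 * X 1 - C r : MvPowerSeries (Fin 2) R)}) (nonZeroDivisors R)) z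
  simp only [Algebra.TensorProduct.algebraMap_apply, Algebra.algebraMap_self_apply] at hb₀
  have h1 : (a * b₀) ⊗ₜ[R] (1 : FractionRing R) =
      (algebraMap R (MvPowerSeries (Fin 2) R ⧸ Ideal.span {(X 0 * X 1 - C r : MvPowerSeries (Fin 2) R)}) s₀) ⊗ₜ[R] (1 : FractionRing R) := by
    rw [show (a * b₀) ⊗ₜ[R] (1 : FractionRing R) = (a ⊗ₜ[R] 1) * (b₀ ⊗ₜ[R] 1) by
      rw [Algebra.TensorProduct.tmul_mul_tmul, one_mul], ← hb₀, ← mul_assoc, hz, one_mul]
  obtain ⟨⟨_, s₁, hs₁, rfl⟩, hs₁'⟩ := IsLocalization.exists_of_eq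
    (M := Algebra.algebraMapSubmonoid (MvPowerSeries (Fin 2) R ⧸ Ideal.span {(X 0 * X 1 - C r : MvPowerSeries (Fin 2) R)}) (nonZeroDivisors R))
    (S := (MvPowerSeries (Fin 2) R ⧸ Ideal.span {(X 0 * X 1 - C r : MvPowerSeries (Fin 2) R)}) ⊗[R] FractionRing R) (x := a * b₀)
    (y := algebraMap R (MvPowerSeries (Fin 2) R ⧸ Ideal.span {(X 0 * X 1 - C r : MvPowerSeries (Fin 2) R)}) s₀) h1
  obtain ⟨f, rfl⟩ := Ideal.Quotient.mk_surjective a
  obtain ⟨g, hg⟩ := Ideal.Quotient.mk_surjective (algebraMap R _ s₁ * b₀)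
  set s := s₁ * s₀
  have hs : s ≠ 0 := mul_ne_zero (nonZeroDivisors.ne_zero hs₁) (nonZeroDivisors.ne_zero hs₀)
  have hfg : f * g - C s ∈ I := by
    rw [← Ideal.Quotient.eq, map_mul, hg]
    have hC : Ideal.Quotient.mk I (C s) = algebraMap R _ s := rfl
    rw [hC, map_mul (algebraMap R _), ← mul_assoc, mul_comm (Ideal.Quotient.mk I f), mul_assoc]
    exact hs₁'
  have hprod : ∀ i, CAlg99.NodeSeries.phi hrm (CAlg99.NodeSeries.normal (CAlg99.NodeSeries.phi hrm f) *
      CAlg99.NodeSeries.normal (CAlg99.NodeSeries.phi hrm g)) i = if i = 0 then s else 0 := fun i => by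
    rw [CAlg99.NodeSeries.phi_mul_normal, CAlg99.NodeSeries.phi_congr hrm hfg, CAlg99.NodeSeries.phi_C]
  obtain ⟨n, hn0, hn⟩ := main hrm _ _ s hprod hr hs
  set A := CAlg99.NodeSeries.phi hrm f with hA
  -- the unit
  have hU : ∀ j : ℤ, ∃ c, A n * r ^ (n.toNat + j.toNat) * c = A (n + j) * r ^ (n + j).toNat := by
    intro j
    rcases le_total 0 j with hj | hj
    · obtain ⟨c, hc⟩ := (hn (n + j)).2
      refine ⟨c, mul_left_cancel₀ (pow_ne_zero (-(n + j)).toNat hr) ?_⟩
      have he : (-(n + j)).toNat + (n.toNat + j.toNat) = (n + j).toNat + (-n).toNat := by omega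
      calc r ^ (-(n + j)).toNat * (A n * r ^ (n.toNat + j.toNat) * c)
          = A n * c * r ^ ((-(n + j)).toNat + (n.toNat + j.toNat)) := by rw [pow_add]; ring
        _ = r ^ (n + j).toNat * (A n * r ^ (-n).toNat * c) := by rw [he, pow_add]; ring
        _ = _ := by rw [← hc]; ring
    · obtain ⟨c, hc⟩ := (hn (n + j)).1
      exact ⟨c, by rw [show j.toNat = 0 by omega, add_zero]; exact hc.symm⟩
  choose U hU using hU
  have hU0 : U 0 = 1 := by
    have := hU 0
    simp only [Int.toNat_zero, add_zero] at this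
    exact mul_left_cancel₀ (mul_ne_zero hn0 (pow_ne_zero _ hr)) (this.trans (mul_one _).symm)
  have hu : IsUnit (CAlg99.NodeSeries.normal U) := by
    rw [MvPowerSeries.isUnit_iff_constantCoeff, ← MvPowerSeries.coeff_zero_eq_constantCoeff_apply,
      CAlg99.NodeSeries.eq_E (0 : Fin 2 →₀ ℕ), CAlg99.NodeSeries.coeff_normal]
    simp [hU0]
  refine ⟨A n, (-n).toNat, n.toNat, (hu.map (Ideal.Quotient.mk I)).unit, ?_, ?_⟩
  · rcases le_total 0 n with h | h
    · rw [show (-n).toNat = 0 by omega, zero_mul]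
    · rw [show n.toNat = 0 by omega, mul_zero]
  rw [IsUnit.unit_spec, ← map_mul, Ideal.Quotient.eq]
  refine CAlg99.NodeSeries.sub_mem_span_of_phi_eq hrm _ _ fun i => ?_
  have hmon : (X 0 ^ n.toNat * X 1 ^ (-n).toNat : MvPowerSeries (Fin 2) R) =
      monomial (CAlg99.NodeSeries.E n.toNat (-n).toNat) 1 := by
    rw [X_pow_eq, X_pow_eq, monomial_mul_monomial, one_mul]
    congr 2
    ext j
    fin_cases j <;> simp
  rw [mul_assoc (C (A n)), hmon, mul_assoc, CAlg99.NodeSeries.phi_C_mul, phi_monomial_mul hrm,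
    show i - (n.toNat : ℤ) + ((-n).toNat : ℤ) = i - n by omega]
  have h2 := hU (i - n)
  rw [add_sub_cancel] at h2
  refine mul_right_cancel₀ (pow_ne_zero i.toNat hr) ?_
  show A i * r ^ i.toNat = _
  rw [← h2, show n.toNat + (i - n).toNat = (n.toNat + (i - n).toNat - i.toNat) + i.toNat by omega, pow_add,
    Nat.add_sub_cancel]
  ring

end Groth.Agent.S17719
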