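import Mathlib
import Groth.Statements.S17720
-- import your own Groth.Agent.* helpers here

set_option autoImplicit false
universe u
open CAlg

namespace Groth.Agent.S17720

theorem coeff_mul_small {A : Type u} [CommRing A] (f g : MvPowerSeries (Fin 2) A) :
    (MvPowerSeries.coeff (0 : Fin 2 →₀ ℕ) (f * g) = MvPowerSeries.coeff 0 f * MvPowerSeries.coeff 0 g) ∧
    (∀ i : Fin 2, MvPowerSeries.coeff (Finsupp.single i 1) (f * g) =
      MvPowerSeries.coeff 0 f * MvPowerSeries.coeff (Finsupp.single i 1) g +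
      MvPowerSeries.coeff (Finsupp.single i 1) f * MvPowerSeries.coeff 0 g) ∧
    (∀ i : Fin 2, MvPowerSeries.coeff (Finsupp.single i 2) (f * g) =
      MvPowerSeries.coeff 0 f * MvPowerSeries.coeff (Finsupp.single i 2) g +
      MvPowerSeries.coeff (Finsupp.single i 1) f * MvPowerSeries.coeff (Finsupp.single i 1) g +
      MvPowerSeries.coeff (Finsupp.single i 2) f * MvPowerSeries.coeff 0 g) ∧
    (MvPowerSeries.coeff (Finsupp.single 0 1 + Finsupp.single 1 1) (f * g) =
      MvPowerSeries.coeff 0 f * MvPowerSeries.coeff (Finsupp.single 0 1 + Finsupp.single 1 1) g +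
      MvPowerSeries.coeff (Finsupp.single 0 1) f * MvPowerSeries.coeff (Finsupp.single 1 1) g +
      MvPowerSeries.coeff (Finsupp.single 1 1) f * MvPowerSeries.coeff (Finsupp.single 0 1) g +
      MvPowerSeries.coeff (Finsupp.single 0 1 + Finsupp.single 1 1) f * MvPowerSeries.coeff 0 g) := by
  classical
  have hcases : ∀ (d : Fin 2 →₀ ℕ) (a b : ℕ), d 0 = a → d 1 = b → d = Finsupp.single 0 a + Finsupp.single 1 b := by
    intro d a b ha hb
    ext i; fin_cases i <;> simp [ha, hb]
  refine ⟨by simp, fun i => ?_, fun i => ?_, ?_⟩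
  · rw [MvPowerSeries.coeff_mul, Finsupp.antidiagonal_single, Finset.sum_map]
    simp [Finset.Nat.sum_antidiagonal_succ]
  · rw [MvPowerSeries.coeff_mul, Finsupp.antidiagonal_single, Finset.sum_map]
    simp [Finset.Nat.sum_antidiagonal_succ, ← Finsupp.single_add]
    ring
  · rw [MvPowerSeries.coeff_mul]
    have hset : Finset.HasAntidiagonal.antidiagonal (Finsupp.single (0 : Fin 2) 1 + Finsupp.single 1 1) =
        {((0 : Fin 2 →₀ ℕ), Finsupp.single 0 1 + Finsupp.single 1 1),
         (Finsupp.single 0 1, Finsupp.single 1 1), (Finsupp.single 1 1, Finsupp.single 0 1),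
         (Finsupp.single 0 1 + Finsupp.single 1 1, 0)} := by
      ext ⟨p, q⟩
      rw [Finset.HasAntidiagonal.mem_antidiagonal]
      constructor
      · intro h
        have h0 : p 0 + q 0 = 1 := by simpa using DFunLike.congr_fun h 0
        have h1 : p 1 + q 1 = 1 := by simpa using DFunLike.congr_fun h 1
        rcases (show p 0 = 0 ∨ p 0 = 1 by omega) with a | a <;> rcases (show p 1 = 0 ∨ p 1 = 1 by omega) with b | b <;>
          [rw [hcases p 0 0 a b, hcases q 1 1 (by omega) (by omega)];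
           rw [hcases p 0 1 a b, hcases q 1 0 (by omega) (by omega)];
           rw [hcases p 1 0 a b, hcases q 0 1 (by omega) (by omega)];
           rw [hcases p 1 1 a b, hcases q 0 0 (by omega) (by omega)]] <;> simp
      · intro h
        simp only [Finset.mem_insert, Finset.mem_singleton, Prod.mk.injEq] at h
        rcases h with ⟨rfl, rfl⟩ | ⟨rfl, rfl⟩ | ⟨rfl, rfl⟩ | ⟨rfl, rfl⟩ <;> simp [add_comm]
    rw [hset, Finset.sum_insert (by simp [Finsupp.ext_iff, Fin.forall_fin_two]),
      Finset.sum_insert (by simp [Finsupp.ext_iff, Fin.forall_fin_two]),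
      Finset.sum_insert (by simp [Finsupp.ext_iff, Fin.forall_fin_two]), Finset.sum_singleton]
    ring

theorem mem_of_algEquiv {A : Type u} [CommRing A] [IsLocalRing A] (α β : A)
    (hα : α ∈ IsLocalRing.maximalIdeal A) (hβ : β ∈ IsLocalRing.maximalIdeal A)
    (φ : (MvPowerSeries (Fin 2) A ⧸ Ideal.span {(MvPowerSeries.X 0 * MvPowerSeries.X 1 - MvPowerSeries.C α : MvPowerSeries (Fin 2) A)}) ≃ₐ[A]
      (MvPowerSeries (Fin 2) A ⧸ Ideal.span {(MvPowerSeries.X 0 * MvPowerSeries.X 1 - MvPowerSeries.C β : MvPowerSeries (Fin 2) A)})) :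
    α ∈ Ideal.span {β} := by
  classical
  let m := IsLocalRing.maximalIdeal A
  let Iα : Ideal (MvPowerSeries (Fin 2) A) := Ideal.span {MvPowerSeries.X 0 * MvPowerSeries.X 1 - MvPowerSeries.C α}
  let J : Ideal A := Ideal.span {β} ⊔ m * Ideal.span {α}
  let a : Fin 2 →₀ ℕ := Finsupp.single 0 1 + Finsupp.single 1 1
  -- coefficients of multiples of `xy - α`
  have hxy : (MvPowerSeries.X 0 * MvPowerSeries.X 1 : MvPowerSeries (Fin 2) A) = MvPowerSeries.monomial a (1 : A) := by
    rw [MvPowerSeries.X, MvPowerSeries.X, MvPowerSeries.monomial_mul_monomial, one_mul]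
  have hrel : ∀ (q : MvPowerSeries (Fin 2) A) (d : Fin 2 →₀ ℕ), (d 0 = 0 ∨ d 1 = 0) →
      MvPowerSeries.coeff d ((MvPowerSeries.X 0 * MvPowerSeries.X 1 - MvPowerSeries.C α) * q) =
        -(α * MvPowerSeries.coeff d q) := by
    intro q d hd
    rw [sub_mul, map_sub, hxy, MvPowerSeries.coeff_monomial_mul, if_neg (fun h => by
      have h0 := h 0; have h1 := h 1
      simp [a] at h0 h1
      omega), MvPowerSeries.coeff_C_mul, zero_sub]
  have hrel' : ∀ (q : MvPowerSeries (Fin 2) A),
      MvPowerSeries.coeff a ((MvPowerSeries.X 0 * MvPowerSeries.X 1 - MvPowerSeries.C α) * q) =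
        MvPowerSeries.coeff 0 q - α * MvPowerSeries.coeff a q := by
    intro q
    rw [sub_mul, map_sub, hxy, MvPowerSeries.coeff_monomial_mul, if_pos le_rfl, tsub_self, one_mul,
      MvPowerSeries.coeff_C_mul]
  -- preimages of the coordinates
  let ψ := φ.symm
  obtain ⟨f, hf⟩ := Ideal.Quotient.mk_surjective (ψ (Ideal.Quotient.mk _ (MvPowerSeries.X 0)))
  obtain ⟨g, hg⟩ := Ideal.Quotient.mk_surjective (ψ (Ideal.Quotient.mk _ (MvPowerSeries.X 1)))
  have hprod : f * g - MvPowerSeries.C β ∈ Iα := by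
    refine Ideal.Quotient.eq.mp ?_
    rw [map_mul, hf, hg, ← map_mul, ← map_mul]
    have h1 : Ideal.Quotient.mk (Ideal.span {(MvPowerSeries.X 0 * MvPowerSeries.X 1 - MvPowerSeries.C β : MvPowerSeries (Fin 2) A)})
        (MvPowerSeries.X 0 * MvPowerSeries.X 1) = algebraMap A _ β :=
      Ideal.Quotient.eq.mpr (Ideal.mem_span_singleton_self _)
    rw [h1, AlgEquiv.commutes]
    rfl
  obtain ⟨q, hq⟩ := Ideal.mem_span_singleton.mp hprod
  have hC : ∀ d : Fin 2 →₀ ℕ, d ≠ 0 → MvPowerSeries.coeff d (MvPowerSeries.C β : MvPowerSeries (Fin 2) A) = 0 :=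
    fun d hd => by rw [MvPowerSeries.coeff_C, if_neg hd]
  let f0 := MvPowerSeries.coeff (0 : Fin 2 →₀ ℕ) f
  let g0 := MvPowerSeries.coeff (0 : Fin 2 →₀ ℕ) g
  let fc : Fin 2 → A := fun i => MvPowerSeries.coeff (Finsupp.single i 1) f
  let gc : Fin 2 → A := fun i => MvPowerSeries.coeff (Finsupp.single i 1) g
  obtain ⟨e0, e1, e2, e11⟩ := coeff_mul_small f g
  have hax : (Finsupp.single (0 : Fin 2) 1 : Fin 2 →₀ ℕ) ≠ 0 := by simp
  have E0 : f0 * g0 - β = -(α * MvPowerSeries.coeff 0 q) := by
    have := congrArg (MvPowerSeries.coeff (0 : Fin 2 →₀ ℕ)) hq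
    rw [hrel q 0 (Or.inl rfl), map_sub, e0, MvPowerSeries.coeff_C, if_pos rfl] at this
    exact this
  have E1 : ∀ i, f0 * gc i + fc i * g0 = -(α * MvPowerSeries.coeff (Finsupp.single i 1) q) := fun i => by
    have := congrArg (MvPowerSeries.coeff (Finsupp.single i 1)) hq
    rw [hrel q _ (by fin_cases i <;> simp), map_sub, e1, hC _ (by simp), sub_zero] at this
    exact this
  have E2 : ∀ i, f0 * MvPowerSeries.coeff (Finsupp.single i 2) g + fc i * gc i +
      MvPowerSeries.coeff (Finsupp.single i 2) f * g0 = -(α * MvPowerSeries.coeff (Finsupp.single i 2) q) := fun i => by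
    have := congrArg (MvPowerSeries.coeff (Finsupp.single i 2)) hq
    rw [hrel q _ (by fin_cases i <;> simp), map_sub, e2, hC _ (by simp), sub_zero] at this
    exact this
  have E11 : f0 * MvPowerSeries.coeff a g + fc 0 * gc 1 + fc 1 * gc 0 + MvPowerSeries.coeff a f * g0 =
      MvPowerSeries.coeff 0 q - α * MvPowerSeries.coeff a q := by
    have := congrArg (MvPowerSeries.coeff a) hq
    rw [hrel', map_sub, hC _ (by simp [a, Finsupp.ext_iff, Fin.forall_fin_two]), sub_zero, e11] at this
    exact this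
  -- nonunits
  have hnu : ∀ (i : Fin 2) (h : MvPowerSeries (Fin 2) A),
      Ideal.Quotient.mk Iα h = ψ (Ideal.Quotient.mk _ (MvPowerSeries.X i)) → MvPowerSeries.coeff (0 : Fin 2 →₀ ℕ) h ∈ m := by
    intro i h hh hu
    have h1 : IsUnit h := MvPowerSeries.isUnit_iff_constantCoeff.mpr (by simpa using hu)
    have h2 := h1.map (Ideal.Quotient.mk Iα)
    rw [hh] at h2
    have h3 := h2.map φ
    rw [show φ (ψ _) = _ from φ.apply_symm_apply _] at h3
    obtain ⟨w, hw⟩ := h3.exists_right_inv
    obtain ⟨w, rfl⟩ := Ideal.Quotient.mk_surjective w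
    rw [← map_mul, ← map_one (Ideal.Quotient.mk _)] at hw
    obtain ⟨t, ht⟩ := Ideal.mem_span_singleton.mp (Ideal.Quotient.eq.mp hw)
    have := congrArg MvPowerSeries.constantCoeff ht
    simp only [map_sub, map_mul, MvPowerSeries.constantCoeff_X, zero_mul, map_one, zero_sub,
      MvPowerSeries.constantCoeff_C] at this
    have h1m : (1 : A) ∈ m := by
      rw [show (1 : A) = β * MvPowerSeries.constantCoeff t by linear_combination -this]
      exact Ideal.mul_mem_right _ _ hβ
    exact (IsLocalRing.maximalIdeal.isMaximal A).ne_top ((Ideal.eq_top_iff_one _).mpr h1m)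
  have hf0 : f0 ∈ m := hnu 0 f hf
  have hg0 : g0 ∈ m := hnu 1 g hg
  -- the linear parts span modulo `m`
  have hspan : ∀ i : Fin 2, ∃ u v : A, ∀ j : Fin 2, fc j * u + gc j * v - (if i = j then 1 else 0) ∈ m := by
    intro i
    obtain ⟨h, hh⟩ := Ideal.Quotient.mk_surjective (φ (Ideal.Quotient.mk Iα (MvPowerSeries.X i)))
    let p : Fin 2 → MvPowerSeries (Fin 2) A := ![fun d => MvPowerSeries.coeff (d + Finsupp.single 0 1) h,
      fun d => if d 0 = 0 then MvPowerSeries.coeff (d + Finsupp.single 1 1) h else 0]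
    have hdec : h = MvPowerSeries.C (MvPowerSeries.coeff 0 h) + MvPowerSeries.X 0 * p 0 + MvPowerSeries.X 1 * p 1 := by
      ext d
      simp only [map_add, MvPowerSeries.coeff_C, MvPowerSeries.X, MvPowerSeries.coeff_monomial_mul, one_mul]
      by_cases h0 : d 0 = 0
      · by_cases h1 : d 1 = 0
        · have hd : d = 0 := by ext k; fin_cases k <;> simp [h0, h1]
          subst hd
          simp [Finsupp.le_def, Fin.forall_fin_two]
        · have hd : d ≠ 0 := fun hd => h1 (by rw [hd]; rfl)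
          have hle : Finsupp.single (1 : Fin 2) 1 ≤ d := by simp [Finsupp.le_def, Fin.forall_fin_two]; omega
          have hle' : ¬ Finsupp.single (0 : Fin 2) 1 ≤ d := by simp [Finsupp.le_def, Fin.forall_fin_two]; omega
          rw [if_neg hd, if_neg hle', if_pos hle]
          show _ = 0 + 0 + (if ((d - Finsupp.single 1 1 : Fin 2 →₀ ℕ) 0) = 0 then _ else 0)
          rw [if_pos (by simp [h0]), tsub_add_cancel_of_le hle]
          simp
      · have hd : d ≠ 0 := fun hd => h0 (by rw [hd]; rfl)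
        have hle : Finsupp.single (0 : Fin 2) 1 ≤ d := by simp [Finsupp.le_def, Fin.forall_fin_two]; omega
        rw [if_neg hd, if_pos hle]
        show _ = 0 + MvPowerSeries.coeff (d - Finsupp.single 0 1 + Finsupp.single 0 1) h + _
        rw [tsub_add_cancel_of_le hle]
        split_ifs with hle'
        · show _ = 0 + _ + (if ((d - Finsupp.single 1 1 : Fin 2 →₀ ℕ) 0) = 0 then _ else 0)
          rw [if_neg (by simp [h0])]
          simp
        · simp
    choose P hP using fun k : Fin 2 => Ideal.Quotient.mk_surjective (I := Iα) (ψ (Ideal.Quotient.mk _ (p k)))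
    have hX : MvPowerSeries.X i - (MvPowerSeries.C (MvPowerSeries.coeff 0 h) + f * P 0 + g * P 1) ∈ Iα := by
      refine Ideal.Quotient.eq.mp ?_
      have h7 := congrArg ψ hh
      rw [show ψ (φ _) = _ from φ.symm_apply_apply _, congrArg (Ideal.Quotient.mk _) hdec] at h7
      rw [map_add, map_add, map_mul, map_mul, map_add, map_add, map_mul, map_mul, ← hP, ← hP, ← hf, ← hg,
        show ψ (Ideal.Quotient.mk _ (MvPowerSeries.C (MvPowerSeries.coeff 0 h))) =
          Ideal.Quotient.mk Iα (MvPowerSeries.C (MvPowerSeries.coeff 0 h)) from ψ.commutes _] at h7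
      rw [map_add, map_add, map_mul, map_mul]
      exact h7.symm
    obtain ⟨t, ht⟩ := Ideal.mem_span_singleton.mp hX
    refine ⟨MvPowerSeries.coeff 0 (P 0), MvPowerSeries.coeff 0 (P 1), fun j => ?_⟩
    have h1 := congrArg (MvPowerSeries.coeff (Finsupp.single j 1)) ht
    rw [hrel t _ (by fin_cases j <;> simp), map_sub, map_add, map_add, MvPowerSeries.coeff_X,
      MvPowerSeries.coeff_C, if_neg (show ¬ Finsupp.single j 1 = (0 : Fin 2 →₀ ℕ) by simp), (coeff_mul_small f (P 0)).2.1 j, (coeff_mul_small g (P 1)).2.1 j,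
      zero_add] at h1
    have h2 : (if Finsupp.single j 1 = Finsupp.single i 1 then (1 : A) else 0) = if i = j then 1 else 0 := by
      simp [Finsupp.single_left_inj, eq_comm]
    rw [h2] at h1
    have h3 : fc j * MvPowerSeries.coeff 0 (P 0) + gc j * MvPowerSeries.coeff 0 (P 1) - (if i = j then 1 else 0) =
        α * MvPowerSeries.coeff (Finsupp.single j 1) t
          - f0 * MvPowerSeries.coeff (Finsupp.single j 1) (P 0)
          - g0 * MvPowerSeries.coeff (Finsupp.single j 1) (P 1) := by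
      linear_combination -h1
    rw [h3]
    exact sub_mem (sub_mem (m.mul_mem_right _ hα) (m.mul_mem_right _ hf0)) (m.mul_mem_right _ hg0)
  obtain ⟨u₀, v₀, h₀⟩ := hspan 0
  obtain ⟨u₁, v₁, h₁⟩ := hspan 1
  -- invertibility
  have hdet : IsUnit (fc 0 * gc 1 - fc 1 * gc 0) := by
    refine IsLocalRing.notMem_maximalIdeal.mp fun hd => ?_
    have key : (fc 0 * u₀ + gc 0 * v₀) * (fc 1 * u₁ + gc 1 * v₁) -
        (fc 1 * u₀ + gc 1 * v₀) * (fc 0 * u₁ + gc 0 * v₁) =
        (fc 0 * gc 1 - fc 1 * gc 0) * (u₀ * v₁ - v₀ * u₁) := by ring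
    have hone : (1 : A) ∈ m := by
      have a00 := h₀ 0; have a01 := h₀ 1; have a10 := h₁ 0; have a11 := h₁ 1
      simp only [if_true, show ((0 : Fin 2) = 1) = False by simp, show ((1 : Fin 2) = 0) = False by simp,
        if_false, sub_zero] at a00 a01 a10 a11
      have h3 : (1 : A) = (fc 0 * gc 1 - fc 1 * gc 0) * (u₀ * v₁ - v₀ * u₁)
          - (fc 0 * u₀ + gc 0 * v₀ - 1) * (fc 1 * u₁ + gc 1 * v₁)
          - (fc 1 * u₁ + gc 1 * v₁ - 1) + (fc 1 * u₀ + gc 1 * v₀) * (fc 0 * u₁ + gc 0 * v₁) := by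
        linear_combination key
      rw [h3]
      exact add_mem (sub_mem (sub_mem (m.mul_mem_right _ hd) (m.mul_mem_right _ a00)) a11) (m.mul_mem_right _ a01)
    exact (IsLocalRing.maximalIdeal.isMaximal A).ne_top ((Ideal.eq_top_iff_one _).mpr hone)
  let D := fc 0 * gc 1 - fc 1 * gc 0
  have hff : ∀ i, fc i * gc i ∈ m := fun i => by
    rw [show fc i * gc i = -(α * MvPowerSeries.coeff (Finsupp.single i 2) q)
      - f0 * MvPowerSeries.coeff (Finsupp.single i 2) g - g0 * MvPowerSeries.coeff (Finsupp.single i 2) f by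
      linear_combination E2 i]
    exact sub_mem (sub_mem (neg_mem (m.mul_mem_right _ hα)) (m.mul_mem_right _ hf0)) (m.mul_mem_right _ hg0)
  have hS : IsUnit (fc 0 * gc 1 + fc 1 * gc 0) := by
    refine IsLocalRing.notMem_maximalIdeal.mp fun hs => ?_
    have h4 : D ^ 2 = (fc 0 * gc 1 + fc 1 * gc 0) ^ 2 - 4 * (fc 0 * gc 0) * (fc 1 * gc 1) := by
      simp only [D]; ring
    have h5 : D ^ 2 ∈ m := by
      rw [h4]
      exact sub_mem (Ideal.pow_mem_of_mem m hs 2 two_pos) (m.mul_mem_left _ (hff 1))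
    exact (IsLocalRing.mem_maximalIdeal _).mp ((IsLocalRing.maximalIdeal.isMaximal A).isPrime.mem_of_pow_mem 2 h5) hdet
  -- conclusion
  have hJα : ∀ x : A, x ∈ m → α * x ∈ J := fun x hx =>
    Ideal.mem_sup_right (mul_comm α x ▸ Ideal.mul_mem_mul hx (Ideal.mem_span_singleton_self α))
  obtain ⟨D', hD'⟩ := hdet.exists_right_inv
  have hsolve : g0 * D = -(α * MvPowerSeries.coeff (Finsupp.single 0 1) q) * gc 1
      + (α * MvPowerSeries.coeff (Finsupp.single 1 1) q) * gc 0 := by
    simp only [D]; linear_combination (gc 1) * E1 0 - (gc 0) * E1 1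
  have hsolve' : f0 * D = -(α * MvPowerSeries.coeff (Finsupp.single 1 1) q) * fc 0
      + (α * MvPowerSeries.coeff (Finsupp.single 0 1) q) * fc 1 := by
    simp only [D]; linear_combination (fc 0) * E1 1 - (fc 1) * E1 0
  obtain ⟨kg, hkg⟩ : ∃ k, g0 = α * k := ⟨D' * (-(MvPowerSeries.coeff (Finsupp.single 0 1) q) * gc 1
      + MvPowerSeries.coeff (Finsupp.single 1 1) q * gc 0), by linear_combination D' * hsolve - g0 * hD'⟩
  obtain ⟨kf, hkf⟩ : ∃ k, f0 = α * k := ⟨D' * (-(MvPowerSeries.coeff (Finsupp.single 1 1) q) * fc 0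
      + MvPowerSeries.coeff (Finsupp.single 0 1) q * fc 1), by linear_combination D' * hsolve' - f0 * hD'⟩
  have hfin : α * (fc 0 * gc 1 + fc 1 * gc 0) ∈ J := by
    have h6 : α * (fc 0 * gc 1 + fc 1 * gc 0) = β - α * (α * (kf * kg))
        - α * (α * MvPowerSeries.coeff a q) - α * (f0 * MvPowerSeries.coeff a g)
        - α * (g0 * MvPowerSeries.coeff a f) := by
      linear_combination α * E11 + E0 - g0 * hkf - (α * kf) * hkg
    rw [h6]
    exact sub_mem (sub_mem (sub_mem (sub_mem (Ideal.mem_sup_left (Ideal.mem_span_singleton_self β))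
      (hJα _ (m.mul_mem_right _ hα))) (hJα _ (m.mul_mem_right _ hα))) (hJα _ (m.mul_mem_right _ hf0)))
      (hJα _ (m.mul_mem_right _ hg0))
  have hαJ : α ∈ J := by
    obtain ⟨s, hs⟩ := hS.exists_right_inv
    have := J.mul_mem_right s hfin
    rwa [mul_assoc, hs, mul_one] at this
  obtain ⟨b, hb, c, hc, hbc⟩ := Submodule.mem_sup.mp hαJ
  obtain ⟨μ, hμ, rfl⟩ := Ideal.mem_mul_span_singleton.mp hc
  obtain ⟨w, hw⟩ := (IsLocalRing.isUnit_one_sub_self_of_mem_nonunits μ ((IsLocalRing.mem_maximalIdeal μ).mp hμ)).exists_right_inv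
  have hαb : α = b * w := by linear_combination (-α) * hw - w * hbc
  rw [hαb]
  exact Ideal.mul_mem_right w _ hb


open MvPowerSeries IsLocalRing in
/-- Let A be a Noetherian local ring and α, β two elements of its maximal ideal. If the quotient of the
power series ring in two variables over A by xy − α is isomorphic, as an A-algebra, to the quotient
by xy − β, then αA = βA. (The published statement allows any local ring A; it is taken Noetherian
here, the case in which an algebra isomorphism between these complete local rings is continuous for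
their adic topologies.) -/
theorem result
    (A : Type u) [CommRing A] [IsLocalRing A] [IsNoetherianRing A]
    (α β : A) (hα : α ∈ maximalIdeal A) (hβ : β ∈ maximalIdeal A)
    (φ : (MvPowerSeries (Fin 2) A ⧸ Ideal.span {(X 0 * X 1 - C α : MvPowerSeries (Fin 2) A)}) ≃ₐ[A] (MvPowerSeries (Fin 2) A ⧸ Ideal.span {(X 0 * X 1 - C β : MvPowerSeries (Fin 2) A)})) :
    Ideal.span {α} = Ideal.span {β} := by
  exact le_antisymm ((Ideal.span_singleton_le_iff_mem _).mpr (mem_of_algEquiv α β hα hβ φ))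
    ((Ideal.span_singleton_le_iff_mem _).mpr (mem_of_algEquiv β α hβ hα φ.symm))

end Groth.Agent.S17720
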