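import Mathlib
import Groth.Statements.S17721
-- import your own Groth.Agent.* helpers here

set_option autoImplicit false
universe u
open CAlg

namespace Groth.Agent.S17721

open Polynomial IsLocalRing in
/-- Let R be a complete discrete valuation ring with fraction field K, and f a polynomial over R with
non-zero constant term a₀ such that a₀ does not divide some coefficient of f of positive degree
(equivalently, the Newton polygon of f has a side of negative slope). Let b be the power series over
K with b · f = a₀, the expansion of the geometric series in 1 − f/a₀. Then the valuations of the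
coefficients b_j are not bounded below: for every non-zero c in R there is an index j with c · b_j
outside R. -/
theorem result
    (R : Type u) [CommRing R] [IsDomain R] [IsDiscreteValuationRing R]
    [IsAdicComplete (maximalIdeal R) R]
    (K : Type u) [Field K] [Algebra R K] [IsFractionRing R K]
    (f : R[X]) (h0 : f.coeff 0 ≠ 0) (hslope : ∃ i : ℕ, 0 < i ∧ ¬ (f.coeff 0 ∣ f.coeff i))
    (b : PowerSeries K)
    (hb : b * ((f.map (algebraMap R K) : K[X]) : PowerSeries K) = PowerSeries.C (algebraMap R K (f.coeff 0))) :
    ∀ c : R, c ≠ 0 → ∃ j : ℕ, algebraMap R K c * PowerSeries.coeff j b ∉ (algebraMap R K).range := by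
  intro c hc
  by_contra hcon
  push Not at hcon
  obtain ⟨π, hπ⟩ := IsDiscreteValuationRing.exists_irreducible R
  have hinjK := IsFractionRing.injective R K
  choose g hg using fun j => RingHom.mem_range.mp (hcon j)
  set B : PowerSeries R := PowerSeries.mk g with hB
  have hBmap : PowerSeries.map (algebraMap R K) B = PowerSeries.C (algebraMap R K c) * b := by
    ext j; simp [hB, hg]
  have hprod : B * (f : PowerSeries R) = PowerSeries.C (c * f.coeff 0) := by
    apply PowerSeries.map_injective (algebraMap R K) hinjK
    rw [map_mul, hBmap, PowerSeries.map_C, map_mul (algebraMap R K), map_mul, ← Polynomial.polynomial_map_coe,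
      mul_assoc, hb]
  have hg0 : g 0 = c := by
    have h := congrArg (PowerSeries.coeff 0) hprod
    simp [hB] at h
    exact h.resolve_right h0
  -- reduced factorisation
  have red : ∀ v : ℕ → R, (∃ j, v j ≠ 0) → ∃ (e : ℕ) (w : ℕ → R), (∀ j, v j = π ^ e * w j) ∧ ∃ j, ¬ π ∣ w j := by
    intro v hv
    classical
    have hex : ∃ e, ∃ j, ¬ π ^ (e + 1) ∣ v j := by
      obtain ⟨j, hj⟩ := hv
      obtain ⟨N, u, hu⟩ := IsDiscreteValuationRing.eq_unit_mul_pow_irreducible hj hπ
      refine ⟨N, j, fun h => ?_⟩
      rw [hu, pow_succ, Units.dvd_mul_left] at h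
      obtain ⟨q, hq⟩ := h
      have : π * q = 1 := by
        have h2 : π ^ N * (π * q) = π ^ N * 1 := by rw [mul_one, ← mul_assoc]; exact hq.symm
        exact mul_left_cancel₀ (pow_ne_zero _ hπ.ne_zero) h2
      exact hπ.not_isUnit (IsUnit.of_mul_eq_one _ this)
    have hd : ∀ j, π ^ Nat.find hex ∣ v j := by
      intro j
      rcases Nat.eq_zero_or_pos (Nat.find hex) with h | h
      · rw [h, pow_zero]; exact one_dvd _
      · have := Nat.find_min hex (Nat.sub_one_lt_of_lt h)
        push Not at this
        simpa [Nat.sub_add_cancel h] using this j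
    choose w hw using hd
    obtain ⟨j, hj⟩ := Nat.find_spec hex
    exact ⟨Nat.find hex, w, hw, j, fun h => hj (by rw [hw j, pow_succ]; exact mul_dvd_mul_left _ h)⟩
  obtain ⟨β, B', hB', j₁, hj₁⟩ := red g ⟨0, by rw [hg0]; exact hc⟩
  obtain ⟨φ, f', hf', j₂, hj₂⟩ := red (fun i => f.coeff i) ⟨0, h0⟩
  have hf0 : π ∣ f' 0 := by
    by_contra hnd
    obtain ⟨i, -, hi⟩ := hslope
    apply hi
    have hu : IsUnit (f' 0) := by
      by_contra hnu
      apply hnd
      have := (IsLocalRing.mem_maximalIdeal (f' 0)).mpr hnu
      rwa [hπ.maximalIdeal_eq, Ideal.mem_span_singleton] at this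
    have e0 : f.coeff 0 = π ^ φ * f' 0 := hf' 0
    have ei : f.coeff i = π ^ φ * f' i := hf' i
    rw [e0, ei, hu.mul_right_dvd]
    exact Dvd.intro _ rfl
  set q := Ideal.Quotient.mk (IsLocalRing.maximalIdeal R) with hq
  have hFB : PowerSeries.mk B' * PowerSeries.mk f' = PowerSeries.C (B' 0 * f' 0) := by
    have h1 : B = PowerSeries.C (π ^ β) * PowerSeries.mk B' := by ext j; rw [PowerSeries.coeff_C_mul, hB, PowerSeries.coeff_mk, PowerSeries.coeff_mk]; exact hB' j
    have h2 : (f : PowerSeries R) = PowerSeries.C (π ^ φ) * PowerSeries.mk f' := by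
      ext j; rw [PowerSeries.coeff_C_mul, Polynomial.coeff_coe, PowerSeries.coeff_mk]; exact hf' j
    have h3 : PowerSeries.C (π ^ β * π ^ φ) * (PowerSeries.mk B' * PowerSeries.mk f') =
        PowerSeries.C (π ^ β * π ^ φ) * PowerSeries.C (B' 0 * f' 0) := by
      rw [map_mul, mul_mul_mul_comm, ← h1, ← h2, hprod, ← hg0, hB' 0,
        show f.coeff 0 = π ^ φ * f' 0 from hf' 0, ← map_mul, ← map_mul]
      congr 1
      ring
    refine mul_left_cancel₀ ?_ h3
    intro h
    have := congrArg PowerSeries.constantCoeff h
    simp [hπ.ne_zero] at this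
  have h4 := congrArg (PowerSeries.map q) hFB
  rw [map_mul, PowerSeries.map_C, map_mul q] at h4
  have hzero : q (f' 0) = 0 := by
    rw [hq, Ideal.Quotient.eq_zero_iff_mem, hπ.maximalIdeal_eq, Ideal.mem_span_singleton]; exact hf0
  rw [hzero, mul_zero, map_zero] at h4
  rcases mul_eq_zero.mp h4 with h | h
  · apply hj₁
    have := congrArg (PowerSeries.coeff j₁) h
    simpa [hq, Ideal.Quotient.eq_zero_iff_mem, hπ.maximalIdeal_eq, Ideal.mem_span_singleton] using this
  · apply hj₂
    have := congrArg (PowerSeries.coeff j₂) h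
    simpa [hq, Ideal.Quotient.eq_zero_iff_mem, hπ.maximalIdeal_eq, Ideal.mem_span_singleton] using this

end Groth.Agent.S17721
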