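import Mathlib
import Groth.Statements.S17722
-- import your own Groth.Agent.* helpers here

set_option autoImplicit false
universe u
open CAlg

namespace Groth.Agent.S17722

/-- Let R → R' be a faithfully flat ring map between Noetherian integrally closed local domains, and p
an ideal of R. If the ideal pR' generated by the image of p is principal, then p is principal. (The
second assertion of the published lemma, descent of unique factorization, is not part of this row.) -/
theorem result
    (R R' : Type u) [CommRing R] [CommRing R'] [IsDomain R] [IsDomain R']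
    [IsNoetherianRing R] [IsNoetherianRing R'] [IsLocalRing R] [IsLocalRing R']
    [IsIntegrallyClosed R] [IsIntegrallyClosed R']
    [Algebra R R'] [Module.FaithfullyFlat R R']
    (p : Ideal R) (hp : (p.map (algebraMap R R')).IsPrincipal) :
    p.IsPrincipal := by
  obtain ⟨g, hg⟩ := hp
  by_cases hp0 : p = ⊥
  · subst hp0; exact bot_isPrincipal
  have hinj : Function.Injective (algebraMap R R') := FaithfulSMul.algebraMap_injective R R'
  have hg' : p.map (algebraMap R R') = Ideal.span {g} := hg
  have hg0 : g ≠ 0 := by
    intro h
    apply hp0
    rw [h, Ideal.span_singleton_zero] at hg'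
    exact (Ideal.map_eq_bot_iff_of_injective hinj).mp hg'
  -- some element of `p` generates the extension
  obtain ⟨x, hx, hxg⟩ : ∃ x ∈ p, Ideal.span {algebraMap R R' x} = Ideal.span {g} := by
    by_contra hcon
    push Not at hcon
    have hle : p.map (algebraMap R R') ≤ Ideal.span {g} * IsLocalRing.maximalIdeal R' := by
      rw [Ideal.map_le_iff_le_comap]
      intro x hx
      have hxm : algebraMap R R' x ∈ Ideal.span {g} := hg' ▸ Ideal.mem_map_of_mem _ hx
      obtain ⟨c, hc⟩ := Ideal.mem_span_singleton'.mp hxm
      rw [Ideal.mem_comap, Ideal.mem_span_singleton_mul]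
      refine ⟨c, ?_, by rw [← hc]; ring⟩
      rw [IsLocalRing.mem_maximalIdeal]
      intro hu
      exact hcon x hx (by rw [← hc, Ideal.span_singleton_mul_left_unit hu])
    rw [hg', Ideal.span_singleton_le_iff_mem, Ideal.mem_span_singleton_mul] at hle
    obtain ⟨z, hz, hzg⟩ := hle
    have hz1 : z = 1 := mul_left_cancel₀ hg0 (by rw [hzg, mul_one])
    rw [hz1] at hz
    exact (IsLocalRing.mem_maximalIdeal _).mp hz isUnit_one
  refine ⟨x, ?_⟩
  show p = Ideal.span {x}
  rw [← p.comap_map_eq_self_of_faithfullyFlat (B := R'), hg', ← hxg,
    ← Ideal.comap_map_eq_self_of_faithfullyFlat (B := R') (Ideal.span {x}), Ideal.map_span,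
    Set.image_singleton]

end Groth.Agent.S17722
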