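import Groth.Statements.S17723
import Groth.Agent.LabG84.Cycles
-- import your own Groth.Agent.* helpers here

set_option autoImplicit false
universe u
open LabGraph

namespace Groth.Agent.S17723

/-- Let G be a finite connected multigraph with endpoint map ends and edge labels l taking positive
integer values. We say g : V → ℤ is elementary-Cartier if, for some integer n ≥ 1, all values of g
are multiples of n and, for each edge whose label fails to divide n, g agrees at its two endpoints
(equivalently, once the edges with label dividing n are removed, g takes a single value on each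
connected piece of what remains). Then every Cartier function f (for each edge, the label divides
the difference of the values of f at its endpoints) lies in the ℤ-span of the elementary-Cartier
functions. -/
theorem result
    {V E : Type u} [Fintype V] [Fintype E] [DecidableEq V] [DecidableEq E]
    (ends : E → V × V) (l : E → ℕ) (hl : ∀ e, 0 < l e) (hconn : LabGraph.Connected ends)
    (f : V → ℤ) (hf : LabGraph.IsCartier ends l f) :
    f ∈ Submodule.span ℤ {g : V → ℤ | ∃ n : ℕ, 0 < n ∧ (∀ v, (n : ℤ) ∣ g v) ∧
      ∀ e, ¬ (l e ∣ n) → g (ends e).1 = g (ends e).2} := by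
  classical
  let W : Submodule ℤ (V → ℤ) := Submodule.span ℤ {g : V → ℤ | ∃ n : ℕ, 0 < n ∧ (∀ v, (n : ℤ) ∣ g v) ∧
      ∀ e, ¬ (l e ∣ n) → g (ends e).1 = g (ends e).2}
  show f ∈ W
  let R : ℕ → Finset E → V → V := fun _ D v => Quotient.out (s := DualGr.ctrSetoid ends D) (DualGr.ctrMk ends D v)
  have hR : ∀ (D : Finset E) (v : V), DualGr.ctrMk ends D (R 0 D v) = DualGr.ctrMk ends D v :=
    fun D v => Quotient.out_eq (s := DualGr.ctrSetoid ends D) _
  have hRe : ∀ (D : Finset E), ∀ e ∈ D, R 0 D (ends e).1 = R 0 D (ends e).2 :=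
    fun D e he => congrArg (Quotient.out (s := DualGr.ctrSetoid ends D)) (DualGr.ctrMk_fst_eq_ctrMk_snd ends D he)
  have hmod : ∀ (D : Finset E) (n : ℤ), (∀ e ∈ D, n ∣ (l e : ℤ)) → ∀ v w,
      DualGr.ctrMk ends D v = DualGr.ctrMk ends D w → n ∣ f v - f w := by
    intro D n hD v w h
    have h' : Relation.EqvGen (DualGr.CtrRel ends D) v w := Quotient.exact h
    clear h
    induction h' with
    | rel x y hxy =>
      obtain ⟨e, he, hxy⟩ := hxy
      have := (hD e he).trans (hf e)
      rwa [hxy] at this
    | refl x => simp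
    | symm x y _ ih => rw [← neg_sub]; exact ih.neg_right
    | trans x y z _ _ i1 i2 => have := dvd_add i1 i2; simpa using this
  set N : ℕ := ∏ e, l e with hN
  have hN0 : 0 < N := Finset.prod_pos fun e _ => hl e
  have hlN : ∀ e, l e ∣ N := fun e => Finset.dvd_prod_of_mem l (Finset.mem_univ e)
  have hNf : (N : ℤ) • f ∈ W := Submodule.subset_span
    ⟨N, hN0, fun v => ⟨f v, rfl⟩, fun e he => absurd (hlN e) he⟩
  have hp : ∀ p : ℕ, p.Prime → ((ordCompl[p] N : ℕ) : ℤ) • f ∈ W := by
    intro p hp
    set M := ordCompl[p] N with hM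
    have hM0 : 0 < M := Nat.ordCompl_pos p hN0.ne'
    have hMco : ¬ p ∣ M := Nat.not_dvd_ordCompl hp hN0.ne'
    let D : ℕ → Finset E := fun k => Finset.univ.filter fun e => p ^ k ∣ l e
    have hdiv : ∀ e k, e ∉ D (k + 1) → l e ∣ M * p ^ k := by
      intro e k he
      obtain ⟨j, l', hl', hle⟩ := Nat.exists_eq_pow_mul_and_not_dvd (hl e).ne' p hp.one_lt.ne'
      have hjk : j ≤ k := by
        by_contra hjk
        exact he (Finset.mem_filter.2 ⟨Finset.mem_univ _, hle ▸ (Nat.pow_dvd_pow p (by omega)).trans (dvd_mul_right _ _)⟩)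
      have h2 : l' ∣ M := by
        have h1 : l' ∣ p ^ N.factorization p * M := by
          rw [hM, Nat.ordProj_mul_ordCompl_eq_self]
          exact (dvd_mul_left _ _).trans (hle ▸ hlN e)
        exact (Nat.Coprime.pow_right _ ((Nat.Prime.coprime_iff_not_dvd hp).2 hl').symm).dvd_of_dvd_mul_left h1
      rw [hle, mul_comm M]
      exact mul_dvd_mul (Nat.pow_dvd_pow p hjk) h2
    have hmem : ∀ k, (M : ℤ) • (fun v => f (R 0 (D (k + 1)) v)) ∈ W := by
      intro k
      induction k with
      | zero =>
        refine Submodule.subset_span ⟨M, hM0, fun v => ⟨_, rfl⟩, fun e he => ?_⟩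
        by_cases heD : e ∈ D (0 + 1)
        · simp only [Pi.smul_apply, hRe _ e heD]
        · exact absurd (by simpa using hdiv e 0 heD) he
      | succ k ih =>
        have hsub : D (k + 1 + 1) ⊆ D (k + 1) := fun e he => by
          simp only [D, Finset.mem_filter, Finset.mem_univ, true_and] at he ⊢
          exact (Nat.pow_dvd_pow p (by omega)).trans he
        have hg : (M : ℤ) • (fun v => f (R 0 (D (k + 1 + 1)) v) - f (R 0 (D (k + 1)) v)) ∈ W := by
          refine Submodule.subset_span ⟨M * p ^ (k + 1), Nat.mul_pos hM0 (pow_pos hp.pos _), fun v => ?_, fun e he => ?_⟩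
          · simp only [Pi.smul_apply, smul_eq_mul, Nat.cast_mul]
            refine mul_dvd_mul_left _ ?_
            have h1 := hmod (D (k + 1 + 1)) ((p ^ (k + 1) : ℕ) : ℤ) (fun e he => Int.natCast_dvd_natCast.2
              (by
                have := hsub he
                simp only [D, Finset.mem_filter, Finset.mem_univ, true_and] at this
                exact this)) _ _ (hR (D (k + 1 + 1)) v)
            have h2 := hmod (D (k + 1)) ((p ^ (k + 1) : ℕ) : ℤ) (fun e he => Int.natCast_dvd_natCast.2
              (by simpa [D] using he)) _ _ (hR (D (k + 1)) v)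
            have := dvd_sub h1 h2
            simpa using this
          · by_cases heD : e ∈ D (k + 1 + 1)
            · simp only [Pi.smul_apply, hRe _ e heD, hRe _ e (hsub heD)]
            · exact absurd (hdiv e (k + 1) heD) he
        have := W.add_mem ih hg
        rw [← smul_add] at this
        convert this using 2
        funext v; simp
    have hempty : D (N + 1) = ∅ := Finset.filter_eq_empty_iff.2 fun e _ hd => by
      have h1 : p ^ (N + 1) ≤ N := (Nat.le_of_dvd (hl e) hd).trans (Nat.le_of_dvd hN0 (hlN e))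
      have : N + 1 < p ^ (N + 1) := Nat.lt_pow_self hp.one_lt
      omega
    convert hmem N using 2
    funext v
    rw [hempty]
    have h : Relation.EqvGen (DualGr.CtrRel ends ∅) (R 0 ∅ v) v := Quotient.exact (hR ∅ v)
    have : ∀ a b, Relation.EqvGen (DualGr.CtrRel ends ∅) a b → a = b := by
      intro a b hab
      induction hab with
      | rel x y hxy => obtain ⟨e, he, -⟩ := hxy; simp at he
      | refl x => rfl
      | symm x y _ ih => exact ih.symm
      | trans x y z _ _ i1 i2 => exact i1.trans i2
    rw [this _ _ h]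
  suffices hall : ∀ n : ℕ, 0 < n → n ∣ N → (n : ℤ) • f ∈ W → f ∈ W from hall N hN0 dvd_rfl hNf
  intro n
  induction n using Nat.strong_induction_on with
  | _ n ih =>
    intro hn hnN hnf
    by_cases h1 : n = 1
    · simpa [h1] using hnf
    obtain ⟨p, hp', hpn⟩ := Nat.exists_prime_and_dvd h1
    have hg0 : 0 < Nat.gcd n (ordCompl[p] N) := Nat.gcd_pos_of_pos_left _ hn
    refine ih (Nat.gcd n (ordCompl[p] N)) ?_ hg0 ((Nat.gcd_dvd_left _ _).trans hnN) ?_
    · refine lt_of_le_of_ne (Nat.le_of_dvd hn (Nat.gcd_dvd_left _ _)) fun he => ?_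
      exact Nat.not_dvd_ordCompl hp' hN0.ne' (hpn.trans (he ▸ Nat.gcd_dvd_right n (ordCompl[p] N)))
    · rw [Nat.gcd_eq_gcd_ab, add_smul, mul_comm (n : ℤ), mul_comm ((ordCompl[p] N : ℕ) : ℤ), mul_smul, mul_smul]
      exact W.add_mem (W.smul_mem _ hnf) (W.smul_mem _ (hp p hp'))

end Groth.Agent.S17723
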