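import Groth.Statements.S17724
import Groth.Agent.LabG84.Cycles
-- import your own Groth.Agent.* helpers here

set_option autoImplicit false
universe u v
open LabGraph

namespace Groth.Agent.S17724

/-- Let G be a finite connected multigraph with endpoint map ends, whose edges carry labels lab in a set
L and positive integer labels n, and suppose the L-labels are constant along every circuit. Say g :
V → ℤ is pre-achievable when for some finite set B of edges all carrying the same L-label, g takes
equal values at the two endpoints of every edge outside B (so g is constant on the connected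
components of the graph with B deleted); say g is Cartier when for every edge e the integer n(e)
divides the difference of the values of g at its endpoints. Then every Cartier function f is a
finite sum of functions each of which is Cartier and pre-achievable, and when f vanishes at a vertex
v₀ the summands can all be taken to vanish at v₀. -/
theorem result
    {V E : Type u} [Fintype V] [Fintype E] [DecidableEq V] [DecidableEq E] {L : Type v}
    (ends : E → V × V) (lab : E → L) (n : E → ℕ) (hn : ∀ e, 0 < n e)
    (hconn : LabGraph.Connected ends)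
    (hcirc : ∀ C : Finset E, LabGraph.IsCircuit ends C → ∀ e ∈ C, ∀ e' ∈ C, lab e = lab e')
    (f : V → ℤ) (hf : LabGraph.IsCartier ends n f) :
    f ∈ AddSubmonoid.closure {g : V → ℤ | LabGraph.IsCartier ends n g ∧ (∃ B : Finset E, (∀ e ∈ B, ∀ e' ∈ B, lab e = lab e') ∧ ∀ e, e ∉ B → g (ends e).1 = g (ends e).2)} ∧
    ∀ v₀ : V, f v₀ = 0 →
      f ∈ AddSubmonoid.closure {g : V → ℤ | LabGraph.IsCartier ends n g ∧ (∃ B : Finset E, (∀ e ∈ B, ∀ e' ∈ B, lab e = lab e') ∧ ∀ e, e ∉ B → g (ends e).1 = g (ends e).2) ∧ g v₀ = 0} := by
  classical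
  let ω : L → E → ℤ := fun a e => if lab e = a then f (ends e).2 - f (ends e).1 else 0
  have hω : ∀ a, ∀ γ : E → ℤ, (∀ v, LabGraph.boundary ends γ v = 0) → ∑ e, γ e * ω a e = 0 := by
    intro a
    obtain ⟨T, -, hTa, hT⟩ := Groth.Agent.LabG84.Cycles.exists_spanning hconn ∅ (fun C hC hc => by
      rw [Finset.subset_empty.1 hC] at hc; exact hc.1.ne_empty rfl)
    have hz : ∀ e, ∃ z : E → ℤ, e ∉ T → (z e = 1 ∧ (∀ x, x ∉ T → x ≠ e → z x = 0) ∧
        (∀ v, LabGraph.boundary ends z v = 0) ∧ ∑ x, z x * ω a x = 0) := by
      intro e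
      by_cases he : e ∈ T
      · exact ⟨0, fun h => absurd he h⟩
      obtain ⟨C, hCs, hC, heC⟩ := Groth.Agent.LabG84.Cycles.exists_circuit_insert hTa he (hT _ _)
      obtain ⟨z, hz1, hzs, hzb⟩ := Groth.Agent.LabG84.Cycles.exists_cycle_on_circuit hC heC
      refine ⟨z, fun _ => ⟨hz1, fun x hx hxe => hzs x fun h => hx ?_, hzb, ?_⟩⟩
      · exact (Finset.mem_insert.1 (hCs h)).resolve_left hxe
      · by_cases hla : lab e = a
        · have hp := Groth.Agent.LabG84.Cycles.pair_boundary ends z f
          simp only [hzb, mul_zero, Finset.sum_const_zero] at hp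
          rw [← hp]
          refine Finset.sum_congr rfl fun x _ => ?_
          by_cases hx : x ∈ C
          · simp only [ω, hcirc C hC x hx e heC, hla, if_true]
          · rw [hzs x hx, zero_mul, zero_mul]
        · refine Finset.sum_eq_zero fun x _ => ?_
          by_cases hx : x ∈ C
          · simp only [ω, hcirc C hC x hx e heC, hla, if_false, mul_zero]
          · rw [hzs x hx, zero_mul]
    choose z hz using hz
    intro γ hγ
    let S : E → ℤ := ∑ e ∈ Finset.univ.filter (fun e => e ∉ T), γ e • z e
    have hb : ∀ v, LabGraph.boundary ends (γ + (-1 : ℤ) • S) v = 0 := by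
      intro v
      rw [Groth.Agent.LabG84.Cycles.boundary_add, Groth.Agent.LabG84.Cycles.boundary_smul, hγ]
      have hS : ∀ s : Finset E, (∀ e ∈ s, e ∉ T) → LabGraph.boundary ends (∑ e ∈ s, γ e • z e) v = 0 := by
        intro s hs
        induction s using Finset.induction with
        | empty => simp [LabGraph.boundary]
        | insert e s hes ih =>
          rw [Finset.sum_insert hes, Groth.Agent.LabG84.Cycles.boundary_add,
            Groth.Agent.LabG84.Cycles.boundary_smul, (hz e (hs e (by simp))).2.2.1,
            ih fun x hx => hs x (by simp [hx])]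
          simp
      rw [hS _ fun e he => (Finset.mem_filter.1 he).2]; simp
    have h0 := Groth.Agent.LabG84.Cycles.eq_zero_of_cycle_on_acyclic hTa _ (fun x hx => by
      simp only [S, Pi.add_apply, Pi.smul_apply, Finset.sum_apply, smul_eq_mul]
      rw [Finset.sum_eq_single x (fun e he hex => by
        rw [(hz e (Finset.mem_filter.1 he).2).2.1 x hx (Ne.symm hex), mul_zero]) (by simp [hx]),
        (hz x hx).1]
      ring) hb
    have hγS : γ = S := by
      funext x
      have := congrFun h0 x
      simp only [Pi.add_apply, Pi.smul_apply, smul_eq_mul, Pi.zero_apply] at this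
      linarith
    have hsum : ∑ e, S e * ω a e = 0 := by
      simp only [S, Finset.sum_apply, Finset.sum_mul]
      rw [Finset.sum_comm]
      refine Finset.sum_eq_zero fun e he => ?_
      simp only [Pi.smul_apply, smul_eq_mul, mul_assoc, ← Finset.mul_sum,
        (hz e (Finset.mem_filter.1 he).2).2.2.2, mul_zero]
    exact hγS ▸ hsum
  have main : ∀ v₀ : V, ∃ g : L → V → ℤ, (∀ v, f v = f v₀ + ∑ a ∈ Finset.univ.image lab, g a v) ∧
      ∀ a, g a v₀ = 0 ∧ LabGraph.IsCartier ends n (g a) ∧
        ∃ B : Finset E, (∀ e ∈ B, ∀ e' ∈ B, lab e = lab e') ∧ ∀ e, e ∉ B → g a (ends e).1 = g a (ends e).2 := by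
    intro v₀
    choose g hg0 hg using fun a => Groth.Agent.LabG84.Cycles.exists_potential hconn (ω a) (hω a) v₀
    refine ⟨g, fun v => ?_, fun a => ⟨hg0 a, fun e => ?_, Finset.univ.filter (fun e => lab e = a), ?_, ?_⟩⟩
    · have hinv : ∀ e, (f (ends e).1 - ∑ a ∈ Finset.univ.image lab, g a (ends e).1) =
          f (ends e).2 - ∑ a ∈ Finset.univ.image lab, g a (ends e).2 := by
        intro e
        have hs : ∑ a ∈ Finset.univ.image lab, (g a (ends e).2 - g a (ends e).1) = f (ends e).2 - f (ends e).1 := by
          simp only [hg, ω]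
          rw [Finset.sum_ite_eq, if_pos (Finset.mem_image_of_mem lab (Finset.mem_univ e))]
        rw [Finset.sum_sub_distrib] at hs
        linarith
      have := Groth.Agent.LabG84.Cycles.eq_of_adj_invariant hconn
        (fun v => f v - ∑ a ∈ Finset.univ.image lab, g a v) hinv v v₀
      simp only [hg0, Finset.sum_const_zero, sub_zero] at this
      linarith
    · rw [← neg_sub, hg]
      refine Dvd.dvd.neg_right ?_
      simp only [ω]
      split_ifs
      · rw [← neg_sub]; exact (hf e).neg_right
      · exact dvd_zero _
    · intro e he e' he'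
      exact (Finset.mem_filter.1 he).2.trans (Finset.mem_filter.1 he').2.symm
    · intro e he
      have := hg a e
      simp only [ω, if_neg (fun h => he (Finset.mem_filter.2 ⟨Finset.mem_univ e, h⟩))] at this
      linarith
  refine ⟨?_, fun v₀ hv₀ => ?_⟩
  · obtain ⟨v₀⟩ := hconn.1
    obtain ⟨g, hsum, hg⟩ := main v₀
    have : f = (fun _ => f v₀) + ∑ a ∈ Finset.univ.image lab, g a := by
      funext v; simp [hsum v, Finset.sum_apply]
    rw [this]
    refine AddSubmonoid.add_mem _ (AddSubmonoid.subset_closure ⟨fun e => by simp, ∅, by simp, fun e _ => rfl⟩)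
      (AddSubmonoid.sum_mem _ fun a _ => AddSubmonoid.subset_closure ⟨(hg a).2.1, (hg a).2.2⟩)
  · obtain ⟨g, hsum, hg⟩ := main v₀
    have : f = ∑ a ∈ Finset.univ.image lab, g a := by
      funext v; simp [hsum v, hv₀, Finset.sum_apply]
    rw [this]
    exact AddSubmonoid.sum_mem _ fun a _ => AddSubmonoid.subset_closure ⟨(hg a).2.1, (hg a).2.2, (hg a).1⟩

end Groth.Agent.S17724
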