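import Groth.Statements.S17725
import Mathlib.Topology.Sober

set_option autoImplicit false
universe u
open SpecSp

namespace Groth.Agent.S17725

open AlgebraicGeometry in
/-- In a connected Noetherian scheme any two points p, q are linked by a finite chain of points p = x₁,
…, xₙ = q such that for each i one of x_i, x_{i+1} is a specialization of the other; equivalently, p
and q are related by the equivalence relation generated by the specialization relation. -/
theorem result
    (X : Scheme.{u}) [IsNoetherian X] [ConnectedSpace X] (p q : X) :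
    Relation.EqvGen (fun x y : X => x ⤳ y) p q := by
  let r : X → X → Prop := fun x y => Relation.EqvGen (fun x y : X => x ⤳ y) x y
  have hfin : (irreducibleComponents X).Finite :=
    TopologicalSpace.NoetherianSpace.finite_irreducibleComponents
  have hpt : ∀ Z ∈ irreducibleComponents X, ∀ x ∈ Z, ∀ y ∈ Z, r x y := by
    intro Z hZ x hx y hy
    have hc : IsClosed Z := isClosed_of_mem_irreducibleComponents Z hZ
    have hirr : IsIrreducible Z := hZ.1
    obtain ⟨η, hη⟩ := QuasiSober.sober hirr hc
    exact (((hη.specializes hx : η ⤳ x) |> Relation.EqvGen.rel η x).symm).trans _ _ _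
      (Relation.EqvGen.rel η y (hη.specializes hy))
  let A : Set (Set X) := {Z ∈ irreducibleComponents X | ∀ z ∈ Z, r p z}
  let B : Set (Set X) := irreducibleComponents X \ A
  have hA : IsClosed (⋃₀ A) := by
    rw [Set.sUnion_eq_biUnion]
    exact (hfin.subset (fun Z hZ => hZ.1)).isClosed_biUnion
      fun Z hZ => isClosed_of_mem_irreducibleComponents Z hZ.1
  have hB : IsClosed (⋃₀ B) := by
    rw [Set.sUnion_eq_biUnion]
    exact (hfin.subset (fun Z hZ => hZ.1)).isClosed_biUnion
      fun Z hZ => isClosed_of_mem_irreducibleComponents Z hZ.1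
  have hdisj : ∀ x, x ∈ ⋃₀ A → x ∉ ⋃₀ B := by
    rintro x ⟨Z, hZ, hxZ⟩ ⟨W, hW, hxW⟩
    exact hW.2 ⟨hW.1, fun w hw => (hZ.2 x hxZ).trans _ _ _ (hpt W hW.1 x hxW w hw)⟩
  have hcov : ∀ x, x ∈ ⋃₀ A ∨ x ∈ ⋃₀ B := fun x => by
    classical
    by_cases h : irreducibleComponent x ∈ A
    · exact Or.inl ⟨_, h, mem_irreducibleComponent⟩
    · exact Or.inr ⟨_, ⟨irreducibleComponent_mem_irreducibleComponents x, h⟩, mem_irreducibleComponent⟩
  have hopen : IsOpen (⋃₀ A) := by
    have : (⋃₀ A) = (⋃₀ B)ᶜ := Set.ext fun x =>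
      ⟨hdisj x, fun h => (hcov x).resolve_right h⟩
    rw [this]
    exact hB.isOpen_compl
  have huniv := (show IsClopen (⋃₀ A) from ⟨hA, hopen⟩).eq_univ
    ⟨p, irreducibleComponent p, ⟨irreducibleComponent_mem_irreducibleComponents p,
      fun z hz => hpt _ (irreducibleComponent_mem_irreducibleComponents p) p mem_irreducibleComponent z hz⟩,
      mem_irreducibleComponent⟩
  obtain ⟨Z, hZ, hq⟩ : q ∈ ⋃₀ A := by rw [huniv]; exact Set.mem_univ q
  exact hZ.2 q hq

end Groth.Agent.S17725
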