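import Mathlib
import Groth.Statements.S17726
-- import your own Groth.Agent.* helpers here

set_option autoImplicit false
universe u
open CAlg

namespace Groth.Agent.S17726

/-- Let f and g be non-zero-divisors of a commutative ring A, not both units; think of them as local
equations, at a point of the union of the supports, of two effective Cartier divisors E and D. If
the ideals generated by g^{m₁} and f^{n₁} coincide, and likewise for g^{m₂} and f^{n₂}, then m₁ n₂ =
m₂ n₁. So all pairs (m, n) with m D = n E locally at the point are proportional, and the saturation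
of the monoid they form is generated by a single element. -/
theorem result
    (A : Type u) [CommRing A] (f g : A)
    (hf : f ∈ nonZeroDivisors A) (hg : g ∈ nonZeroDivisors A) (hfg : ¬ (IsUnit f ∧ IsUnit g))
    (m₁ n₁ m₂ n₂ : ℕ)
    (h₁ : Ideal.span {g ^ m₁} = Ideal.span {f ^ n₁})
    (h₂ : Ideal.span {g ^ m₂} = Ideal.span {f ^ n₂}) :
    m₁ * n₂ = m₂ * n₁ := by
  obtain ⟨u, hu⟩ : ∃ u : Aˣ, g ^ m₁ * u = f ^ n₁ := by
    have ha : f ^ n₁ ∈ Ideal.span {g ^ m₁} := h₁ ▸ Ideal.mem_span_singleton_self _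
    have hb : g ^ m₁ ∈ Ideal.span {f ^ n₁} := h₁ ▸ Ideal.mem_span_singleton_self _
    obtain ⟨a, ha⟩ := Ideal.mem_span_singleton'.mp ha
    obtain ⟨b, hb⟩ := Ideal.mem_span_singleton'.mp hb
    have h : (a * b - 1) * f ^ n₁ = 0 := by
      calc (a * b - 1) * f ^ n₁ = a * (b * f ^ n₁) - f ^ n₁ := by ring
        _ = 0 := by rw [hb, ha, sub_self]
    have hab : a * b = 1 :=
      sub_eq_zero.mp ((mul_right_mem_nonZeroDivisors_eq_zero_iff (pow_mem hf n₁)).mp h)
    exact ⟨Units.mkOfMulEqOne a b hab, by rw [Units.val_mkOfMulEqOne, mul_comm, ha]⟩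
  obtain ⟨v, hv⟩ : ∃ u : Aˣ, g ^ m₂ * u = f ^ n₂ := by
    have ha : f ^ n₂ ∈ Ideal.span {g ^ m₂} := h₂ ▸ Ideal.mem_span_singleton_self _
    have hb : g ^ m₂ ∈ Ideal.span {f ^ n₂} := h₂ ▸ Ideal.mem_span_singleton_self _
    obtain ⟨a, ha⟩ := Ideal.mem_span_singleton'.mp ha
    obtain ⟨b, hb⟩ := Ideal.mem_span_singleton'.mp hb
    have h : (a * b - 1) * f ^ n₂ = 0 := by
      calc (a * b - 1) * f ^ n₂ = a * (b * f ^ n₂) - f ^ n₂ := by ring
        _ = 0 := by rw [hb, ha, sub_self]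
    have hab : a * b = 1 :=
      sub_eq_zero.mp ((mul_right_mem_nonZeroDivisors_eq_zero_iff (pow_mem hf n₂)).mp h)
    exact ⟨Units.mkOfMulEqOne a b hab, by rw [Units.val_mkOfMulEqOne, mul_comm, ha]⟩
  have key : f ^ (n₁ * m₂) * (((v : Aˣ) ^ m₁ : Aˣ) : A) = f ^ (n₂ * m₁) * (((u : Aˣ) ^ m₂ : Aˣ) : A) := by
    rw [pow_mul, pow_mul, ← hu, ← hv, Units.val_pow_eq_pow_val, Units.val_pow_eq_pow_val]
    ring
  by_contra hne
  have hfu : IsUnit f := by
    rcases Nat.lt_or_gt_of_ne (show n₁ * m₂ ≠ n₂ * m₁ by rw [mul_comm, mul_comm n₂]; exact Ne.symm hne) with h | h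
    · obtain ⟨d, hd⟩ := Nat.exists_eq_add_of_lt h
      rw [hd, show n₁ * m₂ + d + 1 = n₁ * m₂ + (d + 1) by ring, pow_add, mul_assoc] at key
      have key' := (mul_cancel_left_mem_nonZeroDivisors (pow_mem hf _)).mp key
      have : IsUnit (f ^ (d + 1)) := isUnit_of_mul_isUnit_left (key' ▸ Units.isUnit _)
      exact (isUnit_pow_iff (by lia)).mp this
    · obtain ⟨d, hd⟩ := Nat.exists_eq_add_of_lt h
      rw [hd, show n₂ * m₁ + d + 1 = n₂ * m₁ + (d + 1) by ring, pow_add, mul_assoc] at key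
      have key' := (mul_cancel_left_mem_nonZeroDivisors (pow_mem hf _)).mp key
      have : IsUnit (f ^ (d + 1)) := isUnit_of_mul_isUnit_left (key'.symm ▸ Units.isUnit _)
      exact (isUnit_pow_iff (by lia)).mp this
  have hm₁ : m₁ = 0 := by
    by_contra h
    have : IsUnit (g ^ m₁) := isUnit_of_mul_isUnit_left (hu ▸ hfu.pow n₁)
    exact hfg ⟨hfu, (isUnit_pow_iff h).mp this⟩
  have hm₂ : m₂ = 0 := by
    by_contra h
    have : IsUnit (g ^ m₂) := isUnit_of_mul_isUnit_left (hv ▸ hfu.pow n₂)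
    exact hfg ⟨hfu, (isUnit_pow_iff h).mp this⟩
  exact hne (by simp [hm₁, hm₂])

end Groth.Agent.S17726
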