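import Groth.Statements.S17727
import Groth.Agent.NeronLib.Dense

set_option autoImplicit false
universe u
open Neron
open CategoryTheory CategoryTheory.Limits AlgebraicGeometry

namespace Groth.Agent.S17727

open CategoryTheory AlgebraicGeometry in
open CategoryTheory AlgebraicGeometry in
lemma dense_restrict {E : Scheme.{u}} {D₀ : E.Opens} (h : CInt.IsSchematicallyDense D₀) (W : E.Opens)
    (A : (W : Scheme.{u}).Opens) :
    Function.Injective ((W : Scheme.{u}).presheaf.map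
      (homOfLE (inf_le_left : A ⊓ W.ι ⁻¹ᵁ D₀ ≤ A)).op) := by
  have h1 := h (W.ι ''ᵁ A)
  intro a b hab
  apply h1
  have hle : W.ι ''ᵁ A ⊓ D₀ ≤ W.ι ''ᵁ (A ⊓ W.ι ⁻¹ᵁ D₀) := by
    rintro _ ⟨⟨y, hy, rfl⟩, hy'⟩
    exact ⟨y, ⟨hy, hy'⟩, rfl⟩
  have := congrArg (E.presheaf.map (homOfLE hle).op) hab
  simp only [Scheme.Opens.toScheme_presheaf_map] at this
  erw [← ConcreteCategory.comp_apply, ← ConcreteCategory.comp_apply] at this
  erw [← Functor.map_comp] at this
  exact this

open CategoryTheory AlgebraicGeometry in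
lemma app_ι_zero {W : Scheme.{u}} (D A : W.Opens) (x : Γ(W, A)) (hx : D.ι.app A x = 0) :
    W.presheaf.map (homOfLE (inf_le_left : A ⊓ D ≤ A)).op x = 0 := by
  rw [Scheme.Opens.ι_app] at hx
  have hle : A ⊓ D ≤ D.ι ''ᵁ (D.ι ⁻¹ᵁ A) := by
    rintro y ⟨hy, hy'⟩
    exact ⟨⟨y, hy'⟩, hy, rfl⟩
  have := congrArg (W.presheaf.map (homOfLE hle).op) hx
  erw [map_zero, ← ConcreteCategory.comp_apply] at this
  erw [← Functor.map_comp] at this
  exact this

open CategoryTheory AlgebraicGeometry in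
lemma sect_eq {E S : Scheme.{u}} (f : E ⟶ S) (U : S.Opens) (hiso : IsIso (morphismRestrict f U))
    (σ : S ⟶ E) (hσ : σ ≫ f = 𝟙 S) {T : Scheme.{u}} (g : T ⟶ E)
    (hg : Set.range g.base ⊆ (f ⁻¹ᵁ U : Set E)) : g ≫ f ≫ σ = g := by
  have hσf : ∀ t : S, f.base (σ.base t) = t := fun t => by
    rw [← Scheme.Hom.comp_apply, hσ]; rfl
  have r1 : Set.range (g ≫ f ≫ σ).base ⊆ Set.range (f ⁻¹ᵁ U).ι.base := by
    rw [Scheme.Opens.range_ι]
    rintro _ ⟨x, rfl⟩
    show f.base (σ.base (f.base (g.base x))) ∈ U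
    rw [hσf]
    exact hg ⟨x, rfl⟩
  have r2 : Set.range g.base ⊆ Set.range (f ⁻¹ᵁ U).ι.base := by
    rw [Scheme.Opens.range_ι]; exact hg
  rw [← IsOpenImmersion.lift_fac (f ⁻¹ᵁ U).ι _ r1]
  conv_rhs => rw [← IsOpenImmersion.lift_fac (f ⁻¹ᵁ U).ι g r2]
  congr 1
  rw [← cancel_mono (morphismRestrict f U), ← cancel_mono U.ι]
  simp only [Category.assoc, morphismRestrict_ι, IsOpenImmersion.lift_fac_assoc, hσ, Category.comp_id]

/-- Let f : E → S be a morphism of schemes and U ⊆ S a schematically dense open subscheme such that f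
restricts to an isomorphism over U and the preimage of U is schematically dense in E. Then for every
section σ of f and every point s of S there is an open neighbourhood W of σ(s) in E on which f
restricts to an open immersion. (The published statements conclude that the section lands in the
étale locus of f, in one published form for an algebraic space E, in another for f locally of finite
type over a Noetherian base; the affine-local argument gives the sharper conclusion recorded here,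
for schemes.) -/
theorem result
    {E S : Scheme.{u}} (f : E ⟶ S) (U : S.Opens) (hU : CInt.IsSchematicallyDense U)
    (hiso : IsIso (morphismRestrict f U)) (hdense : CInt.IsSchematicallyDense (f ⁻¹ᵁ U))
    (σ : S ⟶ E) (hσ : σ ≫ f = 𝟙 S) (s : S) :
    ∃ W : E.Opens, σ.base s ∈ W ∧ IsOpenImmersion (W.ι ≫ f) := by
  obtain ⟨_, ⟨W₀, hW₀, rfl⟩, hxW₀, -⟩ :=
    E.isBasis_affineOpens.exists_subset_of_mem_open (Set.mem_univ (σ.base s)) isOpen_univ
  set V : S.Opens := σ ⁻¹ᵁ W₀ with hV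
  set W : E.Opens := W₀ ⊓ f ⁻¹ᵁ V with hW
  have hσf : ∀ t : S, f.base (σ.base t) = t := fun t => by
    rw [← Scheme.Hom.comp_apply, hσ]; rfl
  refine ⟨W, ⟨hxW₀, show f.base (σ.base s) ∈ V by rw [hσf]; exact hxW₀⟩, ?_⟩
  haveI : IsAffine (W₀ : Scheme.{u}) := hW₀
  haveI : IsSeparated (W.ι ≫ f) := by
    rw [← E.homOfLE_ι (inf_le_left : W ≤ W₀), Category.assoc]
    infer_instance
  set f' : (W : Scheme.{u}) ⟶ (V : Scheme.{u}) :=
    IsOpenImmersion.lift V.ι (W.ι ≫ f) (by
      rw [Scheme.Opens.range_ι]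
      rintro _ ⟨x, rfl⟩
      exact x.2.2) with hf'
  have hf'ι : f' ≫ V.ι = W.ι ≫ f := IsOpenImmersion.lift_fac _ _ _
  set σ' : (V : Scheme.{u}) ⟶ (W : Scheme.{u}) :=
    IsOpenImmersion.lift W.ι (V.ι ≫ σ) (by
      rw [Scheme.Opens.range_ι]
      rintro _ ⟨x, rfl⟩
      exact ⟨x.2, show f.base (σ.base x.1) ∈ V by rw [hσf]; exact x.2⟩) with hσ'
  have hσ'ι : σ' ≫ W.ι = V.ι ≫ σ := IsOpenImmersion.lift_fac _ _ _
  have hsec : σ' ≫ f' = 𝟙 _ := by
    rw [← cancel_mono V.ι, Category.assoc, hf'ι, reassoc_of% hσ'ι, hσ, Category.comp_id, Category.id_comp]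
  haveI : IsSeparated f' := by
    haveI : IsSeparated (f' ≫ V.ι) := by rw [hf'ι]; infer_instance
    exact IsSeparated.of_comp f' V.ι
  haveI : IsClosedImmersion (σ' ≫ f') := by rw [hsec]; infer_instance
  haveI : IsClosedImmersion σ' := IsClosedImmersion.of_comp σ' f'
  set D : (W : Scheme.{u}).Opens := W.ι ⁻¹ᵁ (f ⁻¹ᵁ U) with hD
  have hDk : D.ι.ker = ⊥ := by
    refine le_bot_iff.1 fun A x hx => ?_
    rw [Scheme.IdealSheafData.ideal_bot, Pi.bot_apply, Ideal.mem_bot]
    have hx' : D.ι.app A.1 x = 0 := (Scheme.Hom.ideal_ker_le D.ι A) hx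
    have h1 : Function.Injective ((W : Scheme.{u}).presheaf.map
        (homOfLE (inf_le_left : A.1 ⊓ D ≤ A.1)).op) := dense_restrict hdense W A.1
    apply h1
    rw [map_zero]
    exact app_ι_zero D A.1 x hx'
  haveI : IsSchemeTheoreticallyDominant D.ι := ⟨hDk⟩
  have hfac : (D.ι ≫ f') ≫ σ' = D.ι := by
    rw [← cancel_mono W.ι, Category.assoc, hσ'ι, Category.assoc, reassoc_of% hf'ι]
    exact (Category.assoc _ _ _).symm.trans (sect_eq f U hiso σ hσ (D.ι ≫ W.ι) (by
      rintro _ ⟨x, rfl⟩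
      exact x.2))
  haveI := Groth.Agent.NeronLib.Dense.isIso_of_factors σ' D.ι _ hfac
  haveI : IsIso f' := by
    have : f' = inv σ' := IsIso.eq_inv_of_hom_inv_id hsec
    rw [this]; infer_instance
  rw [← hf'ι]
  infer_instance

end Groth.Agent.S17727
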