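import Groth.Statements.S3207
import Groth.Agent.PurIso.Fibre
import Groth.Agent.FlatMor.FibreStalk
import Groth.Agent.FlatMor.SchDom

set_option autoImplicit false
universe u
open CategoryTheory CategoryTheory.Limits AlgebraicGeometry
open SGA7

namespace Groth.Agent.S3207

open IsLocalRing in
/-- over a valuation ring a flat separated lft scheme with trivial generic fibre has trivial closed fibre -/
theorem isIso_closedFibre {K : Type u} [Field K] (A : ValuationSubring K)
    {W : Scheme.{u}} (π : W ⟶ Spec (CommRingCat.of A)) [Flat π] [IsSeparated π] [QuasiCompact π]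
    (j : Spec (CommRingCat.of K) ⟶ W)
    (hj : IsPullback j (𝟙 _) π (Spec.map (CommRingCat.ofHom A.subtype)))
    (t : W) (ht : π.base t = closedPoint A) :
    IsIso (π.fiberToSpecResidueField (closedPoint A)) := by
  let ι₀ := Spec.map (CommRingCat.ofHom A.subtype)
  have hinjA : Function.Injective A.subtype := Subtype.val_injective
  haveI : IsDominant ι₀ := by
    rw [isDominant_iff]
    exact (PrimeSpectrum.denseRange_comap_iff_ker_le_nilRadical _).2 (by
      rw [CommRingCat.hom_ofHom, (RingHom.injective_iff_ker_eq_bot _).1 hinjA]; exact bot_le)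
  haveI : IsSchemeTheoreticallyDominant ι₀ := .of_isDominant _
  haveI : IsSchemeTheoreticallyDominant j := IsSchemeTheoreticallyDominant.of_isPullback hj.flip
  haveI : QuasiCompact j := MorphismProperty.of_isPullback hj.flip (inferInstance : QuasiCompact ι₀)
  let kp := closedPoint K
  have hgen : ∀ y : W, j.base kp ⤳ y := fun y => by
    obtain ⟨_, ⟨p, rfl⟩, hp⟩ : ∃ z ∈ Set.range j.base, z ⤳ y := by
      have hd := FlatMor.SchDom.denseRange_of_dominant j (Or.inl inferInstance)
      refine ⟨j.base kp, ⟨kp, rfl⟩, ?_⟩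
      have hr : Set.range j.base = {j.base kp} := by
        ext z
        simp only [Set.mem_range, Set.mem_singleton_iff]
        exact ⟨fun ⟨p, hp⟩ => hp ▸ congrArg j.base (Subsingleton.elim (α := PrimeSpectrum K) _ _),
          fun h => ⟨kp, h.symm⟩⟩
      rw [specializes_iff_mem_closure]
      rw [DenseRange, dense_iff_closure_eq, hr] at hd
      rw [hd]; trivial
    rwa [Subsingleton.elim (α := PrimeSpectrum K) kp p]
  -- each point of the closed fibre gives a section
  have key : ∀ y : W, π.base y = closedPoint A →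
      ∃ σ : Spec (CommRingCat.of A) ⟶ W, σ ≫ π = 𝟙 _ ∧ σ.base (closedPoint A) = y ∧ ι₀ ≫ σ = j ∧
        IsIso (Spec.preimage (W.fromSpecStalk y ≫ π)) := by
    intro y hy
    let ψ := Spec.preimage (W.fromSpecStalk y ≫ π)
    haveI hψloc : IsLocalHom ψ.hom := by
      refine ((IsLocalRing.local_hom_TFAE ψ.hom).out 4 0).mp ?_
      have : (Spec.map ψ).base (closedPoint (W.presheaf.stalk y)) = closedPoint A := by
        rw [Spec.map_preimage]
        refine (Scheme.Hom.comp_apply (W.fromSpecStalk y) π _).trans ?_
        rw [Scheme.fromSpecStalk_closedPoint, hy]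
      exact congrArg PrimeSpectrum.asIdeal this
    obtain ⟨j', hj'⟩ : ∃ j' : Spec (CommRingCat.of K) ⟶ Spec (W.presheaf.stalk y),
        j' ≫ W.fromSpecStalk y = j := by
      refine ⟨Spec.map (Scheme.stalkClosedPointTo j) ≫ Spec.map (W.presheaf.stalkSpecializes (hgen y)), ?_⟩
      rw [Category.assoc, Scheme.SpecMap_stalkSpecializes_fromSpecStalk,
        Scheme.Spec_stalkClosedPointTo_fromSpecStalk]
    obtain ⟨φ, rfl⟩ := Spec.map_surjective j'
    have hφψ : ψ ≫ φ = CommRingCat.ofHom A.subtype := by
      apply Spec.map_injective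
      rw [Spec.map_comp, Spec.map_preimage, ← Category.assoc, hj', hj.w, Category.id_comp]
    have hφinj : Function.Injective φ.hom := by
      rw [injective_iff_map_eq_zero]
      intro a ha
      obtain ⟨U, hyU, a₀, rfl⟩ := W.presheaf.exists_germ_eq a
      obtain ⟨_, ⟨V, hV, rfl⟩, hyV, hVU : V ≤ U⟩ :=
        W.isBasis_affineOpens.exists_subset_of_mem_open hyU U.isOpen
      replace hV : IsAffineOpen V := hV
      rw [← W.presheaf.germ_res_apply (homOfLE hVU) y hyV a₀] at ha ⊢
      generalize W.presheaf.map (homOfLE hVU).op a₀ = a₁ at ha ⊢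
      let γ : Γ(W, V) ⟶ CommRingCat.of K := W.presheaf.germ V y hyV ≫ φ
      have hγ : Spec.map γ ≫ hV.fromSpec = j := by
        rw [Spec.map_comp, Category.assoc, ← hj', ← hV.fromSpecStalk_eq_fromSpecStalk hyV]
        rfl
      haveI : IsOpenImmersion hV.fromSpec := IsAffineOpen.isOpenImmersion_fromSpec _
      have hp : IsPullback (𝟙 _) (Spec.map γ) j hV.fromSpec :=
        IsPullback.of_horiz_isIso_mono ⟨by rw [Category.id_comp, hγ]⟩
      haveI : IsSchemeTheoreticallyDominant (Spec.map γ) := IsSchemeTheoreticallyDominant.of_isPullback hp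
      have h1 : (Spec.map γ).appTop ((Scheme.ΓSpecIso Γ(W, V)).inv a₁) = 0 := by
        rw [← CommRingCat.comp_apply, ← Scheme.ΓSpecIso_inv_naturality, CommRingCat.comp_apply,
          show γ a₁ = 0 from ha, map_zero]
      have h2 : (Scheme.ΓSpecIso Γ(W, V)).inv a₁ = 0 :=
        Scheme.Hom.app_injective (Spec.map γ) ⊤ (h1.trans (map_zero _).symm)
      have h3 := congrArg (Scheme.ΓSpecIso Γ(W, V)).hom h2
      rw [Iso.inv_hom_id_apply, map_zero] at h3
      rw [h3, map_zero]
    have hψbij : Function.Bijective ψ.hom := by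
      refine ⟨fun a b h => Subtype.ext (by
        have := congrArg φ.hom h
        rwa [← CommRingCat.comp_apply, ← CommRingCat.comp_apply, hφψ] at this), fun a => ?_⟩
      have hψv : ∀ v : A, φ.hom (ψ.hom v) = (v : K) := fun v => by
        rw [← CommRingCat.comp_apply, hφψ]; rfl
      by_cases ha : φ.hom a ∈ A
      · exact ⟨⟨_, ha⟩, hφinj (hψv _)⟩
      · exfalso
        have hinv := (A.mem_or_inv_mem (φ.hom a)).resolve_left ha
        have h0 : φ.hom a ≠ 0 := fun h => ha (h ▸ A.zero_mem)
        have hu : ¬ IsUnit (⟨_, hinv⟩ : A) := fun hu => by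
          obtain ⟨w, hw⟩ := hu.exists_right_inv
          have hw' : (φ.hom a)⁻¹ * (w : K) = 1 := congrArg Subtype.val hw
          exact ha (((inv_mul_eq_one₀ h0).1 hw') ▸ w.2)
        have h1 : ψ.hom ⟨_, hinv⟩ * a = 1 := hφinj (by rw [map_mul, hψv, map_one, inv_mul_cancel₀ h0])
        exact hu (IsUnit.of_map ψ.hom _ (IsUnit.of_mul_eq_one a h1))
    haveI : IsIso ψ := (ConcreteCategory.isIso_iff_bijective ψ).2 hψbij
    refine ⟨Spec.map (inv ψ) ≫ W.fromSpecStalk y, ?_, ?_, ?_, by infer_instance⟩
    · rw [Category.assoc, ← Spec.map_preimage (W.fromSpecStalk y ≫ π), ← Spec.map_comp]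
      show Spec.map (ψ ≫ inv ψ) = _
      rw [IsIso.hom_inv_id, Spec.map_id]
    · refine (Scheme.Hom.comp_apply _ _ _).trans ?_
      haveI : IsLocalHom (inv ψ).hom := by
        constructor
        intro a ha
        have := ha.map ψ.hom
        rwa [← CommRingCat.comp_apply, IsIso.inv_hom_id] at this
      rw [show (Spec.map (inv ψ)).base (closedPoint A) = closedPoint (W.presheaf.stalk y) from
        IsLocalRing.comap_closedPoint (inv ψ).hom, Scheme.fromSpecStalk_closedPoint]
    · rw [show ι₀ = Spec.map (ψ ≫ φ) by rw [hφψ], ← hj', ← Category.assoc, ← Spec.map_comp,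
        IsIso.inv_hom_id_assoc]
  obtain ⟨σ, hσ, hσt, hσj, -⟩ := key t ht
  let F := π.fiber (closedPoint A)
  let q := π.fiberToSpecResidueField (closedPoint A)
  let r := (Spec (CommRingCat.of A)).fromSpecResidueField (closedPoint A)
  let e : Spec ((Spec (CommRingCat.of A)).residueField (closedPoint A)) ⟶ F :=
    Limits.pullback.lift (r ≫ σ) (𝟙 _) (by rw [Category.assoc, hσ, Category.comp_id, Category.id_comp])
  have he : e ≫ q = 𝟙 _ := Limits.pullback.lift_snd _ _ _
  haveI : IsClosedImmersion e := by
    haveI : IsSeparated q := inferInstanceAs (IsSeparated (Limits.pullback.snd π _))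
    haveI : IsClosedImmersion (e ≫ q) := by rw [he]; infer_instance
    exact IsClosedImmersion.of_comp e q
  have huniq : ∀ z : F, π.fiberι (closedPoint A) z = t := fun z => by
    have hz : π.base (π.fiberι (closedPoint A) z) = closedPoint A :=
      (π.range_fiberι _).le ⟨z, rfl⟩
    obtain ⟨σ', hσ', hσ't, hσ'j, -⟩ := key _ hz
    have : σ = σ' := ext_of_isDominant_of_isSeparated π (hσ.trans hσ'.symm) ι₀ (hσj.trans hσ'j.symm)
    rw [← hσ't, ← this, hσt]
  haveI : Surjective e := ⟨fun z => ⟨q.base z, (π.fiberι _).isEmbedding.injective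
    ((huniq _).trans (huniq z).symm)⟩⟩
  haveI : IsReduced F := by
    have : ∀ z : F, _root_.IsReduced (F.presheaf.stalk z) := fun z => by
      have h0 : ∀ (y : W) (c : Spec (CommRingCat.of A)), π.base y = c → c = closedPoint A →
          ∀ z : π.fiber c, π.fiberι c z = y → _root_.IsReduced ((π.fiber c).presheaf.stalk z) := by
        rintro y _ rfl hy z hz
        obtain rfl : z = π.asFiber y :=
          (π.fiberι _).isEmbedding.injective (hz.trans (π.fiberι_asFiber y).symm)
        obtain ⟨σ', -, -, -, hψ⟩ := key y hy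
        obtain ⟨ε⟩ := FlatMor.FibreStalk.exists_fibre_stalk_equiv π y
        have hmap : (maximalIdeal ((Spec (CommRingCat.of A)).presheaf.stalk (π.base y))).map
            (π.stalkMap y).hom = maximalIdeal (W.presheaf.stalk y) := by
          have hfac : Spec.map (Spec.preimage (W.fromSpecStalk y ≫ π)) =
              Spec.map (π.stalkMap y) ≫ (Spec (CommRingCat.of A)).fromSpecStalk (π.base y) := by
            rw [Spec.map_preimage, Scheme.SpecMap_stalkMap_fromSpecStalk]
          have hloc : (Spec (CommRingCat.of A)).fromSpecStalk (π.base y) =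
              Spec.map (Spec.preimage ((Spec (CommRingCat.of A)).fromSpecStalk (π.base y))) :=
            (Spec.map_preimage _).symm
          rw [hloc, ← Spec.map_comp] at hfac
          have e1 := Spec.map_injective hfac
          haveI := hψ
          have hsurj : Function.Surjective (π.stalkMap y).hom := fun a => by
            obtain ⟨b, hb⟩ := (ConcreteCategory.bijective_of_isIso
              (Spec.preimage (W.fromSpecStalk y ≫ π))).2 a
            rw [e1] at hb
            exact ⟨_, hb⟩
          refine le_antisymm (map_maximalIdeal_le _) fun a ha => ?_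
          obtain ⟨b, rfl⟩ := hsurj a
          exact Ideal.mem_map_of_mem _ fun hb => ha (hb.map _)
        exact isReduced_of_injective (ε.symm.trans (Ideal.quotEquivOfEq hmap)).toRingHom
          (RingEquiv.injective _)
      exact h0 t _ ht rfl z (huniq z)
    exact isReduced_of_isReduced_stalk F
  haveI := isIso_of_isClosedImmersion_of_surjective e
  haveI : IsIso (e ≫ q) := by rw [he]; infer_instance
  exact IsIso.of_isIso_comp_left e q

open IsLocalRing in
/-- all non-empty fibres are trivial -/
theorem isIso_fibre {T S : Scheme.{u}} (g : T ⟶ S) [QuasiCompact g] [IsSeparated g] [Flat g]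
    (h : ∀ s : S, (∀ t : S, t ⤳ s → t = s) →
      IsEmpty ↑(pullback g (S.fromSpecResidueField s)) ∨ IsIso (pullback.snd g (S.fromSpecResidueField s)))
    (t : T) : IsIso (g.fiberToSpecResidueField (g.base t)) := by
  let s := g.base t
  obtain ⟨q, hq⟩ := Ideal.nonempty_minimalPrimes (I := (⊥ : Ideal (S.presheaf.stalk s))) bot_ne_top
  haveI := hq.1.1
  let q' : Spec (S.presheaf.stalk s) := (⟨q, hq.1.1⟩ : PrimeSpectrum (S.presheaf.stalk s))
  let η := (S.fromSpecStalk s).base q'
  have hηs : η ⤳ s := (Scheme.range_fromSpecStalk).le ⟨q', rfl⟩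
  have hmax : ∀ u : S, u ⤳ η → u = η := fun u hu => by
    obtain ⟨p, rfl⟩ := (Scheme.range_fromSpecStalk (x := s)).ge (hu.trans hηs)
    have h1 : p ⤳ q' := (S.fromSpecStalk s).isEmbedding.isInducing.specializes_iff.1 hu
    have h2 : (p : PrimeSpectrum (S.presheaf.stalk s)).asIdeal ≤ q :=
      (PrimeSpectrum.le_iff_specializes p q').2 h1
    exact congrArg (S.fromSpecStalk s).base (PrimeSpectrum.ext (le_antisymm h2
      (hq.2 ⟨(p : PrimeSpectrum (S.presheaf.stalk s)).isPrime, bot_le⟩ h2)))
  obtain ⟨t', ht't, ht'⟩ := Flat.generalizingMap g hηs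
  haveI hη : IsIso (pullback.snd g (S.fromSpecResidueField η)) := by
    refine (h η hmax).resolve_left fun he => ?_
    obtain ⟨p, -, -⟩ := Scheme.Pullback.exists_preimage_pullback (f := g)
      (g := S.fromSpecResidueField η) t' (closedPoint _)
      (ht'.trans (Scheme.fromSpecResidueField_apply η _).symm)
    exact he.false p
  let K : Type u := S.residueField η
  let f₀ : S.presheaf.stalk s ⟶ S.residueField η := S.presheaf.stalkSpecializes hηs ≫ S.residue η
  obtain ⟨A, hA, hAloc⟩ := exists_factor_valuationRing (K := K) f₀.hom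
  let fA : S.presheaf.stalk s ⟶ CommRingCat.of A :=
    CommRingCat.ofHom (f₀.hom.codRestrict A.toSubring hA)
  let i : Spec (CommRingCat.of A) ⟶ S := Spec.map fA ≫ S.fromSpecStalk s
  have hi : i.base (closedPoint A) = s := by
    refine (Scheme.Hom.comp_apply _ _ _).trans ?_
    rw [show (Spec.map fA).base (closedPoint A) = closedPoint (S.presheaf.stalk s) from
      comap_closedPoint (S := A) (f₀.hom.codRestrict A.toSubring hA), Scheme.fromSpecStalk_closedPoint]
  let ι₀ := Spec.map (CommRingCat.ofHom A.subtype)
  have hiK : ι₀ ≫ i = S.fromSpecResidueField η := by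
    rw [← Category.assoc, ← Spec.map_comp, Scheme.fromSpecResidueField,
      ← Scheme.SpecMap_stalkSpecializes_fromSpecStalk hηs, ← Category.assoc, ← Spec.map_comp]
    rfl
  let π := pullback.snd g i
  let j : Spec (CommRingCat.of K) ⟶ pullback g i :=
    pullback.lift (inv (pullback.snd g (S.fromSpecResidueField η)) ≫ pullback.fst g (S.fromSpecResidueField η))
      ι₀ (by rw [Category.assoc, pullback.condition, IsIso.inv_hom_id_assoc]; exact hiK.symm)
  have hj : IsPullback j (𝟙 _) π ι₀ := by
    refine IsPullback.of_right ?_ (by rw [pullback.lift_snd, Category.id_comp])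
      (IsPullback.of_hasPullback g i)
    rw [pullback.lift_fst, hiK]
    exact (IsPullback.of_hasPullback g (S.fromSpecResidueField η)).of_iso
      (asIso (pullback.snd g (S.fromSpecResidueField η))) (Iso.refl _) (Iso.refl _) (Iso.refl _)
      (by simp) (by simp) (by simp) (by simp)
  obtain ⟨t₀, -, ht₀⟩ := Scheme.Pullback.exists_preimage_pullback (f := g) (g := i) t
    (closedPoint A) hi.symm
  have hF := isIso_closedFibre A π j hj t₀ ht₀
  have hsq := isPullback_fiberToSpecResidueField_of_isPullback (IsPullback.of_hasPullback g i) (closedPoint A)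
  have : IsIso (g.fiberToSpecResidueField (i.base (closedPoint A))) := by
    haveI : Surjective (Spec.map (i.residueFieldMap (closedPoint A))) :=
      ⟨fun p => by
        obtain ⟨p', -⟩ := ((Spec (CommRingCat.of A)).range_fromSpecResidueField (closedPoint A)).ge rfl
        exact ⟨p', Subsingleton.elim _ _⟩⟩
    haveI : Flat (Spec.map (i.residueFieldMap (closedPoint A))) := by
      rw [HasRingHomProperty.Spec_iff (P := @Flat)]
      letI := (i.residueFieldMap (closedPoint A)).hom.toAlgebra
      exact RingHom.flat_algebraMap_iff.2 inferInstance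
    exact MorphismProperty.DescendsAlong.of_isPullback
      (P := MorphismProperty.isomorphisms Scheme.{u})
      (Q := @Surjective ⊓ @Flat ⊓ @QuasiCompact) hsq.flip ⟨⟨‹_›, ‹_›⟩, inferInstance⟩ hF
  have key : ∀ a b : S, a = b → IsIso (g.fiberToSpecResidueField a) →
      IsIso (g.fiberToSpecResidueField b) := by rintro a _ rfl h; exact h
  exact key _ _ hi this

/-- Let g : T -> S be locally quasi-finite, of finite presentation, separated and flat. If for every
maximal point s of S (a point with no proper generization) the fibre of g over s is either empty or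
mapped isomorphically onto Spec κ(s) (rank at most 1), then g is an open immersion. -/
theorem result {T S : Scheme.{u}} (g : T ⟶ S) [LocallyQuasiFinite g]
    [LocallyOfFinitePresentation g] [QuasiCompact g] [IsSeparated g] [Flat g]
    (h : ∀ s : S, (∀ t : S, t ⤳ s → t = s) →
      IsEmpty ↑(pullback g (S.fromSpecResidueField s)) ∨ IsIso (pullback.snd g (S.fromSpecResidueField s))) :
    IsOpenImmersion g := by
  have hfib := isIso_fibre g h
  let U : S.Opens := ⟨Set.range g.base, g.isOpenMap.isOpen_range⟩
  let g' : T ⟶ (U : Scheme.{u}) := IsOpenImmersion.lift U.ι g (by rw [Scheme.Opens.range_ι]; rfl)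
  have hg : g' ≫ U.ι = g := IsOpenImmersion.lift_fac _ _ _
  haveI : Flat (g' ≫ U.ι) := by rw [hg]; infer_instance
  haveI : LocallyOfFinitePresentation (g' ≫ U.ι) := by rw [hg]; infer_instance
  haveI : IsIso g' := PurIso.isIso_of_forall_fmap g' U.ι fun s => by
    by_cases hs : s ∈ U
    · obtain ⟨t, rfl⟩ := hs
      haveI h1 : IsIso ((g' ≫ U.ι).fiberToSpecResidueField (g.base t)) := by
        have key : ∀ g₀ : T ⟶ S, g₀ = g → IsIso (g₀.fiberToSpecResidueField (g.base t)) := by
          rintro _ rfl; exact hfib t
        exact key _ hg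
      have h2 : MoreMor.fiberMap g' U.ι (g.base t) ≫ U.ι.fiberToSpecResidueField (g.base t) =
          (g' ≫ U.ι).fiberToSpecResidueField (g.base t) := pullback.lift_snd _ _ _
      haveI : IsOpenImmersion (U.ι.fiberToSpecResidueField (g.base t)) :=
        MorphismProperty.pullback_snd (P := @IsOpenImmersion) _ _ inferInstance
      haveI : Epi (U.ι.fiberToSpecResidueField (g.base t)).base := by
        rw [TopCat.epi_iff_surjective]
        intro p
        refine ⟨(MoreMor.fiberMap g' U.ι (g.base t)).base
          ((inv ((g' ≫ U.ι).fiberToSpecResidueField (g.base t))).base p), ?_⟩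
        rw [← Scheme.Hom.comp_apply, ← Scheme.Hom.comp_apply, h2, IsIso.inv_hom_id]
        rfl
      haveI : IsIso (U.ι.fiberToSpecResidueField (g.base t)) := IsOpenImmersion.isIso _
      haveI : IsIso (MoreMor.fiberMap g' U.ι (g.base t) ≫ U.ι.fiberToSpecResidueField (g.base t)) := by
        rw [h2]; exact h1
      exact IsIso.of_isIso_comp_right _ (U.ι.fiberToSpecResidueField (g.base t))
    · haveI : IsEmpty (U.ι.fiber s) := ⟨fun z => hs (by
        have := (U.ι.range_fiberι s).le ⟨z, rfl⟩
        rw [← show U.ι.base (U.ι.fiberι s z) = s from this]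
        exact (U.ι.fiberι s z).2)⟩
      infer_instance
  rw [← hg]
  infer_instance

end Groth.Agent.S3207
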