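import Groth.Statements.S17728
import Groth.Agent.S3207
import Groth.Agent.S17727
import Groth.Agent.FlatMor.GenericPts
import Groth.Agent.FlatOpen.Scheme
import Groth.Agent.SchDense.Basic
import Groth.Agent.EtStruct.Scheme

set_option autoImplicit false
universe u
open Neron

namespace Groth.Agent.S17728

section
open CategoryTheory CategoryTheory.Limits AlgebraicGeometry

/-- the rank criterion for open immersions, without assuming local quasi-finiteness -/
theorem isOpenImmersion_of_rank_le_one {T S : Scheme.{u}} (g : T ⟶ S)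
    [LocallyOfFinitePresentation g] [QuasiCompact g] [IsSeparated g] [Flat g]
    (h : ∀ s : S, (∀ t : S, t ⤳ s → t = s) →
      IsEmpty ↑(pullback g (S.fromSpecResidueField s)) ∨ IsIso (pullback.snd g (S.fromSpecResidueField s))) :
    IsOpenImmersion g := by
  have hfib := Groth.Agent.S3207.isIso_fibre g h
  let U : S.Opens := ⟨Set.range g.base, g.isOpenMap.isOpen_range⟩
  let g' : T ⟶ (U : Scheme.{u}) := IsOpenImmersion.lift U.ι g (by rw [Scheme.Opens.range_ι]; rfl)
  have hg : g' ≫ U.ι = g := IsOpenImmersion.lift_fac _ _ _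
  haveI : Flat (g' ≫ U.ι) := by rw [hg]; infer_instance
  haveI : LocallyOfFinitePresentation (g' ≫ U.ι) := by rw [hg]; infer_instance
  haveI : IsIso g' := PurIso.isIso_of_forall_fmap g' U.ι fun s => by
    by_cases hs : s ∈ U
    · obtain ⟨t, rfl⟩ := hs
      haveI h1 : IsIso ((g' ≫ U.ι).fiberToSpecResidueField (g.base t)) := by
        have key : ∀ g₀ : T ⟶ S, g₀ = g → IsIso (g₀.fiberToSpecResidueField (g.base t)) := by
          rintro _ rfl; exact hfib t
        exact key _ hg
      have h2 : MoreMor.fiberMap g' U.ι (g.base t) ≫ U.ι.fiberToSpecResidueField (g.base t) =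
          (g' ≫ U.ι).fiberToSpecResidueField (g.base t) := pullback.lift_snd _ _ _
      haveI : IsOpenImmersion (U.ι.fiberToSpecResidueField (g.base t)) :=
        MorphismProperty.pullback_snd (P := @IsOpenImmersion) _ _ inferInstance
      haveI : Epi (U.ι.fiberToSpecResidueField (g.base t)).base := by
        rw [TopCat.epi_iff_surjective]
        intro p
        refine ⟨(MoreMor.fiberMap g' U.ι (g.base t)).base
          ((inv ((g' ≫ U.ι).fiberToSpecResidueField (g.base t))).base p), ?_⟩
        rw [← Scheme.Hom.comp_apply, ← Scheme.Hom.comp_apply, h2, IsIso.inv_hom_id]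
        rfl
      haveI : IsIso (U.ι.fiberToSpecResidueField (g.base t)) := IsOpenImmersion.isIso _
      haveI : IsIso (MoreMor.fiberMap g' U.ι (g.base t) ≫ U.ι.fiberToSpecResidueField (g.base t)) := by
        rw [h2]; exact h1
      exact IsIso.of_isIso_comp_right _ (U.ι.fiberToSpecResidueField (g.base t))
    · haveI : IsEmpty (U.ι.fiber s) := ⟨fun z => hs (by
        have := (U.ι.range_fiberι s).le ⟨z, rfl⟩
        rw [← show U.ι.base (U.ι.fiberι s z) = s from this]
        exact (U.ι.fiberι s z).2)⟩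
      infer_instance
  rw [← hg]
  infer_instance

end

open CategoryTheory AlgebraicGeometry in
/-- Let S be a Noetherian scheme, U ⊆ S a dense open subscheme and f : X → S a morphism locally of
finite type which restricts to an isomorphism over U and for which the preimage of U is
schematically dense in X. For a point x of X the following are equivalent: f is étale on some open
neighbourhood of x; f is flat at x, that is, the local ring of X at x is flat over the local ring of
S at f(x); some open neighbourhood V of f(x) carries a section σ of f over V passing through x. -/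
theorem result
    {X S : Scheme.{u}} [IsNoetherian S] (f : X ⟶ S) [LocallyOfFiniteType f]
    (U : S.Opens) (hU : Dense (U : Set S))
    (hiso : IsIso (morphismRestrict f U)) (hdense : CInt.IsSchematicallyDense (f ⁻¹ᵁ U))
    (x : X) :
    List.TFAE [
      ∃ W : X.Opens, x ∈ W ∧ Etale (W.ι ≫ f),
      (f.stalkMap x).hom.Flat,
      ∃ (V : S.Opens) (hV : f.base x ∈ V) (σ : (V : Scheme.{u}) ⟶ X),
        σ ≫ f = V.ι ∧ σ.base ⟨f.base x, hV⟩ = x] := by
  open CategoryTheory.Limits in
  haveI : IsLocallyNoetherian X := LocallyOfFiniteType.isLocallyNoetherian f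
  haveI hlfp : LocallyOfFinitePresentation f :=
    LocallyOfFinitePresentation.iff_locallyOfFiniteType.mpr inferInstance
  tfae_have 1 → 2 := by
    rintro ⟨W, hxW, hW⟩
    let z₀ : (W : Scheme.{u}) := ⟨x, hxW⟩
    exact (EtStruct.stalkMap_ι_comp_iff f RingHom.Flat.respectsIso W z₀).1
      (AlgebraicGeometry.Flat.stalkMap (W.ι ≫ f) z₀)
  tfae_have 2 → 3 := by
    intro hfl
    let O : X.Opens := ⟨_, FlatOpen.Scheme.isOpen_stalkMap_flat f⟩
    obtain ⟨_, ⟨(W : X.Opens), hW, rfl⟩, hxW, hWO⟩ := X.isBasis_affineOpens.exists_subset_of_mem_open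
      (show x ∈ (O : Set X) from hfl) O.isOpen
    replace hW : IsAffineOpen W := hW
    haveI : IsAffine (W : Scheme.{u}) := hW
    let g := W.ι ≫ f
    haveI : Flat g := by
      rw [Flat.iff_flat_stalkMap]
      intro z
      rw [Scheme.Hom.stalkMap_comp]
      exact RingHom.Flat.comp (hWO z.2 : (f.stalkMap (W.ι z)).hom.Flat) (Flat.stalkMap W.ι z)
    haveI : IsSeparated g := by
      haveI : IsSeparated (g ≫ terminal.from S) := by
        rw [terminal.comp_from]; infer_instance
      exact IsSeparated.of_comp g (terminal.from S)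
    haveI : IsOpenImmersion g := by
      refine isOpenImmersion_of_rank_le_one g fun η hη => ?_
      have hηU : η ∈ U := by
        refine FlatMor.GenericPts.mem_of_dense hU ?_
        rw [FlatMor.GenericPts.closure_mem_irreducibleComponents_iff]
        intro z hz
        exact (hη z hz) ▸ specializes_rfl
      refine or_iff_not_imp_left.2 fun hne => ?_
      haveI := hiso
      haveI hmono : IsOpenImmersion (g ∣_ U) := by
        haveI : IsOpenImmersion (W.ι ∣_ f ⁻¹ᵁ U) :=
          MorphismProperty.of_isPullback (isPullback_morphismRestrict W.ι (f ⁻¹ᵁ U)).flip inferInstance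
        haveI : IsOpenImmersion (f ∣_ U) := inferInstance
        rw [morphismRestrict_comp]
        exact inferInstanceAs (IsOpenImmersion ((W.ι ∣_ f ⁻¹ᵁ U) ≫ (f ∣_ U)))
      let r := S.fromSpecResidueField η
      let r' : Spec (S.residueField η) ⟶ (U : Scheme.{u}) := IsOpenImmersion.lift U.ι r (by
        rw [Scheme.range_fromSpecResidueField, Scheme.Opens.range_ι]
        exact Set.singleton_subset_iff.2 hηU)
      have hr : r' ≫ U.ι = r := IsOpenImmersion.lift_fac _ _ _
      have hsq : IsPullback (pullback.fst (g ∣_ U) r' ≫ (g ⁻¹ᵁ U).ι) (pullback.snd (g ∣_ U) r') g r := by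
        rw [← hr]
        exact (IsPullback.of_hasPullback (g ∣_ U) r').paste_horiz (isPullback_morphismRestrict g U).flip
      haveI : IsOpenImmersion (pullback.snd g r) := by
        rw [← hsq.isoPullback_inv_snd]
        infer_instance
      rw [not_isEmpty_iff] at hne
      obtain ⟨p⟩ := hne
      haveI : Epi (pullback.snd g r).base := by
        rw [TopCat.epi_iff_surjective]
        exact fun q => ⟨p, Subsingleton.elim (α := PrimeSpectrum (S.residueField η)) _ _⟩
      exact IsOpenImmersion.isIso _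
    let i := g.isoOpensRange
    refine ⟨g.opensRange, ⟨⟨x, hxW⟩, rfl⟩, i.inv ≫ W.ι, ?_, ?_⟩
    · rw [Category.assoc]
      exact g.isoOpensRange_inv_comp
    · let z₀ : (W : Scheme.{u}) := ⟨x, hxW⟩
      refine (Scheme.Hom.comp_apply i.inv W.ι _).trans ?_
      have hz : i.hom.base z₀ = (⟨f.base x, ⟨z₀, rfl⟩⟩ : (g.opensRange : Scheme.{u})) := by
        apply g.opensRange.ι.isOpenEmbedding.injective
        refine (Scheme.Hom.comp_apply i.hom g.opensRange.ι _).symm.trans ?_
        rw [g.isoOpensRange_hom_ι]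
        rfl
      have hinv : i.inv.base (i.hom.base z₀) = z₀ := by
        rw [← Scheme.Hom.comp_apply i.hom i.inv, Iso.hom_inv_id]
        rfl
      exact (congrArg (fun q => W.ι.base (i.inv.base q)) hz.symm).trans (congrArg W.ι.base hinv)
  tfae_have 3 → 1 := by
    rintro ⟨V, hV, σ, hσ, hσx⟩
    obtain ⟨_, ⟨(W : X.Opens), hW, rfl⟩, hxW, hWV⟩ := X.isBasis_affineOpens.exists_subset_of_mem_open
      (show x ∈ ((f ⁻¹ᵁ V : X.Opens) : Set X) from hV) (f ⁻¹ᵁ V).isOpen
    replace hW : IsAffineOpen W := hW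
    haveI : IsAffine (W : Scheme.{u}) := hW
    let V' : S.Opens := V.ι ''ᵁ (σ ⁻¹ᵁ W)
    let W' : X.Opens := W ⊓ f ⁻¹ᵁ V'
    have hxV' : f.base x ∈ V' := ⟨⟨f.base x, hV⟩, show σ.base _ ∈ W by rw [hσx]; exact hxW, rfl⟩
    let k : (V' : Scheme.{u}) ⟶ V := IsOpenImmersion.lift V.ι V'.ι (by
      rintro _ ⟨z, rfl⟩
      rw [Scheme.Opens.range_ι]
      obtain ⟨y, -, hy⟩ := z.2
      show z.1 ∈ V
      rw [← hy]
      exact y.2)
    have hk : k ≫ V.ι = V'.ι := IsOpenImmersion.lift_fac _ _ _
    have hkσ : ∀ z, σ.base (k.base z) ∈ W' := fun z => by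
      obtain ⟨y, hy, hyz⟩ := z.2
      have hkz : k.base z = y := V.ι.isOpenEmbedding.injective (by
        rw [← Scheme.Hom.comp_apply, hk]
        exact hyz.symm)
      refine ⟨hkz ▸ hy, ?_⟩
      show f.base _ ∈ V'
      rw [← Scheme.Hom.comp_apply, hσ, ← Scheme.Hom.comp_apply, hk]
      exact z.2
    let σ' : (V' : Scheme.{u}) ⟶ W' := IsOpenImmersion.lift W'.ι (k ≫ σ) (by
      rintro _ ⟨z, rfl⟩
      rw [Scheme.Opens.range_ι, Scheme.Hom.comp_apply]
      exact hkσ z)
    have hσ' : σ' ≫ W'.ι = k ≫ σ := IsOpenImmersion.lift_fac _ _ _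
    let f' : (W' : Scheme.{u}) ⟶ V' := IsOpenImmersion.lift V'.ι (W'.ι ≫ f) (by
      rintro _ ⟨z, rfl⟩
      rw [Scheme.Opens.range_ι, Scheme.Hom.comp_apply]
      exact z.2.2)
    have hf' : f' ≫ V'.ι = W'.ι ≫ f := IsOpenImmersion.lift_fac _ _ _
    have hs : σ' ≫ f' = 𝟙 _ := by
      rw [← cancel_mono V'.ι, Category.assoc, hf', ← Category.assoc, hσ', Category.assoc, hσ, hk,
        Category.id_comp]
    haveI : IsSeparated f' := by
      haveI : IsSeparated (f' ≫ V'.ι) := by
        rw [hf']
        haveI : IsSeparated ((W'.ι ≫ f) ≫ terminal.from S) := by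
          rw [terminal.comp_from]
          have hle : W' ≤ W := inf_le_left
          rw [← terminal.comp_from (X.homOfLE hle)]
          infer_instance
        exact IsSeparated.of_comp _ (terminal.from S)
      exact IsSeparated.of_comp f' V'.ι
    haveI : IsClosedImmersion σ' := by
      haveI : IsClosedImmersion (σ' ≫ f') := by rw [hs]; infer_instance
      exact IsClosedImmersion.of_comp σ' f'
    let D := W'.ι ⁻¹ᵁ (f ⁻¹ᵁ U)
    have hD : CInt.IsSchematicallyDense D := fun A => S17727.dense_restrict hdense W' A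
    have hfac : (D.ι ≫ f') ≫ σ' = D.ι := by
      haveI := hiso
      rw [← cancel_mono W'.ι]
      simp only [Category.assoc, hσ']
      have hr : ∀ z, ((D.ι ≫ f') ≫ k ≫ σ).base z ∈ f ⁻¹ᵁ U := fun z => by
        show f.base _ ∈ U
        rw [← Scheme.Hom.comp_apply]
        simp only [Category.assoc, hσ, hk, hf']
        rw [Scheme.Hom.comp_apply, Scheme.Hom.comp_apply]
        exact z.2
      let a₁ : (D : Scheme.{u}) ⟶ (f ⁻¹ᵁ U : X.Opens) := IsOpenImmersion.lift (f ⁻¹ᵁ U).ι
        (D.ι ≫ W'.ι) (by rintro _ ⟨z, rfl⟩; rw [Scheme.Opens.range_ι, Scheme.Hom.comp_apply]; exact z.2)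
      let a₂ : (D : Scheme.{u}) ⟶ (f ⁻¹ᵁ U : X.Opens) := IsOpenImmersion.lift (f ⁻¹ᵁ U).ι
        ((D.ι ≫ f') ≫ k ≫ σ) (by rintro _ ⟨z, rfl⟩; rw [Scheme.Opens.range_ι]; exact hr z)
      have e1 : a₁ ≫ (f ⁻¹ᵁ U).ι = D.ι ≫ W'.ι := IsOpenImmersion.lift_fac _ _ _
      have e2 : a₂ ≫ (f ⁻¹ᵁ U).ι = (D.ι ≫ f') ≫ k ≫ σ := IsOpenImmersion.lift_fac _ _ _
      have h12 : a₂ = a₁ := by
        rw [← cancel_mono (f ∣_ U), ← cancel_mono U.ι]
        simp only [Category.assoc, morphismRestrict_ι]
        rw [reassoc_of% e1, reassoc_of% e2]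
        rw [hσ, hk, hf']
      rw [h12, e1] at e2
      exact (e2.trans (Category.assoc _ _ _)).symm
    haveI := SchDense.isIso_of_schDense σ' D hD (D.ι ≫ f') hfac
    haveI : IsIso f' := by
      haveI : IsIso (σ' ≫ f') := by rw [hs]; infer_instance
      exact IsIso.of_isIso_comp_left σ' f'
    refine ⟨W', ⟨hxW, hxV'⟩, ?_⟩
    rw [← hf']
    infer_instance
  tfae_finish

end Groth.Agent.S17728
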