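import Groth.Statements.S17737
import Groth.Agent.RegLoc.Completion
import Mathlib.RingTheory.Flat.FaithfullyFlat.Algebra

set_option autoImplicit false
universe u
open DualGr

namespace Groth.Agent.S17737

open IsLocalRing

section

variable {S : Type u} [CommRing S]

/-- Setting the second variable to zero. -/
noncomputable def restr : MvPowerSeries (Fin 2) S →+* PowerSeries S where
  toFun f := PowerSeries.mk fun n => MvPowerSeries.coeff (Finsupp.single 0 n) f
  map_zero' := by ext n; simp
  map_one' := by
    ext n
    classical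
    rw [PowerSeries.coeff_mk, MvPowerSeries.coeff_one, PowerSeries.coeff_one]
    simp [Finsupp.single_eq_zero]
  map_add' f g := by ext n; simp
  map_mul' f g := by
    ext n
    classical
    rw [PowerSeries.coeff_mk, MvPowerSeries.coeff_mul, Finsupp.antidiagonal_single,
      Finset.sum_map, PowerSeries.coeff_mul]
    refine Finset.sum_congr rfl fun p _ => ?_
    simp

@[simp]
lemma coeff_restr (f : MvPowerSeries (Fin 2) S) (n : ℕ) :
    PowerSeries.coeff n (restr f) = MvPowerSeries.coeff (Finsupp.single 0 n) f :=
  PowerSeries.coeff_mk n fun m => MvPowerSeries.coeff (Finsupp.single 0 m) f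

lemma restr_X_zero : restr (MvPowerSeries.X 0 : MvPowerSeries (Fin 2) S) = PowerSeries.X := by
  ext n
  classical
  rw [coeff_restr, MvPowerSeries.coeff_X, PowerSeries.coeff_X]
  exact if_congr (Finsupp.single_injective 0).eq_iff rfl rfl

lemma restr_X_one : restr (MvPowerSeries.X 1 : MvPowerSeries (Fin 2) S) = 0 := by
  ext n
  classical
  rw [coeff_restr, MvPowerSeries.coeff_X, map_zero, if_neg]
  intro h
  have := DFunLike.congr_fun h 1
  simp at this

lemma restr_C (c : S) : restr (MvPowerSeries.C c : MvPowerSeries (Fin 2) S) = PowerSeries.C c := by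
  ext n
  classical
  rw [coeff_restr, MvPowerSeries.coeff_C, PowerSeries.coeff_C]
  simp [Finsupp.single_eq_zero]

lemma exists_decomp (z : MvPowerSeries (Fin 2) S) :
    ∃ p q, z = MvPowerSeries.C (MvPowerSeries.constantCoeff z) + MvPowerSeries.X 0 * p +
      MvPowerSeries.X 1 * q := by
  classical
  let z1 : MvPowerSeries (Fin 2) S := fun m => if m 1 = 0 then MvPowerSeries.coeff m z else 0
  have hz1 : ∀ m, MvPowerSeries.coeff m z1 = if m 1 = 0 then MvPowerSeries.coeff m z else 0 :=
    fun m => rfl
  obtain ⟨q, hq⟩ : MvPowerSeries.X 1 ∣ z - z1 := by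
    rw [MvPowerSeries.X_dvd_iff]
    intro m hm
    rw [map_sub, hz1, if_pos hm, sub_self]
  obtain ⟨p, hp⟩ : MvPowerSeries.X 0 ∣ z1 - MvPowerSeries.C (MvPowerSeries.constantCoeff z) := by
    rw [MvPowerSeries.X_dvd_iff]
    intro m hm
    rw [map_sub, hz1, MvPowerSeries.coeff_C]
    by_cases hm1 : m 1 = 0
    · have hm0 : m = 0 := by
        ext i
        fin_cases i
        · simpa using hm
        · simpa using hm1
      subst hm0
      simp
    · have hm0 : m ≠ 0 := fun h => hm1 (by rw [h]; rfl)
      simp [hm1, hm0]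
  exact ⟨p, q, by linear_combination (norm := ring1) hp + hq⟩

variable [IsLocalRing S] [IsNoetherianRing S]

/-- If `g * h` is a constant and `g` has constant term in the maximal ideal and linear term a
unit, the constant is zero. -/
lemma eq_zero_of_mul_eq_C (g h : PowerSeries S) (a : S)
    (h0 : PowerSeries.constantCoeff g ∈ maximalIdeal S) (h1 : IsUnit (PowerSeries.coeff 1 g))
    (hgh : g * h = PowerSeries.C a) : a = 0 := by
  obtain ⟨P, hP⟩ : PowerSeries.X ∣ g - PowerSeries.C (PowerSeries.constantCoeff g) :=
    PowerSeries.X_dvd_iff.mpr (by simp)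
  set c := PowerSeries.constantCoeff g with hc
  have hg : g = PowerSeries.C c + PowerSeries.X * P := by rw [← hP]; ring
  have hPu : IsUnit P := by
    rw [PowerSeries.isUnit_iff_constantCoeff, ← PowerSeries.coeff_zero_eq_constantCoeff_apply]
    have : PowerSeries.coeff 1 g = PowerSeries.coeff 0 P := by
      rw [hg, map_add, PowerSeries.coeff_C, if_neg one_ne_zero, zero_add,
        PowerSeries.coeff_succ_X_mul]
    rwa [this] at h1
  have hrec : ∀ n, PowerSeries.coeff n (P * h) = -(c * PowerSeries.coeff (n + 1) h) := by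
    intro n
    have := congrArg (PowerSeries.coeff (n + 1)) hgh
    rw [hg, add_mul, map_add, PowerSeries.coeff_C_mul, mul_assoc, PowerSeries.coeff_succ_X_mul,
      PowerSeries.coeff_C, if_neg n.succ_ne_zero] at this
    exact eq_neg_of_add_eq_zero_right this
  have hk : ∀ k n, PowerSeries.coeff n h ∈ maximalIdeal S ^ k := by
    intro k
    induction k with
    | zero => simp
    | succ k ih =>
      intro n
      obtain ⟨Q, hQ⟩ := hPu.exists_left_inv
      have : h = Q * (P * h) := by rw [← mul_assoc, hQ, one_mul]
      rw [this, PowerSeries.coeff_mul]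
      refine Ideal.sum_mem _ fun p _ => Ideal.mul_mem_left _ _ ?_
      rw [hrec, neg_mem_iff, pow_succ']
      exact Ideal.mul_mem_mul h0 (ih _)
  have hh0 : PowerSeries.coeff 0 h = 0 := by
    have hmem : PowerSeries.coeff 0 h ∈ ⨅ k, maximalIdeal S ^ k :=
      Submodule.mem_iInf _ |>.mpr fun k => hk k 0
    rwa [Ideal.iInf_pow_eq_bot_of_isLocalRing _ (maximalIdeal.isMaximal S).ne_top] at hmem
  have := congrArg (PowerSeries.coeff 0) hgh
  rw [PowerSeries.coeff_zero_eq_constantCoeff_apply] at hh0
  rw [PowerSeries.coeff_zero_eq_constantCoeff_apply, PowerSeries.coeff_zero_eq_constantCoeff_apply,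
    map_mul, hh0, mul_zero, PowerSeries.constantCoeff_C] at this
  exact this.symm

end

section

variable {R : Type u} [CommRing R] [IsLocalRing R] [IsNoetherianRing R]

/-- The branch `y = 0` of a node of thickness `b`, over `R̂/b`. -/
noncomputable def branch (b : R) :
    DualGr.nodeRing R b →+*
      PowerSeries (Curv2.cpl R ⧸ Ideal.span {algebraMap R (Curv2.cpl R) b}) :=
  Ideal.Quotient.lift _ ((PowerSeries.map (Ideal.Quotient.mk _)).comp restr) (by
    intro z hz
    obtain ⟨w, rfl⟩ := Ideal.mem_span_singleton.mp hz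
    simp only [map_mul, RingHom.coe_comp, Function.comp_apply, map_sub, restr_X_one, restr_C,
      mul_zero, map_zero, zero_sub, PowerSeries.map_C, Ideal.Quotient.mk_singleton_self,
      neg_zero, zero_mul])

lemma branch_mk (b : R) (z : MvPowerSeries (Fin 2) (Curv2.cpl R)) :
    branch b (Ideal.Quotient.mk _ z) = PowerSeries.map (Ideal.Quotient.mk _) (restr z) := rfl

lemma span_ne_top {b : R} (hb : b ∈ maximalIdeal R) :
    Ideal.span {algebraMap R (Curv2.cpl R) b} ≠ ⊤ := by
  rw [Ne, Ideal.span_singleton_eq_top]
  exact fun h => hb (IsUnit.of_map (algebraMap R (Curv2.cpl R)) b h)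

theorem mem_span_of_equiv {a b : R} (ha : a ∈ maximalIdeal R) (hb : b ∈ maximalIdeal R)
    (θ : DualGr.nodeRing R a ≃+* DualGr.nodeRing R b)
    (hθ : ∀ r : R, θ (Ideal.Quotient.mk _ (MvPowerSeries.C (algebraMap R (Curv2.cpl R) r))) =
      Ideal.Quotient.mk _ (MvPowerSeries.C (algebraMap R (Curv2.cpl R) r))) :
    a ∈ Ideal.span {b} := by
  have := Groth.Agent.RegLoc.Completion.isNoetherianRing_adicCompletion' (maximalIdeal R)
  set π := Ideal.Quotient.mk (Ideal.span {algebraMap R (Curv2.cpl R) b}) with hπ
  have : Nontrivial (Curv2.cpl R ⧸ Ideal.span {algebraMap R (Curv2.cpl R) b}) :=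
    Ideal.Quotient.nontrivial_iff.mpr (span_ne_top hb)
  have : IsLocalRing (Curv2.cpl R ⧸ Ideal.span {algebraMap R (Curv2.cpl R) b}) :=
    IsLocalRing.of_surjective' π Ideal.Quotient.mk_surjective
  have hπloc : IsLocalHom π := IsLocalHom.of_surjective π Ideal.Quotient.mk_surjective
  set Φ := (branch b).comp θ.toRingHom with hΦ
  set mkA := Ideal.Quotient.mk (Ideal.span {(MvPowerSeries.X 0 * MvPowerSeries.X 1 -
      MvPowerSeries.C (algebraMap R (Curv2.cpl R) a) : MvPowerSeries (Fin 2) (Curv2.cpl R))})
    with hmkA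
  have hΦC : ∀ r : R, Φ (mkA (MvPowerSeries.C (algebraMap R (Curv2.cpl R) r))) =
      PowerSeries.C (π (algebraMap R (Curv2.cpl R) r)) := fun r => by
    rw [hΦ, RingHom.coe_comp, Function.comp_apply]
    erw [hθ r]
    rw [branch_mk, restr_C, PowerSeries.map_C]
  -- the images of the variables are nonunits
  have hnu : ∀ i : Fin 2,
      PowerSeries.constantCoeff (Φ (mkA (MvPowerSeries.X i))) ∈ maximalIdeal _ := by
    intro i hu
    obtain ⟨w, hw⟩ := Ideal.Quotient.mk_surjective (θ (mkA (MvPowerSeries.X i)))
    have hu' : IsUnit (π (MvPowerSeries.constantCoeff w)) := by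
      have h1 : Φ (mkA (MvPowerSeries.X i)) = PowerSeries.map π (restr w) := by
        rw [hΦ, RingHom.coe_comp, Function.comp_apply]
        exact (congrArg (branch b) hw.symm).trans (branch_mk b w)
      rw [h1, ← PowerSeries.coeff_zero_eq_constantCoeff_apply, PowerSeries.coeff_map,
        coeff_restr, Finsupp.single_zero, MvPowerSeries.coeff_zero_eq_constantCoeff_apply] at hu
      exact hu
    have h2 : IsUnit w := MvPowerSeries.isUnit_iff_constantCoeff.mpr (IsUnit.of_map π _ hu')
    have h3 : IsUnit (θ (mkA (MvPowerSeries.X i))) := hw ▸ h2.map _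
    have h4 : IsUnit (branch a (mkA (MvPowerSeries.X i))) :=
      (by simpa using h3.map θ.symm : IsUnit (mkA (MvPowerSeries.X i))).map (branch a)
    have : Nontrivial (Curv2.cpl R ⧸ Ideal.span {algebraMap R (Curv2.cpl R) a}) :=
      Ideal.Quotient.nontrivial_iff.mpr (span_ne_top ha)
    rw [hmkA, branch_mk, PowerSeries.isUnit_iff_constantCoeff] at h4
    fin_cases i <;> simp [restr_X_zero, restr_X_one] at h4
  -- one of them has a unit linear coefficient
  have hlin : ∃ i : Fin 2, IsUnit (PowerSeries.coeff 1 (Φ (mkA (MvPowerSeries.X i)))) := by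
    by_contra hcon
    push_neg at hcon
    obtain ⟨z, hz⟩ := Ideal.Quotient.mk_surjective
      (θ.symm (Ideal.Quotient.mk _ (MvPowerSeries.X 0)))
    have hzt : Φ (mkA z) = PowerSeries.X := by
      rw [hΦ, RingHom.coe_comp, Function.comp_apply, hmkA, hz]
      simp [branch_mk, restr_X_zero]
    obtain ⟨p, q, hpq⟩ := exists_decomp z
    have hzc : MvPowerSeries.constantCoeff z ∈ maximalIdeal (Curv2.cpl R) := by
      intro hu
      have := ((MvPowerSeries.isUnit_iff_constantCoeff.mpr hu).map mkA).map Φ
      rw [hzt] at this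
      rw [PowerSeries.isUnit_iff_constantCoeff] at this
      simp at this
    have hconst : ∀ s ∈ maximalIdeal (Curv2.cpl R), ∀ n,
        PowerSeries.coeff n (Φ (mkA (MvPowerSeries.C s))) ∈ maximalIdeal _ := by
      intro s hs
      rw [AdicCompletion.maximalIdeal_eq_map, Ideal.map] at hs
      induction hs using Submodule.span_induction with
      | mem x hx =>
        intro n
        obtain ⟨r, hr, rfl⟩ := hx
        rw [hΦC, PowerSeries.coeff_C]
        split_ifs
        · intro hu
          exact hr (IsUnit.of_map (algebraMap R (Curv2.cpl R)) r (IsUnit.of_map π _ hu))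
        · exact zero_mem _
      | zero => simp
      | add x y _ _ hx hy =>
        intro n
        rw [map_add, map_add, map_add, map_add]
        exact add_mem (hx n) (hy n)
      | smul t x _ hx =>
        intro n
        rw [smul_eq_mul, map_mul, map_mul, map_mul, PowerSeries.coeff_mul]
        refine Ideal.sum_mem _ fun pq hpq => Ideal.mul_mem_left _ _ ?_
        exact hx pq.2
    have := congrArg (PowerSeries.coeff 1) hzt
    rw [hpq] at this
    simp only [map_add, map_mul, PowerSeries.coeff_mul, PowerSeries.coeff_one_X] at this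
    have key : (1 : Curv2.cpl R ⧸ Ideal.span {algebraMap R (Curv2.cpl R) b}) ∈ maximalIdeal _ := by
      rw [← this]
      refine add_mem (add_mem (hconst _ hzc 1) ?_) ?_ <;>
      · refine Ideal.sum_mem _ fun pq hpq' => Ideal.mul_mem_right _ _ ?_
        have hle : pq.1 ≤ 1 := by
          have := Finset.mem_antidiagonal.mp hpq'
          omega
        interval_cases pq.1
        · rw [PowerSeries.coeff_zero_eq_constantCoeff_apply]; exact hnu _
        · exact hcon _
    exact key isUnit_one
  have hmul : Φ (mkA (MvPowerSeries.X 0)) * Φ (mkA (MvPowerSeries.X 1)) =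
      PowerSeries.C (π (algebraMap R (Curv2.cpl R) a)) := by
    rw [← hΦC, ← map_mul, ← map_mul]
    congr 1
    rw [hmkA, Ideal.Quotient.eq]
    exact Ideal.mem_span_singleton_self _
  have hz0 : π (algebraMap R (Curv2.cpl R) a) = 0 := by
    obtain ⟨i, hi⟩ := hlin
    fin_cases i
    · exact eq_zero_of_mul_eq_C _ _ _ (hnu 0) hi hmul
    · exact eq_zero_of_mul_eq_C _ _ _ (hnu 1) hi ((mul_comm _ _).trans hmul)
  have : Module.FaithfullyFlat R (Curv2.cpl R) := Module.FaithfullyFlat.of_flat_of_isLocalHom
  rw [← Ideal.comap_map_eq_self_of_faithfullyFlat (B := Curv2.cpl R) (Ideal.span {b}),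
    Ideal.mem_comap, Ideal.map_span, Set.image_singleton]
  exact Ideal.Quotient.eq_zero_iff_mem.mp hz0

end

open IsLocalRing in
/-- Let R be a Noetherian local ring, A a local ring with a ring map φ : R → A, and a, b two elements of
the maximal ideal of R such that A is formally a node over R both of thickness (a) and of thickness
(b): the completion of A is isomorphic, compatibly with R, to R̂[[x,y]]/(xy − a) and also to
R̂[[x,y]]/(xy − b). Then aR = bR. (This is the uniqueness assertion: the element in a node
presentation is not unique but the principal ideal it generates is; it is stated for presentations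
with the element taken in R, whose ideal in R is then determined.) -/
theorem result
    (R A : Type u) [CommRing R] [IsLocalRing R] [IsNoetherianRing R] [CommRing A] [IsLocalRing A]
    (φ : R →+* A) (a b : R) (ha : a ∈ maximalIdeal R) (hb : b ∈ maximalIdeal R)
    (h₁ : DualGr.IsThickNode φ a) (h₂ : DualGr.IsThickNode φ b) :
    Ideal.span {a} = Ideal.span {b} := by
  obtain ⟨e₁, he₁⟩ := h₁
  obtain ⟨e₂, he₂⟩ := h₂
  apply le_antisymm <;> rw [Ideal.span_singleton_le_iff_mem]
  · exact mem_span_of_equiv ha hb (e₁.symm.trans e₂) fun r => by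
      rw [RingEquiv.trans_apply, ← he₁, RingEquiv.symm_apply_apply, he₂]
  · exact mem_span_of_equiv hb ha (e₂.symm.trans e₁) fun r => by
      rw [RingEquiv.trans_apply, ← he₂, RingEquiv.symm_apply_apply, he₁]

end Groth.Agent.S17737
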