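import Groth.Statements.S17729
import Groth.Agent.S17737
import Groth.Agent.EGA4Lib.SmoothRegular
import Groth.Agent.EGA4Lib.J2
import Groth.Agent.RegLoc.Completion
import Mathlib.Algebra.DualNumber
import Mathlib.RingTheory.Ideal.GoingDown
import Mathlib.RingTheory.Ideal.KrullsHeightTheorem

set_option autoImplicit false
universe u
open DualGr

namespace Groth.Agent.S17729

open AlgebraicGeometry CategoryTheory IsLocalRing
open scoped TensorProduct DualNumber

set_option linter.style.haveILetI false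

/-- Functoriality of dual numbers in the ring. -/
def dualMap {D E : Type u} [CommRing D] [CommRing E] (g : D →+* E) : D[ε] →+* E[ε] where
  toFun z := TrivSqZeroExt.inl (g z.fst) + TrivSqZeroExt.inr (g z.snd)
  map_one' := by ext <;> simp
  map_mul' a b := by ext <;> simp [TrivSqZeroExt.snd_mul]
  map_zero' := by ext <;> simp
  map_add' a b := by ext <;> simp

@[simp] lemma fst_dualMap {D E : Type u} [CommRing D] [CommRing E] (g : D →+* E) (z : D[ε]) :
    (dualMap g z).fst = g z.fst := by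
  change ((TrivSqZeroExt.inl (g z.fst) + TrivSqZeroExt.inr (g z.snd) : E[ε])).fst = _
  simp

@[simp] lemma snd_dualMap {D E : Type u} [CommRing D] [CommRing E] (g : D →+* E) (z : D[ε]) :
    (dualMap g z).snd = g z.snd := by
  change ((TrivSqZeroExt.inl (g z.fst) + TrivSqZeroExt.inr (g z.snd) : E[ε])).snd = _
  simp

/-- At a rational point of a fibre of dimension at most one of a smooth algebra two tangent vectors
are proportional. -/
theorem tangent_proportional {R A F : Type u} [CommRing R] [IsNoetherianRing R] [CommRing A]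
    [Algebra R A] [Algebra.Smooth R A] [Field F] (π : A →+* F) (Φ : Fin 2 → A →+* F[ε])
    (hfst : ∀ i a, (Φ i a).fst = π a) (hR : ∀ i r, (Φ i (algebraMap R A r)).snd = 0)
    (hsurj : ∀ a, ∃ r s, π (algebraMap R A s) ≠ 0 ∧
      π a * π (algebraMap R A s) = π (algebraMap R A r))
    (hchain : ∀ P₀ P₁ : Ideal A, P₀.IsPrime → P₁.IsPrime →
      (∀ r, π (algebraMap R A r) = 0 → algebraMap R A r ∈ P₀) → P₀ < P₁ → P₁ < RingHom.ker π → False)
    (a b : A) : (Φ 0 a).snd * (Φ 1 b).snd = (Φ 0 b).snd * (Φ 1 a).snd := by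
  classical
  set p : Ideal R := RingHom.ker (π.comp (algebraMap R A)) with hp
  haveI : p.IsPrime := RingHom.ker_isPrime _
  let D := R ⧸ p
  haveI : IsDomain D := Ideal.Quotient.isDomain p
  let T := D ⊗[R] A
  let ι : A →ₐ[R] T := Algebra.TensorProduct.includeRight
  letI : Algebra R F := (π.comp (algebraMap R A)).toAlgebra
  let πT : T →ₐ[R] F := Algebra.TensorProduct.lift
    (Ideal.Quotient.liftₐ p (Algebra.ofId R F) fun r hr => hr)
    ({ π with commutes' := fun _ => rfl } : A →ₐ[R] F) fun _ _ => Commute.all _ _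
  have hπι : ∀ c, πT (ι c) = π c := fun c => by
    change πT ((1 : D) ⊗ₜ[R] c) = π c
    rw [Algebra.TensorProduct.lift_tmul, map_one, one_mul]
    rfl
  have hιsurj : Function.Surjective ι := by
    intro z
    induction z using TensorProduct.induction_on with
    | zero => exact ⟨0, map_zero _⟩
    | tmul d c =>
      obtain ⟨r, rfl⟩ := Ideal.Quotient.mk_surjective d
      refine ⟨r • c, ?_⟩
      change (1 : D) ⊗ₜ[R] (r • c) = _
      rw [← TensorProduct.smul_tmul]
      congr 1
      rw [Algebra.smul_def, mul_one]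
      rfl
    | add x y hx hy =>
      obtain ⟨u, rfl⟩ := hx
      obtain ⟨v, rfl⟩ := hy
      exact ⟨u + v, map_add _ _ _⟩
  have hιker : ∀ c, ι c = 0 → c ∈ p.map (algebraMap R A) := by
    intro c hc
    let g : T →ₐ[R] A ⧸ p.map (algebraMap R A) := Algebra.TensorProduct.lift
      (Ideal.Quotient.liftₐ p (Algebra.ofId R _) fun r hr => by
        change algebraMap R (A ⧸ p.map (algebraMap R A)) r = 0
        rw [IsScalarTower.algebraMap_apply R A, Ideal.Quotient.algebraMap_eq,
          Ideal.Quotient.eq_zero_iff_mem]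
        exact Ideal.mem_map_of_mem _ hr)
      (Ideal.Quotient.mkₐ R _) fun _ _ => Commute.all _ _
    have h1 : g ((1 : D) ⊗ₜ[R] c) = g 0 := congrArg g hc
    rw [Algebra.TensorProduct.lift_tmul, map_one, one_mul, map_zero] at h1
    exact Ideal.Quotient.eq_zero_iff_mem.mp h1
  have hδker : ∀ i c, ι c = 0 → (Φ i c).snd = 0 := by
    intro i c hc
    have h := hιker c hc
    have h' : p.map (algebraMap R A) ≤ RingHom.ker (Φ i) := by
      rw [Ideal.map_le_iff_le_comap]
      intro x hx
      rw [Ideal.mem_comap, RingHom.mem_ker]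
      refine TrivSqZeroExt.ext ?_ (hR i x)
      rw [hfst]
      exact hx
    have h'' : Φ i c = 0 := RingHom.mem_ker.mp (h' h)
    rw [h'', TrivSqZeroExt.snd_zero]
  let q : Ideal T := RingHom.ker πT
  haveI : q.IsPrime := RingHom.ker_isPrime _
  have hqbot : PrimeSpectrum.comap (algebraMap D T) ⟨q, inferInstance⟩ = ⟨⊥, Ideal.isPrime_bot⟩ := by
    apply PrimeSpectrum.ext
    rw [eq_bot_iff]
    intro d hd
    obtain ⟨r, rfl⟩ := Ideal.Quotient.mk_surjective d
    change πT (algebraMap D T (Ideal.Quotient.mk p r)) = 0 at hd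
    rw [Ideal.mem_bot, Ideal.Quotient.eq_zero_iff_mem]
    rw [Algebra.TensorProduct.algebraMap_apply, Algebra.TensorProduct.lift_tmul, map_one,
      mul_one] at hd
    exact hd
  have hreg : (⟨q, inferInstance⟩ : PrimeSpectrum T) ∈ EGA4.regLocus T := by
    refine Groth.Agent.EGA4Lib.mem_regLocus_of_smooth (R := D) _ ?_
    rw [hqbot]
    letI : Field (Localization.AtPrime (⊥ : Ideal D)) :=
      IsField.toField ((IsLocalRing.isField_iff_maximalIdeal_eq).mpr (by
        rw [← Localization.AtPrime.map_eq_maximalIdeal, Ideal.map_bot]))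
    exact inferInstanceAs (IsRegularLocalRing (Localization.AtPrime (⊥ : Ideal D)))
  set S := Localization.AtPrime q with hS
  haveI : IsRegularLocalRing S := hreg
  haveI : IsDomain S := Groth.Agent.RegLoc.isDomain S
  haveI : Ring.KrullDimLE 1 S := by
    rw [Ring.krullDimLE_one_iff_of_noZeroDivisors]
    intro P hP hPp
    by_contra hmax
    have hlt : P < maximalIdeal S :=
      lt_of_le_of_ne (le_maximalIdeal hPp.ne_top) fun h => hmax (h ▸ maximalIdeal.isMaximal S)
    set j : A →+* S := (algebraMap T S).comp ι.toRingHom with hj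
    have hjtop : (maximalIdeal S).comap j = RingHom.ker π := by
      rw [hj, ← Ideal.comap_comap]
      change ((maximalIdeal S).comap (algebraMap T S)).comap ι.toRingHom = _
      rw [show (maximalIdeal S).comap (algebraMap T S) = q from
        Localization.AtPrime.under_maximalIdeal]
      ext c
      change πT (ι c) = 0 ↔ π c = 0
      rw [hπι]
    have hmono : ∀ {I J : Ideal S}, I < J → I.comap j < J.comap j := by
      intro I J hIJ
      refine lt_of_le_of_ne (Ideal.comap_mono hIJ.le) fun h => hIJ.ne ?_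
      rw [hj, ← Ideal.comap_comap, ← Ideal.comap_comap] at h
      have h' := Ideal.comap_injective_of_surjective ι.toRingHom hιsurj h
      rw [← IsLocalization.map_comap q.primeCompl S I, ← IsLocalization.map_comap q.primeCompl S J]
      exact congrArg (Ideal.map (algebraMap T S)) h'
    refine hchain ((⊥ : Ideal S).comap j) (P.comap j) (Ideal.IsPrime.comap j)
      (Ideal.IsPrime.comap j) ?_ (hmono (bot_lt_iff_ne_bot.mpr hP)) (hjtop ▸ hmono hlt)
    intro r hr
    change algebraMap T S (ι (algebraMap R A r)) ∈ (⊥ : Ideal S)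
    rw [ι.commutes, IsScalarTower.algebraMap_apply R D T, Ideal.Quotient.algebraMap_eq,
      Ideal.Quotient.eq_zero_iff_mem.mpr (show r ∈ p from hr), map_zero, map_zero]
    exact zero_mem _
  obtain ⟨z, hz⟩ : (maximalIdeal S).IsPrincipal := by
    refine (IsLocalRing.finrank_cotangentSpace_le_one_iff (R := S)).mp ?_
    have h1 : ringKrullDim S ≤ 1 := Ring.krullDimLE_iff.mp inferInstance
    rw [← (IsRegularLocalRing.iff_finrank_cotangentSpace S).mp inferInstance] at h1
    exact_mod_cast h1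
  obtain ⟨⟨zt, zs⟩, hzt⟩ := IsLocalization.surj q.primeCompl z
  obtain ⟨t, rfl⟩ := hιsurj zt
  have hunit : IsUnit (algebraMap T S zs) := IsLocalization.map_units S zs
  have hmax : maximalIdeal S = Ideal.span {algebraMap T S (ι t)} := by
    rw [← hzt, Ideal.span_singleton_mul_right_unit hunit]
    exact hz
  have key : ∀ c, ∃ l : F, ∀ i, (Φ i c).snd = l * (Φ i t).snd := by
    intro c
    obtain ⟨r, s₀, hs₀, hr⟩ := hsurj c
    set e := c * algebraMap R A s₀ - algebraMap R A r with he
    have hπe : π e = 0 := by rw [he, map_sub, map_mul, hr, sub_self]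
    have he' : algebraMap T S (ι e) ∈ maximalIdeal S :=
      (IsLocalization.AtPrime.to_map_mem_maximal_iff S q (ι e)).mpr
        (show πT (ι e) = 0 by rw [hπι, hπe])
    rw [hmax, Ideal.mem_span_singleton] at he'
    obtain ⟨w, hw⟩ := he'
    obtain ⟨⟨ut, ss⟩, hu⟩ := IsLocalization.surj q.primeCompl w
    obtain ⟨u, rfl⟩ := hιsurj ut
    obtain ⟨s, hs⟩ := hιsurj ss.1
    have heq : algebraMap T S (ι (e * s)) = algebraMap T S (ι (t * u)) := by
      rw [map_mul, map_mul, map_mul, map_mul, hw, hs, mul_assoc]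
      exact congrArg _ hu
    obtain ⟨v, hv⟩ := (IsLocalization.eq_iff_exists q.primeCompl S).mp heq
    obtain ⟨v', hv'⟩ := hιsurj v.1
    have h0 : ι (v' * (e * s - t * u)) = 0 := by
      rw [map_mul, map_sub, hv', mul_sub, hv, sub_self]
    have hπv : π v' ≠ 0 := fun h => v.2 (show πT v.1 = 0 by rw [← hv', hπι, h])
    have hπs : π s ≠ 0 := fun h => ss.2 (show πT ss.1 = 0 by rw [← hs, hπι, h])
    have hπt : π t = 0 := by
      rw [← hπι]
      exact (IsLocalization.AtPrime.to_map_mem_maximal_iff S q (ι t)).mp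
        (hmax.ge (Ideal.mem_span_singleton_self _))
    refine ⟨π u / π s / π (algebraMap R A s₀), fun i => ?_⟩
    have h1 := hδker i _ h0
    have h2 : (Φ i c).snd * π (algebraMap R A s₀) = (Φ i e).snd := by
      rw [he, map_sub, map_mul, TrivSqZeroExt.snd_sub, DualNumber.snd_mul, hR, hR, hfst, hfst, mul_zero,
        zero_add, sub_zero]
    simp only [map_mul, map_sub, DualNumber.snd_mul, TrivSqZeroExt.snd_sub, hfst, hπe, hπt,
      TrivSqZeroExt.fst_sub, TrivSqZeroExt.fst_mul, zero_mul, mul_zero, sub_zero, zero_add,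
      add_zero, sub_self, mul_eq_zero, hπv, false_or] at h1
    rw [eq_comm, div_mul_eq_mul_div, div_eq_iff hs₀, h2, div_mul_eq_mul_div, div_eq_iff hπs]
    linear_combination (norm := ring1) -h1
  obtain ⟨l, hl⟩ := key a
  obtain ⟨l', hl'⟩ := key b
  rw [hl 0, hl 1, hl' 0, hl' 1]
  ring

section Node

variable {R : Type u} [CommRing R] [IsLocalRing R] [IsNoetherianRing R]

open Groth.Agent.S17737 in
/-- The tangent vector `i` at the section `x = y = 0` over `R/p`. -/
noncomputable def tangent (p : Ideal R) (χ : Curv2.cpl R →+* R ⧸ p) (a : R)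
    (ha : χ (algebraMap R (Curv2.cpl R) a) = 0) (i : Fin 2) :
    DualGr.nodeRing R a →+* (R ⧸ p)[ε] :=
  Ideal.Quotient.lift _
    ({ toFun := fun w => TrivSqZeroExt.inl (χ (MvPowerSeries.constantCoeff w)) +
          TrivSqZeroExt.inr (χ (MvPowerSeries.coeff (Finsupp.single i 1) w))
       map_one' := by
         classical
         ext <;> simp [MvPowerSeries.coeff_one, Finsupp.single_eq_zero]
       map_zero' := by ext <;> simp
       map_add' := fun v w => by ext <;> simp
       map_mul' := fun v w => by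
         classical
         ext
         · simp
         · simp only [TrivSqZeroExt.snd_add, TrivSqZeroExt.snd_inl, TrivSqZeroExt.snd_inr, zero_add,
             DualNumber.snd_mul, TrivSqZeroExt.fst_add, TrivSqZeroExt.fst_inl,
             TrivSqZeroExt.fst_inr, add_zero]
           rw [MvPowerSeries.coeff_mul, Finsupp.antidiagonal_single, Finset.sum_map]
           rw [show Finset.HasAntidiagonal.antidiagonal (1 : ℕ) = {(0, 1), (1, 0)} from rfl,
             Finset.sum_pair (by simp)]
           simp [Function.Embedding.prodMap, map_add, map_mul] } :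
      MvPowerSeries (Fin 2) (Curv2.cpl R) →+* (R ⧸ p)[ε])
    (by
      intro z hz
      obtain ⟨w, rfl⟩ := Ideal.mem_span_singleton.mp hz
      rw [map_mul]
      refine mul_eq_zero_of_left ?_ _
      classical
      ext
      · simp [ha]
      · simp only [RingHom.coe_mk, MonoidHom.coe_mk, OneHom.coe_mk, TrivSqZeroExt.snd_add,
          TrivSqZeroExt.snd_sub, TrivSqZeroExt.snd_inl, TrivSqZeroExt.snd_inr, zero_add, map_sub,
          TrivSqZeroExt.snd_zero]
        have h1 : MvPowerSeries.coeff (Finsupp.single i 1)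
            (MvPowerSeries.X 0 * MvPowerSeries.X 1 : MvPowerSeries (Fin 2) (Curv2.cpl R)) = 0 := by
          rw [MvPowerSeries.X_def, MvPowerSeries.X_def, MvPowerSeries.monomial_mul_monomial,
            MvPowerSeries.coeff_monomial, if_neg]
          intro h
          have h0 := DFunLike.congr_fun h 0
          have h1 := DFunLike.congr_fun h 1
          fin_cases i <;> simp_all
        rw [h1, MvPowerSeries.coeff_C, if_neg (by simp [Finsupp.single_eq_zero]), map_zero,
          sub_zero])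

lemma tangent_mk (p : Ideal R) (χ : Curv2.cpl R →+* R ⧸ p) (a : R)
    (ha : χ (algebraMap R (Curv2.cpl R) a) = 0) (i : Fin 2)
    (w : MvPowerSeries (Fin 2) (Curv2.cpl R)) :
    (tangent p χ a ha i (Ideal.Quotient.mk _ w)).fst = χ (MvPowerSeries.constantCoeff w) ∧
      (tangent p χ a ha i (Ideal.Quotient.mk _ w)).snd =
        χ (MvPowerSeries.coeff (Finsupp.single i 1) w) :=
  ⟨by simp [tangent], by simp [tangent]⟩

end Node

lemma smooth_appLE_of_le {C X : Scheme.{u}} [IsAffine X] (f : C ⟶ X) (U : X.Opens)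
    (hsm : Smooth (f ∣_ U)) (W : C.Opens) (hW : IsAffineOpen W) (hle : W ≤ f ⁻¹ᵁ U) :
    (f.appLE ⊤ W le_top).hom.Smooth := by
  have h1 : Smooth ((f ⁻¹ᵁ U).ι ≫ f) := by
    rw [← morphismRestrict_ι]
    infer_instance
  have h2 : Smooth (W.ι ≫ f) := by
    rw [← C.homOfLE_ι hle, Category.assoc]
    infer_instance
  have h3 := (W.ι ≫ f).smooth_appLE (isAffineOpen_top X) (V := ⊤)
    (by have : IsAffine W.toScheme := hW; exact isAffineOpen_top _) le_top
  have hW' : (⊤ : W.toScheme.Opens) ≤ W.ι ⁻¹ᵁ W := by rw [Scheme.Opens.ι_preimage_self]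
  have h4 := Scheme.Hom.appLE_comp_appLE W.ι f ⊤ W ⊤ le_top hW'
  rw [← h4] at h3
  have h5 : IsIso (W.ι.appLE W ⊤ hW') := by
    rw [Scheme.Opens.ι_appLE]
    have : ∀ {A B : C.Opens} (h : A ≤ B), A = B → IsIso (C.presheaf.map (homOfLE h).op) := by
      intro A B h e
      subst e
      have : homOfLE h = 𝟙 A := Subsingleton.elim _ _
      rw [this, op_id, CategoryTheory.Functor.map_id]
      infer_instance
    exact this _ W.ι_image_top
  have h6 : f.appLE ⊤ W le_top =
      (f.appLE ⊤ W le_top ≫ W.ι.appLE W ⊤ hW') ≫ inv (W.ι.appLE W ⊤ hW') := by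
    rw [Category.assoc, IsIso.hom_inv_id, Category.comp_id]
  rw [h6]
  exact RingHom.Smooth.stableUnderComposition _ _ h3
    (RingHom.Smooth.of_bijective
      (ConcreteCategory.bijective_of_isIso (inv (W.ι.appLE W ⊤ hW'))))

open CategoryTheory AlgebraicGeometry IsLocalRing in
/-- Let R be a complete Noetherian local ring and C → Spec R a morphism locally of finite type, smooth
over a schematically dense open subscheme U of Spec R. Let c be a point of C over the closed point
whose local ring is formally a node of thickness (a) over R for an element a of R: the completion of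
the local ring at c is isomorphic, compatibly with R, to R̂[[x,y]]/(xy − a). Then a is a
non-zero-divisor in R. (The published statement is for a semistable curve over a locally Noetherian
base and a non-smooth point over a separably closed field, with the node presentation supplied by
the local structure of such curves; it is stated here over the spectrum of a complete Noetherian
local ring with the node presentation as a hypothesis, the case to which the argument reduces, and
semistability plays no further role.) -/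
theorem result
    (R : Type u) [CommRing R] [IsNoetherianRing R] [IsLocalRing R]
    [IsAdicComplete (maximalIdeal R) R]
    {C : Scheme.{u}} (f : C ⟶ Spec (CommRingCat.of R)) [LocallyOfFiniteType f]
    (U : (Spec (CommRingCat.of R)).Opens) (hU : CInt.IsSchematicallyDense U)
    (hsm : Smooth (morphismRestrict f U))
    (c : C) (hc : f.base c = closedPoint R) (a : R)
    (hnode : DualGr.IsThickNode (DualGr.stalkHom f c) a) :
    a ∈ nonZeroDivisors R := by
  classical
  by_contra hna
  have hmem : a ∈ (⋃ p ∈ associatedPrimes R R, (p : Set R)) := by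
    rw [biUnion_associatedPrimes_eq_compl_nonZeroDivisors]
    exact hna
  obtain ⟨p, hp, hap⟩ := Set.mem_iUnion₂.mp hmem
  rw [AssociatedPrimes.mem_iff, isAssociatedPrime_iff] at hp
  obtain ⟨hp, r, hpr⟩ := hp
  -- `p` lies in `U`
  set P : PrimeSpectrum R := ⟨p, hp⟩ with hP
  have hpU : P ∈ U := by
    by_contra hpU
    have hr : r = 0 := by
      let s : Γ(Spec (CommRingCat.of R), ⊤) := (Scheme.ΓSpecIso (CommRingCat.of R)).inv r
      suffices hs : s = 0 by
        have := congrArg (Scheme.ΓSpecIso (CommRingCat.of R)).hom hs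
        simpa [s] using this
      apply hU ⊤
      rw [map_zero]
      refine TopCat.Presheaf.section_ext (Spec (CommRingCat.of R)).sheaf _ _ _ fun u hu => ?_
      refine Eq.trans ?_ (map_zero ((Spec (CommRingCat.of R)).presheaf.germ (⊤ ⊓ U) u hu).hom).symm
      have hnle : ¬ p ≤ (u : PrimeSpectrum R).asIdeal := fun hle =>
        hpU (((PrimeSpectrum.le_iff_specializes P u).mp hle).mem_open U.isOpen hu.2)
      obtain ⟨m, hm, hmu⟩ := SetLike.not_le_iff_exists.mp hnle
      rw [hpr, Submodule.mem_colon_singleton, Submodule.mem_bot, smul_eq_mul] at hm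
      erw [TopCat.Presheaf.germ_res_apply]
      change StructureSheaf.toStalk R u r = 0
      let u' : PrimeSpectrum R := u
      change StructureSheaf.toStalk R u' r = 0
      exact (IsLocalization.map_eq_zero_iff u'.asIdeal.primeCompl
        ((Spec.structureSheaf R).presheaf.stalk u') r).mpr ⟨⟨m, hmu⟩, hm⟩
    subst hr
    refine hp.ne_top ?_
    simp [hpr]
  -- the completion at `c`
  obtain ⟨e, he⟩ := hnode
  set O := C.presheaf.stalk c with hO
  haveI : IsLocallyNoetherian C := LocallyOfFiniteType.isLocallyNoetherian f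
  have hcN := Groth.Agent.RegLoc.Completion.isNoetherianRing_adicCompletion' (maximalIdeal O)
  haveI : IsLocalRing (R ⧸ p) :=
    IsLocalRing.of_surjective' (Ideal.Quotient.mk p) Ideal.Quotient.mk_surjective
  let χ : Curv2.cpl R →+* R ⧸ p :=
    (Ideal.Quotient.mk p).comp (AdicCompletion.ofAlgEquiv (maximalIdeal R)).symm.toRingEquiv.toRingHom
  have hχ : ∀ r, χ (algebraMap R (Curv2.cpl R) r) = Ideal.Quotient.mk p r := fun r => by
    change Ideal.Quotient.mk p ((AdicCompletion.ofAlgEquiv (maximalIdeal R)).symm _) = _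
    rw [AlgEquiv.commutes]
    rfl
  have hχa : χ (algebraMap R (Curv2.cpl R) a) = 0 := by
    rw [hχ, Ideal.Quotient.eq_zero_iff_mem]
    exact hap
  have hχloc : IsLocalHom χ := IsLocalHom.of_surjective χ
    fun y => by obtain ⟨r, rfl⟩ := Ideal.Quotient.mk_surjective y; exact ⟨_, hχ r⟩
  let Ψ : Fin 2 → Curv2.cpl O →+* (R ⧸ p)[ε] := fun i =>
    (tangent p χ a hχa i).comp e.toRingHom
  have hΨfst : ∀ i z, (Ψ i z).fst = (Ψ 0 z).fst := by
    intro i z
    obtain ⟨w, hw⟩ := Ideal.Quotient.mk_surjective (e z)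
    simp only [Ψ, RingHom.coe_comp, Function.comp_apply, RingEquiv.toRingHom_eq_coe,
      RingEquiv.coe_toRingHom, ← hw, (tangent_mk p χ a hχa _ w).1]
  have hΨloc : ∀ z ∈ maximalIdeal (Curv2.cpl O), (Ψ 0 z).fst ∈ maximalIdeal (R ⧸ p) := by
    intro z hz hu
    obtain ⟨w, hw⟩ := Ideal.Quotient.mk_surjective (e z)
    simp only [Ψ, RingHom.coe_comp, Function.comp_apply, RingEquiv.toRingHom_eq_coe,
      RingEquiv.coe_toRingHom, ← hw, (tangent_mk p χ a hχa _ w).1] at hu
    have h1 : IsUnit (e z) := hw ▸ (MvPowerSeries.isUnit_iff_constantCoeff.mpr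
      (IsUnit.of_map χ _ hu)).map _
    exact hz (by simpa using h1.map e.symm)
  let θ : O →+* Curv2.cpl O := algebraMap O (Curv2.cpl O)
  -- elements of `O` with independent tangent vectors
  have hdense : ∀ z : Curv2.cpl O, ∃ o : O, z - θ o ∈ maximalIdeal (Curv2.cpl O) ^ 2 := by
    have h1 : ∀ z : Curv2.cpl O, ∃ o : O, z - θ o ∈ maximalIdeal (Curv2.cpl O) := by
      intro z
      obtain ⟨o, ho⟩ := (AdicCompletion.residueField_map_bijective O).2 (IsLocalRing.residue _ z)
      obtain ⟨o, rfl⟩ := IsLocalRing.residue_surjective o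
      exact ⟨o, (IsLocalRing.residue_eq_zero_iff _).mp (by rw [map_sub, ← ho]; simp [θ])⟩
    have h2 : ∀ z ∈ maximalIdeal (Curv2.cpl O), ∃ o : O,
        z - θ o ∈ maximalIdeal (Curv2.cpl O) ^ 2 := by
      intro z hz
      rw [AdicCompletion.maximalIdeal_eq_map, Ideal.map] at hz
      induction hz using Submodule.span_induction with
      | mem x hx => obtain ⟨o, -, rfl⟩ := hx; exact ⟨o, by simp [θ]⟩
      | zero => exact ⟨0, by simp⟩
      | add x y _ _ hx hy =>
        obtain ⟨o₁, h1⟩ := hx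
        obtain ⟨o₂, h2⟩ := hy
        refine ⟨o₁ + o₂, ?_⟩
        rw [map_add, add_sub_add_comm]
        exact add_mem h1 h2
      | smul w x hxm hx =>
        obtain ⟨o₁, h1'⟩ := hx
        obtain ⟨o₂, h2'⟩ := h1 w
        refine ⟨o₂ * o₁, ?_⟩
        have hxm' : x ∈ maximalIdeal (Curv2.cpl O) := by
          rw [AdicCompletion.maximalIdeal_eq_map]; exact hxm
        have : w • x - θ (o₂ * o₁) = (w - θ o₂) * x + θ o₂ * (x - θ o₁) := by
          rw [smul_eq_mul, map_mul]; ring
        rw [this]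
        refine add_mem ?_ (Ideal.mul_mem_left _ _ h1')
        rw [pow_two]
        exact Ideal.mul_mem_mul h2' hxm'
    intro z
    obtain ⟨o, ho⟩ := h1 z
    obtain ⟨o', ho'⟩ := h2 _ ho
    exact ⟨o + o', by rwa [map_add, ← sub_sub]⟩
  have hsq : ∀ i, ∀ z ∈ maximalIdeal (Curv2.cpl O) ^ 2, (Ψ i z).snd ∈ maximalIdeal (R ⧸ p) := by
    intro i z hz
    rw [pow_two] at hz
    induction hz using Submodule.mul_induction_on' with
    | mem_mul_mem x hx y hy =>
      rw [map_mul, DualNumber.snd_mul, hΨfst, hΨfst i y]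
      exact add_mem (Ideal.mul_mem_right _ _ (hΨloc x hx)) (Ideal.mul_mem_left _ _ (hΨloc y hy))
    | add x _ y _ hx hy => rw [map_add, TrivSqZeroExt.snd_add]; exact add_mem hx hy
  choose o ho using fun j : Fin 2 => hdense (e.symm (Ideal.Quotient.mk _ (MvPowerSeries.X j)))
  have hmat : ∀ i j, (Ψ i (θ (o j))).snd - (if i = j then 1 else 0) ∈ maximalIdeal (R ⧸ p) := by
    intro i j
    have h1 := hsq i _ (ho j)
    have h2 : (Ψ i (e.symm (Ideal.Quotient.mk _ (MvPowerSeries.X j)))).snd =
        if i = j then 1 else 0 := by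
      simp only [Ψ, RingHom.coe_comp, Function.comp_apply, RingEquiv.toRingHom_eq_coe,
        RingEquiv.coe_toRingHom, RingEquiv.apply_symm_apply, (tangent_mk p χ a hχa i _).2]
      rw [MvPowerSeries.coeff_X, apply_ite χ, map_one, map_zero]
      exact if_congr (Finsupp.single_left_inj one_ne_zero) rfl rfl
    rw [map_sub, TrivSqZeroExt.snd_sub, h2] at h1
    simpa using neg_mem h1
  have hoM : ∀ j, (Ψ 0 (θ (o j))).fst ∈ maximalIdeal (R ⧸ p) := by
    intro j
    refine hΨloc _ ?_
    have h1 : e.symm (Ideal.Quotient.mk _ (MvPowerSeries.X j)) ∈ maximalIdeal (Curv2.cpl O) := by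
      intro hu
      have h2 := (hu.map (Ψ 0)).map (TrivSqZeroExt.fstHom (R ⧸ p) (R ⧸ p) (R ⧸ p))
      simp [Ψ, (tangent_mk p χ a hχa 0 _).1] at h2
    have := sub_mem h1 (Ideal.pow_le_self two_ne_zero (ho j))
    rwa [sub_sub_cancel] at this
  -- an affine chart
  obtain ⟨_, ⟨V, hV, rfl⟩, hcV, -⟩ :=
    C.isBasis_affineOpens.exists_subset_of_mem_open (Set.mem_univ c) isOpen_univ
  let φ0 : R →+* Γ(C, V) :=
    ((Scheme.ΓSpecIso (CommRingCat.of R)).inv ≫ f.appLE ⊤ V le_top).hom
  letI : Algebra R Γ(C, V) := φ0.toAlgebra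
  have hφ0 : hV.fromSpec ≫ f = Spec.map (CommRingCat.ofHom φ0) := by
    have h2 := IsAffineOpen.SpecMap_appLE_fromSpec f (isAffineOpen_top _) hV (i := le_top)
    rw [IsAffineOpen.fromSpec_top] at h2
    rw [← h2, CommRingCat.ofHom_hom, Spec.map_comp]
    congr 1
    simp [Scheme.isoSpec_Spec_inv]
  letI : Algebra Γ(C, V) O := (C.presheaf.germ V c hcV).hom.toAlgebra
  haveI : IsLocalization.AtPrime O (hV.primeIdealOf ⟨c, hcV⟩).asIdeal :=
    hV.isLocalization_stalk ⟨c, hcV⟩
  haveI : Module.Flat Γ(C, V) O :=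
    IsLocalization.flat _ (hV.primeIdealOf ⟨c, hcV⟩).asIdeal.primeCompl
  haveI : Module.Flat Γ(C, V) (Curv2.cpl O) := by
    haveI : Module.Flat O (Curv2.cpl O) := AdicCompletion.flat_of_isNoetherian _
    exact Module.Flat.trans Γ(C, V) O (Curv2.cpl O)
  have hstr : ∀ r, algebraMap Γ(C, V) (Curv2.cpl O) (φ0 r) = θ (DualGr.stalkHom f c r) := by
    intro r
    rw [IsScalarTower.algebraMap_apply Γ(C, V) O]
    congr 1
    have h2 : C.presheaf.map (homOfLE (le_top : V ≤ ⊤)).op ≫ C.presheaf.germ V c hcV =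
        C.presheaf.germ ⊤ c trivial := C.presheaf.germ_res _ _ _
    change _ = (C.presheaf.germ ⊤ c trivial).hom _
    rw [← h2]
    rfl
  let K := FractionRing (R ⧸ p)
  let Φ : Fin 2 → Γ(C, V) →+* K[ε] := fun i =>
    (dualMap (algebraMap (R ⧸ p) K)).comp ((Ψ i).comp (algebraMap Γ(C, V) (Curv2.cpl O)))
  have hΦR : ∀ i r, (Φ i (φ0 r)).fst = algebraMap (R ⧸ p) K (Ideal.Quotient.mk p r) ∧
      (Φ i (φ0 r)).snd = 0 := by
    intro i r
    have h1 : e (algebraMap Γ(C, V) (Curv2.cpl O) (φ0 r)) =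
        Ideal.Quotient.mk _ (MvPowerSeries.C (algebraMap R (Curv2.cpl R) r)) := by
      rw [hstr]; exact he r
    simp only [Φ, Ψ, RingHom.coe_comp, Function.comp_apply, RingEquiv.toRingHom_eq_coe,
      RingEquiv.coe_toRingHom, h1, fst_dualMap, snd_dualMap, (tangent_mk p χ a hχa i _).1,
      (tangent_mk p χ a hχa i _).2, MvPowerSeries.constantCoeff_C, hχ]
    refine ⟨trivial, ?_⟩
    rw [MvPowerSeries.coeff_C, if_neg (by simp [Finsupp.single_eq_zero]), map_zero, map_zero]
  let π : Γ(C, V) →+* K := (TrivSqZeroExt.fstHom K K K).toRingHom.comp (Φ 0)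
  have hπ : ∀ i x, (Φ i x).fst = π x := by
    intro i x
    simp only [π, Φ, RingHom.coe_comp, Function.comp_apply, fst_dualMap, AlgHom.toRingHom_eq_coe,
      RingHom.coe_coe, TrivSqZeroExt.fstHom_apply]
    rw [hΨfst]
  set q := RingHom.ker π with hq
  haveI : q.IsPrime := RingHom.ker_isPrime π
  -- the chain condition
  let π' : Curv2.cpl O →+* K :=
    (algebraMap (R ⧸ p) K).comp ((TrivSqZeroExt.fstHom (R ⧸ p) (R ⧸ p) (R ⧸ p)).toRingHom.comp (Ψ 0))
  have hchain : ∀ P₀ P₁ : Ideal Γ(C, V), P₀.IsPrime → P₁.IsPrime →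
      (∀ r, π (φ0 r) = 0 → φ0 r ∈ P₀) → P₀ < P₁ → P₁ < q → False := by
    intro P₀ P₁ h0p h1p hP₀ h01 h1q
    haveI : (RingHom.ker π').IsPrime := RingHom.ker_isPrime π'
    haveI : (RingHom.ker π').LiesOver q := ⟨by
      ext x
      simp only [hq, Ideal.under_def, Ideal.mem_comap, RingHom.mem_ker, π', π, Φ, RingHom.coe_comp,
        Function.comp_apply, fst_dualMap, AlgHom.toRingHom_eq_coe, RingHom.coe_coe,
        TrivSqZeroExt.fstHom_apply]⟩
    obtain ⟨Q₁, hQ₁, hQ₁p, hQ₁o⟩ :=
      Ideal.exists_ideal_le_liesOver_of_le (p := P₁) (q := q) (RingHom.ker π') h1q.le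
    haveI := hQ₁p; haveI := hQ₁o
    obtain ⟨Q₀, hQ₀, hQ₀p, hQ₀o⟩ :=
      Ideal.exists_ideal_le_liesOver_of_le (p := P₀) (q := P₁) Q₁ h01.le
    haveI := hQ₀p; haveI := hQ₀o
    have hQ01 : Q₀ < Q₁ := lt_of_le_of_ne hQ₀ fun h => h01.ne (by
      rw [Ideal.over_def Q₀ P₀, Ideal.over_def Q₁ P₁, h])
    have hQ1 : Q₁ < RingHom.ker π' := lt_of_le_of_ne hQ₁ fun h => h1q.ne (by
      rw [Ideal.over_def Q₁ P₁, Ideal.over_def (RingHom.ker π') q, h])
    have hpQ₀ : ∀ r ∈ p, θ (DualGr.stalkHom f c r) ∈ Q₀ := by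
      intro r hr
      rw [← hstr]
      have : φ0 r ∈ P₀ := hP₀ r (by
        rw [← hπ 0, (hΦR 0 r).1, Ideal.Quotient.eq_zero_iff_mem.mpr hr, map_zero])
      rw [Ideal.over_def Q₀ P₀] at this
      exact this
    -- `ker π'` is minimal over `Q₀ + (x + y)`
    set t := e.symm (Ideal.Quotient.mk _ (MvPowerSeries.X 0 + MvPowerSeries.X 1)) with ht
    have hmin : ∀ Q : Ideal (Curv2.cpl O), Q.IsPrime → Q₀ ≤ Q → t ∈ Q → RingHom.ker π' ≤ Q := by
      intro Q hQ hQ₀Q htQ z hz
      obtain ⟨w, hw⟩ := Ideal.Quotient.mk_surjective (e z)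
      obtain ⟨u, v, huv⟩ := Groth.Agent.S17737.exists_decomp w
      have hC : ∀ r ∈ p, e.symm (Ideal.Quotient.mk _
          (MvPowerSeries.C (algebraMap R (Curv2.cpl R) r))) ∈ Q := fun r hr => by
        rw [← he r, RingEquiv.symm_apply_apply]
        exact hQ₀Q (hpQ₀ r hr)
      have hx0y : e.symm (Ideal.Quotient.mk _ (MvPowerSeries.X 0 * MvPowerSeries.X 1)) ∈ Q := by
        rw [Ideal.Quotient.eq.mpr (Ideal.mem_span_singleton_self
          (MvPowerSeries.X 0 * MvPowerSeries.X 1 -
            MvPowerSeries.C (algebraMap R (Curv2.cpl R) a)))]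
        exact hC a hap
      have hxy : ∀ j, e.symm (Ideal.Quotient.mk _ (MvPowerSeries.X j)) ∈ Q := by
        rw [map_mul, map_mul] at hx0y
        have ht' := htQ
        rw [ht, map_add, map_add] at ht'
        intro j
        rcases hQ.mem_or_mem hx0y with h | h <;> fin_cases j
        · exact h
        · exact (Q.add_mem_iff_right h).mp ht'
        · exact (Q.add_mem_iff_left h).mp ht'
        · exact h
      have hzero : χ (MvPowerSeries.constantCoeff w) = 0 := by
        have h1 : algebraMap (R ⧸ p) K (Ψ 0 z).fst = 0 := hz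
        rw [map_eq_zero_iff _ (IsFractionRing.injective (R ⧸ p) K)] at h1
        simpa [Ψ, ← hw, (tangent_mk p χ a hχa 0 w).1] using h1
      obtain ⟨r, hr⟩ : ∃ r, algebraMap R (Curv2.cpl R) r = MvPowerSeries.constantCoeff w :=
        (AdicCompletion.ofAlgEquiv (maximalIdeal R)).surjective _
      rw [← hr, hχ, Ideal.Quotient.eq_zero_iff_mem] at hzero
      have hz' : z = e.symm (Ideal.Quotient.mk _ w) := by rw [hw, RingEquiv.symm_apply_apply]
      rw [hz', huv, ← hr, map_add, map_add, map_add, map_add, map_mul, map_mul, map_mul, map_mul]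
      exact add_mem (add_mem (hC r hzero) (Q.mul_mem_right _ (hxy 0))) (Q.mul_mem_right _ (hxy 1))
    haveI := hQ₀p
    set m := Ideal.Quotient.mk Q₀
    have hle : Q₀ ≤ RingHom.ker π' := hQ₀.trans hQ₁
    haveI : ((RingHom.ker π').map m).IsPrime :=
      Ideal.map_isPrime_of_surjective Ideal.Quotient.mk_surjective (by rwa [Ideal.mk_ker])
    haveI : (Q₁.map m).IsPrime :=
      Ideal.map_isPrime_of_surjective Ideal.Quotient.mk_surjective (by rwa [Ideal.mk_ker])
    have hkmin : (RingHom.ker π').map m ∈ (Ideal.span {m t}).minimalPrimes := by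
      refine ⟨⟨inferInstance, ?_⟩, ?_⟩
      · rw [Ideal.span_singleton_le_iff_mem]
        refine Ideal.mem_map_of_mem m ?_
        change algebraMap (R ⧸ p) K (Ψ 0 t).fst = 0
        simp [Ψ, ht, (tangent_mk p χ a hχa 0 _).1]
      · rintro Q ⟨hQ, htQ⟩ hQle
        refine Ideal.map_le_iff_le_comap.mpr (hmin _ (Ideal.IsPrime.comap m) ?_
          (htQ (Ideal.mem_span_singleton_self _)))
        intro x hx
        rw [Ideal.mem_comap, Ideal.Quotient.eq_zero_iff_mem.mpr hx]
        exact Q.zero_mem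
    have hht := Ideal.height_le_one_of_isPrincipal_of_mem_minimalPrimes _ _ hkmin
    have hmono : ∀ {I J : Ideal (Curv2.cpl O)}, Q₀ ≤ I → Q₀ ≤ J → I < J → I.map m < J.map m := by
      intro I J hI hJ hIJ
      refine lt_of_le_of_ne (Ideal.map_mono hIJ.le) fun h => hIJ.ne ?_
      have := congrArg (Ideal.comap m) h
      rwa [Ideal.comap_map_mk hI, Ideal.comap_map_mk hJ] at this
    have ha : Q₀.map m < Q₁.map m := hmono le_rfl hQ₀ hQ01
    have hb : Q₁.map m < (RingHom.ker π').map m := hmono hQ₀ hle hQ1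
    haveI : (Q₀.map m).IsPrime :=
      Ideal.map_isPrime_of_surjective Ideal.Quotient.mk_surjective (by rw [Ideal.mk_ker])
    have h1 := Ideal.height_add_one_le_of_lt_of_isPrime ha
    have h2 := Ideal.height_add_one_le_of_lt_of_isPrime hb
    have h3 : (2 : ℕ∞) ≤ 1 := le_trans (le_trans (le_trans (by norm_num) (add_le_add_right
      (le_add_self : (1 : ℕ∞) ≤ (Q₀.map m).height + 1) 1))
      (le_trans (add_le_add_right h1 1) ((add_comm _ _).trans_le h2))) hht
    exact absurd h3 (by norm_num)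
  -- shrink to a smooth chart
  have hqU : f (hV.fromSpec ⟨q, inferInstance⟩) ∈ U := by
    change (hV.fromSpec ≫ f) ⟨q, inferInstance⟩ ∈ U
    rw [hφ0]
    have : Spec.map (CommRingCat.ofHom φ0) ⟨q, inferInstance⟩ = P := by
      apply PrimeSpectrum.ext
      ext x
      change π (φ0 x) = 0 ↔ x ∈ p
      rw [← hπ 0, (hΦR 0 x).1, map_eq_zero_iff _ (IsFractionRing.injective (R ⧸ p) K),
        Ideal.Quotient.eq_zero_iff_mem]
    rw [this]
    exact hpU
  have hxV : hV.fromSpec ⟨q, inferInstance⟩ ∈ V := by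
    have : hV.fromSpec ⟨q, inferInstance⟩ ∈ Set.range hV.fromSpec := ⟨_, rfl⟩
    rwa [hV.range_fromSpec] at this
  obtain ⟨g, hgU, hgx⟩ := hV.exists_basicOpen_le (V := f ⁻¹ᵁ U) ⟨_, hqU⟩ hxV
  have hgq : g ∉ q := by
    have h1 : (⟨q, inferInstance⟩ : PrimeSpectrum Γ(C, V)) ∈ hV.fromSpec ⁻¹ᵁ C.basicOpen g := hgx
    rw [hV.fromSpec_preimage_basicOpen] at h1
    exact h1
  set W := C.basicOpen g with hWdef
  haveI hloc : IsLocalization.Away g Γ(C, W) := hV.isLocalization_basicOpen g
  letI : Algebra R Γ(C, W) := ((algebraMap Γ(C, V) Γ(C, W)).comp φ0).toAlgebra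
  haveI : IsScalarTower R Γ(C, V) Γ(C, W) := IsScalarTower.of_algebraMap_eq fun _ => rfl
  haveI : Algebra.Smooth R Γ(C, W) := by
    have h1 := smooth_appLE_of_le f U hsm W (hV.basicOpen g) hgU
    have h2 : (algebraMap Γ(C, V) Γ(C, W)).comp φ0 =
        ((Scheme.ΓSpecIso (CommRingCat.of R)).inv ≫ f.appLE ⊤ W le_top).hom := by
      rw [← Scheme.Hom.appLE_map f (le_top : V ≤ f ⁻¹ᵁ ⊤) (homOfLE (C.basicOpen_le g)).op]
      rfl
    rw [← RingHom.smooth_algebraMap]
    change ((algebraMap Γ(C, V) Γ(C, W)).comp φ0).Smooth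
    rw [h2]
    exact RingHom.Smooth.stableUnderComposition _ _
      (RingHom.Smooth.of_bijective
        (ConcreteCategory.bijective_of_isIso (Scheme.ΓSpecIso (CommRingCat.of R)).inv)) h1
  have hgunit : ∀ i, IsUnit (Φ i g) := by
    intro i
    rw [TrivSqZeroExt.isUnit_iff_isUnit_fst, hπ, isUnit_iff_ne_zero]
    exact hgq
  let Φ' : Fin 2 → Γ(C, W) →+* K[ε] := fun i => IsLocalization.Away.lift g (hgunit i)
  let π₁ : Γ(C, W) →+* K := IsLocalization.Away.lift g
    (show IsUnit (π g) from isUnit_iff_ne_zero.mpr hgq)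
  have hπ₁ : ∀ x, π₁ (algebraMap Γ(C, V) Γ(C, W) x) = π x :=
    fun x => IsLocalization.Away.lift_eq g _ x
  have hΦ' : ∀ i x, Φ' i (algebraMap Γ(C, V) Γ(C, W) x) = Φ i x :=
    fun i x => IsLocalization.Away.lift_eq g _ x
  have hfst' : ∀ i z, (Φ' i z).fst = π₁ z := by
    intro i z
    refine RingHom.congr_fun (IsLocalization.ringHom_ext (Submonoid.powers g)
      (RingHom.ext fun x => ?_) :
        (TrivSqZeroExt.fstHom K K K).toRingHom.comp (Φ' i) = π₁) z
    simp [hΦ', hπ₁, hπ]
  have hπR : ∀ r, π₁ (algebraMap R Γ(C, W) r) = π (φ0 r) := fun r => hπ₁ (φ0 r)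
  have hrep : ∀ z : Γ(C, W), ∃ r s, π₁ (algebraMap R Γ(C, W) s) ≠ 0 ∧
      π₁ z * π₁ (algebraMap R Γ(C, W) s) = π₁ (algebraMap R Γ(C, W) r) := by
    have h1 : ∀ x : Γ(C, V), ∃ r, π x = π (φ0 r) := by
      intro x
      obtain ⟨r, hr⟩ := Ideal.Quotient.mk_surjective
        (Ψ 0 (algebraMap Γ(C, V) (Curv2.cpl O) x)).fst
      exact ⟨r, by rw [← hπ 0 (φ0 r), (hΦR 0 r).1, hr, ← hπ 0]; simp [Φ]⟩
    intro z
    obtain ⟨⟨x, ⟨_, n, rfl⟩⟩, hx⟩ := IsLocalization.surj (Submonoid.powers g) z
    obtain ⟨r, hr⟩ := h1 x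
    obtain ⟨s, hs⟩ := h1 (g ^ n)
    refine ⟨r, s, ?_, ?_⟩
    · rw [hπR, ← hs, map_pow]
      exact pow_ne_zero _ hgq
    · rw [hπR, hπR, ← hs, ← hr, ← hπ₁ (g ^ n), ← hπ₁ x, ← map_mul]
      exact congrArg π₁ hx
  have hchain' : ∀ P₀ P₁ : Ideal Γ(C, W), P₀.IsPrime → P₁.IsPrime →
      (∀ r, π₁ (algebraMap R Γ(C, W) r) = 0 → algebraMap R Γ(C, W) r ∈ P₀) → P₀ < P₁ →
      P₁ < RingHom.ker π₁ → False := by
    intro P₀ P₁ h0p h1p hP₀ h01 h1q
    have hmono : ∀ {I J : Ideal Γ(C, W)}, I < J →
        I.comap (algebraMap Γ(C, V) Γ(C, W)) < J.comap (algebraMap Γ(C, V) Γ(C, W)) := by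
      intro I J hIJ
      refine lt_of_le_of_ne (Ideal.comap_mono hIJ.le) fun h => hIJ.ne ?_
      rw [← IsLocalization.map_comap (Submonoid.powers g) Γ(C, W) I,
        ← IsLocalization.map_comap (Submonoid.powers g) Γ(C, W) J]
      exact congrArg (Ideal.map (algebraMap Γ(C, V) Γ(C, W))) h
    refine hchain _ _ (Ideal.IsPrime.comap _) (Ideal.IsPrime.comap _) (fun r hr => ?_) (hmono h01)
      (lt_of_lt_of_eq (hmono h1q) ?_)
    · exact hP₀ r (by rw [← hr]; exact hπ₁ (φ0 r))
    · ext x
      simp [hq, hπ₁]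
  -- the elements with independent tangent vectors come from `Γ(C, V)`
  choose xs hxs using fun j => IsLocalization.surj (hV.primeIdealOf ⟨c, hcV⟩).asIdeal.primeCompl (o j)
  have hdet := tangent_proportional π₁ Φ' hfst' (fun i r => by
    rw [IsScalarTower.algebraMap_apply R Γ(C, V) Γ(C, W), hΦ']
    exact (hΦR i r).2) hrep hchain'
    (algebraMap Γ(C, V) Γ(C, W) (xs 0).1) (algebraMap Γ(C, V) Γ(C, W) (xs 1).1)
  rw [hΦ', hΦ', hΦ', hΦ'] at hdet
  simp only [Φ, RingHom.coe_comp, Function.comp_apply, snd_dualMap, ← map_mul] at hdet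
  have hdet' := IsFractionRing.injective (R ⧸ p) K hdet
  -- congruences modulo the maximal ideal
  let res := IsLocalRing.residue (R ⧸ p)
  have hval : ∀ i j, res (Ψ i (algebraMap Γ(C, V) (Curv2.cpl O) (xs j).1)).snd =
      (if i = j then 1 else 0) * res (Ψ 0 (algebraMap Γ(C, V) (Curv2.cpl O) (xs j).2)).fst := by
    intro i j
    rw [IsScalarTower.algebraMap_apply Γ(C, V) O, ← hxs j, map_mul, map_mul, DualNumber.snd_mul,
      map_add, map_mul, map_mul, hΨfst i, hΨfst i (algebraMap O (Curv2.cpl O)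
        (algebraMap Γ(C, V) O _)), (IsLocalRing.residue_eq_zero_iff _).mpr (hoM j), zero_mul,
      zero_add, IsScalarTower.algebraMap_apply Γ(C, V) O (Curv2.cpl O)]
    congr 1
    have h := (IsLocalRing.residue_eq_zero_iff _).mpr (hmat i j)
    rw [map_sub, sub_eq_zero] at h
    rw [h]
    split_ifs <;> simp
  have hne : ∀ j, res (Ψ 0 (algebraMap Γ(C, V) (Curv2.cpl O) (xs j).2)).fst ≠ 0 := by
    intro j
    rw [IsScalarTower.algebraMap_apply Γ(C, V) O, Ne, IsLocalRing.residue_eq_zero_iff]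
    exact fun hm => hm ((((IsLocalization.map_units O (xs j).2).map θ).map (Ψ 0)).map
      (TrivSqZeroExt.fstHom (R ⧸ p) (R ⧸ p) (R ⧸ p)))
  have := congrArg res hdet'
  rw [map_mul, map_mul, hval 0 0, hval 1 1, hval 0 1, hval 1 0] at this
  simp [hne] at this

end Groth.Agent.S17729
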