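import Groth.Statements.S17732
import Groth.Agent.IdealSh.Stalk

set_option autoImplicit false
universe u
open CDiv

namespace Groth.Agent.S17732

open IntMult (stalkIdeal)
open Groth.Agent.IdealSh CategoryTheory AlgebraicGeometry

theorem exists_stalk_gen {X : Scheme.{u}} {D : X.IdealSheafData} (x : X)
    (hD : ∃ U : X.affineOpens, x ∈ (U : X.Opens) ∧ ∃ g : Γ(X, U), g ∈ nonZeroDivisors Γ(X, U) ∧ D.ideal U = Ideal.span {g}) :
    ∃ g, g ∈ nonZeroDivisors (X.presheaf.stalk x) ∧ stalkIdeal D x = Ideal.span {g} := by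
  obtain ⟨U, hx, g, hg, hDU⟩ := hD
  letI := TopCat.Presheaf.algebra_section_stalk X.presheaf (⟨x, hx⟩ : U.1)
  haveI : IsLocalization.AtPrime (X.presheaf.stalk x) (U.2.primeIdealOf ⟨x, hx⟩).asIdeal :=
    U.2.isLocalization_stalk ⟨x, hx⟩
  refine ⟨X.presheaf.germ U.1 x hx g, IsLocalization.map_nonZeroDivisors_le
    (U.2.primeIdealOf ⟨x, hx⟩).asIdeal.primeCompl _ (Submonoid.mem_map_of_mem _ hg), ?_⟩
  rw [stalkIdeal_eq _ U hx, hDU, Ideal.map_span, Set.image_singleton]

theorem eq_of_span_pow {R : Type*} [CommRing R] [Nontrivial R] {g : R} (hg : g ∈ nonZeroDivisors R) (hne : Ideal.span {g} ≠ ⊤)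
    {a b : ℕ} (h : Ideal.span {g} ^ a = Ideal.span {g} ^ b) : a = b := by
  wlog hab : a ≤ b generalizing a b
  · exact (this h.symm (le_of_not_ge hab)).symm
  rw [Ideal.span_singleton_pow, Ideal.span_singleton_pow] at h
  obtain ⟨c, hc⟩ := Ideal.mem_span_singleton'.1 (h.le (Ideal.mem_span_singleton_self _))
  obtain ⟨k, rfl⟩ := Nat.exists_eq_add_of_le hab
  rcases Nat.eq_zero_or_pos k with hk | hk
  · omega
  obtain ⟨k, rfl⟩ := Nat.exists_eq_succ_of_ne_zero hk.ne'
  refine absurd (Ideal.span_singleton_eq_top.2 (IsUnit.of_mul_eq_one (c * g ^ k) ?_)) hne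
  refine (mem_nonZeroDivisors_iff_right.1 (pow_mem hg a) (g * (c * g ^ k) - 1) ?_ |> sub_eq_zero.1)
  rw [pow_add, pow_succ] at hc
  linear_combination hc

/-- The relation satisfied near `x`. -/
def Rel {X : Scheme.{u}} (D E : X.IdealSheafData) (x : X) (m n : ℕ) : Prop :=
  stalkIdeal D x ^ m = stalkIdeal E x ^ n

theorem proportional {X : Scheme.{u}} {D E : X.IdealSheafData} {x : X}
    (hD : ∃ g, g ∈ nonZeroDivisors (X.presheaf.stalk x) ∧ stalkIdeal D x = Ideal.span {g})
    (hE : ∃ g, g ∈ nonZeroDivisors (X.presheaf.stalk x) ∧ stalkIdeal E x = Ideal.span {g})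
    (hx : x ∈ (D.support : Set X) ∪ (E.support : Set X)) {m n m' n' : ℕ} (h : Rel D E x m n) (h' : Rel D E x m' n') :
    m * n' = m' * n := by
  obtain ⟨g, hg, hDg⟩ := hD
  obtain ⟨k, hk, hEk⟩ := hE
  unfold Rel at h h'
  by_cases hxD : x ∈ D.support
  · have h1 : stalkIdeal D x ^ (m * n') = stalkIdeal D x ^ (m' * n) := by
      rw [pow_mul, h, ← pow_mul, mul_comm n n', pow_mul, ← h', ← pow_mul]
    rw [hDg] at h1
    exact eq_of_span_pow hg (hDg ▸ fun ht => (stalkIdeal_eq_top_iff D x).1 ht hxD) h1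
  · have hxE : x ∈ E.support := hx.resolve_left hxD
    have hD1 : stalkIdeal D x = ⊤ := (stalkIdeal_eq_top_iff D x).2 hxD
    have h0 : ∀ j, stalkIdeal E x ^ j = ⊤ → j = 0 := fun j hj => by
      rw [hEk] at hj
      exact eq_of_span_pow hk (fun ht => (stalkIdeal_eq_top_iff E x).1 (hEk.trans ht) hxE)
        (hj.trans (by rw [pow_zero, Ideal.one_eq_top]))
    simp only [hD1, ← Ideal.one_eq_top, one_pow] at h h'
    rw [h0 n (h.symm.trans Ideal.one_eq_top), h0 n' (h'.symm.trans Ideal.one_eq_top), mul_zero, mul_zero]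

theorem exists_pair {X : Scheme.{u}} [IsNoetherian X] (D E : X.IdealSheafData)
    (hD : ∀ x : X, ∃ g, g ∈ nonZeroDivisors (X.presheaf.stalk x) ∧ stalkIdeal D x = Ideal.span {g})
    (hE : ∀ x : X, ∃ g, g ∈ nonZeroDivisors (X.presheaf.stalk x) ∧ stalkIdeal E x = Ideal.span {g})
    (hconn : IsPreconnected ((D.support : Set X) ∪ (E.support : Set X)))
    (hloc : ∀ x : X, ∃ U : X.Opens, x ∈ U ∧ ∃ m n : ℕ, (m, n) ≠ (0, 0) ∧ ∀ y ∈ U, Rel D E y m n) :
    ∃ m n : ℕ, (m, n) ≠ (0, 0) ∧ ∀ x : X, Rel D E x m n := by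
  classical
  set S := (D.support : Set X) ∪ (E.support : Set X) with hSdef
  choose U hxU m n hmn hrel using hloc
  have hout : ∀ x ∉ S, ∀ a b, Rel D E x a b := fun x hx a b => by
    rw [hSdef, Set.mem_union, not_or] at hx
    show _ = _
    rw [(stalkIdeal_eq_top_iff D x).2 hx.1, (stalkIdeal_eq_top_iff E x).2 hx.2, Ideal.top_pow, Ideal.top_pow]
  by_cases hS : S.Nonempty
  swap
  · exact ⟨1, 1, by simp, fun x => hout x (fun hx => hS ⟨x, hx⟩) 1 1⟩
  obtain ⟨x₀, hx₀⟩ := hS
  let good : Set X := ⋃ (x) (_ : m x * n x₀ = m x₀ * n x), (U x : Set X)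
  let bad : Set X := ⋃ (x) (_ : ¬ m x * n x₀ = m x₀ * n x), (U x : Set X)
  have htrans : ∀ x y z, z ∈ S → z ∈ U x → z ∈ U y → m x * n x₀ = m x₀ * n x → m y * n x₀ = m x₀ * n y := by
    intro x y z hz hzx hzy hx
    have h1 := proportional (hD z) (hE z) hz (hrel x z hzx) (hrel y z hzy)
    rcases Nat.eq_zero_or_pos (m x) with h | h
    · have hn : n x ≠ 0 := fun h0 => hmn x (by rw [h, h0])
      rw [h, zero_mul] at h1 hx
      rw [(mul_eq_zero.1 h1.symm).resolve_right hn, (mul_eq_zero.1 hx.symm).resolve_right hn, zero_mul, zero_mul]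
    · refine Nat.eq_of_mul_eq_mul_left h ?_
      calc m x * (m y * n x₀) = m y * (m x₀ * n x) := by rw [← hx]; ring
        _ = m x₀ * (m x * n y) := by rw [h1]; ring
        _ = _ := by ring
  have hgood : ∀ x, ∀ z ∈ S, z ∈ U x → m x * n x₀ = m x₀ * n x := by
    intro x z hz hzx
    by_contra hne
    have hg : IsOpen good := isOpen_biUnion fun y _ => (U y).isOpen
    have hb : IsOpen bad := isOpen_biUnion fun y _ => (U y).isOpen
    have hcov : S ⊆ good ∪ bad := fun y _ => by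
      by_cases h : m y * n x₀ = m x₀ * n y
      · exact Or.inl (Set.mem_biUnion h (hxU y))
      · exact Or.inr (Set.mem_biUnion h (hxU y))
    obtain ⟨w, hwS, hwg, hwb⟩ := hconn good bad hg hb hcov ⟨x₀, hx₀, Set.mem_biUnion rfl (hxU x₀)⟩
      ⟨z, hz, Set.mem_biUnion hne hzx⟩
    simp only [good, bad, Set.mem_iUnion] at hwg hwb
    obtain ⟨a, ha, hwa⟩ := hwg
    obtain ⟨b, hb', hwb⟩ := hwb
    exact hb' (htrans a b w hwS hwa hwb ha)
  obtain ⟨t, ht⟩ := (isCompact_univ (X := X)).elim_finite_subcover (fun x => (U x : Set X))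
    (fun x => (U x).isOpen) (fun y _ => Set.mem_iUnion.2 ⟨y, hxU y⟩)
  let P := ∏ x ∈ t, (m x + n x)
  have hs : ∀ x, 0 < m x + n x := fun x => Nat.pos_of_ne_zero fun h => hmn x (by simp [Nat.add_eq_zero_iff.1 h])
  have hP : 0 < P := Finset.prod_pos fun x _ => hs x
  refine ⟨P * m x₀, P * n x₀, fun h => hmn x₀ ?_, fun z => ?_⟩
  · simp only [Prod.mk.injEq, mul_eq_zero, hP.ne', false_or] at h
    rw [h.1, h.2]
  by_cases hz : z ∈ S
  swap
  · exact hout z hz _ _
  obtain ⟨x, hxt, hzx⟩ := Set.mem_iUnion₂.1 (ht (Set.mem_univ z))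
  obtain ⟨c, hc⟩ : (m x + n x) ∣ P := Finset.dvd_prod_of_mem _ hxt
  have hp := hgood x z hz hzx
  have e1 : P * m x₀ = m x * (c * (m x₀ + n x₀)) := by
    rw [hc]
    calc (m x + n x) * c * m x₀ = c * (m x * m x₀) + c * (m x₀ * n x) := by ring
      _ = _ := by rw [← hp]; ring
  have e2 : P * n x₀ = n x * (c * (m x₀ + n x₀)) := by
    rw [hc]
    calc (m x + n x) * c * n x₀ = c * (m x * n x₀) + c * (n x * n x₀) := by ring
      _ = _ := by rw [hp]; ring
  show _ = _
  rw [e1, e2, pow_mul (stalkIdeal D z), pow_mul (stalkIdeal E z), hrel x z hzx]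

open AlgebraicGeometry in
/-- Let X be a Noetherian scheme and D, E effective Cartier divisors on X, encoded by their ideal
sheaves, each locally generated on an affine open by a single non-zero-divisor. Assume that the
union of the supports of D and E is connected (or empty) and that every point of X has an affine
open neighbourhood on which the m-th power of the ideal of D equals the n-th power of the ideal of E
for some (m, n) ≠ (0, 0). Then there is a pair (m, n) ≠ (0, 0) for which this equality holds on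
every affine open of X, that is, m D = n E globally. -/
theorem result
    (X : Scheme.{u}) [IsNoetherian X] (D E : X.IdealSheafData)
    (hD : (∀ x : X, ∃ U : X.affineOpens, x ∈ (U : X.Opens) ∧ ∃ g : Γ(X, U), g ∈ nonZeroDivisors Γ(X, U) ∧ D.ideal U = Ideal.span {g}))
    (hE : (∀ x : X, ∃ U : X.affineOpens, x ∈ (U : X.Opens) ∧ ∃ g : Γ(X, U), g ∈ nonZeroDivisors Γ(X, U) ∧ E.ideal U = Ideal.span {g}))
    (hconn : IsPreconnected ((D.support : Set X) ∪ (E.support : Set X)))
    (hloc : ∀ x : X, ∃ U : X.affineOpens, x ∈ (U : X.Opens) ∧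
      ∃ m n : ℕ, (m, n) ≠ (0, 0) ∧ D.ideal U ^ m = E.ideal U ^ n) :
    ∃ m n : ℕ, (m, n) ≠ (0, 0) ∧ ∀ U : X.affineOpens, D.ideal U ^ m = E.ideal U ^ n := by
  obtain ⟨m, n, hmn, h⟩ := exists_pair D E (fun x => exists_stalk_gen x (hD x)) (fun x => exists_stalk_gen x (hE x))
    hconn (fun x => by
      obtain ⟨U, hxU, m, n, hmn, hU⟩ := hloc x
      refine ⟨U.1, hxU, m, n, hmn, fun y hy => ?_⟩
      show _ = _
      rw [stalkIdeal_eq _ U hy, stalkIdeal_eq _ U hy, ← Ideal.map_pow, ← Ideal.map_pow, hU])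
  refine ⟨m, n, hmn, fun U => ?_⟩
  have heq : D ^ m = E ^ n := by
    choose W hxW hW using fun x => exists_affine_ideal_eq (D ^ m) (E ^ n) x (by
      rw [stalkIdeal_pow, stalkIdeal_pow]; exact h x)
    exact Scheme.IdealSheafData.ext_of_iSup_eq_top W
      (top_unique fun x _ => TopologicalSpace.Opens.mem_iSup.2 ⟨x, hxW x⟩) hW
  have := congrArg (fun I : X.IdealSheafData => I.ideal U) heq
  simpa only [Scheme.IdealSheafData.ideal_pow, Pi.pow_apply] using this

end Groth.Agent.S17732
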