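import Groth.Statements.S17733
import Groth.Agent.IdealSh.Stalk
import Mathlib.AlgebraicGeometry.Morphisms.Proper
import Mathlib.RingTheory.IntegralClosure.IntegrallyClosed
import Mathlib.RingTheory.Polynomial.ScaleRoots

set_option autoImplicit false
universe u
open CDiv

namespace Groth.Agent.S17733

open IntMult (stalkIdeal)
open Groth.Agent.IdealSh Groth.Agent.IdealSh.Comap CategoryTheory AlgebraicGeometry TopologicalSpace

set_option backward.isDefEq.respectTransparency false in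
theorem isIntegral_app {X S : Scheme.{u}} (f : X ⟶ S) [UniversallyClosed f]
    {V : S.Opens} (hV : IsAffineOpen V) : (f.app V).hom.IsIntegral := by
  haveI : IsAffine (V : Scheme.{u}) := hV
  haveI : UniversallyClosed (f ∣_ V) :=
    MorphismProperty.of_isPullback (isPullback_morphismRestrict f V).flip inferInstance
  have h := isIntegral_appTop_of_universallyClosed (f ∣_ V)
  have hiso : Arrow.mk (f ∣_ V).appTop ≅ Arrow.mk (f.app V) := by
    refine Arrow.isoMk V.topIso (f ⁻¹ᵁ V).topIso ?_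
    simp [Scheme.Hom.appTop, Scheme.Opens.topIso, Scheme.Hom.app_eq_appLE,
      Scheme.Hom.resLE, morphismRestrict_app, Scheme.Hom.map_appLE, Scheme.Hom.appLE_map]
  haveI : (RingHom.toMorphismProperty fun f => f.IsIntegral).RespectsIso :=
    RingHom.toMorphismProperty_respectsIso_iff.mp RingHom.isIntegral_respectsIso
  exact ((RingHom.toMorphismProperty fun f => f.IsIntegral).arrow_mk_iso_iff hiso).1 h

/-- If `g` becomes invertible on a schematically dense open it is regular on every open. -/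
theorem cancel_of_dense {X : Scheme.{u}} {U W : X.Opens} (hU : CInt.IsSchematicallyDense U) (g : Γ(X, W))
    (hg : IsUnit (X.presheaf.map (homOfLE (inf_le_left : W ⊓ U ≤ W)).op g)) {W' : X.Opens} (e : W' ≤ W)
    {a b : Γ(X, W')} (h : a * X.presheaf.map (homOfLE e).op g = b * X.presheaf.map (homOfLE e).op g) : a = b := by
  apply hU W'
  have h1 := congrArg (X.presheaf.map (homOfLE (inf_le_left : W' ⊓ U ≤ W')).op) h
  rw [map_mul, map_mul] at h1
  refine (IsUnit.mul_left_inj ?_).1 h1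
  have h2 := hg.map (X.presheaf.map (homOfLE (inf_le_inf_right U e)).op).hom
  have h3 : X.presheaf.map (homOfLE (inf_le_inf_right U e)).op (X.presheaf.map (homOfLE (inf_le_left : W ⊓ U ≤ W)).op g) =
      X.presheaf.map (homOfLE (inf_le_left : W' ⊓ U ≤ W')).op (X.presheaf.map (homOfLE e).op g) := by
    rw [← CommRingCat.comp_apply, ← CommRingCat.comp_apply, ← X.presheaf.map_comp, ← X.presheaf.map_comp]
    rfl
  exact h3 ▸ h2

theorem stalk_le {S S' : Scheme.{u}} [IsLocallyNoetherian S]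
    (hnorm : ∀ x : S, IsDomain (S.presheaf.stalk x) ∧ IsIntegrallyClosed (S.presheaf.stalk x))
    (f : S' ⟶ S) [IsProper f] (hdom : f.ker = ⊥) (U : S.Opens) (hU' : CInt.IsSchematicallyDense (f ⁻¹ᵁ U))
    (D E : S.IdealSheafData) (hDU : (D.support : Set S) ⊆ (U : Set S)ᶜ) (h : D.comap f = E.comap f)
    (y : S) (W : S.affineOpens) (hyW : y ∈ W.1) (g k : Γ(S, W.1)) (hg : D.ideal W = Ideal.span {g})
    (hk : E.ideal W = Ideal.span {k}) (hne : stalkIdeal D y ≠ ⊥) : stalkIdeal E y ≤ stalkIdeal D y := by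
  have hgU : IsUnit (S.presheaf.map (homOfLE (inf_le_left : W.1 ⊓ U ≤ W.1)).op g) := by
    refine RingedSpace.isUnit_of_isUnit_germ S.toLocallyRingedSpace.toRingedSpace _ _ fun z hz => ?_
    have hzD : z ∉ D.support := fun hzD => hDU hzD hz.2
    rw [← stalkIdeal_eq_top_iff, stalkIdeal_eq _ W hz.1, hg, Ideal.map_span, Set.image_singleton,
      Ideal.span_singleton_eq_top] at hzD
    exact (S.presheaf.germ_res_apply (homOfLE (inf_le_left : W.1 ⊓ U ≤ W.1)) z hz g).symm ▸ hzD
  let g' : Γ(S', f ⁻¹ᵁ W.1) := f.app W.1 g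
  let k' : Γ(S', f ⁻¹ᵁ W.1) := f.app W.1 k
  have hg' : IsUnit (S'.presheaf.map (homOfLE (inf_le_left : f ⁻¹ᵁ W.1 ⊓ f ⁻¹ᵁ U ≤ f ⁻¹ᵁ W.1)).op g') := by
    have h2 := hgU.map (f.app (W.1 ⊓ U)).hom
    have h3 : f.app (W.1 ⊓ U) (S.presheaf.map (homOfLE (inf_le_left : W.1 ⊓ U ≤ W.1)).op g) =
        S'.presheaf.map (homOfLE (inf_le_left : f ⁻¹ᵁ W.1 ⊓ f ⁻¹ᵁ U ≤ f ⁻¹ᵁ W.1)).op g' :=
      congr($(f.naturality (homOfLE (inf_le_left : W.1 ⊓ U ≤ W.1)).op) g)
    exact h3 ▸ h2
  have hloc : ∀ z : ↥(f ⁻¹ᵁ W.1), ∃ (W' : S'.Opens) (e : W' ≤ f ⁻¹ᵁ W.1) (u : Γ(S', W')), z.1 ∈ W' ∧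
      u * S'.presheaf.map (homOfLE e).op g' = S'.presheaf.map (homOfLE e).op k' := by
    intro z
    obtain ⟨W', hzW', hle⟩ := Comap.exists_affine_le z.1 (f ⁻¹ᵁ W.1) z.2
    have h1 := Comap.ideal_comap_span_singleton D f W W' hle hg
    have h2 := Comap.ideal_comap_span_singleton E f W W' hle hk
    rw [← h, h1] at h2
    obtain ⟨c, hc⟩ := Ideal.mem_span_singleton'.1 (h2.ge (Ideal.mem_span_singleton_self _))
    exact ⟨W'.1, hle, c, hzW', hc⟩
  choose W' e u hz hu using hloc
  have hcomp : TopCat.Presheaf.IsCompatible S'.presheaf W' u := by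
    intro i j
    refine cancel_of_dense hU' g' hg' (inf_le_left.trans (e i)) ?_
    have hi := congrArg (S'.presheaf.map (Opens.infLELeft (W' i) (W' j)).op) (hu i)
    have hj := congrArg (S'.presheaf.map (Opens.infLERight (W' i) (W' j)).op) (hu j)
    simp only [map_mul, ← CommRingCat.comp_apply, ← Functor.map_comp] at hi hj
    exact hi.trans hj.symm
  obtain ⟨v₀, hv₀, -⟩ := (S'.sheaf).existsUnique_gluing' W' (f ⁻¹ᵁ W.1) (fun i => homOfLE (e i))
    (fun z hzW => Opens.mem_iSup.2 ⟨⟨z, hzW⟩, hz ⟨z, hzW⟩⟩) u hcomp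
  obtain ⟨v, hv⟩ : ∃ v : Γ(S', f ⁻¹ᵁ W.1), ∀ i, S'.presheaf.map (homOfLE (e i)).op v = u i := ⟨v₀, hv₀⟩
  have hvk : v * g' = k' := by
    refine (S'.sheaf).eq_of_locally_eq' W' (f ⁻¹ᵁ W.1) (fun i => homOfLE (e i))
      (fun z hzW => Opens.mem_iSup.2 ⟨⟨z, hzW⟩, hz ⟨z, hzW⟩⟩) _ _ fun i => ?_
    refine (map_mul (S'.presheaf.map (homOfLE (e i)).op).hom v g').trans ?_
    refine Eq.trans ?_ (hu i)
    exact congrArg (· * _) (hv i)
  obtain ⟨p, hp, hpv⟩ := isIntegral_app f W.2 v
  have hinj : Function.Injective (f.app W.1).hom := by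
    rw [RingHom.injective_iff_ker_eq_bot, ← Scheme.Hom.ker_apply f W, hdom, Scheme.IdealSheafData.ideal_bot]
    rfl
  have hroot : (Polynomial.scaleRoots p g).eval k = 0 := by
    refine hinj ?_
    rw [map_zero, ← Polynomial.eval₂_at_apply]
    change Polynomial.eval₂ (f.app W.1).hom k' _ = 0
    rw [← hvk, mul_comm v g']
    exact Polynomial.scaleRoots_eval₂_eq_zero _ hpv
  set R := S.presheaf.stalk y
  haveI := (hnorm y).1
  haveI := (hnorm y).2
  let φ : Γ(S, W.1) →+* R := (S.presheaf.germ W.1 y hyW).hom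
  rw [stalkIdeal_eq D W hyW, hg, Ideal.map_span, Set.image_singleton] at hne
  rw [stalkIdeal_eq D W hyW, hg, stalkIdeal_eq E W hyW, hk, Ideal.map_span, Set.image_singleton, Ideal.map_span, Set.image_singleton, Ideal.span_singleton_le_span_singleton]
  have hg0 : φ g ≠ 0 := fun h0 => hne (Ideal.span_singleton_eq_bot.2 h0)
  let K := FractionRing R
  have hg0' : algebraMap R K (φ g) ≠ 0 := (map_ne_zero_iff _ (IsFractionRing.injective R K)).2 hg0
  have h1 : Polynomial.eval₂ ((algebraMap R K).comp φ) (algebraMap R K (φ k) / algebraMap R K (φ g)) p = 0 := by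
    have h2 := Polynomial.scaleRoots_eval₂_mul ((algebraMap R K).comp φ) (p := p)
      (algebraMap R K (φ k) / algebraMap R K (φ g)) g
    rw [RingHom.comp_apply, mul_div_cancel₀ _ hg0', ← RingHom.comp_apply, Polynomial.eval₂_at_apply, hroot, map_zero] at h2
    exact (mul_eq_zero.1 h2.symm).resolve_left (pow_ne_zero _ hg0')
  have hint : IsIntegral R (algebraMap R K (φ k) / algebraMap R K (φ g)) :=
    ⟨p.map φ, hp.map _, by rwa [Polynomial.eval₂_map]⟩
  obtain ⟨r, hr⟩ := IsIntegrallyClosed.isIntegral_iff.1 hint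
  refine ⟨r, IsFractionRing.injective R K ?_⟩
  rw [map_mul, hr, mul_div_cancel₀ _ hg0']


open CategoryTheory AlgebraicGeometry in
/-- Let S be a locally Noetherian normal scheme (every local ring an integrally closed domain), f : S' →
S a proper morphism whose scheme-theoretic image is S (its kernel ideal sheaf is zero), and U ⊆ S a
schematically dense open subscheme such that f⁻¹(U) is also schematically dense in S'. Suppose D and
E are effective Cartier divisors of S, encoded by ideal sheaves each locally generated on an affine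
open by one non-zero-divisor, with supports disjoint from U. If the pulled-back ideal sheaves of D
and E along f coincide, then D = E. -/
theorem result
    {S S' : Scheme.{u}} [IsLocallyNoetherian S]
    (hnorm : ∀ x : S, IsDomain (S.presheaf.stalk x) ∧ IsIntegrallyClosed (S.presheaf.stalk x))
    (f : S' ⟶ S) [IsProper f] (hdom : f.ker = ⊥)
    (U : S.Opens) (hU : CInt.IsSchematicallyDense U) (hU' : CInt.IsSchematicallyDense (f ⁻¹ᵁ U))
    (D E : S.IdealSheafData)
    (hD : (∀ x : S, ∃ U : S.affineOpens, x ∈ (U : S.Opens) ∧ ∃ g : Γ(S, U), g ∈ nonZeroDivisors Γ(S, U) ∧ D.ideal U = Ideal.span {g}))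
    (hE : (∀ x : S, ∃ U : S.affineOpens, x ∈ (U : S.Opens) ∧ ∃ g : Γ(S, U), g ∈ nonZeroDivisors Γ(S, U) ∧ E.ideal U = Ideal.span {g}))
    (hDU : (D.support : Set S) ⊆ (U : Set S)ᶜ) (hEU : (E.support : Set S) ⊆ (U : Set S)ᶜ)
    (h : D.comap f = E.comap f) : D = E := by
  refine ext_of_forall_exists _ _ fun x => exists_affine_ideal_eq D E x ?_
  obtain ⟨A, hxA, g, hg, hgA⟩ := hD x
  obtain ⟨B, hxB, k, hk, hkB⟩ := hE x
  obtain ⟨W, hxW, hW⟩ := Comap.exists_affine_le x (A.1 ⊓ B.1) ⟨hxA, hxB⟩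
  have hWA : W ≤ A := hW.trans inf_le_left
  have hWB : W ≤ B := hW.trans inf_le_right
  have hDW : D.ideal W = Ideal.span {S.presheaf.map (homOfLE (hWA : W.1 ≤ A.1)).op g} := by
    rw [← D.map_ideal hWA, hgA, Ideal.map_span, Set.image_singleton]
  have hEW : E.ideal W = Ideal.span {S.presheaf.map (homOfLE (hWB : W.1 ≤ B.1)).op k} := by
    rw [← E.map_ideal hWB, hkB, Ideal.map_span, Set.image_singleton]
  have hne : ∀ (I : S.IdealSheafData) (A : S.affineOpens) (hxA : x ∈ A.1) (g : Γ(S, A.1)),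
      g ∈ nonZeroDivisors Γ(S, A.1) → I.ideal A = Ideal.span {g} → stalkIdeal I x ≠ ⊥ := by
    intro I A hxA g hg hgA h0
    letI := TopCat.Presheaf.algebra_section_stalk S.presheaf (⟨x, hxA⟩ : A.1)
    haveI : IsLocalization.AtPrime (S.presheaf.stalk x) (A.2.primeIdealOf ⟨x, hxA⟩).asIdeal :=
      A.2.isLocalization_stalk ⟨x, hxA⟩
    rw [stalkIdeal_eq _ A hxA, hgA, Ideal.map_span, Set.image_singleton, Ideal.span_singleton_eq_bot] at h0
    exact nonZeroDivisors.ne_zero (IsLocalization.map_nonZeroDivisors_le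
      (A.2.primeIdealOf ⟨x, hxA⟩).asIdeal.primeCompl _ (Submonoid.mem_map_of_mem _ hg)) h0
  exact le_antisymm (stalk_le hnorm f hdom U hU' E D hEU h.symm x W hxW _ _ hEW hDW (hne E B hxB k hk hkB))
    (stalk_le hnorm f hdom U hU' D E hDU h x W hxW _ _ hDW hEW (hne D A hxA g hg hgA))

end Groth.Agent.S17733
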