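import Groth.Statements.S17735
import Groth.Agent.S17719
import Mathlib.RingTheory.MvPowerSeries.Equiv
import Mathlib.RingTheory.Ideal.Height

set_option maxHeartbeats 1600000

set_option autoImplicit false
universe u
open CAlg

namespace Groth.Agent.S17735

open IsLocalRing CAlg99.NodeSeries

variable {R : Type u} [CommRing R]

/-- `xy - r` as a polynomial. -/
noncomputable def rp (r : R) : MvPolynomial (Fin 2) R :=
  MvPolynomial.X 0 * MvPolynomial.X 1 - MvPolynomial.C r

/-- The node ring as a quotient of the polynomial ring. -/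
abbrev PB (r : R) := MvPolynomial (Fin 2) R ⧸ Ideal.span {(MvPolynomial.X 0 * MvPolynomial.X 1 - MvPolynomial.C r : MvPolynomial (Fin 2) R)}

/-- The node ring as a quotient of the power series ring. -/
abbrev SA (r : R) := MvPowerSeries (Fin 2) R ⧸ Ideal.span {(MvPowerSeries.X 0 * MvPowerSeries.X 1 - MvPowerSeries.C r : MvPowerSeries (Fin 2) R)}

/-- The map to the power series node ring. -/
noncomputable def toA (r : R) : MvPolynomial (Fin 2) R →+* SA r :=
  (Ideal.Quotient.mk _).comp MvPolynomial.coeToMvPowerSeries.ringHom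

theorem coe_rp (r : R) :
    MvPolynomial.coeToMvPowerSeries.ringHom (rp r) = rel r := by
  rw [rp, map_sub, map_mul]
  simp only [MvPolynomial.coeToMvPowerSeries.ringHom_apply, MvPolynomial.coe_X, MvPolynomial.coe_C]
  rfl

section Axis

variable {π : R} (k : Fin 2)

/-- Series all of whose coefficients off `X k` are divisible by `π`. -/
def axis (π : R) (k : Fin 2) : Ideal (MvPowerSeries (Fin 2) R) where
  carrier := {f | ∀ d, d k = 0 → π ∣ MvPowerSeries.coeff d f}
  zero_mem' d _ := by simp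
  add_mem' {f g} hf hg d hd := by rw [map_add]; exact dvd_add (hf d hd) (hg d hd)
  smul_mem' c f hf d hd := by
    classical
    rw [smul_eq_mul, MvPowerSeries.coeff_mul]
    refine Finset.dvd_sum fun x hx => (hf x.2 ?_).mul_left _
    have := congrArg (fun e : Fin 2 →₀ ℕ => e k) (Finset.HasAntidiagonal.mem_antidiagonal.1 hx)
    simp only [Finsupp.add_apply] at this
    omega

theorem mem_axis {f : MvPowerSeries (Fin 2) R} :
    f ∈ axis π k ↔ ∀ d, d k = 0 → π ∣ MvPowerSeries.coeff d f := Iff.rfl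

/-- Decomposition `f = π a + X k b`. -/
theorem exists_eq_of_mem_axis {f : MvPowerSeries (Fin 2) R} (hf : f ∈ axis π k) :
    ∃ a b, f = MvPowerSeries.C π * a + MvPowerSeries.X k * b := by
  classical
  choose c hc using hf
  let a : MvPowerSeries (Fin 2) R := fun d => if h : d k = 0 then c d h else 0
  let b : MvPowerSeries (Fin 2) R := fun d => MvPowerSeries.coeff (d + Finsupp.single k 1) f
  refine ⟨a, b, MvPowerSeries.ext fun d => ?_⟩
  rw [map_add, MvPowerSeries.coeff_C_mul, MvPowerSeries.X_def, MvPowerSeries.coeff_monomial_mul, one_mul]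
  show _ = π * (if h : d k = 0 then c d h else 0) + _
  by_cases hd : d k = 0
  · have hnle : ¬ Finsupp.single k 1 ≤ d := fun hle => by
      have := hle k
      rw [Finsupp.single_eq_same, hd] at this
      omega
    rw [dif_pos hd, if_neg hnle, add_zero, ← hc d hd]
  · have hle : Finsupp.single k 1 ≤ d := fun i => by
      rcases eq_or_ne i k with rfl | hi
      · rw [Finsupp.single_eq_same]; omega
      · rw [Finsupp.single_eq_of_ne hi]; exact Nat.zero_le _
    rw [dif_neg hd, mul_zero, zero_add, if_pos hle]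
    show _ = MvPowerSeries.coeff (d - Finsupp.single k 1 + Finsupp.single k 1) f
    rw [tsub_add_cancel_of_le hle]

theorem axis_isPrime (hπ : Prime π) : (axis π k).IsPrime := by
  classical
  refine ⟨fun ht => hπ.not_isUnit (isUnit_of_dvd_one ?_), fun {f g} hfg => ?_⟩
  · have h1 := (mem_axis k).1 ((Ideal.eq_top_iff_one _).1 ht) 0 rfl
    simpa using h1
  by_contra hcon
  push_neg at hcon
  obtain ⟨l, hl⟩ : ∃ l : Fin 2, ∀ i, i = k ∨ i = l := by
    fin_cases k
    · exact ⟨1, fun i => by fin_cases i <;> simp⟩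
    · exact ⟨0, fun i => by fin_cases i <;> simp⟩
  have key : ∀ f, f ∉ axis π k → ∃ d : Fin 2 →₀ ℕ, d k = 0 ∧ ¬ π ∣ MvPowerSeries.coeff d f ∧
      ∀ d' : Fin 2 →₀ ℕ, d' k = 0 → d' l < d l → π ∣ MvPowerSeries.coeff d' f := by
    intro f hf
    rw [mem_axis] at hf
    push_neg at hf
    have hex : ∃ n, ∃ d : Fin 2 →₀ ℕ, d k = 0 ∧ ¬ π ∣ MvPowerSeries.coeff d f ∧ d l = n := by
      obtain ⟨d, h1, h2⟩ := hf
      exact ⟨_, d, h1, h2, rfl⟩
    obtain ⟨d, h1, h2, h3⟩ := Nat.find_spec hex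
    exact ⟨d, h1, h2, fun d' hd' hlt => by_contra fun hn =>
      Nat.find_min hex (h3 ▸ hlt) ⟨d', hd', hn, rfl⟩⟩
  obtain ⟨d₁, h1, hn1, hm1⟩ := key f hcon.1
  obtain ⟨d₂, h2, hn2, hm2⟩ := key g hcon.2
  have h12 := (mem_axis k).1 hfg (d₁ + d₂) (by simp [h1, h2])
  rw [MvPowerSeries.coeff_mul, ← Finset.add_sum_erase _ _
    (Finset.HasAntidiagonal.mem_antidiagonal.2 (show (d₁, d₂).1 + (d₁, d₂).2 = d₁ + d₂ from rfl))] at h12
  refine (hπ.dvd_or_dvd ((dvd_add_left (Finset.dvd_sum fun x hx => ?_)).1 h12)).elim hn1 hn2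
  obtain ⟨hne, hx⟩ := Finset.mem_erase.1 hx
  rw [Finset.HasAntidiagonal.mem_antidiagonal] at hx
  have ek := congrArg (fun e : Fin 2 →₀ ℕ => e k) hx
  have el := congrArg (fun e : Fin 2 →₀ ℕ => e l) hx
  simp only [Finsupp.add_apply, h1, h2] at ek el
  rcases lt_trichotomy (x.1 l) (d₁ l) with hlt | heq | hgt
  · exact (hm1 x.1 (by omega) hlt).mul_right _
  · exfalso
    refine hne (Prod.ext (Finsupp.ext fun i => ?_) (Finsupp.ext fun i => ?_)) <;>
      rcases hl i with rfl | rfl <;> simp only [] <;> omega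
  · exact (hm2 x.2 (by omega) (by omega)).mul_left _

theorem rel_mem_axis {r : R} (hπr : π ∣ r) : rel r ∈ axis π k := by
  intro d hd
  rw [eq_E d, ← mul_one (rel r), coeff_rel_mul, if_neg (by fin_cases k <;> simp at hd <;> omega)]
  simp only [zero_sub, dvd_neg]
  exact hπr.mul_right _

/-- A polynomial whose series lies in the axis ideal lies in `(π, X k)`. -/
theorem poly_mem_of_axis {p : MvPolynomial (Fin 2) R}
    (h : (p : MvPowerSeries (Fin 2) R) ∈ axis π k) :
    p ∈ Ideal.span ({MvPolynomial.C π, MvPolynomial.X k} : Set (MvPolynomial (Fin 2) R)) := by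
  classical
  rw [p.as_sum]
  refine sum_mem fun d _ => ?_
  by_cases hd : d k = 0
  · obtain ⟨c, hc⟩ := h d hd
    rw [MvPolynomial.coeff_coe] at hc
    rw [hc, ← MvPolynomial.C_mul_monomial]
    exact Ideal.mul_mem_right _ _ (Ideal.subset_span (Or.inl rfl))
  · refine Ideal.mem_of_dvd _ ?_ (Ideal.subset_span (Or.inr rfl))
    have hle : Finsupp.single k 1 ≤ d := fun i => by
      rcases eq_or_ne i k with rfl | hi
      · rw [Finsupp.single_eq_same]; omega
      · rw [Finsupp.single_eq_of_ne hi]; exact Nat.zero_le _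
    refine ⟨MvPolynomial.monomial (d - Finsupp.single k 1) (p.coeff d), ?_⟩
    rw [MvPolynomial.X, MvPolynomial.monomial_mul, one_mul, add_tsub_cancel_of_le hle]

end Axis

/-- Every polynomial is congruent to one supported on the axes. -/
theorem exists_normal_poly (r : R) (p : MvPolynomial (Fin 2) R) :
    ∃ g : MvPolynomial (Fin 2) R, p - g ∈ Ideal.span {rp r} ∧ ∀ d, d 0 ≠ 0 → d 1 ≠ 0 → g.coeff d = 0 := by
  classical
  induction p using MvPolynomial.induction_on' with
  | monomial d c =>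
    refine ⟨MvPolynomial.monomial (E (d 0 - min (d 0) (d 1)) (d 1 - min (d 0) (d 1)))
      (c * r ^ min (d 0) (d 1)), ?_, fun e h0 h1 => ?_⟩
    · have hd : d = E (d 0 - min (d 0) (d 1)) (d 1 - min (d 0) (d 1)) + min (d 0) (d 1) • E 1 1 := by
        ext i; fin_cases i <;> simp
      have hX : (MvPolynomial.X 0 * MvPolynomial.X 1 : MvPolynomial (Fin 2) R) = MvPolynomial.monomial (E 1 1) 1 := by
        rw [MvPolynomial.X, MvPolynomial.X, MvPolynomial.monomial_mul, one_mul]
        congr 2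
        ext i; fin_cases i <;> simp
      generalize min (d 0) (d 1) = m at hd ⊢
      generalize E (d 0 - m) (d 1 - m) = e at hd ⊢
      subst hd
      have h1 : (MvPolynomial.monomial (e + m • E 1 1) c : MvPolynomial (Fin 2) R) -
          MvPolynomial.monomial e (c * r ^ m) = MvPolynomial.monomial e c *
            ((MvPolynomial.X 0 * MvPolynomial.X 1) ^ m - MvPolynomial.C r ^ m) := by
        rw [hX, MvPolynomial.monomial_pow, one_pow, mul_sub, MvPolynomial.monomial_mul, mul_one,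
          ← map_pow, mul_comm (MvPolynomial.monomial e c) (MvPolynomial.C _), MvPolynomial.C_mul_monomial,
          mul_comm (r ^ m) c]
      rw [h1]
      exact Ideal.mul_mem_left _ _ (Ideal.mem_span_singleton.2 (sub_dvd_pow_sub_pow _ _ m))
    · rw [MvPolynomial.coeff_monomial, if_neg]
      rintro rfl
      rw [E_zero] at h0
      rw [E_one] at h1
      omega
  | add p q hp hq =>
    obtain ⟨g, hg, hg'⟩ := hp
    obtain ⟨g', hg₂, hg₂'⟩ := hq
    exact ⟨g + g', by rw [add_sub_add_comm]; exact add_mem hg hg₂,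
      fun d h0 h1 => by rw [MvPolynomial.coeff_add, hg' d h0 h1, hg₂' d h0 h1, add_zero]⟩

variable [IsRegularLocalRing R] [IsAdicComplete (maximalIdeal R) R] {r : R}

theorem phi_normal_poly (hr : r ∈ maximalIdeal R) (g : MvPolynomial (Fin 2) R)
    (hg : ∀ d, d 0 ≠ 0 → d 1 ≠ 0 → g.coeff d = 0) (i : ℤ) :
    phi hr (g : MvPowerSeries (Fin 2) R) i = g.coeff (E i.toNat (-i).toNat) := by
  rw [phi, T_iter hr _ 1, Finset.sum_range_one, pow_zero, one_mul, add_zero, add_zero,
    T_eq_zero hr _ _ _ fun j => ?_, mul_zero, add_zero, MvPolynomial.coeff_coe]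
  rw [MvPolynomial.coeff_coe]
  exact hg _ (by simp) (by simp)

theorem mem_span_C_iff (hr : r ∈ maximalIdeal R) (π : R) (f : MvPowerSeries (Fin 2) R) :
    Ideal.Quotient.mk _ f ∈ Ideal.span {toA r (MvPolynomial.C π)} ↔ ∀ i, π ∣ phi hr f i := by
  have hC : toA r (MvPolynomial.C π) = Ideal.Quotient.mk _ (MvPowerSeries.C π) := by
    show Ideal.Quotient.mk _ ((MvPolynomial.C π : MvPolynomial (Fin 2) R) : MvPowerSeries (Fin 2) R) = _
    rw [MvPolynomial.coe_C]
  rw [Ideal.mem_span_singleton, hC]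
  constructor
  · rintro ⟨u, hu⟩ i
    obtain ⟨u, rfl⟩ := Ideal.Quotient.mk_surjective u
    rw [← map_mul, Ideal.Quotient.eq] at hu
    rw [phi_congr hr hu, phi_C_mul]
    exact dvd_mul_right _ _
  · intro h
    choose U hU using h
    refine ⟨Ideal.Quotient.mk _ (normal U), ?_⟩
    rw [← map_mul, Ideal.Quotient.eq]
    exact sub_mem_span_of_phi_eq hr _ _ fun i => by rw [phi_C_mul, phi_normal, hU]

/-- Gauss: `SA r` is a domain and `π` is prime in it when `π ∤ r`. -/
theorem gauss (hr : r ∈ maximalIdeal R) (v : AddValuation R ℕ∞) {e : ℕ} (he : v r = e) (he0 : 0 < e)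
    (f g : MvPowerSeries (Fin 2) R) (h : ∀ i, v (phi hr (f * g) i) = ⊤) :
    (∀ i, v (phi hr f i) = ⊤) ∨ ∀ i, v (phi hr g i) = ⊤ := by
  by_contra hcon
  push_neg at hcon
  obtain ⟨i₀, M, hM⟩ := exists_minIdx v e 0 (phi hr f) hcon.1 (-1) (Or.inr ⟨rfl, he0⟩)
  obtain ⟨j₀, N, hN⟩ := exists_minIdx v e 0 (phi hr g) hcon.2 (-1) (Or.inr ⟨rfl, he0⟩)
  have h1 := w_phi_mul hr v e 0 he he0 (add_zero e) (Or.inr rfl) hM hN
  rw [phi_mul_normal, show w v e 0 _ _ (phi hr (f * g) (i₀ + j₀)) = ⊤ by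
    unfold w; rw [h]; simp] at h1
  exact ENat.top_ne_coe _ h1

theorem isDomain_SA (hr : r ∈ maximalIdeal R) (hr0 : r ≠ 0) : IsDomain (SA r) := by
  haveI := RegLoc.isDomain R
  haveI := RegLoc.UFD.uniqueFactorizationMonoid R
  obtain ⟨π, hπ, hπr⟩ := WfDvdMonoid.exists_irreducible_factor (show ¬ IsUnit r from hr) hr0
  have hπ' : Prime π := UniqueFactorizationMonoid.irreducible_iff_prime.1 hπ
  obtain ⟨e, he⟩ := ENat.ne_top_iff_exists.1
    (finiteMultiplicity_iff_emultiplicity_ne_top.1 (FiniteMultiplicity.of_prime_left hπ' hr0))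
  have he0 : 0 < e := Nat.pos_of_ne_zero fun h0 => by
    subst h0
    exact emultiplicity_eq_zero.1 he.symm hπr
  have htop : ∀ x, S17719.primeVal hπ' x = ⊤ → x = 0 := fun x hx => by
    by_contra hne
    exact finiteMultiplicity_iff_emultiplicity_ne_top.1 (FiniteMultiplicity.of_prime_left hπ' hne) hx
  haveI : Nontrivial (SA r) := by
    refine Ideal.Quotient.nontrivial_iff.2 fun ht => ?_
    rw [Ideal.span_singleton_eq_top, MvPowerSeries.isUnit_iff_constantCoeff] at ht
    exact hr (by simpa using ht)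
  haveI : NoZeroDivisors (SA r) := by
    refine ⟨fun {a b} hab => ?_⟩
    obtain ⟨f, rfl⟩ := Ideal.Quotient.mk_surjective a
    obtain ⟨g, rfl⟩ := Ideal.Quotient.mk_surjective b
    rw [← map_mul, Ideal.Quotient.eq_zero_iff_mem] at hab
    have hz : ∀ i, S17719.primeVal hπ' (phi hr (f * g) i) = ⊤ := fun i => by
      obtain ⟨c, hc⟩ := Ideal.mem_span_singleton.1 hab
      rw [show f * g = rel r * c from hc, phi_rel_mul, AddValuation.map_zero]
    refine (gauss hr _ he.symm he0 f g hz).imp ?_ ?_ <;> intro h <;>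
      exact Ideal.Quotient.eq_zero_iff_mem.2 (mem_span_of_phi_eq_zero hr _ fun i => htop _ (h i))
  exact NoZeroDivisors.to_isDomain _

theorem injective_toA (hr : r ∈ maximalIdeal R) {p : MvPolynomial (Fin 2) R} (hp : toA r p = 0) :
    p ∈ Ideal.span {rp r} := by
  obtain ⟨g, hpg, hg⟩ := exists_normal_poly r p
  have hgA : toA r g = 0 := by
    obtain ⟨c, hc⟩ := Ideal.mem_span_singleton.1 hpg
    have h0 : toA r (rp r) = 0 := by
      show Ideal.Quotient.mk _ ((rp r : MvPolynomial (Fin 2) R) : MvPowerSeries (Fin 2) R) = 0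
      refine Ideal.Quotient.eq_zero_iff_mem.2 (Ideal.mem_span_singleton.2 (dvd_of_eq ?_))
      exact (coe_rp r).symm
    rw [show g = p - rp r * c by rw [← hc]; ring, map_sub, hp, map_mul, h0, zero_mul, sub_zero]
  have hg0 : g = 0 := by
    refine MvPolynomial.ext _ _ fun d => ?_
    rw [MvPolynomial.coeff_zero, eq_E d]
    by_cases h : d 0 ≠ 0 ∧ d 1 ≠ 0
    · exact hg _ h.1 h.2
    have h1 := phi_normal_poly hr g hg ((d 0 : ℤ) - d 1)
    rw [show ((d 0 : ℤ) - d 1).toNat = d 0 by omega, show (-((d 0 : ℤ) - d 1)).toNat = d 1 by omega] at h1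
    obtain ⟨c, hc⟩ := Ideal.mem_span_singleton.1 (Ideal.Quotient.eq_zero_iff_mem.1 hgA)
    rw [← h1, show (g : MvPowerSeries (Fin 2) R) = rel r * c from hc, phi_rel_mul]
  rwa [hg0, sub_zero] at hpg

/-- The generators of the fibral primes over `π`. -/
def IsGen (r π : R) (G : Set (MvPolynomial (Fin 2) R)) : Prop :=
  (¬ π ∣ r ∧ G = {MvPolynomial.C π}) ∨ (π ∣ r ∧ ∃ k, G = {MvPolynomial.C π, MvPolynomial.X k})

/-- The ideals cut out by the generators are prime and contract to themselves. -/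
theorem gen_spec (hr : r ∈ maximalIdeal R) {π : R} (hπ : Prime π) {G : Set (MvPolynomial (Fin 2) R)}
    (hG : IsGen r π G) :
    (Ideal.span (toA r '' G)).IsPrime ∧
      ∀ p, toA r p ∈ Ideal.span (toA r '' G) → p ∈ Ideal.span G ⊔ Ideal.span {rp r} := by
  haveI := RegLoc.isDomain R
  rcases hG with ⟨hπr, rfl⟩ | ⟨hπr, k, rfl⟩
  · rw [Set.image_singleton]
    refine ⟨⟨fun ht => ?_, fun {a b} hab => ?_⟩, fun p hp => ?_⟩
    · have h1 := (mem_span_C_iff hr π 1).1 (ht ▸ Submodule.mem_top) 0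
      rw [← map_one MvPowerSeries.C, phi_C, if_pos rfl] at h1
      exact hπ.not_isUnit (isUnit_of_dvd_one h1)
    · obtain ⟨f, rfl⟩ := Ideal.Quotient.mk_surjective a
      obtain ⟨g, rfl⟩ := Ideal.Quotient.mk_surjective b
      rw [← map_mul, mem_span_C_iff hr] at hab
      obtain ⟨v, e, he, he0, htop⟩ := S17719.exists_vbar hπ hr hπr
      exact (gauss hr v he he0 f g fun i => (htop _).2 (hab i)).imp
        (fun h => (mem_span_C_iff hr π f).2 fun i => (htop _).1 (h i))
        fun h => (mem_span_C_iff hr π g).2 fun i => (htop _).1 (h i)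
    · obtain ⟨g, hpg, hg⟩ := exists_normal_poly r p
      have hcongr : ((p : MvPowerSeries (Fin 2) R) - (g : MvPowerSeries (Fin 2) R)) ∈ Ideal.span {rel r} := by
        obtain ⟨c, hc⟩ := Ideal.mem_span_singleton.1 hpg
        refine Ideal.mem_span_singleton.2 ⟨(c : MvPowerSeries (Fin 2) R), ?_⟩
        have := congrArg MvPolynomial.coeToMvPowerSeries.ringHom hc
        rwa [map_sub, map_mul, coe_rp] at this
      have h1 : g ∈ Ideal.span {MvPolynomial.C π} := by
        rw [Ideal.mem_span_singleton, MvPolynomial.C_dvd_iff_dvd_coeff]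
        intro d
        rw [eq_E d]
        by_cases h : d 0 ≠ 0 ∧ d 1 ≠ 0
        · rw [hg _ (by simp [h.1]) (by simp [h.2])]; exact dvd_zero _
        have h1 := phi_normal_poly hr g hg ((d 0 : ℤ) - d 1)
        rw [show ((d 0 : ℤ) - d 1).toNat = d 0 by omega, show (-((d 0 : ℤ) - d 1)).toNat = d 1 by omega] at h1
        rw [← h1, ← phi_congr hr hcongr]
        exact (mem_span_C_iff hr π _).1 hp _
      exact Submodule.mem_sup.2 ⟨g, h1, p - g, hpg, add_sub_cancel _ _⟩
  · haveI := axis_isPrime (π := π) k hπ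
    have hle : Ideal.span {(MvPowerSeries.X 0 * MvPowerSeries.X 1 - MvPowerSeries.C r : MvPowerSeries (Fin 2) R)} ≤ axis π k :=
      (Ideal.span_singleton_le_iff_mem _).2 (rel_mem_axis k hπr)
    have heq : Ideal.span (toA r '' {MvPolynomial.C π, MvPolynomial.X k}) =
        (axis π k).map (Ideal.Quotient.mk _) := by
      refine le_antisymm (Ideal.span_le.2 ?_) (Ideal.map_le_iff_le_comap.2 fun f hf => ?_)
      · rintro _ ⟨z, rfl | rfl, rfl⟩
        · refine Ideal.mem_map_of_mem _ fun d hd => ?_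
          rw [MvPolynomial.coeToMvPowerSeries.ringHom_apply, MvPolynomial.coeff_coe, MvPolynomial.coeff_C]
          split_ifs
          · exact dvd_rfl
          · exact dvd_zero _
        · refine Ideal.mem_map_of_mem _ fun d hd => ?_
          rw [MvPolynomial.coeToMvPowerSeries.ringHom_apply, MvPolynomial.coeff_coe, MvPolynomial.coeff_X',
            if_neg]
          · exact dvd_zero _
          · rintro rfl
            simp at hd
      · obtain ⟨a, b, rfl⟩ := exists_eq_of_mem_axis k hf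
        rw [Ideal.mem_comap, map_add, map_mul, map_mul]
        refine add_mem (Ideal.mul_mem_right _ _ (Ideal.subset_span ⟨MvPolynomial.C π, Or.inl rfl, ?_⟩))
          (Ideal.mul_mem_right _ _ (Ideal.subset_span ⟨MvPolynomial.X k, Or.inr rfl, ?_⟩))
        · simp [toA]
        · simp [toA]
    rw [heq]
    refine ⟨Ideal.map_isPrime_of_surjective Ideal.Quotient.mk_surjective (by rwa [Ideal.mk_ker]),
      fun p hp => ?_⟩
    refine Submodule.mem_sup_left (poly_mem_of_axis k ?_)
    have h1 : (p : MvPowerSeries (Fin 2) R) ∈ ((axis π k).map (Ideal.Quotient.mk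
        (Ideal.span {(MvPowerSeries.X 0 * MvPowerSeries.X 1 - MvPowerSeries.C r : MvPowerSeries (Fin 2) R)}))).comap
        (Ideal.Quotient.mk _) := hp
    rwa [Ideal.comap_map_of_surjective _ Ideal.Quotient.mk_surjective,
      show Ideal.comap (Ideal.Quotient.mk (Ideal.span {(MvPowerSeries.X 0 * MvPowerSeries.X 1 -
        MvPowerSeries.C r : MvPowerSeries (Fin 2) R)})) ⊥ = _ from Ideal.mk_ker, sup_eq_left.2 hle] at h1

/-- Every prime containing `π` contains some set of generators. -/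
theorem exists_gen {T : Type u} [CommRing T] (σ : MvPolynomial (Fin 2) R →+* T) (hσ : σ (rp r) = 0)
    (q : Ideal T) [q.IsPrime] {π : R} (hq : σ (MvPolynomial.C π) ∈ q) :
    ∃ G, IsGen r π G ∧ Ideal.span (σ '' G) ≤ q := by
  by_cases hπr : π ∣ r
  · obtain ⟨k, hk⟩ : ∃ k, σ (MvPolynomial.X k) ∈ q := by
      have h1 : σ (MvPolynomial.X 0) * σ (MvPolynomial.X 1) = σ (MvPolynomial.C r) := by
        rw [← map_mul, ← sub_eq_zero, ← map_sub]
        exact hσ
      obtain ⟨c, rfl⟩ := hπr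
      have h2 : σ (MvPolynomial.X 0) * σ (MvPolynomial.X 1) ∈ q := by
        rw [h1, map_mul, map_mul]; exact Ideal.mul_mem_right _ _ hq
      rcases Ideal.IsPrime.mem_or_mem ‹_› h2 with h | h
      · exact ⟨0, h⟩
      · exact ⟨1, h⟩
    exact ⟨_, Or.inr ⟨hπr, k, rfl⟩, Ideal.span_le.2 (by rintro _ ⟨z, rfl | rfl, rfl⟩ <;> assumption)⟩
  · exact ⟨_, Or.inl ⟨hπr, rfl⟩, Ideal.span_le.2 (by rintro _ ⟨z, rfl, rfl⟩; exact hq)⟩

/-- A prime generated by generators has height at most one. -/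
theorem height_le_one {T : Type u} [CommRing T] [IsNoetherianRing T] (σ : MvPolynomial (Fin 2) R →+* T)
    (hσ : σ (rp r) = 0) {π : R} {G : Set (MvPolynomial (Fin 2) R)} (hG : IsGen r π G)
    (hp : (Ideal.span (σ '' G)).IsPrime)
    (hX : ∀ k, MvPolynomial.X k ∈ G → ∀ l, l ≠ k → σ (MvPolynomial.X l) ∉ Ideal.span (σ '' G)) :
    (Ideal.span (σ '' G)).height ≤ 1 := by
  have hπG : MvPolynomial.C π ∈ G := by
    rcases hG with ⟨-, rfl⟩ | ⟨-, k, rfl⟩ <;> simp
  refine @Ideal.height_le_one_of_isPrincipal_of_mem_minimalPrimes _ _ _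
    (Ideal.span {σ (MvPolynomial.C π)}) ⟨⟨_, rfl⟩⟩ _
    ⟨⟨hp, (Ideal.span_singleton_le_iff_mem _).2 (Ideal.subset_span ⟨_, hπG, rfl⟩)⟩, fun q ⟨hq, hqπ⟩ hqle => ?_⟩
  haveI := hq
  rcases hG with ⟨-, rfl⟩ | ⟨hπr, k, rfl⟩
  · rw [Set.image_singleton]; exact hqπ
  obtain ⟨G', hG', hle⟩ := exists_gen σ hσ q (hqπ (Ideal.mem_span_singleton_self _))
  rcases hG' with ⟨hn, -⟩ | ⟨-, k', rfl⟩
  · exact absurd hπr hn
  rcases eq_or_ne k' k with rfl | hne
  · exact hle
  · exact absurd (hqle (hle (Ideal.subset_span ⟨_, Or.inr rfl, rfl⟩)))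
      (hX k (Or.inr rfl) k' hne)

theorem exists_prime_mem {T : Type u} [CommRing T] [Algebra R T] (q : Ideal T) [q.IsPrime]
    (h : Ideal.comap (algebraMap R T) q ≠ ⊥) : ∃ π : R, Prime π ∧ algebraMap R T π ∈ q := by
  haveI := RegLoc.isDomain R
  haveI := RegLoc.UFD.uniqueFactorizationMonoid R
  obtain ⟨π, hπq, hπ⟩ := Ideal.IsPrime.exists_mem_prime_of_ne_bot
    (Ideal.comap_isPrime (algebraMap R T) q) h
  exact ⟨π, hπ, hπq⟩

theorem eq_of_height {T : Type u} [CommRing T] [IsDomain T] [IsNoetherianRing T] {J q : Ideal T}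
    [hq : q.IsPrime] [hJ : J.IsPrime] (hJ0 : J ≠ ⊥) (hle : J ≤ q) (hh : q.height = 1) : J = q := by
  by_contra hne
  have h1 := Ideal.height_strict_mono_of_isPrime (bot_lt_iff_ne_bot.2 hJ0)
  have h2 := Ideal.height_strict_mono_of_isPrime (lt_of_le_of_ne hle hne)
  rw [hh] at h2
  exact absurd ((ENat.lt_one_iff_eq_zero).1 h2) (ne_of_gt (lt_of_le_of_lt bot_le h1))

theorem one_le_height {T : Type u} [CommRing T] [IsDomain T] [IsNoetherianRing T] {J : Ideal T}
    [J.IsPrime] (hJ0 : J ≠ ⊥) : 1 ≤ J.height :=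
  Order.one_le_iff_pos.2 (lt_of_le_of_lt bot_le (Ideal.height_strict_mono_of_isPrime (bot_lt_iff_ne_bot.2 hJ0)))

/-- The bijection, for an abstract ring `T` sitting between the polynomial and the series node rings. -/
theorem bijOn_aux (hrm : r ∈ maximalIdeal R) [IsDomain (SA r)] [IsNoetherianRing (SA r)]
    {T : Type u} [CommRing T] [IsDomain T] [IsNoetherianRing T] [Algebra R T]
    (σ : MvPolynomial (Fin 2) R →+* T) (φ : T →+* SA r) (hφσ : ∀ p, φ (σ p) = toA r p)
    (hσr : σ (rp r) = 0) (hCT : ∀ c : R, algebraMap R T c = σ (MvPolynomial.C c))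
    (hfrac : ∀ z : T, ∃ p, ∃ s : T, IsUnit s ∧ z * s = σ p) :
    Set.BijOn (fun 𝔓 => Ideal.comap φ 𝔓)
      {𝔓 | 𝔓.IsPrime ∧ 𝔓.height = 1 ∧ Ideal.comap (algebraMap R _) 𝔓 ≠ ⊥}
      {𝔮 : Ideal T | 𝔮.IsPrime ∧ 𝔮.height = 1 ∧ Ideal.comap (algebraMap R T) 𝔮 ≠ ⊥} := by
  classical
  haveI := RegLoc.isDomain R
  have hAr : toA r (rp r) = 0 := by rw [← hφσ, hσr, map_zero]
  have hCA : ∀ c : R, algebraMap R (SA r) c = toA r (MvPolynomial.C c) := fun c => by
    show Ideal.Quotient.mk _ (MvPowerSeries.C c) = Ideal.Quotient.mk _ _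
    rw [MvPolynomial.coeToMvPowerSeries.ringHom_apply, MvPolynomial.coe_C]
  -- the generated primes
  have main : ∀ (π : R), Prime π → ∀ G, IsGen r π G →
      (Ideal.span (toA r '' G)).IsPrime ∧ (Ideal.span (toA r '' G)).height = 1 ∧
      Ideal.comap φ (Ideal.span (toA r '' G)) = Ideal.span (σ '' G) ∧
      (Ideal.span (σ '' G)).IsPrime ∧ Ideal.height (Ideal.span (σ '' G)) = 1 := by
    intro π hπ G hG
    obtain ⟨hp, hpb⟩ := gen_spec hrm hπ hG
    have hπG : MvPolynomial.C π ∈ G := by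
      rcases hG with ⟨-, rfl⟩ | ⟨-, k, rfl⟩ <;> simp
    have hcomap : Ideal.comap φ (Ideal.span (toA r '' G)) = Ideal.span (σ '' G) := by
      refine le_antisymm (fun z hz => ?_) (Ideal.span_le.2 ?_)
      · obtain ⟨p, s, hs, hzs⟩ := hfrac z
        have h2 : toA r p ∈ Ideal.span (toA r '' G) := by
          rw [← hφσ, ← hzs, map_mul]
          exact Ideal.mul_mem_right _ _ hz
        have h4 : σ p ∈ Ideal.span (σ '' G) := by
          have h3 : σ p ∈ (Ideal.span G ⊔ Ideal.span {rp r}).map σ := Ideal.mem_map_of_mem σ (hpb p h2)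
          rwa [Ideal.map_sup, Ideal.map_span, Ideal.map_span, Set.image_singleton, hσr,
            Ideal.span_singleton_eq_bot.2 rfl, sup_bot_eq] at h3
        exact (Ideal.mul_unit_mem_iff_mem _ hs).1 (hzs ▸ h4)
      · rintro _ ⟨g, hg, rfl⟩
        rw [SetLike.mem_coe, Ideal.mem_comap, hφσ]
        exact Ideal.subset_span ⟨g, hg, rfl⟩
    have hp' : (Ideal.span (σ '' G)).IsPrime := by
      rw [← hcomap]; exact Ideal.comap_isPrime φ _
    have hπA : toA r (MvPolynomial.C π) ≠ 0 := fun h0 => hπ.ne_zero (by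
      have h1 := Ideal.Quotient.eq_zero_iff_mem.1 h0
      obtain ⟨c, hc⟩ := Ideal.mem_span_singleton.1 h1
      have h2 := phi_rel_mul hrm c 0
      rw [show rel r * c = MvPowerSeries.C π by
        rw [rel, ← hc, MvPolynomial.coeToMvPowerSeries.ringHom_apply, MvPolynomial.coe_C], phi_C,
        if_pos rfl] at h2
      exact h2)
    have hX : ∀ k, MvPolynomial.X k ∈ G → ∀ l, l ≠ k →
        toA r (MvPolynomial.X l) ∉ Ideal.span (toA r '' G) := fun k hk l hl hmem => by
      rcases hG with ⟨-, rfl⟩ | ⟨hπr, k', rfl⟩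
      · have h1 : MvPolynomial.coeff (Finsupp.single k 1) (MvPolynomial.X k : MvPolynomial (Fin 2) R) =
            MvPolynomial.coeff (Finsupp.single k 1) (MvPolynomial.C π) := by
          rw [show (MvPolynomial.X k : MvPolynomial (Fin 2) R) = MvPolynomial.C π from hk]
        rw [MvPolynomial.coeff_X, MvPolynomial.coeff_C, if_neg (Finsupp.single_ne_zero.2 one_ne_zero).symm, if_pos rfl] at h1
        exact one_ne_zero h1
      have hkk : k = k' := by
        rcases hk with h | h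
        · have h1 := congrArg (MvPolynomial.coeff (Finsupp.single k 1)) h
          rw [MvPolynomial.coeff_X, MvPolynomial.coeff_C, if_neg (Finsupp.single_ne_zero.2 one_ne_zero).symm, if_pos rfl] at h1
          exact absurd h1 one_ne_zero
        · exact MvPolynomial.X_injective h
      subst hkk
      have h3 := hpb _ hmem
      have h4 : (MvPolynomial.X l : MvPolynomial (Fin 2) R) ∈ RingHom.ker
          ((Ideal.Quotient.mk (Ideal.span {π})).comp
            (MvPolynomial.aeval (fun i : Fin 2 => if i = k then (0 : R) else 1)).toRingHom) := by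
        refine SetLike.le_def.1 (sup_le (Ideal.span_le.2 ?_) ((Ideal.span_singleton_le_iff_mem _).2 ?_)) h3
        · rintro z (rfl | rfl) <;> simp [Ideal.mem_span_singleton]
        · have hzero : (if (0 : Fin 2) = k then (0 : R) else 1) * (if (1 : Fin 2) = k then 0 else 1) = 0 := by
            fin_cases k <;> simp
          simp [rp, hzero, Ideal.Quotient.eq_zero_iff_mem, Ideal.mem_span_singleton, hπr]
      simp [hl] at h4
      exact hπ.not_isUnit (isUnit_of_dvd_one (Ideal.mem_span_singleton.1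
        (Ideal.Quotient.eq_zero_iff_mem.1 ((map_one _).trans h4))))
    haveI := hp
    haveI := hp'
    have hne : Ideal.span (toA r '' G) ≠ ⊥ := fun h0 =>
      hπA ((Submodule.mem_bot (R := SA r)).1 (h0 ▸ Ideal.subset_span (Set.mem_image_of_mem (toA r) hπG)))
    have hne' : Ideal.span (σ '' G) ≠ ⊥ := fun h0 => hπA (by
      rw [← hφσ, (Submodule.mem_bot _).1 (h0 ▸ Ideal.subset_span (Set.mem_image_of_mem σ hπG) : σ (MvPolynomial.C π) ∈ (⊥ : Ideal _)), map_zero])
    have hX' : ∀ k, MvPolynomial.X k ∈ G → ∀ l, l ≠ k →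
        σ (MvPolynomial.X l) ∉ Ideal.span (σ '' G) := fun k hk l hl h => hX k hk l hl (by
      rw [← hcomap, Ideal.mem_comap, hφσ] at h; exact h)
    have hA1 := height_le_one (toA r) hAr hG hp hX
    have hB1 := height_le_one σ hσr hG hp' hX'
    have hA2 := one_le_height hne
    have hB2 := one_le_height hne'
    exact ⟨hp, le_antisymm hA1 hA2, hcomap, hp', le_antisymm hB1 hB2⟩
  have cls : ∀ 𝔓 : Ideal (SA r), 𝔓.IsPrime → 𝔓.height = 1 → Ideal.comap (algebraMap R _) 𝔓 ≠ ⊥ →
      ∃ π, Prime π ∧ ∃ G, IsGen r π G ∧ 𝔓 = Ideal.span (toA r '' G) := by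
    intro 𝔓 h𝔓 hh hne
    obtain ⟨π, hπ, hmem⟩ := exists_prime_mem 𝔓 hne
    rw [hCA] at hmem
    obtain ⟨G, hG, hle⟩ := exists_gen (toA r) hAr 𝔓 hmem
    obtain ⟨hp, hht, -, -, -⟩ := main π hπ G hG
    have hJ0 : Ideal.span (toA r '' G) ≠ ⊥ := fun h0 => by
      rw [h0, Ideal.height_bot] at hht
      exact zero_ne_one hht
    exact ⟨π, hπ, G, hG, (@eq_of_height _ _ _ _ _ _ h𝔓 hp hJ0 hle hh).symm⟩
  refine ⟨fun 𝔓 ⟨h𝔓, hh, hne⟩ => ?_, fun 𝔓₁ ⟨h₁, hh₁, hne₁⟩ 𝔓₂ ⟨h₂, hh₂, hne₂⟩ heq => ?_,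
    fun 𝔮 ⟨h𝔮, hh, hne⟩ => ?_⟩
  · obtain ⟨π, hπ, G, hG, rfl⟩ := cls 𝔓 h𝔓 hh hne
    obtain ⟨-, -, hcomap, hp', hht'⟩ := main π hπ G hG
    refine ⟨Ideal.comap_isPrime φ _, by beta_reduce; rw [hcomap]; exact hht', fun h0 => ?_⟩
    have h1 : π ∈ Ideal.comap (algebraMap R (T)) (Ideal.comap φ (Ideal.span (toA r '' G))) := by
      rw [Ideal.mem_comap, Ideal.mem_comap, hCT, hφσ]
      refine Ideal.subset_span ⟨_, ?_, rfl⟩
      rcases hG with ⟨-, rfl⟩ | ⟨-, k, rfl⟩ <;> simp
    rw [h0, Submodule.mem_bot] at h1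
    exact hπ.ne_zero h1
  · obtain ⟨π₁, hπ₁, G₁, hG₁, rfl⟩ := cls 𝔓₁ h₁ hh₁ hne₁
    obtain ⟨π₂, hπ₂, G₂, hG₂, rfl⟩ := cls 𝔓₂ h₂ hh₂ hne₂
    have key : ∀ G, (Ideal.span (σ '' G)).map φ = Ideal.span (toA r '' G) := fun G => by
      rw [Ideal.map_span, ← Set.image_comp]
      exact congrArg Ideal.span (Set.image_congr fun g _ => hφσ g)
    simp only [(main π₁ hπ₁ G₁ hG₁).2.2.1, (main π₂ hπ₂ G₂ hG₂).2.2.1] at heq
    rw [← key G₁, ← key G₂, heq]
  · obtain ⟨π, hπ, hmem⟩ := exists_prime_mem 𝔮 hne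
    rw [hCT] at hmem
    obtain ⟨G, hG, hle⟩ := exists_gen σ hσr 𝔮 hmem
    obtain ⟨hp, hht, hcomap, hp', hht'⟩ := main π hπ G hG
    have hJ0 : Ideal.span (σ '' G) ≠ ⊥ := fun h0 => by
      rw [h0, Ideal.height_bot] at hht'
      exact zero_ne_one hht'
    refine ⟨_, ⟨hp, hht, fun h0 => ?_⟩,
      hcomap.trans (@eq_of_height (T) _ _ _ _ _ h𝔮 hp' hJ0 hle hh)⟩
    have h1 : π ∈ Ideal.comap (algebraMap R (SA r)) (Ideal.span (toA r '' G)) := by
      rw [Ideal.mem_comap, hCA]
      refine Ideal.subset_span ⟨_, ?_, rfl⟩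
      rcases hG with ⟨-, rfl⟩ | ⟨-, k, rfl⟩ <;> simp
    rw [h0, Submodule.mem_bot] at h1
    exact hπ.ne_zero h1

open IsLocalRing in
/-- Let R be a regular local ring complete for its maximal ideal, r a non-zero element of R, A the
quotient of the power series ring in x, y over R by xy − r, B the quotient of the polynomial ring in
x, y over R by xy − r, ι : B → A the natural map, P the ideal of B generated by x, y and the maximal
ideal of R, à the localization of B at P and φ : à → A the map extending ι. Call a prime of height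
one of A (or of Ã) fibral when it contains a non-zero element of R. Then contraction along φ is a
bijection from the set of fibral height-one primes of A onto the set of fibral height-one primes of
Ã; equivalently it induces an isomorphism between the free abelian groups of fibral Weil divisors. -/
theorem result
    (R : Type u) [CommRing R] [IsRegularLocalRing R]
    [IsAdicComplete (maximalIdeal R) R]
    (r : R) (hr : r ≠ 0)
    (ι : (MvPolynomial (Fin 2) R ⧸ Ideal.span {(MvPolynomial.X 0 * MvPolynomial.X 1 - MvPolynomial.C r : MvPolynomial (Fin 2) R)}) →+*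
      (MvPowerSeries (Fin 2) R ⧸ Ideal.span {(MvPowerSeries.X 0 * MvPowerSeries.X 1 - MvPowerSeries.C r : MvPowerSeries (Fin 2) R)}))
    (hι : ι.comp (Ideal.Quotient.mk _) =
      (Ideal.Quotient.mk _).comp (MvPolynomial.coeToMvPowerSeries.ringHom : MvPolynomial (Fin 2) R →+* MvPowerSeries (Fin 2) R))
    (P : Ideal (MvPolynomial (Fin 2) R ⧸ Ideal.span {(MvPolynomial.X 0 * MvPolynomial.X 1 - MvPolynomial.C r : MvPolynomial (Fin 2) R)})) [P.IsPrime]
    (hP : P = Ideal.span {Ideal.Quotient.mk _ (MvPolynomial.X 0), Ideal.Quotient.mk _ (MvPolynomial.X 1)} ⊔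
      (maximalIdeal R).map (algebraMap R _))
    (φ : Localization.AtPrime P →+* (MvPowerSeries (Fin 2) R ⧸ Ideal.span {(MvPowerSeries.X 0 * MvPowerSeries.X 1 - MvPowerSeries.C r : MvPowerSeries (Fin 2) R)}))
    (hφ : φ.comp (algebraMap _ (Localization.AtPrime P)) = ι) :
    Set.BijOn (fun 𝔓 => Ideal.comap φ 𝔓)
      {𝔓 | 𝔓.IsPrime ∧ 𝔓.height = 1 ∧ Ideal.comap (algebraMap R _) 𝔓 ≠ ⊥}
      {𝔮 : Ideal (Localization.AtPrime P) | 𝔮.IsPrime ∧ @Ideal.height (Localization.AtPrime P) _ 𝔮 = 1 ∧ Ideal.comap (algebraMap R (Localization.AtPrime P)) 𝔮 ≠ ⊥} := by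
  classical
  haveI := RegLoc.isDomain R
  have hrm : r ∈ maximalIdeal R := by
    intro hu
    have h1 : Ideal.Quotient.mk _ (MvPolynomial.X 0) * Ideal.Quotient.mk _ (MvPolynomial.X 1) =
        algebraMap R (PB r) r := by
      rw [← map_mul, ← sub_eq_zero]
      show _ - Ideal.Quotient.mk _ (MvPolynomial.C r) = 0
      rw [← map_sub]
      exact Ideal.Quotient.eq_zero_iff_mem.2 (Ideal.mem_span_singleton_self _)
    have h2 : algebraMap R (PB r) r ∈ P := by
      rw [← h1, hP]
      exact Submodule.mem_sup_left (Ideal.mul_mem_right _ _ (Ideal.subset_span (Or.inl rfl)))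
    exact Ideal.IsPrime.ne_top ‹_› (Ideal.eq_top_of_isUnit_mem _ h2 (hu.map _))
  haveI := isDomain_SA hrm hr
  have hιp : ∀ p, ι (Ideal.Quotient.mk _ p) = toA r p := fun p => RingHom.congr_fun hι p
  have hφι : ∀ b, φ (algebraMap _ (Localization.AtPrime P) b) = ι b := fun b => RingHom.congr_fun hφ b
  let σ : MvPolynomial (Fin 2) R →+* Localization.AtPrime P :=
    (algebraMap (PB r) (Localization.AtPrime P)).comp (Ideal.Quotient.mk _)
  have hφσ : ∀ p, φ (σ p) = toA r p := fun p => (hφι _).trans (hιp p)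
  have hσr : σ (rp r) = 0 := by
    show algebraMap (PB r) _ (Ideal.Quotient.mk _ (rp r)) = 0
    rw [Ideal.Quotient.eq_zero_iff_mem.2 (show rp r ∈ Ideal.span {(MvPolynomial.X 0 * MvPolynomial.X 1 -
      MvPolynomial.C r : MvPolynomial (Fin 2) R)} from Ideal.mem_span_singleton_self _), map_zero]
  have hιinj : Function.Injective ι := (injective_iff_map_eq_zero _).2 fun b hb => by
    obtain ⟨p, rfl⟩ := Ideal.Quotient.mk_surjective b
    exact Ideal.Quotient.eq_zero_iff_mem.2 (injective_toA hrm ((hιp p).symm.trans hb))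
  haveI : IsDomain (PB r) := hιinj.isDomain _
  haveI : IsDomain (Localization.AtPrime P) :=
    IsLocalization.isDomain_localization (Ideal.primeCompl_le_nonZeroDivisors P)
  have hCT : ∀ c : R, algebraMap R (Localization.AtPrime P) c = σ (MvPolynomial.C c) := fun c =>
    IsScalarTower.algebraMap_apply R (PB r) (Localization.AtPrime P) c
  haveI : IsNoetherianRing (SA r) := inferInstance
  haveI : IsNoetherianRing (Localization.AtPrime P) :=
    IsLocalization.isNoetherianRing P.primeCompl _ inferInstance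
  exact @bijOn_aux R _ _ _ r hrm _ _ (Localization.AtPrime P) _ _ _ _ σ φ hφσ hσr hCT fun z => by
    obtain ⟨b, s, rfl⟩ := IsLocalization.exists_mk'_eq P.primeCompl z
    obtain ⟨p, rfl⟩ := Ideal.Quotient.mk_surjective b
    exact ⟨p, _, IsLocalization.map_units _ s, IsLocalization.mk'_spec _ _ _⟩

end Groth.Agent.S17735
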