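import Groth.Statements.S17743
import Groth.Agent.QsChow84.Pt
-- import your own Groth.Agent.* helpers here

set_option autoImplicit false
universe u
open CategoryTheory AlgebraicGeometry
open QsChow

namespace Groth.Agent.S17743

/-- Let K be a separable algebraic field extension of k and suppose that some intermediate field L of K
over k is finite Galois over k with degree [L:k] not of the form p^n for a prime p and n ≥ 0 (so
[L:k] has at least two prime factors). Then the subgroup of the Chow group of zero-cycles of Spec k
generated by the classes of push-forwards from Spec F, over the intermediate fields F of K over k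
that are finite over k and different from k, is the whole group; that is, the conormed Chow group of
the point relative to K over k is zero. (Degree 1 = p^0 must be excluded: for L = K = k the quotient
is ℤ.) -/
theorem result
    (k : Type u) [Field k] (K : Type u) [Field K] [Algebra k K] [Algebra.IsSeparable k K]
    (L : IntermediateField k K) [FiniteDimensional k L] [IsGalois k L]
    (hL : ∀ p n : ℕ, p.Prime → Module.finrank k L ≠ p ^ n) :
    QsChow.ptNormSubgroup k K = ⊤ := by
  rw [QsChow84.ptNormSubgroup_eq_comap]
  set A := AddSubgroup.closure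
    {d : ℤ | ∃ F : IntermediateField k K, FiniteDimensional k F ∧ F ≠ ⊥ ∧ d = Module.finrank k F} with hA
  obtain ⟨d, hd⟩ := Int.subgroup_cyclic A
  have hdvd : ∀ q : ℕ, q.Prime → ¬ q ∣ d.natAbs := by
    intro q hq hdq
    haveI := Fact.mk hq
    obtain ⟨P⟩ : Nonempty (Sylow q (L ≃ₐ[k] L)) := inferInstance
    have hne : (P : Subgroup (L ≃ₐ[k] L)).index ≠ 1 := by
      intro h
      obtain ⟨m, hm⟩ := IsPGroup.iff_card.1 P.isPGroup'
      have h2 := (P : Subgroup (L ≃ₐ[k] L)).index_mul_card
      rw [h, one_mul, hm, IsGalois.card_aut_eq_finrank] at h2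
      exact hL q m hq h2.symm
    have hmem : ((P : Subgroup (L ≃ₐ[k] L)).index : ℤ) ∈ A :=
      AddSubgroup.subset_closure (QsChow84.exists_mem_finrank_eq_index k K L _ hne)
    rw [hd, ← AddSubgroup.zmultiples_eq_closure, Int.mem_zmultiples_iff, ← Int.natAbs_dvd_natAbs] at hmem
    exact P.not_dvd_index (hdq.trans hmem)
  have h1 : d.natAbs = 1 := by
    by_contra h
    obtain ⟨q, hq, hdq⟩ := Nat.exists_prime_and_dvd h
    exact hdvd q hq hdq
  have : A = ⊤ := by
    rw [eq_top_iff]
    intro x _
    rw [hd, ← AddSubgroup.zmultiples_eq_closure, Int.mem_zmultiples_iff, ← Int.natAbs_dvd, h1]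
    exact one_dvd _
  rw [this, AddSubgroup.comap_top]

end Groth.Agent.S17743
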