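import Groth.Statements.S17744
import Groth.Agent.QsChow84.Pt
-- import your own Groth.Agent.* helpers here

set_option autoImplicit false
universe u
open CategoryTheory AlgebraicGeometry
open QsChow

namespace Groth.Agent.S17744

/-- Let K be a separable algebraic field extension of k, let L be an intermediate field of K over k that
is finite Galois over k of degree p^n with p prime and n ≥ 1, and suppose that every intermediate
field of K over k that is finite over k has degree a power of p. Then the subgroup of the Chow group
of zero-cycles of Spec k generated by the classes of push-forwards from Spec F, over the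
intermediate fields F of K over k that are finite over k and different from k, has index p; that is,
the conormed Chow group of the point relative to K over k is cyclic of order p (the field with p
elements, in the source's ring language). (For n = 0, i.e. L = k, the assertion fails with K = k, so
n ≥ 1 is required.) -/
theorem result
    (k : Type u) [Field k] (K : Type u) [Field K] [Algebra k K] [Algebra.IsSeparable k K]
    (L : IntermediateField k K) [FiniteDimensional k L] [IsGalois k L]
    (p n : ℕ) (hp : p.Prime) (hn : 1 ≤ n) (hL : Module.finrank k L = p ^ n)
    (hF : ∀ F : IntermediateField k K, FiniteDimensional k F → ∃ e : ℕ, Module.finrank k F = p ^ e) :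
    (QsChow.ptNormSubgroup k K).index = p := by
  rw [QsChow84.ptNormSubgroup_eq_comap, AddSubgroup.index_comap_of_surjective _ (QsChow84.ptDeg_surjective k)]
  set A := AddSubgroup.closure
    {d : ℤ | ∃ F : IntermediateField k K, FiniteDimensional k F ∧ F ≠ ⊥ ∧ d = Module.finrank k F} with hA
  have : A = AddSubgroup.zmultiples (p : ℤ) := by
    refine le_antisymm ((AddSubgroup.closure_le _).2 ?_) (AddSubgroup.zmultiples_le.2 ?_)
    · rintro d ⟨F, hfin, hne, rfl⟩
      obtain ⟨e, he⟩ := hF F hfin
      rw [SetLike.mem_coe, Int.mem_zmultiples_iff, he]
      cases e with
      | zero => exact absurd (IntermediateField.finrank_eq_one_iff.1 (by rw [he, pow_zero])) hne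
      | succ e => exact Int.natCast_dvd_natCast.2 ⟨p ^ e, pow_succ' p e⟩
    · haveI := Fact.mk hp
      have hcard : Nat.card (L ≃ₐ[k] L) = p ^ n := by rw [IsGalois.card_aut_eq_finrank, hL]
      obtain ⟨H, hH⟩ := Sylow.exists_subgroup_card_pow_prime (G := L ≃ₐ[k] L) p (n := n - 1)
        (by rw [hcard]; exact pow_dvd_pow p (Nat.sub_le n 1))
      have hidx : H.index = p := by
        have h2 := H.index_mul_card
        rw [hH, hcard] at h2
        obtain ⟨m, rfl⟩ : ∃ m, n = m + 1 := ⟨n - 1, by omega⟩
        rw [Nat.add_sub_cancel, pow_succ'] at h2
        exact Nat.eq_of_mul_eq_mul_right (pow_pos hp.pos m) h2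
      rw [← hidx]
      exact AddSubgroup.subset_closure (QsChow84.exists_mem_finrank_eq_index k K L H (hidx ▸ hp.ne_one))
  rw [this, Int.index_zmultiples, Int.natAbs_natCast]

end Groth.Agent.S17744
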