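import Groth.Statements.S17746
import Groth.Agent.QsChow84.Factor
import Groth.Agent.QsChow84.Split
-- import your own Groth.Agent.* helpers here

set_option autoImplicit false
universe u
open CategoryTheory AlgebraicGeometry
open QsChow

namespace Groth.Agent.S17746

/-- For a field extension K of k (separable algebraic) and a k-scheme X with weight function δ, call
norm subgroup of CH_j(X) the subgroup generated by the classes of the push-forwards to X of j-cycles
on the base changes X_F, over the intermediate fields F of K over k that are finite over k and
different from k (the quotient by it is the degree-j part of the conormed Chow group of X relative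
to K over k). Let L be an intermediate field of K over k that is finite Galois over k, and let X be
a smooth variety over k (smooth, separated and quasi-compact structure morphism) that is connected
and whose base change X_L is not connected. Then for every weight function δ on X (a dimension
function induced from weight 0 on Spec k) and every integer j the norm subgroup of CH_j(X) relative
to K over k is the whole Chow group: all conormed Chow groups of X vanish. -/
theorem result
    (k : Type u) [Field k] (K : Type u) [Field K] [Algebra k K] [Algebra.IsSeparable k K]
    (L : IntermediateField k K) [FiniteDimensional k L] [IsGalois k L]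
    (X : Scheme.{u}) [X.Over (Spec (CommRingCat.of k))]
    (hsm : Smooth (X ↘ Spec (CommRingCat.of k))) [IsSeparated (X ↘ Spec (CommRingCat.of k))]
    [QuasiCompact (X ↘ Spec (CommRingCat.of k))]
    [ConnectedSpace X] (hdisc : ¬ ConnectedSpace ↥(Curv2.bc k X L))
    (δ : X → ℤ) (hδ : Cyc.IsSetup X δ)
    (hcompat : Cyc.DeltaCompat (X ↘ Spec (CommRingCat.of k)) δ (fun _ => 0)) (j : ℤ) :
    QsChow.normSubgroup k K X δ j = ⊤ := by
  obtain ⟨F, hF, g, hg⟩ := QsChow84.exists_factor_of_disconnected k X L hdisc
  let e := IntermediateField.liftAlgEquiv F
  haveI : FiniteDimensional k (IntermediateField.lift F) := Module.Finite.equiv e.toLinearEquiv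
  refine QsChow84.normSubgroup_eq_top_of_factor k K (IntermediateField.lift F) (fun h => hF ?_) X
    (g ≫ Spec.map (CommRingCat.ofHom e.symm.toAlgHom.toRingHom)) ?_ δ j
  · rw [← IntermediateField.finrank_eq_one_iff, e.toLinearEquiv.finrank_eq, h, IntermediateField.finrank_bot]
  · rw [Category.assoc, ← Spec.map_comp, ← CommRingCat.ofHom_comp, show e.symm.toAlgHom.toRingHom.comp (algebraMap k (IntermediateField.lift F)) = algebraMap k F from RingHom.ext e.symm.commutes]
    exact hg

end Groth.Agent.S17746
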