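import Groth.Statements.S17751
import Mathlib.RingTheory.Ideal.Height
import Mathlib.RingTheory.Ideal.MinimalPrime.Noetherian
-- import your own Groth.Agent.* helpers here

set_option autoImplicit false
universe u
open LocCoh

namespace Groth.Agent.S17751

theorem exists_fun (R : Type u) [CommRing R] [IsNoetherianRing R] (I : Ideal R) (r : ℕ) :
    ∃ f : Fin r → R, (∀ i, f i ∈ I) ∧ ∀ (p : Ideal R) [p.IsPrime],
      Ideal.span (Set.range f) ≤ p → ¬ I ≤ p → (r : ℕ∞) ≤ p.height := by
  induction r with
  | zero => exact ⟨Fin.elim0, fun i => i.elim0, fun p _ _ _ => by simp⟩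
  | succ r ih =>
    obtain ⟨f, hf, hht⟩ := ih
    let T : Set (Ideal R) := {p ∈ (Ideal.span (Set.range f)).minimalPrimes | ¬ I ≤ p}
    have hT : T.Finite :=
      ((Ideal.span (Set.range f)).finite_minimalPrimes_of_isNoetherianRing).subset fun p hp => hp.1
    have := (Ideal.subset_union_prime_finite (I := I) hT (f := id) ⊥ ⊥
      (fun P hP _ _ => hP.1.1.1)).not.mpr (by rintro ⟨P, hP, hle⟩; exact hP.2 hle)
    obtain ⟨g, hg, hg'⟩ := Set.not_subset.mp this
    refine ⟨Fin.snoc f g, fun i => ?_, fun p _ hp hI => ?_⟩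
    · induction i using Fin.lastCases with
      | last => simpa using hg
      | cast j => simpa using hf j
    · have hspan : Ideal.span (Set.range f) ≤ p := by
        refine Ideal.span_le.mpr ?_
        rintro _ ⟨j, rfl⟩
        exact hp (Ideal.subset_span ⟨j.castSucc, by simp⟩)
      have hgp : g ∈ p := hp (Ideal.subset_span ⟨Fin.last r, by simp⟩)
      obtain ⟨q, hq, hqp⟩ := Ideal.exists_minimalPrimes_le hspan
      have hqI : ¬ I ≤ q := fun h => hI (h.trans hqp)
      have : q.IsPrime := hq.1.1
      have hlt : q < p := lt_of_le_of_ne hqp fun he => by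
        simp only [Set.mem_iUnion, id] at hg'
        exact hg' ⟨q, ⟨hq, hqI⟩, he ▸ hgp⟩
      calc ((r + 1 : ℕ) : ℕ∞) = (r : ℕ∞) + 1 := by push_cast; rfl
        _ ≤ q.height + 1 := by gcongr; exact hht q hq.1.2 hqI
        _ ≤ p.height := Ideal.height_add_one_le_of_lt_of_isPrime hlt

/-- Suppose R is a Noetherian ring, r is a natural number, and I is an ideal of R. Then there are
elements f_1, …, f_r of I such that for every prime ideal p of R of height less than r, p contains I
if and only if p contains f_1, …, f_r. (For r = 0 there is nothing to prove.) -/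
theorem result (R : Type u) [CommRing R] [IsNoetherianRing R] (I : Ideal R) (r : ℕ) : ∃ f : Fin r → R, (∀ i, f i ∈ I) ∧ ∀ (p : Ideal R) [p.IsPrime], p.height < r → (I ≤ p ↔ Ideal.span (Set.range f) ≤ p) := by
  obtain ⟨f, hf, h⟩ := exists_fun R I r
  refine ⟨f, hf, fun p _ hp => ⟨fun hI => (Ideal.span_le.mpr ?_).trans hI, fun hspan => ?_⟩⟩
  · rintro _ ⟨i, rfl⟩
    exact hf i
  · by_contra hI
    exact (h p hspan hI).not_gt hp

end Groth.Agent.S17751
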