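import Groth.Statements.S17752
import Groth.Agent.S17751
-- import your own Groth.Agent.* helpers here

set_option autoImplicit false
universe u
open LocCoh

namespace Groth.Agent.S17752

/-- Let R be a Noetherian ring of Krull dimension d and I an ideal of R. Then there are d + 1 elements
f_0, …, f_d of I such that I and the ideal they generate have the same radical; in other words the
arithmetic rank of I is at most d + 1. -/
theorem result (R : Type u) [CommRing R] [IsNoetherianRing R] (d : ℕ) (hd : ringKrullDim R = d) (I : Ideal R) : ∃ f : Fin (d + 1) → R, (∀ i, f i ∈ I) ∧ I.radical = (Ideal.span (Set.range f)).radical := by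
  obtain ⟨f, hf, h⟩ := Groth.Agent.S17751.result R I (d + 1)
  refine ⟨f, hf, ?_⟩
  have key : ∀ p : Ideal R, p.IsPrime → (I ≤ p ↔ Ideal.span (Set.range f) ≤ p) := by
    intro p hp
    refine h p ?_
    have := Ideal.height_le_ringKrullDim_of_isPrime (I := p)
    rw [hd] at this
    exact lt_of_le_of_lt (WithBot.coe_le_coe.mp this) (by exact_mod_cast Nat.lt_succ_self d)
  rw [Ideal.radical_eq_sInf, Ideal.radical_eq_sInf]
  congr 1
  ext p
  exact ⟨fun hp => ⟨(key p hp.2).mp hp.1, hp.2⟩, fun hp => ⟨(key p hp.2).mpr hp.1, hp.2⟩⟩

end Groth.Agent.S17752
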