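import Groth.Statements.S17753
import Groth.Agent.S17751
-- import your own Groth.Agent.* helpers here

set_option autoImplicit false
universe u
open LocCoh

namespace Groth.Agent.S17753

/-- Let R be a Noetherian local ring of Krull dimension d and I a proper ideal of R. Then there are d
elements f_1, …, f_d of I such that I and the ideal they generate have the same radical, so the
arithmetic rank of I is at most d. (The published statement has no properness hypothesis; for the
unit ideal of a field, d = 0 and no empty family generates the unit ideal up to radical, and the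
published proof uses that the maximal ideal contains I.) -/
theorem result (R : Type u) [CommRing R] [IsNoetherianRing R] [IsLocalRing R] (d : ℕ) (hd : ringKrullDim R = d) (I : Ideal R) (hI : I ≠ ⊤) : ∃ f : Fin d → R, (∀ i, f i ∈ I) ∧ I.radical = (Ideal.span (Set.range f)).radical := by
  obtain ⟨f, hf, h⟩ := Groth.Agent.S17751.result R I d
  refine ⟨f, hf, ?_⟩
  have key : ∀ p : Ideal R, p.IsPrime → (I ≤ p ↔ Ideal.span (Set.range f) ≤ p) := by
    intro p hp
    have hIm : I ≤ IsLocalRing.maximalIdeal R := IsLocalRing.le_maximalIdeal hI
    by_cases hpm : p = IsLocalRing.maximalIdeal R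
    · subst hpm
      exact iff_of_true hIm
        (Ideal.span_le.mpr (by rintro _ ⟨i, rfl⟩; exact hIm (hf i)))
    · refine h p ?_
      have hlt : p < IsLocalRing.maximalIdeal R :=
        lt_of_le_of_ne (IsLocalRing.le_maximalIdeal hp.ne_top) hpm
      have h1 := Ideal.height_add_one_le_of_lt_of_isPrime hlt
      have h2 := Ideal.height_le_ringKrullDim_of_isPrime (I := IsLocalRing.maximalIdeal R)
      rw [hd] at h2
      have h3 : p.height + 1 ≤ (d : ℕ∞) := h1.trans (WithBot.coe_le_coe.mp h2)
      exact lt_of_lt_of_le (ENat.lt_add_one_iff (by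
        intro htop; simp [htop] at h3) |>.mpr le_rfl) h3
  rw [Ideal.radical_eq_sInf, Ideal.radical_eq_sInf]
  congr 1
  ext p
  exact ⟨fun hp => ⟨(key p hp.2).mp hp.1, hp.2⟩, fun hp => ⟨(key p hp.2).mpr hp.1, hp.2⟩⟩

end Groth.Agent.S17753
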