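import Mathlib
import Groth.Statements.S17754
-- import your own Groth.Agent.* helpers here

set_option autoImplicit false
universe u
open CAlg

namespace Groth.Agent.S17754

/-- Let R be a complete Noetherian local ring with maximal ideal m, and let I_0 ⊇ I_1 ⊇ I_2 ⊇ ⋯ be a
descending sequence of ideals of R whose intersection is zero. Then for every natural number n there
is an index s with I_s contained in m^n; that is, the filtration by the I_s is at least as fine as
the m-adic one. -/
theorem result (R : Type u) [CommRing R] [IsNoetherianRing R] [IsLocalRing R] [IsAdicComplete (IsLocalRing.maximalIdeal R) R] (I : ℕ → Ideal R) (hI : Antitone I) (hinf : ⨅ s, I s = ⊥) (n : ℕ) : ∃ s : ℕ, I s ≤ IsLocalRing.maximalIdeal R ^ n := by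
  classical
  set m := IsLocalRing.maximalIdeal R with hm
  by_contra hcon
  push Not at hcon
  have hst : ∀ k, ∃ t, ∀ s, t ≤ s → I s ⊔ m ^ k = I t ⊔ m ^ k := by
    intro k
    have : IsArtinianRing (R ⧸ m ^ k) := by
      rcases Nat.eq_zero_or_pos k with rfl | hk
      · have : Subsingleton (R ⧸ m ^ 0) := Ideal.Quotient.subsingleton_iff.mpr (by simp)
        infer_instance
      · refine IsLocalRing.quotient_artinian_of_mem_minimalPrimes_of_isLocalRing _
          ⟨⟨inferInstance, Ideal.pow_le_self hk.ne'⟩, fun p hp _ => ?_⟩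
        exact hp.1.le_of_pow_le hp.2
    obtain ⟨t, ht⟩ := IsArtinian.monotone_stabilizes (R := R ⧸ m ^ k) (M := R ⧸ m ^ k)
      ⟨fun s => OrderDual.toDual ((I s).map (Ideal.Quotient.mk (m ^ k))),
        fun a b hab => Ideal.map_mono (hI hab)⟩
    refine ⟨t, fun s hs => ?_⟩
    have h2 : ∀ J : Ideal R, (J.map (Ideal.Quotient.mk (m ^ k))).comap (Ideal.Quotient.mk (m ^ k)) = J ⊔ m ^ k := by
      intro J
      rw [Ideal.comap_map_of_surjective _ Ideal.Quotient.mk_surjective, ← RingHom.ker_eq_comap_bot, Ideal.mk_ker]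
    have h1 : (I t).map (Ideal.Quotient.mk (m ^ k)) = (I s).map (Ideal.Quotient.mk (m ^ k)) := ht s hs
    rw [← h2, ← h2, h1]
  choose t ht using hst
  have hstep : ∀ k, ∀ x ∈ I (t k) ⊔ m ^ k, ∃ y ∈ I (t (k + 1)) ⊔ m ^ (k + 1), y - x ∈ m ^ k := by
    intro k x hx
    rw [← ht k (max (t k) (t (k + 1))) (le_max_left _ _)] at hx
    obtain ⟨y, hy, z, hz, rfl⟩ := Submodule.mem_sup.mp hx
    refine ⟨y, Ideal.mem_sup_left (hI (le_max_right _ _) hy), ?_⟩
    rw [show y - (y + z) = -z by ring]
    exact Submodule.neg_mem _ hz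
  obtain ⟨x₀, hx₀, hx₀'⟩ := SetLike.not_le_iff_exists.mp (hcon (t n))
  choose g hg hg' using hstep
  let X : ∀ j, {x : R // x ∈ I (t (n + j)) ⊔ m ^ (n + j)} := fun j => Nat.rec ⟨x₀, Ideal.mem_sup_left hx₀⟩
    (fun j x => ⟨g (n + j) x.1 x.2, hg (n + j) x.1 x.2⟩) j
  have hmono : ∀ i j, i ≤ j → (X j).1 - (X i).1 ∈ m ^ (n + i) := by
    intro i j hij
    induction j, hij using Nat.le_induction with
    | base => simp
    | succ j hij ih =>
      rw [← sub_add_sub_cancel (X (j + 1)).1 (X j).1]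
      exact Ideal.add_mem _ (Ideal.pow_le_pow_right (show n + i ≤ n + j by omega) (hg' (n + j) (X j).1 (X j).2)) ih
  obtain ⟨L, hL⟩ := IsPrecomplete.prec (I := m) (M := R) inferInstance (f := fun j => (X j).1)
    fun {i j} hij => by
      rw [SModEq.sub_mem, smul_eq_mul, Ideal.mul_top, ← neg_sub]
      exact Submodule.neg_mem _ (Ideal.pow_le_pow_right (Nat.le_add_left i n) (hmono i j hij))
  have hL' : ∀ j, (X j).1 - L ∈ m ^ j := fun j => by
    have := SModEq.sub_mem.mp (hL j)
    rwa [smul_eq_mul, Ideal.mul_top] at this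
  have hL0 : L = 0 := by
    rw [← Ideal.mem_bot, ← hinf, Submodule.mem_iInf]
    intro s
    rw [← Submodule.Quotient.mk_eq_zero]
    refine IsHausdorff.haus (I := m) inferInstance _ fun j => SModEq.zero.mpr ?_
    have hXj : (X j).1 ∈ I (max s (t (n + j))) ⊔ m ^ (n + j) := by
      rw [ht (n + j) _ (le_max_right _ _)]; exact (X j).2
    have : L ∈ I s ⊔ m ^ j := by
      rw [← sub_sub_cancel (X j).1 L]
      refine Ideal.sub_mem _ ?_ (Ideal.mem_sup_right (hL' j))
      exact sup_le_sup (hI (le_max_left _ _)) (Ideal.pow_le_pow_right (Nat.le_add_left j n)) hXj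
    obtain ⟨a, ha, b, hb, rfl⟩ := Submodule.mem_sup.mp this
    rw [Submodule.Quotient.mk_add, (Submodule.Quotient.mk_eq_zero _).mpr ha, zero_add,
      show b = b • (1 : R) by simp, Submodule.Quotient.mk_smul]
    exact Submodule.smul_mem_smul hb trivial
  apply hx₀'
  have h1 := hmono 0 n (Nat.zero_le n)
  have h2 := hL' n
  rw [hL0, sub_zero] at h2
  rw [show x₀ = (X n).1 - ((X n).1 - (X 0).1) from (sub_sub_cancel _ _).symm]
  exact Ideal.sub_mem _ h2 h1

end Groth.Agent.S17754
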