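import Groth.Statements.S17756
import Groth.Agent.InjHull.Matlis
import Mathlib.Algebra.Module.SpanRankOperations

set_option autoImplicit false
universe u
open Matlis

namespace Groth.Agent.S17756

/-- Let R be a Noetherian local ring with maximal ideal m and residue field k, E an injective hull of k,
and M a finitely generated R-module with Matlis dual M^v = Hom_R(M, E). Then the minimal number of
generators of M equals the k-dimension of the socle of M^v, the submodule of elements of M^v killed
by m (stated as its length as an R-module). -/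
theorem result (R : Type u) [CommRing R] [IsNoetherianRing R] [IsLocalRing R] (E : Type u) [AddCommGroup E] [Module R E] (f : IsLocalRing.ResidueField R →ₗ[R] E) (hf : InjHull.IsInjectiveHull f) (M : Type u) [AddCommGroup M] [Module R M] [Module.Finite R M] : ((⊤ : Submodule R M).spanFinrank : ℕ∞) = Module.length R (LocCoh.torsionBy (IsLocalRing.maximalIdeal R) (M →ₗ[R] E)) := by
  set m := IsLocalRing.maximalIdeal R with hm
  let K : Submodule R M := m • ⊤
  let Φ : ((M ⧸ K) →ₗ[R] E) →ₗ[R] (LocCoh.torsionBy m (M →ₗ[R] E)) :=
    (LinearMap.lcomp R E K.mkQ).codRestrict _ fun ψ => (Submodule.mem_torsionBySet_iff _ _).mpr fun a =>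
      LinearMap.ext fun x => by
        have hax : (a : R) • x ∈ K := Submodule.smul_mem_smul a.2 trivial
        change (a : R) • ψ (K.mkQ x) = 0
        rw [← map_smul, ← map_smul, show K.mkQ ((a : R) • x) = 0 from
          (Submodule.Quotient.mk_eq_zero K).mpr hax, map_zero]
  have hΦ : Function.Bijective Φ := by
    refine ⟨fun a b h => Submodule.linearMap_qext _ (congrArg Subtype.val h), fun φ => ?_⟩
    have hle : K ≤ LinearMap.ker (φ : M →ₗ[R] E) := Submodule.smul_le.mpr fun a ha x _ => by
      rw [LinearMap.mem_ker, map_smul, ← LinearMap.smul_apply,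
        (Submodule.mem_torsionBySet_iff _ _).mp φ.2 ⟨a, ha⟩, LinearMap.zero_apply]
    exact ⟨K.liftQ _ hle, Subtype.ext (Submodule.liftQ_mkQ K _ hle)⟩
  let K' : Submodule R (⊤ : Submodule R M) := m • ⊤
  have hK : K'.map (Submodule.topEquiv : (⊤ : Submodule R M) ≃ₗ[R] M).toLinearMap = K := by
    rw [Submodule.map_smul'', Submodule.map_top, LinearEquiv.range]
  let e := Submodule.Quotient.equiv K' K Submodule.topEquiv hK
  letI : Field (R ⧸ m) := Ideal.Quotient.field _
  have : Module.Finite R (⊤ : Submodule R M) := Module.Finite.equiv Submodule.topEquiv.symm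
  have : Module.Finite (R ⧸ m) (↥(⊤ : Submodule R M) ⧸ K') :=
    Module.Finite.of_restrictScalars_finite R _ _
  have hlen : Module.length R (M ⧸ K) = ((⊤ : Submodule R M).spanFinrank : ℕ∞) := by
    rw [IsLocalRing.spanFinrank_eq_finrank_quotient _ Module.Finite.fg_top, ← e.length_eq,
      Module.length_eq_of_surjective (R := R ⧸ m) (S := R) Ideal.Quotient.mk_surjective,
      Module.length_eq_finrank]
  have hfl : IsFiniteLength R (M ⧸ K) := Module.length_ne_top_iff.mp (by rw [hlen]; simp)
  rw [← hlen, ← InjHull.Matlis.length_dual hf hfl]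
  exact (LinearEquiv.ofBijective Φ hΦ).length_eq

end Groth.Agent.S17756
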