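import Groth.Statements.S17758
import Groth.Agent.LocCohSweep.HLVTConn

set_option autoImplicit false
universe u
open LocCoh

namespace Groth.Agent.S17758

/-- Let R be a complete Noetherian local domain of Krull dimension d with maximal ideal m, and I a
proper ideal of R of arithmetic rank at most d − 2: there are elements f_1, …, f_t with t + 2 ≤ d
such that I and (f_1, …, f_t) have the same radical. Then the punctured spectrum of R ⧸ I, viewed as
the set of prime ideals of R that contain I and differ from m, is a nonempty connected subset of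
Spec R. (Connectedness is taken here to include nonemptiness, so the unit ideal, whose punctured
spectrum is empty, is excluded; for a proper I nonemptiness is automatic, since otherwise I would be
m-primary and m would be minimal over an ideal generated by t ≤ d − 2 elements, against Krull's
height bound.) -/
theorem result (R : Type u) [CommRing R] [IsDomain R] [IsNoetherianRing R] [IsLocalRing R] [IsAdicComplete (IsLocalRing.maximalIdeal R) R] (d : ℕ) (hd : ringKrullDim R = d) (t : ℕ) (ht : t + 2 ≤ d) (f : Fin t → R) (I : Ideal R) (hItop : I ≠ ⊤) (hI : I.radical = (Ideal.span (Set.range f)).radical) : IsConnected {x : PrimeSpectrum R | I ≤ x.asIdeal ∧ x.asIdeal ≠ IsLocalRing.maximalIdeal R} := by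
  classical
  have hcd : LocCoh.CdLE R I (Finset.univ.image f).card := by
    refine LocCohSweep.HLVTConn.cdLE_congr ?_ (LocCoh.cdLE_span_finset _)
    rw [hI, Finset.coe_image, Finset.coe_univ, Set.image_univ]
  have hcard : (Finset.univ.image f).card ≤ t := Finset.card_image_le.trans (by simp)
  have hmain := LocCohSweep.HLVTConn.min_connDim_subdim_le_quotient I hItop _ hcd
  have hfin : topologicalKrullDim (PrimeSpectrum R) < ⊤ := by
    rw [PrimeSpectrum.topologicalKrullDim_eq_ringKrullDim, hd]
    exact WithBot.coe_lt_coe.mpr (ENat.natCast_lt_top d)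
  have hsub : LocCoh.subdim (PrimeSpectrum R) = d := by
    rw [LocCoh.subdim, irreducibleComponents_eq_singleton, iInf_singleton, LocCohSweep.ConnDim.dim_univ,
      PrimeSpectrum.topologicalKrullDim_eq_ringKrullDim, hd]
  rw [(LocCohSweep.ConnDim.subdim_facts hfin).2.mpr inferInstance, hsub] at hmain
  let emb := PrimeSpectrum.comap (Ideal.Quotient.mk I)
  have : Nontrivial (R ⧸ I) := Ideal.Quotient.nontrivial_iff.mpr hItop
  have : IsLocalRing (R ⧸ I) := IsLocalRing.of_surjective' _ Ideal.Quotient.mk_surjective
  have hcl : emb (IsLocalRing.closedPoint (R ⧸ I)) = IsLocalRing.closedPoint R :=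
    PrimeSpectrum.ext (IsLocalRing.eq_maximalIdeal
      (Ideal.comap_isMaximal_of_surjective (Ideal.Quotient.mk I) Ideal.Quotient.mk_surjective
        (K := IsLocalRing.maximalIdeal (R ⧸ I))))
  have hinj : Function.Injective emb :=
    PrimeSpectrum.comap_injective_of_surjective _ Ideal.Quotient.mk_surjective
  have himg : emb '' ({IsLocalRing.closedPoint (R ⧸ I)}ᶜ) =
      {x : PrimeSpectrum R | I ≤ x.asIdeal ∧ x.asIdeal ≠ IsLocalRing.maximalIdeal R} := by
    rw [Set.compl_eq_univ_sdiff, Set.image_sdiff hinj, Set.image_univ, Set.image_singleton, hcl]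
    rw [show Set.range emb = PrimeSpectrum.zeroLocus (I : Set R) from by
      show Set.range (PrimeSpectrum.comap (Ideal.Quotient.mk I)) = _
      rw [range_comap_of_surjective _ _ Ideal.Quotient.mk_surjective, Ideal.mk_ker]]
    ext x
    exact and_congr_right fun _ => not_congr ⟨fun h => congrArg PrimeSpectrum.asIdeal (Set.mem_singleton_iff.mp h),
      fun h => Set.mem_singleton_iff.mpr (PrimeSpectrum.ext h)⟩
  by_contra hnc
  have hle : LocCoh.connDim (PrimeSpectrum (R ⧸ I)) ≤ 0 := by
    refine (iInf₂_le (f := fun (Z : Set (PrimeSpectrum (R ⧸ I))) (_ : IsClosed Z ∧ ¬ IsConnected Zᶜ) =>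
      topologicalKrullDim ↥Z) {IsLocalRing.closedPoint (R ⧸ I)}
      ⟨IsLocalRing.isClosed_singleton_closedPoint _, fun h => hnc (himg ▸ h.image _
        (PrimeSpectrum.continuous_comap _).continuousOn)⟩).trans ?_
    have : Subsingleton (TopologicalSpace.IrreducibleCloseds ↥({IsLocalRing.closedPoint (R ⧸ I)} : Set _)) :=
      ⟨fun A B => TopologicalSpace.IrreducibleCloseds.ext ((Subsingleton.eq_univ_of_nonempty A.2.1).trans
        (Subsingleton.eq_univ_of_nonempty B.2.1).symm)⟩
    exact Order.krullDim_nonpos_of_subsingleton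
  have h3 : min ((d : WithBot ℕ∞) + 1) d ≤ 0 + (t : WithBot ℕ∞) + 1 :=
    hmain.trans (add_le_add (add_le_add hle (by exact_mod_cast hcard)) le_rfl)
  rw [min_eq_right (by exact_mod_cast Nat.le_succ d)] at h3
  have : d ≤ 0 + t + 1 := by exact_mod_cast h3
  omega

end Groth.Agent.S17758
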