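import Groth.Statements.S5158
import Groth.Agent.InjHull.Matlis
import Mathlib.Algebra.Module.SpanRankOperations
import Mathlib.RingTheory.AdicCompletion.AsTensorProduct
import Mathlib.RingTheory.Flat.FaithfullyFlat.Algebra

set_option autoImplicit false
universe u
open scoped TensorProduct
open Matlis

namespace Groth.Agent.S5158

open scoped TensorProduct

/-- Let A be a Noetherian local ring, Â its m-adic completion and I an m-power torsion A-module (a union
of submodules of finite length). Then x ↦ 1 ⊗ x is a bijection I → Â ⊗_A I. -/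
theorem result (A : Type u) [CommRing A] [IsLocalRing A] [IsNoetherianRing A] (I : Type u) [AddCommGroup I] [Module A I] (hI : LocCoh.IsPowerTorsion (IsLocalRing.maximalIdeal A) I) : Function.Bijective (TensorProduct.mk A (AdicCompletion (IsLocalRing.maximalIdeal A) A) I 1) := by
  set m := IsLocalRing.maximalIdeal A
  set C := AdicCompletion m A
  have : Module.FaithfullyFlat A C := Module.FaithfullyFlat.of_flat_of_isLocalHom
  refine ⟨Module.FaithfullyFlat.tensorProduct_mk_injective I, fun z => ?_⟩
  induction z using TensorProduct.induction_on with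
  | zero => exact ⟨0, map_zero _⟩
  | add a b ha hb =>
    obtain ⟨x, rfl⟩ := ha
    obtain ⟨y, rfl⟩ := hb
    exact ⟨x + y, map_add _ _ _⟩
  | tmul c x =>
    obtain ⟨n, hn⟩ := hI x
    obtain ⟨r, hr⟩ := Ideal.Quotient.mk_surjective (AdicCompletion.evalₐ m n c)
    have hmem : c - algebraMap A C r ∈ m ^ n • (⊤ : Submodule A C) := by
      rw [AdicCompletion.pow_smul_top_eq_ker_eval (IsNoetherian.noetherian m), LinearMap.mem_ker,
        map_sub, sub_eq_zero]
      have h : (m ^ n • ⊤ : Ideal A) = m ^ n := by ext y; simp
      apply (Ideal.quotientEquivAlgOfEq A h).injective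
      change AdicCompletion.evalₐ m n c = AdicCompletion.evalₐ m n (algebraMap A C r)
      rw [AlgHom.commutes]; exact hr.symm
    refine ⟨r • x, ?_⟩
    have hz : ∀ y ∈ m ^ n • (⊤ : Submodule A C), y ⊗ₜ[A] x = 0 := fun y hy => by
      refine Submodule.smul_induction_on hy (fun b hb d _ => ?_) (fun u v hu hv => ?_)
      · rw [TensorProduct.smul_tmul, hn b hb, TensorProduct.tmul_zero]
      · rw [TensorProduct.add_tmul, hu, hv, add_zero]
    have := hz _ hmem
    rw [TensorProduct.sub_tmul, sub_eq_zero] at this
    rw [this, TensorProduct.mk_apply, ← TensorProduct.smul_tmul, Algebra.algebraMap_eq_smul_one]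

end Groth.Agent.S5158
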