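import Groth.Statements.S17760
import Groth.Agent.LocCohSweep.TopSupport
import Groth.Agent.S5158
import Groth.Agent.OldExt.Compare
import Groth.Agent.Dim.LocalHom
import Groth.Agent.LocCoh.BaseChangeIso

set_option autoImplicit false
universe u
open CategoryTheory Opposite
open LocCoh

namespace Groth.Agent.S17760

open scoped TensorProduct in
/-- The top local cohomology module is killed, in a twisted sense, by an `m`-primary ideal modulo `I`. -/
theorem exists_pow_mem {R : Type u} [CommRing R] [IsNoetherianRing R] [IsLocalRing R] (I : Ideal R)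
    (M : Type u) [AddCommGroup M] [Module R M] [Module.Finite R M] (n : ℕ)
    (hn : Module.supportDim R M = n) :
    ∃ k : ℕ, ∀ a ∈ IsLocalRing.maximalIdeal R ^ k,
      a • (1 : Module.End R (LocCoh.H I n M)) ∈ I • (⊤ : Submodule R (Module.End R (LocCoh.H I n M))) := by
  let Rh := AdicCompletion (IsLocalRing.maximalIdeal R) R
  let H := LocCoh.H I n M
  have : IsNoetherianRing Rh := RegLoc.Completion.isNoetherianRing_adicCompletion' _
  have : Module.FaithfullyFlat R Rh := Module.FaithfullyFlat.of_flat_of_isLocalHom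
  have : IsAdicComplete (IsLocalRing.maximalIdeal Rh) Rh := by
    rw [AdicCompletion.maximalIdeal_eq_map, IsAdicComplete.map_algebraMap_iff]
    exact AdicCompletion.isAdicComplete (IsNoetherian.noetherian _)
  have : IsArtinian R H := LocCoh.isArtinian_H_supportDim I n (ModuleCat.of R M) hn.le
  have htor : LocCoh.IsPowerTorsion (IsLocalRing.maximalIdeal R) H := fun z => by
    let S : ℕ →o (Submodule R H)ᵒᵈ := ⟨fun j => OrderDual.toDual
      (IsLocalRing.maximalIdeal R ^ j • Submodule.span R {z}),
      fun a b hab => Submodule.smul_mono_left (Ideal.pow_le_pow_right hab)⟩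
    obtain ⟨j, hj⟩ := IsArtinian.monotone_stabilizes S
    have hfg : (IsLocalRing.maximalIdeal R ^ j • Submodule.span R {z}).FG :=
      Submodule.FG.smul (IsNoetherian.noetherian (IsLocalRing.maximalIdeal R ^ j : Ideal R))
        (Submodule.fg_span_singleton z)
    have h0 : IsLocalRing.maximalIdeal R ^ j • Submodule.span R {z} = ⊥ := by
      refine Submodule.eq_bot_of_le_smul_of_le_jacobson_bot (IsLocalRing.maximalIdeal R) _ hfg
        (le_of_eq ?_) (IsLocalRing.maximalIdeal_le_jacobson ⊥)
      rw [← Submodule.mul_smul, ← pow_succ']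
      exact hj (j + 1) j.le_succ
    exact ⟨j, fun a ha => (Submodule.mem_bot R).mp (h0 ▸ Submodule.smul_mem_smul ha
      (Submodule.mem_span_singleton_self z))⟩
  have hnt : Nontrivial M := by
    by_contra h
    have := not_nontrivial_iff_subsingleton.mp h
    rw [Module.supportDim_eq_bot_of_subsingleton] at hn
    exact WithBot.bot_ne_coe hn
  have hdim : Module.supportDim Rh (Rh ⊗[R] M) ≤ n := by
    rw [Dim.supportDim_tensor_eq_add R Rh M Rh, hn]
    have h0 : (IsLocalRing.maximalIdeal R).map (algebraMap R Rh) • (⊤ : Submodule Rh Rh) =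
        IsLocalRing.maximalIdeal Rh := by
      rw [smul_eq_mul, Ideal.mul_top, AdicCompletion.maximalIdeal_eq_map]
    rw [Module.supportDim_eq_of_equiv (Submodule.quotEquivOfEq _ _ h0),
      Module.supportDim_quotient_eq_ringKrullDim,
      ringKrullDim_eq_zero_of_isField ((Ideal.Quotient.maximal_ideal_iff_isField_quotient _).mp
        (IsLocalRing.maximalIdeal.isMaximal Rh)), add_zero]
  obtain ⟨J, hJ, hJ'⟩ := LocCohSweep.TopSupport.exists_annihilating (I.map (algebraMap R Rh)) n
    (Rh ⊗[R] M) hdim
  obtain ⟨φ⟩ := LocCoh.BaseChangeIso.nonempty_H_tensor (B := Rh) I n (ModuleCat.of R M)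
  let e : H ≃ₗ[R] Rh ⊗[R] H :=
    LinearEquiv.ofBijective (TensorProduct.mk R Rh H 1) (S5158.result R H htor)
  let act : Rh →ₗ[R] Module.End R H :=
    { toFun := fun r => e.symm.toLinearMap ∘ₗ (LinearMap.lsmul Rh (Rh ⊗[R] H) r).restrictScalars R ∘ₗ e.toLinearMap
      map_add' := fun r s => by ext z; simp [add_smul]
      map_smul' := fun c r => by ext z; simp [smul_assoc] }
  have hact1 : act 1 = 1 := by ext z; simp [act]
  have hJ0 : ∀ j ∈ J, act j = 0 := fun j hj => LinearMap.ext fun z => by
    show e.symm (j • e z) = 0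
    rw [show j • e z = 0 from φ.injective (by rw [map_smul, map_zero]; exact hJ' j hj _), map_zero]
  obtain ⟨k, hk⟩ := Ideal.exists_pow_le_of_le_radical_of_fg hJ (IsNoetherian.noetherian _)
  refine ⟨k, fun a ha => ?_⟩
  have hmem : algebraMap R Rh a ∈ I.map (algebraMap R Rh) ⊔ J := by
    refine hk ?_
    rw [AdicCompletion.maximalIdeal_eq_map, ← Ideal.map_pow]
    exact Ideal.mem_map_of_mem _ ha
  obtain ⟨c, hc, j, hj, hcj⟩ := Submodule.mem_sup.mp hmem
  have heq : a • (1 : Module.End R H) = act c := by
    rw [← hact1, ← map_smul, Algebra.smul_def, mul_one, ← hcj, map_add, hJ0 j hj, add_zero]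
  rw [heq]
  have key : c ∈ Submodule.comap act (I • ⊤) := by
    have hle : (I • ⊤ : Submodule R Rh) ≤ Submodule.comap act (I • ⊤) := by
      rw [← Submodule.map_le_iff_le_comap, Submodule.map_smul'']
      exact Submodule.smul_mono le_rfl le_top
    refine hle ?_
    rw [Ideal.smul_top_eq_map]
    exact hc
  exact key

theorem isArtinian_ext {R : Type u} [CommRing R] [IsNoetherianRing R] (H : Type u) [AddCommGroup H]
    [Module R H] [IsArtinian R H] : ∀ (i : ℕ) (N : Type u) [AddCommGroup N] [Module R N] [Module.Finite R N],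
      IsArtinian R (Abelian.Ext (ModuleCat.of R N) (ModuleCat.of R H) i) := by
  intro i
  induction i with
  | zero =>
    intro N _ _ hN
    obtain ⟨m, π, hπ⟩ := Module.Finite.exists_fin' R N
    let ev : (N →ₗ[R] H) →ₗ[R] (Fin m → H) := LinearMap.pi fun j => LinearMap.applyₗ (π (Pi.single j 1))
    have hev : Function.Injective ev := fun g g' h => by
      refine LinearMap.ext fun x => ?_
      obtain ⟨x, rfl⟩ := hπ x
      exact LinearMap.congr_fun (LinearMap.pi_ext' (φ := fun _ : Fin m => R) (f := g ∘ₗ π) (g := g' ∘ₗ π)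
        fun j => LinearMap.ext_ring (congrFun h j)) x
    let toHom : Abelian.Ext (ModuleCat.of R N) (ModuleCat.of R H) 0 →ₗ[R] (N →ₗ[R] H) :=
      (ModuleCat.homLinearEquiv (S := R)).toLinearMap ∘ₗ
        (Abelian.Ext.linearEquiv₀ (R := R)).toLinearMap
    exact isArtinian_of_injective (ev ∘ₗ toHom)
      (hev.comp ((ModuleCat.homLinearEquiv (S := R)).injective.comp (Abelian.Ext.linearEquiv₀ (R := R)).injective))
  | succ i ih =>
    intro N _ _ hN
    obtain ⟨m, π, hπ⟩ := Module.Finite.exists_fin' R N
    let S : ShortComplex (ModuleCat.{u} R) := ShortComplex.mk (ModuleCat.ofHom (LinearMap.ker π).subtype)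
      (ModuleCat.ofHom π) (ModuleCat.hom_ext (LinearMap.ext fun x => x.2))
    have hS : S.ShortExact :=
      { exact := (ShortComplex.ShortExact.moduleCat_exact_iff_function_exact _).mpr
          (LinearMap.exact_subtype_ker_map π)
        mono_f := (ModuleCat.mono_iff_injective _).mpr (Submodule.injective_subtype _)
        epi_g := (ModuleCat.epi_iff_surjective _).mpr hπ }
    have : Projective S.X₂ := (ModuleCat.of R (Fin m → R)).projective_of_categoryTheory_projective
    have hK : IsArtinian R (Abelian.Ext S.X₁ (ModuleCat.of R H) i) := ih (LinearMap.ker π)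
    let d : Abelian.Ext S.X₁ (ModuleCat.of R H) i →ₗ[R] Abelian.Ext S.X₃ (ModuleCat.of R H) (i + 1) :=
      hS.extClass.precompOfLinear R (ModuleCat.of R H) (add_comm 1 i)
    have hd : Function.Surjective d := fun x =>
      Abelian.Ext.contravariant_sequence_exact₃ hS (ModuleCat.of R H) x
        (Abelian.Ext.eq_zero_of_projective _) (add_comm 1 i)
    exact isArtinian_of_surjective _ d hd

/-- Let R be a Noetherian local ring, I an ideal of R and M a finitely generated R-module whose support
has dimension n. Then for every i ≥ 0 the R-module Ext^i_R(R ⧸ I, H^n_I(M)) has finite length; in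
particular the top local cohomology module H^n_I(M) is I-cofinite. -/
theorem result (R : Type u) [CommRing R] [IsNoetherianRing R] [IsLocalRing R] (I : Ideal R) (M : Type u) [AddCommGroup M] [Module R M] [Module.Finite R M] (n : ℕ) (hn : Module.supportDim R M = n) (i : ℕ) : IsFiniteLength R (((Ext R (ModuleCat.{u} R) i).obj (op (ModuleCat.of R (R ⧸ I)))).obj (ModuleCat.of R (LocCoh.H I n M))) := by
  let H := LocCoh.H I n M
  have : IsArtinian R H := LocCoh.isArtinian_H_supportDim I n (ModuleCat.of R M) hn.le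
  suffices h : IsFiniteLength R (Abelian.Ext (ModuleCat.of R (R ⧸ I)) (ModuleCat.of R H) i) from
    (OldExt.oldExtEquiv R (ModuleCat.of R (R ⧸ I)) (ModuleCat.of R H) i).symm.isFiniteLength h
  have hart := isArtinian_ext (R := R) H i (R ⧸ I)
  obtain ⟨k, hk⟩ := exists_pow_mem I M n hn
  have hkill : ∀ a ∈ IsLocalRing.maximalIdeal R ^ k,
      ∀ x : Abelian.Ext (ModuleCat.of R (R ⧸ I)) (ModuleCat.of R H) i, a • x = 0 := by
    intro a ha x
    have hI0 : ∀ c ∈ I, c • x = 0 := fun c hc => by
      have h0 : c • 𝟙 (ModuleCat.of R (R ⧸ I)) = 0 := by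
        refine ModuleCat.hom_ext (LinearMap.ext fun y => ?_)
        obtain ⟨y, rfl⟩ := Ideal.Quotient.mk_surjective y
        exact Ideal.Quotient.eq_zero_iff_mem.mpr (I.mul_mem_right y hc)
      have : c • x = (Abelian.Ext.mk₀ (c • 𝟙 (ModuleCat.of R (R ⧸ I)))).comp x (zero_add i) := by
        simp [Abelian.Ext.mk₀_smul]
      rw [this, h0]
      simp
    have key : ∀ g ∈ I • (⊤ : Submodule R (Module.End R H)),
        x.comp (Abelian.Ext.mk₀ (ModuleCat.ofHom g)) (add_zero i) = 0 := by
      intro g hg
      refine Submodule.smul_induction_on hg (fun c hc g _ => ?_) fun g g' hg hg' => ?_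
      · rw [show ModuleCat.ofHom (c • g : H →ₗ[R] H) = c • ModuleCat.ofHom g from rfl,
          Abelian.Ext.mk₀_smul, Abelian.Ext.comp_smul, ← Abelian.Ext.smul_comp, hI0 c hc, Abelian.Ext.zero_comp]
      · rw [show ModuleCat.ofHom (g + g' : H →ₗ[R] H) = ModuleCat.ofHom g + ModuleCat.ofHom g' from rfl,
          Abelian.Ext.mk₀_add, Abelian.Ext.comp_add, hg, hg', add_zero]
    rw [Abelian.Ext.smul_eq_comp_mk₀]
    exact key _ (hk a ha)
  have : IsNoetherian R (Abelian.Ext (ModuleCat.of R (R ⧸ I)) (ModuleCat.of R H) i) :=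
    have := (LocCoh.finite_iff_isArtinian_of_pow_smul_eq_zero k hkill).mpr hart
    inferInstance
  exact isFiniteLength_iff_isNoetherian_isArtinian.mpr ⟨this, hart⟩

end Groth.Agent.S17760
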