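import Groth.Statements.S17764


set_option autoImplicit false
universe u
open InjHull

namespace Groth.Agent.S17764

/-- Let R be a commutative ring and M an R-module which is torsion-free (no nonzero element of R kills a
nonzero element of M) and divisible (multiplication by every nonzero element of R is surjective on
M). Then M is an injective R-module. (Over a ring with zero divisors the two hypotheses force M =
0.) -/
theorem result (R : Type u) [CommRing R] (M : Type u) [AddCommGroup M] [Module R M] [NoZeroSMulDivisors R M] (hdiv : ∀ r : R, r ≠ 0 → Function.Surjective (fun m : M => r • m)) : Module.Injective R M := by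
  apply Module.Baer.injective
  intro I g
  by_cases hI : I = ⊥
  · exact ⟨0, fun x hx => by
      have : x = 0 := by simpa [hI] using hx
      subst this
      exact (map_zero g).symm⟩
  · obtain ⟨a, ha, ha0⟩ := Submodule.exists_mem_ne_zero_of_ne_bot hI
    obtain ⟨y, hy⟩ := hdiv a ha0 (g ⟨a, ha⟩)
    simp only at hy
    refine ⟨LinearMap.toSpanSingleton R M y, fun x hx => ?_⟩
    have h1 : a • g ⟨x, hx⟩ = x • g ⟨a, ha⟩ := by
      rw [← map_smul, ← map_smul]
      exact congrArg g (Subtype.ext (mul_comm a x))
    rw [← hy, smul_comm x] at h1
    rw [LinearMap.toSpanSingleton_apply]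
    have h2 : a • (g ⟨x, hx⟩ - x • y) = 0 := by rw [smul_sub, h1, sub_self]
    exact (sub_eq_zero.mp ((NoZeroSMulDivisors.eq_zero_or_eq_zero_of_smul_eq_zero h2).resolve_left ha0)).symm

end Groth.Agent.S17764
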