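import Groth.Statements.S17765
import Groth.Agent.LocCoh.KillLocal

set_option autoImplicit false
universe u
open CategoryTheory
open LocCoh

namespace Groth.Agent.S17765

/-- Let B be a regular local ring, M a finitely generated B-module and p an associated prime ideal of M.
Then the height of p is at most the projective dimension of M: for every n such that M has
projective dimension at most n, ht p ≤ n. -/
theorem result (B : Type u) [CommRing B] [IsRegularLocalRing B] (M : Type u) [AddCommGroup M] [Module B M] [Module.Finite B M] (p : Ideal B) (hp : p ∈ associatedPrimes B M) (n : ℕ) (hn : HasProjectiveDimensionLE (ModuleCat.of B M) n) : p.height ≤ n := by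
  haveI : p.IsPrime := hp.1
  haveI : IsRegularRing B := RegLoc.Homological.isRegularRing
  obtain ⟨q, hq⟩ := ENat.ne_top_iff_exists.mp (Ideal.height_ne_top_of_isPrime (I := p))
  have h1 : HasProjectiveDimensionLE
      (ModuleCat.of (Localization.AtPrime p) (LocalizedModule p.primeCompl M)) n :=
    RegLoc.PD.pd_congr
      ((IsLocalizedModule.isBaseChange p.primeCompl (Localization.AtPrime p)
        (LocalizedModule.mkLinearMap p.primeCompl M)).equiv) n
      (RegLoc.PD.pd_baseChange_of_flat (Localization.AtPrime p) n M hn)
  have h2 := (LocCoh.KillLocal.pd_le_iff_depth p M hq.symm n).2 h1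
  have hd : LocCoh.depth (Localization.AtPrime p) (LocalizedModule p.primeCompl M) = 0 := by
    rw [LocCoh.depth, Depth.idealDepth_eq_zero_iff]
    exact ⟨_, Module.associatedPrimes.mem_associatedPrimes_atPrime_of_mem_associatedPrimes hp, le_rfl⟩
  rw [hd, nonpos_iff_eq_zero, Nat.cast_eq_zero] at h2
  rw [← hq, Nat.cast_le]
  omega

end Groth.Agent.S17765
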