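import Groth.Statements.S17766
import Groth.Agent.LocCohSweep.CMCanonical
import Groth.Agent.LocCohSweep.HLVTConn
import Groth.Agent.DualCx.LocalGlobal
import Groth.Agent.DualCx.Gorenstein
import Groth.Agent.DRing.PCTools
import Groth.Agent.LiaisonGr.Local
import Groth.Agent.S0342

set_option autoImplicit false
universe u
open CategoryTheory Opposite
open LocCoh

open Groth.Agent
namespace Groth.Agent.S17766

/-- Let B be a regular local ring, p a prime ideal of B of height r, and suppose that A = B ⧸ p is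
Cohen–Macaulay. Then the B-module Ext^r_B(A, B) is isomorphic either to A itself or to a proper
ideal I of A which is unmixed of height one, i.e. every associated prime of A ⧸ I has height one in
A (existence of a B-linear isomorphism in each case). -/
theorem result (B : Type u) [CommRing B] [IsRegularLocalRing B] (p : Ideal B) [p.IsPrime] [LocCoh.IsCohenMacaulayLocalRing (B ⧸ p)] (r : ℕ) (hr : p.height = r) : Nonempty (((Ext B (ModuleCat.{u} B) r).obj (op (ModuleCat.of B (B ⧸ p)))).obj (ModuleCat.of B B) ≃ₗ[B] (B ⧸ p)) ∨ ∃ I : Ideal (B ⧸ p), I ≠ ⊤ ∧ (∀ q ∈ associatedPrimes (B ⧸ p) ((B ⧸ p) ⧸ I), q.height = 1) ∧ Nonempty (((Ext B (ModuleCat.{u} B) r).obj (op (ModuleCat.of B (B ⧸ p)))).obj (ModuleCat.of B B) ≃ₗ[B] I) := by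
  have := S0342.result B
  have hpne : p ≠ ⊤ := Ideal.IsPrime.ne_top inferInstance
  have hCB : LocCoh.IsCohenMacaulayLocalRing B := Depth.isCohenMacaulayLocalRing_of_isRegularLocalRing
  have hcm : LocCoh.IsCohenMacaulayModule B (B ⧸ p) :=
    (Depth.isCohenMacaulayModule_iff_of_surjective (R := B) (S := B ⧸ p) Ideal.Quotient.mk_surjective).mp
      (Depth.isCohenMacaulayModule_self (B ⧸ p))
  obtain ⟨N, hN⟩ : ∃ N : ℕ, ringKrullDim (B ⧸ p) = N := LocCohSweep.HLVTConn.exists_dim_eq hpne
  have hr' : ringKrullDim B = ((N + r : ℕ) : WithBot ℕ∞) := by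
    rw [LiaisonGr.dim_add_height hpne, hN, hr]
    push_cast
    rfl
  have hI' : Dual.IsDualizing B (Dual.inD B B) :=
    DualCx.Gorenstein.isDualizing_of_isGorensteinLocalRing
  obtain ⟨n, hn⟩ := DualCx.Normalized.exists_isNormalized hI'
  have hω := DualCx.Normalized.isDualizing_shift hI' n
  obtain rfl : n = ((N + r : ℕ) : ℤ) := by
    have hd' : Module.supportDim B B = ((N + r : ℕ) : WithBot ℕ∞) :=
      (Module.supportDim_self_eq_ringKrullDim (R := B)).trans hr'
    have h1 := DualCx.LocalGlobal.nontrivial_E_neg_supportDim hω hn B (N + r) hd'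
    by_contra hne
    have : Subsingleton (Dual.HD B (Dual.inD B B) (n + -((N + r : ℕ) : ℤ))) :=
      DRing.PC.subsingleton_HD_inD B B _ (by omega)
    exact not_subsingleton (DualCx.Devissage.E B ((Dual.inD B B)⟦n⟧) (-((N + r : ℕ) : ℤ)))
      ((DualCx.Normalized.shiftE B _ n _ _ rfl).trans
        (DualCx.Cx.homUnitEquivShift _ _)).toEquiv.subsingleton
  let e1 := (OldExt.oldExtEquiv B (ModuleCat.of B (B ⧸ p)) (ModuleCat.of B B) r).trans
    ((show Abelian.Ext.{u} (ModuleCat.of B (B ⧸ p)) (ModuleCat.of B B) r ≃ₗ[B]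
        DualCx.Devissage.E (B ⧸ p) (Dual.inD B B) ((r : ℕ) : ℤ) from
      letI := HasDerivedCategory.standard (ModuleCat.{u} B)
      Abelian.Ext.homLinearEquiv).trans
      (DualCx.Normalized.shiftE (A := B) (B ⧸ p) (Dual.inD B B) ((N + r : ℕ) : ℤ) (-(N : ℤ)) (r : ℤ)
        (by omega)).symm)
  obtain ⟨ι, hι, hq⟩ := LocCohSweep.CMCanonical.exists_ideal hω hn p hcm hN
  let ι' := ι.comp e1.toLinearMap
  have hι' : Function.Injective ι' := hι.comp e1.injective
  let I : Ideal (B ⧸ p) :=
    { (LinearMap.range ι).toAddSubmonoid with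
      smul_mem' := fun c x hx => by
        obtain ⟨c, rfl⟩ := Ideal.Quotient.mk_surjective c
        exact (LinearMap.range ι).smul_mem c hx }
  have hmemI : ∀ x, x ∈ I ↔ x ∈ LinearMap.range ι' := fun x => by
    change x ∈ LinearMap.range ι ↔ _
    rw [show LinearMap.range ι' = LinearMap.range ι from LinearMap.range_comp_of_range_eq_top _ e1.range]
  by_cases hI : I = ⊤
  · refine Or.inl ⟨LinearEquiv.ofBijective ι' ⟨hι', fun y => (hmemI y).mp (hI ▸ Submodule.mem_top)⟩⟩
  · refine Or.inr ⟨I, hI, fun Q hQ => ?_, ⟨(LinearEquiv.ofInjective ι' hι').trans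
      (LinearEquiv.ofEq _ (I.restrictScalars B) (Submodule.ext fun x => (hmemI x).symm))⟩⟩
    obtain ⟨hQp, y, hy⟩ := isAssociatedPrime_iff.mp hQ
    obtain ⟨y, rfl⟩ := Ideal.Quotient.mk_surjective y
    let q := Q.comap (Ideal.Quotient.mk p)
    have hpq : p ≤ q := fun a ha => by
      rw [Ideal.mem_comap, Ideal.Quotient.eq_zero_iff_mem.mpr ha]
      exact Q.zero_mem
    have key := hq q inferInstance hpq y fun c => by
      rw [Ideal.mem_comap, hy, Submodule.mem_colon_singleton, Submodule.mem_bot]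
      exact Ideal.Quotient.eq_zero_iff_mem
    have e2 : (B ⧸ q) ≃+* ((B ⧸ p) ⧸ Q) := (Ideal.quotEquivOfEq
        (show q = RingHom.ker ((Ideal.Quotient.mk Q).comp (Ideal.Quotient.mk p)) by
          rw [← RingHom.comap_ker, Ideal.mk_ker])).trans
      (RingHom.quotientKerEquivOfSurjective (Ideal.Quotient.mk_surjective.comp Ideal.Quotient.mk_surjective))
    have h2 := LiaisonGr.dim_add_height (A := B ⧸ p) (L := Q) hQp.ne_top
    rw [hN, ← ringKrullDim_eq_of_ringEquiv e2] at h2
    obtain ⟨d, hd⟩ := LocCohSweep.HLVTConn.exists_dim_eq (I := q) (Ideal.IsPrime.ne_top inferInstance)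
    rw [hd] at key h2
    have hd1 : d + 1 = N := by exact_mod_cast key
    obtain ⟨h, hh⟩ : ∃ h : ℕ, Q.height = h :=
      ⟨_, (ENat.natCast_toNat (Ideal.height_ne_top hQp.ne_top)).symm⟩
    rw [hh] at h2 ⊢
    have : N = d + h := by exact_mod_cast h2
    exact_mod_cast (by omega : h = 1)

end Groth.Agent.S17766
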