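import Groth.Statements.S17768
import Groth.Agent.GrLC.Vanish
import Groth.Agent.LocCoh.Torsion

set_option autoImplicit false
universe u
open GrLC

namespace Groth.Agent.S17768

/-- Let R = ⊕_{n ≥ 0} R_n be a Noetherian positively ℤ-graded ring which is *local with unique
homogeneous maximal ideal m (equivalently R_0 is local), and let M be a finitely generated graded
R-module. Then for every i and every n the homogeneous piece H^i_m(M)_n of the graded local
cohomology with support in m, computed from any *injective resolution of M in the graded category,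
is an Artinian R_0-module. -/
theorem result (R : Type u) [CommRing R] [IsNoetherianRing R] (𝒜 : ℤ → AddSubgroup R) [GradedRing 𝒜] (hpos : ∀ n : ℤ, n < 0 → 𝒜 n = ⊥) (m : HomogeneousIdeal 𝒜) (hm : GrLC.IsStarLocal 𝒜 m) (M : Type u) [AddCommGroup M] [Module R M] [Module.Finite R M] (ℳ : ℤ → AddSubgroup M) [DirectSum.Decomposition ℳ] [SetLike.GradedSMul 𝒜 ℳ] (E : GrLC.StarInjRes 𝒜 ℳ) (i : ℕ) (n : ℤ) : IsArtinian (GrLC.deg0 𝒜) (E.Hcomp m i n) := by
  have hp : ∀ n : ℤ, n < 0 → ∀ x ∈ 𝒜 n, x = 0 := fun n hn x hx => by rw [hpos n hn] at hx; exact hx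
  obtain ⟨hirr, hmax⟩ := Groth.Agent.GrLC.starLocal_spec hp m hm
  haveI := hmax
  haveI := Groth.Agent.GrLC.isNoetherianRing_deg0 𝒜
  have hQ : Groth.Agent.GrLC.LC.PieceClass m (fun H _ _ => IsArtinian (GrLC.deg0 𝒜) H) := {
    zero := fun H _ _ _ => inferInstance
    sub := fun H H' _ _ _ _ f hf h => isArtinian_of_injective f hf
    quot := fun H H' _ _ _ _ f hf h => isArtinian_of_surjective _ f hf
    ext := fun H _ _ K hK hQK => (isArtinian_iff_submodule_quotient K).2 ⟨hK, hQK⟩
    torsion := fun X hX htor n => by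
      haveI := hX
      haveI := Groth.Agent.GrLC.finite_comp hp X.gr n
      obtain ⟨k, hk⟩ := Groth.Agent.GrLC.exists_pow_annihilates_gam (N := X.carrier) m.toIdeal
      refine Groth.Agent.GrLC.isArtinian_of_pow_maximal (m.toIdeal.comap (GrLC.deg0 𝒜).subtype) k _
        fun r hr y => Subtype.ext ?_
      exact hk y.1 (htor y.1) r (Ideal.le_comap_pow _ k hr)
    crit := fun x hx H _ _ htor hker => by
      refine Groth.Agent.LocCoh.isArtinian_of_isArtinian_torsionBy_singleton x htor ?_
      have e : Submodule.torsionBy (GrLC.deg0 𝒜) H x =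
          LinearMap.ker (x • (LinearMap.id : H →ₗ[GrLC.deg0 𝒜] H)) := by
        ext y; simp
      rw [e]
      exact hker }
  haveI : IsArtinian (GrLC.deg0 𝒜) (Groth.Agent.GrLC.LC.comp m i ℳ n) :=
    Groth.Agent.GrLC.LC.comp_of_class hp m hirr hQ (GrLC.GMod.of 𝒜 M ℳ)
      (inferInstanceAs (Module.Finite R M)) i n
  exact isArtinian_of_linearEquiv (Groth.Agent.GrLC.LC.compEquiv (ℳ := ℳ) m i E n).symm

end Groth.Agent.S17768
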