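import Groth.Statements.S1777
import Groth.Agent.DualCx.Extended
import Mathlib.RingTheory.LocalRing.RingHom.Basic

set_option autoImplicit false
universe u
open CategoryTheory
attribute [local instance] HasDerivedCategory.standard
open Dual

namespace Groth.Agent.S1777

/-- Let A → B be a flat local homomorphism of Noetherian local rings with m_A B = m_B and ω a normalized
dualizing complex for A. Assuming the derived base change functor D(A) → D(B) exists, the base
change of ω is a normalized dualizing complex for B. -/
theorem result (A B : Type u) [CommRing A] [CommRing B] [IsLocalRing A] [IsLocalRing B] [Algebra A B] [IsLocalHom (algebraMap A B)] [IsNoetherianRing A] [IsNoetherianRing B] [Module.Flat A B] (hm : (IsLocalRing.maximalIdeal A).map (algebraMap A B) = IsLocalRing.maximalIdeal B) [DRing.HasLBaseChange (algebraMap A B)] (ω : Dual.D A) (hω : Dual.IsDualizing A ω) (hn : Dual.IsNormalized A ω) : Dual.IsDualizing B ((DRing.LBaseChange (algebraMap A B)).obj ω) ∧ Dual.IsNormalized B ((DRing.LBaseChange (algebraMap A B)).obj ω) := by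
  have hext : ∀ m : Ideal B, m.IsMaximal →
      (m.comap (algebraMap A B)).map (algebraMap A B) = m := by
    intro m hm'
    obtain rfl := IsLocalRing.eq_maximalIdeal hm'
    rwa [show (IsLocalRing.maximalIdeal B).comap (algebraMap A B) = IsLocalRing.maximalIdeal A from
      IsLocalRing.maximalIdeal_comap _]
  refine ⟨Groth.Agent.DualCx.Extended.isDualizing_LBaseChange hω hext, fun i hi => ?_⟩
  obtain ⟨a, b, hc⟩ := Groth.Agent.DualCx.Residue.exists_cohomology_bounds hω
  have : ω.IsGE a := (DerivedCategory.isGE_iff ω a).mpr fun j hj =>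
    (Groth.Agent.DRing.DBasic.subsingleton_HD_iff_isZero ω j).mp (hc j (Or.inl hj))
  obtain ⟨e⟩ := Groth.Agent.DualCx.FlatBC.nonempty_quotient (B := B) (IsLocalRing.maximalIdeal A)
  obtain ⟨eL⟩ := Groth.Agent.DualCx.FlatBC.nonempty_LBaseChange (B := B) ω
  have h : Subsingleton (Dual.inD B (IsLocalRing.ResidueField B) ⟶
      ((Groth.Agent.DualCx.BaseChange.FD A B).obj ω)⟦i⟧) :=
    Groth.Agent.DualCx.FlatBC.subsingleton_of_base ω a _ _
    (e.trans (Submodule.quotEquivOfEq _ _ hm)) i (hn i hi)
  exact (Groth.Agent.DualCx.Hom.congr B (Iso.refl _)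
    ((shiftFunctor (Dual.D B) i).mapIso eL)).toEquiv.subsingleton

end Groth.Agent.S1777
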