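import Groth.Statements.S17771
import Groth.Agent.GrLC.StandardCM
import Groth.Agent.GrSyz.Regularity
-- import your own Groth.Agent.* helpers here

set_option autoImplicit false
set_option maxRecDepth 20000
universe u
open GrLC

namespace Groth.Agent.S17771

/-- Let R = ⊕_{n ≥ 0} R_n be a positively ℤ-graded ring which is standard graded (irrelevant ideal
generated by R_1), with R_0 Artinian, *local with unique homogeneous maximal ideal m, and
Cohen–Macaulay of Krull dimension d. Then the a-invariant of R is at least −d: the end (largest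
nonzero degree) of the graded local cohomology module H^d_m(R), computed from any *injective
resolution of R in the graded category, is ≥ −d. (Equality holds exactly for polynomial rings
R_0[T_1, …, T_d]; that characterisation is not part of this statement.) -/
theorem result (R : Type u) [CommRing R] [LocCoh.IsCohenMacaulayRing R] (𝒜 : ℤ → AddSubgroup R) [GradedRing 𝒜] (hpos : ∀ n : ℤ, n < 0 → 𝒜 n = ⊥) (hstd : Ideal.span (⋃ n ∈ Set.Ioi (0 : ℤ), (𝒜 n : Set R)) = Ideal.span ((𝒜 1 : AddSubgroup R) : Set R)) [IsArtinianRing (GrLC.deg0 𝒜)] (m : HomogeneousIdeal 𝒜) (hm : GrLC.IsStarLocal 𝒜 m) (d : ℕ) (hd : ringKrullDim R = d) (I : GrLC.StarInjRes 𝒜 𝒜) : (((-(d : ℤ) : ℤ) : WithTop ℤ) : WithBot (WithTop ℤ)) ≤ GrLC.endDeg (I.Hgr m d) := by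
  have hp : ∀ n : ℤ, n < 0 → ∀ y ∈ 𝒜 n, y = 0 := fun n hn y hy => by rw [hpos n hn] at hy; exact hy
  obtain ⟨n, hn, hne⟩ := Groth.Agent.GrLC.exists_top_ne_bot hp m hm (Groth.Agent.GrLC.irrel_eq_span_one hstd) hd
  refine le_trans ?_ (le_iSup₂ (f := fun (n : ℤ) (_ : I.Hgr m d n ≠ ⊥) =>
    ((n : WithTop ℤ) : WithBot (WithTop ℤ))) n fun h => hne
      ((Groth.Agent.GrLC.LC.Hcomp_eq_bot_iff m d I n).1 ((Submodule.toAddSubgroup_inj (I.Hcomp m d n) ⊥).1 h)))
  exact WithBot.coe_le_coe.2 (WithTop.coe_le_coe.2 hn)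

end Groth.Agent.S17771
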