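import Groth.Statements.S17772
import Groth.Agent.GrLC.HilbertSerre
import Groth.Agent.GrSyz.Regularity
-- import your own Groth.Agent.* helpers here

set_option autoImplicit false
set_option maxRecDepth 20000
universe u
open GrLC

namespace Groth.Agent.S17772

/-- Let R = ⊕_{n ≥ 0} R_n be a positively ℤ-graded ring which is standard graded (irrelevant ideal
generated by R_1), with R_0 Artinian, *local with unique homogeneous maximal ideal m, and
Cohen–Macaulay of Krull dimension d; let H_R(n) = ℓ_{R_0}(R_n) be its Hilbert function and P_R ∈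
ℚ[X] its Hilbert polynomial (a polynomial agreeing with H_R for all large n, taken as given). Then
the a-invariant of R, the largest degree in which H^d_m(R) is nonzero (computed from any *injective
resolution of R), equals the supremum of the integers n with P_R(n) ≠ H_R(n). (The published text
writes 'min' for this supremum; the set of such n is unbounded below whenever it is nonempty, e.g.
all n < 0 for a polynomial ring over a field, and the published one-line proof H_R(n) − P_R(n) =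
(−1)^d ℓ(H^d_m(R)_n) identifies the set with the nonzero degrees of H^d_m(R), whose largest element
is a(R).) -/
theorem result (R : Type u) [CommRing R] [LocCoh.IsCohenMacaulayRing R] (𝒜 : ℤ → AddSubgroup R) [GradedRing 𝒜] (hpos : ∀ n : ℤ, n < 0 → 𝒜 n = ⊥) (hstd : Ideal.span (⋃ n ∈ Set.Ioi (0 : ℤ), (𝒜 n : Set R)) = Ideal.span ((𝒜 1 : AddSubgroup R) : Set R)) [IsArtinianRing (GrLC.deg0 𝒜)] (m : HomogeneousIdeal 𝒜) (hm : GrLC.IsStarLocal 𝒜 m) (d : ℕ) (hd : ringKrullDim R = d) (I : GrLC.StarInjRes 𝒜 𝒜) (P : Polynomial ℚ) (hP : ∃ N : ℤ, ∀ n : ℤ, N ≤ n → P.eval (n : ℚ) = ((Module.length (GrLC.deg0 𝒜) (GrLC.comp 𝒜 𝒜 n)).toNat : ℚ)) : GrLC.endDeg (I.Hgr m d) = ⨆ (n : ℤ) (_ : P.eval (n : ℚ) ≠ ((Module.length (GrLC.deg0 𝒜) (GrLC.comp 𝒜 𝒜 n)).toNat : ℚ)), ((n : WithTop ℤ) : WithBot (WithTop ℤ)) := by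
  have hp : ∀ n : ℤ, n < 0 → ∀ y ∈ 𝒜 n, y = 0 := fun n hn y hy => by rw [hpos n hn] at hy; exact hy
  refine Groth.Agent.GrSyz.eq_of_forall_le_int_iff fun j => ?_
  rw [Groth.Agent.GrSyz.endDeg_le_iff, iSup₂_le_iff]
  refine forall_congr' fun n => ?_
  have hf := Groth.Agent.GrLC.hilbertSerre_cm hp m hm hd (GrLC.GMod.of 𝒜 R 𝒜) (LinearEquiv.refl R R) P hP n
  have hz := Groth.Agent.GrLC.hlen_eq_zero_iff hp m hm (GrLC.GMod.of 𝒜 R 𝒜) (inferInstanceAs (Module.Finite R R)) d n
  have hb : I.Hgr m d n = ⊥ ↔ P.eval (n : ℚ) =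
      ((Module.length (GrLC.deg0 𝒜) (GrLC.comp 𝒜 𝒜 n)).toNat : ℚ) := by
    refine ((Submodule.toAddSubgroup_inj (I.Hcomp m d n) ⊥).trans
      (Groth.Agent.GrLC.LC.Hcomp_eq_bot_iff m d I n)).trans (hz.symm.trans ?_)
    refine ⟨fun h => ?_, fun h => ?_⟩
    · rw [h, Nat.cast_zero, mul_zero, sub_eq_zero] at hf
      exact hf.symm
    · change (Groth.Agent.GrLC.mlen (GrLC.GMod.of 𝒜 R 𝒜) n : ℚ) - P.eval (n : ℚ) = _ at hf
      rw [show (Groth.Agent.GrLC.mlen (GrLC.GMod.of 𝒜 R 𝒜) n : ℚ) = P.eval (n : ℚ) from h.symm, sub_self] at hf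
      exact_mod_cast (mul_eq_zero.1 hf.symm).resolve_left (pow_ne_zero d (by norm_num))
  rw [hb, WithBot.coe_le_coe, WithTop.coe_le_coe]
  constructor
  · intro h hne
    by_contra hc
    exact hne (h (by omega))
  · intro h hn
    by_contra hc
    exact absurd (h hc) (by omega)

end Groth.Agent.S17772
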