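import Groth.Statements.S17773
import Groth.Agent.CAlgLib.TorBalance

set_option autoImplicit false
universe u
open CategoryTheory CategoryTheory.Limits
open CAlg

namespace Groth.Agent.S17773

open MonoidalCategory Groth.Agent.CAlgLib.TorBalance

variable {R : Type u} [CommRing R] {M : ModuleCat.{u} R} {C : ChainComplex (ModuleCat.{u} R) ℕ}

/-- `C ⊗ N`. -/
noncomputable abbrev ten (C : ChainComplex (ModuleCat.{u} R) ℕ) (N : ModuleCat.{u} R) :
    ChainComplex (ModuleCat.{u} R) ℕ :=
  ((tensorRight N).mapHomologicalComplex (ComplexShape.down ℕ)).obj C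

/-- Functoriality in the module. -/
noncomputable def tenMap (C : ChainComplex (ModuleCat.{u} R) ℕ) {N N' : ModuleCat.{u} R} (g : N ⟶ N') :
    ten C N ⟶ ten C N' :=
  (NatTrans.mapHomologicalComplex ((tensoringRight (ModuleCat.{u} R)).map g) _).app C

theorem tenMap_f (C : ChainComplex (ModuleCat.{u} R) ℕ) {N N' : ModuleCat.{u} R} (g : N ⟶ N') (i : ℕ) :
    (tenMap C g).f i = C.X i ◁ g := rfl

/-- A flat resolution. -/
structure IsFlatRes (C : ChainComplex (ModuleCat.{u} R) ℕ) (p : C.X 0 ⟶ M) : Prop where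
  flat : ∀ i, Module.Flat R (C.X i)
  w : C.d 1 0 ≫ p = 0
  exact₀ : (ShortComplex.mk (C.d 1 0) p w).Exact
  epi : Epi p
  exact_succ : ∀ n, C.ExactAt (n + 1)

theorem isFlatRes_of_quasiIso (hC : ∀ i, Module.Flat R (C.X i))
    (φ : C ⟶ (ChainComplex.single₀ (ModuleCat.{u} R)).obj M) [QuasiIso φ] :
    IsFlatRes C (M := M) (φ.f 0) := by
  have h0 := (quasiIsoAt_iff' φ 1 0 0 (by simp) (by simp)).1 inferInstance
  rw [ShortComplex.quasiIso_iff_of_zeros' _ (C.shape 0 0 (by simp))
    rfl rfl] at h0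
  exact ⟨hC, _, h0.1, h0.2, fun n => (quasiIsoAt_iff_exactAt' φ (n + 1)
    (ChainComplex.exactAt_succ_single_obj _ _)).1 inferInstance⟩

variable {p : C.X 0 ⟶ M} (h : IsFlatRes C p)
include h

theorem ten_exact (N : ModuleCat.{u} R) [Module.Flat R N] (n : ℕ) : IsZero ((ten C N).homology (n + 1)) := by
  refine (HomologicalComplex.exactAt_iff_isZero_homology _ _).mp ?_
  rw [HomologicalComplex.exactAt_iff' _ (n + 1 + 1) (n + 1) n (by simp) (by simp), ShortComplex.moduleCat_exact_iff]
  have he : Function.Exact (C.d (n + 1 + 1) (n + 1)).hom (C.d (n + 1) n).hom := by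
    have he := h.exact_succ n
    rw [HomologicalComplex.exactAt_iff' _ (n + 1 + 1) (n + 1) n (by simp) (by simp),
      ShortComplex.moduleCat_exact_iff_range_eq_ker] at he
    exact LinearMap.exact_iff.2 he.symm
  exact fun z hz => (Module.Flat.rTensor_exact (R := R) N he z).mp hz

/-- The short exact sequence of the presentation of `N`. -/
noncomputable def nseq (C : ChainComplex (ModuleCat.{u} R) ℕ) (N : ModuleCat.{u} R) :
    ShortComplex (ChainComplex (ModuleCat.{u} R) ℕ) :=
  ShortComplex.mk (tenMap C ((incl R).app N)) (tenMap C ((eps R).app N)) (HomologicalComplex.hom_ext _ _ fun i => by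
    exact (MonoidalCategory.whiskerLeft_comp _ _ _).symm.trans
      ((congrArg (fun f => C.X i ◁ f) (incl_eps R N)).trans MonoidalPreadditive.whiskerLeft_zero))

theorem nseq_shortExact (N : ModuleCat.{u} R) : (nseq C N).ShortExact := by
  refine HomologicalComplex.shortExact_of_degreewise_shortExact _ fun i => ?_
  haveI := h.flat i
  refine ModuleCat.shortComplex_shortExact _ ?_ ?_ ?_
  · exact lTensor_exact _ (exact_incl_eps R N) (eps_surjective R N)
  · exact Module.Flat.lTensor_preserves_injective_linearMap ((incl R).app N).hom (incl_injective R N)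
  · exact LinearMap.lTensor_surjective _ (eps_surjective R N)

theorem d_zero (N : ModuleCat.{u} R) : (ten C N).d ((ComplexShape.down ℕ).prev 0) 0 ≫ (p ▷ N) = 0 := by
  have key : ∀ l, l = 0 + 1 → (ten C N).d l 0 ≫ (p ▷ N) = 0 := by
    rintro l rfl
    show (C.d 1 0 ▷ N) ≫ (p ▷ N) = 0
    rw [← MonoidalCategory.comp_whiskerRight, h.w, MonoidalPreadditive.zero_whiskerRight]
  exact key _ (ChainComplex.prev ℕ 0)

/-- `H₀ (C ⊗ N) ⟶ M ⊗ N`. -/
noncomputable def h0 (N : ModuleCat.{u} R) : (ten C N).homology 0 ⟶ M ⊗ N :=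
  theta (ten C N) 0 (p ▷ N) (d_zero h N)

theorem isIso_h0 (N : ModuleCat.{u} R) : IsIso (h0 h N) := by
  have hsurj : Function.Surjective p.hom := (ModuleCat.epi_iff_surjective _).mp h.epi
  have hep : Epi (p ▷ N) := (ModuleCat.epi_iff_surjective _).mpr (LinearMap.rTensor_surjective N hsurj)
  have hex : (ShortComplex.mk _ _ (d_zero h N)).Exact := by
    have key : ∀ l (w : (ten C N).d l 0 ≫ (p ▷ N) = 0), l = 0 + 1 → (ShortComplex.mk _ _ w).Exact := by
      rintro l w rfl
      refine ModuleCat.shortComplex_exact _ ?_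
      exact rTensor_exact N (LinearMap.exact_iff.2 ((ShortComplex.moduleCat_exact_iff_range_eq_ker _).1 h.exact₀).symm) hsurj
    exact key _ _ (ChainComplex.prev ℕ 0)
  haveI : Mono (h0 h N) := mono_theta _ 0 _ _ hex
  haveI : Epi (h0 h N) := by
    refine @epi_of_epi _ _ _ _ _ ((ten C N).homologyπ 0) _ ?_
    refine (congrArg Epi (show (ten C N).homologyπ 0 ≫ h0 h N = (ten C N).iCycles 0 ≫ (p ▷ N) from
      π_theta (ten C N) 0 _ _)).mpr ?_
    haveI := (ten C N).isIso_iCycles 0 _ rfl (HomologicalComplex.shape _ _ _ (by simp))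
    exact @epi_comp _ _ _ _ _ ((ten C N).iCycles 0) inferInstance (p ▷ N) hep
  exact isIso_of_mono_of_epi _

theorem h0_natural {N N' : ModuleCat.{u} R} (g : N ⟶ N') :
    HomologicalComplex.homologyMap (tenMap C g) 0 ≫ h0 h N' = h0 h N ≫ (M ◁ g) :=
  theta_natural _ 0 _ _ (tenMap C g) (M ◁ g) (d_zero h N) (d_zero h N')
    (MonoidalCategory.whisker_exchange p g)

/-- Dimension shifting. -/
theorem shift (n : ℕ) (N : ModuleCat.{u} R) :
    Nonempty ((ten C N).homology (n + 2) ≅ (ten C ((K R).obj N)).homology (n + 1)) := by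
  have hi := (nseq_shortExact h N).isIso_δ (n + 1 + 1) (n + 1) rfl
    (ten_exact h ((F R).obj N) (n + 1)) (ten_exact h ((F R).obj N) n)
  exact ⟨@asIso _ _ _ _ ((nseq_shortExact h N).δ (n + 1 + 1) (n + 1) rfl) hi⟩

theorem degree_one (N : ModuleCat.{u} R) :
    Nonempty ((ten C N).homology 1 ≅ kernel (M ◁ (incl R).app N)) := by
  have hS := nseq_shortExact h N
  haveI : Mono (hS.δ 1 0 rfl) := hS.mono_δ 1 0 rfl (ten_exact h ((F R).obj N) 0)
  have hex := hS.homology_exact₁ 1 0 rfl
  haveI := isIso_h0 h ((K R).obj N)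
  haveI := isIso_h0 h ((F R).obj N)
  exact ⟨(hex.fIsKernel).conePointUniqueUpToIso (kernelIsKernel _) ≪≫
    kernel.mapIso _ _ (@asIso _ _ _ _ (h0 h ((K R).obj N)) (isIso_h0 h _)) (@asIso _ _ _ _ (h0 h ((F R).obj N)) (isIso_h0 h _))
      (h0_natural h ((incl R).app N))⟩

omit h

/-- Two flat resolutions compute the same modules. -/
theorem compare {C' : ChainComplex (ModuleCat.{u} R) ℕ} {p' : C'.X 0 ⟶ M} (h : IsFlatRes C p)
    (h' : IsFlatRes C' p') : ∀ (n : ℕ) (N : ModuleCat.{u} R),
      Nonempty ((ten C N).homology n ≅ (ten C' N).homology n) := by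
  intro n
  induction n with
  | zero =>
    intro N
    haveI := isIso_h0 h N
    haveI := isIso_h0 h' N
    exact ⟨@asIso _ _ _ _ (h0 h N) (isIso_h0 h N) ≪≫ (@asIso _ _ _ _ (h0 h' N) (isIso_h0 h' N)).symm⟩
  | succ n ih =>
    intro N
    rcases n with _ | n
    · obtain ⟨e⟩ := degree_one h N
      obtain ⟨e'⟩ := degree_one h' N
      exact ⟨e ≪≫ e'.symm⟩
    · obtain ⟨e⟩ := shift h n N
      obtain ⟨e'⟩ := shift h' n N
      obtain ⟨e''⟩ := ih ((K R).obj N)
      exact ⟨e ≪≫ e'' ≪≫ e'.symm⟩

/-- Let R be a commutative ring, M and N two R-modules, and F a flat resolution of M: a chain complex F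
of flat R-modules concentrated in non-negative degrees together with a quasi-isomorphism from F to M
placed in degree 0. Then for every i ≥ 0 the i-th homology module of the complex F ⊗_R N is
isomorphic to Tor_i^R(M, N), the i-th left derived functor of − ⊗_R N evaluated at M (existence of
an isomorphism of R-modules). -/
theorem result (R : Type u) [CommRing R] (M N : Type u) [AddCommGroup M] [Module R M] [AddCommGroup N] [Module R N] (F : ChainComplex (ModuleCat.{u} R) ℕ) (hF : ∀ i : ℕ, Module.Flat R (F.X i)) (φ : F ⟶ (ChainComplex.single₀ (ModuleCat.{u} R)).obj (ModuleCat.of R M)) [QuasiIso φ] (i : ℕ) : Nonempty ((((MonoidalCategory.tensorRight (ModuleCat.of R N)).mapHomologicalComplex (ComplexShape.down ℕ)).obj F).homology i ≅ ((Tor' (ModuleCat.{u} R) i).obj (ModuleCat.of R M)).obj (ModuleCat.of R N)) := by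
  obtain ⟨e⟩ := compare (isFlatRes_of_quasiIso hF φ)
    (isFlatRes_of_quasiIso (C := (res R (ModuleCat.of R M)).complex)
      (fun j => by
        haveI : Projective ((res R (ModuleCat.of R M)).complex.X j) := (res R (ModuleCat.of R M)).projective j
        haveI := (IsProjective.iff_projective _).2 this
        exact Module.Flat.of_projective)
      (res R (ModuleCat.of R M)).π) i (ModuleCat.of R N)
  exact ⟨e ≪≫ ((res R (ModuleCat.of R M)).isoLeftDerivedObj
    ((tensoringRight (ModuleCat.{u} R)).obj (ModuleCat.of R N)) i).symm⟩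

end Groth.Agent.S17773
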