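import Groth.Statements.S17774
import Groth.Agent.DualCx.LocalDuality
import Groth.Agent.DualCx.LocalGlobal
import Groth.Agent.DualCx.Normalized
import Groth.Agent.DualCx.Gorenstein
import Groth.Agent.DRing.PCTools
import Groth.Agent.Gor.Basic
import Groth.Agent.LiaisonGr.Local

set_option autoImplicit false
universe u
open CategoryTheory Opposite
open LocCoh

open Groth.Agent
namespace Groth.Agent.S17774

/-- Let (S, n) be a Gorenstein local ring, I an ideal of S of height g such that R = S ⧸ I is a
Cohen–Macaulay local ring, of Krull dimension d, and E an injective hull of the residue field of S.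
Then the canonical module of R is Ext^g_S(R, S), in the following sense: the Matlis dual
Hom_S(Ext^g_S(R, S), E) is isomorphic as an S-module to the top local cohomology H^d_n(R) of R
regarded as an S-module (existence of an S-linear isomorphism; Hom into E over S and local
cohomology with support in n agree with the corresponding notions over R for R-modules). -/
theorem result (S : Type u) [CommRing S] [LocCoh.IsGorensteinLocalRing S] (I : Ideal S) (g : ℕ) (hg : I.height = g) [LocCoh.IsCohenMacaulayLocalRing (S ⧸ I)] (d : ℕ) (hd : ringKrullDim (S ⧸ I) = d) (E : Type u) [AddCommGroup E] [Module S E] (f : IsLocalRing.ResidueField S →ₗ[S] E) (hf : InjHull.IsInjectiveHull f) : Nonempty ((((Ext S (ModuleCat.{u} S) g).obj (op (ModuleCat.of S (S ⧸ I)))).obj (ModuleCat.of S S) →ₗ[S] E) ≃ₗ[S] LocCoh.H (IsLocalRing.maximalIdeal S) d (S ⧸ I)) := by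
  have hI : I ≠ ⊤ := Ideal.Quotient.nontrivial_iff.mp inferInstance
  have : LocCoh.IsCohenMacaulayLocalRing S := Gor.Basic.isCohenMacaulay_of_gorenstein (A := S)
  have hr : ringKrullDim S = ((d + g : ℕ) : WithBot ℕ∞) := by
    rw [LiaisonGr.dim_add_height hI, hd, hg]
    push_cast
    rfl
  have hI' : Dual.IsDualizing S (Dual.inD S S) :=
    DualCx.Gorenstein.isDualizing_of_isGorensteinLocalRing
  obtain ⟨n, hn⟩ := DualCx.Normalized.exists_isNormalized hI'
  have hω := DualCx.Normalized.isDualizing_shift hI' n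
  obtain rfl : n = ((d + g : ℕ) : ℤ) := by
    have hd' : Module.supportDim S S = ((d + g : ℕ) : WithBot ℕ∞) :=
      (Module.supportDim_self_eq_ringKrullDim (R := S)).trans hr
    have h1 := DualCx.LocalGlobal.nontrivial_E_neg_supportDim hω hn S (d + g) hd'
    by_contra hne
    have : Subsingleton (Dual.HD S (Dual.inD S S) (n + -((d + g : ℕ) : ℤ))) :=
      DRing.PC.subsingleton_HD_inD S S _ (by omega)
    exact not_subsingleton (DualCx.Devissage.E S ((Dual.inD S S)⟦n⟧) (-((d + g : ℕ) : ℤ)))
      ((DualCx.Normalized.shiftE S _ n _ _ rfl).trans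
        (DualCx.Cx.homUnitEquivShift _ _)).toEquiv.subsingleton
  obtain ⟨e⟩ := DualCx.LocalDuality.nonempty_H_equiv hω hn hf (S ⧸ I) d
  let e1 := (OldExt.oldExtEquiv S (ModuleCat.of S (S ⧸ I)) (ModuleCat.of S S) g).trans
    ((show Abelian.Ext.{u} (ModuleCat.of S (S ⧸ I)) (ModuleCat.of S S) g ≃ₗ[S]
        DualCx.Devissage.E (S ⧸ I) (Dual.inD S S) ((g : ℕ) : ℤ) from
      letI := HasDerivedCategory.standard (ModuleCat.{u} S)
      Abelian.Ext.homLinearEquiv).trans
      (DualCx.Normalized.shiftE (A := S) (S ⧸ I) (Dual.inD S S) ((d + g : ℕ) : ℤ) (-(d : ℤ)) (g : ℤ)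
        (by omega)).symm)
  exact ⟨(e.trans (LinearEquiv.congrLeft E S e1.symm)).symm⟩

end Groth.Agent.S17774
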