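import Groth.Statements.S17779
import Mathlib.Tactic.Linarith
import Mathlib.Tactic.Ring
import Mathlib.Tactic.LinearCombination
import Mathlib.Tactic.Positivity
import Mathlib.Tactic.FieldSimp
-- import your own Groth.Agent.* helpers here

set_option autoImplicit false
open DRR

namespace Groth.Agent.S17779

/-- The alternating binomial sum. -/
def T (n k : ℕ) : ℤ :=
  ∑ j ∈ Finset.range (n + 1), (-1 : ℤ) ^ (n - j) * (n.choose j : ℤ) * (j : ℤ) ^ k

/-- Its value for `k ≤ n + 1`. -/
def V (n k : ℕ) : ℤ :=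
  if k = n + 1 then (((n + 1).choose 2 * n.factorial : ℕ) : ℤ)
  else if k = n then (n.factorial : ℤ) else 0

/-- The shifted sum. -/
def W (n k : ℕ) : ℤ :=
  ∑ j ∈ Finset.range (n + 1), (-1 : ℤ) ^ (n - j) * (n.choose j : ℤ) * ((j : ℤ) + 1) ^ k

theorem T_succ_pow (n k : ℕ) : T (n + 1) (k + 1) = (n + 1) * W n k := by
  rw [T, W, Finset.sum_range_succ', Finset.mul_sum]
  simp only [Nat.cast_zero, zero_pow (Nat.succ_ne_zero k), mul_zero, add_zero]
  refine Finset.sum_congr rfl fun j _ => ?_
  have h : ((n + 1).choose (j + 1) : ℤ) * ((j : ℤ) + 1) = ((n : ℤ) + 1) * (n.choose j : ℤ) := by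
    exact_mod_cast (Nat.add_one_mul_choose_eq n j).symm
  rw [Nat.succ_sub_succ, pow_succ (((j + 1 : ℕ) : ℤ)) k]
  push_cast
  linear_combination (-1 : ℤ) ^ (n - j) * ((j : ℤ) + 1) ^ k * h

theorem T_succ (n k : ℕ) : T (n + 1) k + T n k = W n k := by
  rw [T, T, W, Finset.sum_range_succ']
  conv_lhs => arg 2; rw [Finset.sum_range_succ']
  have h : ∑ j ∈ Finset.range (n + 1), (-1 : ℤ) ^ (n + 1 - (j + 1)) * ((n + 1).choose (j + 1) : ℤ) * ((j + 1 : ℕ) : ℤ) ^ k =
      (∑ j ∈ Finset.range (n + 1), (-1 : ℤ) ^ (n - j) * (n.choose j : ℤ) * ((j : ℤ) + 1) ^ k) +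
      ∑ j ∈ Finset.range (n + 1), (-1 : ℤ) ^ (n - j) * (n.choose (j + 1) : ℤ) * ((j : ℤ) + 1) ^ k := by
    rw [← Finset.sum_add_distrib]
    refine Finset.sum_congr rfl fun j _ => ?_
    rw [Nat.succ_sub_succ, Nat.choose_succ_succ]
    push_cast
    ring
  rw [h, Finset.sum_range_succ (fun j => (-1 : ℤ) ^ (n - j) * (n.choose (j + 1) : ℤ) * ((j : ℤ) + 1) ^ k) n]
  have h2 : ∑ j ∈ Finset.range n, (-1 : ℤ) ^ (n - (j + 1)) * (n.choose (j + 1) : ℤ) * ((j + 1 : ℕ) : ℤ) ^ k =
      -∑ j ∈ Finset.range n, (-1 : ℤ) ^ (n - j) * (n.choose (j + 1) : ℤ) * ((j : ℤ) + 1) ^ k := by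
    rw [← Finset.sum_neg_distrib]
    refine Finset.sum_congr rfl fun j hj => ?_
    simp only [Finset.mem_range] at hj
    rw [show n - j = n - (j + 1) + 1 by omega, pow_succ]
    push_cast
    ring
  rw [h2]
  simp [pow_succ]
  try ring

theorem T_succ_zero (n : ℕ) : T (n + 1) 0 = 0 := by
  have := add_pow (1 : ℤ) (-1) (n + 1)
  simp only [add_neg_cancel, ne_eq, Nat.succ_ne_zero, not_false_eq_true, zero_pow, one_pow, one_mul] at this
  rw [T]
  simp only [pow_zero, mul_one]
  exact this.symm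

theorem T_eq : ∀ (n k : ℕ), k ≤ n + 1 → T n k = V n k := by
  intro n
  induction n with
  | zero =>
    intro k hk
    rcases (by omega : k = 0 ∨ k = 1) with rfl | rfl <;> simp [T, V]
  | succ n ih =>
    intro k
    induction k with
    | zero =>
      intro _
      simp [T_succ_zero, V]
    | succ k ihk =>
      intro hk
      rw [T_succ_pow, ← T_succ, ih k (by omega), ihk (by omega)]
      simp only [V]
      rcases (by omega : k = n + 1 ∨ k = n ∨ k < n) with rfl | rfl | hlt
      · simp only [if_pos, show ¬ (n + 1 = n + 1 + 1) by omega, if_false]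
        rw [Nat.choose_succ_succ (n + 1) 1, Nat.choose_one_right, Nat.factorial_succ]
        push_cast
        ring
      · simp only [show ¬ (k = k + 1 + 1) by omega, show ¬ (k = k + 1) by omega,
          show ¬ (k + 1 = k + 1 + 1) by omega, if_pos, if_false]
        rw [Nat.factorial_succ]
        push_cast
        ring
      · simp [show ¬ (k = n + 1 + 1) by omega, show ¬ (k = n + 1) by omega, show ¬ (k = n) by omega,
          show ¬ (k + 1 = n + 1 + 1) by omega, show ¬ (k + 1 = n + 1) by omega]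

/-- For natural numbers n and k with k ≤ n + 1, the alternating sum over j = 0, …, n of (−1)^(n−j) C(n,
j) j^k (with the convention 0^0 = 1) equals n! · n(n+1)/2 when k = n + 1, equals n! when k = n, and
vanishes when k < n. (The published statement takes n ≥ 1 and divides through by n!; the case n = 0
holds as well and is included.) -/
theorem result (n k : ℕ) (hk : k ≤ n + 1) :
    (∑ j ∈ Finset.range (n + 1), (-1 : ℤ) ^ (n - j) * (n.choose j : ℤ) * (j : ℤ) ^ k) =
      (if k = n + 1 then (((n + 1).choose 2 * n.factorial : ℕ) : ℤ)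
        else if k = n then (n.factorial : ℤ) else 0) := by
  exact T_eq n k hk

end Groth.Agent.S17779
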