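import Groth.Statements.S1778
import Groth.Agent.DualCx.Extended

set_option autoImplicit false
universe u
open CategoryTheory
attribute [local instance] HasDerivedCategory.standard
open Dual

namespace Groth.Agent.S1778

/-- Let A → B be a flat homomorphism of Noetherian rings and I an ideal of A such that A → B/IB is
surjective with kernel I (so A/I = B/IB) and IB lies in the Jacobson radical of B. Assuming the
derived base change functor D(A) → D(B) exists, the base change of a dualizing complex ω of A is a
dualizing complex for B. -/
theorem result (A B : Type u) [CommRing A] [CommRing B] [Algebra A B] [IsNoetherianRing A] [IsNoetherianRing B] [Module.Flat A B] (I : Ideal A) (hs : Function.Surjective ((Ideal.Quotient.mk (I.map (algebraMap A B))).comp (algebraMap A B))) (hk : RingHom.ker ((Ideal.Quotient.mk (I.map (algebraMap A B))).comp (algebraMap A B)) = I) (hJ : I.map (algebraMap A B) ≤ (⊥ : Ideal B).jacobson) [DRing.HasLBaseChange (algebraMap A B)] (ω : Dual.D A) (hω : Dual.IsDualizing A ω) : Dual.IsDualizing B ((DRing.LBaseChange (algebraMap A B)).obj ω) := by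
  refine DualCx.Extended.isDualizing_LBaseChange hω fun m hm => ?_
  refine le_antisymm Ideal.map_comap_le fun x hx => ?_
  have hIm : I.map (algebraMap A B) ≤ m :=
    hJ.trans (sInf_le ⟨bot_le, hm⟩)
  obtain ⟨a, ha⟩ := hs (Ideal.Quotient.mk _ x)
  have hax : x - algebraMap A B a ∈ I.map (algebraMap A B) :=
    Ideal.Quotient.eq.mp ha.symm
  have ham : a ∈ m.comap (algebraMap A B) := by
    have := m.sub_mem hx (hIm hax)
    simpa using this
  have hI : I.map (algebraMap A B) ≤ (m.comap (algebraMap A B)).map (algebraMap A B) :=
    Ideal.map_mono (Ideal.map_le_iff_le_comap.mp hIm)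
  have := Ideal.add_mem _ (hI hax) (Ideal.mem_map_of_mem (algebraMap A B) ham)
  simpa using this

end Groth.Agent.S1778
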