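import Groth.Statements.S17780
import Groth.Agent.S17779
import Mathlib.Tactic.Linarith
import Mathlib.Tactic.Ring
import Mathlib.Tactic.LinearCombination
import Mathlib.Tactic.Positivity
import Mathlib.Tactic.FieldSimp
-- import your own Groth.Agent.* helpers here

set_option autoImplicit false
universe u
open DRR

namespace Groth.Agent.S17780

/-- For x, y in a commutative ring and a natural number n, (n+1)! · x · y^n equals the sum over j = 0,
…, n of (−1)^(n−j) C(n, j) (x + j y)^(n+1), minus (n · (n+1)!/2) · y^(n+1). (The published identity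
is stated in ℚ[x, y] with an overall factor 1/(n+1) and the coefficients C(n, j)(−1)^(n−j)/n!; it is
given here multiplied through by (n+1)!, which makes it an identity with integer coefficients valid
in every commutative ring; n · (n+1)!/2 is an integer.) -/
theorem result (A : Type u) [CommRing A] (x y : A) (n : ℕ) :
    ((n + 1).factorial : A) * x * y ^ n =
      (∑ j ∈ Finset.range (n + 1), (-1 : A) ^ (n - j) * (n.choose j : A) * (x + (j : A) * y) ^ (n + 1))
        - ((n * (n + 1).factorial / 2 : ℕ) : A) * y ^ (n + 1) := by
  have hT : ∀ k ≤ n + 1, (∑ j ∈ Finset.range (n + 1), (-1 : A) ^ (n - j) * (n.choose j : A) * (j : A) ^ k) =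
      ((Groth.Agent.S17779.V n k : ℤ) : A) := by
    intro k hk
    rw [← Groth.Agent.S17779.T_eq n k hk, Groth.Agent.S17779.T]
    push_cast
    rfl
  have hsum : (∑ j ∈ Finset.range (n + 1), (-1 : A) ^ (n - j) * (n.choose j : A) * (x + (j : A) * y) ^ (n + 1)) =
      ∑ k ∈ Finset.range (n + 2), y ^ k * x ^ (n + 1 - k) * ((n + 1).choose k : A) *
        ((Groth.Agent.S17779.V n k : ℤ) : A) := by
    calc _ = ∑ j ∈ Finset.range (n + 1), ∑ k ∈ Finset.range (n + 2),
          y ^ k * x ^ (n + 1 - k) * ((n + 1).choose k : A) *
            ((-1 : A) ^ (n - j) * (n.choose j : A) * (j : A) ^ k) := by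
          refine Finset.sum_congr rfl fun j _ => ?_
          rw [add_comm x, add_pow, Finset.mul_sum]
          exact Finset.sum_congr rfl fun k _ => by rw [mul_pow]; ring
      _ = _ := by
          rw [Finset.sum_comm]
          refine Finset.sum_congr rfl fun k hk => ?_
          rw [← Finset.mul_sum, hT k (by simp only [Finset.mem_range] at hk; omega)]
  rw [hsum, Finset.sum_range_succ, Finset.sum_range_succ, Finset.sum_eq_zero (s := Finset.range n)]
  · have hdiv : n * (n + 1).factorial / 2 = (n + 1).choose 2 * n.factorial := by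
      rw [Nat.choose_two_right, Nat.add_sub_cancel, Nat.factorial_succ]
      obtain ⟨m, hm⟩ : 2 ∣ (n + 1) * n := by
        rw [mul_comm]; exact Nat.two_dvd_mul_add_one n
      rw [show n * ((n + 1) * n.factorial) = 2 * (m * n.factorial) by rw [← mul_assoc, mul_comm n, hm]; ring,
        Nat.mul_div_cancel_left _ two_pos, hm, Nat.mul_div_cancel_left _ two_pos]
    rw [hdiv]
    simp only [Groth.Agent.S17779.V, if_pos, if_neg (Nat.ne_of_lt (Nat.lt_succ_self n)), Nat.choose_succ_self_right,
      Nat.choose_self, Nat.factorial_succ]
    push_cast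
    rw [show n + 1 - n = 1 by omega, Nat.sub_self, pow_zero, pow_one]
    ring
  · intro k hk
    simp only [Finset.mem_range] at hk
    simp [Groth.Agent.S17779.V, show k ≠ n + 1 by omega, show k ≠ n by omega]

end Groth.Agent.S17780
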