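import Groth.Statements.S17781
import Mathlib.Data.Nat.Choose.Factorization
import Mathlib.Data.Nat.Choose.Sum

set_option autoImplicit false
open Variety

namespace Groth.Agent.S17781

theorem not_dvd_choose {p j d : ℕ} (hp : p.Prime) (hj : p ^ j ∣ d) (hd : d ≠ 0) :
    ((d - 1).choose (p ^ j - 1)).factorization p = 0 := by
  have hle : p ^ j ≤ d := Nat.le_of_dvd (Nat.pos_of_ne_zero hd) hj
  have hpj : 0 < p ^ j := pow_pos hp.pos j
  rw [Nat.factorization_choose hp (by lia) (Nat.lt_succ_self _), Finset.card_eq_zero, Finset.filter_eq_empty_iff]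
  intro i _ hi
  have hsub : d - 1 - (p ^ j - 1) = d - p ^ j := by lia
  rw [hsub] at hi
  have hdvd : p ^ j ∣ d - p ^ j := Nat.dvd_sub hj dvd_rfl
  rcases le_or_gt i j with h | h
  · have hij : p ^ i ∣ p ^ j := pow_dvd_pow p h
    rw [Nat.mod_eq_zero_of_dvd (hij.trans hdvd)] at hi
    have := Nat.mod_lt (p ^ j - 1) (pow_pos hp.pos i)
    lia
  · have hji : p ^ j < p ^ i := Nat.pow_lt_pow_right hp.one_lt h
    rw [Nat.mod_eq_of_lt (show p ^ j - 1 < p ^ i by lia)] at hi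
    obtain ⟨a, ha⟩ : p ^ j ∣ (d - p ^ j) % p ^ i := (Nat.dvd_mod_iff (pow_dvd_pow p h.le)).2 hdvd
    obtain ⟨b, hb⟩ : p ^ j ∣ p ^ i := pow_dvd_pow p h.le
    have hlt := Nat.mod_lt (d - p ^ j) (pow_pos hp.pos i)
    rw [ha, hb] at hlt hi
    have hab : a + 1 ≤ b := lt_of_mul_lt_mul_left' hlt
    have := Nat.mul_le_mul_left (p ^ j) hab
    rw [mul_add, mul_one] at this
    lia

theorem gcd_choose (d N : ℕ) (hd : 1 ≤ d) (hN : 1 ≤ N) :
    (Finset.Icc 1 N).gcd d.choose = ((Finset.Icc 1 N).filter (fun δ => δ ∣ d)).gcd (fun δ => d / δ) := by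
  refine Nat.dvd_antisymm (Finset.dvd_gcd fun δ hδ => ?_) (Finset.dvd_gcd fun i hi => ?_)
  · obtain ⟨hδN, hδd⟩ := Finset.mem_filter.1 hδ
    rw [Finset.mem_Icc] at hδN
    set G := (Finset.Icc 1 N).gcd d.choose with hG
    have hGd : G ∣ d := by
      simpa using Finset.gcd_dvd (f := d.choose) (Finset.mem_Icc.2 ⟨le_rfl, hN⟩)
    have hG0 : G ≠ 0 := ne_zero_of_dvd_ne_zero (by lia) hGd
    have hq0 : d / δ ≠ 0 := (Nat.div_pos (Nat.le_of_dvd hd hδd) (by lia)).ne'
    rw [← Nat.factorization_le_iff_dvd hG0 hq0]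
    intro p
    rw [Nat.factorization_div hδd, Finsupp.tsub_apply]
    by_cases hp : p.Prime
    swap
    · simp [Nat.factorization_eq_zero_of_not_prime _ hp]
    set j := δ.factorization p
    have hjδ : p ^ j ∣ δ := Nat.ordProj_dvd δ p
    have hjN : p ^ j ≤ N := (Nat.le_of_dvd (by lia) hjδ).trans hδN.2
    have hpj : 0 < p ^ j := pow_pos hp.pos j
    have hjd : p ^ j ≤ d := Nat.le_of_dvd hd (hjδ.trans hδd)
    have h1 : G ∣ d.choose (p ^ j) := Finset.gcd_dvd (f := d.choose) (Finset.mem_Icc.2 ⟨hpj, hjN⟩)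
    have h2 : d * (d - 1).choose (p ^ j - 1) = d.choose (p ^ j) * p ^ j := by
      have := Nat.add_one_mul_choose_eq (d - 1) (p ^ j - 1)
      rwa [Nat.sub_add_cancel hd, Nat.sub_add_cancel hpj] at this
    have hc0 : d.choose (p ^ j) ≠ 0 := (Nat.choose_pos hjd).ne'
    have hc1 : (d - 1).choose (p ^ j - 1) ≠ 0 := (Nat.choose_pos (by lia)).ne'
    have h3 := congrArg (fun n => n.factorization p) h2
    simp only [Nat.factorization_mul (by lia : d ≠ 0) hc1, Nat.factorization_mul hc0 hpj.ne', Finsupp.add_apply,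
      hp.factorization_pow, Finsupp.single_eq_same, not_dvd_choose hp (hjδ.trans hδd) (by lia)] at h3
    have h4 := (Nat.factorization_le_iff_dvd hG0 hc0).2 h1 p
    lia
  · rw [Finset.mem_Icc] at hi
    have hg : 0 < Nat.gcd d i := Nat.gcd_pos_of_pos_left i hd
    have hmem : Nat.gcd d i ∈ (Finset.Icc 1 N).filter (fun δ => δ ∣ d) :=
      Finset.mem_filter.2 ⟨Finset.mem_Icc.2 ⟨hg, (Nat.gcd_le_right d hi.1).trans hi.2⟩, Nat.gcd_dvd_left d i⟩
    refine (Finset.gcd_dvd (f := fun δ => d / δ) hmem).trans ?_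
    have h2 : d * (d - 1).choose (i - 1) = d.choose i * i := by
      have := Nat.add_one_mul_choose_eq (d - 1) (i - 1)
      rwa [Nat.sub_add_cancel hd, Nat.sub_add_cancel hi.1] at this
    refine (Nat.coprime_div_gcd_div_gcd hg).dvd_of_dvd_mul_right ?_
    refine Nat.dvd_of_mul_dvd_mul_right hg ?_
    rw [Nat.div_mul_cancel (Nat.gcd_dvd_left d i), mul_assoc, Nat.div_mul_cancel (Nat.gcd_dvd_right d i), ← h2]
    exact dvd_mul_right _ _

/-- Let d ≥ 1 and N ≥ 1 be integers and let I(d, N) be the greatest common divisor of the quotients d/δ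
over the divisors δ of d with 1 ≤ δ ≤ N. Then I(d, N) equals the greatest common divisor of the
integers χ(d, n) = 1 − (−1)^n C(d − 1, n) for 1 ≤ n ≤ N (χ(d, n) is the Euler characteristic of O_H
for a degree-d hypersurface H in projective n-space). Both greatest common divisors are taken in ℤ,
normalised to be non-negative. -/
theorem result (d N : ℕ) (hd : 1 ≤ d) (hN : 1 ≤ N) :
    (Finset.Icc 1 N).gcd (fun n => 1 - (-1 : ℤ) ^ n * ((d - 1).choose n : ℤ)) =
      ((Finset.Icc 1 N).filter (fun δ => δ ∣ d)).gcd (fun δ => ((d / δ : ℕ) : ℤ)) := by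
  have hχ : ∀ n, 1 - (-1 : ℤ) ^ n * ((d - 1).choose n : ℤ) = - ∑ i ∈ Finset.Icc 1 n, (-1 : ℤ) ^ i * (d.choose i : ℤ) := by
    intro n
    have h := Int.alternating_sum_range_choose_eq_choose (n := d - 1) (m := n)
    rw [Nat.sub_add_cancel hd] at h
    rw [← h, Finset.range_eq_Ico, Finset.sum_eq_sum_Ico_succ_bot (Nat.succ_pos n)]
    rw [show Finset.Ico (0 + 1) (n + 1) = Finset.Icc 1 n from Finset.ext fun x => by simp]
    simp
  have hcast : ∀ (s : Finset ℕ) (f : ℕ → ℕ), s.gcd (fun i => (f i : ℤ)) = ((s.gcd f : ℕ) : ℤ) := by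
    intro s f
    induction s using Finset.induction_on with
    | empty => simp
    | insert a s ha ih => rw [Finset.gcd_insert, Finset.gcd_insert, ih, ← Int.coe_gcd, Int.gcd_natCast_natCast, gcd_eq_nat_gcd]
  rw [hcast, ← gcd_choose d N hd hN, ← hcast]
  refine dvd_antisymm_of_normalize_eq Finset.normalize_gcd Finset.normalize_gcd
    (Finset.dvd_gcd fun i hi => ?_) (Finset.dvd_gcd fun n hn => ?_)
  · rw [Finset.mem_Icc] at hi
    have hd1 : ∀ m, m ∈ Finset.Icc 1 N → (Finset.Icc 1 N).gcd (fun n => 1 - (-1 : ℤ) ^ n * ((d - 1).choose n : ℤ)) ∣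
        ∑ i ∈ Finset.Icc 1 m, (-1 : ℤ) ^ i * (d.choose i : ℤ) := fun m hm => by
      have := Finset.gcd_dvd (f := fun n => 1 - (-1 : ℤ) ^ n * ((d - 1).choose n : ℤ)) hm
      rwa [hχ, dvd_neg] at this
    have hdiff : (Finset.Icc 1 N).gcd (fun n => 1 - (-1 : ℤ) ^ n * ((d - 1).choose n : ℤ)) ∣
        (-1 : ℤ) ^ i * (d.choose i : ℤ) := by
      obtain ⟨m, rfl⟩ : ∃ m, i = m + 1 := ⟨i - 1, by lia⟩
      have h1 := hd1 (m + 1) (Finset.mem_Icc.2 hi)
      rw [Finset.sum_Icc_succ_top (by lia)] at h1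
      refine (dvd_add_right ?_).1 h1
      rcases Nat.eq_zero_or_pos m with rfl | hm
      · simp
      · exact hd1 m (Finset.mem_Icc.2 ⟨hm, by lia⟩)
    rcases neg_one_pow_eq_or ℤ i with h | h <;> rw [h] at hdiff <;> simpa using hdiff
  · rw [hχ, dvd_neg]
    rw [Finset.mem_Icc] at hn
    refine Finset.dvd_sum fun i hi => dvd_mul_of_dvd_right ?_ _
    rw [Finset.mem_Icc] at hi
    exact Finset.gcd_dvd (f := fun i => (d.choose i : ℤ)) (Finset.mem_Icc.2 ⟨hi.1, hi.2.trans hn.2⟩)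

end Groth.Agent.S17781
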