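import Groth.Statements.S17783
import Groth.Agent.CartFilt.Exact
import Groth.Agent.Adic.RestrictOpen
import Groth.Agent.IntProd70.Family
import Groth.Agent.EulerFam.Scheme
import Groth.Agent.AmpCrit.SerreVan
import Groth.Agent.HilbPolyX.Dim

set_option autoImplicit false
universe u
open CategoryTheory CategoryTheory.Limits AlgebraicGeometry
open Variety

namespace Groth.Agent.S17783
open Groth.Agent.Props.GenTensor Groth.Agent.Props.GenLocus Groth.Agent.QCoh Groth.Agent.CartFilt

set_option linter.style.haveILetI false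

theorem const_of_periodic (P : MvPolynomial (Fin 1) ℚ) (f : ℕ → ℤ) (m : ℕ) (hm : 1 ≤ m)
    (hP : ∀ n : ℕ, (f n : ℚ) = MvPolynomial.eval (fun _ => (n : ℚ)) P) (hf : ∀ n, f (n + m) = f n) (n : ℕ) :
    f n = f 0 := by
  let q : Polynomial ℚ := MvPolynomial.aeval (fun _ => Polynomial.X) P
  have hq : ∀ n : ℕ, q.eval (n : ℚ) = f n := fun n => by
    rw [hP]
    show (MvPolynomial.aeval (fun _ => Polynomial.X) P).eval (n : ℚ) = _
    clear hP q
    induction P using MvPolynomial.induction_on with
    | C a => simp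
    | add a b ha hb => simp [ha, hb]
    | mul_X a i ha => simp [ha]
  have hper : ∀ a : ℕ, f (m * a) = f 0 := fun a => by
    induction a with
    | zero => simp
    | succ a ih => rw [Nat.mul_succ, hf, ih]
  have hc : q = Polynomial.C (f 0 : ℚ) := by
    refine Polynomial.eq_of_infinite_eval_eq _ _ (Set.infinite_of_injective_forall_mem
      (f := fun a : ℕ => ((m * a : ℕ) : ℚ)) (fun a b h => Nat.eq_of_mul_eq_mul_left hm (Nat.cast_injective h))
      fun a => ?_)
    simp only [Set.mem_ofPred_eq, Polynomial.eval_C, hq, hper]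
  have h := hq n
  rw [hc, Polynomial.eval_C] at h
  exact_mod_cast h.symm

variable (R : Type u) [CommRing R] [IsDomain R] [IsDiscreteValuationRing R]

theorem ker_residue : (Spec.map (CommRingCat.ofHom (algebraMap R (IsLocalRing.ResidueField R)))).ker =
    Curv2.idealSheaf R (IsLocalRing.maximalIdeal R) := by
  rw [Scheme.ker_of_isAffine]
  refine congrArg Scheme.IdealSheafData.ofIdealTop ?_
  ext a
  obtain ⟨b, rfl⟩ : ∃ b, (Scheme.ΓSpecIso (CommRingCat.of R)).inv b = a :=
    ⟨(Scheme.ΓSpecIso (CommRingCat.of R)).hom a, Iso.hom_inv_id_apply _ a⟩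
  have hn := DFunLike.congr_fun (congrArg CommRingCat.Hom.hom
    (Scheme.ΓSpecIso_inv_naturality (CommRingCat.ofHom (algebraMap R (IsLocalRing.ResidueField R))))) b
  have hi := (Scheme.ΓSpecIso (CommRingCat.of (IsLocalRing.ResidueField R))).commRingCatIsoToRingEquiv.symm.injective
  have hsurj : Function.Surjective (Scheme.ΓSpecIso (CommRingCat.of R)).inv :=
    fun y => ⟨_, Iso.hom_inv_id_apply _ y⟩
  have hinj := (Scheme.ΓSpecIso (CommRingCat.of R)).commRingCatIsoToRingEquiv.symm.injective
  rw [RingHom.mem_ker, Ideal.mem_map_iff_of_surjective _ hsurj]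
  refine ⟨fun h => ⟨b, ?_, rfl⟩, ?_⟩
  · refine (IsLocalRing.residue_eq_zero_iff b).1 (hi ?_)
    exact (hn.trans h).trans (map_zero _).symm
  · rintro ⟨c, hc, hcb⟩
    obtain rfl := hinj hcb
    exact hn.symm.trans ((congrArg ((Scheme.ΓSpecIso (CommRingCat.of (IsLocalRing.ResidueField R))).inv.hom)
      ((IsLocalRing.residue_eq_zero_iff c).2 hc)).trans (map_zero _))

theorem exists_isPullback {X : Scheme.{u}} (p : X ⟶ Spec (CommRingCat.of R)) (J : X.IdealSheafData)
    (hJ : J = Models.specialFibreIdeal R (Over.mk p)) :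
    ∃ q, IsPullback J.subschemeι q p
      (Spec.map (CommRingCat.ofHom (algebraMap R (IsLocalRing.ResidueField R)))) := by
  let c := Spec.map (CommRingCat.ofHom (algebraMap R (IsLocalRing.ResidueField R)))
  haveI : IsClosedImmersion c :=
    IsClosedImmersion.spec_of_surjective _ IsLocalRing.residue_surjective
  have H := IsPullback.of_hasPullback p c
  have hk : (pullback.fst p c).ker = Models.specialFibreIdeal R (Over.mk p) :=
    (Adic.RestrictOpen.ker_eq_comap H).trans (congrArg (fun J => Scheme.IdealSheafData.comap J p) (ker_residue R))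
  obtain rfl := hJ.trans hk.symm
  exact ⟨inv (pullback.fst p c).toImage ≫ pullback.snd p c, H.of_iso (asIso (pullback.fst p c).toImage)
    (Iso.refl _) (Iso.refl _) (Iso.refl _) (by simp [Scheme.Hom.toImage_imageι]) (by simp) (by simp) (by simp [c])⟩

/-- The ideal of the special fibre has a global equation. -/
theorem exists_equation {X : Scheme.{u}} (p : X ⟶ Spec (CommRingCat.of R)) (J : X.IdealSheafData)
    (hJ : J = Models.specialFibreIdeal R (Over.mk p)) :
    ∃ π : Γ(X, ⊤), ∀ U : X.affineOpens,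
      J.ideal U = Ideal.span {rres (le_top : U.1 ≤ ⊤) π} := by
  subst hJ
  obtain ⟨ϖ, hϖ⟩ := IsDiscreteValuationRing.exists_irreducible R
  refine ⟨p.appTop ((Scheme.ΓSpecIso (CommRingCat.of R)).inv ϖ), fun U => ?_⟩
  refine (IdealSh.Comap.ofIdealTop_comap _ p U).trans ?_
  rw [hϖ.maximalIdeal_eq, Ideal.map_span, Ideal.map_span, Set.image_singleton, Set.image_singleton]
  rfl

/-- Let R be a discrete valuation ring with fraction field K, let 𝒳 be a normal scheme, proper and flat
over Spec R, with generic fibre the K-scheme X, and let m ≥ 1 be an integer such that the special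
fibre of 𝒳 is m times an effective Cartier divisor D, i.e. the ideal sheaf 𝔪_R · O_𝒳 of the special
fibre is the m-th power of the ideal sheaf of D. Then m divides the Euler characteristic χ(X, O_X).
(The published statement asks only that the special fibre be divisible by m as a Cartier divisor and
deduces from normality that the quotient divisor is effective; the divisor is taken effective here.) -/
theorem result (R : Type u) [CommRing R] [IsDomain R]
    [IsDiscreteValuationRing R] (𝒳 : Scheme.{u}) (p : 𝒳 ⟶ Spec (CommRingCat.of R)) [IsProper p] [Flat p]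
    (hn : Pi1.IsNormalScheme 𝒳) (X : Scheme.{u}) [X.Over (Spec (CommRingCat.of (FractionRing R)))]
    (hX : Models.IsModel R 𝒳 p X (X ↘ Spec (CommRingCat.of (FractionRing R)))) (m : ℕ) (hm : 1 ≤ m)
    (I : 𝒳.IdealSheafData) (hI : BlowUp.IsEffCartierIdeal I)
    (hIm : I ^ m = Models.specialFibreIdeal R (Over.mk p)) :
    (m : ℤ) ∣ Curv2.euler (FractionRing R) X (Coh.structureModule X) := by
  haveI : IsLocallyNoetherian (Spec (CommRingCat.of R)) := inferInstance
  haveI : IsLocallyNoetherian 𝒳 := LocallyOfFiniteType.isLocallyNoetherian p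
  obtain ⟨q, hq⟩ := exists_isPullback R p _ hIm
  obtain ⟨π, hπ⟩ := exists_equation R p _ hIm
  obtain ⟨g, hg⟩ := hX.2.2.2
  have hJ : BlowUp.IsEffCartierIdeal (I ^ m) := fun x => by
    obtain ⟨U, hxU, f, hf, he⟩ := hI x
    exact ⟨U, hxU, f ^ m, isEqn_pow ⟨hf, he⟩ m⟩
  let Z := (I ^ m).subscheme
  let i : Z ⟶ 𝒳 := (I ^ m).subschemeι
  let κ := IsLocalRing.ResidueField R
  letI : Z.Over (Spec (CommRingCat.of κ)) := ⟨q⟩
  haveI : IsProper (Z ↘ Spec (CommRingCat.of κ)) := MorphismProperty.of_isPullback hq ‹IsProper p›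
  haveI := EulerChar.isNoetherian κ (X := Z)
  obtain ⟨φ, hlc, hφ⟩ := EulerFam.exists_isLocallyConstant (f := p) (ProperFin.isCoh_structureModule 𝒳)
    (IntProd70.isFlatOver_unit p)
  have hconst : ∀ s : Spec (CommRingCat.of R), φ s = φ (IsLocalRing.closedPoint R) := fun s => by
    obtain ⟨U, hU, hcU, hUc⟩ := (IsLocallyConstant.iff_exists_open φ).1 hlc (IsLocalRing.closedPoint R)
    exact hUc s ((IsLocalRing.specializes_closedPoint s).mem_open hU hcU)
  haveI : IsProper (X ↘ Spec (CommRingCat.of (FractionRing R))) :=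
    MorphismProperty.of_isPullback hg ‹IsProper p›
  have hgen : Curv2.euler (FractionRing R) X (Coh.structureModule X) = φ (IsLocalRing.closedPoint R) := by
    exact ((EulerChar.euler_iso (FractionRing R) (PicLoc.pullbackStructureIso g)).symm.trans
      (hφ (FractionRing R) _ X g _ hg (Classical.arbitrary (Spec (CommRingCat.of (FractionRing R)))))).trans (hconst _)
  have hspec : Curv2.euler κ Z (Coh.structureModule Z) = φ (IsLocalRing.closedPoint R) :=
    ((EulerChar.euler_iso κ (PicLoc.pullbackStructureIso i)).symm.trans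
      (hφ κ _ Z i q hq (Classical.arbitrary (Spec (CommRingCat.of κ))))).trans (hconst _)
  obtain ⟨⟨eQ⟩, ⟨eP⟩⟩ := nonempty_cokernel_θ hI m
  have hK : Killed i (Q I m) :=
    killed_of_iso i eQ.symm (Props.KilledSub.isIso_unit_push i (Coh.structureModule Z))
  have hQZ : (Scheme.Modules.pullback i).obj (Q I m) ≅ Coh.structureModule Z :=
    (Scheme.Modules.pullback i).mapIso eQ ≪≫
      @asIso _ _ _ _ ((Scheme.Modules.pullbackPushforwardAdjunction i).counit.app (Coh.structureModule Z))
        (Props.KilledSub.isIso_counit i _)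
  let L := (Scheme.Modules.pullback i).obj (ClSub.idealMod I)
  let F := (Scheme.Modules.pullback i).obj (ClSub.quotMod I)
  have hIinv := IdealSh.IdealMod.isInvertible_of_isEffCartierIdeal I hI
  have hL : PicF.IsInvertible L := PicCl.isInvertible_pullback i hIinv
  have hF : Coh.IsCoh F := ZClosLib.CohDescent.isCoh_pullback i _
    (ProperFin.isCoh_push_of_isFinite I.subschemeι _ (ProperFin.isCoh_structureModule _))
  obtain ⟨eJ⟩ := nonempty_structure_iso_of_eqn hJ π hπ
  obtain ⟨t⟩ := FormalFun.nonempty_pullback_tensorPow i hIinv m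
  let eL : CohB1.tensorPow L m ≅ Coh.structureModule Z :=
    t.symm ≪≫ (Scheme.Modules.pullback i).mapIso (eP ≪≫ eJ.symm) ≪≫ PicLoc.pullbackStructureIso i
  let f : ℕ → ℤ := fun a => Curv2.euler κ Z (CohB1.tensorMod (CohB1.tensorPow L a) F)
  have hper : ∀ a, f (a + m) = f a := fun a => by
    let e : CohB1.tensorPow L (a + m) ≅ CohB1.tensorMod (CohB1.tensorPow L a) (CohB1.tensorPow L m) :=
      (AmpCrit.SerreVan.powAddIso L a m).symm
    exact EulerChar.euler_iso κ (ProjTwist.tensCongr (e ≪≫ ProjTwist.tensCongr (Iso.refl _) eL ≪≫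
      ProjTwist.tensOne _) (Iso.refl F))
  obtain ⟨D, hD⟩ := HilbPolyX.exists_dim_le κ Z
  obtain ⟨P, -, hP⟩ := Snapper.exists_snapper κ (L := fun _ : Fin 1 => L) (fun _ => hL) D hF
    (EulerChar.dim_support_le hD)
  have hPf : ∀ n : ℕ, (f n : ℚ) = MvPolynomial.eval (fun _ => (n : ℚ)) P := fun n => by
    refine Eq.trans ?_ (hP fun _ => n)
    exact congrArg (Int.cast : ℤ → ℚ) (EulerChar.euler_iso κ (ProjTwist.tensCongr
      (ProjTwist.tensOne (CohB1.tensorPow L n)).symm (Iso.refl F)))
  rw [hgen, ← hspec, ← EulerChar.euler_iso κ hQZ, euler_Q i hI κ hK m le_rfl,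
    Finset.sum_congr rfl fun a _ => const_of_periodic P f m hm hPf hper a, Finset.sum_const,
    Finset.card_range, nsmul_eq_mul]
  exact dvd_mul_right _ _

end Groth.Agent.S17783
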