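import Groth.Statements.S17785
import Mathlib
-- import your own Groth.Agent.* helpers here

set_option autoImplicit false
set_option linter.style.haveILetI false
set_option maxHeartbeats 1000000
universe u
open Variety

namespace Groth.Agent.S17785
open IsDedekindDomain WithZero

/-- In a finite extension with a solution of the equation, the degree is divisible by the index. -/
theorem dvd_finrank (R : Type u) [CommRing R] [IsDomain R] [IsDiscreteValuationRing R]
    (K : Type u) [Field K] [Algebra R K] [IsFractionRing R K] (ϖ : R) (hϖ : Irreducible ϖ)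
    (d N : ℕ) (hd : 1 ≤ d) (L : Type u) [Field L] [Algebra K L] [FiniteDimensional K L]
    (x : Fin (N + 1) → L) (hx : x ≠ 0)
    (heq : x 0 ^ d = ∑ i : Fin N, algebraMap K L (algebraMap R K (ϖ ^ ((i : ℕ) + 1))) * x i.succ ^ d) :
    ((Finset.Icc 1 N).filter (fun δ => δ ∣ d)).gcd (fun δ => d / δ) ∣ Module.finrank K L := by
  classical
  set I := ((Finset.Icc 1 N).filter (fun δ => δ ∣ d)).gcd (fun δ => d / δ)
  let p := ringExpChar K
  haveI : ExpChar L p := expChar_of_injective_ringHom (algebraMap K L).injective p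
  let F := separableClosure K L
  haveI : ExpChar F p := expChar_of_injective_ringHom (algebraMap K F).injective p
  haveI : IsPurelyInseparable F L := separableClosure.isPurelyInseparable K L
  obtain ⟨a, ha⟩ := IsPurelyInseparable.finrank_eq_pow F L p
  set q := p ^ a with hq
  have hq0 : q ≠ 0 := pow_ne_zero _ (expChar_pos K p).ne'
  have hmem : ∀ y : L, ∃ z : F, algebraMap F L z = y ^ q := by
    intro y
    obtain ⟨k, c, hk⟩ := IsPurelyInseparable.minpoly_eq_X_pow_sub_C F p y
    have h1 : p ^ k ≤ q := by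
      rw [← ha, ← Polynomial.natDegree_X_pow_sub_C (n := p ^ k) (r := c), ← hk]
      exact minpoly.natDegree_le y
    have h2 : y ^ p ^ k = algebraMap F L c := by
      have := minpoly.aeval F y
      rw [hk] at this
      simpa [sub_eq_zero] using this
    rcases eq_or_ne p 1 with hp1 | hp1
    · exact ⟨c, by rw [← h2, hq, hp1, one_pow, one_pow]⟩
    · have hka : k ≤ a := (Nat.pow_le_pow_iff_right
        (lt_of_le_of_ne (expChar_pos K p) (Ne.symm hp1))).mp h1
      exact ⟨c ^ p ^ (a - k), by rw [map_pow, ← h2, ← pow_mul, ← pow_add, Nat.add_sub_cancel' hka]⟩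
  choose z hz using hmem
  -- coefficients
  let c : Fin (N + 1) → R := Fin.cons (-1) (fun i => ϖ ^ ((i : ℕ) + 1))
  have hsum : ∑ i : Fin (N + 1), algebraMap K L (algebraMap R K (c i)) * x i ^ d = 0 := by
    rw [Fin.sum_univ_succ]
    simp only [c, Fin.cons_zero, Fin.cons_succ, map_neg, map_one, neg_one_mul]
    rw [← heq, neg_add_cancel]
  let y : Fin (N + 1) → F := fun i => z (x i)
  have hsum' : ∑ i : Fin (N + 1), algebraMap K F (algebraMap R K (c i ^ q)) * y i ^ d = 0 := by
    apply (algebraMap F L).injective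
    rw [map_sum, map_zero]
    have h := congrArg (fun t : L => t ^ q) hsum
    simp only [hq, sum_pow_char_pow, mul_pow, zero_pow (pow_ne_zero a (expChar_pos K p).ne')] at h
    rw [← h]
    refine Finset.sum_congr rfl fun i _ => ?_
    rw [map_mul, map_pow (algebraMap F L) (y i), hz, ← IsScalarTower.algebraMap_apply K F L, map_pow,
      map_pow, ← hq, pow_right_comm (x i)]
  obtain ⟨i₀, hi₀⟩ : ∃ i, y i ≠ 0 := by
    by_contra hc
    push Not at hc
    refine hx (funext fun i => pow_eq_zero_iff hq0 |>.mp ?_)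
    rw [← hz (x i), show z (x i) = 0 from hc i, map_zero]
  -- the integral closure in the separable part
  letI : Algebra R F := ((algebraMap K F).comp (algebraMap R K)).toAlgebra
  haveI : IsScalarTower R K F := IsScalarTower.of_algebraMap_eq fun _ => rfl
  let S := integralClosure R F
  haveI : FiniteDimensional K F := inferInstance
  haveI : Algebra.IsSeparable K F := separableClosure.isSeparable K L
  haveI : Module.Finite R S := IsIntegralClosure.finite R K F S
  haveI : IsFractionRing S F := integralClosure.isFractionRing_of_finite_extension K F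
  haveI : IsDedekindDomain S := IsIntegralClosure.isDedekindDomain R K F S
  haveI : Module.IsTorsionFree R F := Module.IsTorsionFree.trans_faithfulSMul R K F
  haveI : Module.IsTorsionFree R S := inferInstance
  haveI : Module.Free R S := IsIntegralClosure.module_free R K F S
  let P := IsLocalRing.maximalIdeal R
  have hPne : P ≠ ⊥ := IsDiscreteValuationRing.not_a_field R
  let v : HeightOneSpectrum R := ⟨P, inferInstance, hPne⟩
  haveI : Finite (P.primesOver S) := (Algebra.QuasiFinite.finite_primesOver P).to_subtype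
  letI := Fintype.ofFinite (P.primesOver S)
  have hdeg : ∑ Q : P.primesOver S, Q.1.ramificationIdx R * Q.1.inertiaDeg R = Module.finrank K F := by
    rw [Ideal.sum_ramification_inertia_eq_finrank, IsIntegralClosure.rank R K F S]
  have key : ∀ Q : P.primesOver S, I ∣ Q.1.ramificationIdx R * q := by
    rintro ⟨Q, hQp, hQo⟩
    haveI := hQp
    haveI := hQo
    have hinj : Function.Injective (algebraMap R S) := FaithfulSMul.algebraMap_injective R S
    have hmap0 : P.map (algebraMap R S) ≠ ⊥ := fun h => hPne
      ((Ideal.map_eq_bot_iff_of_injective hinj).mp h)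
    have hQne : Q ≠ ⊥ := ne_bot_of_le_ne_bot hmap0 (Ideal.map_le_of_le_comap (Q.over_def P).le)
    let w : HeightOneSpectrum S := ⟨Q, hQp, hQne⟩
    haveI : w.asIdeal.LiesOver v.asIdeal := hQo
    set e := Q.ramificationIdx R with he
    have hwϖ : w.valuation F (algebraMap K F (algebraMap R K ϖ)) = exp (-(e : ℤ)) := by
      rw [← HeightOneSpectrum.valuation_liesOver F v w, HeightOneSpectrum.valuation_of_algebraMap,
        HeightOneSpectrum.intValuation_singleton v hϖ.ne_zero hϖ.maximalIdeal_eq,
        ← exp_nsmul, Ideal.ramificationIdx'_eq_ramificationIdx' (q := w.asIdeal) (hpS := hmap0)]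
      simp [e, w]
    let t : Fin (N + 1) → F := fun i => algebraMap K F (algebraMap R K (c i ^ q)) * y i ^ d
    obtain ⟨i, -, hi⟩ := Finset.exists_max_image Finset.univ (fun i => w.valuation F (t i))
      ⟨i₀, Finset.mem_univ _⟩
    have hc0 : ∀ i, algebraMap K F (algebraMap R K (c i ^ q)) ≠ 0 := by
      intro i
      rw [map_ne_zero, ne_eq, IsFractionRing.to_map_eq_zero_iff, pow_eq_zero_iff hq0]
      refine Fin.cases (by simp [c]) (fun j => ?_) i
      simp [c, hϖ.ne_zero]
    have hti : t i ≠ 0 := fun h => by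
      have h2 := hi i₀ (Finset.mem_univ _)
      simp only [h, map_zero, le_zero_iff, map_eq_zero] at h2
      exact mul_ne_zero (hc0 i₀) (pow_ne_zero d hi₀) h2
    obtain ⟨j, hji, hj⟩ : ∃ j, j ≠ i ∧ w.valuation F (t j) = w.valuation F (t i) := by
      by_contra hc
      push Not at hc
      have := Valuation.map_sum_eq_of_lt (w.valuation F) (f := t) (Finset.mem_univ i) (fun j hj => by
        simp only [Finset.mem_sdiff, Finset.mem_univ, Finset.mem_singleton, true_and] at hj
        exact lt_of_le_of_ne (hi j (Finset.mem_univ _)) (hc j hj))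
      rw [show ∑ k, t k = 0 from hsum', map_zero] at this
      exact hti (((w.valuation F).zero_iff).mp this.symm)
    have hval : ∀ k : Fin (N + 1), t k ≠ 0 → ∃ m : ℤ,
        w.valuation F (t k) = exp (-((k : ℤ) * q * e) + d * m) := by
      intro k hk
      have hyk : y k ≠ 0 := fun h => hk (by simp [t, h, (Nat.one_le_iff_ne_zero.mp hd)])
      refine ⟨log (w.valuation F (y k)), ?_⟩
      have hy : w.valuation F (y k) = exp (log (w.valuation F (y k))) :=
        (exp_log (((w.valuation F).ne_zero_iff).mpr hyk)).symm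
      have hck : w.valuation F (algebraMap K F (algebraMap R K (c k ^ q))) = exp (-((k : ℤ) * q * e)) := by
        refine Fin.cases ?_ (fun l => ?_) k
        · simp [c]
        · simp only [c, Fin.cons_succ, map_pow, hwϖ, ← exp_nsmul, Fin.val_succ]
          congr 1
          simp only [nsmul_eq_mul]
          push_cast
          ring
      show w.valuation F (algebraMap K F (algebraMap R K (c k ^ q)) * y k ^ d) = _
      rw [map_mul, hck, map_pow]
      conv_lhs => rw [hy, ← exp_nsmul, ← exp_add, nsmul_eq_mul]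
    have htj : t j ≠ 0 := fun h => hti (by
      rw [h, map_zero] at hj
      exact ((w.valuation F).zero_iff).mp hj.symm)
    obtain ⟨mi, hmi⟩ := hval i hti
    obtain ⟨mj, hmj⟩ := hval j htj
    rw [hmi, hmj, exp_inj] at hj
    -- `d` divides `(i - j) e q`
    let D := ((i : ℤ) - j).natAbs
    have hdiv : d ∣ D * (e * q) := by
      have : ((d : ℤ)) ∣ ((i : ℤ) - j) * ((e : ℤ) * q) := ⟨mi - mj, by linarith⟩
      have h2 := Int.natAbs_dvd_natAbs.mpr this
      simpa [Int.natAbs_mul, D] using h2
    have hD1 : 1 ≤ D := by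
      have : (i : ℕ) ≠ j := fun h => hji (Fin.ext h.symm)
      omega
    have hD2 : D ≤ N := by
      have := i.isLt
      have := j.isLt
      omega
    let δ := Nat.gcd D d
    have hδpos : 0 < δ := Nat.gcd_pos_of_pos_left d hD1
    have hδ : δ ∈ (Finset.Icc 1 N).filter (fun δ => δ ∣ d) := by
      rw [Finset.mem_filter, Finset.mem_Icc]
      exact ⟨⟨hδpos, (Nat.gcd_le_left d hD1).trans hD2⟩, Nat.gcd_dvd_right D d⟩
    refine (Finset.gcd_dvd hδ).trans ?_
    have hcop := Nat.coprime_div_gcd_div_gcd (m := D) (n := d) hδpos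
    refine hcop.symm.dvd_of_dvd_mul_left (m := D / δ) ?_
    refine (Nat.mul_dvd_mul_iff_left hδpos).mp ?_
    rw [Nat.mul_div_cancel' (Nat.gcd_dvd_right D d), ← mul_assoc,
      Nat.mul_div_cancel' (Nat.gcd_dvd_left D d)]
    exact hdiv
  rw [← Module.finrank_mul_finrank K F L, ha, ← hdeg, Finset.sum_mul]
  refine Finset.dvd_sum fun Q _ => ?_
  rw [mul_right_comm]
  exact (key Q).mul_right _

/-- Each `d / δ` occurs as a degree. -/
theorem exists_solution (R : Type u) [CommRing R] [IsDomain R] [IsDiscreteValuationRing R]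
    (K : Type u) [Field K] [Algebra R K] [IsFractionRing R K] (ϖ : R) (hϖ : Irreducible ϖ)
    (d N δ : ℕ) (hd : 1 ≤ d) (hδ1 : 1 ≤ δ) (hδN : δ ≤ N) (hδd : δ ∣ d) :
    ∃ (L : Type u) (_ : Field L) (_ : Algebra K L),
      FiniteDimensional K L ∧ ((d / δ : ℕ) : ℤ) = (Module.finrank K L : ℤ) ∧
        ∃ x : Fin (N + 1) → L, x ≠ 0 ∧
          x 0 ^ d = ∑ i : Fin N, algebraMap K L (algebraMap R K (ϖ ^ ((i : ℕ) + 1))) * x i.succ ^ d := by
  classical
  obtain ⟨m, rfl⟩ := hδd
  rw [Nat.mul_div_cancel_left m hδ1]
  have hm : 0 < m := Nat.pos_of_mul_pos_left hd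
  let f : Polynomial R := Polynomial.X ^ m - Polynomial.C ϖ
  have hfm : f.Monic := Polynomial.monic_X_pow_sub_C ϖ hm.ne'
  have hfdeg : f.natDegree = m := Polynomial.natDegree_X_pow_sub_C
  have hE : f.IsEisensteinAt (IsLocalRing.maximalIdeal R) := by
    refine ⟨?_, fun {n} hn => ?_, ?_⟩
    · rw [hfm.leadingCoeff, ← Ideal.eq_top_iff_one]
      exact (IsLocalRing.maximalIdeal.isMaximal R).ne_top
    · rw [hfdeg] at hn
      simp only [f, Polynomial.coeff_sub, Polynomial.coeff_X_pow, if_neg hn.ne, zero_sub,
        neg_mem_iff, Polynomial.coeff_C]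
      split_ifs
      · rw [hϖ.maximalIdeal_eq]; exact Ideal.mem_span_singleton_self _
      · exact zero_mem _
    · simp only [f, Polynomial.coeff_sub, Polynomial.coeff_X_pow, if_neg hm.ne, zero_sub,
        neg_mem_iff, Polynomial.coeff_C_zero]
      rw [hϖ.maximalIdeal_eq, Ideal.span_singleton_pow, Ideal.mem_span_singleton]
      rintro ⟨c, hc⟩
      refine hϖ.not_isUnit (IsUnit.of_mul_eq_one c (mul_left_cancel₀ hϖ.ne_zero ?_))
      rw [mul_one, ← mul_assoc, ← sq, ← hc]
  have hirr : Irreducible f :=
    hE.irreducible (IsLocalRing.maximalIdeal.isMaximal R).isPrime hfm.isPrimitive (hfdeg ▸ hm)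
  haveI : Fact (Irreducible (f.map (algebraMap R K))) :=
    ⟨(hfm.irreducible_iff_irreducible_map_fraction_map).mp hirr⟩
  let L := AdjoinRoot (f.map (algebraMap R K))
  have hne : f.map (algebraMap R K) ≠ 0 := (hfm.map _).ne_zero
  refine ⟨L, inferInstance, inferInstance, (AdjoinRoot.powerBasis hne).finite, ?_, ?_⟩
  · rw [(AdjoinRoot.powerBasis hne).finrank, AdjoinRoot.powerBasis_dim, hfm.natDegree_map, hfdeg]
  · let r : L := AdjoinRoot.root _
    have hr : r ^ m = algebraMap K L (algebraMap R K ϖ) := by
      have := AdjoinRoot.eval₂_root (f.map (algebraMap R K))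
      rw [Polynomial.eval₂_map] at this
      simp [f, sub_eq_zero] at this
      exact this
    let j : Fin N := ⟨δ - 1, by omega⟩
    refine ⟨Fin.cons r (fun i => if i = j then 1 else 0), fun h => ?_, ?_⟩
    · have := congrFun h j.succ
      simp at this
    · rw [Finset.sum_eq_single j]
      · simp only [Fin.cons_zero, Fin.cons_succ, if_pos, one_pow, mul_one, j]
        rw [mul_comm δ m, pow_mul, hr, Nat.sub_add_cancel hδ1, map_pow, map_pow]
      · intro b _ hb
        simp [hb, zero_pow (mul_ne_zero (by omega : δ ≠ 0) hm.ne')]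
      · simp

/-- Let R be a discrete valuation ring with fraction field K and uniformizer π, and let d, N ≥ 1.
Consider the hypersurface X in projective N-space over K defined by x_0^d = π x_1^d + π^2 x_2^d + ⋯
+ π^N x_N^d. Its index over K — the greatest common divisor of the degrees of its closed points,
equivalently of the degrees [L : K] of the finite field extensions L over which the equation has a
non-zero solution — equals I(d, N), the greatest common divisor of the quotients d/δ over the
divisors δ of d with 1 ≤ δ ≤ N. Stated as an equality of subgroups of ℤ: the subgroup generated by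
those degrees [L : K] is the subgroup generated by I(d, N). -/
theorem result (R : Type u) [CommRing R] [IsDomain R]
    [IsDiscreteValuationRing R] (K : Type u) [Field K] [Algebra R K] [IsFractionRing R K]
    (ϖ : R) (hϖ : Irreducible ϖ) (d N : ℕ) (hd : 1 ≤ d) (hN : 1 ≤ N) :
    AddSubgroup.closure {m : ℤ | ∃ (L : Type u) (_ : Field L) (_ : Algebra K L),
        FiniteDimensional K L ∧ m = (Module.finrank K L : ℤ) ∧
        ∃ x : Fin (N + 1) → L, x ≠ 0 ∧
          x 0 ^ d = ∑ i : Fin N, algebraMap K L (algebraMap R K (ϖ ^ ((i : ℕ) + 1))) * x i.succ ^ d} =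
      AddSubgroup.zmultiples ((((Finset.Icc 1 N).filter (fun δ => δ ∣ d)).gcd (fun δ => d / δ) : ℕ) : ℤ) := by
  refine le_antisymm ((AddSubgroup.closure_le _).mpr ?_) ?_
  · rintro _ ⟨L, _, _, hfd, rfl, x, hx, heq⟩
    exact Int.mem_zmultiples_iff.mpr (Int.natCast_dvd_natCast.mpr
      (dvd_finrank R K ϖ hϖ d N hd L x hx heq))
  · rw [AddSubgroup.zmultiples_le]
    set G := AddSubgroup.closure {m : ℤ | ∃ (L : Type u) (_ : Field L) (_ : Algebra K L),
        FiniteDimensional K L ∧ m = (Module.finrank K L : ℤ) ∧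
        ∃ x : Fin (N + 1) → L, x ≠ 0 ∧
          x 0 ^ d = ∑ i : Fin N, algebraMap K L (algebraMap R K (ϖ ^ ((i : ℕ) + 1))) * x i.succ ^ d}
    obtain ⟨g, hg⟩ := Int.subgroup_cyclic G
    have hmem : ∀ δ ∈ (Finset.Icc 1 N).filter (fun δ => δ ∣ d), ((d / δ : ℕ) : ℤ) ∈ G := by
      intro δ hδ
      obtain ⟨hδI, hδd⟩ := Finset.mem_filter.mp hδ
      obtain ⟨hδ1, hδN⟩ := Finset.mem_Icc.mp hδI
      exact AddSubgroup.subset_closure (exists_solution R K ϖ hϖ d N δ hd hδ1 hδN hδd)
    rw [hg, ← AddSubgroup.zmultiples_eq_closure, Int.mem_zmultiples_iff]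
    refine Int.natAbs_dvd.mp (Int.natCast_dvd_natCast.mpr (Finset.dvd_gcd fun δ hδ => ?_))
    have := hmem δ hδ
    rw [hg, ← AddSubgroup.zmultiples_eq_closure, Int.mem_zmultiples_iff] at this
    exact Int.natCast_dvd_natCast.mp (Int.natAbs_dvd.mpr this)

end Groth.Agent.S17785
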