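import Groth.Statements.S17788
import Groth.Agent.S1144
import Groth.Agent.S2937
import Groth.Agent.S9812
import Groth.Agent.Hens.FlatClosed
import Groth.Agent.Hens.CompletionBranch
import Groth.Agent.RegLoc.Completion
import Groth.Agent.EGA4Lib.HullFinite
import Groth.Agent.EtStruct.UnibranchEtale
import Groth.Agent.EtStruct.Core
import Groth.Agent.EtStruct.BaseChangeDescent
import Groth.Agent.Hensel.Local
import Mathlib.RingTheory.Etale.Locus
import Mathlib.RingTheory.TensorProduct.Quotient
-- import your own Groth.Agent.* helpers here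

set_option autoImplicit false
universe u
open CategoryTheory CategoryTheory.Limits AlgebraicGeometry
open Pi1

namespace Groth.Agent.S17788

set_option linter.style.haveILetI false
set_option backward.isDefEq.respectTransparency.types false

open AlgebraicGeometry CategoryTheory CategoryTheory.Limits TensorProduct IsLocalRing Polynomial

theorem mul_cancel {R C : Type u} [CommRing R] [IsDomain R] [CommRing C] [Algebra R C] [Module.Flat R C]
    {a : R} (ha : a ≠ 0) {z : C} (hz : algebraMap R C a * z = 0) : z = 0 := by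
  have hi := Module.Flat.lTensor_preserves_injective_linearMap (M := C) (LinearMap.toSpanSingleton R R a)
    (fun r s hrs => mul_right_cancel₀ ha hrs)
  have h0 : (LinearMap.toSpanSingleton R R a).lTensor C (z ⊗ₜ 1) = 0 := by
    rw [LinearMap.lTensor_tmul, LinearMap.toSpanSingleton_apply, one_smul, ← mul_one a, ← smul_eq_mul,
      ← TensorProduct.smul_tmul, Algebra.smul_def, hz, zero_tmul]
  have := congrArg (TensorProduct.rid R C) (hi (h0.trans (map_zero _).symm))
  simpa using this

set_option backward.isDefEq.respectTransparency false in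
attribute [local instance] Localization.AtPrime.algebraOfLiesOver in
theorem isEtaleAt_of_unramified {A B : Type u} [CommRing A] [IsDomain A] [IsIntegrallyClosed A]
    [CommRing B] [IsDomain B] [Algebra A B] [Algebra.FiniteType A B]
    (hinj : Function.Injective (algebraMap A B)) (q : Ideal B) [q.IsPrime] [Algebra.IsUnramifiedAt A q] :
    Algebra.IsEtaleAt A q := by
  let p := q.under A
  let Ap := Localization.AtPrime p
  haveI : IsDomain Ap := IsLocalization.isDomain_of_atPrime _ p
  haveI : IsIntegrallyClosed Ap :=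
    isIntegrallyClosed_of_isLocalization Ap p.primeCompl p.primeCompl_le_nonZeroDivisors
  have hU : CAlg2.IsGeomUnibranch Ap := S9812.result _
  obtain ⟨C, _, _, _, Q, hQ, ψ, hψ, hQp, -⟩ := EtStruct.exists_etale_localRing_surjection (A := A) q
  haveI : Q.LiesOver p := ⟨hQp.symm⟩
  obtain ⟨hdS, -, -⟩ := EtStruct.isGeomUnibranch_localization_of_etale p Q ‹IsDomain Ap› hU
  have hflat : Module.Flat A (Localization.AtPrime Q) := Module.Flat.trans A C _
  have : Module.Flat Ap (Localization.AtPrime Q) := (Module.flat_iff_of_isLocalization Ap p.primeCompl _).mpr hflat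
  have : Algebra.FormallyUnramified C (Localization.AtPrime Q) := .of_isLocalization Q.primeCompl
  have : Algebra.FormallyUnramified A (Localization.AtPrime Q) := .comp _ C _
  have : Algebra.FormallyUnramified Ap (Localization.AtPrime Q) := .of_restrictScalars A _ _
  have : Algebra.EssFiniteType C (Localization.AtPrime Q) := .of_isLocalization _ Q.primeCompl
  have : Algebra.EssFiniteType A (Localization.AtPrime Q) := .comp _ C _
  have : Algebra.EssFiniteType Ap (Localization.AtPrime Q) := .of_comp A _ _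
  have hb : Function.Injective ψ.toRingHom := by
    refine EtStruct.injective_of_comp_algebraMap_injective (A := Ap) ψ.toRingHom ?_
    have hcomp : ψ.toRingHom.comp (algebraMap Ap (Localization.AtPrime Q)) =
        algebraMap Ap (Localization.AtPrime q) := by
      refine IsLocalization.ringHom_ext p.primeCompl (RingHom.ext fun a ↦ ?_)
      simp [Ap, ← IsScalarTower.algebraMap_apply]
    rw [hcomp]
    refine (injective_iff_map_eq_zero _).2 fun x hx => ?_
    obtain ⟨a, s, rfl⟩ := IsLocalization.exists_mk'_eq p.primeCompl x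
    rw [IsLocalization.mk'_eq_zero_iff]
    refine ⟨1, ?_⟩
    have h1 : algebraMap Ap (Localization.AtPrime q) (algebraMap A Ap a) = 0 := by
      rw [← IsLocalization.mk'_spec Ap a s, map_mul, hx, zero_mul]
    rw [← IsScalarTower.algebraMap_apply, IsScalarTower.algebraMap_apply A B, map_eq_zero_iff _
      (IsLocalization.injective (Localization.AtPrime q) q.primeCompl_le_nonZeroDivisors),
      map_eq_zero_iff _ hinj] at h1
    simp [h1]
  haveI : Module.Flat A (Localization.AtPrime q) :=
    Module.Flat.of_linearEquiv (AlgEquiv.ofBijective ψ ⟨hb, hψ⟩).symm.toLinearEquiv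
  exact EtStruct.isEtaleAt_of_isUnramifiedAt_of_flat q

theorem isEtaleAt_localization {R S T : Type u} [CommRing R] [CommRing S] [CommRing T] [Algebra R S] [Algebra S T]
    [Algebra R T] [IsScalarTower R S T] (M : Submonoid S) [IsLocalization M T] (p : Ideal T) [p.IsPrime]
    [Algebra.IsEtaleAt R (p.comap (algebraMap S T))] : Algebra.IsEtaleAt R p := by
  haveI : IsScalarTower R S (Localization.AtPrime p) := .to₁₂₄ R S T _
  haveI : IsLocalization.AtPrime (Localization.AtPrime p) (p.comap (algebraMap S T)) :=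
    IsLocalization.isLocalization_isLocalization_atPrime_isLocalization M (Localization.AtPrime p) p
  exact Algebra.FormallyEtale.of_equiv ((IsLocalization.algEquiv (p.comap (algebraMap S T)).primeCompl
    (Localization.AtPrime (p.comap (algebraMap S T))) (Localization.AtPrime p)).restrictScalars R)

theorem isUnramifiedAt_of_localization {R S T : Type u} [CommRing R] [CommRing S] [CommRing T] [Algebra R S]
    [Algebra S T] [Algebra R T] [IsScalarTower R S T] (M : Submonoid S) [IsLocalization M T]
    [Algebra.FormallyUnramified R T] (p : Ideal T) [p.IsPrime] :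
    Algebra.IsUnramifiedAt R (p.comap (algebraMap S T)) := by
  haveI : IsScalarTower R S (Localization.AtPrime p) := .to₁₂₄ R S T _
  haveI : IsLocalization.AtPrime (Localization.AtPrime p) (p.comap (algebraMap S T)) :=
    IsLocalization.isLocalization_isLocalization_atPrime_isLocalization M (Localization.AtPrime p) p
  haveI : Algebra.FormallyUnramified T (Localization.AtPrime p) := .of_isLocalization p.primeCompl
  haveI : Algebra.FormallyUnramified R (Localization.AtPrime p) := .comp R T _
  exact Algebra.FormallyUnramified.of_equiv ((IsLocalization.algEquiv (p.comap (algebraMap S T)).primeCompl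
    (Localization.AtPrime (p.comap (algebraMap S T))) (Localization.AtPrime p)).restrictScalars R).symm

theorem isEtaleAt_of_etale_away {R S : Type u} [CommRing R] [CommRing S] [Algebra R S] (f : S)
    [Algebra.Etale R (Localization.Away f)] (p : Ideal S) [p.IsPrime] (hf : f ∉ p) : Algebra.IsEtaleAt R p :=
  (Algebra.basicOpen_subset_etaleLocus_iff (R := R) (A := S) (f := f)).2 inferInstance
    (show (⟨p, inferInstance⟩ : PrimeSpectrum S) ∈ PrimeSpectrum.basicOpen f from hf)

theorem exists_punct {T : Type u} [CommRing T] {D : Type u} [CommRing D] [Algebra T D] {P : Scheme.{u}}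
    [CompactSpace P] [QuasiSeparatedSpace P] (π : P ⟶ Spec (CommRingCat.of T))
    (τ : P ⟶ Spec (CommRingCat.of D)) [IsOpenImmersion τ]
    (hτ : τ ≫ Spec.map (CommRingCat.ofHom (algebraMap T D)) = π) (I : Ideal T)
    (hr : ∀ f ∈ I, ∀ x : PrimeSpectrum D, algebraMap T D f ∉ x.asIdeal → x ∈ Set.range τ) :
    ∃ η : D →+* Γ(P, ⊤),
      (∀ t, η (algebraMap T D t) = ((Scheme.ΓSpecIso (CommRingCat.of T)).inv ≫ π.appTop) t) ∧
      ∀ f ∈ I, (∀ x, η x = 0 → ∃ N : ℕ, algebraMap T D f ^ N * x = 0) ∧
        ∀ y, ∃ (N : ℕ) (x : D), η x = η (algebraMap T D f) ^ N * y := by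
  refine ⟨((Scheme.ΓSpecIso (CommRingCat.of D)).inv ≫ τ.appTop).hom, fun t => ?_, fun f hf => ?_⟩
  · have h := Scheme.ΓSpecIso_inv_naturality (CommRingCat.ofHom (algebraMap T D))
    rw [← hτ, Scheme.Hom.comp_appTop, ← reassoc_of% h]
    rfl
  · haveI := τ.isIso_app ((Spec (CommRingCat.of D)).basicOpen
      ((Scheme.ΓSpecIso (CommRingCat.of D)).inv (algebraMap T D f))) (fun x hx => hr f hf x (by
        rw [basicOpen_eq_of_affine] at hx; exact hx))
    exact (S1144.app_bijective_iff τ (algebraMap T D f) _ rfl).1 (ConcreteCategory.bijective_of_isIso _)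

theorem eq_zero_of_killed {T : Type u} [CommRing T] {P : Scheme.{u}} (π : P ⟶ Spec (CommRingCat.of T)) (I : Ideal T)
    (hr : ∀ x : P, ∃ f ∈ I, f ∉ (π x).asIdeal) (w : Γ(P, ⊤))
    (hw : ∀ f ∈ I, ∃ N : ℕ, ((Scheme.ΓSpecIso (CommRingCat.of T)).inv ≫ π.appTop) f ^ N * w = 0) : w = 0 := by
  refine TopCat.Presheaf.section_ext P.sheaf ⊤ w 0 fun x hx => ?_
  obtain ⟨f, hf, hfx⟩ := hr x
  obtain ⟨N, hN⟩ := hw f hf
  have hmem : x ∈ P.basicOpen (((Scheme.ΓSpecIso (CommRingCat.of T)).inv ≫ π.appTop) f) := by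
    change x ∈ P.basicOpen (π.appTop ((Scheme.ΓSpecIso (CommRingCat.of T)).inv f))
    rw [← Scheme.preimage_basicOpen_top, basicOpen_eq_of_affine]
    exact hfx
  have h1 := congrArg (P.presheaf.germ ⊤ x hx) hN
  rw [map_mul, map_pow, map_zero] at h1
  exact ((((Scheme.mem_basicOpen _ _ _ hx).1 hmem).pow N).mul_right_eq_zero.1 h1).trans (map_zero _).symm

/-- A punctured isomorphism onto flat algebras over normal local domains identifies integral elements. -/
theorem mem_range_of_integral {T D D' G R : Type u} [CommRing T] [CommRing D] [CommRing D'] [CommRing G]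
    [Algebra T D] [Algebra T D'] [CommRing R] [IsDomain R] [IsLocalRing R] [IsNoetherianRing R]
    [IsIntegrallyClosed R] [Algebra R D] [Module.Flat R D]
    (hred : IsReduced (D ⧸ (maximalIdeal R).map (algebraMap R D)))
    [Module.Finite T D'] (η : D →+* G) (η' : D' →+* G) (γ : T →+* G)
    (hγ : ∀ t, η (algebraMap T D t) = γ t) (hγ' : ∀ t, η' (algebraMap T D' t) = γ t) (I : Ideal T)
    (hη : ∀ f ∈ I, (∀ x, η x = 0 → ∃ N : ℕ, algebraMap T D f ^ N * x = 0) ∧
      ∀ y, ∃ (N : ℕ) (x : D), η x = η (algebraMap T D f) ^ N * y)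
    (hG : ∀ w : G, (∀ f ∈ I, ∃ N : ℕ, γ f ^ N * w = 0) → w = 0)
    (a : R) (ha : a ≠ 0) (aT : T) (haI : aT ∈ I) (haD : algebraMap R D a = algebraMap T D aT)
    (hrad : ∀ J : Ideal R, (∀ f ∈ I, ∀ b : R, algebraMap R D b = algebraMap T D f → b ∈ J) →
      maximalIdeal R ≤ J.radical) (y : D') : η' y ∈ η.range := by
  rcases subsingleton_or_nontrivial D with hD | hD
  · exact ⟨0, eq_of_zero_eq_one (by rw [← map_zero η, ← map_one η, Subsingleton.elim (0 : D) 1]) _ _⟩
  have hinj : ∀ x, η x = 0 → x = 0 := by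
    intro x hx
    obtain ⟨N, hN⟩ := (hη aT haI).1 x hx
    rw [← haD, ← map_pow] at hN
    exact mul_cancel (pow_ne_zero N ha) hN
  obtain ⟨N, c, hc⟩ := (hη aT haI).2 (η' y)
  rw [hγ] at hc
  obtain ⟨p, hp, hpy⟩ := Algebra.IsIntegral.isIntegral (R := T) y
  have hx : ((p.map (algebraMap T D)).scaleRoots (algebraMap R D (a ^ N))).eval c = 0 := by
    apply hinj
    have hnat : (p.map (algebraMap T D)).map η = p.map γ := by
      rw [Polynomial.map_map]; congr 1; exact RingHom.ext hγ
    rw [← Polynomial.eval₂_at_apply, ← Polynomial.eval_map, Polynomial.map_scaleRoots _ _ _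
      (by rw [(hp.map _).leadingCoeff]; exact fun h10 => one_ne_zero (hinj 1 h10)),
      map_pow, map_pow, haD, hγ, hnat, hc, Polynomial.scaleRoots_eval_mul, Polynomial.eval_map,
      show p.eval₂ γ (η' y) = η' (p.eval₂ (algebraMap T D') y) from ?_, hpy, map_zero, mul_zero]
    rw [Polynomial.hom_eval₂]
    congr 1
    exact (RingHom.ext hγ').symm
  have hdvd : algebraMap R D (a ^ N) ∣ c := by
    refine Hens.FlatClosed.dvd_of_integral (pow_ne_zero N ha)
      ((hrad _ fun f hf b hb => ?_).trans_eq (Ideal.radical_idem _)) hred _ (hp.map _) hx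
    obtain ⟨M, c', hc'⟩ := (hη f hf).2 (η' y)
    refine ⟨M, ?_⟩
    rw [Ideal.mem_comap, Submodule.mem_colon_singleton, Ideal.mem_span_singleton, map_pow, map_pow, hb, haD,
      smul_eq_mul]
    refine ⟨c', sub_eq_zero.1 (hinj _ ?_)⟩
    rw [map_sub, map_mul, map_mul, map_pow, map_pow, hc', hc, hγ, hγ]
    ring
  obtain ⟨d, hd⟩ := hdvd
  refine ⟨d, sub_eq_zero.1 (hG _ fun f hf => ?_)⟩
  obtain ⟨M, c', hc'⟩ := (hη f hf).2 (η d - η' y)
  refine ⟨M, ?_⟩
  have h0 : algebraMap R D (a ^ N) * c' = 0 := by
    apply hinj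
    rw [map_mul, hc', hγ, map_pow, map_pow, haD, hγ]
    have h1 : γ aT ^ N * η d = γ aT ^ N * η' y := by
      rw [← hc, hd, map_mul, map_pow, map_pow, haD, hγ]
    linear_combination (γ f) ^ M * h1
  rw [mul_cancel (pow_ne_zero N ha) h0, map_zero, hγ] at hc'
  exact hc'.symm

theorem isEquivalence_punctured {T : Type u} [CommRing T] [IsLocalRing T]
    (h : SGA2.IsPurePair (Spec (CommRingCat.of T)) (FEt.puncturedSpec T)) :
    (FEt.restrict (FEt.puncturedSpec T).ι).IsEquivalence := by
  let X := Spec (CommRingCat.of T)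
  let U := FEt.puncturedSpec T
  let j := X.homOfLE (inf_le_left : ⊤ ⊓ U ≤ ⊤)
  haveI : IsIso (⊤ : X.Opens).ι := inferInstanceAs (IsIso X.topIso.hom)
  haveI : (FEt.restrict j).IsEquivalence := h ⊤
  haveI : (FEt.restrict (⊤ : X.Opens).ι).IsEquivalence := FEtCat.UnivHomeo.isEquivalence_restrict _
  haveI : (MorphismProperty.Over.pullback FEt.prop.{u} ⊤ (⊤ : X.Opens).ι ⋙
      MorphismProperty.Over.pullback FEt.prop.{u} ⊤ j).IsEquivalence :=
    inferInstanceAs (FEt.restrict (⊤ : X.Opens).ι ⋙ FEt.restrict j).IsEquivalence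
  have : (FEt.restrict (⊤ ⊓ U : X.Opens).ι).IsEquivalence := Functor.isEquivalence_of_iso
    (MorphismProperty.Over.pullbackComp (P := FEt.prop.{u}) (Q := ⊤) j (⊤ : X.Opens).ι _ (X.homOfLE_ι _).symm).symm
  rwa [top_inf_eq] at this


set_option maxHeartbeats 600000 in
set_option synthInstance.maxHeartbeats 100000 in
/-- Let A be an excellent normal local domain and r a natural number such that A is pure in codimension
at least r, in the sense that for every prime ideal P of A of height at least r the completion of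
the local ring A_P at its maximal ideal is pure (for every open V of its spectrum, restriction of
finite étale covers from V to the part of V outside the closed point is an equivalence of
categories). Let B be a normal domain which is a finite extension of A with injective structure map.
Then every prime ideal q of B which is minimal among the primes at which B is not unramified over A
(B_q not formally unramified over A) has height less than r. -/
theorem result (A : Type u) [CommRing A] [IsDomain A] [IsLocalRing A] [IsNoetherianRing A] [IsIntegrallyClosed A] (hA : EGA4.IsExcellent A) (r : ℕ) (hpure : ∀ (P : Ideal A) [P.IsPrime], (r : ℕ∞) ≤ P.height → SGA2.IsPurePair (Spec (CommRingCat.of (AdicCompletion (IsLocalRing.maximalIdeal (Localization.AtPrime P)) (Localization.AtPrime P)))) (FEt.puncturedSpec (AdicCompletion (IsLocalRing.maximalIdeal (Localization.AtPrime P)) (Localization.AtPrime P)))) (B : Type u) [CommRing B] [IsDomain B] [IsIntegrallyClosed B] [Algebra A B] [Module.Finite A B] (hinj : Function.Injective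 (algebraMap A B)) (q : Ideal B) [q.IsPrime] (hq : ¬ Algebra.IsUnramifiedAt A q) (hmin : ∀ (q' : Ideal B) [q'.IsPrime], q' ≤ q → ¬ Algebra.IsUnramifiedAt A q' → q' = q) : q.height < (r : ℕ∞) := by
  classical
  by_contra hcon
  have hr : (r : ℕ∞) ≤ q.height := not_lt.1 hcon
  let P := q.under A
  have hP : (r : ℕ∞) ≤ P.height := hr.trans (Groth.Agent.EGA4Lib.height_le_height_comap_of_integral q)
  let Ap := Localization.AtPrime P
  let Ah := AdicCompletion (maximalIdeal Ap) Ap
  haveI : IsNoetherianRing Ah := Groth.Agent.RegLoc.Completion.isNoetherianRing_adicCompletion' _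
  have hmax : maximalIdeal Ah = (maximalIdeal Ap).map (algebraMap Ap Ah) :=
    AdicCompletion.maximalIdeal_eq_map_of_fg (maximalIdeal Ap).fg_of_isNoetherianRing
  have hmaxA : maximalIdeal Ah = P.map (algebraMap A Ah) := by
    refine hmax.trans ?_
    rw [IsScalarTower.algebraMap_eq A Ap Ah, ← Ideal.map_map, Localization.AtPrime.map_eq_maximalIdeal]
  have heq := isEquivalence_punctured (hpure P hP)
  haveI := heq
  let U := FEt.puncturedSpec Ah
  by_cases hP0 : P = ⊥
  · -- the closed point is the only point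
    have hempty : IsEmpty (U : Scheme.{u}) := ⟨fun x => x.2 (PrimeSpectrum.ext (by
      refine (le_maximalIdeal x.1.2.ne_top).antisymm ?_
      rw [hmaxA]
      refine Ideal.map_le_iff_le_comap.2 fun c hc => ?_
      have h0 : c = 0 := by simpa using hP0.le hc
      simp [h0]))⟩
    let X := Spec (CommRingCat.of Ah)
    let φ : Groth.Agent.FEtCat.Basic.empty X ⟶ Groth.Agent.FEtCat.Basic.mk (𝟙 X) :=
      (Groth.Agent.FEtCat.Basic.isInitialEmpty (X := X)).to _
    haveI : IsIso ((FEt.restrict U.ι).map φ) := by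
      haveI : IsIso ((FEt.restrict U.ι).map φ).left := by
        haveI : IsEmpty ((FEt.restrict U.ι).obj (Groth.Agent.FEtCat.Basic.mk (𝟙 X))).left :=
          ⟨fun x => hempty.false (((FEt.restrict U.ι).obj (Groth.Agent.FEtCat.Basic.mk (𝟙 X))).hom x)⟩
        exact inferInstance
      exact Groth.Agent.FEtCat.Basic.isIso_of_left _
    haveI := isIso_of_fully_faithful (FEt.restrict U.ι) φ
    haveI := Groth.Agent.FEtCat.Basic.isIso_left φ
    exact IsEmpty.false (α := (∅ : Scheme.{u})) ((inv φ.left) (closedPoint Ah))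
  obtain ⟨a₀, ha₀P, ha₀⟩ := (Submodule.ne_bot_iff P).1 hP0
  haveI : Module.Flat Ap Ah := AdicCompletion.flat_of_isNoetherian _
  haveI : Module.Flat A Ah := Module.Flat.trans A Ap Ah
  -- the fibre point
  let Bq := Localization.AtPrime q
  let lq : Ap →+* Bq := Localization.localRingHom P q (algebraMap A B) rfl
  haveI : IsLocalHom lq := Localization.isLocalHom_localRingHom P q (algebraMap A B) rfl
  let eres : ResidueField Ap ≃+* ResidueField Ah :=
    RingEquiv.ofBijective _ (AdicCompletion.residueField_map_bijective_of_fg (maximalIdeal Ap).fg_of_isNoetherianRing)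
  let χ₀ : Ah →+* ResidueField Bq := (ResidueField.map lq).comp (eres.symm.toRingHom.comp (residue Ah))
  let ρB : B →+* ResidueField Bq := (residue Bq).comp (algebraMap B Bq)
  have hχ : ∀ x : A, χ₀ (algebraMap A Ah x) = ρB (algebraMap A B x) := by
    intro x
    change ResidueField.map lq (eres.symm (residue Ah (algebraMap A Ah x))) = _
    rw [IsScalarTower.algebraMap_apply A Ap Ah,
      show residue Ah (algebraMap Ap Ah (algebraMap A Ap x)) = eres (residue Ap (algebraMap A Ap x)) from
        (ResidueField.map_residue _ _).symm, eres.symm_apply_apply, ResidueField.map_residue]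
    exact congrArg (residue Bq) (Localization.localRingHom_to_map P q _ rfl x)
  have hAκ : ∀ x : A, algebraMap A (ResidueField Bq) x = ρB (algebraMap A B x) := fun x => by
    rw [IsScalarTower.algebraMap_apply A Bq (ResidueField Bq), IsScalarTower.algebraMap_apply A B Bq]
    rfl
  let χ : Ah →ₐ[A] ResidueField Bq := { χ₀ with commutes' := fun x => (hχ x).trans (hAκ x).symm }
  let ρ : B →ₐ[A] ResidueField Bq := { ρB with commutes' := fun x => (hAκ x).symm }
  let Bh := Ah ⊗[A] B
  let Ψ : Bh →ₐ[A] ResidueField Bq := Algebra.TensorProduct.lift χ ρ (fun _ _ => Commute.all _ _)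
  let Q : Ideal Bh := RingHom.ker Ψ.toRingHom
  haveI : Q.IsPrime := RingHom.ker_isPrime _
  letI : Algebra B Bh := Algebra.TensorProduct.rightAlgebra
  have hρker : ∀ b : B, ρB b = 0 ↔ b ∈ q := fun b => by
    change residue Bq (algebraMap B Bq b) = 0 ↔ _
    rw [residue_eq_zero_iff, IsLocalization.AtPrime.to_map_mem_maximal_iff Bq q]
  have hΨ : ∀ (x : Ah) (b : B), Ψ (x ⊗ₜ[A] b) = χ₀ x * ρB b := fun x b =>
    Algebra.TensorProduct.lift_tmul χ ρ _ x b
  have hQq : ∀ b : B, (1 : Ah) ⊗ₜ[A] b ∈ Q ↔ b ∈ q := fun b => by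
    rw [← hρker]
    change Ψ ((1 : Ah) ⊗ₜ[A] b) = 0 ↔ _
    rw [hΨ, map_one, one_mul]
  have hQm : Q.comap (algebraMap Ah Bh) = maximalIdeal Ah := by
    ext x
    rw [Ideal.mem_comap]
    change Ψ (x ⊗ₜ[A] (1 : B)) = 0 ↔ _
    rw [hΨ, map_one, mul_one, ← residue_eq_zero_iff]
    change ResidueField.map lq (eres.symm (residue Ah x)) = 0 ↔ _
    rw [map_eq_zero_iff _ (RingHom.injective _), map_eq_zero_iff _ eres.symm.injective]
  haveI : Q.IsMaximal := Ideal.isMaximal_of_isIntegral_of_isMaximal_comap Q (by rw [hQm]; infer_instance)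
  -- the component
  obtain ⟨n, e, he, hloc⟩ := Groth.Agent.Hensel.exists_pi_local (R := Ah) Bh
  obtain ⟨i, hi⟩ : ∃ i, e i ∉ Q := by
    by_contra hall
    push Not at hall
    exact (‹Q.IsPrime›).ne_top ((Ideal.eq_top_iff_one Q).2 (he.complete ▸ Ideal.sum_mem Q fun k _ => hall k))
  obtain ⟨C, _, _, hCloc, hsurj, hker⟩ : ∃ (C : Type u) (_ : CommRing C) (_ : Algebra Bh C),
      IsLocalRing C ∧ Function.Surjective (algebraMap Bh C) ∧ RingHom.ker (algebraMap Bh C) = Ideal.span {1 - e i} :=
    ⟨Bh ⧸ Ideal.span {1 - e i}, inferInstance, inferInstance, hloc i, Ideal.Quotient.mk_surjective, Ideal.mk_ker⟩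
  letI : Algebra Ah C := ((algebraMap Bh C).comp (algebraMap Ah Bh)).toAlgebra
  haveI : IsScalarTower Ah Bh C := IsScalarTower.of_algebraMap_eq' (R := Ah) (S := Bh) (A := C) rfl
  haveI : Module.Finite Ah C := Module.Finite.of_surjective ((IsScalarTower.toAlgHom Ah Bh C).toLinearMap) hsurj
  haveI : IsLocalization.Away (e i) C := IsLocalization.away_of_isIdempotentElem (he.idem i) hker hsurj
  have hspan : Ideal.span {1 - e i} ≤ Q := by
    rw [Ideal.span_singleton_le_iff_mem]
    exact ((‹Q.IsPrime›).mem_or_mem ((he.idem i).mul_one_sub_self ▸ Q.zero_mem)).resolve_left hi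
  have hmC : ∀ z : Bh, algebraMap Bh C z ∈ maximalIdeal C ↔ z ∈ Q := by
    intro z
    have hm : (Q.map (algebraMap Bh C)).IsMaximal :=
      Ideal.IsMaximal.map_of_surjective_of_ker_le hsurj (by rwa [hker])
    rw [← IsLocalRing.eq_maximalIdeal hm, ← Ideal.mem_comap, Ideal.comap_map_of_surjective' _ hsurj, hker,
      sup_eq_left.2 hspan]
  let jB : B →+* C := (algebraMap Bh C).comp (algebraMap B Bh)
  letI : Algebra B C := jB.toAlgebra
  haveI : IsScalarTower B Bh C := IsScalarTower.of_algebraMap_eq' (R := B) (S := Bh) (A := C) rfl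
  have hjB : ∀ y : q.primeCompl, IsUnit (jB y) := fun y => by
    by_contra hu
    exact y.2 ((hQq y).1 ((hmC _).1 ((mem_maximalIdeal _).2 hu)))
  let lBC : Bq →+* C := IsLocalization.lift (M := q.primeCompl) (S := Bq) (P := C) (g := jB) hjB
  letI : Algebra Bq C := lBC.toAlgebra
  have hBqC : ∀ b : B, algebraMap Bq C (algebraMap B Bq b) = jB b := fun b => IsLocalization.lift_eq hjB b
  haveI : IsScalarTower B Bq C := .of_algebraMap_eq fun b => (hBqC b).symm
  haveI : Module.Flat B Bh := by
    have : Algebra.IsPushout A B Ah Bh := inferInstance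
    exact Module.Flat.of_linearEquiv (Algebra.IsPushout.equiv A B Ah Bh).symm.toLinearEquiv
  haveI : Module.Flat Bh C := IsLocalization.flat C (Submonoid.powers (e i))
  haveI : Module.Flat B C := Module.Flat.trans B Bh C
  haveI : Module.Flat Bq C := (Module.flat_iff_of_isLocalization Bq q.primeCompl C).2 inferInstance
  haveI : IsNoetherianRing B := Algebra.FiniteType.isNoetherianRing A B
  haveI : IsDomain Bq := IsLocalization.isDomain_of_atPrime _ q
  haveI : IsIntegrallyClosed Bq :=
    isIntegrallyClosed_of_isLocalization Bq q.primeCompl q.primeCompl_le_nonZeroDivisors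
  have hAC : ∀ x : A, algebraMap Ah C (algebraMap A Ah x) = jB (algebraMap A B x) := by
    intro x
    change algebraMap Bh C (algebraMap Ah Bh (algebraMap A Ah x)) = algebraMap Bh C _
    congr 1
    change algebraMap A Ah x ⊗ₜ[A] (1 : B) = (1 : Ah) ⊗ₜ[A] algebraMap A B x
    exact Algebra.TensorProduct.tmul_one_eq_one_tmul x
  have hApC : (algebraMap Ah C).comp (algebraMap Ap Ah) = (algebraMap Bq C).comp lq :=
    IsLocalization.ringHom_ext P.primeCompl (RingHom.ext fun x => by
      simp only [RingHom.comp_apply, lq, Localization.localRingHom_to_map, hBqC]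
      rw [← IsScalarTower.algebraMap_apply A Ap Ah, hAC, Localization.localRingHom_to_map]
      exact (hBqC _).symm)
  have hlqmax : ∀ x ∈ maximalIdeal Ap, lq x ∈ maximalIdeal Bq := fun x hx =>
    IsLocalRing.map_maximalIdeal_le lq (Ideal.mem_map_of_mem lq hx)
  have happrox : ∀ z : C, ∃ w : Bq, z - algebraMap Bq C w ∈ (maximalIdeal Bq).map (algebraMap Bq C) := by
    intro z
    obtain ⟨z, rfl⟩ := hsurj z
    induction z using TensorProduct.induction_on with
    | zero => exact ⟨0, by simp⟩
    | tmul x b =>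
      obtain ⟨ξ, hξ⟩ := eres.surjective (residue Ah x)
      obtain ⟨x₀, rfl⟩ := residue_surjective ξ
      have hd : x - algebraMap Ap Ah x₀ ∈ maximalIdeal Ah := by
        rw [← residue_eq_zero_iff, map_sub, sub_eq_zero, ← hξ]
        exact ResidueField.map_residue _ _
      rw [hmax] at hd
      have hd' := Ideal.mem_map_of_mem (algebraMap Ah C) hd
      rw [Ideal.map_map, hApC, ← Ideal.map_map] at hd'
      have hd'' : algebraMap Ah C (x - algebraMap Ap Ah x₀) ∈ (maximalIdeal Bq).map (algebraMap Bq C) :=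
        Ideal.map_mono (Ideal.map_le_iff_le_comap.2 hlqmax) hd'
      refine ⟨lq x₀ * algebraMap B Bq b, ?_⟩
      rw [map_mul, hBqC, ← RingHom.comp_apply (algebraMap Bq C) lq, ← hApC, RingHom.comp_apply]
      have hxb : algebraMap Bh C (x ⊗ₜ b) = algebraMap Ah C x * jB b := by
        change _ = algebraMap Bh C (x ⊗ₜ[A] (1 : B)) * algebraMap Bh C ((1 : Ah) ⊗ₜ[A] b)
        rw [← map_mul, Algebra.TensorProduct.tmul_mul_tmul, mul_one, one_mul]
      rw [hxb, ← sub_mul, ← map_sub]
      exact Ideal.mul_mem_right _ _ hd''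
    | add u v hu hv =>
      obtain ⟨w, hw⟩ := hu
      obtain ⟨w', hw'⟩ := hv
      exact ⟨w + w', by rw [map_add, map_add, add_sub_add_comm]; exact add_mem hw hw'⟩
  haveI : IsLocalHom (algebraMap Bq C) := by
    constructor
    intro w hw
    obtain ⟨b, s, rfl⟩ := IsLocalization.exists_mk'_eq q.primeCompl w
    rw [IsLocalization.AtPrime.isUnit_mk'_iff]
    intro hb
    have h1 := hw.mul (hjB s)
    rw [← hBqC, ← map_mul, IsLocalization.mk'_spec, hBqC] at h1
    exact (mem_maximalIdeal _).1 ((hmC _).2 ((hQq b).2 hb)) h1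
  have hmaxC : (maximalIdeal Bq).map (algebraMap Bq C) = maximalIdeal C := by
    refine le_antisymm (IsLocalRing.map_maximalIdeal_le _) fun z hz => ?_
    obtain ⟨w, hw⟩ := happrox z
    have hwm : algebraMap Bq C w ∈ maximalIdeal C := by
      simpa using sub_mem hz (IsLocalRing.map_maximalIdeal_le (algebraMap Bq C) hw)
    have hwm' : w ∈ maximalIdeal Bq := (IsLocalRing.maximalIdeal_comap (algebraMap Bq C)).le hwm
    simpa using add_mem hw (Ideal.mem_map_of_mem (algebraMap Bq C) hwm')
  have hredC : IsReduced (C ⧸ (maximalIdeal Bq).map (algebraMap Bq C)) := by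
    rw [hmaxC]; infer_instance
  -- étale away from the closed point
  have hloc' : ∀ x : PrimeSpectrum C, x.asIdeal.comap (algebraMap Ah C) ≠ maximalIdeal Ah → Algebra.IsEtaleAt Ah x.asIdeal := by
    intro x hx
    let q' := x.asIdeal.comap jB
    have hq' : q' ≤ q := fun b hb => (hQq b).1 ((hmC _).1 (le_maximalIdeal x.2.ne_top hb))
    have hne : q' ≠ q := by
      intro heq'
      refine hx ((le_maximalIdeal (Ideal.IsPrime.comap _).ne_top).antisymm ?_)
      rw [hmaxA, Ideal.map_le_iff_le_comap]
      intro c hc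
      rw [Ideal.mem_comap, Ideal.mem_comap, hAC]
      exact (heq'.ge hc : _)
    haveI : Algebra.IsUnramifiedAt A q' := not_not.1 fun hu => hne (hmin q' hq' hu)
    haveI := isEtaleAt_of_unramified hinj q'
    haveI : Algebra.FinitePresentation A B := (Algebra.FinitePresentation.of_finiteType).1 inferInstance
    obtain ⟨b, hb, hbe⟩ := Algebra.exists_etale_of_isEtaleAt (R := A) q'
    haveI := hbe
    let Qh := x.asIdeal.comap (algebraMap Bh C)
    haveI : Algebra.Etale Ah (Localization.Away ((1 : Ah) ⊗ₜ[A] b : Bh)) :=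
      Algebra.Etale.of_equiv (IsLocalization.Away.tensorProductEquivTMulRight A Ah b (Localization.Away b))
    have hbQ : ((1 : Ah) ⊗ₜ[A] b : Bh) ∉ Qh := fun h => hb h
    haveI : Algebra.IsEtaleAt Ah Qh := @isEtaleAt_of_etale_away Ah Bh _ _ _ ((1 : Ah) ⊗ₜ[A] b) ‹_› Qh _ hbQ
    exact isEtaleAt_localization (R := Ah) (Submonoid.powers (e i)) x.asIdeal
  have hetf : ∀ f ∈ maximalIdeal Ah, Algebra.Etale Ah (Localization.Away (algebraMap Ah C f)) := by
    intro f hf
    haveI : Algebra.FinitePresentation Ah C := (Algebra.FinitePresentation.of_finiteType).1 inferInstance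
    refine Algebra.basicOpen_subset_etaleLocus_iff_etale.1 fun x hx => hloc' x fun h => ?_
    exact hx (h.ge hf)
  let gC : Spec (CommRingCat.of C) ⟶ Spec (CommRingCat.of Ah) := Spec.map (CommRingCat.ofHom (algebraMap Ah C))
  haveI : IsFinite gC := (IsFinite.SpecMap_iff _).2 (RingHom.finite_algebraMap.2 inferInstance)
  let τ := pullback.fst gC U.ι
  let π := pullback.snd gC U.ι ≫ U.ι
  have hcover : ∀ x : ↥(pullback gC U.ι), ∃ f ∈ maximalIdeal Ah, f ∉ (π x).asIdeal := by
    intro x
    by_contra hall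
    push Not at hall
    exact (pullback.snd gC U.ι x).2 (PrimeSpectrum.ext ((le_maximalIdeal (π x).2.ne_top).antisymm hall))
  haveI : Etale (pullback.snd gC U.ι) := by
    suffices Etale π from Etale.of_comp (pullback.snd gC U.ι) U.ι
    rw [show π = τ ≫ gC from pullback.condition.symm]
    refine (IsZariskiLocalAtSource.iff_of_iSup_eq_top (P := @Etale)
      (fun f : maximalIdeal Ah => τ ⁻¹ᵁ (PrimeSpectrum.basicOpen (algebraMap Ah C f.1) : (Spec (CommRingCat.of C)).Opens)) ?_).2 fun f => ?_
    · refine eq_top_iff.2 fun x _ => ?_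
      obtain ⟨f, hf, hfx⟩ := hcover x
      rw [TopologicalSpace.Opens.mem_iSup]
      refine ⟨⟨f, hf⟩, ?_⟩
      have : gC (τ x) = π x := by rw [← Scheme.Hom.comp_apply, pullback.condition]
      rw [← this] at hfx
      exact hfx
    · let d : Spec (CommRingCat.of (Localization.Away (algebraMap Ah C f.1))) ⟶ Spec (CommRingCat.of C) :=
        Spec.map (CommRingCat.ofHom (algebraMap C _))
      haveI : IsOpenImmersion d := IsOpenImmersion.of_isLocalization (algebraMap Ah C f.1)
      let V0 := τ ⁻¹ᵁ (PrimeSpectrum.basicOpen (algebraMap Ah C f.1) : (Spec (CommRingCat.of C)).Opens)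
      have hle : Set.range (V0.ι ≫ τ) ⊆ Set.range d := by
        rintro _ ⟨x, rfl⟩
        exact (PrimeSpectrum.localization_away_comap_range (Localization.Away (algebraMap Ah C f.1)) _).ge x.2
      rw [← Category.assoc, ← IsOpenImmersion.lift_fac d (V0.ι ≫ τ) hle, Category.assoc]
      haveI : IsOpenImmersion (IsOpenImmersion.lift d (V0.ι ≫ τ) hle) := by
        haveI : IsOpenImmersion (IsOpenImmersion.lift d (V0.ι ≫ τ) hle ≫ d) := by
          rw [IsOpenImmersion.lift_fac]; infer_instance
        exact IsOpenImmersion.of_comp _ d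
      haveI : Etale (d ≫ gC) := by
        rw [← Spec.map_comp]
        exact (HasRingHomProperty.Spec_iff (P := @Etale)).2 (RingHom.etale_algebraMap.2 (hetf f.1 f.2))
      infer_instance
  -- extend
  let E0 : FEt.Cat (U : Scheme.{u}) := Groth.Agent.FEtCat.Basic.mk (pullback.snd gC U.ι)
  obtain ⟨Y, ⟨ε⟩⟩ : ∃ Y, Nonempty ((FEt.restrict U.ι).obj Y ≅ E0) := ⟨_, ⟨(FEt.restrict U.ι).objObjPreimageIso E0⟩⟩
  let Yh : Y.left ⟶ Spec (CommRingCat.of Ah) := Y.hom
  haveI : IsFinite Yh := Y.prop.1
  haveI : Etale Yh := Y.prop.2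
  haveI : IsAffine Y.left := isAffine_of_isAffineHom Yh
  let C' : Type u := Γ(Y.left, ⊤)
  let φ' : CommRingCat.of Ah ⟶ CommRingCat.of C' := Spec.preimage (Y.left.isoSpec.inv ≫ Yh)
  letI : Algebra Ah C' := φ'.hom.toAlgebra
  have hφ' : Spec.map (CommRingCat.ofHom (algebraMap Ah C')) = Y.left.isoSpec.inv ≫ Yh := Spec.map_preimage _
  haveI : Module.Finite Ah C' := RingHom.finite_algebraMap.1 ((IsFinite.SpecMap_iff φ').1 (by
    rw [Spec.map_preimage]; infer_instance))
  haveI : Algebra.Etale Ah C' := RingHom.etale_algebraMap.1 ((HasRingHomProperty.Spec_iff (P := @Etale)).1 (by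
    rw [show Spec.map φ' = Y.left.isoSpec.inv ≫ Yh from Spec.map_preimage _]; infer_instance))
  haveI : IsIso ε.inv.left := Groth.Agent.FEtCat.Basic.isIso_left ε.inv
  let εl : pullback gC U.ι ⟶ pullback Yh U.ι := ε.inv.left
  haveI : IsIso εl := Groth.Agent.FEtCat.Basic.isIso_left ε.inv
  let τ' : pullback gC U.ι ⟶ Spec (CommRingCat.of C') :=
    εl ≫ pullback.fst Yh U.ι ≫ Y.left.isoSpec.hom
  have hεw : εl ≫ pullback.snd Yh U.ι = pullback.snd gC U.ι := MorphismProperty.Over.w ε.inv
  have hτ' : τ' ≫ Spec.map (CommRingCat.ofHom (algebraMap Ah C')) = π := by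
    have hcond : pullback.fst Yh U.ι ≫ Yh = pullback.snd Yh U.ι ≫ U.ι := pullback.condition
    simp only [τ', Category.assoc, hφ', Iso.hom_inv_id_assoc, π, hcond]
    rw [reassoc_of% hεw]
  haveI : IsOpenImmersion τ' := inferInstance
  haveI : CompactSpace ↥(pullback gC U.ι) := by
    haveI : CompactSpace ↥(U : Scheme.{u}) := isCompact_iff_compactSpace.mp (TopologicalSpace.NoetherianSpace.isCompact _)
    exact QuasiCompact.compactSpace_of_compactSpace (pullback.snd gC U.ι)
  haveI : QuasiSeparatedSpace ↥(pullback gC U.ι) := quasiSeparatedSpace_of_quasiSeparated τ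
  have hmemU : ∀ {D : Type u} [CommRing D] [Algebra Ah D], ∀ f ∈ maximalIdeal Ah, ∀ x : PrimeSpectrum D,
      algebraMap Ah D f ∉ x.asIdeal → (Spec.map (CommRingCat.ofHom (algebraMap Ah D))) x ∈ U :=
    fun f hf x hfx he => hfx ((congrArg PrimeSpectrum.asIdeal he).ge hf)
  obtain ⟨η, hη₀, hη⟩ := exists_punct π τ pullback.condition (maximalIdeal Ah) (fun f hf x hfx => by
    rw [Scheme.Pullback.range_fst, Scheme.Opens.range_ι]
    exact hmemU f hf x hfx)
  obtain ⟨η', hη'₀, hη'⟩ := exists_punct π τ' hτ' (maximalIdeal Ah) (fun f hf x hfx => by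
    obtain ⟨z, hz⟩ : Y.left.isoSpec.inv x ∈ Set.range (pullback.fst Yh U.ι) := by
      rw [Scheme.Pullback.range_fst, Scheme.Opens.range_ι]
      change (Y.left.isoSpec.inv ≫ Yh) x ∈ U
      rw [← hφ']
      exact hmemU f hf x hfx
    obtain ⟨z', rfl⟩ := εl.surjective z
    refine ⟨z', ?_⟩
    simp only [τ', Scheme.Hom.comp_apply]
    rw [hz, ← Scheme.Hom.comp_apply, Iso.inv_hom_id]
    rfl)
  let γ : Ah →+* Γ(pullback gC U.ι, ⊤) := ((Scheme.ΓSpecIso (CommRingCat.of Ah)).inv ≫ π.appTop).hom
  have hG := fun w => eq_zero_of_killed π (maximalIdeal Ah) hcover w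
  have ha₀h : algebraMap A Ah a₀ ∈ maximalIdeal Ah := hmaxA ▸ Ideal.mem_map_of_mem _ ha₀P
  have ha₀q : algebraMap B Bq (algebraMap A B a₀) ≠ 0 := fun h0 => ha₀ (by
    rw [map_eq_zero_iff _ (IsLocalization.injective Bq q.primeCompl_le_nonZeroDivisors),
      map_eq_zero_iff _ hinj] at h0
    exact h0)
  have hsub₁ : ∀ y : C', η' y ∈ η.range := fun y =>
    mem_range_of_integral (R := Bq) hredC η η' γ hη₀ hη'₀ (maximalIdeal Ah) hη hG
      (algebraMap B Bq (algebraMap A B a₀)) ha₀q (algebraMap A Ah a₀) ha₀h (by rw [hBqC, hAC])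
      (fun J hJ => by
        rw [Ideal.radical_eq_sInf]
        refine le_sInf fun 𝔭 ⟨hJ𝔭, h𝔭⟩ => ?_
        haveI := h𝔭
        have h1 : P ≤ (𝔭.comap (algebraMap B Bq)).comap (algebraMap A B) := fun c hc =>
          hJ𝔭 (hJ (algebraMap A Ah c) (hmaxA ▸ Ideal.mem_map_of_mem _ hc) _ (by rw [hBqC, hAC]))
        have h2 : 𝔭.comap (algebraMap B Bq) ≤ q := fun b hb =>
          (IsLocalization.AtPrime.to_map_mem_maximal_iff Bq q b).1 (le_maximalIdeal h𝔭.ne_top hb)
        have h3 : 𝔭.comap (algebraMap B Bq) = q := h2.eq_of_not_lt fun hlt =>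
          (Ideal.IsIntegral.comap_lt_comap (R := A) hlt).not_ge h1
        rw [← Localization.AtPrime.map_eq_maximalIdeal]
        exact Ideal.map_le_iff_le_comap.2 h3.ge) y
  have ha₀p : algebraMap A Ap a₀ ≠ 0 := fun h0 => ha₀ ((map_eq_zero_iff _
    (IsLocalization.injective Ap P.primeCompl_le_nonZeroDivisors)).1 h0)
  haveI : IsDomain Ap := IsLocalization.isDomain_of_atPrime _ P
  haveI : IsIntegrallyClosed Ap :=
    isIntegrallyClosed_of_isLocalization Ap P.primeCompl P.primeCompl_le_nonZeroDivisors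
  letI : Algebra Ap C' := ((algebraMap Ah C').comp (algebraMap Ap Ah)).toAlgebra
  haveI : IsScalarTower Ap Ah C' := .of_algebraMap_eq' rfl
  haveI : Module.Flat Ap C' := Module.Flat.trans Ap Ah C'
  have hredC' : IsReduced (C' ⧸ (maximalIdeal Ap).map (algebraMap Ap C')) := by
    rw [IsScalarTower.algebraMap_eq Ap Ah C', ← Ideal.map_map, ← hmax]
    letI : Field (Ah ⧸ maximalIdeal Ah) := Ideal.Quotient.field _
    haveI : IsReduced ((Ah ⧸ maximalIdeal Ah) ⊗[Ah] C') := Algebra.FormallyUnramified.isReduced_of_field (Ah ⧸ maximalIdeal Ah) _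
    let e' := (Algebra.TensorProduct.quotIdealMapEquivTensorQuot C' (maximalIdeal Ah)).toRingEquiv.trans
      (Algebra.TensorProduct.comm Ah C' (Ah ⧸ maximalIdeal Ah)).toRingEquiv
    exact isReduced_of_injective e' e'.injective
  have hsub₂ : ∀ z : C, η z ∈ η'.range := fun z =>
    mem_range_of_integral (R := Ap) hredC' η' η γ hη'₀ hη₀ (maximalIdeal Ah) hη' hG
      (algebraMap A Ap a₀) ha₀p (algebraMap A Ah a₀) ha₀h (by
        rw [IsScalarTower.algebraMap_apply Ap Ah C', ← IsScalarTower.algebraMap_apply A Ap Ah])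
      (fun J hJ => by
        refine le_trans ?_ Ideal.le_radical
        intro c hc
        exact hJ (algebraMap Ap Ah c) (hmax ▸ Ideal.mem_map_of_mem _ hc) c
          (IsScalarTower.algebraMap_apply Ap Ah C' c)) z
  have hinjη : Function.Injective η := (injective_iff_map_eq_zero η).2 fun x hx => by
    obtain ⟨N, hN⟩ := (hη _ ha₀h).1 x hx
    rw [hAC, ← hBqC, ← map_pow] at hN
    exact mul_cancel (pow_ne_zero N ha₀q) hN
  have hinjη' : Function.Injective η' := (injective_iff_map_eq_zero η').2 fun x hx => by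
    obtain ⟨N, hN⟩ := (hη' _ ha₀h).1 x hx
    rw [IsScalarTower.algebraMap_apply A Ap Ah, ← IsScalarTower.algebraMap_apply Ap Ah C', ← map_pow] at hN
    exact mul_cancel (pow_ne_zero N ha₀p) hN
  choose g hg using hsub₁
  let gH : C' →ₐ[Ah] C :=
    { toFun := g
      map_one' := hinjη (by rw [hg, map_one, map_one])
      map_mul' := fun x y => hinjη (by rw [hg, map_mul, map_mul, hg, hg])
      map_zero' := hinjη (by rw [hg, map_zero, map_zero])
      map_add' := fun x y => hinjη (by rw [hg, map_add, map_add, hg, hg])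
      commutes' := fun t => hinjη (by rw [hg, hη₀, hη'₀]) }
  have hgH : Function.Bijective gH := ⟨fun x y h => hinjη' (by rw [← hg, ← hg]; exact congrArg η h), fun z => by
    obtain ⟨y, hy⟩ := hsub₂ z
    exact ⟨y, hinjη ((hg y).trans hy)⟩⟩
  haveI : Algebra.Etale Ah C := Algebra.Etale.of_equiv (AlgEquiv.ofBijective gH hgH)
  have hQC : (maximalIdeal C).comap (algebraMap Bh C) = Q := Ideal.ext fun z => hmC z
  haveI : Algebra.IsUnramifiedAt Ah Q := by
    have h0 := isUnramifiedAt_of_localization (R := Ah) (T := C) (Submonoid.powers (e i)) (maximalIdeal C)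
    rw! [hQC] at h0
    exact h0
  have hfin := Groth.Agent.EtStruct.isUnramifiedAt_of_flat_baseChange (A := A) (B := B) (A' := Ah) Q
  have hcomap : Q.comap (algebraMap B Bh) = q := Ideal.ext fun b => hQq b
  apply hq
  rw! [hcomap] at hfin
  exact hfin

end Groth.Agent.S17788
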