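import Groth.Statements.S1779
import Groth.Agent.DualCx.Extended
import Groth.Agent.RegLoc.Completion
import Mathlib.RingTheory.AdicCompletion.AsTensorProduct

set_option autoImplicit false
universe u
open CategoryTheory
attribute [local instance] HasDerivedCategory.standard
open Dual

namespace Groth.Agent.S1779

/-- Let A be a Noetherian ring, I an ideal and ω a dualizing complex for A. Assuming the derived base
change functor to the I-adic completion exists, the base change of ω is a dualizing complex for the
I-adic completion of A. -/
theorem result (A : Type u) [CommRing A] [IsNoetherianRing A] (I : Ideal A) [DRing.HasLBaseChange (algebraMap A (AdicCompletion I A))] (ω : Dual.D A) (hω : Dual.IsDualizing A ω) : Dual.IsDualizing (AdicCompletion I A) ((DRing.LBaseChange (algebraMap A (AdicCompletion I A))).obj ω) := by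
  have hfg : I.FG := IsNoetherian.noetherian I
  have : IsNoetherianRing (AdicCompletion I A) :=
    Groth.Agent.RegLoc.Completion.isNoetherianRing_adicCompletion' I
  refine Groth.Agent.DualCx.Extended.isDualizing_LBaseChange hω fun M hM => ?_
  set f := algebraMap A (AdicCompletion I A)
  have hself := AdicCompletion.isAdicComplete_self I hfg
  have hIM : I.map f ≤ M :=
    (IsAdicComplete.le_jacobson_bot _).trans (sInf_le ⟨bot_le, hM⟩)
  refine le_antisymm Ideal.map_comap_le fun x hx => ?_
  obtain ⟨a, ha⟩ := Ideal.Quotient.mk_surjective (AdicCompletion.evalOneₐ I x)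
  have hxa : x - f a ∈ I.map f := by
    rw [← AdicCompletion.ker_evalOneₐ_eq_map I hfg, RingHom.mem_ker, map_sub]
    show AdicCompletion.evalOneₐ I x - AdicCompletion.evalOneₐ I (algebraMap A (AdicCompletion I A) a) = 0
    rw [← ha, AlgHom.commutes, sub_eq_zero]
    rfl
  have haM : a ∈ M.comap f := by
    have := M.sub_mem hx (hIM hxa)
    simpa [Ideal.mem_comap] using this
  have hI : I.map f ≤ (M.comap f).map f := Ideal.map_mono (Ideal.map_le_iff_le_comap.mp hIM)
  have := ((M.comap f).map f).add_mem (hI hxa) (Ideal.mem_map_of_mem f haM)
  simpa using this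

end Groth.Agent.S1779
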