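import Groth.Statements.S17790
import Groth.Agent.S0252
import Groth.Agent.S2946
-- import your own Groth.Agent.* helpers here

set_option autoImplicit false
universe u
open CategoryTheory CategoryTheory.Limits AlgebraicGeometry
open Pi1

namespace Groth.Agent.S17790

/-- Let A be a Noetherian local ring and I an ideal for which A is I-adically complete and A/I is local;
write X = Spec A, Y = V(I) and U for the punctured spectrum. Suppose that A is pure (the pair formed
by X and its closed point is pure) and that the effective Lefschetz condition Leff(U, U ∩ Y) holds.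
Then Y minus the closed point, i.e. U ∩ Y, is a connected (nonempty) subset of X. -/
theorem result (A : Type u) [CommRing A] [IsLocalRing A] [IsNoetherianRing A] (I : Ideal A) [IsAdicComplete I A] [IsLocalRing (A ⧸ I)] (hpure : SGA2.IsPurePair (Spec (CommRingCat.of A)) (FEt.puncturedSpec A)) (hleff : LefX.LeffCond (↑(FEt.puncturedSpec A) : Scheme.{u}) ((Spec.map (CommRingCat.ofHom (Ideal.Quotient.mk I))).ker.comap (FEt.puncturedSpec A).ι)) : IsConnected (((Spec.map (CommRingCat.ofHom (Ideal.Quotient.mk I))).ker.support : Set ↥(Spec (CommRingCat.of A))) ∩ (FEt.puncturedSpec A : Set ↥(Spec (CommRingCat.of A)))) := by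
  let P := FEt.puncturedSpec A
  let j := (Spec (CommRingCat.of A)).homOfLE (inf_le_left : (⊤ : (Spec (CommRingCat.of A)).Opens) ⊓ P ≤ ⊤)
  obtain ⟨hinj, hsurj⟩ := S0252.clopen_of_isEquivalence j (hpure ⊤)
  let T : (Spec (CommRingCat.of A)).Opens := ⊤
  have hcl : ∀ W : Set (T : Scheme.{u}), IsClopen W → W = ∅ ∨ W = Set.univ := by
    intro W hW
    by_cases hc : (⟨IsLocalRing.closedPoint A, trivial⟩ : (T : Scheme.{u})) ∈ W
    · right
      refine Set.eq_univ_of_forall fun x => Specializes.mem_open ?_ hW.2 hc
      exact Topology.IsInducing.subtypeVal.specializes_iff.mp (IsLocalRing.specializes_closedPoint x.1)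
    · left
      refine Set.eq_empty_of_forall_notMem fun x hx => hc ((Topology.IsInducing.subtypeVal.specializes_iff.mp
        (IsLocalRing.specializes_closedPoint x.1)).mem_closed hW.1 hx)
  have hP : ConnectedSpace ↥((⊤ ⊓ P : (Spec (CommRingCat.of A)).Opens) : Scheme.{u}) := by
    refine { toPreconnectedSpace := preconnectedSpace_iff_clopen.mpr fun W' hW' => ?_, toNonempty := ?_ }
    · obtain ⟨W, hW, rfl⟩ := hsurj W' hW'
      rcases hcl W hW with rfl | rfl
      · exact Or.inl Set.preimage_empty
      · exact Or.inr Set.preimage_univ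
    · by_contra h
      have := hinj Set.univ isClopen_univ (Set.eq_empty_of_forall_notMem fun z _ => h ⟨z⟩)
      exact Set.notMem_empty (⟨IsLocalRing.closedPoint A, trivial⟩ : (T : Scheme.{u})) (this.le trivial)
  have hP' : ConnectedSpace ↥((⊤ : (P : Scheme.{u}).Opens) : Scheme.{u}) := by
    have e : (⊤ ⊓ P : (Spec (CommRingCat.of A)).Opens) = P := top_inf_eq P
    rw [e] at hP
    exact (P : Scheme.{u}).topIso.inv.homeomorph.surjective.connectedSpace
      (P : Scheme.{u}).topIso.inv.homeomorph.continuous
  have hs := (S2946.result (P : Scheme.{u}) _ hleff.1 ⊤ (Set.subset_univ _)).2 hP'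
  have hcon := isConnected_iff_connectedSpace.mpr hs
  have himg := hcon.image P.ι P.ι.continuous.continuousOn
  rw [Scheme.IdealSheafData.support_comap] at himg
  convert! himg using 1
  ext x
  exact ⟨fun ⟨h1, h2⟩ => ⟨⟨x, h2⟩, h1, rfl⟩, fun ⟨y, hy, e⟩ => e ▸ ⟨hy, y.2⟩⟩

end Groth.Agent.S17790
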