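import Groth.Statements.S17794
import Groth.Agent.GrpdLib.FppfQuot
import Groth.Agent.AlgSp.Quot
import Groth.Agent.AlgSp.DescentRep
import Groth.Agent.AlgSpCov.SchemeDescent
import Groth.Agent.GrpScheme.FlatFib.Scheme

set_option autoImplicit false
set_option backward.isDefEq.respectTransparency false
universe u
open CategoryTheory CategoryTheory.Limits MonoidalCategory CartesianMonoidalCategory MonObj GrpObj AlgebraicGeometry
open GrpSch

namespace Groth.Agent.S17794

/-- Let S be a scheme and f : G → H a homomorphism of S-group schemes, both of finite presentation over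
S (locally of finite presentation, quasi-compact and quasi-separated), and let i : N → G be the
kernel of f (the square formed by i, f, the unit section of H and N → S is cartesian). Then f is
faithfully flat (flat and surjective) if and only if the map of representable sheaves h_G → h_H
induced by f on the big fppf site of S is an epimorphism of sheaves of sets and N is flat over S. -/
theorem result {S : Scheme.{u}} {G H N : Over S} [GrpObj G] [GrpObj H] (f : G ⟶ H) [IsMonHom f] [LocallyOfFinitePresentation G.hom] [QuasiCompact G.hom] [QuasiSeparated G.hom] [LocallyOfFinitePresentation H.hom] [QuasiCompact H.hom] [QuasiSeparated H.hom] (i : N ⟶ G) (hi : AlgGrp.IsKernel i f) : (Flat f.left ∧ Surjective f.left) ↔ (Epi (QuotSh.repMap Scheme.fppfPrecoverage f) ∧ Flat N.hom) := by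
  have hsqN : IsPullback i.left N.hom f.left η[H].left := by
    have := hi.map (Over.forget S)
    simpa using this
  constructor
  · rintro ⟨hfl, hsurj⟩
    have : LocallyOfFinitePresentation f.left := by
      have : LocallyOfFinitePresentation (f.left ≫ H.hom) := by rw [Over.w f]; infer_instance
      exact Groth.Agent.GrpScheme.FlatFib.locallyOfFinitePresentation_of_comp f.left H.hom
    exact ⟨Groth.Agent.GrpdLib.epi_repMap_of_fppf f, MorphismProperty.of_isPullback hsqN hfl⟩
  · rintro ⟨hepi, hN⟩
    have : Epi ((AlgSp.yon S).map f) := by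
      have h := Groth.Agent.AlgSp.repMap_repIso f
      have : (AlgSp.yon S).map f = (QuotSh.repIsoUliftYoneda Scheme.fppfPrecoverage G).inv ≫
          QuotSh.repMap Scheme.fppfPrecoverage f ≫
            (QuotSh.repIsoUliftYoneda Scheme.fppfPrecoverage H).hom := by
        rw [reassoc_of% h]; simp
      rw [this]
      infer_instance
    have : Sheaf.IsLocallySurjective ((AlgSp.yon S).map f) :=
      (Sheaf.isLocallySurjective_iff_epi _).2 inferInstance
    have key : ∀ U : H.left.Opens, IsAffineOpen U → Flat (f.left ∣_ U) ∧ Surjective (f.left ∣_ U) := by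
      intro U hU
      let U' : Over S := Over.mk (U.ι ≫ H.hom)
      let jU : U' ⟶ H := Over.homMk U.ι rfl
      have : IsAffine U'.left := hU
      obtain ⟨V, p, l, hV, hp₁, hp₂, hp₃, hl⟩ :=
        Groth.Agent.AlgSp.exists_affine_lift_fppf ((AlgSp.yon S).map f) ((AlgSp.yon S).map jU)
      obtain ⟨u, rfl⟩ := (AlgSp.yon S).map_surjective l
      rw [← Functor.map_comp, ← Functor.map_comp] at hl
      have hu : u ≫ f = p ≫ jU := (AlgSp.yon S).map_injective hl
      let φ : N ⊗ V ⟶ G := (fst N V ≫ i) * (snd N V ≫ u)
      have hi' : IsPullback i (toUnit N) f η[H] := hi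
      have hif : i ≫ f = 1 := by rw [hi.w, Hom.one_def]
      have hφ : φ ≫ f = snd N V ≫ p ≫ jU := by
        simp only [φ, mul_comp, Category.assoc, hif, hu, MonObj.comp_one, _root_.one_mul]
      have hpb : IsPullback φ (snd N V) f (p ≫ jU) := by
        refine ⟨⟨hφ⟩, ⟨PullbackCone.IsLimit.mk _
          (fun s => lift (hi'.lift (s.fst * (s.snd ≫ u)⁻¹) (toUnit _) (by
            rw [mul_comp, GrpObj.inv_comp, s.condition, Category.assoc, hu, mul_inv_cancel,
              Hom.one_def])) s.snd) (fun s => ?_) (fun s => lift_snd _ _) (fun s m h₁ h₂ => ?_)⟩⟩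
        · simp only [φ, MonObj.comp_mul, lift_fst_assoc, lift_snd_assoc, IsPullback.lift_fst]
          rw [inv_mul_cancel_right]
        · refine CartesianMonoidalCategory.hom_ext _ _ ?_ (by simpa using h₂)
          refine hi'.hom_ext ?_ (toUnit_unique _ _)
          rw [lift_fst, IsPullback.lift_fst, ← h₁, ← h₂]
          simp only [φ, MonObj.comp_mul, Category.assoc]
          rw [mul_inv_cancel_right]
      have hpb' : IsPullback φ.left (snd N V).left f.left (p.left ≫ U.ι) := hpb.map (Over.forget S)
      have hflat : Flat (snd N V).left :=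
        MorphismProperty.of_isPullback (IsPullback.of_hasPullback N.hom V.hom) hN
      have hsu : Surjective (snd N V).left := ⟨fun v => by
        have h1 : toUnit V ≫ η[G] ≫ f = toUnit V ≫ η[H] := by rw [IsMonHom.one_hom]
        let s : V ⟶ N ⊗ V := lift (hi'.lift (toUnit V ≫ η[G]) (toUnit V) (by
          rw [Category.assoc]; exact h1)) (𝟙 V)
        refine ⟨s.left v, ?_⟩
        rw [← Scheme.Hom.comp_apply, ← Over.comp_left, lift_snd]
        rfl⟩
      let w : (N ⊗ V).left ⟶ (f.left ⁻¹ᵁ U).toScheme :=
        (isPullback_morphismRestrict f.left U).flip.lift φ.left ((snd N V).left ≫ p.left)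
          (by rw [hpb'.w, Category.assoc])
      have hsqw : IsPullback w (snd N V).left (f.left ∣_ U) p.left := by
        refine IsPullback.of_right (h₁₁ := w) ?_ ((isPullback_morphismRestrict f.left U).flip.lift_snd _ _ _)
          (isPullback_morphismRestrict f.left U).flip
        rw [IsPullback.lift_fst]
        exact hpb'
      have hQ : (@Surjective ⊓ @Flat ⊓ @QuasiCompact : MorphismProperty Scheme.{u}) p.left :=
        ⟨⟨hp₂, hp₁⟩, inferInstance⟩
      exact ⟨MorphismProperty.of_isPullback_of_descendsAlong hsqw.flip hQ hflat,
        MorphismProperty.of_isPullback_of_descendsAlong hsqw.flip hQ hsu⟩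
    exact ⟨(IsZariskiLocalAtTarget.iff_of_iSup_eq_top (P := @Flat) (f := f.left)
        (fun U : H.left.affineOpens => (U : H.left.Opens)) (iSup_affineOpens_eq_top _)).2
          fun U => (key U U.2).1,
      (IsZariskiLocalAtTarget.iff_of_iSup_eq_top (P := @Surjective)
        (fun U : H.left.affineOpens => (U : H.left.Opens)) (iSup_affineOpens_eq_top _)).2
          fun U => (key U U.2).2⟩

end Groth.Agent.S17794
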