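import Mathlib
import Groth.Statements.S17797
-- import your own Groth.Agent.* helpers here

set_option autoImplicit false
set_option maxHeartbeats 1000000
universe u
open CAlg

namespace Groth.Agent.S17797

/-- Suppose k is a field of characteristic zero and S is a local domain that is an essentially
finite-type k-algebra. Then there are an extension field K of k, a K-algebra A of finite type and a
maximal ideal m of A such that S is isomorphic over k to the localization A_m. -/
theorem result (k : Type u) [Field k] [CharZero k] (S : Type u) [CommRing S] [IsDomain S] [IsLocalRing S] [Algebra k S] [Algebra.EssFiniteType k S] : ∃ (K : Type u) (_ : Field K) (_ : Algebra k K) (A : Type u) (_ : CommRing A) (_ : Algebra K A) (_ : Algebra k A) (_ : IsScalarTower k K A) (_ : Algebra.FiniteType K A) (m : Ideal A) (_ : m.IsMaximal), Nonempty (S ≃ₐ[k] Localization.AtPrime m) := by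
  classical
  set κ := IsLocalRing.ResidueField S
  obtain ⟨T, hT⟩ := exists_isTranscendenceBasis k κ
  let lift : T → S := fun t => (IsLocalRing.residue_surjective (t : κ)).choose
  have hlift : ∀ t, IsLocalRing.residue S (lift t) = (t : κ) := fun t =>
    (IsLocalRing.residue_surjective (t : κ)).choose_spec
  let f : MvPolynomial T k →ₐ[k] S := MvPolynomial.aeval lift
  have hres : ∀ p, IsLocalRing.residue S (f p) = MvPolynomial.aeval (fun t : T => (t : κ)) p := by
    intro p
    induction p using MvPolynomial.induction_on with
    | C a => simp [f]; rfl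
    | add p q hp hq => simp [hp, hq]
    | mul_X p t hp => rw [map_mul, map_mul, map_mul, hp]; simp [f, hlift]
  have hunit : ∀ p : nonZeroDivisors (MvPolynomial T k), IsUnit (f p) := by
    intro p
    rw [← IsLocalRing.residue_ne_zero_iff_isUnit, hres]
    exact fun h => nonZeroDivisors.coe_ne_zero p (hT.1 (by rw [h, map_zero]))
  let K := FractionRing (MvPolynomial T k)
  let ι : K →ₐ[k] S := IsLocalization.liftAlgHom (M := nonZeroDivisors (MvPolynomial T k)) hunit
  letI : Algebra K S := ι.toRingHom.toAlgebra
  haveI : IsScalarTower k K S := IsScalarTower.of_algebraMap_eq fun a => (ι.commutes a).symm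
  let B := Algebra.EssFiniteType.subalgebra k S
  let A : Subalgebra K S := Algebra.adjoin K (Algebra.EssFiniteType.finset k S : Set S)
  haveI : Algebra.FiniteType K A := (Subalgebra.fg_iff_finiteType A).mp ⟨_, rfl⟩
  let m : Ideal A := (IsLocalRing.maximalIdeal S).comap A.val
  have hκalg : Algebra.IsAlgebraic K κ := by
    have h := hT.isAlgebraic
    refine ⟨fun a => ?_⟩
    obtain ⟨P, hP0, hP⟩ := h.isAlgebraic a
    have hmem : ∀ y : Algebra.adjoin k (Set.range (Subtype.val : T → κ)), ∃ z : K, algebraMap K κ z = y := by
      rintro ⟨y, hy⟩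
      rw [Algebra.adjoin_range_eq_range_aeval] at hy
      obtain ⟨p, rfl⟩ := hy
      refine ⟨algebraMap _ K p, ?_⟩
      rw [IsScalarTower.algebraMap_apply K S κ]
      show IsLocalRing.residue S (ι (algebraMap _ K p)) = _
      rw [show ι (algebraMap _ K p) = f p from IsLocalization.lift_eq _ _, hres]
      rfl
    choose z hz using hmem
    refine ⟨∑ i ∈ P.support, Polynomial.monomial i (z (P.coeff i)), ?_, ?_⟩
    · intro h0
      obtain ⟨i, hi⟩ := Polynomial.support_nonempty.mpr hP0
      have := congrArg (fun Q => Polynomial.coeff Q i) h0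
      simp only [Polynomial.finsetSum_coeff, Polynomial.coeff_monomial, Finset.sum_ite_eq', if_pos hi,
        Polynomial.coeff_zero] at this
      have h2 := hz (P.coeff i)
      rw [this, map_zero] at h2
      exact Polynomial.mem_support_iff.mp hi (Subtype.ext h2.symm)
    · rw [map_sum]
      simp only [Polynomial.aeval_monomial, hz]
      rw [← hP, Polynomial.aeval_def, Polynomial.eval₂_eq_sum, Polynomial.sum_def]
      rfl
  haveI := hκalg
  have hmax : m.IsMaximal := by
    let g : A →ₐ[K] κ := (IsScalarTower.toAlgHom K S κ).comp A.val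
    have hg : RingHom.ker g = m := by
      ext x
      exact IsLocalRing.residue_eq_zero_iff _
    rw [← hg]
    have hfield : IsField g.range := Subalgebra.isField_of_algebraic g.range
    refine Ideal.Quotient.maximal_of_isField _ ?_
    exact MulEquiv.isField hfield
      ((Ideal.quotientEquivAlgOfEq K (g.ker_rangeRestrict).symm).trans
        (Ideal.quotientKerAlgEquivOfSurjective g.rangeRestrict_surjective)).toRingEquiv.toMulEquiv
  haveI : IsLocalization m.primeCompl S := by
    refine ⟨?_, ?_, ?_⟩
    · rintro ⟨x, hx⟩
      by_contra h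
      exact hx ((IsLocalRing.mem_maximalIdeal (x : S)).mpr h)
    · intro s
      obtain ⟨⟨b, t⟩, hbt⟩ := IsLocalization.surj (Algebra.EssFiniteType.submonoid k S) s
      have hle : B ≤ A.restrictScalars k := Algebra.adjoin_le fun x hx => Algebra.subset_adjoin hx
      have hb : (b : S) ∈ A := hle b.2
      have ht : (t.1 : S) ∈ A := hle t.1.2
      have htu : IsUnit (t.1 : S) := t.2
      refine ⟨⟨⟨(b : S), hb⟩, ⟨⟨(t.1 : S), ht⟩, fun h => (IsLocalRing.mem_maximalIdeal (t.1 : S)).mp h htu⟩⟩, ?_⟩
      show s * (t.1 : S) = (b : S)
      exact hbt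
    · intro x y h
      exact ⟨1, by simpa using Subtype.ext h⟩
  refine ⟨K, inferInstance, inferInstance, A, inferInstance, inferInstance, inferInstance, inferInstance,
    inferInstance, m, hmax, ⟨?_⟩⟩
  exact ((IsLocalization.algEquiv m.primeCompl (Localization.AtPrime m) S).restrictScalars k).symm

end Groth.Agent.S17797
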