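import Groth.Statements.S17802
import Groth.Agent.ConormalDepth.Descend
import Groth.Agent.ConormalDepth.Height
-- import your own Groth.Agent.* helpers here

set_option autoImplicit false
universe u
open LocCoh

namespace Groth.Agent.S17802

open Polynomial
open Groth.Agent.ConormalDepth

variable {R : Type u} [CommRing R] (I : Ideal R) (n : ℕ)

theorem exists_summand {G : Type u} [CommRing G] [Algebra R G] (mk : ↥(reesAlgebra I) →ₐ[R] G)
    (hmk : Function.Surjective mk)
    (hker : RingHom.ker (mk : ↥(reesAlgebra I) →+* G) = Ideal.map (algebraMap R ↥(reesAlgebra I)) I) :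
    ∃ (i : (↥(I ^ n) ⧸ (I • (⊤ : Submodule R ↥(I ^ n)))) →ₗ[R] G)
      (π : G →ₗ[R] (↥(I ^ n) ⧸ (I • (⊤ : Submodule R ↥(I ^ n))))), π ∘ₗ i = LinearMap.id := by
  let c : ↥(reesAlgebra I) →ₗ[R] ↥(I ^ n) :=
    ((Polynomial.lcoeff R n).comp (reesAlgebra I).val.toLinearMap).codRestrict (I ^ n)
      fun f => (mem_reesAlgebra_iff I _).1 f.2 n
  let e : ↥(I ^ n) →ₗ[R] ↥(reesAlgebra I) :=
    { toFun := fun y => ⟨monomial n (y : R), reesAlgebra.monomial_mem.2 y.2⟩
      map_add' := fun y z => Subtype.ext (map_add _ _ _)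
      map_smul' := fun r y => Subtype.ext (by simp [smul_monomial]) }
  have hce : ∀ y, c (e y) = y := fun y => Subtype.ext (show (monomial n (y : R)).coeff n = y from coeff_monomial_same n _)
  let q := Submodule.mkQ (I • (⊤ : Submodule R ↥(I ^ n)))
  have hmem : ∀ x ∈ LinearMap.ker mk.toLinearMap, q (c x) = 0 := fun x hx => by
    have hx' : x ∈ (I • ⊤ : Submodule R ↥(reesAlgebra I)) := by
      rw [Ideal.smul_top_eq_map, ← hker]; exact hx
    refine Submodule.smul_induction_on hx' (fun r hr g _ => ?_) fun a b ha hb => by rw [map_add, map_add, ha, hb, add_zero]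
    rw [map_smul, Submodule.mkQ_apply, Submodule.Quotient.mk_eq_zero]
    exact Submodule.smul_mem_smul hr Submodule.mem_top
  let π : G →ₗ[R] _ := (Submodule.liftQ _ (q.comp c) hmem).comp
    (mk.toLinearMap.quotKerEquivOfSurjective hmk).symm.toLinearMap
  have hπ : ∀ x, π (mk x) = q (c x) := fun x => by
    have : (mk.toLinearMap.quotKerEquivOfSurjective hmk).symm (mk x) = Submodule.Quotient.mk x :=
      (LinearEquiv.symm_apply_eq _).2 rfl
    simp only [π, LinearMap.comp_apply, LinearEquiv.coe_coe, this]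
    rfl
  refine ⟨Submodule.liftQ _ (mk.toLinearMap.comp e) (Submodule.smul_le.2 fun r hr y _ => ?_), π, ?_⟩
  · rw [LinearMap.mem_ker, LinearMap.comp_apply, map_smul]
    change mk (r • e y) = 0
    rw [Algebra.smul_def]
    exact RingHom.mem_ker.1 (hker.symm ▸ Ideal.mul_mem_right _ _ (Ideal.mem_map_of_mem _ hr) :
      _ ∈ RingHom.ker (mk : ↥(reesAlgebra I) →+* G))
  · refine Submodule.linearMap_qext _ (LinearMap.ext fun y => ?_)
    change π (mk (e y)) = q y
    rw [hπ, hce]

theorem main [IsDomain R] [IsLocalRing R] [IsNoetherianRing R] (huc : CAlg.IsUniversallyCatenary R)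
    {G : Type u} [CommRing G] [Algebra R G] (mk : ↥(reesAlgebra I) →ₐ[R] G) (hmk : Function.Surjective mk)
    (hker : RingHom.ker (mk : ↥(reesAlgebra I) →+* G) = Ideal.map (algebraMap R ↥(reesAlgebra I)) I)
    (r : ℕ) (hS : LocCoh.HasSk r G G) (p : Ideal R) [p.IsPrime] (d : ℕ) (hdr : d ≤ r)
    (hd : (d : WithBot ℕ∞) + ringKrullDim (↥(reesAlgebra I) ⧸ Ideal.map (algebraMap R ↥(reesAlgebra I)) (IsLocalRing.maximalIdeal R)) ≤
      ((p.height : ℕ∞) : WithBot ℕ∞)) :
    (d : ℕ∞) ≤ LocCoh.depth (Localization.AtPrime p)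
      (LocalizedModule p.primeCompl (↥(I ^ n) ⧸ (I • (⊤ : Submodule R ↥(I ^ n))))) := by
  have : IsNoetherianRing G := isNoetherianRing_of_surjective _ _ (mk : ↥(reesAlgebra I) →+* G) hmk
  obtain ⟨i, π, h⟩ := exists_summand I n mk hmk hker
  refine le_depth_summand R G r hS p d hdr (fun Q hQ hQp => ?_) _ i π h
  refine le_height I huc p d hd (mk : ↥(reesAlgebra I) →+* G) hmk hker Q ?_
  rw [Ideal.comap_comap]
  exact (congrArg (fun g => Ideal.comap g Q) mk.comp_algebraMap).trans hQp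

theorem mk_facts {S : Type u} [CommRing S] [Algebra R S] (J : Ideal S) :
    Function.Surjective (Ideal.Quotient.mkₐ R J) ∧
      RingHom.ker ((Ideal.Quotient.mkₐ R J : S →ₐ[R] S ⧸ J) : S →+* S ⧸ J) = J :=
  ⟨Ideal.Quotient.mkₐ_surjective R J, Ideal.mk_ker⟩

set_option maxHeartbeats 1000000 in
/-- Let (R, m) be a universally catenary Noetherian local domain, I ⊆ m an ideal with R/I
equidimensional, and r a natural number such that the associated graded ring ⊕ Iⁿ/Iⁿ⁺¹, i.e. the
Rees algebra of I modulo the ideal generated by I, satisfies Serre's condition S_r. Let ad(I) be the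
analytic deviation: the Krull dimension of ⊕ Iⁿ/mIⁿ (the Rees algebra modulo m) minus the height of
I. Then for every n ≥ 0 and every prime ideal p ⊇ I of R, the depth of the R_p-module (Iⁿ/Iⁿ⁺¹)_p is
at least min(r, dim (R/I)_p − ad(I)); equivalently every natural number d with d ≤ r and d + dim(⊕
Iⁿ/mIⁿ) ≤ height(p/I) + ht(I) satisfies d ≤ depth (Iⁿ/Iⁿ⁺¹)_p. -/
theorem result (R : Type u) [CommRing R] [IsDomain R] [IsLocalRing R] [IsNoetherianRing R] (huc : CAlg.IsUniversallyCatenary R) (I : Ideal R) (hI : I ≤ IsLocalRing.maximalIdeal R) (heq : EGA4.IsEquidim (R ⧸ I)) (r : ℕ) (hS : LocCoh.HasSk r (↥(reesAlgebra I) ⧸ Ideal.map (algebraMap R ↥(reesAlgebra I)) I) (↥(reesAlgebra I) ⧸ Ideal.map (algebraMap R ↥(reesAlgebra I)) I)) (n : ℕ) (p : Ideal R) [p.IsPrime] (hp : I ≤ p) (d : ℕ) (hdr : d ≤ r) (hd : (d : WithBot ℕ∞) + ringKrullDim (↥(reesAlgebra I) ⧸ Ideal.map (algebraMap R ↥(reesAlgebra I)) (IsLocalRing.maximalIdeal R)) ≤ (((p.map (Ideal.Quotient.mk I)).height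 : ℕ∞) : WithBot ℕ∞) + ((I.height : ℕ∞) : WithBot ℕ∞)) : (d : ℕ∞) ≤ LocCoh.depth (Localization.AtPrime p) (LocalizedModule p.primeCompl (↥(I ^ n) ⧸ (I • (⊤ : Submodule R ↥(I ^ n))))) := by
  have hf := mk_facts (R := R) (Ideal.map (algebraMap R ↥(reesAlgebra I)) I)
  refine main I n huc (Ideal.Quotient.mkₐ R (Ideal.map (algebraMap R ↥(reesAlgebra I)) I)) hf.1 hf.2 r hS p d hdr
    (hd.trans ?_)
  rw [← WithBot.coe_add]
  exact WithBot.coe_le_coe.2 (height_map_add_height_le I p hp)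

end Groth.Agent.S17802
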