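import Groth.Statements.S17803
import Groth.Agent.S0599
import Groth.Agent.S0600
import Groth.Agent.S2611
import Groth.Agent.S5785
import Groth.Agent.EGA4Lib.HomToLocal
import Groth.Agent.EGA4Lib.FibreLoc

set_option autoImplicit false
universe u
open EGA4

namespace Groth.Agent.S17803

open AdicCompletion in
theorem exists_surjective_completion {R A : Type u} [CommRing R] [CommRing A] (φ : R →+* A)
    (hφ : Function.Surjective φ) (I : Ideal A) :
    ∃ ψ : AdicCompletion (I.comap φ) R →+* AdicCompletion I A, Function.Surjective ψ := by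
  classical
  set J := I.comap φ with hJ
  have hmap : J.map φ = I := Ideal.map_comap_of_surjective φ hφ I
  have hJn : ∀ n, (J ^ n).map φ = I ^ n := fun n => by rw [Ideal.map_pow, hmap]
  let f : ∀ n, AdicCompletion J R →+* A ⧸ I ^ n := fun n =>
    (Ideal.quotientMap (I ^ n) φ (Ideal.map_le_iff_le_comap.1 (hJn n).le)).comp (evalₐ J n).toRingHom
  have hfe : ∀ n (t : AdicCauchySequence J R), f n (mkₐ J t) = Ideal.Quotient.mk (I ^ n) (φ (t.val n)) :=
    fun n t => by simp [f]
  have hf : ∀ {m n : ℕ} (hle : m ≤ n), (Ideal.Quotient.factorPow I hle).comp (f n) = f m := by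
    intro m n hle
    ext z
    obtain ⟨s, rfl⟩ := mk_surjective J R z
    change Ideal.Quotient.factorPow I hle (f n (mkₐ J s)) = f m (mkₐ J s)
    rw [hfe, hfe, Ideal.Quotient.factor_mk, Ideal.Quotient.eq, ← map_sub, ← hJn]
    exact Ideal.mem_map_of_mem φ (Ideal.Quotient.eq.1 (AdicCompletion.Ideal.mk_eq_mk J hle s))
  refine ⟨AdicCompletion.liftRingHom I f hf, fun y => ?_⟩
  obtain ⟨a, rfl⟩ := mk_surjective I A y
  have hd : ∀ n, ∃ d ∈ J ^ n, φ d = a.val (n + 1) - a.val n := fun n => by
    have h1 : a.val n - a.val (n + 1) ∈ (I ^ n • ⊤ : Submodule A A) :=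
      SModEq.sub_mem.1 (a.property (Nat.le_succ n))
    rw [smul_eq_mul, Ideal.mul_top] at h1
    have h2 : a.val (n + 1) - a.val n ∈ (J ^ n).map φ := by
      rw [hJn, ← neg_sub]; exact neg_mem h1
    exact (Ideal.mem_map_iff_of_surjective φ hφ).1 h2
  choose d hd1 hd2 using hd
  obtain ⟨r₀, hr₀⟩ := hφ (a.val 0)
  let r : ℕ → R := fun n => r₀ + ∑ i ∈ Finset.range n, d i
  have hr : ∀ n, φ (r n) = a.val n := fun n => by
    induction n with
    | zero => simpa [r] using hr₀
    | succ n ih =>
      have : r (n + 1) = r n + d n := by simp only [r, Finset.sum_range_succ, add_assoc]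
      rw [this, map_add, ih, hd2, add_sub_cancel]
  let s : AdicCauchySequence J R := AdicCauchySequence.mk J R r fun n => by
    rw [SModEq.sub_mem, smul_eq_mul, Ideal.mul_top]
    have : r n - r (n + 1) = -d n := by simp only [r, Finset.sum_range_succ]; ring
    rw [this]; exact neg_mem (hd1 n)
  refine ⟨mkₐ J s, ext_evalₐ fun n => ?_⟩
  rw [evalₐ_liftRingHom]
  change f n (mkₐ J s) = evalₐ I n (mkₐ I a)
  rw [hfe, evalₐ_mkₐ]
  exact congrArg _ (hr n)


/-- Let A be an excellent normal domain which is a quotient of a regular ring, I an ideal of A and f ∈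
A. Then the I-adic completion of the localization A_f is a normal ring (its localization at every
prime ideal is an integrally closed domain), and it is a quotient of a regular ring. -/
theorem result (A : Type u) [CommRing A] [IsDomain A] [IsIntegrallyClosed A] (hexc : EGA4.IsExcellent A) (hreg : ∃ (R : Type u) (_ : CommRing R) (_ : IsRegularRing R) (φ : R →+* A), Function.Surjective φ) (I : Ideal A) (f : A) : EGA4.IsNormalRing (AdicCompletion (I.map (algebraMap A (Localization.Away f))) (Localization.Away f)) ∧ ∃ (R' : Type u) (_ : CommRing R') (_ : IsRegularRing R') (ψ : R' →+* AdicCompletion (I.map (algebraMap A (Localization.Away f))) (Localization.Away f)), Function.Surjective ψ := by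
  haveI : IsNoetherianRing A := hexc.1
  let L := Localization.Away f
  haveI : IsNoetherianRing L := IsLocalization.isNoetherianRing (Submonoid.powers f) L inferInstance
  refine ⟨?_, ?_⟩
  · haveI : Algebra.FiniteType A L := IsLocalization.finiteType_of_monoid_fg (Submonoid.powers f) L
    have hG : CAlg.IsGRing L := Groth.Agent.S0599.result A hexc.2.2.1 L
    have hR := Groth.Agent.S0600.result L hG (I.map (algebraMap A L))
    have hN := Groth.Agent.EGA4Lib.isNormalHom_of_isRegularHom _ _ hR
    haveI := hN.1
    haveI : IsNoetherianRing (AdicCompletion (I.map (algebraMap A L)) L) :=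
      Groth.Agent.RegLoc.Completion.isNoetherianRing_adicCompletion' _
    intro q _
    set p := q.comap (algebraMap L (AdicCompletion (I.map (algebraMap A L)) L)) with hp
    haveI : IsLocalization.AtPrime (Localization.AtPrime p) (p.comap (algebraMap A L)) :=
      IsLocalization.isLocalization_isLocalization_atPrime_isLocalization (Submonoid.powers f) (Localization.AtPrime p) p
    haveI : IsDomain (Localization.AtPrime p) :=
      IsLocalization.isDomain_of_le_nonZeroDivisors (Localization.AtPrime p) (Ideal.primeCompl_le_nonZeroDivisors (p.comap (algebraMap A L)))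
    haveI : IsIntegrallyClosed (Localization.AtPrime p) :=
      isIntegrallyClosed_of_isLocalization _ (p.comap (algebraMap A L)).primeCompl
        (Ideal.primeCompl_le_nonZeroDivisors _)
    exact Groth.Agent.S2611.result L _ (fun q' _ => Groth.Agent.EGA4Lib.isNormalRing_localization_fibre L hN.2 q') q
  · obtain ⟨R, _, _, φ, hφ⟩ := hreg
    obtain ⟨g, hg⟩ := hφ f
    let φ' : Localization.Away g →+* L :=
      IsLocalization.map L φ (show Submonoid.powers g ≤ (Submonoid.powers f).comap φ by
        rw [Submonoid.powers_le, Submonoid.mem_comap, hg]; exact Submonoid.mem_powers f)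
    have hφ' : Function.Surjective φ' := fun x => by
      obtain ⟨a, ⟨_, n, rfl⟩, rfl⟩ := IsLocalization.exists_mk'_eq (Submonoid.powers f) x
      obtain ⟨r, rfl⟩ := hφ a
      refine ⟨IsLocalization.mk' (Localization.Away g) r (⟨g ^ n, n, rfl⟩ : Submonoid.powers g), ?_⟩
      rw [IsLocalization.map_mk']
      congr 1
      exact Subtype.ext (by simp [hg])
    haveI : IsRegularRing (Localization.Away g) :=
      Groth.Agent.GeomFieldLib.isRegularRing_of_isLocalization (R := R) (Submonoid.powers g)
    obtain ⟨ψ, hψ⟩ := exists_surjective_completion φ' hφ' (I.map (algebraMap A L))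
    exact ⟨_, inferInstance, Groth.Agent.S5785.result _ _, ψ, hψ⟩

end Groth.Agent.S17803
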