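import Groth.Statements.S17804
import Groth.Agent.GrpScheme.AntiAffineProd
import Groth.Agent.GrpdLib.GrpOver
import Groth.Agent.S4362
import Mathlib.AlgebraicGeometry.Morphisms.FlatDescent
-- import your own Groth.Agent.* helpers here

set_option autoImplicit false
universe u
open CategoryTheory CategoryTheory.Limits MonoidalCategory CartesianMonoidalCategory MonObj GrpObj AlgebraicGeometry
open GrpSch

namespace Groth.Agent.S17804

set_option backward.isDefEq.respectTransparency false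
set_option maxHeartbeats 1600000
set_option synthInstance.maxHeartbeats 400000

open Groth.Agent.GrpScheme.AntiAffineProd Groth.Agent.WittLib.Basic
open UnipLib (Cover)

variable {k : Type u} [Field k]

/-- A quotient by a quasi-compact subgroup is quasi-compact. -/
lemma quasiCompact_of_isQuotient {G H Q : Over (Spec (CommRingCat.of k))} [GrpObj G] [GrpObj H] [GrpObj Q]
    [QuasiCompact H.hom] [LocallyOfFiniteType G.hom] (iH : H ⟶ G) (q : G ⟶ Q) (hq : RedSub.IsQuotient iH q) :
    QuasiCompact q.left := by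
  obtain ⟨hs, hf, hp, hpb⟩ := hq
  have : IsSeparated Q.hom := GrpdLib.GrpOver.isSeparated_hom Q
  have : QuasiSeparatedSpace Q.left := (quasiSeparated_iff_quasiSeparatedSpace Q.hom).1 inferInstance
  have hfst : QuasiCompact (fst G H).left := inferInstanceAs (QuasiCompact (pullback.fst G.hom H.hom))
  rw [quasiCompact_iff]
  intro U hUo hUc
  have hsq := GrpdLib.GrpOver.isPullback_left hpb
  obtain ⟨t, ht⟩ := hUc.elim_finite_subcover (fun V : G.left.affineOpens => q.left '' (V.1 : Set G.left))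
    (fun V => q.left.isOpenMap _ V.1.2) fun y _ => by
      obtain ⟨x, rfl⟩ := q.left.surjective y
      obtain ⟨_, ⟨W, hW, rfl⟩, hx, -⟩ :=
        G.left.isBasis_affineOpens.exists_subset_of_mem_open (Set.mem_univ x) isOpen_univ
      exact Set.mem_iUnion.mpr ⟨⟨W, hW⟩, x, hx, rfl⟩
  have hW : ∀ V : G.left.affineOpens, IsCompact ((V.1 : Set G.left) ∩ q.left ⁻¹' U) := by
    intro V
    have : CompactSpace V.1.toScheme := isCompact_iff_compactSpace.mp V.2.isCompact
    have : QuasiCompact (V.1.ι ≫ q.left ≫ Q.hom) := (quasiCompact_iff_compactSpace _).2 inferInstance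
    have : QuasiCompact ((V.1.ι ≫ q.left) ≫ Q.hom) := by rw [Category.assoc]; infer_instance
    have : QuasiCompact (V.1.ι ≫ q.left) := QuasiCompact.of_comp _ Q.hom
    have h := (QuasiCompact.isCompact_preimage (f := V.1.ι ≫ q.left) U hUo hUc).image V.1.ι.continuous
    have e : V.1.ι '' ((V.1.ι ≫ q.left) ⁻¹' U) = (V.1 : Set G.left) ∩ q.left ⁻¹' U := by
      rw [Scheme.Hom.comp_base, TopCat.coe_comp, Set.preimage_comp, Set.image_preimage_eq_inter_range,
        Scheme.Opens.range_ι, Set.inter_comm]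
    exact e ▸ h
  let W : Set G.left := ⋃ V ∈ t, ((V.1 : Set G.left) ∩ q.left ⁻¹' U)
  have hWc : IsCompact W := t.finite_toSet.isCompact_biUnion fun V _ => hW V
  have hWo : IsOpen W := isOpen_biUnion fun V _ => V.1.2.inter (hUo.preimage q.left.continuous)
  have key : q.left ⁻¹' U = ((G ◁ iH) ≫ μ[G]).left '' ((fst G H).left ⁻¹' W) := by
    ext x
    constructor
    · intro hx
      obtain ⟨V, hV, g, hg, hgx⟩ := Set.mem_iUnion₂.mp (ht hx)
      obtain ⟨z, hz₁, hz₂⟩ := Scheme.exists_preimage_of_isPullback hsq g x hgx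
      refine ⟨z, ?_, hz₂⟩
      show (fst G H).left z ∈ W
      rw [hz₁]
      exact Set.mem_iUnion₂.mpr ⟨V, hV, hg, show q.left g ∈ U from hgx.symm ▸ hx⟩
    · rintro ⟨z, hz, rfl⟩
      obtain ⟨V, -, -, hz'⟩ := Set.mem_iUnion₂.mp hz
      have e : q.left ((fst G H).left z) = q.left (((G ◁ iH) ≫ μ[G]).left z) :=
        congr(($(hsq.w)) z)
      exact show _ ∈ U from e ▸ hz'
  rw [key]
  exact (QuasiCompact.isCompact_preimage (f := (fst G H).left) W hWo hWc).image
    ((G ◁ iH) ≫ μ[G]).left.continuous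

/-- A homomorphism with a section over a cover is flat and surjective. -/
lemma flat_surjective_of_local_section {G K T : Over (Spec (CommRingCat.of k))} [GrpObj G] [GrpObj K]
    [IsSeparated K.hom] (l : G ⟶ K) [IsMonHom l] (c : T ⟶ K) (hc : Cover c) (z : T ⟶ G) (hz : z ≫ l = c) :
    Flat l.left ∧ Surjective l.left := by
  obtain ⟨N, hN, i, hi, hmono, hci, hi1, hlift⟩ := UnipLib.exists_kernel_grp l
  let m : T ⊗ N ⟶ G := (fst T N ≫ z) * (snd T N ≫ i)
  have hw : fst T N ≫ c = m ≫ l := by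
    simp only [m, MonObj.mul_comp, Category.assoc, hz, hi1, MonObj.comp_one, _root_.mul_one]
  have key : ∀ s : PullbackCone c l, ∃ n, n ≫ i = (s.fst ≫ z)⁻¹ * s.snd := fun s => hlift _ (by
    rw [MonObj.mul_comp, GrpObj.inv_comp, Category.assoc, hz, s.condition, inv_mul_cancel])
  have hpb : IsPullback (fst T N) m c l := {
    w := hw
    isLimit' := ⟨PullbackCone.IsLimit.mk _ (fun s => lift s.fst (key s).choose)
      (fun s => lift_fst _ _)
      (fun s => by
        simp only [m, MonObj.comp_mul, lift_fst_assoc, lift_snd_assoc, (key s).choose_spec, mul_inv_cancel_left])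
      (fun s a h₁ h₂ => by
        ext1
        · rw [lift_fst, h₁]
        · rw [lift_snd, ← cancel_mono i, (key s).choose_spec, eq_inv_mul_iff_mul_eq, ← h₂, ← h₁]
          simp [m, MonObj.comp_mul])⟩ }
  refine ⟨MorphismProperty.of_isPullback_of_descendsAlong (P := @Flat)
    (Q := @Surjective ⊓ @Flat ⊓ @QuasiCompact) (GrpdLib.GrpOver.isPullback_left hpb) ⟨⟨hc.surj, hc.flat⟩, hc.qc⟩
    (inferInstanceAs (Flat (pullback.fst T.hom N.hom))), ?_⟩
  haveI := hc.surj
  haveI : Surjective (z.left ≫ l.left) := by rw [← Over.comp_left, hz]; infer_instance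
  exact Surjective.of_comp z.left l.left

/-- The images of the powers of a single exponent stabilise. -/
lemma exists_stable {H : Over (Spec (CommRingCat.of k))} [GrpObj H] [IsCommMonObj H]
    [LocallyOfFiniteType H.hom] [QuasiCompact H.hom] (n M : ℕ) :
    ∃ r : ℕ, ∀ {T : Over (Spec (CommRingCat.of k))} (h : T ⟶ H), ∃ (T' : Over (Spec (CommRingCat.of k)))
      (c : T' ⟶ T) (h' : T' ⟶ H), Cover c ∧ h' ^ (n ^ (r + M)) = (c ≫ h) ^ (n ^ r) := by
  have hmon : ∀ m : ℕ, IsMonHom ((𝟙 H) ^ m) := fun m => isMonHom_of_points _ fun T x y => by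
    simp only [MonObj.comp_pow, Category.comp_id, mul_pow]
  have := hmon
  choose D hD p i hp hi hpc hic hDl hDq hpi using fun j : ℕ => exists_image ((𝟙 H) ^ (n ^ j))
  have : IsLocallyNoetherian H.left := LocallyOfFiniteType.isLocallyNoetherian H.hom
  have : CompactSpace H.left := QuasiCompact.compactSpace_of_compactSpace H.hom
  have : IsNoetherian H.left := { }
  have := Groth.Agent.S4362.result H.left
  obtain ⟨_, ⟨r, rfl⟩, hr⟩ := wellFounded_gt.has_min (Set.range fun j => (i j).left.ker) (Set.range_nonempty _)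
  refine ⟨r, fun {T} h => ?_⟩
  have : Mono (i r) := Over.mono_of_mono_left (i r)
  obtain ⟨e, he⟩ := exists_lift_of_cover (hpc (r + M)) (i r) (i (r + M)) (((𝟙 H) ^ (n ^ M) : H ⟶ H) ≫ p r) (by
    rw [Category.assoc, hpi, hpi, MonObj.comp_pow, Category.comp_id, ← pow_mul, ← pow_add, add_comm])
  have hle : (i r).left.ker ≤ (i (r + M)).left.ker := by
    rw [show (i (r + M)).left = e.left ≫ (i r).left by rw [← Over.comp_left, he]]
    exact Scheme.Hom.le_ker_comp _ _
  have heq : (i (r + M)).left.ker ≤ (i r).left.ker :=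
    (hle.eq_or_lt.resolve_right (hr _ ⟨r + M, rfl⟩)).ge
  let t₀ := IsClosedImmersion.lift (i (r + M)).left (i r).left heq
  let t : D r ⟶ D (r + M) := Over.homMk t₀ (by
    rw [← Over.w (i (r + M)), ← Category.assoc, IsClosedImmersion.lift_fac, Over.w])
  have ht : t ≫ i (r + M) = i r := Over.OverMorphism.ext (IsClosedImmersion.lift_fac _ _ _)
  obtain ⟨T', c, h', hc, hh'⟩ := (hpc (r + M)).exists_cover (h ≫ p r ≫ t)
  refine ⟨T', c, h', hc, ?_⟩
  have e₁ := congrArg (· ≫ i (r + M)) hh'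
  simp only [Category.assoc, hpi, ht, MonObj.comp_pow, Category.comp_id] at e₁
  exact e₁

/-- Let k be a field, G a commutative group scheme locally of finite type over k, H ⊆ G a closed
subgroup scheme of finite type over k, and q : G → Q the quotient G/H (q is flat, surjective,
locally of finite presentation, and G ×_k H → G ×_Q G, (g, h) ↦ (g, gh), is an isomorphism). Let n ≥
1 and M ≥ 1 be integers. Then G contains a closed subgroup scheme G_M annihilated by n^N for some N,
with image in Q killed by n^M, such that the induced homomorphism from G_M to the kernel Q[n^M] of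
multiplication by n^M on Q is flat and surjective. -/
theorem result (k : Type u) [Field k] {G H Q : Over (Spec (CommRingCat.of k))} [GrpObj G] [IsCommMonObj G] [GrpObj H] [GrpObj Q] [LocallyOfFiniteType G.hom] [LocallyOfFiniteType H.hom] [QuasiCompact H.hom] (iH : H ⟶ G) [IsMonHom iH] (hcl : IsClosedImmersion iH.left) (q : G ⟶ Q) [IsMonHom q] (hq : RedSub.IsQuotient iH q) (n : ℕ) (hn : 0 < n) (M : ℕ) (hM : 0 < M) : ∃ (G' : Over (Spec (CommRingCat.of k))) (_ : GrpObj G') (j : G' ⟶ G) (_ : IsMonHom j), IsClosedImmersion j.left ∧ (∃ N : ℕ, ∀ (T : Over (Spec (CommRingCat.of k))) (g : T ⟶ G'), g ^ (n ^ N) = 1) ∧ (∀ (T : Over (Spec (CommRingCat.of k))) (g : T ⟶ G'), (g ≫ j ≫ q) ^ (n ^ M) = 1) ∧ ∀ (K : Over (Spec (CommRingCat.of k))) [GrpObj K] (κ : K ⟶ Q) [IsMonHom κ], AlgGrp.IsKernel κ ((𝟙 Q) ^ (n ^ M)) → ∀ ℓ : G' ⟶ K, ℓ ≫ κ = j ≫ q → Flat ℓ.left ∧ Surjective ℓ.left := by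
  have : IsClosedImmersion iH.left := hcl
  have : Mono iH := Over.mono_of_mono_left iH
  have hqqc : QuasiCompact q.left := quasiCompact_of_isQuotient iH q hq
  obtain ⟨hqs, hqf, hqp, hpb⟩ := hq
  rw [show (G ◁ iH) ≫ μ[G] = fst G H * (snd G H ≫ iH) by
    rw [MonObj.mul_eq_mul, MonObj.comp_mul, whiskerLeft_fst, whiskerLeft_snd]] at hpb
  have hiq : iH ≫ q = 1 := by
    have h := lift (1 : H ⟶ G) (𝟙 H) ≫= hpb.w
    rw [← Category.assoc, ← Category.assoc, MonObj.comp_mul, lift_fst, lift_snd_assoc, Category.id_comp,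
      _root_.one_mul, MonObj.one_comp] at h
    exact h.symm
  have hqc : Cover q := ⟨hqf, hqs, hqqc⟩
  have : LocallyOfFiniteType (q.left ≫ Q.hom) := by rw [Over.w]; infer_instance
  have : LocallyOfFiniteType Q.hom := GrpdLib.FppfSourceDescent.locallyOfFiniteType_of_comp_fppf q.left Q.hom
  have : IsSeparated Q.hom := GrpdLib.GrpOver.isSeparated_hom Q
  have : IsSeparated G.hom := GrpdLib.GrpOver.isSeparated_hom G
  have : IsCommMonObj H := isCommMonObj_iff_isMulCommutative H |>.2 fun T => ⟨⟨fun a b => by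
    rw [← cancel_mono iH, MonObj.mul_comp, MonObj.mul_comp, mul_comm]⟩⟩
  have : IsCommMonObj Q := isCommMonObj_iff_isMulCommutative Q |>.2 fun T => ⟨⟨fun a b => by
    obtain ⟨T₁, r₁, a', hr₁, ha'⟩ := hqc.exists_cover a
    obtain ⟨T₂, r₂, b', hr₂, hb'⟩ := hqc.exists_cover (r₁ ≫ b)
    haveI := (hr₂.comp hr₁).epi
    rw [← cancel_epi (r₂ ≫ r₁), MonObj.comp_mul, MonObj.comp_mul, Category.assoc, Category.assoc, ← ha', ← hb',
      ← Category.assoc, ← MonObj.mul_comp, ← MonObj.mul_comp, mul_comm]⟩⟩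
  obtain ⟨r, hr⟩ := exists_stable (H := H) n M
  let N := r + M
  have hkerq : ∀ {T : Over (Spec (CommRingCat.of k))} (x : T ⟶ G), x ≫ q = 1 → ∃ h : T ⟶ H, h ≫ iH = x := by
    intro T x hx
    refine ⟨hpb.lift 1 x (by rw [hx, MonObj.one_comp]) ≫ snd G H, ?_⟩
    have h₁ := hpb.lift_fst 1 x (by rw [hx, MonObj.one_comp])
    have h₂ := hpb.lift_snd 1 x (by rw [hx, MonObj.one_comp])
    rw [MonObj.comp_mul, h₁, _root_.one_mul] at h₂
    rw [Category.assoc]
    exact h₂
  let f : G ⟶ G ⊗ Q := lift ((𝟙 G) ^ (n ^ N)) (q ^ (n ^ M))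
  have hf : IsMonHom f := isMonHom_of_points _ fun T x y => by
    ext1 <;> simp [f, MonObj.comp_pow, MonObj.mul_comp, mul_pow]
  have : IsSeparated (G ⊗ Q).hom := inferInstanceAs (IsSeparated (pullback.fst G.hom Q.hom ≫ G.hom))
  obtain ⟨G', hG', j, hj, hjm, hjc, hj1, hjlift⟩ := UnipLib.exists_kernel_grp f
  have hjN : j ^ (n ^ N) = 1 := by
    simpa [f, MonObj.comp_pow] using congrArg (· ≫ fst G Q) hj1
  have hjM : (j ≫ q) ^ (n ^ M) = 1 := by
    simpa [f, MonObj.comp_pow] using congrArg (· ≫ snd G Q) hj1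
  refine ⟨G', hG', j, hj, hjc, ⟨N, fun T g => ?_⟩, fun T g => ?_, fun K _ κ _ hκ ℓ hℓ => ?_⟩
  · rw [← cancel_mono j, MonObj.pow_comp, MonObj.one_comp, ← MonObj.comp_pow, hjN, MonObj.comp_one]
  · rw [← MonObj.comp_pow, hjM, MonObj.comp_one]
  have : Mono κ := GrpdLib.GrpOver.kernel_mono hκ
  have : IsMonHom ℓ := isMonHom_of_points _ fun T x y => by
    rw [← cancel_mono κ, Category.assoc, hℓ, MonObj.mul_comp x y (j ≫ q), MonObj.mul_comp _ _ κ, Category.assoc,
      Category.assoc, hℓ]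
  have hκ1 : κ ^ (n ^ M) = 1 := by
    have h : κ ≫ ((𝟙 Q) ^ (n ^ M)) = toUnit K ≫ η[Q] := hκ.w
    rwa [MonObj.comp_pow, Category.comp_id, ← Hom.one_def] at h
  have : IsSeparated K.hom := GrpdLib.GrpOver.isSeparated_hom K
  obtain ⟨T₁, r₁, x, hr₁, hx⟩ := hqc.exists_cover κ
  obtain ⟨h, hh⟩ := hkerq (x ^ (n ^ M)) (by
    rw [MonObj.pow_comp, hx, ← MonObj.comp_pow, hκ1, MonObj.comp_one])
  obtain ⟨T₂, r₂, h', hr₂, hh'⟩ := hr h
  obtain ⟨z, hz⟩ := hjlift ((r₂ ≫ x) * (h' ≫ iH)⁻¹) (by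
    have e₁ : (r₂ ≫ x) ^ (n ^ N) = (h' ≫ iH) ^ (n ^ N) := by
      rw [← MonObj.pow_comp h', hh', MonObj.pow_comp, Category.assoc, hh, ← MonObj.comp_pow, ← MonObj.comp_pow,
        ← pow_mul, ← pow_add, add_comm M r]
    have e₂ : ((r₂ ≫ x) * (h' ≫ iH)⁻¹) ≫ q = (r₂ ≫ r₁) ≫ κ := by
      rw [MonObj.mul_comp, GrpObj.inv_comp, Category.assoc, Category.assoc, hx, hiq, MonObj.comp_one, inv_one,
        _root_.mul_one, Category.assoc]
    ext1
    · simp [f, MonObj.comp_pow, mul_pow, inv_pow, e₁]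
    · simp only [f, Category.assoc, lift_snd, MonObj.comp_pow, e₂, MonObj.one_comp]
      simp [← MonObj.comp_pow, hκ1, MonObj.comp_one])
  exact flat_surjective_of_local_section ℓ (r₂ ≫ r₁) (hr₂.comp hr₁) z (by
    rw [← cancel_mono κ, Category.assoc, hℓ, reassoc_of% hz, MonObj.mul_comp, GrpObj.inv_comp, Category.assoc,
      Category.assoc, hx, hiq, MonObj.comp_one, inv_one, _root_.mul_one, Category.assoc])

end Groth.Agent.S17804
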