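import Groth.Statements.S17807
import Groth.Agent.JacPts.Basic
-- import your own Groth.Agent.* helpers here

set_option autoImplicit false
universe u
open CategoryTheory CategoryTheory.Limits AlgebraicGeometry
open JacVar

namespace Groth.Agent.S17807

/-- Let C be a smooth proper geometrically connected curve of genus g > 0 over a field k with a
k-rational point, and let L be an invertible module on C with h¹(C, L) > 0. Under these hypotheses,
C contains some nonempty open U with the following property: whenever Q is a k-rational point of C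
and M is an invertible module satisfying M ⊗ I_Q ≅ L (so M is L(Q)), one has h¹(C, M) = h¹(C, L) − 1
if Q belongs to U, and h¹(C, M) = h¹(C, L) if Q does not. (The published statement is phrased for
all closed points Q; for a closed point of degree d > 1 the drop can exceed one, so this row states
it for k-rational points Q.) -/
theorem result (k : Type u) [Field k]
    (C : Scheme.{u}) [C.Over (Spec (CommRingCat.of k))]
    [IsProper (C ↘ Spec (CommRingCat.of k))] [Smooth (C ↘ Spec (CommRingCat.of k))] [GeometricallyConnected (C ↘ Spec (CommRingCat.of k))]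
    (hdim : topologicalKrullDim ↥C = 1)
    (hg : 0 < Curv2.genus k C)
    (σ₀ : Spec (CommRingCat.of k) ⟶ C) (hσ₀ : σ₀ ≫ (C ↘ Spec (CommRingCat.of k)) = 𝟙 _)
    (L : C.Modules) (hL : PicF.IsInvertible L) (hL1 : 0 < Module.finrank k (Coh.HH C L 1)) :
    ∃ U : C.Opens, (U : Set ↥C).Nonempty ∧
      ∀ (σ : Spec (CommRingCat.of k) ⟶ C) (hσ : σ ≫ (C ↘ Spec (CommRingCat.of k)) = 𝟙 _) (M : C.Modules) (hM : PicF.IsInvertible M)
        (hML : Nonempty (CohB1.tensorMod M (ClSub.idealMod σ.ker) ≅ L)),
        ((∀ p, σ.base p ∈ U) → Module.finrank k (Coh.HH C M 1) = Module.finrank k (Coh.HH C L 1) - 1) ∧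
        ((∀ p, σ.base p ∉ U) → Module.finrank k (Coh.HH C M 1) = Module.finrank k (Coh.HH C L 1)) := by
  classical
  obtain ⟨_, _⟩ := JacPts.integral_reg k C hdim
  have hK := JacPts.isFunctionField k hdim hσ₀
  obtain ⟨W, hW⟩ := FF.exists_canonical hK
  have h1eq : ∀ {M : C.Modules} (hM : PicF.IsInvertible M),
      Module.finrank k (Coh.HH C M 1) = FunFld.ell (W - FFCurve.divOf k hdim hM) := fun {M} hM => by
    have h1 := FFCurve.finrank_one k hdim hK hM
    have h2 := FF.riemann_roch hK hW (FFCurve.divOf k hdim hM)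
    omega
  rw [h1eq hL] at hL1 ⊢
  set D := FFCurve.divOf k hdim hL with hD
  haveI := FF.finiteDimensional_L hK (W - D)
  obtain ⟨z, hz, hz0⟩ := (FunFld.L (W - D)).exists_mem_ne_zero_of_ne_bot fun e => by
    simp only [FunFld.ell] at hL1
    rw [e, finrank_bot] at hL1
    exact lt_irrefl _ hL1
  let B : Finset (ZetaLib.ClosedPt C) :=
    (((W - D).support ∪ (FF.finite_support_ord hK.1 z).toFinset).map
      (FFCurve.placeEquiv k hdim).symm.toEmbedding).filter
        fun x => FunFld.ell (W - D - Finsupp.single (FFCurve.toPlace k hdim x) 1) = FunFld.ell (W - D)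
  have hB : ∀ x : ZetaLib.ClosedPt C,
      x ∈ B ↔ FunFld.ell (W - D - Finsupp.single (FFCurve.toPlace k hdim x) 1) = FunFld.ell (W - D) := by
    refine fun x => ⟨fun h => (Finset.mem_filter.1 h).2, fun h => Finset.mem_filter.2 ⟨?_, h⟩⟩
    refine Finset.mem_map.2 ⟨FFCurve.toPlace k hdim x, ?_, (FFCurve.placeEquiv k hdim).symm_apply_apply x⟩
    by_contra hn
    simp only [Finset.mem_union, Finsupp.mem_support_iff, Set.Finite.mem_toFinset, Function.mem_support,
      not_or, not_not] at hn
    exact ((FF.ell_lt_iff_exists hK (W - D) _).2 ⟨z, hz, by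
      rw [hn.1, WithZero.exp_zero, FF.val_eq_one_iff _ hz0]; exact hn.2⟩).ne h
  let U : C.Opens := ⟨(⋃ x ∈ (B : Set (ZetaLib.ClosedPt C)), {x.1})ᶜ,
    (B.finite_toSet.isClosed_biUnion fun x _ => x.2).isOpen_compl⟩
  refine ⟨U, ⟨genericPoint C, ?_⟩, ?_⟩
  · show genericPoint C ∈ (⋃ x ∈ (B : Set (ZetaLib.ClosedPt C)), {x.1})ᶜ
    simp only [Set.mem_compl_iff, Set.mem_iUnion, Set.mem_singleton_iff, not_exists]
    intro x _ hx
    haveI := FFCurve.isDVR k hdim (x := genericPoint C) (hx ▸ x.2)
    exact IsDiscreteValuationRing.not_isField (C.presheaf.stalk (genericPoint C)) (Field.toIsField C.functionField)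
  intro σ hσ M hM hML
  obtain ⟨e⟩ := hML
  have hdiv : FFCurve.DivEq k (FFCurve.divOf k hdim hM) (D + Finsupp.single (JacPts.plc k hdim hσ) 1) := by
    have := JacPts.divEq_of_tensor_iso k hdim hM (JacPts.isInvertible_ker k hdim hσ) hL e
      (JacPts.divEq_ker k hdim hσ) (FFCurve.divEq_refl k hdim D)
    rwa [sub_neg_eq_add] at this
  have hM1 : Module.finrank k (Coh.HH C M 1) =
      FunFld.ell (W - D - Finsupp.single (JacPts.plc k hdim hσ) 1) := by
    rw [h1eq hM]
    obtain ⟨w, hw, hw'⟩ := hdiv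
    rw [hw', ← FF.Any.ell_add_div (FFCurve.isFF k hdim) hw
      (D := W - (D + Finsupp.single (JacPts.plc k hdim hσ) 1 + FunFld.div k w))]
    congr 1
    abel
  obtain ⟨hle, hge⟩ := FF.ell_sub_single_le hK (W - D) (JacPts.plc k hdim hσ)
  rw [JacPts.deg_plc k hdim hσ] at hge
  have hx : σ.base (IsLocalRing.closedPoint k) ∈ U ↔ JacPts.cpt k hσ ∉ B := by
    show _ ∈ (⋃ x ∈ (B : Set (ZetaLib.ClosedPt C)), {x.1})ᶜ ↔ _
    simp only [Set.mem_compl_iff, Set.mem_iUnion, Set.mem_singleton_iff, exists_prop, not_exists, not_and,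
      Finset.mem_coe]
    exact ⟨fun h hm => h _ hm rfl, fun h y hy he => h ((Subtype.ext he : JacPts.cpt k hσ = y) ▸ hy)⟩
  constructor
  · intro hp
    have h' := hx.1 (hp _)
    rw [hB] at h'
    change FunFld.ell (W - D - Finsupp.single (JacPts.plc k hdim hσ) 1) ≠ _ at h'
    rw [hM1]
    omega
  · intro hp
    have h' : JacPts.cpt k hσ ∈ B := not_not.1 fun h => hp _ (hx.2 h)
    rw [hB] at h'
    rw [hM1]
    exact h' 

end Groth.Agent.S17807
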