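import Groth.Statements.S17808
import Groth.Agent.JacPts.Det
-- import your own Groth.Agent.* helpers here

set_option autoImplicit false
universe u
open CategoryTheory CategoryTheory.Limits AlgebraicGeometry
open JacVar

namespace Groth.Agent.S17808

/-- Let C be a smooth proper connected curve of genus g > 0 over an algebraically closed field k (with a
chosen point), and let r ≤ g. Then there is a nonempty open subset U of the r-fold fibre power C ×_k
⋯ ×_k C such that for every k-point (P_1, …, P_r) of U (closed points, k being algebraically closed)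
and every invertible module M on C with M ⊗ I_{P_1} ⊗ ⋯ ⊗ I_{P_r} ≅ O_C (so M is O(P_1 + ⋯ + P_r)),
h⁰(C, M) = 1. (The published statement, over the ground field of the section, says only that U is
open; this row also asserts that U is non-empty; k is taken algebraically closed so that the
k-points of U are its closed points.) -/
theorem result (k : Type u) [Field k] [IsAlgClosed k]
    (C : Scheme.{u}) [C.Over (Spec (CommRingCat.of k))]
    [IsProper (C ↘ Spec (CommRingCat.of k))] [Smooth (C ↘ Spec (CommRingCat.of k))] [GeometricallyConnected (C ↘ Spec (CommRingCat.of k))]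
    (hdim : topologicalKrullDim ↥C = 1)
    (hg : 0 < Curv2.genus k C)
    (σ₀ : Spec (CommRingCat.of k) ⟶ C) (hσ₀ : σ₀ ≫ (C ↘ Spec (CommRingCat.of k)) = 𝟙 _)
    (r : ℕ) (hr : r ≤ Curv2.genus k C) :
    ∃ U : (SymProd.fibPow (C ↘ Spec (CommRingCat.of k)) r).Opens, (U : Set ↥(SymProd.fibPow (C ↘ Spec (CommRingCat.of k)) r)).Nonempty ∧
      ∀ (x : Spec (CommRingCat.of k) ⟶ SymProd.fibPow (C ↘ Spec (CommRingCat.of k)) r)
        (hx : x ≫ WidePullback.base (fun (_ : Fin r) => (C ↘ Spec (CommRingCat.of k))) = 𝟙 _)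
        (hxU : ∀ p, x.base p ∈ U) (M : C.Modules) (hM : PicF.IsInvertible M)
        (hMD : Nonempty (CohB1.tensorMod M (FGA.tensorList (List.ofFn fun i : Fin r =>
          ClSub.idealMod (x ≫ WidePullback.π (fun (_ : Fin r) => (C ↘ Spec (CommRingCat.of k))) i).ker)) ≅ Coh.structureModule C)),
        Module.finrank k (Coh.HH C M 0) = 1 := by
  classical
  obtain ⟨_, _⟩ := JacPts.integral_reg k C hdim
  have hK := JacPts.isFunctionField k hdim hσ₀
  rw [JacPts.genus_eq k hdim hσ₀] at hr
  obtain ⟨W, hW⟩ := FF.exists_canonical hK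
  have hWl := FF.ell_canonical hK hW
  obtain ⟨U, hUne, hU⟩ := JacPts.exists_open k hdim σ₀ hσ₀ W (n := r) (m := r) (by omega) id Function.injective_id
  refine ⟨U, hUne, fun x hx hxU M hM hMD => ?_⟩
  obtain ⟨e⟩ := hMD
  have hq : ∀ i, (x ≫ WidePullback.π (fun (_ : Fin r) => (C ↘ Spec (CommRingCat.of k))) i) ≫
      (C ↘ Spec (CommRingCat.of k)) = 𝟙 _ := fun i => by
    rw [Category.assoc, WidePullback.π_arrow]; exact hx
  have hU' := hU x hxU hq
  obtain ⟨hI, eI⟩ := JacPts.divEq_tensorList k hdim _ hq
  have hdiv := JacPts.divEq_of_tensor_iso k hdim hM hI FFCurve.isInvertible_structureModule e eI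
    (FFCurve.divEq_structureModule k hdim)
  set E := ∑ i, Finsupp.single (JacPts.plc k hdim (hq i)) (1 : ℤ) with hE
  rw [zero_sub, neg_neg] at hdiv
  rw [FFCurve.finrank_zero k hdim hK hM, FFCurve.DivEq.ell_eq k hdim hdiv]
  have hdeg : FunFld.Divisor.deg E = r := by
    rw [hE, JacPts.deg_sum_plc k hdim Finset.univ _ hq]
    simp
  have h0 : (0 : FunFld.Divisor k C.functionField) ≤ E :=
    Finset.sum_nonneg fun i _ => Finsupp.single_nonneg.2 zero_le_one
  have h1 : 1 ≤ FunFld.ell E := by
    haveI := FF.finiteDimensional_L hK E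
    refine Nat.one_le_iff_ne_zero.2 fun h3 => ?_
    have h4 : (1 : C.functionField) ∈ FunFld.L E := fun R => by
      rw [map_one, ← WithZero.exp_zero, WithZero.exp_le_exp]; exact h0 R
    rw [Submodule.finrank_eq_zero.1 h3] at h4
    exact one_ne_zero ((Submodule.mem_bot k).1 h4)
  have hrr := FF.riemann_roch hK hW E
  omega

end Groth.Agent.S17808
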