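import Groth.Statements.S17812
import Groth.Agent.JacPts.Kappa

set_option autoImplicit false
universe u
set_option backward.isDefEq.respectTransparency false
set_option backward.isDefEq.respectTransparency.types false
set_option maxHeartbeats 1600000
open FunFld Groth.Agent Groth.Agent.FFCurve Groth.Agent.JacPts Groth.Agent.JacPts.WSet
open CategoryTheory CategoryTheory.Limits AlgebraicGeometry MonoidalCategory CartesianMonoidalCategory MonObj
open JacVar

namespace Groth.Agent.S17812

/-- Let k be an algebraically closed field, C a smooth proper connected curve of genus g ≥ 2 over k with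
a k-point P, (J, ψ) its Jacobian (a commutative group scheme over k, coarse moduli scheme on all
k-schemes for degree-0 line bundles modulo twisting from the base, group law induced by tensor
product) and j : C ⟶ J the Abel map with base point P. Write W^r ⊂ J for the image of the r-fold
product C ×_k ⋯ ×_k C under (x_1, …, x_r) ↦ j(x_1) ⋯ j(x_r) (the image of the r-th symmetric power;
W^0 is the origin), and W^r_a for its translate by a k-point a of J. Then for 0 ≤ r ≤ g − 1 and
k-points a, b of J one has W^r_a ⊆ W^{g−1}_b if and only if a lies in W^{g−1−r}_b (inclusions of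
sets of points of J). -/
theorem result (k : Type u) [Field k] [IsAlgClosed k]
    (C : Scheme.{u}) [C.Over (Spec (CommRingCat.of k))]
    [IsProper (C ↘ Spec (CommRingCat.of k))] [Smooth (C ↘ Spec (CommRingCat.of k))] [GeometricallyConnected (C ↘ Spec (CommRingCat.of k))]
    (hdim : topologicalKrullDim ↥C = 1)
    (g : ℕ) (hg : Curv2.genus k C = g) (hg2 : 2 ≤ g)
    (σ : Spec (CommRingCat.of k) ⟶ C) (hσ : σ ≫ (C ↘ Spec (CommRingCat.of k)) = 𝟙 _)
    (J : Over (Spec (CommRingCat.of k))) [GrpObj J] [IsCommMonObj J]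
    (ψ : (ModFun.PicDeg (C ↘ Spec (CommRingCat.of k)) 0).Hom ⊤ J) (hJ : Jac.IsJacobian (C ↘ Spec (CommRingCat.of k)) ⊤ J ψ)
    (j : Over.mk (C ↘ Spec (CommRingCat.of k)) ⟶ J) (hj : Jac.IsAbelJacobiAt (C ↘ Spec (CommRingCat.of k)) σ ψ j)
    (r : ℕ) (hr : r ≤ g - 1) (a b : 𝟙_ (Over (Spec (CommRingCat.of k))) ⟶ J) :
    ((Jac.transl J a).left.base '' Set.range ((List.ofFn fun i : Fin r =>
        (Over.homMk (WidePullback.π (fun (_ : Fin r) => (C ↘ Spec (CommRingCat.of k))) i)
          (WidePullback.π_arrow (fun (_ : Fin r) => (C ↘ Spec (CommRingCat.of k))) i) : Over.mk (WidePullback.base fun (_ : Fin r) => (C ↘ Spec (CommRingCat.of k))) ⟶ Over.mk (C ↘ Spec (CommRingCat.of k))) ≫ j).prod).left.base) ⊆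
      ((Jac.transl J b).left.base '' Set.range ((List.ofFn fun i : Fin (g - 1) =>
        (Over.homMk (WidePullback.π (fun (_ : Fin (g - 1)) => (C ↘ Spec (CommRingCat.of k))) i)
          (WidePullback.π_arrow (fun (_ : Fin (g - 1)) => (C ↘ Spec (CommRingCat.of k))) i) : Over.mk (WidePullback.base fun (_ : Fin (g - 1)) => (C ↘ Spec (CommRingCat.of k))) ⟶ Over.mk (C ↘ Spec (CommRingCat.of k))) ≫ j).prod).left.base) ↔
    ∀ p, a.left.base p ∈ ((Jac.transl J b).left.base '' Set.range ((List.ofFn fun i : Fin (g - 1 - r) =>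
        (Over.homMk (WidePullback.π (fun (_ : Fin (g - 1 - r)) => (C ↘ Spec (CommRingCat.of k))) i)
          (WidePullback.π_arrow (fun (_ : Fin (g - 1 - r)) => (C ↘ Spec (CommRingCat.of k))) i) : Over.mk (WidePullback.base fun (_ : Fin (g - 1 - r)) => (C ↘ Spec (CommRingCat.of k))) ⟶ Over.mk (C ↘ Spec (CommRingCat.of k))) ≫ j).prod).left.base) := by
  obtain ⟨_, _⟩ := integral_reg k C hdim
  have hgK : (genus k C.functionField : ℤ) = g := by rw [← genus_eq k hdim hσ, hg]
  obtain ⟨A, hA, rfl⟩ := exists_cls hdim hσ ψ hJ a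
  obtain ⟨B, hB, rfl⟩ := exists_cls hdim hσ ψ hJ b
  rw [forall_base_iff, image_transl, image_transl, image_transl]
  show Set.range (sym j r ≫ Jac.transl J (cls hdim hσ ψ A)).left.base ⊆
    Set.range (sym j (g - 1) ≫ Jac.transl J (cls hdim hσ ψ B)).left.base ↔
    im (cls hdim hσ ψ A) ∈ Set.range (sym j (g - 1 - r) ≫ Jac.transl J (cls hdim hσ ψ B)).left.base
  set s : Divisor k C.functionField := Finsupp.single (plc k hdim hσ) 1 with hs
  have hds : ∀ n : ℤ, (n • s).deg = n := fun n => by
    rw [hs, Finsupp.smul_single, FF.deg_single, deg_plc k hdim hσ, smul_eq_mul]; ring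
  set n : ℤ := ((g - 1 - r : ℕ) : ℤ) with hn
  have key : ∀ P : Fin r → RPt k C,
      im (cls hdim hσ ψ (psum k hdim P) * cls hdim hσ ψ A) ∈
        Set.range (sym j (g - 1) ≫ Jac.transl J (cls hdim hσ ψ B)).left.base ↔
      0 < ell (A + n • s - B + psum k hdim P) := fun P => by
    rw [← cls_add hdim hσ ψ hJ, ← cls_add_base hdim hσ ψ (psum k hdim P + A) n, mem_range_transl_cls_iff hdim hσ ψ hJ hj]
    · exact iff_of_eq (congrArg (fun D => 0 < ell D) (by rw [← hs]; abel))
    · rw [FF.deg_add, FF.deg_add, deg_psum, hA, hB, hds, hn]; omega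
  have hRHS : im (cls hdim hσ ψ A) ∈ Set.range (sym j (g - 1 - r) ≫ Jac.transl J (cls hdim hσ ψ B)).left.base ↔
      0 < ell (A + n • s - B) := by
    rw [← cls_add_base hdim hσ ψ A n]
    exact mem_range_transl_cls_iff hdim hσ ψ hJ hj _ _ (by rw [FF.deg_add, hA, hB, hds, hn]; omega)
  rw [hRHS]
  constructor
  · intro h
    refine ell_pos_of_forall_add k hdim (r := r) (by rw [FF.deg_sub, FF.deg_add, hA, hB, hds, hgK, hn]; omega) fun P => ?_
    exact (key P).1 (h ((mem_range_transl_iff hdim hσ ψ hJ hj _ _).2 ⟨P, rfl⟩))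
  · intro h
    refine range_subset _ (isClosed_range' _) fun x => ?_
    rw [← Category.assoc, comp_sym hdim hσ ψ hJ hj, pt_comp_transl]
    exact (key _).2 (lt_of_lt_of_le h (ell_mono k hdim (le_add_of_nonneg_right (psum_nonneg k hdim _))))

end Groth.Agent.S17812
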