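import Groth.Statements.S17813
import Groth.Agent.JacPts.Kappa

set_option autoImplicit false
universe u
set_option backward.isDefEq.respectTransparency false
set_option backward.isDefEq.respectTransparency.types false
set_option maxHeartbeats 1600000
open FunFld Groth.Agent Groth.Agent.FFCurve Groth.Agent.JacPts Groth.Agent.JacPts.WSet
open CategoryTheory CategoryTheory.Limits AlgebraicGeometry MonoidalCategory CartesianMonoidalCategory MonObj
open JacVar

namespace Groth.Agent.S17813

/-- Let k be an algebraically closed field, C a smooth proper connected curve of genus g ≥ 2 over k with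
a k-point P, (J, ψ) its Jacobian (a commutative group scheme over k, coarse moduli scheme on all
k-schemes for degree-0 line bundles modulo twisting from the base, group law induced by tensor
product) and j : C ⟶ J the Abel map with base point P. Write W^r ⊂ J for the image of the r-fold
product C ×_k ⋯ ×_k C under (x_1, …, x_r) ↦ j(x_1) ⋯ j(x_r) (the image of the r-th symmetric power;
W^0 is the origin), and W^r_a for its translate by a k-point a of J. Then for 0 ≤ r ≤ g − 1 the set
W^{g−1−r} is the intersection of the translates W^{g−1}_{a⁻¹} over all k-points a of J lying in W^r.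
(The companion equality for the images under x ↦ κ·x⁻¹, κ the image of a canonical divisor, is not
stated.) -/
theorem result (k : Type u) [Field k] [IsAlgClosed k]
    (C : Scheme.{u}) [C.Over (Spec (CommRingCat.of k))]
    [IsProper (C ↘ Spec (CommRingCat.of k))] [Smooth (C ↘ Spec (CommRingCat.of k))] [GeometricallyConnected (C ↘ Spec (CommRingCat.of k))]
    (hdim : topologicalKrullDim ↥C = 1)
    (g : ℕ) (hg : Curv2.genus k C = g) (hg2 : 2 ≤ g)
    (σ : Spec (CommRingCat.of k) ⟶ C) (hσ : σ ≫ (C ↘ Spec (CommRingCat.of k)) = 𝟙 _)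
    (J : Over (Spec (CommRingCat.of k))) [GrpObj J] [IsCommMonObj J]
    (ψ : (ModFun.PicDeg (C ↘ Spec (CommRingCat.of k)) 0).Hom ⊤ J) (hJ : Jac.IsJacobian (C ↘ Spec (CommRingCat.of k)) ⊤ J ψ)
    (j : Over.mk (C ↘ Spec (CommRingCat.of k)) ⟶ J) (hj : Jac.IsAbelJacobiAt (C ↘ Spec (CommRingCat.of k)) σ ψ j)
    (r : ℕ) (hr : r ≤ g - 1) :
    Set.range ((List.ofFn fun i : Fin (g - 1 - r) =>
        (Over.homMk (WidePullback.π (fun (_ : Fin (g - 1 - r)) => (C ↘ Spec (CommRingCat.of k))) i)
          (WidePullback.π_arrow (fun (_ : Fin (g - 1 - r)) => (C ↘ Spec (CommRingCat.of k))) i) : Over.mk (WidePullback.base fun (_ : Fin (g - 1 - r)) => (C ↘ Spec (CommRingCat.of k))) ⟶ Over.mk (C ↘ Spec (CommRingCat.of k))) ≫ j).prod).left.base =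
      ⋂ (a : 𝟙_ (Over (Spec (CommRingCat.of k))) ⟶ J) (_ : ∀ p, a.left.base p ∈ Set.range ((List.ofFn fun i : Fin r =>
        (Over.homMk (WidePullback.π (fun (_ : Fin r) => (C ↘ Spec (CommRingCat.of k))) i)
          (WidePullback.π_arrow (fun (_ : Fin r) => (C ↘ Spec (CommRingCat.of k))) i) : Over.mk (WidePullback.base fun (_ : Fin r) => (C ↘ Spec (CommRingCat.of k))) ⟶ Over.mk (C ↘ Spec (CommRingCat.of k))) ≫ j).prod).left.base),
        ((Jac.transl J a⁻¹).left.base '' Set.range ((List.ofFn fun i : Fin (g - 1) =>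
        (Over.homMk (WidePullback.π (fun (_ : Fin (g - 1)) => (C ↘ Spec (CommRingCat.of k))) i)
          (WidePullback.π_arrow (fun (_ : Fin (g - 1)) => (C ↘ Spec (CommRingCat.of k))) i) : Over.mk (WidePullback.base fun (_ : Fin (g - 1)) => (C ↘ Spec (CommRingCat.of k))) ⟶ Over.mk (C ↘ Spec (CommRingCat.of k))) ≫ j).prod).left.base) := by
  obtain ⟨_, _⟩ := integral_reg k C hdim
  have hgK : (genus k C.functionField : ℤ) = g := by rw [← genus_eq k hdim hσ, hg]
  set s : Divisor k C.functionField := Finsupp.single (plc k hdim hσ) 1 with hs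
  set n : ℤ := ((g - 1 - r : ℕ) : ℤ) with hn
  have hset : ∀ a : 𝟙_ (Over (Spec (CommRingCat.of k))) ⟶ J,
      (Jac.transl J a⁻¹).left.base '' Set.range (sym j (g - 1)).left.base =
        Set.range (sym j (g - 1) ≫ Jac.transl J a⁻¹).left.base := fun a => image_transl _ _
  have key : ∀ (D : Divisor k C.functionField) (P : Fin r → RPt k C), D.deg = n →
      (im (cls hdim hσ ψ D) ∈ Set.range (sym j (g - 1) ≫ Jac.transl J (cls hdim hσ ψ (psum k hdim P))⁻¹).left.base ↔
        0 < ell (D + psum k hdim P)) := fun D P hD => by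
    rw [← cls_neg hdim hσ ψ hJ, mem_range_transl_cls_iff hdim hσ ψ hJ hj, sub_neg_eq_add]
    rw [FF.deg_neg, deg_psum, hD, hn]; omega
  show Set.range (sym j (g - 1 - r)).left.base =
    ⋂ (a : 𝟙_ (Over (Spec (CommRingCat.of k))) ⟶ J) (_ : ∀ p, a.left.base p ∈ Set.range (sym j r).left.base),
      (Jac.transl J a⁻¹).left.base '' Set.range (sym j (g - 1)).left.base
  refine Set.Subset.antisymm ?_ ?_
  · refine Set.subset_iInter₂ fun a ha => ?_
    obtain ⟨P, rfl⟩ := (mem_range_iff hdim hσ ψ hJ hj a).1 ((forall_base_iff a _).1 ha)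
    rw [hset]
    refine range_subset _ (isClosed_range' _) fun x => ?_
    rw [comp_sym hdim hσ ψ hJ hj, key _ _ (by rw [deg_psum])]
    exact ell_pos_of_nonneg k hdim (add_nonneg (psum_nonneg k hdim _) (psum_nonneg k hdim _))
  · set Z := ⋂ (a : 𝟙_ (Over (Spec (CommRingCat.of k))) ⟶ J) (_ : ∀ p, a.left.base p ∈ Set.range (sym j r).left.base),
      (Jac.transl J a⁻¹).left.base '' Set.range (sym j (g - 1)).left.base with hZ
    have hZc : IsClosed Z := isClosed_iInter fun a => isClosed_iInter fun _ => by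
      rw [hset]; exact isClosed_range' _
    have hmem : ∀ P : Fin r → RPt k C, ∀ p, (cls hdim hσ ψ (psum k hdim P)).left.base p ∈
        Set.range (sym j r).left.base :=
      fun P => (forall_base_iff _ _).2 ((mem_range_iff hdim hσ ψ hJ hj _).2 ⟨P, rfl⟩)
    let a₀ := cls hdim hσ ψ (psum k hdim fun _ : Fin r => (⟨σ, hσ⟩ : RPt k C))
    intro z hz
    have hz₀ : z ∈ Set.range (sym j (g - 1) ≫ Jac.transl J a₀⁻¹).left.base := by
      rw [← hset]; exact Set.mem_iInter₂.1 hz a₀ (hmem _)
    refine inter_range_subset _ hZc (isClosed_range' _) (fun x hx => ?_) ⟨hz, hz₀⟩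
    obtain ⟨D, hD, hc⟩ := exists_cls hdim hσ ψ hJ (x ≫ sym j (g - 1) ≫ Jac.transl J a₀⁻¹)
    rw [← hc, ← cls_add_base hdim hσ ψ D n] at hx ⊢
    have hDn : (D + n • s).deg = n := by
      rw [FF.deg_add, hD, hs, Finsupp.smul_single, FF.deg_single, deg_plc k hdim hσ, smul_eq_mul]; ring
    rw [mem_range_cls_iff hdim hσ ψ hJ hj _ hDn]
    refine ell_pos_of_forall_add k hdim (r := r) (by rw [hDn, hgK, hn]; omega) fun P => ?_
    rw [← key _ P hDn]
    have := Set.mem_iInter₂.1 hx _ (hmem P)
    rwa [hset] at this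

end Groth.Agent.S17813
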