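import Groth.Statements.S17814
import Groth.Agent.IdealSh.RelFlat
import Groth.Agent.IdealSh.Comap
import Mathlib.RingTheory.Ideal.MinimalPrime.Basic
import Mathlib.LinearAlgebra.TensorProduct.Pi
import Mathlib.AlgebraicGeometry.Noetherian

set_option autoImplicit false
set_option linter.style.haveILetI false
universe u
open CategoryTheory CategoryTheory.Limits AlgebraicGeometry
open SDiv

namespace Groth.Agent.S17814

open scoped TensorProduct
open Groth.Agent.IdealSh

theorem eq_zero_of_flat {R M : Type u} [CommRing R] [AddCommGroup M] [Module R M] [Module.Flat R M]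
    {ι : Type u} [Finite ι] (K : ι → Type u) [∀ i, CommRing (K i)] [∀ i, Algebra R (K i)]
    (hinj : ∀ r : R, (∀ i, algebraMap R (K i) r = 0) → r = 0) (z : M) (hz : ∀ i, (1 : K i) ⊗ₜ[R] z = 0) :
    z = 0 := by
  classical
  cases nonempty_fintype ι
  have hm : Function.Injective (Algebra.linearMap R (∀ i, K i)) := by
    rw [injective_iff_map_eq_zero]
    exact fun r hr => hinj r fun i => congrFun hr i
  have h2 := Module.Flat.lTensor_preserves_injective_linearMap (M := M) _ hm
  have h3 : (Algebra.linearMap R (∀ i, K i)).lTensor M (z ⊗ₜ[R] (1 : R)) = 0 := by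
    refine (TensorProduct.piRight R R M K).injective (funext fun i => ?_)
    simp only [LinearMap.lTensor_tmul, map_zero, Pi.zero_apply, TensorProduct.piRight_apply,
      TensorProduct.piRightHom_tmul, Algebra.linearMap_apply, map_one, Pi.one_apply]
    have := congrArg (TensorProduct.comm R (K i) M) (hz i)
    simpa using this
  have h4 := h2 (h3.trans (map_zero _).symm)
  simpa using congrArg (TensorProduct.rid R M) h4

theorem tmul_mk_eq_zero {R A K B : Type u} [CommRing R] [CommRing A] [CommRing K] [CommRing B]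
    [Algebra R A] [Algebra R K] [Algebra R B] [Algebra A B] [Algebra K B] [IsScalarTower R A B]
    [IsScalarTower R K B] [Algebra.IsPushout R K A B] (J : Ideal A) (a : A)
    (ha : algebraMap A B a ∈ J.map (algebraMap A B)) : (1 : K) ⊗ₜ[R] Ideal.Quotient.mk J a = 0 := by
  let ψ : B →+* K ⊗[R] (A ⧸ J) :=
    (Algebra.TensorProduct.map (AlgHom.id R K) (Ideal.Quotient.mkₐ R J)).toRingHom.comp
      (Algebra.IsPushout.equiv R K A B).symm.toRingHom
  have hψ : ∀ x, ψ (algebraMap A B x) = (1 : K) ⊗ₜ[R] Ideal.Quotient.mk J x := fun x => by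
    have h1 : (Algebra.IsPushout.equiv R K A B).symm (algebraMap A B x) = (1 : K) ⊗ₜ[R] x := by
      rw [AlgEquiv.symm_apply_eq]
      simp [Algebra.IsPushout.equiv_tmul]
    change (Algebra.TensorProduct.map (AlgHom.id R K) (Ideal.Quotient.mkₐ R J)) _ = _
    erw [h1]
    simp
  rw [← hψ, ← RingHom.mem_ker]
  refine (Ideal.map_le_iff_le_comap.2 fun j hj => ?_) ha
  rw [Ideal.mem_comap, RingHom.mem_ker, hψ, Ideal.Quotient.eq_zero_iff_mem.2 hj, TensorProduct.tmul_zero]

/-- Let T be a reduced locally Noetherian scheme, π : 𝒞 ⟶ T a proper smooth morphism of relative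
dimension 1, and D, D' relative effective divisors on 𝒞/T: closed subschemes whose ideal sheaves are
locally generated by a single nonzerodivisor and which are flat over T. If for every point t of T
the fibre of D over t contains the fibre of D' as closed subschemes of 𝒞_t (containment of ideal
sheaves the other way), then D contains D': the ideal sheaf of D is contained in that of D'. (The
published statement has no hypothesis on T; over T = Spec k[ε] the divisors x = 0 and x = ε on the
projective line have equal fibres while neither contains the other. This row assumes T reduced and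
locally Noetherian.) -/
theorem result {𝒞 T : Scheme.{u}} [IsLocallyNoetherian T] [AlgebraicGeometry.IsReduced T]
    (π : 𝒞 ⟶ T) [IsProper π] [SmoothOfRelativeDimension 1 π]
    (D D' : 𝒞.IdealSheafData)
    (hD : BlowUp.IsEffCartierIdeal D ∧ Flat (D.subschemeι ≫ π))
    (hD' : BlowUp.IsEffCartierIdeal D' ∧ Flat (D'.subschemeι ≫ π))
    (hfib : ∀ t : ↥T, D.comap (pullback.fst π (T.fromSpecResidueField t)) ≤
      D'.comap (pullback.fst π (T.fromSpecResidueField t))) :
    D ≤ D' := by
  refine Scheme.IdealSheafData.le_of_iSup_eq_top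
    (fun W : {W : 𝒞.affineOpens // ∃ V : T.affineOpens, W.1 ≤ π ⁻¹ᵁ V.1} => W.1)
    (top_unique fun x _ => ?_) ?_
  · obtain ⟨V, W, hx, e⟩ := Comap.exists_affine_pair π x
    exact TopologicalSpace.Opens.mem_iSup.mpr ⟨⟨W, V, e⟩, hx⟩
  · rintro ⟨W, V, e⟩ a haW
    haveI := hD'.2
    letI := (π.appLE V.1 W.1 e).hom.toAlgebra
    haveI : Module.Flat Γ(T, V.1) (Γ(𝒞, W.1) ⧸ D'.ideal W) := RelFlat.flat_quot_of_flat_subscheme π D' V W e
    haveI : IsNoetherianRing Γ(T, V.1) := IsLocallyNoetherian.component_noetherian V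
    haveI : _root_.IsReduced Γ(T, V.1) := inferInstance
    have hfin : (minimalPrimes Γ(T, V.1)).Finite := minimalPrimes.finite_of_isNoetherianRing _
    haveI : Finite ↥(minimalPrimes Γ(T, V.1)) := hfin.to_subtype
    let tt : ↥(minimalPrimes Γ(T, V.1)) → T := fun p => V.2.fromSpec ⟨p.1, p.2.1.1⟩
    have htt : ∀ p, (tt p) ∈ V.1 := fun p => V.2.range_fromSpec.le ⟨_, rfl⟩
    have hle : ∀ p, (⊤ : (Spec (T.residueField (tt p))).Opens) ≤ T.fromSpecResidueField (tt p) ⁻¹ᵁ V.1 := fun p s _ => by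
      show T.fromSpecResidueField (tt p) s ∈ V.1
      rw [Scheme.fromSpecResidueField_apply]
      exact htt p
    let K : ↥(minimalPrimes Γ(T, V.1)) → Type u := fun p => Γ(Spec (T.residueField (tt p)), ⊤)
    letI : ∀ p, CommRing (K p) := fun p => inferInstanceAs (CommRing Γ(Spec (T.residueField (tt p)), ⊤))
    letI : ∀ p, Algebra Γ(T, V.1) (K p) := fun p => ((T.fromSpecResidueField (tt p)).appLE V.1 ⊤ (hle p)).hom.toAlgebra
    refine Ideal.Quotient.eq_zero_iff_mem.1 (eq_zero_of_flat (R := Γ(T, V.1)) (M := Γ(𝒞, W.1) ⧸ D'.ideal W) K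
      (fun r hr => ?_) _ fun p => ?_)
    · by_contra hr0
      have hr1 : ¬ IsNilpotent r := fun hn => hr0 hn.eq_zero
      obtain ⟨p, hp, hrp⟩ : ∃ p ∈ minimalPrimes Γ(T, V.1), r ∉ p := by
        by_contra hcon
        push Not at hcon
        apply hr1
        rw [← mem_nilradical, nilradical, ← Ideal.sInf_minimalPrimes]
        exact Submodule.mem_sInf.2 hcon
      have hmem : tt ⟨p, hp⟩ ∈ T.basicOpen r := by
        show (⟨p, hp.1.1⟩ : PrimeSpectrum Γ(T, V.1)) ∈ V.2.fromSpec ⁻¹ᵁ T.basicOpen r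
        rw [V.2.fromSpec_preimage_basicOpen]
        exact hrp
      have h0 := hr ⟨p, hp⟩
      have hb : (Spec (T.residueField (tt ⟨p, hp⟩))).basicOpen
          ((T.fromSpecResidueField (tt ⟨p, hp⟩)).appLE V.1 ⊤ (hle ⟨p, hp⟩) r) = ⊥ := by
        change (Spec (T.residueField (tt ⟨p, hp⟩))).basicOpen (algebraMap Γ(T, V.1) (K ⟨p, hp⟩) r) = ⊥
        rw [h0]
        exact Scheme.basicOpen_zero _ _
      rw [Scheme.basicOpen_appLE] at hb
      have : (IsLocalRing.closedPoint (T.residueField (tt ⟨p, hp⟩)) : Spec _) ∈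
          (⊤ : (Spec (T.residueField (tt ⟨p, hp⟩))).Opens) ⊓
          (T.fromSpecResidueField (tt ⟨p, hp⟩)) ⁻¹ᵁ T.basicOpen r := ⟨trivial, by
        show T.fromSpecResidueField (tt ⟨p, hp⟩) _ ∈ T.basicOpen r
        erw [Scheme.fromSpecResidueField_apply]; exact hmem⟩
      rw [hb] at this
      exact this
    · let g₁ := T.fromSpecResidueField (tt p)
      let p₁ := pullback.fst π g₁
      let q₁ := pullback.snd π g₁
      obtain ⟨W', hW'⟩ : ∃ W', W' = p₁ ⁻¹ᵁ W.1 ⊓ q₁ ⁻¹ᵁ ⊤ := ⟨_, rfl⟩
      have hc := IsPullback.of_hasPullback π g₁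
      have hWa : IsAffineOpen W' := by
        have : IsAffine V.1.toScheme := V.2
        have : IsAffine W.1.toScheme := W.2
        have : IsAffine (⊤ : (Spec (T.residueField (tt p))).Opens).toScheme := isAffineOpen_top _
        exact .of_isIso (Scheme.Hom.isPullback_resLE hc (hle p) e hW').isoPullback.hom
      have hWU : W' ≤ p₁ ⁻¹ᵁ W.1 := hW'.le.trans inf_le_left
      have hWV : W' ≤ q₁ ⁻¹ᵁ ⊤ := hW'.le.trans inf_le_right
      have hpush : IsPushout (π.appLE V.1 W.1 e) (g₁.appLE V.1 ⊤ (hle p)) (p₁.appLE W.1 W' hWU)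
          (q₁.appLE ⊤ W' hWV) :=
        (isIso_pushoutSection_iff hc (hle p) e hW').mp
          (isIso_pushoutSection_of_isAffineOpen hc (hle p) e hW' V.2 (isAffineOpen_top _) W.2)
      have hf := hfib (tt p) ⟨W', hWa⟩
      rw [Comap.ideal_comap _ p₁ W ⟨W', hWa⟩ hWU, Comap.ideal_comap _ p₁ W ⟨W', hWa⟩ hWU] at hf
      letI := (p₁.appLE W.1 W' hWU).hom.toAlgebra
      letI : Algebra (K p) Γ(pullback π g₁, W') := (q₁.appLE ⊤ W' hWV).hom.toAlgebra
      letI : Algebra Γ(T, V.1) Γ(pullback π g₁, W') :=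
        ((q₁.appLE ⊤ W' hWV).hom.comp (g₁.appLE V.1 ⊤ (hle p)).hom).toAlgebra
      haveI : IsScalarTower Γ(T, V.1) (K p) Γ(pullback π g₁, W') := .of_algebraMap_eq' rfl
      haveI : IsScalarTower Γ(T, V.1) Γ(𝒞, W.1) Γ(pullback π g₁, W') :=
        .of_algebraMap_eq' congr($(hpush.w).hom).symm
      haveI : Algebra.IsPushout Γ(T, V.1) (K p) Γ(𝒞, W.1) Γ(pullback π g₁, W') :=
        CommRingCat.isPushout_iff_isPushout.mp hpush.flip
      exact tmul_mk_eq_zero (B := Γ(pullback π g₁, W')) _ _ (hf (Ideal.mem_map_of_mem _ haW))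

end Groth.Agent.S17814
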