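import Groth.Statements.S17815
import Groth.Agent.JacPts.Torelli

set_option autoImplicit false
universe u
set_option backward.isDefEq.respectTransparency false
set_option backward.isDefEq.respectTransparency.types false
set_option maxHeartbeats 800000
open Groth.Agent Groth.Agent.JacPts
open CategoryTheory CategoryTheory.Limits AlgebraicGeometry MonoidalCategory CartesianMonoidalCategory MonObj
open JacVar

namespace Groth.Agent.S17815

/-- The non-hyperelliptic case. Let k be an algebraically closed field, C and C' smooth proper connected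
curves of genus g ≥ 2 over k with k-points P and P', (J, ψ) and (J', ψ') their Jacobians
(commutative group schemes over k, coarse moduli schemes on all k-schemes for degree-0 line bundles
modulo twisting from the base, group law induced by tensor product), j and j' the Abel maps with
base points P and P', and β : J ≅ J' an isomorphism of group schemes over k. Suppose C is not
hyperelliptic: no invertible module of degree 2 on C has a two-dimensional space of global sections.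
Then the isomorphism, the sign and the translation in Torelli's conclusion are uniquely determined
by β, P and P': if isomorphisms α₁, α₂ : C ≅ C' over k, k-points c₁, c₂ of J' and signs s₁, s₂ ∈ {1,
−1} satisfy j' ∘ α_i = (β ∘ j)^{s_i} · c_i for i = 1, 2, then α₁ = α₂, s₁ = s₂ and c₁ = c₂. (The
published statement takes β an isomorphism of the canonically polarized Jacobians; this row allows
any isomorphism of group schemes β.) -/
theorem result (k : Type u) [Field k] [IsAlgClosed k]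
    (C : Scheme.{u}) [C.Over (Spec (CommRingCat.of k))]
    [IsProper (C ↘ Spec (CommRingCat.of k))] [Smooth (C ↘ Spec (CommRingCat.of k))] [GeometricallyConnected (C ↘ Spec (CommRingCat.of k))]
    (hdim : topologicalKrullDim ↥C = 1)
    (C' : Scheme.{u}) [C'.Over (Spec (CommRingCat.of k))]
    [IsProper (C' ↘ Spec (CommRingCat.of k))] [Smooth (C' ↘ Spec (CommRingCat.of k))] [GeometricallyConnected (C' ↘ Spec (CommRingCat.of k))]
    (hdim' : topologicalKrullDim ↥C' = 1)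
    (g : ℕ) (hg : Curv2.genus k C = g) (hg' : Curv2.genus k C' = g) (hg2 : 2 ≤ g)
    (σ : Spec (CommRingCat.of k) ⟶ C) (hσ : σ ≫ (C ↘ Spec (CommRingCat.of k)) = 𝟙 _) (σ' : Spec (CommRingCat.of k) ⟶ C') (hσ' : σ' ≫ (C' ↘ Spec (CommRingCat.of k)) = 𝟙 _)
    (J : Over (Spec (CommRingCat.of k))) [GrpObj J] [IsCommMonObj J]
    (ψ : (ModFun.PicDeg (C ↘ Spec (CommRingCat.of k)) 0).Hom ⊤ J) (hJ : Jac.IsJacobian (C ↘ Spec (CommRingCat.of k)) ⊤ J ψ)
    (J' : Over (Spec (CommRingCat.of k))) [GrpObj J'] [IsCommMonObj J']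
    (ψ' : (ModFun.PicDeg (C' ↘ Spec (CommRingCat.of k)) 0).Hom ⊤ J') (hJ' : Jac.IsJacobian (C' ↘ Spec (CommRingCat.of k)) ⊤ J' ψ')
    (j : Over.mk (C ↘ Spec (CommRingCat.of k)) ⟶ J) (hj : Jac.IsAbelJacobiAt (C ↘ Spec (CommRingCat.of k)) σ ψ j)
    (j' : Over.mk (C' ↘ Spec (CommRingCat.of k)) ⟶ J') (hj' : Jac.IsAbelJacobiAt (C' ↘ Spec (CommRingCat.of k)) σ' ψ' j')
    (β : J ≅ J') [IsMonHom β.hom]
    (hnh : ¬ ∃ L : C.Modules, PicF.IsInvertible L ∧ Curv2.deg k C L 1 = 2 ∧ Module.finrank k (Coh.HH C L 0) = 2)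
    (α₁ α₂ : C ≅ C') (hα₁ : α₁.hom ≫ (C' ↘ Spec (CommRingCat.of k)) = (C ↘ Spec (CommRingCat.of k))) (hα₂ : α₂.hom ≫ (C' ↘ Spec (CommRingCat.of k)) = (C ↘ Spec (CommRingCat.of k)))
    (c₁ c₂ : 𝟙_ (Over (Spec (CommRingCat.of k))) ⟶ J') (s₁ s₂ : ℤ) (hs₁ : s₁ = 1 ∨ s₁ = -1) (hs₂ : s₂ = 1 ∨ s₂ = -1)
    (h₁ : Over.homMk α₁.hom hα₁ ≫ j' = (j ≫ β.hom) ^ s₁ * (toUnit (Over.mk (C ↘ Spec (CommRingCat.of k))) ≫ c₁))
    (h₂ : Over.homMk α₂.hom hα₂ ≫ j' = (j ≫ β.hom) ^ s₂ * (toUnit (Over.mk (C ↘ Spec (CommRingCat.of k))) ≫ c₂)) :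
    α₁ = α₂ ∧ s₁ = s₂ ∧ c₁ = c₂ := by
  obtain ⟨_, _⟩ := integral_reg k C hdim
  obtain ⟨_, _⟩ := integral_reg k C' hdim'
  by_cases hs : s₁ = s₂
  · subst hs
    have e : α₁ = α₂ := iso_ext hα₁ hα₂ fun u =>
      mapPt_eq_of_sign_eq hdim' hσ' ψ' hJ' hj' (by omega) α₁ α₂ hα₁ hα₂
        (fun t => (opt t ≫ j ≫ β.hom) ^ s₁) c₁ c₂ (rel_pt α₁ hα₁ h₁) (rel_pt α₂ hα₂ h₂) u
    subst e
    exact ⟨rfl, rfl, mul_left_cancel ((rel_pt α₁ hα₁ h₁ ⟨σ, hσ⟩).symm.trans (rel_pt α₁ hα₂ h₂ ⟨σ, hσ⟩))⟩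
  · exfalso
    obtain rfl : s₂ = -s₁ := by omega
    exact hnh (exists_g12_of_sign_ne hdim hσ ψ hJ hj (by omega) α₁.symm α₂.symm
      (inv_comp_struct α₁ hα₁) (inv_comp_struct α₂ hα₂)
      (fun p => (opt p ≫ j' ≫ β.inv) ^ s₁) ((c₁ ≫ β.inv) ^ (-s₁)) ((c₂ ≫ β.inv) ^ s₁)
      (rel_pt_inv α₁ hα₁ β (by rcases hs₁ with rfl | rfl <;> rfl) h₁)
      (fun p => by rw [rel_pt_inv α₂ hα₂ β (by rcases hs₁ with rfl | rfl <;> rfl) h₂, zpow_neg, neg_neg])
      ⟨σ', hσ'⟩)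

end Groth.Agent.S17815
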