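import Groth.Statements.S17819
import Groth.Agent.JacPts.Kappa

set_option autoImplicit false
universe u
set_option backward.isDefEq.respectTransparency false
set_option backward.isDefEq.respectTransparency.types false
set_option maxHeartbeats 1600000
open FunFld Groth.Agent Groth.Agent.FFCurve Groth.Agent.JacPts Groth.Agent.JacPts.WSet
open CategoryTheory CategoryTheory.Limits AlgebraicGeometry MonoidalCategory CartesianMonoidalCategory MonObj
open JacVar

namespace Groth.Agent.S17819

/-- Let k be an algebraically closed field, C a smooth proper connected curve of genus g ≥ 2 over k with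
a k-point P, (J, ψ) its Jacobian (a commutative group scheme over k, coarse moduli scheme on all
k-schemes for degree-0 line bundles modulo twisting from the base, group law induced by tensor
product) and j : C ⟶ J the Abel map with base point P. Write W^r ⊂ J for the image of the r-fold
product C ×_k ⋯ ×_k C under (x_1, …, x_r) ↦ j(x_1) ⋯ j(x_r) (the image of the r-th symmetric power;
W^0 is the origin), and W^r_a for its translate by a k-point a of J. Let κ be the k-point of J given
by ψ on the degree-0 module Ω_{C/k} ⊗ I_P^{⊗(2g−2)} (the image of a canonical divisor), and for Z ⊂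
J let Z^* be the image of Z under x ↦ κ·x⁻¹. Then for every k-point a of J one has (W^{g−1}_a)^* =
W^{g−1}_{a⁻¹} as subsets of J. -/
theorem result (k : Type u) [Field k] [IsAlgClosed k]
    (C : Scheme.{u}) [C.Over (Spec (CommRingCat.of k))]
    [IsProper (C ↘ Spec (CommRingCat.of k))] [Smooth (C ↘ Spec (CommRingCat.of k))] [GeometricallyConnected (C ↘ Spec (CommRingCat.of k))]
    (hdim : topologicalKrullDim ↥C = 1)
    (g : ℕ) (hg : Curv2.genus k C = g) (hg2 : 2 ≤ g)
    (σ : Spec (CommRingCat.of k) ⟶ C) (hσ : σ ≫ (C ↘ Spec (CommRingCat.of k)) = 𝟙 _)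
    (J : Over (Spec (CommRingCat.of k))) [GrpObj J] [IsCommMonObj J]
    (ψ : (ModFun.PicDeg (C ↘ Spec (CommRingCat.of k)) 0).Hom ⊤ J) (hJ : Jac.IsJacobian (C ↘ Spec (CommRingCat.of k)) ⊤ J ψ)
    (j : Over.mk (C ↘ Spec (CommRingCat.of k)) ⟶ J) (hj : Jac.IsAbelJacobiAt (C ↘ Spec (CommRingCat.of k)) σ ψ j)
    (Kf : (PicF.XT (C ↘ Spec (CommRingCat.of k)) (𝟙_ (Over (Spec (CommRingCat.of k))))).Modules)
    (hKf : Nonempty (Kf ≅ (Scheme.Modules.pullback (pullback.fst (C ↘ Spec (CommRingCat.of k)) (𝟙_ (Over (Spec (CommRingCat.of k)))).hom)).obj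
      (CohB1.tensorMod (Omega.sheaf (C ↘ Spec (CommRingCat.of k))) (CohB1.tensorPow (ClSub.idealMod σ.ker) (2 * g - 2)))))
    (hT₁ : (⊤ : ObjectProperty (Over (Spec (CommRingCat.of k)))) (𝟙_ (Over (Spec (CommRingCat.of k))))) (hKok : (ModFun.PicDeg (C ↘ Spec (CommRingCat.of k)) 0).ok (𝟙_ (Over (Spec (CommRingCat.of k)))) Kf)
    (κ : (𝟙_ (Over (Spec (CommRingCat.of k)))) ⟶ J) (hκ : ψ.app (𝟙_ (Over (Spec (CommRingCat.of k)))) Kf hT₁ hKok = κ)
    (a : (𝟙_ (Over (Spec (CommRingCat.of k)))) ⟶ J) :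
    (Jac.transl J κ).left.base '' (((𝟙 J)⁻¹).left.base '' ((Jac.transl J a).left.base '' Set.range ((List.ofFn fun i : Fin (g - 1) =>
        (Over.homMk (WidePullback.π (fun (_ : Fin (g - 1)) => (C ↘ Spec (CommRingCat.of k))) i)
          (WidePullback.π_arrow (fun (_ : Fin (g - 1)) => (C ↘ Spec (CommRingCat.of k))) i) : Over.mk (WidePullback.base fun (_ : Fin (g - 1)) => (C ↘ Spec (CommRingCat.of k))) ⟶ Over.mk (C ↘ Spec (CommRingCat.of k))) ≫ j).prod).left.base)) =
      ((Jac.transl J a⁻¹).left.base '' Set.range ((List.ofFn fun i : Fin (g - 1) =>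
        (Over.homMk (WidePullback.π (fun (_ : Fin (g - 1)) => (C ↘ Spec (CommRingCat.of k))) i)
          (WidePullback.π_arrow (fun (_ : Fin (g - 1)) => (C ↘ Spec (CommRingCat.of k))) i) : Over.mk (WidePullback.base fun (_ : Fin (g - 1)) => (C ↘ Spec (CommRingCat.of k))) ⟶ Over.mk (C ↘ Spec (CommRingCat.of k))) ≫ j).prod).left.base) := by
  obtain ⟨_, _⟩ := integral_reg k C hdim
  have hgK : (genus k C.functionField : ℤ) = g := by rw [← genus_eq k hdim hσ, hg]
  subst hκ
  rw [kappa_eq hdim hσ ψ g hg (by omega) hKf hT₁ hKok]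
  have hW := isCanonical_omega (X := C) k hdim
  set W := divOf k hdim (isInvertible_omega (X := C) k hdim) with hWdef
  have hdW : W.deg = 2 * (g : ℤ) - 2 := by
    rw [FF.deg_canonical (isFF' k hdim) hW, hgK]
  obtain ⟨A, hA, rfl⟩ := exists_cls hdim hσ ψ hJ a
  rw [image_transl, image_transl, image_range, image_transl]
  show Set.range (((sym j (g - 1) ≫ Jac.transl J (cls hdim hσ ψ A)) ≫ (𝟙 J)⁻¹) ≫ Jac.transl J (cls hdim hσ ψ W)).left.base =
    Set.range (sym j (g - 1) ≫ Jac.transl J (cls hdim hσ ψ A)⁻¹).left.base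
  have hL : ∀ x : 𝟙_ (Over (Spec (CommRingCat.of k))) ⟶ pow k C (g - 1),
      x ≫ ((sym j (g - 1) ≫ Jac.transl J (cls hdim hσ ψ A)) ≫ (𝟙 J)⁻¹) ≫ Jac.transl J (cls hdim hσ ψ W) =
        cls hdim hσ ψ (W - psum k hdim (comps x) - A) := fun x => by
    simp only [← Category.assoc]
    rw [comp_sym hdim hσ ψ hJ hj, pt_comp_transl, pt_comp_inv, pt_comp_transl, ← cls_add hdim hσ ψ hJ,
      ← cls_neg hdim hσ ψ hJ, ← cls_add hdim hσ ψ hJ]
    exact congrArg _ (by abel)
  have hres : ∀ P : Fin (g - 1) → RPt k C, 0 < ell (W - psum k hdim P) := fun P =>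
    (ell_residual_pos k hdim hW (by rw [deg_psum, hgK]; omega)).2
      (ell_pos_of_nonneg k hdim (psum_nonneg k hdim P))
  refine Set.Subset.antisymm ?_ ?_
  · refine range_subset _ (isClosed_range' _) fun x => ?_
    rw [hL, ← cls_neg hdim hσ ψ hJ, mem_range_transl_cls_iff hdim hσ ψ hJ hj,
      show W - psum k hdim (comps x) - A - -A = W - psum k hdim (comps x) from by abel]
    · exact hres _
    · rw [FF.deg_sub, FF.deg_sub, FF.deg_neg, deg_psum, hdW, hA]; omega
  · refine range_subset _ (isClosed_range' _) fun x => ?_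
    rw [← Category.assoc, comp_sym hdim hσ ψ hJ hj, pt_comp_transl]
    obtain ⟨P, hP⟩ := exists_psum_divEq k hdim (n := g - 1) (D := W - psum k hdim (comps x))
      (by rw [FF.deg_sub, deg_psum, hdW]; omega) (hres _)
    refine ⟨im (tuple P), ?_⟩
    rw [← im_comp, hL, comps_tuple, ← cls_neg hdim hσ ψ hJ, ← cls_add hdim hσ ψ hJ]
    refine congrArg im (cls_congr' hdim hσ ψ ?_)
    obtain ⟨z, hz, hz'⟩ := hP
    refine DivEq.symm' k hdim ⟨z, hz, ?_⟩
    rw [hz']
    abel

end Groth.Agent.S17819
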