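import Groth.Statements.S17822
import Groth.Agent.JacPts.Kappa

set_option autoImplicit false
universe u
set_option backward.isDefEq.respectTransparency false
set_option backward.isDefEq.respectTransparency.types false
set_option maxHeartbeats 1600000
open FunFld Groth.Agent Groth.Agent.FFCurve Groth.Agent.JacPts Groth.Agent.JacPts.WSet
open CategoryTheory CategoryTheory.Limits AlgebraicGeometry MonoidalCategory CartesianMonoidalCategory MonObj
open JacVar

namespace Groth.Agent.S17822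

/-- Let k be an algebraically closed field, C a smooth proper connected curve of genus g ≥ 2 over k with
a k-point P, (J, ψ) its Jacobian (a commutative group scheme over k, coarse moduli scheme on all
k-schemes for degree-0 line bundles modulo twisting from the base, group law induced by tensor
product) and j : C ⟶ J the Abel map with base point P. Write W^r ⊂ J for the image of the r-fold
product C ×_k ⋯ ×_k C under (x_1, …, x_r) ↦ j(x_1) ⋯ j(x_r) (the image of the r-th symmetric power;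
W^0 is the origin), and W^r_a for its translate by a k-point a of J. Let κ be the k-point of J given
by ψ on Ω_{C/k} ⊗ I_P^{⊗(2g−2)} and Z^* the image of Z ⊂ J under x ↦ κ·x⁻¹. Let 0 ≤ r ≤ g − 2 and
let a, b, x, y be k-points of J with x in W^1, y in W^{g−1−r} and a·x = b·y. If W^{r+1}_a is not
contained in W^{g−1}_b, then W^{r+1}_a ∩ W^{g−1}_b = W^r_{a·x} ∪ (W^{r+1}_a ∩ (W^{g−2}_{y·a⁻¹})^*)
as subsets of J. -/
theorem result (k : Type u) [Field k] [IsAlgClosed k]
    (C : Scheme.{u}) [C.Over (Spec (CommRingCat.of k))]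
    [IsProper (C ↘ Spec (CommRingCat.of k))] [Smooth (C ↘ Spec (CommRingCat.of k))] [GeometricallyConnected (C ↘ Spec (CommRingCat.of k))]
    (hdim : topologicalKrullDim ↥C = 1)
    (g : ℕ) (hg : Curv2.genus k C = g) (hg2 : 2 ≤ g)
    (σ : Spec (CommRingCat.of k) ⟶ C) (hσ : σ ≫ (C ↘ Spec (CommRingCat.of k)) = 𝟙 _)
    (J : Over (Spec (CommRingCat.of k))) [GrpObj J] [IsCommMonObj J]
    (ψ : (ModFun.PicDeg (C ↘ Spec (CommRingCat.of k)) 0).Hom ⊤ J) (hJ : Jac.IsJacobian (C ↘ Spec (CommRingCat.of k)) ⊤ J ψ)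
    (j : Over.mk (C ↘ Spec (CommRingCat.of k)) ⟶ J) (hj : Jac.IsAbelJacobiAt (C ↘ Spec (CommRingCat.of k)) σ ψ j)
    (Kf : (PicF.XT (C ↘ Spec (CommRingCat.of k)) (𝟙_ (Over (Spec (CommRingCat.of k))))).Modules)
    (hKf : Nonempty (Kf ≅ (Scheme.Modules.pullback (pullback.fst (C ↘ Spec (CommRingCat.of k)) (𝟙_ (Over (Spec (CommRingCat.of k)))).hom)).obj
      (CohB1.tensorMod (Omega.sheaf (C ↘ Spec (CommRingCat.of k))) (CohB1.tensorPow (ClSub.idealMod σ.ker) (2 * g - 2)))))
    (hT₁ : (⊤ : ObjectProperty (Over (Spec (CommRingCat.of k)))) (𝟙_ (Over (Spec (CommRingCat.of k))))) (hKok : (ModFun.PicDeg (C ↘ Spec (CommRingCat.of k)) 0).ok (𝟙_ (Over (Spec (CommRingCat.of k)))) Kf)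
    (κ : (𝟙_ (Over (Spec (CommRingCat.of k)))) ⟶ J) (hκ : ψ.app (𝟙_ (Over (Spec (CommRingCat.of k)))) Kf hT₁ hKok = κ)
    (r : ℕ) (hr : r ≤ g - 2) (a b x y : (𝟙_ (Over (Spec (CommRingCat.of k)))) ⟶ J)
    (hx : ∀ p, x.left.base p ∈ Set.range ((List.ofFn fun i : Fin 1 =>
        (Over.homMk (WidePullback.π (fun (_ : Fin 1) => (C ↘ Spec (CommRingCat.of k))) i)
          (WidePullback.π_arrow (fun (_ : Fin 1) => (C ↘ Spec (CommRingCat.of k))) i) : Over.mk (WidePullback.base fun (_ : Fin 1) => (C ↘ Spec (CommRingCat.of k))) ⟶ Over.mk (C ↘ Spec (CommRingCat.of k))) ≫ j).prod).left.base)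
    (hy : ∀ p, y.left.base p ∈ Set.range ((List.ofFn fun i : Fin (g - 1 - r) =>
        (Over.homMk (WidePullback.π (fun (_ : Fin (g - 1 - r)) => (C ↘ Spec (CommRingCat.of k))) i)
          (WidePullback.π_arrow (fun (_ : Fin (g - 1 - r)) => (C ↘ Spec (CommRingCat.of k))) i) : Over.mk (WidePullback.base fun (_ : Fin (g - 1 - r)) => (C ↘ Spec (CommRingCat.of k))) ⟶ Over.mk (C ↘ Spec (CommRingCat.of k))) ≫ j).prod).left.base)
    (hab : a * x = b * y)
    (hnot : ¬ (((Jac.transl J a).left.base '' Set.range ((List.ofFn fun i : Fin (r + 1) =>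
        (Over.homMk (WidePullback.π (fun (_ : Fin (r + 1)) => (C ↘ Spec (CommRingCat.of k))) i)
          (WidePullback.π_arrow (fun (_ : Fin (r + 1)) => (C ↘ Spec (CommRingCat.of k))) i) : Over.mk (WidePullback.base fun (_ : Fin (r + 1)) => (C ↘ Spec (CommRingCat.of k))) ⟶ Over.mk (C ↘ Spec (CommRingCat.of k))) ≫ j).prod).left.base) ⊆ ((Jac.transl J b).left.base '' Set.range ((List.ofFn fun i : Fin (g - 1) =>
        (Over.homMk (WidePullback.π (fun (_ : Fin (g - 1)) => (C ↘ Spec (CommRingCat.of k))) i)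
          (WidePullback.π_arrow (fun (_ : Fin (g - 1)) => (C ↘ Spec (CommRingCat.of k))) i) : Over.mk (WidePullback.base fun (_ : Fin (g - 1)) => (C ↘ Spec (CommRingCat.of k))) ⟶ Over.mk (C ↘ Spec (CommRingCat.of k))) ≫ j).prod).left.base))) :
    ((Jac.transl J a).left.base '' Set.range ((List.ofFn fun i : Fin (r + 1) =>
        (Over.homMk (WidePullback.π (fun (_ : Fin (r + 1)) => (C ↘ Spec (CommRingCat.of k))) i)
          (WidePullback.π_arrow (fun (_ : Fin (r + 1)) => (C ↘ Spec (CommRingCat.of k))) i) : Over.mk (WidePullback.base fun (_ : Fin (r + 1)) => (C ↘ Spec (CommRingCat.of k))) ⟶ Over.mk (C ↘ Spec (CommRingCat.of k))) ≫ j).prod).left.base) ∩ ((Jac.transl J b).left.base '' Set.range ((List.ofFn fun i : Fin (g - 1) =>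
        (Over.homMk (WidePullback.π (fun (_ : Fin (g - 1)) => (C ↘ Spec (CommRingCat.of k))) i)
          (WidePullback.π_arrow (fun (_ : Fin (g - 1)) => (C ↘ Spec (CommRingCat.of k))) i) : Over.mk (WidePullback.base fun (_ : Fin (g - 1)) => (C ↘ Spec (CommRingCat.of k))) ⟶ Over.mk (C ↘ Spec (CommRingCat.of k))) ≫ j).prod).left.base) =
      ((Jac.transl J (a * x)).left.base '' Set.range ((List.ofFn fun i : Fin r =>
        (Over.homMk (WidePullback.π (fun (_ : Fin r) => (C ↘ Spec (CommRingCat.of k))) i)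
          (WidePullback.π_arrow (fun (_ : Fin r) => (C ↘ Spec (CommRingCat.of k))) i) : Over.mk (WidePullback.base fun (_ : Fin r) => (C ↘ Spec (CommRingCat.of k))) ⟶ Over.mk (C ↘ Spec (CommRingCat.of k))) ≫ j).prod).left.base) ∪
      (((Jac.transl J a).left.base '' Set.range ((List.ofFn fun i : Fin (r + 1) =>
        (Over.homMk (WidePullback.π (fun (_ : Fin (r + 1)) => (C ↘ Spec (CommRingCat.of k))) i)
          (WidePullback.π_arrow (fun (_ : Fin (r + 1)) => (C ↘ Spec (CommRingCat.of k))) i) : Over.mk (WidePullback.base fun (_ : Fin (r + 1)) => (C ↘ Spec (CommRingCat.of k))) ⟶ Over.mk (C ↘ Spec (CommRingCat.of k))) ≫ j).prod).left.base) ∩ ((Jac.transl J κ).left.base '' (((𝟙 J)⁻¹).left.base '' ((Jac.transl J (y * a⁻¹)).left.base '' Set.range ((List.ofFn fun i : Fin (g - 2) =>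
        (Over.homMk (WidePullback.π (fun (_ : Fin (g - 2)) => (C ↘ Spec (CommRingCat.of k))) i)
          (WidePullback.π_arrow (fun (_ : Fin (g - 2)) => (C ↘ Spec (CommRingCat.of k))) i) : Over.mk (WidePullback.base fun (_ : Fin (g - 2)) => (C ↘ Spec (CommRingCat.of k))) ⟶ Over.mk (C ↘ Spec (CommRingCat.of k))) ≫ j).prod).left.base)))) := by
  obtain ⟨_, _⟩ := integral_reg k C hdim
  have hgK : (genus k C.functionField : ℤ) = g := by rw [← genus_eq k hdim hσ, hg]
  subst hκ
  rw [kappa_eq hdim hσ ψ g hg (by omega) hKf hT₁ hKok]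
  have hW := isCanonical_omega (X := C) k hdim
  set W := divOf k hdim (isInvertible_omega (X := C) k hdim) with hWdef
  have hdW : W.deg = 2 * (g : ℤ) - 2 := by
    rw [FF.deg_canonical (isFF' k hdim) hW, hgK]
  obtain ⟨A, hA, rfl⟩ := exists_cls hdim hσ ψ hJ a
  obtain ⟨X₁, rfl⟩ := (mem_range_iff hdim hσ ψ hJ hj x).1 ((forall_base_iff x _).1 hx)
  obtain ⟨Y₁, rfl⟩ := (mem_range_iff hdim hσ ψ hJ hj y).1 ((forall_base_iff y _).1 hy)
  set Q := plc k hdim (X₁ 0).2 with hQ
  have hX : psum k hdim X₁ = Finsupp.single Q 1 := Fin.sum_univ_one _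
  set Y := psum k hdim Y₁ with hY
  have hdY : Y.deg = ((g - 1 - r : ℕ) : ℤ) := deg_psum k hdim _
  have hdQ : FunFld.Divisor.deg (Finsupp.single Q (1 : ℤ)) = 1 := by rw [← hX, deg_psum]; rfl
  rw [hX] at hab ⊢
  have hb : b = cls hdim hσ ψ (A + Finsupp.single Q 1 - Y) := by
    rw [cls_sub hdim hσ ψ hJ, cls_add hdim hσ ψ hJ, hab, mul_inv_cancel_right]
  subst hb
  have hW2 : ∀ D : Divisor k C.functionField, D.deg = (r : ℤ) + 1 →
      (im (cls hdim hσ ψ (D + A)) ∈
        Set.range (sym j (g - 1) ≫ Jac.transl J (cls hdim hσ ψ (A + Finsupp.single Q 1 - Y))).left.base ↔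
        0 < ell (Y + D - Finsupp.single Q 1)) := fun D hD => by
    rw [mem_range_transl_cls_iff hdim hσ ψ hJ hj]
    · exact iff_of_eq (congrArg (fun D => 0 < ell D) (by abel))
    · rw [FF.deg_add, FF.deg_sub, FF.deg_add, hD, hdY, hA, hdQ]; omega
  have h4 : ∀ x : 𝟙_ (Over (Spec (CommRingCat.of k))) ⟶ pow k C (g - 2),
      x ≫ ((sym j (g - 2) ≫ Jac.transl J (cls hdim hσ ψ Y * (cls hdim hσ ψ A)⁻¹)) ≫ (𝟙 J)⁻¹) ≫
        Jac.transl J (cls hdim hσ ψ W) = cls hdim hσ ψ (W - psum k hdim (comps x) - Y + A) := fun x => by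
    simp only [← Category.assoc]
    rw [comp_sym hdim hσ ψ hJ hj, pt_comp_transl, pt_comp_inv, pt_comp_transl, ← cls_sub hdim hσ ψ hJ,
      ← cls_add hdim hσ ψ hJ, ← cls_neg hdim hσ ψ hJ, ← cls_add hdim hσ ψ hJ]
    exact congrArg _ (by abel)
  rw [image_transl, image_transl] at hnot
  rw [← cls_add hdim hσ ψ hJ, image_transl, image_transl, image_transl, image_transl, image_range, image_transl]
  set W1 := Set.range (sym j (r + 1) ≫ Jac.transl J (cls hdim hσ ψ A)).left.base
  set W2 := Set.range (sym j (g - 1) ≫ Jac.transl J (cls hdim hσ ψ (A + Finsupp.single Q 1 - Y))).left.base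
  set W3 := Set.range (sym j r ≫ Jac.transl J (cls hdim hσ ψ (A + Finsupp.single Q 1))).left.base
  set W4 := Set.range (((sym j (g - 2) ≫ Jac.transl J (cls hdim hσ ψ Y * (cls hdim hσ ψ A)⁻¹)) ≫ (𝟙 J)⁻¹) ≫
    Jac.transl J (cls hdim hσ ψ W)).left.base
  change W1 ∩ W2 = W3 ∪ (W1 ∩ W4)
  change ¬ W1 ⊆ W2 at hnot
  have hc1 : IsClosed W1 := isClosed_range' _
  have hc2 : IsClosed W2 := isClosed_range' _
  have hc3 : IsClosed W3 := isClosed_range' _
  have hc4 : IsClosed W4 := isClosed_range' _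
  have hx1 : ∀ x : 𝟙_ (Over (Spec (CommRingCat.of k))) ⟶ pow k C (r + 1),
      x ≫ sym j (r + 1) ≫ Jac.transl J (cls hdim hσ ψ A) = cls hdim hσ ψ (psum k hdim (comps x) + A) := fun x => by
    rw [← Category.assoc, comp_sym hdim hσ ψ hJ hj, pt_comp_transl, ← cls_add hdim hσ ψ hJ]
  have hd1 : ∀ x : 𝟙_ (Over (Spec (CommRingCat.of k))) ⟶ pow k C (r + 1),
      (psum k hdim (comps x)).deg = (r : ℤ) + 1 := fun x => by rw [deg_psum]; push_cast; rfl
  refine Set.Subset.antisymm ?_ (Set.union_subset ?_ ?_)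
  · rw [Set.inter_comm]
    refine inter_range_subset _ hc2 (hc3.union (hc1.inter hc4)) fun x hx => ?_
    have hxW1 : im (x ≫ sym j (r + 1) ≫ Jac.transl J (cls hdim hσ ψ A)) ∈ W1 := ⟨_, rfl⟩
    rw [hx1] at hx hxW1 ⊢
    have hpos := (hW2 _ (hd1 x)).1 hx
    by_cases hmove : 2 ≤ ell (Y + psum k hdim (comps x))
    · have hl := (ell_residual_pos' k hdim hW (by rw [FF.deg_add, hdY, hd1, hgK]; omega)).2 hmove
      obtain ⟨R, hR⟩ := exists_psum_divEq k hdim (n := g - 2)
        (by rw [FF.deg_sub, FF.deg_add, hdY, hd1, hdW]; omega) hl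
      refine Or.inr ⟨hxW1, im (tuple R), ?_⟩
      rw [← im_comp, h4, comps_tuple]
      refine congrArg im (cls_congr' hdim hσ ψ ?_)
      obtain ⟨z, hz, hz'⟩ := hR
      refine DivEq.symm' k hdim ⟨z, hz, ?_⟩
      rw [hz']
      abel
    · rcases sub_nonneg_or k hdim (A := psum k hdim (comps x)) (Y := Y) (psum_nonneg k hdim _) (psum_nonneg k hdim _) Q (by omega) hpos with h | h
      · left
        refine (mem_range_transl_cls_iff hdim hσ ψ hJ hj _ _ ?_).2 ?_
        · rw [FF.deg_add, FF.deg_add, hd1, hA, hdQ]; omega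
        · rw [show psum k hdim (comps x) + A - (A + Finsupp.single Q 1) = psum k hdim (comps x) - Finsupp.single Q 1
            from by abel]
          exact ell_pos_of_nonneg k hdim h
      · refine absurd (range_subset _ hc2 fun x' => ?_) hnot
        rw [hx1]
        refine (hW2 _ (hd1 x')).2 (ell_pos_of_nonneg k hdim ?_)
        rw [add_sub_right_comm]
        exact add_nonneg h (psum_nonneg k hdim _)
  · refine range_subset _ (hc1.inter hc2) fun x' => ?_
    rw [← Category.assoc, comp_sym hdim hσ ψ hJ hj, pt_comp_transl, ← cls_add hdim hσ ψ hJ,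
      show psum k hdim (comps x') + (A + Finsupp.single Q 1) = psum k hdim (comps x') + Finsupp.single Q 1 + A from by abel]
    have hd : (psum k hdim (comps x') + Finsupp.single Q 1).deg = (r : ℤ) + 1 := by
      rw [FF.deg_add, deg_psum, hdQ]
    have hnn : 0 ≤ psum k hdim (comps x') := psum_nonneg k hdim _
    refine ⟨(mem_range_transl_cls_iff hdim hσ ψ hJ hj _ _ ?_).2 ?_, (hW2 _ hd).2 ?_⟩
    · rw [FF.deg_add, hd, hA]; push_cast; omega
    · rw [add_sub_cancel_right]
      exact ell_pos_of_nonneg k hdim (add_nonneg hnn (Finsupp.single_nonneg.2 zero_le_one))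
    · rw [show Y + (psum k hdim (comps x') + Finsupp.single Q 1) - Finsupp.single Q 1 = Y + psum k hdim (comps x') from by abel]
      exact ell_pos_of_nonneg k hdim (add_nonneg (psum_nonneg k hdim _) hnn)
  · refine Set.subset_inter Set.inter_subset_left ?_
    rw [Set.inter_comm]
    refine inter_range_subset _ hc4 hc2 fun x hx => ?_
    rw [hx1] at hx ⊢
    obtain ⟨x', hx'⟩ := exists_pt_of_mem _ hx
    rw [h4] at hx'
    refine (hW2 _ (hd1 x)).2 ?_
    have he := divEq_of_cls_eq' hdim hσ ψ hJ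
      (by rw [FF.deg_add, FF.deg_sub, FF.deg_sub, FF.deg_add, deg_psum, hdY, hdW, hA, hd1]; omega) hx'
    have he' : 0 < ell (W - (Y + psum k hdim (comps x))) := by
      refine ell_pos_of_divEq_psum k hdim (comps x') ?_
      obtain ⟨z, hz, hz'⟩ := he
      refine DivEq.symm' k hdim ⟨z, hz, ?_⟩
      rw [eq_comm, ← sub_eq_zero] at hz'
      rw [← sub_eq_zero]
      refine Eq.trans ?_ (neg_eq_zero.2 hz')
      abel
    have h2 := (ell_residual_pos' k hdim hW (by rw [FF.deg_add, hdY, hd1, hgK]; omega)).1 he'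
    have h3 := (FF.ell_sub_single_le (isFF' k hdim) (Y + psum k hdim (comps x)) Q).2
    rw [FF.deg_eq_one (isFF' k hdim) Q] at h3
    omega

end Groth.Agent.S17822
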