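import Groth.Statements.S17824
import Groth.Agent.JacPts.Pair
-- import your own Groth.Agent.* helpers here

set_option autoImplicit false
universe u
open CategoryTheory CategoryTheory.Limits AlgebraicGeometry
open JacVar

namespace Groth.Agent.S17824

/-- Parts (a) and (b) over an algebraically closed field. Let C be a smooth proper connected curve of
genus g > 0 over an algebraically closed field k with a k-point P, and consider the 2g-fold fibre
power C ×_k ⋯ ×_k C, a k-rational point of which is a pair (D, D') of g-tuples of k-points (the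
first g and the last g coordinates). (a) There is a nonempty open subset U of it such that for every
k-rational point (P_1, …, P_{2g}) of U and every invertible module M with M ⊗ I_{P_1} ⊗ ⋯ ⊗
I_{P_{2g}} ≅ I_P^{⊗g}, i.e. M ≅ O(D + D' − gP), one has h⁰(C, M) = 1. (b) There is a nonempty open
subset V such that for every k-rational point of V and every invertible M with M ⊗ I_{P_{g+1}} ⊗ ⋯ ⊗
I_{P_{2g}} ⊗ I_P^{⊗g} ≅ I_{P_1} ⊗ ⋯ ⊗ I_{P_g}, i.e. M ≅ O(D' − D + gP), one has h⁰(C, M) = 1. (The
published lemma is phrased on C^(g) × C^(g), over the ground field, and for points with values in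
every field containing it; this row takes k algebraically closed and k-points of the 2g-fold fibre
power.) -/
theorem result (k : Type u) [Field k] [IsAlgClosed k]
    (C : Scheme.{u}) [C.Over (Spec (CommRingCat.of k))]
    [IsProper (C ↘ Spec (CommRingCat.of k))] [Smooth (C ↘ Spec (CommRingCat.of k))] [GeometricallyConnected (C ↘ Spec (CommRingCat.of k))]
    (hdim : topologicalKrullDim ↥C = 1)
    (g : ℕ) (hg : Curv2.genus k C = g) (hg1 : 1 ≤ g)
    (σ : Spec (CommRingCat.of k) ⟶ C) (hσ : σ ≫ (C ↘ Spec (CommRingCat.of k)) = 𝟙 _) :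
    (∃ U : (SymProd.fibPow (C ↘ Spec (CommRingCat.of k)) (2 * g)).Opens, (U : Set ↥(SymProd.fibPow (C ↘ Spec (CommRingCat.of k)) (2 * g))).Nonempty ∧
      ∀ (x : Spec (CommRingCat.of k) ⟶ SymProd.fibPow (C ↘ Spec (CommRingCat.of k)) (2 * g))
        (hx : x ≫ WidePullback.base (fun (_ : Fin (2 * g)) => (C ↘ Spec (CommRingCat.of k))) = 𝟙 _)
        (hxU : ∀ p, x.base p ∈ U) (M : C.Modules) (hM : PicF.IsInvertible M)
        (hMD : Nonempty (CohB1.tensorMod M (FGA.tensorList (List.ofFn fun i : Fin (2 * g) => ClSub.idealMod (x ≫ WidePullback.π (fun (_ : Fin (2 * g)) => (C ↘ Spec (CommRingCat.of k))) i).ker)) ≅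
          CohB1.tensorPow (ClSub.idealMod σ.ker) g)),
        Module.finrank k (Coh.HH C M 0) = 1) ∧
    (∃ V : (SymProd.fibPow (C ↘ Spec (CommRingCat.of k)) (2 * g)).Opens, (V : Set ↥(SymProd.fibPow (C ↘ Spec (CommRingCat.of k)) (2 * g))).Nonempty ∧
      ∀ (x : Spec (CommRingCat.of k) ⟶ SymProd.fibPow (C ↘ Spec (CommRingCat.of k)) (2 * g))
        (hx : x ≫ WidePullback.base (fun (_ : Fin (2 * g)) => (C ↘ Spec (CommRingCat.of k))) = 𝟙 _)
        (hxV : ∀ p, x.base p ∈ V) (M : C.Modules) (hM : PicF.IsInvertible M)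
        (hMD : Nonempty (CohB1.tensorMod M (CohB1.tensorMod
            (FGA.tensorList (List.ofFn fun i : Fin g => ClSub.idealMod (x ≫ WidePullback.π (fun (_ : Fin (2 * g)) => (C ↘ Spec (CommRingCat.of k))) (Fin.cast (two_mul g).symm (Fin.natAdd g i))).ker))
            (CohB1.tensorPow (ClSub.idealMod σ.ker) g)) ≅
          FGA.tensorList (List.ofFn fun i : Fin g => ClSub.idealMod (x ≫ WidePullback.π (fun (_ : Fin (2 * g)) => (C ↘ Spec (CommRingCat.of k))) (Fin.cast (two_mul g).symm (Fin.castAdd g i))).ker))),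
        Module.finrank k (Coh.HH C M 0) = 1) := by
  classical
  obtain ⟨_, _⟩ := JacPts.integral_reg k C hdim
  have hK := JacPts.isFunctionField k hdim hσ
  rw [JacPts.genus_eq k hdim hσ] at hg
  obtain ⟨W, hW⟩ := FF.exists_canonical hK
  have hWl := FF.ell_canonical hK hW
  have hWd : FunFld.Divisor.deg W = 2 * (g : ℤ) - 2 := by
    have h3 := FF.riemann_roch hK hW W
    rw [sub_self, FF.ell_zero hK] at h3
    omega
  set P0 : FunFld.Divisor k C.functionField := Finsupp.single (JacPts.plc k hdim hσ) (1 : ℤ) with hP0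
  have hP0d : FunFld.Divisor.deg P0 = 1 := by
    rw [hP0, FF.deg_single, JacPts.deg_plc k hdim hσ]; norm_num
  have hgP : FunFld.Divisor.deg (g • P0) = g := by
    rw [hP0, Finsupp.smul_single, FF.deg_single, JacPts.deg_plc k hdim hσ]; simp
  have hpow := FFCurve.divEq_tensorPow k hdim (JacPts.isInvertible_ker k hdim hσ) (JacPts.divEq_ker k hdim hσ) g
  rw [smul_neg, ← hP0] at hpow
  have hIg : PicF.IsInvertible (CohB1.tensorPow (ClSub.idealMod σ.ker) g) :=
    AmpleLib.isInvertible_tensorPow (JacPts.isInvertible_ker k hdim hσ) g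
  constructor
  · set Dv := W + g • P0 with hDv
    have hDd : FunFld.Divisor.deg Dv = 3 * (g : ℤ) - 2 := by rw [hDv, FF.deg_add, hWd, hgP]; ring
    have hDl : FunFld.ell Dv = 2 * g - 1 := by
      have h := FF.ell_eq_of_deg_ge hK (D := Dv) (by omega)
      omega
    obtain ⟨U, hUne, hU⟩ := JacPts.exists_open k hdim σ hσ Dv (n := 2 * g) (m := 2 * g - 1) (by omega)
      (Fin.castLE (by omega)) (Fin.castLE_injective _)
    refine ⟨U, hUne, fun x hx hxU M hM hMD => ?_⟩
    obtain ⟨e⟩ := hMD
    have hq : ∀ i, (x ≫ WidePullback.π (fun (_ : Fin (2 * g)) => (C ↘ Spec (CommRingCat.of k))) i) ≫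
        (C ↘ Spec (CommRingCat.of k)) = 𝟙 _ := fun i => by
      rw [Category.assoc, WidePullback.π_arrow]; exact hx
    have hU' := hU x hxU hq
    obtain ⟨hI, eI⟩ := JacPts.divEq_tensorList k hdim _ hq
    have hdiv := JacPts.divEq_of_tensor_iso k hdim hM hI hIg e eI hpow
    set E := ∑ i, Finsupp.single (JacPts.plc k hdim (hq i)) (1 : ℤ) with hE
    rw [FFCurve.finrank_zero k hdim hK hM, FFCurve.DivEq.ell_eq k hdim hdiv]
    have hEd : FunFld.Divisor.deg E = ((2 * g : ℕ) : ℤ) := by
      rw [hE, JacPts.deg_sum_plc k hdim Finset.univ _ hq]; simp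
    have hrr := FF.riemann_roch hK hW (-(g • P0) - -E)
    rw [show W - (-(g • P0) - -E) = Dv - E by rw [hDv]; abel, FF.deg_sub, FF.deg_neg, FF.deg_neg, hgP, hEd] at hrr
    omega
  · have hc : Function.Injective (Sum.elim (fun i : Fin g => Fin.cast (two_mul g).symm (Fin.castAdd g i))
        (fun i : Fin g => Fin.cast (two_mul g).symm (Fin.natAdd g i))) := by
      rintro (i | i) (j | j) h <;> simp only [Sum.elim_inl, Sum.elim_inr, Fin.ext_iff, Fin.val_cast,
        Fin.val_castAdd, Fin.val_natAdd] at h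
      · exact congrArg Sum.inl (Fin.ext h)
      · omega
      · omega
      · exact congrArg Sum.inr (Fin.ext (by omega))
    obtain ⟨V, hVne, hV⟩ := JacPts.exists_open_diff k hdim σ hσ g hg.symm.symm hg1 (W - g • P0)
      (by rw [FF.deg_sub, hWd, hgP]; ring) _ _ hc
    refine ⟨V, hVne, fun x hx hxV M hM hMD => ?_⟩
    obtain ⟨e⟩ := hMD
    have hq : ∀ i, (x ≫ WidePullback.π (fun (_ : Fin (2 * g)) => (C ↘ Spec (CommRingCat.of k))) i) ≫
        (C ↘ Spec (CommRingCat.of k)) = 𝟙 _ := fun i => by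
      rw [Category.assoc, WidePullback.π_arrow]; exact hx
    have hV' := hV x hxV hq
    obtain ⟨hI, eI⟩ := JacPts.divEq_tensorList k hdim _
      (fun i : Fin g => hq (Fin.cast (two_mul g).symm (Fin.natAdd g i)))
    obtain ⟨hJ, eJ⟩ := JacPts.divEq_tensorList k hdim _
      (fun i : Fin g => hq (Fin.cast (two_mul g).symm (Fin.castAdd g i)))
    have hIJ := AmpleLib.isInvertible_tensorMod hI hIg
    have eN := FFCurve.DivEq.trans' k hdim (FFCurve.divEq_tensor k hdim hI hIg)
      (FFCurve.DivEq.add' k hdim eI hpow)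
    have hdiv := JacPts.divEq_of_tensor_iso k hdim hM hIJ hJ e eN eJ
    set E := ∑ i : Fin g, Finsupp.single (JacPts.plc k hdim (hq (Fin.cast (two_mul g).symm (Fin.castAdd g i)))) (1 : ℤ) with hE
    set E' := ∑ i : Fin g, Finsupp.single (JacPts.plc k hdim (hq (Fin.cast (two_mul g).symm (Fin.natAdd g i)))) (1 : ℤ) with hE'
    rw [FFCurve.finrank_zero k hdim hK hM, FFCurve.DivEq.ell_eq k hdim hdiv]
    have hEd : FunFld.Divisor.deg E = (g : ℤ) := by
      rw [hE, JacPts.deg_sum_plc k hdim Finset.univ _ (fun i : Fin g => hq (Fin.cast (two_mul g).symm (Fin.castAdd g i)))]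
      simp
    have hEd' : FunFld.Divisor.deg E' = (g : ℤ) := by
      rw [hE', JacPts.deg_sum_plc k hdim Finset.univ _ (fun i : Fin g => hq (Fin.cast (two_mul g).symm (Fin.natAdd g i)))]
      simp
    have hrr := FF.riemann_roch hK hW (-E - (-E' + -(g • P0)))
    rw [show W - (-E - (-E' + -(g • P0))) = W - g • P0 + E - E' by abel, hV', FF.deg_sub, FF.deg_add, FF.deg_neg,
      FF.deg_neg, FF.deg_neg, hgP, hEd, hEd'] at hrr
    omega

end Groth.Agent.S17824
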