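import Groth.Statements.S17825
import Mathlib.AlgebraicGeometry.Morphisms.Separated
import Mathlib.AlgebraicGeometry.Morphisms.ClosedImmersion

set_option autoImplicit false
universe u
open CategoryTheory CategoryTheory.Limits AlgebraicGeometry
open JacVar

namespace Groth.Agent.S17825

/-- Let S be a scheme, Y an S-scheme separated over S, F a presheaf of sets on the category of
S-schemes, f : h_Y ⟶ F a morphism from the functor of points of Y, and s : F ⟶ h_Y a section of f (s
followed by f is the identity). Then F is represented by a closed subscheme of Y: there are an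
S-scheme Z, a morphism i : Z ⟶ Y over S which is a closed immersion, and an isomorphism F ≅ h_Z
whose composite with h_i : h_Z ⟶ h_Y is s. (The published lemma treats the case where Y is the r-th
symmetric power of a curve, F the functor of degree-r invertible families modulo twisting and f the
divisor-class map.) -/
theorem result {S : Scheme.{u}} (Y : Over S) [IsSeparated Y.hom]
    (F : (Over S)ᵒᵖ ⥤ Type u) (f : yoneda.obj Y ⟶ F) (s : F ⟶ yoneda.obj Y) (hsf : s ≫ f = 𝟙 F) :
    ∃ (Z : Over S) (i : Z ⟶ Y), IsClosedImmersion i.left ∧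
      ∃ e : F ≅ yoneda.obj Z, e.hom ≫ yoneda.map i = s := by
  have hyo : ∀ (p : F ⟶ F), p = 𝟙 F → ∀ T (x : F.obj T), p.app T x = x := by
    rintro p rfl T x
    rfl
  have hfs : ∀ T (x : F.obj T), f.app T (s.app T x) = x := fun T x => hyo (s ≫ f) hsf T x
  -- the idempotent endomorphism of `Y`
  let p : Y ⟶ Y := s.app _ (f.app (Opposite.op Y) (𝟙 Y))
  have hp : ∀ (T : Over S) (y : T ⟶ Y), s.app (Opposite.op T) (f.app (Opposite.op T) y) = y ≫ p := by
    intro T y
    have h1 := NatTrans.naturality_apply (f ≫ s) y.op (𝟙 Y)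
    simpa [p] using h1
  let g : Y.left ⟶ Limits.pullback Y.hom Y.hom :=
    Limits.pullback.lift (𝟙 _) p.left (by simp)
  have hgf : g ≫ Limits.pullback.fst Y.hom Y.hom = 𝟙 _ := Limits.pullback.lift_fst _ _ _
  have hgs : g ≫ Limits.pullback.snd Y.hom Y.hom = p.left := Limits.pullback.lift_snd _ _ _
  have hdf : Limits.pullback.diagonal Y.hom ≫ Limits.pullback.fst Y.hom Y.hom = 𝟙 _ :=
    Limits.pullback.lift_fst _ _ _
  have hds : Limits.pullback.diagonal Y.hom ≫ Limits.pullback.snd Y.hom Y.hom = 𝟙 _ :=
    Limits.pullback.lift_snd _ _ _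
  clear_value g
  let Z : Over S := Over.mk (Limits.pullback.snd (Limits.pullback.diagonal Y.hom) g ≫ Y.hom)
  let i : Z ⟶ Y := Over.homMk (Limits.pullback.snd (Limits.pullback.diagonal Y.hom) g)
  have hip : i ≫ p = i := by
    ext1
    have h := Limits.pullback.condition (f := Limits.pullback.diagonal Y.hom) (g := g)
    have h1 := congrArg (fun m => m ≫ Limits.pullback.fst _ _) h
    have h2 := congrArg (fun m => m ≫ Limits.pullback.snd _ _) h
    simp [hgf, hgs, hdf, hds] at h1 h2
    change Limits.pullback.snd _ _ ≫ p.left = Limits.pullback.snd _ _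
    exact h2.symm.trans h1
  have hcl : IsClosedImmersion i.left :=
    inferInstanceAs (IsClosedImmersion (Limits.pullback.snd (Limits.pullback.diagonal Y.hom) g))
  haveI : Mono i.left := inferInstanceAs (Mono (Limits.pullback.snd (Limits.pullback.diagonal Y.hom) g))
  haveI : Mono i := (Over.forget S).mono_of_mono_map (inferInstanceAs (Mono i.left))
  have hlift : ∀ (T : Over S) (y : T ⟶ Y), y ≫ p = y → ∃ z : T ⟶ Z, z ≫ i = y := by
    intro T y hy
    have hy' : y.left ≫ p.left = y.left := congrArg CommaMorphism.left hy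
    refine ⟨Over.homMk (Limits.pullback.lift y.left y.left ?_) ?_, ?_⟩
    · apply Limits.pullback.hom_ext <;> simp [hgf, hgs, hdf, hds, hy']
    · simp only [Z, Over.mk_hom]
      rw [← Category.assoc, Limits.pullback.lift_snd, Over.w]
    · ext1
      exact Limits.pullback.lift_snd _ _ _
  have hmem : ∀ T (x : F.obj T), ∃ z : T.unop ⟶ Z, z ≫ i = s.app T x := fun T x =>
    hlift T.unop (s.app T x) (by rw [← hp]; exact congrArg (s.app T) (hfs T x))
  choose σ hσ using hmem
  let e : F ≅ yoneda.obj Z := NatIso.ofComponents (fun T =>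
    { hom := ↾(σ T)
      inv := ↾(fun z => f.app T (z ≫ i))
      hom_inv_id := by
        ext x
        change f.app T (σ T x ≫ i) = x
        rw [hσ, hfs]
      inv_hom_id := by
        ext z
        change σ T (f.app T (z ≫ i)) = z
        rw [← cancel_mono i, hσ]
        exact (hp T.unop (z ≫ i)).trans (by rw [Category.assoc, hip]) }) (fun {T T'} m => by
      ext x
      change σ T' (F.map m x) = m.unop ≫ σ T x
      rw [← cancel_mono i, hσ, Category.assoc, hσ]
      exact NatTrans.naturality_apply s m x)
  refine ⟨Z, i, hcl, e, ?_⟩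
  ext T x
  exact hσ T x

end Groth.Agent.S17825
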