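import Groth.Statements.S1783
import Groth.Agent.DualCx.ShriekVia

set_option autoImplicit false
universe u
open CategoryTheory
attribute [local instance] HasDerivedCategory.standard
open Dual2

namespace Groth.Agent.S1783

/-- Let R → A be a ring map of finite type between Noetherian rings, where φ^!(K) is formed from a
presentation ψ : R[x_1, …, x_n] → A as RHom_P(A, K ⊗^L_R P)[n], assuming the derived base change to
P exists and taking for RHom_P(A, −) a right adjoint of restriction of scalars along ψ. If K in D(R)
has vanishing cohomology below some degree, then so does φ^!(K); if moreover all cohomology modules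
of K are finite R-modules, then all cohomology modules of φ^!(K) are finite A-modules. -/
theorem result (R A : Type u) [CommRing R] [CommRing A] [IsNoetherianRing R] [IsNoetherianRing A] [Algebra R A] (n : ℕ) (ψ : MvPolynomial (Fin n) R →ₐ[R] A) (hψ : Function.Surjective ψ) [DRing.HasLBaseChange (algebraMap R (MvPolynomial (Fin n) R))] (Rψ : Dual.D (MvPolynomial (Fin n) R) ⥤ Dual.D A) (adj : DRing.restrictD ψ.toRingHom ⊣ Rψ) (K : Dual.D R) (a : ℤ) (hKa : ∀ i : ℤ, i < a → Subsingleton (Dual.HD R K i)) : (∃ b : ℤ, ∀ i : ℤ, i < b → Subsingleton (Dual.HD A (Dual2.shriekVia n Rψ K) i)) ∧ ((∀ i : ℤ, Module.Finite R (Dual.HD R K i)) → ∀ i : ℤ, Module.Finite A (Dual.HD A (Dual2.shriekVia n Rψ K) i)) := by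
  have : K.IsGE a := (DerivedCategory.isGE_iff K a).mpr fun i hi =>
    (Groth.Agent.DRing.DBasic.subsingleton_HD_iff_isZero K i).1 (hKa i hi)
  refine ⟨⟨a - n, fun i hi => ?_⟩, fun hf i => Groth.Agent.DualCx.ShriekVia.finite_HD n ψ hψ Rψ adj K a hf i⟩
  have := Groth.Agent.DualCx.ShriekVia.bounded_below n ψ hψ Rψ adj K a
  exact (Groth.Agent.DRing.DBasic.subsingleton_HD_iff_isZero _ i).2
    ((DerivedCategory.isGE_iff _ (a - n)).1 inferInstance i hi)

end Groth.Agent.S1783
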