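import Groth.Statements.S17833
import Groth.Agent.UnipLib.FppfDesc
import Groth.Agent.GITLib.RigidGroup
import Groth.Agent.FlatMor.GeomDescent
import Groth.Agent.GrpScheme.HomFlat
import Groth.Agent.GrpdLib.MonoClosedField

set_option autoImplicit false
universe u
open CategoryTheory MonoidalCategory CartesianMonoidalCategory MonObj GrpObj AlgebraicGeometry
open AlgGrp

open Limits Groth.Agent

namespace Groth.Agent.S17833

set_option backward.isDefEq.respectTransparency false

/-- Over an algebraically closed field k, let G be a connected smooth k-group scheme of finite type (in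
the terminology of the notes, a smooth connected algebraic group), and H an affine normal subgroup
scheme of G such that the quotient G/H is an abelian variety: here j : H → G is the kernel of a flat
surjective homomorphism q : G → Q of k-group schemes with Q proper over k, and H is affine. Then an
automorphism u of the algebraic group G which fixes H pointwise (j ∘ u = j) and induces the identity
of Q (q ∘ u = q) is the identity. Equivalently, the map from the group of automorphisms of G fixing
H pointwise to the automorphism group of G/H is injective. -/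
theorem result (k : Type u) [Field k] [IsAlgClosed k]
    (G H Q : Over (Spec (CommRingCat.of k))) [GrpObj G] [GrpObj H] [GrpObj Q]
    [Smooth G.hom] [QuasiCompact G.hom] [ConnectedSpace ↥G.left]
    [IsAffine H.left] [IsProper Q.hom]
    (j : H ⟶ G) [IsMonHom j] (q : G ⟶ Q) [IsMonHom q] [Flat q.left] [Surjective q.left]
    (hker : AlgGrp.IsKernel j q)
    (u : G ≅ G) [IsMonHom u.hom] (hH : j ≫ u.hom = j) (hQ : u.hom ≫ q = q) :
    u.hom = 𝟙 G := by
  haveI : Mono η[Q] := (IsSplitMono.mk' ⟨toUnit Q, toUnit_unique _ _⟩).mono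
  have hcov : UnipLib.Cover q := by
    refine ⟨inferInstance, inferInstance, ?_⟩
    haveI : QuasiCompact (q.left ≫ Q.hom) := by rw [Over.w q]; infer_instance
    exact QuasiCompact.of_comp q.left Q.hom
  -- the defect of `u`
  let φ : G ⟶ G := u.hom * (𝟙 G)⁻¹
  have hφq : φ ≫ q = toUnit G ≫ η[Q] := by
    show (u.hom * (𝟙 G)⁻¹) ≫ q = _
    rw [MonObj.mul_comp, GrpObj.inv_comp, hQ, Category.id_comp, mul_inv_cancel, Hom.one_def]
  have hjm : Mono j := hker.mono_fst_of_mono
  obtain ⟨ψ, hψ, -⟩ := hker.exists_lift φ (toUnit G) hφq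
  have hinv : ∀ {T : Over (Spec (CommRingCat.of k))} (a b : T ⟶ G), a ≫ q = b ≫ q → a ≫ ψ = b ≫ ψ := by
    intro T a b hab
    obtain ⟨h, hh, -⟩ := hker.exists_lift (a⁻¹ * b) (toUnit T) (by
      rw [MonObj.mul_comp, GrpObj.inv_comp, hab, inv_mul_cancel, Hom.one_def])
    have hb : b = a * (h ≫ j) := by rw [hh, mul_inv_cancel_left]
    rw [← cancel_mono j, Category.assoc, Category.assoc, hψ]
    show a ≫ (u.hom * (𝟙 G)⁻¹) = b ≫ (u.hom * (𝟙 G)⁻¹)
    rw [MonObj.comp_mul, GrpObj.comp_inv, MonObj.comp_mul, GrpObj.comp_inv, Category.comp_id, Category.comp_id, hb,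
      MonObj.mul_comp, Category.assoc, hH, _root_.mul_inv_rev, _root_.mul_assoc (a ≫ u.hom), mul_inv_cancel_left]
  obtain ⟨g, hg⟩ := hcov.exists_desc ψ hinv
  -- a morphism from `Q` to an affine scheme is constant
  haveI : IsReduced G.left := GrpScheme.HomFlat.isReduced_of_smooth G.hom
  haveI : IsReduced Q.left := FlatMor.GeomDescent.isReduced_of_flat_surjective q.left
  haveI : ConnectedSpace Q.left := by
    haveI : Nonempty Q.left := Nonempty.map q.left.base inferInstance
    exact { toNonempty := inferInstance, toPreconnectedSpace :=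
      ⟨(Set.range_eq_univ.mpr q.left.surjective) ▸ (isPreconnected_range q.left.continuous)⟩ }
  have hbij := GITLib.Rigid.bijective_appTop (K := k) Q.hom
  have hconst : g = toUnit Q ≫ (η[Q] ≫ g) := by
    refine Over.OverMorphism.ext (ext_of_isAffine ?_)
    refine CommRingCat.hom_ext (RingHom.ext fun s => ?_)
    obtain ⟨c, hc⟩ := hbij.2 (g.left.appTop s)
    show g.left.appTop s = (toUnit Q ≫ η[Q] ≫ g).left.appTop s
    simp only [Over.comp_left, Scheme.Hom.comp_appTop, CommRingCat.comp_apply]
    rw [← hc]
    have e : η[Q].left.appTop (Q.hom.appTop c) = c := by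
      rw [← CommRingCat.comp_apply, ← Scheme.Hom.comp_appTop, Over.w η[Q]]
      exact congr($(Scheme.Hom.id_appTop) c)
    rw [e]
    rfl
  have h0 : η[Q] ≫ g = 1 := by
    rw [← IsMonHom.one_hom q, Category.assoc, hg, ← cancel_mono j, Category.assoc, hψ, MonObj.one_comp]
    show η[G] ≫ (u.hom * (𝟙 G)⁻¹) = 1
    rw [MonObj.comp_mul, GrpObj.comp_inv, Category.comp_id, IsMonHom.one_hom, mul_inv_cancel]
  have hφ1 : φ = 1 := by
    rw [← hψ, ← hg, hconst, h0, MonObj.comp_one, MonObj.comp_one, MonObj.one_comp]
  exact mul_inv_eq_one.mp hφ1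

end Groth.Agent.S17833
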