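import Groth.Statements.S17839
import Groth.Agent.CycLib.SchemeDim
import Groth.Agent.RegLoc.Basic
-- import your own Groth.Agent.* helpers here

set_option autoImplicit false
universe u
open CategoryTheory AlgebraicGeometry
open Cyc

namespace Groth.Agent.S17839

open Groth.Agent.PtTop.Catenary in
theorem height_succ_of_covBy {R : Type u} [CommRing R] [IsDomain R] [IsNoetherianRing R]
    (hcat : CAlg.IsCatenary R) {a b : PrimeSpectrum R} (hab : a ⋖ b) :
    b.asIdeal.height = a.asIdeal.height + 1 := by
  obtain ⟨s, hsh, hsl, hslen, hss⟩ := Groth.Agent.CycLib.exists_series_height a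
  obtain ⟨t, hth, htl, htlen, hts⟩ := Groth.Agent.CycLib.exists_series_height b
  have hlt : s.last < b := hsl ▸ hab.lt
  let s' : LTSeries (PrimeSpectrum R) := s.snoc b hlt
  have hs' : Saturated s' := by
    show ∀ i : Fin (s.length + 1), s' (Fin.castSucc i) ⋖ s' (Fin.succ i)
    intro i
    refine Fin.lastCases ?_ (fun j => ?_) i
    · rw [show s' (Fin.castSucc (Fin.last s.length)) = s.last from RelSeries.snoc_castSucc s b hlt _,
        show s' (Fin.succ (Fin.last s.length)) = b from RelSeries.last_snoc s b hlt, hsl]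
      exact hab
    · rw [show s' (Fin.castSucc j.castSucc) = s j.castSucc from RelSeries.snoc_castSucc s b hlt _,
        show s' (Fin.succ j.castSucc) = s j.succ from by
          exact RelSeries.snoc_castSucc s b hlt j.succ]
      exact hss j
  have := hcat.2 t s' (by rw [hth, RelSeries.head_snoc, hsh]) (by rw [htl, RelSeries.last_snoc]) hts hs'
  rw [← htlen, ← hslen, this]
  exact_mod_cast rfl

open Groth.Agent.CycLib Groth.Agent.PtTop.Catenary in
theorem isDimFun_base {S : Scheme.{u}} [IsLocallyNoetherian S]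
    (hreg : ∀ s : S, IsRegularLocalRing (S.presheaf.stalk s))
    (huc : ∀ s : S, CAlg.IsUniversallyCatenary (S.presheaf.stalk s))
    (δS : S → ℤ) (hδS : ∀ s : S, ringKrullDim (S.presheaf.stalk s) =
      ((-δS s).toNat : WithBot ℕ∞) ∧ δS s ≤ 0) : Cyc.IsDimFun S δS := by
  intro x' x hsp hne
  obtain ⟨V, hV, hxV, -⟩ := exists_isAffineOpen_mem_and_subset (x := x) (U := (⊤ : S.Opens)) trivial
  haveI : IsNoetherianRing Γ(S, V) := IsLocallyNoetherian.component_noetherian ⟨V, hV⟩
  have hxV' : x' ∈ V := hsp.mem_open V.2 hxV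
  let p := hV.primeIdealOf ⟨x, hxV⟩
  let p' := hV.primeIdealOf ⟨x', hxV'⟩
  have hlt : p' < p := by
    refine lt_of_le_of_ne ((primeIdealOf_le_iff hV _ _).2 ?_) fun h => hne ?_
    · rwa [hV.fromSpec_primeIdealOf, hV.fromSpec_primeIdealOf]
    · have := congr_arg hV.fromSpec h
      rwa [hV.fromSpec_primeIdealOf, hV.fromSpec_primeIdealOf] at this
  have hht : ∀ (y : S) (hy : y ∈ V),
      (hV.primeIdealOf ⟨y, hy⟩).asIdeal.height = ((-δS y).toNat : ℕ∞) := by
    intro y hy
    letI := TopCat.Presheaf.algebra_section_stalk S.presheaf (⟨y, hy⟩ : V)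
    haveI := hV.isLocalization_stalk ⟨y, hy⟩
    have := IsLocalization.AtPrime.ringKrullDim_eq_height (hV.primeIdealOf ⟨y, hy⟩).asIdeal
      (S.presheaf.stalk y)
    rw [(hδS y).1] at this
    exact (by exact_mod_cast this.symm)
  haveI : p.asIdeal.FiniteHeight := inferInstance
  have h1 : p'.asIdeal.height < p.asIdeal.height := Ideal.height_strict_mono_of_isPrime hlt
  rw [hht x hxV, hht x' hxV', Nat.cast_lt] at h1
  have n1 := (hδS x).2
  have n2 := (hδS x').2
  refine ⟨by omega, fun himm => ?_⟩
  letI := TopCat.Presheaf.algebra_section_stalk S.presheaf (⟨x, hxV⟩ : V)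
  haveI := hV.isLocalization_stalk ⟨x, hxV⟩
  haveI := hreg x
  haveI : IsDomain (S.presheaf.stalk x) := Groth.Agent.RegLoc.isDomain _
  let g := locEmb p.asIdeal.primeCompl (S.presheaf.stalk x)
  have ho := ordConnected_range_locEmb p.asIdeal.primeCompl (S.presheaf.stalk x)
  have hmem : ∀ c : PrimeSpectrum Γ(S, V), c ≤ p → c ∈ Set.range g := fun c hc => by
    rw [range_locEmb]
    exact Set.disjoint_left.mpr fun a ha hac => ha (hc hac)
  obtain ⟨a, ha⟩ := hmem p' hlt.le
  obtain ⟨b, hb⟩ := hmem p le_rfl
  have hcov : p' ⋖ p := by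
    refine ⟨hlt, fun c hc1 hc2 => ?_⟩
    have h3 := (primeIdealOf_le_iff hV p' c).1 hc1.le
    have h4 := (primeIdealOf_le_iff hV c p).1 hc2.le
    rw [hV.fromSpec_primeIdealOf] at h3 h4
    rcases himm _ h3 h4 with h | h
    · exact hc1.ne' (hV.fromSpec.isOpenEmbedding.injective
        (h.trans (hV.fromSpec_primeIdealOf ⟨x', hxV'⟩).symm))
    · exact hc2.ne (hV.fromSpec.isOpenEmbedding.injective
        (h.trans (hV.fromSpec_primeIdealOf ⟨x, hxV⟩).symm))
  rw [← ha, ← hb, Set.OrdConnected.apply_covBy_apply_iff g ho] at hcov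
  haveI : IsNoetherianRing (S.presheaf.stalk x) := (huc x).1
  have h2 := height_succ_of_covBy ((huc x).2 _ inferInstance) hcov
  have e : ∀ c : PrimeSpectrum (S.presheaf.stalk x), c.asIdeal.height = (g c).asIdeal.height :=
    fun c => (IsLocalization.height_comap p.asIdeal.primeCompl c.asIdeal).symm
  rw [e a, e b, ha, hb, hht x hxV, hht x' hxV'] at h2
  have : (-δS x).toNat = (-δS x').toNat + 1 := by exact_mod_cast h2
  omega

/-- Let S be a locally Noetherian scheme all of whose local rings are regular and universally catenary,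
and δS : S → ℤ the function with δS(s) = −dim O_{S,s}. Let f : X ⟶ S be locally of finite type and δ
: X → ℤ the induced function, δ(x) = δS(f x) + trdeg_{κ(f x)} κ(x) — the S-dimension: for X
irreducible with generic point ξ, δ(ξ) is the transcendence degree of the function field of X over
κ(f ξ) minus dim O_{S, f ξ}. Then δ is a dimension function on X: it drops strictly along every
nontrivial specialization and by exactly one along immediate ones; equivalently, for irreducible
closed subsets V ⊆ W of X with generic points v and w, codim(V, W) = δ(w) − δ(v). (The published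
statement fixes S Noetherian, excellent, regular and separated and X separated of finite type over
S; its proof uses only the hypotheses listed.) -/
theorem result {X S : Scheme.{u}} (f : X ⟶ S)
    [LocallyOfFiniteType f] [IsLocallyNoetherian S]
    (hreg : ∀ s : S, IsRegularLocalRing (S.presheaf.stalk s))
    (huc : ∀ s : S, CAlg.IsUniversallyCatenary (S.presheaf.stalk s))
    (δS : S → ℤ) (hδS : ∀ s : S, ringKrullDim (S.presheaf.stalk s) = ((-δS s).toNat : WithBot ℕ∞) ∧ δS s ≤ 0)
    (δ : X → ℤ) (hδ : Cyc.DeltaCompat f δ δS) :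
    Cyc.IsDimFun X δ := by
  exact Groth.Agent.CycLib.isDimFun_of_deltaCompat f huc (isDimFun_base hreg huc δS hδS) hδ

end Groth.Agent.S17839
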