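import Mathlib
import Groth.Statements.S17843
-- import your own Groth.Agent.* helpers here

set_option autoImplicit false
universe u v
open CAlg

namespace Groth.Agent.S17843

/-- In the case of an affine scheme of finite presentation, let B be a finitely presented R-algebra, r ∈
R, and x : B → R[1/r][T] an R-algebra homomorphism whose value at T = 0, a homomorphism B → R[1/r],
is induced by a homomorphism x̃₀ : B → R. Then for every large enough n, the homomorphism x(rⁿT) : B
→ R[1/r][T] is induced by a homomorphism x̃ : B → R[T] whose value at T = 0 is x̃₀. The published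
statement is for algebraic spaces locally of finite presentation over R; this row takes an affine
scheme of finite presentation. -/
theorem result
    (R : Type u) (B : Type v) [CommRing R] [CommRing B] [Algebra R B]
    [Algebra.FinitePresentation R B] (r : R)
    (x : B →ₐ[R] Polynomial (Localization.Away r))
    (x₀ : B →ₐ[R] R)
    (hx₀ : (algebraMap R (Localization.Away r)).comp x₀.toRingHom =
      (Polynomial.evalRingHom 0).comp x.toRingHom) :
    ∃ N : ℕ, ∀ n : ℕ, N ≤ n →
      ∃ y : B →ₐ[R] Polynomial R,
        (Polynomial.evalRingHom 0).comp y.toRingHom = x₀.toRingHom ∧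
        (Polynomial.mapRingHom (algebraMap R (Localization.Away r))).comp y.toRingHom =
          (Polynomial.aeval (Polynomial.C (algebraMap R (Localization.Away r) (r ^ n)) * Polynomial.X) :
              Polynomial (Localization.Away r) →ₐ[Localization.Away r] Polynomial (Localization.Away r)).toRingHom.comp
            x.toRingHom := by
  classical
  let L := Localization.Away r
  let ι : R →+* L := algebraMap R L
  obtain ⟨d, f, hf, hker⟩ := (Algebra.FinitePresentation.out : ∃ (n : ℕ) (f : MvPolynomial (Fin n) R →ₐ[R] B),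
    Function.Surjective f ∧ (RingHom.ker f.toRingHom).FG)
  let σ : ℕ → Polynomial R →ₐ[R] Polynomial R := fun k =>
    Polynomial.aeval (Polynomial.C (r ^ k) * Polynomial.X)
  let τ : ℕ → Polynomial L →ₐ[L] Polynomial L := fun k =>
    Polynomial.aeval (Polynomial.C (ι (r ^ k)) * Polynomial.X)
  have hστ : ∀ k p, (σ k p).map ι = τ k (p.map ι) := fun k p => by
    induction p using Polynomial.induction_on' with
    | add p q hp hq => simp [Polynomial.map_add, hp, hq]
    | monomial n a => simp [σ, τ, ← Polynomial.C_mul_X_pow_eq_monomial]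
  have hσ0 : ∀ k p, (σ k p).eval 0 = p.eval 0 := fun k p => by
    induction p using Polynomial.induction_on' with
    | add p q hp hq => simp [hp, hq]
    | monomial n a => rcases n with _ | n <;> simp [σ, ← Polynomial.C_mul_X_pow_eq_monomial, mul_pow]
  have hττ : ∀ j k p, τ j (τ k p) = τ (k + j) p := fun j k p => by
    have h : (τ j).comp (τ k) = τ (k + j) := by
      refine Polynomial.algHom_ext ?_
      simp only [τ, AlgHom.comp_apply, Polynomial.aeval_X, map_mul, Polynomial.aeval_C,
        pow_add, Polynomial.C_mul, mul_assoc]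
      rfl
    exact DFunLike.congr_fun h p
  have hlift : ∀ (p : Polynomial L) (c : R), ι c = p.eval 0 →
      ∃ N, ∀ n, N ≤ n → ∃ P : Polynomial R, P.eval 0 = c ∧ P.map ι = τ n p := by
    intro p c hc
    obtain ⟨⟨_, N, rfl⟩, hb⟩ := IsLocalization.exist_integer_multiples (Submonoid.powers r)
      p.support (fun j => p.coeff j)
    refine ⟨N, fun n hn => ?_⟩
    choose a ha using hb
    let b : ℕ → R := fun j => if h : j ∈ p.support then a j h else 0
    refine ⟨Polynomial.C c + ∑ j ∈ p.support.erase 0, Polynomial.C (r ^ (n * j - N) * b j) * Polynomial.X ^ j,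
      ?_, ?_⟩
    · rw [Polynomial.eval_add, Polynomial.eval_C, Polynomial.eval_finsetSum,
        Finset.sum_eq_zero fun j hj => by simp [(Finset.mem_erase.mp hj).1], add_zero]
    · ext i
      have hR : (τ n p).coeff i = p.coeff i * ι (r ^ n) ^ i := by
        rw [show τ n p = p.comp (Polynomial.C (ι (r ^ n)) * Polynomial.X) from rfl,
          Polynomial.comp_C_mul_X_coeff]
      rw [hR]
      simp only [Polynomial.map_add, Polynomial.map_C, Polynomial.map_sum, Polynomial.map_mul,
        Polynomial.map_pow, Polynomial.map_X, Polynomial.coeff_add, Polynomial.finsetSum_coeff,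
        Polynomial.coeff_C_mul, Polynomial.coeff_X_pow, mul_ite, mul_one, mul_zero,
        Finset.sum_ite_eq, Finset.mem_erase, Polynomial.coeff_C]
      rcases eq_or_ne i 0 with rfl | hi
      · simp [hc, Polynomial.coeff_zero_eq_eval_zero]
      by_cases hs : i ∈ p.support
      · have hle : N ≤ n * i := hn.trans (Nat.le_mul_of_pos_right n (Nat.pos_of_ne_zero hi))
        simp only [hi, hs, ne_eq, not_false_eq_true, and_self, if_true, if_false, zero_add, b,
          dite_true, map_mul, map_pow]
        have h := ha i hs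
        simp only [Algebra.smul_def] at h
        rw [show ι (a i hs) = ι (r ^ N) * p.coeff i from h, ← pow_mul]
        rw [map_pow, ← mul_assoc, ← pow_add, Nat.sub_add_cancel hle, mul_comm]
      · simp [hi, hs, Polynomial.notMem_support_iff.mp hs]
  choose N₁ hN₁ using fun i : Fin d => hlift (x (f (MvPolynomial.X i))) (x₀ (f (MvPolynomial.X i)))
    (by simpa using RingHom.congr_fun hx₀ (f (MvPolynomial.X i)))
  let n₀ := Finset.univ.sup N₁
  choose P₀ hP₀0 hP₀ using fun i => hN₁ i n₀ (Finset.le_sup (Finset.mem_univ i))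
  let Φ : ℕ → MvPolynomial (Fin d) R →ₐ[R] Polynomial R := fun k =>
    MvPolynomial.aeval fun i => σ k (P₀ i)
  have hΦ0 : ∀ k g, (Φ k g).eval 0 = x₀ (f g) := fun k g => by
    induction g using MvPolynomial.induction_on with
    | C a => simp [Φ]
    | add g h hg hh => simp [hg, hh]
    | mul_X g i hg =>
      rw [map_mul, Polynomial.eval_mul, hg, map_mul, map_mul]
      simp [Φ, hσ0, hP₀0]
  have hΦ : ∀ k g, (Φ k g).map ι = τ (n₀ + k) (x (f g)) := fun k g => by
    induction g using MvPolynomial.induction_on with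
    | C a =>
      have h1 : x (f (MvPolynomial.C a)) = Polynomial.C (ι a) := by
        rw [← MvPolynomial.algebraMap_eq, AlgHom.commutes, AlgHom.commutes]
        rfl
      rw [h1]
      simp [Φ, τ]
    | add g h hg hh => simp [Polynomial.map_add, hg, hh]
    | mul_X g i hg =>
      rw [map_mul, Polynomial.map_mul, hg, map_mul, map_mul, map_mul]
      simp [Φ, hστ, hP₀, hττ]
  have hΦσ : ∀ k g, Φ k g = σ k (Φ 0 g) := fun k g => by
    have : (Φ k) = (σ k).comp (Φ 0) := by
      refine MvPolynomial.algHom_ext fun i => ?_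
      simp [Φ, σ]
    rw [this]; rfl
  obtain ⟨S, hS⟩ := hker
  have hkill : ∀ g ∈ S, ∃ M, ∀ k, M ≤ k → Φ k g = 0 := by
    intro g hg
    have hgf : f g = 0 := (hS ▸ Ideal.subset_span hg : g ∈ RingHom.ker f.toRingHom)
    have h0 := hΦ 0 g
    rw [hgf, map_zero, map_zero] at h0
    have hj : ∀ j ∈ (Φ 0 g).support, ∃ M, r ^ M * (Φ 0 g).coeff j = 0 := fun j _ => by
      have := congrArg (fun p => Polynomial.coeff p j) h0
      simp only [Polynomial.coeff_map, Polynomial.coeff_zero] at this
      obtain ⟨⟨_, M, rfl⟩, hM⟩ := (IsLocalization.map_eq_zero_iff (Submonoid.powers r) L _).mp this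
      exact ⟨M, hM⟩
    choose M hM using hj
    refine ⟨(Φ 0 g).support.attach.sup fun j => M j.1 j.2, fun k hk => ?_⟩
    rw [hΦσ]
    ext j
    rw [show σ k (Φ 0 g) = (Φ 0 g).comp (Polynomial.C (r ^ k) * Polynomial.X) from rfl,
      Polynomial.comp_C_mul_X_coeff, Polynomial.coeff_zero]
    by_cases hs : j ∈ (Φ 0 g).support
    · rcases eq_or_ne j 0 with rfl | hj0
      · rw [Polynomial.coeff_zero_eq_eval_zero, hΦ0, hgf, map_zero, zero_mul]
      · have hle : M j hs ≤ k * j := ((Finset.le_sup (f := fun j : (Φ 0 g).support => M j.1 j.2)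
          (Finset.mem_attach _ ⟨j, hs⟩)).trans hk).trans (Nat.le_mul_of_pos_right k (Nat.pos_of_ne_zero hj0))
        rw [← pow_mul, ← Nat.sub_add_cancel hle, pow_add, mul_left_comm, mul_comm _ (r ^ M j hs), hM j hs,
          mul_zero]
    · simp [Polynomial.notMem_support_iff.mp hs]
  choose M hM using hkill
  refine ⟨n₀ + S.attach.sup fun g => M g.1 g.2, fun n hn => ?_⟩
  obtain ⟨k, rfl⟩ := Nat.exists_eq_add_of_le (le_trans (Nat.le_add_right _ _) hn)
  have hk : ∀ g ∈ RingHom.ker f.toRingHom, Φ k g = 0 := by
    intro g hg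
    have hle : RingHom.ker f.toRingHom ≤ RingHom.ker (Φ k).toRingHom := by
      rw [← hS, Ideal.span_le]
      intro g hg
      exact hM g hg k ((Finset.le_sup (f := fun g : S => M g.1 g.2) (Finset.mem_attach _ ⟨g, hg⟩)).trans
        (Nat.le_of_add_le_add_left hn))
    exact hle hg
  let y : B →ₐ[R] Polynomial R := (Ideal.Quotient.liftₐ (RingHom.ker f.toRingHom) (Φ k) hk).comp
    (Ideal.quotientKerAlgEquivOfSurjective hf).symm.toAlgHom
  have hy : ∀ g, y (f g) = Φ k g := fun g => by
    show Ideal.Quotient.liftₐ (RingHom.ker f.toRingHom) (Φ k) hk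
      ((Ideal.quotientKerAlgEquivOfSurjective hf).symm (f g)) = Φ k g
    rw [← Ideal.quotientKerAlgEquivOfSurjective_mk hf g, AlgEquiv.symm_apply_apply]
    rfl
  refine ⟨y, RingHom.ext fun b => ?_, RingHom.ext fun b => ?_⟩
  · obtain ⟨g, rfl⟩ := hf b
    show (y (f g)).eval 0 = x₀ (f g)
    rw [hy, hΦ0]
  · obtain ⟨g, rfl⟩ := hf b
    show (y (f g)).map ι = τ (n₀ + k) (x (f g))
    rw [hy, hΦ]

end Groth.Agent.S17843
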