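import Groth.Statements.S17844
import Groth.Agent.Patch17.Transport

set_option autoImplicit false
open CategoryTheory CategoryTheory.Limits MonoidalCategory CartesianMonoidalCategory MonObj GrpObj AlgebraicGeometry
universe u
open NonAbH1

namespace Groth.Agent.S17844

/-- For torsors under a group scheme locally of finite presentation, let S be an affine scheme, G an
S-group scheme locally of finite presentation and X an fppf torsor over the affine space 𝔸ⁿ_S (n
finite) under the base change of G. Suppose that Zariski locally on S the torsor X descends: every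
point of S has an open neighbourhood U ↪ S and a torsor P under G_U over U whose base change to 𝔸ⁿ_U
is equivariantly isomorphic to the restriction of X (both regarded as actions of the base change of
G along 𝔸ⁿ_U → S through the canonical identifications of iterated base changes). Then X is
equivariantly isomorphic to the base change of a G-torsor over S. The published statement also
allows more general group functors and graded algebras in place of the polynomial algebra;
affineness of S cannot be dropped. -/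
theorem result
    (S : Scheme.{u}) [IsAffine S] (n : Type u) [Finite n]
    (G : Over S) [GrpObj G] [LocallyOfFinitePresentation G.hom]
    (X : NonAbH1.TorsorSch (Red.bc (𝔸(n; S) ↘ S) G) Scheme.fppfPrecoverage)
    (hloc : ∀ s : S, ∃ (U : Scheme.{u}) (j : U ⟶ S) (_ : IsOpenImmersion j), s ∈ Set.range j.base ∧
      ∃ P : NonAbH1.TorsorSch (Red.bc j G) Scheme.fppfPrecoverage,
        Nonempty (NonAbH1.EquivIso
          ((P.act.bc (pullback.snd (𝔸(n; S) ↘ S) j)).restrict
            (ActBC.bcCompIso (pullback.snd (𝔸(n; S) ↘ S) j) j G rfl).inv)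
          ((X.act.bc (pullback.fst (𝔸(n; S) ↘ S) j)).restrict
            (ActBC.bcCompIso (pullback.fst (𝔸(n; S) ↘ S) j) (𝔸(n; S) ↘ S) G pullback.condition).inv))) :
    ∃ P : NonAbH1.TorsorSch G Scheme.fppfPrecoverage,
      Nonempty (NonAbH1.EquivIso (P.act.bc (𝔸(n; S) ↘ S)) X.act) := by
  classical
  let R : Type u := Γ(S, ⊤)
  let e : S ≅ Spec (CommRingCat.of R) := S.isoSpec
  let k := 𝔸(n; S) ↘ S
  let k' : 𝔸(n; S) ⟶ Spec (CommRingCat.of R) := k ≫ e.hom
  let β : Over.mk k' ≅ Groth.Agent.Patch17.SA (R := R) (MvPolynomial n R) :=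
    Over.isoMk (AffineSpace.isoOfIsAffine n S) (by
      show (AffineSpace.isoOfIsAffine n S).hom ≫ Spec.map _ = k ≫ e.hom
      rw [← Iso.eq_inv_comp, AffineSpace.isoOfIsAffine_inv_over_assoc, Iso.inv_hom_id, Category.comp_id]
      rfl)
  let G' : Over (Spec (CommRingCat.of R)) := Red.bc e.inv G
  haveI : LocallyOfFinitePresentation G'.hom :=
    MorphismProperty.pullback_snd _ _ ‹LocallyOfFinitePresentation G.hom›
  have hk : k' ≫ e.inv = k := by simp [k']
  let φ := (ActBC.bcCompIso k' e.inv G hk).hom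
  let X' : NonAbH1.TorsorSch (Red.bc k' G') Scheme.fppfPrecoverage :=
    ⟨X.X, X.act.restrict φ, Groth.Agent.Patch17.isPseudoTorsor_restrict φ X.isTorsor.1, X.isTorsor.2⟩
  have hd := Groth.Agent.Patch17.descAlg_self_of_locally β X' (by
    intro s
    obtain ⟨U, j, hj, hs, P, ⟨ε⟩⟩ := hloc (e.inv.base s)
    refine ⟨U, j ≫ e.hom, inferInstance, ?_, ?_⟩
    · obtain ⟨u, hu⟩ := hs
      refine ⟨u, ?_⟩
      rw [Scheme.Hom.comp_apply, hu, ← Scheme.Hom.comp_apply, e.inv_hom_id]
      rfl
    · have hj' : (j ≫ e.hom) ≫ e.inv = j := by simp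
      let ψ := (ActBC.bcCompIso (j ≫ e.hom) e.inv G hj').hom
      let P' : NonAbH1.TorsorSch (Red.bc (j ≫ e.hom) G') Scheme.fppfPrecoverage :=
        ⟨P.X, P.act.restrict ψ, Groth.Agent.Patch17.isPseudoTorsor_restrict ψ P.isTorsor.1, P.isTorsor.2⟩
      let q₁ := pullback.fst k j
      let q₂ := pullback.snd k j
      have hq₁ : q₁ ≫ k' = (q₂ ≫ j) ≫ e.hom := by simp [k', q₁, q₂, pullback.condition_assoc]
      have hq₂ : q₂ ≫ (j ≫ e.hom) = (q₂ ≫ j) ≫ e.hom := (Category.assoc _ _ _).symm
      have hd' : ((q₂ ≫ j) ≫ e.hom) ≫ e.inv = q₂ ≫ j := by simp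
      refine Groth.Agent.Patch17.descFam_of_equivIso k' X' (Groth.Agent.Patch17.originB_over β) (j ≫ e.hom) P'
        ((IsPullback.of_hasPullback k j).of_iso (Iso.refl _) (Iso.refl _) (Iso.refl _) e (by simp [q₁]) (by simp [q₂])
          (by simp [k']) (by simp)) hq₁ hq₂ ?_
      refine Groth.Agent.Patch17.transEquiv (Groth.Agent.Patch17.eqEquiv ?_)
        (Groth.Agent.Patch17.transEquiv
          (Groth.Agent.Patch17.restrictEquiv (ActBC.bcCompIso ((q₂ ≫ j) ≫ e.hom) e.inv G hd').hom ε)
          (Groth.Agent.Patch17.eqEquiv ?_))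
      · simp only [P', ψ, AlgGrp.Action.bc_restrict, AlgGrp.Action.restrict_act, ← comp_whiskerRight_assoc]
        rw [Groth.Agent.Patch17.bcCompIso_coh (q := q₂) (j := j) (j' := j ≫ e.hom) (i := e.inv) G hj' hq₂ hd' rfl]
      · simp only [X', φ, AlgGrp.Action.bc_restrict, AlgGrp.Action.restrict_act, ← comp_whiskerRight_assoc]
        rw [Groth.Agent.Patch17.bcCompIso_coh (q := q₁) (j := k) (j' := k') (i := e.inv) G hk hq₁ hd'
          pullback.condition])
  obtain ⟨f, hf, hfπ⟩ := hd
  let T₀ := Groth.Agent.Patch17.zeroTorsor k' X' (Groth.Agent.Patch17.originB_over β)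
  have hj0 : Spec.map (CommRingCat.ofHom (algebraMap R R)) = 𝟙 (Spec (CommRingCat.of R)) := Spec.map_id _
  let l : Over.mk k' ⟶ Over.mk (Spec.map (CommRingCat.ofHom (algebraMap R R))) :=
    Over.homMk k' (by show k' ≫ Spec.map _ = k'; rw [hj0, Category.comp_id])
  obtain ⟨ε⟩ := Groth.Agent.Patch17.exists_equivIso_self X' T₀ (lift (𝟙 _) l ▷ _ ≫ f) (hf.whiskerRight _)
    (by refine ((Category.assoc _ _ _).trans (congrArg (_ ≫ ·) hfπ)).trans ?_
        erw [whiskerRight_fst_assoc, lift_fst, Category.comp_id])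
  let χ := Groth.Agent.Patch17.backHom e G
  have hiso : IsIso χ := by
    haveI : IsIso ((Over.forget S).map χ) := by
      show IsIso χ.left
      have h := Groth.Agent.Patch17.backHom_fst e G
      haveI : IsIso e.hom := inferInstance
      haveI : IsIso (pullback.fst G'.hom e.hom ≫ pullback.fst G.hom e.inv) := inferInstance
      exact IsIso.of_isIso_fac_right h
    exact isIso_of_reflects_iso _ (Over.forget S)
  let T := T₀.bc e.hom
  refine ⟨⟨T.X, T.act.restrict χ, Groth.Agent.Patch17.isPseudoTorsor_restrict χ T.isTorsor.1, T.isTorsor.2⟩, ⟨?_⟩⟩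
  refine Groth.Agent.Patch17.transEquiv
    (Groth.Agent.Patch17.eqEquiv (congrArg AlgGrp.Action.act (AlgGrp.Action.bc_restrict k χ T.act)))
    (Groth.Agent.Patch17.transEquiv
      (Groth.Agent.Patch17.restrictEquiv ((Over.pullback k).map χ)
        (Groth.Agent.Patch17.transEquiv (ActBC.equivIsoBcComp k e.hom (d := k') rfl T₀.act)
          (Groth.Agent.Patch17.restrictEquiv (ActBC.bcCompIso k e.hom G' rfl).hom ε)))
      (Groth.Agent.Patch17.eqEquiv ?_))
  simp only [X', AlgGrp.Action.restrict_act, ← comp_whiskerRight_assoc]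
  have hcoh : (Over.pullback k).map χ ≫ (ActBC.bcCompIso k e.hom G' rfl).hom ≫ φ = 𝟙 _ := by
    refine Groth.Agent.Patch17.hom_bc_ext ?_
    show ((Over.pullback k).map χ).left ≫ (ActBC.bcCompIso k e.hom G' rfl).hom.left ≫ φ.left ≫ pullback.fst G.hom k =
      𝟙 _ ≫ pullback.fst G.hom k
    rw [show φ.left ≫ pullback.fst G.hom k = pullback.fst G'.hom k' ≫ pullback.fst G.hom e.inv from
        ActBC.bcCompIso_hom_left_fst k' e.inv G hk,
      ← Category.assoc (ActBC.bcCompIso k e.hom G' rfl).hom.left,
      show (ActBC.bcCompIso k e.hom G' rfl).hom.left ≫ pullback.fst G'.hom k' = pullback.fst _ k ≫ pullback.fst G'.hom e.hom from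
        ActBC.bcCompIso_hom_left_fst k e.hom G' rfl]
    simp only [Category.assoc]
    rw [← Category.assoc (pullback.fst _ k), ← Category.assoc, ← Category.assoc, ActBC.pullback_map_left_fst]
    simp only [Category.assoc, χ]
    rw [show _ ≫ pullback.fst G'.hom e.hom ≫ pullback.fst G.hom e.inv = 𝟙 _ from
      Groth.Agent.Patch17.backHom_fst e G, Category.id_comp, Category.comp_id]
  simp only [hcoh]
  exact (congrArg (· ≫ X.act.act) (id_whiskerRight _ X.X)).trans (Category.id_comp _)

end Groth.Agent.S17844
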