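import Groth.Statements.S17849
import Mathlib
-- import your own Groth.Agent.* helpers here

set_option autoImplicit false
open CategoryTheory
open GalLat

namespace Groth.Agent.S17849

open scoped MonoidAlgebra
section
attribute [-instance] AddCommGroup.toIntModule

/-- cocycle criterion -/
lemma isZero_H1_iff {G : Type} [Group G] (A : Rep.{0} ℤ G) :
    Limits.IsZero (groupCohomology A 1) ↔
      ∀ f : G → A, (∀ g h, f (g * h) = A.ρ g (f h) + f g) →
        ∃ m : A, ∀ g, f g = A.ρ g m - m := by
  rw [ModuleCat.isZero_iff_subsingleton]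
  constructor
  · intro h f hf
    have : f ∈ groupCohomology.cocycles₁ A := (groupCohomology.mem_cocycles₁_iff f).2 hf
    have h0 : groupCohomology.H1π A ⟨f, this⟩ = 0 := Subsingleton.elim _ _
    obtain ⟨m, hm⟩ := (groupCohomology.H1π_eq_zero_iff _).1 h0
    exact ⟨m, fun g => (congr_fun hm g).symm⟩
  · intro h
    refine subsingleton_of_forall_eq 0 (fun x => ?_)
    induction x using groupCohomology.H1_induction_on with
    | h c =>
      obtain ⟨m, hm⟩ := h c ((groupCohomology.mem_cocycles₁_iff _).1 c.2)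
      exact (groupCohomology.H1π_eq_zero_iff _).2 ⟨m, funext fun g => (hm g).symm⟩

/-- linear map out of `ℤ[X]` -/
noncomputable def lin {X M : Type} [AddCommGroup M] [Module ℤ M] (e : X → M) : ℤ[X] →ₗ[ℤ] M :=
  Finsupp.linearCombination ℤ e ∘ₗ (MonoidAlgebra.coeffLinearEquiv ℤ).toLinearMap

lemma lin_single {X M : Type} [AddCommGroup M] [Module ℤ M] (e : X → M) (x : X) (n : ℤ) :
    lin e (MonoidAlgebra.single x n) = n • e x := by
  simp [lin]
  exact int_smul_eq_zsmul _ n (e x)

lemma ker_le_range {G : Type} [Group G] {E : ShortComplex (Rep.{0} ℤ G)} (hE : E.ShortExact)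
    (y : E.X₂) (hy : E.g y = 0) : ∃ x, E.f x = y :=
  ((ShortComplex.moduleCat_exact_iff _).1
    (hE.exact.map (forget₂ (Rep.{0} ℤ G) (ModuleCat.{0} ℤ)))) y hy

theorem aux (Γ : Type) [Group Γ] [Finite Γ] (Λ : Rep.{0} ℤ Γ) :
    (∀ Γ' : Subgroup Γ, Limits.IsZero (groupCohomology (Rep.res Γ'.subtype Λ) 1)) ↔
      ∀ (X : Type) [MulAction Γ X] [Finite X] (E : ShortComplex (Rep.{0} ℤ Γ)),
        E.ShortExact → Nonempty (E.X₁ ≅ Λ) → Nonempty (E.X₃ ≅ Rep.ofMulAction ℤ Γ X) →
          Nonempty E.Splitting := by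
  classical
  constructor
  · intro hH1 X _ _ E hE he1 he3
    obtain ⟨e1⟩ := he1
    obtain ⟨e3⟩ := he3
    have hfinj : Function.Injective E.f := (Rep.mono_iff_injective E.f).1 hE.mono_f
    have hgsurj : Function.Surjective E.g := (Rep.epi_iff_surjective E.g).1 hE.epi_g
    let rep : X → X := fun x => (Quotient.mk (MulAction.orbitRel Γ X) x).out
    have hrep : ∀ x, ∃ a : Γ, a • rep x = x := fun x =>
      Quotient.exact (Quotient.out_eq (Quotient.mk (MulAction.orbitRel Γ X) x)).symm
    have hrep2 : ∀ (a : Γ) (x : X), rep (a • x) = rep x := fun a x =>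
      congrArg Quotient.out (Quotient.sound ⟨a, rfl⟩)
    have hfix : ∀ x0 : X, ∃ b : E.X₂, E.g b = e3.inv.hom (MonoidAlgebra.single x0 1) ∧
        ∀ k : Γ, k • x0 = x0 → E.X₂.ρ k b = b := by
      intro x0
      let K := MulAction.stabilizer Γ x0
      obtain ⟨b, hb⟩ := hgsurj (e3.inv.hom (MonoidAlgebra.single x0 1))
      have hk : ∀ k : K, ∃ c, E.f c = E.X₂.ρ (k : Γ) b - b := by
        intro k
        apply ker_le_range hE
        rw [map_sub, Rep.hom_comm_apply, hb, ← Rep.hom_comm_apply, sub_eq_zero]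
        congr 1
        rw [Representation.ofMulAction_single]
        rw [MulAction.mem_stabilizer_iff.1 k.2]
      choose c hc using hk
      obtain ⟨m, hm⟩ := (isZero_H1_iff _).1 (hH1 K) (fun k => e1.hom.hom (c k)) (fun a a' => by
        show e1.hom.hom (c (a * a')) = Λ.ρ (a : Γ) (e1.hom.hom (c a')) + e1.hom.hom (c a)
        rw [← Rep.hom_comm_apply, ← map_add]
        congr 1
        apply hfinj
        rw [map_add, Rep.hom_comm_apply, hc, hc, hc, Subgroup.coe_mul, map_mul,
          Module.End.mul_apply, map_sub]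
        abel)
      refine ⟨b - E.f (e1.inv.hom m), ?_, fun k hk => ?_⟩
      · rw [map_sub, hb]
        have : E.g (E.f (e1.inv.hom m)) = 0 := by
          rw [← Rep.comp_apply, E.zero]; rfl
        rw [this, sub_zero]
      · have h1 := congrArg (fun z => E.f (e1.inv.hom z)) (hm ⟨k, hk⟩)
        simp only [Rep.inv_hom_apply] at h1
        rw [hc] at h1
        change E.X₂.ρ k b - b = E.f (e1.inv.hom (Λ.ρ k m - m)) at h1
        rw [map_sub, map_sub, Rep.hom_comm_apply, Rep.hom_comm_apply] at h1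
        rw [map_sub, sub_eq_sub_iff_sub_eq_sub]
        exact h1
    choose b hb1 hb2 using hfix
    choose a ha using hrep
    let e : X → E.X₂ := fun x => E.X₂.ρ (a x) (b (rep x))
    have he : ∀ (g : Γ) (x : X), e (g • x) = E.X₂.ρ g (e x) := by
      intro g x
      show E.X₂.ρ (a (g • x)) (b (rep (g • x))) = E.X₂.ρ g (E.X₂.ρ (a x) (b (rep x)))
      rw [hrep2, ← Module.End.mul_apply, ← map_mul]
      have hk : ((g * a x)⁻¹ * a (g • x)) • rep x = rep x := by
        have h1 := ha (g • x)
        rw [hrep2] at h1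
        rw [mul_smul, h1, inv_smul_eq_iff, mul_smul, ha]
      calc E.X₂.ρ (a (g • x)) (b (rep x))
          = E.X₂.ρ ((g * a x) * ((g * a x)⁻¹ * a (g • x))) (b (rep x)) := by
            rw [mul_inv_cancel_left]
        _ = E.X₂.ρ (g * a x) (b (rep x)) := by
            rw [map_mul, Module.End.mul_apply, hb2 _ _ hk]
    have hlin : ∀ (g : Γ) (v : ℤ[X]),
        lin e (Representation.ofMulAction ℤ Γ X g v) = E.X₂.ρ g (lin e v) := by
      intro g v
      induction v using MonoidAlgebra.induction_linear with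
      | zero => simp
      | add v w hv hw => simp [hv, hw]
      | single x n => rw [Representation.ofMulAction_single, lin_single, lin_single, he, map_zsmul]
    let s0 : Rep.ofMulAction ℤ Γ X ⟶ E.X₂ :=
      Rep.ofHom (σ := E.X₂.ρ) (LinearMap.intertwiningMap_of_isIntertwiningMap
        (Representation.ofMulAction ℤ Γ X) E.X₂.ρ (lin e) hlin)
    refine ⟨ShortComplex.Splitting.ofExactOfSection E hE.exact (e3.hom ≫ s0) ?_ hE.mono_f⟩
    rw [Category.assoc, show s0 ≫ E.g = e3.inv from ?_, Iso.hom_inv_id]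
    apply Rep.hom_ext
    apply Representation.IntertwiningMap.ext
    apply LinearMap.ext
    intro v
    show E.g (lin e v) = e3.inv.hom v
    induction v using MonoidAlgebra.induction_linear with
    | zero => simp
    | add v w hv hw => simp [hv, hw]
    | single x n =>
      rw [lin_single, map_zsmul]
      show n • E.g (E.X₂.ρ (a x) (b (rep x))) = _
      rw [Rep.hom_comm_apply, hb1, ← Rep.hom_comm_apply, ← map_zsmul]
      congr 1
      rw [Representation.ofMulAction_single, ha, MonoidAlgebra.smul_single, smul_eq_mul, mul_one]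
  · intro h K
    rw [isZero_H1_iff]
    intro f hf
    change ∀ g h : K, f (g * h) = Λ.ρ (g : Γ) (f h) + f g at hf
    let s : Γ ⧸ K → Γ := fun x => x.out
    have hs : ∀ x, ((s x : Γ) : Γ ⧸ K) = x := fun x => Quotient.out_eq x
    have hk : ∀ (g : Γ) (x : Γ ⧸ K), (s (g • x))⁻¹ * g * s x ∈ K := by
      intro g x
      have h1 : ((s (g • x) : Γ) : Γ ⧸ K) = ((g * s x : Γ) : Γ ⧸ K) := by
        rw [hs]
        conv_lhs => rw [← hs x]
        rfl
      rw [mul_assoc]
      exact QuotientGroup.eq.1 h1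
    let k : Γ → Γ ⧸ K → K := fun g x => ⟨_, hk g x⟩
    let c : Γ → Γ ⧸ K → Λ := fun g x => Λ.ρ (s (g • x)) (f (k g x))
    have hf1 : f 1 = 0 := by
      have := hf 1 1
      simpa using this
    have hc1 : ∀ x, c 1 x = 0 := by
      intro x
      have : k 1 x = 1 := Subtype.ext (by simp [k])
      simp [c, this, hf1]
    have hc : ∀ (g g' : Γ) (x : Γ ⧸ K),
        c (g * g') x = Λ.ρ g (c g' x) + c g (g' • x) := by
      intro g g' x
      have hkk : k (g * g') x = k g (g' • x) * k g' x := by
        apply Subtype.ext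
        simp only [k, Subgroup.coe_mul, mul_smul]
        group
      show Λ.ρ (s ((g * g') • x)) (f (k (g * g') x)) =
        Λ.ρ g (Λ.ρ (s (g' • x)) (f (k g' x))) + Λ.ρ (s (g • g' • x)) (f (k g (g' • x)))
      rw [hkk, hf, map_add, mul_smul]
      congr 1
      rw [← Module.End.mul_apply, ← map_mul, ← Module.End.mul_apply (Λ.ρ g), ← map_mul]
      congr 2
      simp [k, mul_assoc]
    let P := Representation.ofMulAction ℤ Γ (Γ ⧸ K)
    let T : Γ → (Λ × ℤ[Γ ⧸ K]) →ₗ[ℤ] (Λ × ℤ[Γ ⧸ K]) := fun g =>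
      ((Λ.ρ g).comp (LinearMap.fst ℤ _ _) + (lin (c g)).comp (LinearMap.snd ℤ _ _)).prod
        ((P g).comp (LinearMap.snd ℤ _ _))
    have hT : ∀ g g' v, T (g * g') v = T g (T g' v) := by
      rintro g g' ⟨m, v⟩
      refine Prod.ext ?_ ?_
      · show Λ.ρ (g * g') m + lin (c (g * g')) v =
          Λ.ρ g (Λ.ρ g' m + lin (c g') v) + lin (c g) (P g' v)
        rw [map_add, map_mul, Module.End.mul_apply, add_assoc]
        congr 1
        induction v using MonoidAlgebra.induction_linear with
        | zero => simp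
        | add v w hv hw => simp only [map_add, hv, hw]; abel
        | single x n =>
          simp only [P, Representation.ofMulAction_single, lin_single, map_zsmul, hc, zsmul_add]
      · show P (g * g') v = P g (P g' v)
        rw [map_mul]; rfl
    let ρE : Representation ℤ Γ (Λ × ℤ[Γ ⧸ K]) :=
      { toFun := T
        map_one' := by
          apply LinearMap.ext
          rintro ⟨m, v⟩
          refine Prod.ext ?_ ?_
          · show Λ.ρ 1 m + lin (c 1) v = m
            have : c 1 = 0 := funext hc1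
            simp [this, lin]
          · show P 1 v = v
            simp
        map_mul' := fun g g' => LinearMap.ext (hT g g') }
    let fE : Λ ⟶ Rep.of ρE := Rep.ofHom (ρ := Λ.ρ)
      (LinearMap.intertwiningMap_of_isIntertwiningMap Λ.ρ ρE (LinearMap.inl ℤ _ _) (by
        intro g m
        refine Prod.ext ?_ ?_
        · show Λ.ρ g m = Λ.ρ g m + lin (c g) 0
          rw [map_zero, add_zero]
        · show (0 : ℤ[Γ ⧸ K]) = P g 0
          rw [map_zero]))
    let gE : Rep.of ρE ⟶ Rep.ofMulAction ℤ Γ (Γ ⧸ K) := Rep.ofHom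
      (LinearMap.intertwiningMap_of_isIntertwiningMap ρE P (LinearMap.snd ℤ _ _) (fun g v => rfl))
    let E : ShortComplex (Rep.{0} ℤ Γ) := ShortComplex.mk fE gE (by
      apply Rep.hom_ext
      apply Representation.IntertwiningMap.ext
      apply LinearMap.ext
      intro m
      rfl)
    have hE : E.ShortExact := {
      exact := by
        rw [← ShortComplex.exact_map_iff_of_faithful E (forget₂ (Rep.{0} ℤ Γ) (ModuleCat.{0} ℤ)),
          ShortComplex.moduleCat_exact_iff]
        intro y hy
        obtain ⟨m, v⟩ := y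
        obtain rfl : v = 0 := hy
        exact ⟨m, rfl⟩
      mono_f := (Rep.mono_iff_injective _).2 (fun a b hab => congrArg Prod.fst hab)
      epi_g := (Rep.epi_iff_surjective _).2 (fun v => ⟨(0, v), rfl⟩) }
    obtain ⟨sp⟩ := h (Γ ⧸ K) E hE ⟨Iso.refl _⟩ ⟨Iso.refl _⟩
    let x0 : Γ ⧸ K := ((1 : Γ) : Γ ⧸ K)
    let y0 : Λ × ℤ[Γ ⧸ K] := sp.s.hom (MonoidAlgebra.single x0 1)
    have hy0 : y0.2 = MonoidAlgebra.single x0 1 := by
      have := congrArg (fun φ : E.X₃ ⟶ E.X₃ => φ.hom (MonoidAlgebra.single x0 1)) sp.s_g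
      exact this
    refine ⟨-(Λ.ρ (s x0)⁻¹ y0.1), fun k' => ?_⟩
    show f k' = Λ.ρ (k' : Γ) (-(Λ.ρ (s x0)⁻¹ y0.1)) - -(Λ.ρ (s x0)⁻¹ y0.1)
    have hs0 : s x0 ∈ K := by
      have := QuotientGroup.eq.1 (hs x0)
      simpa using inv_mem this
    let g : Γ := s x0 * k' * (s x0)⁻¹
    have hg : g • x0 = x0 := by
      show ((g * 1 : Γ) : Γ ⧸ K) = ((1 : Γ) : Γ ⧸ K)
      rw [QuotientGroup.eq]
      simp only [mul_one]
      exact inv_mem (mul_mem (mul_mem hs0 k'.2) (inv_mem hs0))
    have hkg : k g x0 = k' := Subtype.ext (by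
      show (s (g • x0))⁻¹ * g * s x0 = k'
      rw [hg]; simp [g, mul_assoc])
    have h1 : sp.s.hom (P g (MonoidAlgebra.single x0 1)) = T g y0 :=
      Rep.hom_comm_apply sp.s g _
    rw [Representation.ofMulAction_single, hg] at h1
    have h2 : y0.1 = Λ.ρ g y0.1 + lin (c g) y0.2 := congrArg Prod.fst h1
    rw [hy0, lin_single, one_smul] at h2
    simp only [c, hg, hkg] at h2
    have h3 := congrArg (Λ.ρ (s x0)⁻¹) h2
    rw [map_add, ← Module.End.mul_apply, ← Module.End.mul_apply,
      ← map_mul, ← map_mul, inv_mul_cancel, map_one, Module.End.one_apply] at h3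
    have h4 : (s x0)⁻¹ * g = (k' : Γ) * (s x0)⁻¹ := by simp [g, mul_assoc]
    rw [h4, map_mul, Module.End.mul_apply] at h3
    rw [map_neg, sub_neg_eq_add, neg_add_eq_sub]
    exact eq_sub_of_add_eq' h3.symm

end


/-- For a finite group Γ and a Γ-lattice Λ (finitely generated free ℤ-module with Γ-action) the
following are equivalent: (i) H¹(Γ', Λ) = 0 for every subgroup Γ' ≤ Γ; (ii) Ext¹ over ℤ[Γ] of P into
Λ vanishes for every permutation lattice P = ℤ[X], X a finite Γ-set. Condition (ii) is stated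
through Yoneda extensions: every short exact sequence 0 → Λ' → E → P → 0 of ℤ-linear
Γ-representations with Λ' ≅ Λ and P ≅ ℤ[X] splits. (These are the lattices called coflasque.) The
group, the lattice and the Γ-sets are taken in the lowest universe. -/
theorem result
    (Γ : Type) [Group Γ] [Finite Γ] (Λ : Rep ℤ Γ) [Module.Free ℤ Λ.V] [Module.Finite ℤ Λ.V] :
    (∀ Γ' : Subgroup Γ, Limits.IsZero (groupCohomology (Rep.res Γ'.subtype Λ) 1)) ↔
      ∀ (X : Type) [MulAction Γ X] [Finite X] (E : ShortComplex (Rep ℤ Γ)),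
        E.ShortExact → Nonempty (E.X₁ ≅ Λ) → Nonempty (E.X₃ ≅ Rep.ofMulAction ℤ Γ X) →
          Nonempty E.Splitting := by
  exact aux Γ Λ

end Groth.Agent.S17849
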