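import Groth.Statements.S17850
import Groth.Agent.Patch17.Final

set_option autoImplicit false
open CategoryTheory CategoryTheory.Limits MonoidalCategory CartesianMonoidalCategory MonObj GrpObj AlgebraicGeometry
universe u
open NonAbH1

namespace Groth.Agent.S17850

/-- In ideal form, let R be a ring, G an R-group scheme locally of finite presentation and X an fppf
torsor over 𝔸ⁿ_R (n finite) under the base change of G. Say that X descends over R[1/r] when there
is a torsor P under the base change of G to R[1/r] whose base change to 𝔸ⁿ over R[1/r] is
equivariantly isomorphic to the restriction of X (both compared as actions of the base change of G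
to 𝔸ⁿ over R[1/r] through the canonical identifications of iterated base changes). Then the set of r
∈ R over which X descends is an ideal. The published statement also allows more general group
functors and graded algebras. -/
theorem result
    (R : Type u) [CommRing R] (n : Type u) [Finite n]
    (G : Over (Spec (CommRingCat.of R))) [GrpObj G] [LocallyOfFinitePresentation G.hom]
    (X : NonAbH1.TorsorSch (Red.bc (𝔸(n; Spec (CommRingCat.of R)) ↘ Spec (CommRingCat.of R)) G) Scheme.fppfPrecoverage) :
    ∃ I : Ideal R, ∀ r : R, r ∈ I ↔
      ∃ P : NonAbH1.TorsorSch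
          (Red.bc (Spec.map (CommRingCat.ofHom (algebraMap R (Localization.Away r)))) G) Scheme.fppfPrecoverage,
        Nonempty (NonAbH1.EquivIso
          ((P.act.bc (pullback.snd (𝔸(n; Spec (CommRingCat.of R)) ↘ Spec (CommRingCat.of R))
              (Spec.map (CommRingCat.ofHom (algebraMap R (Localization.Away r)))))).restrict
            (ActBC.bcCompIso (pullback.snd (𝔸(n; Spec (CommRingCat.of R)) ↘ Spec (CommRingCat.of R))
                (Spec.map (CommRingCat.ofHom (algebraMap R (Localization.Away r)))))
              (Spec.map (CommRingCat.ofHom (algebraMap R (Localization.Away r)))) G rfl).inv)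
          ((X.act.bc (pullback.fst (𝔸(n; Spec (CommRingCat.of R)) ↘ Spec (CommRingCat.of R))
              (Spec.map (CommRingCat.ofHom (algebraMap R (Localization.Away r)))))).restrict
            (ActBC.bcCompIso (pullback.fst (𝔸(n; Spec (CommRingCat.of R)) ↘ Spec (CommRingCat.of R))
                (Spec.map (CommRingCat.ofHom (algebraMap R (Localization.Away r)))))
              (𝔸(n; Spec (CommRingCat.of R)) ↘ Spec (CommRingCat.of R)) G pullback.condition).inv)) := by
  classical
  let β : Over.mk (𝔸(n; Spec (CommRingCat.of R)) ↘ Spec (CommRingCat.of R)) ≅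
      Groth.Agent.Patch17.SA (R := R) (MvPolynomial n R) :=
    Over.isoMk (AffineSpace.SpecIso n (CommRingCat.of R)) (by
      show (AffineSpace.SpecIso n (CommRingCat.of R)).hom ≫ Spec.map _ = _
      rw [← Iso.eq_inv_comp]
      exact (AffineSpace.SpecIso_inv_over (CommRingCat.of R)).symm)
  refine ⟨Groth.Agent.Patch17.descIdeal β X, fun r => ?_⟩
  rw [Groth.Agent.Patch17.mem_descIdeal]
  constructor
  · intro h
    exact ⟨_, Groth.Agent.Patch17.exists_equivIso_of_descFam X (Groth.Agent.Patch17.originB_over β) h⟩
  · rintro ⟨P, ⟨e⟩⟩
    exact Groth.Agent.Patch17.descFam_of_equivIso _ X (Groth.Agent.Patch17.originB_over β) _ P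
      (IsPullback.of_hasPullback _ _) pullback.condition rfl e

end Groth.Agent.S17850
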