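import Groth.Statements.S17851
import Groth.Agent.GlueTor.Glue
import Groth.Agent.GlueTor.PolyAux

set_option autoImplicit false
open CategoryTheory CategoryTheory.Limits MonoidalCategory CartesianMonoidalCategory MonObj GrpObj AlgebraicGeometry
universe u
open NonAbH1

namespace Groth.Agent.S17851

open Groth.Agent.Patch17 Groth.Agent.GlueTor
open Groth.Agent.G0Patch (sp)

/-- Let R be a ring and G an R-group scheme locally of finite presentation. Call an fppf torsor over the
affine line Spec A[t] (under the base change of the group) trivial away from an A-finite closed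
subscheme when it has a section over the open complement of V(I) for some ideal I of A[t] with
A[t]/I a finite A-module. If for every maximal ideal m of R every torsor under the base change of G
over Spec R_m[t] which is trivial away from an R_m-finite closed subscheme is trivial, then every
torsor under the base change of G over Spec R[t] which is trivial away from an R-finite closed
subscheme is trivial. The published statement also allows more general group functors. -/
theorem result
    (R : Type u) [CommRing R]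
    (G : Over (Spec (CommRingCat.of R))) [GrpObj G] [LocallyOfFinitePresentation G.hom]
    (hloc : ∀ (m : Ideal R) [m.IsMaximal]
      (Y : NonAbH1.TorsorSch (Red.bc (Spec.map (CommRingCat.ofHom (algebraMap (Localization.AtPrime m) (Polynomial (Localization.AtPrime m))))) (Red.bc (Spec.map (CommRingCat.ofHom (algebraMap R (Localization.AtPrime m)))) G)) Scheme.fppfPrecoverage),
      (∃ I : Ideal (Polynomial (Localization.AtPrime m)), Module.Finite (Localization.AtPrime m) (Polynomial (Localization.AtPrime m) ⧸ I) ∧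
        NonAbH1.HasSectionOver Y.X (Scheme.Opens.ι
          (⟨(PrimeSpectrum.zeroLocus (I : Set (Polynomial (Localization.AtPrime m))))ᶜ,
            (PrimeSpectrum.isClosed_zeroLocus _).isOpen_compl⟩ : (Spec (CommRingCat.of (Polynomial (Localization.AtPrime m)))).Opens))) →
      NonAbH1.HasSectionOver Y.X (𝟙 (Spec (CommRingCat.of (Polynomial (Localization.AtPrime m))))))
    (X : NonAbH1.TorsorSch (Red.bc (Spec.map (CommRingCat.ofHom (algebraMap R (Polynomial R)))) G) Scheme.fppfPrecoverage)
    (I : Ideal (Polynomial R)) (hI : Module.Finite R (Polynomial R ⧸ I))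
    (hX : NonAbH1.HasSectionOver X.X (Scheme.Opens.ι
      (⟨(PrimeSpectrum.zeroLocus (I : Set (Polynomial R)))ᶜ,
        (PrimeSpectrum.isClosed_zeroLocus _).isOpen_compl⟩ : (Spec (CommRingCat.of (Polynomial R))).Opens))) :
    NonAbH1.HasSectionOver X.X (𝟙 (Spec (CommRingCat.of (Polynomial R)))) := by
  classical
  let k := Spec.map (CommRingCat.ofHom (algebraMap R (Polynomial R)))
  let S := Spec (CommRingCat.of R)
  -- a monic polynomial in the ideal
  obtain ⟨f, hf, hfI⟩ : ∃ f : Polynomial R, f.Monic ∧ f ∈ I := by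
    obtain ⟨f, hf, h0⟩ := IsIntegral.of_finite R (Ideal.Quotient.mk I Polynomial.X)
    refine ⟨f, hf, ?_⟩
    rw [← Polynomial.aeval_def, ← Ideal.Quotient.mkₐ_eq_mk R I, Polynomial.aeval_algHom_apply,
      Polynomial.aeval_X_left_apply] at h0
    exact Ideal.Quotient.eq_zero_iff_mem.1 h0
  -- the section away from `f`
  obtain ⟨s₁, hs₁⟩ := hX
  let Uc : (Spec (CommRingCat.of (Polynomial R))).Opens :=
    ⟨(PrimeSpectrum.zeroLocus (I : Set (Polynomial R)))ᶜ, (PrimeSpectrum.isClosed_zeroLocus _).isOpen_compl⟩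
  let wf := sp (algebraMap (Polynomial R) (Localization.Away f))
  have hwf : Set.range wf.base ⊆ Set.range Uc.ι.base := by
    rintro _ ⟨y, rfl⟩
    rw [Scheme.Opens.range_ι]
    exact fun hy => notMem_of_range f y (hy hfI)
  let σ := IsOpenImmersion.lift Uc.ι wf hwf ≫ s₁
  have hσ : σ ≫ X.X.hom = wf := by
    simp only [σ, Category.assoc]
    rw [show s₁ ≫ X.X.hom = Uc.ι from hs₁, IsOpenImmersion.lift_fac]
  -- the local hypothesis in usable form
  have hloc' : ∀ (m : Ideal R) [m.IsMaximal]
      (Y : NonAbH1.TorsorSch (Red.bc k G) Scheme.fppfPrecoverage)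
      (q : Polynomial (Localization.AtPrime m)), q.Monic →
      (∀ {V : Scheme.{u}} (v : V ⟶ Spec (CommRingCat.of (Polynomial (Localization.AtPrime m)))),
        (∀ y : V, q ∉ (v.base y).asIdeal) → ∃ s : V ⟶ Y.X.left,
          s ≫ Y.X.hom = v ≫ sp (Polynomial.mapRingHom (algebraMap R (Localization.AtPrime m)))) →
      ∃ s : Spec (CommRingCat.of (Polynomial (Localization.AtPrime m))) ⟶ Y.X.left,
        s ≫ Y.X.hom = sp (Polynomial.mapRingHom (algebraMap R (Localization.AtPrime m))) := by
    intro m _ Y q hq hY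
    let L := Localization.AtPrime m
    have hsq : sp (Polynomial.mapRingHom (algebraMap R L)) ≫ k =
        sp (algebraMap L (Polynomial L)) ≫ sp (algebraMap R L) := by
      rw [← Spec.map_comp, ← Spec.map_comp, ← CommRingCat.ofHom_comp, ← CommRingCat.ofHom_comp]
      exact congrArg (fun φ => sp φ) (RingHom.ext fun a => by simp)
    let W : (Spec (CommRingCat.of (Polynomial L))).Opens :=
      ⟨(PrimeSpectrum.zeroLocus ((Ideal.span {q} : Ideal (Polynomial L)) : Set (Polynomial L)))ᶜ,
        (PrimeSpectrum.isClosed_zeroLocus _).isOpen_compl⟩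
    refine section_of_hloc (sp (algebraMap L (Polynomial L))) (sp (algebraMap R L)) _ hsq Y W.ι
      (fun Z hZ => hloc m Z ⟨Ideal.span {q}, hq.finite_quotient, hZ⟩) (hY W.ι fun y hy => ?_)
    have hy' : W.ι.base y ∈ Set.range W.ι.base := ⟨y, rfl⟩
    rw [Scheme.Opens.range_ι] at hy'
    exact hy' ((Ideal.span_singleton_le_iff_mem _).2 hy)
  -- `X` is constant
  have hsX : ∀ (m : Ideal R) [m.IsMaximal], ∃ s : Spec (CommRingCat.of (Polynomial (Localization.AtPrime m))) ⟶ X.X.left,
      s ≫ X.X.hom = sp (Polynomial.mapRingHom (algebraMap R (Localization.AtPrime m))) := by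
    intro m _
    refine hloc' m X (f.map (algebraMap R (Localization.AtPrime m))) (hf.map _) fun v hv => ?_
    obtain ⟨l, hl⟩ := exists_fac_basicOpen (L := Localization.Away f) f
      (v ≫ sp (Polynomial.mapRingHom (algebraMap R (Localization.AtPrime m)))) (fun y hy => hv y hy)
    exact ⟨l ≫ σ, by rw [Category.assoc, hσ, hl]⟩
  obtain ⟨F, hF, hFπ⟩ := descAlg_line X hsX
  let T₀ := zeroTorsor k X (originB_over (betaLine R))
  have hj0 : Spec.map (CommRingCat.ofHom (algebraMap R R)) = 𝟙 S := Spec.map_id _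
  let l : Over.mk k ⟶ Over.mk (Spec.map (CommRingCat.ofHom (algebraMap R R))) :=
    Over.homMk k (by show k ≫ Spec.map _ = k; rw [hj0, Category.comp_id])
  obtain ⟨ε⟩ := exists_equivIso_self X T₀ (lift (𝟙 _) l ▷ _ ≫ F) (hF.whiskerRight _)
    (by refine ((Category.assoc _ _ _).trans (congrArg (_ ≫ ·) hFπ)).trans ?_
        erw [whiskerRight_fst_assoc, lift_fst, Category.comp_id])
  -- transport points of `X` to points of the constant torsor
  have toT₀ : ∀ {V : Scheme.{u}} (v : V ⟶ Spec (CommRingCat.of (Polynomial R))) (s : V ⟶ X.X.left),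
      s ≫ X.X.hom = v → ∃ t : V ⟶ T₀.X.left, t ≫ T₀.X.hom = v ≫ k := fun v s hs =>
    ⟨s ≫ ε.iso.inv.left ≫ pullback.fst T₀.X.hom k, by
      rw [Category.assoc, Category.assoc, pullback.condition, reassoc_of% (show ε.iso.inv.left ≫ pullback.snd T₀.X.hom k = X.X.hom
        from Over.w ε.iso.inv), reassoc_of% hs]⟩
  suffices hT : ∃ t : S ⟶ T₀.X.left, t ≫ T₀.X.hom = 𝟙 S by
    obtain ⟨t, ht⟩ := hT
    refine ⟨pullback.lift (k ≫ t) (𝟙 _) (by rw [Category.assoc, ht, Category.comp_id, Category.id_comp]) ≫ ε.iso.hom.left, ?_⟩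
    rw [Category.assoc, Over.w ε.iso.hom]
    exact pullback.lift_snd _ _ _
  obtain ⟨p₀, hp₀⟩ := toT₀ wf σ hσ
  -- the two charts of the line
  let g := f.reverse
  have hg1 : g.coeff 0 = 1 := by rw [Polynomial.coeff_zero_reverse, hf.leadingCoeff]
  let H := Red.bc k G
  let U₁ : Over (Spec (CommRingCat.of (Polynomial R))) :=
    Over.mk (sp (algebraMap (Polynomial R) (Localization.Away (Polynomial.X : Polynomial R))))
  let U₂ : Over (Spec (CommRingCat.of (Polynomial R))) :=
    Over.mk (sp (algebraMap (Polynomial R) (Localization.Away g)))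
  haveI : IsOpenImmersion U₁.hom := IsOpenImmersion.of_isLocalization (Polynomial.X : Polynomial R)
  haveI : IsOpenImmersion U₂.hom := IsOpenImmersion.of_isLocalization g
  let L := Localization.Away ((Polynomial.X : Polynomial R) * g)
  have hfu : ∃ θ : Localization.Away f →+* L, θ.comp (algebraMap R (Localization.Away f)) = algebraMap R L := by
    have hXu : IsUnit (algebraMap (Polynomial R) L Polynomial.X) :=
      IsLocalization.Away.isUnit_of_dvd ((Polynomial.X : Polynomial R) * g) (dvd_mul_right _ _)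
    have hgu : IsUnit (algebraMap (Polynomial R) L g) :=
      IsLocalization.Away.isUnit_of_dvd ((Polynomial.X : Polynomial R) * g) (dvd_mul_left _ _)
    obtain ⟨x, hx⟩ := hXu
    letI : Invertible (↑x⁻¹ : L) := ⟨↑x, x.mul_inv, x.inv_mul⟩
    have e := Polynomial.eval₂_reverse_mul_pow (algebraMap R L) (↑x⁻¹ : L) f
    have e2 : Polynomial.eval₂ (algebraMap R L) (↑x : L) g = algebraMap (Polynomial R) L g := by
      rw [hx]
      exact (RingHom.congr_fun (Polynomial.ringHom_ext (f := Polynomial.eval₂RingHom (algebraMap R L) (algebraMap (Polynomial R) L Polynomial.X))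
        (g := algebraMap (Polynomial R) L) (fun a => by simp [IsScalarTower.algebraMap_apply R (Polynomial R) L]) (by simp)) g)
    have hu : IsUnit (Polynomial.eval₂RingHom (algebraMap R L) (↑x⁻¹ : L) f) := by
      show IsUnit (Polynomial.eval₂ (algebraMap R L) (↑x⁻¹ : L) f)
      rw [← e, show (⅟(↑x⁻¹ : L)) = (↑x : L) from rfl, e2]
      exact hgu.mul ((Units.isUnit _).pow _)
    refine ⟨IsLocalization.Away.lift f hu, RingHom.ext fun a => ?_⟩
    rw [RingHom.comp_apply, IsScalarTower.algebraMap_apply R (Polynomial R) (Localization.Away f),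
      IsLocalization.Away.lift_eq]
    simp
  obtain ⟨θ, hθ⟩ := hfu
  obtain ⟨w, hw⟩ := exists_fac_basicOpen (L := L) ((Polynomial.X : Polynomial R) * g) (U₁ ⊗ U₂).hom fun y hy => by
    rcases ((U₁ ⊗ U₂).hom.base y).isPrime.mem_or_mem hy with h | h
    · rw [← Over.w (fst U₁ U₂), Scheme.Hom.comp_apply] at h
      exact notMem_of_range (L := Localization.Away (Polynomial.X : Polynomial R)) Polynomial.X _ h
    · rw [← Over.w (snd U₁ U₂), Scheme.Hom.comp_apply] at h
      exact notMem_of_range (L := Localization.Away g) g _ h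
  have hθk : sp θ ≫ wf ≫ k = sp (algebraMap (Polynomial R) L) ≫ k := by
    simp only [wf, k]
    rw [← Spec.map_comp, ← Spec.map_comp, ← Spec.map_comp, ← CommRingCat.ofHom_comp, ← CommRingCat.ofHom_comp,
      ← CommRingCat.ofHom_comp, ← IsScalarTower.algebraMap_eq, hθ, ← IsScalarTower.algebraMap_eq]
  let p : U₁ ⊗ U₂ ⟶ Red.bc k T₀.X :=
    Over.homMk (pullback.lift (w ≫ sp θ ≫ p₀) (U₁ ⊗ U₂).hom (by
      rw [Category.assoc, Category.assoc, hp₀, hθk, reassoc_of% hw])) (pullback.lift_snd _ _ _)
  have hcov : ∀ b : Spec (CommRingCat.of (Polynomial R)), b ∈ Set.range U₁.hom.base ∨ b ∈ Set.range U₂.hom.base := by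
    intro b
    show b ∈ Set.range (PrimeSpectrum.comap (algebraMap (Polynomial R) (Localization.Away (Polynomial.X : Polynomial R)))) ∨
      b ∈ Set.range (PrimeSpectrum.comap (algebraMap (Polynomial R) (Localization.Away g)))
    rw [PrimeSpectrum.localization_away_comap_range (Localization.Away (Polynomial.X : Polynomial R)) (Polynomial.X : Polynomial R),
      PrimeSpectrum.localization_away_comap_range (Localization.Away g) g]
    by_contra hb
    obtain ⟨hb1, hb2⟩ := not_or.1 hb
    have hX' : (Polynomial.X : Polynomial R) ∈ b.asIdeal := not_not.1 hb1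
    have hg' : g ∈ b.asIdeal := not_not.1 hb2
    refine b.isPrime.ne_top ((Ideal.eq_top_iff_one _).2 ?_)
    have h1 := b.asIdeal.sub_mem hg' (b.asIdeal.mul_mem_right g.divX hX')
    rwa [show g - Polynomial.X * g.divX = 1 by
      rw [sub_eq_iff_eq_add, add_comm, ← Polynomial.C_1, ← hg1, Polynomial.X_mul_divX_add]] at h1
  obtain ⟨Y, ι₁, ι₂, -, -, hU1⟩ := exists_glue p (T₀.bc k).isTorsor hcov
  -- `Y` has sections over every `R_m[t]`
  have hsY : ∀ (m : Ideal R) [m.IsMaximal], ∃ s : Spec (CommRingCat.of (Polynomial (Localization.AtPrime m))) ⟶ Y.X.left,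
      s ≫ Y.X.hom = sp (Polynomial.mapRingHom (algebraMap R (Localization.AtPrime m))) := by
    intro m _
    let Lm := Localization.AtPrime m
    obtain ⟨s, hs⟩ := hsX m
    obtain ⟨t, ht⟩ := toT₀ _ s hs
    let q := sp (Polynomial.evalRingHom (0 : Lm)) ≫ t
    refine hloc' m Y Polynomial.X Polynomial.monic_X fun {V} v hv => ?_
    let g' := v ≫ sp (Polynomial.mapRingHom (algebraMap R Lm))
    obtain ⟨l₁, hl₁⟩ := exists_fac_basicOpen (L := Localization.Away (Polynomial.X : Polynomial R)) Polynomial.X g'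
      (fun y hy => hv y (by
        have h2 : Polynomial.map (algebraMap R Lm) Polynomial.X ∈ (v.base y).asIdeal := hy
        rwa [Polynomial.map_X] at h2))
    let x : Over.mk g' ⟶ Red.bc k T₀.X :=
      Over.homMk (pullback.lift (v ≫ sp (algebraMap Lm (Polynomial Lm)) ≫ q) g' (by
        simp only [q, g', Category.assoc]
        rw [ht]
        simp only [← Category.assoc, k]
        simp only [Category.assoc]
        rw [← Spec.map_comp, ← Spec.map_comp, ← Spec.map_comp, ← CommRingCat.ofHom_comp, ← CommRingCat.ofHom_comp,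
          ← CommRingCat.ofHom_comp]
        exact congrArg (fun φ => v ≫ sp φ) (RingHom.ext fun a => by simp))) (pullback.lift_snd _ _ _)
    let y := lift (Over.homMk l₁ hl₁ : Over.mk g' ⟶ U₁) x ≫ ι₁
    exact ⟨y.left, Over.w y⟩
  have hdY := descAlg_line Y hsY
  -- a point at the origin
  have hz : ∀ y : S, g ∉ ((sp (Polynomial.evalRingHom (0 : R))).base y).asIdeal := fun y hy => by
    have h2 : Polynomial.eval 0 g ∈ y.asIdeal := hy
    rw [← Polynomial.coeff_zero_eq_eval_zero, hg1] at h2
    exact y.isPrime.ne_top ((Ideal.eq_top_iff_one _).2 h2)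
  obtain ⟨l₂, hl₂⟩ := exists_fac_basicOpen (L := Localization.Away g) g _ hz
  let z₂ := lift (Over.homMk l₂ hl₂ : Over.mk (sp (Polynomial.evalRingHom (0 : R))) ⟶ U₂) (1 : _ ⟶ H) ≫ ι₂
  obtain ⟨sY, hsY'⟩ := hasSection_of_descAlg (betaLine R) Y hdY z₂.left (by rw [originB_betaLine]; exact Over.w z₂)
  -- evaluation at `1`
  let V : Over (Spec (CommRingCat.of (Polynomial R))) := Over.mk (sp (Polynomial.evalRingHom (1 : R)))
  let y₁ : V ⟶ Y.X := Over.homMk (sp (Polynomial.evalRingHom (1 : R)) ≫ sY) (by
    rw [Category.assoc, hsY']; exact Category.comp_id _)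
  obtain ⟨l₃, hl₃⟩ := exists_fac_basicOpen (L := Localization.Away (Polynomial.X : Polynomial R)) Polynomial.X V.hom
    fun y hy => by
      have h2 : Polynomial.eval 1 (Polynomial.X : Polynomial R) ∈ y.asIdeal := hy
      rw [Polynomial.eval_X] at h2
      exact y.isPrime.ne_top ((Ideal.eq_top_iff_one _).2 h2)
  obtain ⟨x, -⟩ := hU1 y₁ (by
    rintro _ ⟨y, rfl⟩
    exact ⟨l₃.base y, by rw [← Scheme.Hom.comp_apply]; exact congrArg (fun φ => φ.base y) hl₃⟩)
  let x' := x ≫ snd U₁ (Red.bc k T₀.X)
  refine ⟨x'.left ≫ pullback.fst T₀.X.hom k, ?_⟩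
  rw [Category.assoc, pullback.condition, reassoc_of% (show x'.left ≫ pullback.snd T₀.X.hom k = V.hom from Over.w x')]
  show Spec.map _ ≫ Spec.map _ = _
  rw [← Spec.map_comp, ← CommRingCat.ofHom_comp, ← Spec.map_id]
  exact congrArg (fun φ => sp φ) (RingHom.ext fun a => by simp)

end Groth.Agent.S17851
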