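import Groth.Statements.S17854
import Mathlib

set_option autoImplicit false
open TensorProduct
universe u
open EtAlg

namespace Groth.Agent.S17854

/-- In the case of a base with finite residue field, let k be a local ring whose residue field is
finite, R a finitely presented k-algebra and m a maximal ideal of R over the maximal ideal of k such
that R is smooth over k at m of relative dimension d > 0 (the module of Kähler differentials of R
over k has rank d at m). Then there are g ∉ m and an étale k-algebra homomorphism φ : k[x₁, …, x_d]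
→ R[1/g] which induces an isomorphism of residue fields at m, i.e. k[x₁, …, x_d] → R[1/g]/m R[1/g]
is surjective. The published statement is for any local ring k; this row takes the residue field of
k finite. -/
theorem result
    (k : Type u) [CommRing k] [IsLocalRing k] [Finite (IsLocalRing.ResidueField k)]
    (R : Type u) [CommRing R] [Algebra k R] [Algebra.FinitePresentation k R]
    (m : Ideal R) [m.IsMaximal] (hm : m.comap (algebraMap k R) = IsLocalRing.maximalIdeal k)
    [Algebra.IsSmoothAt k m] (d : ℕ) (hd : 0 < d)
    (hdim : Module.finrank (R ⧸ m) ((R ⧸ m) ⊗[R] KaehlerDifferential k R) = d) :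
    ∃ g : R, g ∉ m ∧ ∃ φ : MvPolynomial (Fin d) k →ₐ[k] Localization.Away g,
      φ.toRingHom.Etale ∧
      Function.Surjective
        ((Ideal.Quotient.mk (m.map (algebraMap R (Localization.Away g)))).comp φ.toRingHom) := by
  classical
  let κ := R ⧸ m
  letI : Field κ := Ideal.Quotient.field m
  -- the residue field at `m` is finite
  haveI hlie : m.LiesOver (IsLocalRing.maximalIdeal k) := ⟨by rw [Ideal.under_def, hm]⟩
  letI : Algebra (IsLocalRing.ResidueField k) κ :=
    Ideal.Quotient.algebraOfLiesOver m (IsLocalRing.maximalIdeal k)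
  haveI : IsScalarTower k (IsLocalRing.ResidueField k) κ := IsScalarTower.of_algebraMap_eq fun x => rfl
  haveI : Algebra.FiniteType (IsLocalRing.ResidueField k) κ :=
    Algebra.FiniteType.of_restrictScalars_finiteType k _ _
  haveI : Module.Finite (IsLocalRing.ResidueField k) κ := finite_of_finite_type_of_isJacobsonRing _ _
  haveI : Finite κ := Module.finite_of_finite (IsLocalRing.ResidueField k)
  obtain ⟨t, ht⟩ := IsCyclic.exists_generator (α := κˣ)
  obtain ⟨t₀, ht₀⟩ := Ideal.Quotient.mk_surjective (t : κ)
  -- `V` is spanned by the differentials of elements of `m`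
  let V := κ ⊗[R] KaehlerDifferential k R
  let Φ : R → V := fun r => (1 : κ) ⊗ₜ[R] KaehlerDifferential.D k R r
  have hΦm : ∀ r : R, ∃ n ∈ m, Φ n = Φ r := by
    intro r
    have : Fintype κ := Fintype.ofFinite κ
    set q := Fintype.card κ with hqdef
    refine ⟨r - r ^ q, ?_, ?_⟩
    · rw [← Ideal.Quotient.eq_zero_iff_mem, map_sub, map_pow, sub_eq_zero]
      exact (FiniteField.pow_card _).symm
    · have h0 : ((q : ℕ) : κ) = 0 := Nat.cast_card_eq_zero κ
      have h1 : (1 : κ) ⊗ₜ[R] (q • (r ^ (q - 1) • KaehlerDifferential.D k R r)) = 0 := by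
        rw [← Nat.cast_smul_eq_nsmul R, smul_smul, ← TensorProduct.smul_tmul, Algebra.smul_def, map_mul,
          map_natCast, h0, zero_mul, zero_mul, TensorProduct.zero_tmul]
      simp only [Φ, map_sub, TensorProduct.tmul_sub, Derivation.leibniz_pow, h1, sub_zero]
      
  have hadd : ∀ x y, Φ (x + y) = Φ x + Φ y := fun x y => by simp [Φ, map_add, TensorProduct.tmul_add]
  have hVspan : ∀ v : V, ∃ n ∈ m, Φ n = v := by
    have hD : Submodule.span R (Set.range Φ) = ⊤ := by
      have hsurj : Function.Surjective (TensorProduct.mk R κ (KaehlerDifferential k R) 1) :=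
        TensorProduct.mk_surjective _ _ _ Ideal.Quotient.mk_surjective
      rw [eq_top_iff, ← LinearMap.range_eq_top.mpr hsurj, LinearMap.range_eq_map,
        ← KaehlerDifferential.span_range_derivation, Submodule.map_span, ← Set.range_comp]
      rfl
    intro v
    have hv : v ∈ Submodule.span R (Set.range Φ) := hD ▸ Submodule.mem_top
    induction hv using Submodule.span_induction with
    | mem x hx => obtain ⟨r, rfl⟩ := hx; exact hΦm r
    | zero => exact ⟨0, m.zero_mem, by simp [Φ]⟩
    | add x y _ _ hx hy =>
      obtain ⟨a, ha, rfl⟩ := hx; obtain ⟨b, hb, rfl⟩ := hy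
      exact ⟨a + b, m.add_mem ha hb, hadd a b⟩
    | smul c x _ hx =>
      obtain ⟨a, ha, rfl⟩ := hx
      refine ⟨c * a, m.mul_mem_left c ha, ?_⟩
      have : (a : R) • ((1 : κ) ⊗ₜ[R] KaehlerDifferential.D k R c) = 0 := by
        rw [TensorProduct.smul_tmul', Algebra.smul_def, Ideal.Quotient.algebraMap_eq,
          Ideal.Quotient.eq_zero_iff_mem.mpr ha, zero_mul, TensorProduct.zero_tmul]
      simp only [Φ, Derivation.leibniz, TensorProduct.tmul_add, TensorProduct.tmul_smul, this, add_zero]
  haveI : Module.Finite κ V := Module.finite_of_finrank_pos (by rw [hdim]; exact hd)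
  let e := Module.finBasisOfFinrankEq κ V hdim
  -- choice of the coordinates
  have hchoice : ∀ i : Fin d, ∃ a : R, Φ a = e i ∧ (i = ⟨0, hd⟩ → Ideal.Quotient.mk m a = t) := by
    intro i
    obtain ⟨n, hn, hn'⟩ := hVspan (e i - Φ t₀)
    refine ⟨t₀ + n, by rw [hadd, hn', add_sub_cancel], fun _ => ?_⟩
    rw [map_add, Ideal.Quotient.eq_zero_iff_mem.mpr hn, add_zero, ht₀]
  choose a haΦ hat using hchoice
  let P := MvPolynomial (Fin d) k
  let ψ : P →ₐ[k] R := MvPolynomial.aeval a
  letI : Algebra P R := ψ.toRingHom.toAlgebra
  haveI : IsScalarTower k P R := IsScalarTower.of_algebraMap_eq fun x => (ψ.commutes x).symm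
  haveI : Algebra.FinitePresentation P R := .of_restrict_scalars_finitePresentation k P R
  let S := Localization.AtPrime m
  let w : Fin d → KaehlerDifferential k S := fun i => KaehlerDifferential.D k S (algebraMap R S (a i))
  let loc := KaehlerDifferential.map k k R S
  haveI : IsLocalizedModule m.primeCompl loc := KaehlerDifferential.isLocalizedModule_map k R S m.primeCompl
  have hloc : ∀ r : R, loc (KaehlerDifferential.D k R r) = KaehlerDifferential.D k S (algebraMap R S r) :=
    fun r => KaehlerDifferential.map_D k k R S r
  -- the differentials generate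
  let 𝔭 := IsLocalRing.maximalIdeal S
  have hm𝔭 : ∀ r ∈ m, algebraMap R S r ∈ 𝔭 := fun r hr =>
    (IsLocalization.AtPrime.to_map_mem_maximal_iff S m r).mpr hr
  haveI : Algebra.FormallySmooth k S := (inferInstance : Algebra.IsSmoothAt k m)
  haveI : Algebra.EssFiniteType k R := inferInstance
  haveI : Algebra.EssFiniteType R S := Algebra.EssFiniteType.of_isLocalization S m.primeCompl
  haveI : Algebra.EssFiniteType k S := Algebra.EssFiniteType.comp k R S
  haveI : Module.Finite S (KaehlerDifferential k S) := inferInstance
  have hker : ∀ x : KaehlerDifferential k R, (1 : κ) ⊗ₜ[R] x = 0 →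
      loc x ∈ 𝔭 • (⊤ : Submodule S (KaehlerDifferential k S)) := by
    intro x hx
    have hx' : x ∈ m • (⊤ : Submodule R (KaehlerDifferential k R)) := by
      have := congrArg (TensorProduct.quotTensorEquivQuotSMul (KaehlerDifferential k R) m) hx
      have h1 : TensorProduct.quotTensorEquivQuotSMul (KaehlerDifferential k R) m ((1 : κ) ⊗ₜ[R] x) =
          Submodule.Quotient.mk x := by
        show TensorProduct.quotTensorEquivQuotSMul (KaehlerDifferential k R) m
          (Ideal.Quotient.mk m (1 : R) ⊗ₜ[R] x) = _
        simp [TensorProduct.quotTensorEquivQuotSMul_mk_tmul]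
      rw [h1, map_zero, Submodule.Quotient.mk_eq_zero] at this
      exact this
    clear hx
    refine Submodule.smul_induction_on hx' (fun r hr y _ => ?_) (fun y z hy hz => ?_)
    · rw [map_smul, ← IsScalarTower.algebraMap_smul S r]
      exact Submodule.smul_mem_smul (hm𝔭 r hr) Submodule.mem_top
    · rw [map_add]; exact add_mem hy hz
  -- the differentials generate
  have hgen : Submodule.span S (Set.range w) = ⊤ := by
    rw [eq_top_iff]
    refine Submodule.le_of_le_smul_of_le_jacobson_bot Module.Finite.fg_top
      (IsLocalRing.maximalIdeal_le_jacobson ⊥) ?_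
    calc (⊤ : Submodule S (KaehlerDifferential k S))
        = Submodule.span S (Set.range (loc ∘ KaehlerDifferential.D k R)) :=
          (KaehlerDifferential.span_range_map_derivation_of_isLocalization k R S m.primeCompl).symm
      _ ≤ Submodule.span S (Set.range w) ⊔ 𝔭 • ⊤ := by
          rw [Submodule.span_le]
          rintro _ ⟨r, rfl⟩
          choose ρ hρ using fun i => Ideal.Quotient.mk_surjective (e.repr (Φ r) i)
          have h0 : (1 : κ) ⊗ₜ[R] (KaehlerDifferential.D k R r - ∑ i, ρ i • KaehlerDifferential.D k R (a i)) = 0 := by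
            rw [TensorProduct.tmul_sub, TensorProduct.tmul_sum]
            show Φ r - ∑ i, (1 : κ) ⊗ₜ[R] (ρ i • KaehlerDifferential.D k R (a i)) = 0
            rw [sub_eq_zero]
            conv_lhs => rw [← e.sum_repr (Φ r)]
            refine Finset.sum_congr rfl fun i _ => ?_
            rw [← haΦ, TensorProduct.tmul_smul, ← hρ i]
            exact IsScalarTower.algebraMap_smul κ (ρ i) (Φ (a i))
          have h1 := hker _ h0
          rw [map_sub, map_sum] at h1
          have h2 : ∑ i, loc (ρ i • KaehlerDifferential.D k R (a i)) ∈ Submodule.span S (Set.range w) := by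
            refine Submodule.sum_mem _ fun i _ => ?_
            rw [map_smul, hloc, ← IsScalarTower.algebraMap_smul S (ρ i)]
            exact Submodule.smul_mem _ _ (Submodule.subset_span ⟨i, rfl⟩)
          show loc (KaehlerDifferential.D k R r) ∈ _
          rw [← add_sub_cancel (∑ i, loc (ρ i • KaehlerDifferential.D k R (a i))) (loc (KaehlerDifferential.D k R r))]
          exact Submodule.add_mem_sup h2 h1
  -- and are independent
  have hindep : LinearIndependent S w := by
    rw [Fintype.linearIndependent_iff]
    let f : (Fin d → S) →ₗ[S] KaehlerDifferential k S := Fintype.linearCombination S w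
    have hunit : ∀ x : m.primeCompl, IsUnit (algebraMap R (Module.End R V) x) := by
      intro x
      rw [Module.End.isUnit_iff]
      have hu : (algebraMap R κ x : κ) ≠ 0 := fun h =>
        x.2 (Ideal.Quotient.eq_zero_iff_mem.mp h)
      refine ⟨fun y z hyz => ?_, fun y => ⟨(algebraMap R κ x : κ)⁻¹ • y, ?_⟩⟩
      · simp only [Module.algebraMap_end_apply] at hyz
        rw [← IsScalarTower.algebraMap_smul κ (x : R) y, ← IsScalarTower.algebraMap_smul κ (x : R) z] at hyz
        exact smul_right_injective V hu hyz
      · simp only [Module.algebraMap_end_apply]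
        rw [← IsScalarTower.algebraMap_smul κ (x : R), smul_smul, mul_inv_cancel₀ hu, one_smul]
    let Λ := IsLocalizedModule.lift m.primeCompl loc (TensorProduct.mk R κ (KaehlerDifferential k R) 1) hunit
    have hmod : ∀ c : Fin d → S, f c = 0 → ∀ i, c i ∈ 𝔭 := by
      intro c hc
      obtain ⟨s, hs⟩ := IsLocalization.exist_integer_multiples_of_finite m.primeCompl c
      choose ρ hρ using hs
      have h0 : ∑ i, ρ i • w i = 0 := by
        have := congrArg (fun z => (s : R) • z) hc
        simp only [f, Fintype.linearCombination_apply, Finset.smul_sum, smul_zero] at this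
        rw [← this]
        refine Finset.sum_congr rfl fun i _ => ?_
        rw [← IsScalarTower.algebraMap_smul S (ρ i), hρ i, smul_assoc]
      have h1 : ∑ i, (Ideal.Quotient.mk m (ρ i)) • e i = 0 := by
        have := congrArg Λ h0
        rw [map_sum, map_zero] at this
        rw [← this]
        refine Finset.sum_congr rfl fun i _ => ?_
        rw [map_smul, show w i = loc (KaehlerDifferential.D k R (a i)) from (hloc (a i)).symm,
          IsLocalizedModule.lift_apply, TensorProduct.mk_apply]
        rw [← haΦ i]
        exact IsScalarTower.algebraMap_smul κ (ρ i) (Φ (a i))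
      intro i
      have hρm : ρ i ∈ m := Ideal.Quotient.eq_zero_iff_mem.mp
        (Fintype.linearIndependent_iff.mp e.linearIndependent _ h1 i)
      have h2 := hm𝔭 _ hρm
      rw [hρ i, Algebra.smul_def] at h2
      exact (Ideal.IsPrime.mem_or_mem inferInstance h2).resolve_left fun h =>
        s.2 ((IsLocalization.AtPrime.to_map_mem_maximal_iff S m _).mp h)
    haveI : Module.Projective S (KaehlerDifferential k S) := inferInstance
    obtain ⟨sec, hsec⟩ := Module.projective_lifting_property f LinearMap.id
      (LinearMap.range_eq_top.mp (by rw [Fintype.range_linearCombination, hgen]))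
    let π : (Fin d → S) →ₗ[S] (Fin d → S) := LinearMap.id - sec ∘ₗ f
    have hπ : ∀ c, f c = 0 → π c = c := fun c hc => by simp [π, hc]
    have hfπ : ∀ c, f (π c) = 0 := fun c => by
      simp only [π, LinearMap.sub_apply, LinearMap.id_coe, id_eq, LinearMap.comp_apply, map_sub]
      rw [show f (sec (f c)) = f c from LinearMap.congr_fun hsec (f c), sub_self]
    have hrange : LinearMap.range π = ⊥ := by
      refine Submodule.eq_bot_of_le_smul_of_le_jacobson_bot 𝔭 _ ?_ ?_ (IsLocalRing.maximalIdeal_le_jacobson ⊥)
      · rw [LinearMap.range_eq_map]; exact Module.Finite.fg_top.map _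
      · rintro _ ⟨c, rfl⟩
        rw [← hπ _ (hfπ c), pi_eq_sum_univ (π c), map_sum]
        refine Submodule.sum_mem _ fun i _ => ?_
        rw [map_smul]
        exact Submodule.smul_mem_smul (hmod _ (hfπ c) i) (LinearMap.mem_range_self _ _)
    intro c hc i
    have hc' : f c = 0 := by rw [Fintype.linearCombination_apply]; exact hc
    have : c = 0 := by
      rw [← hπ c hc', ← Submodule.mem_bot S, ← hrange]
      exact LinearMap.mem_range_self _ _
    exact congrFun this i
  let bw := Module.Basis.mk hindep hgen.ge
  have hbc : Function.Bijective (KaehlerDifferential.mapBaseChange k P S) := by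
    let bT := (KaehlerDifferential.mvPolynomialBasis k (Fin d)).baseChange S
    have : KaehlerDifferential.mapBaseChange k P S = (bT.equiv bw (Equiv.refl _)).toLinearMap := by
      apply bT.ext
      intro i
      have hX : KaehlerDifferential.mvPolynomialBasis k (Fin d) i =
          KaehlerDifferential.D k P (MvPolynomial.X i) := by
        apply (KaehlerDifferential.mvPolynomialBasis k (Fin d)).repr.injective
        rw [Module.Basis.repr_self, KaehlerDifferential.mvPolynomialBasis_repr_D_X]
      rw [show bT i = (1 : S) ⊗ₜ[P] KaehlerDifferential.mvPolynomialBasis k (Fin d) i from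
        Module.Basis.baseChange_apply _ _ i, hX, KaehlerDifferential.mapBaseChange_tmul, one_smul,
        KaehlerDifferential.map_D]
      show _ = (bT.equiv bw (Equiv.refl _)) _
      rw [← hX, ← Module.Basis.baseChange_apply S, Module.Basis.equiv_apply, Equiv.refl_apply,
        Module.Basis.mk_apply]
      show KaehlerDifferential.D k S (algebraMap R S (MvPolynomial.aeval a (MvPolynomial.X i))) = _
      rw [MvPolynomial.aeval_X]
    rw [this]; exact (bT.equiv bw _).bijective
  haveI : Algebra.FormallyEtale P S := by
    haveI : Subsingleton (KaehlerDifferential P S) := by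
      constructor
      have : ∀ x : KaehlerDifferential P S, x = 0 := fun x => by
        obtain ⟨y, rfl⟩ := KaehlerDifferential.map_surjective k P S x
        exact (KaehlerDifferential.exact_mapBaseChange_map k P S y).mpr (hbc.2 y)
      exact fun x y => (this x).trans (this y).symm
    haveI : Subsingleton (Algebra.H1Cotangent P S) := by
      constructor
      have : ∀ x : Algebra.H1Cotangent P S, x = 0 := fun x => by
        have hx : KaehlerDifferential.mapBaseChange k P S (Algebra.H1Cotangent.δ k P S x) = 0 :=
          (Algebra.H1Cotangent.exact_δ_mapBaseChange k P S).apply_apply_eq_zero x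
        obtain ⟨y, rfl⟩ := (Algebra.H1Cotangent.exact_map_δ k P S x).mp
          (hbc.1 (hx.trans (map_zero _).symm))
        rw [Subsingleton.elim y 0, map_zero]
      exact fun x y => (this x).trans (this y).symm
    exact ⟨inferInstance, inferInstance⟩
  haveI : Algebra.IsEtaleAt P m := ‹Algebra.FormallyEtale P S›
  obtain ⟨g, hg, hget⟩ := Algebra.exists_etale_of_isEtaleAt (R := P) m
  refine ⟨g, hg, (IsScalarTower.toAlgHom k R _).comp ψ, ?_, ?_⟩
  · have : ((IsScalarTower.toAlgHom k R (Localization.Away g)).comp ψ).toRingHom =
        algebraMap P (Localization.Away g) := rfl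
    rw [this]; exact RingHom.etale_algebraMap.mpr hget
  · intro x
    obtain ⟨y, rfl⟩ := Ideal.Quotient.mk_surjective x
    obtain ⟨⟨r, ⟨_, n, rfl⟩⟩, hy⟩ := IsLocalization.surj (Submonoid.powers g) y
    have hgne : Ideal.Quotient.mk m g ≠ 0 := fun h => hg (Ideal.Quotient.eq_zero_iff_mem.mp h)
    obtain ⟨h, hh⟩ := Ideal.Quotient.mk_surjective ((Ideal.Quotient.mk m g)⁻¹)
    have hsurj : ∀ z : κ, ∃ p : P, Ideal.Quotient.mk m (ψ p) = z := by
      intro z
      by_cases hz : z = 0
      · exact ⟨0, by rw [map_zero, map_zero, hz]⟩
      · obtain ⟨j, hj⟩ := Submonoid.mem_powers_iff _ _ |>.mp (mem_powers_iff_mem_zpowers.mpr (ht (Units.mk0 z hz)))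
        refine ⟨MvPolynomial.X ⟨0, hd⟩ ^ j, ?_⟩
        rw [map_pow, map_pow, MvPolynomial.aeval_X, hat _ rfl, ← Units.val_pow_eq_pow_val, hj, Units.val_mk0]
    obtain ⟨p, hp⟩ := hsurj (Ideal.Quotient.mk m (r * h ^ n))
    refine ⟨p, ?_⟩
    simp only [RingHom.coe_comp, Function.comp_apply]
    show Ideal.Quotient.mk _ (algebraMap R (Localization.Away g) (ψ p)) = _
    have e1 : Ideal.Quotient.mk (m.map (algebraMap R (Localization.Away g))) (algebraMap R _ (ψ p)) =
        Ideal.Quotient.mk _ (algebraMap R (Localization.Away g) (r * h ^ n)) := by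
      rw [Ideal.Quotient.eq, ← map_sub]
      exact Ideal.mem_map_of_mem _ (Ideal.Quotient.eq.mp hp)
    have e2 : Ideal.Quotient.mk (m.map (algebraMap R (Localization.Away g))) (algebraMap R _ ((g * h) ^ n)) = 1 := by
      rw [← map_one (Ideal.Quotient.mk _), ← map_one (algebraMap R (Localization.Away g)), Ideal.Quotient.eq, ← map_sub]
      refine Ideal.mem_map_of_mem _ (Ideal.Quotient.eq.mp ?_)
      rw [map_pow, map_mul, hh, mul_inv_cancel₀ hgne, one_pow, map_one]
    rw [e1, map_mul (algebraMap R (Localization.Away g)), ← hy, mul_assoc, ← map_mul, ← mul_pow, map_mul, e2,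
      mul_one]

end Groth.Agent.S17854
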