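import Groth.Statements.S17857
import Mathlib.LinearAlgebra.StdBasis
-- import your own Groth.Agent.* helpers here

set_option autoImplicit false
universe u
open Algz

namespace Groth.Agent.S17857

/-- Let `A i` be a family of commutative rings and `P i` a projective `A i`-module for each `i`, and
assume every `P i` is a quotient of the free module of rank `N` for a single `N` independent of `i`
(equivalently, a direct summand of it). Then the product `Π i, P i` is a projective module over the
product ring `Π i, A i`, and it is a quotient of the free module of rank `N` over that ring. -/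
theorem result {ι : Type u} (A : ι → Type u) [∀ i, CommRing (A i)]
    (P : ι → Type u) [∀ i, AddCommGroup (P i)] [∀ i, Module (A i) (P i)]
    [∀ i, Module.Projective (A i) (P i)] (N : ℕ)
    (h : ∀ i, ∃ f : (Fin N → A i) →ₗ[A i] P i, Function.Surjective f) :
    Module.Projective (∀ i, A i) (∀ i, P i) ∧
      ∃ f : (Fin N → ∀ i, A i) →ₗ[∀ i, A i] (∀ i, P i), Function.Surjective f := by
  classical
  choose f hf using h
  choose s hs using fun i => Module.projective_lifting_property (f i) LinearMap.id (hf i)
  let F : (Fin N → ∀ i, A i) →ₗ[∀ i, A i] (∀ i, P i) :=
    { toFun := fun x i => f i (fun j => x j i)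
      map_add' := fun x y => funext fun i => map_add (f i) (fun j => x j i) (fun j => y j i)
      map_smul' := fun c x => funext fun i => map_smul (f i) (c i) (fun j => x j i) }
  let S : (∀ i, P i) →ₗ[∀ i, A i] (Fin N → ∀ i, A i) :=
    { toFun := fun x j i => s i (x i) j
      map_add' := fun x y => by funext j i; simp
      map_smul' := fun c x => by funext j i; simp }
  have h : F.comp S = LinearMap.id := by
    ext x i
    exact LinearMap.congr_fun (hs i) (x i)
  haveI : Module.Projective (∀ i, A i) (Fin N → ∀ i, A i) := Module.Projective.of_basis (Pi.basisFun (∀ i, A i) (Fin N))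
  exact ⟨Module.Projective.of_split S F h, F, fun x => ⟨S x, LinearMap.congr_fun h x⟩⟩

end Groth.Agent.S17857
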