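import Groth.Statements.S17859
import Mathlib.LinearAlgebra.Contraction
import Mathlib.RingTheory.TensorProduct.Finite

set_option autoImplicit false
open CategoryTheory MonoidalCategory
universe u
open Algz

namespace Groth.Agent.S17859

/-- Over an affine scheme, that is for modules over a commutative ring `R`, a finitely generated
projective `R`-module `M`, viewed as an object of the monoidal category of `R`-modules (tensor
product over `R`), has a right dual. (The published statement is the equivalence, for quasi-coherent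
sheaves on a quasi-compact quasi-separated scheme, between being dualizable and being a vector
bundle; stated here is the affine case of the implication from vector bundle to dualizable. The
converse implication, that a module admitting a dual is finitely generated projective, is stated
separately and is not repeated here.) -/
theorem result (R : Type u) [CommRing R] (M : ModuleCat.{u} R)
    [Module.Finite R M] [Module.Projective R M] : Nonempty (HasRightDual M) := by
  classical
  obtain ⟨n, f, hf⟩ := Module.Finite.exists_fin' R M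
  obtain ⟨g, hg⟩ := Module.projective_lifting_property f LinearMap.id hf
  let m : Fin n → M := fun i => f (Pi.single i 1)
  let φ : Fin n → Module.Dual R M := fun i => (LinearMap.proj i).comp g
  have hx : ∀ x : M, ∑ i, φ i x • m i = x := fun x => by
    have h1 := congrArg f (pi_eq_sum_univ' (g x))
    rw [map_sum] at h1
    rw [show f (g x) = x from LinearMap.congr_fun hg x] at h1
    exact ((Finset.sum_congr rfl fun i _ => (map_smul f (g x i) _).symm)).trans h1.symm
  have hψ : ∀ ψ : Module.Dual R M, ∑ i, ψ (m i) • φ i = ψ := fun ψ => LinearMap.ext fun x => by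
    conv_rhs => rw [← hx x, map_sum]
    rw [LinearMap.sum_apply]
    exact Finset.sum_congr rfl fun i _ => by
      rw [map_smul, LinearMap.smul_apply, smul_eq_mul, smul_eq_mul, mul_comm]
  let D : ModuleCat.{u} R := ModuleCat.of R (Module.Dual R M)
  let η₀ : 𝟙_ (ModuleCat.{u} R) ⟶ M ⊗ D :=
    ModuleCat.ofHom (LinearMap.toSpanSingleton R _ (∑ i, m i ⊗ₜ[R] φ i))
  let ε₀ : D ⊗ M ⟶ 𝟙_ (ModuleCat.{u} R) := ModuleCat.ofHom (contractLeft R M)
  have key1 : ∀ (ψ : Module.Dual R M) (r : R),
      (D ◁ η₀ ≫ (α_ D M D).inv ≫ ε₀ ▷ D).hom (ψ ⊗ₜ[R] r) =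
        ((ρ_ D).hom ≫ (λ_ D).inv).hom (ψ ⊗ₜ[R] r) := fun ψ r => by
    change (ε₀ ▷ D).hom ((α_ D M D).inv.hom (ψ ⊗ₜ[R] (r • ∑ i, m i ⊗ₜ[R] φ i))) =
      (1 : R) ⊗ₜ[R] (r • ψ)
    simp only [Finset.smul_sum, TensorProduct.tmul_sum, map_sum]
    refine (Finset.sum_congr rfl fun i _ => ?_).trans
      ((TensorProduct.tmul_sum (1 : R) Finset.univ fun i => r • (ψ (m i) • φ i)).symm.trans
        (by rw [← Finset.smul_sum, hψ]))
    rw [TensorProduct.smul_tmul', show (ε₀ ▷ D).hom ((α_ D M D).inv.hom (ψ ⊗ₜ[R] ((r • m i) ⊗ₜ[R] φ i))) =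
      (ψ (r • m i)) ⊗ₜ[R] φ i from rfl, map_smul, smul_smul]
    rw [TensorProduct.tmul_smul, TensorProduct.smul_tmul']
    simp [mul_comm]
  have key2 : ∀ (r : R) (x : M),
      (η₀ ▷ M ≫ (α_ M D M).hom ≫ M ◁ ε₀).hom (r ⊗ₜ[R] x) =
        ((λ_ M).hom ≫ (ρ_ M).inv).hom (r ⊗ₜ[R] x) := fun r x => by
    change (M ◁ ε₀).hom ((α_ M D M).hom.hom ((r • ∑ i, m i ⊗ₜ[R] φ i) ⊗ₜ[R] x)) =
      (r • x) ⊗ₜ[R] (1 : R)
    simp only [Finset.smul_sum, TensorProduct.sum_tmul, map_sum]
    refine (Finset.sum_congr rfl fun i _ => ?_).trans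
      ((TensorProduct.sum_tmul Finset.univ (fun i => r • (φ i x • m i)) (1 : R)).symm.trans
        (by rw [← Finset.smul_sum, hx]))
    rw [TensorProduct.smul_tmul', show (M ◁ ε₀).hom ((α_ M D M).hom.hom (((r • m i) ⊗ₜ[R] φ i) ⊗ₜ[R] x)) =
      (r • m i) ⊗ₜ[R] (φ i x) from rfl]
    rw [smul_comm r (φ i x) (m i), TensorProduct.smul_tmul (φ i x) (r • m i) (1 : R), smul_eq_mul,
      mul_one]
  exact ⟨@HasRightDual.mk _ _ _ M D
    { coevaluation' := η₀
      evaluation' := ε₀
      coevaluation_evaluation' := ModuleCat.hom_ext (TensorProduct.ext' key1)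
      evaluation_coevaluation' := ModuleCat.hom_ext (TensorProduct.ext' key2) }⟩

end Groth.Agent.S17859
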