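import Groth.Statements.S17860
import Groth.Agent.AlgzW.EpiGen

set_option autoImplicit false
open CategoryTheory AlgebraicGeometry
universe u
open Algz

namespace Groth.Agent.S17860

/-- Let `R` be a commutative ring and `M` a finite `R`-module. Suppose `Spec R` is covered by opens `U
0, …, U (m-1)` (not necessarily affine) such that over each `U i` the restriction of the associated
sheaf of modules `M~` is a quotient of the free module of rank `n` (it is generated by `n` sections
over `U i`). Then `M` is generated by `n * m` elements. -/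
theorem result (R : CommRingCat.{u}) (M : ModuleCat.{u} R)
    [Module.Finite R M] (n m : ℕ) (U : Fin m → (Spec R).Opens) (hU : ⨆ i, U i = ⊤)
    (hgen : ∀ i, ∃ φ : FlatMod.freeMod (↑(U i)) n ⟶ (AlgebraicGeometry.tilde M).restrict (U i).ι, Epi φ) :
    ∃ s : Fin (n * m) → M, Submodule.span R (Set.range s) = ⊤ := by
  have key : ∀ k : ℕ, k ≤ m → ∃ v : Fin (k * n) → M,
      ∀ p ∈ Module.support R (M ⧸ Submodule.span R (Set.range v)),
        ∃ j : Fin m, k ≤ (j : ℕ) ∧ p ∈ U j := by
    intro k
    induction k with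
    | zero =>
      intro _
      refine ⟨fun _ => 0, fun p _ => ?_⟩
      obtain ⟨j, hj⟩ := TopologicalSpace.Opens.mem_iSup.1 (hU.ge (trivial : p ∈ (⊤ : (Spec R).Opens)))
      exact ⟨j, Nat.zero_le _, hj⟩
    | succ k ih =>
      intro hk
      obtain ⟨v, hv⟩ := ih (by omega)
      let W : (Spec R).Opens := ⨆ j : {j : Fin m // k + 1 ≤ (j : ℕ)}, U j.1
      let C : Set (PrimeSpectrum R) :=
        Module.support R (M ⧸ Submodule.span R (Set.range v)) ∩ {p | p ∈ W}ᶜ
      have hC : IsClosed C := Module.isClosed_support.inter W.isOpen.isClosed_compl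
      let J : Ideal R := PrimeSpectrum.vanishingIdeal C
      have hJC : PrimeSpectrum.zeroLocus (J : Set R) = C := by
        rw [PrimeSpectrum.zeroLocus_vanishingIdeal_eq_closure, hC.closure_eq]
      have hCU : C ⊆ (U ⟨k, by omega⟩ : Set (Spec R)) := fun p hp => by
        obtain ⟨j, hj, hpj⟩ := hv p hp.1
        rcases hj.eq_or_lt with h | h
        · rw [show (⟨k, by omega⟩ : Fin m) = j from Fin.ext h]
          exact hpj
        · exact absurd (TopologicalSpace.Opens.mem_iSup.2
            (⟨⟨j, h⟩, hpj⟩ : ∃ i : {j : Fin m // k + 1 ≤ (j : ℕ)}, p ∈ U i.1)) hp.2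
      obtain ⟨φ, hφ⟩ := hgen ⟨k, by omega⟩
      obtain ⟨a, ha⟩ := AlgzW.EpiGen.exists_point_of_isOpenImmersion (U ⟨k, by omega⟩).ι J
        (hJC.subset.trans (hCU.trans (Scheme.Opens.range_ι (U ⟨k, by omega⟩)).ge))
      obtain ⟨w, hw⟩ := AlgzW.EpiGen.exists_step M (U ⟨k, by omega⟩).ι
        (φ ≫ ((Scheme.Modules.restrictFunctorIsoPullback (U ⟨k, by omega⟩).ι).app
          (AlgebraicGeometry.tilde M)).hom) v J ha
      have hlen : (k + 1) * n = k * n + n := Nat.succ_mul k n
      refine ⟨w ∘ Fin.cast hlen, fun p hp => ?_⟩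
      rw [show Set.range (w ∘ Fin.cast hlen) = Set.range w from
        (finCongr hlen).surjective.range_comp w] at hp
      by_contra hne
      refine (hw hp).2 (hJC.symm.subset ⟨(hw hp).1, fun hpW => hne ?_⟩)
      obtain ⟨⟨j, hj⟩, hpj⟩ := TopologicalSpace.Opens.mem_iSup.1 hpW
      exact ⟨j, hj, hpj⟩
  obtain ⟨v, hv⟩ := key m le_rfl
  refine ⟨v ∘ Fin.cast (Nat.mul_comm n m), ?_⟩
  rw [show Set.range (v ∘ Fin.cast (Nat.mul_comm n m)) = Set.range v from
    (finCongr (Nat.mul_comm n m)).surjective.range_comp v]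
  have : Subsingleton (M ⧸ Submodule.span R (Set.range v)) := by
    rw [← Module.support_eq_empty_iff (R := R)]
    refine Set.eq_empty_of_forall_notMem fun p hp => ?_
    obtain ⟨j, hj, -⟩ := hv p hp
    exact absurd j.2 (by omega)
  exact Submodule.Quotient.subsingleton_iff.1 this

end Groth.Agent.S17860
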