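import Groth.Statements.S17862
import Groth.Agent.AlgSp.Space
import Groth.Agent.AlgSpPi.Mono
-- import your own Groth.Agent.* helpers here

set_option autoImplicit false
open CategoryTheory AlgebraicGeometry
universe u
open Algz

namespace Groth.Agent.S17862

/-- Let `S` be an affine scheme, `X` a quasi-compact and quasi-separated algebraic space over `S`, and
`A i` a family of commutative rings indexed by an arbitrary type, with a morphism `h` from the
spectrum of the product ring to `S`. Two `S`-morphisms `Spec (Π i, A i) ⟶ X` that agree after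
composition with every `Spec (A i) ⟶ Spec (Π i, A i)` are equal. (For schemes this is the
injectivity half of the corresponding bijection; the algebraic-space case is the one stated here.
Over an affine base, relative and absolute quasi-separatedness agree.) -/
theorem result (S : Scheme.{u}) [IsAffine S]
    (X : AlgSp.Space S) (hqc : AlgSp.IsQuasiCompactSp X.obj) (hqs : AlgSp.IsQuasiSeparatedSp X.obj)
    {ι : Type u} (A : ι → CommRingCat.{u}) (h : Spec (CommRingCat.of (∀ i, A i)) ⟶ S) :
    Function.Injective (fun g : (AlgSp.ofScheme S).obj (Over.mk h) ⟶ X => fun i : ι =>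
      (AlgSp.ofScheme S).map (Over.homMk
        (Spec.map (CommRingCat.ofHom (Pi.evalRingHom (fun j => (A j : Type u)) i)))
        rfl : Over.mk (Spec.map (CommRingCat.ofHom (Pi.evalRingHom (fun j => (A j : Type u)) i)) ≫ h) ⟶
          Over.mk h) ≫ g) := by
  intro g₁ g₂ hg
  apply ObjectProperty.hom_ext
  let T : Over S := Over.mk h
  let pr : ∀ i, Over.mk (Spec.map (CommRingCat.ofHom (Pi.evalRingHom (fun j => (A j : Type u)) i)) ≫ h) ⟶ T :=
    fun i => Over.homMk (Spec.map (CommRingCat.ofHom (Pi.evalRingHom (fun j => (A j : Type u)) i))) rfl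
  have hg' : ∀ i, (AlgSp.yon S).map (pr i) ≫ g₁.hom = (AlgSp.yon S).map (pr i) ≫ g₂.hom :=
    fun i => congrArg (fun f => f.hom) (congrFun hg i)
  let G : (AlgSp.yon S).obj T ⟶ X.obj ⨯ X.obj := Limits.prod.lift g₁.hom g₂.hom
  obtain ⟨hR, hQC⟩ := hqs
  have sq := hR.isPullback G
  let E := hR.pullback G
  let e : E ⟶ T := hR.snd G
  haveI : QuasiCompact e.left := hQC _ _ _ sq
  haveI : LocallyOfFiniteType e.left :=
    (Groth.Agent.AlgSp.repWith_diag_lft X.obj X.property).2 _ _ _ sq
  haveI hm : Mono e.left := (Groth.Agent.AlgSp.repWith_diag_mono X.obj hR).2 _ _ _ sq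
  have hl : ∀ i, ∃ a, a ≫ e = pr i := fun i => by
    have hw : ((AlgSp.yon S).map (pr i) ≫ g₁.hom) ≫ Limits.diag X.obj =
        (AlgSp.yon S).map (pr i) ≫ G := by
      apply Limits.prod.hom_ext
      · simp [G, Limits.prod.lift_fst, Limits.prod.lift_snd]
      · simpa [G, Limits.prod.lift_fst, Limits.prod.lift_snd] using hg' i
    obtain ⟨a, ha⟩ := (AlgSp.yon S).map_surjective (sq.lift _ _ hw)
    refine ⟨a, (AlgSp.yon S).map_injective ?_⟩
    rw [Functor.map_comp, ha]
    exact sq.lift_snd _ _ hw
  choose a ha using hl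
  haveI : IsIso e.left := Groth.Agent.AlgSpPi.isIso_of_mono A e.left (fun i => (a i).left)
    (fun i => congrArg (fun f => f.left) (ha i))
  haveI : IsIso e := by
    haveI : IsIso ((Over.forget S).map e) := (inferInstance : IsIso e.left)
    exact isIso_of_reflects_iso e (Over.forget S)
  haveI : Epi ((AlgSp.yon S).map e) := inferInstance
  refine (cancel_epi ((AlgSp.yon S).map e)).mp ?_
  have h1 := congrArg (fun f => f ≫ Limits.prod.fst) sq.w
  have h2 := congrArg (fun f => f ≫ Limits.prod.snd) sq.w
  simp only [G, Category.assoc, Limits.prod.lift_fst, Limits.prod.lift_snd, Category.comp_id] at h1 h2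
  exact h1.symm.trans h2

end Groth.Agent.S17862
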