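import Groth.Statements.S17863
import Mathlib.RingTheory.AdicCompletion.RingHom
import Mathlib.RingTheory.Spectrum.Prime.RingHom

set_option autoImplicit false
open CategoryTheory AlgebraicGeometry
universe u
open Algz

namespace Groth.Agent.S17863

/-- Let `A` be a commutative ring which is `I`-adically complete for an ideal `I` and let `X` be a
quasi-affine scheme. Then the natural map from `X(A)` to compatible systems in the `X(A/I^n)` is
bijective: two morphisms `Spec A ⟶ X` with the same restriction to every `Spec (A/I^n)` are equal,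
and every family of morphisms `Spec (A/I^n) ⟶ X` compatible with the transition maps `Spec (A/I^n) ⟶
Spec (A/I^(n+1))` is the family of restrictions of a morphism `Spec A ⟶ X`. -/
theorem result (A : Type u) [CommRing A] (I : Ideal A) [IsAdicComplete I A]
    (X : Scheme.{u}) [X.IsQuasiAffine] :
    (∀ f g : Spec (CommRingCat.of A) ⟶ X,
      (∀ n : ℕ, Spec.map (CommRingCat.ofHom (Ideal.Quotient.mk (I ^ n))) ≫ f =
        Spec.map (CommRingCat.ofHom (Ideal.Quotient.mk (I ^ n))) ≫ g) → f = g) ∧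
    (∀ e : ∀ n : ℕ, Spec (CommRingCat.of (A ⧸ I ^ n)) ⟶ X,
      (∀ n : ℕ, Spec.map (CommRingCat.ofHom (Ideal.Quotient.factorPowSucc I n)) ≫ e (n + 1) = e n) →
      ∃ f : Spec (CommRingCat.of A) ⟶ X,
        ∀ n : ℕ, Spec.map (CommRingCat.ofHom (Ideal.Quotient.mk (I ^ n))) ≫ f = e n) := by
  refine ⟨fun f g h => ?_, fun e he => ?_⟩
  · rw [← cancel_mono X.toSpecΓ]
    obtain ⟨φ, hφ⟩ : ∃ φ, Spec.map φ = f ≫ X.toSpecΓ := ⟨_, Spec.map_preimage _⟩
    obtain ⟨ψ, hψ⟩ : ∃ ψ, Spec.map ψ = g ≫ X.toSpecΓ := ⟨_, Spec.map_preimage _⟩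
    rw [← hφ, ← hψ]
    congr 1
    ext x
    have key : ∀ n : ℕ, Ideal.Quotient.mk (I ^ n) (φ.hom x) = Ideal.Quotient.mk (I ^ n) (ψ.hom x) := by
      intro n
      have e1 : φ ≫ CommRingCat.ofHom (Ideal.Quotient.mk (I ^ n)) =
          ψ ≫ CommRingCat.ofHom (Ideal.Quotient.mk (I ^ n)) := by
        apply Spec.map_injective
        rw [Spec.map_comp, Spec.map_comp, hφ, hψ, ← Category.assoc, ← Category.assoc, h n]
      exact congrArg (fun t => t.hom x) e1
    rw [← sub_eq_zero]
    apply IsHausdorff.haus' (I := I)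
    intro n
    rw [SModEq.zero, smul_eq_mul, Ideal.mul_top, ← Ideal.Quotient.eq_zero_iff_mem, map_sub,
      sub_eq_zero]
    exact key n
  · let φ : ∀ n : ℕ, Γ(X, ⊤) ⟶ CommRingCat.of (A ⧸ I ^ n) := fun n =>
      Spec.preimage (e n ≫ X.toSpecΓ)
    have hφ : ∀ n, Spec.map (φ n) = e n ≫ X.toSpecΓ := fun n => Spec.map_preimage _
    have hcomp : ∀ {m : ℕ}, (Ideal.Quotient.factorPow I (strictMono_id.monotone m.le_succ)).comp
        (φ (id (m + 1))).hom = (φ (id m)).hom := by
      intro m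
      have e1 : φ (m + 1) ≫ CommRingCat.ofHom (Ideal.Quotient.factorPowSucc I m) = φ m := by
        apply Spec.map_injective
        rw [Spec.map_comp, hφ, hφ, ← Category.assoc, he m]
      exact congrArg (fun t => t.hom) e1
    let Φ : Γ(X, ⊤) →+* A :=
      IsAdicComplete.StrictMono.liftRingHom I strictMono_id (fun n => (φ n).hom) hcomp
    let g : Spec (CommRingCat.of A) ⟶ Spec Γ(X, ⊤) := Spec.map (CommRingCat.ofHom Φ)
    have hg : ∀ n : ℕ, Spec.map (CommRingCat.ofHom (Ideal.Quotient.mk (I ^ n))) ≫ g =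
        e n ≫ X.toSpecΓ := by
      intro n
      rw [← hφ n, ← Spec.map_comp]
      congr 1
      ext x
      exact IsAdicComplete.StrictMono.mk_liftRingHom I strictMono_id (fun n => (φ n).hom) hcomp x
    have hrange : Set.range g ⊆ Set.range X.toSpecΓ := by
      rintro _ ⟨p, rfl⟩
      obtain ⟨m, hm, hpm⟩ := Ideal.exists_le_maximal p.asIdeal p.isPrime.ne_top
      let q : PrimeSpectrum A := ⟨m, hm.isPrime⟩
      have hIm : I ^ 1 ≤ m := by
        rw [pow_one]
        exact (IsAdicComplete.le_jacobson_bot I).trans (sInf_le ⟨bot_le, hm⟩)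
      obtain ⟨r, hr⟩ : q ∈ Set.range (PrimeSpectrum.comap (Ideal.Quotient.mk (I ^ 1))) := by
        rw [range_comap_of_surjective _ _ Ideal.Quotient.mk_surjective, Ideal.mk_ker]
        exact hIm
      have hq : g q ∈ Set.range X.toSpecΓ := by
        refine ⟨e 1 r, ?_⟩
        rw [← Scheme.Hom.comp_apply, ← hg 1, Scheme.Hom.comp_apply]
        exact congrArg g hr
      have hsp : p ⤳ q := (PrimeSpectrum.le_iff_specializes p q).mp hpm
      exact (hsp.map g.continuous).mem_open X.toSpecΓ.opensRange.2 hq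
    refine ⟨IsOpenImmersion.lift X.toSpecΓ g hrange, fun n => ?_⟩
    rw [← cancel_mono X.toSpecΓ, Category.assoc, IsOpenImmersion.lift_fac, hg n]

end Groth.Agent.S17863
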