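import Groth.Statements.S5078
import Mathlib.RingTheory.Finiteness.Projective


set_option autoImplicit false
universe u v
open Hensel

namespace Groth.Agent.S5078

/-- Let A be a ring, I an ideal such that A is I-adically separated and complete, and M a finitely
generated projective A-module. Then M is I-adically separated and complete. -/
theorem result {A : Type u} [CommRing A] (I : Ideal A) [IsAdicComplete I A]
    (M : Type v) [AddCommGroup M] [Module A M] [Module.Finite A M] [Module.Projective A M] :
    IsAdicComplete I M := by
  obtain ⟨n, f, g, -, -, hfg⟩ := Module.Finite.exists_comp_eq_id_of_projective A M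
  haveI : IsPrecomplete I M :=
    ⟨fun s hs => by
      have hs' : ∀ i : Fin n, ∀ {a b}, a ≤ b → g (s a) i ≡ g (s b) i [SMOD (I ^ a • ⊤ : Submodule A A)] :=
        fun i a b hab => by
          have := ((hs hab).map ((LinearMap.proj i).comp g))
          rw [Submodule.map_smul''] at this
          exact this.mono (Submodule.smul_mono le_rfl le_top)
      choose L hL using fun i => IsPrecomplete.prec' (I := I) (fun a => g (s a) i) (fun {a b} => hs' i)
      refine ⟨f L, fun a => ?_⟩
      have h1 : g (s a) ≡ L [SMOD (I ^ a • ⊤ : Submodule A (Fin n → A))] := by
        rw [SModEq.sub_mem, ← Finset.univ_sum_single (g (s a) - L)]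
        refine Submodule.sum_mem _ fun i _ => ?_
        have h2 := SModEq.sub_mem.1 (hL i a)
        rw [smul_eq_mul, Ideal.mul_top] at h2
        have : Pi.single i ((g (s a) - L) i) = ((g (s a) - L) i) • (Pi.single i 1 : Fin n → A) := by
          rw [← Pi.single_smul, smul_eq_mul, mul_one]
        rw [this]
        exact Submodule.smul_mem_smul h2 Submodule.mem_top
      have h3 := h1.map f
      rw [Submodule.map_smul'', show f (g (s a)) = s a from LinearMap.congr_fun hfg _] at h3
      exact h3.mono (Submodule.smul_mono le_rfl le_top)⟩
  haveI : IsHausdorff I M :=
    ⟨fun x hx => by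
      have : g x = 0 := by
        funext i
        refine IsHausdorff.haus (inferInstance : IsHausdorff I A) _ fun a => ?_
        have h1 := (hx a).map ((LinearMap.proj i).comp g)
        rw [Submodule.map_smul'', map_zero] at h1
        exact h1.mono (Submodule.smul_mono le_rfl le_top)
      have h1 := LinearMap.congr_fun hfg x
      rw [LinearMap.comp_apply, this, map_zero] at h1
      exact h1.symm⟩
  exact ⟨⟩

end Groth.Agent.S5078
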