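import Groth.Statements.S17864
import Groth.Agent.S5078
import Mathlib.RingTheory.AdicCompletion.Basic
-- import your own Groth.Agent.* helpers here

set_option autoImplicit false
universe u
open Algz

namespace Groth.Agent.S17864

/-- The full-faithfulness assertion. Let `A` be a commutative ring which is `I`-adically complete for an
ideal `I`, and `P`, `Q` finitely generated projective `A`-modules. An `A`-linear map `P → Q` is
determined by its reductions modulo the powers `I^n`, and every family of `A`-linear maps `P/I^n P →
Q/I^n Q` compatible with the transition maps is the family of reductions of an `A`-linear map `P →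
Q`. (The companion assertion, that compatible systems of finite projective modules over the rings
`A/I^n` lift to `A`, is not restated here.) -/
theorem result (A : Type u) [CommRing A] (I : Ideal A)
    [IsAdicComplete I A] (P Q : Type u) [AddCommGroup P] [Module A P] [Module.Finite A P]
    [Module.Projective A P] [AddCommGroup Q] [Module A Q] [Module.Finite A Q] [Module.Projective A Q] :
    (∀ f f' : P →ₗ[A] Q, (∀ n : ℕ, f.reduceModIdeal (I ^ n) = f'.reduceModIdeal (I ^ n)) → f = f') ∧
    (∀ g : ∀ n : ℕ, P ⧸ (I ^ n • ⊤ : Submodule A P) →ₗ[A] Q ⧸ (I ^ n • ⊤ : Submodule A Q),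
      (∀ n : ℕ, AdicCompletion.transitionMap I Q (Nat.le_succ n) ∘ₗ g (n + 1) =
        g n ∘ₗ AdicCompletion.transitionMap I P (Nat.le_succ n)) →
      ∃ f : P →ₗ[A] Q, ∀ n : ℕ, f.reduceModIdeal (I ^ n) = g n) := by
  have hQ : IsAdicComplete I Q := Groth.Agent.S5078.result I Q
  constructor
  · intro f f' h
    refine LinearMap.ext fun x => ?_
    refine sub_eq_zero.1 (hQ.toIsHausdorff.haus _ fun n => ?_)
    rw [SModEq.zero, ← Submodule.Quotient.mk_eq_zero, Submodule.Quotient.mk_sub, sub_eq_zero]
    exact LinearMap.congr_fun (h n) (Submodule.Quotient.mk x)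
  · intro g hg
    let F : ∀ n, P →ₗ[A] Q ⧸ (I ^ n • ⊤ : Submodule A Q) := fun n =>
      (g n).comp (Submodule.mkQ _)
    have hstep : ∀ n x, AdicCompletion.transitionMap I Q (Nat.le_succ n) (F (n + 1) x) = F n x := by
      intro n x
      exact LinearMap.congr_fun (hg n) (Submodule.Quotient.mk x)
    have hF : ∀ {m n : ℕ} (hle : m ≤ n), Submodule.factorPow I Q hle ∘ₗ F n = F m := by
      intro m n hle
      induction n, hle using Nat.le_induction with
      | base =>
        refine LinearMap.ext fun x => ?_
        obtain ⟨y, hy⟩ := Submodule.Quotient.mk_surjective _ (F m x)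
        rw [LinearMap.comp_apply, ← hy]
        rfl
      | succ n hle ih =>
        refine LinearMap.ext fun x => ?_
        refine Eq.trans ?_ (LinearMap.congr_fun ih x)
        change _ = Submodule.factorPow I Q hle (F n x)
        rw [← hstep n x]
        change Submodule.factorPow I Q (hle.trans (Nat.le_succ n)) (F (n + 1) x) = _
        obtain ⟨y, hy⟩ := Submodule.Quotient.mk_surjective _ (F (n + 1) x)
        rw [← hy]
        rfl
    refine ⟨IsAdicComplete.lift I F hF, fun n => ?_⟩
    refine LinearMap.ext fun x => ?_
    obtain ⟨x, rfl⟩ := Submodule.Quotient.mk_surjective _ x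
    exact IsAdicComplete.mk_lift I hF n x

end Groth.Agent.S17864
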