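import Groth.Statements.S17865
import Mathlib.AlgebraicGeometry.Morphisms.FinitePresentation
import Mathlib.AlgebraicGeometry.PullbackCarrier

set_option autoImplicit false
open CategoryTheory AlgebraicGeometry
universe u
open Algz

namespace Groth.Agent.S17865

/-- In the case of schemes. Let `f : U ⟶ Y` be a Nisnevich cover of length at most `m` of quasi-compact
quasi-separated schemes (an etale morphism together with a chain of `m` closed constructible subsets
`∅ = Z_0 ⊆ ⋯ ⊆ Z_m = Y` such that `f` has a section over each `Z_(k+1) ∖ Z_k`), and `g : Y' ⟶ Y` a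
morphism from a quasi-compact quasi-separated scheme. Then the base change `U ×_Y Y' ⟶ Y'` is a
Nisnevich cover of length at most `m`. (The original form is for quasi-compact quasi-separated
algebraic spaces; stated here for schemes.) -/
theorem result {U Y Y' : Scheme.{u}} (f : U ⟶ Y) (g : Y' ⟶ Y)
    [CompactSpace U] [QuasiSeparatedSpace U] [CompactSpace Y] [QuasiSeparatedSpace Y]
    [CompactSpace Y'] [QuasiSeparatedSpace Y'] (m : ℕ)
    (hf : W4c5algebraiztannaka.IsNisCoverLen f m) :
    W4c5algebraiztannaka.IsNisCoverLen (Limits.pullback.snd f g) m := by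
  obtain ⟨he, Z, h0, h1, hm, hc, hs⟩ := hf
  refine ⟨MorphismProperty.pullback_snd f g he, fun k => g ⁻¹' Z k, ?_, ?_, fun a b h => Set.preimage_mono (hm h),
    fun k => ⟨(hc k).1.preimage g.continuous, g.isConstructible_preimage (hc k).2⟩, fun k => ?_⟩
  · simp [h0]
  · simp [h1]
  · obtain ⟨T, i, t, hi, hr, ht⟩ := hs k
    let q := Limits.pullback.snd i g
    refine ⟨Limits.pullback i g, q,
      Limits.pullback.lift (Limits.pullback.fst i g ≫ t) q ?_, inferInstance, ?_,
      Limits.pullback.lift_snd _ _ _⟩
    · rw [Category.assoc, ht, Limits.pullback.condition]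
    · exact (Scheme.Pullback.range_snd (f := i) (g := g)).trans
        ((congrArg (g ⁻¹' ·) hr).trans (Set.preimage_sdiff _ _ _))

end Groth.Agent.S17865
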