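import Groth.Statements.S17866
import Mathlib
import Groth.Agent.ConstrLib.Basic

set_option autoImplicit false
open CategoryTheory AlgebraicGeometry
universe u
open Algz

namespace Groth.Agent.S17866

open CategoryTheory CategoryTheory.Limits Set Topology AlgebraicGeometry

/-- The stratum containing a point of a flag. -/
theorem exists_stratum {α : Type u} {m : ℕ} (Z : Fin (m + 1) → Set α) (h0 : Z 0 = ∅)
    (k : Fin (m + 1)) {a : α} (ha : a ∈ Z k) :
    ∃ i : Fin m, i.val < k.val ∧ a ∈ Z i.succ \ Z i.castSucc := by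
  induction k using Fin.induction with
  | zero => rw [h0] at ha; exact ha.elim
  | succ i ih =>
    by_cases h : a ∈ Z i.castSucc
    · obtain ⟨i', hi', h'⟩ := ih h
      exact ⟨i', by simp only [Fin.val_succ, Fin.val_castSucc] at hi' ⊢; omega, h'⟩
    · exact ⟨i, by simp, ha, h⟩

theorem stratum_unique {α : Type u} {m : ℕ} {Z : Fin (m + 1) → Set α} (hZ : Monotone Z)
    {i i' : Fin m} {a : α} (h : a ∈ Z i.succ \ Z i.castSucc) (h' : a ∈ Z i'.succ \ Z i'.castSucc) :
    i = i' := by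
  rcases lt_trichotomy i i' with hl | rfl | hl
  · exact absurd (hZ (Fin.le_def.2 (by simpa using hl)) h.1) h'.2
  · rfl
  · exact absurd (hZ (Fin.le_def.2 (by simpa using hl)) h'.1) h.2

/-- The image in `Y` of a closed constructible subset pulled back to a constructible subscheme. -/
theorem isConstructible_image {T X Y : Scheme.{u}} [CompactSpace X] [QuasiSeparatedSpace X]
    [CompactSpace Y] [QuasiSeparatedSpace Y] (g : T ⟶ Y) (s : T ⟶ X) [IsImmersion g]
    (hW : IsConstructible (range g)) {Z : Set X} (hZc : IsClosed Z) (hZ : IsConstructible Z) :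
    IsConstructible (g '' (s ⁻¹' Z)) := by
  have hWc : IsCompact (range g) := by
    simpa using ConstrLib.isRetrocompact_of_isConstructible hW isCompact_univ isOpen_univ
  haveI : CompactSpace T :=
    ⟨(g.isEmbedding.isInducing.isCompact_iff).2 (by rwa [image_univ])⟩
  haveI : QuasiCompact s := inferInstance
  have hc : IsCompact Zᶜ := by
    simpa using ConstrLib.isRetrocompact_of_isConstructible hZ.compl isCompact_univ isOpen_univ
  have hA : IsCompact (g '' (s ⁻¹' Zᶜ)) :=
    (s.isCompact_preimage (U := ⟨Zᶜ, hZc.isOpen_compl⟩) hc).image g.continuous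
  obtain ⟨O, hO, hO'⟩ := g.isEmbedding.isInducing.isOpen_iff.1
    (hZc.isOpen_compl.preimage s.continuous)
  obtain ⟨V, hVo, hVc, hAV, hVO⟩ := ConstrLib.exists_compact_open_between hA hO (by
    rintro _ ⟨t, ht, rfl⟩
    rw [← hO'] at ht
    exact ht)
  have e : g '' (s ⁻¹' Z) = range g \ V := by
    ext y
    constructor
    · rintro ⟨t, ht, rfl⟩
      refine ⟨⟨t, rfl⟩, fun hV => ?_⟩
      have : t ∈ g ⁻¹' O := hVO hV
      rw [hO'] at this
      exact this ht
    · rintro ⟨⟨t, rfl⟩, hy⟩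
      exact ⟨t, by_contra fun ht => hy (hAV ⟨t, ht, rfl⟩), rfl⟩
  rw [e]
  exact hW.sdiff (hVc.isConstructible hVo)

/-- In the case of schemes. Let `g₁ : Y₁ ⟶ Y₂` and `g₂ : Y₂ ⟶ Y₃` be Nisnevich covers of quasi-compact
quasi-separated schemes of lengths at most `m₁` and `m₂` respectively. Then `g₁ ≫ g₂` is a Nisnevich
cover of length at most `m₁ * m₂`. (The original form is for quasi-compact quasi-separated algebraic
spaces; stated here for schemes.) -/
theorem result {Y₁ Y₂ Y₃ : Scheme.{u}} (g₁ : Y₁ ⟶ Y₂) (g₂ : Y₂ ⟶ Y₃)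
    [CompactSpace Y₁] [QuasiSeparatedSpace Y₁] [CompactSpace Y₂] [QuasiSeparatedSpace Y₂]
    [CompactSpace Y₃] [QuasiSeparatedSpace Y₃] (m₁ m₂ : ℕ)
    (h₁ : W4c5algebraiztannaka.IsNisCoverLen g₁ m₁) (h₂ : W4c5algebraiztannaka.IsNisCoverLen g₂ m₂) :
    W4c5algebraiztannaka.IsNisCoverLen (g₁ ≫ g₂) (m₁ * m₂) := by
  obtain ⟨h1e, Z, hZ0, hZ1, hZm, hZc, hZs⟩ := h₁
  obtain ⟨h2e, Z', hZ'0, hZ'1, hZ'm, hZ'c, hZ's⟩ := h₂
  choose T g s hg hgr hs using hZ's
  have hW : ∀ j, IsConstructible (range (g j)) := fun j => by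
    rw [show range (g j) = _ from hgr j]
    exact (hZ'c _).2.sdiff (hZ'c _).2
  let piece : Fin m₂ → Fin m₁ → Set Y₃ := fun j i => g j '' (s j ⁻¹' (Z i.succ \ Z i.castSucc))
  let F : Fin (m₁ * m₂ + 1) → Set Y₃ := fun n =>
    {y | ∃ j i, j.val * m₁ + i.val < n.val ∧ y ∈ piece j i}
  have hcover : ∀ j y, y ∈ range (g j) → ∃ i, y ∈ piece j i := by
    rintro j _ ⟨t, rfl⟩
    obtain ⟨i, -, hi⟩ := exists_stratum Z hZ0 (Fin.last m₁) (a := s j t) (by rw [hZ1]; trivial)
    exact ⟨i, t, hi, rfl⟩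
  have hlt : ∀ (j : Fin m₂) (i : Fin m₁), j.val * m₁ + i.val < m₁ * m₂ := fun j i => by
    calc j.val * m₁ + i.val < j.val * m₁ + m₁ := by omega
      _ = (j.val + 1) * m₁ := by ring
      _ ≤ m₂ * m₁ := Nat.mul_le_mul_right _ j.2
      _ = m₁ * m₂ := Nat.mul_comm _ _
  have huniq : ∀ j i j' i' y, y ∈ piece j i → y ∈ piece j' i' → j = j' ∧ i = i' := by
    rintro j i j' i' y ⟨t, ht, rfl⟩ ⟨t', ht', he⟩
    have hj : j = j' := stratum_unique hZ'm
      (show g j t ∈ _ from (hgr j).le ⟨t, rfl⟩) (by rw [← he]; exact (hgr j').le ⟨t', rfl⟩)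
    subst hj
    rw [(g j).isEmbedding.injective he] at ht'
    exact ⟨rfl, stratum_unique hZm ht ht'⟩
  have hdiv : ∀ n, n < m₁ * m₂ → ∃ (j : Fin m₂) (i : Fin m₁), j.val * m₁ + i.val = n := by
    intro n hn
    have hm : 0 < m₁ := Nat.pos_of_ne_zero fun h => by simp [h] at hn
    exact ⟨⟨n / m₁, Nat.div_lt_of_lt_mul hn⟩, ⟨n % m₁, Nat.mod_lt _ hm⟩, Nat.div_add_mod' n m₁⟩
  have hlex : ∀ (j : Fin m₂) (i : Fin m₁) (j' : Fin m₂) (i' : Fin m₁),
      j'.val * m₁ + i'.val < j.val * m₁ + i.val ↔ j' < j ∨ j' = j ∧ i' < i := by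
    intro j i j' i'
    rcases lt_trichotomy j' j with h | rfl | h
    · refine iff_of_true ?_ (Or.inl h)
      calc j'.val * m₁ + i'.val < (j'.val + 1) * m₁ := by rw [add_mul, one_mul]; omega
        _ ≤ j.val * m₁ := Nat.mul_le_mul_right _ h
        _ ≤ _ := Nat.le_add_right _ _
    · simp
    · refine iff_of_false (not_lt.2 ?_) (by rintro (h' | ⟨h', -⟩) <;> omega)
      calc j.val * m₁ + i.val ≤ (j.val + 1) * m₁ := by rw [add_mul, one_mul]; omega
        _ ≤ j'.val * m₁ := Nat.mul_le_mul_right _ h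
        _ ≤ _ := Nat.le_add_right _ _
  have hform : ∀ (n : Fin (m₁ * m₂ + 1)) (j : Fin m₂) (i : Fin m₁), j.val * m₁ + i.val = n.val →
      F n = Z' j.castSucc ∪ g j '' (s j ⁻¹' Z i.castSucc) := by
    intro n j i hn
    ext y
    constructor
    · rintro ⟨j', i', hl, t, ht, rfl⟩
      rw [← hn, hlex] at hl
      rcases hl with hl | ⟨rfl, hl⟩
      · exact Or.inl (hZ'm (Fin.le_def.2 (by simpa using hl)) ((hgr j').le ⟨t, rfl⟩).1)
      · exact Or.inr ⟨t, hZm (Fin.le_def.2 (by simpa using hl)) ht.1, rfl⟩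
    · rintro (hy | ⟨t, ht, rfl⟩)
      · obtain ⟨j', hj', hy'⟩ := exists_stratum Z' hZ'0 _ hy
        obtain ⟨i', hi'⟩ := hcover j' y ((hgr j').ge hy')
        exact ⟨j', i', by rw [← hn, hlex]; exact Or.inl (by simpa using hj'), hi'⟩
      · obtain ⟨i', hi', hy'⟩ := exists_stratum Z hZ0 _ (show s j t ∈ Z i.castSucc from ht)
        exact ⟨j, i', by rw [← hn, hlex]; exact Or.inr ⟨rfl, by simpa using hi'⟩, t, hy', rfl⟩
  have htop : F (Fin.last _) = univ := eq_univ_of_forall fun y => by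
    obtain ⟨j, -, hy⟩ := exists_stratum Z' hZ'0 (Fin.last m₂) (a := y) (by rw [hZ'1]; trivial)
    obtain ⟨i, hi⟩ := hcover j y ((hgr j).ge hy)
    exact ⟨j, i, hlt j i, hi⟩
  haveI := h1e; haveI := h2e
  refine ⟨inferInstance, F, ?_, htop, ?_, fun n => ?_, fun k => ?_⟩
  · exact eq_empty_of_forall_notMem fun y ⟨j, i, h, _⟩ => by simp at h
  · rintro a b hab y ⟨j, i, h, hy⟩
    exact ⟨j, i, h.trans_le hab, hy⟩
  · rcases (Nat.lt_succ_iff.1 n.2).lt_or_eq with hn | hn
    · obtain ⟨j, i, hji⟩ := hdiv _ hn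
      rw [hform n j i hji]
      refine ⟨?_, (hZ'c _).2.union (isConstructible_image (g j) (s j) (hW j) (hZc _).1 (hZc _).2)⟩
      have hcl : closure (g j '' (s j ⁻¹' Z i.castSucc)) ⊆
          Z' j.castSucc ∪ g j '' (s j ⁻¹' Z i.castSucc) := by
        intro y hy
        by_cases hy0 : y ∈ Z' j.castSucc
        · exact Or.inl hy0
        have hy1 : y ∈ Z' j.succ := closure_minimal
          (by rintro _ ⟨t, -, rfl⟩; exact ((hgr j).le ⟨t, rfl⟩).1) (hZ'c _).1 hy
        obtain ⟨t, rfl⟩ := (hgr j).ge ⟨hy1, hy0⟩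
        refine Or.inr ⟨t, ?_, rfl⟩
        have := (g j).isEmbedding.isInducing.closure_eq_preimage_closure_image (s j ⁻¹' Z i.castSucc)
        rw [((hZc i.castSucc).1.preimage (s j).continuous).closure_eq] at this
        rw [this]
        exact hy
      refine isClosed_of_closure_subset ?_
      rw [closure_union, (hZ'c _).1.closure_eq]
      exact union_subset subset_union_left hcl
    · rw [show n = Fin.last _ from Fin.ext hn, htop]
      exact ⟨isClosed_univ, .univ⟩
  · obtain ⟨j, i, hji⟩ := hdiv k.val k.2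
    obtain ⟨T₁, g', s', hg', hg'r, hs'⟩ := hZs i
    haveI := hg j
    refine ⟨pullback (s j) g', pullback.fst (s j) g' ≫ g j, pullback.snd (s j) g' ≫ s',
      inferInstance, ?_, ?_⟩
    · have : F k.succ \ F k.castSucc = piece j i := by
        ext y
        constructor
        · rintro ⟨⟨j', i', h, hy⟩, hn⟩
          have : j'.val * m₁ + i'.val = j.val * m₁ + i.val := by
            by_contra hne
            exact hn ⟨j', i', by simp only [Fin.val_succ, Fin.val_castSucc] at h ⊢; omega, hy⟩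
          have hj : j' = j ∧ i' = i := by
            have h1 := mt (hlex j i j' i').2 (by omega)
            have h2 := mt (hlex j' i' j i).2 (by omega)
            push Not at h1 h2
            have e : j' = j := le_antisymm h2.1 h1.1
            exact ⟨e, le_antisymm (h2.2 e.symm) (h1.2 e)⟩
          rwa [hj.1, hj.2] at hy
        · refine fun hy => ⟨⟨j, i, by simp [hji], hy⟩, fun ⟨j', i', h, hy'⟩ => ?_⟩
          obtain ⟨rfl, rfl⟩ := huniq j i j' i' y hy hy'
          simp [hji] at h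
      rw [this]
      change range ((pullback.fst (s j) g' ≫ g j).base) = _
      rw [Scheme.Hom.comp_base, TopCat.coe_comp, range_comp, Scheme.Pullback.range_fst]
      simp only [piece]
      rw [← hg'r]
    · rw [Category.assoc, reassoc_of% hs', ← pullback.condition_assoc, hs j]

end Groth.Agent.S17866
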