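import Groth.Statements.S17867
import Groth.Agent.AlgzW.EpiGen

set_option autoImplicit false
open CategoryTheory AlgebraicGeometry
universe u
open Algz

namespace Groth.Agent.S17867

/-- In the case of schemes. Let `R` be a commutative ring and `f : U ⟶ Spec R` a Nisnevich cover of
length at most `m`, with `U` a quasi-compact quasi-separated scheme, and let `M` be a finite
`R`-module. If the pullback `f^* M~` of the associated sheaf of modules is a quotient of the free
module of rank `N` on `U` (it is generated by `N` global sections), then `M` is generated by `N * m`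
elements. (Finite generation of `M` follows from the other hypotheses by faithfully flat descent and
is assumed here; the original form is for a Nisnevich cover by a quasi-compact quasi-separated
algebraic space, stated here for a scheme `U`.) -/
theorem result (R : CommRingCat.{u}) (M : ModuleCat.{u} R)
    [Module.Finite R M] {U : Scheme.{u}} [CompactSpace U] [QuasiSeparatedSpace U]
    (f : U ⟶ Spec R) (m N : ℕ) (hf : W4c5algebraiztannaka.IsNisCoverLen f m)
    (hgen : ∃ φ : FlatMod.freeMod U N ⟶ (Scheme.Modules.pullback f).obj (AlgebraicGeometry.tilde M), Epi φ) :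
    ∃ s : Fin (N * m) → M, Submodule.span R (Set.range s) = ⊤ := by
  obtain ⟨φ, hφ⟩ := hgen
  obtain ⟨Z, h0, hm, -, hZ, hsect⟩ := hf.flag
  have key : ∀ k : Fin (m + 1), ∃ v : Fin ((k : ℕ) * N) → M,
      ∀ p ∈ Module.support R (M ⧸ Submodule.span R (Set.range v)), p ∉ Z k := by
    intro k
    induction k using Fin.induction with
    | zero => exact ⟨fun _ => 0, fun p _ hp => by rw [h0] at hp; exact hp.elim⟩
    | succ k ih =>
      obtain ⟨v, hv⟩ := ih
      let C : Set (PrimeSpectrum R) :=
        Module.support R (M ⧸ Submodule.span R (Set.range v)) ∩ Z k.succ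
      have hC : IsClosed C := Module.isClosed_support.inter (hZ _).1
      let J : Ideal R := PrimeSpectrum.vanishingIdeal C
      have hJC : PrimeSpectrum.zeroLocus (J : Set R) = C := by
        rw [PrimeSpectrum.zeroLocus_vanishingIdeal_eq_closure, hC.closure_eq]
      obtain ⟨a, ha⟩ := AlgzW.EpiGen.exists_point_of_hasSectOver f (hsect k) J
        (PrimeSpectrum.isRadical_vanishingIdeal C)
        (hJC.subset.trans fun p hp => ⟨hp.2, hv p hp.1⟩)
      obtain ⟨w, hw⟩ := AlgzW.EpiGen.exists_step M f φ v J ha
      have hlen : ((k.succ : ℕ) * N) = (k.castSucc : ℕ) * N + N := by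
        rw [Fin.val_succ, Nat.succ_mul]; rfl
      refine ⟨w ∘ Fin.cast hlen, fun p hp hpZ => ?_⟩
      rw [show Set.range (w ∘ Fin.cast hlen) = Set.range w from
        (finCongr hlen).surjective.range_comp w] at hp
      exact (hw hp).2 (hJC.symm.subset ⟨(hw hp).1, hpZ⟩)
  obtain ⟨v, hv⟩ := key (Fin.last m)
  have hlen : N * m = (Fin.last m : ℕ) * N := by rw [Fin.val_last, Nat.mul_comm]
  refine ⟨v ∘ Fin.cast hlen, ?_⟩
  rw [show Set.range (v ∘ Fin.cast hlen) = Set.range v from (finCongr hlen).surjective.range_comp v]
  have : Subsingleton (M ⧸ Submodule.span R (Set.range v)) := by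
    rw [← Module.support_eq_empty_iff (R := R)]
    exact Set.eq_empty_of_forall_notMem fun p hp => hv p hp (by rw [hm]; trivial)
  exact Submodule.Quotient.subsingleton_iff.1 this

end Groth.Agent.S17867
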