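import Groth.Statements.S17869
import Mathlib.AlgebraicGeometry.IdealSheaf.Subscheme
import Mathlib.AlgebraicGeometry.Morphisms.Etale
import Mathlib.AlgebraicGeometry.Morphisms.Immersion

set_option autoImplicit false
open CategoryTheory AlgebraicGeometry
universe u
open Algz

namespace Groth.Agent.S17869

/-- In the case of schemes. Let `U` be a quasi-compact quasi-separated scheme and `V 0, …, V (k-1)`
quasi-compact open subschemes which cover `U`. Then the canonical morphism from the disjoint union
`∐ V i` to `U` is a Nisnevich cover of length at most `k`. (The published example states more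
generally that, for a Nisnevich cover of `Y` of length at most `m` with source `U`, the composite
from the disjoint union `∐ V i` to `Y` has length at most `m * k`; stated here is the case of the
identity of `U`, to which the published argument reduces, and the general bound follows by composing
Nisnevich covers. The original form is for quasi-compact quasi-separated algebraic spaces, with the
members of the cover quasi-compact; stated here for schemes.) -/
theorem result {U : Scheme.{u}} [CompactSpace U] [QuasiSeparatedSpace U]
    (k : ℕ) (V : Fin k → U.Opens) (hV : ∀ i, IsCompact (V i : Set U)) (hcov : ⨆ i, V i = ⊤) :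
    W4c5algebraiztannaka.IsNisCoverLen
      (Limits.Sigma.desc (fun i => (V i).ι) : (∐ fun i => ((V i : U.Opens) : Scheme.{u})) ⟶ U) k := by
  classical
  let O : Fin (k + 1) → U.Opens := fun j => ⨆ i : {i : Fin k // j.val ≤ i.val}, V i.1
  have hO : ∀ j, IsCompact (O j : Set U) := fun j => by
    change IsCompact (((⨆ i : {i : Fin k // j.val ≤ i.val}, V i.1 : U.Opens)) : Set U)
    rw [TopologicalSpace.Opens.coe_iSup]
    exact isCompact_iUnion fun i => hV i.1
  have hmono : ∀ a b : Fin (k + 1), a ≤ b → O b ≤ O a := fun a b hab =>
    iSup_le fun i => le_iSup_of_le ⟨i.1, le_trans (Fin.le_def.1 hab) i.2⟩ le_rfl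
  refine ⟨IsZariskiLocalAtSource.sigmaDesc fun i => inferInstance,
    fun j => (O j : Set U)ᶜ, ?_, ?_, fun a b hab => Set.compl_subset_compl.2 (hmono a b hab),
    fun j => ⟨(O j).isOpen.isClosed_compl, ((hO j).isConstructible (O j).isOpen).compl⟩, fun j => ?_⟩
  · have : O 0 = ⊤ := by
      rw [← hcov]
      exact le_antisymm (iSup_le fun i => le_iSup V i.1) (iSup_le fun i => le_iSup_of_le ⟨i, Nat.zero_le _⟩ le_rfl)
    simp [this]
  · have : O (Fin.last k) = ⊥ := le_bot_iff.1 (iSup_le fun i => absurd i.2 (by
      have := i.1.2; simp only [Fin.val_last]; omega))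
    simp [this]
  · let X : Scheme.{u} := (V j : U.Opens)
    let C : TopologicalSpace.Closeds X :=
      ⟨(V j).ι ⁻¹' (O j.succ : Set U)ᶜ, (O j.succ).isOpen.isClosed_compl.preimage (V j).ι.continuous⟩
    let I := Scheme.IdealSheafData.vanishingIdeal C
    refine ⟨I.subscheme, I.subschemeι ≫ (V j).ι,
      I.subschemeι ≫ Limits.Sigma.ι (fun i => ((V i : U.Opens) : Scheme.{u})) j, inferInstance,
      ?_, by rw [Category.assoc, Limits.Sigma.ι_desc]⟩
    refine (Set.range_comp (V j).ι I.subschemeι).trans ?_
    rw [Scheme.IdealSheafData.range_subschemeι, Scheme.IdealSheafData.coe_support_vanishingIdeal]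
    ext x
    constructor
    · rintro ⟨y, hy, rfl⟩
      refine ⟨hy, fun hn => hn ?_⟩
      exact TopologicalSpace.Opens.mem_iSup.2 ⟨⟨j, le_rfl⟩, y.2⟩
    · rintro ⟨hx, hx'⟩
      simp only [Set.mem_compl_iff, not_not] at hx'
      obtain ⟨i, hi⟩ := TopologicalSpace.Opens.mem_iSup.1 hx'
      have hij : i.1 = j := by
        by_contra hne
        refine hx (TopologicalSpace.Opens.mem_iSup.2 ⟨⟨i.1, ?_⟩, hi⟩)
        have := i.2
        have : i.1.val ≠ j.val := fun e => hne (Fin.ext e)
        simp only [Fin.val_succ, Fin.val_castSucc] at *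
        omega
      exact ⟨⟨x, hij ▸ hi⟩, hx, rfl⟩

end Groth.Agent.S17869
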