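import Groth.Statements.S17868
import Groth.Agent.AlgzW.UniformCover
import Groth.Agent.S17865
import Groth.Agent.S17866
import Groth.Agent.S17869

set_option autoImplicit false
open CategoryTheory AlgebraicGeometry
universe u
open Algz

namespace Groth.Agent.S17868

/-- In the case of schemes with an affine source. Let `f : U ⟶ Y` be a Nisnevich cover of length at most
`m'` with `U` affine and `Y` quasi-compact quasi-separated. There is a natural number `m` such that
for every commutative ring `B` and every morphism `g : Spec B ⟶ Y` there exist an affine scheme `V`,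
a Nisnevich cover `v : V ⟶ Spec B` of length at most `m`, and a morphism `w : V ⟶ U` over `Y` (that
is, `w ≫ f = v ≫ g`). (The original form allows `U` to be any quasi-compact quasi-separated
algebraic space; `U` is taken affine here, which makes `f` quasi-affine.) -/
theorem result {U Y : Scheme.{u}} [IsAffine U]
    [CompactSpace Y] [QuasiSeparatedSpace Y] (f : U ⟶ Y) (m' : ℕ)
    (hf : W4c5algebraiztannaka.IsNisCoverLen f m') :
    ∃ m : ℕ, ∀ (B : CommRingCat.{u}) (g : Spec B ⟶ Y),
      ∃ (V : Scheme.{u}) (_ : IsAffine V) (v : V ⟶ Spec B) (w : V ⟶ U),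
        W4c5algebraiztannaka.IsNisCoverLen v m ∧ w ≫ f = v ≫ g := by
  haveI : QuasiCompact f := quasiCompact_of_compactSpace f
  haveI : QuasiSeparated f := inferInstance
  obtain ⟨k, hk⟩ := AlgzW.UniformCover.exists_uniform f
  refine ⟨k * m', fun B g => ?_⟩
  obtain ⟨W, hW, hcov⟩ := hk B g
  haveI : CompactSpace (Limits.pullback f g : Scheme.{u}) :=
    QuasiCompact.compactSpace_of_compactSpace (Limits.pullback.snd f g)
  haveI : QuasiSeparatedSpace (Limits.pullback f g : Scheme.{u}) :=
    quasiSeparatedSpace_of_quasiSeparated (Limits.pullback.snd f g)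
  have h1 : W4c5algebraiztannaka.IsNisCoverLen (Limits.pullback.snd f g) m' :=
    Groth.Agent.S17865.result f g m' hf
  have h2 := Groth.Agent.S17869.result (U := Limits.pullback f g) k W
    (fun i => (hW i).isCompact) hcov
  haveI : ∀ i, IsAffine ((W i).toScheme) := hW
  haveI : IsAffine (∐ fun i => ((W i).toScheme : Scheme.{u})) := inferInstance
  refine ⟨∐ fun i => ((W i).toScheme : Scheme.{u}), inferInstance,
    Limits.Sigma.desc (fun i => (W i).ι) ≫ Limits.pullback.snd f g,
    Limits.Sigma.desc (fun i => (W i).ι) ≫ Limits.pullback.fst f g,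
    Groth.Agent.S17866.result _ _ k m' h2 h1, ?_⟩
  rw [Category.assoc, Category.assoc, Limits.pullback.condition]

end Groth.Agent.S17868
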