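import Groth.Statements.S17872
import Mathlib.Algebra.Polynomial.Roots
import Mathlib.LinearAlgebra.Dual.Lemmas

set_option autoImplicit false
universe u v
open GRRSing

namespace Groth.Agent.S17872

/-- Let H be a vector space over a field K and let b_0, …, b_l be elements of H. If the sum of the t ^ i
• b_i vanishes for infinitely many scalars t of K, then all the b_i are zero. -/
theorem result {K : Type u} {H : Type v} [Field K] [AddCommGroup H] [Module K H]
    (l : ℕ) (b : Fin (l + 1) → H)
    (h : Set.Infinite {t : K | ∑ i : Fin (l + 1), t ^ (i : ℕ) • b i = 0}) :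
    b = 0 := by
  have hall : ∀ φ : Module.Dual K H, ∀ i, φ (b i) = 0 := by
    intro φ i
    let P : Polynomial K := ∑ j : Fin (l + 1), Polynomial.monomial (j : ℕ) (φ (b j))
    have hP : P = 0 := by
      apply Polynomial.eq_zero_of_infinite_isRoot
      refine h.mono fun t ht => ?_
      simp only [Set.mem_setOf_eq] at ht ⊢
      have := congrArg φ ht
      simp only [map_sum, map_smul, smul_eq_mul, map_zero] at this
      simpa [P, Polynomial.IsRoot, Polynomial.eval_finset_sum, mul_comm] using this
    have := congrArg (fun Q => Polynomial.coeff Q (i : ℕ)) hP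
    simpa [P, Polynomial.coeff_monomial, Fin.val_inj] using this
  funext i
  exact (Module.forall_dual_apply_eq_zero_iff K (b i)).mp fun φ => hall φ i


end Groth.Agent.S17872
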