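import Groth.Statements.S17873
import Groth.Agent.Depth.Basic
import Mathlib.RingTheory.Ideal.AssociatedPrime.Finiteness
import Mathlib.Algebra.Module.SpanRank
-- import your own Groth.Agent.* helpers here

set_option autoImplicit false
universe u
open GRRSing

namespace Groth.Agent.S17873

section
variable {R : Type u} [CommRing R]

theorem exists_swap [IsLocalRing R] (B : Ideal R) :
    ∀ (l : List R) (A : Ideal R) (x : R), Ideal.ofList l ≤ B → x ∈ A ⊔ Ideal.ofList l →
      x ∉ A ⊔ IsLocalRing.maximalIdeal R * B →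
      ∃ l' : List R, l'.length + 1 = l.length ∧
        A ⊔ Ideal.span {x} ⊔ Ideal.ofList l' = A ⊔ Ideal.ofList l := by
  intro l
  induction l with
  | nil =>
    intro A x _ hx hx'
    rw [Ideal.ofList_nil, sup_bot_eq] at hx
    exact absurd (Ideal.mem_sup_left hx) hx'
  | cons r l ih =>
    intro A x hlB hx hx'
    rw [Ideal.ofList_cons] at hlB hx ⊢
    rw [← sup_assoc, sup_right_comm] at hx
    obtain ⟨y, hy, z, hz, rfl⟩ := Submodule.mem_sup.mp hx
    obtain ⟨b, rfl⟩ := Ideal.mem_span_singleton'.mp hz
    by_cases hb : IsUnit b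
    · refine ⟨l, rfl, ?_⟩
      refine le_antisymm (sup_le (sup_le le_sup_left ?_) (le_trans le_sup_right le_sup_right)) ?_
      · rw [Ideal.span_singleton_le_iff_mem]
        refine Ideal.add_mem _ (sup_le_sup_left (le_sup_right) A hy) ?_
        exact Ideal.mem_sup_right (Ideal.mem_sup_left
          (Ideal.mul_mem_left _ _ (Ideal.mem_span_singleton_self r)))
      · refine sup_le (le_trans le_sup_left le_sup_left) (sup_le ?_ le_sup_right)
        rw [Ideal.span_singleton_le_iff_mem]
        have h1 : (y + b * r) - y ∈ A ⊔ Ideal.span {y + b * r} ⊔ Ideal.ofList l := by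
          refine Ideal.sub_mem _ (Ideal.mem_sup_left (Ideal.mem_sup_right
            (Ideal.mem_span_singleton_self _))) ?_
          exact (sup_le_sup_right (le_sup_left : A ≤ A ⊔ Ideal.span {y + b * r}) _) hy
        rw [add_sub_cancel_left] at h1
        exact (Ideal.unit_mul_mem_iff_mem _ hb).mp h1
    · have hbr : b * r ∈ IsLocalRing.maximalIdeal R * B :=
        Ideal.mul_mem_mul hb (hlB (Ideal.mem_sup_left (Ideal.mem_span_singleton_self r)))
      obtain ⟨l', hlen, h'⟩ := ih A y (le_trans le_sup_right hlB) hy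
        (fun h => hx' (Ideal.add_mem _ h (Ideal.mem_sup_right hbr)))
      refine ⟨r :: l', by simp [hlen], ?_⟩
      rw [Ideal.ofList_cons]
      have hxy : Ideal.span {y + b * r} ⊔ Ideal.span {r} = Ideal.span {y} ⊔ Ideal.span {r} := by
        have hbr' : b * r ∈ Ideal.span {r} := Ideal.mul_mem_left _ _ (Ideal.mem_span_singleton_self r)
        refine le_antisymm (sup_le ?_ le_sup_right) (sup_le ?_ le_sup_right)
        · rw [Ideal.span_singleton_le_iff_mem]
          exact Ideal.add_mem _ (Ideal.mem_sup_left (Ideal.mem_span_singleton_self y)) (Ideal.mem_sup_right hbr')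
        · rw [Ideal.span_singleton_le_iff_mem]
          have := Ideal.sub_mem (Ideal.span {y + b * r} ⊔ Ideal.span {r})
            (Ideal.mem_sup_left (Ideal.mem_span_singleton_self (y + b * r))) (Ideal.mem_sup_right hbr')
          simpa using this
      calc A ⊔ Ideal.span {y + b * r} ⊔ (Ideal.span {r} ⊔ Ideal.ofList l')
          = A ⊔ (Ideal.span {y + b * r} ⊔ Ideal.span {r}) ⊔ Ideal.ofList l' := by
            simp only [sup_assoc]
        _ = (A ⊔ Ideal.span {y} ⊔ Ideal.ofList l') ⊔ Ideal.span {r} := by
            rw [hxy]; ac_rfl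
        _ = A ⊔ (Ideal.span {r} ⊔ Ideal.ofList l) := by rw [h']; ac_rfl

variable [IsNoetherianRing R] {I : Ideal R}

theorem le_depth_quot :
    ∀ (rs : List R) (M : Type u) [AddCommGroup M] [Module R M] [Module.Finite R M],
      RingTheory.Sequence.IsWeaklyRegular M rs → (∀ r ∈ rs, r ∈ I) → ∀ n : ℕ,
        ((n + rs.length : ℕ) : ℕ∞) ≤ LocCoh.idealDepth I M →
        (n : ℕ∞) ≤ LocCoh.idealDepth I (M ⧸ (Ideal.ofList rs • ⊤ : Submodule R M)) := by
  intro rs
  induction rs with
  | nil =>
    intro M _ _ _ _ _ n h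
    rw [Groth.Agent.Depth.idealDepth_congr (Submodule.quotEquivOfEqBot _ (by simp))]
    simpa using h
  | cons r rs ih =>
    intro M _ _ _ hreg hI n h
    rw [RingTheory.Sequence.isWeaklyRegular_cons_iff] at hreg
    rw [Groth.Agent.Depth.idealDepth_congr
      (Submodule.quotOfListConsSMulTopEquivQuotSMulTopInner M r rs)]
    refine ih (QuotSMulTop r M) hreg.2 (fun s hs => hI s (List.mem_cons_of_mem r hs)) n ?_
    rw [Groth.Agent.Depth.le_idealDepth_quotSMulTop_iff (hI r List.mem_cons_self) hreg.1]
    rw [List.length_cons] at h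
    rwa [Nat.add_assoc]

theorem step [IsLocalRing R] {J : Ideal R} (hJ : J ≠ ⊤) {pre rest : List R} {j : ℕ}
    (hgen : Ideal.ofList (pre ++ rest) = J) (hreg : RingTheory.Sequence.IsWeaklyRegular R pre)
    (hlt : pre.length < j) (hj : (j : ℕ∞) ≤ LocCoh.idealDepth J R) :
    ∃ (x : R) (rest' : List R), rest'.length + 1 = rest.length ∧
      Ideal.ofList ((pre ++ [x]) ++ rest') = J ∧
      RingTheory.Sequence.IsWeaklyRegular R (pre ++ [x]) := by
  have hJm := IsLocalRing.le_maximalIdeal hJ
  rw [Ideal.ofList_append] at hgen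
  have hpre : Ideal.ofList pre ≤ J := le_sup_left.trans hgen.le
  have hmem : ∀ r ∈ pre, r ∈ J := fun r hr => hpre (Ideal.subset_span hr)
  let M := R ⧸ (Ideal.ofList pre • ⊤ : Submodule R R)
  have hpret : (Ideal.ofList pre • ⊤ : Submodule R R) = Ideal.ofList pre := by simp
  have : Nontrivial M := Submodule.Quotient.nontrivial_iff.mpr (by
    rw [hpret]; exact fun h => hJ (top_unique (h ▸ hpre)))
  have hdep : ((1 : ℕ) : ℕ∞) ≤ LocCoh.idealDepth J M :=
    le_depth_quot pre R hreg hmem 1 (le_trans (by exact_mod_cast (by omega : 1 + pre.length ≤ j)) hj)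
  obtain ⟨rs, hrs, hrsJ, hlen⟩ := Groth.Agent.Depth.exists_isWeaklyRegular_of_le_idealDepth
    (Groth.Agent.Depth.smul_top_ne_top_of_le_maximalIdeal hJm) hdep
  obtain ⟨r, rfl⟩ := List.length_eq_one_iff.mp hlen
  rw [RingTheory.Sequence.isWeaklyRegular_cons_iff] at hrs
  have hr : IsSMulRegular M r := hrs.1
  have hrJ : r ∈ J := hrsJ r List.mem_cons_self
  let N : Ideal R := Ideal.ofList pre ⊔ IsLocalRing.maximalIdeal R * J
  have hNJ : ¬ J ≤ N := fun h => by
    have hle : J ≤ Ideal.ofList pre := by
      have := Submodule.le_of_le_smul_of_le_jacobson_bot (IsNoetherian.noetherian J)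
        (IsLocalRing.maximalIdeal_le_jacobson ⊥) (N := Ideal.ofList pre) (by simpa [N, smul_eq_mul] using h)
      exact this
    obtain ⟨m, hm⟩ := exists_ne (0 : M)
    refine hm (hr ?_)
    obtain ⟨a, rfl⟩ := Submodule.Quotient.mk_surjective _ m
    show r • Submodule.Quotient.mk a = r • (0 : M)
    rw [smul_zero, ← Submodule.Quotient.mk_smul, Submodule.Quotient.mk_eq_zero, hpret]
    exact Ideal.mul_mem_right _ _ (hle hrJ)
  have hfin := associatedPrimes.finite R M
  have havoid : ∃ x ∈ J, x ∉ N ∧ IsSMulRegular M x := by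
    by_contra hcon
    push Not at hcon
    have hsub : (J : Set R) ⊆ ⋃ i ∈ ((insert N hfin.toFinset : Finset (Ideal R)) : Set (Ideal R)), (i : Set R) := by
      intro x hx
      simp only [Finset.coe_insert, Set.mem_iUnion, Set.mem_insert_iff, exists_prop,
        Set.Finite.coe_toFinset]
      by_cases hxN : x ∈ N
      · exact ⟨N, Or.inl rfl, hxN⟩
      · have hnr := hcon x hx hxN
        have : x ∈ ⋃ p ∈ associatedPrimes R M, (p : Set R) := by
          rw [biUnion_associatedPrimes_eq_zero_divisors]
          by_contra hz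
          exact hnr (isSMulRegular_iff_right_eq_zero_of_smul.mpr fun m hm => by
            by_contra hm0
            exact hz ⟨m, hm0, hm⟩)
        simp only [Set.mem_iUnion, exists_prop] at this
        obtain ⟨p, hp, hxp⟩ := this
        exact ⟨p, Or.inr hp, hxp⟩
    rw [Ideal.subset_union_prime N N (by
      intro i hi hne _
      rcases Finset.mem_insert.mp hi with h | h
      · exact absurd h hne
      · exact IsAssociatedPrime.isPrime (hfin.mem_toFinset.mp h))] at hsub
    obtain ⟨p, hp, hJp⟩ := hsub
    rcases Finset.mem_insert.mp hp with h | h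
    · exact hNJ (h ▸ hJp)
    · have : r ∈ ⋃ p ∈ associatedPrimes R M, (p : Set R) :=
        Set.mem_biUnion (hfin.mem_toFinset.mp h) (hJp hrJ)
      rw [biUnion_associatedPrimes_eq_zero_divisors] at this
      obtain ⟨m, hm0, hm⟩ := this
      exact hm0 (hr (by simpa using hm))
  obtain ⟨x, hxJ, hxN, hx⟩ := havoid
  obtain ⟨rest', hlen', heq⟩ := exists_swap J rest (Ideal.ofList pre) x (le_sup_right.trans hgen.le)
    (hgen ▸ hxJ) hxN
  refine ⟨x, rest', hlen', ?_, ?_⟩
  · rw [Ideal.ofList_append, Ideal.ofList_append, Ideal.ofList_singleton, heq, hgen]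
  · rw [RingTheory.Sequence.isWeaklyRegular_append_iff]
    refine ⟨hreg, ?_⟩
    rw [RingTheory.Sequence.isWeaklyRegular_cons_iff]
    exact ⟨hx, RingTheory.Sequence.IsWeaklyRegular.nil R _⟩

end


/-- Let T be a Cohen–Macaulay Noetherian local ring, J a proper ideal of T, j the grade of J (the
J-depth of T, i.e. the supremum of the lengths of T-regular sequences inside J; a natural number
here) and c the minimal number of generators of J (equal to the dimension of J/𝔪J over the residue
field). Then j ≤ c and there is a generating sequence t_1, …, t_c of J such that t_1, …, t_j is a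
T-regular sequence. (The published statement does not exclude J = T; there c = 1 while the grade,
read as the depth of T, can exceed 1, so this row assumes J proper.) -/
theorem result {T : Type u} [CommRing T] [LocCoh.IsCohenMacaulayLocalRing T]
    (J : Ideal T) (hJ : J ≠ ⊤) (j : ℕ) (hj : LocCoh.idealDepth J T = j) :
    j ≤ Submodule.spanFinrank J ∧
      ∃ ts : List T, ts.length = Submodule.spanFinrank J ∧ Ideal.ofList ts = J ∧
        RingTheory.Sequence.IsRegular T (ts.take j) := by
  have hfg : J.FG := IsNoetherian.noetherian J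
  let l : List T := (Submodule.FG.finite_generators hfg).toFinset.toList
  have hl : l.length = J.spanFinrank := by
    simp only [l, Finset.length_toList]
    rw [← Set.ncard_eq_toFinset_card _ (Submodule.FG.finite_generators hfg),
      Submodule.FG.generators_ncard hfg]
  have hlJ : Ideal.ofList l = J := by
    refine Eq.trans ?_ (Submodule.span_generators J)
    simp [l, Ideal.ofList, Ideal.submodule_span_eq]
  have main : ∀ i : ℕ, i ≤ j → ∃ pre rest : List T, pre.length = i ∧
      (pre ++ rest).length = J.spanFinrank ∧ Ideal.ofList (pre ++ rest) = J ∧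
      RingTheory.Sequence.IsWeaklyRegular T pre := by
    intro i
    induction i with
    | zero => exact fun _ => ⟨[], l, rfl, by simpa using hl, by simpa using hlJ,
        RingTheory.Sequence.IsWeaklyRegular.nil T T⟩
    | succ i ih =>
      intro hi
      obtain ⟨pre, rest, h1, h2, h3, h4⟩ := ih (by omega)
      obtain ⟨x, rest', h5, h6, h7⟩ := step hJ h3 h4 (by omega) hj.ge
      refine ⟨pre ++ [x], rest', by simp [h1], ?_, h6, h7⟩
      rw [List.length_append] at h2 ⊢
      rw [List.length_append, List.length_singleton]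
      omega
  obtain ⟨pre, rest, h1, h2, h3, h4⟩ := main j le_rfl
  refine ⟨by rw [← h2, List.length_append, h1]; omega, pre ++ rest, h2, h3, ?_⟩
  rw [List.take_left' h1]
  refine ⟨h4, fun h => ?_⟩
  have h' : (⊤ : Submodule T T) ≤ J := by
    refine h.le.trans ?_
    rw [← h3, Ideal.ofList_append]
    simp
  exact hJ (top_unique h')

end Groth.Agent.S17873
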