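import Groth.Statements.S17874
import Groth.Agent.KoszSh77.Unmixed
import Groth.Agent.LCI.Vasconcelos
import Groth.Agent.Depth.CM
import Mathlib.RingTheory.Ideal.KrullsHeightTheorem
import Mathlib.RingTheory.RegularLocalRing.Defs
import Mathlib.LinearAlgebra.Dimension.Finite
import Mathlib.RingTheory.Ideal.MinimalPrime.Noetherian

set_option autoImplicit false
universe u
open GRRSing

namespace Groth.Agent.S17874

open RingTheory.Sequence IsLocalRing

variable {T : Type u} [CommRing T]

/-- An element outside all minimal primes over a regular sequence is regular modulo it. -/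
theorem mem_of_mul_mem [LocCoh.IsCohenMacaulayLocalRing T] (rs : List T) (hrs : IsWeaklyRegular T rs)
    {x c : T} (hx : ∀ P ∈ (Ideal.ofList rs).minimalPrimes, x ∉ P) (h : x * c ∈ Ideal.ofList rs) :
    c ∈ Ideal.ofList rs := by
  haveI := Groth.Agent.Depth.isCohenMacaulayRing_of_isCohenMacaulayLocalRing (R := T)
  by_contra hc
  obtain ⟨P, _, hxP, hle, hdim⟩ := Groth.Agent.KoszSh77.exists_prime_of_mul_mem rs hrs hc h
  haveI : LocCoh.IsCohenMacaulayLocalRing (Localization.AtPrime P) :=
    LocCoh.IsCohenMacaulayRing.isCohenMacaulayLocalRing_localization P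
  have hdim' := hdim (Localization.AtPrime P)
  haveI : Ring.KrullDimLE 0
      (Localization.AtPrime P ⧸ (Ideal.ofList rs).map (algebraMap T (Localization.AtPrime P))) :=
    Ring.krullDimLE_iff.mpr hdim'.le
  refine hx P ⟨⟨inferInstance, hle⟩, fun Q hQ hQP => ?_⟩ hxP
  haveI := hQ.1
  let S := Localization.AtPrime P
  have hdisj : Disjoint (P.primeCompl : Set T) (Q : Set T) :=
    Set.disjoint_left.mpr fun a ha haQ => ha (hQP haQ)
  haveI hQS : (Q.map (algebraMap T S)).IsPrime :=
    IsLocalization.isPrime_of_isPrime_disjoint P.primeCompl S Q inferInstance hdisj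
  let J := (Ideal.ofList rs).map (algebraMap T S)
  have hJQ : J ≤ Q.map (algebraMap T S) := Ideal.map_mono hQ.2
  haveI : ((Q.map (algebraMap T S)).map (Ideal.Quotient.mk J)).IsPrime :=
    Ideal.map_isPrime_of_surjective Ideal.Quotient.mk_surjective (by rwa [Ideal.mk_ker])
  have hmax : ((Q.map (algebraMap T S)).map (Ideal.Quotient.mk J)).IsMaximal :=
    Ring.krullDimLE_zero_iff.mp inferInstance _ inferInstance
  have hQmax : (Q.map (algebraMap T S)).IsMaximal := by
    have h1 := Ideal.comap_isMaximal_of_surjective (Ideal.Quotient.mk J) Ideal.Quotient.mk_surjective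
      (K := (Q.map (algebraMap T S)).map (Ideal.Quotient.mk J))
    rwa [Ideal.comap_map_of_surjective _ Ideal.Quotient.mk_surjective, ← RingHom.ker_eq_comap_bot,
      Ideal.mk_ker, sup_eq_left.mpr hJQ] at h1
  have heq := IsLocalRing.eq_maximalIdeal hQmax
  intro a ha
  have hau : algebraMap T S a ∈ Q.map (algebraMap T S) := by
    rw [heq]
    exact (IsLocalization.AtPrime.to_map_mem_maximal_iff S P a).mpr ha
  have hcm := IsLocalization.comap_map_of_isPrime_disjoint P.primeCompl S inferInstance hdisj
  rw [← hcm]
  exact hau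

theorem height_le_length [IsNoetherianRing T] (rs : List T) (P : Ideal T)
    (hP : P ∈ (Ideal.ofList rs).minimalPrimes) : P.height ≤ (rs.length : ℕ∞) := by
  classical
  haveI : P.IsPrime := hP.1.1
  have h1 := Ideal.height_le_card_of_mem_minimalPrimes_span_finset (s := rs.toFinset) (p := P) (by
    simpa [Ideal.ofList] using hP)
  exact h1.trans (by exact_mod_cast rs.toFinset_card_le)

/-- Regular elements congruent to given ones modulo `p ^ 2`. -/
theorem exists_regular_seq [LocCoh.IsCohenMacaulayLocalRing T] (p : Ideal T) [p.IsPrime] {h : ℕ}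
    (hh : p.height = h) (g : Fin h → T) :
    ∀ i : ℕ, i ≤ h → ∃ xs : List T, ∃ hlen : xs.length = i, IsWeaklyRegular T xs ∧
      ∀ k : Fin h, (hk : (k : ℕ) < i) → xs[(k : ℕ)]'(hlen ▸ hk) - g k ∈ p ^ 2 := by
  classical
  intro i
  induction i with
  | zero => exact fun _ => ⟨[], rfl, IsWeaklyRegular.nil T T, fun k hk => absurd hk (Nat.not_lt_zero _)⟩
  | succ i ih =>
    intro hi
    obtain ⟨xs, hlen, hreg, hxs⟩ := ih (Nat.le_of_succ_le hi)
    let Ps := (Ideal.finite_minimalPrimes_of_isNoetherianRing T (Ideal.ofList xs)).toFinset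
    have hPs : ∀ P ∈ Ps, ¬ p ^ 2 ≤ P := by
      intro P hP hle
      rw [Set.Finite.mem_toFinset] at hP
      haveI : P.IsPrime := hP.1.1
      have hle' : p ≤ P := Ideal.IsPrime.le_of_pow_le hle
      have h1 := (Ideal.height_mono hle').trans (height_le_length xs P hP)
      rw [hh, hlen] at h1
      have : h ≤ i := by exact_mod_cast h1
      omega
    obtain ⟨c, hc, hcP⟩ := Groth.Agent.LCI.Vasconcelos.exists_add_notMem Ps
      (fun P hP => ((Set.Finite.mem_toFinset _).mp hP).1.1) (p ^ 2) hPs (g ⟨i, hi⟩)
    refine ⟨xs ++ [g ⟨i, hi⟩ + c], by simp [hlen], ?_, ?_⟩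
    · rw [isWeaklyRegular_append_iff, isWeaklyRegular_cons_iff]
      refine ⟨hreg, ?_, IsWeaklyRegular.nil _ _⟩
      rw [isSMulRegular_quotient_iff_mem_of_smul_mem]
      intro a ha
      rw [smul_eq_mul, Ideal.mul_top, smul_eq_mul] at *
      exact mem_of_mul_mem xs hreg (fun P hP => hcP P ((Set.Finite.mem_toFinset _).mpr hP)) ha
    · intro k hk
      rcases Nat.lt_succ_iff_lt_or_eq.mp hk with hk' | hk'
      · rw [List.getElem_append_left (hlen ▸ hk')]
        exact hxs k hk'
      · rw [List.getElem_append_right (by omega), List.getElem_singleton]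
        obtain rfl : k = ⟨i, hi⟩ := Fin.ext hk'
        rw [add_sub_cancel_left]
        exact hc

/-- Generators: `h` elements generating locally, plus at most one. -/
theorem exists_generators [IsNoetherianRing T] (p : Ideal T) [p.IsPrime]
    (hgen : (Submodule.spanFinrank p : ℕ∞) ≤ p.height + 1) [IsRegularLocalRing (Localization.AtPrime p)] :
    ∃ (h : ℕ) (g : Fin h → T) (ys : List T), p.height = h ∧ ys.length ≤ 1 ∧
      Submodule.spanFinrank p = h + ys.length ∧ p = Ideal.span (Set.range g) ⊔ Ideal.ofList ys ∧
      p.map (algebraMap T (Localization.AtPrime p)) =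
        (Ideal.span (Set.range g)).map (algebraMap T (Localization.AtPrime p)) := by
  classical
  obtain ⟨h, hh⟩ := ENat.ne_top_iff_exists.mp (Ideal.height_ne_top (I := p) ‹p.IsPrime›.ne_top)
  obtain ⟨g, hgspan⟩ : ∃ g : Fin (Submodule.spanFinrank p) → T, Ideal.span (Set.range g) = p := by
    have hfg : p.FG := IsNoetherian.noetherian p
    have hfin := Submodule.FG.finite_generators hfg
    haveI : Fintype (Submodule.generators p) := hfin.fintype
    let e : Fin (Submodule.spanFinrank p) ≃ (Submodule.generators p) :=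
      (Fintype.equivFinOfCardEq (by rw [← Nat.card_eq_fintype_card, Nat.card_coe_set_eq,
        Submodule.FG.generators_ncard hfg])).symm
    refine ⟨fun i => (e i : T), ?_⟩
    rw [show Set.range (fun i => (e i : T)) = (Submodule.generators p) from by
      ext x; exact ⟨fun ⟨i, hi⟩ => hi ▸ (e i).2, fun hx => ⟨e.symm ⟨x, hx⟩, by simp⟩⟩]
    exact Submodule.span_generators p
  rw [← hh] at hgen
  have hge : h ≤ Submodule.spanFinrank p := by
    have := Ideal.height_le_spanFinrank p ‹p.IsPrime›.ne_top
    rw [← hh] at this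
    exact_mod_cast this
  have hle : Submodule.spanFinrank p ≤ h + 1 := by exact_mod_cast hgen
  generalize hμ : Submodule.spanFinrank p = μ at g hge hle
  let S := Localization.AtPrime p
  rcases Nat.lt_or_ge h μ with hlt | hge'
  · obtain rfl : μ = h + 1 := by omega
    have hmem : ∀ i, algebraMap T S (g i) ∈ maximalIdeal S := fun i =>
      (IsLocalization.AtPrime.to_map_mem_maximal_iff S p (g i)).mpr (hgspan ▸ Ideal.subset_span ⟨i, rfl⟩)
    let v : Fin (h + 1) → CotangentSpace S := fun i => (maximalIdeal S).toCotangent ⟨_, hmem i⟩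
    have hdim : Module.finrank (ResidueField S) (CotangentSpace S) = h := by
      have h1 := (IsRegularLocalRing.iff_finrank_cotangentSpace S).mp inferInstance
      rw [IsLocalization.AtPrime.ringKrullDim_eq_height p S, ← hh] at h1
      exact_mod_cast h1
    have hnot : ¬ LinearIndependent (ResidueField S) v := by
      intro hli
      have h1 := hli.fintype_card_le_finrank
      rw [Fintype.card_fin, hdim] at h1
      omega
    rw [linearIndependent_iff_notMem_span] at hnot
    push Not at hnot
    obtain ⟨j, hj⟩ := hnot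
    have hsup : p = Ideal.span (Set.range fun i => g (j.succAbove i)) ⊔ Ideal.ofList [g j] := by
      rw [← hgspan, Ideal.ofList, ← Ideal.span_union]
      congr 1
      ext x
      simp only [Set.mem_range, Set.mem_union, Set.mem_setOf_eq, List.mem_singleton]
      constructor
      · rintro ⟨i, rfl⟩
        rcases Fin.eq_self_or_eq_succAbove j i with rfl | ⟨k, rfl⟩
        · exact Or.inr rfl
        · exact Or.inl ⟨k, rfl⟩
      · rintro (⟨k, rfl⟩ | rfl)
        · exact ⟨_, rfl⟩
        · exact ⟨_, rfl⟩
    refine ⟨h, fun i => g (j.succAbove i), [g j], hh.symm, le_rfl, rfl, hsup, ?_⟩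
    refine le_antisymm ?_ (Ideal.map_mono (le_sup_left.trans hsup.ge))
    rw [Localization.AtPrime.map_eq_maximalIdeal]
    let s : Set (maximalIdeal S) := Set.range fun i => (⟨_, hmem (j.succAbove i)⟩ : maximalIdeal S)
    have hall : Submodule.span (ResidueField S)
        ((maximalIdeal S).toCotangent '' Set.range fun i => (⟨_, hmem i⟩ : maximalIdeal S)) = ⊤ := by
      rw [CotangentSpace.span_image_eq_top_iff]
      apply Submodule.map_injective_of_injective (maximalIdeal S).subtype_injective
      rw [Submodule.map_span, Submodule.map_top, Submodule.range_subtype, ← Set.range_comp]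
      refine Eq.trans ?_ ((congrArg (Ideal.map (algebraMap T S)) hgspan).trans
        (Localization.AtPrime.map_eq_maximalIdeal (I := p)))
      rw [Ideal.map_span, ← Set.range_comp]
      rfl
    have hsub : Submodule.span (ResidueField S) ((maximalIdeal S).toCotangent '' s) = ⊤ := by
      rw [eq_top_iff, ← hall, Submodule.span_le]
      rintro _ ⟨_, ⟨i, rfl⟩, rfl⟩
      rcases Fin.eq_self_or_eq_succAbove j i with rfl | ⟨k, rfl⟩
      · refine Submodule.span_mono ?_ hj
        rintro _ ⟨i, hi, rfl⟩
        obtain ⟨k, rfl⟩ := Fin.exists_succAbove_eq (show i ≠ _ from fun e => hi.2 e)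
        exact ⟨_, ⟨k, rfl⟩, rfl⟩
      · exact Submodule.subset_span ⟨_, ⟨k, rfl⟩, rfl⟩
    rw [CotangentSpace.span_image_eq_top_iff] at hsub
    have h2 := congrArg (Submodule.map (maximalIdeal S).subtype) hsub
    rw [Submodule.map_span, Submodule.map_top, Submodule.range_subtype, ← Set.range_comp] at h2
    rw [Ideal.map_span, ← Set.range_comp]
    exact le_of_eq h2.symm
  · obtain rfl : μ = h := by omega
    exact ⟨μ, g, [], hh.symm, Nat.zero_le _, by simp, by simp [hgspan], by rw [hgspan]⟩


/-- Let T be a Cohen–Macaulay Noetherian local ring and p a prime ideal of T whose minimal number of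
generators is at most height(p) + 1, and assume the localization T_p is a regular local ring. In
that case some d-sequence generates p: there is a list of elements generating p, no member of which
lies in the ideal of the others, and such that for all positions i ≤ k the colon ideals ((t_1, …,
t_{i-1}) : t_k t_i) and ((t_1, …, t_{i-1}) : t_k) coincide. -/
theorem result {T : Type u} [CommRing T] [LocCoh.IsCohenMacaulayLocalRing T]
    (p : Ideal T) [p.IsPrime] (hgen : (Submodule.spanFinrank p : ℕ∞) ≤ p.height + 1)
    [IsRegularLocalRing (Localization.AtPrime p)] :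
    ∃ ts : List T, Ideal.ofList ts = p ∧ W4c5grrsingularflat.IsDSeq ts := by
  classical
  obtain ⟨h, g, ys, hh, hys, hμ, hsup, hloc⟩ := exists_generators p hgen
  obtain ⟨xs, hlen, hreg, hxs⟩ := exists_regular_seq p hh g h le_rfl
  have hgp : ∀ k, g k ∈ p := fun k => hsup ▸ Ideal.mem_sup_left (Ideal.subset_span ⟨k, rfl⟩)
  have hxp : ∀ a ∈ xs, a ∈ p := by
    intro a ha
    obtain ⟨k, hk, rfl⟩ := List.getElem_of_mem ha
    have h1 := hxs ⟨k, hlen ▸ hk⟩ (hlen ▸ hk)
    have h2 := Ideal.add_mem _ (Ideal.pow_le_self two_ne_zero h1) (hgp ⟨k, hlen ▸ hk⟩)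
    rwa [sub_add_cancel] at h2
  have hysp : ∀ a ∈ ys, a ∈ p := fun a ha => hsup ▸ Ideal.mem_sup_right (Ideal.subset_span ha)
  have hgin : Ideal.span (Set.range g) ≤ Ideal.ofList xs ⊔ p ^ 2 := by
    refine Ideal.span_le.mpr ?_
    rintro _ ⟨k, rfl⟩
    have h1 := hxs k k.2
    rw [show g k = xs[(k : ℕ)]'(hlen ▸ k.2) + -(xs[(k : ℕ)]'(hlen ▸ k.2) - g k) by ring]
    exact Submodule.add_mem_sup (Ideal.subset_span (List.getElem_mem _)) (neg_mem h1)
  have hfg : p.FG := IsNoetherian.noetherian p
  have hpmax : p ≤ maximalIdeal T := le_maximalIdeal ‹p.IsPrime›.ne_top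
  have hjac : maximalIdeal T ≤ Ideal.jacobson ⊥ := (IsLocalRing.jacobson_eq_maximalIdeal ⊥ bot_ne_top).ge
  have hp2 : p ^ 2 ≤ maximalIdeal T • p := by
    rw [pow_two, smul_eq_mul]
    exact Ideal.mul_mono_left hpmax
  have hts : Ideal.ofList (xs ++ ys) = p := by
    refine le_antisymm (Ideal.span_le.mpr fun a ha => ?_) ?_
    · rcases List.mem_append.mp ha with h' | h'
      · exact hxp a h'
      · exact hysp a h'
    · refine Submodule.le_of_le_smul_of_le_jacobson_bot (I := maximalIdeal T) hfg hjac ?_
      rw [Ideal.ofList_append]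
      conv_lhs => rw [hsup]
      refine sup_le (hgin.trans ?_) (le_sup_right.trans le_sup_left)
      exact sup_le (le_sup_left.trans le_sup_left) (hp2.trans le_sup_right)
  have hlenμ : (xs ++ ys).length = Submodule.spanFinrank p := by rw [List.length_append, hlen, hμ]
  let S := Localization.AtPrime p
  have hJp : p.map (algebraMap T S) ≤ (Ideal.ofList xs).map (algebraMap T S) := by
    refine Submodule.le_of_le_smul_of_le_jacobson_bot (I := maximalIdeal S)
      (IsNoetherian.noetherian _) (IsLocalRing.jacobson_eq_maximalIdeal ⊥ bot_ne_top).ge ?_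
    conv_lhs => rw [hloc]
    refine (Ideal.map_mono hgin).trans ?_
    rw [Ideal.map_sup, Ideal.map_pow, pow_two, smul_eq_mul]
    exact sup_le_sup_left (Ideal.mul_mono_left (Localization.AtPrime.map_eq_maximalIdeal.le)) _
  refine ⟨xs ++ ys, hts, ?_, ?_⟩
  · intro i hi
    have hle : p ≤ Ideal.span (Set.range fun j : {j : Fin (xs ++ ys).length // j ≠ i} =>
        (xs ++ ys)[(j : Fin (xs ++ ys).length)]) := by
      conv_lhs => rw [← hts]
      refine Ideal.span_le.mpr fun a ha => ?_
      obtain ⟨k, hk, rfl⟩ := List.getElem_of_mem ha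
      by_cases hki : (⟨k, hk⟩ : Fin (xs ++ ys).length) = i
      · subst hki; exact hi
      · exact Ideal.subset_span ⟨⟨⟨k, hk⟩, hki⟩, rfl⟩
    have heq : p = Ideal.span (Set.range fun j : {j : Fin (xs ++ ys).length // j ≠ i} =>
        (xs ++ ys)[(j : Fin (xs ++ ys).length)]) := by
      refine le_antisymm hle (Ideal.span_le.mpr ?_)
      rintro _ ⟨j, rfl⟩
      exact hts.le (Ideal.subset_span (List.getElem_mem _))
    have h1 : Submodule.spanFinrank p ≤ (Set.range fun j : {j : Fin (xs ++ ys).length // j ≠ i} =>
        (xs ++ ys)[(j : Fin (xs ++ ys).length)]).ncard := by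
      conv_lhs => rw [heq]
      exact Submodule.spanFinrank_span_le_ncard_of_finite (Set.finite_range _)
    have h2 : (Set.range fun j : {j : Fin (xs ++ ys).length // j ≠ i} =>
        (xs ++ ys)[(j : Fin (xs ++ ys).length)]).ncard ≤
          Nat.card {j : Fin (xs ++ ys).length // j ≠ i} := by
      rw [← Nat.card_coe_set_eq]
      exact Finite.card_range_le _
    have h3 : Nat.card {j : Fin (xs ++ ys).length // j ≠ i} < (xs ++ ys).length := by
      rw [Nat.card_eq_fintype_card]
      exact (Fintype.card_subtype_lt (p := fun j => j ≠ i) (x := i) (by simp)).trans_eq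
        (Fintype.card_fin _)
    omega
  · intro i k hk hik
    ext a
    simp only [Submodule.mem_colon_singleton, smul_eq_mul]
    refine ⟨fun ha => ?_, fun ha => by rw [← mul_assoc]; exact Ideal.mul_mem_right _ _ ha⟩
    rcases Nat.lt_or_ge i h with hi | hi
    · have hpre : (xs ++ ys).take i = xs.take i := List.take_append_of_le_length (by omega)
      have hel : (xs ++ ys)[i]'(Nat.lt_of_le_of_lt hik hk) = xs[i]'(by omega) :=
        List.getElem_append_left (by omega)
      rw [hpre, hel] at ha
      rw [hpre]
      have hr := (isWeaklyRegular_iff_Fin T xs).mp hreg ⟨i, by omega⟩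
      rw [isSMulRegular_quotient_iff_mem_of_smul_mem] at hr
      have h1 := hr (a * (xs ++ ys)[k]) (by
        rw [smul_eq_mul, Ideal.mul_top, smul_eq_mul]
        show xs[i] * _ ∈ _
        rw [show xs[i]'(by omega) * (a * (xs ++ ys)[k]) = a * ((xs ++ ys)[k] * xs[i]'(by omega)) by ring]
        exact ha)
      rwa [smul_eq_mul, Ideal.mul_top] at h1
    · have hl1 : (xs ++ ys).length ≤ h + 1 := by rw [List.length_append, hlen]; omega
      obtain rfl : i = h := by omega
      obtain rfl : k = i := by omega
      have hpre : (xs ++ ys).take k = xs := by rw [← hlen, List.take_left]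
      rw [hpre] at ha ⊢
      set y := (xs ++ ys)[k]'hk with hy
      let K : Ideal T := (Ideal.ofList xs).colon {a * y}
      have hyK : y ∈ K := by
        rw [Submodule.mem_colon_singleton, smul_eq_mul, show y * (a * y) = a * (y * y) by ring]
        exact ha
      have hxK : Ideal.ofList xs ≤ K := fun b hb => by
        rw [Submodule.mem_colon_singleton, smul_eq_mul]
        exact Ideal.mul_mem_right _ _ hb
      have hyp : y ∈ p := hts.le (Ideal.subset_span (List.getElem_mem _))
      have hpJy : p ≤ Ideal.ofList xs ⊔ Ideal.span {y} := by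
        conv_lhs => rw [← hts]
        refine Ideal.span_le.mpr fun b hb => ?_
        obtain ⟨m, hm, rfl⟩ := List.getElem_of_mem hb
        rcases Nat.lt_or_ge m k with hm' | hm'
        · refine Ideal.mem_sup_left ?_
          rw [List.getElem_append_left (by omega)]
          exact Ideal.subset_span (List.getElem_mem _)
        · obtain rfl : m = k := by omega
          exact Ideal.mem_sup_right (Ideal.mem_span_singleton_self _)
      obtain ⟨s, hs, hsy⟩ : ∃ s ∉ p, s * y ∈ Ideal.ofList xs := by
        have h1 : algebraMap T S y ∈ (Ideal.ofList xs).map (algebraMap T S) :=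
          hJp (Ideal.mem_map_of_mem _ hyp)
        obtain ⟨s, hs, h2⟩ := (IsLocalization.algebraMap_mem_map_algebraMap_iff p.primeCompl S _ _).mp h1
        exact ⟨s, hs, h2⟩
      have hsK : s ∈ K := by
        rw [Submodule.mem_colon_singleton, smul_eq_mul, show s * (a * y) = a * (s * y) by ring]
        exact Ideal.mul_mem_left _ _ hsy
      let Ps := (Ideal.finite_minimalPrimes_of_isNoetherianRing T (Ideal.ofList xs)).toFinset
      have hPs : ∀ P ∈ Ps, ¬ K ≤ P := by
        intro P hP hle
        rw [Set.Finite.mem_toFinset] at hP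
        haveI : P.IsPrime := hP.1.1
        have hpP : p ≤ P := hpJy.trans
          (sup_le (hxK.trans hle) ((Ideal.span_singleton_le_iff_mem _).mpr (hle hyK)))
        rcases hpP.eq_or_lt with rfl | hlt
        · exact hs (hle hsK)
        · have h1 := Ideal.height_strict_mono_of_isPrime hlt
          have h2 := height_le_length xs P hP
          rw [hh] at h1
          rw [hlen] at h2
          exact absurd (h1.trans_le h2) (lt_irrefl _)
      obtain ⟨x, hx, hxP⟩ := Groth.Agent.LCI.Vasconcelos.exists_add_notMem Ps
        (fun P hP => ((Set.Finite.mem_toFinset _).mp hP).1.1) K hPs 0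
      refine mem_of_mul_mem xs hreg (fun P hP => by simpa using hxP P ((Set.Finite.mem_toFinset _).mpr hP)) ?_
      exact Submodule.mem_colon_singleton.mp hx

end Groth.Agent.S17874
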