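import Groth.Statements.S17875
import Mathlib.RingTheory.Polynomial.Pochhammer
import Mathlib.Data.Nat.Choose.Sum
import Mathlib.Tactic.FieldSimp
import Mathlib.Tactic.Ring

set_option autoImplicit false
universe u
open Polynomial
open GRRSing

namespace Groth.Agent.S17875

/-- Let R be a commutative ℚ-algebra, r an element of R and δ a natural number with (r - 1) ^ (δ + 1) =
0. Write s(k, j) for the signed Stirling numbers of the first kind, the coefficients of x (x - 1) ⋯
(x - k + 1) = Σ_j s(k, j) x ^ j. Then (i) for every natural number n, r ^ n = Σ_{k ≤ δ} [n (n - 1) ⋯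
(n - k + 1) / k!] (r - 1) ^ k; and (ii) in the polynomial ring R[x], Σ_{k ≤ δ} [x (x - 1) ⋯ (x - k +
1) / k!] (r - 1) ^ k = Σ_{j ≤ δ} [Σ_{k ≤ δ} Σ_{u ≤ k} (-1) ^ (k - u) s(k, j) / (u! (k - u)!) · r ^
u] x ^ j. -/
theorem result {R : Type u} [CommRing R] [Algebra ℚ R]
    (r : R) (δ : ℕ) (hr : (r - 1) ^ (δ + 1) = 0) :
    (∀ n : ℕ, r ^ n = ∑ k ∈ Finset.range (δ + 1), ((descPochhammer ℚ k).eval (n : ℚ) / (k.factorial : ℚ)) • (r - 1) ^ k) ∧
    (∑ k ∈ Finset.range (δ + 1), ((k.factorial : ℚ)⁻¹ • (descPochhammer R k * Polynomial.C ((r - 1) ^ k))) =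
      ∑ j ∈ Finset.range (δ + 1), Polynomial.C (∑ k ∈ Finset.range (δ + 1), ∑ u ∈ Finset.range (k + 1),
        (((-1 : ℚ) ^ (k - u) * (((descPochhammer ℤ k).coeff j : ℤ) : ℚ)) / ((u.factorial * (k - u).factorial : ℕ) : ℚ)) • r ^ u) * Polynomial.X ^ j) := by
  constructor
  · intro n
    have h1 : r ^ n = ∑ k ∈ Finset.range (n + 1), (n.choose k : ℚ) • (r - 1) ^ k := by
      conv_lhs => rw [show r = (r - 1) + 1 by ring, add_pow]
      refine Finset.sum_congr rfl fun k _ => ?_
      rw [one_pow, mul_one, Nat.cast_smul_eq_nsmul ℚ, nsmul_eq_mul, mul_comm]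
    have h2 : ∀ k, ((descPochhammer ℚ k).eval (n : ℚ) / (k.factorial : ℚ)) = (n.choose k : ℚ) := by
      intro k
      rw [descPochhammer_eval_eq_descFactorial, Nat.descFactorial_eq_factorial_mul_choose]
      push_cast
      field_simp
    simp only [h2]
    rw [h1, Finset.sum_subset (Finset.range_mono (show n + 1 ≤ max n δ + 1 by omega)),
      Finset.sum_subset (Finset.range_mono (show δ + 1 ≤ max n δ + 1 by omega))]
    · intro k _ hk
      simp only [Finset.mem_range] at hk
      rw [pow_eq_zero_of_le (by omega) hr, smul_zero]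
    · intro k _ hk
      simp only [Finset.mem_range] at hk
      rw [Nat.choose_eq_zero_of_lt (by omega), Nat.cast_zero, zero_smul]
  · have hc : ∀ k j, (descPochhammer R k).coeff j = (((descPochhammer ℤ k).coeff j : ℤ) : R) := by
      intro k j
      rw [← descPochhammer_map (Int.castRingHom R) k, Polynomial.coeff_map]
      rfl
    refine Polynomial.ext fun j => ?_
    simp only [Polynomial.finsetSum_coeff, Polynomial.coeff_smul, Polynomial.coeff_mul_C,
      Polynomial.coeff_C_mul, Polynomial.coeff_X_pow, mul_ite, mul_one, mul_zero]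
    rw [Finset.sum_ite_eq]
    by_cases hj : j ∈ Finset.range (δ + 1)
    · rw [if_pos hj]
      refine Finset.sum_congr rfl fun k _ => ?_
      rw [hc, sub_eq_add_neg, add_pow, Finset.mul_sum, Finset.smul_sum]
      refine Finset.sum_congr rfl fun u hu => ?_
      have hu' : u ≤ k := Nat.lt_succ_iff.mp (Finset.mem_range.mp hu)
      rw [Nat.cast_mul, ← Nat.choose_mul_factorial_mul_factorial hu', Algebra.smul_def,
        Algebra.smul_def]
      have hne : (k.choose u : ℚ) ≠ 0 := by exact_mod_cast (Nat.choose_pos hu').ne'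
      rw [show ((descPochhammer ℤ k).coeff j : R) * (r ^ u * (-1) ^ (k - u) * (k.choose u : R)) =
          algebraMap ℚ R (((descPochhammer ℤ k).coeff j : ℤ) * ((-1) ^ (k - u) * (k.choose u : ℚ))) * r ^ u by
        simp [map_mul, map_pow]; ring, ← mul_assoc, ← map_mul]
      congr 2
      push_cast
      field_simp
    · rw [if_neg hj]
      refine Finset.sum_eq_zero fun k hk => ?_
      simp only [Finset.mem_range] at hj hk
      rw [Polynomial.coeff_eq_zero_of_natDegree_lt, zero_mul, smul_zero]
      rcases subsingleton_or_nontrivial R with h | h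
      · rw [Subsingleton.elim (descPochhammer R k) 0, Polynomial.natDegree_zero]; omega
      · calc (descPochhammer R k).natDegree ≤ k := by
              rw [← descPochhammer_map (Int.castRingHom R) k]
              exact Polynomial.natDegree_map_le.trans (descPochhammer_natDegree ℤ k).le
          _ < j := by omega


end Groth.Agent.S17875
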