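import Groth.Statements.S17876
import Groth.Agent.CohDev.Tensor

set_option autoImplicit false
universe u
open CategoryTheory CategoryTheory.Limits AlgebraicGeometry
attribute [local instance] HasDerivedCategory.standard
open GRRSing

namespace Groth.Agent.S17876

open Groth.Agent.CohDev

/-- Let W be a Noetherian scheme and V a finite locally free O_W-module of constant rank r. Tensoring
with V is exact and preserves coherence (carried here as hypotheses), so it induces an endomorphism
[V] ⊗ (−) of K_0(Coh W), the Grothendieck group of coherent O_W-modules. Then [V] ⊗ (−) − r · id is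
a nilpotent endomorphism of K_0(Coh W): some iterate of it vanishes identically. (Equivalently:
rk(V) − V is nilpotent in the quotient of K^0(W) by the annihilator of K_0(W).) -/
theorem result {W : Scheme.{u}} [IsNoetherian W] (r : ℕ) (V : W.Modules)
    (hV : FlatMod.IsFinLocFreeOfRank r V)
    [((DCoh.tensorBi (X := W)).obj V).Additive] [PreservesFiniteLimits ((DCoh.tensorBi (X := W)).obj V)]
    [PreservesFiniteColimits ((DCoh.tensorBi (X := W)).obj V)]
    (hVc : ∀ M : W.Modules, Coh.IsCoh M → Coh.IsCoh (((DCoh.tensorBi (X := W)).obj V).obj M)) :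
    ∃ n : ℕ, ∀ y : SGA6.Kcoh W,
      (⇑(SGA6.mapSub ((DCoh.tensorBi (X := W)).obj V) (fun M : W.Modules => Coh.IsCoh M) (fun M : W.Modules => Coh.IsCoh M) hVc -
        r • AddMonoidHom.id (SGA6.Kcoh W)))^[n] y = 0 := by
  classical
  set D : SGA6.Kcoh W →+ SGA6.Kcoh W :=
    SGA6.mapSub ((DCoh.tensorBi (X := W)).obj V) (fun M : W.Modules => Coh.IsCoh M)
      (fun M : W.Modules => Coh.IsCoh M) hVc - r • AddMonoidHom.id (SGA6.Kcoh W) with hD
  choose U e hx he using exists_frame (V := V) hV
  obtain ⟨σ, hσ⟩ := isCompact_univ.elim_finite_subcover (fun x : W => (U x : Set W))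
    (fun x => (U x).isOpen) fun x _ => Set.mem_iUnion.mpr ⟨x, hx x⟩
  have hstep : ∀ (T : Set W) (x : W), ∀ y ∈ clSpan T, D y ∈ clSpan (T \ U x) := by
    intro T x y hy
    induction hy using AddSubgroup.closure_induction with
    | mem c hc =>
      obtain ⟨G, hG, hs, rfl⟩ := hc
      simp only [hD, AddMonoidHom.sub_apply, AddMonoidHom.smul_apply, AddMonoidHom.id_apply]
      rw [mapSub_kcl _ hVc hG]
      exact kcl_tens_sub_mem (he x) hG (hVc G hG) hs
    | zero => rw [map_zero]; exact zero_mem _
    | add a b _ _ ha hb => rw [map_add]; exact add_mem ha hb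
    | neg a _ ha => rw [map_neg]; exact neg_mem ha
  have hiter : ∀ τ : Finset W, ∀ y, (⇑D)^[τ.card] y ∈ clSpan ((⋃ x ∈ τ, (U x : Set W))ᶜ) := by
    intro τ
    induction τ using Finset.induction with
    | empty =>
      intro y
      simp only [Finset.notMem_empty, Set.iUnion_of_empty, Set.iUnion_empty, Set.compl_empty]
      induction y using kcl_induction with
      | h0 => exact zero_mem _
      | hcl M hM => exact kcl_mem_clSpan hM (Set.subset_univ _)
      | hneg a ha => exact neg_mem ha
      | hadd a b ha hb => exact add_mem ha hb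
    | insert a τ ha ih =>
      intro y
      rw [Finset.card_insert_of_notMem ha, Function.iterate_succ_apply']
      refine AddSubgroup.closure_mono ?_ (hstep _ a _ (ih y))
      rintro c ⟨G, hG, hs, rfl⟩
      refine ⟨G, hG, hs.trans ?_, rfl⟩
      intro z hz
      simp only [Finset.mem_insert, Set.iUnion_iUnion_eq_or_left, Set.compl_union]
      exact ⟨hz.2, hz.1⟩
  refine ⟨σ.card, fun y => ?_⟩
  have h := hiter σ y
  have hbot : clSpan ((⋃ x ∈ σ, (U x : Set W))ᶜ) ≤ ⊥ := by
    refine (AddSubgroup.closure_le _).mpr ?_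
    rintro c ⟨G, hG, hs, rfl⟩
    refine kcl_of_isZero (isZero_of_support_eq_empty (Set.subset_empty_iff.mp (hs.trans ?_)))
    intro z hz
    exact hz (hσ (Set.mem_univ z))
  exact AddSubgroup.mem_bot.mp (hbot h)

end Groth.Agent.S17876
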