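import Groth.Statements.S17877
import Groth.Agent.Omega.RankDim
import Groth.Agent.Omega.LocalFibre
import Mathlib.RingTheory.Kaehler.TensorProduct
import Mathlib.RingTheory.Ideal.GoingUp
-- import your own Groth.Agent.* helpers here

set_option autoImplicit false
universe u
open GRRSing

namespace Groth.Agent.S17877

open TensorProduct IsLocalRing KaehlerDifferential

/-- Equal ideals have the same cotangent module. -/
noncomputable def cotangentCongr {R : Type u} [CommRing R] {I J : Ideal R} (h : I = J) :
    I.Cotangent ≃ₗ[R] J.Cotangent := by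
  subst h; exact LinearEquiv.refl _ _

/-- Cotangent space at a rational point. -/
lemma finrank_fibre_local (k : Type u) [Field k] (L : Type u) [CommRing L] [IsLocalRing L] [Algebra k L]
    (hbij : Function.Bijective (algebraMap k (ResidueField L))) :
    Module.finrank (ResidueField L) (ResidueField L ⊗[L] Ω[L⁄k]) =
      Module.finrank (ResidueField L) (CotangentSpace L) := by
  classical
  have hf : Function.Surjective (algebraMap L (ResidueField L)) := Ideal.Quotient.mk_surjective
  let f := IsScalarTower.toAlgHom k L (ResidueField L)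
  let g : ResidueField L →ₐ[k] L ⧸ RingHom.ker (f : L →+* ResidueField L) ^ 2 :=
    (Algebra.ofId k _).comp (AlgEquiv.ofBijective (Algebra.ofId k (ResidueField L)) hbij).symm.toAlgHom
  have hg : f.kerSquareLift.comp g = AlgHom.id k (ResidueField L) := by
    refine AlgHom.ext fun x => ?_
    obtain ⟨c, rfl⟩ := hbij.2 x
    simp only [AlgHom.coe_comp, Function.comp_apply, AlgHom.commutes, AlgHom.coe_id, id]
  obtain ⟨⟨l, hl⟩⟩ : Nonempty { l // l ∘ₗ (KaehlerDifferential.kerCotangentToTensor k L (ResidueField L)) = LinearMap.id } :=
    ⟨(retractionKerCotangentToTensorEquivSection hf).symm ⟨g, hg⟩⟩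
  have : Algebra.FormallyUnramified k (ResidueField L) :=
    Algebra.FormallyUnramified.of_surjective (Algebra.ofId k _) hbij.2
  have hb : Function.Bijective (KaehlerDifferential.kerCotangentToTensor k L (ResidueField L)) :=
    ⟨Function.LeftInverse.injective (g := l) (LinearMap.congr_fun hl), fun y =>
      (KaehlerDifferential.exact_kerCotangentToTensor_mapBaseChange k L (ResidueField L) hf y).mp
        (Subsingleton.elim _ _)⟩
  have hm : maximalIdeal L = RingHom.ker (algebraMap L (ResidueField L)) := (Ideal.mk_ker).symm
  let e : CotangentSpace L ≃ₗ[L] ResidueField L ⊗[L] Ω[L⁄k] :=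
    (cotangentCongr hm).trans (LinearEquiv.ofBijective _ hb)
  exact (LinearEquiv.finrank_eq (LinearEquiv.extendScalarsOfSurjective hf e)).symm

attribute [local instance] Algebra.TensorProduct.rightAlgebra

/-- The fibre of Ω at every maximal ideal of A has dimension at most d + 1. -/
lemma fibre_le {K : Type u} [Field K] {A : Type u} [CommRing A] [Algebra K A] [Algebra.FiniteType K A]
    (hhyp : ∀ (q : Ideal (AlgebraicClosure K ⊗[K] A)) [q.IsPrime],
      (Module.finrank (ResidueField (Localization.AtPrime q))
          (CotangentSpace (Localization.AtPrime q)) : ℕ∞) ≤ q.height + 1)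
    (d : ℕ) (hd : ringKrullDim A = d) (m : Ideal A) [m.IsMaximal] :
    Module.finrank m.ResidueField (m.ResidueField ⊗[A] Ω[A⁄K]) ≤ d + 1 := by
  let Kb := AlgebraicClosure K
  let T := Kb ⊗[K] A
  have : Algebra.IsIntegral K Kb := inferInstance
  have hint : Algebra.IsIntegral A T := by
    refine ⟨fun (x : Kb ⊗[K] A) => ?_⟩
    induction x using TensorProduct.induction_on with
    | zero => exact isIntegral_zero
    | add a b ha hb => exact ha.add hb
    | tmul c a =>
      have h1 : IsIntegral A (c ⊗ₜ[K] (1 : A)) := by
        obtain ⟨P, hP, hPc⟩ := Algebra.IsIntegral.isIntegral (R := K) c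
        refine ⟨P.map (algebraMap K A), hP.map _, ?_⟩
        rw [Polynomial.eval₂_map, ← IsScalarTower.algebraMap_eq K A T]
        have := Polynomial.hom_eval₂ P (algebraMap K Kb)
          (Algebra.TensorProduct.includeLeftRingHom : Kb →+* T) c
        rw [hPc, map_zero] at this
        exact this.symm
      have h2 : c ⊗ₜ[K] a = algebraMap A T a * (c ⊗ₜ[K] (1 : A)) := by
        simp [T, Algebra.TensorProduct.right_algebraMap_apply]
      rw [h2]
      exact isIntegral_algebraMap.mul h1
  have hinj : Function.Injective (algebraMap A T) :=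
    Algebra.TensorProduct.includeRight_injective (algebraMap K Kb).injective
  obtain ⟨q, hq, hqm⟩ := Ideal.exists_ideal_over_maximal_of_isIntegral (S := T) m
    (by rw [(RingHom.injective_iff_ker_eq_bot _).mp hinj]; exact bot_le)
  have : q.LiesOver m := ⟨hqm.symm⟩
  let κ := q.ResidueField
  have hbij : Function.Bijective (algebraMap Kb κ) := by
    have : Algebra.FiniteType Kb T := inferInstance
    have hfin : Module.Finite Kb (T ⧸ q) := by
      let := Ideal.Quotient.field q
      exact finite_of_finite_type_of_isJacobsonRing Kb (T ⧸ q)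
    have hb : Function.Bijective (algebraMap (T ⧸ q) κ) := q.bijective_algebraMap_quotient_residueField
    have h2 : Function.Bijective (algebraMap Kb (T ⧸ q)) :=
      IsAlgClosed.algebraMap_bijective_of_isIntegral
    rw [IsScalarTower.algebraMap_eq Kb (T ⧸ q) κ]
    exact hb.comp h2
  have hcot := finrank_fibre_local Kb (Localization.AtPrime q) hbij
  rw [Groth.Agent.Omega.LocalFibre.finrank_fibre_eq_rank Kb q] at hcot
  have hrank : Groth.Agent.Omega.RankDim.rank Kb q =
      Module.finrank m.ResidueField (m.ResidueField ⊗[A] Ω[A⁄K]) := by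
    let e : κ ⊗[T] Ω[T⁄Kb] ≃ₗ[κ] κ ⊗[A] Ω[A⁄K] :=
      (AlgebraTensorModule.congr (LinearEquiv.refl κ κ)
        (KaehlerDifferential.tensorKaehlerEquiv K Kb A T).symm).trans
        (AlgebraTensorModule.cancelBaseChange A T κ κ Ω[A⁄K])
    show Module.finrank κ (κ ⊗[T] Ω[T⁄Kb]) = _
    rw [e.finrank_eq]
    let : Algebra m.ResidueField κ := (Ideal.ResidueField.map m q (algebraMap A T) hqm.symm).toAlgebra
    have : IsScalarTower A m.ResidueField κ :=
      IsScalarTower.of_algebraMap_eq fun a => (by
        rw [RingHom.algebraMap_toAlgebra, Ideal.ResidueField.map_algebraMap]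
        exact IsScalarTower.algebraMap_apply A T κ a)
    exact Groth.Agent.Omega.RankDim.finrank_fibre_eq _ m κ
  have hht : (q.height : WithBot ℕ∞) ≤ d := by
    refine le_trans (Ideal.height_le_ringKrullDim_of_ne_top hq.ne_top) ?_
    rw [← hd]
    exact Order.krullDim_le_of_strictMono (PrimeSpectrum.comap (algebraMap A T)) fun p q hpq =>
      Ideal.IsIntegral.comap_lt_comap hpq
  have h := hhyp q
  rw [← hcot, hrank] at h
  have hht' : q.height ≤ (d : ℕ∞) := by exact_mod_cast hht
  exact_mod_cast h.trans (add_le_add hht' le_rfl)

/-- Let K be a field with algebraic closure K̄ and Z = Spec A an affine scheme of finite type over K of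
dimension d whose geometric fibre Spec (K̄ ⊗_K A) is integral with at most hypersurface
singularities (at every prime the embedding dimension of the local ring, the dimension of 𝔪/𝔪² over
the residue field, is at most the height of the prime plus one). Then for every prime p of A the
(Ω_{A/K})_p is generated over A_p by at most d + 1 elements. (The published statement is for any Z
of finite type over K; the assertion is local on Z and the hypotheses pass to affine opens.) -/
theorem result
    {K : Type u} [Field K] {A : Type u} [CommRing A] [Algebra K A] [Algebra.FiniteType K A]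
    [IsDomain (TensorProduct K (AlgebraicClosure K) A)]
    (hhyp : ∀ (q : Ideal (TensorProduct K (AlgebraicClosure K) A)) [q.IsPrime],
      (Module.finrank (IsLocalRing.ResidueField (Localization.AtPrime q))
          (IsLocalRing.CotangentSpace (Localization.AtPrime q)) : ℕ∞) ≤ q.height + 1)
    (d : ℕ) (hd : ringKrullDim A = d) (p : Ideal A) [p.IsPrime] :
    ∃ s : Finset (LocalizedModule p.primeCompl (KaehlerDifferential K A)),
      s.card ≤ d + 1 ∧ Submodule.span (Localization.AtPrime p) (s : Set (LocalizedModule p.primeCompl (KaehlerDifferential K A))) = ⊤ := by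
  classical
  obtain ⟨m, hm, hpm⟩ := p.exists_le_maximal Ideal.IsPrime.ne_top'
  have hle : Module.finrank p.ResidueField (p.ResidueField ⊗[A] Ω[A⁄K]) ≤ d + 1 :=
    (Groth.Agent.Omega.RankDim.finrank_fibre_mono Ω[A⁄K] hpm).trans (fibre_le hhyp d hd m)
  let Ap := Localization.AtPrime p
  let M := LocalizedModule p.primeCompl Ω[A⁄K]
  let k' := ResidueField Ap
  let e : k' ⊗[Ap] M ≃ₗ[k'] p.ResidueField ⊗[A] Ω[A⁄K] :=
    (AlgebraTensorModule.congr (LinearEquiv.refl k' k')
      (LocalizedModule.equivTensorProduct p.primeCompl Ω[A⁄K])).trans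
      (AlgebraTensorModule.cancelBaseChange A Ap k' k' Ω[A⁄K])
  have : Module.Finite Ap M := Module.Finite.equiv (LocalizedModule.equivTensorProduct p.primeCompl Ω[A⁄K]).symm
  have hspan : Submodule.span k' (Set.range fun x : M => (1 : k') ⊗ₜ[Ap] x) = ⊤ := by
    rw [eq_top_iff]
    rintro t -
    induction t with
    | zero => exact zero_mem _
    | add a b ha hb => exact add_mem ha hb
    | tmul c x =>
      rw [← mul_one c, ← smul_eq_mul, ← TensorProduct.smul_tmul']
      exact Submodule.smul_mem _ _ (Submodule.subset_span ⟨x, rfl⟩)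
  obtain ⟨f, hf, hspan', -⟩ := Submodule.exists_fun_fin_finrank_span_eq k'
    (Set.range fun x : M => (1 : k') ⊗ₜ[Ap] x)
  choose x hx using hf
  refine ⟨Finset.univ.image x, Finset.card_image_le.trans ?_, ?_⟩
  · rw [Finset.card_univ, Fintype.card_fin, hspan, finrank_top, e.finrank_eq]
    exact hle
  · rw [Finset.coe_image, Finset.coe_univ, Set.image_univ]
    rw [← IsLocalRing.map_tensorProduct_mk_eq_top, Submodule.map_span, ← Set.range_comp,
      ← Submodule.restrictScalars_span Ap k' Ideal.Quotient.mk_surjective,
      Submodule.restrictScalars_eq_top_iff]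
    refine Eq.trans ?_ (hspan'.trans hspan)
    congr 1
    exact congrArg Set.range (funext hx)

end Groth.Agent.S17877
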