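import Groth.Statements.S17878
import Mathlib.Analysis.SpecificLimits.Normed
import Mathlib.Data.Nat.Choose.Sum
import Mathlib.Data.Nat.Factorial.Basic
import Mathlib.Algebra.Polynomial.Eval.Degree
import Mathlib.Topology.Algebra.InfiniteSum.NatInt
import Mathlib.Algebra.BigOperators.NatAntidiagonal

set_option autoImplicit false
universe u
open Filter Topology
open GRRSing

namespace Groth.Agent.S17878

section
open Filter Topology Finset

/-- `∑ k^j y^k`. -/
noncomputable def f (j : ℕ) (y : ℂ) : ℂ := ∑' k : ℕ, (k : ℂ) ^ j * y ^ k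

lemma summable_f (j : ℕ) {y : ℂ} (hy : ‖y‖ < 1) : Summable fun k : ℕ => (k : ℂ) ^ j * y ^ k :=
  summable_pow_mul_geometric_of_norm_lt_one j hy

lemma f_rec (j : ℕ) {y : ℂ} (hy : ‖y‖ < 1) :
    f j y = (0 : ℂ) ^ j + y * ∑ i ∈ range (j + 1), (j.choose i : ℂ) * f i y := by
  have h2 : (fun k : ℕ => ((k + 1 : ℕ) : ℂ) ^ j * y ^ (k + 1)) =
      fun k : ℕ => y * ∑ i ∈ range (j + 1), (j.choose i : ℂ) * ((k : ℂ) ^ i * y ^ k) := by
    funext k
    rw [Nat.cast_add, Nat.cast_one, add_pow, Finset.sum_mul, Finset.mul_sum]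
    refine Finset.sum_congr rfl fun i _ => ?_
    rw [one_pow, pow_succ]
    ring
  rw [f, (summable_f j hy).tsum_eq_zero_add, h2, tsum_mul_left,
    Summable.tsum_finsetSum (fun i _ => (summable_f i hy).mul_left _), Nat.cast_zero, pow_zero,
    mul_one]
  simp only [tsum_mul_left]
  rfl

variable (E : ℕ → ℚ)
  (hE : PowerSeries.mk (fun j => E j / (j.factorial : ℚ)) * (PowerSeries.exp ℚ + 1) = 2)
include hE

lemma E_rec (j : ℕ) :
    ∑ i ∈ range j, (j.choose i : ℚ) * E i + 2 * E j = 2 * (0 : ℚ) ^ j := by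
  have h := congrArg (fun p => (j.factorial : ℚ) * PowerSeries.coeff j p) hE
  rw [show (2 : PowerSeries ℚ) = PowerSeries.C (2 : ℚ) from (map_ofNat _ 2).symm] at h
  simp only [mul_add, mul_one, map_add, PowerSeries.coeff_mk, PowerSeries.coeff_C] at h
  rw [PowerSeries.coeff_mul, Finset.Nat.sum_antidiagonal_eq_sum_range_succ_mk, Finset.mul_sum,
    Finset.sum_range_succ] at h
  have hterm : ∀ i ∈ range j, (j.factorial : ℚ) * (PowerSeries.coeff i
      (PowerSeries.mk fun j => E j / (j.factorial : ℚ)) * PowerSeries.coeff (j - i) (PowerSeries.exp ℚ)) =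
      (j.choose i : ℚ) * E i := by
    intro i hi
    have hij : i ≤ j := (Finset.mem_range.1 hi).le
    have h1 : (j.choose i : ℚ) * i.factorial * (j - i).factorial = j.factorial := by
      exact_mod_cast Nat.choose_mul_factorial_mul_factorial hij
    simp only [PowerSeries.coeff_mk, PowerSeries.coeff_exp, eq_ratCast, Rat.cast_id]
    rw [← h1]
    field_simp
  rw [Finset.sum_congr rfl hterm] at h
  simp only [Nat.sub_self, PowerSeries.coeff_mk, PowerSeries.coeff_exp, Nat.factorial_zero,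
    Nat.cast_one, div_one, map_one, mul_one] at h
  have hj : (j.factorial : ℚ) * (E j / (j.factorial : ℚ)) = E j := by
    field_simp
  rw [hj] at h
  have hr : (j.factorial : ℚ) * (if j = 0 then 2 else 0) = 2 * (0 : ℚ) ^ j := by
    rcases j with _ | j <;> simp
  rw [← hr]
  linarith [h]

lemma tendsto_f (j : ℕ) :
    Tendsto (fun y : ℝ => f j (y : ℂ)) (𝓝[Set.Ioo (-1 : ℝ) 1] (-1 : ℝ)) (𝓝 ((E j : ℂ) / 2)) := by
  induction j using Nat.strong_induction_on with
  | _ j ih =>
    have hy : Tendsto (fun y : ℝ => (y : ℂ)) (𝓝[Set.Ioo (-1 : ℝ) 1] (-1 : ℝ)) (𝓝 (-1 : ℂ)) := by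
      have := (Complex.continuous_ofReal.tendsto (-1 : ℝ)).mono_left
        (nhdsWithin_le_nhds (s := Set.Ioo (-1 : ℝ) 1))
      simpa using this
    have heq : (fun y : ℝ => f j (y : ℂ)) =ᶠ[𝓝[Set.Ioo (-1 : ℝ) 1] (-1 : ℝ)]
        fun y : ℝ => ((0 : ℂ) ^ j + (y : ℂ) * ∑ i ∈ range j, (j.choose i : ℂ) * f i y) / (1 - y) := by
      filter_upwards [self_mem_nhdsWithin] with y hy
      have hn : ‖(y : ℂ)‖ < 1 := by
        rw [Complex.norm_real, Real.norm_eq_abs, abs_lt]
        exact hy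
      have hne : (1 : ℂ) - y ≠ 0 := by
        intro h
        rw [sub_eq_zero] at h
        rw [← h, norm_one] at hn
        exact lt_irrefl _ hn
      rw [eq_div_iff hne]
      have h := f_rec j hn
      rw [Finset.sum_range_succ, Nat.choose_self, Nat.cast_one, one_mul] at h
      linear_combination h
    refine Tendsto.congr' heq.symm ?_
    have hlim := ((tendsto_const_nhds (x := (0 : ℂ) ^ j)).add (hy.mul
      (tendsto_finsetSum (range j) fun i hi =>
        (ih i (Finset.mem_range.1 hi)).const_mul (j.choose i : ℂ)))).div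
      ((tendsto_const_nhds (x := (1 : ℂ))).sub hy) (by norm_num)
    suffices hval : (E j : ℂ) / 2 =
        ((0 : ℂ) ^ j + -1 * ∑ i ∈ range j, (j.choose i : ℂ) * ((E i : ℂ) / 2)) / (1 - -1) by
      rw [hval]
      exact hlim
    have h := congrArg (fun q : ℚ => (q : ℂ)) (E_rec E hE j)
    push_cast at h
    have h' : ∑ i ∈ range j, (j.choose i : ℂ) * ((E i : ℂ) / 2) =
        (∑ i ∈ range j, (j.choose i : ℂ) * (E i : ℂ)) / 2 := by
      rw [div_eq_mul_inv, Finset.sum_mul]
      exact Finset.sum_congr rfl fun i _ => by ring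
    rw [h']
    linear_combination (1 / 4 : ℂ) * h

end

/-- Let T be a nonzero commutative normed ℂ-algebra such that the map ℂ → T/nilradical(T) is surjective,
let P = Σ_j d_j x ^ j be a polynomial over T and put h_k = P(k). Let E_0, E_1, … be the rational
numbers with 2/(e^t + 1) = Σ_j E_j t ^ j / j! (so E_0 = 1, E_1 = -1/2). Then for every complex y
with |y| < 1 the series Σ_k h_k y ^ k converges in T, and as y → -1 along real y in (-1, 1) its sum
tends to (1/2) Σ_j E_j d_j. (The published statement allows any norm topology on T as a complex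
vector space; this row takes T a normed ℂ-algebra.) -/
theorem result {T : Type u} [NormedCommRing T] [NormedAlgebra ℂ T] [Nontrivial T]
    (hT : Function.Surjective (algebraMap ℂ (T ⧸ nilradical T)))
    (E : ℕ → ℚ) (hE : PowerSeries.mk (fun j => E j / (j.factorial : ℚ)) * (PowerSeries.exp ℚ + 1) = 2)
    (P : Polynomial T) :
    (∀ y : ℂ, ‖y‖ < 1 → Summable (fun k : ℕ => y ^ k • P.eval (k : T))) ∧
    Tendsto (fun y : ℝ => ∑' k : ℕ, ((y : ℂ) ^ k) • P.eval (k : T)) (𝓝[Set.Ioo (-1 : ℝ) 1] (-1 : ℝ))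
      (𝓝 ((2 : ℂ)⁻¹ • ∑ j ∈ Finset.range (P.natDegree + 1), ((E j : ℚ) : ℂ) • P.coeff j)) := by
  let n := P.natDegree
  have heval : ∀ k : ℕ, ∀ y : ℂ, y ^ k • P.eval (k : T) =
      ∑ j ∈ Finset.range (n + 1), ((k : ℂ) ^ j * y ^ k) • P.coeff j := by
    intro k y
    rw [Polynomial.eval_eq_sum_range, Finset.smul_sum]
    refine Finset.sum_congr rfl fun j _ => ?_
    rw [mul_comm ((k : ℂ) ^ j), mul_smul, Algebra.smul_def ((k : ℂ) ^ j), map_pow, map_natCast,
      mul_comm]
  have hsum : ∀ y : ℂ, ‖y‖ < 1 → HasSum (fun k : ℕ => y ^ k • P.eval (k : T))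
      (∑ j ∈ Finset.range (n + 1), f j y • P.coeff j) := fun y hy => by
    simp only [heval]
    exact hasSum_sum fun j _ => (summable_f j hy).hasSum.smul_const (P.coeff j)
  refine ⟨fun y hy => (hsum y hy).summable, ?_⟩
  have heq : (fun y : ℝ => ∑' k : ℕ, ((y : ℂ) ^ k) • P.eval (k : T)) =ᶠ[𝓝[Set.Ioo (-1 : ℝ) 1] (-1 : ℝ)]
      fun y : ℝ => ∑ j ∈ Finset.range (n + 1), f j (y : ℂ) • P.coeff j := by
    filter_upwards [self_mem_nhdsWithin] with y hy
    refine (hsum _ ?_).tsum_eq
    rw [Complex.norm_real, Real.norm_eq_abs, abs_lt]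
    exact hy
  refine Tendsto.congr' heq.symm ?_
  rw [Finset.smul_sum]
  refine tendsto_finsetSum _ fun j _ => ?_
  have := (tendsto_f E hE j).smul_const (P.coeff j)
  rwa [div_eq_inv_mul, mul_smul] at this

end Groth.Agent.S17878
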