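import Groth.Statements.S17880
import Groth.Agent.LimLib.FPSystem
-- import your own Groth.Agent.* helpers here

set_option autoImplicit false
universe u
open CategoryTheory AlgebraicGeometry
open Lim

namespace Groth.Agent.S17880

/-- Let f : Y → X be a morphism of schemes with X and Y quasi-compact and quasi-separated. Then f is the
composite of an affine morphism Y → Z and a morphism Z → X of finite presentation (locally of finite
presentation, quasi-compact and quasi-separated); if f is separated, Z → X can in addition be chosen
separated. Both assertions are packaged in one existential. -/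
theorem result {X Y : Scheme.{u}} (f : Y ⟶ X)
    [CompactSpace X] [QuasiSeparatedSpace X] [CompactSpace Y] [QuasiSeparatedSpace Y] :
    ∃ (Z : Scheme.{u}) (g : Y ⟶ Z) (h : Z ⟶ X), IsAffineHom g ∧ LocallyOfFinitePresentation h ∧
      QuasiCompact h ∧ QuasiSeparated h ∧ (IsSeparated f → IsSeparated h) ∧ g ≫ h = f := by
  obtain ⟨P⟩ := LimLib.nonempty_fpSystem f
  by_cases hf : IsSeparated f
  · obtain ⟨i, h⟩ := LimLib.FPSystem.eventually_isSeparated P
    exact ⟨_, (P.π.app i).left, (P.D.obj i).hom, P.isAffineHom_π i, P.lfp i, P.quasiCompact i,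
      P.quasiSeparated i, fun _ => h i (𝟙 _), Over.w (P.π.app i)⟩
  · obtain ⟨i⟩ : Nonempty P.Jᵒᵖ := ⟨Opposite.op (Classical.arbitrary _)⟩
    exact ⟨_, (P.π.app i).left, (P.D.obj i).hom, P.isAffineHom_π i, P.lfp i, P.quasiCompact i,
      P.quasiSeparated i, fun h => absurd h hf, Over.w (P.π.app i)⟩

end Groth.Agent.S17880
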