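import Groth.Statements.S17879
import Groth.Agent.Nagata.Boundary
import Groth.Agent.S17880

set_option autoImplicit false
universe u
open CategoryTheory AlgebraicGeometry
open Lim

namespace Groth.Agent.S17879

/-- An open immersion whose complement is the support of an effective Cartier divisor is affine. -/
theorem isAffineHom_of_compl {U X : Scheme.{u}} (j : U ⟶ X) [IsOpenImmersion j] (E : X.IdealSheafData)
    (hE : BlowUp.IsEffCartierIdeal E) (hs : (E.support : Set X) = (Set.range j.base)ᶜ) : IsAffineHom j := by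
  choose V hxV f _ hf using hE
  refine (HasAffineProperty.iff_of_iSup_eq_top (P := @IsAffineHom) (fun x : X => V x) (eq_top_iff.2
    fun x _ => TopologicalSpace.Opens.mem_iSup.2 ⟨x, hxV x⟩)).2 fun x => ?_
  show IsAffineOpen (j ⁻¹ᵁ (V x).1)
  rw [← j.isAffineOpen_iff_of_isOpenImmersion, j.image_preimage_eq_opensRange_inf]
  convert (V x).2.basicOpen (f x) using 1
  ext y
  by_cases hy : y ∈ (V x).1
  · have h1 : y ∈ E.support ↔ y ∈ X.zeroLocus (U := (V x).1) (E.ideal (V x)) :=
      Scheme.IdealSheafData.mem_support_iff_of_mem hy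
    rw [hf x, Scheme.zeroLocus_span] at h1
    have h3 := Set.ext_iff.1 hs y
    simp only [Scheme.zeroLocus_singleton, Set.mem_compl_iff, SetLike.mem_coe] at h1 h3
    show y ∈ j.opensRange ∧ y ∈ (V x).1 ↔ y ∈ X.basicOpen (f x)
    constructor
    · rintro ⟨hyj, -⟩
      by_contra hb
      exact (h3.1 (h1.2 hb)) hyj
    · intro hb
      refine ⟨?_, hy⟩
      by_contra hn
      exact (h1.1 (h3.2 hn)) hb
  · exact ⟨fun h => absurd h.2 hy, fun h => absurd (X.basicOpen_le _ h) hy⟩


/-- Let f : Y → X be a morphism of schemes with X and Y quasi-compact and quasi-separated. Then f is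
separated if and only if it is the composite of an affine morphism Y → Z and a proper morphism Z →
X, for some scheme Z. -/
theorem result {X Y : Scheme.{u}} (f : Y ⟶ X)
    [CompactSpace X] [QuasiSeparatedSpace X] [CompactSpace Y] [QuasiSeparatedSpace Y] :
    IsSeparated f ↔
      ∃ (Z : Scheme.{u}) (g : Y ⟶ Z) (h : Z ⟶ X), IsAffineHom g ∧ IsProper h ∧ g ≫ h = f := by
  refine ⟨fun hf => ?_, fun ⟨Z, g, h, hg, hh, e⟩ => e ▸ inferInstance⟩
  obtain ⟨Z, g, h, hg, hlfp, hqc, hqs, hsep, e⟩ := S17880.result f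
  haveI := hsep hf
  haveI : LocallyOfFiniteType h := inferInstance
  obtain ⟨Y', j, p, E, hj, -, -, hp, hjp, hE, hEs⟩ := Nagata.exists_compactification_boundary h
  haveI := isAffineHom_of_compl j E hE hEs
  exact ⟨Y', g ≫ j, p, inferInstance, hp, by rw [Category.assoc, hjp, e]⟩

end Groth.Agent.S17879
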