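import Mathlib
import Groth.Statements.S17881
-- import your own Groth.Agent.* helpers here

set_option autoImplicit false
universe u
open CAlg

namespace Groth.Agent.S17881

/-- Let O be a subring of a nontrivial commutative ring A. The following are equivalent: (i) A is a
local ring, every non-unit of A belongs to O, and for every unit u of A one of u, u⁻¹ belongs to O —
equivalently O is the preimage in the local ring A of a valuation ring of the residue field of A,
which makes O a semi-valuation ring with semi-fraction ring A; (ii) for all f, g in A generating the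
unit ideal, either f ∈ gO or g ∈ fO. (A is taken nontrivial: over the zero ring (ii) holds and (i)
fails.) -/
theorem result (A : Type u) [CommRing A] [Nontrivial A]
    (O : Subring A) :
    (IsLocalRing A ∧ (∀ a : A, ¬ IsUnit a → a ∈ O) ∧ (∀ u : Aˣ, (u : A) ∈ O ∨ ((u⁻¹ : Aˣ) : A) ∈ O)) ↔
      ∀ f g : A, IsCoprime f g → (∃ o ∈ O, f = g * o) ∨ (∃ o ∈ O, g = f * o) := by
  constructor
  · rintro ⟨hloc, hnu, hu⟩ f g hfg
    have key : ∀ f g : A, IsUnit g → (∃ o ∈ O, f = g * o) ∨ (∃ o ∈ O, g = f * o) := by
      rintro f g ⟨w, rfl⟩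
      by_cases hf : IsUnit f
      · obtain ⟨z, rfl⟩ := hf
        rcases hu (w⁻¹ * z) with h | h
        · exact Or.inl ⟨_, h, by simp⟩
        · exact Or.inr ⟨_, h, by simp⟩
      · refine Or.inl ⟨((w⁻¹ : Aˣ) : A) * f, hnu _ fun h => hf (isUnit_of_mul_isUnit_right h), by simp⟩
    obtain ⟨a, b, hab⟩ := hfg
    rcases IsLocalRing.isUnit_or_isUnit_of_add_one hab with h | h
    · rcases key g f (isUnit_of_mul_isUnit_right h) with h' | h'
      · exact Or.inr h'
      · exact Or.inl h'
    · exact key f g (isUnit_of_mul_isUnit_right h)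
  · intro h
    refine ⟨IsLocalRing.of_isUnit_or_isUnit_one_sub_self fun a => ?_, fun a ha => ?_, fun u => ?_⟩
    · rcases h a (1 - a) ⟨1, 1, by ring⟩ with ⟨o, -, ho⟩ | ⟨o, -, ho⟩
      · right
        have : (1 - a) * (o + 1) = 1 := by linear_combination -ho
        exact IsUnit.of_mul_eq_one _ this
      · left
        have : a * (o + 1) = 1 := by linear_combination -ho
        exact IsUnit.of_mul_eq_one _ this
    · rcases h a 1 isCoprime_one_right with ⟨o, ho, hao⟩ | ⟨o, -, hao⟩
      · rwa [hao, one_mul]
      · exact absurd (IsUnit.of_mul_eq_one o hao.symm) ha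
    · rcases h (u : A) 1 isCoprime_one_right with ⟨o, ho, huo⟩ | ⟨o, ho, huo⟩
      · left; rwa [huo, one_mul]
      · right
        have : ((u⁻¹ : Aˣ) : A) = o := by
          rw [← mul_one ((u⁻¹ : Aˣ) : A), huo, ← mul_assoc, Units.inv_mul, one_mul]
        rwa [this]

end Groth.Agent.S17881
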