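import Mathlib
import Groth.Statements.S17882
-- import your own Groth.Agent.* helpers here

set_option autoImplicit false
universe u
open CAlg

namespace Groth.Agent.S17882

/-- Let B be a commutative ring, r ≥ 1, N a finitely generated submodule of B^r, and n_1, …, n_r ∈ N.
Suppose the determinant of the matrix with rows n_1, …, n_r is a nonzerodivisor of B and that the
determinant of every matrix whose rows lie in N is a multiple of it (the image of the top exterior
power of N in that of B^r ≅ B is the principal ideal generated by n_1 ∧ ⋯ ∧ n_r, a nonzerodivisor).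
Then n_1, …, n_r are linearly independent over B and span N: N is free of rank r with this basis. -/
theorem result (B : Type u) [CommRing B] (r : ℕ) (hr : 0 < r)
    (N : Submodule B (Fin r → B)) (hN : N.FG) (n : Fin r → (Fin r → B)) (hn : ∀ i, n i ∈ N)
    (hgen : ∀ m : Fin r → (Fin r → B), (∀ i, m i ∈ N) →
      Matrix.det (Matrix.of m) ∈ Ideal.span {Matrix.det (Matrix.of n)})
    (hnzd : Matrix.det (Matrix.of n) ∈ nonZeroDivisors B) :
    LinearIndependent B n ∧ Submodule.span B (Set.range n) = N := by
  classical
  set d := Matrix.det (Matrix.of n) with hd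
  have hli : LinearIndependent B n := by
    rw [Fintype.linearIndependent_iff]
    intro c hc i
    have h : Matrix.vecMul c (Matrix.of n) = 0 := by
      rw [Matrix.vecMul_eq_sum]; exact hc
    have h2 : d • c = 0 := by
      have := congrArg (fun x => Matrix.vecMul x (Matrix.of n).adjugate) h
      simpa [Matrix.vecMul_vecMul, Matrix.mul_adjugate, Matrix.vecMul_smul, ← hd] using this
    exact (mul_left_mem_nonZeroDivisors_eq_zero_iff hnzd).mp (by simpa using congrFun h2 i)
  refine ⟨hli, le_antisymm (Submodule.span_le.mpr (Set.range_subset_iff.mpr hn)) ?_⟩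
  intro v hv
  have hc : ∀ i, ∃ c : B, Matrix.cramer (Matrix.of n).transpose v i = d * c := by
    intro i
    rw [Matrix.cramer_transpose_apply]
    obtain ⟨c, hc⟩ := Ideal.mem_span_singleton'.mp (hgen (Function.update n i v) (fun j => by
      by_cases h : j = i
      · subst h; simpa using hv
      · simpa [Function.update_of_ne h] using hn j))
    refine ⟨c, ?_⟩
    rw [mul_comm, hc]
    rfl
  choose c hc using hc
  have h : Matrix.vecMul (Matrix.cramer (Matrix.of n).transpose v) (Matrix.of n) = d • v := by
    have := Matrix.mulVec_cramer (Matrix.of n).transpose v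
    rwa [Matrix.mulVec_transpose, Matrix.det_transpose] at this
  have h2 : d • (∑ i, c i • n i) = d • v := by
    rw [← h, Matrix.vecMul_eq_sum, Finset.smul_sum]
    refine Finset.sum_congr rfl fun i _ => ?_
    rw [hc i, smul_smul]; rfl
  have h3 : ∑ i, c i • n i = v := by
    funext j
    exact (mul_cancel_left_mem_nonZeroDivisors hnzd).mp (congrFun h2 j)
  rw [← h3]
  exact Submodule.sum_mem _ fun i _ => Submodule.smul_mem _ _ (Submodule.subset_span ⟨i, rfl⟩)

end Groth.Agent.S17882
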