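import Groth.Statements.S17884
import Groth.Agent.Nagata.Bundle
import Groth.Agent.ProjMor.Closed
import Groth.Agent.S2331
import Groth.Agent.S4418
import Groth.Agent.S4419
import Groth.Agent.S9706

set_option autoImplicit false
universe u v
open CategoryTheory AlgebraicGeometry
open FlatMor

namespace Groth.Agent.S17884

lemma isQuasiProjective_comp {X Y Z : Scheme.{u}} [CompactSpace Z] {f : X ⟶ Y} {g : Y ⟶ Z}
    (hf : RelProj.IsQuasiProjective f) (hg : RelProj.IsQuasiProjective g) :
    RelProj.IsQuasiProjective (f ≫ g) := by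
  obtain ⟨_, _, L, hL⟩ := hf
  obtain ⟨_, _, K, hK⟩ := hg
  obtain ⟨n, -, hn⟩ := S2331.result f g L K hL hK
  exact ⟨inferInstance, inferInstance, _, hn n le_rfl⟩

/-- Let S be a Noetherian scheme and f : X → S a separated quasi-projective morphism (of finite type,
with an f-ample invertible module), and let (E_i) be a finite family of finite locally free
O_X-modules. Then there exist a scheme X', an open immersion j : X → X' with schematically dense
image and a projective morphism g : X' → S with j ≫ g = f, and for each i a finite locally free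
module on X' whose pullback along j is isomorphic to E_i. -/
theorem result {S X : Scheme.{u}} (f : X ⟶ S)
    [IsNoetherian S] [IsSeparated f] (hf : RelProj.IsQuasiProjective f)
    {ι : Type v} [Finite ι] (E : ι → X.Modules) (hE : ∀ i, FlatMod.IsFinLocFree (E i)) :
    ∃ (X' : Scheme.{u}) (j : X ⟶ X') (g : X' ⟶ S), IsOpenImmersion j ∧ QuasiCompact j ∧
      IsSchemeTheoreticallyDominant j ∧ RelProj.IsProjective g ∧ j ≫ g = f ∧
      ∀ i, ∃ E' : X'.Modules, FlatMod.IsFinLocFree E' ∧
        Nonempty ((Scheme.Modules.pullback j).obj E' ≅ E i) := by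
  classical
  haveI : Fintype ι := Fintype.ofFinite ι
  suffices ∀ s : Finset ι, ∃ (X' : Scheme.{u}) (j : X ⟶ X') (g : X' ⟶ S), IsOpenImmersion j ∧
      QuasiCompact j ∧ IsSchemeTheoreticallyDominant j ∧ IsProper g ∧ RelProj.IsQuasiProjective g ∧
      j ≫ g = f ∧ ∀ i ∈ s, ∃ E' : X'.Modules, FlatMod.IsFinLocFree E' ∧
        Nonempty ((Scheme.Modules.pullback j).obj E' ≅ E i) by
    obtain ⟨X', j, g, h1, h2, h3, _, h5, h6, h7⟩ := this Finset.univ
    exact ⟨X', j, g, h1, h2, h3,
      S4419.result (Or.inr inferInstance) g h5, h6, fun i => h7 i (Finset.mem_univ i)⟩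
  intro s
  induction s using Finset.induction with
  | empty =>
    obtain ⟨Y, j, g, _, hg, hjg⟩ := S9706.result f hf
    have hp : IsProper g := (S4418.result g hg).2
    haveI : QuasiCompact f := hf.2.1
    haveI : QuasiCompact j := by
      have : QuasiCompact (j ≫ g) := by rw [hjg]; infer_instance
      exact QuasiCompact.of_comp j g
    haveI : QuasiCompact (j.toImage ≫ j.imageι) := by rw [Scheme.Hom.toImage_imageι]; infer_instance
    have hP := ProjMor.isProjective_closedImmersion_comp hg j.imageι
    exact ⟨j.image, j.toImage, j.imageι ≫ g, Groth.Agent.FlatMor.SchDom.isOpenImmersion_toImage' j (Or.inl inferInstance),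
      QuasiCompact.of_comp _ j.imageι, Groth.Agent.FlatMor.SchDom.toImage_dominant j (Or.inl inferInstance),
      inferInstance, (S4418.result _ hP).1, by rw [← Category.assoc, Scheme.Hom.toImage_imageι, hjg],
      fun i hi => absurd hi (by simp)⟩
  | @insert a s _ ih =>
    obtain ⟨Y, j, g, hj, hjc, hjd, hg, hgq, hjg, hall⟩ := ih
    haveI : CompactSpace Y := QuasiCompact.compactSpace_of_compactSpace g
    haveI : IsLocallyNoetherian Y := LocallyOfFiniteType.isLocallyNoetherian g
    haveI : IsNoetherian Y := {}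
    obtain ⟨Y', j', c, E', hj', hjc', hjd', hc, hjj, hE', he', -, hcq⟩ :=
      Nagata.exists_extend_step_qp Y j (E a) (hE a)
    refine ⟨Y', j', c ≫ g, hj', hjc', hjd', inferInstance, isQuasiProjective_comp hcq hgq,
      by rw [← Category.assoc, hjj, hjg], fun i hi => ?_⟩
    rcases Finset.mem_insert.mp hi with rfl | hi
    · exact ⟨E', hE', he'⟩
    · obtain ⟨E₀, hE₀, ⟨e₀⟩⟩ := hall i hi
      exact ⟨(Scheme.Modules.pullback c).obj E₀, KFlat.LocFree.isFinLocFree_pull c hE₀,
        ⟨(Scheme.Modules.pullbackComp j' c).app _ ≪≫ (Scheme.Modules.pullbackCongr hjj).app _ ≪≫ e₀⟩⟩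

end Groth.Agent.S17884
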