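import Groth.Statements.S17886
import Groth.Agent.S2337
import Mathlib.AlgebraicGeometry.QuasiAffine

set_option maxHeartbeats 400000
set_option backward.isDefEq.respectTransparency false
-- import your own Groth.Agent.* helpers here

set_option autoImplicit false
universe u
open CategoryTheory AlgebraicGeometry
open FlatMor

namespace Groth.Agent.S17886

/-- Let S be a Noetherian scheme and f : X → S separated and of finite type. Then X is covered by
finitely many affine opens U_1, …, U_n each of which is dense in X and quasi-projective over S (of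
finite type with a relatively ample invertible module). -/
theorem result {S X : Scheme.{u}} (f : X ⟶ S)
    [IsNoetherian S] [IsSeparated f] [QuasiCompact f] [LocallyOfFiniteType f] :
    ∃ (n : ℕ) (U : Fin n → X.Opens), (⨆ i, U i) = ⊤ ∧
      ∀ i, IsAffineOpen (U i) ∧ Dense ((U i : Set X)) ∧ RelProj.IsQuasiProjective ((U i).ι ≫ f) := by
  classical
  haveI : CompactSpace X := QuasiCompact.compactSpace_of_compactSpace f
  haveI : IsLocallyNoetherian X := LocallyOfFiniteType.isLocallyNoetherian f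
  haveI : IsNoetherian X := {}
  have hx : ∀ x : X, ∃ U : X.Opens, x ∈ U ∧ IsAffineOpen U ∧ Dense (U : Set X) := by
    intro x
    obtain ⟨U₀, hU₀, hxU₀, -⟩ :=
      exists_isAffineOpen_mem_and_subset (show x ∈ (⊤ : X.Opens) from trivial)
    obtain ⟨W, ⟨hW, hle⟩, hmax⟩ := (IsWellFounded.wf (r := ((· > ·) : X.Opens → X.Opens → Prop))).has_min
      {W : X.Opens | IsAffineOpen W ∧ U₀ ≤ W} ⟨U₀, hU₀, le_rfl⟩
    refine ⟨W, hle hxU₀, hW, ?_⟩
    rw [dense_iff_inter_open]
    intro O hO hne
    by_contra h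
    rw [Set.not_nonempty_iff_eq_empty] at h
    obtain ⟨y, hy⟩ := hne
    obtain ⟨A, hA, hyA, hAO⟩ :=
      exists_isAffineOpen_mem_and_subset (U := ⟨O, hO⟩) (show y ∈ (⟨O, hO⟩ : X.Opens) from hy)
    have hd : Disjoint W A := by
      rw [disjoint_iff]
      refine TopologicalSpace.Opens.ext (Set.eq_empty_iff_forall_notMem.mpr fun z hz => ?_)
      exact Set.eq_empty_iff_forall_notMem.mp h z ⟨hAO hz.2, hz.1⟩
    refine hmax (W ⊔ A) ⟨hW.sup_of_disjoint hA hd, hle.trans le_sup_left⟩ (lt_of_le_of_ne le_sup_left ?_)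
    intro he
    have hyW : y ∈ W := by rw [he]; exact TopologicalSpace.Opens.mem_sup.mpr (Or.inr hyA)
    exact Set.eq_empty_iff_forall_notMem.mp h y ⟨hy, hyW⟩
  choose U hxU hU hd using hx
  obtain ⟨t, ht⟩ := isCompact_univ.elim_finite_subcover (fun x => (U x : Set X))
    (fun x => (U x).2) (fun x _ => Set.mem_iUnion.mpr ⟨x, hxU x⟩)
  refine ⟨t.card, fun i => U (t.equivFin.symm i), top_le_iff.mp fun z _ => ?_,
    fun i => ⟨hU _, hd _, ?_⟩⟩
  · obtain ⟨a, ha, hza⟩ := Set.mem_iUnion₂.mp (ht (Set.mem_univ z))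
    exact TopologicalSpace.Opens.mem_iSup.mpr ⟨t.equivFin ⟨a, ha⟩, by simpa using hza⟩
  · set V := U (t.equivFin.symm i)
    haveI : IsAffine V.toScheme := hU _
    haveI : IsLocallyNoetherian V.toScheme := LocallyOfFiniteType.isLocallyNoetherian V.ι
    haveI : IsNoetherian V.toScheme := {}
    haveI : QuasiCompact (V.ι ≫ f) := inferInstance
    refine ⟨inferInstance, inferInstance, _, (Groth.Agent.S2337.result (V.ι ≫ f)).mp ⟨inferInstance, fun W _ => ?_⟩⟩
    haveI : CompactSpace ((V.ι ≫ f) ⁻¹ᵁ W).toScheme :=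
      isCompact_iff_compactSpace.mp (TopologicalSpace.NoetherianSpace.isCompact _)
    exact Scheme.IsQuasiAffine.of_isImmersion ((V.ι ≫ f) ⁻¹ᵁ W).ι

end Groth.Agent.S17886
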