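import Groth.Statements.S17887
import Groth.Agent.BlowUp.Basic

set_option autoImplicit false
universe u
open CategoryTheory AlgebraicGeometry
open BlowUp
open TopologicalSpace


namespace Groth.Agent.S17887

/-- Let X be a Noetherian scheme, U ⊆ X an open subscheme that is schematically dense in X, I a
quasi-coherent ideal sheaf on X whose support does not meet U, and π : X' → X a blowing-up of X
along I. Then π⁻¹(U) is schematically dense in X'. -/
theorem result {X X' : Scheme.{u}} [IsNoetherian X]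
    (U : X.Opens) [IsSchemeTheoreticallyDominant U.ι] (𝓘 : X.IdealSheafData)
    (hU : Disjoint (𝓘.support : Set X) (U : Set X)) (π : X' ⟶ X) (hπ : BlowUp.IsBlowUp π 𝓘) :
    IsSchemeTheoreticallyDominant (π ⁻¹ᵁ U).ι := by
  refine ⟨?_⟩
  have : QuasiCompact (π ⁻¹ᵁ U).ι :=
    MorphismProperty.of_isPullback (isPullback_morphismRestrict π U) inferInstance
  refine IdealSh.Comap.ext_of_forall_exists _ _ fun x => ?_
  obtain ⟨V, hxV, -, c, hc, hce⟩ := IdealSh.EffCartier.exists_equation hπ.1 x ⊤ trivial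
  refine ⟨V, hxV, eq_bot_iff.mpr fun y hy => ?_⟩
  rw [Scheme.Hom.ker_apply, RingHom.mem_ker] at hy
  rw [Ideal.mem_bot]
  refine IdealSh.Regular.eq_zero_of_restrict_basicOpen V.2 hc ?_
  let W : X'.Opens := X'.basicOpen c
  have : IsOpenImmersion (W.ι ≫ π) := Groth.Agent.BlowUp.Basic.isOpenImmersion_ι_comp hπ W (by
    rw [IdealSh.Regular.basicOpen_eq_compl_support hce]; exact Set.disjoint_sdiff_left)
  have H := isPullback_morphismRestrict (W.ι ≫ π) U
  have : QuasiCompact ((W.ι ≫ π) ⁻¹ᵁ U).ι := MorphismProperty.of_isPullback H inferInstance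
  have : IsSchemeTheoreticallyDominant ((W.ι ≫ π) ⁻¹ᵁ U).ι :=
    IsSchemeTheoreticallyDominant.of_isPullback H
  let k : ((W.ι ≫ π) ⁻¹ᵁ U).toScheme ⟶ (π ⁻¹ᵁ U).toScheme :=
    IsOpenImmersion.lift (π ⁻¹ᵁ U).ι (((W.ι ≫ π) ⁻¹ᵁ U).ι ≫ W.ι) (by
      rw [Scheme.Opens.range_ι]
      rintro _ ⟨z, rfl⟩
      exact z.2)
  have hk : k ≫ (π ⁻¹ᵁ U).ι = ((W.ι ≫ π) ⁻¹ᵁ U).ι ≫ W.ι := IsOpenImmersion.lift_fac _ _ _
  have hWV : W ≤ V.1 := X'.basicOpen_le c
  have e1 : (⊤ : (W : Scheme.{u}).Opens) ≤ W.ι ⁻¹ᵁ V.1 := fun z _ => hWV z.2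
  have h0 : W.ι.appLE V.1 ⊤ e1 y = 0 := by
    refine (((W.ι ≫ π) ⁻¹ᵁ U).ι.app_injective ⊤) ?_
    rw [map_zero, Scheme.Hom.app_eq_appLE, ← CommRingCat.comp_apply,
      Scheme.Hom.appLE_comp_appLE]
    simp only [← hk]
    rw [Scheme.Hom.comp_appLE, CommRingCat.comp_apply, hy, map_zero]
  have h1 : W.ι.appLE V.1 ⊤ e1 =
      X'.presheaf.map (homOfLE hWV).op ≫ W.ι.appLE W ⊤ W.ι_preimage_self.ge := by
    rw [Scheme.Hom.map_appLE]
  rw [h1, CommRingCat.comp_apply] at h0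
  exact (ConcreteCategory.bijective_of_isIso (W.ι.appLE W ⊤ W.ι_preimage_self.ge)).1
    (h0.trans (map_zero _).symm)

end Groth.Agent.S17887
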