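import Groth.Statements.S17888
import Groth.Agent.Nagata.Bundle

set_option maxHeartbeats 400000
set_option backward.isDefEq.respectTransparency false
-- import your own Groth.Agent.* helpers here

set_option autoImplicit false
universe u
open CategoryTheory AlgebraicGeometry
open FlatMor

namespace Groth.Agent.S17888

/-- S is a Noetherian scheme and f : X → S is separated and of finite type; X is covered by two open
subschemes X₁ and X₂, both containing an open subscheme U that is schematically dense in X; and E₁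
on X₁, E₂ on X₂ are finite locally free modules that become isomorphic after restricting to U. Then
there exist a proper morphism π : X' → X which restricts to an isomorphism over U and under which
the preimage of U is schematically dense in X', and a finite locally free module E' on X' whose
restriction to π⁻¹(U) is isomorphic to the pullback of E₁|_U along π⁻¹(U) → U. -/
theorem result {S X : Scheme.{u}} (f : X ⟶ S)
    [IsNoetherian S] [IsSeparated f] [QuasiCompact f] [LocallyOfFiniteType f]
    (U X₁ X₂ : X.Opens) (hU₁ : U ≤ X₁) (hU₂ : U ≤ X₂) (hX : X₁ ⊔ X₂ = ⊤)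
    [IsSchemeTheoreticallyDominant U.ι]
    (E₁ : (↑X₁ : Scheme.{u}).Modules) (E₂ : (↑X₂ : Scheme.{u}).Modules)
    (hE₁ : FlatMod.IsFinLocFree E₁) (hE₂ : FlatMod.IsFinLocFree E₂)
    (φ : (Scheme.Modules.pullback (X.homOfLE hU₁)).obj E₁ ≅ (Scheme.Modules.pullback (X.homOfLE hU₂)).obj E₂) :
    ∃ (X' : Scheme.{u}) (π : X' ⟶ X) (E' : X'.Modules), IsProper π ∧ IsIso (π ∣_ U) ∧
      IsSchemeTheoreticallyDominant (π ⁻¹ᵁ U).ι ∧ FlatMod.IsFinLocFree E' ∧
      Nonempty ((Scheme.Modules.pullback (π ⁻¹ᵁ U).ι).obj E' ≅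
        (Scheme.Modules.pullback (π ∣_ U ≫ X.homOfLE hU₁)).obj E₁) := by
  haveI : CompactSpace X := QuasiCompact.compactSpace_of_compactSpace f
  haveI : IsLocallyNoetherian X := LocallyOfFiniteType.isLocallyNoetherian f
  haveI : IsNoetherian X := {}
  haveI : CompactSpace U.toScheme :=
    isCompact_iff_compactSpace.mp (TopologicalSpace.NoetherianSpace.isCompact _)
  haveI : QuasiCompact U.ι := QuasiCompact.of_comp _ (Limits.terminal.from X)
  obtain ⟨X', j', c, E', hj, hjc, hjd, hc, hjj, hE', ⟨e⟩, hr⟩ := Nagata.exists_extend_step X U.ι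
    ((Scheme.Modules.pullback (X.homOfLE hU₁)).obj E₁)
    (KFlat.LocFree.isFinLocFree_pull (X.homOfLE hU₁) hE₁)
  obtain ⟨k, hk, hkι, hkc, hiso⟩ :=
    Nagata.isIso_restrict_of_lift U c j' hjj (by rw [hr, Scheme.Opens.range_ι])
  have hdom : IsSchemeTheoreticallyDominant (c ⁻¹ᵁ U).ι := by
    refine ⟨le_bot_iff.mp ?_⟩
    rw [← IsSchemeTheoreticallyDominant.ker_eq_bot j']
    conv_rhs => rw [← hkι]
    exact Scheme.Hom.le_ker_comp _ _
  refine ⟨X', c, E', hc, hiso, hdom, hE', ⟨?_⟩⟩
  have hι : (c ∣_ U) ≫ j' = (c ⁻¹ᵁ U).ι := by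
    rw [← hkι, ← Category.assoc, (IsIso.eq_inv_of_hom_inv_id hkc : c ∣_ U = inv k),
      IsIso.inv_hom_id, Category.id_comp]
  exact ((Scheme.Modules.pullbackCongr hι.symm).app E') ≪≫
    ((Scheme.Modules.pullbackComp (c ∣_ U) j').app E').symm ≪≫
    (Scheme.Modules.pullback (c ∣_ U)).mapIso e ≪≫
    (Scheme.Modules.pullbackComp (c ∣_ U) (X.homOfLE hU₁)).app E₁

end Groth.Agent.S17888
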