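import Groth.Statements.S17889
import Groth.Agent.IdealSh.Stalk
import Groth.Agent.AssSch.Stalk
import Groth.Agent.IdealSh.Comap

set_option autoImplicit false
universe u
open CategoryTheory AlgebraicGeometry TopologicalSpace
open BlowUp

namespace Groth.Agent.S17889

/-- Let X be a Noetherian scheme, X₀ ⊆ X an open subscheme, p : Z → X a morphism of finite type with Z
Noetherian, and F ⊆ X, G ⊆ Z closed subsets with p⁻¹(F ∩ X₀) ∩ G = ∅. Let a be a quasi-coherent
ideal sheaf on X whose support does not meet X₀, which contains the vanishing ideal I_F of F, and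
which is contained in the kernel ideal of V(I_F·O_Z + I_G) → Z → X (the ideal of the
scheme-theoretic image under p of p⁻¹(F) ∩ G). Let π : X' → X be a blowing-up along a, Z' = Z ×_X X'
with projections π' : Z' → Z and p' : Z' → X'. Then p'⁻¹ of the closure in X' of π⁻¹(F ∩ X₀) is
disjoint from the closure in Z' of π'⁻¹(G ∩ p⁻¹(X₀)). Taking a to be that kernel ideal shows such an
a exists. -/
theorem result
    {X Z : Scheme.{u}} [IsNoetherian X] [IsNoetherian Z] (p : Z ⟶ X) [LocallyOfFiniteType p]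
    (X₀ : X.Opens) (F : Closeds X) (G : Closeds Z)
    (hFG : p.base ⁻¹' ((F : Set X) ∩ (X₀ : Set X)) ∩ (G : Set Z) = ∅)
    (𝔞 : X.IdealSheafData) (h₁ : Disjoint (𝔞.support : Set X) (X₀ : Set X))
    (h₂ : Scheme.IdealSheafData.vanishingIdeal F ≤ 𝔞)
    (h₃ : 𝔞 ≤ (((Scheme.IdealSheafData.vanishingIdeal F).comap p ⊔
      Scheme.IdealSheafData.vanishingIdeal G).subschemeι ≫ p).ker)
    {X' : Scheme.{u}} (π : X' ⟶ X) (hπ : BlowUp.IsBlowUp π 𝔞) :
    (Limits.pullback.snd p π).base ⁻¹' closure (π.base ⁻¹' ((F : Set X) ∩ (X₀ : Set X))) ∩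
      closure ((Limits.pullback.fst p π).base ⁻¹' ((G : Set Z) ∩ (p ⁻¹ᵁ X₀ : Set Z))) = ∅ := by
  rw [Set.eq_empty_iff_forall_notMem]
  rintro w ⟨hwF, hwG⟩
  set p' := Limits.pullback.snd p π
  set π' := Limits.pullback.fst p π
  set IF := Scheme.IdealSheafData.vanishingIdeal F
  set IG := Scheme.IdealSheafData.vanishingIdeal G
  have hsuppF : ∀ x : X, x ∈ IF.support ↔ x ∈ (F : Set X) := fun x => by
    rw [← SetLike.mem_coe, Scheme.IdealSheafData.coe_support_vanishingIdeal]
  have hsuppG : ∀ x : Z, x ∈ IG.support ↔ x ∈ (G : Set Z) := fun x => by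
    rw [← SetLike.mem_coe, Scheme.IdealSheafData.coe_support_vanishingIdeal]
  have h3' : 𝔞.comap p ≤ IF.comap p ⊔ IG := by
    rw [← Scheme.IdealSheafData.le_map_iff_comap_le]
    refine h₃.trans (le_of_eq ?_)
    rw [← Scheme.IdealSheafData.map_ker, Scheme.IdealSheafData.ker_subschemeι]
  have h4 : (𝔞.comap π).comap p' ≤ (IF.comap π).comap p' ⊔ IG.comap π' := by
    have := Scheme.IdealSheafData.comap_mono π' h3'
    simp only [Scheme.IdealSheafData.comap_sup] at this
    rw [← Scheme.IdealSheafData.comap_comp, ← Scheme.IdealSheafData.comap_comp,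
      Limits.pullback.condition, Scheme.IdealSheafData.comap_comp, Scheme.IdealSheafData.comap_comp] at this
    exact this
  obtain ⟨U', hxU, e, he, hE⟩ := hπ.1 (p'.base w)
  obtain ⟨W', hwW, hle⟩ := Groth.Agent.IdealSh.Comap.exists_affine_le w (p' ⁻¹ᵁ U'.1) hxU
  have hE' : ((𝔞.comap π).comap p').ideal W' = Ideal.span {(p'.appLE U'.1 W'.1 hle).hom e} :=
    Groth.Agent.IdealSh.Comap.ideal_comap_span_singleton _ p' U' W' hle hE
  let J : Ideal Γ(X', U'.1) := ((IF.comap π).ideal U').colon ({e} : Set Γ(X', U'.1))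
  have hB : (IF.comap π).ideal U' ≤ Ideal.span {e} * J := fun b hb => by
    obtain ⟨c, rfl⟩ := Ideal.mem_span_singleton'.1 (hE ▸ Scheme.IdealSheafData.comap_mono π h₂ U' hb)
    rw [mul_comm c e]
    refine Ideal.mul_mem_mul (Ideal.mem_span_singleton_self e) (Submodule.mem_colon_singleton.2 ?_)
    exact hb
  have hJ : J ≤ Groth.Agent.AssSch.Stalk.primeOf U'.2 (p'.base w) hxU := fun j hj => by
    by_contra hc
    obtain ⟨z, hz, hzF, hzX⟩ := mem_closure_iff.1 hwF (X'.basicOpen j : Set X') (X'.basicOpen j).2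
      ((Groth.Agent.AssSch.Stalk.mem_basicOpen_iff U'.2 _ hxU j).2 hc)
    have hzU : z ∈ U'.1 := X'.basicOpen_le j hz
    have h5 : z ∈ (IF.comap π).support := by
      rw [← SetLike.mem_coe, Scheme.IdealSheafData.support_comap]
      exact (hsuppF _).2 hzF
    have h6 : z ∉ (𝔞.comap π).support := by
      rw [← SetLike.mem_coe, Scheme.IdealSheafData.support_comap]
      exact fun h => Set.disjoint_left.1 h₁ h hzX
    rw [Scheme.IdealSheafData.mem_support_iff_of_mem hzU, Scheme.mem_zeroLocus_iff] at h5 h6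
    push Not at h6
    obtain ⟨g, hg, hzg⟩ := h6
    rw [SetLike.mem_coe, hE] at hg
    obtain ⟨c, rfl⟩ := Ideal.mem_span_singleton'.1 hg
    rw [Scheme.basicOpen_mul] at hzg
    refine h5 (j * e) (Submodule.mem_colon_singleton.1 hj) ?_
    rw [Scheme.basicOpen_mul]
    exact ⟨hz, hzg.2⟩
  let φ := (p'.appLE U'.1 W'.1 hle).hom
  have h7 : φ e ∈ ((IF.comap π).comap p').ideal W' ⊔ (IG.comap π').ideal W' := by
    have h8 := h4 W'
    rw [Scheme.IdealSheafData.ideal_sup, Pi.sup_apply, hE'] at h8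
    exact h8 (Ideal.mem_span_singleton_self _)
  rw [Groth.Agent.IdealSh.Comap.ideal_comap _ p' U' W' hle] at h7
  obtain ⟨b, hb, a, ha, hab⟩ := Submodule.mem_sup.1 h7
  have hb' : b ∈ Ideal.span {φ e} * J.map φ := by
    have := Ideal.map_mono (f := φ) hB hb
    rwa [Ideal.map_mul, Ideal.map_span, Set.image_singleton] at this
  obtain ⟨j, hj, rfl⟩ := Ideal.mem_span_singleton_mul.1 hb'
  have hjw : j ∈ Groth.Agent.AssSch.Stalk.primeOf W'.2 w hwW := by
    refine (Ideal.map_le_iff_le_comap.2 (fun x hx => ?_) : J.map φ ≤ _) hj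
    rw [Ideal.mem_comap]
    by_contra hc
    have h9 := (Groth.Agent.AssSch.Stalk.mem_basicOpen_iff W'.2 w hwW (φ x)).2 hc
    rw [show φ x = (p'.appLE U'.1 W'.1 hle).hom x from rfl, Scheme.basicOpen_appLE] at h9
    exact (Groth.Agent.AssSch.Stalk.mem_basicOpen_iff U'.2 _ hxU x).1 h9.2 (hJ hx)
  have h1j : w ∈ (Limits.pullback p π).basicOpen (1 - j) := (Groth.Agent.AssSch.Stalk.mem_basicOpen_iff W'.2 w hwW _).2
    fun h => (Groth.Agent.AssSch.Stalk.primeOf W'.2 w hwW).ne_top_iff_one.1 Ideal.IsPrime.ne_top'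
      ((sub_add_cancel (1 : Γ(Limits.pullback p π, W'.1)) j) ▸ add_mem h hjw)
  obtain ⟨z, hz, hzG, hzX⟩ := mem_closure_iff.1 hwG _ ((Limits.pullback p π).basicOpen (1 - j)).2 h1j
  have hzW : z ∈ W'.1 := (Limits.pullback p π).basicOpen_le _ hz
  have h10 : z ∈ (IG.comap π').support := by
    rw [← SetLike.mem_coe, Scheme.IdealSheafData.support_comap]
    exact (hsuppG _).2 hzG
  have h11 : z ∉ ((𝔞.comap π).comap p').support := by
    rw [← SetLike.mem_coe, ← Scheme.IdealSheafData.comap_comp, ← Limits.pullback.condition,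
      Scheme.IdealSheafData.support_comap]
    exact fun h => Set.disjoint_left.1 h₁ h hzX
  rw [Scheme.IdealSheafData.mem_support_iff_of_mem hzW, Scheme.mem_zeroLocus_iff] at h10 h11
  push Not at h11
  obtain ⟨g, hg, hzg⟩ := h11
  rw [SetLike.mem_coe, hE'] at hg
  obtain ⟨c, rfl⟩ := Ideal.mem_span_singleton'.1 hg
  rw [Scheme.basicOpen_mul] at hzg
  refine h10 a ha ?_
  rw [show a = φ e * (1 - j) by linear_combination hab]
  rw [Scheme.basicOpen_mul]
  exact ⟨hzg.2, hz⟩

end Groth.Agent.S17889
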