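import Groth.Statements.S1789
import Groth.Agent.DualCx.ShriekNormal

set_option autoImplicit false
universe u
open CategoryTheory
attribute [local instance] HasDerivedCategory.standard
open Dual2

namespace Groth.Agent.S1789

/-- Let R → A be a ring map of finite type between Noetherian rings with R local, where φ^!(K) is formed
from a presentation ψ : R[x_1, …, x_n] → A as RHom_P(A, K ⊗^L_R P)[n], assuming the derived base
change to P exists and taking for RHom_P(A, −) a right adjoint of restriction of scalars along ψ.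
Let m be a maximal ideal of A lying over the maximal ideal of R and ω a normalized dualizing complex
for R. Assuming the derived base change D(A) → D(A_m) exists, the base change of φ^!(ω) to A_m is a
normalized dualizing complex for A_m. -/
theorem result (R A : Type u) [CommRing R] [CommRing A] [IsNoetherianRing R] [IsNoetherianRing A] [Algebra R A] (n : ℕ) (ψ : MvPolynomial (Fin n) R →ₐ[R] A) (hψ : Function.Surjective ψ) [DRing.HasLBaseChange (algebraMap R (MvPolynomial (Fin n) R))] (Rψ : Dual.D (MvPolynomial (Fin n) R) ⥤ Dual.D A) (adj : DRing.restrictD ψ.toRingHom ⊣ Rψ) [IsLocalRing R] (m : Ideal A) [m.IsMaximal] (hm : m.comap (algebraMap R A) = IsLocalRing.maximalIdeal R) (ω : Dual.D R) (hω : Dual.IsDualizing R ω) (hn : Dual.IsNormalized R ω) [DRing.HasLBaseChange (algebraMap A (Localization.AtPrime m))] : Dual.IsDualizing (Localization.AtPrime m) ((DRing.LBaseChange (algebraMap A (Localization.AtPrime m))).obj (Dual2.shriekVia n Rψ ω)) ∧ Dual.IsNormalized (Localization.AtPrime m) ((DRing.LBaseChange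 (algebraMap A (Localization.AtPrime m))).obj (Dual2.shriekVia n Rψ ω)) := by
  classical
  let P := MvPolynomial (Fin n) R
  letI : Algebra P A := ψ.toRingHom.toAlgebra
  have : Module.Finite P A := Module.Finite.of_surjective (Algebra.linearMap P A) hψ
  let m₀ : Ideal P := m.comap (algebraMap P A)
  have : m₀.IsMaximal := Ideal.comap_isMaximal_of_surjective _ hψ
  have hm₀ : m₀.comap MvPolynomial.C = IsLocalRing.maximalIdeal R := by
    rw [← hm, ← ψ.comp_algebraMap]
    rfl
  obtain ⟨e⟩ := Groth.Agent.DualCx.FlatBC.nonempty_LBaseChange (A := R) (B := P) ω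
  have hωP := Groth.Agent.DualCx.Smooth.isDualizing_mvPolynomial hω n
  have hLP := Groth.Agent.DualCx.FlatBC.isDualizing_of_iso e.symm hωP
  have hdeg := Groth.Agent.DualCx.ShriekNormal.deg_closed hω hn n m₀ hm₀
  obtain ⟨d, hv, he⟩ := Groth.Agent.DualCx.Extended.residue_single_maximal
    (B := Localization.AtPrime m₀) hLP m₀
  have hdn : d = n := by
    by_contra hne
    have hs := hv n (Ne.symm hne)
    let c : Groth.Agent.DualCx.Devissage.E (P ⧸ m₀)
        ((DRing.LBaseChange (algebraMap R P)).obj ω) (n : ℤ) ≃ₗ[P]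
        Groth.Agent.DualCx.Devissage.E (P ⧸ m₀) ((Groth.Agent.DualCx.BaseChange.FD R P).obj ω) (n : ℤ) :=
      Groth.Agent.DualCx.Hom.congr P (Iso.refl _) ((shiftFunctor (Dual.D P) (n : ℤ)).mapIso e)
    have := c.symm.toEquiv.subsingleton
    refine Groth.Agent.DualCx.Dimfun.not_Z_deg hωP ⟨m₀, inferInstance⟩ ?_
    rw [hdeg]
    exact Groth.Agent.DualCx.Dimfun.Z_of_subsingleton (⟨m₀, inferInstance⟩ : PrimeSpectrum P) _
  subst hdn
  have hres := (Groth.Agent.DualCx.Shriek.residue (Groth.Agent.DualCx.Shriek.ofAdj Rψ adj _) hLP m _ hv he).1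
  have hA : Dual.IsDualizing A (Dual2.shriekVia n Rψ ω) :=
    Groth.Agent.DualCx.ShriekVia.isDualizing n ψ hψ Rψ adj hω
  let q : PrimeSpectrum A := ⟨m, inferInstance⟩
  have hsub : ∀ i : ℤ, i ≠ 0 → Subsingleton
      (Groth.Agent.DualCx.Devissage.E (A ⧸ q.1) (Dual2.shriekVia n Rψ ω) i) := fun i hi => by
    have := hres ((n : ℤ) + i) (by omega)
    exact (Groth.Agent.DualCx.Normalized.shiftE (A ⧸ m)
      (Rψ.obj ((DRing.LBaseChange (algebraMap R P)).obj ω)) (n : ℤ) i _ rfl).toEquiv.subsingleton
  obtain ⟨eA⟩ := Groth.Agent.DualCx.FlatBC.nonempty_LBaseChange (A := A) (B := Localization.AtPrime m)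
    (Dual2.shriekVia n Rψ ω)
  refine ⟨Groth.Agent.DualCx.FlatBC.isDualizing_of_iso eA.symm (Groth.Agent.DualCx.Dimfun.isDualizing_local hA q),
    fun i hi => ?_⟩
  have := hsub i hi
  obtain ⟨er⟩ := Groth.Agent.DualCx.Dimfun.nonempty_residue hA q i
  have := (Groth.Agent.DualCx.Dimfun.Z_iff_tensor q _).mp
    (Groth.Agent.DualCx.Dimfun.Z_of_subsingleton q
      (Groth.Agent.DualCx.Devissage.E (A ⧸ q.1) (Dual2.shriekVia n Rψ ω) i))
  have := er.symm.toEquiv.subsingleton
  exact (Groth.Agent.DualCx.Hom.congr (Localization.AtPrime m) (Iso.refl _)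
    ((shiftFunctor (Dual.D (Localization.AtPrime m)) i).mapIso eA)).toEquiv.subsingleton

end Groth.Agent.S1789
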