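import Groth.Statements.S17892
import Groth.Agent.S2331
import Groth.Agent.KFlat.PullTensor
import Groth.Agent.ProjTwist.Tensor
import Groth.Agent.QCoh.Pullback

set_option autoImplicit false
universe u
open CategoryTheory AlgebraicGeometry
open FlatMor

namespace Groth.Agent.S17892

open CategoryTheory AlgebraicGeometry in
/-- Tensoring two trivializations along `h` gives a trivialization along `h`. -/
theorem exists_tensor_triv {W Z : Scheme.{u}} (h : W ⟶ Z) {M N : Z.Modules}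
    (μ : Coh.structureModule Z ⟶ M) (ν : Coh.structureModule Z ⟶ N)
    (hμ : IsIso ((Scheme.Modules.pullback h).map μ)) (hν : IsIso ((Scheme.Modules.pullback h).map ν)) :
    ∃ ρ : Coh.structureModule Z ⟶ CohB1.tensorMod M N, IsIso ((Scheme.Modules.pullback h).map ρ) := by
  let p : ((DCoh.tensorBi (X := Z)).obj (Coh.structureModule Z)).obj (Coh.structureModule Z) ⟶
      ((DCoh.tensorBi (X := Z)).obj M).obj (Coh.structureModule Z) := ((DCoh.tensorBi (X := Z)).map μ).app _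
  let q : ((DCoh.tensorBi (X := Z)).obj M).obj (Coh.structureModule Z) ⟶
      ((DCoh.tensorBi (X := Z)).obj M).obj N := ((DCoh.tensorBi (X := Z)).obj M).map ν
  haveI := hμ
  haveI := hν
  have hp : IsIso ((Scheme.Modules.pullback h).map p) := by
    have e := KFlat.PullTensor.pullTensorIso_left h μ (Coh.structureModule Z)
    have : IsIso ((Scheme.Modules.pullback h).map p ≫ (KFlat.PullTensor.pullTensorIso h M (Coh.structureModule Z)).hom) := by
      rw [e]; infer_instance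
    exact IsIso.of_isIso_comp_right _ (KFlat.PullTensor.pullTensorIso h M (Coh.structureModule Z)).hom
  have hq : IsIso ((Scheme.Modules.pullback h).map q) := by
    have e := KFlat.PullTensor.pullTensorIso_right h M ν
    have : IsIso ((Scheme.Modules.pullback h).map q ≫ (KFlat.PullTensor.pullTensorIso h M N).hom) := by
      rw [e]; infer_instance
    exact IsIso.of_isIso_comp_right _ (KFlat.PullTensor.pullTensorIso h M N).hom
  haveI := hp
  haveI := hq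
  refine ⟨(ProjTwist.oneTens (Coh.structureModule Z)).inv ≫ p ≫ q, ?_⟩
  have hpq : IsIso ((Scheme.Modules.pullback h).map (p ≫ q)) := by
    rw [Functor.map_comp]; exact IsIso.comp_isIso' hp hq
  exact ((Scheme.Modules.pullback h).map_comp (ProjTwist.oneTens (Coh.structureModule Z)).inv (p ≫ q)).symm ▸
    IsIso.comp_isIso' (Functor.map_isIso _ _) hpq

open CategoryTheory AlgebraicGeometry in
/-- Powers of a trivialization. -/
theorem exists_pow_triv {W Z : Scheme.{u}} (h : W ⟶ Z) {M : Z.Modules}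
    (μ : Coh.structureModule Z ⟶ M) (hμ : IsIso ((Scheme.Modules.pullback h).map μ)) :
    ∀ n, ∃ ρ : Coh.structureModule Z ⟶ CohB1.tensorPow M n, IsIso ((Scheme.Modules.pullback h).map ρ)
  | 0 => ⟨𝟙 (Coh.structureModule Z), Functor.map_isIso (Scheme.Modules.pullback h) (𝟙 (Coh.structureModule Z))⟩
  | n + 1 => by
    obtain ⟨ρ, hρ⟩ := exists_pow_triv h μ hμ n
    exact exists_tensor_triv h ρ μ hρ hμ

/-- Here f : Y → X is an affine morphism with X and Y quasi-compact and quasi-separated; a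
Y-modification of X is a factorization f = fᵢ ≫ gᵢ with fᵢ : Y → Xᵢ schematically dominant and gᵢ :
Xᵢ → X proper, and it is a Y-blow-up of X when Xᵢ carries a gᵢ-ample module L with a section ε : O →
L whose pullback along fᵢ is an isomorphism (a Y-trivialization). If (Xᵢ, fᵢ, gᵢ) is a Y-blow-up of
X and (Xⱼ, fⱼ, gᵢⱼ) is a Y-blow-up of Xᵢ (with respect to fᵢ : Y → Xᵢ), then (Xⱼ, fⱼ, gᵢⱼ ≫ gᵢ) is a
Y-blow-up of X. -/
theorem result {X Y : Scheme.{u}} (f : Y ⟶ X)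
    [CompactSpace X] [QuasiSeparatedSpace X] [CompactSpace Y] [QuasiSeparatedSpace Y] [IsAffineHom f]
    {Xᵢ Xⱼ : Scheme.{u}} (fᵢ : Y ⟶ Xᵢ) (gᵢ : Xᵢ ⟶ X) (fⱼ : Y ⟶ Xⱼ) (gᵢⱼ : Xⱼ ⟶ Xᵢ)
    (hᵢ : IsSchemeTheoreticallyDominant fᵢ ∧ IsProper gᵢ ∧ fᵢ ≫ gᵢ = f ∧
        ∃ (L : Xᵢ.Modules) (ε : Coh.structureModule Xᵢ ⟶ L),
          RelAmple.IsRelAmple gᵢ L ∧ IsIso ((Scheme.Modules.pullback fᵢ).map ε))
    (hⱼ : IsSchemeTheoreticallyDominant fⱼ ∧ IsProper gᵢⱼ ∧ fⱼ ≫ gᵢⱼ = fᵢ ∧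
        ∃ (L : Xⱼ.Modules) (ε : Coh.structureModule Xⱼ ⟶ L),
          RelAmple.IsRelAmple gᵢⱼ L ∧ IsIso ((Scheme.Modules.pullback fⱼ).map ε)) :
    IsSchemeTheoreticallyDominant fⱼ ∧ IsProper (gᵢⱼ ≫ gᵢ) ∧ fⱼ ≫ (gᵢⱼ ≫ gᵢ) = f ∧
        ∃ (L : Xⱼ.Modules) (ε : Coh.structureModule Xⱼ ⟶ L),
          RelAmple.IsRelAmple (gᵢⱼ ≫ gᵢ) L ∧ IsIso ((Scheme.Modules.pullback fⱼ).map ε) := by
  obtain ⟨_, hgi, hfi, Li, εi, hLi, hεi⟩ := hᵢ
  obtain ⟨hd, hgj, hfj, Lj, εj, hLj, hεj⟩ := hⱼ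
  haveI := hgi
  haveI := hgj
  refine ⟨hd, inferInstance, by rw [← Category.assoc, hfj, hfi], ?_⟩
  obtain ⟨n₀, -, hn⟩ := S2331.result gᵢⱼ gᵢ Lj Li hLj hLi
  obtain ⟨ρ, hρ⟩ := exists_pow_triv fᵢ εi hεi n₀
  let ν : Coh.structureModule Xⱼ ⟶ (Scheme.Modules.pullback gᵢⱼ).obj (CohB1.tensorPow Li n₀) :=
    (QCoh.pullbackUnitIso gᵢⱼ).inv ≫ (Scheme.Modules.pullback gᵢⱼ).map ρ
  have hν : IsIso ((Scheme.Modules.pullback fⱼ).map ν) := by
    have : IsIso ((Scheme.Modules.pullback fⱼ).map ((Scheme.Modules.pullback gᵢⱼ).map ρ)) := by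
      haveI : IsIso ((Scheme.Modules.pullback (fⱼ ≫ gᵢⱼ)).map ρ) := by rw [hfj]; exact hρ
      exact (NatIso.isIso_map_iff (Scheme.Modules.pullbackComp fⱼ gᵢⱼ) ρ).mpr inferInstance
    rw [Functor.map_comp]
    infer_instance
  obtain ⟨σ, hσ⟩ := exists_tensor_triv fⱼ εj ν hεj hν
  exact ⟨_, σ, hn n₀ le_rfl, hσ⟩

end Groth.Agent.S17892
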