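import Groth.Statements.S17891
import Groth.Agent.S2332
import Groth.Agent.S2359
import Groth.Agent.S17892
import Groth.Agent.FlatMor.SchDom

set_option autoImplicit false
universe u
open CategoryTheory AlgebraicGeometry
open FlatMor

namespace Groth.Agent.S17891

open CategoryTheory AlgebraicGeometry in
/-- A trivialization pulls back to a trivialization. -/
theorem exists_pull_triv {W Z' Z : Scheme.{u}} (h : W ⟶ Z') (c : Z' ⟶ Z) {h' : W ⟶ Z} (e : h ≫ c = h')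
    {M : Z.Modules} (μ : Coh.structureModule Z ⟶ M) (hμ : IsIso ((Scheme.Modules.pullback h').map μ)) :
    ∃ ν : Coh.structureModule Z' ⟶ (Scheme.Modules.pullback c).obj M,
      IsIso ((Scheme.Modules.pullback h).map ν) := by
  subst e
  have h2 : IsIso ((Scheme.Modules.pullback h).map ((Scheme.Modules.pullback c).map μ)) :=
    (NatIso.isIso_map_iff (Scheme.Modules.pullbackComp h c) μ).mpr hμ
  exact ⟨(QCoh.pullbackUnitIso c).inv ≫ (Scheme.Modules.pullback c).map μ,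
    ((Scheme.Modules.pullback h).map_comp (QCoh.pullbackUnitIso c).inv ((Scheme.Modules.pullback c).map μ)).symm ▸
      IsIso.comp_isIso' (((Scheme.Modules.pullback h).mapIso (QCoh.pullbackUnitIso c).symm).isIso_hom) h2⟩

open CategoryTheory.Limits in
/-- Here f : Y → X is an affine morphism with X and Y quasi-compact and quasi-separated; a
Y-modification of X is a factorization f = fᵢ ≫ gᵢ with fᵢ : Y → Xᵢ schematically dominant and gᵢ :
Xᵢ → X proper, and it is a Y-blow-up of X when Xᵢ carries a gᵢ-ample module L with a section ε : O →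
L whose pullback along fᵢ is an isomorphism (a Y-trivialization). Given two Y-blow-ups (X₁, f₁, g₁),
(X₂, f₂, g₂) of X there is a Y-blow-up (X₃, f₃, g₃) of X together with morphisms dᵢ : X₃ → Xᵢ
satisfying f₃ ≫ dᵢ = fᵢ and dᵢ ≫ gᵢ = g₃. -/
theorem result {X Y : Scheme.{u}} (f : Y ⟶ X)
    [CompactSpace X] [QuasiSeparatedSpace X] [CompactSpace Y] [QuasiSeparatedSpace Y] [IsAffineHom f]
    {X₁ X₂ : Scheme.{u}} (f₁ : Y ⟶ X₁) (g₁ : X₁ ⟶ X) (f₂ : Y ⟶ X₂) (g₂ : X₂ ⟶ X)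
    (h₁ : IsSchemeTheoreticallyDominant f₁ ∧ IsProper g₁ ∧ f₁ ≫ g₁ = f ∧
        ∃ (L : X₁.Modules) (ε : Coh.structureModule X₁ ⟶ L),
          RelAmple.IsRelAmple g₁ L ∧ IsIso ((Scheme.Modules.pullback f₁).map ε))
    (h₂ : IsSchemeTheoreticallyDominant f₂ ∧ IsProper g₂ ∧ f₂ ≫ g₂ = f ∧
        ∃ (L : X₂.Modules) (ε : Coh.structureModule X₂ ⟶ L),
          RelAmple.IsRelAmple g₂ L ∧ IsIso ((Scheme.Modules.pullback f₂).map ε)) :
    ∃ (X₃ : Scheme.{u}) (f₃ : Y ⟶ X₃) (g₃ : X₃ ⟶ X) (d₁ : X₃ ⟶ X₁) (d₂ : X₃ ⟶ X₂),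
      (IsSchemeTheoreticallyDominant f₃ ∧ IsProper g₃ ∧ f₃ ≫ g₃ = f ∧
        ∃ (L : X₃.Modules) (ε : Coh.structureModule X₃ ⟶ L),
          RelAmple.IsRelAmple g₃ L ∧ IsIso ((Scheme.Modules.pullback f₃).map ε)) ∧
      f₃ ≫ d₁ = f₁ ∧ d₁ ≫ g₁ = g₃ ∧ f₃ ≫ d₂ = f₂ ∧ d₂ ≫ g₂ = g₃ := by
  obtain ⟨-, hg₁, hf₁, L₁, ε₁, hL₁, hε₁⟩ := id h₁
  obtain ⟨-, hg₂, hf₂, L₂, ε₂, hL₂, hε₂⟩ := id h₂
  haveI := hg₁
  haveI := hg₂
  let P := pullback g₂ g₁
  let k : Y ⟶ P := pullback.lift f₂ f₁ (hf₂.trans hf₁.symm)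
  have hk1 : k ≫ pullback.snd g₂ g₁ = f₁ := pullback.lift_snd _ _ _
  have hk2 : k ≫ pullback.fst g₂ g₁ = f₂ := pullback.lift_fst _ _ _
  haveI : QuasiCompact (k ≫ pullback.snd g₂ g₁) := by
    rw [hk1]
    haveI : QuasiCompact (f₁ ≫ g₁) := by rw [hf₁]; infer_instance
    exact QuasiCompact.of_comp f₁ g₁
  haveI : QuasiCompact k := QuasiCompact.of_comp k (pullback.snd g₂ g₁)
  let L := (Scheme.Modules.pullback k.imageι).obj ((Scheme.Modules.pullback (pullback.fst g₂ g₁)).obj L₂)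
  obtain ⟨μ, hμ⟩ := exists_pull_triv k (pullback.fst g₂ g₁) hk2 ε₂ hε₂
  obtain ⟨ν, hν⟩ : ∃ ν : Coh.structureModule k.image ⟶ L, IsIso ((Scheme.Modules.pullback k.toImage).map ν) :=
    exists_pull_triv k.toImage k.imageι k.toImage_imageι μ hμ
  have hL : RelAmple.IsRelAmple (k.imageι ≫ pullback.snd g₂ g₁) L :=
    S2359.result _ _ k.imageι.isClosedEmbedding.isEmbedding _ (S2332.result g₂ g₁ L₂ hL₂)
  haveI : IsAffineHom (f₁ ≫ g₁) := by rw [hf₁]; infer_instance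
  haveI : IsAffineHom f₁ := IsAffineHom.of_comp f₁ g₁
  haveI : CompactSpace X₁ := QuasiCompact.compactSpace_of_compactSpace g₁
  haveI : QuasiSeparatedSpace X₁ := quasiSeparatedSpace_of_quasiSeparated g₁
  have h3 := S17892.result f f₁ g₁ k.toImage (k.imageι ≫ pullback.snd g₂ g₁) h₁
    ⟨FlatMor.SchDom.toImage_dominant k (Or.inl inferInstance), inferInstance, by rw [Scheme.Hom.toImage_imageι_assoc, hk1], L, ν, hL, hν⟩
  refine ⟨k.image, k.toImage, (k.imageι ≫ pullback.snd g₂ g₁) ≫ g₁, k.imageι ≫ pullback.snd g₂ g₁,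
    k.imageι ≫ pullback.fst g₂ g₁, h3, by rw [Scheme.Hom.toImage_imageι_assoc, hk1], rfl,
    by rw [Scheme.Hom.toImage_imageι_assoc, hk2], by rw [Category.assoc, pullback.condition, Category.assoc]⟩

end Groth.Agent.S17891
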