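import Groth.Statements.S17896
import Groth.Agent.S17389
import Groth.Agent.Nagata.Bundle

set_option maxHeartbeats 400000
set_option backward.isDefEq.respectTransparency false
-- import your own Groth.Agent.* helpers here

set_option autoImplicit false
universe u
open CategoryTheory AlgebraicGeometry
open FlatMor

namespace Groth.Agent.S17896

/-- Let S be a Noetherian scheme, X₁ and X₂ separated S-schemes of finite type and j₁ : U → X₁, j₂ : U →
X₂ open immersions over S with schematically dense images, and let E be an O_U-module extending to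
finite locally free modules E₁ on X₁ and E₂ on X₂ (pullbacks along jᵢ isomorphic to E). Then there
exist a separated S-scheme X of finite type, an open immersion k : U → X over S with schematically
dense image, a finite locally free module E' on X whose pullback along k is isomorphic to E, and for
i = 1, 2 a proper quasi-domination of X over Xᵢ compatible with U: a schematically dense open Wᵢ ⊆ X
through which k factors and a proper S-morphism φᵢ : Wᵢ → Xᵢ restricting to jᵢ on U, whose graph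
morphism Wᵢ → X ×_S Xᵢ has closed image. -/
theorem result {S X₁ X₂ U : Scheme.{u}}
    [IsNoetherian S] (p₁ : X₁ ⟶ S) (p₂ : X₂ ⟶ S)
    [IsSeparated p₁] [QuasiCompact p₁] [LocallyOfFiniteType p₁]
    [IsSeparated p₂] [QuasiCompact p₂] [LocallyOfFiniteType p₂]
    (j₁ : U ⟶ X₁) (j₂ : U ⟶ X₂) [IsOpenImmersion j₁] [IsOpenImmersion j₂]
    [IsSchemeTheoreticallyDominant j₁] [IsSchemeTheoreticallyDominant j₂] (hj : j₁ ≫ p₁ = j₂ ≫ p₂)
    (E : U.Modules) (E₁ : X₁.Modules) (E₂ : X₂.Modules)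
    (hE₁ : FlatMod.IsFinLocFree E₁) (hE₂ : FlatMod.IsFinLocFree E₂)
    (e₁ : (Scheme.Modules.pullback j₁).obj E₁ ≅ E) (e₂ : (Scheme.Modules.pullback j₂).obj E₂ ≅ E) :
    ∃ (X : Scheme.{u}) (p : X ⟶ S) (k : U ⟶ X) (E' : X.Modules),
      IsSeparated p ∧ QuasiCompact p ∧ LocallyOfFiniteType p ∧ IsOpenImmersion k ∧ QuasiCompact k ∧
      IsSchemeTheoreticallyDominant k ∧ k ≫ p = j₁ ≫ p₁ ∧ FlatMod.IsFinLocFree E' ∧
      Nonempty ((Scheme.Modules.pullback k).obj E' ≅ E) ∧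
      (∃ (W₁ : X.Opens) (φ₁ : (↑W₁ : Scheme.{u}) ⟶ X₁) (hφ₁ : W₁.ι ≫ p = φ₁ ≫ p₁) (l₁ : U ⟶ ↑W₁),
        IsSchemeTheoreticallyDominant W₁.ι ∧ IsProper φ₁ ∧ l₁ ≫ W₁.ι = k ∧ l₁ ≫ φ₁ = j₁ ∧
        IsClosed (Set.range (fun w => (Limits.pullback.lift W₁.ι φ₁ hφ₁) w))) ∧
      (∃ (W₂ : X.Opens) (φ₂ : (↑W₂ : Scheme.{u}) ⟶ X₂) (hφ₂ : W₂.ι ≫ p = φ₂ ≫ p₂) (l₂ : U ⟶ ↑W₂),
        IsSchemeTheoreticallyDominant W₂.ι ∧ IsProper φ₂ ∧ l₂ ≫ W₂.ι = k ∧ l₂ ≫ φ₂ = j₂ ∧
        IsClosed (Set.range (fun w => (Limits.pullback.lift W₂.ι φ₂ hφ₂) w))) := by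
  haveI : CompactSpace X₁ := QuasiCompact.compactSpace_of_compactSpace p₁
  haveI : IsLocallyNoetherian X₁ := LocallyOfFiniteType.isLocallyNoetherian p₁
  haveI : IsNoetherian X₁ := {}
  haveI : CompactSpace U := ⟨j₁.isOpenEmbedding.isInducing.isCompact_iff.mpr
    (TopologicalSpace.NoetherianSpace.isCompact _)⟩
  haveI : CompactSpace X₂ := QuasiCompact.compactSpace_of_compactSpace p₂
  haveI : QuasiSeparatedSpace X₁ := quasiSeparatedSpace_of_quasiSeparated p₁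
  haveI : QuasiSeparatedSpace X₂ := quasiSeparatedSpace_of_quasiSeparated p₂
  haveI : QuasiCompact j₁ := QuasiCompact.of_comp _ (Limits.terminal.from X₁)
  haveI : QuasiCompact j₂ := QuasiCompact.of_comp _ (Limits.terminal.from X₂)
  haveI : IsDominant j₁ := ⟨Groth.Agent.FlatMor.SchDom.denseRange_of_dominant j₁ (Or.inl inferInstance)⟩
  haveI : IsDominant j₂ := ⟨Groth.Agent.FlatMor.SchDom.denseRange_of_dominant j₂ (Or.inl inferInstance)⟩
  obtain ⟨Y, q, _, _, _, j, _, _, hjq, ⟨W₁, l₁, φ₁, hφ₁, hl₁, hlp₁, _, -⟩,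
    ⟨W₂, l₂, φ₂, hφ₂, hl₂, hlp₂, _, -⟩⟩ := S17389.result p₁ p₂ j₁ j₂ hj
  haveI : CompactSpace Y := QuasiCompact.compactSpace_of_compactSpace q
  haveI : IsLocallyNoetherian Y := LocallyOfFiniteType.isLocallyNoetherian q
  haveI : IsNoetherian Y := {}
  haveI : QuasiSeparatedSpace Y := quasiSeparatedSpace_of_quasiSeparated q
  haveI : QuasiCompact j := QuasiCompact.of_comp _ (Limits.terminal.from Y)
  have hEf : FlatMod.IsFinLocFree E :=
    KFlat.LocFree.isFinLocFree_of_iso e₁ (KFlat.LocFree.isFinLocFree_pull j₁ hE₁)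
  obtain ⟨X', k, c, E', hk, hkc, hkd, _, hkj, hE', he, -⟩ := Nagata.exists_extend_step Y j E hEf
  have main : ∀ {Xi : Scheme.{u}} (pi : Xi ⟶ S) (_ : IsSeparated pi) (ji : U ⟶ Xi) (W : Y.Opens)
      (l : U ⟶ W.toScheme) (φ : W.toScheme ⟶ Xi) (_ : IsProper φ) (_ : W.ι ≫ q = φ ≫ pi)
      (_ : l ≫ W.ι = j) (_ : l ≫ φ = ji),
      ∃ (W' : X'.Opens) (φ' : (↑W' : Scheme.{u}) ⟶ Xi) (hφ' : W'.ι ≫ c ≫ q = φ' ≫ pi) (l' : U ⟶ ↑W'),
        IsSchemeTheoreticallyDominant W'.ι ∧ IsProper φ' ∧ l' ≫ W'.ι = k ∧ l' ≫ φ' = ji ∧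
        IsClosed (Set.range (fun w => (Limits.pullback.lift W'.ι φ' hφ') w)) := by
    intro Xi pi _ ji W l φ _ hφ hl hlp
    let W' := c ⁻¹ᵁ W
    have hkW : Set.range k ⊆ Set.range W'.ι := by
      rw [Scheme.Opens.range_ι]
      rintro _ ⟨x, rfl⟩
      show c (k x) ∈ W
      rw [← Scheme.Hom.comp_apply, hkj, ← hl, Scheme.Hom.comp_apply]
      exact (l x).2
    let l' := IsOpenImmersion.lift W'.ι k hkW
    have hl' : l' ≫ W'.ι = k := IsOpenImmersion.lift_fac _ _ _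
    have hφ' : W'.ι ≫ c ≫ q = ((c ∣_ W) ≫ φ) ≫ pi := by
      rw [Category.assoc, ← hφ, morphismRestrict_ι_assoc]
    refine ⟨W', (c ∣_ W) ≫ φ, hφ', l', ⟨le_bot_iff.mp ?_⟩, inferInstance, hl', ?_,
      QDom.Pair.isClosed_range_graph _ (c ≫ q) pi _ hφ'⟩
    · rw [← IsSchemeTheoreticallyDominant.ker_eq_bot k]
      conv_rhs => rw [← hl']
      exact Scheme.Hom.le_ker_comp _ _
    · have : l' ≫ (c ∣_ W) = l := by
        rw [← cancel_mono W.ι, Category.assoc, morphismRestrict_ι, reassoc_of% hl', hkj, hl]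
      rw [reassoc_of% this, hlp]
  exact ⟨X', c ≫ q, k, E', inferInstance, inferInstance, inferInstance, hk, hkc, hkd,
    by rw [← Category.assoc, hkj, hjq], hE', he, main p₁ inferInstance j₁ W₁ l₁ φ₁ inferInstance hφ₁ hl₁ hlp₁,
    main p₂ inferInstance j₂ W₂ l₂ φ₂ inferInstance hφ₂ hl₂ hlp₂⟩

end Groth.Agent.S17896
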