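import Groth.Statements.S17899
import Groth.Agent.EtMilLib.Flat
import Groth.Agent.FlatMisc.ValuationFP
import Mathlib.RingTheory.Flat.EquationalCriterion
import Mathlib.RingTheory.FinitePresentation
import Mathlib.RingTheory.Flat.TorsionFree

set_option autoImplicit false
universe u
open TensorProduct
open CAlg

namespace Groth.Agent.S17899

open TensorProduct IsLocalRing MvPolynomial

section

variable {A : Type u} [CommRing A] [IsLocalRing A] (R : ValuationSubring (ResidueField A))
  (O : Subring A) (hO : O = R.toSubring.comap (residue A))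

include hO in
theorem mem_O {a : A} : a ∈ O ↔ residue A a ∈ R := by rw [hO]; rfl

include hO in
theorem mem_O_of_mem {a : A} (ha : a ∈ maximalIdeal A) : a ∈ O := by
  rw [mem_O R O hO, (residue_eq_zero_iff a).2 ha]
  exact R.zero_mem

/-- The reduction `O → R`. -/
noncomputable def red : O →+* R :=
  ((residue A).comp O.subtype).codRestrict R.toSubring fun x => (mem_O R O hO).1 x.2

theorem red_surjective : Function.Surjective (red R O hO) := by
  intro r
  obtain ⟨a, ha⟩ := residue_surjective (r : ResidueField A)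
  exact ⟨⟨a, (mem_O R O hO).2 (ha ▸ r.2)⟩, Subtype.ext ha⟩

theorem red_eq_zero {x : O} : red R O hO x = 0 ↔ (x : A) ∈ maximalIdeal A := by
  rw [← residue_eq_zero_iff]
  exact ⟨fun h => congrArg Subtype.val h, fun h => Subtype.ext h⟩

/-- The elements of `O` which are units in `A`. -/
def S : Submonoid O := (IsUnit.submonoid A).comap (O.subtype : O →* A)

include hO in
theorem isLocalization : IsLocalization (S O) A := by
  refine (isLocalization_iff _ _).2 ⟨fun s => s.2, fun a => ?_, fun {x y} h => ⟨1, ?_⟩⟩
  · by_cases ha : a ∈ O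
    · exact ⟨(⟨a, ha⟩, 1), by show a * (1 : A) = a; rw [mul_one]⟩
    · have hu : IsUnit a := by
        by_contra hn
        exact ha (mem_O_of_mem R O hO hn)
      obtain ⟨u, rfl⟩ := hu
      have hmem : ((u⁻¹ : Aˣ) : A) ∈ O := by
        rw [mem_O R O hO, map_units_inv]
        exact (R.mem_or_inv_mem _).resolve_left fun h => ha ((mem_O R O hO).2 h)
      refine ⟨(1, ⟨⟨((u⁻¹ : Aˣ) : A), hmem⟩, ?_⟩), ?_⟩
      · show IsUnit ((u⁻¹ : Aˣ) : A)
        exact Units.isUnit _
      · show (u : A) * ((u⁻¹ : Aˣ) : A) = (1 : A)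
        exact Units.mul_inv u
  · rw [show x = y from Subtype.ext h]

end

set_option maxHeartbeats 1000000 in
theorem main {A : Type u} [CommRing A] [IsLocalRing A] (R : ValuationSubring (ResidueField A))
    (O : Subring A) (hO : O = R.toSubring.comap (residue A))
    (C : Type u) [CommRing C] [Algebra ↥O C] [Algebra.FiniteType ↥O C]
    (hadm : Function.Injective (Algebra.TensorProduct.includeRight : C →ₐ[↥O] A ⊗[↥O] C))
    (hflat : Module.Flat A (A ⊗[↥O] C)) (hfp : Algebra.FinitePresentation A (A ⊗[↥O] C)) :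
    Module.Flat ↥O C ∧ Algebra.FinitePresentation ↥O C := by
  classical
  letI : Algebra O R := (red R O hO).toAlgebra
  haveI : IsScalarTower O R (ResidueField A) := IsScalarTower.of_algebraMap_eq fun x => rfl
  have hredsurj : Function.Surjective (algebraMap O R) := red_surjective R O hO
  have hred0 : ∀ {x : O}, algebraMap O R x = 0 ↔ (x : A) ∈ maximalIdeal A := red_eq_zero R O hO
  have hsq : EtMil.IsFibreSquare O R A (ResidueField A) := by
    refine ⟨residue_surjective, fun r a h => ?_⟩
    have ha : a ∈ O := (mem_O R O hO).2 (by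
      show algebraMap A (ResidueField A) a ∈ R
      rw [← h]
      exact r.2)
    refine ⟨⟨a, ha⟩, ⟨Subtype.ext h.symm, rfl⟩, fun y hy => Subtype.ext hy.2⟩
  -- elements invertible in `A` act injectively on `C`
  have hreg : ∀ (s : O), IsUnit (s : A) → ∀ c : C, s • c = 0 → c = 0 := fun s hs c hc => by
    apply hadm
    rw [map_zero, Algebra.TensorProduct.includeRight_apply]
    have h1 : (s : A) • ((1 : A) ⊗ₜ[O] c) = 0 := by
      rw [smul_tmul', smul_eq_mul, mul_one, show ((s : A)) = s • (1 : A) by
        rw [Subring.smul_def, smul_eq_mul, mul_one], TensorProduct.smul_tmul, hc, tmul_zero]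
    exact (hs.smul_eq_zero).1 h1
  have hker : ∀ {c : C}, ((1 : R) ⊗ₜ[O] c : R ⊗[O] C) = 0 →
      c ∈ RingHom.ker (algebraMap O R) • (⊤ : Submodule O C) :=
    fun h => EtMilLib.mem_ker_smul_top hredsurj h
  -- `R ⊗ C` is torsion-free
  have htf : ∀ (r : R) (z : R ⊗[O] C), r • z = 0 → r = 0 ∨ z = 0 := by
    intro r z hrz
    by_contra hne
    rw [not_or] at hne
    obtain ⟨c, rfl⟩ := EtMilLib.tmul_surjective hredsurj z
    obtain ⟨s, rfl⟩ := hredsurj r
    have hsu : IsUnit (s : A) := by
      by_contra hn
      exact hne.1 (hred0.2 hn)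
    rw [algebraMap_smul, ← tmul_smul] at hrz
    have key : ∀ w ∈ RingHom.ker (algebraMap O R) • (⊤ : Submodule O C),
        ∃ v ∈ RingHom.ker (algebraMap O R) • (⊤ : Submodule O C), s • v = w := by
      intro w hw
      refine Submodule.smul_induction_on hw (fun e he x _ => ?_) ?_
      · have he' : (e : A) ∈ maximalIdeal A := hred0.1 (RingHom.mem_ker.1 he)
        have he'' : ((hsu.unit⁻¹ : Aˣ) : A) * (e : A) ∈ maximalIdeal A := Ideal.mul_mem_left _ _ he'
        refine ⟨(⟨_, mem_O_of_mem R O hO he''⟩ : O) • x,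
          Submodule.smul_mem_smul (RingHom.mem_ker.2 (hred0.2 he'')) trivial, ?_⟩
        rw [smul_smul]
        congr 1
        apply Subtype.ext
        show (s : A) * (_ * (e : A)) = (e : A)
        rw [← mul_assoc, IsUnit.mul_val_inv, one_mul]
      · rintro x y ⟨v, hv, rfl⟩ ⟨v', hv', rfl⟩
        exact ⟨v + v', add_mem hv hv', smul_add _ _ _⟩
    obtain ⟨v, hv, hsv⟩ := key _ (hker hrz)
    have hcv : v = c := sub_eq_zero.1 (hreg s hsu _ (by rw [smul_sub, hsv, sub_self]))
    exact hne.2 (EtMilLib.one_tmul_eq_zero_of_mem (hcv ▸ hv))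
  haveI : Module.Flat R (R ⊗[O] C) := by
    rw [Module.Flat.flat_iff_torsion_eq_bot_of_isBezout, eq_bot_iff]
    intro x hx
    obtain ⟨⟨a, ha⟩, hax⟩ := (Submodule.mem_torsion_iff x).1 hx
    exact (Submodule.mem_bot R).2 ((htf a x hax).resolve_left (nonZeroDivisors.ne_zero ha))
  haveI hC : Module.Flat O C := EtMilLib.flat_of_baseChange hsq
  refine ⟨hC, ?_⟩
  obtain ⟨n, φ, hφ⟩ := Algebra.FiniteType.iff_quotient_mvPolynomial''.mp
    (inferInstance : Algebra.FiniteType O C)
  let φA : MvPolynomial (Fin n) A →ₐ[A] A ⊗[O] C := aeval fun i => (1 : A) ⊗ₜ φ (X i)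
  let φR : MvPolynomial (Fin n) R →ₐ[R] R ⊗[O] C := aeval fun i => (1 : R) ⊗ₜ φ (X i)
  have hmap : ∀ (T : Type u) [CommRing T] [Algebra O T] (f : MvPolynomial (Fin n) O),
      aeval (fun i => (1 : T) ⊗ₜ[O] φ (X i)) (MvPolynomial.map (algebraMap O T) f) = (1 : T) ⊗ₜ[O] φ f := by
    intro T _ _ f
    rw [aeval_map_algebraMap]
    have := comp_aeval (R := O) (fun i => φ (X i))
      (Algebra.TensorProduct.includeRight : C →ₐ[O] T ⊗[O] C)
    have h2 := DFunLike.congr_fun this f
    rw [AlgHom.comp_apply, show (fun i => φ (X i)) = φ ∘ X from rfl, ← aeval_unique φ] at h2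
    exact h2.symm
  have hφA : Function.Surjective φA := by
    intro z
    induction z using TensorProduct.induction_on with
    | zero => exact ⟨0, map_zero _⟩
    | tmul a c =>
      obtain ⟨f, rfl⟩ := hφ c
      exact ⟨a • MvPolynomial.map (algebraMap O A) f, by
        rw [map_smul, show φA (MvPolynomial.map (algebraMap O A) f) = _ from hmap A f, smul_tmul',
          smul_eq_mul, mul_one]⟩
    | add x y hx hy =>
      obtain ⟨a, rfl⟩ := hx; obtain ⟨b, rfl⟩ := hy
      exact ⟨a + b, map_add _ _ _⟩
  have hφR : Function.Surjective φR := by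
    intro z
    obtain ⟨c, rfl⟩ := EtMilLib.tmul_surjective hredsurj z
    obtain ⟨f, rfl⟩ := hφ c
    exact ⟨_, hmap R f⟩
  have hRsurj := MvPolynomial.map_surjective (σ := Fin n) (algebraMap O R) hredsurj
  -- the two kernels
  obtain ⟨tA, htA⟩ : (RingHom.ker φA.toRingHom).FG := Algebra.FinitePresentation.ker_fG_of_surjective φA hφA
  obtain ⟨tR, htR⟩ : (RingHom.ker φR.toRingHom).FG := by
    letI : Algebra (MvPolynomial (Fin n) R) (R ⊗[O] C) := φR.toRingHom.toAlgebra
    haveI : IsScalarTower R (MvPolynomial (Fin n) R) (R ⊗[O] C) :=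
      IsScalarTower.of_algebraMap_eq fun x => (φR.commutes x).symm
    haveI : Module.Finite (MvPolynomial (Fin n) R) (R ⊗[O] C) :=
      Module.Finite.of_surjective (Algebra.linearMap _ _) hφR
    haveI := FlatMisc.ValuationFP.finitePresentation (A := R) (σ := Fin n) (R ⊗[O] C) htf
    exact Module.FinitePresentation.fg_ker
      (Algebra.linearMap (MvPolynomial (Fin n) R) (R ⊗[O] C)) hφR
  let I := RingHom.ker φ.toRingHom
  have liftA : ∀ g ∈ RingHom.ker φA.toRingHom,
      ∃ f ∈ I, ∃ a : A, IsUnit a ∧ MvPolynomial.map (algebraMap O A) f = MvPolynomial.C a * g := by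
    intro g hg
    haveI := isLocalization R O hO
    obtain ⟨⟨s, hs⟩, hint⟩ := IsLocalization.exist_integer_multiples (S O) g.support (fun d => coeff d g)
    choose w hw using hint
    refine ⟨∑ d ∈ g.support.attach, monomial d.1 (w d.1 d.2), ?_, algebraMap O A s, hs, ?_⟩
    swap
    · rw [map_sum]
      conv_rhs => rw [g.as_sum, Finset.mul_sum, ← Finset.sum_attach]
      refine Finset.sum_congr rfl fun d _ => ?_
      rw [map_monomial, C_mul_monomial, hw d.1 d.2]
      simp [Algebra.smul_def, Submonoid.smul_def]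
    show φ _ = 0
    apply hadm
    rw [map_zero, Algebra.TensorProduct.includeRight_apply, ← hmap A]
    show φA _ = 0
    rw [show MvPolynomial.map (algebraMap O A) (∑ d ∈ g.support.attach, monomial d.1 (w d.1 d.2)) =
      MvPolynomial.C (algebraMap O A s) * g from ?_, map_mul, show φA g = 0 from hg, mul_zero]
    rw [map_sum]
    conv_rhs => rw [g.as_sum, Finset.mul_sum, ← Finset.sum_attach]
    refine Finset.sum_congr rfl fun d _ => ?_
    rw [map_monomial, C_mul_monomial, hw d.1 d.2]
    simp [Algebra.smul_def, Submonoid.smul_def]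
  have liftR : ∀ g ∈ RingHom.ker φR.toRingHom, ∃ f ∈ I, MvPolynomial.map (algebraMap O R) f = g := by
    intro g hg
    obtain ⟨f, rfl⟩ := hRsurj g
    have h0 : ((1 : R) ⊗ₜ[O] φ f : R ⊗[O] C) = 0 := (hmap R f).symm.trans hg
    have key : ∀ w ∈ RingHom.ker (algebraMap O R) • (⊤ : Submodule O C),
        ∃ h, MvPolynomial.map (algebraMap O R) h = 0 ∧ φ h = w := by
      intro w hw
      refine Submodule.smul_induction_on hw (fun e he x _ => ?_) ?_
      · obtain ⟨y, rfl⟩ := hφ x
        exact ⟨e • y, by rw [smul_eq_C_mul, map_mul, map_C, RingHom.mem_ker.1 he, map_zero, zero_mul],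
          map_smul φ e y⟩
      · rintro x y ⟨v, hv, rfl⟩ ⟨v', hv', rfl⟩
        exact ⟨v + v', by rw [map_add, hv, hv', add_zero], map_add _ _ _⟩
    obtain ⟨h, hh, hh'⟩ := key _ (hker h0)
    exact ⟨f - h, show φ (f - h) = 0 by rw [map_sub, hh', sub_self], by rw [map_sub, hh, sub_zero]⟩
  choose fA hfA uA huA hfA' using liftA
  choose fR hfR hfR' using liftR
  let J : Ideal (MvPolynomial (Fin n) O) :=
    Ideal.span ((tA.attach.image fun g => fA g.1 (htA.le (Submodule.subset_span g.2))) ∪
      (tR.attach.image fun g => fR g.1 (htR.le (Submodule.subset_span g.2))) : Finset _)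
  have hJI : J ≤ I := by
    refine Ideal.span_le.2 fun x hx => ?_
    rcases Finset.mem_union.1 hx with h | h <;>
      obtain ⟨g, -, rfl⟩ := Finset.mem_image.1 h
    · exact hfA _ _
    · exact hfR _ _
  -- `𝔪 I ⊆ J`
  have hmI : ∀ (e : O), algebraMap O R e = 0 → ∀ x ∈ I, MvPolynomial.C e * x ∈ J := by
    have hQ : ∀ y ∈ Submodule.span (MvPolynomial (Fin n) A) (tA : Set (MvPolynomial (Fin n) A)),
        ∀ e : O, algebraMap O R e = 0 →
          ∃ j ∈ J, MvPolynomial.map (algebraMap O A) j = MvPolynomial.C (e : A) * y := by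
      intro y hy
      induction hy using Submodule.span_induction with
      | mem y hy =>
        intro e he
        have hyI : y ∈ RingHom.ker φA.toRingHom := htA.le (Submodule.subset_span hy)
        obtain ⟨u, hu⟩ := huA y hyI
        have he' : ((u⁻¹ : Aˣ) : A) * (e : A) ∈ maximalIdeal A := Ideal.mul_mem_left _ _ (hred0.1 he)
        refine ⟨MvPolynomial.C (⟨_, mem_O_of_mem R O hO he'⟩ : O) * fA y hyI, Ideal.mul_mem_left _ _
          (Ideal.subset_span (Finset.mem_union_left _
            (Finset.mem_image.2 ⟨⟨y, hy⟩, Finset.mem_attach _ _, rfl⟩))), ?_⟩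
        rw [map_mul, map_C, hfA', ← mul_assoc, ← map_mul]
        congr 2
        show ((u⁻¹ : Aˣ) : A) * (e : A) * _ = _
        rw [← hu, mul_comm ((u⁻¹ : Aˣ) : A), mul_assoc, Units.inv_mul, mul_one]
      | zero => exact fun e _ => ⟨0, zero_mem _, by simp⟩
      | add y z _ _ hy hz =>
        intro e he
        obtain ⟨j, hj, hj'⟩ := hy e he
        obtain ⟨j', hj₂, hj₂'⟩ := hz e he
        exact ⟨j + j', add_mem hj hj₂, by rw [map_add, hj', hj₂', mul_add]⟩
      | smul c y _ hy =>
        intro e he
        have hec : ∀ d, (e : A) * coeff d c ∈ maximalIdeal A := fun d =>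
          Ideal.mul_mem_right _ _ (hred0.1 he)
        choose j hj hj' using fun d => hy (⟨_, mem_O_of_mem R O hO (hec d)⟩ : O) (hred0.2 (hec d))
        refine ⟨∑ d ∈ c.support, monomial d 1 * j d, sum_mem fun d _ => Ideal.mul_mem_left _ _ (hj d), ?_⟩
        rw [map_sum, smul_eq_mul, ← mul_assoc]
        conv_rhs => rw [c.as_sum, Finset.mul_sum, Finset.sum_mul]
        refine Finset.sum_congr rfl fun d _ => ?_
        rw [map_mul, map_monomial, map_one, hj', ← mul_assoc, mul_comm (monomial d (1 : A)), C_mul_monomial, C_mul_monomial]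
        congr 1
        simp
    intro e he x hx
    have hxA : MvPolynomial.map (algebraMap O A) x ∈
        Submodule.span (MvPolynomial (Fin n) A) (tA : Set (MvPolynomial (Fin n) A)) := htA.ge (by
      show φA _ = 0
      rw [show φA (MvPolynomial.map (algebraMap O A) x) = _ from hmap A x, show φ x = 0 from hx, tmul_zero])
    obtain ⟨j, hj, hj'⟩ := hQ _ hxA e he
    have heq : MvPolynomial.C e * x = j := MvPolynomial.map_injective (algebraMap O A) Subtype.val_injective (by
      rw [hj', map_mul, map_C]; rfl)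
    exact heq ▸ hj
  refine Algebra.FinitePresentation.of_surjective hφ (show (RingHom.ker φ.toRingHom).FG from ?_)
  refine ⟨_, le_antisymm hJI fun f hf => ?_⟩
  show f ∈ J
  obtain ⟨j, hj, hjf⟩ : ∃ j ∈ J, MvPolynomial.map (algebraMap O R) j = MvPolynomial.map (algebraMap O R) f := by
    refine (Ideal.mem_map_iff_of_surjective _ hRsurj).1 ?_
    have hfR0 : MvPolynomial.map (algebraMap O R) f ∈ RingHom.ker φR.toRingHom := by
      show φR _ = 0
      rw [show φR (MvPolynomial.map (algebraMap O R) f) = _ from hmap R f, show φ f = 0 from hf, tmul_zero]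
    refine Submodule.span_le.2 ?_ (htR.ge hfR0)
    intro g hg
    rw [← hfR' g (htR.le (Submodule.subset_span hg))]
    exact Ideal.mem_map_of_mem _ (Ideal.subset_span (Finset.mem_union_right _
      (Finset.mem_image.2 ⟨⟨g, hg⟩, Finset.mem_attach _ _, rfl⟩)))
  suffices f - j ∈ J by simpa using add_mem this hj
  set f' := f - j with hf'def
  have hf'I : φ f' = 0 := by
    rw [hf'def, map_sub, show φ f = 0 from hf, show φ j = 0 from hJI hj, sub_zero]
  have hcoef : ∀ d, algebraMap O R (coeff d f') = 0 := fun d => by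
    rw [← coeff_map, hf'def, map_sub, hjf, sub_self, coeff_zero]
  have hrel : ∑ d : f'.support, coeff d.1 f' • φ (monomial d.1 1) = 0 := by
    rw [Finset.sum_coe_sort f'.support (fun d => coeff d f' • φ (monomial d 1)), ← hf'I]
    conv_rhs => rw [f'.as_sum, map_sum]
    exact Finset.sum_congr rfl fun d _ => by rw [← map_smul, smul_monomial, smul_eq_mul, mul_one]
  obtain ⟨k, a, y, hy, ha⟩ := Module.Flat.isTrivialRelation_of_sum_smul_eq_zero (R := O) (M := C) hrel
  choose g hg using fun i => hφ (y i)
  have hsum : f' = ∑ d : f'.support, MvPolynomial.C (coeff d.1 f') * (monomial d.1 1 - ∑ i, MvPolynomial.C (a d i) * g i) := by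
    simp only [mul_sub, Finset.sum_sub_distrib]
    rw [Finset.sum_coe_sort f'.support (fun d => MvPolynomial.C (coeff d f') * monomial d 1)]
    have : ∑ d : f'.support, MvPolynomial.C (coeff d.1 f') * ∑ i, MvPolynomial.C (a d i) * g i = 0 := by
      simp only [Finset.mul_sum, ← mul_assoc, ← map_mul]
      rw [Finset.sum_comm]
      refine Finset.sum_eq_zero fun i _ => ?_
      rw [← Finset.sum_mul, ← map_sum, ha i, map_zero, zero_mul]
    rw [this, sub_zero]
    conv_lhs => rw [f'.as_sum]
    exact Finset.sum_congr rfl fun d _ => by rw [C_mul_monomial, mul_one]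
  rw [hsum]
  refine sum_mem fun d _ => hmI _ (hcoef _) _ ?_
  show φ _ = 0
  rw [map_sub, show φ (monomial d.1 1) = ∑ i, a d i • y i from hy d, map_sum, sub_eq_zero]
  exact Finset.sum_congr rfl fun i _ => by rw [← smul_eq_C_mul, map_smul, hg]

/-- Let A be a local ring with residue field K, R a valuation ring of K and O ⊆ A the preimage of R
under A → K (so O is a semi-valuation ring with semi-fraction ring A, S = Spec O is glued from U =
Spec A and T = Spec R). Let C be an O-algebra of finite type which is U-admissible (C → A ⊗_O C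
injective) and such that A ⊗_O C is flat and of finite presentation over A. Then C is flat and of
finite presentation over O. (The published assertion is more general: the base may be any
quasi-compact quasi-separated U-admissible scheme over Spec O, and the scheme over it any
quasi-compact quasi-separated admissible scheme. This row is the case of an affine scheme over Spec
O itself, the case in which the published proof carries out its argument.) -/
theorem result
    (A : Type u) [CommRing A] [IsLocalRing A] (R : ValuationSubring (IsLocalRing.ResidueField A))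
    (O : Subring A) (hO : O = R.toSubring.comap (IsLocalRing.residue A))
    (C : Type u) [CommRing C] [Algebra ↥O C] [Algebra.FiniteType ↥O C]
    (hadm : Function.Injective (Algebra.TensorProduct.includeRight : C →ₐ[↥O] A ⊗[↥O] C))
    (hflat : Module.Flat A (A ⊗[↥O] C)) (hfp : Algebra.FinitePresentation A (A ⊗[↥O] C)) :
    Module.Flat ↥O C ∧ Algebra.FinitePresentation ↥O C := by
  exact main R O hO C hadm hflat hfp

end Groth.Agent.S17899
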