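import Groth.Statements.S17900
import Mathlib.RingTheory.Flat.Equalizer
import Mathlib.LinearAlgebra.TensorProduct.Prod
import Groth.Agent.FlatMor.FlatLemmas

set_option autoImplicit false
universe u
open TensorProduct
open Pinch

namespace Groth.Agent.S17900

/-- Let R be a commutative ring and let B' → B → A, B' → A' → A be a commutative square of R-algebras
which is a fibre square (B' = B ×_A A') with A' → A surjective. If B, A' and A are flat over R then
B' is flat over R. -/
theorem result (R B' B A' A : Type u) [CommRing R] [CommRing B'] [CommRing B] [CommRing A'] [CommRing A]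
    [Algebra B' B] [Algebra B' A'] [Algebra B A] [Algebra A' A] [Algebra B' A]
    [IsScalarTower B' B A] [IsScalarTower B' A' A]
    [Algebra R B'] [Algebra R B] [Algebra R A'] [Algebra R A]
    [IsScalarTower R B' B] [IsScalarTower R B' A'] [IsScalarTower R B' A] [IsScalarTower R B A] [IsScalarTower R A' A]
    (hsq : EtMil.IsFibreSquare B' B A' A)
    [Module.Flat R B] [Module.Flat R A'] [Module.Flat R A] :
    Module.Flat R B' := by
  let f : (B × A') →ₗ[R] A := (IsScalarTower.toAlgHom R B A).toLinearMap.comp (LinearMap.fst R B A') -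
    (IsScalarTower.toAlgHom R A' A).toLinearMap.comp (LinearMap.snd R B A')
  let g : B' →ₗ[R] B × A' :=
    (IsScalarTower.toAlgHom R B' B).toLinearMap.prod (IsScalarTower.toAlgHom R B' A').toLinearMap
  have hf : Function.Surjective f := fun a => by
    obtain ⟨a', ha'⟩ := hsq.1 (-a)
    exact ⟨(0, a'), by simp [f, ha']⟩
  have hcomm : ∀ z, algebraMap B A (algebraMap B' B z) = algebraMap A' A (algebraMap B' A' z) :=
    fun z => by rw [← IsScalarTower.algebraMap_apply, ← IsScalarTower.algebraMap_apply]
  have hg : Function.Injective g := fun z w h => by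
    obtain ⟨h₁, h₂⟩ := Prod.ext_iff.mp h
    exact (hsq.2 _ _ (hcomm z)).unique ⟨rfl, rfl⟩ ⟨h₁.symm, h₂.symm⟩
  have H : Function.Exact g f := fun x => by
    constructor
    · intro h
      obtain ⟨z, ⟨hz₁, hz₂⟩, -⟩ := hsq.2 x.1 x.2 (sub_eq_zero.mp h)
      exact ⟨z, Prod.ext hz₁ hz₂⟩
    · rintro ⟨z, rfl⟩
      exact sub_eq_zero.mpr (hcomm z)
  have : Module.Flat R (B × A') := FlatMor.FlatLemmas.flat_prod
  rw [Module.Flat.iff_rTensor_preserves_injective_linearMap]
  intro N P _ _ _ _ l hl
  have key : Function.Injective (g.lTensor P ∘ₗ l.rTensor B') := by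
    rw [LinearMap.lTensor_comp_rTensor, ← LinearMap.rTensor_comp_lTensor]
    exact (Module.Flat.rTensor_preserves_injective_linearMap l hl).comp
      (LinearMap.lTensor_injective_of_exact_of_flat f hf g hg H N)
  exact Function.Injective.of_comp key

end Groth.Agent.S17900
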