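import Mathlib
import Groth.Statements.S17902
-- import your own Groth.Agent.* helpers here

set_option autoImplicit false
universe u
open CAlg

namespace Groth.Agent.S17902

/-- Let A be a commutative ring, M a finitely generated projective A-module, n a natural number and P a
finite set of prime ideals of A such that for every p in P there is g outside p with M_g free of
rank n over A_g. Then there exist n elements of M and an open subset U of Spec A containing P such
that for every prime q in U the images of these elements in M_q form a basis of M_q over A_q. (The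
published conclusion is that the associated sheaf is free of rank n on some open neighbourhood of P;
the form given here, with n global elements of M, is what its proof produces.) -/
theorem result (A : Type u) [CommRing A] (M : Type u) [AddCommGroup M] [Module A M]
    [Module.Finite A M] [Module.Projective A M] (n : ℕ) (P : Finset (PrimeSpectrum A))
    (hP : ∀ p ∈ P, ∃ g : A, g ∉ p.asIdeal ∧
      Nonempty (Module.Basis (Fin n) (Localization.Away g) (LocalizedModule (Submonoid.powers g) M))) :
    ∃ (s : Fin n → M) (U : Set (PrimeSpectrum A)), IsOpen U ∧ (∀ p ∈ P, p ∈ U) ∧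
      ∀ q ∈ U,
        LinearIndependent (Localization.AtPrime q.asIdeal)
            (fun j => LocalizedModule.mkLinearMap q.asIdeal.primeCompl M (s j)) ∧
          Submodule.span (Localization.AtPrime q.asIdeal)
            (Set.range fun j => LocalizedModule.mkLinearMap q.asIdeal.primeCompl M (s j)) = ⊤ := by
  classical
  haveI : Module.FinitePresentation A M := Module.finitePresentation_of_projective A M
  have hrank : ∀ p ∈ P, Module.rankAtStalk (R := A) M p = n := by
    intro p hp
    obtain ⟨g, hg, ⟨b⟩⟩ := hP p hp
    obtain ⟨q, rfl⟩ : p ∈ Set.range (PrimeSpectrum.comap (algebraMap A (Localization.Away g))) := by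
      rw [PrimeSpectrum.localization_away_comap_range (Localization.Away g) g]
      exact hg
    haveI : Nontrivial (Localization.Away g) := ⟨0, 1, fun h =>
      q.isPrime.ne_top ((Ideal.eq_top_iff_one _).mpr (h ▸ zero_mem _))⟩
    haveI : Module.Free (Localization.Away g) (LocalizedModule (Submonoid.powers g) M) := Module.Free.of_basis b
    rw [← Module.rankAtStalk_isBaseChange (LocalizedModule.isBaseChange (Submonoid.powers g) M),
      Module.rankAtStalk_eq_finrank_of_free]
    simp [Module.finrank_eq_card_basis b]
  let P' := P.filter fun p => ∀ q ∈ P, p ≤ q → q = p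
  have hP'max : ∀ p ∈ P, ∃ q ∈ P', p ≤ q := by
    intro p hp
    obtain ⟨q, hpq, hq⟩ := (P : Set (PrimeSpectrum A)).toFinite.exists_le_maximal (a := p) (Finset.mem_coe.mpr hp)
    exact ⟨q, Finset.mem_filter.mpr ⟨hq.1, fun r hr hqr => le_antisymm (hq.2 hr hqr) hqr⟩, hpq⟩
  have he : ∀ p ∈ P', ∃ e : A, e ∉ p.asIdeal ∧ ∀ q ∈ P', q ≠ p → e ∈ q.asIdeal := by
    intro p hp
    have hex : ∀ q ∈ P'.erase p, ∃ a ∈ q.asIdeal, a ∉ p.asIdeal := by
      intro q hq
      obtain ⟨hne, hq'⟩ := Finset.mem_erase.mp hq
      refine SetLike.not_le_iff_exists.mp fun hle => hne ?_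
      exact ((Finset.mem_filter.mp hq').2 p (Finset.mem_filter.mp hp).1 hle).symm
    choose a ha ha' using hex
    refine ⟨∏ q ∈ (P'.erase p).attach, a q.1 q.2, fun h => ?_, fun q hq hne => ?_⟩
    · obtain ⟨q, -, hq⟩ := Ideal.IsPrime.prod_mem_iff.mp h
      exact ha' _ _ hq
    · have hmem : q ∈ P'.erase p := Finset.mem_erase.mpr ⟨hne, hq⟩
      exact Ideal.prod_mem q.asIdeal (Finset.mem_attach (P'.erase p) ⟨q, hmem⟩) (ha q hmem)
  choose e he1 he2 using he
  have hbasis : ∀ p ∈ P', ∃ m : Fin n → M, Submodule.span (Localization.AtPrime p.asIdeal)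
      (Set.range fun j => LocalizedModule.mkLinearMap p.asIdeal.primeCompl M (m j)) = ⊤ := by
    intro p hp
    haveI : Module.Free (Localization.AtPrime p.asIdeal) (LocalizedModule p.asIdeal.primeCompl M) :=
      Module.free_of_flat_of_isLocalRing
    let b : Module.Basis (Fin n) (Localization.AtPrime p.asIdeal) (LocalizedModule p.asIdeal.primeCompl M) :=
      Module.finBasisOfFinrankEq _ _ (hrank p (Finset.mem_filter.mp hp).1)
    choose m hm using fun j => IsLocalizedModule.surj p.asIdeal.primeCompl
      (LocalizedModule.mkLinearMap p.asIdeal.primeCompl M) (b j)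
    refine ⟨fun j => (m j).1, ?_⟩
    rw [eq_top_iff, ← b.span_eq, Submodule.span_le]
    rintro _ ⟨j, rfl⟩
    have hu : IsUnit (algebraMap A (Localization.AtPrime p.asIdeal) ((m j).2 : A)) :=
      IsLocalization.map_units _ _
    rw [SetLike.mem_coe, ← Submodule.smul_mem_iff_of_isUnit _ hu, algebraMap_smul]
    rw [← Submonoid.smul_def, hm j]
    exact Submodule.subset_span ⟨j, rfl⟩
  choose m hm using hbasis
  let s : Fin n → M := fun j => ∑ p ∈ P'.attach, e p.1 p.2 • m p.1 p.2 j
  let N := Submodule.span A (Set.range s)
  let U : Set (PrimeSpectrum A) := (Module.support A (M ⧸ N))ᶜ ∩ {q | Module.rankAtStalk (R := A) M q = n}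
  have hspan : ∀ q : PrimeSpectrum A, q ∉ Module.support A (M ⧸ N) ↔
      Submodule.span (Localization.AtPrime q.asIdeal)
        (Set.range fun j => LocalizedModule.mkLinearMap q.asIdeal.primeCompl M (s j)) = ⊤ := by
    intro q
    rw [Module.notMem_support_iff']
    set S := q.asIdeal.primeCompl
    set l := LocalizedModule.mkLinearMap S M
    have hloc : Submodule.span (Localization.AtPrime q.asIdeal) (Set.range fun j => l (s j)) =
        Submodule.localized' (Localization.AtPrime q.asIdeal) S l N := by
      rw [Submodule.localized'_span, ← Set.range_comp]; rfl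
    rw [hloc]
    constructor
    · intro h
      rw [eq_top_iff]
      rintro z -
      obtain ⟨⟨x, t⟩, rfl⟩ := IsLocalizedModule.mk'_surjective S l z
      obtain ⟨r, hr, hrx⟩ := h (Submodule.Quotient.mk x)
      rw [← Submodule.Quotient.mk_smul, Submodule.Quotient.mk_eq_zero] at hrx
      exact ⟨r • x, hrx, ⟨r, hr⟩ * t, IsLocalizedModule.mk'_cancel_left l x ⟨r, hr⟩ t⟩
    · intro h x
      obtain ⟨x, rfl⟩ := Submodule.mkQ_surjective N x
      obtain ⟨y, hy, t, ht⟩ : l x ∈ Submodule.localized' (Localization.AtPrime q.asIdeal) S l N := h ▸ trivial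
      rw [IsLocalizedModule.mk'_eq_iff, Submonoid.smul_def, ← map_smul] at ht
      obtain ⟨c, hc⟩ := (IsLocalizedModule.eq_iff_exists S l).mp ht
      refine ⟨(c : A) * (t : A), fun hmem => (q.isPrime.mem_or_mem hmem).elim c.2 t.2, ?_⟩
      rw [Submodule.mkQ_apply, ← Submodule.Quotient.mk_smul, Submodule.Quotient.mk_eq_zero, mul_smul]
      rw [Submonoid.smul_def, Submonoid.smul_def] at hc
      rw [← hc]
      exact N.smul_mem _ hy
  have hspanP : ∀ p ∈ P', p ∉ Module.support A (M ⧸ N) := by
    intro p hp
    rw [hspan]
    set L := Localization.AtPrime p.asIdeal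
    set l := LocalizedModule.mkLinearMap p.asIdeal.primeCompl M
    refine top_le_iff.mp (Submodule.le_of_le_smul_of_le_jacobson_bot Module.Finite.fg_top
      (IsLocalRing.maximalIdeal_le_jacobson _) ?_)
    rw [← hm p hp, Submodule.span_le]
    rintro _ ⟨j, rfl⟩
    have hu : IsUnit (algebraMap A L (e p hp)) := IsLocalization.map_units L (⟨_, he1 p hp⟩ : p.asIdeal.primeCompl)
    rw [SetLike.mem_coe, ← Submodule.smul_mem_iff_of_isUnit _ hu, algebraMap_smul, ← map_smul]
    have hdec : e p hp • m p hp j = s j - ∑ q ∈ P'.attach.erase ⟨p, hp⟩, e q.1 q.2 • m q.1 q.2 j := by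
      simp only [s]
      rw [← Finset.add_sum_erase _ _ (Finset.mem_attach P' ⟨p, hp⟩), add_sub_cancel_right]
    rw [hdec, map_sub]
    refine sub_mem (Submodule.mem_sup_left (Submodule.subset_span ⟨j, rfl⟩)) ?_
    simp only [map_sum]
    refine Submodule.sum_mem _ fun q hq => Submodule.mem_sup_right ?_
    rw [map_smul, ← algebraMap_smul L (e q.1 q.2)]
    refine Submodule.smul_mem_smul ?_ (by rw [hm p hp]; trivial)
    rw [IsLocalization.AtPrime.to_map_mem_maximal_iff L p.asIdeal]
    exact he2 q.1 q.2 p hp fun h => (Finset.mem_erase.mp hq).1 (Subtype.ext h.symm)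
  refine ⟨s, U, ?_, ?_, ?_⟩
  · refine IsOpen.inter ?_ ((Module.isLocallyConstant_rankAtStalk (R := A) (M := M)).isOpen_fiber n)
    rw [Module.support_eq_zeroLocus]
    exact (PrimeSpectrum.isClosed_zeroLocus _).isOpen_compl
  · intro p hp
    obtain ⟨q, hq, hpq⟩ := hP'max p hp
    exact ⟨fun h => hspanP q hq (Module.mem_support_mono hpq h), hrank p hp⟩
  · rintro q ⟨hq, hn⟩
    have h := (hspan q).mp hq
    refine ⟨?_, h⟩
    set L := Localization.AtPrime q.asIdeal
    set v : Fin n → LocalizedModule q.asIdeal.primeCompl M :=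
      fun j => LocalizedModule.mkLinearMap q.asIdeal.primeCompl M (s j)
    haveI : Module.Free L (LocalizedModule q.asIdeal.primeCompl M) := Module.free_of_flat_of_isLocalRing
    let b : Module.Basis (Fin n) L (LocalizedModule q.asIdeal.primeCompl M) :=
      Module.finBasisOfFinrankEq _ _ hn
    have hsurj : Function.Surjective (Fintype.linearCombination L v) := by
      rw [← LinearMap.range_eq_top, Fintype.range_linearCombination]
      exact h
    have hinj := OrzechProperty.injective_of_surjective_of_injective b.equivFun.symm.toLinearMap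
      (Fintype.linearCombination L v) b.equivFun.symm.injective hsurj
    rw [Fintype.linearIndependent_iff]
    intro c hc i
    exact congrFun (hinj (a₁ := c) (a₂ := 0) (by rw [map_zero, Fintype.linearCombination_apply, hc])) i

end Groth.Agent.S17902
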