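import Groth.Statements.S17903
import Groth.Agent.PinchLib.SchemePushout
import Groth.Agent.S17900

set_option autoImplicit false
universe u
set_option backward.isDefEq.respectTransparency false
open CategoryTheory AlgebraicGeometry
open Pinch

namespace Groth.Agent.S17903

/-- Let S be a scheme and Z → X, Z → Z', X → X', Z' → X' a commutative square of S-schemes in which Z →
X and Z' → X' are closed immersions and Z → Z' and X → X' are affine, and which is a pushout square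
in the category of ringed spaces. If X, Z and Z' are flat over S then X' is flat over S. -/
theorem result {S X Z Z' X' : Scheme.{u}}
    (fX : X ⟶ S) (fZ' : Z' ⟶ S) (fX' : X' ⟶ S) (ι : Z ⟶ X) (q : Z ⟶ Z') (π : X ⟶ X') (ι' : Z' ⟶ X')
    [IsClosedImmersion ι] [IsClosedImmersion ι'] [IsAffineHom q] [IsAffineHom π]
    (hq : q ≫ fZ' = ι ≫ fX) (hπ : π ≫ fX' = fX) (hι' : ι' ≫ fX' = fZ')
    (hpo : IsPushout ((Scheme.forgetToLocallyRingedSpace ⋙ LocallyRingedSpace.forgetToSheafedSpace).map ι) ((Scheme.forgetToLocallyRingedSpace ⋙ LocallyRingedSpace.forgetToSheafedSpace).map q)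
      ((Scheme.forgetToLocallyRingedSpace ⋙ LocallyRingedSpace.forgetToSheafedSpace).map π) ((Scheme.forgetToLocallyRingedSpace ⋙ LocallyRingedSpace.forgetToSheafedSpace).map ι'))
    [Flat fX] [Flat (ι ≫ fX)] [Flat fZ'] :
    Flat fX' := by
  rw [HasRingHomProperty.iff_appLE (P := @Flat)]
  intro U V e
  have w := Groth.Agent.PinchLib.w_of_ringed hpo
  have hA' : IsAffineOpen (π ⁻¹ᵁ V.1) := V.2.preimage π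
  have hB : IsAffineOpen (ι' ⁻¹ᵁ V.1) := V.2.preimage ι'
  have hA : IsAffineOpen (ι ⁻¹ᵁ π ⁻¹ᵁ V.1) := hA'.preimage ι
  have eA' : π ⁻¹ᵁ V.1 ≤ fX ⁻¹ᵁ U.1 := by
    subst hπ
    exact Scheme.Hom.preimage_mono π e
  have eB : ι' ⁻¹ᵁ V.1 ≤ fZ' ⁻¹ᵁ U.1 := by
    subst hι'
    exact Scheme.Hom.preimage_mono ι' e
  have eA : ι ⁻¹ᵁ π ⁻¹ᵁ V.1 ≤ (ι ≫ fX) ⁻¹ᵁ U.1 := Scheme.Hom.preimage_mono ι eA'
  letI := (fX'.appLE U.1 V.1 e).hom.toAlgebra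
  letI := (fX.appLE U.1 _ eA').hom.toAlgebra
  letI := (fZ'.appLE U.1 _ eB).hom.toAlgebra
  letI := ((ι ≫ fX).appLE U.1 _ eA).hom.toAlgebra
  obtain ⟨t1, t2, hsq⟩ := Groth.Agent.PinchLib.isFibreSquare hpo V.1 hA'
  letI := (ι'.appLE V.1 (ι' ⁻¹ᵁ V.1) le_rfl).hom.toAlgebra
  letI := (π.appLE V.1 (π ⁻¹ᵁ V.1) le_rfl).hom.toAlgebra
  letI := (q.appLE (ι' ⁻¹ᵁ V.1) (ι ⁻¹ᵁ π ⁻¹ᵁ V.1)
    (Groth.Agent.PinchLib.preimage_eq hpo V.1).le).hom.toAlgebra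
  letI := (ι.appLE (π ⁻¹ᵁ V.1) (ι ⁻¹ᵁ π ⁻¹ᵁ V.1) le_rfl).hom.toAlgebra
  letI := ((ι ≫ π).appLE V.1 (ι ⁻¹ᵁ π ⁻¹ᵁ V.1) le_rfl).hom.toAlgebra
  have s1 : IsScalarTower Γ(S, U.1) Γ(X', V.1) Γ(Z', ι' ⁻¹ᵁ V.1) :=
    IsScalarTower.of_algebraMap_eq' (congrArg CommRingCat.Hom.hom (by
      subst hι'
      exact (Scheme.Hom.appLE_comp_appLE ι' fX' U.1 V.1 _ e le_rfl).symm))
  have s2 : IsScalarTower Γ(S, U.1) Γ(X', V.1) Γ(X, π ⁻¹ᵁ V.1) :=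
    IsScalarTower.of_algebraMap_eq' (congrArg CommRingCat.Hom.hom (by
      subst hπ
      exact (Scheme.Hom.appLE_comp_appLE π fX' U.1 V.1 _ e le_rfl).symm))
  have s5 : IsScalarTower Γ(S, U.1) Γ(X, π ⁻¹ᵁ V.1) Γ(Z, ι ⁻¹ᵁ π ⁻¹ᵁ V.1) :=
    IsScalarTower.of_algebraMap_eq' (congrArg CommRingCat.Hom.hom
      (Scheme.Hom.appLE_comp_appLE ι fX U.1 _ _ eA' le_rfl).symm)
  have s3 : IsScalarTower Γ(S, U.1) Γ(X', V.1) Γ(Z, ι ⁻¹ᵁ π ⁻¹ᵁ V.1) :=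
    IsScalarTower.of_algebraMap_eq' (congrArg CommRingCat.Hom.hom (by
      subst hπ
      exact (Scheme.Hom.appLE_comp_appLE (ι ≫ π) fX' U.1 V.1 _ e le_rfl).symm))
  have s4 : IsScalarTower Γ(S, U.1) Γ(Z', ι' ⁻¹ᵁ V.1) Γ(Z, ι ⁻¹ᵁ π ⁻¹ᵁ V.1) :=
    IsScalarTower.of_algebraMap_eq' (congrArg CommRingCat.Hom.hom (by
      have key : ∀ (k k' : Z ⟶ S) (_ : k = k') (a : ι ⁻¹ᵁ π ⁻¹ᵁ V.1 ≤ k ⁻¹ᵁ U.1)
          (a' : ι ⁻¹ᵁ π ⁻¹ᵁ V.1 ≤ k' ⁻¹ᵁ U.1), k.appLE U.1 _ a = k'.appLE U.1 _ a' := by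
        rintro k k' rfl a a'
        rfl
      exact (key _ _ hq.symm eA (hq ▸ eA)).trans
        (Scheme.Hom.appLE_comp_appLE q fZ' U.1 (ι' ⁻¹ᵁ V.1) _ eB
          (Groth.Agent.PinchLib.preimage_eq hpo V.1).le).symm))
  haveI : Module.Flat Γ(S, U.1) Γ(Z', ι' ⁻¹ᵁ V.1) :=
    (HasRingHomProperty.iff_appLE (P := @Flat)).mp ‹Flat fZ'› U ⟨_, hB⟩ eB
  haveI : Module.Flat Γ(S, U.1) Γ(X, π ⁻¹ᵁ V.1) :=
    (HasRingHomProperty.iff_appLE (P := @Flat)).mp ‹Flat fX› U ⟨_, hA'⟩ eA'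
  haveI : Module.Flat Γ(S, U.1) Γ(Z, ι ⁻¹ᵁ π ⁻¹ᵁ V.1) :=
    (HasRingHomProperty.iff_appLE (P := @Flat)).mp ‹Flat (ι ≫ fX)› U ⟨_, hA⟩ eA
  exact Groth.Agent.S17900.result Γ(S, U.1) Γ(X', V.1) Γ(Z', ι' ⁻¹ᵁ V.1) Γ(X, π ⁻¹ᵁ V.1)
    Γ(Z, ι ⁻¹ᵁ π ⁻¹ᵁ V.1) hsq

end Groth.Agent.S17903
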