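import Groth.Statements.S17905
import Groth.Agent.PinchLib.BaseChange
import Groth.Agent.PinchLib.FlatSurjSections

set_option autoImplicit false
universe u
open CategoryTheory AlgebraicGeometry
open Pinch

namespace Groth.Agent.S17905

/-- Let S be a scheme and Z → X, Z → Z', X → X', Z' → X' a commutative square of S-schemes which is a
pushout square in the category of ringed spaces, with Z → X and Z' → X' closed immersions, X → X'
affine, Z → Z' finite, flat and surjective, and X, Z, Z' flat over S. Suppose that for every T → S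
the map O_T → (f_T)_* O_{X_T} induced by the base change f_T : X_T → T of X → S is an isomorphism.
Then for every T → S the map O_T → (f'_T)_* O_{X'_T} induced by the base change of X' → S is an
isomorphism. (The published lemma is stated for the pinching of a finite surjective Z → Z' whose
fibres lie in affine opens of X, with X → S admitting a section; this row assumes X → X' only affine
and drops the affine-fibre and section conditions, which the printed proof does not use.) -/
theorem result {S X Z Z' X' : Scheme.{u}}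
    (fX : X ⟶ S) (fZ' : Z' ⟶ S) (fX' : X' ⟶ S) (ι : Z ⟶ X) (q : Z ⟶ Z') (π : X ⟶ X') (ι' : Z' ⟶ X')
    [IsClosedImmersion ι] [IsClosedImmersion ι'] [IsFinite q] [Flat q] [Surjective q] [IsAffineHom π]
    (hq : q ≫ fZ' = ι ≫ fX) (hπ : π ≫ fX' = fX) (hι' : ι' ≫ fX' = fZ')
    (hpo : IsPushout ((Scheme.forgetToLocallyRingedSpace ⋙ LocallyRingedSpace.forgetToSheafedSpace).map ι) ((Scheme.forgetToLocallyRingedSpace ⋙ LocallyRingedSpace.forgetToSheafedSpace).map q)
      ((Scheme.forgetToLocallyRingedSpace ⋙ LocallyRingedSpace.forgetToSheafedSpace).map π) ((Scheme.forgetToLocallyRingedSpace ⋙ LocallyRingedSpace.forgetToSheafedSpace).map ι'))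
    [Flat fX] [Flat (ι ≫ fX)] [Flat fZ']
    (hX : ∀ (T : Scheme.{u}) (g : T ⟶ S) (U : T.Opens), IsIso ((Limits.pullback.snd fX g).app U))
    (T : Scheme.{u}) (g : T ⟶ S) (U : T.Opens) :
    IsIso ((Limits.pullback.snd fX' g).app U) := by
  let XT := Limits.pullback fX g
  let ZT := Limits.pullback (ι ≫ fX) g
  let Z'T := Limits.pullback fZ' g
  let X'T := Limits.pullback fX' g
  let ιT : ZT ⟶ XT := Limits.pullback.lift (Limits.pullback.fst _ _ ≫ ι) (Limits.pullback.snd _ _)
    (by rw [Category.assoc, Limits.pullback.condition])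
  let qT : ZT ⟶ Z'T := Limits.pullback.lift (Limits.pullback.fst _ _ ≫ q) (Limits.pullback.snd _ _)
    (by rw [Category.assoc, hq, Limits.pullback.condition])
  let πT : XT ⟶ X'T := Limits.pullback.lift (Limits.pullback.fst _ _ ≫ π) (Limits.pullback.snd _ _)
    (by rw [Category.assoc, hπ, Limits.pullback.condition])
  let ι'T : Z'T ⟶ X'T := Limits.pullback.lift (Limits.pullback.fst _ _ ≫ ι') (Limits.pullback.snd _ _)
    (by rw [Category.assoc, hι', Limits.pullback.condition])
  let pX : XT ⟶ T := Limits.pullback.snd fX g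
  let p : X'T ⟶ T := Limits.pullback.snd fX' g
  have hpoT := Groth.Agent.PinchLib.isPushout_baseChange (g := g) hq hπ hι' hpo
    (IsPullback.of_hasPullback fX g) (IsPullback.of_hasPullback (ι ≫ fX) g)
    (IsPullback.of_hasPullback fZ' g) (IsPullback.of_hasPullback fX' g)
    (ιT := ιT) (qT := qT) (πT := πT) (ι'T := ι'T)
    (Limits.pullback.lift_fst _ _ _) (Limits.pullback.lift_snd _ _ _)
    (Limits.pullback.lift_fst _ _ _) (Limits.pullback.lift_snd _ _ _)
    (Limits.pullback.lift_fst _ _ _) (Limits.pullback.lift_snd _ _ _)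
    (Limits.pullback.lift_fst _ _ _) (Limits.pullback.lift_snd _ _ _)
  have hsq : IsPullback qT (Limits.pullback.fst (ι ≫ fX) g) (Limits.pullback.fst fZ' g) q := by
    refine IsPullback.of_right ?_ (Limits.pullback.lift_fst _ _ _) (IsPullback.of_hasPullback fZ' g).flip
    rw [Limits.pullback.lift_snd, hq]
    exact (IsPullback.of_hasPullback (ι ≫ fX) g).flip
  haveI : Flat qT := MorphismProperty.of_isPullback hsq.flip ‹Flat q›
  haveI : Surjective qT := MorphismProperty.of_isPullback hsq.flip ‹Surjective q›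
  have hbij : Function.Bijective (pX.app U) := by
    haveI := hX T g U
    exact ConcreteCategory.bijective_of_isIso (pX.app U)
  have hcomp : p.appLE U (p ⁻¹ᵁ U) le_rfl ≫ πT.appLE (p ⁻¹ᵁ U) (pX ⁻¹ᵁ U)
      (by rw [← Scheme.Hom.comp_preimage]; exact le_of_eq (congrArg (· ⁻¹ᵁ U) (Limits.pullback.lift_snd _ _ _).symm)) =
      pX.appLE U (pX ⁻¹ᵁ U) le_rfl :=
    Groth.Agent.PinchLib.appLE_comp_eq (Limits.pullback.lift_snd _ _ _) _ _ _
  rw [ConcreteCategory.isIso_iff_bijective]
  refine ⟨fun a b hab => hbij.1 ?_, fun x => ?_⟩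
  · have e : ∀ z, pX.app U z = πT.appLE (p ⁻¹ᵁ U) (pX ⁻¹ᵁ U) _ (p.app U z) := fun z => by
      rw [← Scheme.Hom.appLE_eq_app pX, ← hcomp, Scheme.Hom.appLE_eq_app p]
      rfl
    rw [e, e]
    exact congrArg _ hab
  · obtain ⟨t, ht⟩ := hbij.2 (πT.appLE (p ⁻¹ᵁ U) (pX ⁻¹ᵁ U)
      (by rw [← Scheme.Hom.comp_preimage]; exact le_of_eq (congrArg (· ⁻¹ᵁ U) (Limits.pullback.lift_snd _ _ _).symm)) x)
    refine ⟨t, ?_⟩
    have hX' : πT.app (p ⁻¹ᵁ U) (p.app U t) = πT.app (p ⁻¹ᵁ U) x := by
      have h1 := congrArg (XT.presheaf.map (homOfLE (show πT ⁻¹ᵁ p ⁻¹ᵁ U ≤ pX ⁻¹ᵁ U by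
        rw [← Scheme.Hom.comp_preimage]; exact le_of_eq (congrArg (· ⁻¹ᵁ U) (Limits.pullback.lift_snd _ _ _)))).op) ht
      rw [← Scheme.Hom.appLE_eq_app pX, ← hcomp, ← ConcreteCategory.comp_apply, ← ConcreteCategory.comp_apply,
        Category.assoc, Scheme.Hom.appLE_map, Scheme.Hom.appLE_eq_app, Scheme.Hom.appLE_eq_app] at h1
      exact h1
    refine Groth.Agent.PinchLib.sections_injective hpoT _ _ _ hX' ?_
    refine Groth.Agent.PinchLib.app_injective_of_flat_surjective qT _ ?_
    have hw := Groth.Agent.PinchLib.w_of_ringed hpoT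
    have key : ∀ z, qT.app _ (ι'T.app (p ⁻¹ᵁ U) z) =
        ιT.appLE (πT ⁻¹ᵁ p ⁻¹ᵁ U) (qT ⁻¹ᵁ ι'T ⁻¹ᵁ p ⁻¹ᵁ U)
          (Groth.Agent.PinchLib.preimage_of_w hw (p ⁻¹ᵁ U)).ge (πT.app (p ⁻¹ᵁ U) z) := fun z => by
      rw [← Scheme.Hom.appLE_eq_app qT, ← Scheme.Hom.appLE_eq_app ι'T, ← Scheme.Hom.appLE_eq_app πT,
        ← ConcreteCategory.comp_apply, ← ConcreteCategory.comp_apply]
      exact ConcreteCategory.congr_hom (Groth.Agent.PinchLib.appLE_sq hw.symm _ _ _ _) z
    rw [key, key, hX']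

end Groth.Agent.S17905
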