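import Groth.Statements.S17906
import Groth.Agent.PicCl.Basic

set_option autoImplicit false
universe u
open CategoryTheory CategoryTheory.Limits AlgebraicGeometry
open PicRel

namespace Groth.Agent.S17906

open Groth.Agent.PicCl

variable {X S S' : Scheme.{u}} (f : X ⟶ S) (g : S' ⟶ S)

/-- An `S'`-scheme viewed over `S`. -/
private abbrev toS (T : Over S') : Over S := Over.mk (T.hom ≫ g)

/-- A morphism of `S'`-schemes viewed over `S`. -/
private abbrev toSHom {T' T : Over S'} (h : T' ⟶ T) : toS g T' ⟶ toS g T :=
  Over.homMk h.left (by simp)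

private theorem iso_inv_XTmap {T' T : Over S'} (h : T' ⟶ T) :
    (pullbackLeftPullbackSndIso f g T'.hom).inv ≫ PicF.XTmap (pullback.snd f g) h =
      PicF.XTmap f (toSHom g h) ≫ (pullbackLeftPullbackSndIso f g T.hom).inv := by
  rw [← cancel_mono (pullbackLeftPullbackSndIso f g T.hom).hom]
  simp only [Category.assoc, Iso.inv_hom_id, Category.comp_id]
  apply pullback.hom_ext
  · rw [Category.assoc, Category.assoc, pullbackLeftPullbackSndIso_hom_fst, XTmap_fst_assoc,
      pullbackLeftPullbackSndIso_inv_fst]
    exact (XTmap_fst f (toSHom g h)).symm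
  · rw [Category.assoc, Category.assoc, pullbackLeftPullbackSndIso_hom_snd, XTmap_snd]
    erw [XTmap_snd]
    rw [← Category.assoc, pullbackLeftPullbackSndIso_inv_snd_snd]
    rfl


/-- Let f : X → S be a morphism of schemes, g : S' → S a morphism and X' = X ×_S S'. If the relative
Picard functor of X over S, sheafified and described through a representing S-scheme P with maps φ_T
from classes of modules on X ×_S T to S-morphisms T → P, is represented by P, then the relative
Picard functor of X' over S' is represented by P ×_S S': a class c on (X ×_S S') ×_{S'} T is sent,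
after transport along the canonical isomorphism of this scheme with X ×_S T, to the S'-morphism T →
P ×_S S' whose components are φ(c) and the structure morphism of T. (The published statement is for
the fppf sheafification, asserts the isomorphism of functors Pic_{X/S} ×_S S' ≅ Pic_{X'/S'} in
general, and adds the compatibility of universal bundles and rigidifications; stated here is the
representability consequence for the étale sheafification, to which the same argument applies.) -/
theorem result {X S S' : Scheme.{u}} (f : X ⟶ S) (g : S' ⟶ S)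
    (P : Over S) (φ : ∀ T : Over S, PicF.Cl (PicF.XT f T) → (T ⟶ P)) (hP : PicRel.IsRelPic f P φ) :
    PicRel.IsRelPic (pullback.snd f g) (Over.mk (pullback.snd P.hom g))
      (fun T c => Over.homMk
        (pullback.lift (φ (Over.mk (T.hom ≫ g)) (PicF.pullCl (pullbackLeftPullbackSndIso f g T.hom).inv c)).left T.hom
          (Over.w (φ (Over.mk (T.hom ≫ g)) (PicF.pullCl (pullbackLeftPullbackSndIso f g T.hom).inv c))))
        (pullback.lift_snd _ _ _)) := by
  constructor
  · intro T T' h c hc
    have h1 : PicF.pullCl (pullbackLeftPullbackSndIso f g T'.hom).inv (PicF.pullCl (PicF.XTmap (pullback.snd f g) h) c) =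
        PicF.pullCl (PicF.XTmap f (toSHom g h)) (PicF.pullCl (pullbackLeftPullbackSndIso f g T.hom).inv c) := by
      rw [← pullCl_comp, ← pullCl_comp, iso_inv_XTmap]
    have h2 := hP.natural _ _ (toSHom g h) (PicF.pullCl (pullbackLeftPullbackSndIso f g T.hom).inv c)
      (isInvertibleCl_pullCl _ hc)
    rw [← h1] at h2
    apply Over.OverMorphism.ext
    apply pullback.hom_ext
    · erw [Category.assoc, pullback.lift_fst, pullback.lift_fst]
      exact congrArg CommaMorphism.left h2
    · erw [Category.assoc, pullback.lift_snd, pullback.lift_snd]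
      exact (Over.w h).symm
  · intro T m
    let m' : toS g T ⟶ P := Over.homMk (m.left ≫ pullback.fst _ _) (by
      simp only [Category.assoc, pullback.condition]
      rw [← Category.assoc]
      exact congrArg (· ≫ g) (Over.w m))
    obtain ⟨ι, U, hU, hc⟩ := hP.locallySurjective (toS g T) m'
    refine ⟨ι, U, hU, fun i => ?_⟩
    obtain ⟨c, hinv, hφ⟩ := hc i
    let j : toS g (PicRel.ovr T (U i)) ⟶ PicRel.ovr (toS g T) (U i) := Over.homMk (𝟙 _) (by simp)
    refine ⟨PicF.pullCl (pullbackLeftPullbackSndIso f g (PicRel.ovr T (U i)).hom).hom (PicF.pullCl (PicF.XTmap f j) c),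
      isInvertibleCl_pullCl _ (isInvertibleCl_pullCl _ hinv), ?_⟩
    have h1 : φ (toS g (PicRel.ovr T (U i))) (PicF.pullCl (PicF.XTmap f j) c) = j ≫ PicRel.ovrHom _ (U i) ≫ m' := by
      rw [hP.natural _ _ j c hinv, hφ]
    have h2 : PicF.pullCl (pullbackLeftPullbackSndIso f g (PicRel.ovr T (U i)).hom).inv
        (PicF.pullCl (pullbackLeftPullbackSndIso f g (PicRel.ovr T (U i)).hom).hom (PicF.pullCl (PicF.XTmap f j) c)) =
        PicF.pullCl (PicF.XTmap f j) c := by
      rw [← pullCl_comp, Iso.inv_hom_id, pullCl_id]
    apply Over.OverMorphism.ext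
    apply pullback.hom_ext
    · simp only [Over.homMk_left, pullback.lift_fst, h2]
      rw [h1]
      simp [j, m']
    · simp only [Over.homMk_left, pullback.lift_snd]
      have := Over.w (PicRel.ovrHom T (U i) ≫ m)
      simpa using this.symm
  · intro T c c' hc hc' h
    have h1 : φ (toS g T) (PicF.pullCl (pullbackLeftPullbackSndIso f g T.hom).inv c) =
        φ (toS g T) (PicF.pullCl (pullbackLeftPullbackSndIso f g T.hom).inv c') := by
      apply Over.OverMorphism.ext
      exact (pullback.lift_fst _ _ _).symm.trans
        ((congrArg (fun m => m.left ≫ pullback.fst P.hom g) h).trans (pullback.lift_fst _ _ _))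
    obtain ⟨ι, U, hU, hU'⟩ := hP.locallyInjective (toS g T) _ _ (isInvertibleCl_pullCl _ hc)
      (isInvertibleCl_pullCl _ hc') h1
    refine ⟨ι, U, hU, fun i => ?_⟩
    let j : toS g (PicRel.ovr T (U i)) ⟶ PicRel.ovr (toS g T) (U i) := Over.homMk (𝟙 _) (by simp)
    have hj : toSHom g (PicRel.ovrHom T (U i)) = j ≫ PicRel.ovrHom (toS g T) (U i) := by
      apply Over.OverMorphism.ext
      simp [j]
    have key : PicF.XTmap (pullback.snd f g) (PicRel.ovrHom T (U i)) =
        (pullbackLeftPullbackSndIso f g (PicRel.ovr T (U i)).hom).hom ≫ PicF.XTmap f j ≫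
          PicF.XTmap f (PicRel.ovrHom (toS g T) (U i)) ≫ (pullbackLeftPullbackSndIso f g T.hom).inv := by
      rw [← XTmap_comp_assoc, ← hj, ← iso_inv_XTmap, Iso.hom_inv_id_assoc]
    rw [key]
    simp only [pullCl_comp, hU' i]

end Groth.Agent.S17906
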