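import Groth.Statements.S17907
import Groth.Agent.PinchLib.Glue
import Groth.Agent.PerfTri.Betti
-- import your own Groth.Agent.* helpers here

set_option autoImplicit false
universe u
open CategoryTheory AlgebraicGeometry
open Pinch

namespace Groth.Agent.S17907

section Charts

open PinchLib PinchLib.Glue CategoryTheory CategoryTheory.Limits AlgebraicGeometry TopologicalSpace

variable {X Z Z' X' : Scheme.{u}} {ι : Z ⟶ X} {q : Z ⟶ Z'} {π : X ⟶ X'} {ι' : Z' ⟶ X'}

/-- A point of `X` lying over `Z'` comes from `Z`. -/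
theorem mem_range_of_eq (hpo : IsPushout (toSh.map ι) (toSh.map q) (toSh.map π) (toSh.map ι'))
    {x : X} {z' : Z'} (h : π x = ι' z') : x ∈ Set.range ι := by
  have htop : IsPushout ι.base q.base π.base ι'.base :=
    hpo.map (SheafedSpace.forget CommRingCat.{u})
  let W : TopCat.{u} := TopCat.trivial.obj (ULift.{u} Prop)
  let a : X.carrier ⟶ W := TopCat.ofHom (Y := W)
    ⟨(fun p => ULift.up (p ∈ Set.range ι) : X.carrier → ULift.{u} Prop), continuous_top⟩
  let b : Z'.carrier ⟶ W := TopCat.ofHom (Y := W)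
    ⟨(fun _ => ULift.up True : Z'.carrier → ULift.{u} Prop), continuous_top⟩
  have hab : ι.base ≫ a = q.base ≫ b := by
    refine TopCat.hom_ext (ContinuousMap.ext fun z => ?_)
    show ULift.up (ι z ∈ Set.range ι) = ULift.up True
    rw [eq_true (show ι z ∈ Set.range ι from ⟨z, rfl⟩)]
  have h1 : htop.desc a b hab (π x) = a x := congr($(htop.inl_desc a b hab) x)
  have h2 : htop.desc a b hab (ι' z') = b z' := congr($(htop.inr_desc a b hab) z')
  have h3 : ULift.up (x ∈ Set.range ι) = ULift.up True := h1.symm.trans ((congrArg _ h).trans h2)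
  exact (ULift.up.inj h3).mpr trivial

/-- A closed map has saturated neighbourhoods. -/
theorem exists_open_preimage_le [IsFinite π] (x' : X') (G : X.Opens) (h : ∀ x, π x = x' → x ∈ G) :
    ∃ V : X'.Opens, x' ∈ V ∧ π ⁻¹ᵁ V ≤ G := by
  refine ⟨⟨(π '' (G : Set X)ᶜ)ᶜ, (π.isClosedMap _ G.2.isClosed_compl).isOpen_compl⟩, ?_, fun x hx => ?_⟩
  · rintro ⟨x, hx, e⟩
    exact hx (h x e)
  · by_contra hG
    exact hx ⟨x, hG, rfl⟩

variable (hw : ι ≫ π = q ≫ ι') {LX : X.Modules} {LZ' : Z'.Modules}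
  (σ : (Scheme.Modules.pullback ι).obj LX ⟶ (Scheme.Modules.pullback q).obj LZ') {n : ℕ}

/-- A chart away from `Z'`. -/
theorem chart_away [IsFinite π] (hLX : FlatMod.IsFinLocFreeOfRank n LX) (U : X'.Opens)
    (hU : (U : Set X') = (Set.range ι')ᶜ) (hiso : IsIso (π ∣_ U)) {x' : X'} (hx : x' ∈ U) :
    ∃ V : X'.Opens, x' ∈ V ∧ Nonempty (Chart hw σ n V) := by
  haveI := hiso
  obtain ⟨y, hy⟩ := (π ∣_ U).homeomorph.surjective ⟨x', hx⟩
  have hy' : π y.1 = x' := (morphismRestrict_base_coe π U y).symm.trans (congrArg Subtype.val hy)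
  obtain ⟨G, e, hG, he⟩ := FinCov71.exists_isFrame_rank hLX y.1
  obtain ⟨V₀, hx₀, hV₀⟩ := exists_open_preimage_le (π := π) x' G fun x e => by
    have hxU : x ∈ π ⁻¹ᵁ U := show π x ∈ U from e ▸ hx
    have : (⟨x, hxU⟩ : (π ⁻¹ᵁ U : X.Opens)) = y :=
      (π ∣_ U).homeomorph.injective (Subtype.ext ((morphismRestrict_base_coe π U _).trans
        ((e.trans hy'.symm).trans (morphismRestrict_base_coe π U y).symm)))
    exact (congrArg (fun t : (π ⁻¹ᵁ U : X.Opens) => (t : X) ∈ G) this).mpr hG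
  let V := V₀ ⊓ U
  have hne : ∀ z', z' ∉ ι' ⁻¹ᵁ V := fun z' hz => by
    have : ι' z' ∈ (U : Set X') := hz.2
    rw [hU] at this
    exact this ⟨z', rfl⟩
  refine ⟨V, ⟨hx₀, hx⟩, ⟨⟨fun i => QCoh.res LX ((π.preimage_mono inf_le_left).trans hV₀) (e i), fun _ => 0,
    EulerSeq.isFrame_res he _, LFFrame.isFrame_of_stalkComb_bijective fun z' hz => absurd hz (hne z'),
    fun i => ?_⟩⟩⟩
  refine QCoh.eq_of_locally_eq _ (U := fun i : PEmpty.{1} => i.elim) (fun i => i.elim) (fun z hz => ?_) _ _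
    fun i => i.elim
  exact absurd (preimage_le hw V hz) (hne (q z))

/-- A chart at a point of `Z'`. -/
theorem chart_at [IsClosedImmersion ι] [IsClosedImmersion ι'] [IsFinite π]
    (hpo : IsPushout (toSh.map ι) (toSh.map q) (toSh.map π) (toSh.map ι'))
    [IsIso σ] (hLX : FlatMod.IsFinLocFreeOfRank n LX) (hLZ' : FlatMod.IsFinLocFreeOfRank n LZ')
    (z' : Z') : ∃ V : X'.Opens, ι' z' ∈ V ∧ Nonempty (Chart hw σ n V) := by
  classical
  haveI := PerfTri.Betti.isQuasicoherent_of_isFinLocFree (FinCov71.isFinLocFree_of_rank hLX)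
  obtain ⟨W', v₀, hzW', hv₀⟩ := FinCov71.exists_isFrame_rank hLZ' z'
  obtain ⟨O, hO, hOW⟩ := ι'.isClosedEmbedding.isInducing.isOpen_iff.mp W'.2
  obtain ⟨V, hV, hxV, hVO⟩ := exists_isAffineOpen_mem_and_subset (X := X') (x := ι' z') (U := ⟨O, hO⟩)
    ((Set.ext_iff.mp hOW z').mpr hzW')
  have hVW' : ι' ⁻¹ᵁ V ≤ W' := fun z hz => (Set.ext_iff.mp hOW z).mp (hVO hz)
  have hA : IsAffineOpen (π ⁻¹ᵁ V) := hV.preimage π
  have hC : IsAffineOpen (ι ⁻¹ᵁ π ⁻¹ᵁ V) := hA.preimage ι
  let v : Fin n → Γ(LZ', ι' ⁻¹ᵁ V) := fun i => QCoh.res LZ' hVW' (v₀ i)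
  have hv : LFFrame.IsFrame LZ' (ι' ⁻¹ᵁ V) v := EulerSeq.isFrame_res hv₀ hVW'
  have hw' : LFFrame.IsFrame _ (ι ⁻¹ᵁ π ⁻¹ᵁ V) fun i => LimTop.unitSec q LZ' (preimage_le hw V) (v i) :=
    EulerSeq.isFrame_res (hv.pullback q) (preimage_le hw V)
  -- lift to sections on `X`
  have hsurj : Function.Surjective (LimTop.unitSec ι LX (le_refl (ι ⁻¹ᵁ π ⁻¹ᵁ V))) := by
    intro t
    letI := (ι.appLE (π ⁻¹ᵁ V) (ι ⁻¹ᵁ π ⁻¹ᵁ V) le_rfl).hom.toAlgebra
    letI := LimTop.secModule ι LX (le_refl (ι ⁻¹ᵁ π ⁻¹ᵁ V))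
    haveI : IsScalarTower Γ(X, π ⁻¹ᵁ V) Γ(Z, ι ⁻¹ᵁ π ⁻¹ᵁ V)
        Γ((Scheme.Modules.pullback ι).obj LX, ι ⁻¹ᵁ π ⁻¹ᵁ V) :=
      IsScalarTower.of_algebraMap_smul fun _ _ => rfl
    have hbc := LimTop.isBaseChange_unitSec ι LX (le_refl (ι ⁻¹ᵁ π ⁻¹ᵁ V)) hA hC
    refine hbc.inductionOn t _ ?_ ?_ ?_ ?_
    · exact ⟨0, map_zero _⟩
    · exact fun m => ⟨m, rfl⟩
    · rintro r _ ⟨m, rfl⟩
      obtain ⟨a, rfl⟩ := ι.app_surjective (π ⁻¹ᵁ V) hA r
      refine ⟨a • m, (LimTop.unitSec_smul ι LX le_rfl a m).trans ?_⟩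
      rw [Scheme.Hom.appLE_eq_app]
    · rintro _ _ ⟨a, rfl⟩ ⟨b, rfl⟩
      exact ⟨a + b, map_add _ _ _⟩
  choose u hu using fun i => hsurj ((inv σ).app (ι ⁻¹ᵁ π ⁻¹ᵁ V) (LimTop.unitSec q LZ' (preimage_le hw V) (v i)))
  have hcompat : ∀ i, σ.app (ι ⁻¹ᵁ π ⁻¹ᵁ V) (LimTop.unitSec ι LX le_rfl (u i)) =
      LimTop.unitSec q LZ' (preimage_le hw V) (v i) := fun i => by
    rw [hu, ← ConcreteCategory.comp_apply, ← Scheme.Modules.Hom.comp_app, IsIso.inv_hom_id]
    rfl
  -- the lifts form a frame near the fibre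
  have hnear : ∀ x, π x = ι' z' → ∃ D : X.Opens, x ∈ D ∧ ∃ h : D ≤ π ⁻¹ᵁ V,
      LFFrame.IsFrame LX D fun i => QCoh.res LX h (u i) := by
    intro x hx
    obtain ⟨z, rfl⟩ := mem_range_of_eq hpo hx
    have hz : z ∈ ι ⁻¹ᵁ π ⁻¹ᵁ V := show π (ι z) ∈ V from hx ▸ hxV
    obtain ⟨G, f, hG, hf⟩ := FinCov71.exists_isFrame_rank hLX (ι z)
    let G' : X.Opens := G ⊓ π ⁻¹ᵁ V
    have hzG : z ∈ ι ⁻¹ᵁ G' := ⟨hG, hz⟩
    have hf' := EulerSeq.isFrame_res hf (inf_le_left : G' ≤ G)
    choose A hA using fun j => (hf' G' le_rfl).2 (QCoh.res LX inf_le_right (u j))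
    have hrow : ∀ j, QCoh.res LX (inf_le_right : G' ≤ π ⁻¹ᵁ V) (u j) =
        ∑ k, A j k • LX.presheaf.map (homOfLE (inf_le_left : G' ≤ G)).op (f k) := fun j => by
      rw [← hA j]
      exact Finset.sum_congr rfl fun k _ => congrArg (A j k • ·) (QCoh.res_self LX _ _)
    -- the matrix is invertible on `Z`
    have hdet : IsUnit (ι.appLE G' (ι ⁻¹ᵁ G') le_rfl (Matrix.det A)) := by
      let B : Matrix (Fin n) (Fin n) Γ(Z, ι ⁻¹ᵁ G') :=
        (Matrix.of A).map (ι.appLE G' (ι ⁻¹ᵁ G') le_rfl)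
      let g : Fin n → Γ((Scheme.Modules.pullback q).obj LZ', ι ⁻¹ᵁ G') := fun k =>
        σ.app (ι ⁻¹ᵁ G') (LimTop.unitSec ι LX le_rfl (LX.presheaf.map (homOfLE (inf_le_left : G' ≤ G)).op (f k)))
      have hg : LFFrame.IsFrame _ (ι ⁻¹ᵁ G') g := by
        have := Desc44.ProjBundle.isFrame_iso (hf'.pullback ι) (asIso σ)
        have e : g = fun k => σ.app (ι ⁻¹ᵁ G') (LFFrame.unitSec ι LX G'
            (LX.presheaf.map (homOfLE (inf_le_left : G' ≤ G)).op (f k))) :=
          funext fun k => congrArg (σ.app (ι ⁻¹ᵁ G')) (QCoh.res_self _ _ _)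
        rw [e]
        exact this
      have hw'' := EulerSeq.isFrame_res hw' (ι.preimage_mono (inf_le_right : G' ≤ π ⁻¹ᵁ V))
      have hBg : ∀ j, QCoh.res _ (ι.preimage_mono (inf_le_right : G' ≤ π ⁻¹ᵁ V))
          (LimTop.unitSec q LZ' (preimage_le hw V) (v j)) = ∑ k, B j k • g k := fun j => by
        rw [← hcompat j, ← QCoh.app_res, LimTop.res_unitSec,
          ← LimTop.unitSec_res ι LX (inf_le_right : G' ≤ π ⁻¹ᵁ V) le_rfl, hrow, map_sum, map_sum]
        exact Finset.sum_congr rfl fun k _ => by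
          rw [LimTop.unitSec_smul, Scheme.Modules.Hom.app_smul]
          rfl
      choose C hC using fun k => (hw'' (ι ⁻¹ᵁ G') le_rfl).2 (g k)
      have hCB : (Matrix.of C) * B = 1 := by
        funext k
        refine (hg (ι ⁻¹ᵁ G') le_rfl).1 ?_
        have e : ∀ a : Fin n → Γ(Z, ι ⁻¹ᵁ G'), LFFrame.comb _ g (le_refl (ι ⁻¹ᵁ G')) a = ∑ l, a l • g l :=
          fun a => Finset.sum_congr rfl fun l _ => congrArg (a l • ·) (QCoh.res_self _ _ _)
        have e' : g k = ∑ j, C k j • QCoh.res _ (ι.preimage_mono (inf_le_right : G' ≤ π ⁻¹ᵁ V))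
            (LimTop.unitSec q LZ' (preimage_le hw V) (v j)) :=
          (hC k).symm.trans (Finset.sum_congr rfl fun j _ => congrArg (C k j • ·) (QCoh.res_self _ _ _))
        refine (e _).trans (Eq.trans ?_ (e _).symm)
        refine Eq.trans (b := g k) ?_ ?_
        · refine Eq.trans ?_ e'.symm
          simp only [hBg, Matrix.mul_apply, Matrix.of_apply, Finset.sum_smul, Finset.smul_sum, smul_smul]
          exact Finset.sum_comm
        · simp [Matrix.one_apply, ite_smul]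
      have hB : B.det = ι.appLE G' (ι ⁻¹ᵁ G') le_rfl (Matrix.det A) :=
        (RingHom.map_det (ι.appLE G' (ι ⁻¹ᵁ G') le_rfl).hom (Matrix.of A)).symm
      rw [← hB]
      exact IsUnit.of_mul_eq_one_right _ (by rw [← Matrix.det_mul, hCB, Matrix.det_one])
    have hzD : ι z ∈ X.basicOpen (Matrix.det A) := by
      have : z ∈ Z.basicOpen (ι.app G' (Matrix.det A)) := by
        rw [Scheme.Hom.appLE_eq_app] at hdet
        rw [Scheme.basicOpen_of_isUnit _ hdet]
        exact hzG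
      rwa [← Scheme.preimage_basicOpen] at this
    refine ⟨X.basicOpen (Matrix.det A), hzD, (X.basicOpen_le _).trans inf_le_right, ?_⟩
    have := EulerSeq.isFrame_change hf' A (fun j => QCoh.res LX inf_le_right (u j)) hrow
    simpa only [LFFrame.res_res] using this
  choose D hD hDle hDfr using hnear
  let G : X.Opens := ⨆ (x : X) (h : π x = ι' z'), D x h
  obtain ⟨V₁, hx₁, hV₁⟩ := exists_open_preimage_le (π := π) (ι' z') G fun x h =>
    Opens.mem_iSup.2 ⟨x, Opens.mem_iSup.2 ⟨h, hD x h⟩⟩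
  have hGle : G ≤ π ⁻¹ᵁ V := iSup_le fun x => iSup_le fun h => hDle x h
  have hGfr : LFFrame.IsFrame LX G fun i => QCoh.res LX hGle (u i) := by
    refine LFFrame.isFrame_of_stalkComb_bijective fun p hp => ?_
    obtain ⟨x, hp'⟩ := Opens.mem_iSup.1 hp
    obtain ⟨h, hp''⟩ := Opens.mem_iSup.1 hp'
    have := (hDfr x h).stalkComb_bijective p hp''
    convert this using 2
    refine congrArg (Fintype.linearCombination _) (funext fun i => ?_)
    exact (LX.presheaf.germ_res_apply (homOfLE hGle) p hp (u i)).trans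
      (LX.presheaf.germ_res_apply (homOfLE (hDle x h)) p hp'' (u i)).symm
  let V₂ : X'.Opens := V₁ ⊓ V
  have h2 : π ⁻¹ᵁ V₂ ≤ π ⁻¹ᵁ V := π.preimage_mono inf_le_right
  have h3 : ι' ⁻¹ᵁ V₂ ≤ ι' ⁻¹ᵁ V := ι'.preimage_mono inf_le_right
  refine ⟨V₂, ⟨hx₁, hxV⟩, ⟨⟨fun i => QCoh.res LX h2 (u i), fun i => QCoh.res LZ' h3 (v i), ?_,
    EulerSeq.isFrame_res hv h3, fun i => ?_⟩⟩⟩
  · have := EulerSeq.isFrame_res hGfr ((π.preimage_mono (inf_le_left : V₂ ≤ V₁)).trans hV₁)
    simpa only [LFFrame.res_res] using this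
  · rw [LimTop.unitSec_res, LimTop.unitSec_res,
      ← LimTop.res_unitSec ι LX (le_refl (ι ⁻¹ᵁ π ⁻¹ᵁ V)) (ι.preimage_mono h2), QCoh.app_res, hcompat,
      LimTop.res_unitSec]

end Charts


/-- Let Z → X be a closed immersion and Z → Z' a finite surjective morphism such that every fibre of Z →
Z' lies in an affine open of X; let X → X', Z' → X' complete a commutative square of schemes which
is a pushout square in the category of ringed spaces, with Z' → X' a closed immersion, X → X' finite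
and an isomorphism over the open complement of the image of Z'. Given locally free modules L_X on X
and L_{Z'} on Z' of the same rank n and an isomorphism σ from the pullback of L_X to Z onto the
pullback of L_{Z'} to Z, there are a locally free module M of rank n on X', an isomorphism e_X from
the pullback of M to X onto L_X and an isomorphism e_{Z'} from the pullback of M to Z' onto L_{Z'},
compatible with σ: the canonical isomorphism between the two iterated pullbacks of M to Z (through X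
and through Z') followed by the pullback of e_{Z'} to Z equals the pullback of e_X to Z followed by
σ. (The published result is an equivalence of categories between locally free modules of rank n on
X' and such triples (L_X, L_{Z'}, σ); stated here is the essential surjectivity of the functor
towards triples, not its full faithfulness. Finiteness of X → X' and the isomorphism away from Z'
are part of the pinching construction and are taken as hypotheses.) -/
theorem result {X Z Z' X' : Scheme.{u}}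
    (ι : Z ⟶ X) (q : Z ⟶ Z') (π : X ⟶ X') (ι' : Z' ⟶ X')
    [IsClosedImmersion ι] [IsClosedImmersion ι'] [IsFinite q] [Surjective q] [IsFinite π]
    (hw : ι ≫ π = q ≫ ι')
    (hpo : IsPushout ((Scheme.forgetToLocallyRingedSpace ⋙ LocallyRingedSpace.forgetToSheafedSpace).map ι) ((Scheme.forgetToLocallyRingedSpace ⋙ LocallyRingedSpace.forgetToSheafedSpace).map q)
      ((Scheme.forgetToLocallyRingedSpace ⋙ LocallyRingedSpace.forgetToSheafedSpace).map π) ((Scheme.forgetToLocallyRingedSpace ⋙ LocallyRingedSpace.forgetToSheafedSpace).map ι'))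
    (hAF : ∀ z' : Z', ∃ U : X.Opens, IsAffineOpen U ∧ ∀ z : Z, q.base z = z' → ι.base z ∈ U)
    (U : X'.Opens) (hU : (U : Set X') = (Set.range ι'.base)ᶜ) (hiso : IsIso (π ∣_ U))
    (n : ℕ) (LX : X.Modules) (LZ' : Z'.Modules)
    (hLX : FlatMod.IsFinLocFreeOfRank n LX) (hLZ' : FlatMod.IsFinLocFreeOfRank n LZ')
    (σ : (Scheme.Modules.pullback ι).obj LX ≅ (Scheme.Modules.pullback q).obj LZ') :
    ∃ (M : X'.Modules) (eX : (Scheme.Modules.pullback π).obj M ≅ LX)
      (eZ' : (Scheme.Modules.pullback ι').obj M ≅ LZ'),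
      FlatMod.IsFinLocFreeOfRank n M ∧
      (Scheme.Modules.pullbackComp ι π).app M ≪≫ (Scheme.Modules.pullbackCongr hw).app M ≪≫
          ((Scheme.Modules.pullbackComp q ι').app M).symm ≪≫ (Scheme.Modules.pullback q).mapIso eZ' =
        (Scheme.Modules.pullback ι).mapIso eX ≪≫ σ := by
  have hc : ∀ x' : X', ∃ V : X'.Opens, x' ∈ V ∧ Nonempty (PinchLib.Glue.Chart hw σ.hom n V) := fun x' => by
    by_cases hx : x' ∈ U
    · exact chart_away hw σ.hom hLX U hU hiso hx
    · obtain ⟨z', rfl⟩ : x' ∈ Set.range ι' := by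
        by_contra h
        exact hx (show x' ∈ (U : Set X') from hU ▸ h)
      exact chart_at hw σ.hom hpo hLX hLZ' z'
  haveI := PinchLib.Glue.isIso_toX hpo hc
  haveI := PinchLib.Glue.isIso_toZ' hpo hc
  refine ⟨PinchLib.Glue.glued π hw σ.hom, asIso (PinchLib.Glue.toX hw σ.hom),
    asIso (PinchLib.Glue.toZ' hw σ.hom), PinchLib.Glue.isFinLocFreeOfRank hpo hc, Iso.ext ?_⟩
  exact PinchLib.Glue.comparison_comm hw σ.hom

end Groth.Agent.S17907
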