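import Groth.Statements.S17910
import Groth.Agent.PLaw.Symm
import Mathlib.LinearAlgebra.PiTensorProduct.Basis

set_option autoImplicit false
universe u
open scoped TensorProduct
open SymTen

namespace Groth.Agent.S17910

variable {R : Type u} [CommRing R]

lemma mem_altSpan_of_swap_basis {F : Type u} [AddCommGroup F] [Module R F] {κ : Type u} (e : Module.Basis κ R F)
    {d : ℕ} {i j : Fin d} (hij : i ≠ j) {z : ⨂[R] _ : Fin d, F}
    (hz : PiTensorProduct.reindex R (fun _ : Fin d => F) (Equiv.swap i j) z = z) :
    z ∈ SymTen.altSpan R F d := by
  classical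
  let W := Basis.piTensorProduct (fun _ : Fin d => e)
  let q : (Fin d → κ) → (⨂[R] _ : Fin d, F) ⧸ SymTen.altSpan R F d := fun w =>
    W.repr z w • (SymTen.altSpan R F d).mkQ (PiTensorProduct.tprod R fun k => e (w k))
  have hW : ∀ w, W w = PiTensorProduct.tprod R fun k => e (w k) := fun w =>
    Basis.piTensorProduct_apply _ _
  have hre : ∀ w : Fin d → κ, W.repr z (w ∘ Equiv.swap i j) = W.repr z w := by
    intro w
    conv_rhs => rw [← hz]
    have : (Finsupp.lapply (w ∘ Equiv.swap i j)).comp W.repr.toLinearMap =
        ((Finsupp.lapply w).comp W.repr.toLinearMap).comp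
          (PiTensorProduct.reindex R (fun _ : Fin d => F) (Equiv.swap i j)).toLinearMap := by
      refine W.ext fun v => ?_
      simp only [LinearMap.comp_apply, LinearEquiv.coe_coe, Finsupp.lapply_apply, Module.Basis.repr_self]
      rw [hW v, PiTensorProduct.reindex_tprod]
      change _ = W.repr (PiTensorProduct.tprod R fun k => e ((v ∘ (Equiv.swap i j).symm) k)) w
      rw [← hW, Module.Basis.repr_self, Equiv.symm_swap, Finsupp.single_apply, Finsupp.single_apply]
      refine if_congr ⟨fun h => ?_, fun h => ?_⟩ rfl rfl <;> funext k
      · simp [h]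
      · simp [← h]
    exact LinearMap.congr_fun this z
  rw [← (SymTen.altSpan R F d).ker_mkQ, LinearMap.mem_ker]
  conv_lhs => rw [← W.linearCombination_repr z, Finsupp.linearCombination_apply, Finsupp.sum, map_sum]
  simp only [map_smul, hW]
  refine Finset.sum_involution (fun w _ => w ∘ Equiv.swap i j) ?_ ?_ ?_ ?_
  · intro w _
    rw [hre, ← smul_add, ← map_add]
    refine smul_eq_zero_of_right _ ((Submodule.Quotient.mk_eq_zero _).mpr ?_)
    set v : Fin d → F := fun k => e (w k)
    have hv : (fun k => e ((w ∘ Equiv.swap i j) k)) = Function.update (Function.update v i (v j)) j (v i) := by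
      funext k
      rcases eq_or_ne k j with rfl | hkj
      · simp [v]
      rcases eq_or_ne k i with rfl | hki
      · simp [v, hkj]
      · simp [v, hkj, hki, Equiv.swap_apply_of_ne_of_ne hki hkj]
    rw [hv]
    have key : ∀ x : F, PiTensorProduct.tprod R (Function.update (Function.update v i x) j x) ∈
        SymTen.altSpan R F d :=
      fun x => Submodule.subset_span ⟨_, i, j, hij, by simp [hij], rfl⟩
    have := sub_mem (sub_mem (key (v i + v j)) (key (v i))) (key (v j))
    convert this using 1
    have h0 : Function.update (Function.update v i (v i)) j (v j) = v := by simp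
    simp only [MultilinearMap.map_update_add, Function.update_comm hij]
    simp only [MultilinearMap.map_update_add, Function.update_comm hij.symm]
    rw [h0]
    abel
  · intro w _ hne he
    refine hne (smul_eq_zero_of_right _ ((Submodule.Quotient.mk_eq_zero _).mpr
      (Submodule.subset_span ⟨_, i, j, hij, ?_, rfl⟩)))
    have := congrFun he i
    simp only [Function.comp_apply, Equiv.swap_apply_left] at this
    simp [this]
  · intro w hw
    simpa [Finsupp.mem_support_iff, hre] using hw
  · intro w _
    funext k
    simp

lemma mem_altSpan_of_swap {P : Type u} [AddCommGroup P] [Module R P] [Module.Projective R P] {d : ℕ}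
    {i j : Fin d} (hij : i ≠ j) {z : ⨂[R] _ : Fin d, P}
    (hz : PiTensorProduct.reindex R (fun _ : Fin d => P) (Equiv.swap i j) z = z) :
    z ∈ SymTen.altSpan R P d := by
  classical
  obtain ⟨s, hs⟩ := Module.projective_def'.mp ‹Module.Projective R P›
  let r := Finsupp.linearCombination R (id : P → P)
  let T : (⨂[R] _ : Fin d, P) →ₗ[R] ⨂[R] _ : Fin d, (P →₀ R) := PiTensorProduct.map fun _ => s
  have hT : T z ∈ SymTen.altSpan R (P →₀ R) d := by
    refine mem_altSpan_of_swap_basis (Finsupp.basisSingleOne) hij ?_
    have : (PiTensorProduct.reindex R (fun _ : Fin d => P →₀ R) (Equiv.swap i j)).toLinearMap.comp T =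
        T.comp (PiTensorProduct.reindex R (fun _ : Fin d => P) (Equiv.swap i j)).toLinearMap :=
      PiTensorProduct.ext (MultilinearMap.ext fun p => by simp [T])
    exact (LinearMap.congr_fun this z).trans (congrArg T hz)
  have hle : SymTen.altSpan R (P →₀ R) d ≤ (SymTen.altSpan R P d).comap (PiTensorProduct.map fun _ => r) := by
    refine Submodule.span_le.mpr ?_
    rintro _ ⟨p, a, b, hab, h, rfl⟩
    exact Submodule.subset_span ⟨fun k => r (p k), a, b, hab, congrArg r h, by simp⟩
  have hid : (PiTensorProduct.map fun _ : Fin d => r).comp T = LinearMap.id := by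
    rw [← PiTensorProduct.map_comp]
    simp only [r, hs, PiTensorProduct.map_id]
  have := hle hT
  rw [Submodule.mem_comap, ← LinearMap.comp_apply, hid] at this
  exact this

/-- Let R be a commutative ring, A a commutative R-algebra, d ≥ 0, and P an A-module that is finitely
generated projective (finite locally free) as an R-module. Let the d-fold tensor power of A over R
act on the d-fold tensor power of P over R factor by factor, and let I_d be the R-span of the pure
tensors p_1 ⊗ ⋯ ⊗ p_d with two equal factors p_i = p_j, i ≠ j (the submodule by which the tensor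
power is divided to give the d-th exterior power). Then every symmetric tensor a ∈ TS^d_R(A) maps
I_d into itself, so that TS^d_R(A) acts on the d-th exterior power of P over R. -/
theorem result (R : Type u) [CommRing R] (A : Type u) [CommRing A] [Algebra R A]
    (P : Type u) [AddCommGroup P] [Module R P] [Module A P] [IsScalarTower R A P]
    [Module.Finite R P] [Module.Projective R P] (d : ℕ)
    (a : ⨂[R] _ : Fin d, A) (ha : a ∈ SymTen.TS R A d)
    (x : ⨂[R] _ : Fin d, P) (hx : x ∈ SymTen.altSpan R P d) :
    SymTen.tpowAct R A P d a x ∈ SymTen.altSpan R P d := by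
  induction hx using Submodule.span_induction with
  | mem y hy =>
    obtain ⟨p, i, j, hij, hp, rfl⟩ := hy
    refine mem_altSpan_of_swap hij ?_
    have hkey : (PiTensorProduct.reindex R (fun _ : Fin d => P) (Equiv.swap i j)).toLinearMap.comp
        ((SymTen.tpowAct R A P d).flip (PiTensorProduct.tprod R p)) =
        ((SymTen.tpowAct R A P d).flip (PiTensorProduct.tprod R p)).comp
          (PiTensorProduct.reindex R (fun _ : Fin d => A) (Equiv.swap i j)).toLinearMap := by
      refine PiTensorProduct.ext (MultilinearMap.ext fun a => ?_)
      have hps : ∀ k, p (Equiv.swap i j k) = p k := fun k => by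
        rcases eq_or_ne k j with rfl | hkj
        · simp [hp]
        rcases eq_or_ne k i with rfl | hki
        · simp [hp]
        · simp [Equiv.swap_apply_of_ne_of_ne hki hkj]
      simp [SymTen.tpowAct, hps]
    refine (LinearMap.congr_fun hkey a).trans (congrArg (fun t => SymTen.tpowAct R A P d t _) ?_)
    exact (PLaw.mem_symTen.mp (PLaw.TS_mem_iff.mp ha)) _
  | zero => simp
  | add y z _ _ hy hz => rw [map_add]; exact add_mem hy hz
  | smul r y _ hy => rw [map_smul]; exact Submodule.smul_mem _ r hy

end Groth.Agent.S17910
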