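import Groth.Statements.S17914
import Groth.Agent.PLaw.Span
import Mathlib.RingTheory.IsTensorProduct
import Mathlib.RingTheory.Norm.Basic

set_option autoImplicit false
universe u
open scoped TensorProduct
open PolLaw

namespace Groth.Agent.S17914

/-- Affine-free form, stated through universal properties. Let R → R' be a commutative algebra that is
free of rank d as an R-module, Q a commutative R-algebra, and Q' a commutative ring under Q and R'
which is their pushout over R and is free of rank d over Q. Let (C, γ) be the degree-d divided power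
algebra of R' over R with its universal multiplicative law (hypothesis: every multiplicative law of
degree d out of R' factors uniquely through γ) and π : C → R the R-algebra map with π ∘ γ = the norm
law of R' over R; let (C', γ', π') be the analogous data for Q' over Q. Let θ : C → C' be an
R-algebra homomorphism compatible with the two universal laws over every commutative Q-algebra P:
γ'_P applied to the image of z ∈ P ⊗_R R' in P ⊗_Q Q' equals (p ⊗ c ↦ p ⊗ θ c) applied to γ_P(z) (so
θ is the base-change homomorphism of divided power algebras). Then π' (θ c) is the image in Q of π c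
for every c ∈ C: the algebra map attached to the norm commutes with base change. (The published
lemma is for a finite locally free extension of constant rank and states the commutativity of each
of three squares; this row assumes R' free over R and states the commutativity of the composite.) -/
theorem result {R R' Q Q' : Type u} [CommRing R] [CommRing R'] [Algebra R R']
    [CommRing Q] [Algebra R Q] [CommRing Q'] [Algebra R Q'] [Algebra Q Q'] [Algebra R' Q']
    [IsScalarTower R Q Q'] [IsScalarTower R R' Q'] [Algebra.IsPushout R R' Q Q']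
    [Module.Free R R'] [Module.Finite R R'] [Module.Free Q Q'] [Module.Finite Q Q']
    (d : ℕ) (hd : Module.finrank R R' = d) (hd' : Module.finrank Q Q' = d)
    {C : Type u} [CommRing C] [Algebra R C] (γ : PolLaw.MulLaw R R' C d) (hγ : PolLaw.IsGammaD γ)
    (π : C →ₐ[R] R) (hπ : PolLaw.MulLaw.postcomp π γ = PolLaw.normLaw R R' d hd)
    {C' : Type u} [CommRing C'] [Algebra R C'] [Algebra Q C'] [IsScalarTower R Q C']
    (γ' : PolLaw.MulLaw Q Q' C' d) (hγ' : PolLaw.IsGammaD γ')
    (π' : C' →ₐ[Q] Q) (hπ' : PolLaw.MulLaw.postcomp π' γ' = PolLaw.normLaw Q Q' d hd')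
    (θ : C →ₐ[R] C')
    (hθ : ∀ (P : Type u) [CommRing P] [Algebra R P] [Algebra Q P] [IsScalarTower R Q P] (z : P ⊗[R] R'),
      γ'.law.toFun' P (PolLaw.bcAlong (IsScalarTower.toAlgHom R R' Q').toLinearMap P z) =
        PolLaw.bcAlong θ.toLinearMap P (γ.law.toFun' P z)) :
    ∀ c : C, π' (θ c) = algebraMap R Q (π c) := by
  intro c
  haveI hpo : Algebra.IsPushout R Q R' Q' := Algebra.IsPushout.symm inferInstance
  let f : C →ₗ[R] Q := (π'.toLinearMap.restrictScalars R).comp θ.toLinearMap
  let g : C →ₗ[R] Q := (Algebra.linearMap R Q).comp π.toLinearMap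
  suffices f = g from LinearMap.congr_fun this c
  refine PLaw.linearMap_ext_gamma hγ (PLaw.law_ext_mvPolynomial fun n u => PLaw.cf_ext fun α => ?_)
  rw [PLaw.postcomp_apply, PLaw.postcomp_apply, PLaw.cf_lTensor, PLaw.cf_lTensor]
  let S := MvPolynomial (Fin n) R
  let P := MvPolynomial (Fin n) Q
  let ψ : S →ₐ[R] P := MvPolynomial.aeval MvPolynomial.X
  let uP : P ⊗[R] R' := ψ.toLinearMap.rTensor R' u
  -- evaluation maps
  let κ : (C →ₗ[R] Q) → (P ⊗[R] C →ₗ[R] P) := fun h =>
    (TensorProduct.rid Q P).toLinearMap.restrictScalars R ∘ₗ (PolLaw.bcAlong h P).restrictScalars R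
  have hκ : ∀ (h : C →ₗ[R] Q) (p : P) (x : C), κ h (p ⊗ₜ[R] x) = h x • p := fun h p x => by
    simp [κ, PolLaw.bcAlong]
  have hcoef : ∀ (h : C →ₗ[R] Q) (y : S ⊗[R] C),
      MvPolynomial.coeff α (κ h (ψ.toLinearMap.rTensor C y)) = h (PLaw.cf α y) := by
    intro h y
    induction y using TensorProduct.induction_on with
    | zero => simp
    | tmul s x =>
      rw [LinearMap.rTensor_tmul, hκ, PLaw.cf_tmul, map_smul, MvPolynomial.coeff_smul, smul_eq_mul]
      have hψ : ψ.toLinearMap s = MvPolynomial.map (algebraMap R Q) s := by
        have : ψ.toRingHom = MvPolynomial.map (algebraMap R Q) :=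
          MvPolynomial.ringHom_ext
            (fun r => (MvPolynomial.aeval_C _ r).trans
              (MvPolynomial.map_C (algebraMap R Q) r).symm)
            (fun i => (MvPolynomial.aeval_X _ i).trans (MvPolynomial.map_X (algebraMap R Q) i).symm)
        exact RingHom.congr_fun this s
      rw [hψ, MvPolynomial.coeff_map, Algebra.smul_def, mul_comm]
    | add a b ha hb =>
      simp only [map_add]
      refine Eq.trans ?_ (congrArg₂ (· + ·) ha hb)
      exact map_add (MvPolynomial.lcoeff Q α) _ _
  rw [← hcoef f, ← hcoef g, PLaw.compat γ.law ψ]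
  congr 1
  -- right hand side
  have hg : κ g (γ.law.toFun' P uP) = Algebra.norm P uP := by
    have h2 := PLaw.law_congr (congrArg PolLaw.MulLaw.law hπ) P uP
    rw [PolLaw.normLaw_apply] at h2
    change π.toLinearMap.lTensor P (γ.law.toFun' P uP) = _ at h2
    have : ∀ y : P ⊗[R] C, κ g y = TensorProduct.rid R P (π.toLinearMap.lTensor P y) := by
      intro y
      induction y using TensorProduct.induction_on with
      | zero => simp
      | tmul p x => rw [hκ]; simp [g, algebraMap_smul]
      | add a b ha hb => simp [ha, hb]
    rw [this, h2, TensorProduct.rid_tmul, one_smul]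
  -- left hand side
  have hf : κ f (γ.law.toFun' P uP) = Algebra.norm P uP := by
    let z : P ⊗[Q] Q' := PolLaw.bcAlong (IsScalarTower.toAlgHom R R' Q').toLinearMap P uP
    have h2 := PLaw.law_congr (congrArg PolLaw.MulLaw.law hπ') P z
    rw [PolLaw.normLaw_apply] at h2
    change π'.toLinearMap.lTensor P (γ'.law.toFun' P z) = _ at h2
    have : ∀ y : P ⊗[R] C,
        κ f y = TensorProduct.rid Q P (π'.toLinearMap.lTensor P (PolLaw.bcAlong θ.toLinearMap P y)) := by
      intro y
      induction y using TensorProduct.induction_on with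
      | zero => simp
      | tmul p x => rw [hκ]; simp [f, PolLaw.bcAlong]
      | add a b ha hb => simp [ha, hb]
    rw [this, ← hθ P uP, h2, TensorProduct.rid_tmul, one_smul]
    let eqv : P ⊗[R] R' ≃ₐ[P] P ⊗[Q] Q' :=
      (Algebra.TensorProduct.cancelBaseChange R Q P P R').symm.trans
        (Algebra.TensorProduct.congr AlgEquiv.refl (Algebra.IsPushout.equiv R Q R' Q'))
    have hz : ∀ y : P ⊗[R] R',
        PolLaw.bcAlong (Q := Q) (IsScalarTower.toAlgHom R R' Q').toLinearMap P y = eqv y := by
      intro y
      induction y using TensorProduct.induction_on with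
      | zero => simp
      | tmul p r => simp [eqv, PolLaw.bcAlong, Algebra.IsPushout.equiv_tmul]
      | add a b ha hb => simp only [map_add, ha, hb]
    change Algebra.norm P (PolLaw.bcAlong (Q := Q) (IsScalarTower.toAlgHom R R' Q').toLinearMap P uP) = _
    rw [hz]
    exact Algebra.norm_eq_of_algEquiv eqv uP
  exact hf.trans hg.symm

end Groth.Agent.S17914
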