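import Groth.Statements.S17916
import Groth.Agent.RefChK0.Tri

set_option autoImplicit false
universe u
open CategoryTheory CategoryTheory.Limits AlgebraicGeometry
open RefCh

namespace Groth.Agent.S17916

/-- Let k be an algebraically closed field, X an integral normal scheme of dimension s + 2 admitting a
closed immersion into some P^N_k over k, and L_1, …, L_s invertible O_X-modules with inverses M_1,
…, M_s. For a coherent reflexive rank one O_X-module ℱ (that is, ℱ = O_X(D) for a Weil divisor D)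
write q(ℱ) = D^2 · L_1 ⋯ L_s for the limit of 2 χ(c_1(L_1) ⋯ c_1(L_s) · [ℱ^[m]]) / m^2, where ℱ^[m]
is the m-th reflexive power and the Euler characteristic of the product is the alternating sum
FGA.intNum in the M_i; write ℱ ⊗̂ 𝒢 for the reflexive hull of ℱ ⊗ 𝒢 (so O_X(D) ⊗̂ O_X(D') = O_X(D +
D')). Let ℒ_1, ℒ_2, ℒ_3 be coherent reflexive of rank one and suppose the seven limits q(ℒ_1),
q(ℒ_2), q(ℒ_3), q(ℒ_1 ⊗̂ ℒ_2), q(ℒ_1 ⊗̂ ℒ_3), q(ℒ_2 ⊗̂ ℒ_3), q((ℒ_1 ⊗̂ ℒ_2) ⊗̂ ℒ_3) exist. Then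
q((ℒ_1 ⊗̂ ℒ_2) ⊗̂ ℒ_3) - q(ℒ_1 ⊗̂ ℒ_2) - q(ℒ_1 ⊗̂ ℒ_3) - q(ℒ_2 ⊗̂ ℒ_3) + q(ℒ_1) + q(ℒ_2) + q(ℒ_3) =
0: the symmetric pairing D_1 · D_2 · L_1 ⋯ L_s := (q(O_X(D_1 + D_2)) - q(O_X(D_1)) - q(O_X(D_2))) /
2 is additive, hence ℤ-linear, in each Weil divisor. (The published text normalises D^2 · L_1 ⋯ L_s
as twice the limit of χ(c_1(L_1) ⋯ c_1(L_s) · ([O_X] - [O_X(-mD)])) / m^2, which is the negative of
the number used here: for a line D on the projective plane χ(O) - χ(O(-m)) = -m^2/2 + O(m).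
Additivity holds for either sign.) -/
theorem result (k : Type u) [Field k] [IsAlgClosed k] (X : Scheme.{u}) [X.Over (Spec (CommRingCat.of k))]
    [AlgebraicGeometry.IsIntegral X] (hnorm : Pi1.IsNormalScheme X) (s : ℕ) (hdim : topologicalKrullDim X = (s + 2 : ℕ))
    (hproj : ∃ (N : ℕ) (ι : X ⟶ CohB1.ProjSpace N k), IsClosedImmersion ι ∧ ι ≫ CohB1.ProjSpace.toSpec N k = X ↘ Spec (CommRingCat.of k))
    (L M : Fin s → X.Modules) (hL : ∀ i, PicF.IsInvertible (L i))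
    (hLM : ∀ i, Nonempty (CohB1.tensorMod (L i) (M i) ≅ Coh.structureModule X))
    (ℒ₁ ℒ₂ ℒ₃ : X.Modules) (h₁ : RefHull.IsRef1 ℒ₁) (h₂ : RefHull.IsRef1 ℒ₂) (h₃ : RefHull.IsRef1 ℒ₃)
    (q₁ q₂ q₃ q₁₂ q₁₃ q₂₃ q₁₂₃ : ℝ)
    (hq₁ : Filter.Tendsto (fun m : ℕ => (2 : ℝ) * (FGA.intNum k X (s + 2) M (RefPow.refPow ℒ₁ m) : ℝ) / ((m : ℝ) ^ 2)) Filter.atTop (nhds q₁))
    (hq₂ : Filter.Tendsto (fun m : ℕ => (2 : ℝ) * (FGA.intNum k X (s + 2) M (RefPow.refPow ℒ₂ m) : ℝ) / ((m : ℝ) ^ 2)) Filter.atTop (nhds q₂))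
    (hq₃ : Filter.Tendsto (fun m : ℕ => (2 : ℝ) * (FGA.intNum k X (s + 2) M (RefPow.refPow ℒ₃ m) : ℝ) / ((m : ℝ) ^ 2)) Filter.atTop (nhds q₃))
    (hq₁₂ : Filter.Tendsto (fun m : ℕ => (2 : ℝ) * (FGA.intNum k X (s + 2) M (RefPow.refPow (RefPow.refTensor ℒ₁ ℒ₂) m) : ℝ) / ((m : ℝ) ^ 2)) Filter.atTop (nhds q₁₂))
    (hq₁₃ : Filter.Tendsto (fun m : ℕ => (2 : ℝ) * (FGA.intNum k X (s + 2) M (RefPow.refPow (RefPow.refTensor ℒ₁ ℒ₃) m) : ℝ) / ((m : ℝ) ^ 2)) Filter.atTop (nhds q₁₃))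
    (hq₂₃ : Filter.Tendsto (fun m : ℕ => (2 : ℝ) * (FGA.intNum k X (s + 2) M (RefPow.refPow (RefPow.refTensor ℒ₂ ℒ₃) m) : ℝ) / ((m : ℝ) ^ 2)) Filter.atTop (nhds q₂₃))
    (hq₁₂₃ : Filter.Tendsto (fun m : ℕ => (2 : ℝ) * (FGA.intNum k X (s + 2) M (RefPow.refPow (RefPow.refTensor (RefPow.refTensor ℒ₁ ℒ₂) ℒ₃) m) : ℝ) / ((m : ℝ) ^ 2)) Filter.atTop (nhds q₁₂₃)) :
    q₁₂₃ - q₁₂ - q₁₃ - q₂₃ + q₁ + q₂ + q₃ = 0 := by
  haveI := RefChK0.isProper_of_proj k hproj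
  haveI := EulerChar.isLocallyNoetherian k (X := X)
  haveI := EulerChar.isNoetherian k (X := X)
  obtain ⟨N, ι, hι, -⟩ := hproj
  haveI := hι
  obtain ⟨δ, hd, hδη⟩ := RefChK0.exists_dimFun k (X := X) (s + 2)
  have hM : ∀ i, PicF.IsInvertible (M i) := fun i => RefChK0.isInvertible_inverse (hL i) (hLM i)
  let Z : KZero.K0sub (Cyc.CohLe δ (δ (genericPoint X))) →+ ℤ :=
    (RefChK0.chiHom k δ (δ (genericPoint X)) hdim.le).comp (RefChK0.altOp δ (δ (genericPoint X)) M hM)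
  have hZ : ∀ c ∈ RefChK0.filt δ (δ (genericPoint X)) (δ (genericPoint X) - 3), Z c = 0 := fun c hc => by
    have := RefChK0.eq_zero_of_mem_filt (fun x => by
      have := RefChK0.δ_nonneg hd hdim hδη x
      push_cast at hδη
      omega) (RefChK0.altOp_mem hd M hM (by omega) hc)
    simp only [Z, AddMonoidHom.comp_apply, this, map_zero]
  have hample := Groth.Agent.ProjMorph.isAmple_pullback_twist_of_isAffineHom
    (ι : X ⟶ Proj (CohB1.polyGrading N k)) (inferInstanceAs (IsAffineHom ι))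
  obtain ⟨B, hB, hmem⟩ := RefChK0.finite_tri Z hnorm hd hZ k hample
  obtain ⟨s₁, hs₁⟩ := (Ref1.rankOne_of_isRef1 h₁).exists_ne_zero
  obtain ⟨s₂, hs₂⟩ := (Ref1.rankOne_of_isRef1 h₂).exists_ne_zero
  obtain ⟨s₃, hs₃⟩ := (Ref1.rankOne_of_isRef1 h₃).exists_ne_zero
  let D : ℕ → ∀ {F : X.Modules}, F.presheaf.stalk (genericPoint X) → X → ℤ :=
    fun m {F} σ y => (m : ℤ) * Ref1.ordS F y σ
  have hval : ∀ {F : X.Modules} {σ : F.presheaf.stalk (genericPoint X)}, RefHull.IsRef1 F → σ ≠ 0 →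
      ∀ (m : ℕ) (E : X → ℤ), (∀ y, Order.coheight y = 1 → E y = (m : ℤ) * Ref1.ordS F y σ) →
        RefChK0.IsDiv E ∧ FGA.intNum k X (s + 2) M (RefPow.refPow F m) = Z (RefChK0.kd δ E) := by
    intro F σ hF hσ m E hE
    obtain ⟨t, ht, et⟩ := RefChK0.exists_refPow_sec hnorm hF hσ m
    have hR := RefChK0.isRef1_refPow hF m
    have he : ∀ y, Order.coheight y = 1 → Ref1.ordS (RefPow.refPow F m) y t = E y :=
      fun y hy => (et y hy).trans (hE y hy).symm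
    exact ⟨⟨_, t, hR, ht, he⟩, by
      rw [RefChK0.kd_eq hnorm hR ht he]
      exact RefChK0.intNum_eq' k hdim.le M hM (RefChK0.cohLe_top hd hR.1)⟩
  obtain ⟨hR₁₂, hn₁₂, e₁₂⟩ := Ref1.tensorSec_spec hnorm h₁ h₂ hs₁ hs₂
  obtain ⟨hR₁₃, hn₁₃, e₁₃⟩ := Ref1.tensorSec_spec hnorm h₁ h₃ hs₁ hs₃
  obtain ⟨hR₂₃, hn₂₃, e₂₃⟩ := Ref1.tensorSec_spec hnorm h₂ h₃ hs₂ hs₃
  obtain ⟨hR₁₂₃, hn₁₂₃, e₁₂₃⟩ := Ref1.tensorSec_spec hnorm hR₁₂ h₃ hn₁₂ hs₃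
  have key : ∀ m : ℕ, FGA.intNum k X (s + 2) M (RefPow.refPow (RefPow.refTensor (RefPow.refTensor ℒ₁ ℒ₂) ℒ₃) m) -
      FGA.intNum k X (s + 2) M (RefPow.refPow (RefPow.refTensor ℒ₁ ℒ₂) m) -
      FGA.intNum k X (s + 2) M (RefPow.refPow (RefPow.refTensor ℒ₁ ℒ₃) m) -
      FGA.intNum k X (s + 2) M (RefPow.refPow (RefPow.refTensor ℒ₂ ℒ₃) m) +
      FGA.intNum k X (s + 2) M (RefPow.refPow ℒ₁ m) + FGA.intNum k X (s + 2) M (RefPow.refPow ℒ₂ m) +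
      FGA.intNum k X (s + 2) M (RefPow.refPow ℒ₃ m) - Z (RefChK0.kd δ 0) ∈ B := by
    intro m
    obtain ⟨d₁, v₁⟩ := hval h₁ hs₁ m (D m s₁) fun _ _ => rfl
    obtain ⟨d₂, v₂⟩ := hval h₂ hs₂ m (D m s₂) fun _ _ => rfl
    obtain ⟨d₃, v₃⟩ := hval h₃ hs₃ m (D m s₃) fun _ _ => rfl
    obtain ⟨-, v₁₂⟩ := hval hR₁₂ hn₁₂ m (D m s₁ + D m s₂) fun y hy => by
      simp only [D, Pi.add_apply]; rw [e₁₂ y hy]; ring
    obtain ⟨-, v₁₃⟩ := hval hR₁₃ hn₁₃ m (D m s₁ + D m s₃) fun y hy => by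
      simp only [D, Pi.add_apply]; rw [e₁₃ y hy]; ring
    obtain ⟨-, v₂₃⟩ := hval hR₂₃ hn₂₃ m (D m s₂ + D m s₃) fun y hy => by
      simp only [D, Pi.add_apply]; rw [e₂₃ y hy]; ring
    obtain ⟨-, v₁₂₃⟩ := hval hR₁₂₃ hn₁₂₃ m (D m s₁ + D m s₂ + D m s₃) fun y hy => by
      simp only [D, Pi.add_apply]; rw [e₁₂₃ y hy, e₁₂ y hy]; ring
    rw [v₁, v₂, v₃, v₁₂, v₁₃, v₂₃, v₁₂₃]
    exact hmem _ _ _ d₁ d₂ d₃
  obtain ⟨C, hC⟩ : ∃ C : ℤ, ∀ b ∈ B, |b + Z (RefChK0.kd δ 0)| ≤ C := by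
    obtain ⟨C, hC⟩ := (hB.image fun b => |b + Z (RefChK0.kd δ 0)|).bddAbove
    exact ⟨C, fun b hb => hC ⟨b, hb, rfl⟩⟩
  have h := (((((hq₁₂₃.sub hq₁₂).sub hq₁₃).sub hq₂₃).add hq₁).add hq₂).add hq₃
  refine tendsto_nhds_unique h (squeeze_zero_norm' (a := fun m : ℕ => 2 * (C : ℝ) / (m : ℝ) ^ 2) ?_
    (tendsto_const_nhds.div_atTop ((Filter.tendsto_pow_atTop two_ne_zero).comp tendsto_natCast_atTop_atTop)))
  refine Filter.Eventually.of_forall fun m => ?_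
  have hm := hC _ (key m)
  rw [sub_add_cancel] at hm
  have hm' := (Int.cast_le (R := ℝ)).2 hm
  push_cast at hm'
  rw [Real.norm_eq_abs]
  simp only [← sub_div, ← add_div, ← mul_sub, ← mul_add]
  rw [abs_div, abs_mul, abs_two, abs_pow, Nat.abs_cast]
  gcongr

end Groth.Agent.S17916
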