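import Groth.Statements.S17917
import Groth.Agent.RefChK0.Pow
-- import your own Groth.Agent.* helpers here

set_option autoImplicit false
universe u
open CategoryTheory CategoryTheory.Limits AlgebraicGeometry
open RefCh

namespace Groth.Agent.S17917

/-- Let k be an algebraically closed field, X an integral normal scheme of dimension s + 2 admitting a
closed immersion into some P^N_k over k, and L_1, …, L_s invertible O_X-modules with inverses M_1,
…, M_s. Let ℒ_1 be a coherent reflexive O_X-module of rank one (ℒ_1 = O_X(D_1) for a Weil divisor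
D_1, with dual ℒ_1^∨ = O_X(-D_1)) and ℒ_2 an invertible O_X-module (a Cartier divisor D_2) with
inverse 𝓜_2. With q(ℱ) the limit of 2 χ(c_1(L_1) ⋯ c_1(L_s) · [ℱ^[m]]) / m^2 (reflexive powers,
FGA.intNum in the M_i), assumed to exist for ℒ_1, ℒ_2 and the reflexive hull ℒ_1 ⊗̂ ℒ_2 of ℒ_1 ⊗
ℒ_2, one has (q(ℒ_1 ⊗̂ ℒ_2) - q(ℒ_1) - q(ℒ_2)) / 2 = χ(c_1(ℒ_2) c_1(L_1) ⋯ c_1(L_s) · ([O_X] -
[ℒ_1^∨])), the right side written as the difference of the alternating sums FGA.intNum in (𝓜_2, M_1,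
…, M_s) of O_X and of ℒ_1^∨; that is, D_1 · D_2 · L_1 ⋯ L_s equals the usual intersection number of
the Cartier divisor D_2 and the L_i with the cycle of D_1. (The published text normalises D^2 · L_1
⋯ L_s as twice the limit of χ(c_1(L_1) ⋯ c_1(L_s) · ([O_X] - [O_X(-mD)])) / m^2, the negative of the
number used here, and with that sign the identity fails for two lines on the projective plane, where
it would read -1 = 1.) -/
theorem result (k : Type u) [Field k] [IsAlgClosed k] (X : Scheme.{u}) [X.Over (Spec (CommRingCat.of k))]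
    [AlgebraicGeometry.IsIntegral X] (hnorm : Pi1.IsNormalScheme X) (s : ℕ) (hdim : topologicalKrullDim X = (s + 2 : ℕ))
    (hproj : ∃ (N : ℕ) (ι : X ⟶ CohB1.ProjSpace N k), IsClosedImmersion ι ∧ ι ≫ CohB1.ProjSpace.toSpec N k = X ↘ Spec (CommRingCat.of k))
    (L M : Fin s → X.Modules) (hL : ∀ i, PicF.IsInvertible (L i))
    (hLM : ∀ i, Nonempty (CohB1.tensorMod (L i) (M i) ≅ Coh.structureModule X))
    (ℒ₁ ℒ₂ 𝓜₂ : X.Modules) (h₁ : RefHull.IsRef1 ℒ₁) (h₂ : PicF.IsInvertible ℒ₂)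
    (h₂' : Nonempty (CohB1.tensorMod ℒ₂ 𝓜₂ ≅ Coh.structureModule X))
    (q₁ q₂ q₁₂ : ℝ)
    (hq₁ : Filter.Tendsto (fun m : ℕ => (2 : ℝ) * (FGA.intNum k X (s + 2) M (RefPow.refPow ℒ₁ m) : ℝ) / ((m : ℝ) ^ 2)) Filter.atTop (nhds q₁))
    (hq₂ : Filter.Tendsto (fun m : ℕ => (2 : ℝ) * (FGA.intNum k X (s + 2) M (RefPow.refPow ℒ₂ m) : ℝ) / ((m : ℝ) ^ 2)) Filter.atTop (nhds q₂))
    (hq₁₂ : Filter.Tendsto (fun m : ℕ => (2 : ℝ) * (FGA.intNum k X (s + 2) M (RefPow.refPow (RefPow.refTensor ℒ₁ ℒ₂) m) : ℝ) / ((m : ℝ) ^ 2)) Filter.atTop (nhds q₁₂)) :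
    (q₁₂ - q₁ - q₂) / 2 =
      ((FGA.intNum k X (s + 2) (Fin.cons 𝓜₂ M) (Coh.structureModule X) -
        FGA.intNum k X (s + 2) (Fin.cons 𝓜₂ M) (RefHull.dual ℒ₁) : ℤ) : ℝ) := by
  haveI := RefChK0.isProper_of_proj k hproj
  haveI := EulerChar.isLocallyNoetherian k (X := X)
  haveI := EulerChar.isNoetherian k (X := X)
  obtain ⟨δ, hd, hδη⟩ := RefChK0.exists_dimFun k (X := X) (s + 2)
  have hM : ∀ i, PicF.IsInvertible (M i) := fun i => RefChK0.isInvertible_inverse (hL i) (hLM i)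
  have hM₂ := RefChK0.isInvertible_inverse h₂ h₂'
  have hcons : ∀ i, PicF.IsInvertible (Fin.cons (α := fun _ => X.Modules) 𝓜₂ M i) := fun i => by
    refine Fin.cases ?_ (fun j => ?_) i
    · simpa using hM₂
    · simpa using hM j
  have h₂r := ExtPowSt.isRef1_of_isInvertible h₂
  set n := δ (genericPoint X) with hn
  let Z : KZero.K0sub (Cyc.CohLe δ n) →+ ℤ :=
    (RefChK0.chiHom k δ n hdim.le).comp (RefChK0.altOp δ n M hM)
  let T := RefChK0.tw δ n h₂
  let Δ : KZero.K0sub (Cyc.CohLe δ n) →+ KZero.K0sub (Cyc.CohLe δ n) := -RefChK0.c1op δ n h₂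
  have hT : ∀ c, T c = c + Δ c := fun c => by
    simp [Δ, T, RefChK0.c1op]
  have hΔ : ∀ {j : ℤ}, j ≤ n → ∀ c ∈ RefChK0.filt δ n j, Δ c ∈ RefChK0.filt δ n (j - 1) :=
    fun hj c hc => neg_mem (RefChK0.c1op_mem hd hj h₂ hc)
  have hZ : ∀ c ∈ RefChK0.filt δ n ((s : ℤ) - 1), Z c = 0 := fun c hc => by
    have := RefChK0.eq_zero_of_mem_filt (m := (s : ℤ) - 1 - s) (fun x => by
      have := RefChK0.δ_nonneg hd hdim hδη x
      omega) (RefChK0.altOp_mem hd M hM (m := (s : ℤ) - 1) (by push_cast at hδη; omega) hc)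
    simp only [Z, AddMonoidHom.comp_apply, this, map_zero]
  have hn' : n = (s : ℤ) + 2 := by push_cast at hδη; omega
  -- second differences of the twists are constant
  have hpoly : ∀ (g : KZero.K0sub (Cyc.CohLe δ n)), g ∈ RefChK0.filt δ n n → ∀ m : ℕ,
      T^[m] g ∈ RefChK0.filt δ n n ∧
      T^[m] g - g ∈ RefChK0.filt δ n (n - 1) ∧
      Z (Δ (T^[m] g)) = Z (Δ g) + m * Z (Δ (Δ g)) ∧
      2 * Z (T^[m] g) = 2 * Z g + 2 * m * Z (Δ g) + ((m : ℤ) ^ 2 - m) * Z (Δ (Δ g)) := by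
    intro g hg m
    induction m with
    | zero => simp [hg, zero_mem]
    | succ m ih =>
      obtain ⟨h1, h2, h3, h4⟩ := ih
      have hΔ1 := hΔ le_rfl _ h1
      have h5 : Z (Δ (Δ (T^[m] g))) = Z (Δ (Δ g)) := by
        have := hZ _ (RefChK0.filt_mono (by omega)
          (hΔ (show n - 1 - 1 ≤ n by omega) _ (hΔ (show n - 1 ≤ n by omega) _ h2)))
        simp only [map_sub] at this
        linarith
      refine ⟨?_, ?_, ?_, ?_⟩ <;> rw [Function.iterate_succ_apply', hT]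
      · exact add_mem h1 (RefChK0.filt_mono (by omega) hΔ1)
      · rw [add_sub_right_comm]
        exact add_mem h2 hΔ1
      · simp only [map_add]
        rw [h3, h5]
        push_cast
        ring
      · simp only [map_add]
        push_cast
        linarith [h3, h4]
  -- the class of the powers of `ℒ₁` modulo codimension two
  let O := Coh.structureModule X
  have hcoh : ∀ {F : X.Modules}, RefHull.IsRef1 F → Cyc.CohLe δ n F := fun h => RefChK0.cohLe_top hd h.1
  have hfull : ∀ {F : X.Modules}, RefHull.IsRef1 F → RefChK0.kc δ n F ∈ RefChK0.filt δ n n :=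
    fun h => RefChK0.kc_mem_filt (hcoh h)
  have hO : RefHull.IsRef1 O := Ref1.isRef1_structureModule
  let x := RefChK0.kc δ n ℒ₁ - RefChK0.kc δ n O
  have hlin : ∀ m : ℕ, RefChK0.kc δ n (RefPow.refPow ℒ₁ m) - RefChK0.kc δ n O - (m : ℤ) • x ∈
      RefChK0.filt δ n (n - 2) := by
    intro m
    induction m with
    | zero => simp [O, RefPow.refPow_zero, zero_mem]
    | succ m ih =>
      cases m with
      | zero => simp [x, RefPow.refPow_one, zero_mem]
      | succ j =>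
        have h := add_mem (RefChK0.refTensor_sub_mem hd hnorm (RefChK0.isRef1_refPow h₁ (j + 1)) h₁) ih
        rw [RefPow.refPow_succ_succ]
        rw [show (((j + 1 + 1 : ℕ)) : ℤ) = ((j + 1 : ℕ) : ℤ) + 1 by push_cast; ring, add_smul, one_smul]
        have e : ∀ {G : Type (u + 1)} [AddCommGroup G] (r p o l t : G),
            r - o - (t + (l - o)) = r - p - (l - o) + (p - o - t) := fun r p o l t => by abel
        exact (congrArg (· ∈ _) (e _ _ _ _ _)).mpr h
  have hx : x ∈ RefChK0.filt δ n (n - 1) := by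
    simpa [x] using neg_mem (RefChK0.ref1_sub_mem hd h₁)
  have hval : ∀ {F : X.Modules}, RefHull.IsRef1 F →
      FGA.intNum k X (s + 2) M F = Z (RefChK0.kc δ n F) := fun h => RefChK0.intNum_eq' k hdim.le M hM (hcoh h)
  -- the key identity
  have key : ∀ m : ℕ, FGA.intNum k X (s + 2) M (RefPow.refPow (RefPow.refTensor ℒ₁ ℒ₂) m) -
      FGA.intNum k X (s + 2) M (RefPow.refPow ℒ₁ m) - FGA.intNum k X (s + 2) M (RefPow.refPow ℒ₂ m) =
      (m : ℤ) ^ 2 * Z (Δ x) - Z (RefChK0.kc δ n O) := by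
    intro m
    have hR := Ref1.isRef1_ddual _ (Ref1.isCoh_tensorMod h₁.1 h₂r.1)
      (Ref1.isRankOne_tensorMod (Ref1.rankOne_of_isRef1 h₁) (Ref1.rankOne_of_isRef1 h₂r))
    obtain ⟨e⟩ := RefChK0.refPow_refTensor_iso hnorm h₁ h₂r m
    haveI := RefChK0.isIso_toRefTensor (F := RefPow.refPow ℒ₁ m) (RefChK0.isInvertible_refPow h₂ m)
      (RefChK0.isRef1_refPow h₁ m)
    rw [hval (RefChK0.isRef1_refPow hR m), hval (RefChK0.isRef1_refPow h₁ m),
      hval (RefChK0.isRef1_refPow h₂r m),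
      RefChK0.kc_iso (e ≪≫ (asIso (RefPow.toRefTensor (RefPow.refPow ℒ₂ m) (RefPow.refPow ℒ₁ m))).symm),
      ← RefChK0.kc_iso (ProjTwist.tensOne (RefPow.refPow ℒ₂ m)),
      RefChK0.tw_refPow h₂ (hcoh (RefChK0.isRef1_refPow h₁ m)), RefChK0.tw_refPow h₂ (hcoh hO)]
    obtain ⟨-, -, -, p1⟩ := hpoly _ (hfull (RefChK0.isRef1_refPow h₁ m)) m
    obtain ⟨-, -, -, p2⟩ := hpoly _ (hfull hO) m
    set G := RefChK0.kc δ n (RefPow.refPow ℒ₁ m)
    set o := RefChK0.kc δ n O
    have q1 := hZ _ (RefChK0.filt_mono (by omega) (hΔ (by omega) _ (hlin m)))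
    have q2 := hZ _ (RefChK0.filt_mono (by omega)
      (hΔ (show n - 2 - 1 ≤ n by omega) _ (hΔ (by omega) _ (hlin m))))
    have q3 := hZ _ (RefChK0.filt_mono (by omega) (hΔ (show n - 1 - 1 ≤ n by omega) _ (hΔ (by omega) _ hx)))
    simp only [map_sub, map_zsmul, smul_eq_mul] at q1 q2
    have e1 : Z (Δ G) = Z (Δ o) + (m : ℤ) * Z (Δ x) := by linarith [q1]
    have e2 : Z (Δ (Δ G)) = Z (Δ (Δ o)) := by
      rw [q3, mul_zero] at q2
      linarith [q2]
    simp only [e1, e2] at p1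
    change Z (T^[m] G) - Z G - Z (T^[m] o) = _
    linarith [p1, p2]
  -- the right hand side
  have hrhs : FGA.intNum k X (s + 2) (Fin.cons 𝓜₂ M) (Coh.structureModule X) -
      FGA.intNum k X (s + 2) (Fin.cons 𝓜₂ M) (RefHull.dual ℒ₁) = Z (Δ x) := by
    have hd₁ := Ref1.isRef1_dual h₁
    rw [RefChK0.intNum_eq' k hdim.le _ hcons (hcoh hO), RefChK0.intNum_eq' k hdim.le _ hcons (hcoh hd₁),
      RefChK0.altOp_cons hM hM₂ hcons]
    set y := RefChK0.kc δ n O - RefChK0.kc δ n (RefHull.dual ℒ₁) with hy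
    have hy1 : y - x ∈ RefChK0.filt δ n (n - 2) := by
      obtain ⟨σ, hσ⟩ := (Ref1.rankOne_of_isRef1 h₁).exists_ne_zero
      obtain ⟨τ, hτ, eτ⟩ := Ref1.exists_dualSec hnorm h₁ hσ
      have hone : HomShQC.unitStalk (genericPoint X) (1 : X.presheaf.stalk (genericPoint X)) ≠ 0 := fun h =>
        one_ne_zero ((HomShQC.unitStalk (genericPoint X)).injective (h.trans (map_zero _).symm))
      obtain ⟨b₀, f₀⟩ := RefChK0.exists_framed_ref1 hd hnorm hO hone
      obtain ⟨b₁, f₁⟩ := RefChK0.exists_framed_ref1 hd hnorm h₁ hσ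
      obtain ⟨b₂, f₂⟩ := RefChK0.exists_framed_ref1 hd hnorm hd₁ hτ
      refine RefChK0.kc_sub_eq_of_framed hd hnorm f₀ f₂ f₁ f₀ fun z hz => ?_
      rw [eτ z (RefChK0.coheight_one hd hz), Ref1.ordS_one (RefChK0.coheight_one hd hz)]
      ring
    have hrel : ∀ c, RefChK0.c1op δ n h₂ (RefChK0.c1op δ n hM₂ c) =
        RefChK0.c1op δ n h₂ c + RefChK0.c1op δ n hM₂ c := by
      intro c
      have hinv : T (RefChK0.tw δ n hM₂ c) = c := by
        obtain ⟨z, rfl⟩ := QuotientAddGroup.mk_surjective c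
        induction z using FreeAbelianGroup.induction_on with
        | zero => simp only [QuotientAddGroup.mk_zero, map_zero]
        | of F =>
          have hF : (QuotientAddGroup.mk (FreeAbelianGroup.of F) : KZero.K0sub (Cyc.CohLe δ n)) =
              RefChK0.kc δ n F.1 := by
            simp only [RefChK0.kc, KZero.clSub, dif_pos F.2]
          rw [hF, RefChK0.tw_kc hM₂ F.2]
          rw [show T = RefChK0.tw δ n h₂ from rfl, RefChK0.tw_kc h₂ (RefChK0.cohLe_twist hM₂ F.2)]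
          exact RefChK0.kc_iso ((ProjTwist.tensAssoc _ _ _).symm ≪≫
            ProjTwist.tensCongr h₂'.some (Iso.refl _) ≪≫ ProjTwist.oneTens F.1)
        | neg F h => rw [QuotientAddGroup.mk_neg, map_neg, map_neg, h]
        | add a b ha hb => rw [QuotientAddGroup.mk_add, map_add, map_add, ha, hb]
      simp only [RefChK0.c1op, AddMonoidHom.sub_apply, AddMonoidHom.id_apply, map_sub]
      simp only [T] at hinv
      rw [hinv]
      abel
    have hy' : y ∈ RefChK0.filt δ n (n - 1) := RefChK0.ref1_sub_mem hd hd₁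
    have q1 := hZ _ (RefChK0.filt_mono (by omega)
      (RefChK0.c1op_mem hd (show n - 1 - 1 ≤ n by omega) h₂ (RefChK0.c1op_mem hd (by omega) hM₂ hy')))
    have q2 := hZ _ (RefChK0.filt_mono (by omega) (hΔ (by omega) _ hy1))
    rw [hrel] at q1
    simp only [Δ, AddMonoidHom.neg_apply, map_sub, map_neg, map_add] at q1 q2 ⊢
    simp only [Z, AddMonoidHom.comp_apply] at q1 q2 ⊢
    simp only [hy, map_sub] at q1 q2 ⊢
    linarith [q1, q2]
  rw [hrhs]
  have h1 := (hq₁₂.sub hq₁).sub hq₂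
  have h2 : Filter.Tendsto (fun m : ℕ => (2 : ℝ) * (Z (Δ x) : ℝ) - 2 * (Z (RefChK0.kc δ n O) : ℝ) / ((m : ℝ) ^ 2))
      Filter.atTop (nhds (2 * (Z (Δ x) : ℝ) - 0)) := by
    refine tendsto_const_nhds.sub ?_
    exact tendsto_const_nhds.div_atTop
      ((Filter.tendsto_pow_atTop two_ne_zero).comp tendsto_natCast_atTop_atTop)
  have h3 : q₁₂ - q₁ - q₂ = 2 * (Z (Δ x) : ℝ) - 0 := by
    refine tendsto_nhds_unique h1 (h2.congr' ?_)
    filter_upwards [Filter.eventually_gt_atTop 0] with m hm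
    have hm' : (m : ℝ) ≠ 0 := Nat.cast_ne_zero.2 (by omega)
    have := congrArg (fun z : ℤ => (z : ℝ)) (key m)
    push_cast at this
    rw [← sub_div, ← sub_div, ← mul_sub, ← mul_sub, this]
    field_simp
  linarith

end Groth.Agent.S17917
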