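import Groth.Statements.S17918
import Groth.Agent.RefChK0.Chi
-- import your own Groth.Agent.* helpers here

set_option autoImplicit false
universe u
open CategoryTheory CategoryTheory.Limits AlgebraicGeometry
open RefCh

namespace Groth.Agent.S17918

open RefChK0 in
lemma isRef1_refPow {X : Scheme.{u}} [AlgebraicGeometry.IsIntegral X] [IsLocallyNoetherian X] {ℒ : X.Modules}
    (hℒ : RefHull.IsRef1 ℒ) : ∀ m, RefHull.IsRef1 (RefPow.refPow ℒ m)
  | 0 => Ref1.isRef1_structureModule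
  | 1 => hℒ
  | m + 2 => Ref1.isRef1_ddual _ (Ref1.isCoh_tensorMod (isRef1_refPow hℒ (m + 1)).1 hℒ.1)
      (Ref1.isRankOne_tensorMod (Ref1.rankOne_of_isRef1 (isRef1_refPow hℒ (m + 1))) (Ref1.rankOne_of_isRef1 hℒ))

/-- Let k be an algebraically closed field, X an integral normal scheme of dimension s + 3 admitting a
closed immersion into some P^N_k over k, L_1, …, L_s, A and B invertible O_X-modules with inverses
M_1, …, M_s, A' and B' (so that A' ⊗ B' is an inverse of A ⊗ B), and ℒ a coherent reflexive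
O_X-module of rank one (ℒ = O_X(D)). Suppose 2 χ(c_1(A) c_1(L_1) ⋯ c_1(L_s) · [ℒ^[m]]) / m^2 → a, 2
χ(c_1(B) c_1(L_1) ⋯ c_1(L_s) · [ℒ^[m]]) / m^2 → b and 2 χ(c_1(A ⊗ B) c_1(L_1) ⋯ c_1(L_s) · [ℒ^[m]])
/ m^2 → c as m → ∞, the Euler characteristics being the alternating sums FGA.intNum in (A', M_1, …,
M_s), (B', M_1, …, M_s) and (A' ⊗ B', M_1, …, M_s) of the reflexive powers ℒ^[m]. Then c = a + b:
the self-intersection number D^2 · L_0 · L_1 ⋯ L_s is additive in the invertible module L_0. -/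
theorem result (k : Type u) [Field k] [IsAlgClosed k] (X : Scheme.{u}) [X.Over (Spec (CommRingCat.of k))]
    [AlgebraicGeometry.IsIntegral X] (hnorm : Pi1.IsNormalScheme X) (s : ℕ) (hdim : topologicalKrullDim X = (s + 3 : ℕ))
    (hproj : ∃ (N : ℕ) (ι : X ⟶ CohB1.ProjSpace N k), IsClosedImmersion ι ∧ ι ≫ CohB1.ProjSpace.toSpec N k = X ↘ Spec (CommRingCat.of k))
    (L M : Fin s → X.Modules) (hL : ∀ i, PicF.IsInvertible (L i))
    (hLM : ∀ i, Nonempty (CohB1.tensorMod (L i) (M i) ≅ Coh.structureModule X))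
    (A A' B B' : X.Modules) (hA : PicF.IsInvertible A) (hB : PicF.IsInvertible B)
    (hAA' : Nonempty (CohB1.tensorMod A A' ≅ Coh.structureModule X))
    (hBB' : Nonempty (CohB1.tensorMod B B' ≅ Coh.structureModule X))
    (ℒ : X.Modules) (hℒ : RefHull.IsRef1 ℒ) (a b c : ℝ)
    (ha : Filter.Tendsto (fun m : ℕ => (2 : ℝ) * (FGA.intNum k X (s + 3) (Fin.cons A' M) (RefPow.refPow ℒ m) : ℝ) / ((m : ℝ) ^ 2)) Filter.atTop (nhds a))
    (hb : Filter.Tendsto (fun m : ℕ => (2 : ℝ) * (FGA.intNum k X (s + 3) (Fin.cons B' M) (RefPow.refPow ℒ m) : ℝ) / ((m : ℝ) ^ 2)) Filter.atTop (nhds b))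
    (hc : Filter.Tendsto (fun m : ℕ => (2 : ℝ) * (FGA.intNum k X (s + 3) (Fin.cons (CohB1.tensorMod A' B') M) (RefPow.refPow ℒ m) : ℝ) / ((m : ℝ) ^ 2)) Filter.atTop (nhds c)) :
    c = a + b := by
  haveI := RefChK0.isProper_of_proj k hproj
  haveI := EulerChar.isLocallyNoetherian k (X := X)
  haveI := EulerChar.isNoetherian k (X := X)
  -- a dimension function
  obtain ⟨δ, hd, hδη⟩ : ∃ δ : X → ℤ, Cyc.IsDimFun X δ ∧ δ (genericPoint X) = (s + 3 : ℕ) :=
    RefChK0.exists_dimFun k (s + 3)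
  have hM : ∀ i, PicF.IsInvertible (M i) := fun i => RefChK0.isInvertible_inverse (hL i) (hLM i)
  have hA' := RefChK0.isInvertible_inverse hA hAA'
  have hB' := RefChK0.isInvertible_inverse hB hBB'
  have hAB := PicLaw.isInvertible_tensor hA' hB'
  have hcons : ∀ {N : X.Modules}, PicF.IsInvertible N →
      ∀ i, PicF.IsInvertible (Fin.cons (α := fun _ => X.Modules) N M i) := fun hN i => by
    refine Fin.cases ?_ (fun j => ?_) i
    · simpa using hN
    · simpa using hM j
  let n := δ (genericPoint X)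
  let χ := RefChK0.chiHom k δ n hdim.le
  let Φ : KZero.K0sub (Cyc.CohLe δ n) →+ ℤ :=
    χ.comp ((RefChK0.altOp δ n M hM).comp
      ((RefChK0.c1op δ n hAB) - RefChK0.c1op δ n hA' - RefChK0.c1op δ n hB'))
  let D : ℕ → ℤ := fun m => Φ (RefChK0.kc δ n (RefPow.refPow ℒ m))
  have hP := fun m => (isRef1_refPow hℒ m)
  have hcoh : ∀ m, Cyc.CohLe δ n (RefPow.refPow ℒ m) := fun m => RefChK0.cohLe_top hd (hP m).1
  -- `Φ` kills codimension two
  have hkill : ∀ c ∈ RefChK0.filt δ n (n - 2), Φ c = 0 := fun c hc => by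
    have h := RefChK0.eq_zero_of_mem_filt (m := n - 2 - 2 - (s : ℤ)) (fun x => by
      have := RefChK0.δ_nonneg hd hdim hδη x
      simp only [n, hδη]
      push_cast
      omega) (RefChK0.altOp_cons_tensor hd (m := n - 2) (by omega) hM hA' hB' hAB hc)
    simp only [Φ, AddMonoidHom.comp_apply, AddMonoidHom.sub_apply, map_sub]
    rw [← map_sub, ← map_sub, h, map_zero]
  have hD : ∀ m, D m = D 0 + (m : ℤ) * (D 1 - D 0) := by
    intro m
    induction m with
    | zero => simp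
    | succ m ih =>
      cases m with
      | zero => simp
      | succ j =>
        have h := hkill _ (RefChK0.refTensor_sub_mem hd hnorm (hP (j + 1)) hℒ)
        simp only [map_sub] at h
        have e : D (j + 2) = D (j + 1) + (D 1 - D 0) := by
          simp only [D, RefPow.refPow_succ_succ, RefPow.refPow_one, RefPow.refPow_zero]
          linarith [h]
        rw [e, ih]
        push_cast
        ring
  have hint : ∀ {N : X.Modules} (hN : PicF.IsInvertible N) (m : ℕ),
      FGA.intNum k X (s + 3) (Fin.cons N M) (RefPow.refPow ℒ m) =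
        χ (RefChK0.altOp δ n M hM (RefChK0.c1op δ n hN (RefChK0.kc δ n (RefPow.refPow ℒ m)))) := by
    intro N hN m
    rw [RefChK0.intNum_eq' k hdim.le _ (hcons hN) (hcoh m), RefChK0.altOp_cons hM hN (hcons hN)]
    rfl
  have heq : ∀ m : ℕ, (FGA.intNum k X (s + 3) (Fin.cons (CohB1.tensorMod A' B') M) (RefPow.refPow ℒ m) : ℝ) -
      FGA.intNum k X (s + 3) (Fin.cons A' M) (RefPow.refPow ℒ m) -
      FGA.intNum k X (s + 3) (Fin.cons B' M) (RefPow.refPow ℒ m) = (D 0 : ℝ) + m * ((D 1 - D 0 : ℤ) : ℝ) := by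
    intro m
    rw [hint hAB, hint hA', hint hB']
    have : Φ (RefChK0.kc δ n (RefPow.refPow ℒ m)) = D 0 + (m : ℤ) * (D 1 - D 0) := hD m
    simp only [Φ, AddMonoidHom.comp_apply, AddMonoidHom.sub_apply, map_sub] at this
    exact_mod_cast this
  have h0 : Filter.Tendsto (fun m : ℕ => 2 * ((D 0 : ℝ) + m * ((D 1 - D 0 : ℤ) : ℝ)) / ((m : ℝ) ^ 2))
      Filter.atTop (nhds 0) := by
    have h1 : Filter.Tendsto (fun m : ℕ => (2 * (D 0 : ℝ)) / (m : ℝ) / (m : ℝ) +
        (2 * ((D 1 - D 0 : ℤ) : ℝ)) / (m : ℝ)) Filter.atTop (nhds (0 + 0)) := by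
      refine Filter.Tendsto.add ?_ (tendsto_const_div_atTop_nhds_zero_nat _)
      simpa [div_eq_mul_inv] using (tendsto_const_div_atTop_nhds_zero_nat (2 * (D 0 : ℝ))).mul
        (tendsto_inv_atTop_nhds_zero_nat (𝕜 := ℝ))
    rw [add_zero] at h1
    refine h1.congr fun m => ?_
    rcases eq_or_ne (m : ℝ) 0 with h | h
    · simp [h]
    · field_simp
  have h1 := (hc.sub ha).sub hb
  have h2 : c - a - b = 0 := by
    refine tendsto_nhds_unique h1 (h0.congr fun m => ?_)
    rw [← heq m]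
    ring
  linarith

end Groth.Agent.S17918
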