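import Groth.Statements.S17919
import Groth.Agent.RefChK0.Chi
import Groth.Agent.RefChK0.Frob
-- import your own Groth.Agent.* helpers here

set_option autoImplicit false
universe u
open CategoryTheory CategoryTheory.Limits AlgebraicGeometry
open RefCh

namespace Groth.Agent.S17919

/-- Let k be an algebraically closed field of characteristic p > 0, X an integral normal scheme of
dimension s + 3 admitting a closed immersion into some P^N_k over k, L_1, …, L_s, A and B invertible
O_X-modules with inverses M_1, …, M_s, A' and B', E a coherent reflexive O_X-module, and (G_m) its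
reflexive Frobenius pull-backs F_X^[m] E (G_0 = E, G_{m+1} ≅ (F_X^* G_m)^**). Suppose χ(c_1(A)
c_1(L_1) ⋯ c_1(L_s) · [G_m]) / p^{2m} → a, χ(c_1(B) c_1(L_1) ⋯ c_1(L_s) · [G_m]) / p^{2m} → b and
χ(c_1(A ⊗ B) c_1(L_1) ⋯ c_1(L_s) · [G_m]) / p^{2m} → c as m → ∞ (alternating sums FGA.intNum in (A',
M_1, …, M_s), (B', M_1, …, M_s) and (A' ⊗ B', M_1, …, M_s)). Then c = a + b: the number ∫_X ch_2(E)
L_0 L_1 ⋯ L_s, defined as such a limit, is additive in the invertible module L_0. -/
theorem result (k : Type u) [Field k] [IsAlgClosed k] (X : Scheme.{u}) [X.Over (Spec (CommRingCat.of k))]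
    [AlgebraicGeometry.IsIntegral X] (hnorm : Pi1.IsNormalScheme X) (s : ℕ) (hdim : topologicalKrullDim X = (s + 3 : ℕ))
    (hproj : ∃ (N : ℕ) (ι : X ⟶ CohB1.ProjSpace N k), IsClosedImmersion ι ∧ ι ≫ CohB1.ProjSpace.toSpec N k = X ↘ Spec (CommRingCat.of k))
    (p : ℕ) [Fact p.Prime] [CharP k p] [FrobSch.IsCharP X p]
    (L M : Fin s → X.Modules) (hL : ∀ i, PicF.IsInvertible (L i))
    (hLM : ∀ i, Nonempty (CohB1.tensorMod (L i) (M i) ≅ Coh.structureModule X))
    (A A' B B' : X.Modules) (hA : PicF.IsInvertible A) (hB : PicF.IsInvertible B)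
    (hAA' : Nonempty (CohB1.tensorMod A A' ≅ Coh.structureModule X))
    (hBB' : Nonempty (CohB1.tensorMod B B' ≅ Coh.structureModule X))
    (E : X.Modules) (hE : Coh.IsCoh E) (hEr : RefHull.IsReflexive E)
    (G : ℕ → X.Modules) (hG0 : G 0 = E)
    (hG : ∀ m, Nonempty (G (m + 1) ≅ RefHull.ddual ((Scheme.Modules.pullback (FrobSch.frob X p)).obj (G m)))) (a b c : ℝ)
    (ha : Filter.Tendsto (fun m : ℕ => (FGA.intNum k X (s + 3) (Fin.cons A' M) (G m) : ℝ) / ((p : ℝ) ^ (2 * m))) Filter.atTop (nhds a))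
    (hb : Filter.Tendsto (fun m : ℕ => (FGA.intNum k X (s + 3) (Fin.cons B' M) (G m) : ℝ) / ((p : ℝ) ^ (2 * m))) Filter.atTop (nhds b))
    (hc : Filter.Tendsto (fun m : ℕ => (FGA.intNum k X (s + 3) (Fin.cons (CohB1.tensorMod A' B') M) (G m) : ℝ) / ((p : ℝ) ^ (2 * m))) Filter.atTop (nhds c)) :
    c = a + b := by
  haveI := RefChK0.isProper_of_proj k hproj
  haveI := EulerChar.isLocallyNoetherian k (X := X)
  haveI := EulerChar.isNoetherian k (X := X)
  obtain ⟨δ, hd, hδη⟩ := RefChK0.exists_dimFun k (X := X) (s + 3)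
  have hM : ∀ i, PicF.IsInvertible (M i) := fun i => RefChK0.isInvertible_inverse (hL i) (hLM i)
  have hA' := RefChK0.isInvertible_inverse hA hAA'
  have hB' := RefChK0.isInvertible_inverse hB hBB'
  have hAB := PicLaw.isInvertible_tensor hA' hB'
  have hcons : ∀ {N : X.Modules}, PicF.IsInvertible N →
      ∀ i, PicF.IsInvertible (Fin.cons (α := fun _ => X.Modules) N M i) := fun hN i => by
    refine Fin.cases ?_ (fun j => ?_) i
    · simpa using hN
    · simpa using hM j
  let n := δ (genericPoint X)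
  let χ := RefChK0.chiHom k δ n hdim.le
  let Φ : KZero.K0sub (Cyc.CohLe δ n) →+ ℤ :=
    χ.comp ((RefChK0.altOp δ n M hM).comp
      ((RefChK0.c1op δ n hAB) - RefChK0.c1op δ n hA' - RefChK0.c1op δ n hB'))
  have hkill : ∀ c ∈ RefChK0.filt δ n (n - 2), Φ c = 0 := fun c hc => by
    have h := RefChK0.eq_zero_of_mem_filt (m := n - 2 - 2 - (s : ℤ)) (fun x => by
      have := RefChK0.δ_nonneg hd hdim hδη x
      simp only [n, hδη]
      push_cast
      omega) (RefChK0.altOp_cons_tensor hd (m := n - 2) (by omega) hM hA' hB' hAB hc)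
    simp only [Φ, AddMonoidHom.comp_apply, AddMonoidHom.sub_apply, map_sub]
    rw [← map_sub, ← map_sub, h, map_zero]
  obtain ⟨r, b0, f, hf⟩ := RefChK0.exists_framed hd hnorm (A := G 0) (hG0 ▸ hE)
    (fun y => Ref1.toη_injective_of_isReflexive _ (hG0 ▸ hE) (hG0 ▸ hEr) y)
  have hframe : ∀ m, ∃ bm : Module.Basis (Fin r) (X.presheaf.stalk (genericPoint X))
      ((G m).presheaf.stalk (genericPoint X)), RefChK0.Framed δ (G m) bm fun y => (p : ℤ) ^ m * f y := by
    intro m
    induction m with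
    | zero => exact ⟨b0, by simpa using hf⟩
    | succ m ih =>
      obtain ⟨bm, hbm⟩ := ih
      obtain ⟨b', hb'⟩ := RefChK0.exists_framed_frob p hd hnorm (hG m).some hbm
      refine ⟨b', ?_⟩
      simpa [pow_succ, mul_comm, mul_assoc, mul_left_comm] using hb'
  have hcohm : ∀ m, Cyc.CohLe δ n (G m) := fun m => RefChK0.cohLe_top hd (hframe m).choose_spec.1
  obtain ⟨bO, hbO⟩ := RefChK0.exists_framed_pow_O hd hnorm r
  let c0 := Φ (RefChK0.kc δ n (CohDev.pow (Coh.structureModule X) r))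
  let c1 := Φ (RefChK0.kc δ n (G 0)) - c0
  have hD : ∀ m, Φ (RefChK0.kc δ n (G m)) = c0 + (p : ℤ) ^ m * c1 := by
    intro m
    obtain ⟨bm, hbm⟩ := hframe m
    have h := hkill _ (RefChK0.kc_sub_eq_nsmul_of_framed hd hnorm (p ^ m) hbm hbO hf hbO fun y _ => by
      simp only [Nat.cast_pow, sub_zero])
    simp only [map_sub, map_zsmul, smul_eq_mul, Nat.cast_pow] at h
    simp only [c1, c0, n] at *
    linarith [h]
  have hint : ∀ {N : X.Modules} (hN : PicF.IsInvertible N) (m : ℕ),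
      FGA.intNum k X (s + 3) (Fin.cons N M) (G m) =
        χ (RefChK0.altOp δ n M hM (RefChK0.c1op δ n hN (RefChK0.kc δ n (G m)))) := by
    intro N hN m
    rw [RefChK0.intNum_eq' k hdim.le _ (hcons hN) (hcohm m), RefChK0.altOp_cons hM hN (hcons hN)]
    rfl
  have heq : ∀ m : ℕ, (FGA.intNum k X (s + 3) (Fin.cons (CohB1.tensorMod A' B') M) (G m) : ℝ) -
      FGA.intNum k X (s + 3) (Fin.cons A' M) (G m) -
      FGA.intNum k X (s + 3) (Fin.cons B' M) (G m) = (c0 : ℝ) + (p : ℝ) ^ m * (c1 : ℝ) := by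
    intro m
    rw [hint hAB, hint hA', hint hB']
    have := hD m
    simp only [Φ, AddMonoidHom.comp_apply, AddMonoidHom.sub_apply, map_sub] at this
    exact_mod_cast this
  have hp1 : (1 : ℝ) < p := by exact_mod_cast (Fact.out : p.Prime).one_lt
  have h0 : Filter.Tendsto (fun m : ℕ => ((c0 : ℝ) + (p : ℝ) ^ m * (c1 : ℝ)) / ((p : ℝ) ^ (2 * m)))
      Filter.atTop (nhds 0) := by
    have hq : Filter.Tendsto (fun m : ℕ => ((p : ℝ)⁻¹) ^ m) Filter.atTop (nhds 0) :=
      tendsto_pow_atTop_nhds_zero_of_lt_one (inv_nonneg.2 (by linarith)) (inv_lt_one_of_one_lt₀ hp1)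
    have h1 := ((hq.mul hq).const_mul (c0 : ℝ)).add (hq.const_mul (c1 : ℝ))
    rw [mul_zero, mul_zero, mul_zero, add_zero] at h1
    refine h1.congr fun m => ?_
    have hne : (p : ℝ) ^ m ≠ 0 := pow_ne_zero _ (by linarith)
    rw [two_mul, pow_add, inv_pow]
    field_simp
  have h1 := (hc.sub ha).sub hb
  have h2 : c - a - b = 0 := by
    refine tendsto_nhds_unique h1 (h0.congr fun m => ?_)
    rw [← heq m]
    ring
  linarith

end Groth.Agent.S17919
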