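import Groth.Statements.S17921
import Groth.Agent.RefChK0.Pow
import Groth.Agent.RefChK0.Frob
-- import your own Groth.Agent.* helpers here

set_option autoImplicit false
universe u
open CategoryTheory CategoryTheory.Limits AlgebraicGeometry
open RefCh

namespace Groth.Agent.S17921

open RefChK0 in
/-- The orders of a framing of a rank one reflexive module. -/
lemma ordS_of_framed {X : Scheme.{u}} [AlgebraicGeometry.IsIntegral X] [IsLocallyNoetherian X] {δ : X → ℤ}
    (hd : Cyc.IsDimFun X δ) (hnorm : Pi1.IsNormalScheme X) {F : X.Modules} (hF : RefHull.IsRef1 F)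
    {b : Module.Basis (Fin 1) (X.presheaf.stalk (genericPoint X)) (F.presheaf.stalk (genericPoint X))}
    {f : X → ℤ} (hb : Framed δ F b f) {y : X} (hy : δ y + 1 = δ (genericPoint X)) :
    Ref1.ordS F y (b 0) = - f y := by
  have hco := coheight_one hd hy
  obtain ⟨-, m, hm, hdet, hmf⟩ := hb.2 y hy
  have hrange : Set.range m = {m 0} := by
    ext z
    simp [Fin.forall_fin_one, Fin.exists_fin_one, eq_comm]
  set c := b.det (fun i => Ref1.toη F y (m i)) with hc
  have hmc : Ref1.toη F y (m 0) = c • b 0 := by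
    have h := b.sum_repr (Ref1.toη F y (m 0))
    rw [Fin.sum_univ_one] at h
    rw [hc, b.det_apply, Matrix.det_fin_one, Module.Basis.toMatrix_apply]
    exact h.symm
  have hgen : Ref1.IsGenAt F y (m 0) := by
    refine ⟨hrange ▸ hm, ?_⟩
    rw [hmc]
    intro h
    exact b.ne_zero 0 ((Ref1.isUnit_of_ne_zero hdet).smul_eq_zero.mp h)
  obtain ⟨u, hu⟩ := Ref1.isUnit_of_ne_zero hdet
  have hs : b 0 = (u⁻¹ : (X.presheaf.stalk (genericPoint X))ˣ).1 • Ref1.toη F y (m 0) := by
    rw [hmc, ← hu, smul_smul, Units.inv_mul, one_smul]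
  rw [hs, Ref1.ordS_eq (Ref1.rankOne_of_isRef1 hF) hco hgen (Units.ne_zero _)]
  have h2 : Scheme.ord (c * (u⁻¹ : (X.presheaf.stalk (genericPoint X))ˣ).1) y = 0 := by
    rw [← hu, Units.mul_inv, ← map_one (Ref1.toK y), Ref1.ord_toK_of_isUnit hco isUnit_one]
  rw [Ref1.ord_mul' hdet (Units.ne_zero _), hmf] at h2
  linarith

/-- Let k be an algebraically closed field of characteristic p > 0, X an integral normal scheme of
dimension s + 2 admitting a closed immersion into some P^N_k over k, L_1, …, L_s invertible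
O_X-modules with inverses M_1, …, M_s, and ℒ a coherent reflexive O_X-module of rank one (ℒ =
O_X(D)), with reflexive Frobenius pull-backs G_m = F_X^[m] ℒ (G_0 = ℒ, G_{m+1} ≅ (F_X^* G_m)^**). If
2 χ(c_1(L_1) ⋯ c_1(L_s) · [ℒ^[m]]) / m^2 → a (so a = D^2 · L_1 ⋯ L_s) and χ(c_1(L_1) ⋯ c_1(L_s) ·
[G_m]) / p^{2m} → b (so b = ∫_X ch_2(ℒ) L_1 ⋯ L_s), the Euler characteristics being the alternating
sums FGA.intNum in the M_i, then a = 2 b: the second Chern number ∫_X c_2(ℒ) L_1 ⋯ L_s = a / 2 - b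
of a rank one reflexive module vanishes. -/
theorem result (k : Type u) [Field k] [IsAlgClosed k] (X : Scheme.{u}) [X.Over (Spec (CommRingCat.of k))]
    [AlgebraicGeometry.IsIntegral X] (hnorm : Pi1.IsNormalScheme X) (s : ℕ) (hdim : topologicalKrullDim X = (s + 2 : ℕ))
    (hproj : ∃ (N : ℕ) (ι : X ⟶ CohB1.ProjSpace N k), IsClosedImmersion ι ∧ ι ≫ CohB1.ProjSpace.toSpec N k = X ↘ Spec (CommRingCat.of k))
    (p : ℕ) [Fact p.Prime] [CharP k p] [FrobSch.IsCharP X p]
    (L M : Fin s → X.Modules) (hL : ∀ i, PicF.IsInvertible (L i))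
    (hLM : ∀ i, Nonempty (CohB1.tensorMod (L i) (M i) ≅ Coh.structureModule X))
    (ℒ : X.Modules) (hℒ : RefHull.IsRef1 ℒ)
    (G : ℕ → X.Modules) (hG0 : G 0 = ℒ)
    (hG : ∀ m, Nonempty (G (m + 1) ≅ RefHull.ddual ((Scheme.Modules.pullback (FrobSch.frob X p)).obj (G m)))) (a b : ℝ)
    (ha : Filter.Tendsto (fun m : ℕ => (2 : ℝ) * (FGA.intNum k X (s + 2) M (RefPow.refPow ℒ m) : ℝ) / ((m : ℝ) ^ 2)) Filter.atTop (nhds a))
    (hb : Filter.Tendsto (fun m : ℕ => (FGA.intNum k X (s + 2) M (G m) : ℝ) / ((p : ℝ) ^ (2 * m))) Filter.atTop (nhds b)) :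
    a = 2 * b := by
  haveI := RefChK0.isProper_of_proj k hproj
  haveI := EulerChar.isLocallyNoetherian k (X := X)
  obtain ⟨δ, hd, hδη⟩ := RefChK0.exists_dimFun k (X := X) (s + 2)
  obtain ⟨σ, hσ⟩ := (Ref1.rankOne_of_isRef1 hℒ).exists_ne_zero
  obtain ⟨b0, hb0⟩ := RefChK0.exists_framed_ref1 hd hnorm hℒ hσ
  have hframe : ∀ m, ∃ bm : Module.Basis (Fin 1) (X.presheaf.stalk (genericPoint X))
      ((G m).presheaf.stalk (genericPoint X)), RefHull.IsRef1 (G m) ∧
      RefChK0.Framed δ (G m) bm fun y => (p : ℤ) ^ m * (- Ref1.ordS ℒ y σ) := by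
    intro m
    induction m with
    | zero =>
      rw [hG0]
      exact ⟨b0, hℒ, by simpa using hb0⟩
    | succ m ih =>
      obtain ⟨bm, hR, hbm⟩ := ih
      obtain ⟨b', hb'⟩ := RefChK0.exists_framed_frob p hd hnorm (hG m).some hbm
      refine ⟨b', ⟨hb'.1, ?_, ?_⟩, ?_⟩
      · have hP := ZClosLib.CohDescent.isCoh_pullback (FrobSch.frob X p) (G m) hR.1
        obtain ⟨hD, hDr⟩ := Ref1.isReflexive_ddual _ hP
        refine (HomShQC.isReflexive_iff_of_isCoh _ hb'.1).mpr fun x => ?_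
        haveI : Module.IsReflexive (X.presheaf.stalk x) ((RefHull.ddual ((Scheme.Modules.pullback
            (FrobSch.frob X p)).obj (G m))).presheaf.stalk x) :=
          (HomShQC.isReflexive_iff_of_isCoh _ hD).mp hDr x
        exact Module.equiv (LinearEquiv.ofBijective _
          (CycLib.Dev.stalkLin_iso_bijective (hG m).some.hom x)).symm
      · exact Ref1.genInvertible_of_isRankOne _ hb'.1
          ⟨((b'.equivFun).trans (LinearEquiv.funUnique (Fin 1) _ _)).symm⟩
      · simpa [pow_succ, mul_comm, mul_assoc, mul_left_comm] using hb'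
  have hiso : ∀ m, Nonempty (G m ≅ RefPow.refPow ℒ (p ^ m)) := fun m => by
    obtain ⟨bm, hR, hbm⟩ := hframe m
    obtain ⟨t, ht, et⟩ := RefChK0.exists_refPow_sec hnorm hℒ hσ (p ^ m)
    refine Ref1.iso_of_ordS_eq hnorm hR (RefChK0.isRef1_refPow hℒ _) (bm.ne_zero 0) ht fun y hy => ?_
    have hy' : δ y + 1 = δ (genericPoint X) := by
      obtain ⟨j, hj, hj'⟩ := CycLib.ringKrullDim_stalk hd y
      rw [ringKrullDim_stalk_eq_coheight, hy] at hj'
      have : j = 1 := by exact_mod_cast hj'.symm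
      omega
    rw [ordS_of_framed hd hnorm hR hbm hy', et y hy, Nat.cast_pow]
    ring
  have hM : ∀ i, PicF.IsInvertible (M i) := fun i => RefChK0.isInvertible_inverse (hL i) (hLM i)
  have hval : ∀ m, FGA.intNum k X (s + 2) M (G m) = FGA.intNum k X (s + 2) M (RefPow.refPow ℒ (p ^ m)) := by
    intro m
    obtain ⟨bm, hR, -⟩ := hframe m
    rw [RefChK0.intNum_eq' k hdim.le M hM (RefChK0.cohLe_top hd hR.1),
      RefChK0.intNum_eq' k hdim.le M hM (RefChK0.cohLe_top hd (RefChK0.isRef1_refPow hℒ _).1),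
      RefChK0.kc_iso (hiso m).some]
  have hp1 : 1 < p := (Fact.out : p.Prime).one_lt
  have h1 := ha.comp (tendsto_pow_atTop_atTop_of_one_lt hp1)
  refine tendsto_nhds_unique h1 ((hb.const_mul 2).congr fun m => ?_)
  rw [Function.comp_apply, hval m, Nat.cast_pow, ← pow_mul, mul_comm m 2, mul_div_assoc]

end Groth.Agent.S17921
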