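import Groth.Statements.S17927
import Groth.Agent.RefChK0.Quad
import Groth.Agent.ExtPowSt.Exists

set_option autoImplicit false
universe u
open CategoryTheory CategoryTheory.Limits AlgebraicGeometry
open RefCh

namespace Groth.Agent.S17927

/-- Let k be an algebraically closed field of characteristic p > 0 and X an integral normal scheme of
dimension 2 admitting a closed immersion into some P^N_k over k; let ω be a coherent reflexive rank
one O_X-module whose restriction to a big open U ⊆ X smooth over k (points outside U have local ring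
of dimension at least 2) is Λ^2 Ω_{U/k}, so ω = O_X(K_X). For coherent reflexive rank one ℱ = O_X(D)
write q(ℱ) = D^2 for the limit of 2 χ(ℱ^[m]) / m^2 (Euler characteristics truncated at degree 2,
FGA.eulerCharLE), ℱ ⊗̂ 𝒢 for the reflexive hull of ℱ ⊗ 𝒢 and ⟨ℱ, 𝒢⟩ = (q(ℱ ⊗̂ 𝒢) - q(ℱ) - q(𝒢)) / 2.
Let c be a real-valued function on O_X-modules such that (1) there is φ : ℕ → ℝ with |χ(E) - ((1/2)
(q(W^**) - ⟨W^**, ω⟩) - c(E) + r χ(O_X))| ≤ φ(r) for every coherent reflexive E whose stalk at the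
generic point has dimension r, with W = Λ^r E (det E = W^**, so q(W^**) - ⟨W^**, ω⟩ = c_1(E) ·
(c_1(E) - K_X)), whenever the three limits q(W^**), q(ω), q(W^** ⊗̂ ω) exist; and (2) c(G_m) =
p^{2m} c(E) for every coherent reflexive E and its reflexive Frobenius pull-backs G_0 = E, G_{m+1} ≅
(F_X^* G_m)^**. Then for every coherent reflexive E of rank r with W = Λ^r E and Frobenius
pull-backs (G_m), if 2 χ((W^**)^[m]) / m^2 → a and χ(G_m) / p^{2m} → b then c(E) = a / 2 - b; that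
is, ∫_X c_2 is uniquely determined by the Riemann–Roch bound and the Frobenius scaling, and equals
(1/2) c_1(E)^2 - lim χ(F_X^[m] E) / p^{2m}. (The published statement is for normal proper surfaces;
it is stated here for X projective, where the intersection numbers of Weil divisors are expressed
through the limits q.) -/
theorem result (k : Type u) [Field k] [IsAlgClosed k] (X : Scheme.{u}) [X.Over (Spec (CommRingCat.of k))]
    [AlgebraicGeometry.IsIntegral X] (hnorm : Pi1.IsNormalScheme X) (hdim : topologicalKrullDim X = 2)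
    (hproj : ∃ (N : ℕ) (ι : X ⟶ CohB1.ProjSpace N k), IsClosedImmersion ι ∧ ι ≫ CohB1.ProjSpace.toSpec N k = X ↘ Spec (CommRingCat.of k))
    (p : ℕ) [Fact p.Prime] [CharP k p] [FrobSch.IsCharP X p]
    (ω : X.Modules) (hω : RefHull.IsRef1 ω) (U : X.Opens) [QuasiSeparated (U.ι ≫ (X ↘ Spec (CommRingCat.of k)))]
    (hUsm : Smooth (U.ι ≫ (X ↘ Spec (CommRingCat.of k))))
    (hUbig : ∀ x : X, x ∉ U → (2 : WithBot ℕ∞) ≤ ringKrullDim (X.presheaf.stalk x))
    (hωU : ExtPow.IsExtPow 2 (Omega.sheaf (U.ι ≫ (X ↘ Spec (CommRingCat.of k)))) (ω.restrict U.ι))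
    (c : X.Modules → ℝ)
    (h1 : ∃ φ : ℕ → ℝ, ∀ (r : ℕ) (E : X.Modules), Coh.IsCoh E → RefHull.IsReflexive E → Module.finrank (X.presheaf.stalk (genericPoint X)) (E.presheaf.stalk (genericPoint X)) = r →
      ∀ (W : X.Modules), ExtPow.IsExtPow r E W → ∀ (qE qω qEω : ℝ),
        Filter.Tendsto (fun m : ℕ => (2 : ℝ) * (FGA.eulerCharLE k X (RefPow.refPow (RefHull.ddual W) m) 2 : ℝ) / ((m : ℝ) ^ 2)) Filter.atTop (nhds qE) →
        Filter.Tendsto (fun m : ℕ => (2 : ℝ) * (FGA.eulerCharLE k X (RefPow.refPow ω m) 2 : ℝ) / ((m : ℝ) ^ 2)) Filter.atTop (nhds qω) →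
        Filter.Tendsto (fun m : ℕ => (2 : ℝ) * (FGA.eulerCharLE k X (RefPow.refPow (RefPow.refTensor (RefHull.ddual W) ω) m) 2 : ℝ) / ((m : ℝ) ^ 2)) Filter.atTop (nhds qEω) →
        |(FGA.eulerCharLE k X E 2 : ℝ) - ((1 / 2 : ℝ) * (qE - (qEω - qE - qω) / 2) - c E + (r : ℝ) * (FGA.eulerCharLE k X (Coh.structureModule X) 2 : ℝ))| ≤ φ r)
    (h2 : ∀ (E : X.Modules), Coh.IsCoh E → RefHull.IsReflexive E →
      ∀ (G : ℕ → X.Modules), G 0 = E →
        (∀ m, Nonempty (G (m + 1) ≅ RefHull.ddual ((Scheme.Modules.pullback (FrobSch.frob X p)).obj (G m)))) →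
        ∀ m, c (G m) = (p : ℝ) ^ (2 * m) * c E)
    (r : ℕ) (E : X.Modules) (hE : Coh.IsCoh E) (hEr : RefHull.IsReflexive E) (hrk : Module.finrank (X.presheaf.stalk (genericPoint X)) (E.presheaf.stalk (genericPoint X)) = r)
    (W : X.Modules) (hW : ExtPow.IsExtPow r E W)
    (G : ℕ → X.Modules) (hG0 : G 0 = E)
    (hG : ∀ m, Nonempty (G (m + 1) ≅ RefHull.ddual ((Scheme.Modules.pullback (FrobSch.frob X p)).obj (G m)))) (a b : ℝ)
    (ha : Filter.Tendsto (fun m : ℕ => (2 : ℝ) * (FGA.eulerCharLE k X (RefPow.refPow (RefHull.ddual W) m) 2 : ℝ) / ((m : ℝ) ^ 2)) Filter.atTop (nhds a))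
    (hb : Filter.Tendsto (fun m : ℕ => (FGA.eulerCharLE k X (G m) 2 : ℝ) / ((p : ℝ) ^ (2 * m))) Filter.atTop (nhds b)) :
    c E = a / 2 - b := by
  haveI := RefChK0.isProper_of_proj k hproj
  haveI := EulerChar.isLocallyNoetherian k (X := X)
  haveI := EulerChar.isNoetherian k (X := X)
  obtain ⟨N, ι, hι, -⟩ := hproj
  haveI := hι
  obtain ⟨δ, hd, hδη⟩ := RefChK0.exists_dimFun k (X := X) 2
  have hdim' : topologicalKrullDim X = ((2 : ℕ) : WithBot ℕ∞) := hdim.trans (by norm_cast)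
  let Z := RefChK0.chiHom k δ (δ (genericPoint X)) hdim'.le
  have hZ : ∀ x ∈ RefChK0.filt δ (δ (genericPoint X)) (δ (genericPoint X) - 3), Z x = 0 := fun x hx => by
    rw [RefChK0.eq_zero_of_mem_filt (fun y => by
      have := RefChK0.δ_nonneg hd hdim' hδη y
      push_cast at hδη
      omega) hx, map_zero]
  have hample := Groth.Agent.ProjMorph.isAmple_pullback_twist_of_isAffineHom
    (ι : X ⟶ Proj (CohB1.polyGrading N k)) (inferInstanceAs (IsAffineHom ι))
  obtain ⟨B, hB, hmem⟩ := RefChK0.finite_tri Z hnorm hd hZ k hample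
  obtain ⟨C, hC⟩ := (hB.image fun z => |z|).bddAbove
  let Φ : (X → ℤ) → ℤ := fun D => Z (RefChK0.kd δ D)
  have hΦ : ∀ {D D' D'' : X → ℤ}, RefChK0.IsDiv D → RefChK0.IsDiv D' → RefChK0.IsDiv D'' →
      |RefChK0.tri3 Φ D D' D''| ≤ C := fun h h' h'' => hC ⟨_, hmem _ _ _ h h' h'', rfl⟩
  -- divisors of reflexive powers
  have hval : ∀ {F : X.Modules} {σ : F.presheaf.stalk (genericPoint X)}, RefHull.IsRef1 F → σ ≠ 0 →
      ∀ (D : X → ℤ), (∀ y, Order.coheight y = 1 → D y = Ref1.ordS F y σ) → ∀ n : ℕ,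
        RefChK0.IsDiv ((n : ℤ) • D) ∧
          FGA.eulerCharLE k X (RefPow.refPow F n) 2 = Φ ((n : ℤ) • D) := by
    intro F σ hF hσ D hD n
    obtain ⟨t, ht, et⟩ := RefChK0.exists_refPow_sec hnorm hF hσ n
    have hR := RefChK0.isRef1_refPow hF n
    have he : ∀ y, Order.coheight y = 1 → Ref1.ordS (RefPow.refPow F n) y t = ((n : ℤ) • D) y :=
      fun y hy => by rw [et y hy, Pi.smul_apply, hD y hy, smul_eq_mul]
    refine ⟨⟨_, t, hR, ht, he⟩, ?_⟩
    simp only [Φ]
    rw [RefChK0.kd_eq hnorm hR ht he]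
    exact (RefChK0.chiHom_kc k hdim'.le (RefChK0.cohLe_top hd hR.1)).symm
  have hex : ∀ D : X → ℤ, RefChK0.IsDiv D → ∃ q : ℝ,
      Filter.Tendsto (fun n : ℕ => (2 : ℝ) * (Φ ((n : ℤ) • D) : ℝ) / (n : ℝ) ^ 2) Filter.atTop (nhds q) := by
    rintro D ⟨F, σ, hF, hσ, eD⟩
    have hn := fun n => (hval hF hσ D (fun y hy => (eD y hy).symm) n).1
    exact RefChK0.exists_lim_sq Φ D fun m n => hΦ (hn m) (hn n) ⟨F, σ, hF, hσ, eD⟩
  -- framings of the pull-backs
  have hrefl : ∀ m, Coh.IsCoh (G m) ∧ RefHull.IsReflexive (G m) := by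
    intro m
    induction m with
    | zero => exact hG0 ▸ ⟨hE, hEr⟩
    | succ m ih =>
      obtain ⟨e⟩ := hG m
      obtain ⟨hR, hRr⟩ := Ref1.isReflexive_ddual _ (ZClosLib.CohDescent.isCoh_pullback (FrobSch.frob X p) (G m) ih.1)
      have hc := CohDev.isCoh_of_iso e.symm hR
      refine ⟨hc, (HomShQC.isReflexive_iff_of_isCoh _ hc).mpr fun x => ?_⟩
      haveI : Module.IsReflexive (X.presheaf.stalk x)
          ((RefHull.ddual ((Scheme.Modules.pullback (FrobSch.frob X p)).obj (G m))).presheaf.stalk x) :=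
        (HomShQC.isReflexive_iff_of_isCoh _ hR).mp hRr x
      exact Module.equiv (LinearEquiv.ofBijective _ (CycLib.Dev.stalkLin_iso_bijective e.inv x))
  have htf : ∀ m, TorSh.IsTorsionFree (G m) := fun m x => by
    haveI : Module.IsReflexive (X.presheaf.stalk x) ((G m).presheaf.stalk x) :=
      (HomShQC.isReflexive_iff_of_isCoh _ (hrefl m).1).mp (hrefl m).2 x
    haveI : Module.IsTorsionFree (X.presheaf.stalk x) (Module.Dual (X.presheaf.stalk x)
        (Module.Dual (X.presheaf.stalk x) ((G m).presheaf.stalk x))) := inferInstance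
    exact (Module.bijective_dual_eval (X.presheaf.stalk x) ((G m).presheaf.stalk x)).1.moduleIsTorsionFree _
      (Module.Dual.eval _ _).map_smul
  obtain ⟨φW, hφW⟩ := hW
  let ΦW : ExtPowSt.Sys r E W := ⟨φW, hφW⟩
  haveI := hE.1
  haveI := HomShQC.finite_stalk E hE.2 (genericPoint X)
  obtain ⟨b₀⟩ : Nonempty (Module.Basis (Fin r) (X.presheaf.stalk (genericPoint X)) (E.presheaf.stalk (genericPoint X))) := by
    letI : Field (X.presheaf.stalk (genericPoint X)) := inferInstanceAs (Field X.functionField)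
    exact ⟨Module.finBasisOfFinrankEq _ _ hrk⟩
  let σ := ExtPowSt.sη ΦW ⇑b₀
  have hWc : Coh.IsCoh W := ExtPowSt.isCoh ΦW hE
  have hWr := Ref1.isRef1_ddual W hWc (ExtPowSt.isRankOne_extPow ΦW b₀)
  have hσ : σ ≠ 0 := fun h =>
    ExtPowSt.wη_ne_zero ΦW b₀ ((Ref1.bijective_bidual_η W hWc).1 (h.trans (map_zero _).symm))
  let D : X → ℤ := fun y => Ref1.ordS (RefHull.ddual W) y σ
  have hframe : ∀ m, ∃ bm : Module.Basis (Fin r) (X.presheaf.stalk (genericPoint X)) ((G m).presheaf.stalk (genericPoint X)),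
      RefChK0.Framed δ (G m) bm fun y => -((p : ℤ) ^ m * D y) := by
    intro m
    induction m with
    | zero =>
      have h := RefChK0.framed_det hd hnorm hE (hG0 ▸ htf 0) ΦW b₀
      rw [hG0]
      refine ⟨b₀, ?_⟩
      simpa [D, σ] using h
    | succ m ih =>
      obtain ⟨bm, hbm⟩ := ih
      obtain ⟨e⟩ := hG m
      obtain ⟨b', hb'⟩ := RefChK0.exists_framed_frob p hd hnorm e hbm
      refine ⟨b', ?_⟩
      convert hb' using 2 with y
      rw [pow_succ]
      ring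
  -- the bound at each stage
  obtain ⟨ψ, hψ⟩ := h1
  obtain ⟨τ, hτ⟩ := (Ref1.rankOne_of_isRef1 hω).exists_ne_zero
  let K : X → ℤ := fun y => Ref1.ordS ω y τ
  have hDdiv : RefChK0.IsDiv D := ⟨_, σ, hWr, hσ, fun _ _ => rfl⟩
  have hKdiv : RefChK0.IsDiv K := ⟨_, τ, hω, hτ, fun _ _ => rfl⟩
  obtain ⟨qω, hqω⟩ := hex K hKdiv
  have hqD : Filter.Tendsto (fun n : ℕ => (2 : ℝ) * (Φ ((n : ℤ) • D) : ℝ) / (n : ℝ) ^ 2) Filter.atTop (nhds a) := by
    simpa only [fun n => (hval hWr hσ D (fun _ _ => rfl) n).2] using ha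
  have hmul : ∀ c : ℕ, RefChK0.IsDiv ((c : ℤ) • D) := fun c => (hval hWr hσ D (fun _ _ => rfl) c).1
  have hmulK : ∀ c : ℕ, RefChK0.IsDiv ((c : ℤ) • D + K) := fun c => (hmul c).add hnorm hKdiv
  choose qK hqK using fun c : ℕ => hex _ (hmulK c)
  -- the mixed coefficient is linear
  have hlin : ∀ c : ℕ, qK c - (c : ℝ) ^ 2 * a - qω = (c : ℝ) * (qK 1 - a - qω) := by
    intro c
    induction c with
    | zero =>
      have h0 := hqK 0
      rw [Nat.cast_zero, zero_smul, zero_add] at h0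
      rw [tendsto_nhds_unique h0 hqω]
      simp
    | succ c ih =>
      rcases Nat.eq_zero_or_pos c with rfl | hc
      · simp
      have hc1 : Filter.Tendsto (fun n : ℕ => (2 : ℝ) * (Φ ((n : ℤ) • ((c : ℤ) • D)) : ℝ) / (n : ℝ) ^ 2) Filter.atTop
          (nhds ((c : ℝ) ^ 2 * a)) := RefChK0.lim_sq_nsmul Φ D hc hqD
      have hc2 := RefChK0.lim_sq_nsmul Φ D (c := c + 1) (by omega) hqD
      have hK2 := hqK (c + 1)
      have hK1 := hqK 1
      rw [Nat.cast_succ, add_smul, one_smul] at hK2 hc2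
      rw [Nat.cast_one, one_smul] at hK1
      have hl := (((((hK2.sub hc2).sub (hqK c)).sub hK1).add hc1).add hqD).add hqω
      have h0 : qK (c + 1) - (((c + 1 : ℕ) : ℝ)) ^ 2 * a - qK c - qK 1 + (c : ℝ) ^ 2 * a + a + qω = 0 := by
        refine tendsto_nhds_unique hl (squeeze_zero_norm'
          (a := fun n : ℕ => 2 * ((C : ℝ) + |(Φ 0 : ℝ)|) / (n : ℝ) ^ 2) ?_
          (tendsto_const_nhds.div_atTop ((Filter.tendsto_pow_atTop two_ne_zero).comp tendsto_natCast_atTop_atTop)))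
        refine Filter.Eventually.of_forall fun n => ?_
        have hd₁ := (hval hWr hσ D (fun _ _ => rfl) (n * c)).1
        rw [Nat.cast_mul, mul_smul] at hd₁
        have hKs : RefChK0.IsDiv ((n : ℤ) • K) := (hval hω hτ K (fun _ _ => rfl) n).1
        have hn := (Int.cast_le (R := ℝ)).2 (hΦ hd₁ (hmul n) hKs)
        simp only [RefChK0.tri3, ← smul_add] at hn
        push_cast at hn
        rw [Real.norm_eq_abs]
        simp only [← sub_div, ← add_div, ← mul_sub, ← mul_add]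
        rw [abs_div, abs_mul, abs_two, abs_pow, Nat.abs_cast]
        gcongr
        have h1 := abs_add_le ((Φ ((n : ℤ) • ((c : ℤ) • D + D + K)) : ℝ) - Φ ((n : ℤ) • ((c : ℤ) • D + D)) -
          Φ ((n : ℤ) • ((c : ℤ) • D + K)) - Φ ((n : ℤ) • (D + K)) + Φ ((n : ℤ) • (c : ℤ) • D) +
          Φ ((n : ℤ) • D) + Φ ((n : ℤ) • K) - Φ 0) (Φ 0 : ℝ)
        rw [sub_add_cancel] at h1
        linarith
      push_cast at h0 ih ⊢
      linarith
  have hbound : ∀ m : ℕ, |(FGA.eulerCharLE k X (G m) 2 : ℝ) - ((1 / 2 : ℝ) * (((p : ℝ) ^ m) ^ 2 * a -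
      (p : ℝ) ^ m * (qK 1 - a - qω) / 2) - (p : ℝ) ^ (2 * m) * c E +
      (r : ℝ) * (FGA.eulerCharLE k X (Coh.structureModule X) 2 : ℝ))| ≤ ψ r := by
    intro m
    obtain ⟨bm, hbm⟩ := hframe m
    haveI := (hrefl m).1.1
    obtain ⟨Wm, hWm⟩ := ExtPowSt.Exists.exists_isExtPow r (G m)
    obtain ⟨φm, hφm⟩ := hWm
    let Φm : ExtPowSt.Sys r (G m) Wm := ⟨φm, hφm⟩
    let σm := ExtPowSt.sη Φm ⇑bm
    have hWmc : Coh.IsCoh Wm := ExtPowSt.isCoh Φm (hrefl m).1
    have hWmr := Ref1.isRef1_ddual Wm hWmc (ExtPowSt.isRankOne_extPow Φm bm)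
    have hσm : σm ≠ 0 := fun h =>
      ExtPowSt.wη_ne_zero Φm bm ((Ref1.bijective_bidual_η Wm hWmc).1 (h.trans (map_zero _).symm))
    have hdet := RefChK0.framed_det hd hnorm (hrefl m).1 (htf m) Φm bm
    have hD : ∀ y, Order.coheight y = 1 →
        (((p ^ m : ℕ) : ℤ) • D) y = Ref1.ordS (RefHull.ddual Wm) y σm := fun y hy => by
      have := RefChK0.Framed.unique hd hbm hdet (RefChK0.δ_of_coheight_one hd hy)
      simp only [neg_inj] at this
      rw [Pi.smul_apply, smul_eq_mul, Nat.cast_pow]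
      exact this
    have hpm : 0 < p ^ m := pow_pos (Fact.out (p := p.Prime)).pos m
    obtain ⟨hR, hne, eR⟩ := Ref1.tensorSec_spec hnorm hWmr hω hσm hτ
    have hrk' : Module.finrank (X.presheaf.stalk (genericPoint X)) ((G m).presheaf.stalk (genericPoint X)) = r := by
      letI : Field (X.presheaf.stalk (genericPoint X)) := inferInstanceAs (Field X.functionField)
      rw [Module.finrank_eq_card_basis bm, Fintype.card_fin]
    have h := hψ r (G m) (hrefl m).1 (hrefl m).2 hrk' Wm ⟨φm, hφm⟩ (((p ^ m : ℕ) : ℝ) ^ 2 * a) qω (qK (p ^ m)) ?_ ?_ ?_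
    rotate_left
    · simp only [fun n => (hval hWmr hσm _ hD n).2]
      exact RefChK0.lim_sq_nsmul Φ D hpm hqD
    · simp only [fun n => (hval hω hτ K (fun _ _ => rfl) n).2]
      exact hqω
    · have hDK : ∀ y, Order.coheight y = 1 → (((p ^ m : ℕ) : ℤ) • D + K) y =
          Ref1.ordS (RefHull.ddual (CohB1.tensorMod (RefHull.ddual Wm) ω)) y
            (Ref1.tensorSec (RefHull.ddual Wm) ω σm τ) := fun y hy => by
        rw [eR y hy, Pi.add_apply, hD y hy]
      have := fun n => (hval hR hne _ hDK n).2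
      simp only [RefPow.refTensor] at this ⊢
      simp only [this]
      exact hqK (p ^ m)
    rw [h2 E hE hEr G hG0 hG m, hlin (p ^ m)] at h
    push_cast at h
    exact h
  -- the limit
  have hp0 : (0 : ℝ) < p := by exact_mod_cast (Fact.out (p := p.Prime)).pos
  have hp1 : (1 : ℝ) < p := by exact_mod_cast (Fact.out (p := p.Prime)).one_lt
  have hgrow : Filter.Tendsto (fun m : ℕ => (p : ℝ) ^ m) Filter.atTop Filter.atTop :=
    tendsto_pow_atTop_atTop_of_one_lt hp1
  set γ := (qK 1 - a - qω) / 2 with hγ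
  set χ₀ : ℝ := (r : ℝ) * (FGA.eulerCharLE k X (Coh.structureModule X) 2 : ℝ) with hχ₀
  have hlim : Filter.Tendsto (fun m : ℕ => (FGA.eulerCharLE k X (G m) 2 : ℝ) / ((p : ℝ) ^ (2 * m)))
      Filter.atTop (nhds (a / 2 - c E)) := by
    rw [← tendsto_sub_nhds_zero_iff]
    refine squeeze_zero_norm' (a := fun m : ℕ => (|γ| + |ψ r| + |χ₀|) / (p : ℝ) ^ m) ?_
      (tendsto_const_nhds.div_atTop hgrow)
    refine Filter.Eventually.of_forall fun m => ?_
    have h := hbound m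
    have hP : (1 : ℝ) ≤ (p : ℝ) ^ m := one_le_pow₀ hp1.le
    rw [pow_mul', mul_div_assoc, ← hγ] at h
    rw [Real.norm_eq_abs, pow_mul']
    generalize (p : ℝ) ^ m = P at h hP ⊢
    generalize (FGA.eulerCharLE k X (G m) 2 : ℝ) = V at h ⊢
    have hPpos : 0 < P := lt_of_lt_of_le one_pos hP
    rw [div_sub' (by positivity), abs_div, abs_of_pos (show (0 : ℝ) < P ^ 2 by positivity),
      div_le_div_iff₀ (by positivity) hPpos]
    have a1 := mul_le_mul_of_nonneg_left (le_abs_self γ) hPpos.le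
    have a2 := mul_le_mul_of_nonneg_left (neg_abs_le γ) hPpos.le
    have a3 := le_mul_of_one_le_right (abs_nonneg (ψ r)) hP
    have a4 := le_mul_of_one_le_right (abs_nonneg χ₀) hP
    have a5 := mul_nonneg hPpos.le (abs_nonneg γ)
    have key : |V - P ^ 2 * (a / 2 - c E)| ≤ (|γ| + |ψ r| + |χ₀|) * P := by
      rw [abs_le] at h ⊢
      constructor <;> linarith [h.1, h.2, le_abs_self (ψ r), le_abs_self χ₀, neg_abs_le χ₀]
    calc |V - P ^ 2 * (a / 2 - c E)| * P ≤ (|γ| + |ψ r| + |χ₀|) * P * P := by gcongr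
      _ = (|γ| + |ψ r| + |χ₀|) * P ^ 2 := by ring
  have := tendsto_nhds_unique hb hlim
  linarith

end Groth.Agent.S17927
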