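import Groth.Statements.S17930
import Groth.Agent.RefChBC.PullDual
import Groth.Agent.Snapper.Basic
import Groth.Agent.Snapper.BaseChange
import Groth.Agent.ProjProper.Basic
import Groth.Agent.AmpCrit.NegVan
-- import your own Groth.Agent.* helpers here

set_option autoImplicit false
universe u
open CategoryTheory CategoryTheory.Limits AlgebraicGeometry
open RefCh

namespace Groth.Agent.S17930

/-- Base change of intersection numbers of a coherent module against invertible modules, in any degree. -/
theorem intNum_baseChange (k K : Type u) [Field k] [Field K] [Algebra k K] (X : Scheme.{u})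
    [X.Over (Spec (CommRingCat.of k))] [IsProper (X ↘ Spec (CommRingCat.of k))]
    (d : ℕ) {r : ℕ} (M : Fin r → X.Modules) (hM : ∀ i, PicF.IsInvertible (M i))
    (F : X.Modules) (hF : Coh.IsCoh F) :
    @FGA.intNum K _ (Curv2.bc k X K) ⟨Curv2.bcSnd k X K⟩ d r
        (fun i => (Scheme.Modules.pullback (Curv2.bcFst k X K)).obj (M i))
        ((Scheme.Modules.pullback (Curv2.bcFst k X K)).obj F) =
      FGA.intNum k X d M F := by
  haveI := Groth.Agent.EulerChar.isNoetherian k (X := X)
  let g := Spec.map (CommRingCat.ofHom (algebraMap k K))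
  let p := pullback.fst (X ↘ Spec (CommRingCat.of k)) g
  letI : (pullback (X ↘ Spec (CommRingCat.of k)) g).Over (Spec (CommRingCat.of K)) := ⟨pullback.snd _ _⟩
  refine Finset.sum_congr rfl fun I _ => congrArg _ ?_
  set l := (I.sort (· ≤ ·)).map M with hl
  have hT : PicF.IsInvertible (FGA.tensorList l) := Groth.Agent.Snapper.isInvertible_tensorList
    fun N hN => by
      obtain ⟨i, -, rfl⟩ := List.mem_map.1 hN
      exact hM i
  obtain ⟨e⟩ := Groth.Agent.Snapper.pullback_tensorList p l
  have e' : (Scheme.Modules.pullback p).obj (CohB1.tensorMod (FGA.tensorList l) F) ≅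
      CohB1.tensorMod (FGA.tensorList ((I.sort (· ≤ ·)).map fun i => (Scheme.Modules.pullback p).obj (M i)))
        ((Scheme.Modules.pullback p).obj F) :=
    Groth.Agent.KFlat.PullTensor.pullTensorIso p (FGA.tensorList l) F ≪≫
      Groth.Agent.ProjTwist.tensCongr (e ≪≫ eqToIso (by rw [hl, List.map_map]; rfl)) (Iso.refl _)
  refine Finset.sum_congr rfl fun i _ => congrArg _ (congrArg _ ?_)
  exact (Groth.Agent.Snapper.finrank_HH_iso K e' i).symm.trans
    (Groth.Agent.CMReg.finrank_baseChange (f := X ↘ Spec (CommRingCat.of k)) p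
      (pullback.snd _ g) (IsPullback.of_hasPullback _ g) _
      (Groth.Agent.Snapper.isCoh_tensorMod k hT hF) i)

/-- Intersection numbers depend on the last module up to isomorphism. -/
theorem intNum_congr (k : Type u) [Field k] (Y : Scheme.{u}) [Y.Over (Spec (CommRingCat.of k))]
    (d : ℕ) {r : ℕ} (M : Fin r → Y.Modules) {F G : Y.Modules} (e : F ≅ G) :
    FGA.intNum k Y d M F = FGA.intNum k Y d M G := by
  refine Finset.sum_congr rfl fun I _ => congrArg _ ?_
  refine Finset.sum_congr rfl fun i _ => congrArg _ (congrArg _ ?_)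
  exact Groth.Agent.Snapper.finrank_HH_iso k (Groth.Agent.ProjTwist.tensCongr (Iso.refl _) e) i

/-- Let k be an algebraically closed field of characteristic p > 0, X an integral normal scheme of
dimension s + 2 admitting a closed immersion into some P^N_k over k, L_1, …, L_s invertible
O_X-modules with inverses M_1, …, M_s, E a coherent reflexive O_X-module and (G_m) its reflexive
Frobenius pull-backs (G_0 = E, G_{m+1} ≅ (F_X^* G_m)^**). Let K ⊇ k be an algebraically closed
extension field, X_K = X ×_k Spec K with projection π : X_K → X, and (G'_m) reflexive Frobenius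
pull-backs of E_K = π^*E on X_K (G'_0 = π^*E, G'_{m+1} ≅ (F_{X_K}^* G'_m)^**). If χ(c_1(L_1) ⋯
c_1(L_s) · [G_m]) / p^{2m} → b (alternating sums FGA.intNum over k in the M_i) and χ(c_1(π^*L_1) ⋯
c_1(π^*L_s) · [G'_m]) / p^{2m} → b' (alternating sums FGA.intNum over K in the π^*M_i), then b' = b:
the number ∫_X ch_2(E) L_1 ⋯ L_s is unchanged by algebraically closed base field extension. -/
theorem result (k : Type u) [Field k] [IsAlgClosed k] (X : Scheme.{u}) [X.Over (Spec (CommRingCat.of k))]
    [AlgebraicGeometry.IsIntegral X] (hnorm : Pi1.IsNormalScheme X) (s : ℕ) (hdim : topologicalKrullDim X = (s + 2 : ℕ))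
    (hproj : ∃ (N : ℕ) (ι : X ⟶ CohB1.ProjSpace N k), IsClosedImmersion ι ∧ ι ≫ CohB1.ProjSpace.toSpec N k = X ↘ Spec (CommRingCat.of k))
    (p : ℕ) [Fact p.Prime] [CharP k p] [FrobSch.IsCharP X p]
    (L M : Fin s → X.Modules) (hL : ∀ i, PicF.IsInvertible (L i))
    (hLM : ∀ i, Nonempty (CohB1.tensorMod (L i) (M i) ≅ Coh.structureModule X))
    (E : X.Modules) (hE : Coh.IsCoh E) (hEr : RefHull.IsReflexive E)
    (G : ℕ → X.Modules) (hG0 : G 0 = E)
    (hG : ∀ m, Nonempty (G (m + 1) ≅ RefHull.ddual ((Scheme.Modules.pullback (FrobSch.frob X p)).obj (G m)))) (b : ℝ)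
    (hb : Filter.Tendsto (fun m : ℕ => (FGA.intNum k X (s + 2) M (G m) : ℝ) / ((p : ℝ) ^ (2 * m))) Filter.atTop (nhds b))
    (K : Type u) [Field K] [IsAlgClosed K] [Algebra k K] [FrobSch.IsCharP (Curv2.bc k X K) p]
    (G' : ℕ → (Curv2.bc k X K).Modules) (hG'0 : G' 0 = (Scheme.Modules.pullback (Curv2.bcFst k X K)).obj E)
    (hG' : ∀ m, Nonempty (G' (m + 1) ≅ RefHull.ddual ((Scheme.Modules.pullback (FrobSch.frob (Curv2.bc k X K) p)).obj (G' m))))
    (b' : ℝ)
    (hb' : letI : (Curv2.bc k X K).Over (Spec (CommRingCat.of K)) := ⟨Curv2.bcSnd k X K⟩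
      Filter.Tendsto (fun m : ℕ => (FGA.intNum K (Curv2.bc k X K) (s + 2) (fun i => (Scheme.Modules.pullback (Curv2.bcFst k X K)).obj (M i)) (G' m) : ℝ) / ((p : ℝ) ^ (2 * m))) Filter.atTop (nhds b')) :
    b' = b := by
  haveI : IsProper (X ↘ Spec (CommRingCat.of k)) := by
    obtain ⟨N, ι, hι, e⟩ := hproj
    haveI := hι
    haveI : IsProper (CohB1.ProjSpace.toSpec N k) := Groth.Agent.ProjProper.Basic.isProper_toSpec N k
    rw [← e]
    infer_instance
  haveI : IsLocallyNoetherian X := LocallyOfFiniteType.isLocallyNoetherian (X ↘ Spec (CommRingCat.of k))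
  haveI : IsProper (Curv2.bcSnd k X K) := inferInstance
  haveI : IsLocallyNoetherian (Curv2.bc k X K) := LocallyOfFiniteType.isLocallyNoetherian (Curv2.bcSnd k X K)
  haveI : Flat (Spec.map (CommRingCat.ofHom (algebraMap k K))) := by
    rw [HasRingHomProperty.Spec_iff (P := @Flat)]
    exact RingHom.flat_algebraMap_iff.mpr inferInstance
  haveI : Flat (Curv2.bcFst k X K) := inferInstance
  have hM : ∀ i, PicF.IsInvertible (M i) := fun i =>
    (hLM i).elim fun e => Groth.Agent.AmpCrit.NegVan.isInvertible_of_inverse (hL i) e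
  have hGc : ∀ m, Coh.IsCoh (G m) := by
    intro m
    induction m with
    | zero => rwa [hG0]
    | succ m ih =>
      obtain ⟨e⟩ := hG m
      exact Groth.Agent.CohDev.isCoh_of_iso e.symm (Groth.Agent.HomShQC.isCoh_dual _
        (Groth.Agent.HomShQC.isCoh_dual _ (Groth.Agent.ZClosLib.CohDescent.isCoh_pullback _ _ ih)))
  have hiso : ∀ m, Nonempty (G' m ≅ (Scheme.Modules.pullback (Curv2.bcFst k X K)).obj (G m)) := by
    intro m
    induction m with
    | zero => exact ⟨eqToIso (by rw [hG'0, hG0])⟩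
    | succ m ih =>
      obtain ⟨e⟩ := ih
      obtain ⟨eG⟩ := hG m
      obtain ⟨eG'⟩ := hG' m
      let π := Curv2.bcFst k X K
      let FX := FrobSch.frob X p
      let FK := FrobSch.frob (Curv2.bc k X K) p
      let e1 : (Scheme.Modules.pullback FK).obj (G' m) ≅
          (Scheme.Modules.pullback π).obj ((Scheme.Modules.pullback FX).obj (G m)) :=
        (Scheme.Modules.pullback FK).mapIso e ≪≫ (Scheme.Modules.pullbackComp FK π).app (G m) ≪≫
          (Scheme.Modules.pullbackCongr (FrobSch.frob_comp p π)).app (G m) ≪≫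
          ((Scheme.Modules.pullbackComp π FX).app (G m)).symm
      exact ⟨eG' ≪≫ Groth.Agent.RefChBC.dualIso (Groth.Agent.RefChBC.dualIso e1) ≪≫
        (Groth.Agent.RefChBC.pullDDual π (Groth.Agent.ZClosLib.CohDescent.isCoh_pullback FX _ (hGc m))).symm ≪≫
        (Scheme.Modules.pullback π).mapIso eG.symm⟩
  letI : (Curv2.bc k X K).Over (Spec (CommRingCat.of K)) := ⟨Curv2.bcSnd k X K⟩
  have hnum : ∀ m, FGA.intNum K (Curv2.bc k X K) (s + 2)
      (fun i => (Scheme.Modules.pullback (Curv2.bcFst k X K)).obj (M i)) (G' m) = FGA.intNum k X (s + 2) M (G m) := by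
    intro m
    obtain ⟨e⟩ := hiso m
    rw [intNum_congr K _ _ _ e]
    exact intNum_baseChange k K X (s + 2) M hM (G m) (hGc m)
  refine tendsto_nhds_unique ?_ hb
  refine hb'.congr fun m => ?_
  rw [hnum m]

end Groth.Agent.S17930
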