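import Groth.Statements.S17933
import Groth.Agent.MultCrvLib.Basic
-- import your own Groth.Agent.* helpers here

set_option autoImplicit false
universe u
open MultCrv

namespace Groth.Agent.S17933

/-- Let R be a discrete valuation ring, n ≥ 1, A = R[X]/(X^n) with z the class of X, and M a finitely
generated A-module. Then M is torsion-free as an R-module if and only if the submodule M^(1) of
elements killed by z is a free R-module. (This is the statement at a closed point of the sheaf
statement: for a primitive multiple curve of multiplicity n the local ring at a closed point is of
the form R[X]/(X^n) with R the local ring of the reduced smooth curve, torsion-freeness is the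
absence of sections with finite support, and local freeness on the reduced curve is freeness of the
stalk; the row is stated for every discrete valuation ring R.) -/
theorem result (R : Type u) [CommRing R] [IsDomain R] [IsDiscreteValuationRing R] (n : ℕ) (hn : 1 ≤ n) (M : Type u) [AddCommGroup M] [Module (MultCrv.Rn R n) M] [Module R M] [IsScalarTower R (MultCrv.Rn R n) M] [Module.Finite (MultCrv.Rn R n) M] : Module.IsTorsionFree R M ↔ Module.Free R ↥(MultCrv.filt2 R n M 1) := by
  have hM : Module.Finite R M := Groth.Agent.MultCrvLib.finite_R (n := n)
  have hK : Module.Finite R ↥(MultCrv.filt2 R n M 1) :=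
    Module.Finite.iff_fg.2 (IsNoetherian.noetherian ((MultCrv.filt2 R n M 1).restrictScalars R))
  constructor
  · intro h
    have : Module.IsTorsionFree R ↥(MultCrv.filt2 R n M 1) := by
      refine Module.IsTorsionFree.of_smul_eq_zero fun r x hx => ?_
      have := congrArg Subtype.val hx
      simp only [Submodule.coe_smul_of_tower, Submodule.coe_zero, smul_eq_zero] at this
      exact this.imp_right fun h => Subtype.ext h
    infer_instance
  · intro h
    refine Module.IsTorsionFree.of_smul_eq_zero fun r x hx => ?_
    by_cases hr : r = 0
    · exact Or.inl hr
    refine Or.inr ?_
    have key : ∀ k : ℕ, MultCrv.z R n ^ k • x = 0 → x = 0 := by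
      intro k
      induction k with
      | zero => intro hk; rwa [pow_zero, one_smul] at hk
      | succ k ih =>
        intro hk
        refine ih ?_
        have hmem : MultCrv.z R n ^ k • x ∈ MultCrv.filt2 R n M 1 := by
          rw [MultCrv.filt2, Submodule.mem_torsionBy_iff, pow_one, smul_smul, ← pow_succ', hk]
        have h0 : r • (⟨_, hmem⟩ : ↥(MultCrv.filt2 R n M 1)) = 0 :=
          Subtype.ext (by simp only [Submodule.coe_smul_of_tower, Submodule.coe_zero]; rw [smul_comm, hx, smul_zero])
        exact congrArg Subtype.val ((smul_eq_zero.1 h0).resolve_left hr)
    exact key n (Groth.Agent.MultCrvLib.z_pow_smul_eq_zero le_rfl x)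

end Groth.Agent.S17933
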