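import Groth.Statements.S17934
import Groth.Agent.MultCrvLib.Basic
-- import your own Groth.Agent.* helpers here

set_option autoImplicit false
universe u
open MultCrv

namespace Groth.Agent.S17934

/-- Let R be a discrete valuation ring, n ≥ 1, A = R[X]/(X^n) with z the class of X, and M a finitely
generated A-module that is torsion-free as an R-module. Then for 1 ≤ i ≤ n the graded piece
M^(i)/M^(i-1) of the second canonical filtration (M^(i) the elements killed by z^i) is a free
R-module. (Statement at a closed point of the sheaf statement on a primitive multiple curve of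
multiplicity n, whose local rings are of the form R[X]/(X^n) with R the local ring of the reduced
smooth curve; stated for every discrete valuation ring R.) -/
theorem result (R : Type u) [CommRing R] [IsDomain R] [IsDiscreteValuationRing R] (n : ℕ) (hn : 1 ≤ n) (M : Type u) [AddCommGroup M] [Module (MultCrv.Rn R n) M] [Module R M] [IsScalarTower R (MultCrv.Rn R n) M] [Module.Finite (MultCrv.Rn R n) M] [Module.IsTorsionFree R M] (i : ℕ) (hi : 1 ≤ i) (hin : i ≤ n) : Module.Free R (MultCrv.G2 R n M i) := by
  have : Module.Finite (MultCrv.Rn R n) ↥(MultCrv.filt2 R n M i) := Module.Finite.iff_fg.2 (IsNoetherian.noetherian _)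
  have : Module.Finite R (MultCrv.G2 R n M i) := Groth.Agent.MultCrvLib.finite_R (n := n)
  have : Module.IsTorsionFree R (MultCrv.G2 R n M i) := by
    refine Module.IsTorsionFree.of_smul_eq_zero fun r q => ?_
    obtain ⟨u, rfl⟩ := Submodule.mkQ_surjective _ q
    intro h
    by_cases hr : r = 0
    · exact Or.inl hr
    refine Or.inr ?_
    rw [Submodule.mkQ_apply, ← Submodule.Quotient.mk_smul, Submodule.Quotient.mk_eq_zero, Submodule.mem_comap,
      MultCrv.filt2, Submodule.mem_torsionBy_iff] at h
    rw [Submodule.mkQ_apply, Submodule.Quotient.mk_eq_zero, Submodule.mem_comap, MultCrv.filt2,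
      Submodule.mem_torsionBy_iff]
    simp only [Submodule.subtype_apply, Submodule.coe_smul_of_tower] at h ⊢
    rw [smul_comm] at h
    exact (smul_eq_zero.1 h).resolve_left hr
  infer_instance

end Groth.Agent.S17934
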