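import Groth.Statements.S17935
import Groth.Agent.MultCrvLib.Basic
-- import your own Groth.Agent.* helpers here

set_option autoImplicit false
universe u
open MultCrv

namespace Groth.Agent.S17935

/-- Let R be a discrete valuation ring, n ≥ 1, A = R[X]/(X^n), and M a finitely generated A-module. Then
M is reflexive over A (the evaluation map into the double A-dual is bijective) if and only if M is
torsion-free as an R-module. (Statement at a closed point of the sheaf statement on a primitive
multiple curve of multiplicity n, whose local rings are of the form R[X]/(X^n) with R the local ring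
of the reduced smooth curve, torsion-freeness of a coherent sheaf there meaning no nonzero subsheaf
with finite support; stated for every discrete valuation ring R.) -/
theorem result (R : Type u) [CommRing R] [IsDomain R] [IsDiscreteValuationRing R] (n : ℕ) (hn : 1 ≤ n) (M : Type u) [AddCommGroup M] [Module (MultCrv.Rn R n) M] [Module R M] [IsScalarTower R (MultCrv.Rn R n) M] [Module.Finite (MultCrv.Rn R n) M] : Module.IsReflexive (MultCrv.Rn R n) M ↔ Module.IsTorsionFree R M := by
  have hM : Module.Finite R M := Groth.Agent.MultCrvLib.finite_R (n := n)
  let e : Module.Dual (MultCrv.Rn R n) M ≃ₗ[R] Module.Dual R M :=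
    { Groth.Agent.MultCrvLib.dualEquiv hn with
      map_add' := fun a b => by
        ext x; simp [Groth.Agent.MultCrvLib.dualEquiv]
      map_smul' := fun r a => by
        ext x; simp [Groth.Agent.MultCrvLib.dualEquiv] }
  let G : Module.Dual (MultCrv.Rn R n) (Module.Dual (MultCrv.Rn R n) M) → Module.Dual R (Module.Dual R M) :=
    fun Φ => (Groth.Agent.MultCrvLib.dualEquiv hn Φ).comp e.symm.toLinearMap
  have hG : Function.Bijective G :=
    (e.symm.arrowCongr (LinearEquiv.refl R R)).symm.bijective.comp (Groth.Agent.MultCrvLib.dualEquiv hn).bijective
  have hcomp : G ∘ Module.Dual.eval (MultCrv.Rn R n) M = Module.Dual.eval R M := by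
    funext x
    ext ψ
    exact Groth.Agent.MultCrvLib.top_toADual hn ψ x
  have hiff : Function.Bijective (Module.Dual.eval (MultCrv.Rn R n) M) ↔ Function.Bijective (Module.Dual.eval R M) := by
    rw [← hcomp, Function.Bijective.of_comp_iff' hG]
  constructor
  · intro h
    have hb := hiff.1 (Module.bijective_dual_eval (MultCrv.Rn R n) M)
    refine Module.IsTorsionFree.of_smul_eq_zero fun r x hx => ?_
    by_cases hr : r = 0
    · exact Or.inl hr
    refine Or.inr (hb.1 ?_)
    rw [map_zero]
    ext ψ
    have := congrArg ψ hx
    rw [map_smul, map_zero, smul_eq_mul, mul_eq_zero] at this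
    simpa using this.resolve_left hr
  · intro h
    have : Module.Free R M := inferInstance
    exact ⟨hiff.2 (Module.bijective_dual_eval R M)⟩

end Groth.Agent.S17935
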