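import Groth.Statements.S17940
import Groth.Agent.MultCrvLib.Basic
import Mathlib.LinearAlgebra.Pi
-- import your own Groth.Agent.* helpers here

set_option autoImplicit false
universe u
open MultCrv

namespace Groth.Agent.S17940

open Polynomial

section General

variable {A : Type*} [CommRing A] {F G M : Type*} [AddCommGroup F] [Module A F] [AddCommGroup G] [Module A G]
  [Module.Projective A G] [AddCommGroup M] [Module A M]

/-- A map to a projective module compatible with two covers is bijective, `z` nilpotent. -/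
theorem lift_bijective {z : A} {n : ℕ} (hz : z ^ n = 0) (φ : F →ₗ[A] M) (π : G →ₗ[A] M) (h : F →ₗ[A] G)
    (hh : π.comp h = φ) (hφ : Function.Surjective φ) (hπ : ∀ x, π x = 0 → ∃ y, x = z • y)
    (hφz : ∀ x, φ x = 0 → ∃ y, x = z • y) : Function.Bijective h := by
  have hh' : ∀ x, π (h x) = φ x := LinearMap.congr_fun hh
  have hsurj : Function.Surjective h := by
    have key : ∀ j : ℕ, ∀ v, ∃ u w, v = h u + z ^ j • w := by
      intro j
      induction j with
      | zero => exact fun v => ⟨0, v, by rw [map_zero, zero_add, pow_zero, one_smul]⟩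
      | succ j ih =>
        intro v
        obtain ⟨u, w, rfl⟩ := ih v
        obtain ⟨u', hu'⟩ := hφ (π w)
        obtain ⟨c, hc⟩ := hπ (w - h u') (by rw [map_sub, hh', hu', sub_self])
        refine ⟨u + z ^ j • u', c, ?_⟩
        rw [sub_eq_iff_eq_add'] at hc
        rw [hc, smul_add, smul_smul, ← pow_succ, map_add, map_smul, add_assoc]
    intro v
    obtain ⟨u, w, rfl⟩ := key n v
    exact ⟨u, by rw [hz, zero_smul, add_zero]⟩
  obtain ⟨s, hs⟩ := Module.projective_lifting_property h LinearMap.id hsurj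
  refine ⟨?_, hsurj⟩
  rw [injective_iff_map_eq_zero]
  have key : ∀ j : ℕ, ∀ x, h x = 0 → ∃ w, h w = 0 ∧ x = z ^ j • w := by
    intro j
    induction j with
    | zero => exact fun x hx => ⟨x, hx, by rw [pow_zero, one_smul]⟩
    | succ j ih =>
      intro x hx
      obtain ⟨w, hw, rfl⟩ := ih x hx
      obtain ⟨y, rfl⟩ := hφz w (by rw [← hh', hw, map_zero])
      refine ⟨y - s (h y), ?_, ?_⟩
      · rw [map_sub, show h (s (h y)) = h y from LinearMap.congr_fun hs _, sub_self]
      · rw [map_smul] at hw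
        rw [smul_sub, smul_smul, ← pow_succ, pow_succ _ j, mul_smul _ _ (s (h y)), ← map_smul s, hw, map_zero,
          smul_zero, sub_zero]
  intro x hx
  obtain ⟨w, -, rfl⟩ := key n x hx
  rw [hz, zero_smul]

variable {ι : Type*} {c : ι → Type*} (I : ι → Ideal A)

/-- Product of reductions. -/
noncomputable def redPi : ((i : ι) → c i → A) →ₗ[A] ((i : ι) → c i → A ⧸ I i) :=
  LinearMap.pi fun i => LinearMap.pi fun k => (I i).mkQ ∘ₗ LinearMap.proj k ∘ₗ LinearMap.proj i

theorem redPi_apply (x : (i : ι) → c i → A) (i : ι) (k : c i) : redPi I x i k = (I i).mkQ (x i k) := rfl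

theorem redPi_surjective : Function.Surjective (redPi (c := c) I) := fun g => by
  choose f hf using fun i k => (I i).mkQ_surjective (g i k)
  exact ⟨f, funext fun i => funext fun k => hf i k⟩

theorem redPi_eq_zero_iff (x : (i : ι) → c i → A) : redPi I x = 0 ↔ ∀ i k, x i k ∈ I i :=
  ⟨fun hx i k => (Submodule.Quotient.mk_eq_zero _).1 (congrFun (congrFun hx i) k),
    fun hx => funext fun i => funext fun k => (Submodule.Quotient.mk_eq_zero _).2 (hx i k)⟩

variable {ι' : Type*} {c' : ι' → Type*} (J : (Σ i, c' i) → Σ i, c i) (I' : ι' → Ideal A)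

/-- Reindexed product of reductions. -/
noncomputable def redIdx : ((i : ι) → c i → A) →ₗ[A] ((i : ι') → c' i → A ⧸ I' i) :=
  LinearMap.pi fun i => LinearMap.pi fun k => (I' i).mkQ ∘ₗ LinearMap.proj (J ⟨i, k⟩).2 ∘ₗ LinearMap.proj (J ⟨i, k⟩).1

theorem redIdx_eq_zero_iff (x : (i : ι) → c i → A) :
    redIdx J I' x = 0 ↔ ∀ p : Σ i, c' i, x (J p).1 (J p).2 ∈ I' p.1 :=
  ⟨fun hx p => (Submodule.Quotient.mk_eq_zero _).1 (congrFun (congrFun hx p.1) p.2),
    fun hx => funext fun i => funext fun k => (Submodule.Quotient.mk_eq_zero _).2 (hx ⟨i, k⟩)⟩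

theorem redIdx_surjective (hJ : Function.Injective J) : Function.Surjective (redIdx J I') := by
  classical
  intro g
  choose G hG using fun p : Σ i, c' i => (I' p.1).mkQ_surjective (g p.1 p.2)
  refine ⟨fun i k => Function.extend J G 0 ⟨i, k⟩, funext fun i => funext fun k => ?_⟩
  show (I' i).mkQ (Function.extend J G 0 (J ⟨i, k⟩)) = g i k
  rw [hJ.extend_apply]
  exact hG ⟨i, k⟩

/-- Slotwise multiplication. -/
def mulPi (a : ι → A) : ((i : ι) → c i → A) →ₗ[A] ((i : ι) → c i → A) :=
  LinearMap.pi fun i => a i • LinearMap.proj i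

theorem range_mulPi (a : ι → A) :
    LinearMap.range (mulPi (c := c) a) = LinearMap.ker (redPi (c := c) fun i => Ideal.span {a i}) := by
  refine le_antisymm ?_ fun x hx => ?_
  · rintro _ ⟨y, rfl⟩
    exact (redPi_eq_zero_iff _ _).2 fun i k => Ideal.mem_span_singleton.2 ⟨y i k, rfl⟩
  · choose y hy using fun i k => Ideal.mem_span_singleton.1 ((redPi_eq_zero_iff _ x).1 hx i k)
    exact ⟨y, funext fun i => funext fun k => (hy i k).symm⟩

theorem mulPi_eq_zero_iff (a : ι → A) (x : (i : ι) → c i → A) : mulPi a x = 0 ↔ ∀ i k, a i * x i k = 0 :=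
  ⟨fun hx i k => congrFun (congrFun hx i) k, fun hx => funext fun i => funext fun k => hx i k⟩

theorem ker_equiv {z : A} {n : ℕ} (hz : z ^ n = 0) {M : Type*} [AddCommGroup M] [Module A M] {F : Type*} [AddCommGroup F]
    [Module A F] [Finite ι] [∀ i, Finite (c i)] [Module.Projective A F] (a : ι → A) (ha : ∀ i, z ∣ a i) (e : M ≃ₗ[A] ((i : ι) → c i → A ⧸ Ideal.span {a i}))
    (φ : F →ₗ[A] M) (hφ : Function.Surjective φ) (hφz : ∀ x, φ x = 0 → ∃ y, x = z • y)
    (hJ : Function.Injective J) (hk : LinearMap.ker (mulPi (c := c) a) = LinearMap.ker (redIdx J I')) :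
    Nonempty (↥(LinearMap.ker φ) ≃ₗ[A] ((i : ι') → c' i → A ⧸ I' i)) := by
  have : Module.Projective A ((i : ι) → c i → A) :=
    Module.Projective.of_equiv ((LinearEquiv.piCurry A fun (i : ι) (_ : c i) => A))
  obtain ⟨h, hh⟩ := Module.projective_lifting_property (redPi (c := c) fun i => Ideal.span {a i})
    (e.toLinearMap.comp φ) (redPi_surjective _)
  have hb : Function.Bijective h := by
    refine lift_bijective (z := z) hz (e.toLinearMap.comp φ) (redPi (c := c) fun i => Ideal.span {a i}) h hh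
      (e.surjective.comp hφ) (fun x hx => ?_) (fun x hx => hφz x (e.map_eq_zero_iff.1 hx))
    choose y hy using fun i k => Ideal.mem_span_singleton.1 ((redPi_eq_zero_iff _ x).1 hx i k)
    choose b hb using ha
    exact ⟨fun i k => b i * y i k, funext fun i => funext fun k => by rw [hy i k, hb i, mul_assoc]; rfl⟩
  have hmap : (LinearMap.ker φ).map (LinearEquiv.ofBijective h hb).toLinearMap = LinearMap.range (mulPi (c := c) a) := by
    rw [range_mulPi]
    refine le_antisymm ?_ fun x hx => ?_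
    · rintro _ ⟨y, hy, rfl⟩
      exact (LinearMap.congr_fun hh y).trans (e.map_eq_zero_iff.2 hy)
    · obtain ⟨y, rfl⟩ := hb.2 x
      exact ⟨y, e.map_eq_zero_iff.1 ((LinearMap.congr_fun hh y).symm.trans hx), rfl⟩
  exact ⟨(((LinearEquiv.ofBijective h hb).submoduleMap _).trans (LinearEquiv.ofEq _ _ hmap)).trans
    ((mulPi (c := c) a).quotKerEquivRange.symm.trans ((Submodule.quotEquivOfEq _ _ hk).trans
      ((redIdx J I').quotKerEquivOfSurjective (redIdx_surjective J I' hJ))))⟩

end General

variable {R : Type u} [CommRing R] {n : ℕ}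

theorem z_pow_mul_eq_zero_iff [IsDomain R] {j : ℕ} (hj : j ≤ n) (a : MultCrv.Rn R n) :
    MultCrv.z R n ^ j * a = 0 ↔ a ∈ Ideal.span {MultCrv.z R n ^ (n - j)} := by
  rw [Ideal.mem_span_singleton]
  constructor
  · intro h
    obtain ⟨q, rfl⟩ := Ideal.Quotient.mk_surjective a
    rw [Groth.Agent.MultCrvLib.z_pow, ← map_mul, Ideal.Quotient.eq_zero_iff_mem, Ideal.mem_span_singleton] at h
    rw [Groth.Agent.MultCrvLib.z_pow]
    refine map_dvd _ ?_
    rw [show (X : R[X]) ^ n = X ^ j * X ^ (n - j) by rw [← pow_add, Nat.add_sub_cancel' hj]] at h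
    exact (mul_dvd_mul_iff_left (pow_ne_zero _ Polynomial.X_ne_zero)).1 h
  · rintro ⟨b, rfl⟩
    rw [← mul_assoc, ← pow_add, Groth.Agent.MultCrvLib.z_pow_eq_zero R n (by omega), zero_mul]

theorem succ_lt_of_revType {m : Fin n → ℕ} {i : Fin n} (k : Fin (MultCrv.revType n m i)) : i.1 + 1 < n := by
  by_contra h
  have h0 : MultCrv.revType n m i = 0 := dif_neg h
  have := k.2
  omega

theorem revType_eq {m : Fin n → ℕ} {i : Fin n} (h : i.1 + 1 < n) :
    MultCrv.revType n m i = m ⟨n - 2 - i.1, by omega⟩ := dif_pos h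

variable (R) in
/-- The free module covering the model of type `m`. -/
abbrev Cov (m : Fin n → ℕ) : Type u := (i : Fin n) → Fin (m i) → MultCrv.Rn R n

variable (R) in
/-- The product underlying the model of type `m`. -/
abbrev Mod' (m : Fin n → ℕ) : Type u := (i : Fin n) → Fin (m i) → MultCrv.Oi R n (i.1 + 1)

variable (R) in
/-- The ideal `(z^(i+1))`. -/
noncomputable abbrev ideal (i : Fin n) : Ideal (MultCrv.Rn R n) := Ideal.span {MultCrv.z R n ^ (i.1 + 1)}

/-- The reindexing behind `revType`. -/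
def J (m : Fin n → ℕ) (p : Σ i : Fin n, Fin (MultCrv.revType n m i)) : Σ i : Fin n, Fin (m i) :=
  ⟨⟨n - 2 - p.1.1, by omega⟩, Fin.cast (revType_eq (succ_lt_of_revType p.2)) p.2⟩

theorem J_injective (m : Fin n → ℕ) : Function.Injective (J m) := by
  rintro ⟨i, k⟩ ⟨i', k'⟩ hpq
  have h1 : n - 2 - i.1 = n - 2 - i'.1 := congrArg (fun p : Σ i : Fin n, Fin (m i) => p.1.1) hpq
  have h2 : k.1 = k'.1 := congrArg (fun p : Σ i : Fin n, Fin (m i) => p.2.1) hpq
  obtain rfl : i = i' := Fin.ext (by have := succ_lt_of_revType k; have := succ_lt_of_revType k'; omega)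
  rw [Fin.ext h2]

theorem J_surj {m : Fin n → ℕ} {i : Fin n} (hi : i.1 + 1 < n) (k : Fin (m i)) :
    ∃ p, J m p = ⟨i, k⟩ ∧ p.1.1 + 1 = n - (i.1 + 1) := by
  let i' : Fin n := ⟨n - 2 - i.1, by omega⟩
  have hi' : i'.1 + 1 < n := by show n - 2 - i.1 + 1 < n; omega
  have hii : (⟨n - 2 - i'.1, by omega⟩ : Fin n) = i := Fin.ext (by show n - 2 - (n - 2 - i.1) = i.1; omega)
  refine ⟨⟨i', Fin.cast (by rw [revType_eq hi', hii]) k⟩, ?_, by show n - 2 - i.1 + 1 = _; omega⟩
  refine Sigma.ext hii ((Fin.heq_ext_iff (congrArg m hii)).2 rfl)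

theorem ker_mulMap [IsDomain R] (m : Fin n → ℕ) :
    LinearMap.ker (mulPi (c := fun i => Fin (m i)) fun i : Fin n => MultCrv.z R n ^ (i.1 + 1)) =
      LinearMap.ker (redIdx (J m) (ideal R)) := by
  ext x
  rw [LinearMap.mem_ker, LinearMap.mem_ker, mulPi_eq_zero_iff, redIdx_eq_zero_iff]
  constructor
  · rintro hx ⟨i, k⟩
    have := (z_pow_mul_eq_zero_iff (by omega) _).1 (hx (J m ⟨i, k⟩).1 (J m ⟨i, k⟩).2)
    have h1 := succ_lt_of_revType k
    rw [show n - ((J m ⟨i, k⟩).1.1 + 1) = i.1 + 1 by show n - (n - 2 - i.1 + 1) = i.1 + 1; omega] at this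
    exact this
  · intro hx i k
    refine (z_pow_mul_eq_zero_iff (by omega) _).2 ?_
    by_cases hi : i.1 + 1 < n
    · obtain ⟨p, hp, hp'⟩ := J_surj hi k
      have := hx p
      rw [hp] at this
      rw [← hp']
      exact this
    · rw [show n - (i.1 + 1) = 0 by omega, pow_zero, Ideal.span_singleton_one]
      exact Submodule.mem_top

/-- Let R be a discrete valuation ring, n ≥ 1, A = R[X]/(X^n) with z the class of X, and M an A-module
that is quasi-free of type (m_1, …, m_n), i.e. isomorphic to the direct sum of m_i copies of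
A/(z^i). Let φ be a surjective A-linear map from a finitely generated free module A^r onto M that is
bijective modulo z (the preimage of zM is zA^r). Then the kernel of φ is quasi-free of type
(m_{n-1}, m_{n-2}, …, m_1, 0). (Statement at a closed point of the sheaf statement on a primitive
multiple curve of multiplicity n with local rings R[X]/(X^n), for the kernel of a surjection from a
vector bundle onto a quasi locally free sheaf that is an isomorphism on the reduced curve; stated
for every discrete valuation ring R.) -/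
theorem result (R : Type u) [CommRing R] [IsDomain R] [IsDiscreteValuationRing R] (n : ℕ) (hn : 1 ≤ n) (m : Fin n → ℕ) (M : Type u) [AddCommGroup M] [Module (MultCrv.Rn R n) M] (hM : MultCrv.IsQuasiFreeOfType R n M m) (r : ℕ) (φ : (Fin r → MultCrv.Rn R n) →ₗ[MultCrv.Rn R n] M) (hφ : Function.Surjective φ) (hφz : ∀ f : Fin r → MultCrv.Rn R n, φ f ∈ MultCrv.filt R n M 1 → f ∈ MultCrv.filt R n (Fin r → MultCrv.Rn R n) 1) : MultCrv.IsQuasiFreeOfType R n ↥(LinearMap.ker φ) (MultCrv.revType n m) := by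
  obtain ⟨e⟩ := hM
  have h := ker_equiv (J m) (ideal R) (Groth.Agent.MultCrvLib.z_pow_eq_zero R n le_rfl)
    (fun i : Fin n => MultCrv.z R n ^ (i.1 + 1)) (fun i => dvd_pow_self _ (Nat.succ_ne_zero _))
    (e.trans (MultCrv.QFModel.equivPi R n m)) φ hφ (fun x hx => ?_) (J_injective m) (ker_mulMap m)
  · exact h.map fun E => E.trans (MultCrv.QFModel.equivPi R n (MultCrv.revType n m)).symm
  · obtain ⟨y, hy⟩ := hφz x (by rw [hx]; exact zero_mem _)
    simp only [LinearMap.smul_apply, LinearMap.id_apply, pow_one] at hy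
    exact ⟨y, hy.symm⟩
end Groth.Agent.S17940
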