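import Groth.Statements.S17941
import Groth.Agent.MultCrvLib.Basic
-- import your own Groth.Agent.* helpers here

set_option autoImplicit false
universe u
open MultCrv

namespace Groth.Agent.S17941

/-- Let R be a discrete valuation ring, n ≥ 1, A = R[X]/(X^n), and 0 → M' → M → M'' → 0 a short exact
sequence of finitely generated A-modules with M and M'' torsion-free as R-modules (so M' is as
well). Then the A-dual sequence 0 → Hom_A(M'', A) → Hom_A(M, A) → Hom_A(M', A) → 0 is exact; the
content is that every A-linear form on M' extends to M, i.e. restriction of forms along M' → M is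
surjective. (Statement at a closed point of the sheaf statement on a primitive multiple curve of
multiplicity n, whose local rings are of the form R[X]/(X^n) with R the local ring of the reduced
smooth curve; stated for every discrete valuation ring R.) -/
theorem result (R : Type u) [CommRing R] [IsDomain R] [IsDiscreteValuationRing R] (n : ℕ) (hn : 1 ≤ n) (M' M M'' : Type u) [AddCommGroup M'] [Module (MultCrv.Rn R n) M'] [AddCommGroup M] [Module (MultCrv.Rn R n) M] [Module R M] [IsScalarTower R (MultCrv.Rn R n) M] [Module.Finite (MultCrv.Rn R n) M] [Module.IsTorsionFree R M] [AddCommGroup M''] [Module (MultCrv.Rn R n) M''] [Module R M''] [IsScalarTower R (MultCrv.Rn R n) M''] [Module.Finite (MultCrv.Rn R n) M''] [Module.IsTorsionFree R M''] (f : M' →ₗ[MultCrv.Rn R n] M) (g : M →ₗ[MultCrv.Rn R n] M'') (hf : Function.Injective f) (hg : Function.Surjective g) (hfg : LinearMap.range f = LinearMap.ker g) : Function.Surjective (f.dualMap : Module.Dual (MultCrv.Rn R n) M →ₗ[MultCrv.Rn R n] Module.Dual (MultCrv.Rn R n) M') := by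
  intro φ
  let e : M' ≃ₗ[MultCrv.Rn R n] ↥(LinearMap.range f) := LinearEquiv.ofInjective f hf
  let eq : (M ⧸ LinearMap.range f) ≃ₗ[MultCrv.Rn R n] M'' :=
    (Submodule.quotEquivOfEq _ _ hfg).trans (g.quotKerEquivOfSurjective hg)
  have : Module.IsTorsionFree R (M ⧸ LinearMap.range f) :=
    Function.Injective.moduleIsTorsionFree eq eq.injective fun r x => LinearMap.map_smul_of_tower eq.toLinearMap r x
  obtain ⟨φ', hφ'⟩ := Groth.Agent.MultCrvLib.forms_extend hn (LinearMap.range f) (φ.comp e.symm.toLinearMap)
  refine ⟨φ', LinearMap.ext fun x => ?_⟩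
  have := LinearMap.congr_fun hφ' (e x)
  simpa [e] using this

end Groth.Agent.S17941
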