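import Groth.Statements.S17943
import Groth.Agent.MultCrvLib.Basic
import Mathlib.LinearAlgebra.Dimension.RankNullity
import Mathlib.LinearAlgebra.Dimension.Finite
import Mathlib.LinearAlgebra.Dimension.Localization
-- import your own Groth.Agent.* helpers here

set_option autoImplicit false
universe u
open MultCrv

namespace Groth.Agent.S17943

/-- Let R be a discrete valuation ring, n ≥ 1, A = R[X]/(X^n) with z the class of X, and M a finitely
generated A-module. For 0 ≤ i < n the R-modules G^(i+1)(M) = M^(i+1)/M^(i) (M^(j) the elements
killed by z^j) and G_i(M) = z^i M/z^(i+1) M have the same rank over R. (Statement at a closed point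
of the sheaf statement on a primitive multiple curve of multiplicity n with local rings R[X]/(X^n),
where the rank of a coherent sheaf on the reduced smooth curve is its generic rank, here the rank
over R of the stalk; the equality of degrees that the published statement gives together with this
rank equality is a statement on the global curve and is not part of this row; stated for every
discrete valuation ring R.) -/
theorem result (R : Type u) [CommRing R] [IsDomain R] [IsDiscreteValuationRing R] (n : ℕ) (hn : 1 ≤ n) (M : Type u) [AddCommGroup M] [Module (MultCrv.Rn R n) M] [Module R M] [IsScalarTower R (MultCrv.Rn R n) M] [Module.Finite (MultCrv.Rn R n) M] (i : ℕ) (hi : i < n) : Module.finrank R (MultCrv.G2 R n M (i + 1)) = Module.finrank R (MultCrv.G1 R n M i) := by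
  have hM : Module.Finite R M := Groth.Agent.MultCrvLib.finite_R (n := n)
  have key : ∀ j, Module.finrank R (MultCrv.filt R n M j) + Module.finrank R (MultCrv.filt2 R n M j) = Module.finrank R M := by
    intro j
    let f : M →ₗ[R] M := ((MultCrv.z R n ^ j) • (LinearMap.id : M →ₗ[MultCrv.Rn R n] M)).restrictScalars R
    rw [show Module.finrank R (MultCrv.filt R n M j) = Module.finrank R f.range from rfl,
      show Module.finrank R (MultCrv.filt2 R n M j) = Module.finrank R f.ker from rfl,
      ← f.quotKerEquivRange.finrank_eq]
    exact Submodule.finrank_quotient_add_finrank f.ker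
  have hle1 : MultCrv.filt R n M (i + 1) ≤ MultCrv.filt R n M i := by
    rintro _ ⟨w, rfl⟩
    exact ⟨MultCrv.z R n • w, by simp [smul_smul, pow_succ, mul_comm]⟩
  have hle2 : MultCrv.filt2 R n M i ≤ MultCrv.filt2 R n M (i + 1) := by
    intro w hw
    simp only [MultCrv.filt2, Submodule.mem_torsionBy_iff] at hw ⊢
    rw [pow_succ', mul_smul, hw, smul_zero]
  have hfin : ∀ S : Submodule (MultCrv.Rn R n) M, Module.Finite R S := fun S =>
    Module.Finite.iff_fg.2 (IsNoetherian.noetherian (S.restrictScalars R))
  have := hfin (MultCrv.filt R n M i)
  have := hfin (MultCrv.filt2 R n M (i + 1))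
  have e1 : Module.finrank R (MultCrv.G1 R n M i) + Module.finrank R (MultCrv.filt R n M (i + 1)) = Module.finrank R (MultCrv.filt R n M i) := by
    rw [← ((Submodule.comapSubtypeEquivOfLe hle1).restrictScalars R).finrank_eq]
    exact Submodule.finrank_quotient_add_finrank ((Submodule.comap (MultCrv.filt R n M i).subtype (MultCrv.filt R n M (i + 1))).restrictScalars R)
  have e2 : Module.finrank R (MultCrv.G2 R n M (i + 1)) + Module.finrank R (MultCrv.filt2 R n M i) = Module.finrank R (MultCrv.filt2 R n M (i + 1)) := by
    rw [← ((Submodule.comapSubtypeEquivOfLe hle2).restrictScalars R).finrank_eq]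
    exact Submodule.finrank_quotient_add_finrank ((Submodule.comap (MultCrv.filt2 R n M (i + 1)).subtype (MultCrv.filt2 R n M i)).restrictScalars R)
  have := key i
  have := key (i + 1)
  omega

end Groth.Agent.S17943
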