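import Groth.Statements.S17944
import Groth.Agent.MultCrvLib.Basic
-- import your own Groth.Agent.* helpers here

set_option autoImplicit false
universe u
open MultCrv

namespace Groth.Agent.S17944

variable {R : Type*} [CommRing R] {n : ℕ} {M : Type*} [AddCommGroup M] [Module (MultCrv.Rn R n) M]

/-- The class in `Γ^(i)` of an element killed by `z^(i+1)`. -/
noncomputable def gamMk {i : ℕ} {y : M} (hy : y ∈ MultCrv.filt2 R n M (i + 1)) : MultCrv.Gam2 R n M i :=
  Submodule.Quotient.mk (Submodule.Quotient.mk ⟨y, hy⟩)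

theorem gam_surj {i : ℕ} (q : MultCrv.Gam2 R n M i) : ∃ (y : M) (hy : y ∈ MultCrv.filt2 R n M (i + 1)), gamMk hy = q := by
  obtain ⟨p, rfl⟩ := Submodule.mkQ_surjective _ q
  obtain ⟨⟨y, hy⟩, rfl⟩ := Submodule.mkQ_surjective _ p
  exact ⟨y, hy, rfl⟩

theorem gam_zero {i : ℕ} {y : M} (hy : y ∈ MultCrv.filt2 R n M (i + 1)) :
    gamMk hy = 0 ↔ ∃ w : M, MultCrv.z R n ^ (i + 2) • w = 0 ∧ MultCrv.z R n ^ i • (y - MultCrv.z R n • w) = 0 := by
  rw [gamMk, Submodule.Quotient.mk_eq_zero]
  constructor
  · rintro ⟨p, hp⟩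
    obtain ⟨⟨w, hw⟩, rfl⟩ := Submodule.mkQ_surjective _ p
    refine ⟨w, hw, ?_⟩
    rw [← neg_sub, smul_neg, neg_eq_zero]
    exact (Submodule.Quotient.eq _).1 hp
  · rintro ⟨w, hw, hwy⟩
    refine ⟨Submodule.Quotient.mk ⟨w, hw⟩, (Submodule.Quotient.eq _).2 ?_⟩
    show MultCrv.z R n ^ i • (MultCrv.z R n • w - y) = 0
    rw [← neg_sub, smul_neg, hwy, neg_zero]


/-- Let R be a discrete valuation ring, n ≥ 1, A = R[X]/(X^n) with z the class of X, and M a finitely
generated A-module. Then the graded pieces G_i(M) = z^i M/z^(i+1) M are free R-modules for all 0 ≤ i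
< n if and only if the modules Γ^(i)(M) are free R-modules for all 0 ≤ i < n, where Γ^(i)(M) is the
cokernel of the map M^(i+2)/M^(i+1) → M^(i+1)/M^(i) induced by multiplication by z (M^(j) the
elements killed by z^j). (Statement at a closed point P of the sheaf statement on a primitive
multiple curve of multiplicity n, whose local rings are R[X]/(X^n) with R the local ring of the
reduced smooth curve: the published conditions are local freeness on the reduced curve of the
corresponding sheaves, read here at P; the published statement also asserts that these conditions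
are equivalent to the stalk being quasi-free, i.e. isomorphic to a direct sum of modules A/(z^j),
which is not part of this row; stated for every discrete valuation ring R.) -/
theorem result (R : Type u) [CommRing R] [IsDomain R] [IsDiscreteValuationRing R] (n : ℕ) (hn : 1 ≤ n) (M : Type u) [AddCommGroup M] [Module (MultCrv.Rn R n) M] [Module R M] [IsScalarTower R (MultCrv.Rn R n) M] [Module.Finite (MultCrv.Rn R n) M] : (∀ i : ℕ, i < n → Module.Free R (MultCrv.G1 R n M i)) ↔ (∀ i : ℕ, i < n → Module.Free R (MultCrv.Gam2 R n M i)) := by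
  have hM : Module.Finite R M := Groth.Agent.MultCrvLib.finite_R (n := n)
  constructor
  · intro h i hi
    have := h i hi
    have : Module.Finite R (MultCrv.Gam2 R n M i) := Groth.Agent.MultCrvLib.finite_R (n := n)
    have : Module.IsTorsionFree R (MultCrv.Gam2 R n M i) := by
      refine Module.IsTorsionFree.of_smul_eq_zero fun r q hq => ?_
      by_cases hr : r = 0
      · exact Or.inl hr
      refine Or.inr ?_
      obtain ⟨y, hy, rfl⟩ := gam_surj q
      have hy' : r • y ∈ MultCrv.filt2 R n M (i + 1) := Submodule.smul_of_tower_mem _ r hy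
      obtain ⟨v, hv, hrv⟩ := (gam_zero hy').1 hq
      refine (gam_zero hy).2 ?_
      have hz : MultCrv.z R n ^ (i + 1) • v = r • (MultCrv.z R n ^ i • y) := by
        rw [smul_sub, sub_eq_zero, smul_smul, ← pow_succ, smul_comm] at hrv
        exact hrv.symm
      have h0 : r • (Submodule.Quotient.mk (⟨MultCrv.z R n ^ i • y, y, rfl⟩ : MultCrv.filt R n M i) :
          MultCrv.G1 R n M i) = 0 :=
        (Submodule.Quotient.mk_eq_zero _).2 ⟨v, hz⟩
      obtain ⟨w, hw⟩ := (Submodule.Quotient.mk_eq_zero _).1 ((smul_eq_zero.1 h0).resolve_left hr)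
      simp only [LinearMap.smul_apply, LinearMap.id_apply, Submodule.subtype_apply] at hw
      refine ⟨w, ?_, ?_⟩
      · rw [pow_succ' _ (i + 1), mul_smul, hw, smul_smul, ← pow_succ']
        exact hy
      · rw [smul_sub, smul_smul (MultCrv.z R n ^ i), ← pow_succ, hw, sub_self]
    infer_instance
  · intro h
    have key : ∀ d i, i + d = n → ∀ (r : R) (x : M), r ≠ 0 → (∃ y, MultCrv.z R n ^ i • y = x) →
        (∃ v, MultCrv.z R n ^ (i + 1) • v = r • x) → ∃ v, MultCrv.z R n ^ (i + 1) • v = x := by
      intro d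
      induction d with
      | zero =>
        rintro i hi r x - ⟨y, rfl⟩ -
        exact ⟨0, by rw [smul_zero, Groth.Agent.MultCrvLib.z_pow_smul_eq_zero (by omega)]⟩
      | succ d ih =>
        rintro i hi r x hr ⟨y, rfl⟩ ⟨v, hv⟩
        obtain ⟨w, hw⟩ := ih (i + 1) (by omega) r (MultCrv.z R n ^ (i + 1) • y) hr ⟨y, rfl⟩
          ⟨v, by rw [pow_succ' _ (i + 1), mul_smul, hv, smul_comm (MultCrv.z R n) r, smul_smul, ← pow_succ']⟩
        have hy' : y - MultCrv.z R n • w ∈ MultCrv.filt2 R n M (i + 1) := by
          rw [MultCrv.filt2, Submodule.mem_torsionBy_iff, smul_sub, smul_smul, ← pow_succ, hw, sub_self]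
        have hry : r • (y - MultCrv.z R n • w) ∈ MultCrv.filt2 R n M (i + 1) := Submodule.smul_of_tower_mem _ r hy'
        have hzv : MultCrv.z R n ^ i • r • (y - MultCrv.z R n • w) = MultCrv.z R n ^ (i + 1) • (v - r • w) := by
          rw [smul_sub, smul_sub, smul_sub, hv, smul_comm _ r, smul_comm (_ ^ (i + 1)) r, smul_comm (_ ^ i) r,
            smul_smul (MultCrv.z R n ^ i), ← pow_succ]
        have h0 : (gamMk hry : MultCrv.Gam2 R n M i) = 0 := by
          refine (gam_zero hry).2 ⟨v - r • w, ?_, ?_⟩
          · rw [pow_succ' _ (i + 1), mul_smul, ← hzv, smul_smul, ← pow_succ']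
            exact hry
          · rw [smul_sub _ (r • (y - _)), smul_smul (MultCrv.z R n ^ i), ← pow_succ, hzv, sub_self]
        have := h i (by omega)
        have h1 : r • (gamMk hy' : MultCrv.Gam2 R n M i) = 0 := h0
        obtain ⟨w', -, hw'⟩ := (gam_zero hy').1 ((smul_eq_zero.1 h1).resolve_left hr)
        refine ⟨w + w', ?_⟩
        rw [smul_sub, smul_sub, sub_eq_zero, smul_smul, ← pow_succ, smul_smul, ← pow_succ, sub_eq_iff_eq_add] at hw'
        rw [smul_add, hw', add_comm]
    intro i hi
    have : Module.Finite (MultCrv.Rn R n) ↥(MultCrv.filt R n M i) := Module.Finite.iff_fg.2 (IsNoetherian.noetherian _)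
    have : Module.Finite R (MultCrv.G1 R n M i) := Groth.Agent.MultCrvLib.finite_R (n := n)
    have : Module.IsTorsionFree R (MultCrv.G1 R n M i) := by
      refine Module.IsTorsionFree.of_smul_eq_zero fun r q hq => ?_
      by_cases hr : r = 0
      · exact Or.inl hr
      refine Or.inr ?_
      obtain ⟨⟨x, hx⟩, rfl⟩ := Submodule.mkQ_surjective _ q
      obtain ⟨y, hy⟩ := hx
      obtain ⟨v, hv⟩ := (Submodule.Quotient.mk_eq_zero _).1 hq
      exact (Submodule.Quotient.mk_eq_zero _).2
        (key (n - i) i (by omega) r x hr ⟨y, hy⟩ ⟨v, hv⟩)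
    infer_instance

end Groth.Agent.S17944
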