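import Groth.Statements.S17945
import Groth.Agent.MultCrvLib.Basic
-- import your own Groth.Agent.* helpers here

set_option autoImplicit false
universe u
open MultCrv

namespace Groth.Agent.S17945

/-- Let R be a discrete valuation ring, n ≥ 1, A = R[X]/(X^n) with z the class of X, and φ : M → N an
A-linear map of finitely generated A-modules. Then φ is surjective if and only if the induced map
M/zM → N/zN is surjective, i.e. every element of N differs from an element of the image of φ by an
element of zN. The induced maps z^i M/z^(i+1) M → z^i N/z^(i+1) N, 1 ≤ i < n, are then surjective as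
well; that immediate consequence, which the published statement includes, is not part of this row.
(Statement at a closed point of the sheaf statement on a primitive multiple curve of multiplicity n
with local rings R[X]/(X^n), where M/zM is the stalk of the restriction to the reduced curve; stated
for every discrete valuation ring R.) -/
theorem result (R : Type u) [CommRing R] [IsDomain R] [IsDiscreteValuationRing R] (n : ℕ) (hn : 1 ≤ n) (M N : Type u) [AddCommGroup M] [Module (MultCrv.Rn R n) M] [Module.Finite (MultCrv.Rn R n) M] [AddCommGroup N] [Module (MultCrv.Rn R n) N] [Module.Finite (MultCrv.Rn R n) N] (φ : M →ₗ[MultCrv.Rn R n] N) : Function.Surjective φ ↔ ∀ v : N, ∃ u : M, v - φ u ∈ MultCrv.filt R n N 1 := by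
  refine ⟨fun h v => ⟨(h v).choose, by rw [(h v).choose_spec, sub_self]; exact zero_mem _⟩, fun h v => ?_⟩
  have key : ∀ k : ℕ, ∃ u w, v = φ u + MultCrv.z R n ^ k • w := by
    intro k
    induction k with
    | zero => exact ⟨0, v, by rw [map_zero, zero_add, pow_zero, one_smul]⟩
    | succ k ih =>
      obtain ⟨u, w, rfl⟩ := ih
      obtain ⟨u', hu'⟩ := h w
      obtain ⟨w', hw'⟩ := hu'
      simp only [LinearMap.smul_apply, LinearMap.id_apply, pow_one] at hw'
      refine ⟨u + MultCrv.z R n ^ k • u', w', ?_⟩
      rw [pow_succ, mul_smul, hw', map_add, map_smul, smul_sub]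
      abel
  obtain ⟨u, w, rfl⟩ := key n
  exact ⟨u, by rw [Groth.Agent.MultCrvLib.z_pow_smul_eq_zero le_rfl, add_zero]⟩

end Groth.Agent.S17945
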