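import Groth.Statements.S17947
import Groth.Agent.HensMod85.Univ

set_option autoImplicit false
universe u
open CategoryTheory AlgebraicGeometry Opposite
open HensSch

namespace Groth.Agent.S17947

open CategoryTheory CategoryTheory.Limits Opposite TopologicalSpace Topology Groth.Agent.HensMod85

variable {X : Scheme.{u}} {Y : Set X} {Xh : LocallyRingedSpace.{u}} {ι : Xh ⟶ X.toLocallyRingedSpace}
  {Z : LocallyRingedSpace.{u}}

theorem app_eq (hh : HensSch.IsHenselizationAlong X Y Xh ι) (hZ : HensSch.IsHensScheme Z)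
    (g : Z ⟶ X.toLocallyRingedSpace) (b : Z → Xh) (hb : ∀ z, ι.base (b z) = g.base z)
    (k : Z ⟶ Xh) (hk : k ≫ ι = g) (U : Opens Xh) (s : Xh.presheaf.obj (op U)) (z : Z)
    (hz : k.base z ∈ U) (hbz : b z ∈ U) (e : k.base z = b z) :
    G ((Opens.map k.base).obj U) z hz (k.c.app (op U) s) = H g b hb hh hZ z (G U (b z) hbz s) := by
  have key : ∀ (x : Xh), x = b z → ∀ (hx : x ∈ U) (m : Xh.presheaf.stalk x →+* Z.presheaf.stalk z),
      IsLift (ι := ι) g z x m → m (G U x hx s) = H g b hb hh hZ z (G U (b z) hbz s) := by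
    rintro x rfl hx m hm
    rw [H_unique g b hb hh hZ z hm]
  refine (stalkMap_G k U z hz s).symm.trans (key _ e hz (k.stalkMap z).hom ?_)
  intro O hO hO' a
  have h1 : (k ≫ ι).base z ∈ O := hO
  have e1 := germ_congr_hom hk O z h1 hO' a
  rw [LocallyRingedSpace.stalkMap_comp] at e1
  exact e1

theorem hom_ext' {P Q : LocallyRingedSpace.{u}} (f f' : P ⟶ Q) (hb : f.base = f'.base)
    (h : ∀ (U : Opens Q) (s : Q.presheaf.obj (op U)) (z : P) (hz : f.base z ∈ U) (hz' : f'.base z ∈ U),
      G ((Opens.map f.base).obj U) z hz (f.c.app (op U) s) = G ((Opens.map f'.base).obj U) z hz' (f'.c.app (op U) s)) :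
    f = f' := by
  obtain ⟨⟨fb, fc⟩, hf⟩ := f
  obtain ⟨⟨fb', fc'⟩, hf'⟩ := f'
  dsimp at hb
  subst hb
  have : fc = fc' := by
    refine NatTrans.ext (funext fun U => CommRingCat.hom_ext (RingHom.ext fun s => ?_))
    exact TopCat.Presheaf.section_ext (F := P.sheaf) _ _ _ fun z hz => h U.unop s z hz hz
  subst this
  rfl

theorem main (hh : HensSch.IsHenselizationAlong X Y Xh ι) (hZ : HensSch.IsHensScheme Z)
    (g : Z ⟶ X.toLocallyRingedSpace) (hg : Set.range g.base ⊆ Y) : ∃! g' : Z ⟶ Xh, g' ≫ ι = g := by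
  classical
  have hmem : ∀ z, g.base z ∈ Set.range ι.base := fun z => hh.2.2.1 ▸ hg ⟨z, rfl⟩
  choose b hb using hmem
  have hbc : Continuous b := by
    rw [hh.2.1.isInducing.continuous_iff]
    rw [show ι.base ∘ b = g.base from funext hb]
    exact g.base.hom.continuous
  have hbase : ∀ k : Z ⟶ Xh, k ≫ ι = g → ∀ z, k.base z = b z := fun k hk z => hh.2.1.injective (by
    rw [hb]; exact congrArg (fun m : Z ⟶ X.toLocallyRingedSpace => m.base z) hk)
  let bb : Z.toTopCat ⟶ Xh.toTopCat := TopCat.ofHom ⟨b, hbc⟩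
  have hex : ∀ (U : Opens Xh) (s : Xh.presheaf.obj (op U)),
      ∃ t : Z.presheaf.obj (op ((Opens.map bb).obj U)), ∀ z (hz : b z ∈ U),
        G _ z hz t = H g b hb hh hZ z (G U (b z) hz s) := by
    intro U s
    choose W hW t ht using fun z : (Opens.map bb).obj U => exists_local_rep g b hb hh hZ U s z.1 z.2 hbc
    let W' := fun z => W z ⊓ (Opens.map bb).obj U
    have hcompat : TopCat.Presheaf.IsCompatible Z.sheaf.1 W' (fun z => res inf_le_left (t z)) := by
      intro i j
      refine TopCat.Presheaf.section_ext (F := Z.sheaf) _ _ _ fun x hx => ?_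
      refine (G_res (inf_le_left : W' i ⊓ W' j ≤ W' i) x hx _).trans
        (Eq.trans ?_ (G_res (inf_le_right : W' i ⊓ W' j ≤ W' j) x hx _).symm)
      rw [G_res, G_res]
      obtain ⟨_, e1⟩ := ht i x hx.1.1
      obtain ⟨_, e2⟩ := ht j x hx.2.1
      rw [e1, e2]
    obtain ⟨t', ht', -⟩ := Z.sheaf.existsUnique_gluing' W' ((Opens.map bb).obj U)
      (fun z => homOfLE inf_le_right)
      (fun z hz => Opens.mem_iSup.2 ⟨⟨z, hz⟩, ⟨hW ⟨z, hz⟩, hz⟩⟩) _ hcompat
    refine ⟨t', fun z hz => ?_⟩
    have hzW : z ∈ W' ⟨z, hz⟩ := ⟨hW ⟨z, hz⟩, hz⟩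
    refine (G_res (inf_le_right : W' ⟨z, hz⟩ ≤ _) z hzW t').symm.trans ?_
    refine (congrArg (G (W' ⟨z, hz⟩) z hzW) (ht' ⟨z, hz⟩)).trans ?_
    obtain ⟨_, e1⟩ := ht ⟨z, hz⟩ z hzW.1
    exact (G_res inf_le_left z hzW _).trans e1
  choose T hT using hex
  have huniq : ∀ (U : Opens Xh) (t t' : Z.presheaf.obj (op ((Opens.map bb).obj U))),
      (∀ z (hz : b z ∈ U), G _ z hz t = G _ z hz t') → t = t' := fun U t t' h =>
    TopCat.Presheaf.section_ext (F := Z.sheaf) _ _ _ fun z hz => h z hz
  let c : Xh.presheaf ⟶ (TopCat.Presheaf.pushforward CommRingCat bb).obj Z.presheaf :=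
    { app := fun U => CommRingCat.ofHom
        { toFun := T U.unop
          map_one' := huniq _ _ _ fun z hz => by simp [hT]
          map_mul' := fun s s' => huniq _ _ _ fun z hz => by simp [hT]
          map_zero' := huniq _ _ _ fun z hz => by simp [hT]
          map_add' := fun s s' => huniq _ _ _ fun z hz => by simp [hT] }
      naturality := fun U V i => CommRingCat.hom_ext (RingHom.ext fun s => huniq V.unop _ _ fun z hz => by
        refine (hT V.unop (Xh.presheaf.map i s) z hz).trans ?_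
        refine Eq.trans ?_ (Z.presheaf.germ_res_apply ((Opens.map bb).map i.unop) z hz (T U.unop s)).symm
        refine Eq.trans ?_ (hT U.unop s z (leOfHom i.unop hz)).symm
        exact congrArg (H g b hb hh hZ z) (Xh.presheaf.germ_res_apply i.unop (b z) hz s)) }
  let P : Z.toPresheafedSpace ⟶ Xh.toPresheafedSpace := ⟨bb, c⟩
  have hstalk : ∀ z, (P.stalkMap z).hom = H g b hb hh hZ z := fun z => RingHom.ext fun t => by
    obtain ⟨U, hU, s, rfl⟩ := exists_G_eq (b z) t
    exact (PresheafedSpace.stalkMap_germ_apply P U z hU s).trans (hT U s z hU)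
  let g' : Z ⟶ Xh := ⟨P, fun z => by rw [hstalk]; exact isLocalHom_H g b hb hh hZ z⟩
  refine ⟨g', ?_, fun k hk => ?_⟩
  · refine hom_ext' _ _ ?_ fun U s z hz hz' => ?_
    · exact TopCat.hom_ext (ContinuousMap.ext hb)
    · refine (stalkMap_G (g' ≫ ι) U z hz s).symm.trans ?_
      rw [LocallyRingedSpace.stalkMap_comp]
      refine Eq.trans ?_ (stalkMap_G g U z hz' s)
      show (P.stalkMap z).hom _ = _
      rw [hstalk]
      exact H_spec g b hb hh hZ z U _ hz' s
  · refine hom_ext' _ _ (TopCat.hom_ext (ContinuousMap.ext (hbase k hk))) fun U s z hz hz' => ?_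
    exact (app_eq hh hZ g b hb k hk U s z hz hz' (hbase k hk z)).trans (hT U s z hz').symm

/-- Let `ι : Xh ⟶ X` be the Henselization of a scheme `X` along a closed subset `Y`. For every Henselian
scheme `Z` (a locally ringed space covered by affine Henselian spectra of Henselian pairs) and every
morphism of locally ringed spaces `g : Z ⟶ X` whose image lies in `Y`, there is exactly one morphism
`Z ⟶ Xh` whose composite with `ι` is `g` (the Henselization is final among such `Z`). -/
theorem result (X : Scheme.{u}) (Y : Set X)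
    (Xh : LocallyRingedSpace.{u}) (ι : Xh ⟶ X.toLocallyRingedSpace)
    (hh : HensSch.IsHenselizationAlong X Y Xh ι)
    (Z : LocallyRingedSpace.{u}) (hZ : HensSch.IsHensScheme Z) (g : Z ⟶ X.toLocallyRingedSpace)
    (hg : Set.range g.base ⊆ Y) : ∃! g' : Z ⟶ Xh, g' ≫ ι = g := by
  exact main hh hZ g hg

end Groth.Agent.S17947
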