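import Groth.Statements.S17953
import Groth.Agent.HensMod85.Flat
import Groth.Agent.CycLib.ModStalk

set_option autoImplicit false
universe u
open CategoryTheory AlgebraicGeometry Opposite
open HensSch

namespace Groth.Agent.S17953

open CategoryTheory CategoryTheory.Limits Opposite
open Groth.Agent.HensMod85

/-- Vanishing of a morphism of quasi-coherent modules at a point passes to generalisations. -/
theorem stalk_zero_of_specializes {X : Scheme.{u}} {F G : X.Modules} [F.IsQuasicoherent] (d : F ⟶ G)
    {x y : X} (hxy : y ⤳ x)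
    (h : (stalkF X.toLocallyRingedSpace x).map d = 0) :
    (stalkF X.toLocallyRingedSpace y).map d = 0 := by
  obtain ⟨_, ⟨U, hU, rfl⟩, hxU, -⟩ :=
    X.isBasis_affineOpens.exists_subset_of_mem_open (Set.mem_univ x) isOpen_univ
  have hyU : y ∈ U := hxy.mem_open U.isOpen hxU
  refine ModuleCat.hom_ext (LinearMap.ext fun t => ?_)
  obtain ⟨m, s, hs, hst⟩ := Groth.Agent.CycLib.exists_smul_germ_eq F hU hyU t
  have h1 : germ G U x hxU (app d U m) = 0 :=
    (stalkLin_germ d U x hxU m).symm.trans (LinearMap.congr_fun (congrArg ModuleCat.Hom.hom h) _)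
  obtain ⟨W, hxW, i₁, i₂, e⟩ := (pab G).germ_eq x hxU hxU (app d U m) 0
    (h1.trans (map_zero ((pab G).germ U x hxU).hom).symm)
  have hyW : y ∈ W := hxy.mem_open W.isOpen hxW
  have h2 : germ G U y hyU (app d U m) = 0 := by
    refine ((pab G).germ_res_apply i₁ y hyW (app d U m)).symm.trans ?_
    refine (congrArg _ (e.trans (map_zero ((pab G).map i₂.op).hom))).trans ?_
    exact map_zero ((pab G).germ W y hyW).hom
  have h3 : stalkLin d y (X.presheaf.germ U y hyU s • t) = 0 :=
    (congrArg (stalkLin d y) hst).trans ((stalkLin_germ d U y hyU m).trans h2)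
  exact (hs.smul_eq_zero).1 ((map_smul (stalkLin d y) _ t).symm.trans h3)

/-- Faithfulness from vanishing of stalk maps. -/
theorem inj_of_stalks {Xh : LocallyRingedSpace.{u}} {X : LocallyRingedSpace.{u}} (ι : Xh ⟶ X)
    (F G : ModSite.Mod X.sheaf)
    (h : ∀ d : F ⟶ G, (HensSch.pullMod ι).map d = 0 → ∀ y : X, (stalkF X y).map d = 0) :
    Function.Injective ((HensSch.pullMod ι).map : (F ⟶ G) → _) := by
  intro a b hab
  rw [← sub_eq_zero]
  haveI : (HensSch.pushMod ι).Additive := ⟨fun {_ _ _ _} => rfl⟩
  haveI : (HensSch.pullMod ι).Additive := (HensSch.pullPushAdj ι).left_adjoint_additive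
  exact eq_zero_of_stalk (a - b) (h (a - b) (by rw [Functor.map_sub, hab, sub_self]))

/-- Let `ι : Xh ⟶ X` be the Henselization of a quasi-compact scheme `X` along a closed subset `Y`
containing every closed point of `X`. Then `F ↦ F^h = ι^* F` is faithful on quasi-coherent
`O_X`-modules. (The published statement has no condition on `X` or `Y`; for `X = Spec (k × k)`, `Y`
one of the two points and `F` the quasi-coherent module supported at the other point, `F^h = 0`
while `F` has nonzero endomorphisms, so faithfulness fails. The published argument, faithful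
flatness of the local rings of `Xh` over those of `X` at points of `Y`, gives faithfulness exactly
when every point of `X` specializes to a point of `Y`, which the two hypotheses here ensure.) -/
theorem result (X : Scheme.{u}) [CompactSpace X] (Y : Set X)
    (hY : ∀ x : X, IsClosed ({x} : Set X) → x ∈ Y)
    (Xh : LocallyRingedSpace.{u}) (ι : Xh ⟶ X.toLocallyRingedSpace)
    (hh : HensSch.IsHenselizationAlong X Y Xh ι)
    (F G : X.Modules) [F.IsQuasicoherent] [G.IsQuasicoherent] :
    Function.Injective ((HensSch.pullMod ι).map : (F ⟶ G) → ((HensSch.pullMod ι).obj F ⟶ (HensSch.pullMod ι).obj G)) := by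
  have hflat := Groth.Agent.HensMod85.flatStalks_of_isHenselizationAlong hh
  refine inj_of_stalks ι F G fun d h0 y => ?_
  obtain ⟨x, hyx, hx⟩ : ∃ x : X, y ⤳ x ∧ IsClosed ({x} : Set X) := by
    obtain ⟨x, hx, hxc⟩ := IsClosed.exists_closed_singleton (S := closure ({y} : Set X)) isClosed_closure
      (Set.singleton_nonempty y).closure
    exact ⟨x, specializes_iff_mem_closure.2 hx, hxc⟩
  obtain ⟨-, -, hr, -⟩ := hh
  obtain ⟨x₀, rfl⟩ : x ∈ Set.range ι.base := hr ▸ hY x hx
  exact stalk_zero_of_specializes d hyx
    (Groth.Agent.HensMod85.stalk_eq_zero_of_pull_eq_zero ι x₀ (hflat x₀) d h0)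

end Groth.Agent.S17953
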