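import Groth.Statements.S17968
import Groth.Agent.Hensel.Pair
-- import your own Groth.Agent.* helpers here

set_option autoImplicit false
universe u
open Hensel
open Polynomial

namespace Groth.Agent.S17968

/-- Let A be a commutative ring and I an ideal contained in the Jacobson radical of A. Suppose that for
every natural number m and every monic polynomial p over A whose reduction modulo I is the reduction
of (T^2 - T)^m, every idempotent of B/IB is the image of an idempotent of B, where B = A[T]/(p).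
Then (A, I) is a henselian pair. -/
theorem result (A : Type u) [CommRing A]
    (I : Ideal A) (hI : I ≤ Ideal.jacobson ⊥)
    (h : ∀ (m : ℕ) (p : Polynomial A), p.Monic →
      Polynomial.map (Ideal.Quotient.mk I) p =
        Polynomial.map (Ideal.Quotient.mk I) ((Polynomial.X ^ 2 - Polynomial.X) ^ m) →
      Set.SurjOn (Ideal.Quotient.mk (Ideal.map (algebraMap A (AdjoinRoot p)) I))
        {e : AdjoinRoot p | IsIdempotentElem e} {e | IsIdempotentElem e}) :
    HenselianRing A I := by
  classical
  refine Groth.Agent.Hensel.henselianRing_of_idempotents_bijOn fun B _ _ _ =>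
    ⟨fun e he => he.map _, fun e he f hf hef => ?_, fun e₀ he₀ => ?_⟩
  · exact Groth.Agent.Hensel.isIdempotentElem_eq_of_sub_mem
      (Groth.Agent.Hensel.map_le_jacobson_bot_of_isIntegral hI) he hf (Ideal.Quotient.eq.1 hef)
  obtain ⟨b, rfl⟩ := Ideal.Quotient.mk_surjective e₀
  have hb : b ^ 2 - b ∈ I.map (algebraMap A B) := by
    rw [← Ideal.Quotient.eq_zero_iff_mem, map_sub, map_pow, sq, he₀.eq, sub_self]
  obtain ⟨p, hp, hpb, m, -, hpI⟩ :=
    Groth.Agent.Hensel.exists_monic_sq_sub_self_of_isIntegral hb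
  let Q := AdjoinRoot p ⧸ Ideal.map (algebraMap A (AdjoinRoot p)) I
  let x : Q := Ideal.Quotient.mk _ (AdjoinRoot.root p)
  -- x² - x is nilpotent
  have hx : (x ^ 2 - x) ^ m = 0 := by
    have hpm : ((X ^ 2 - X) ^ m - p : A[X]) ∈ I.map Polynomial.C := by
      rw [Ideal.mem_map_C_iff]
      intro n
      rw [← Ideal.Quotient.eq_zero_iff_mem, ← Polynomial.coeff_map, Polynomial.map_sub, hpI,
        Polynomial.map_pow, Polynomial.map_sub, Polynomial.map_pow, Polynomial.map_X, sub_self,
        Polynomial.coeff_zero]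
    have : (Ideal.Quotient.mk (Ideal.map (algebraMap A (AdjoinRoot p)) I))
        (AdjoinRoot.mk p ((X ^ 2 - X) ^ m - p)) = 0 := by
      rw [Ideal.Quotient.eq_zero_iff_mem]
      have h2 := Ideal.mem_map_of_mem (AdjoinRoot.mk p) hpm
      rw [Ideal.map_map] at h2
      exact h2
    rw [map_sub, AdjoinRoot.mk_self, sub_zero, map_pow, map_sub, map_pow, AdjoinRoot.mk_X,
      map_pow, map_sub, map_pow] at this
    exact this
  have hnil : ∀ z ∈ RingHom.ker (Ideal.Quotient.mk (Ideal.span {x ^ 2 - x})), IsNilpotent z := by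
    intro z hz
    rw [Ideal.mk_ker, Ideal.mem_span_singleton'] at hz
    obtain ⟨w, rfl⟩ := hz
    exact ⟨m, by rw [mul_pow, hx, mul_zero]⟩
  obtain ⟨ē, ⟨hē, hēx⟩, -⟩ := existsUnique_isIdempotentElem_eq_of_ker_isNilpotent _ hnil
    (Ideal.Quotient.mk _ x) ⟨x, rfl⟩ (by
      unfold IsIdempotentElem
      rw [← map_mul, Ideal.Quotient.eq, ← sq]
      exact Ideal.mem_span_singleton_self _)
  obtain ⟨e, he, hee⟩ := h m p hp
    (by rw [hpI, Polynomial.map_pow, Polynomial.map_sub, Polynomial.map_pow, Polynomial.map_X])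
    (show ē ∈ {e | IsIdempotentElem e} from hē)
  let φ : AdjoinRoot p →ₐ[A] B := AdjoinRoot.liftAlgHom p (Algebra.ofId A B) b hpb
  let φq : Q →+* B ⧸ I.map (algebraMap A B) :=
    Ideal.quotientMap _ φ.toRingHom (by
      rw [Ideal.map_le_iff_le_comap, Ideal.comap_comap,
        show φ.toRingHom.comp (algebraMap A (AdjoinRoot p)) = algebraMap A B from φ.comp_algebraMap]
      exact Ideal.le_comap_map)
  refine ⟨φ e, he.map φ, ?_⟩
  show φq (Ideal.Quotient.mk _ e) = _
  have hφx : φq x = Ideal.Quotient.mk _ b := by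
    show Ideal.Quotient.mk _ (φ (AdjoinRoot.root p)) = _
    rw [AdjoinRoot.liftAlgHom_root]
  rw [hee, ← hφx]
  rw [Ideal.Quotient.eq] at hēx
  obtain ⟨w, hw⟩ := Ideal.mem_span_singleton'.1 hēx
  rw [← sub_eq_zero, ← map_sub, ← hw, map_mul, map_sub, map_pow, hφx, sq, he₀.eq, sub_self, mul_zero]

end Groth.Agent.S17968
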