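import Mathlib
import Groth.Statements.S17969
-- import your own Groth.Agent.* helpers here

set_option autoImplicit false
universe u
open scoped TensorProduct
open CAlg

namespace Groth.Agent.S17969

set_option maxHeartbeats 1000000 in
/-- Let A be an integrally closed domain with fraction field K and B a commutative A-algebra which is
finite and torsion-free as an A-module and generated as an A-algebra by a single element x. Let P be
the characteristic polynomial of multiplication by 1 ⊗ x on the finite free K-module K ⊗_A B. Then P
has coefficients in A, namely P is the image of a monic polynomial over A, and the kernel of the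
A-algebra map A[T] → B sending T to x is generated by that polynomial, so that B is A[T]/(P). -/
theorem result
    (A : Type u) [CommRing A] [IsDomain A] [IsIntegrallyClosed A]
    (B : Type u) [CommRing B] [Algebra A B] [Module.Finite A B] [NoZeroSMulDivisors A B]
    (x : B) (hx : Algebra.adjoin A {x} = ⊤) :
    ∃ P : Polynomial A, P.Monic ∧
      Polynomial.map (algebraMap A (FractionRing A)) P =
        (LinearMap.mulLeft (FractionRing A) ((1 : FractionRing A) ⊗ₜ[A] x)).charpoly ∧
      RingHom.ker (Polynomial.aeval x).toRingHom = Ideal.span {P} := by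
  classical
  let K := FractionRing A
  let S := K ⊗[A] B
  have : Module.Finite K S := Module.Finite.base_change A K B
  set x' : S := (1 : K) ⊗ₜ[A] x with hx'
  let ι : B →ₐ[A] S := Algebra.TensorProduct.includeRight
  have hι : Function.Injective ι := by
    intro a b hab
    have h := (IsLocalizedModule.eq_iff_exists (nonZeroDivisors A) (TensorProduct.mk A K B 1)).mp hab
    obtain ⟨c, hc⟩ := h
    have hc0 : (c : A) ≠ 0 := nonZeroDivisors.ne_zero c.2
    have h0 : (c : A) • (a - b) = 0 := by rw [smul_sub, sub_eq_zero]; exact hc
    exact sub_eq_zero.mp ((smul_eq_zero.mp h0).resolve_left hc0)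
  have hgen : ∀ s : S, ∃ q : Polynomial K, Polynomial.aeval x' q = s := by
    intro s
    induction s using TensorProduct.induction_on with
    | zero => exact ⟨0, map_zero _⟩
    | add s t hs ht =>
      obtain ⟨p, hp⟩ := hs; obtain ⟨q, hq⟩ := ht
      exact ⟨p + q, by rw [map_add, hp, hq]⟩
    | tmul k b =>
      have hb : b ∈ Algebra.adjoin A {x} := hx ▸ Algebra.mem_top
      rw [Algebra.adjoin_singleton_eq_range_aeval] at hb
      obtain ⟨q, rfl⟩ := hb
      refine ⟨Polynomial.C k * q.map (algebraMap A K), ?_⟩
      rw [map_mul, Polynomial.aeval_C, Polynomial.aeval_map_algebraMap,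
        show x' = ι x from rfl, Polynomial.aeval_algHom_apply]
      show (k ⊗ₜ[A] (1 : B)) * ((1 : K) ⊗ₜ[A] (Polynomial.aeval x q)) = _
      rw [Algebra.TensorProduct.tmul_mul_tmul, mul_one, one_mul]
      rfl
  have hint : IsIntegral A x := IsIntegral.of_finite A x
  obtain ⟨f, hf, hfx⟩ := hint
  have hfx' : Polynomial.aeval x' (f.map (algebraMap A K)) = 0 := by
    rw [Polynomial.aeval_map_algebraMap, show x' = ι x from rfl, Polynomial.aeval_algHom_apply,
      Polynomial.aeval_def, hfx, map_zero]
  have hintK : IsIntegral K x' := ⟨f.map (algebraMap A K), hf.map _, by rw [← Polynomial.aeval_def]; exact hfx'⟩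
  set μ := minpoly K x' with hμ
  have hμm : μ.Monic := minpoly.monic hintK
  set c := (LinearMap.mulLeft K x').charpoly with hc
  have hcx : Polynomial.aeval x' c = 0 := by
    have h := LinearMap.aeval_self_charpoly (LinearMap.mulLeft K x')
    have h1 : LinearMap.mulLeft K x' = Algebra.lmul K S x' := rfl
    rw [← hc, h1, Polynomial.aeval_algHom_apply] at h
    simpa using LinearMap.congr_fun h 1
  have hdeg : c.natDegree ≤ μ.natDegree := by
    rw [hc, LinearMap.charpoly_natDegree]
    let φ : Polynomial.degreeLT K μ.natDegree →ₗ[K] S :=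
      (Polynomial.aeval x').toLinearMap.comp (Polynomial.degreeLT K μ.natDegree).subtype
    have hφ : Function.Surjective φ := by
      intro s
      obtain ⟨q, rfl⟩ := hgen s
      refine ⟨⟨q %ₘ μ, Polynomial.mem_degreeLT.mpr ?_⟩, ?_⟩
      · rw [← Polynomial.degree_eq_natDegree hμm.ne_zero]
        exact Polynomial.degree_modByMonic_lt q hμm
      · show Polynomial.aeval x' (q %ₘ μ) = _
        conv_rhs => rw [← Polynomial.modByMonic_add_div q μ]
        rw [map_add, map_mul, minpoly.aeval, zero_mul, add_zero]
    calc Module.finrank K S = Module.finrank K (LinearMap.range φ) := by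
            rw [LinearMap.range_eq_top.mpr hφ, finrank_top]
      _ ≤ Module.finrank K (Polynomial.degreeLT K μ.natDegree) := φ.finrank_range_le
      _ = μ.natDegree := by rw [(Polynomial.degreeLTEquiv K μ.natDegree).finrank_eq, Module.finrank_fin_fun]
  have hcμ : c = μ := Polynomial.eq_of_monic_of_dvd_of_natDegree_le hμm
    (LinearMap.charpoly_monic _) (minpoly.dvd K x' hcx) hdeg
  obtain ⟨P, hP⟩ := IsIntegrallyClosed.eq_map_mul_C_of_dvd K hf (minpoly.dvd K x' hfx')
  rw [← hμ, hμm.leadingCoeff, Polynomial.C_1, mul_one] at hP
  have hPm : P.Monic := Polynomial.monic_of_injective (IsFractionRing.injective A K) (hP.symm ▸ hμm)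
  refine ⟨P, hPm, hP.trans hcμ.symm, ?_⟩
  ext q
  rw [RingHom.mem_ker, Ideal.mem_span_singleton,
    ← Polynomial.map_dvd_map (algebraMap A K) (IsFractionRing.injective A K) hPm, hP, hμ,
    minpoly.dvd_iff, Polynomial.aeval_map_algebraMap, show x' = ι x from rfl,
    Polynomial.aeval_algHom_apply]
  exact ⟨fun h => by rw [show Polynomial.aeval x q = 0 from h, map_zero],
    fun h => hι (h.trans (map_zero ι).symm)⟩

end Groth.Agent.S17969
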