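import Groth.Statements.S17970
import Groth.Agent.Hens.SemiLocal
import Groth.Agent.Hensel.Local
set_option linter.style.haveILetI false

set_option autoImplicit false
universe u
open Hensel

namespace Groth.Agent.S17970

/-- Let A be a local ring with maximal ideal m and B a commutative A-algebra which is finitely generated
as an A-module. Then B is ring-isomorphic to a finite product of local rings if and only if every
idempotent of B/mB is the image of an idempotent of B. (Reduction modulo mB is always injective on
the idempotents of B, because mB lies in the Jacobson radical of B; so this surjectivity amounts to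
the bijectivity on idempotents in the printed assertion.) -/
theorem result
    (A : Type u) [CommRing A] [IsLocalRing A] (B : Type u) [CommRing B] [Algebra A B] [Module.Finite A B] :
    (∃ (ι : Type u) (_ : Fintype ι) (C : ι → Type u) (_ : ∀ j, CommRing (C j)),
        (∀ j, IsLocalRing (C j)) ∧ Nonempty (B ≃+* (∀ j, C j))) ↔
      Set.SurjOn (Ideal.Quotient.mk (Ideal.map (algebraMap A B) (IsLocalRing.maximalIdeal A)))
        {e : B | IsIdempotentElem e} {e | IsIdempotentElem e} := by
  refine ⟨fun ⟨ι, _, C, _, hC, ⟨φ⟩⟩ => ?_, fun h => ?_⟩
  · exact (Groth.Agent.Hensel.idempotents_bijOn_of_ringEquiv_pi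
      Groth.Agent.Hens.map_maximalIdeal_le_jacobson C hC φ).surjOn
  · haveI := Groth.Agent.Hens.finite_maximalSpectrum_of_finite A B
    exact ⟨MaximalSpectrum B, Fintype.ofFinite _, fun n => Localization.AtPrime n.asIdeal, _,
      fun n => inferInstance, ⟨RingEquiv.ofBijective _
        (Groth.Agent.Hens.bijective_pi_localization
          (Groth.Agent.Hens.exists_idempotents_of_surjOn h))⟩⟩

end Groth.Agent.S17970
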