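import Groth.Statements.S17972
import Groth.Agent.Hens.Lifting
import Mathlib.RingTheory.Smooth.StandardSmoothCotangent
set_option linter.style.haveILetI false

set_option autoImplicit false
universe u
open Hensel

namespace Groth.Agent.S17972

/-- Let A be a henselian local ring with maximal ideal m, let P_1, …, P_n be polynomials over A in n
variables and a₀ ∈ A^n a point with P_i(a₀) ∈ m for all i whose Jacobian determinant
det(∂P_i/∂T_j)(a₀) is a unit of A, i.e. nonzero in the residue field. Then there is a ∈ A^n
congruent to a₀ modulo m in each coordinate with P_i(a) = 0 for all i. -/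
theorem result
    (A : Type u) [CommRing A] [HenselianLocalRing A] (n : ℕ)
    (P : Fin n → MvPolynomial (Fin n) A) (a₀ : Fin n → A)
    (h₀ : ∀ i, MvPolynomial.eval a₀ (P i) ∈ IsLocalRing.maximalIdeal A)
    (hJ : IsUnit (Matrix.of (fun i j => MvPolynomial.eval a₀ (MvPolynomial.pderiv j (P i)))).det) :
    ∃ a : Fin n → A, (∀ i, MvPolynomial.eval a (P i) = 0) ∧
      ∀ j, a j - a₀ j ∈ IsLocalRing.maximalIdeal A := by
  classical
  let S := MvPolynomial (Fin n) A ⧸ Ideal.span (Set.range P)
  let P₀ : Algebra.PreSubmersivePresentation A S (Fin n) (Fin n) :=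
    Algebra.PreSubmersivePresentation.naive id Function.injective_id
  let D : S := P₀.jacobian
  let P₁ := (Algebra.PreSubmersivePresentation.localizationAway (Localization.Away D) D).comp P₀
  have hjac : IsUnit P₁.jacobian := by
    rw [Algebra.PreSubmersivePresentation.comp_jacobian_eq_jacobian_smul_jacobian,
      Algebra.smul_def, Algebra.PreSubmersivePresentation.localizationAway_jacobian]
    exact (IsLocalization.Away.algebraMap_isUnit D).mul (IsLocalization.Away.algebraMap_isUnit D)
  let P₂ : Algebra.SubmersivePresentation A (Localization.Away D) (Unit ⊕ Fin n) (Unit ⊕ Fin n) :=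
    ⟨P₁, hjac⟩
  haveI : Algebra.IsStandardSmoothOfRelativeDimension 0 A (Localization.Away D) :=
    P₂.isStandardSmoothOfRelativeDimension (by simp [Algebra.Presentation.dimension])
  haveI : Algebra.Etale A (Localization.Away D) := inferInstance
  -- the point
  have key : MvPolynomial.aeval (fun i => IsLocalRing.residue A (a₀ i)) =
      (Algebra.ofId A (IsLocalRing.ResidueField A)).comp (MvPolynomial.aeval a₀) :=
    MvPolynomial.algHom_ext fun i => by simp [IsLocalRing.ResidueField.algebraMap_eq]
  let τ : S →ₐ[A] IsLocalRing.ResidueField A :=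
    Ideal.Quotient.liftₐ _ (MvPolynomial.aeval fun i => IsLocalRing.residue A (a₀ i)) (by
      intro x hx
      refine (Ideal.span_le (I := RingHom.ker (MvPolynomial.aeval
        fun i => IsLocalRing.residue A (a₀ i)))).2 ?_ hx
      rintro _ ⟨i, rfl⟩
      show MvPolynomial.aeval _ (P i) = 0
      rw [key, AlgHom.comp_apply, MvPolynomial.aeval_eq_eval]
      exact (IsLocalRing.residue_eq_zero_iff _).2 (h₀ i))
  have hτ : ∀ p : MvPolynomial (Fin n) A, τ (Ideal.Quotient.mk _ p) =
      IsLocalRing.residue A (MvPolynomial.eval a₀ p) := fun p => by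
    show MvPolynomial.aeval _ p = _
    rw [key, AlgHom.comp_apply, MvPolynomial.aeval_eq_eval]
    rfl
  have hD : IsUnit (τ D) := by
    have h1 : D = Ideal.Quotient.mk _ P₀.jacobiMatrix.det :=
      P₀.jacobian_eq_jacobiMatrix_det
    rw [h1, hτ, RingHom.map_det]
    have h2 : (MvPolynomial.eval a₀).mapMatrix P₀.jacobiMatrix =
        (Matrix.of (fun i j => MvPolynomial.eval a₀ (MvPolynomial.pderiv j (P i)))).transpose := by
      ext i j
      simp only [RingHom.mapMatrix_apply, Matrix.map_apply, Matrix.transpose_apply, Matrix.of_apply]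
      exact congrArg _ (Algebra.PreSubmersivePresentation.jacobiMatrix_naive ..)
    rw [h2, Matrix.det_transpose]
    exact hJ.map _
  obtain ⟨θ, hθ, -⟩ := Groth.Agent.Hens.existsUnique_algHom (T := A)
    (Groth.Agent.Hens.awayExt τ D hD)
  let ψ := θ.comp (IsScalarTower.toAlgHom A S (Localization.Away D))
  refine ⟨fun i => ψ (Ideal.Quotient.mk _ (MvPolynomial.X i)), fun i => ?_, fun j => ?_⟩
  · have h1 : ψ.comp (Ideal.Quotient.mkₐ A _) =
        MvPolynomial.aeval (fun i => ψ (Ideal.Quotient.mk _ (MvPolynomial.X i))) :=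
      MvPolynomial.algHom_ext fun i => by rw [MvPolynomial.aeval_X]; rfl
    have h2 := AlgHom.congr_fun h1 (P i)
    rw [AlgHom.comp_apply, Ideal.Quotient.mkₐ_eq_mk,
      Ideal.Quotient.eq_zero_iff_mem.2 (Ideal.subset_span (Set.mem_range_self i)), map_zero,
      MvPolynomial.aeval_eq_eval] at h2
    exact h2.symm
  · rw [← IsLocalRing.residue_eq_zero_iff, map_sub, sub_eq_zero]
    show IsLocalRing.residue A (θ (algebraMap S _ _)) = _
    rw [hθ, Groth.Agent.Hens.awayExt_algebraMap, hτ, MvPolynomial.eval_X]

end Groth.Agent.S17972
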