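import Groth.Statements.S17974
import Mathlib
-- import your own Groth.Agent.* helpers here

set_option autoImplicit false
universe u
open Unram

namespace Groth.Agent.S17974

open scoped TensorProduct

/-- Let A be a commutative ring, B an unramified A-algebra (formally unramified and of finite type), C
an A-algebra, p a prime ideal of C, and u, v : B → C two A-algebra homomorphisms which agree after
composition with C → C/p. Then there is an element f of C not in p such that u and v agree after
composition with the localization map C → C[1/f]. -/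
theorem result
    (A : Type u) [CommRing A] (B : Type u) [CommRing B] [Algebra A B]
    [Algebra.FormallyUnramified A B] [Algebra.FiniteType A B]
    (C : Type u) [CommRing C] [Algebra A C] (p : Ideal C) [p.IsPrime]
    (u v : B →ₐ[A] C)
    (huv : (Ideal.Quotient.mk p).comp u.toRingHom = (Ideal.Quotient.mk p).comp v.toRingHom) :
    ∃ f : C, f ∉ p ∧
      (algebraMap C (Localization.Away f)).comp u.toRingHom =
        (algebraMap C (Localization.Away f)).comp v.toRingHom := by
  let w : B ⊗[A] B →ₐ[A] C := Algebra.TensorProduct.lift u v fun _ _ ↦ .all _ _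
  let K := KaehlerDifferential.ideal A B
  have hK : K * K = K := by
    have h := (Ideal.cotangent_subsingleton_iff K).mp (inferInstanceAs (Subsingleton (Ω[B⁄A])))
    exact h
  let J : Ideal C := K.map w
  have hfg : J.FG := (KaehlerDifferential.ideal_fg A B).map _
  have hle : J ≤ J • (J : Submodule C C) := by
    rw [Ideal.smul_eq_mul, ← Ideal.map_mul, hK]
  obtain ⟨r, hr, hr0⟩ := Submodule.exists_sub_one_mem_and_smul_eq_zero_of_fg_of_le_smul J J hfg hle
  have hJ : ∀ b, u b - v b ∈ J := fun b ↦ by
    have := Ideal.mem_map_of_mem w (KaehlerDifferential.one_smul_sub_smul_one_mem_ideal A b)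
    simpa [w, neg_sub] using J.neg_mem this
  have hJp : J ≤ p := by
    rw [Ideal.map_le_iff_le_comap, show K = _ from (KaehlerDifferential.span_range_eq_ideal A B).symm,
      Ideal.span_le]
    rintro _ ⟨b, rfl⟩
    have := DFunLike.congr_fun huv b
    simp only [RingHom.coe_comp, Function.comp_apply, AlgHom.toRingHom_eq_coe, RingHom.coe_coe,
      Ideal.Quotient.eq] at this
    simpa [w] using p.neg_mem this
  refine ⟨r, fun h ↦ ?_, ?_⟩
  · exact ‹p.IsPrime›.ne_top ((Ideal.eq_top_iff_one p).mpr (by simpa using p.sub_mem h (hJp hr)))
  · ext b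
    rw [← sub_eq_zero]
    simp only [RingHom.coe_comp, Function.comp_apply, AlgHom.toRingHom_eq_coe, RingHom.coe_coe]
    rw [← map_sub, IsLocalization.map_eq_zero_iff (Submonoid.powers r)]
    exact ⟨⟨r, 1, pow_one r⟩, by simpa using hr0 _ (hJ b)⟩

end Groth.Agent.S17974
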