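import Groth.Statements.S17975
import Mathlib.RingTheory.Nakayama
import Mathlib.RingTheory.AdjoinRoot
set_option linter.style.haveILetI false

set_option autoImplicit false
universe u
open Hensel

namespace Groth.Agent.S17975

/-- Let A be a local ring with maximal ideal m and residue field k, C a commutative A-algebra which is
finitely generated as an A-module, Q₀ a monic polynomial of degree n over k, e an A-algebra
isomorphism from C/mC to k[T]/(Q₀), and x an element of C whose class is sent by e to the class of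
T. Then x generates C as an A-algebra, and x is a root of a monic polynomial Q over A of degree n
whose reduction modulo m equals Q₀. -/
theorem result
    (A : Type u) [CommRing A] [IsLocalRing A] (C : Type u) [CommRing C] [Algebra A C] [Module.Finite A C]
    (Q₀ : Polynomial (IsLocalRing.ResidueField A)) (hQ₀ : Q₀.Monic)
    (e : (C ⧸ Ideal.map (algebraMap A C) (IsLocalRing.maximalIdeal A)) ≃ₐ[A] AdjoinRoot Q₀)
    (x : C) (hx : e (Ideal.Quotient.mk (Ideal.map (algebraMap A C) (IsLocalRing.maximalIdeal A)) x) = AdjoinRoot.root Q₀) :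
    Algebra.adjoin A {x} = ⊤ ∧
      ∃ Q : Polynomial A, Q.Monic ∧ Q.natDegree = Q₀.natDegree ∧
        Polynomial.map (IsLocalRing.residue A) Q = Q₀ ∧ Polynomial.aeval x Q = 0 := by
  let J := Ideal.map (algebraMap A C) (IsLocalRing.maximalIdeal A)
  let π : C →ₐ[A] C ⧸ J := Ideal.Quotient.mkₐ A J
  let n := Q₀.natDegree
  let M : Submodule A C := Submodule.span A (Set.range fun i : Fin n => x ^ (i : ℕ))
  have hle : (⊤ : Submodule A C) ≤ M ⊔ IsLocalRing.maximalIdeal A • ⊤ := by
    intro c _
    obtain ⟨p, hp⟩ := AdjoinRoot.mk_surjective (e (π c))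
    let r := p %ₘ Q₀
    obtain ⟨a, ha⟩ : ∃ a : Fin n → A, ∀ i : Fin n, IsLocalRing.residue A (a i) = r.coeff i :=
      ⟨fun i => (IsLocalRing.residue_surjective (r.coeff i)).choose,
        fun i => (IsLocalRing.residue_surjective (r.coeff i)).choose_spec⟩
    rw [Submodule.mem_sup]
    refine ⟨∑ i, a i • x ^ (i : ℕ), Submodule.sum_mem _ fun i _ =>
      M.smul_mem _ (Submodule.subset_span ⟨i, rfl⟩), c - ∑ i, a i • x ^ (i : ℕ), ?_,
      add_sub_cancel _ _⟩
    rw [Ideal.smul_top_eq_map]
    show c - ∑ i, a i • x ^ (i : ℕ) ∈ J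
    rw [← Ideal.Quotient.eq]
    apply e.injective
    change e (π c) = e (π (∑ i, a i • x ^ (i : ℕ)))
    rw [← hp, map_sum, map_sum]
    have hr : AdjoinRoot.mk Q₀ p = AdjoinRoot.mk Q₀ r := by
      rw [AdjoinRoot.mk_eq_mk]
      exact ⟨p /ₘ Q₀, by linear_combination -(Polynomial.modByMonic_add_div p Q₀)⟩
    rw [hr]
    rcases subsingleton_or_nontrivial (AdjoinRoot Q₀) with hs | hs
    · exact Subsingleton.elim _ _
    have hdeg : r.natDegree < n := Polynomial.natDegree_modByMonic_lt p hQ₀ (fun h1 => by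
      rw [h1] at hs
      exact not_subsingleton (AdjoinRoot (1 : Polynomial (IsLocalRing.ResidueField A)))
        (subsingleton_iff_zero_eq_one.1 (by
          rw [← map_one (AdjoinRoot.mk 1), AdjoinRoot.mk_self])))
    conv_lhs => rw [Polynomial.as_sum_range' r n hdeg, map_sum]
    rw [← Fin.sum_univ_eq_sum_range]
    refine Finset.sum_congr rfl fun i _ => ?_
    rw [map_smul, map_smul, map_pow, map_pow, show e (π x) = _ from hx,
      ← Polynomial.C_mul_X_pow_eq_monomial, map_mul, map_pow, AdjoinRoot.mk_X, AdjoinRoot.mk_C,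
      Algebra.smul_def, IsScalarTower.algebraMap_apply A (IsLocalRing.ResidueField A) (AdjoinRoot Q₀),
      IsLocalRing.ResidueField.algebraMap_eq, ha, AdjoinRoot.algebraMap_eq]
  have htop : M = ⊤ := top_le_iff.1
    (Submodule.le_of_le_smul_of_le_jacobson_bot Module.Finite.fg_top
      (IsLocalRing.maximalIdeal_le_jacobson _) hle)
  refine ⟨?_, ?_⟩
  · rw [eq_top_iff]
    intro c _
    have hc : c ∈ M := htop ▸ Submodule.mem_top
    refine (Submodule.span_le.2 ?_ : M ≤ Subalgebra.toSubmodule (Algebra.adjoin A {x})) hc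
    rintro _ ⟨i, rfl⟩
    exact pow_mem (Algebra.self_mem_adjoin_singleton A x) _
  · obtain ⟨a, ha⟩ := (Submodule.mem_span_range_iff_exists_fun A).1
      (htop ▸ Submodule.mem_top : x ^ n ∈ M)
    let Q : Polynomial A := Polynomial.X ^ n - ∑ i : Fin n, Polynomial.monomial (i : ℕ) (a i)
    have hlt : (∑ i : Fin n, Polynomial.monomial (i : ℕ) (a i)).degree < (n : WithBot ℕ) :=
      (Polynomial.degree_sum_le _ _).trans_lt ((Finset.sup_lt_iff (WithBot.bot_lt_coe n)).2
        fun i _ => (Polynomial.degree_monomial_le _ _).trans_lt (WithBot.coe_lt_coe.2 i.2))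
    have hQm : Q.Monic := Polynomial.monic_X_pow_sub hlt
    have hQd : Q.natDegree = n := by
      refine Polynomial.natDegree_eq_of_degree_eq_some ?_
      rw [show Q = _ from rfl, Polynomial.degree_sub_eq_left_of_degree_lt] <;>
        simp [Polynomial.degree_X_pow, hlt]
    have hQx : Polynomial.aeval x Q = 0 := by
      simp only [Q, map_sub, map_pow, Polynomial.aeval_X, map_sum, Polynomial.aeval_monomial]
      rw [← ha, sub_eq_zero]
      exact Finset.sum_congr rfl fun i _ => (Algebra.smul_def _ _)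
    refine ⟨Q, hQm, hQd, ?_, hQx⟩
    have h0 : Polynomial.aeval (AdjoinRoot.root Q₀) (Q.map (IsLocalRing.residue A)) = 0 := by
      rw [← IsLocalRing.ResidueField.algebraMap_eq, Polynomial.aeval_map_algebraMap, ← hx]
      show Polynomial.aeval ((e.toAlgHom.comp π) x) Q = 0
      rw [Polynomial.aeval_algHom_apply, hQx, map_zero]
    rw [AdjoinRoot.aeval_eq, AdjoinRoot.mk_eq_zero] at h0
    exact (Polynomial.eq_of_monic_of_dvd_of_natDegree_le hQ₀ (hQm.map _) h0
      (by rw [hQm.natDegree_map, hQd])).symm ▸ rfl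

end Groth.Agent.S17975
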