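import Groth.Statements.S17976
import Groth.Agent.Hens.PairEtNhd
import Groth.Agent.Hens.PairHfp

set_option autoImplicit false
set_option linter.style.haveILetI false
set_option backward.isDefEq.respectTransparency.types false
universe u
open Hensel

namespace Groth.Agent.S17976

open TensorProduct Polynomial
open Groth.Agent.Hens (PairHenselization pairPoint)

/-- An element of a base change of a stage dying over the henselization is killed by a unit at the point. -/
theorem exists_smul_eq_zero {A : Type u} [CommRing A] {I : Ideal A} {S B : Type u} [CommRing S] [Algebra A S]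
    [Algebra.Etale A S] [CommRing B] [Algebra A B] (θ : S →ₐ[A] PairHenselization A I) (x : S ⊗[A] B)
    (hx : Algebra.TensorProduct.map θ (AlgHom.id A B) x = 0) :
    ∃ t : S, IsUnit (pairPoint A I (θ t)) ∧ algebraMap S (S ⊗[A] B) t * x = 0 := by
  letI := θ.toRingHom.toAlgebra
  haveI : IsScalarTower A S (PairHenselization A I) := .of_algebraMap_eq' θ.comp_algebraMap.symm
  have key : ∀ y : S ⊗[A] B, TensorProduct.AlgebraTensorModule.cancelBaseChange A S (PairHenselization A I)
      (PairHenselization A I) B ((1 : PairHenselization A I) ⊗ₜ[S] y) =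
        Algebra.TensorProduct.map θ (AlgHom.id A B) y := fun y => by
    induction y with
    | zero => simp
    | add y z hy hz => rw [TensorProduct.tmul_add, map_add, map_add, hy, hz]
    | tmul s b =>
      rw [TensorProduct.AlgebraTensorModule.cancelBaseChange_tmul, Algebra.TensorProduct.map_tmul,
        Algebra.smul_def, mul_one]
      rfl
  obtain ⟨t, ht, htx⟩ := Hens.PairEtNhd.exists_smul_eq_zero_of_pair (A := A) (I := I) (S := S)
    (N := S ⊗[A] B) (x := x) ((TensorProduct.AlgebraTensorModule.cancelBaseChange A S (PairHenselization A I)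
      (PairHenselization A I) B).injective (by rw [key, hx, map_zero]))
  exact ⟨t, ht, by rwa [← Algebra.smul_def]⟩

/-- Let A be a commutative ring, I an ideal of A and B an A-algebra of finite type such that B/IB is a
finite A-module. Then there exist an etale A-algebra A' such that A → A'/IA' is surjective with
kernel I, and a commutative ring C which is an A'-algebra finite over A' and an etale B-algebra,
with compatible A-algebra structures, such that B → C/IC is surjective with kernel IB. In scheme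
language: an etale affine neighbourhood S' of Spec (A/I) in Spec A and an etale neighbourhood Z =
Spec C of Spec (B/IB) in Spec B, finite over S', forming a commutative square. -/
theorem result
    (A : Type u) [CommRing A] (I : Ideal A) (B : Type u) [CommRing B] [Algebra A B] [Algebra.FiniteType A B]
    (hfin : Module.Finite A (B ⧸ Ideal.map (algebraMap A B) I)) :
    ∃ (A' : Type u) (_ : CommRing A') (_ : Algebra A A') (_ : Algebra.Etale A A')
      (C : Type u) (_ : CommRing C) (_ : Algebra A C) (_ : Algebra A' C) (_ : Algebra B C)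
      (_ : IsScalarTower A A' C) (_ : IsScalarTower A B C),
      Function.Surjective ((Ideal.Quotient.mk (Ideal.map (algebraMap A A') I)).comp (algebraMap A A')) ∧
      RingHom.ker ((Ideal.Quotient.mk (Ideal.map (algebraMap A A') I)).comp (algebraMap A A')) = I ∧
      Algebra.Etale B C ∧ Module.Finite A' C ∧
      Function.Surjective ((Ideal.Quotient.mk (Ideal.map (algebraMap A C) I)).comp (algebraMap B C)) ∧
      RingHom.ker ((Ideal.Quotient.mk (Ideal.map (algebraMap A C) I)).comp (algebraMap B C)) =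
        Ideal.map (algebraMap A B) I := by
  classical
  let H := PairHenselization A I
  let I' := I.map (algebraMap A H)
  haveI : HenselianRing H I' := (Hens.isPairHenselization_pairHenselization (A := A) (I := I)).1
  -- the quotient of the base change is that of `B`
  haveI : Module.Finite H ((H ⊗[A] B) ⧸ I'.map (algebraMap H (H ⊗[A] B))) := by
    let f : (B ⧸ I.map (algebraMap A B)) →+* (H ⊗[A] B) ⧸ I'.map (algebraMap H (H ⊗[A] B)) :=
      Ideal.quotientMap _ (Algebra.TensorProduct.includeRight : B →ₐ[A] (H ⊗[A] B)).toRingHom (by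
        rw [Ideal.map_le_iff_le_comap, Ideal.comap_comap, AlgHom.toRingHom_eq_coe, AlgHom.comp_algebraMap,
          IsScalarTower.algebraMap_eq A H (H ⊗[A] B), ← Ideal.comap_comap, ← Ideal.map_le_iff_le_comap]
        exact Ideal.le_comap_map)
    let fl : (B ⧸ I.map (algebraMap A B)) →ₐ[A] (H ⊗[A] B) ⧸ I'.map (algebraMap H (H ⊗[A] B)) :=
      { toRingHom := f
        commutes' := fun a => by
          show Ideal.Quotient.mk _ ((Algebra.TensorProduct.includeRight : B →ₐ[A] (H ⊗[A] B)) (algebraMap A B a)) = _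
          rw [AlgHom.commutes]
          rfl }
    haveI : Module.Finite A ((H ⊗[A] B) ⧸ I'.map (algebraMap H (H ⊗[A] B))) := Module.Finite.of_surjective fl.toLinearMap fun z => by
      obtain ⟨z, rfl⟩ := Ideal.Quotient.mk_surjective z
      induction z with
      | zero => exact ⟨0, by simp⟩
      | add y z hy hz =>
        obtain ⟨y', hy⟩ := hy
        obtain ⟨z', hz⟩ := hz
        exact ⟨y' + z', by rw [map_add, map_add, hy, hz]⟩
      | tmul h b =>
        obtain ⟨a, ha⟩ := (Hens.bijective_quotientMap_pairHenselization (A := A) (I := I)).2 (Ideal.Quotient.mk _ h)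
        obtain ⟨a, rfl⟩ := Ideal.Quotient.mk_surjective a
        rw [Ideal.quotientMap_mk, Ideal.Quotient.eq] at ha
        refine ⟨Ideal.Quotient.mk _ (a • b), Ideal.Quotient.eq.2 ?_⟩
        show (1 : H) ⊗ₜ[A] (a • b) - h ⊗ₜ[A] b ∈ _
        rw [TensorProduct.tmul_smul, TensorProduct.smul_tmul', ← TensorProduct.sub_tmul,
          ← Algebra.algebraMap_eq_smul_one, show (algebraMap A H a - h) ⊗ₜ[A] b =
            algebraMap H (H ⊗[A] B) (algebraMap A H a - h) * ((1 : H) ⊗ₜ b) by simp]
        exact Ideal.mul_mem_right _ _ (Ideal.mem_map_of_mem _ ha)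
    exact Module.Finite.of_restrictScalars_finite A H _
  obtain ⟨E, hE, hE1, hEfin, -⟩ := Hens.exists_finite_isPairHenselization (I := I') (H ⊗[A] B)
  haveI := hEfin
  obtain ⟨G, hG⟩ := (inferInstance : Algebra.FiniteType A B).out
  have hint : ∀ b : B, ∃ p : H[X], p.Monic ∧
      E * Polynomial.aeval ((Algebra.TensorProduct.includeRight : B →ₐ[A] (H ⊗[A] B)) b) p = 0 := fun b => by
    obtain ⟨p, hp, hpb⟩ := (Algebra.IsIntegral.of_finite H ((H ⊗[A] B) ⧸ Ideal.span {1 - E})).isIntegral
      (Ideal.Quotient.mkₐ H _ ((Algebra.TensorProduct.includeRight : B →ₐ[A] (H ⊗[A] B)) b))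
    refine ⟨p, hp, ?_⟩
    rw [← Polynomial.aeval_def, Polynomial.aeval_algHom_apply, Ideal.Quotient.mkₐ_eq_mk,
      Ideal.Quotient.eq_zero_iff_mem, Ideal.mem_span_singleton'] at hpb
    obtain ⟨c, hc⟩ := hpb
    rw [← hc, mul_sub, mul_one, mul_sub, mul_comm c E, ← mul_assoc, hE.eq, sub_self]
  choose p hpm hp using hint
  obtain ⟨k, hk⟩ := TensorProduct.exists_finset E
  -- all coefficients at one stage
  let Z : Finset H := k.image Prod.fst ∪ G.biUnion fun b => (p b).coeffs
  obtain ⟨S, _, _, _, θ, s, hs⟩ := Hens.PairEtNhd.exists_stage_fun (fun z : Z => (z : H))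
  have hlift : ∀ b ∈ G, ∃ q : S[X], q.map θ.toRingHom = p b ∧ q.Monic := fun b hb => by
    obtain ⟨q, hq, -, hqm⟩ := Polynomial.lifts_and_natDegree_eq_and_monic (f := θ.toRingHom) (p := p b)
      ((Polynomial.lifts_iff_coeff_lifts _).2 fun n => by
        by_cases hn : (p b).coeff n = 0
        · exact ⟨0, by rw [hn, map_zero]⟩
        · refine ⟨s ⟨(p b).coeff n, Finset.mem_union_right _ (Finset.mem_biUnion.2 ⟨b, hb, ?_⟩)⟩, hs _⟩
          exact Polynomial.coeff_mem_coeffs hn) (hpm b)
    exact ⟨q, hq, hqm⟩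
  choose! q hq hqm using hlift
  let z : H × B → S := fun w => if h : w.1 ∈ Z then s ⟨w.1, h⟩ else 0
  let e : S ⊗[A] B := ∑ w ∈ k, z w ⊗ₜ[A] w.2
  let Θ : S ⊗[A] B →ₐ[A] (H ⊗[A] B) := Algebra.TensorProduct.map θ (AlgHom.id A B)
  have he : Θ e = E := by
    rw [hk, map_sum]
    refine Finset.sum_congr rfl fun w hw => ?_
    have hwZ : w.1 ∈ Z := Finset.mem_union_left _ (Finset.mem_image.2 ⟨w, hw, rfl⟩)
    show Algebra.TensorProduct.map θ (AlgHom.id A B) (z w ⊗ₜ[A] w.2) = _
    simp only [z, dif_pos hwZ]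
    rw [Algebra.TensorProduct.map_tmul, hs]
    rfl
  have hv : ∀ b ∈ G, Θ (e * Polynomial.aeval ((Algebra.TensorProduct.includeRight : B →ₐ[A] S ⊗[A] B) b) (q b)) = 0 :=
    fun b hb => by
      have h1 : Θ.toRingHom.comp (algebraMap S (S ⊗[A] B)) = (algebraMap H (H ⊗[A] B)).comp θ.toRingHom :=
        RingHom.ext fun x => by simp [Θ]
      have h2 : Θ (Polynomial.aeval ((Algebra.TensorProduct.includeRight : B →ₐ[A] S ⊗[A] B) b) (q b)) =
          Polynomial.aeval ((Algebra.TensorProduct.includeRight : B →ₐ[A] (H ⊗[A] B)) b) (p b) := by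
        rw [← hq b hb, Polynomial.aeval_def, Polynomial.aeval_def, Polynomial.eval₂_map]
        show Θ.toRingHom _ = _
        rw [Polynomial.hom_eval₂, h1]
        simp [Θ]
      rw [map_mul, he, h2, hp]
  obtain ⟨t₀, ht₀, ht₀e⟩ := exists_smul_eq_zero θ (e * e - e) (by
    show Θ (e * e - e) = 0
    rw [map_sub, map_mul, he, hE.eq, sub_self])
  have htb : ∀ b ∈ G, ∃ t : S, IsUnit (pairPoint A I (θ t)) ∧
      algebraMap S (S ⊗[A] B) t * (e * Polynomial.aeval ((Algebra.TensorProduct.includeRight : B →ₐ[A] S ⊗[A] B) b) (q b)) = 0 :=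
    fun b hb => exists_smul_eq_zero θ _ (hv b hb)
  choose! t ht hte using htb
  obtain ⟨S', _, _, hS', φ, π, hπ, hu, hker⟩ := Hens.PairEtNhd.exists_etaleNhd ((pairPoint A I).comp θ)
    (t₀ * ∏ b ∈ G, t b) (by
      rw [map_mul, map_prod]
      exact ht₀.mul (IsUnit.prod_iff.mpr fun b hb => ht b hb))
  rw [map_mul, map_prod, IsUnit.mul_iff, IsUnit.prod_iff] at hu
  let Φ : S ⊗[A] B →ₐ[A] S' ⊗[A] B := Algebra.TensorProduct.map φ (AlgHom.id A B)
  have hΦ : ∀ x, Φ (algebraMap S (S ⊗[A] B) x) = algebraMap S' (S' ⊗[A] B) (φ x) := fun x => by simp [Φ]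
  have hkill : ∀ (x : S) (y : S ⊗[A] B), IsUnit (φ x) → algebraMap S (S ⊗[A] B) x * y = 0 → Φ y = 0 :=
    fun x y hx hxy => by
      have := congrArg Φ hxy
      rw [map_mul, map_zero, hΦ] at this
      exact (hx.map (algebraMap S' (S' ⊗[A] B))).mul_right_eq_zero.1 this
  let e' := Φ e
  have he' : IsIdempotentElem e' := by
    have h1 := hkill t₀ _ hu.1 ht₀e
    rw [map_sub, map_mul, sub_eq_zero] at h1
    exact h1
  let C := (S' ⊗[A] B) ⧸ Ideal.span {1 - e'}
  haveI : IsLocalization.Away e' C :=
    IsLocalization.away_of_isIdempotentElem he' Ideal.mk_ker Ideal.Quotient.mk_surjective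
  letI : Algebra B (S' ⊗[A] B) := Algebra.TensorProduct.rightAlgebra
  haveI : Algebra.Etale B (S' ⊗[A] B) := by
    let c : B ⊗[A] S' ≃ₐ[B] S' ⊗[A] B :=
      AlgEquiv.ofRingEquiv (f := (Algebra.TensorProduct.comm A B S').toRingEquiv) fun b => by simp; rfl
    exact Algebra.Etale.of_equiv c
  haveI : Algebra.Etale (S' ⊗[A] B) C := Algebra.Etale.of_isLocalizationAway e'
  haveI : IsScalarTower B (S' ⊗[A] B) C := inferInstance
  haveI : Algebra.Etale B C := Algebra.Etale.comp B (S' ⊗[A] B) C
  haveI : IsScalarTower A B (S' ⊗[A] B) := .of_algebraMap_eq fun a => by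
    show algebraMap A (S' ⊗[A] B) a = (Algebra.TensorProduct.includeRight : B →ₐ[A] S' ⊗[A] B) (algebraMap A B a)
    rw [AlgHom.commutes]
  haveI : IsScalarTower A B C := inferInstance
  haveI : Algebra.FiniteType S' C := Algebra.FiniteType.trans (inferInstance : Algebra.FiniteType S' (S' ⊗[A] B))
    (Algebra.FiniteType.of_surjective (Algebra.ofId (S' ⊗[A] B) C) Ideal.Quotient.mk_surjective)
  haveI : Algebra.IsIntegral S' C := by
    have hint : ∀ b : B, IsIntegral S' (Ideal.Quotient.mk (Ideal.span {1 - e'}) ((1 : S') ⊗ₜ[A] b)) := by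
      intro b
      have hb : b ∈ Algebra.adjoin A (G : Set B) := hG ▸ Algebra.mem_top
      induction hb using Algebra.adjoin_induction with
      | mem b hb =>
        refine ⟨(q b).map φ.toRingHom, (hqm b hb).map _, ?_⟩
        have h1 := hkill (t b) _ (hu.2 b hb) (hte b hb)
        rw [map_mul] at h1
        have h1' := congrArg (Ideal.Quotient.mk (Ideal.span {1 - e'})) h1
        rw [map_mul, map_zero, show Ideal.Quotient.mk (Ideal.span {1 - e'}) e' = 1 from
          ((Ideal.Quotient.eq.2 (Ideal.mem_span_singleton_self (1 - e'))).trans rfl).symm.trans (map_one _),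
          one_mul] at h1'
        rw [← h1', Polynomial.eval₂_map, Polynomial.aeval_def]
        show _ = Ideal.Quotient.mk _ (Φ.toRingHom (Polynomial.eval₂ _ _ _))
        rw [Polynomial.hom_eval₂, Polynomial.hom_eval₂]
        refine congrArg₂ (fun (f : S →+* C) (v : C) => Polynomial.eval₂ f v (q b)) (RingHom.ext fun x => ?_) ?_
        · exact (congrArg (Ideal.Quotient.mk _) (hΦ x)).symm
        · simp [Φ]
      | algebraMap a =>
        rw [← Algebra.TensorProduct.includeRight_apply (R := A) (A := S'), AlgHom.commutes,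
          IsScalarTower.algebraMap_apply A S' (S' ⊗[A] B)]
        exact isIntegral_algebraMap
      | add x y _ _ hx hy => rw [TensorProduct.tmul_add, map_add]; exact hx.add hy
      | mul x y _ _ hx hy =>
        rw [show (1 : S') ⊗ₜ[A] (x * y) = ((1 : S') ⊗ₜ[A] x) * ((1 : S') ⊗ₜ[A] y) by simp, map_mul]
        exact hx.mul hy
    refine ⟨fun c => ?_⟩
    obtain ⟨c, rfl⟩ := Ideal.Quotient.mk_surjective c
    induction c with
    | zero => rw [map_zero]; exact isIntegral_zero
    | add x y hx hy => rw [map_add]; exact hx.add hy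
    | tmul x b =>
      rw [show x ⊗ₜ[A] b = algebraMap S' (S' ⊗[A] B) x * ((1 : S') ⊗ₜ b) by simp, map_mul]
      exact (isIntegral_algebraMap (R := S') (A := C) (x := x)).mul (hint b)
  haveI : Module.Finite S' C := Algebra.IsIntegral.finite
  -- the quotient modulo `I`
  let J := I.map (algebraMap A B)
  let bb : (A ⧸ I) →ₐ[A] B ⧸ J := Ideal.Quotient.liftₐ I (Algebra.ofId A _) fun a ha => by
    show Ideal.Quotient.mk J (algebraMap A B a) = 0
    exact Ideal.Quotient.eq_zero_iff_mem.2 (Ideal.mem_map_of_mem _ ha)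
  let ψ : (H ⊗[A] B) →ₐ[A] B ⧸ J := Algebra.TensorProduct.lift (bb.comp (pairPoint A I)) (Ideal.Quotient.mkₐ A J)
    fun _ _ => .all _ _
  let ψ' : S' ⊗[A] B →ₐ[A] B ⧸ J := Algebra.TensorProduct.lift (bb.comp π) (Ideal.Quotient.mkₐ A J)
    fun _ _ => .all _ _
  have hψ : ψ'.comp Φ = ψ.comp Θ := Algebra.TensorProduct.ext' fun x b => by
    have := AlgHom.congr_fun hπ x
    simp only [AlgHom.comp_apply] at this
    simp [ψ, ψ', Φ, Θ, this]
  have hψE : ψ E = 1 := by
    have : (I'.map (algebraMap H (H ⊗[A] B))) ≤ RingHom.ker ψ.toRingHom := by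
      rw [Ideal.map_map, ← IsScalarTower.algebraMap_eq, Ideal.map_le_iff_le_comap]
      intro a ha
      show ψ (algebraMap A (H ⊗[A] B) a) = 0
      rw [AlgHom.commutes]
      exact Ideal.Quotient.eq_zero_iff_mem.2 (Ideal.mem_map_of_mem _ ha)
    rw [← sub_eq_zero, ← map_one ψ, ← map_sub]
    exact this hE1
  let χ : C →ₐ[A] B ⧸ J := Ideal.Quotient.liftₐ _ ψ' fun x hx => by
    obtain ⟨c, rfl⟩ := Ideal.mem_span_singleton'.1 hx
    rw [map_mul, map_sub, map_one, show ψ' e' = 1 from (AlgHom.congr_fun hψ e).trans ((congrArg ψ he).trans hψE),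
      sub_self, mul_zero]
  have hbij := Hens.PairEtNhd.bijective_of_point π hker
  refine ⟨S', inferInstance, inferInstance, hS', C, inferInstance, inferInstance, inferInstance, inferInstance,
    inferInstance, inferInstance, ?_, ?_, inferInstance, inferInstance, ?_, ?_⟩
  · intro y
    obtain ⟨a, ha⟩ := hbij.2 y
    obtain ⟨a, rfl⟩ := Ideal.Quotient.mk_surjective a
    exact ⟨a, ha⟩
  · refine le_antisymm (fun a ha => ?_) fun a ha => Ideal.Quotient.eq_zero_iff_mem.2 (Ideal.mem_map_of_mem _ ha)
    exact Ideal.Quotient.eq_zero_iff_mem.1 ((injective_iff_map_eq_zero _).1 hbij.1 (Ideal.Quotient.mk I a) ha)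
  · intro y
    obtain ⟨y, rfl⟩ := Ideal.Quotient.mk_surjective y
    obtain ⟨y, rfl⟩ := Ideal.Quotient.mk_surjective y
    induction y with
    | zero => exact ⟨0, by simp⟩
    | add x y hx hy =>
      obtain ⟨a, ha⟩ := hx
      obtain ⟨b, hb⟩ := hy
      exact ⟨a + b, by rw [map_add, ha, hb, map_add, map_add]⟩
    | tmul x b =>
      obtain ⟨a, ha⟩ := hbij.2 (Ideal.Quotient.mk _ x)
      obtain ⟨a, rfl⟩ := Ideal.Quotient.mk_surjective a
      refine ⟨a • b, Ideal.Quotient.eq.2 ?_⟩
      show Ideal.Quotient.mk _ ((1 : S') ⊗ₜ[A] (a • b)) - Ideal.Quotient.mk _ (x ⊗ₜ[A] b) ∈ _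
      rw [← map_sub, TensorProduct.tmul_smul, TensorProduct.smul_tmul', ← TensorProduct.sub_tmul,
        ← Algebra.algebraMap_eq_smul_one, show (algebraMap A S' a - x) ⊗ₜ[A] b =
          algebraMap S' (S' ⊗[A] B) (algebraMap A S' a - x) * ((1 : S') ⊗ₜ b) by simp, map_mul]
      refine Ideal.mul_mem_right _ _ ?_
      have h1 : algebraMap A S' a - x ∈ I.map (algebraMap A S') := Ideal.Quotient.eq.1 ha
      have h2 := Ideal.mem_map_of_mem (algebraMap S' C) h1
      rwa [Ideal.map_map, ← IsScalarTower.algebraMap_eq] at h2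
  · refine le_antisymm (fun b hb => ?_) fun b hb => Ideal.Quotient.eq_zero_iff_mem.2 ?_
    · have hb' : algebraMap B C b ∈ I.map (algebraMap A C) := Ideal.Quotient.eq_zero_iff_mem.1 hb
      have h2 := Ideal.mem_map_of_mem χ.toRingHom hb'
      rw [Ideal.map_map, AlgHom.toRingHom_eq_coe, AlgHom.comp_algebraMap,
        show I.map (algebraMap A (B ⧸ J)) = ⊥ by
          rw [show algebraMap A (B ⧸ J) = (Ideal.Quotient.mk J).comp (algebraMap A B) from rfl, ← Ideal.map_map,
            Ideal.map_quotient_self], Ideal.mem_bot] at h2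
      have h3 : χ (algebraMap B C b) = Ideal.Quotient.mk J b := by
        show ψ' ((1 : S') ⊗ₜ[A] b) = _
        simp [ψ']
      exact Ideal.Quotient.eq_zero_iff_mem.1 (h3.symm.trans h2)
    · have h2 := Ideal.mem_map_of_mem (algebraMap B C) hb
      rwa [Ideal.map_map, ← IsScalarTower.algebraMap_eq] at h2

end Groth.Agent.S17976
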