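import Groth.Statements.S1798
import Groth.Agent.LocCoh.FrameExt
import Mathlib.RingTheory.Nilpotent.Defs

set_option autoImplicit false
universe u
open CategoryTheory AlgebraicGeometry
open LocCoh

namespace Groth.Agent.S1798

open CategoryTheory Opposite

/-- maps of modules are linear on cohomology -/
theorem map_smul_H {X : Scheme.{u}} {M N : X.Modules} (φ : M ⟶ N) (r : Coh.Γtop X) (p : ℕ) (x : Coh.HH X M p) :
    Sheaf.H.map (Coh.smulAb N r) p (Sheaf.H.map ((SheafOfModules.toSheaf X.ringCatSheaf).map φ) p x) =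
      Sheaf.H.map ((SheafOfModules.toSheaf X.ringCatSheaf).map φ) p (Sheaf.H.map (Coh.smulAb M r) p x) := by
  rw [← Sheaf.H.map_comp_apply, ← Sheaf.H.map_comp_apply]
  refine congrArg (fun ψ => Sheaf.H.map ψ p x) ?_
  ext W m
  let z : Γ(X, W.unop) := X.presheaf.map (homOfLE (le_top : W.unop ≤ ⊤)).op r
  exact (φ.app_smul z m).symm

/-- a global power factoring through a free module transports annihilators -/
theorem smul_eq_zero_of_factor {X : Scheme.{u}} {F : X.Modules} {n : ℕ} (g j : Coh.Γtop X) (p : ℕ)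
    (a : Fin n → (Coh.structureModule X ⟶ F)) (b : Fin n → (F ⟶ Coh.structureModule X))
    (h : ∀ (V : X.Opens) (x : Γ(F, V)), (X.presheaf.map (homOfLE (le_top : V ≤ ⊤)).op).hom g • x =
      ∑ i, (a i).app V ((b i).app V x))
    (hj : ∀ x : Coh.HH X (Coh.structureModule X) p, j • x = 0) (x : Coh.HH X F p) : j • g • x = 0 := by
  let T : X.Modules ⥤ Sheaf (Opens.grothendieckTopology X) AddCommGrpCat.{u} :=
    SheafOfModules.toSheaf X.ringCatSheaf
  have hg : Coh.smulAb F g = T.map (show F ⟶ F from ∑ i, b i ≫ a i) := by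
    ext W m
    refine (h W.unop m).trans ?_
    exact (map_sum (AddMonoidHom.mk' (fun φ : F ⟶ F => φ.app W.unop m) fun _ _ => rfl)
      (fun i => b i ≫ a i) Finset.univ).symm
  have hs : g • x = ∑ i, Sheaf.H.map (T.map (a i)) p (Sheaf.H.map (T.map (b i)) p x) := by
    show Sheaf.H.map (Coh.smulAb F g) p x = _
    rw [hg]
    let Φ : (F ⟶ F) →+ Coh.HH X F p := AddMonoidHom.mk' (fun φ => Sheaf.H.map (T.map φ) p x) fun φ ψ => by
      rw [show T.map (φ + ψ) = T.map φ + T.map ψ from rfl]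
      exact Sheaf.H.map_add_apply _ _ x
    refine (map_sum Φ _ Finset.univ).trans (Finset.sum_congr rfl fun i _ => ?_)
    show Sheaf.H.map (T.map (b i ≫ a i)) p x = _
    rw [T.map_comp, Sheaf.H.map_comp_apply]
  rw [hs, Finset.smul_sum]
  refine Finset.sum_eq_zero fun i _ => ?_
  refine (map_smul_H (a i) j p _).trans ?_
  exact (congrArg _ (hj _)).trans (map_zero _)

/-- Let A be a ring, J ⊆ I finitely generated ideals, U the open complement of V(I) in Spec A and p ≥ 0.
If some power of J kills H^p(U, O_U), then for each finite locally free O_U-module F some power of J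
kills H^p(U, F). -/
theorem result (A : Type u) [CommRing A] (J I : Ideal A) (hJI : J ≤ I) (hJ : J.FG) (hI : I.FG) (p n : ℕ) (hO : ∀ a ∈ J ^ n, ∀ x : Coh.HH (↑(LocCoh.puncturedOpen A I)) (Coh.structureModule (↑(LocCoh.puncturedOpen A I))) p, a • x = 0) (F : (↑(LocCoh.puncturedOpen A I) : Scheme.{u}).Modules) (hF : FlatMod.IsFinLocFree F) : ∃ m : ℕ, ∀ a ∈ J ^ m, ∀ x : Coh.HH (↑(LocCoh.puncturedOpen A I)) F p, a • x = 0 := by
  classical
  let U := LocCoh.puncturedOpen A I
  let X : Scheme.{u} := U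
  let ρ : A →+* Coh.Γtop X := Coh.toGlobal (X ↘ Spec (CommRingCat.of A))
  have hsm : ∀ (G : X.Modules) (a : A) (x : Coh.HH X G p), a • x = ρ a • x := fun _ _ _ => rfl
  have hρ : ∀ a : A, X.basicOpen (show Γ(X, ⊤) from ρ a) = U.ι ⁻¹ᵁ (PrimeSpectrum.basicOpen a : (Spec (CommRingCat.of A)).Opens) := fun a => by
    show X.basicOpen (U.ι.appTop ((Scheme.ΓSpecIso (CommRingCat.of A)).inv a)) = _
    rw [← Scheme.preimage_basicOpen_top, basicOpen_eq_of_affine]
  have : X.IsSeparated := ⟨by rw [← Limits.terminal.comp_from U.ι]; infer_instance⟩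
  have : CompactSpace X := by
    have hc : IsCompact (U : Set (Spec (CommRingCat.of A))) := by
      obtain ⟨s, hs⟩ := hI
      have : (U : Set (Spec (CommRingCat.of A))) = (PrimeSpectrum.zeroLocus (s : Set A))ᶜ := by
        show (PrimeSpectrum.zeroLocus (I : Set A))ᶜ = _
        rw [← hs]
        exact congrArg _ (PrimeSpectrum.zeroLocus_span _)
      rw [this]
      exact (PrimeSpectrum.isCompact_isOpen_iff.mpr ⟨s, rfl⟩).1
    exact isCompact_iff_compactSpace.mp hc
  have hloc : ∀ x : X, ∃ a : A, x ∈ X.basicOpen (show Γ(X, ⊤) from ρ a) ∧ ∃ (n : ℕ)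
      (v : Fin n → Γ(F, X.basicOpen (show Γ(X, ⊤) from ρ a))),
      Groth.Agent.LFFrame.IsFrame F (X.basicOpen (show Γ(X, ⊤) from ρ a)) v := by
    intro x
    obtain ⟨W, n, v, hxW, hv⟩ := Groth.Agent.LFFrame.exists_isFrame_of_isFinLocFree hF x
    obtain ⟨_, ⟨_, ⟨a, rfl⟩, rfl⟩, hxa, haW⟩ := PrimeSpectrum.isBasis_basic_opens.exists_subset_of_mem_open
      (show U.ι x ∈ (U.ι ''ᵁ W : (Spec (CommRingCat.of A)).Opens) from ⟨x, hxW, rfl⟩) (U.ι ''ᵁ W).2
    have hle : X.basicOpen (show Γ(X, ⊤) from ρ a) ≤ W := by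
      rw [hρ]
      intro y hy
      obtain ⟨z, hz, hzy⟩ := haW hy
      rwa [← U.ι.isOpenEmbedding.injective hzy]
    refine ⟨a, ?_, n, fun i => Groth.Agent.QCoh.res F hle (v i), Groth.Agent.LocCoh.FrameExt.isFrame_mono hv hle⟩
    rw [hρ]
    exact hxa
  choose g hxg nn v hv using hloc
  obtain ⟨t, ht⟩ := isCompact_univ.elim_finite_subcover
    (fun x => (X.basicOpen (show Γ(X, ⊤) from ρ (g x)) : Set X)) (fun x => (X.basicOpen _).2)
    fun x _ => Set.mem_iUnion.mpr ⟨x, hxg x⟩
  choose N a b hab using fun x => Groth.Agent.LocCoh.FrameExt.exists_factor (show Γ(X, ⊤) from ρ (g x)) hF (hv x)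
  let K : Ideal A := Ideal.span ((fun x => g x ^ N x) '' (t : Set X))
  have hrad : I ≤ K.radical := by
    intro c hc
    rw [Ideal.radical_eq_sInf, Ideal.mem_sInf]
    rintro P ⟨hKP, hP⟩
    by_contra hcP
    let z : X := ⟨(⟨P, hP⟩ : PrimeSpectrum A), fun hz => hcP (hz hc)⟩
    obtain ⟨x, hx, hzx⟩ := Set.mem_iUnion₂.mp (ht (Set.mem_univ z))
    rw [SetLike.mem_coe, hρ] at hzx
    exact hzx (hP.mem_of_pow_mem _ (hKP (Ideal.subset_span ⟨x, hx, rfl⟩)))
  obtain ⟨k, hk⟩ := Ideal.exists_pow_le_of_le_radical_of_fg hrad hI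
  refine ⟨n + k, fun c hc x => ?_⟩
  have hle : J ^ (n + k) ≤ J ^ n * K := by
    rw [pow_add]
    exact Ideal.mul_mono le_rfl ((Ideal.pow_right_mono hJI k).trans hk)
  refine Submodule.mul_induction_on (C := fun c => c • x = 0) (hle hc) (fun j hj e he => ?_)
    (fun c d hc hd => by rw [add_smul, hc, hd, add_zero])
  rw [mul_smul]
  induction he using Submodule.span_induction generalizing j with
  | mem e he =>
    obtain ⟨y, -, rfl⟩ := he
    rw [hsm, hsm, map_pow]
    refine smul_eq_zero_of_factor _ _ p (a y) (b y) (fun V m => ?_) (fun z => ?_) x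
    · refine (congrArg (fun r : Γ(X, V) => r • m) ?_).trans (hab y V m)
      exact map_pow (X.presheaf.map (homOfLE (le_top : V ≤ ⊤)).op).hom (show Γ(X, ⊤) from ρ (g y)) _
    · exact (hsm _ j z).symm.trans (hO j hj z)
  | zero => rw [zero_smul, smul_zero]
  | add e f _ _ he hf => rw [add_smul, smul_add, he j hj, hf j hj, add_zero]
  | smul r e _ he =>
    rw [smul_eq_mul, mul_smul, smul_comm j r, he j hj, smul_zero]

end Groth.Agent.S1798
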