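import Groth.Statements.S17983
import Groth.Agent.WeilNum84.Family
-- import your own Groth.Agent.* helpers here

set_option autoImplicit false
universe u
open WeilNum

namespace Groth.Agent.S17983

/-- Let p be a prime number, e ≥ 1 and q = p^e. Let π be an element of a field of characteristic zero
which is integral over ℤ, with minimal polynomial P over ℤ, and assume that every complex root of P
has absolute value √q and that no complex root of P is real (π is a nonreal Weil q-number). Then the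
degree of P is even, say 2d, and writing a_j for the coefficient of x^j in P one has a_{d−r} = q^r ·
a_{d+r} for every 0 ≤ r ≤ d. -/
theorem result (p e : ℕ) [Fact p.Prime] (he : 0 < e)
    (K : Type u) [Field K] [CharZero K] (π : K) (hπ : IsIntegral ℤ π)
    (hweil : ∀ z ∈ (minpoly ℤ π).aroots ℂ, ‖z‖ = Real.sqrt ((p : ℝ) ^ e))
    (hnr : ∀ z ∈ (minpoly ℤ π).aroots ℂ, z.im ≠ 0) :
    Even (minpoly ℤ π).natDegree ∧
      ∀ r ≤ (minpoly ℤ π).natDegree / 2,
        (minpoly ℤ π).coeff ((minpoly ℤ π).natDegree / 2 - r) =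
          (p : ℤ) ^ (e * r) * (minpoly ℤ π).coeff ((minpoly ℤ π).natDegree / 2 + r) := by
  have hF : Groth.Agent.WeilNum84.Fam p e (ι := Unit) (K := fun _ => K) (fun _ => π) :=
    ⟨Fact.out, fun _ => hπ, fun _ => hweil⟩
  have hW := Groth.Agent.WeilNum84.isWeil_minpoly hF ()
  set P := minpoly ℤ π with hP
  have hnd : (P.aroots ℂ).Nodup := by
    have h := Groth.Agent.WeilNum84.nodup_aroots hF (fun _ _ _ => Subsingleton.elim _ _)
    have hPw : Groth.Agent.WeilNum84.Pw (ι := Unit) (K := fun _ => K) (fun _ => π) = P := by simp [Groth.Agent.WeilNum84.Pw, hP]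
    rwa [hPw] at h
  set x : ℝ := Real.sqrt ((p : ℝ) ^ e) with hx
  have hp0 : (0 : ℝ) < (p : ℝ) ^ e := by have := (Fact.out : p.Prime).pos; positivity
  have hx0 : 0 < x := Real.sqrt_pos.2 hp0
  have hx2 : x ^ 2 = (((p : ℤ) ^ e : ℤ) : ℝ) := by rw [hx, Real.sq_sqrt hp0.le]; simp
  have hne : ∀ y : ℝ, Polynomial.aeval y P ≠ 0 := fun y h0 => by
    refine hnr (y : ℂ) (Polynomial.mem_aroots.2 ⟨hW.monic.ne_zero, ?_⟩) (Complex.ofReal_im y)
    have := Polynomial.aeval_algHom_apply (Complex.ofRealHom.toIntAlgHom) y P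
    rw [h0, map_zero] at this
    exact this
  have key : ∀ y : ℝ, y ≠ 0 → (((p : ℤ) ^ e : ℤ) : ℝ) / y = y → y ^ P.natDegree = (P.coeff 0 : ℝ) := by
    intro y hy0 hy
    have h := congrArg (Polynomial.aeval y) (hW.recip_eq hnd)
    rw [Groth.Agent.WeilNum84.aeval_recip _ _ hy0, hy, map_mul, Polynomial.aeval_C, algebraMap_int_eq, eq_intCast] at h
    exact mul_right_cancel₀ (hne y) h
  have hposx := key x hx0.ne' (by rw [div_eq_iff hx0.ne', ← hx2, sq])
  have hnegx := key (-x) (neg_ne_zero.2 hx0.ne') (by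
    rw [div_eq_iff (neg_ne_zero.2 hx0.ne'), ← hx2, sq, neg_mul_neg])
  have heven : Even P.natDegree := by
    rcases Nat.even_or_odd P.natDegree with h | h
    · exact h
    · rw [h.neg_pow, ← hposx] at hnegx
      exact absurd hnegx (by linarith [pow_pos hx0 P.natDegree])
  refine ⟨heven, fun r hr => ?_⟩
  obtain ⟨D, hD⟩ := heven
  have hdiv : P.natDegree / 2 = D := by omega
  rw [hdiv] at hr ⊢
  have h0 : P.coeff 0 = 1 * ((p : ℤ) ^ e) ^ D := by
    rw [hD, ← two_mul, pow_mul, hx2] at hposx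
    rw [one_mul]
    exact_mod_cast hposx.symm
  rw [hW.coeff_low hnd (by omega) h0 hr, one_mul, pow_mul]

end Groth.Agent.S17983
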