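import Groth.Statements.S17985
import Groth.Agent.WeilNum84.Order
-- import your own Groth.Agent.* helpers here

set_option autoImplicit false
universe u
open MvPolynomial
open WeilNum

namespace Groth.Agent.S17985

/-- Let p be a prime, e ≥ 1 and q = p^e. Let (π_i) be a nonempty finite family of pairwise nonconjugate
Weil q-numbers: π_i is an element of a field K_i of characteristic zero, integral over ℤ with
minimal polynomial P_i, every complex root of P_i has absolute value √q, and P_i ≠ P_j for i ≠ j.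
Suppose the total degree Σ_i deg P_i is even, equal to 2D. Let R_w be the minimal central order, the
image of ℤ[F, V] → ∏_i K_i, F ↦ (π_i), V ↦ (q/π_i). Then R_w is free of rank 2D as a ℤ-module, has
Krull dimension 1, and is a Gorenstein ring (Noetherian, with all localizations at primes of finite
injective dimension over themselves). -/
theorem result (p e : ℕ) [Fact p.Prime] (he : 0 < e)
    (ι : Type) [Fintype ι] (K : ι → Type u) [∀ i, Field (K i)] [∀ i, CharZero (K i)] (π : ∀ i, K i)
    (hint : ∀ i, IsIntegral ℤ (π i))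
    (hweil : ∀ i, ∀ z ∈ (minpoly ℤ (π i)).aroots ℂ, ‖z‖ = Real.sqrt ((p : ℝ) ^ e))
    (hinj : ∀ i j, minpoly ℤ (π i) = minpoly ℤ (π j) → i = j)
    [Nonempty ι] (D : ℕ) (hD : ∑ i, (minpoly ℤ (π i)).natDegree = 2 * D) :
    Module.Free ℤ (MvPolynomial.aeval ![fun i => π i, fun i => ((p : K i) ^ e) / π i] :
        MvPolynomial (Fin 2) ℤ →ₐ[ℤ] ((i : ι) → K i)).range ∧
      Module.finrank ℤ (MvPolynomial.aeval ![fun i => π i, fun i => ((p : K i) ^ e) / π i] :
        MvPolynomial (Fin 2) ℤ →ₐ[ℤ] ((i : ι) → K i)).range = 2 * D ∧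
      ringKrullDim (MvPolynomial.aeval ![fun i => π i, fun i => ((p : K i) ^ e) / π i] :
        MvPolynomial (Fin 2) ℤ →ₐ[ℤ] ((i : ι) → K i)).range = 1 ∧
      LocCoh.IsGorensteinRing (MvPolynomial.aeval ![fun i => π i, fun i => ((p : K i) ^ e) / π i] :
        MvPolynomial (Fin 2) ℤ →ₐ[ℤ] ((i : ι) → K i)).range := by
  have hF : Groth.Agent.WeilNum84.Fam p e π := ⟨Fact.out, hint, hweil⟩
  have hD' : (Groth.Agent.WeilNum84.Pw π).natDegree = 2 * D := by rw [Groth.Agent.WeilNum84.natDegree_Pw hF, hD]
  let b := Groth.Agent.WeilNum84.windowBasis hF hinj hD'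
  have hfree : Module.Free ℤ (Groth.Agent.WeilNum84.ev p e π).range := Module.Free.of_basis b
  have hfin : Module.Finite ℤ (Groth.Agent.WeilNum84.ev p e π).range := Module.Finite.of_basis b
  have hrank : Module.finrank ℤ (Groth.Agent.WeilNum84.ev p e π).range = 2 * D := by
    rw [Module.finrank_eq_card_basis b, Fintype.card_fin]
  have hinj' : Function.Injective (algebraMap ℤ (Groth.Agent.WeilNum84.ev p e π).range) := fun x y h => by
    obtain ⟨i⟩ := (inferInstance : Nonempty ι)
    have := congrFun (congrArg Subtype.val h) i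
    simpa [algebraMap_int_eq] using this
  obtain ⟨c, -, -, hc⟩ := Groth.Agent.WeilNum84.exists_window hF hinj hD'
  obtain ⟨hr, hg⟩ := Groth.Agent.WeilNum84.isWeaklyRegular hF hinj hD' hc
  refine ⟨hfree, hrank, Groth.Agent.WeilNum84.ringKrullDim_eq_one hinj', ?_⟩
  refine Groth.Agent.WeilNum84.isGorensteinRing_of_ker_eq_span_pair (Groth.Agent.WeilNum84.ev p e π).rangeRestrict.toRingHom
    (Groth.Agent.WeilNum84.ev p e π).rangeRestrict_surjective ?_ hr hg
  rw [← Groth.Agent.WeilNum84.ker_ev hF hinj hD' hc]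
  ext x
  rw [RingHom.mem_ker, RingHom.mem_ker]
  exact Subtype.ext_iff

end Groth.Agent.S17985
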