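import Groth.Statements.S17987
import Groth.Agent.S17983
import Groth.Agent.WeilNum84.Padic
-- import your own Groth.Agent.* helpers here

set_option autoImplicit false
universe u
open scoped Classical
open WeilNum

namespace Groth.Agent.S17987

/-- Let p be a prime, e ≥ 1 and q = p^e, and let (π_i) be a finite family of nonreal Weil q-numbers: π_i
lies in a field K_i of characteristic zero, is integral over ℤ with minimal polynomial P_i, every
complex root of P_i has absolute value √q, and no complex root of P_i is real; in particular deg P_i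
= 2d_i is even. Call π_i ordinary when exactly half of the roots of P_i in an algebraic closure of
ℚ_p, counted with multiplicity, are p-adic units (have absolute value 1). Then all π_i are ordinary
if and only if p does not divide ∏_i a_{d_i}, the product of the middle coefficients of the P_i
(this product is the value at F = V = 0 of the symmetric polynomial h_w of the family). -/
theorem result (p e : ℕ) [Fact p.Prime] (he : 0 < e)
    (ι : Type) [Fintype ι] (K : ι → Type u) [∀ i, Field (K i)] [∀ i, CharZero (K i)] (π : ∀ i, K i)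
    (hint : ∀ i, IsIntegral ℤ (π i))
    (hweil : ∀ i, ∀ z ∈ (minpoly ℤ (π i)).aroots ℂ, ‖z‖ = Real.sqrt ((p : ℝ) ^ e))
    (hnr : ∀ i, ∀ z ∈ (minpoly ℤ (π i)).aroots ℂ, z.im ≠ 0) :
    (∀ i, 2 * Multiset.card (((minpoly ℤ (π i)).aroots (PadicAlgCl p)).filter (fun z => ‖z‖ = 1)) = (minpoly ℤ (π i)).natDegree) ↔
      ¬ ((p : ℤ) ∣ ∏ i, (minpoly ℤ (π i)).coeff ((minpoly ℤ (π i)).natDegree / 2)) := by
  have hpp : p.Prime := Fact.out
  rw [(Nat.prime_iff_prime_int.1 hpp).dvd_finset_prod_iff]
  simp only [Finset.mem_univ, true_and, not_exists]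
  refine forall_congr' fun i => ?_
  obtain ⟨hev, hcoef⟩ := Groth.Agent.S17983.result p e he (K i) (π i) (hint i) (hweil i) (hnr i)
  set P := minpoly ℤ (π i)
  obtain ⟨d, hd⟩ := hev
  have hdiv : P.natDegree / 2 = d := by omega
  rw [hdiv] at hcoef ⊢
  have hnorm : ∀ k : ℤ, ‖(algebraMap ℤ (PadicAlgCl p)) k‖ = ‖(k : ℚ_[p])‖ := fun k => by
    rw [eq_intCast (algebraMap ℤ (PadicAlgCl p)) k, ← map_intCast (algebraMap ℚ_[p] (PadicAlgCl p)) k]
    exact PadicAlgCl.norm_extends p (k : ℚ_[p])
  have hP : (P.map (algebraMap ℤ (PadicAlgCl p))).Monic := (minpoly.monic (hint i)).map _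
  have hdeg : (P.map (algebraMap ℤ (PadicAlgCl p))).natDegree = P.natDegree :=
    (minpoly.monic (hint i)).natDegree_map _
  have h := Groth.Agent.WeilNum84.half_units_iff hP (fun j => by rw [Polynomial.coeff_map, hnorm]; exact Padic.norm_int_le_one _)
    (d := d) (by rw [hdeg]; omega) (fun j hj => by
      rw [Polynomial.coeff_map, hnorm, Padic.norm_intCast_lt_one_iff]
      obtain ⟨r, hr⟩ : ∃ r, d - j = r := ⟨_, rfl⟩
      rw [show j = d - r by omega, hcoef r (by omega)]
      exact Dvd.dvd.mul_right (dvd_pow_self _ (Nat.mul_ne_zero he.ne' (by omega))) _)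
  rw [hdeg, Polynomial.coeff_map, hnorm, Padic.norm_intCast_lt_one_iff] at h
  exact h

end Groth.Agent.S17987
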