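import Groth.Statements.S17986
import Groth.Agent.S17987
import Groth.Agent.WeilNum84.Aug
-- import your own Groth.Agent.* helpers here

set_option autoImplicit false
universe u
open MvPolynomial
open scoped Classical
open WeilNum

namespace Groth.Agent.S17986

/-- Let p be a prime, e ≥ 1, and assume q = p^e = s² for an integer s (of either sign; s is then a
rational Weil q-number). Let (π_i) be a finite family of pairwise nonconjugate nonrational Weil
q-numbers: π_i lies in a field K_i of characteristic zero, is integral over ℤ with minimal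
polynomial P_i of degree different from 1, every complex root of P_i has absolute value √q, and P_i
≠ P_j for i ≠ j (since q is a square these π_i are nonreal, so Σ_i deg P_i = 2D is even). Put P_v =
∏_i P_i and let h ∈ ℤ[F, V] (F = X_0, V = X_1) be any polynomial with F^D · h ≡ P_v(F) modulo FV −
q. Consider the ring map ℤ[F, V] → (∏_i K_i) × ℚ sending F to ((π_i)_i, s) and V to ((q/π_i)_i, s);
its image R_w is the minimal central order of the family enlarged by s. Then: (1) its kernel is the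
ideal generated by FV − q, h · (F − s) and h · (V − s); (2) R_w is a Gorenstein ring if and only if
every π_i is ordinary, meaning that exactly half of the roots of P_i in an algebraic closure of ℚ_p,
counted with multiplicity, are p-adic units. -/
theorem result (p e : ℕ) [Fact p.Prime] (he : 0 < e)
    (s : ℤ) (hs : s ^ 2 = (p : ℤ) ^ e)
    (ι : Type) [Fintype ι] (K : ι → Type u) [∀ i, Field (K i)] [∀ i, CharZero (K i)] (π : ∀ i, K i)
    (hint : ∀ i, IsIntegral ℤ (π i)) (hdeg : ∀ i, (minpoly ℤ (π i)).natDegree ≠ 1)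
    (hweil : ∀ i, ∀ z ∈ (minpoly ℤ (π i)).aroots ℂ, ‖z‖ = Real.sqrt ((p : ℝ) ^ e))
    (hinj : ∀ i j, minpoly ℤ (π i) = minpoly ℤ (π j) → i = j)
    (D : ℕ) (hD : ∑ i, (minpoly ℤ (π i)).natDegree = 2 * D)
    (h : MvPolynomial (Fin 2) ℤ)
    (hh : X 0 ^ D * h - Polynomial.aeval (X 0 : MvPolynomial (Fin 2) ℤ) (∏ i, minpoly ℤ (π i)) ∈
      Ideal.span ({X 0 * X 1 - C ((p : ℤ) ^ e)} : Set (MvPolynomial (Fin 2) ℤ))) :
    RingHom.ker (MvPolynomial.aeval ![(⟨fun i => π i, (s : ℚ)⟩ : ((i : ι) → K i) × ℚ), ⟨fun i => ((p : K i) ^ e) / π i, (s : ℚ)⟩] :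
        MvPolynomial (Fin 2) ℤ →ₐ[ℤ] (((i : ι) → K i) × ℚ)) =
        Ideal.span {X 0 * X 1 - C ((p : ℤ) ^ e), h * (X 0 - C s), h * (X 1 - C s)} ∧
      (LocCoh.IsGorensteinRing (MvPolynomial.aeval ![(⟨fun i => π i, (s : ℚ)⟩ : ((i : ι) → K i) × ℚ), ⟨fun i => ((p : K i) ^ e) / π i, (s : ℚ)⟩] :
        MvPolynomial (Fin 2) ℤ →ₐ[ℤ] (((i : ι) → K i) × ℚ)).range ↔
        ∀ i, 2 * Multiset.card (((minpoly ℤ (π i)).aroots (PadicAlgCl p)).filter (fun z => ‖z‖ = 1)) = (minpoly ℤ (π i)).natDegree) := by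
  have hF : Groth.Agent.WeilNum84.Fam p e π := ⟨Fact.out, hint, hweil⟩
  have hA : Groth.Agent.WeilNum84.Aug p e π s D h :=
    ⟨hF, hinj, by rw [Groth.Agent.WeilNum84.natDegree_Pw hF, hD], hdeg, hs, he, hh⟩
  refine ⟨hA.ker_evs, ?_⟩
  -- all roots are nonreal
  have hnr : ∀ i, ∀ z ∈ (minpoly ℤ (π i)).aroots ℂ, z.im ≠ 0 := by
    intro i z hz him
    have hz' := Polynomial.mem_aroots.1 hz
    have hnorm : ‖z‖ ^ 2 = (((p : ℤ) ^ e : ℤ) : ℝ) := (Groth.Agent.WeilNum84.isWeil_minpoly hF i).norm_sq z hz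
    have hre : z = (z.re : ℂ) := Complex.ext rfl (by simp [him])
    have h2 : z.re ^ 2 = ((s : ℤ) : ℝ) ^ 2 := by
      rw [hre, Complex.norm_real, Real.norm_eq_abs, sq_abs, ← hs, Int.cast_pow] at hnorm
      exact hnorm
    obtain ⟨x, hx⟩ : ∃ x : ℤ, z = (x : ℂ) := by
      rcases sq_eq_sq_iff_eq_or_eq_neg.1 h2 with h' | h'
      · exact ⟨s, by rw [hre, h']; simp⟩
      · exact ⟨-s, by rw [hre, h']; simp⟩
    have h0 := hz'.2
    rw [hx, show (x : ℂ) = algebraMap ℤ ℂ x from (eq_intCast _ x).symm,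
      Polynomial.aeval_algebraMap_apply_eq_algebraMap_eval, eq_intCast, Int.cast_eq_zero] at h0
    exact hA.minpoly_eval_ne i x h0
  rw [Groth.Agent.S17987.result p e he ι K π hint hweil hnr]
  -- reduction mod p
  have hF' := hF.prime
  set f : ℤ →+* ZMod p := Int.castRingHom (ZMod p)
  let d : ι → ℕ := fun i => (minpoly ℤ (π i)).natDegree / 2
  have heven : ∀ i, (minpoly ℤ (π i)).natDegree = 2 * d i := fun i => by
    obtain ⟨m, hm⟩ := (Groth.Agent.S17983.result p e he (K i) (π i) (hint i) (hweil i) (hnr i)).1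
    simp only [d]; omega
  have hDd : ∑ i, d i = D := by
    have h2 : ∑ i, (minpoly ℤ (π i)).natDegree = 2 * ∑ i, d i := by
      rw [Finset.mul_sum]; exact Finset.sum_congr rfl fun i _ => heven i
    omega
  have hlow : ∀ i, Polynomial.X ^ d i ∣ (minpoly ℤ (π i)).map f := fun i => by
    rw [Polynomial.X_pow_dvd_iff]
    intro j hj
    have hc := (Groth.Agent.S17983.result p e he (K i) (π i) (hint i) (hweil i) (hnr i)).2 (d i - j) (Nat.sub_le _ _)
    rw [show (minpoly ℤ (π i)).natDegree / 2 - (d i - j) = j by simp only [d] at hj ⊢; omega] at hc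
    rw [Polynomial.coeff_map, hc, map_mul, map_pow, map_natCast, ZMod.natCast_self,
      zero_pow (Nat.mul_ne_zero he.ne' (by omega)), zero_mul]
  choose g hg using hlow
  have hprod : f (∏ i, (minpoly ℤ (π i)).coeff (d i)) = f ((Groth.Agent.WeilNum84.Pw π).coeff D) := by
    rw [← Polynomial.coeff_map, Polynomial.map_prod, Finset.prod_congr rfl fun i _ => hg i, Finset.prod_mul_distrib,
      Finset.prod_pow_eq_pow_sum, hDd, Polynomial.coeff_X_pow_mul', if_pos le_rfl, Nat.sub_self,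
      Polynomial.coeff_zero_eq_eval_zero, Polynomial.eval_prod, map_prod]
    refine Finset.prod_congr rfl fun i _ => ?_
    rw [← Polynomial.coeff_zero_eq_eval_zero, ← Polynomial.coeff_map, hg i, Polynomial.coeff_X_pow_mul',
      if_pos le_rfl, Nat.sub_self]
  let θ : MvPolynomial (Fin 2) ℤ →ₐ[ℤ] Polynomial ℤ := MvPolynomial.aeval ![(Polynomial.X : Polynomial ℤ), 0]
  have hrel : (θ (X 0 * X 1 - C ((p : ℤ) ^ e))).map f = 0 := by
    simp [θ, f, he.ne']
  have hPw : f ((Groth.Agent.WeilNum84.Pw π).coeff D) = f (MvPolynomial.aeval ![(0 : ℤ), 0] h) := by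
    obtain ⟨w, hw⟩ := Ideal.mem_span_singleton'.1 hh
    have h1 : (θ (w * (X 0 * X 1 - C ((p : ℤ) ^ e)))).map f =
        (θ (X 0 ^ D * h - Polynomial.aeval (X 0) (Groth.Agent.WeilNum84.Pw π))).map f := by rw [hw]
    rw [map_mul, Polynomial.map_mul, hrel, mul_zero, map_sub, map_mul, map_pow, Polynomial.map_sub,
      Polynomial.map_mul, Polynomial.map_pow, ← Polynomial.aeval_algHom_apply,
      show θ (X 0) = Polynomial.X by simp [θ], Polynomial.aeval_X_left_apply, Polynomial.map_X, eq_comm,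
      sub_eq_zero] at h1
    rw [← Polynomial.coeff_map, ← h1, Polynomial.coeff_X_pow_mul', if_pos le_rfl, Nat.sub_self,
      Polynomial.coeff_map]
    exact congrArg f (Groth.Agent.WeilNum84.coeff_θ1 h)
  have hes : f (MvPolynomial.aeval ![s, s] h) = f (MvPolynomial.aeval ![(0 : ℤ), 0] h) := by
    have hs0 : f s = 0 := (ZMod.intCast_zmod_eq_zero_iff_dvd s p).2 hA.p_dvd_s
    exact DFunLike.congr_fun (show f.toIntAlgHom.comp (MvPolynomial.aeval ![s, s]) =
      f.toIntAlgHom.comp (MvPolynomial.aeval ![(0 : ℤ), 0]) from MvPolynomial.algHom_ext fun j => by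
        fin_cases j <;> simpa [f] using hs0) h
  have hiff : ((p : ℤ) ∣ ∏ i, (minpoly ℤ (π i)).coeff (d i)) ↔ (p : ℤ) ∣ MvPolynomial.aeval ![(0 : ℤ), 0] h := by
    rw [← ZMod.intCast_zmod_eq_zero_iff_dvd, ← ZMod.intCast_zmod_eq_zero_iff_dvd]
    show f _ = 0 ↔ f _ = 0
    rw [hprod, hPw]
  show _ ↔ ¬ (p : ℤ) ∣ ∏ i, (minpoly ℤ (π i)).coeff (d i)
  rw [hiff]
  refine ⟨fun hG hdvd => ?_, fun hnd => hA.gorenstein_of_not_dvd fun hd => hnd ?_⟩
  · rcases Nat.eq_zero_or_pos D with hD0 | hDpos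
    · have he0 : IsEmpty ι := ⟨fun i => by
        have h1 := Finset.single_le_sum (fun j _ => Nat.zero_le (d j)) (Finset.mem_univ i)
        have h2 := (minpoly.natDegree_pos (hint i))
        have h3 := heven i
        omega⟩
      have h1 := hiff.2 hdvd
      rw [Finset.univ_eq_empty, Finset.prod_empty] at h1
      exact hF'.not_dvd_one (by exact_mod_cast h1)
    · exact hA.not_gorenstein_of_dvd hdvd hDpos hG
  · rw [← ZMod.intCast_zmod_eq_zero_iff_dvd] at hd ⊢
    exact hes.symm.trans hd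

end Groth.Agent.S17986
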