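import Mathlib
import Groth.Agent.CAlg99.Torsionless
import Groth.Statements.S17988
-- import your own Groth.Agent.* helpers here

set_option autoImplicit false
universe u
open CAlg

namespace Groth.Agent.S17988

theorem ringKrullDim_le_one {Λ S : Type u} [CommRing Λ] [IsDomain Λ] [IsPrincipalIdealRing Λ]
    [CommRing S] [Algebra Λ S] [Algebra.IsIntegral Λ S] : ringKrullDim S ≤ 1 := by
  have h : Order.krullDim (PrimeSpectrum S) ≤ Order.krullDim (PrimeSpectrum Λ) :=
    Order.krullDim_le_of_strictMono (PrimeSpectrum.comap (algebraMap Λ S)) fun a b hab =>
      Ideal.IsIntegral.comap_lt_comap (R := Λ) hab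
  refine h.trans ?_
  exact Ring.krullDimLE_iff.mp inferInstance


/-- Let Λ be a principal ideal domain and S a commutative Λ-algebra which is finitely generated and free
as a Λ-module and reduced as a ring; let M be a finitely generated S-module. Then M is torsionless
(the canonical map M → M** to the double S-dual is injective) if and only if M is free as a
Λ-module. If in addition S is a Gorenstein ring (it has Krull dimension at most 1, being finite over
Λ), then M is reflexive (M → M** bijective) if and only if M is free as a Λ-module, so that for such
S torsionless and reflexive finitely generated modules coincide. The published statement is the case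
Λ = ℤ, resp. Λ = ℤ_ℓ for a prime ℓ, with S the minimal central order R_w of a finite set of Weil
q-numbers, resp. its ℓ-adic completion R_w ⊗ ℤ_ℓ, under the assumption that R_w is Gorenstein; the
argument given there uses only that S is finite free over Λ, reduced, and (for reflexivity)
Gorenstein of dimension one. -/
theorem result (Λ : Type u) [CommRing Λ] [IsDomain Λ] [IsPrincipalIdealRing Λ]
    (S : Type u) [CommRing S] [Algebra Λ S] [Module.Finite Λ S] [Module.Free Λ S] [IsReduced S]
    (M : Type u) [AddCommGroup M] [Module S M] [Module Λ M] [IsScalarTower Λ S M] [Module.Finite S M] :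
    (Function.Injective (Module.Dual.eval S M) ↔ Module.Free Λ M) ∧
      (LocCoh.IsGorensteinRing S → (Module.IsReflexive S M ↔ Module.Free Λ M)) := by
  classical
  haveI : IsNoetherianRing S := IsNoetherianRing.of_finite Λ S
  haveI : Algebra.IsIntegral Λ S := Algebra.IsIntegral.of_finite Λ S
  haveI : Module.Finite Λ M := Module.Finite.trans S M
  have hfree : Function.Injective (Module.Dual.eval S M) → Module.Free Λ M := fun h => by
    obtain ⟨n, ι, hι⟩ := Groth.Agent.CAlg99.Torsionless.exists_embedding M h
    haveI : Module.IsTorsionFree Λ M := Function.Injective.moduleIsTorsionFree ι hι (fun c m => by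
      rw [← algebraMap_smul S c m, map_smul, algebraMap_smul])
    exact Module.free_of_finite_type_torsion_free'
  have htl : Module.Free Λ M → Function.Injective (Module.Dual.eval S M) := fun hF => by
    let K₀ := nonZeroDivisors Λ
    let T := Algebra.algebraMapSubmonoid S K₀
    let SK := Localization T
    let MK := LocalizedModule T M
    let l := LocalizedModule.mkLinearMap T M
    haveI : Module.Finite (FractionRing Λ) SK := Module.Finite.of_isLocalization Λ S K₀
    haveI : IsArtinianRing SK := IsArtinianRing.of_finite (FractionRing Λ) SK
    haveI : IsReduced SK := isReduced_localizationPreserves T SK inferInstance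
    haveI : IsSemisimpleRing SK := IsArtinianRing.isSemisimpleRing_of_isReduced SK
    haveI : Module.Projective SK MK := Module.projective_of_isSemisimpleRing SK MK
    haveI : Module.FinitePresentation S M := Module.finitePresentation_of_finite S M
    rw [injective_iff_map_eq_zero]
    intro x hx
    by_contra hx0
    have hlx : l x ≠ 0 := fun h0 => by
      obtain ⟨⟨c, lam, hlam, rfl⟩, hc⟩ := (IsLocalizedModule.eq_zero_iff T l).mp h0
      have h1 : (lam : Λ) • x = 0 := by
        rw [← algebraMap_smul S lam x]; exact hc
      exact hx0 ((smul_eq_zero.mp h1).resolve_left (nonZeroDivisors.ne_zero hlam))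
    obtain ⟨σ, hσ⟩ := Module.projective_def'.mp (inferInstance : Module.Projective SK MK)
    obtain ⟨i, hi⟩ : ∃ i, σ (l x) i ≠ 0 := by
      by_contra hcon
      simp only [not_exists, not_not] at hcon
      apply hlx
      have h2 := LinearMap.congr_fun hσ (l x)
      simp only [LinearMap.comp_apply, LinearMap.id_apply] at h2
      rw [← h2, show σ (l x) = 0 from Finsupp.ext hcon, map_zero]
    obtain ⟨g, t, hg⟩ := Module.FinitePresentation.exists_lift_of_isLocalizedModule T (Algebra.linearMap S SK)
      ((((Finsupp.lapply i).comp σ).restrictScalars S).comp l)
    refine hi ?_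
    have h3 := LinearMap.congr_fun hg x
    simp only [LinearMap.comp_apply, Algebra.linearMap_apply, LinearMap.smul_apply,
      LinearMap.restrictScalars_apply, Finsupp.lapply_apply, Submonoid.smul_def] at h3
    rw [show g x = 0 from LinearMap.congr_fun hx g, map_zero, ← algebraMap_smul SK (t : S), smul_eq_mul] at h3
    exact (IsLocalization.map_units SK t).mul_right_eq_zero.mp h3.symm
  refine ⟨⟨hfree, htl⟩, fun hG => ⟨fun hR => hfree hR.bijective_dual_eval'.1, fun hF => ?_⟩⟩
  haveI := hG
  exact Groth.Agent.CAlg99.Torsionless.isReflexive (ringKrullDim_le_one (Λ := Λ)) M (htl hF)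

end Groth.Agent.S17988
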