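import Mathlib
import Groth.Agent.CAlg99.Torsionless
import Groth.Statements.S17989
-- import your own Groth.Agent.* helpers here

set_option autoImplicit false
universe u
open CategoryTheory
open CAlg

namespace Groth.Agent.S17989

/-- Let S be a Gorenstein ring (a Noetherian ring all of whose localizations at prime ideals have finite
injective dimension as modules over themselves) of Krull dimension 1, and let M be a finitely
generated reflexive S-module (the canonical map M → M** is bijective). Then Ext¹_S(M, S) = 0. -/
theorem result (S : Type u) [CommRing S]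
    [LocCoh.IsGorensteinRing S] (hdim : ringKrullDim S = 1)
    (M : Type u) [AddCommGroup M] [Module S M] [Module.Finite S M] [Module.IsReflexive S M] :
    Subsingleton (Abelian.Ext (ModuleCat.of S M) (ModuleCat.of S S) 1) := by
  classical
  open CategoryTheory in
  refine subsingleton_of_forall_eq 0 fun x => ?_
  obtain ⟨n, ι, hι⟩ := Groth.Agent.CAlg99.Torsionless.exists_embedding M
    (Module.IsReflexive.bijective_dual_eval' (R := S) (M := M)).1
  obtain ⟨r, q, hq⟩ := Module.Finite.exists_fin' S M
  have hS := LinearMap.shortExact_shortComplexKer hq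
  haveI : CategoryTheory.Projective q.shortComplexKer.X₂ :=
    (inferInstance : CategoryTheory.Projective (ModuleCat.of S (Fin r → S)))
  have h0 : (CategoryTheory.Abelian.Ext.mk₀ q.shortComplexKer.g).comp x (zero_add 1) = 0 :=
    CategoryTheory.Abelian.Ext.eq_zero_of_projective _
  obtain ⟨x₁, hx₁⟩ := CategoryTheory.Abelian.Ext.contravariant_sequence_exact₃ hS _ x h0 (show 1 + 0 = 1 from rfl)
  obtain ⟨f, rfl⟩ := (CategoryTheory.Abelian.Ext.mk₀_bijective _ _).2 x₁
  have hker : LinearMap.ker (ι ∘ₗ q) = LinearMap.ker q := LinearMap.ker_comp_of_ker_eq_bot q (LinearMap.ker_eq_bot.mpr hι)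
  obtain ⟨g, hg⟩ := Groth.Agent.CAlg99.Torsionless.exists_extend hdim.le (ι ∘ₗ q)
    (f.hom ∘ₗ (LinearEquiv.ofEq _ _ hker).toLinearMap)
  have hf : f = q.shortComplexKer.f ≫ ModuleCat.ofHom g := by
    refine ModuleCat.hom_ext (LinearMap.ext fun y => ?_)
    exact (hg (y : Fin r → S) (hker.symm ▸ y.2)).symm
  rw [← hx₁, hf, ← CategoryTheory.Abelian.Ext.mk₀_comp_mk₀, hS.extClass_comp_assoc]

end Groth.Agent.S17989
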