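import Mathlib
import Groth.Agent.CAlg99.Torsionless
import Groth.Statements.S17990
-- import your own Groth.Agent.* helpers here

set_option autoImplicit false
universe u
open CAlg

namespace Groth.Agent.S17990

/-- Let S be a reduced Gorenstein ring (Noetherian, all localizations at primes of finite injective
dimension over themselves) whose Krull dimension is ≤ 1; let M be a finitely generated S-module
which is reflexive (M → M** bijective). Then M is locally free of rank 1, i.e. the localization M_P
is isomorphic to S_P as an S_P-module for every prime ideal P of S, if and only if the natural ring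
map S → End_S(M), sending s to multiplication by s, is bijective. -/
theorem result (S : Type u) [CommRing S]
    [IsReduced S] [LocCoh.IsGorensteinRing S] (hdim : ringKrullDim S ≤ 1)
    (M : Type u) [AddCommGroup M] [Module S M] [Module.Finite S M] [Module.IsReflexive S M] :
    (∀ (P : Ideal S) (_ : P.IsPrime),
        Nonempty (LocalizedModule P.primeCompl M ≃ₗ[Localization.AtPrime P] Localization.AtPrime P)) ↔
      Function.Bijective (algebraMap S (Module.End S M)) := by
  classical
  constructor
  · intro h
    have hloc : ∀ (P : Ideal S) (hP : P.IsPrime), ∃ g : M, ∀ z : M, ∃ c ∉ P, ∃ s : S, c • z = s • g ∧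
        (∀ a : S, a • g = 0 → ∃ d ∉ P, d * a = 0) := by
      intro P hP
      obtain ⟨e⟩ := h P hP
      let l := LocalizedModule.mkLinearMap P.primeCompl M
      obtain ⟨⟨g, t⟩, hg⟩ := IsLocalizedModule.surj P.primeCompl l (e.symm 1)
      refine ⟨g, fun z => ?_⟩
      have hu : IsUnit (algebraMap S (Localization.AtPrime P) t) := IsLocalization.map_units _ t
      have hgl : l g = algebraMap S (Localization.AtPrime P) t • e.symm 1 := by
        rw [algebraMap_smul]; exact hg.symm
      have hann : ∀ a : S, a • g = 0 → ∃ d ∉ P, d * a = 0 := by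
        intro a ha
        have h1 : algebraMap S (Localization.AtPrime P) a * algebraMap S (Localization.AtPrime P) t = 0 := by
          have h2 := congrArg e (congrArg l ha)
          rw [map_smul l, hgl, ← algebraMap_smul (Localization.AtPrime P) a, map_smul e, map_smul e,
            e.apply_symm_apply, map_zero, map_zero] at h2
          simpa using h2
        obtain ⟨⟨d, hd⟩, hd'⟩ := (IsLocalization.map_eq_zero_iff P.primeCompl _ a).mp (hu.mul_left_eq_zero.mp h1)
        exact ⟨d, hd, hd'⟩
      obtain ⟨⟨a, b⟩, hab⟩ := IsLocalization.surj P.primeCompl (e (l z))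
      have h3 : l (((b : S) * t) • z) = l (a • g) := by
        apply e.injective
        rw [map_smul l, map_smul l, hgl, ← algebraMap_smul (Localization.AtPrime P) ((b : S) * t),
          ← algebraMap_smul (Localization.AtPrime P) a, map_smul e, map_smul e, map_smul e, e.apply_symm_apply,
          map_mul]
        simp only [smul_eq_mul, mul_one]
        linear_combination (algebraMap S (Localization.AtPrime P) t) * hab
      obtain ⟨c, hc⟩ := (IsLocalizedModule.eq_iff_exists P.primeCompl l).mp h3
      refine ⟨(c : S) * ((b : S) * t), fun hm => (hP.mem_or_mem hm).elim c.2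
        (fun hm => (hP.mem_or_mem hm).elim b.2 t.2), (c : S) * a, ?_, hann⟩
      rw [mul_smul, mul_smul (c : S) a]
      exact hc
    constructor
    · rw [injective_iff_map_eq_zero]
      intro s hs
      by_contra hne
      obtain ⟨P, hP, hle⟩ := Ideal.exists_le_maximal (Module.annihilator S (Submodule.span S {s}))
        (fun htop => hne (by
          have h1 := Module.mem_annihilator.mp (htop ▸ Submodule.mem_top :
            (1 : S) ∈ Module.annihilator S (Submodule.span S {s})) ⟨s, Submodule.mem_span_singleton_self s⟩
          simpa using h1))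
      obtain ⟨g, hg⟩ := hloc P hP.isPrime
      obtain ⟨c, -, r, -, hann⟩ := hg 0
      obtain ⟨d, hd, hd0⟩ := hann s (LinearMap.congr_fun hs g)
      refine hd (hle (Module.mem_annihilator.mpr fun x => ?_))
      obtain ⟨a, ha⟩ := Submodule.mem_span_singleton.mp x.2
      refine Subtype.ext ?_
      show d • (x : S) = 0
      rw [← ha, smul_eq_mul, smul_eq_mul]
      linear_combination a * hd0
    · intro u
      let T : Ideal S :=
        { carrier := {t | ∃ s : S, ∀ z, t • u z = s • z}
          add_mem' := fun {a b} ⟨s, hs⟩ ⟨s', hs'⟩ => ⟨s + s', fun z => by rw [add_smul, add_smul, hs, hs']⟩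
          zero_mem' := ⟨0, fun z => by simp⟩
          smul_mem' := fun c a ⟨s, hs⟩ => ⟨c * s, fun z => by rw [smul_eq_mul, mul_smul, mul_smul, hs]⟩ }
      obtain ⟨s, hs⟩ : (1 : S) ∈ T := by
        by_contra hne
        obtain ⟨P, hP, hle⟩ := Ideal.exists_le_maximal T ((Ideal.ne_top_iff_one T).mpr hne)
        obtain ⟨g, hg⟩ := hloc P hP.isPrime
        obtain ⟨c, hc, a, ha, -⟩ := hg (u g)
        obtain ⟨G, hG⟩ := (Module.Finite.fg_top : (⊤ : Submodule S M).FG)
        choose d hd b hb using fun z => hg z
        have hmem : c * ∏ z ∈ G, d z ∈ T := by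
          refine ⟨a * ∏ z ∈ G, d z, fun z => ?_⟩
          have key : (c * ∏ z ∈ G, d z) • u = (a * ∏ z ∈ G, d z) • LinearMap.id := by
            refine LinearMap.ext_on (s := (G : Set M)) hG fun y hy => ?_
            obtain ⟨e, he⟩ := Finset.dvd_prod_of_mem d hy
            simp only [LinearMap.smul_apply, LinearMap.id_apply]
            rw [he, show c * (d y * e) = (e * c) * d y by ring, show a * (d y * e) = (e * a) * d y by ring,
              mul_smul, mul_smul (e * a), ← map_smul u, (hb y).1, map_smul, ← mul_smul,
              show e * c * b y = (b y * e) * c by ring, mul_smul, ha, ← mul_smul, ← mul_smul]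
            congr 1
            ring
          simpa using LinearMap.congr_fun key z
        rcases hP.isPrime.mem_or_mem (hle hmem) with h | h
        · exact hc h
        · obtain ⟨z, -, hz⟩ := Ideal.IsPrime.prod_mem_iff.mp h
          exact hd z hz
      exact ⟨s, LinearMap.ext fun z => by rw [Module.algebraMap_end_apply, ← hs z, one_smul]⟩
  · intro hb
    have hbij := (Module.IsReflexive.bijective_dual_eval' (R := S) (M := M))
    have hfaith : ∀ s : S, (∀ z : M, s • z = 0) → s = 0 := fun s hs =>
      hb.1 (by rw [map_zero]; exact LinearMap.ext hs)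
    have hscal : ∀ (φ : M →ₗ[S] S) (x z : M), φ z • x = φ x • z := by
      intro φ x z
      obtain ⟨c, hc⟩ := hb.2 (φ.smulRight x)
      have hc' : ∀ w, φ w • x = c • w := fun w => (LinearMap.congr_fun hc w).symm
      have hd : ∀ w, (c - φ x) * φ w = 0 := fun w => by
        have := congrArg φ (hc' w)
        simp only [map_smul, smul_eq_mul] at this
        linear_combination -this
      have h2 : (c - φ x) * c = 0 := hfaith _ fun w => by
        rw [mul_smul, ← hc' w, ← mul_smul, hd, zero_smul]
      have h3 : c - φ x = 0 := IsReduced.eq_zero _ ⟨2, by linear_combination h2 - hd x⟩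
      rw [hc' z, sub_eq_zero.mp h3]
    have htors : ∀ z : M, (∀ φ : M →ₗ[S] S, φ z = 0) → z = 0 := fun z hz =>
      hbij.1 (by rw [map_zero]; exact LinearMap.ext hz)
    have htrace : ∀ P : Ideal S, P.IsMaximal → ∃ (φ : M →ₗ[S] S) (x : M), φ x ∉ P := by
      intro P hP
      haveI := hP
      by_contra hcon
      simp only [not_exists, not_not] at hcon
      by_cases hz : ∃ x ∈ P, x ∈ nonZeroDivisors S
      · obtain ⟨x, hxP, hx⟩ := hz
        have hne : ∀ q ∈ minimalPrimes S, x ∉ q := fun q hq hxq =>
          Set.disjoint_left.mp (Ideal.disjoint_nonZeroDivisors_of_mem_minimalPrimes hq) hxq hx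
        have hmin : P ∈ (Ideal.span {x}).minimalPrimes := by
          refine ⟨⟨hP.isPrime, (Ideal.span_singleton_le_iff_mem P).mpr hxP⟩, fun Q hQ hQP => ?_⟩
          by_contra hPQ
          haveI := hQ.1
          obtain ⟨q, hq, hqQ⟩ := Ideal.exists_minimalPrimes_le (bot_le : ⊥ ≤ Q) (J := Q)
          have hqQ' : q < Q := lt_of_le_of_ne hqQ fun h => hne q hq (h ▸ hQ.2 (Ideal.mem_span_singleton_self x))
          haveI := hq.1.1
          have h1 := Ideal.height_strict_mono_of_isPrime hqQ'
          have h2 := Ideal.height_strict_mono_of_isPrime (lt_of_le_not_ge hQP hPQ)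
          have h3 : (P.height : WithBot ℕ∞) ≤ 1 :=
            (Ideal.height_le_ringKrullDim_of_ne_top hP.ne_top).trans hdim
          have h4 : P.height ≤ 1 := by exact_mod_cast h3
          have h5 : Q.height < 1 := h2.trans_le h4
          rw [ENat.lt_one_iff_eq_zero] at h5
          rw [h5] at h1
          exact not_lt_bot h1
        have hass : P ∈ associatedPrimes S (S ⧸ Ideal.span {x}) := by
          refine Module.associatedPrimes.minimalPrimes_annihilator_subset_associatedPrimes S (S ⧸ Ideal.span {x}) ?_
          rwa [Ideal.annihilator_quotient]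
        obtain ⟨-, w, hw⟩ := isAssociatedPrime_iff.mp hass
        obtain ⟨y, rfl⟩ := Submodule.mkQ_surjective _ w
        have hPy : ∀ a ∈ P, ∃ b : S, a * y = x * b := fun a ha => by
          obtain ⟨N, hN⟩ : ∃ N : S, a * y = x * N ∨ False := by
            have h1 : a • Submodule.mkQ (Ideal.span {x}) y = 0 := by
              have h2 := hw ▸ ha
              exact (Submodule.mem_bot S).mp (Submodule.mem_colon_singleton.mp h2)
            rw [← map_smul, Submodule.mkQ_apply, Submodule.Quotient.mk_eq_zero, Ideal.mem_span_singleton, smul_eq_mul] at h1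
            obtain ⟨N, hN⟩ := h1
            exact ⟨N, Or.inl hN⟩
          exact ⟨N, hN.resolve_right id⟩
        choose b hb' using fun z : M => fun φ : M →ₗ[S] S => hPy (φ z) (hcon φ z)
        let E : ∀ z : M, Module.Dual S (Module.Dual S M) := fun z =>
          { toFun := b z
            map_add' := fun φ ψ => mem_nonZeroDivisors_iff_right.mp hx _ ?_ |> sub_eq_zero.mp
            map_smul' := fun a φ => mem_nonZeroDivisors_iff_right.mp hx _ ?_ |> sub_eq_zero.mp }
        rotate_left
        · have h1 := hb' z (φ + ψ); have h2 := hb' z φ; have h3 := hb' z ψ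
          rw [LinearMap.add_apply] at h1
          linear_combination h2 + h3 - h1
        · have h1 := hb' z (a • φ); have h2 := hb' z φ
          simp only [LinearMap.smul_apply, smul_eq_mul, RingHom.id_apply] at h1 ⊢
          linear_combination a * h2 - h1
        choose ê hê using fun z => hbij.2 (E z)
        have hêb : ∀ z φ, φ (ê z) = b z φ := fun z φ => LinearMap.congr_fun (hê z) φ
        let u : M →ₗ[S] M :=
          { toFun := ê
            map_add' := fun z w => sub_eq_zero.mp (htors _ fun φ => mem_nonZeroDivisors_iff_right.mp hx _ (by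
              have h1 := hb' (z + w) φ; have h2 := hb' z φ; have h3 := hb' w φ
              rw [map_add] at h1
              simp only [map_sub, map_add, hêb]
              linear_combination h2 + h3 - h1))
            map_smul' := fun a z => sub_eq_zero.mp (htors _ fun φ => mem_nonZeroDivisors_iff_right.mp hx _ (by
              have h1 := hb' (a • z) φ; have h2 := hb' z φ
              rw [map_smul, smul_eq_mul] at h1
              simp only [map_sub, map_smul, RingHom.id_apply, smul_eq_mul, hêb]
              linear_combination a * h2 - h1)) }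
        obtain ⟨s, hs⟩ := hb.2 u
        have hy : y - x * s = 0 := hfaith _ fun z => htors _ fun φ => by
          have h1 := hb' z φ
          have h2 : b z φ = s * φ z := by
            rw [← hêb, show ê z = s • z from (LinearMap.congr_fun hs z).symm, map_smul, smul_eq_mul]
          rw [map_smul, smul_eq_mul]
          rw [h2] at h1
          linear_combination h1
        have h0 : Submodule.mkQ (Ideal.span {x}) y = 0 := by
          rw [Submodule.mkQ_apply, Submodule.Quotient.mk_eq_zero, Ideal.mem_span_singleton]
          exact ⟨s, sub_eq_zero.mp hy⟩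
        refine hP.ne_top ((Ideal.eq_top_iff_one P).mpr ?_)
        rw [hw, h0]
        simp
      · simp only [not_exists, not_and] at hz
        obtain ⟨q, hq, hPq⟩ : ∃ q ∈ associatedPrimes S S, P ≤ q := by
          have hfin := associatedPrimes.finite S S
          have hsub : (P : Set S) ⊆ ⋃ q ∈ (hfin.toFinset : Set (Ideal S)), (q : Set S) := by
            intro a ha
            rw [Set.Finite.coe_toFinset, biUnion_associatedPrimes_eq_compl_nonZeroDivisors]
            exact hz a ha
          obtain ⟨q, hq, hle⟩ := (Ideal.subset_union_prime (R := S) ⊥ ⊥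
            fun q hq _ _ => (hfin.mem_toFinset.mp hq).1).mp hsub
          exact ⟨q, hfin.mem_toFinset.mp hq, hle⟩
        obtain ⟨hqp, y, hy⟩ := hq
        have hqP : q = P := (hP.eq_of_le hqp.ne_top hPq).symm
        have hyP : ∀ a ∈ P, a * y = 0 := fun a ha => by
          have h2 : a ∈ q := hPq ha
          rw [hy] at h2
          obtain ⟨k, hk⟩ := h2
          have h3 : a ^ k * y = 0 := by
            first
              | exact Submodule.mem_colon_singleton.mp hk |> (Submodule.mem_bot S).mp
              | simpa using hk
          refine IsReduced.eq_zero _ ⟨k + 1, ?_⟩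
          rw [mul_pow, pow_succ, pow_succ y]
          calc a ^ k * a * (y ^ k * y) = (a ^ k * y) * (a * y ^ k) := by ring
            _ = 0 := by rw [h3, zero_mul]
        have hy0 : y = 0 := hfaith y fun z => htors _ fun φ => by
          rw [map_smul, smul_eq_mul, mul_comm, hyP _ (hcon φ z)]
        refine hqp.ne_top ((Ideal.eq_top_iff_one q).mpr ?_)
        rw [hy, hy0]
        simp [Ideal.radical]
    intro P hP
    obtain ⟨Q, hQ, hPQ⟩ := Ideal.exists_le_maximal P hP.ne_top
    obtain ⟨φ, x, hφx⟩ := htrace Q hQ
    have hφP : φ x ∉ P := fun h => hφx (hPQ h)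
    let l := LocalizedModule.mkLinearMap P.primeCompl M
    let A := Localization.AtPrime P
    have hu : IsUnit (algebraMap S A (φ x)) := IsLocalization.map_units A (⟨φ x, hφP⟩ : P.primeCompl)
    refine ⟨(LinearEquiv.ofBijective (LinearMap.toSpanSingleton A (LocalizedModule P.primeCompl M) (l x)) ⟨?_, ?_⟩).symm⟩
    · rw [injective_iff_map_eq_zero]
      intro a ha
      obtain ⟨a, t, rfl⟩ := IsLocalization.exists_mk'_eq P.primeCompl a
      have h1 : l (a • x) = 0 := by
        have h2 : algebraMap S A t • (IsLocalization.mk' A a t • l x) = 0 := by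
          rw [show IsLocalization.mk' A a t • l x = 0 from ha, smul_zero]
        rwa [smul_smul, IsLocalization.mk'_spec', algebraMap_smul, ← map_smul] at h2
      obtain ⟨c, hc⟩ := (IsLocalizedModule.eq_zero_iff P.primeCompl l).mp h1
      have h3 : (c : S) * (a * φ x) = 0 := by
        have := congrArg φ hc
        simpa [Submonoid.smul_def] using this
      rw [IsLocalization.mk'_eq_zero_iff]
      exact ⟨⟨(c : S) * φ x, fun h => (hP.mem_or_mem h).elim c.2 hφP⟩, by linear_combination h3⟩
    · intro w
      obtain ⟨⟨z, t⟩, rfl⟩ := IsLocalizedModule.mk'_surjective P.primeCompl l w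
      refine ⟨IsLocalization.mk' A (φ z) (⟨φ x, hφP⟩ * t : P.primeCompl), ?_⟩
      rw [LinearMap.toSpanSingleton_apply]
      refine ((IsLocalization.map_units A (⟨φ x, hφP⟩ * t : P.primeCompl)).smul_left_cancel).mp ?_
      rw [smul_smul, IsLocalization.mk'_spec', algebraMap_smul, ← map_smul, hscal φ x z, map_smul]
      rw [algebraMap_smul]
      show φ x • l z = (φ x * (t : S)) • IsLocalizedModule.mk' l z t
      rw [mul_smul]
      congr 1
      exact (IsLocalizedModule.mk'_cancel' l z t).symm

end Groth.Agent.S17990
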