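import Groth.Statements.S17999
import Groth.Agent.WeilNum84.Family
import Groth.Agent.PicGlue84.Basic
import Groth.Agent.PicGlue84.FiniteQuot
-- import your own Groth.Agent.* helpers here

set_option autoImplicit false
universe u
open MvPolynomial
open WeilNum

namespace Groth.Agent.S17999

/-- The case of finite sets of Weil numbers; let p be a prime, e ≥ 1 and q = p^e; let (π_j)_{j ∈ J} be a
finite family of pairwise nonconjugate Weil q-numbers (π_j in a field K_j of characteristic zero,
integral over ℤ with minimal polynomial P_j, all complex roots of P_j of absolute value √q, P_i ≠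
P_j for i ≠ j), and let e : J' → J be an injective map selecting a subfamily. Let I_w, resp. I_v, be
the kernel of ℤ[F, V] → ∏_{j ∈ J} K_j, resp. → ∏_{j' ∈ J'} K_{e(j')}, sending F ↦ (π_j) and V ↦
(q/π_j); then I_w ⊆ I_v and ℤ[F,V]/I_w → ℤ[F,V]/I_v is the natural surjection R_w → R_v of minimal
central orders. Then the induced homomorphism of Picard groups Pic(R_w) → Pic(R_v) is surjective.
The published statement concerns the Picard groups of the pro-rings attached to arbitrary subsets V
⊆ W of Weil q-number classes; only the case of finite sets is stated here. -/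
theorem result (p e : ℕ) [Fact p.Prime] (he : 0 < e)
    (J J' : Type) [Fintype J] [Fintype J'] (emb : J' → J) (hemb : Function.Injective emb)
    (K : J → Type u) [∀ j, Field (K j)] [∀ j, CharZero (K j)] (ϖ : ∀ j, K j)
    (hint : ∀ j, IsIntegral ℤ (ϖ j))
    (hweil : ∀ j, ∀ z ∈ (minpoly ℤ (ϖ j)).aroots ℂ, ‖z‖ = Real.sqrt ((p : ℝ) ^ e))
    (hinj : ∀ i j, minpoly ℤ (ϖ i) = minpoly ℤ (ϖ j) → i = j)
    (hle : RingHom.ker (MvPolynomial.aeval ![fun j => ϖ j, fun j => ((p : K j) ^ e) / ϖ j] :
          MvPolynomial (Fin 2) ℤ →ₐ[ℤ] ((j : J) → K j)) ≤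
        RingHom.ker (MvPolynomial.aeval ![fun j' => ϖ (emb j'), fun j' => ((p : K (emb j')) ^ e) / ϖ (emb j')] :
          MvPolynomial (Fin 2) ℤ →ₐ[ℤ] ((j' : J') → K (emb j')))) :
    Function.Surjective (CommRing.Pic.mapRingHom (Ideal.Quotient.factor hle)) := by
  classical
  have hF : Groth.Agent.WeilNum84.Fam p e ϖ := ⟨Fact.out, hint, hweil⟩
  set ev : MvPolynomial (Fin 2) ℤ →ₐ[ℤ] ((j : J) → K j) := MvPolynomial.aeval ![fun j => ϖ j, fun j => ((p : K j) ^ e) / ϖ j] with hev
  set ev' : MvPolynomial (Fin 2) ℤ →ₐ[ℤ] ((j' : J') → K (emb j')) := MvPolynomial.aeval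
    ![fun j' => ϖ (emb j'), fun j' => ((p : K (emb j')) ^ e) / ϖ (emb j')] with hev'
  set Iw := RingHom.ker ev with hIw
  set Iv := RingHom.ker ev' with hIv
  -- the two complementary product polynomials
  let S : Finset J := Finset.univ.image emb
  let Pv := ∏ i ∈ S, minpoly ℤ (ϖ i)
  let Pu := ∏ i ∈ Sᶜ, minpoly ℤ (ϖ i)
  let Iu : Ideal (MvPolynomial (Fin 2) ℤ) :=
    RingHom.ker (Pi.ringHom fun i : {i // i ∈ Sᶜ} => (Pi.evalRingHom K i.1).comp ev.toRingHom)
  have hIu : ∀ g, g ∈ Iu ↔ ∀ i ∈ Sᶜ, ev g i = 0 := fun g => by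
    rw [RingHom.mem_ker]
    exact ⟨fun h i hi => congrFun h ⟨i, hi⟩, fun h => funext fun i => h i.1 i.2⟩
  have hev'g : ∀ g j', ev' g j' = ev g (emb j') := fun g j' => by
    exact DFunLike.congr_fun (show (Pi.evalAlgHom ℤ (fun j' => K (emb j')) j').comp ev' =
      (Pi.evalAlgHom ℤ K (emb j')).comp ev from MvPolynomial.algHom_ext fun i => by
        fin_cases i <;> simp [hev, hev']) g
  have hsplit : ∀ g, g ∈ Iw ↔ g ∈ Iv ∧ g ∈ Iu := fun g => by
    rw [hIu, hIv, hIw, RingHom.mem_ker, RingHom.mem_ker]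
    constructor
    · intro h
      exact ⟨funext fun j' => (hev'g g j').trans (congrFun h _), fun i _ => congrFun h i⟩
    · rintro ⟨h1, h2⟩
      funext i
      by_cases hi : i ∈ S
      · obtain ⟨j', -, rfl⟩ := Finset.mem_image.1 hi
        exact (hev'g g j').symm.trans (congrFun h1 j')
      · exact h2 i (Finset.mem_compl.2 hi)
  let J₀ : Ideal (MvPolynomial (Fin 2) ℤ ⧸ Iw) := Iu.map (Ideal.Quotient.mk Iw)
  refine Groth.Agent.PicGlue84.pic_surjective (Ideal.Quotient.factor hle) (Ideal.Quotient.factor_surjective hle) J₀ ?_ ?_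
  · rw [eq_bot_iff]
    rintro x ⟨h1, h2⟩
    obtain ⟨g, rfl⟩ := Ideal.Quotient.mk_surjective x
    rw [SetLike.mem_coe, RingHom.mem_ker, Ideal.Quotient.factor_mk, Ideal.Quotient.eq_zero_iff_mem] at h1
    obtain ⟨u, hu, hue⟩ := (Ideal.mem_map_iff_of_surjective _ Ideal.Quotient.mk_surjective).1 h2
    rw [Ideal.Quotient.eq] at hue
    rw [Ideal.mem_bot, Ideal.Quotient.eq_zero_iff_mem, hsplit]
    refine ⟨h1, ?_⟩
    have := Iu.sub_mem hu ((hsplit _).1 hue).2
    rwa [sub_sub_cancel] at this
  · -- finiteness of the common quotient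
    let T := (MvPolynomial (Fin 2) ℤ ⧸ Iv) ⧸ J₀.map (Ideal.Quotient.factor hle)
    let τ : MvPolynomial (Fin 2) ℤ →+* T := (Ideal.Quotient.mk _).comp (Ideal.Quotient.mk Iv)
    have hτ : Function.Surjective τ := Ideal.Quotient.mk_surjective.comp Ideal.Quotient.mk_surjective
    have hτw : ∀ g ∈ Iw, τ g = 0 := fun g hg => by
      show Ideal.Quotient.mk _ (Ideal.Quotient.mk Iv g) = 0
      rw [Ideal.Quotient.eq_zero_iff_mem.2 (hle hg), map_zero]
    have hτv : ∀ g ∈ Iv, τ g = 0 := fun g hg => by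
      show Ideal.Quotient.mk _ (Ideal.Quotient.mk Iv g) = 0
      rw [Ideal.Quotient.eq_zero_iff_mem.2 hg, map_zero]
    have hτu : ∀ g ∈ Iu, τ g = 0 := fun g hg => by
      show Ideal.Quotient.mk _ (Ideal.Quotient.mk Iv g) = 0
      rw [Ideal.Quotient.eq_zero_iff_mem, ← Ideal.Quotient.factor_mk hle g]
      exact Ideal.mem_map_of_mem _ (Ideal.mem_map_of_mem _ hg)
    -- integrality
    have hPw : ∀ i, Polynomial.aeval ((p : K i) ^ e / ϖ i) (Groth.Agent.WeilNum84.Pw ϖ) = 0 := fun i => by
      rw [map_prod, Finset.prod_eq_zero (Finset.mem_univ i)]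
      have hWi := Groth.Agent.WeilNum84.isWeil_minpoly hF i
      have hndi : ((minpoly ℤ (ϖ i)).aroots ℂ).Nodup := by
        have hFi : Groth.Agent.WeilNum84.Fam p e (ι := Unit) (K := fun _ => K i) (fun _ => ϖ i) :=
          ⟨Fact.out, fun _ => hint i, fun _ => hweil i⟩
        have h := Groth.Agent.WeilNum84.nodup_aroots hFi (fun _ _ _ => Subsingleton.elim _ _)
        have hPw : Groth.Agent.WeilNum84.Pw (ι := Unit) (K := fun _ => K i) (fun _ => ϖ i) = minpoly ℤ (ϖ i) := by simp [Groth.Agent.WeilNum84.Pw]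
        rwa [hPw] at h
      have h := congrArg (Polynomial.aeval (ϖ i)) (hWi.recip_eq hndi)
      rw [Groth.Agent.WeilNum84.aeval_recip _ _ (Groth.Agent.WeilNum84.π_ne_zero hF i), map_mul, minpoly.aeval, mul_zero, mul_eq_zero] at h
      have := h.resolve_left (pow_ne_zero _ (Groth.Agent.WeilNum84.π_ne_zero hF i))
      simpa using this
    have hroot : ∀ k : Fin 2, τ (Polynomial.aeval (MvPolynomial.X k) (Groth.Agent.WeilNum84.Pw ϖ)) = 0 := fun k => by
      refine hτw _ (RingHom.mem_ker.2 (funext fun i => ?_))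
      rw [← Polynomial.aeval_algHom_apply, show ∀ f : (j : J) → K j,
        (Polynomial.aeval f (Groth.Agent.WeilNum84.Pw ϖ)) i = Polynomial.aeval (f i) (Groth.Agent.WeilNum84.Pw ϖ) from fun f =>
          (Polynomial.aeval_algHom_apply (Pi.evalAlgHom ℤ K i) f _).symm]
      fin_cases k
      · simp only [hev, Fin.zero_eta, MvPolynomial.aeval_X, Matrix.cons_val_zero, Pi.zero_apply]
        rw [map_prod, Finset.prod_eq_zero (Finset.mem_univ i) (minpoly.aeval ℤ (ϖ i))]
      · simp only [hev, Fin.mk_one, MvPolynomial.aeval_X, Matrix.cons_val_one, Matrix.cons_val_zero, Pi.zero_apply]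
        exact hPw i
    -- a nonzero integer kills it
    obtain ⟨N, hN0, hN⟩ : ∃ N : ℤ, N ≠ 0 ∧ τ (MvPolynomial.C N) = 0 := by
      have hcop : IsCoprime (Pv.map (algebraMap ℤ ℚ)) (Pu.map (algebraMap ℤ ℚ)) := by
        rw [Polynomial.map_prod, Polynomial.map_prod]
        exact IsCoprime.prod_left fun i hi => IsCoprime.prod_right fun j hj =>
          Groth.Agent.WeilNum84.coprime_map hF hinj (fun h => Finset.mem_compl.1 hj (h ▸ hi))
      obtain ⟨a, b, hab⟩ := hcop
      obtain ⟨⟨na, hna0⟩, hna⟩ := IsLocalization.integerNormalization_map_to_map (nonZeroDivisors ℤ) a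
      obtain ⟨⟨nb, hnb0⟩, hnb⟩ := IsLocalization.integerNormalization_map_to_map (nonZeroDivisors ℤ) b
      refine ⟨na * nb, mul_ne_zero (nonZeroDivisors.ne_zero hna0) (nonZeroDivisors.ne_zero hnb0), ?_⟩
      have key : Polynomial.C nb * IsLocalization.integerNormalization (nonZeroDivisors ℤ) a * Pv +
          Polynomial.C na * IsLocalization.integerNormalization (nonZeroDivisors ℤ) b * Pu =
          Polynomial.C (na * nb) := by
        apply Polynomial.map_injective (algebraMap ℤ ℚ) Int.cast_injective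
        rw [Polynomial.map_add, Polynomial.map_mul, Polynomial.map_mul, Polynomial.map_mul, Polynomial.map_mul,
          hna, hnb]
        simp only [Polynomial.map_C, Polynomial.map_mul, Algebra.smul_def, map_mul, Polynomial.algebraMap_apply]
        linear_combination (Polynomial.C ((algebraMap ℤ ℚ) na) * Polynomial.C ((algebraMap ℤ ℚ) nb)) * hab
      have key2 : ∀ (T : Type) [CommRing T] (τ : MvPolynomial (Fin 2) ℤ →+* T),
          τ (Polynomial.aeval (MvPolynomial.X 0) Pv) = 0 → τ (Polynomial.aeval (MvPolynomial.X 0) Pu) = 0 →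
            τ (MvPolynomial.C (na * nb)) = 0 := by
        intro T _ τ h1 h2
        have h := congrArg (fun P => τ (Polynomial.aeval (MvPolynomial.X 0 : MvPolynomial (Fin 2) ℤ) P)) key
        simp only [map_mul, map_add, h1, h2, mul_zero, add_zero, Polynomial.aeval_C, MvPolynomial.algebraMap_eq] at h ⊢
        exact h.symm
      refine key2 T τ (hτv _ ?_) (hτu _ ?_)
      rotate_left
      · rw [hIu]
        intro i hi
        rw [Groth.Agent.WeilNum84.ev_aeval_X, map_prod, Finset.prod_eq_zero hi (minpoly.aeval ℤ (ϖ i))]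
      · refine RingHom.mem_ker.2 (funext fun j' => ?_)
        rw [hev'g, Groth.Agent.WeilNum84.ev_aeval_X, map_prod,
          Finset.prod_eq_zero (Finset.mem_image_of_mem _ (Finset.mem_univ j')) (minpoly.aeval ℤ (ϖ (emb j')))]
        rfl
    exact Groth.Agent.PicGlue84.finite_maximalSpectrum_of_integral τ hτ _ (Groth.Agent.WeilNum84.monic_Pw hF)
      hroot N hN0 hN

end Groth.Agent.S17999
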