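import Groth.Statements.S18003
import Groth.Agent.WeilNum84.Family
-- import your own Groth.Agent.* helpers here

set_option autoImplicit false
universe u
open MvPolynomial
open WeilNum

namespace Groth.Agent.S18003

/-- Let p be a prime, e ≥ 1 and q = p^e; let (π_i) be a finite family of pairwise nonconjugate Weil
q-numbers (π_i in a field K_i of characteristic zero, integral over ℤ with minimal polynomial P_i,
all complex roots of P_i of absolute value √q, P_i ≠ P_j for i ≠ j) of even total degree Σ_i deg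
P_i, P_w = ∏_i P_i, and R_w ⊆ ∏_i K_i the minimal central order, the image of ℤ[F, V] → ∏_i K_i, F ↦
(π_i), V ↦ (q/π_i). Let T be a finitely generated free ℤ-module and F_T an endomorphism of T. Then
there exists an R_w-module structure on the additive group T in which the class of F acts as F_T if
and only if P_w(F_T) = 0 (equivalently: F_T is semisimple after tensoring with ℚ, with eigenvalues
among the conjugates of the π_i) and there is an endomorphism V_T of T with F_T ∘ V_T = q. When it
exists the structure is determined by F_T (the class of V acts as V_T = q·F_T⁻¹), and reflexive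
R_w-modules are exactly the ℤ-free finitely generated ones, so this identifies the objects of
Refl(R_w) with such pairs (T, F_T); the uniqueness remark is not part of the formal statement. -/
theorem result (p e : ℕ) [Fact p.Prime] (he : 0 < e)
    (ι : Type) [Fintype ι] (K : ι → Type u) [∀ i, Field (K i)] [∀ i, CharZero (K i)] (π : ∀ i, K i)
    (hint : ∀ i, IsIntegral ℤ (π i))
    (hweil : ∀ i, ∀ z ∈ (minpoly ℤ (π i)).aroots ℂ, ‖z‖ = Real.sqrt ((p : ℝ) ^ e))
    (hinj : ∀ i j, minpoly ℤ (π i) = minpoly ℤ (π j) → i = j)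
    (D : ℕ) (hD : ∑ i, (minpoly ℤ (π i)).natDegree = 2 * D)
    (T : Type) [AddCommGroup T] [Module.Finite ℤ T] [Module.Free ℤ T] (FT : T →ₗ[ℤ] T) :
    (∃ _ : Module (MvPolynomial.aeval ![fun i => π i, fun i => ((p : K i) ^ e) / π i] :
        MvPolynomial (Fin 2) ℤ →ₐ[ℤ] ((i : ι) → K i)).range T,
        ∀ t : T, (⟨(MvPolynomial.aeval ![fun i => π i, fun i => ((p : K i) ^ e) / π i] :
        MvPolynomial (Fin 2) ℤ →ₐ[ℤ] ((i : ι) → K i)) (X 0), AlgHom.mem_range_self _ _⟩ : (MvPolynomial.aeval ![fun i => π i, fun i => ((p : K i) ^ e) / π i] :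
        MvPolynomial (Fin 2) ℤ →ₐ[ℤ] ((i : ι) → K i)).range) • t = FT t) ↔
      (Polynomial.aeval FT (∏ i, minpoly ℤ (π i)) = 0 ∧
        ∃ VT : T →ₗ[ℤ] T, FT ∘ₗ VT = ((p : ℤ) ^ e) • LinearMap.id) := by
  have hF : Groth.Agent.WeilNum84.Fam p e π := ⟨Fact.out, hint, hweil⟩
  have hD' : (Groth.Agent.WeilNum84.Pw π).natDegree = 2 * D := by rw [Groth.Agent.WeilNum84.natDegree_Pw hF, hD]
  let ev := Groth.Agent.WeilNum84.ev p e π
  let res := ev.rangeRestrict.toRingHom
  have hres : ∀ x, ev x = 0 → res x = 0 := fun x hx => Subtype.ext hx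
  constructor
  · rintro ⟨inst, hFT⟩
    let χ : MvPolynomial (Fin 2) ℤ →+* Module.End ℤ T := (Module.toModuleEnd ℤ T).comp res
    have h0 : χ (X 0) = FT := LinearMap.ext fun t => hFT t
    refine ⟨?_, χ (X 1), ?_⟩
    · rw [← h0, show χ (X 0) = χ.toIntAlgHom (X 0) from rfl, Polynomial.aeval_algHom_apply]
      show χ _ = 0
      show (Module.toModuleEnd ℤ T) (res _) = 0
      rw [hres, map_zero]
      funext i
      rw [Groth.Agent.WeilNum84.ev_aeval_X, map_prod, Finset.prod_eq_zero (Finset.mem_univ i) (minpoly.aeval ℤ (π i))]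
      rfl
    · rw [← h0]
      show χ (X 0) * χ (X 1) = _
      have h1 : χ (Groth.Agent.WeilNum84.rel ((p : ℤ) ^ e)) = 0 := by
        show (Module.toModuleEnd ℤ T) (res _) = 0
        rw [hres _ (Groth.Agent.WeilNum84.ev_rel hF), map_zero]
      rw [Groth.Agent.WeilNum84.rel, map_sub, map_mul, sub_eq_zero] at h1
      rw [h1, eq_intCast MvPolynomial.C, map_intCast, ← zsmul_one ((p : ℤ) ^ e)]
      rfl
  · rintro ⟨hP, VT, hV⟩
    have hmul : FT * VT = (((p : ℤ) ^ e : ℤ) : Module.End ℤ T) := by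
      rw [← zsmul_one ((p : ℤ) ^ e)]; exact hV
    have hcomm : VT * FT = (((p : ℤ) ^ e : ℤ) : Module.End ℤ T) := by
      classical
      let b := Module.Free.chooseBasis ℤ T
      let M := LinearMap.toMatrixAlgEquiv b
      apply M.injective
      have hAB : M FT * M VT = (((p : ℤ) ^ e : ℤ) : Matrix _ _ ℤ) := by rw [← map_mul, hmul, map_intCast]
      rw [map_mul, map_intCast]
      have hd : (M FT).det ≠ 0 := fun h => by
        have h2 := congrArg Matrix.det hAB
        rw [Matrix.det_mul, h, zero_mul, ← zsmul_one ((p : ℤ) ^ e), Matrix.det_smul, Matrix.det_one, mul_one] at h2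
        exact pow_ne_zero _ (pow_ne_zero _ (by exact_mod_cast hF.prime.ne_zero)) h2.symm
      have h3 : (M FT).det • (M VT * M FT - (((p : ℤ) ^ e : ℤ) : Matrix _ _ ℤ)) = 0 := by
        have e1 : M FT * (M VT * M FT - (((p : ℤ) ^ e : ℤ) : Matrix _ _ ℤ)) = 0 := by
          rw [mul_sub, ← mul_assoc, hAB, (Int.cast_commute ((p : ℤ) ^ e) (M FT)).eq, sub_self]
        have e2 := congrArg ((M FT).adjugate * ·) e1
        simpa [← mul_assoc, Matrix.adjugate_mul, mul_sub] using e2
      exact sub_eq_zero.1 ((smul_eq_zero.1 h3).resolve_left hd)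
    let S : Subalgebra ℤ (Module.End ℤ T) := Algebra.adjoin ℤ {FT, VT}
    letI : CommRing S := Algebra.adjoinCommRingOfComm ℤ (by
      rintro a (rfl | rfl) b (rfl | rfl) <;> first | rfl | rw [hmul, hcomm])
    let f : S := ⟨FT, Algebra.subset_adjoin (Or.inl rfl)⟩
    let g : S := ⟨VT, Algebra.subset_adjoin (Or.inr rfl)⟩
    let Ψ : MvPolynomial (Fin 2) ℤ →+* Module.End ℤ T :=
      S.val.toRingHom.comp (MvPolynomial.aeval ![f, g] : MvPolynomial (Fin 2) ℤ →ₐ[ℤ] S).toRingHom
    have hX : Ψ (X 0) = FT := by simp [Ψ, f]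
    have hrel : Ψ (Groth.Agent.WeilNum84.rel ((p : ℤ) ^ e)) = 0 := by
      have hY : Ψ (X 1) = VT := by simp [Ψ, g]
      rw [Groth.Agent.WeilNum84.rel, map_sub, map_mul, hX, hY, hmul, sub_eq_zero, eq_intCast MvPolynomial.C, map_intCast]
    obtain ⟨c, -, -, hc⟩ := Groth.Agent.WeilNum84.exists_window hF hinj hD'
    have hPw : Ψ (Polynomial.aeval (X 0) (Groth.Agent.WeilNum84.Pw π)) = 0 := by
      rw [show Ψ (Polynomial.aeval (X 0) (Groth.Agent.WeilNum84.Pw π)) = Ψ.toIntAlgHom (Polynomial.aeval (X 0) (Groth.Agent.WeilNum84.Pw π)) from rfl,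
        ← Polynomial.aeval_algHom_apply, show Ψ.toIntAlgHom (X 0) = FT from hX]
      exact hP
    have hker : RingHom.ker res ≤ RingHom.ker Ψ := by
      intro x hx
      have hx' : x ∈ RingHom.ker ev := RingHom.mem_ker.2 (congrArg Subtype.val (RingHom.mem_ker.1 hx))
      rw [Groth.Agent.WeilNum84.ker_ev hF hinj hD' hc] at hx'
      refine Ideal.span_le.2 ?_ hx'
      rintro y (rfl | rfl) <;> rw [SetLike.mem_coe, RingHom.mem_ker]
      · exact hrel
      · obtain ⟨w, hw⟩ := Ideal.mem_span_singleton'.1 hc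
        have h2 := congrArg Ψ hw
        rw [map_mul, hrel, mul_zero, map_sub, map_mul, map_pow, hX, hPw, sub_zero, eq_comm] at h2
        have h3 := congrArg (VT ^ D * ·) h2
        simp only [mul_zero, ← mul_assoc] at h3
        rw [← (show Commute VT FT from hcomm.trans hmul.symm).mul_pow, hcomm, ← Int.cast_pow,
          ← zsmul_eq_mul] at h3
        exact (smul_eq_zero.1 h3).resolve_left (pow_ne_zero _ (pow_ne_zero _ (by exact_mod_cast hF.prime.ne_zero)))
    let ψ : ev.range →+* Module.End ℤ T :=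
      RingHom.liftOfSurjective res ev.rangeRestrict_surjective ⟨Ψ, hker⟩
    refine ⟨Module.compHom T ψ, fun t => ?_⟩
    show ψ (res (X 0)) t = FT t
    rw [RingHom.liftOfRightInverse_comp_apply, hX]

end Groth.Agent.S18003
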