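import Groth.Statements.S18008
import Groth.Agent.ThetaStack.Main
import Groth.Agent.ThetaStack.Sep

set_option autoImplicit false
set_option linter.unusedVariables false
set_option backward.isDefEq.respectTransparency false
set_option backward.isDefEq.respectTransparency.types false
universe u
open ThetaS

noncomputable section

namespace Groth.Agent.S18008

open CategoryTheory AlgebraicGeometry MonoidalCategory CartesianMonoidalCategory MonObj FibCat
open Groth.Agent.FibC Groth.Agent.StFib Groth.Agent.StFib.QuotTriv Groth.Agent.ThetaStack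

local notation "K" => Scheme.fppfPrecoverage

theorem linePt_z_injective {R : Type u} [CommRing R] :
    Function.Injective (linePt (zPow R 1) : Polynomial R →ₐ[R] Lau R) := by
  have hpow : ∀ n : ℕ, zPow R 1 ^ n = zPow R (n : ℤ) := by
    intro n
    induction n with
    | zero => simp
    | succ n ih => rw [pow_succ, ih, zPow_mul]; norm_num
  have key : ∀ (p : Polynomial R) (n : ℕ),
      (linePt (zPow R 1) p).coeff (Multiplicative.ofAdd (n : ℤ)) = p.coeff n := by
    intro p n
    induction p using Polynomial.induction_on' with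
    | add p q hp hq => simp [map_add, hp, hq]
    | monomial k r =>
      rw [Polynomial.coeff_monomial]
      change (Polynomial.aeval (zPow R 1) (Polynomial.monomial k r)).coeff _ = _
      rw [Polynomial.aeval_monomial, hpow, ← Algebra.smul_def, MonoidAlgebra.coeff_smul,
        MonoidAlgebra.coeff_single]
      simp [Finsupp.single_apply]
  intro p q hpq
  ext n
  rw [← key, hpq, key]

open CategoryTheory AlgebraicGeometry in
/-- Let f : X → Y be a functor over (Sch/S) between algebraic stacks (fppf topology) which is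
representable by algebraic spaces and separated (its diagonal is representable by algebraic spaces
and proper). Then for every commutative ring R and every Spec R → S, in any 2-commutative square
whose left side is the point 1 : Spec R → Θ_R = [A¹_R/G_m] and whose right side is f, any two dotted
arrows Θ_R → X are related by exactly one morphism of dotted arrows. (The published statement says
that the evaluation morphism on filtrations is a monomorphism, and assumes moreover that X and Y are
locally of finite presentation over S, have quasi-compact and separated diagonals, and have affine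
stabilizers; those hypotheses are not assumed here.) -/
theorem result {S : Scheme.{u}} (𝒳 𝒴 : AlgSt.Cat S)
    (f : 𝒳 ⥤ᵇ 𝒴) (h𝒳 : AlgSt.IsAlgStack Scheme.fppfPrecoverage 𝒳) (h𝒴 : AlgSt.IsAlgStack Scheme.fppfPrecoverage 𝒴)
    (hrep : AlgSt.RepByAlgSp1 f) (hsep : AlgSt.IsSeparatedMor f)
    (R : Type u) [CommRing R] (h : Spec (CommRingCat.of R) ⟶ S) :
    LiftSq.LiftsUnique (ThetaS.thetaOne Scheme.fppfPrecoverage R h) f := by
  intro sq
  have hs𝒳 := h𝒳.isStack
  have hP := StkLib.isPrestack_of_isStack h𝒳.isStack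
  have hY := StkLib.isPrestack_of_isStack h𝒴.isStack
  have := faithful_of_repByAlgSp1 hP.1 hY.1 f hrep
  have hdiag : AlgSt.IsClosedImm (FibCat.diag f) := ((tfae_separated hrep).out 2 1).1 hsep
  let a₀ : (AlgSt.ofSch (Line R)).obj := ⟨Line R, ⟨𝟙 _⟩⟩
  let ξ : (Theta K R h).obj := (AlgSt.quotMap K (Gm R) (lineAction R)).obj a₀
  have hℬ : IsFibGrpd (Theta K R h).p := isFibGrpd_overS h (isFibGrpd_quot (aX := lineAction R))
  have : IsAffine ((Theta K R h).p.obj ξ).left := isAffine_Spec (CommRingCat.of (Polynomial R))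
  refine uniqLift_of_forall hP.1 hY.1 fun σ σ' hσ hσ' b => ?_
  let T : Over (Spec (CommRingCat.of R)) := Gm R
  let c : (baseSt h).obj := T
  let a₁ : (AlgSt.ofSch (Line R)).obj := ⟨T, ⟨CoactBr.pt (linePt (zPow R 1))⟩⟩
  let a₂ : (AlgSt.ofSch (Line R)).obj := (secPt (onePt R) (onePt_hom R)).obj T
  have h2 : a₂.sec.down = CoactBr.pt (linePt (1 : Lau R)) := by
    have e : (linePt (1 : Lau R)) = (Algebra.ofId R (Lau R)).comp (lineOne R) :=
      Polynomial.algHom_ext (by simp [linePt, lineOne, Algebra.ofId_apply, MonoidAlgebra.one_def])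
    rw [e, CoactBr.pt_comp]
    apply Over.OverMorphism.ext
    change T.hom ≫ (CoactBr.pt (lineOne R)).left = _ ≫ _
    congr 1
  have hg : lift (CoactBr.pt (AlgHom.id R (Lau R))) (𝟙 T ≫ a₂.sec.down) ≫ (lineAction R).act =
      a₁.sec.down := by
    rw [Category.id_comp, h2, lineAction_pt, AlgHom.id_apply, _root_.mul_one]
  let zU : (Theta K R h).obj := (AlgSt.quotMap K (Gm R) (lineAction R)).obj a₁
  let t : zU ⟶ (thetaOne K R h).obj c :=
    homPt a₁ a₂ (𝟙 T) (CoactBr.pt (AlgHom.id R (Lau R))) hg
  let κ : a₁ ⟶ a₀ :=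
    ⟨CoactBr.pt (linePt (zPow R 1)), congrArg ULift.up (Category.comp_id (CoactBr.pt (linePt (zPow R 1)) : T ⟶ Line R))⟩
  let m : zU ⟶ ξ := (AlgSt.quotMap K (Gm R) (lineAction R)).map κ
  have htop : ∀ τ : ∀ b, Pair sq.bot f b, IsFamily sq τ →
      Rel t (τ zU) (topPair sq c) := fun τ hτ =>
    (hτ.1 t).comp_id (hτ.2 c)
  have hzU : Rel (𝟙 zU) (σ zU) (σ' zU) := (htop σ hσ).unique hP.1 hY.1 (htop σ' hσ')
  have hj : Function.Injective ((Theta K R h).p.map m).left.appTop := by
    change Function.Injective
      (Spec.map (CommRingCat.ofHom (linePt (zPow R 1)).toRingHom)).appTop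
    intro p q hpq
    have e : ∀ z, (Spec.map (CommRingCat.ofHom (linePt (zPow R 1)).toRingHom)).appTop z =
        (Scheme.ΓSpecIso (CommRingCat.of (Lau R))).inv
          (linePt (zPow R 1) ((Scheme.ΓSpecIso (CommRingCat.of (Polynomial R))).hom z)) := fun z => by
      have := congr($(Scheme.ΓSpecIso_inv_naturality
        (CommRingCat.ofHom (linePt (zPow R 1)).toRingHom))
          ((Scheme.ΓSpecIso (CommRingCat.of (Polynomial R))).hom z))
      rw [CommRingCat.comp_apply, CommRingCat.comp_apply, Iso.hom_inv_id_apply] at this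
      exact this.symm
    rw [e, e] at hpq
    exact (ConcreteCategory.bijective_of_isIso
      (Scheme.ΓSpecIso (CommRingCat.of (Polynomial R))).hom).1
      (linePt_z_injective ((ConcreteCategory.bijective_of_isIso
        (Scheme.ΓSpecIso (CommRingCat.of (Lau R))).inv).1 hpq))
  have hξ : Rel (𝟙 ξ) (σ' ξ) (σ ξ) := rel_of_rel_open hP.1 hY.1 hdiag (σ' ξ) (σ ξ) m hj (σ zU)
    (hzU.id_comp (hσ'.1 m)) (hσ.1 m)
  have key : ∀ τ : ∀ b, Pair sq.bot f b, IsFamily sq τ → Rel (𝟙 ξ) (τ ξ) (σ ξ) →
      Char (σ ξ) (τ b) := fun τ hτ h0 z ν m' =>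
    ⟨τ z, hτ.1 ν, (hτ.1 m').comp_id h0⟩
  exact Char.unique hP hY hℬ (σ ξ)
    (fun b => genSieve_mem h (Q := fun _ => True) b) (key σ hσ (rel_id _)) (key σ' hσ' hξ)

end Groth.Agent.S18008
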