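import Groth.Statements.S18014
import Groth.Agent.LvSys47.Basic
-- import your own Groth.Agent.* helpers here

set_option autoImplicit false
universe u
open CategoryTheory CategoryTheory.Limits
open Lim

namespace Groth.Agent.S18014

open LvSys47 LvSys47.Lv CategoryTheory CategoryTheory.Limits

noncomputable section

variable {A B C : Type u} [CommRing A] [CommRing B] [CommRing C] [Algebra A B] [Algebra A C]
  (f : B →ₐ[A] C)

/-- The conditions on a pair of levels. -/
structure Ok (l : Lv A B) (m : Lv A C) : Prop where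
  le : Lv.Le f l m
  intB : Algebra.IsIntegral A l.Q
  intC : Algebra.IsIntegral A m.Q
  surjB : Function.Surjective (algebraMap A B) → Function.Surjective (algebraMap A l.Q)
  surjC : Function.Surjective (algebraMap A C) → Function.Surjective (algebraMap A m.Q)
  surj : Function.Surjective f → Function.Surjective (hom le)
  nil : Function.Surjective f → IsNilpotent (RingHom.ker f.toRingHom) →
    IsNilpotent (RingHom.ker (hom le).toRingHom)

/-- Indices. -/
def Idx : Type u := {p : Lv A B × Lv A C // Ok f p.1 p.2}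

instance : Preorder (Idx f) := Preorder.lift fun p => p.1

variable [Algebra.IsIntegral A B]

/-- Make a level integral and, when possible, cyclic. -/
theorem exists_good (l : Lv A B) :
    ∃ (m : Lv A B) (h : l ≤ m), m.s = l.s ∧ Algebra.IsIntegral A m.Q ∧
      (Function.Surjective (algebraMap A B) → Function.Surjective (algebraMap A m.Q)) := by
  classical
  choose p hp hp0 using fun b : l.s => (Algebra.IsIntegral.isIntegral (R := A) (b : B))
  let S₁ : Finset l.Q := Finset.univ.image fun b => Polynomial.aeval (l.gen b) (p b)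
  have hS₁ : ∀ x ∈ S₁, l.toAlg x = 0 := fun x hx => by
    obtain ⟨b, -, rfl⟩ := Finset.mem_image.mp hx
    rw [← Polynomial.aeval_algHom_apply, toAlg_gen]
    exact hp0 b
  by_cases hs : Function.Surjective (algebraMap A B)
  · choose a ha using fun b : l.s => hs (b : B)
    let S₂ : Finset l.Q := Finset.univ.image fun b => l.gen b - algebraMap A l.Q (a b)
    obtain ⟨m, h, hms, hsurj, h0, -⟩ := exists_kill l (S₁ ∪ S₂) fun x hx => by
      rcases Finset.mem_union.mp hx with hx | hx
      · exact hS₁ x hx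
      · obtain ⟨b, -, rfl⟩ := Finset.mem_image.mp hx
        rw [map_sub, toAlg_gen, AlgHom.commutes, ha, sub_self]
    have hr : Function.Surjective (algebraMap A m.Q) := by
      intro y
      obtain ⟨x, rfl⟩ := hsurj y
      have hx : x ∈ Algebra.adjoin A (Set.range l.gen) := by rw [adjoin_gen]; trivial
      have : Algebra.adjoin A (Set.range l.gen) ≤ Subalgebra.comap (incl h) ⊥ := by
        rw [Algebra.adjoin_le_iff]
        rintro _ ⟨b, rfl⟩
        refine Algebra.mem_bot.mpr ⟨a b, ?_⟩
        have := h0 _ (Finset.mem_union_right _ (Finset.mem_image_of_mem _ (Finset.mem_univ b)))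
        rw [map_sub, AlgHom.commutes, sub_eq_zero] at this
        exact this.symm
      exact Algebra.mem_bot.mp (this hx)
    exact ⟨m, h, hms, ⟨fun y => by obtain ⟨a, rfl⟩ := hr y; exact isIntegral_algebraMap⟩, fun _ => hr⟩
  · obtain ⟨m, h, hms, hsurj, h0, -⟩ := exists_kill l S₁ hS₁
    haveI : Algebra.IsIntegral A m.Q := isIntegral_of_gen m fun c => by
      obtain ⟨b, hb⟩ : ∃ b : l.s, (⟨(b : B), h.1 b⟩ : m.s) = c := ⟨⟨c, hms ▸ c.2⟩, rfl⟩
      rw [← hb, ← incl_gen h]
      refine ⟨p b, hp b, ?_⟩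
      show Polynomial.aeval (incl h (l.gen b)) (p b) = 0
      rw [Polynomial.aeval_algHom_apply]
      exact h0 _ (Finset.mem_image_of_mem _ (Finset.mem_univ b))
    exact ⟨m, h, hms, inferInstance, fun h => absurd h hs⟩

variable [Algebra.IsIntegral A C]

theorem exists_ok (l : Lv A B) (m : Lv A C) : ∃ i : Idx f, l ≤ i.1.1 ∧ m ≤ i.1.2 := by
  classical
  -- enlarge the sets
  obtain ⟨l₁, hl₁, -, hsub⟩ : ∃ l₁ : Lv A B, l ≤ l₁ ∧ l.s ⊆ l₁.s ∧
      (Function.Surjective f → (↑m.s : Set C) ⊆ f '' ↑l₁.s) := by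
    by_cases hf : Function.Surjective f
    · choose g hg using hf
      obtain ⟨l₁, h, h', h''⟩ := exists_ge_mem l (m.s.image g)
      exact ⟨l₁, h, h', fun _ c hc => ⟨g c, h'' (Finset.mem_image_of_mem g hc), hg c⟩⟩
    · exact ⟨l, le_rfl, subset_rfl, fun h => absurd h hf⟩
  obtain ⟨l₂, hl₂, hs₂, hiB, hsB⟩ := exists_good l₁
  obtain ⟨m₁, hm₁, hle₁, hs₁⟩ := exists_ge_of_le f l₂ m
  obtain ⟨m₂, hm₂, hms, hiC, hsC⟩ := exists_good m₁
  have hle₂ : Lv.Le f l₂ m₂ := Lv.le_trans (AlgHom.id_comp f) hle₁ hm₂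
  have hsurj : Function.Surjective f → Function.Surjective (hom hle₂) := fun hf => by
    refine hom_surjective hle₂ ?_
    rw [hms, hs₁, hs₂]
    exact Set.union_subset (hsub hf) subset_rfl
  by_cases hf : Function.Surjective f ∧ IsNilpotent (RingHom.ker f.toRingHom)
  · obtain ⟨hf, M, hM⟩ := hf
    let N := M + 1
    have hN : RingHom.ker f.toRingHom ^ N = 0 := by rw [pow_succ, hM, zero_mul]
    have hfg : (RingHom.ker (hom hle₂).toRingHom).FG :=
      Algebra.FinitePresentation.ker_fG_of_surjective (hom hle₂) (hsurj hf)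
    obtain ⟨G, hG⟩ := (Submodule.FG.pow hfg N : (RingHom.ker (hom hle₂).toRingHom ^ N).FG)
    obtain ⟨l₃, hl₃, hls₃, hsur₃, h0, hup⟩ := exists_kill l₂ G fun x hx => by
      have hx' : x ∈ RingHom.ker (hom hle₂).toRingHom ^ N := hG.le (Ideal.subset_span hx)
      have hk : (RingHom.ker (hom hle₂).toRingHom).map l₂.toAlg.toRingHom ≤ RingHom.ker f.toRingHom := by
        rw [Ideal.map_le_iff_le_comap]
        intro y hy
        show f (l₂.toAlg y) = 0
        rw [← toAlg_hom hle₂, show hom hle₂ y = 0 from hy, map_zero]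
      have h1 := Ideal.mem_map_of_mem l₂.toAlg.toRingHom hx'
      rw [Ideal.map_pow] at h1
      have h2 := Ideal.pow_right_mono hk N h1
      rw [hN] at h2
      exact h2
    have hker : ∀ y ∈ G, hom hle₂ y = 0 := fun y hy =>
      Ideal.pow_le_self (Nat.succ_ne_zero M) (hG.le (Ideal.subset_span hy))
    have hle₃ : Lv.Le f l₃ m₂ := hup C f m₂ hle₂ hker
    have hcomp : (hom hle₃).comp (incl hl₃) = hom hle₂ := by
      have := hom_natural hle₂ hle₃ hl₃ le_rfl
      rw [show incl (Lv.le_refl m₂) = AlgHom.id A m₂.Q from hom_refl _, AlgHom.id_comp] at this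
      exact this.symm
    refine ⟨⟨(l₃, m₂), hle₃, ⟨fun y => ?_⟩, hiC, fun h y => ?_, hsC, fun h c => ?_, fun h _ => ?_⟩,
      hl₁.trans (hl₂.trans hl₃), hm₁.trans hm₂⟩
    · obtain ⟨x, rfl⟩ := hsur₃ y
      exact (hiB.isIntegral x).map (incl hl₃)
    · obtain ⟨x, rfl⟩ := hsur₃ y
      obtain ⟨a, rfl⟩ := hsB h x
      exact ⟨a, ((incl hl₃).commutes a).symm⟩
    · obtain ⟨x, rfl⟩ := hsurj hf c
      exact ⟨incl hl₃ x, DFunLike.congr_fun hcomp x⟩
    · refine ⟨N, le_bot_iff.mp ?_⟩
      have hk : RingHom.ker (hom hle₃).toRingHom ≤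
          (RingHom.ker (hom hle₂).toRingHom).map (incl hl₃).toRingHom := by
        intro y hy
        obtain ⟨x, rfl⟩ := hsur₃ y
        refine Ideal.mem_map_of_mem _ ?_
        show hom hle₂ x = 0
        rw [← hcomp]
        exact hy
      refine (Ideal.pow_right_mono hk N).trans ?_
      rw [← Ideal.map_pow, ← hG, Ideal.map_span, Ideal.span_le]
      rintro _ ⟨x, hx, rfl⟩
      exact h0 x hx
  · exact ⟨⟨(l₂, m₂), hle₂, hiB, hiC, hsB, hsC, hsurj, fun h h' => absurd ⟨h, h'⟩ hf⟩,
      hl₁.trans hl₂, hm₁.trans hm₂⟩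

instance : IsDirectedOrder (Idx f) := ⟨fun i j => by
  obtain ⟨l, h₁, h₂⟩ := exists_ge_two i.1.1 j.1.1
  obtain ⟨m, h₁', h₂'⟩ := exists_ge_two i.1.2 j.1.2
  obtain ⟨k, hl, hm⟩ := exists_ok f l m
  exact ⟨k, ⟨h₁.trans hl, h₁'.trans hm⟩, ⟨h₂.trans hl, h₂'.trans hm⟩⟩⟩

instance : Nonempty (Idx f) := let ⟨i, _⟩ := exists_ok f (ofFinset ∅) (ofFinset ∅); ⟨i⟩

/-- The diagram of levels of `B`. -/
def diagB : Idx f ⥤ Under (CommRingCat.of A) where
  obj i := Under.mk (CommRingCat.ofHom (algebraMap A i.1.1.Q))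
  map {i j} h := Under.homMk (CommRingCat.ofHom (incl (leOfHom h).1).toRingHom)
    (CommRingCat.hom_ext (RingHom.ext fun a => (incl (leOfHom h).1).commutes a))
  map_id i := Under.UnderMorphism.ext (CommRingCat.hom_ext
    (congrArg AlgHom.toRingHom (hom_refl (leOfHom (𝟙 i)).1)))
  map_comp {i j k} a b := Under.UnderMorphism.ext (CommRingCat.hom_ext (congrArg AlgHom.toRingHom
    (hom_trans (AlgHom.id_comp _) (leOfHom a).1 (leOfHom b).1 (leOfHom (a ≫ b)).1).symm))

/-- The diagram of levels of `C`. -/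
def diagC : Idx f ⥤ Under (CommRingCat.of A) where
  obj i := Under.mk (CommRingCat.ofHom (algebraMap A i.1.2.Q))
  map {i j} h := Under.homMk (CommRingCat.ofHom (incl (leOfHom h).2).toRingHom)
    (CommRingCat.hom_ext (RingHom.ext fun a => (incl (leOfHom h).2).commutes a))
  map_id i := Under.UnderMorphism.ext (CommRingCat.hom_ext
    (congrArg AlgHom.toRingHom (hom_refl (leOfHom (𝟙 i)).2)))
  map_comp {i j k} a b := Under.UnderMorphism.ext (CommRingCat.hom_ext (congrArg AlgHom.toRingHom
    (hom_trans (AlgHom.id_comp _) (leOfHom a).2 (leOfHom b).2 (leOfHom (a ≫ b)).2).symm))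

/-- The map of diagrams. -/
def tau : diagB f ⟶ diagC f where
  app i := Under.homMk (CommRingCat.ofHom (hom i.2.le).toRingHom)
    (CommRingCat.hom_ext (RingHom.ext fun a => (hom i.2.le).commutes a))
  naturality {i j} h := Under.UnderMorphism.ext (CommRingCat.hom_ext (congrArg AlgHom.toRingHom
    (hom_natural i.2.le j.2.le (leOfHom h).1 (leOfHom h).2).symm))

/-- The cocone for `B`. -/
def coconeB : diagB f ⟶ (Functor.const (Idx f)).obj (Under.mk (CommRingCat.ofHom (algebraMap A B))) where
  app i := Under.homMk (CommRingCat.ofHom i.1.1.toAlg.toRingHom)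
    (CommRingCat.hom_ext (RingHom.ext fun a => i.1.1.toAlg.commutes a))
  naturality {i j} h := Under.UnderMorphism.ext (CommRingCat.hom_ext (RingHom.ext fun x =>
    toAlg_incl (leOfHom h).1 x))

/-- The cocone for `C`. -/
def coconeC : diagC f ⟶ (Functor.const (Idx f)).obj (Under.mk (CommRingCat.ofHom (algebraMap A C))) where
  app i := Under.homMk (CommRingCat.ofHom i.1.2.toAlg.toRingHom)
    (CommRingCat.hom_ext (RingHom.ext fun a => i.1.2.toAlg.commutes a))
  naturality {i j} h := Under.UnderMorphism.ext (CommRingCat.hom_ext (RingHom.ext fun x =>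
    toAlg_incl (leOfHom h).2 x))

theorem isColimitB : Nonempty (IsColimit (Cocone.mk _ (coconeB f))) := by
  classical
  refine nonempty_isColimit _ _ (fun x => ?_) fun i y y' h => ?_
  · obtain ⟨k, hk, -⟩ := exists_ok f (ofFinset {(show B from x)}) (ofFinset ∅)
    obtain ⟨y, hy⟩ := exists_gen_mem (l := k.1.1) (hk.1 ⟨(show B from x), Finset.mem_singleton_self _⟩)
    exact ⟨k, y, hy⟩
  · obtain ⟨l, hl, e⟩ := exists_incl_eq i.1.1 y y' h
    obtain ⟨k, hk, hk'⟩ := exists_ok f l i.1.2
    refine ⟨k, homOfLE ⟨hl.trans hk, hk'⟩, ?_⟩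
    have e' := congrArg (incl hk) e
    rw [← AlgHom.comp_apply, ← AlgHom.comp_apply, incl, incl,
      hom_trans (AlgHom.id_comp _) hl hk (hl.trans hk)] at e'
    exact e'

theorem isColimitC : Nonempty (IsColimit (Cocone.mk _ (coconeC f))) := by
  classical
  refine nonempty_isColimit _ _ (fun x => ?_) fun i y y' h => ?_
  · obtain ⟨k, -, hk⟩ := exists_ok f (ofFinset ∅) (ofFinset {(show C from x)})
    obtain ⟨y, hy⟩ := exists_gen_mem (l := k.1.2) (hk.1 ⟨(show C from x), Finset.mem_singleton_self _⟩)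
    exact ⟨k, y, hy⟩
  · obtain ⟨m, hm, e⟩ := exists_incl_eq i.1.2 y y' h
    obtain ⟨k, hk', hk⟩ := exists_ok f i.1.1 m
    refine ⟨k, homOfLE ⟨hk', hm.trans hk⟩, ?_⟩
    have e' := congrArg (incl hk) e
    rw [← AlgHom.comp_apply, ← AlgHom.comp_apply, incl, incl,
      hom_trans (AlgHom.id_comp _) hm hk (hm.trans hk)] at e'
    exact e'

end


/-- Let A be a commutative ring, B an A-algebra and C a B-algebra, with B and C both integral over A.
Then B → C is a filtered colimit, in the category of A-algebras, of maps B_i → C_i between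
A-algebras each of which is finite and of finite presentation over A: there are a small filtered
index category, two diagrams of A-algebras over it with a morphism of diagrams, and colimiting
cocones with vertices B and C under which the morphism of diagrams induces B → C. Moreover the
system can be chosen so that if A → B (resp. B → C, resp. A → C) is surjective then so is every A →
B_i (resp. B_i → C_i, resp. A → C_i), and if A → B (resp. B → C, resp. A → C) is surjective with
nilpotent kernel then so is every A → B_i (resp. B_i → C_i, resp. A → C_i). -/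
theorem result {A B C : Type u} [CommRing A] [CommRing B]
    [CommRing C] [Algebra A B] [Algebra A C] [Algebra B C] [IsScalarTower A B C]
    [Algebra.IsIntegral A B] [Algebra.IsIntegral A C] :
    ∃ (ι : Type u) (_ : SmallCategory ι) (_ : IsFiltered ι) (DB DC : ι ⥤ Under (CommRingCat.of A)) (τ : DB ⟶ DC)
      (cB : DB ⟶ (Functor.const ι).obj (Under.mk (CommRingCat.ofHom (algebraMap A B))))
      (cC : DC ⟶ (Functor.const ι).obj (Under.mk (CommRingCat.ofHom (algebraMap A C)))),
      Nonempty (IsColimit (Cocone.mk _ cB)) ∧ Nonempty (IsColimit (Cocone.mk _ cC)) ∧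
      (∀ i, (τ.app i).right ≫ (cC.app i).right = (cB.app i).right ≫ CommRingCat.ofHom (algebraMap B C)) ∧
      (∀ i, (DB.obj i).hom.hom.Finite ∧ (DB.obj i).hom.hom.FinitePresentation ∧
        (DC.obj i).hom.hom.Finite ∧ (DC.obj i).hom.hom.FinitePresentation) ∧
      (Function.Surjective (algebraMap A B) → ∀ i, Function.Surjective (DB.obj i).hom.hom) ∧
      (Function.Surjective (algebraMap B C) → ∀ i, Function.Surjective (τ.app i).right.hom) ∧
      (Function.Surjective (algebraMap A C) → ∀ i, Function.Surjective (DC.obj i).hom.hom) ∧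
      (Function.Surjective (algebraMap A B) → IsNilpotent (RingHom.ker (algebraMap A B)) →
        ∀ i, Function.Surjective (DB.obj i).hom.hom ∧ IsNilpotent (RingHom.ker (DB.obj i).hom.hom)) ∧
      (Function.Surjective (algebraMap B C) → IsNilpotent (RingHom.ker (algebraMap B C)) →
        ∀ i, Function.Surjective (τ.app i).right.hom ∧ IsNilpotent (RingHom.ker (τ.app i).right.hom)) ∧
      (Function.Surjective (algebraMap A C) → IsNilpotent (RingHom.ker (algebraMap A C)) →
        ∀ i, Function.Surjective (DC.obj i).hom.hom ∧ IsNilpotent (RingHom.ker (DC.obj i).hom.hom)) := by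
  let f := IsScalarTower.toAlgHom A B C
  have hle : ∀ {E : Type u} [CommRing E] [Algebra A E] (l : Lv A E) [Algebra.IsIntegral A l.Q],
      (algebraMap A l.Q).Finite ∧ (algebraMap A l.Q).FinitePresentation := fun l _ =>
    ⟨RingHom.finite_algebraMap.mpr Algebra.IsIntegral.finite,
      RingHom.finitePresentation_algebraMap.mpr inferInstance⟩
  refine ⟨Idx f, inferInstance, inferInstance, diagB f, diagC f, tau f, coconeB f, coconeC f,
    isColimitB f, isColimitC f, fun i => CommRingCat.hom_ext (RingHom.ext fun x => toAlg_hom i.2.le x),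
    fun i => ?_, fun h i => i.2.surjB h, fun h i => i.2.surj h, fun h i => i.2.surjC h,
    fun h hn i => ⟨i.2.surjB h, ?_⟩, fun h hn i => ⟨i.2.surj h, i.2.nil h hn⟩,
    fun h hn i => ⟨i.2.surjC h, ?_⟩⟩
  · haveI := i.2.intB
    haveI := i.2.intC
    exact ⟨(hle i.1.1).1, (hle i.1.1).2, (hle i.1.2).1, (hle i.1.2).2⟩
  · obtain ⟨n, hn⟩ := hn
    refine ⟨n, le_bot_iff.mp ((Ideal.pow_right_mono (fun a ha => ?_) n).trans hn.le)⟩
    show algebraMap A B a = 0
    rw [← i.1.1.toAlg.commutes, show algebraMap A i.1.1.Q a = 0 from ha, map_zero]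
  · obtain ⟨n, hn⟩ := hn
    refine ⟨n, le_bot_iff.mp ((Ideal.pow_right_mono (fun a ha => ?_) n).trans hn.le)⟩
    show algebraMap A C a = 0
    rw [← i.1.2.toAlg.commutes, show algebraMap A i.1.2.Q a = 0 from ha, map_zero]

end Groth.Agent.S18014
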