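import Groth.Statements.S18015
import Mathlib

set_option autoImplicit false
universe u
open CategoryTheory
open Coh

namespace Groth.Agent.S18015

open CategoryTheory CategoryTheory.Limits

/-- Let A be a Noetherian commutative ring and F an additive functor from A-modules to A-modules which
is half-exact, i.e. for every short exact sequence 0 → M' → M → M'' → 0 the sequence F(M') → F(M) →
F(M'') is exact at F(M). Then F(M) is a finitely generated A-module for every finitely generated
A-module M if and only if F(A/p) is a finitely generated A-module for every prime ideal p of A. (The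
published statement takes F from quasi-coherent sheaves on Spec A to abelian groups, with A acting
on each F(M) through F; this row allows any additive functor between A-module categories, A-linear
or not, and the same argument applies, since it uses only that each map F(f) is A-linear.) -/
theorem result {A : Type u} [CommRing A] [IsNoetherianRing A]
    (F : ModuleCat.{u} A ⥤ ModuleCat.{u} A) [F.Additive]
    (hF : ∀ S : ShortComplex (ModuleCat.{u} A), S.ShortExact → (S.map F).Exact) :
    (∀ M : ModuleCat.{u} A, Module.Finite A M → Module.Finite A (F.obj M)) ↔
      ∀ p : PrimeSpectrum A, Module.Finite A (F.obj (ModuleCat.of A (A ⧸ p.asIdeal))) := by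
  refine ⟨fun h p => h _ inferInstance, fun h M hM => ?_⟩
  refine IsNoetherianRing.induction_on_isQuotientEquivQuotientPrime (A := A) (M := M) hM
    (motive := fun N _ _ _ => Module.Finite A (F.obj (ModuleCat.of A N))) ?_ ?_ ?_
  · intro N _ _ _ _
    have h0 : IsZero (ModuleCat.of A N) := ModuleCat.isZero_of_subsingleton _
    haveI := ModuleCat.subsingleton_of_isZero (F.map_isZero h0)
    infer_instance
  · intro N _ _ _ p e
    haveI := h p
    exact Module.Finite.equiv (F.mapIso e.toModuleIso).toLinearEquiv.symm
  · intro N₁ _ _ _ N₂ _ _ _ N₃ _ _ _ f g hf hg hfg h1 h3
    let S : ShortComplex (ModuleCat.{u} A) := ShortComplex.mk (ModuleCat.ofHom f) (ModuleCat.ofHom g)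
      (ModuleCat.hom_ext (LinearMap.ext fun x => hfg.apply_apply_eq_zero x))
    have hS : S.ShortExact :=
      { exact := (ShortComplex.ShortExact.moduleCat_exact_iff_function_exact S).mpr hfg
        mono_f := (ModuleCat.mono_iff_injective _).mpr hf
        epi_g := (ModuleCat.epi_iff_surjective _).mpr hg }
    have he := (ShortComplex.ShortExact.moduleCat_exact_iff_function_exact (S.map F)).mp (hF S hS)
    haveI : Module.Finite A (S.map F).X₁ := h1
    haveI : Module.Finite A (S.map F).X₃ := h3
    haveI := isNoetherian_of_range_eq_ker (S.map F).f.hom (S.map F).g.hom he.linearMap_ker_eq.symm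
    exact (inferInstance : Module.Finite A (S.map F).X₂)

end Groth.Agent.S18015
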