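import Groth.Statements.S18016
import Groth.Agent.LvSys47.Square
-- import your own Groth.Agent.* helpers here

set_option autoImplicit false
universe u
open CategoryTheory CategoryTheory.Limits
open Lim

namespace Groth.Agent.S18016

open LvSys47 LvSys47.Lv CategoryTheory CategoryTheory.Limits

noncomputable section

variable {R B D D' P : Type u} [CommRing R] [CommRing B] [CommRing D] [CommRing D'] [CommRing P]
  [Algebra R B] [Algebra R D] [Algebra R D'] [Algebra R P] (f : B →ₐ[R] D) (i : D' →ₐ[R] D)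

theorem isDirected (hi : Function.Surjective i) (hnil : ∀ x ∈ RingHom.ker i.toRingHom, IsNilpotent x) :
    IsDirectedOrder (SqIdx f i) := ⟨fun a b => by
  obtain ⟨l, h₁, h₂⟩ := exists_ge_two a.1.1 b.1.1
  obtain ⟨n, h₁', h₂'⟩ := exists_ge_two a.1.2.1 b.1.2.1
  obtain ⟨l', h₁'', h₂''⟩ := exists_ge_two a.1.2.2 b.1.2.2
  obtain ⟨k, hl, hn, hl'⟩ := exists_sqOk (f := f) hi hnil l n l'
  exact ⟨k, ⟨h₁.trans hl, h₁'.trans hn, h₁''.trans hl'⟩, ⟨h₂.trans hl, h₂'.trans hn, h₂''.trans hl'⟩⟩⟩

/-- The diagram of levels of `B`. -/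
def diagB : SqIdx f i ⥤ Under (CommRingCat.of R) where
  obj j := Under.mk (CommRingCat.ofHom (algebraMap R j.1.1.Q))
  map h := Under.homMk (CommRingCat.ofHom (incl (leOfHom h).1).toRingHom)
    (CommRingCat.hom_ext (RingHom.ext fun a => (incl (leOfHom h).1).commutes a))
  map_id j := Under.UnderMorphism.ext (CommRingCat.hom_ext
    (congrArg AlgHom.toRingHom (hom_refl (leOfHom (𝟙 j)).1)))
  map_comp a b := Under.UnderMorphism.ext (CommRingCat.hom_ext (congrArg AlgHom.toRingHom
    (hom_trans (AlgHom.id_comp _) (leOfHom a).1 (leOfHom b).1 (leOfHom (a ≫ b)).1).symm))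

/-- The diagram of levels of `D`. -/
def diagD : SqIdx f i ⥤ Under (CommRingCat.of R) where
  obj j := Under.mk (CommRingCat.ofHom (algebraMap R j.1.2.1.Q))
  map h := Under.homMk (CommRingCat.ofHom (incl (leOfHom h).2.1).toRingHom)
    (CommRingCat.hom_ext (RingHom.ext fun a => (incl (leOfHom h).2.1).commutes a))
  map_id j := Under.UnderMorphism.ext (CommRingCat.hom_ext
    (congrArg AlgHom.toRingHom (hom_refl (leOfHom (𝟙 j)).2.1)))
  map_comp a b := Under.UnderMorphism.ext (CommRingCat.hom_ext (congrArg AlgHom.toRingHom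
    (hom_trans (AlgHom.id_comp _) (leOfHom a).2.1 (leOfHom b).2.1 (leOfHom (a ≫ b)).2.1).symm))

/-- The diagram of levels of `D'`. -/
def diagD' : SqIdx f i ⥤ Under (CommRingCat.of R) where
  obj j := Under.mk (CommRingCat.ofHom (algebraMap R j.1.2.2.Q))
  map h := Under.homMk (CommRingCat.ofHom (incl (leOfHom h).2.2).toRingHom)
    (CommRingCat.hom_ext (RingHom.ext fun a => (incl (leOfHom h).2.2).commutes a))
  map_id j := Under.UnderMorphism.ext (CommRingCat.hom_ext
    (congrArg AlgHom.toRingHom (hom_refl (leOfHom (𝟙 j)).2.2)))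
  map_comp a b := Under.UnderMorphism.ext (CommRingCat.hom_ext (congrArg AlgHom.toRingHom
    (hom_trans (AlgHom.id_comp _) (leOfHom a).2.2 (leOfHom b).2.2 (leOfHom (a ≫ b)).2.2).symm))

/-- The fibre product of a level. -/
abbrev pt (j : SqIdx f i) : Subalgebra R (j.1.1.Q × j.1.2.2.Q) :=
  AlgHom.equalizer ((hom j.2.le).comp (AlgHom.fst R _ _)) ((hom j.2.le').comp (AlgHom.snd R _ _))

variable {f i} in
/-- Transition maps of fibre products. -/
def ptMap {j k : SqIdx f i} (h : j ≤ k) : pt f i j →ₐ[R] pt f i k :=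
  (((incl h.1).prodMap (incl h.2.2)).comp (pt f i j).val).codRestrict _ fun y => by
    show hom k.2.le (incl h.1 y.1.1) = hom k.2.le' (incl h.2.2 y.1.2)
    have e₁ := DFunLike.congr_fun (hom_natural j.2.le k.2.le h.1 h.2.1) y.1.1
    have e₂ := DFunLike.congr_fun (hom_natural j.2.le' k.2.le' h.2.2 h.2.1) y.1.2
    exact e₁.symm.trans ((congrArg (incl h.2.1) y.2).trans e₂)

variable {f i} in
theorem ptMap_refl {j : SqIdx f i} (h : j ≤ j) (y : pt f i j) : ptMap h y = y :=
  Subtype.ext (Prod.ext (DFunLike.congr_fun (hom_refl h.1) y.1.1)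
    (DFunLike.congr_fun (hom_refl h.2.2) y.1.2))

variable {f i} in
theorem ptMap_trans {j k l : SqIdx f i} (a : j ≤ k) (b : k ≤ l) (c : j ≤ l) (y : pt f i j) :
    ptMap c y = ptMap b (ptMap a y) :=
  Subtype.ext (Prod.ext (DFunLike.congr_fun (hom_trans (AlgHom.id_comp _) a.1 b.1 c.1).symm y.1.1)
    (DFunLike.congr_fun (hom_trans (AlgHom.id_comp _) a.2.2 b.2.2 c.2.2).symm y.1.2))

/-- The diagram of fibre products. -/
def diagP : SqIdx f i ⥤ Under (CommRingCat.of R) where
  obj j := Under.mk (CommRingCat.ofHom (R := R) (S := pt f i j) (algebraMap R (pt f i j)))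
  map {j k} h := Under.homMk
    (CommRingCat.ofHom (R := pt f i j) (S := pt f i k) (ptMap (leOfHom h)).toRingHom)
    (CommRingCat.hom_ext (RingHom.ext fun a => (ptMap (leOfHom h)).commutes a))
  map_id j := Under.UnderMorphism.ext (CommRingCat.hom_ext (RingHom.ext fun y => ptMap_refl (leOfHom (𝟙 j)) y))
  map_comp a b := Under.UnderMorphism.ext (CommRingCat.hom_ext (RingHom.ext fun y =>
    ptMap_trans (leOfHom a) (leOfHom b) (leOfHom (a ≫ b)) y))

/-- `B → D` on levels. -/
def phi : diagB f i ⟶ diagD f i where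
  app j := Under.homMk (CommRingCat.ofHom (hom j.2.le).toRingHom)
    (CommRingCat.hom_ext (RingHom.ext fun a => (hom j.2.le).commutes a))
  naturality j k h := Under.UnderMorphism.ext (CommRingCat.hom_ext (congrArg AlgHom.toRingHom
    (hom_natural j.2.le k.2.le (leOfHom h).1 (leOfHom h).2.1).symm))

/-- `D' → D` on levels. -/
def psi : diagD' f i ⟶ diagD f i where
  app j := Under.homMk (CommRingCat.ofHom (hom j.2.le').toRingHom)
    (CommRingCat.hom_ext (RingHom.ext fun a => (hom j.2.le').commutes a))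
  naturality j k h := Under.UnderMorphism.ext (CommRingCat.hom_ext (congrArg AlgHom.toRingHom
    (hom_natural j.2.le' k.2.le' (leOfHom h).2.2 (leOfHom h).2.1).symm))

/-- The first projection. -/
def proj₁ : diagP f i ⟶ diagB f i where
  app j := Under.homMk (CommRingCat.ofHom (R := pt f i j) ((AlgHom.fst R _ _).comp (pt f i j).val).toRingHom)
    (CommRingCat.hom_ext (RingHom.ext fun a => ((AlgHom.fst R _ _).comp (pt f i j).val).commutes a))
  naturality _ _ _ := Under.UnderMorphism.ext (CommRingCat.hom_ext (RingHom.ext fun _ => rfl))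

/-- The second projection. -/
def proj₂ : diagP f i ⟶ diagD' f i where
  app j := Under.homMk (CommRingCat.ofHom (R := pt f i j) ((AlgHom.snd R _ _).comp (pt f i j).val).toRingHom)
    (CommRingCat.hom_ext (RingHom.ext fun a => ((AlgHom.snd R _ _).comp (pt f i j).val).commutes a))
  naturality _ _ _ := Under.UnderMorphism.ext (CommRingCat.hom_ext (RingHom.ext fun _ => rfl))

theorem isPullback_level (j : SqIdx f i) :
    IsPullback ((proj₁ f i).app j).right ((proj₂ f i).app j).right ((phi f i).app j).right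
      ((psi f i).app j).right := by
  have w : ((proj₁ f i).app j).right ≫ ((phi f i).app j).right =
      ((proj₂ f i).app j).right ≫ ((psi f i).app j).right :=
    CommRingCat.hom_ext (RingHom.ext fun y => y.2)
  refine IsPullback.of_isLimit' ⟨w⟩ (PullbackCone.IsLimit.mk w
    (fun s => CommRingCat.ofHom ((s.fst.hom.prod s.snd.hom).codRestrict (pt f i j) fun x =>
      congr($(s.condition).hom x))) (fun s => rfl) (fun s => rfl) fun s m e₁ e₂ => ?_)
  exact CommRingCat.hom_ext (RingHom.ext fun x => Subtype.ext (Prod.ext congr($(e₁).hom x) congr($(e₂).hom x)))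

/-- The cocone for `B`. -/
def coconeB : diagB f i ⟶ (Functor.const (SqIdx f i)).obj (Under.mk (CommRingCat.ofHom (algebraMap R B))) where
  app j := Under.homMk (CommRingCat.ofHom j.1.1.toAlg.toRingHom)
    (CommRingCat.hom_ext (RingHom.ext fun a => j.1.1.toAlg.commutes a))
  naturality _ _ h := Under.UnderMorphism.ext (CommRingCat.hom_ext (RingHom.ext fun x =>
    toAlg_incl (leOfHom h).1 x))

/-- The cocone for `D`. -/
def coconeD : diagD f i ⟶ (Functor.const (SqIdx f i)).obj (Under.mk (CommRingCat.ofHom (algebraMap R D))) where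
  app j := Under.homMk (CommRingCat.ofHom j.1.2.1.toAlg.toRingHom)
    (CommRingCat.hom_ext (RingHom.ext fun a => j.1.2.1.toAlg.commutes a))
  naturality _ _ h := Under.UnderMorphism.ext (CommRingCat.hom_ext (RingHom.ext fun x =>
    toAlg_incl (leOfHom h).2.1 x))

/-- The cocone for `D'`. -/
def coconeD' :
    diagD' f i ⟶ (Functor.const (SqIdx f i)).obj (Under.mk (CommRingCat.ofHom (algebraMap R D'))) where
  app j := Under.homMk (CommRingCat.ofHom j.1.2.2.toAlg.toRingHom)
    (CommRingCat.hom_ext (RingHom.ext fun a => j.1.2.2.toAlg.commutes a))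
  naturality _ _ h := Under.UnderMorphism.ext (CommRingCat.hom_ext (RingHom.ext fun x =>
    toAlg_incl (leOfHom h).2.2 x))

section cP

variable {f i} {q₁ : P →ₐ[R] B} {q₂ : P →ₐ[R] D'}
  (hP : IsPullback (CommRingCat.ofHom q₁.toRingHom) (CommRingCat.ofHom q₂.toRingHom)
    (CommRingCat.ofHom f.toRingHom) (CommRingCat.ofHom i.toRingHom))

include hP in
theorem joint_injective {x y : P} (h₁ : q₁ x = q₁ y) (h₂ : q₂ x = q₂ y) : x = y :=
  (hP.isLimit.conePointUniqueUpToIso
    (CommRingCat.pullbackConeIsLimit _ _)).commRingCatIsoToRingEquiv.injective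
    (Subtype.ext (Prod.ext h₁ h₂))

/-- The map of a level to `P`. -/
def toP (j : SqIdx f i) : CommRingCat.of (pt f i j) ⟶ CommRingCat.of P :=
  hP.lift (CommRingCat.ofHom (R := pt f i j) (j.1.1.toAlg.comp ((AlgHom.fst R _ _).comp (pt f i j).val)).toRingHom)
    (CommRingCat.ofHom (R := pt f i j) (j.1.2.2.toAlg.comp ((AlgHom.snd R _ _).comp (pt f i j).val)).toRingHom)
    (CommRingCat.hom_ext (RingHom.ext fun y => (toAlg_hom j.2.le y.1.1).symm.trans
      ((congrArg j.1.2.1.toAlg y.2).trans (toAlg_hom j.2.le' y.1.2))))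

theorem q₁_toP (j : SqIdx f i) (y : pt f i j) : q₁ (toP hP j y) = j.1.1.toAlg y.1.1 :=
  haveI e : toP hP j ≫ CommRingCat.ofHom q₁.toRingHom = _ := hP.lift_fst _ _ _
  congr($(e).hom y)

theorem q₂_toP (j : SqIdx f i) (y : pt f i j) : q₂ (toP hP j y) = j.1.2.2.toAlg y.1.2 :=
  haveI e : toP hP j ≫ CommRingCat.ofHom q₂.toRingHom = _ := hP.lift_snd _ _ _
  congr($(e).hom y)

/-- The cocone for `P`. -/
def coconeP :
    diagP f i ⟶ (Functor.const (SqIdx f i)).obj (Under.mk (CommRingCat.ofHom (algebraMap R P))) where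
  app j := Under.homMk (toP hP j) (CommRingCat.hom_ext (RingHom.ext fun a => joint_injective hP
    ((q₁_toP hP j (algebraMap R (pt f i j) a)).trans ((j.1.1.toAlg.commutes a).trans (q₁.commutes a).symm))
    ((q₂_toP hP j (algebraMap R (pt f i j) a)).trans ((j.1.2.2.toAlg.commutes a).trans (q₂.commutes a).symm))))
  naturality j k h := Under.UnderMorphism.ext (CommRingCat.hom_ext (RingHom.ext fun y => joint_injective hP
    ((q₁_toP hP k (ptMap (leOfHom h) y)).trans ((toAlg_incl (leOfHom h).1 y.1.1).trans (q₁_toP hP j y).symm))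
    ((q₂_toP hP k (ptMap (leOfHom h) y)).trans
      ((toAlg_incl (leOfHom h).2.2 y.1.2).trans (q₂_toP hP j y).symm))))

variable [IsDirectedOrder (SqIdx f i)] [Nonempty (SqIdx f i)] (hi : Function.Surjective i)
  (hnil : ∀ x ∈ RingHom.ker i.toRingHom, IsNilpotent x)

include hi hnil in
theorem exists_ptMap_eq (j : SqIdx f i) (z z' : pt f i j) (h' : toP hP j z = toP hP j z') :
    ∃ (k : SqIdx f i) (h : j ≤ k), ptMap h z = ptMap h z' := by
  obtain ⟨l, hl, e⟩ := exists_incl_eq j.1.1 z.1.1 z'.1.1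
    ((q₁_toP hP j z).symm.trans ((congrArg q₁ h').trans (q₁_toP hP j z')))
  obtain ⟨l', hl', e'⟩ := exists_incl_eq j.1.2.2 z.1.2 z'.1.2
    ((q₂_toP hP j z).symm.trans ((congrArg q₂ h').trans (q₂_toP hP j z')))
  obtain ⟨k, hk, hkn, hk'⟩ := exists_sqOk (f := f) hi hnil l j.1.2.1 l'
  refine ⟨k, ⟨hl.trans hk, hkn, hl'.trans hk'⟩, Subtype.ext (Prod.ext ?_ ?_)⟩
  · have e₂ := congrArg (incl hk) e
    rw [← AlgHom.comp_apply, ← AlgHom.comp_apply, incl, incl,
      hom_trans (AlgHom.id_comp _) hl hk (hl.trans hk)] at e₂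
    exact e₂
  · have e₂ := congrArg (incl hk') e'
    rw [← AlgHom.comp_apply, ← AlgHom.comp_apply, incl, incl,
      hom_trans (AlgHom.id_comp _) hl' hk' (hl'.trans hk')] at e₂
    exact e₂

include hi hnil in
theorem isColimitP : Nonempty (IsColimit (Cocone.mk _ (coconeP hP))) := by
  classical
  refine nonempty_isColimit _ _ (fun x => ?_) fun j y y' h => ?_
  · let x' : P := x
    have hx : f (q₁ x') = i (q₂ x') := congr($(hP.w).hom x')
    obtain ⟨k, hl, -, hl'⟩ := exists_sqOk (f := f) hi hnil (ofFinset {q₁ x'}) (ofFinset ∅) (ofFinset {q₂ x'})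
    have hb : q₁ x' ∈ k.1.1.s := hl.1 ⟨q₁ x', Finset.mem_singleton_self _⟩
    have hd : q₂ x' ∈ k.1.2.2.s := hl'.1 ⟨q₂ x', Finset.mem_singleton_self _⟩
    let y : pt f i k := ⟨(k.1.1.gen ⟨_, hb⟩, k.1.2.2.gen ⟨_, hd⟩), by
      show hom k.2.le (k.1.1.gen _) = hom k.2.le' (k.1.2.2.gen _)
      rw [hom_gen, hom_gen]
      exact congrArg k.1.2.1.gen (Subtype.ext hx)⟩
    exact ⟨k, y, joint_injective hP ((q₁_toP hP k y).trans (toAlg_gen _ _))
      ((q₂_toP hP k y).trans (toAlg_gen _ _))⟩
  · obtain ⟨k, hjk, e⟩ := exists_ptMap_eq hP hi hnil j (y : pt f i j) (y' : pt f i j) h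
    exact ⟨k, homOfLE hjk, e⟩

include hi hnil in
theorem isColimitB : Nonempty (IsColimit (Cocone.mk _ (coconeB f i))) := by
  classical
  refine nonempty_isColimit _ _ (fun x => ?_) fun j y y' h => ?_
  · obtain ⟨k, hk, -, -⟩ :=
      exists_sqOk (f := f) hi hnil (ofFinset {(show B from x)}) (ofFinset ∅) (ofFinset ∅)
    obtain ⟨y, hy⟩ := exists_gen_mem (l := k.1.1) (hk.1 ⟨(show B from x), Finset.mem_singleton_self _⟩)
    exact ⟨k, y, hy⟩
  · obtain ⟨l, hl, e⟩ := exists_incl_eq j.1.1 y y' h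
    obtain ⟨k, hk, hkn, hk'⟩ := exists_sqOk (f := f) hi hnil l j.1.2.1 j.1.2.2
    refine ⟨k, homOfLE ⟨hl.trans hk, hkn, hk'⟩, ?_⟩
    have e' := congrArg (incl hk) e
    rw [← AlgHom.comp_apply, ← AlgHom.comp_apply, incl, incl,
      hom_trans (AlgHom.id_comp _) hl hk (hl.trans hk)] at e'
    exact e'

include hi hnil in
theorem isColimitD : Nonempty (IsColimit (Cocone.mk _ (coconeD f i))) := by
  classical
  refine nonempty_isColimit _ _ (fun x => ?_) fun j y y' h => ?_
  · obtain ⟨k, -, hk, -⟩ :=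
      exists_sqOk (f := f) hi hnil (ofFinset ∅) (ofFinset {(show D from x)}) (ofFinset ∅)
    obtain ⟨y, hy⟩ := exists_gen_mem (l := k.1.2.1) (hk.1 ⟨(show D from x), Finset.mem_singleton_self _⟩)
    exact ⟨k, y, hy⟩
  · obtain ⟨n, hn, e⟩ := exists_incl_eq j.1.2.1 y y' h
    obtain ⟨k, hkl, hk, hk'⟩ := exists_sqOk (f := f) hi hnil j.1.1 n j.1.2.2
    refine ⟨k, homOfLE ⟨hkl, hn.trans hk, hk'⟩, ?_⟩
    have e' := congrArg (incl hk) e
    rw [← AlgHom.comp_apply, ← AlgHom.comp_apply, incl, incl,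
      hom_trans (AlgHom.id_comp _) hn hk (hn.trans hk)] at e'
    exact e'

include hi hnil in
theorem isColimitD' : Nonempty (IsColimit (Cocone.mk _ (coconeD' f i))) := by
  classical
  refine nonempty_isColimit _ _ (fun x => ?_) fun j y y' h => ?_
  · obtain ⟨k, -, -, hk⟩ :=
      exists_sqOk (f := f) hi hnil (ofFinset ∅) (ofFinset ∅) (ofFinset {(show D' from x)})
    obtain ⟨y, hy⟩ := exists_gen_mem (l := k.1.2.2) (hk.1 ⟨(show D' from x), Finset.mem_singleton_self _⟩)
    exact ⟨k, y, hy⟩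
  · obtain ⟨l', hl', e⟩ := exists_incl_eq j.1.2.2 y y' h
    obtain ⟨k, hkl, hkn, hk⟩ := exists_sqOk (f := f) hi hnil j.1.1 j.1.2.1 l'
    refine ⟨k, homOfLE ⟨hkl, hkn, hl'.trans hk⟩, ?_⟩
    have e' := congrArg (incl hk) e
    rw [← AlgHom.comp_apply, ← AlgHom.comp_apply, incl, incl,
      hom_trans (AlgHom.id_comp _) hl' hk (hl'.trans hk)] at e'
    exact e'

end cP

end

/-- In ring form, let R be a commutative ring, f : B → D any map of R-algebras and i : D' → D a
surjective map of R-algebras every element of whose kernel is nilpotent (so Spec D → Spec D' is a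
locally nilpotent closed immersion of affine R-schemes and Spec D → Spec B is affine), and let q₁ :
P → B, q₂ : P → D' exhibit P as the fibre product ring B ×_D D' (the pushout of the two affine
schemes). Then the diagram B → D ← D' is a filtered colimit, in R-algebras, of diagrams B_j → D_j ←
D'_j of R-algebras of finite presentation in which D'_j → D_j is surjective with locally nilpotent
kernel; and the fibre products P_j = B_j ×_{D_j} D'_j form a compatible diagram whose colimit is P.
Moreover: if f is surjective (resp. surjective with locally nilpotent kernel, resp. integral) then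
every B_j → D_j can be taken surjective (resp. surjective with locally nilpotent kernel, resp.
integral). (The published statement also covers two further classes, maps that become a closed or a
locally nilpotent immersion after composing with a locally nilpotent closed immersion; those two
clauses are not stated here.) -/
theorem result {R B D D' P : Type u} [CommRing R] [CommRing B]
    [CommRing D] [CommRing D'] [CommRing P] [Algebra R B] [Algebra R D] [Algebra R D'] [Algebra R P]
    (f : B →ₐ[R] D) (i : D' →ₐ[R] D) (hi : Function.Surjective i)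
    (hnil : ∀ x ∈ RingHom.ker i.toRingHom, IsNilpotent x) (q₁ : P →ₐ[R] B) (q₂ : P →ₐ[R] D')
    (hP : IsPullback (CommRingCat.ofHom q₁.toRingHom) (CommRingCat.ofHom q₂.toRingHom)
      (CommRingCat.ofHom f.toRingHom) (CommRingCat.ofHom i.toRingHom)) :
    ∃ (ι : Type u) (_ : SmallCategory ι) (_ : IsFiltered ι) (DB DD DD' DP : ι ⥤ Under (CommRingCat.of R))
      (φ : DB ⟶ DD) (ψ : DD' ⟶ DD) (π₁ : DP ⟶ DB) (π₂ : DP ⟶ DD')
      (cB : DB ⟶ (Functor.const ι).obj (Under.mk (CommRingCat.ofHom (algebraMap R B))))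
      (cD : DD ⟶ (Functor.const ι).obj (Under.mk (CommRingCat.ofHom (algebraMap R D))))
      (cD' : DD' ⟶ (Functor.const ι).obj (Under.mk (CommRingCat.ofHom (algebraMap R D'))))
      (cP : DP ⟶ (Functor.const ι).obj (Under.mk (CommRingCat.ofHom (algebraMap R P)))),
      Nonempty (IsColimit (Cocone.mk _ cB)) ∧ Nonempty (IsColimit (Cocone.mk _ cD)) ∧
      Nonempty (IsColimit (Cocone.mk _ cD')) ∧ Nonempty (IsColimit (Cocone.mk _ cP)) ∧
      (∀ j, (φ.app j).right ≫ (cD.app j).right = (cB.app j).right ≫ CommRingCat.ofHom f.toRingHom) ∧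
      (∀ j, (ψ.app j).right ≫ (cD.app j).right = (cD'.app j).right ≫ CommRingCat.ofHom i.toRingHom) ∧
      (∀ j, (π₁.app j).right ≫ (cB.app j).right = (cP.app j).right ≫ CommRingCat.ofHom q₁.toRingHom) ∧
      (∀ j, (π₂.app j).right ≫ (cD'.app j).right = (cP.app j).right ≫ CommRingCat.ofHom q₂.toRingHom) ∧
      (∀ j, (DB.obj j).hom.hom.FinitePresentation ∧ (DD.obj j).hom.hom.FinitePresentation ∧
        (DD'.obj j).hom.hom.FinitePresentation) ∧
      (∀ j, Function.Surjective (ψ.app j).right.hom ∧ ∀ x ∈ RingHom.ker (ψ.app j).right.hom, IsNilpotent x) ∧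
      (∀ j, IsPullback (π₁.app j).right (π₂.app j).right (φ.app j).right (ψ.app j).right) ∧
      (Function.Surjective f → ∀ j, Function.Surjective (φ.app j).right.hom) ∧
      (Function.Surjective f → (∀ x ∈ RingHom.ker f.toRingHom, IsNilpotent x) →
        ∀ j, Function.Surjective (φ.app j).right.hom ∧ ∀ x ∈ RingHom.ker (φ.app j).right.hom, IsNilpotent x) ∧
      (f.toRingHom.IsIntegral → ∀ j, (φ.app j).right.hom.IsIntegral) := by
  obtain ⟨k, -⟩ := exists_sqOk (f := f) hi hnil (Lv.ofFinset ∅) (Lv.ofFinset ∅) (Lv.ofFinset ∅)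
  haveI := isDirected f i hi hnil
  haveI : Nonempty (SqIdx f i) := ⟨k⟩
  have hfp : ∀ {E : Type u} [CommRing E] [Algebra R E] (l : Lv R E),
      (algebraMap R l.Q).FinitePresentation := fun l =>
    RingHom.finitePresentation_algebraMap.mpr inferInstance
  exact ⟨SqIdx f i, inferInstance, inferInstance, diagB f i, diagD f i, diagD' f i, diagP f i,
    phi f i, psi f i, proj₁ f i, proj₂ f i, coconeB f i, coconeD f i, coconeD' f i, coconeP hP,
    isColimitB hi hnil, isColimitD hi hnil, isColimitD' hi hnil, isColimitP hP hi hnil,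
    fun j => CommRingCat.hom_ext (RingHom.ext fun x => toAlg_hom j.2.le x),
    fun j => CommRingCat.hom_ext (RingHom.ext fun x => toAlg_hom j.2.le' x),
    fun j => CommRingCat.hom_ext (RingHom.ext fun y => (q₁_toP hP j y).symm),
    fun j => CommRingCat.hom_ext (RingHom.ext fun y => (q₂_toP hP j y).symm),
    fun j => ⟨hfp j.1.1, hfp j.1.2.1, hfp j.1.2.2⟩, fun j => ⟨j.2.surj', j.2.nil'⟩,
    isPullback_level f i, fun h j => j.2.surjF h, fun h hn j => ⟨j.2.surjF h, j.2.nilF h hn⟩,
    fun h j => j.2.intF h⟩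

end Groth.Agent.S18016
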