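import Groth.Statements.S18017
import Groth.Agent.EtStruct.VersalResidue
import Mathlib.AlgebraicGeometry.Morphisms.Etale
import Mathlib.RingTheory.Unramified.LocalRing

-- import your own Groth.Agent.* helpers here

set_option autoImplicit false
universe u
open CategoryTheory AlgebraicGeometry
open Unram

namespace Groth.Agent.S18017

theorem residueFieldMap_finite {X Y : Scheme.{u}} (f : X ⟶ Y) [Etale f] (x : X) :
    (f.residueFieldMap x).hom.Finite := by
  algebraize [(f.stalkMap x).hom]
  haveI : IsLocalHom (algebraMap (Y.presheaf.stalk (f x)) (X.presheaf.stalk x)) :=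
    inferInstanceAs <| IsLocalHom (f.stalkMap x).hom
  haveI : Algebra.EssFiniteType (Y.presheaf.stalk (f x)) (X.presheaf.stalk x) := by
    rw [← RingHom.essFiniteType_algebraMap, RingHom.algebraMap_toAlgebra]
    exact LocallyOfFiniteType.stalkMap f x
  haveI : Algebra.FormallyUnramified (Y.presheaf.stalk (f x)) (X.presheaf.stalk x) := by
    rw [← RingHom.formallyUnramified_algebraMap, RingHom.algebraMap_toAlgebra]
    exact FormallyUnramified.stalkMap f x
  have h : Module.Finite (IsLocalRing.ResidueField <| Y.presheaf.stalk (f x))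
      (IsLocalRing.ResidueField <| X.presheaf.stalk x) := inferInstance
  have := RingHom.finite_algebraMap.mpr h
  have heq : (f.residueFieldMap x).hom =
      algebraMap (IsLocalRing.ResidueField <| Y.presheaf.stalk (f x))
        (IsLocalRing.ResidueField <| X.presheaf.stalk x) := by
    refine RingHom.ext fun y => ?_
    obtain ⟨y, rfl⟩ := IsLocalRing.residue_surjective y
    rfl
  exact heq ▸ this

/-- Lifting along nilpotent thickenings of local rings for smooth morphisms. -/
theorem exists_lift_smooth {U T : Scheme.{u}} (e : U ⟶ T) [Smooth e]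
    {C C' : Type u} [CommRing C] [CommRing C'] [IsLocalRing C] [IsLocalRing C'] [IsArtinianRing C']
    (π : C' →+* C) (hπ : Function.Surjective π)
    (a : Spec (CommRingCat.of C) ⟶ U) (c : Spec (CommRingCat.of C') ⟶ T)
    (h : Spec.map (CommRingCat.ofHom π) ≫ c = a ≫ e) :
    ∃ d : Spec (CommRingCat.of C') ⟶ U,
      Spec.map (CommRingCat.ofHom π) ≫ d = a ∧ d ≫ e = c := by
  haveI : IsLocalHom π := IsLocalHom.of_surjective π hπ
  obtain ⟨_, ⟨V, hV, rfl⟩, htV, -⟩ := T.isBasis_affineOpens.exists_subset_of_mem_open
    (Set.mem_univ (e (a (IsLocalRing.closedPoint C)))) isOpen_univ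
  obtain ⟨_, ⟨W, hW, rfl⟩, huW, hWV⟩ := U.isBasis_affineOpens.exists_subset_of_mem_open
    (show a (IsLocalRing.closedPoint C) ∈ e ⁻¹ᵁ V from htV) (e ⁻¹ᵁ V).2
  have hcV : c (IsLocalRing.closedPoint C') ∈ V := by
    rw [← Spec_closedPoint (f := CommRingCat.ofHom π), ← Scheme.Hom.comp_apply, h,
      Scheme.Hom.comp_apply]
    exact htV
  obtain ⟨η, hη⟩ := EtStruct.exists_spec_factor (R := .of C) hW a huW
  obtain ⟨θ, hθ⟩ := EtStruct.exists_spec_factor (R := .of C') hV c hcV
  let φ := e.appLE V W hWV
  have hsq : θ ≫ CommRingCat.ofHom π = φ ≫ η := by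
    apply Spec.map_injective
    rw [← cancel_mono hV.fromSpec, Spec.map_comp, Spec.map_comp, Category.assoc, Category.assoc,
      hθ, IsAffineOpen.SpecMap_appLE_fromSpec e hV hW, reassoc_of% hη, h]
  have hφ : φ.hom.Smooth := e.smooth_appLE hV hW hWV
  algebraize [φ.hom]
  letI : Algebra Γ(T, V) C' := θ.hom.toAlgebra
  letI : Algebra Γ(T, V) C := (π.comp θ.hom).toAlgebra
  have hker : IsNilpotent (RingHom.ker π) := by
    obtain ⟨n, hn⟩ : IsNilpotent (IsLocalRing.maximalIdeal C') := by
      rw [← IsLocalRing.jacobson_eq_maximalIdeal ⊥ bot_ne_top]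
      exact IsArtinianRing.isNilpotent_jacobson_bot
    exact ⟨n, le_bot_iff.mp ((Ideal.pow_right_mono
      (IsLocalRing.le_maximalIdeal (RingHom.ker_ne_top π)) n).trans hn.le)⟩
  let πA : C' →ₐ[Γ(T, V)] C := { π with commutes' := fun _ => rfl }
  let ηA : Γ(U, W) →ₐ[Γ(T, V)] C :=
    { η.hom with commutes' := fun r => (congr($hsq r)).symm }
  let fd := Algebra.FormallySmooth.liftOfSurjective ηA πA hπ hker
  refine ⟨Spec.map (CommRingCat.ofHom fd.toRingHom) ≫ hW.fromSpec, ?_, ?_⟩
  · rw [← hη, ← Spec.map_comp_assoc]
    congr 2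
    exact CommRingCat.hom_ext (RingHom.ext fun r =>
      Algebra.FormallySmooth.liftOfSurjective_apply ηA πA hπ hker r)
  · rw [← hθ, Category.assoc, ← IsAffineOpen.SpecMap_appLE_fromSpec e hV hW hWV,
      ← Spec.map_comp_assoc]
    congr 2
    exact CommRingCat.hom_ext fd.comp_algebraMap


/-- In the case where the S-groupoid is the base scheme S itself, let g : T → S be a morphism of
schemes, e : U → T an étale morphism and u a point of U with t = e(u). Say that T is formally versal
over S at t when, for every surjection π : C' → C of local Artinian rings, every morphism a : Spec C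
→ T sending the closed point to t and inducing a surjection (hence an isomorphism) of residue fields
κ(t) → κ, and every b : Spec C' → S compatible with a over S, there is c : Spec C' → T restricting
to a and lying over b. If T is formally versal over S at t, then U (over S via e) is formally versal
over S at u. (No Noetherian or finiteness hypotheses; a scheme has all the pushouts of local
Artinian schemes that the general statement asks of the target.) -/
theorem result {S T U : Scheme.{u}} (g : T ⟶ S) (e : U ⟶ T) [Etale e] (u : U)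
    (hT : ∀ (C C' : Type u) [CommRing C] [CommRing C'] [IsLocalRing C] [IsLocalRing C'] [IsArtinianRing C]
        [IsArtinianRing C'] (π : C' →+* C), Function.Surjective π →
        ∀ (a : Spec (CommRingCat.of C) ⟶ T) (b : Spec (CommRingCat.of C') ⟶ S),
          a (IsLocalRing.closedPoint C) = e u →
          Function.Surjective (a.residueFieldMap (IsLocalRing.closedPoint C)).hom →
          Spec.map (CommRingCat.ofHom π) ≫ b = a ≫ g →
          ∃ c : Spec (CommRingCat.of C') ⟶ T, Spec.map (CommRingCat.ofHom π) ≫ c = a ∧ c ≫ g = b) :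
    ∀ (C C' : Type u) [CommRing C] [CommRing C'] [IsLocalRing C] [IsLocalRing C'] [IsArtinianRing C]
        [IsArtinianRing C'] (π : C' →+* C), Function.Surjective π →
        ∀ (a : Spec (CommRingCat.of C) ⟶ U) (b : Spec (CommRingCat.of C') ⟶ S),
          a (IsLocalRing.closedPoint C) = u →
          Function.Surjective (a.residueFieldMap (IsLocalRing.closedPoint C)).hom →
          Spec.map (CommRingCat.ofHom π) ≫ b = a ≫ (e ≫ g) →
          ∃ c : Spec (CommRingCat.of C') ⟶ U, Spec.map (CommRingCat.ofHom π) ≫ c = a ∧ c ≫ (e ≫ g) = b := by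
  intro C C' _ _ _ _ _ _ π hπ a b hau hsurj hcomm
  have hfin : ((a ≫ e).residueFieldMap (IsLocalRing.closedPoint C)).hom.Finite := by
    rw [Scheme.residueFieldMap_comp]
    exact (RingHom.Finite.of_surjective _ hsurj).comp (residueFieldMap_finite e _)
  obtain ⟨c, hc₁, hc₂⟩ := EtStruct.exists_lift_of_versalAt g hT C C' π hπ (a ≫ e) b
    (by rw [Scheme.Hom.comp_apply, hau]) hfin (by rw [hcomm, Category.assoc])
  obtain ⟨d, hd₁, hd₂⟩ := exists_lift_smooth e π hπ a c hc₁
  exact ⟨d, hd₁, by rw [← Category.assoc, hd₂, hc₂]⟩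

end Groth.Agent.S18017
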