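import Groth.Statements.S18019
import Mathlib.Tactic

set_option autoImplicit false
universe u
open ClassStk

namespace Groth.Agent.S18019

open Polynomial in
/-- Let R be an integral domain of characteristic 2 and let a be a nonzero element of R, so that x ↦ x +
a defines an R-algebra involution of the polynomial ring R[x] (an action of the group of order two).
A polynomial f is invariant, f(x + a) = f(x), if and only if f belongs to the R-subalgebra generated
by u = x (x + a); in other words the ring of invariants is the polynomial ring R[u]. -/
theorem result (R : Type u) [CommRing R] [IsDomain R]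
    [CharP R 2] (a : R) (ha : a ≠ 0) (f : Polynomial R) :
    f.comp (X + C a) = f ↔ f ∈ Algebra.adjoin R ({X * (X + C a)} : Set (Polynomial R)) := by
  set u : Polynomial R := X * (X + C a) with hu
  have hinv : u.comp (X + C a) = u := by
    simp only [hu, mul_comp, add_comp, X_comp, C_comp]
    have : C a + C a = (0 : Polynomial R) := CharTwo.add_self_eq_zero _
    linear_combination (X + C a) * this
  constructor
  · induction h : f.natDegree using Nat.strong_induction_on generalizing f with
    | _ N ih =>
      intro hf
      have hroot : f.eval a = f.eval 0 := by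
        conv_rhs => rw [← hf]
        simp
      set g := f - C (f.eval 0) with hg
      obtain ⟨g₁, hg₁⟩ : X ∣ g := X_dvd_iff.mpr (by simp [hg, coeff_zero_eq_eval_zero])
      have ha1 : g₁.eval a = 0 := by
        have h2 : g.eval a = 0 := by simp [hg, hroot]
        rw [hg₁] at h2
        simpa [ha] using h2
      obtain ⟨g₂, hg₂⟩ : X - C a ∣ g₁ := dvd_iff_isRoot.mpr ha1
      have hgu : g = u * g₂ := by
        rw [hg₁, hg₂, hu, sub_eq_add_neg X (C a), CharTwo.neg_eq]
        ring
      have hfe : f = C (f.eval 0) + u * g₂ := by rw [← hgu, hg]; ring
      have hu0 : u.Monic := monic_X.mul (monic_X_add_C a)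
      have h2inv : g₂.comp (X + C a) = g₂ := by
        have := hf
        conv_lhs at this => rw [hfe, add_comp, C_comp, mul_comp, hinv]
        conv_rhs at this => rw [hfe]
        exact mul_left_cancel₀ hu0.ne_zero (add_left_cancel this)
      rw [hfe]
      refine add_mem (Subalgebra.algebraMap_mem _ _) (mul_mem (Algebra.subset_adjoin rfl) ?_)
      rcases eq_or_ne g₂ 0 with rfl | h0
      · exact zero_mem _
      refine ih g₂.natDegree ?_ g₂ rfl h2inv
      have hdu : u.natDegree = 2 := by
        rw [hu, natDegree_mul X_ne_zero (X_add_C_ne_zero a), natDegree_X, natDegree_X_add_C]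
      have hd : f.natDegree = 2 + g₂.natDegree := by
        rw [hfe, natDegree_C_add, natDegree_mul hu0.ne_zero h0, hdu]
      omega
  · intro h
    induction h using Algebra.adjoin_induction with
    | mem x hx =>
      rw [Set.mem_singleton_iff] at hx
      rw [hx]
      exact hinv
    | algebraMap r => simp
    | add x y _ _ hx hy => rw [add_comp, hx, hy]
    | mul x y _ _ hx hy => rw [mul_comp, hx, hy]

end Groth.Agent.S18019
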