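import Groth.Statements.S1802
import Groth.Agent.LocCoh.AffineOfCd

set_option autoImplicit false
universe u
open AlgebraicGeometry
open LocCoh

namespace Groth.Agent.S1802

/-- For a Noetherian ring. Let I be an ideal of a Noetherian ring A with cd(A, I) = 1, i.e. H^i_I(M) = 0
for all modules M and all i ≥ 2 but H^1_I(M) ≠ 0 for some M. Then the open subscheme Spec A minus
V(I) is nonempty and affine. -/
theorem result (A : Type u) [CommRing A] [IsNoetherianRing A] (I : Ideal A) (h1 : LocCoh.CdLE A I 1) (h0 : ¬ LocCoh.CdLE A I 0) : Nonempty (↑(LocCoh.puncturedOpen A I) : Scheme.{u}) ∧ IsAffine (↑(LocCoh.puncturedOpen A I) : Scheme.{u}) := by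
  refine ⟨?_, Groth.Agent.LocCoh.isAffineOpen_puncturedOpen h1⟩
  by_contra hne
  refine h0 fun M _ _ i hi => ?_
  obtain ⟨j, rfl⟩ := Nat.exists_eq_add_of_le' hi
  have hle : I ≤ nilradical A := by
    intro a ha
    rw [nilradical_eq_sInf, Ideal.mem_sInf]
    intro P hP
    by_contra hPa
    exact hne ⟨⟨(⟨P, hP⟩ : PrimeSpectrum A), fun hz => hPa (hz ha)⟩⟩
  obtain ⟨n, hn⟩ := Ideal.exists_pow_le_of_le_radical_of_fg (J := (⊥ : Ideal A)) hle (IsNoetherian.noetherian I)
  refine Groth.Agent.LocCoh.subsingleton_H_succ_of_isPowerTorsion I j (ModuleCat.of A M) fun m => ⟨n, fun a ha => ?_⟩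
  rw [(Submodule.mem_bot A).mp (hn ha), zero_smul]

end Groth.Agent.S1802
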