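import Groth.Statements.S18020
import Groth.Agent.InertiaK.Spectral
-- import your own Groth.Agent.* helpers here

set_option autoImplicit false
open W4c5stacksedinertia

namespace Groth.Agent.S18020

open Groth.Agent.InertiaK.Basic Groth.Agent.InertiaK.Spectral


open W4c5stacksedinertia in
/-- In the rational vector space K with basis the isomorphism classes of finite groups (the class of a
group standing for its classifying groupoid), the inertia operator, which sends the class of a
finite group to the sum over its conjugacy classes of the classes of the centralizers of
representatives, preserves the subspace spanned by the classes of groups of order at most `n`. -/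
theorem result (n : ℕ) (v : K) (hv : v ∈ Kle n) :
    inertia v ∈ Kle n := by
  refine map_Sp_le (P := fun i => i.card ≤ n) inertia (Kle n) (fun i hi => ?_) v hv
  rw [← sub_add_cancel (inertia (cl i.rep)) ((Nat.card (Subgroup.center i.rep) : ℚ) • cl i.rep)]
  refine Submodule.add_mem _ ?_ (Submodule.smul_mem _ _ ?_)
  · exact Finsupp.supported_mono (fun j hj => le_trans (le_of_lt hj.1) hi) (inertia_cl_split i.rep)
  · refine Finsupp.single_mem_supported ℚ 1 ?_
    show (Idx.of i.rep).card ≤ n
    rw [of_rep]; exact hi

end Groth.Agent.S18020
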