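import Groth.Statements.S18021
import Groth.Agent.InertiaK.Spectral
-- import your own Groth.Agent.* helpers here

set_option autoImplicit false
open W4c5stacksedinertia

namespace Groth.Agent.S18021

open Groth.Agent.InertiaK.Basic Groth.Agent.InertiaK.Spectral


open W4c5stacksedinertia in
/-- In the rational vector space K with basis the isomorphism classes of finite groups (the class of a
group standing for its classifying groupoid), the inertia operator is diagonalizable with spectrum
the positive integers: the eigenspaces attached to natural numbers span everything, and a rational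
number is an eigenvalue if and only if it is a positive integer. -/
theorem result :
    (⨆ n : ℕ, Module.End.eigenspace inertia (n : ℚ)) = ⊤ ∧
    ∀ μ : ℚ, Module.End.HasEigenvalue inertia μ ↔ ∃ n : ℕ, 0 < n ∧ μ = (n : ℚ) := by
  have htop : (⨆ n : ℕ, Module.End.eigenspace inertia (n : ℚ)) = ⊤ := by
    rw [eq_top_iff, ← Ege_one]
    exact iSup_le fun j => le_iSup (fun n : ℕ => Module.End.eigenspace inertia (n : ℚ)) j.1
  refine ⟨htop, fun μ => ⟨fun hμ => ?_, ?_⟩⟩
  · by_contra hc
    push Not at hc
    refine hμ (disjoint_self.1 ((Module.End.eigenspaces_iSupIndep inertia μ).mono_right ?_))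
    refine le_top.trans ?_
    rw [← Ege_one]
    refine iSup_le fun j => le_iSup₂_of_le (f := fun ν (_ : ν ≠ μ) => Module.End.eigenspace inertia ν) (j.1 : ℚ)
      (fun h => hc j.1 (Nat.lt_of_lt_of_le Nat.zero_lt_one j.2) h.symm) le_rfl
  · rintro ⟨n, hn, rfl⟩
    have : NeZero n := ⟨by omega⟩
    let G := Multiplicative (ZMod n)
    have hz : Nat.card (Subgroup.center G) = n := by
      rw [CommGroup.center_eq_top, Subgroup.card_top]
      exact (Nat.card_congr Multiplicative.toAdd).trans (Nat.card_zmod n)
    have hG : Nat.card G = n := (Nat.card_congr Multiplicative.toAdd).trans (Nat.card_zmod n)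
    have : Finite G := Finite.of_equiv (ZMod n) Multiplicative.ofAdd
    have h := inertia_cl_split G
    rw [hz, hG] at h
    have he : {i : Idx | i.card < n ∧ n < i.centerCard} = ∅ := by
      rw [Set.eq_empty_iff_forall_notMem]
      rintro i ⟨h1, h2⟩
      have := card_center_le i.rep
      simp only [Idx.card, Idx.centerCard] at h1 h2
      omega
    simp only [Sp, he, Finsupp.supported_empty, Submodule.mem_bot, sub_eq_zero] at h
    exact Module.End.hasEigenvalue_of_hasEigenvector
      ⟨Module.End.mem_eigenspace_iff.2 h, Finsupp.single_ne_zero.2 one_ne_zero⟩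

end Groth.Agent.S18021
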