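import Groth.Statements.S18022
import Groth.Agent.InertiaK.Spectral
-- import your own Groth.Agent.* helpers here

set_option autoImplicit false
open W4c5stacksedinertia

namespace Groth.Agent.S18022

open Groth.Agent.InertiaK.Basic Groth.Agent.InertiaK.Spectral


open W4c5stacksedinertia in
/-- In the rational vector space K with basis the isomorphism classes of finite groups (the class of a
group standing for its classifying groupoid), the operator `inertiaR r` (class of `G` goes to the
sum, over conjugacy classes of `r`-tuples of pairwise distinct pairwise commuting elements, of the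
classes of their common centralizers) preserves the descending filtration by the order of the centre
and acts on its `k`-th graded piece as multiplication by `r! * Nat.choose k r`: for `v` in the span
of classes with centre of order at least `k`, `inertiaR r v - (r! * Nat.choose k r) • v` lies in the
span of classes with centre of order at least `k + 1`. -/
theorem result (r k : ℕ) (v : K) (hv : v ∈ Kge k) :
    inertiaR r v - ((Nat.factorial r * Nat.choose k r : ℕ) : ℚ) • v ∈ Kge (k + 1) := by
  have hstep : ∀ w ∈ Kge k, inertia w - (k : ℚ) • w ∈ Kge (k + 1) := by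
    intro w hw
    have h : (inertia - (k : ℚ) • (LinearMap.id : K →ₗ[ℚ] K)) w ∈ Kge (k + 1) := by
      refine map_Sp_le (P := fun i => k ≤ i.centerCard) _ (Kge (k + 1)) (fun i hi => ?_) w hw
      have hd : inertia (cl i.rep) - (i.centerCard : ℚ) • cl i.rep ∈ Kge (k + 1) :=
        Finsupp.supported_mono (fun j (hj : _ ∧ _) => show k + 1 ≤ j.centerCard from
          Nat.succ_le_of_lt (lt_of_le_of_lt hi hj.2)) (inertia_cl_split i.rep)
      rw [LinearMap.sub_apply, LinearMap.smul_apply, LinearMap.id_apply,
        show inertia (cl i.rep) - (k : ℚ) • cl i.rep = (inertia (cl i.rep) - (i.centerCard : ℚ) • cl i.rep) +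
          ((i.centerCard : ℚ) - k) • cl i.rep by rw [sub_smul]; abel]
      refine Submodule.add_mem _ hd ?_
      rcases eq_or_lt_of_le hi with h | h
      · rw [← h, sub_self, zero_smul]; exact Submodule.zero_mem _
      · refine Submodule.smul_mem _ _ (Finsupp.single_mem_supported ℚ 1 ?_)
        show k + 1 ≤ (Idx.of i.rep).centerCard
        rw [of_rep]; exact h
    simpa using h
  have hpres : ∀ w ∈ Kge (k + 1), inertia w ∈ Kge (k + 1) := by
    refine fun w hw => map_Sp_le (P := fun i => k + 1 ≤ i.centerCard) inertia _ (fun i hi => ?_) w hw
    rw [← sub_add_cancel (inertia (cl i.rep)) ((Nat.card (Subgroup.center i.rep) : ℚ) • cl i.rep)]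
    refine Submodule.add_mem _ ?_ (Submodule.smul_mem _ _ ?_)
    · exact Finsupp.supported_mono (fun j hj => le_trans hi (le_of_lt hj.2)) (inertia_cl_split i.rep)
    · refine Finsupp.single_mem_supported ℚ 1 ?_
      show k + 1 ≤ (Idx.of i.rep).centerCard
      rw [of_rep]; exact hi
  rw [← Nat.descFactorial_eq_factorial_mul_choose]
  induction r with
  | zero => simp [inertiaR_zero]
  | succ r ih =>
    set u := inertiaR r v - (k.descFactorial r : ℚ) • v with hu
    have hcast : ((k.descFactorial (r + 1) : ℕ) : ℚ) = ((k : ℚ) - r) * (k.descFactorial r : ℚ) := by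
      rw [Nat.descFactorial_succ]
      rcases le_or_gt r k with h | h
      · push_cast [Nat.cast_sub h]; ring
      · rw [Nat.descFactorial_eq_zero_iff_lt.2 h]; simp
    have e : inertiaR (r + 1) v - ((k.descFactorial (r + 1) : ℕ) : ℚ) • v =
        inertia u - (r : ℚ) • u + (k.descFactorial r : ℚ) • (inertia v - (k : ℚ) • v) := by
      rw [inertiaR_succ, hcast, hu, map_sub, map_smul]
      module
    rw [e]
    exact Submodule.add_mem _ (Submodule.sub_mem _ (hpres u ih) (Submodule.smul_mem _ _ ih))
      (Submodule.smul_mem _ _ (hstep v hv))

end Groth.Agent.S18022
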