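import Groth.Statements.S18024
import Groth.Agent.InertiaK.Spectral
-- import your own Groth.Agent.* helpers here

set_option autoImplicit false
open W4c5stacksedinertia

namespace Groth.Agent.S18024

open Groth.Agent.InertiaK.Basic Groth.Agent.InertiaK.Spectral


open W4c5stacksedinertia in
/-- In the rational vector space K with basis the isomorphism classes of finite groups (the class of a
group standing for its classifying groupoid), for every `r` the kernel of `inertiaR r` is the span
of the eigenspaces of the inertia operator with eigenvalue a natural number `k < r`. -/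
theorem result (r : ℕ) :
    LinearMap.ker (inertiaR r) = ⨆ k ∈ Finset.range r, Module.End.eigenspace inertia (k : ℚ) := by
  refine le_antisymm (fun v hv => ?_) (iSup₂_le fun k hk => ?_)
  · obtain ⟨N₀, hN⟩ := exists_bound v
    obtain ⟨h1, h2, h3⟩ := hN (max N₀ r) (le_max_left _ _)
    have hz : ∀ m, r ≤ m → inertiaR m v = 0 := by
      intro m hm
      induction m, hm using Nat.le_induction with
      | base => exact hv
      | succ m _ ih => rw [inertiaR_succ, ih]; simp
    rw [← h3]
    refine Submodule.sum_mem _ (fun j _ => ?_)
    by_cases hj : j < r
    · exact Submodule.mem_iSup_of_mem j (Submodule.mem_iSup_of_mem (Finset.mem_range.2 hj) (h2 j))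
    · have : ∑ m ∈ Finset.range (max N₀ r), coeff m j • inertiaR m v = 0 := by
        refine Finset.sum_eq_zero (fun m _ => ?_)
        rcases lt_or_ge m r with h | h
        · rw [coeff_of_lt (by omega), zero_smul]
        · rw [hz m h, smul_zero]
      rw [this]
      exact Submodule.zero_mem _
  · intro v hv
    rw [LinearMap.mem_ker, inertiaR_apply_eigen hv r, Nat.descFactorial_eq_zero_iff_lt.2 (Finset.mem_range.1 hk)]
    simp

end Groth.Agent.S18024
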