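import Groth.Statements.S18025
import Groth.Agent.InertiaK.Spectral
-- import your own Groth.Agent.* helpers here

set_option autoImplicit false
open W4c5stacksedinertia

namespace Groth.Agent.S18025

open Groth.Agent.InertiaK.Basic Groth.Agent.InertiaK.Spectral


open W4c5stacksedinertia in
/-- In the rational vector space K with basis the isomorphism classes of finite groups (the class of a
group standing for its classifying groupoid), the operators `P k := ∑ r, ((-1)^(r+k) / r!) *
Nat.choose r k • inertiaR r` (a finite sum on each vector) are the eigenprojections of the inertia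
operator: `P k v` lies in the `k`-eigenspace of the inertia operator for every `v` and `k`, and `∑
k, P k v = v`. -/
theorem result (v : K) :
    (∀ k : ℕ, (∑ᶠ r : ℕ, (((-1 : ℚ) ^ (r + k)) / (Nat.factorial r : ℚ) * (Nat.choose r k : ℚ)) •
        inertiaR r v) ∈ Module.End.eigenspace inertia (k : ℚ)) ∧
    (∑ᶠ k : ℕ, ∑ᶠ r : ℕ, (((-1 : ℚ) ^ (r + k)) / (Nat.factorial r : ℚ) * (Nat.choose r k : ℚ)) •
        inertiaR r v) = v := by
  obtain ⟨N₀, hN⟩ := exists_bound v
  obtain ⟨h1, h2, h3⟩ := hN N₀ le_rfl
  refine ⟨fun k => ?_, ?_⟩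
  · show (∑ᶠ r : ℕ, coeff r k • inertiaR r v) ∈ _
    rw [finsum_proj h1 k]
    exact h2 k
  · show (∑ᶠ k : ℕ, ∑ᶠ r : ℕ, coeff r k • inertiaR r v) = v
    rw [finsum_congr (fun k => finsum_proj h1 k)]
    refine (finsum_eq_sum_of_support_subset _ (fun k hk => ?_)).trans h3
    simp only [Function.mem_support] at hk
    simp only [Finset.coe_range, Set.mem_Iio]
    by_contra hc
    exact hk (Finset.sum_eq_zero fun r hr => by
      rw [coeff_of_lt (by rw [Finset.mem_range] at hr; omega), zero_smul])

end Groth.Agent.S18025
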