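import Groth.Statements.S18026
import Groth.Agent.Hens.FinitePart

set_option autoImplicit false
universe u
open Hensel

namespace Groth.Agent.S18026

open AlgebraicGeometry CategoryTheory in
/-- Let `A` be a henselian discrete valuation ring and `f : T ⟶ Spec A` an étale surjective morphism of
schemes. Then some open subscheme `U` of `T` is finite over `Spec A` and still maps onto it; in
particular `U → Spec A` is a finite étale cover sitting inside `T` as an open subscheme (étaleness
of the restriction is automatic, and surjectivity records that `U` meets the closed fibre). (The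
published statement asks for an open component of `T` finite étale over `Spec A`; when `T` is not
separated — two copies of `Spec A` glued along the generic point — no open and closed subset of `T`
is finite over `Spec A`, while the published proof constructs an open subscheme, the spectrum of the
local ring of `T` at a point of the closed fibre; so this row asks only for an open subscheme.) -/
theorem result
    (A : Type u) [CommRing A] [IsDomain A] [IsDiscreteValuationRing A] [HenselianLocalRing A]
    (T : Scheme.{u}) (f : T ⟶ Spec (CommRingCat.of A)) [Etale f] [Surjective f] :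
    ∃ U : T.Opens, IsFinite (U.ι ≫ f) ∧ Surjective (U.ι ≫ f) := by
  obtain ⟨x, hx⟩ := Surjective.surj (f := f) (IsLocalRing.closedPoint A)
  obtain ⟨V, hV, hxV, -⟩ := exists_isAffineOpen_mem_and_subset (x := x) (U := ⊤) trivial
  haveI : IsAffine (V : Scheme.{u}) := hV
  let fV := V.ι ≫ f
  haveI : IsAffineHom fV := isAffineHom_of_isAffine fV
  haveI : LocallyQuasiFinite fV := by
    refine ⟨fun {A'} hA {B} hB e => ?_⟩
    have h1 := (fV.etale_appLE hA hB e).formallyUnramified
    have h2 := fV.etale_appLE hA hB e
    algebraize [(fV.appLE A' B e).hom]
    exact (RingHom.quasiFinite_algebraMap).2 inferInstance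
  obtain ⟨W, -, hW, hWmem⟩ := Groth.Agent.Hens.FinPart.exists_finPart fV
  let U : T.Opens := V.ι ''ᵁ W
  have hU : IsFinite (U.ι ≫ f) := by
    have e : ((V.ι.isoImage W).inv ≫ W.ι ≫ V.ι) = U.ι :=
      (Iso.inv_comp_eq _).2 (V.ι.isoImage_hom_ι W).symm
    rw [← e, Category.assoc, Category.assoc]
    haveI := hW
    infer_instance
  refine ⟨U, hU, ⟨fun y => ?_⟩⟩
  have hop : IsOpen (Set.range (U.ι ≫ f)) := by
    haveI : Etale (U.ι ≫ f) := inferInstance
    exact (U.ι ≫ f).isOpenMap.isOpen_range
  have hc : IsLocalRing.closedPoint A ∈ Set.range (U.ι ≫ f) := by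
    refine ⟨⟨x, ⟨⟨x, hxV⟩, hWmem _ hx, rfl⟩⟩, hx⟩
  exact (IsLocalRing.specializes_closedPoint y).mem_open hop hc

end Groth.Agent.S18026
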