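import Groth.Statements.S18027
import Groth.Agent.GrpScheme.IdComponent
import Groth.Agent.GrpScheme.Dimension
import Groth.Agent.AbVarLib.Isogeny

set_option autoImplicit false
universe u
open CategoryTheory MonoidalCategory CartesianMonoidalCategory MonObj GrpObj AlgebraicGeometry CategoryTheory.Limits
open AlgGrp

open Order Groth.Agent Groth.Agent.GrpScheme.IdComponent

namespace Groth.Agent.S18027

set_option backward.isDefEq.respectTransparency false

lemma isClosed_e₀ {k : Type u} [Field k] (P : Over (Spec (CommRingCat.of k))) [GrpObj P] : IsClosed {e₀ P} := by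
  haveI : IsSeparated P.hom := GrpScheme.IdComponent.isSeparated P
  haveI : IsClosedImmersion η[P].left := by
    haveI : IsClosedImmersion (η[P].left ≫ P.hom) := by
      rw [Over.w η[P]]; exact inferInstanceAs (IsClosedImmersion (𝟙 _))
    exact IsClosedImmersion.of_comp η[P].left P.hom
  have : Set.range η[P].left = {e₀ P} := Set.ext fun x => ⟨by
    rintro ⟨t, rfl⟩
    exact congrArg η[P].left (Subsingleton.elim (α := PrimeSpectrum k) t _), by rintro rfl; exact ⟨_, rfl⟩⟩
  rw [← this]
  exact η[P].left.isClosedEmbedding.isClosed_range

/-- Let `k` be a field and `u : G ⟶ H` a homomorphism of smooth `k`-group schemes which is a closed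
immersion, where `G` and `H` have the same dimension. Then `u` carries the connected component of
the identity of `G` onto the connected component of the identity of `H`; as `u` is a closed
immersion and `H` is reduced, `u` therefore restricts to an isomorphism between the identity
components. (The second printed assertion, on the groups of components, is not included.) -/
theorem result (k : Type u) [Field k]
    (G H : Over (Spec (CommRingCat.of k))) [GrpObj G] [GrpObj H]
    [Smooth G.hom] [Smooth H.hom] (u : G ⟶ H) [IsMonHom u] [IsClosedImmersion u.left]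
    (hdim : topologicalKrullDim ↥G.left = topologicalKrullDim ↥H.left)
    (t : ↥((𝟙_ (Over (Spec (CommRingCat.of k)))).left)) :
    ⇑u.left.base '' connectedComponent (η[G].left.base t) = connectedComponent (η[H].left.base t) := by
  have hG : η[G].left.base t = e₀ G := congrArg η[G].left.base (Subsingleton.elim (α := PrimeSpectrum k) t _)
  have hH : η[H].left.base t = e₀ H := congrArg η[H].left.base (Subsingleton.elim (α := PrimeSpectrum k) t _)
  rw [hG, hH]
  have hue : u.left (e₀ G) = e₀ H := by
    have h : η[G] ≫ u = η[H] := IsMonHom.one_hom u
    exact (Scheme.Hom.comp_apply η[G].left u.left (IsLocalRing.closedPoint k)).symm.trans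
      congr(($h).left (IsLocalRing.closedPoint k))
  rw [GrpScheme.IdComponent.connectedComponent_eq, GrpScheme.IdComponent.connectedComponent_eq]
  have hemb := u.left.isClosedEmbedding
  -- generic points
  obtain ⟨g, hg⟩ := QuasiSober.sober (isIrreducible_irreducibleComponent (x := e₀ G)) isClosed_irreducibleComponent
  obtain ⟨h, hh⟩ := QuasiSober.sober (isIrreducible_irreducibleComponent (x := e₀ H)) isClosed_irreducibleComponent
  have himg : IsGenericPoint (u.left g) (u.left '' irreducibleComponent (e₀ G)) := by
    have h' := hg.image hemb.continuous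
    rwa [(hemb.isClosedMap _ isClosed_irreducibleComponent).closure_eq] at h'
  suffices hgh : u.left g = h by
    exact himg.def.symm.trans (hgh ▸ hh.def)
  have hsub : u.left '' irreducibleComponent (e₀ G) ⊆ irreducibleComponent (e₀ H) := by
    rw [← GrpScheme.IdComponent.connectedComponent_eq, ← GrpScheme.IdComponent.connectedComponent_eq, ← hue]
    exact u.left.continuous.image_connectedComponent_subset _
  have hle : u.left g ≤ h := Scheme.le_iff_specializes.mpr (hh.specializes (hsub ⟨g, hg.mem, rfl⟩))
  by_contra hne
  have hlt : u.left g < h := lt_of_le_not_ge hle fun hc => hne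
    ((Scheme.le_iff_specializes.mp hle).antisymm (Scheme.le_iff_specializes.mp hc)).eq.symm
  haveI : IsLocallyNoetherian G.left := LocallyOfFiniteType.isLocallyNoetherian G.hom
  have hcG := GrpScheme.Dimension.coheight_eq_topologicalKrullDim G _ (isClosed_e₀ G)
  have hcH := GrpScheme.Dimension.coheight_eq_topologicalKrullDim H _ (isClosed_e₀ H)
  rw [hdim, ← hcH, WithBot.coe_inj] at hcG
  have hfin := AbVarLib.Isogeny.coheight_lt_top (e₀ G)
  have hsm : StrictMono u.left := fun a b hab => by
    refine lt_of_le_not_ge (Scheme.le_iff_specializes.mpr ((Scheme.le_iff_specializes.mp hab.le).map hemb.continuous))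
      fun hc => hab.not_ge ?_
    exact Scheme.le_iff_specializes.mpr (hemb.isInducing.specializes_iff.mp (Scheme.le_iff_specializes.mp hc))
  have key : coheight (e₀ G) + 1 ≤ coheight (e₀ H) := by
    obtain ⟨n, hn⟩ := WithTop.ne_top_iff_exists.mp hfin.ne
    obtain ⟨p, hp, hpn⟩ := Order.exists_series_of_le_coheight (e₀ G) hn.le
    have hlast : p.last ≤ g := by
      have hmem : p.last ∈ irreducibleComponent (e₀ G) := by
        rw [← range_zι]
        exact mem_range_of_specializes G (Scheme.le_iff_specializes.mp (hp ▸ p.head_le_last))
      exact Scheme.le_iff_specializes.mpr (hg.specializes hmem)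
    let p' : LTSeries H.left := (p.map u.left hsm).snoc h (lt_of_le_of_lt (by
      show u.left p.last ≤ u.left g
      exact Scheme.le_iff_specializes.mpr ((Scheme.le_iff_specializes.mp hlast).map hemb.continuous)) hlt)
    have hhd : p'.head = e₀ H := by simp [p', hp, hue]
    refine le_trans ?_ (Order.length_le_coheight (p := p') hhd.ge)
    rw [← hn]
    simp [p', hpn]
  rw [← hcG] at key
  exact (ENat.lt_add_one_iff hfin.ne).mpr le_rfl |>.not_ge key

end Groth.Agent.S18027
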