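import Groth.Statements.S18029
import Groth.Agent.GrpSpread47.Subgroup
-- import your own Groth.Agent.* helpers here

set_option autoImplicit false
universe u
open CategoryTheory MonoidalCategory CartesianMonoidalCategory MonObj GrpObj AlgebraicGeometry CategoryTheory.Limits
open AlgGrp

namespace Groth.Agent.S18029

section Aux

open GrpSpread47 LimGrp

/-- Move a subgroup model along an isomorphism of bases. -/
theorem exists_transport {S : Scheme.{u}} {G : Over S} [GrpObj G] {T₀ : Scheme.{u}} {q : T₀ ⟶ S}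
    {Hη : Over T₀} {i : Hη ⟶ Red.bc q G} {T U : Scheme.{u}} {f : T ⟶ S} (M : Model G q i f)
    [GrpObj M.H] [IsMonHom M.v] (g : U ≅ T) (f' : U ⟶ S) (hf : g.hom ≫ f = f') :
    ∃ (ηU : T₀ ⟶ U) (HU : Over U) (_ : GrpObj HU) (j : HU ⟶ Red.bc f' G) (φ : Hη.left ⟶ HU.left),
      ηU ≫ f' = q ∧ IsMonHom j ∧ IsClosedImmersion j.left ∧ IsPullback φ Hη.hom HU.hom ηU ∧
      φ ≫ j.left ≫ pullback.fst G.hom f' = i.left ≫ pullback.fst G.hom q := by
  have key : ∀ (M' : Model G q i f') (gi : GrpObj M'.H), IsMonHom M'.v → ∃ (ηU : T₀ ⟶ U) (HU : Over U) (_ : GrpObj HU) (j : HU ⟶ Red.bc f' G) (φ : Hη.left ⟶ HU.left),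
      ηU ≫ f' = q ∧ IsMonHom j ∧ IsClosedImmersion j.left ∧ IsPullback φ Hη.hom HU.hom ηU ∧
      φ ≫ j.left ≫ pullback.fst G.hom f' = i.left ≫ pullback.fst G.hom q :=
    fun M' gi hj => ⟨M'.p, M'.H, gi, M'.v, M'.e.inv.left ≫ pullback.fst M'.H.hom M'.p, M'.w, hj, M'.closed,
      M'.isPullback, M'.comm⟩
  refine key (M.bc g.hom f' hf (M.p ≫ g.inv) (by rw [Category.assoc, g.inv_hom_id, Category.comp_id]))
    ((inferInstance : GrpObj ((Over.pullback g.hom).obj M.H))) ?_
  haveI := isMonHom_cmp hf G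
  show IsMonHom ((Over.pullback g.hom).map M.v ≫ (cmp hf G).hom)
  infer_instance

end Aux


/-- Closed subgroups of the generic fibre spread out. Let `X` be an integral scheme with generic point
`η : Spec K(X) ⟶ X`, `G` an affine `X`-group scheme locally of finite presentation and `H_η` a
closed subgroup scheme of the generic fibre `G_η = G ×_X Spec K(X)`. Then there are a non-empty open
`U ⊆ X` (through which `η` factors) and a closed subgroup scheme `H_U` of `G ×_X U` whose generic
fibre is `H_η`: a cartesian square presents `H_η` as `H_U ×_U Spec K(X)`, compatibly with the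
embeddings into `G`. -/
theorem result
    (X : Scheme.{u}) [IsIntegral X] (G : Over X) [GrpObj G]
    [IsAffineHom G.hom] [LocallyOfFinitePresentation G.hom]
    (Hη : Over (Spec X.functionField)) [GrpObj Hη]
    (i : Hη ⟶ Red.bc (X.fromSpecStalk (genericPoint X)) G) [IsMonHom i] [IsClosedImmersion i.left] :
    ∃ (U : X.Opens) (ηU : Spec X.functionField ⟶ (U : Scheme.{u})) (HU : Over (U : Scheme.{u}))
      (_ : GrpObj HU) (j : HU ⟶ Red.bc U.ι G) (φ : Hη.left ⟶ HU.left),
      ηU ≫ U.ι = X.fromSpecStalk (genericPoint X) ∧ IsMonHom j ∧ IsClosedImmersion j.left ∧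
      IsPullback φ Hη.hom HU.hom ηU ∧
      φ ≫ j.left ≫ pullback.fst G.hom U.ι = i.left ≫ pullback.fst G.hom (X.fromSpecStalk (genericPoint X)) := by
  obtain ⟨σ⟩ := LimLib.nonempty_stalkSystem X (genericPoint X)
  obtain ⟨hc⟩ := σ.isLimit
  haveI := σ.isOpenImmersion
  haveI : IsLocallyNoetherian (Limits.Cone.mk _ σ.π : Limits.Cone σ.D).pt :=
    haveI : IsNoetherianRing (X.presheaf.stalk (genericPoint X)) :=
      inferInstanceAs (IsNoetherianRing X.functionField)
    inferInstanceAs (IsLocallyNoetherian (Spec (X.presheaf.stalk (genericPoint X))))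
  obtain ⟨j, ⟨M, hM⟩⟩ := GrpSpread47.exists_model_stage (c := Limits.Cone.mk _ σ.π) hc σ.ι
    (G := G) (b := X.fromSpecStalk (genericPoint X)) σ.fac i
  obtain ⟨k, M', -, gH, hgH⟩ := GrpSpread47.exists_subgroup_stage (c := Limits.Cone.mk _ σ.π) hc σ.ι M hM
  letI := gH
  haveI := hgH
  exact ⟨(σ.ι.app k).opensRange, exists_transport M' (σ.ι.app k).isoOpensRange.symm _ (by
    rw [Iso.symm_hom, Iso.inv_comp_eq]; exact ((σ.ι.app k).isoOpensRange_hom_ι).symm)⟩

end Groth.Agent.S18029
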