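import Groth.Statements.S18040
-- import your own Groth.Agent.* helpers here

set_option autoImplicit false
universe u
open AdjLin

namespace Groth.Agent.S18040

/-- Let k be an algebraically closed field of characteristic zero and Z a finite set of points of
projective 3-space over k, realised as points of the projectivization of k⁴, a homogeneous form in
four variables being evaluated at the chosen representative of a point (its vanishing does not
depend on the choice). Suppose Z has the Cayley–Bacharach property in degree n: every form of degree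
n vanishing at all points of Z but one vanishes at that point as well. Then for every m ≤ n, either
there is a nonzero form of degree n − m vanishing at every point of Z, or the rank of the evaluation
map from forms of degree m to functions on Z is at most the number of points of Z minus the
dimension of the space of forms of degree n − m. -/
theorem result (k : Type u) [Field k] [IsAlgClosed k] [CharZero k]
    (Z : Finset (Projectivization k (Fin 4 → k))) (n : ℕ)
    (hCB : (∀ z ∈ Z, ∀ p : MvPolynomial (Fin 4) k, p.IsHomogeneous n →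
      (∀ z' ∈ Z, z' ≠ z → MvPolynomial.eval z'.rep p = 0) → MvPolynomial.eval z.rep p = 0))
    (m : ℕ) (hm : m ≤ n) :
    (∃ s : MvPolynomial (Fin 4) k, s.IsHomogeneous (n - m) ∧ s ≠ 0 ∧ ∀ z ∈ Z, MvPolynomial.eval z.rep s = 0) ∨
      Module.finrank k (LinearMap.range
          ((LinearMap.pi fun z : ↥Z => (MvPolynomial.aeval (R := k) z.1.rep).toLinearMap) ∘ₗ
            (MvPolynomial.homogeneousSubmodule (Fin 4) k m).subtype)) +
        Module.finrank k ↥(MvPolynomial.homogeneousSubmodule (Fin 4) k (n - m)) ≤ Z.card := by
  classical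
  let ev : ∀ d : ℕ, ↥(MvPolynomial.homogeneousSubmodule (Fin 4) k d) →ₗ[k] (↥Z → k) := fun d =>
    (LinearMap.pi fun z : ↥Z => (MvPolynomial.aeval (R := k) z.1.rep).toLinearMap) ∘ₗ
      (MvPolynomial.homogeneousSubmodule (Fin 4) k d).subtype
  have hev : ∀ d (q : ↥(MvPolynomial.homogeneousSubmodule (Fin 4) k d)) (z : ↥Z),
      ev d q z = MvPolynomial.eval z.1.rep q.1 := fun d q z => by
    simp [ev, MvPolynomial.aeval_eq_eval]
  by_cases hinj : Function.Injective (ev (n - m))
  · right
    have hδ : ∀ z : ↥Z, (Pi.single z 1 : ↥Z → k) ∉ LinearMap.range (ev n) := by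
      rintro z ⟨q, hq⟩
      have h1 : MvPolynomial.eval z.1.rep q.1 = 0 := by
        refine hCB z.1 z.2 q.1 q.2 fun z' hz' hne => ?_
        rw [← hev n q ⟨z', hz'⟩, hq, Pi.single_eq_of_ne]
        exact fun h => hne (congrArg Subtype.val h)
      rw [← hev n q z, hq, Pi.single_eq_same] at h1
      exact one_ne_zero h1
    have hφ : ∀ A : Finset ↥Z, ∃ φ ∈ (LinearMap.range (ev n)).dualAnnihilator,
        ∀ z ∈ A, φ (Pi.single z 1) ≠ 0 := by
      intro A
      induction A using Finset.induction_on with
      | empty => exact ⟨0, zero_mem _, by simp⟩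
      | @insert z A hz ih =>
        obtain ⟨φ, hφ, hA⟩ := ih
        obtain ⟨ψ, hψ, hψ'⟩ : ∃ ψ ∈ (LinearMap.range (ev n)).dualAnnihilator, ψ (Pi.single z 1) ≠ 0 := by
          obtain ⟨ψ, h1, h2⟩ := Submodule.exists_dual_map_eq_bot_of_notMem (hδ z) inferInstance
          refine ⟨ψ, (Submodule.mem_dualAnnihilator _).2 fun w hw => ?_, h1⟩
          exact (Submodule.eq_bot_iff _).1 h2 _ (Submodule.mem_map_of_mem hw)
        obtain ⟨t, ht⟩ := Infinite.exists_notMem_finset
          ((insert z A).image fun w => -φ (Pi.single w 1) / ψ (Pi.single w 1))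
        refine ⟨φ + t • ψ, add_mem hφ (Submodule.smul_mem _ t hψ), fun w hw h0 => ?_⟩
        have hsum : φ (Pi.single w 1) + t * ψ (Pi.single w 1) = 0 := by simpa using h0
        by_cases hw0 : ψ (Pi.single w 1) = 0
        · rw [hw0, mul_zero, add_zero] at hsum
          rcases Finset.mem_insert.1 hw with rfl | hwA
          · exact hψ' hw0
          · exact hA w hwA hsum
        · refine ht (Finset.mem_image.2 ⟨w, hw, ?_⟩)
          field_simp
          linear_combination -hsum
    obtain ⟨φ, hφ, hφz⟩ := hφ Finset.univ
    let T : (↥Z → k) →ₗ[k] Module.Dual k (↥Z → k) :=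
      (LinearMap.mul k (↥Z → k)).compr₂ φ
    have hT : Function.Injective T := by
      rw [injective_iff_map_eq_zero]
      intro a ha
      funext z
      have h1 : φ (a * Pi.single z 1) = 0 := LinearMap.congr_fun ha _
      have h2 : a * Pi.single z 1 = a z • (Pi.single z 1 : ↥Z → k) := by
        funext w
        by_cases h : w = z
        · subst h; simp
        · simp [Pi.single_eq_of_ne h]
      rw [h2, map_smul, smul_eq_mul] at h1
      exact (mul_eq_zero.1 h1).resolve_right (hφz z (Finset.mem_univ z))
    have hle : (LinearMap.range (ev m)).map T ≤ (LinearMap.range (ev (n - m))).dualAnnihilator := by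
      rintro _ ⟨_, ⟨a, rfl⟩, rfl⟩
      rw [Submodule.mem_dualAnnihilator]
      rintro _ ⟨b, rfl⟩
      have hab : (a.1 * b.1).IsHomogeneous n := by
        have := MvPolynomial.IsHomogeneous.mul a.2 b.2
        rwa [Nat.add_sub_cancel' hm] at this
      refine (Submodule.mem_dualAnnihilator φ).1 hφ _ ⟨⟨a.1 * b.1, hab⟩, ?_⟩
      funext z
      simp [hev]
    have h1 := Submodule.finrank_mono hle
    rw [← LinearEquiv.finrank_eq (Submodule.equivMapOfInjective T hT (LinearMap.range (ev m)))] at h1
    have h2 := Subspace.finrank_add_finrank_dualAnnihilator_eq (LinearMap.range (ev (n - m)))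
    rw [LinearMap.finrank_range_of_inj hinj, Module.finrank_fintype_fun_eq_card, Fintype.card_coe] at h2
    change Module.finrank k ↥(LinearMap.range (ev m)) + _ ≤ _
    omega
  · left
    rw [injective_iff_map_eq_zero] at hinj
    push Not at hinj
    obtain ⟨q, hq, hq0⟩ := hinj
    exact ⟨q.1, q.2, fun h => hq0 (Subtype.ext h), fun z hz =>
      (hev _ q ⟨z, hz⟩).symm.trans (congrFun hq ⟨z, hz⟩)⟩

end Groth.Agent.S18040
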