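import Groth.Statements.S18041
import Mathlib.Data.Fin.Tuple.Sort
-- import your own Groth.Agent.* helpers here

set_option autoImplicit false
universe u
open AdjLin

namespace Groth.Agent.S18041

section

variable {k : Type u} [Field k]

/-- The linear polynomial of a functional. -/
private noncomputable def linPoly (l : (Fin 4 → k) →ₗ[k] k) : MvPolynomial (Fin 4) k :=
  ∑ i, MvPolynomial.C (l (Pi.single i 1)) * MvPolynomial.X i

private theorem eval_linPoly (l : (Fin 4 → k) →ₗ[k] k) (v : Fin 4 → k) :
    MvPolynomial.eval v (linPoly l) = l v := by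
  conv_rhs => rw [pi_eq_sum_univ' v]
  simp [linPoly, mul_comm]

private theorem isHomogeneous_linPoly (l : (Fin 4 → k) →ₗ[k] k) : (linPoly l).IsHomogeneous 1 :=
  MvPolynomial.IsHomogeneous.sum _ _ _ fun _ _ => MvPolynomial.isHomogeneous_C_mul_X _ _

private theorem exists_linForm {W : Submodule k (Fin 4 → k)} {v : Fin 4 → k} (hv : v ∉ W) :
    ∃ l : (Fin 4 → k) →ₗ[k] k, l v ≠ 0 ∧ ∀ w ∈ W, l w = 0 := by
  obtain ⟨l, h1, h2⟩ := Submodule.exists_dual_map_eq_bot_of_notMem hv inferInstance
  exact ⟨l, h1, fun w hw => (Submodule.eq_bot_iff _).1 h2 _ (Submodule.mem_map_of_mem hw)⟩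

/-- If the other points can be covered by `n` hyperplanes missing `z` then CB fails at `z`. -/
private theorem false_of_cover {Z : Finset (Projectivization k (Fin 4 → k))} {n : ℕ}
    (hCB : ∀ z ∈ Z, ∀ p : MvPolynomial (Fin 4) k, p.IsHomogeneous n →
      (∀ z' ∈ Z, z' ≠ z → MvPolynomial.eval z'.rep p = 0) → MvPolynomial.eval z.rep p = 0)
    {z : Projectivization k (Fin 4 → k)} (hz : z ∈ Z) (W : Fin n → Submodule k (Fin 4 → k))
    (hW : ∀ i, z.rep ∉ W i) (hcov : ∀ z' ∈ Z, z' ≠ z → ∃ i, z'.rep ∈ W i) : False := by
  choose l hl hl' using fun i => exists_linForm (hW i)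
  have hhom : (∏ i, linPoly (l i)).IsHomogeneous n := by
    simpa using MvPolynomial.IsHomogeneous.prod Finset.univ (fun i => linPoly (l i)) (fun _ => 1)
      fun i _ => isHomogeneous_linPoly (l i)
  have h0 := hCB z hz _ hhom fun z' hz' hne => by
    obtain ⟨i, hi⟩ := hcov z' hz' hne
    rw [map_prod]
    exact Finset.prod_eq_zero (Finset.mem_univ i) ((eval_linPoly _ _).trans (hl' i _ hi))
  rw [map_prod, Finset.prod_eq_zero_iff] at h0
  obtain ⟨i, -, hi⟩ := h0
  exact hl i ((eval_linPoly _ _).symm.trans hi)

private theorem rep_notMem_span {z z' : Projectivization k (Fin 4 → k)} (h : z' ≠ z) :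
    z.rep ∉ (k ∙ z'.rep) := by
  intro hmem
  obtain ⟨c, hc⟩ := Submodule.mem_span_singleton.1 hmem
  refine h (Eq.symm ?_)
  rw [← z.mk_rep, ← z'.mk_rep]
  exact (Projectivization.mk_eq_mk_iff' k _ _ _ _).2 ⟨c, hc⟩

private theorem mod_cases {n m m' : ℕ} (hn : 0 < n) (hm : m < 2 * n) (hm' : m' < 2 * n)
    (h : m % n = m' % n) : m = m' ∨ m + n = m' ∨ m' + n = m := by
  have h1 := Nat.div_add_mod m n
  have h2 := Nat.div_add_mod m' n
  have h3 : m / n < 2 := Nat.div_lt_of_lt_mul (by omega)
  have h4 : m' / n < 2 := Nat.div_lt_of_lt_mul (by omega)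
  have h5 : ∀ q, q < 2 → n * q = 0 ∨ n * q = n := fun q hq => by
    rcases q with _ | _ | q <;> simp_all
  rcases h5 _ h3 with e | e <;> rcases h5 _ h4 with e' | e' <;> omega

/-- Pair off a finite set so that paired elements have different classes. -/
private theorem exists_pairing {α β : Type*} [Fintype α] (c : α → β) {n : ℕ} (hn : 0 < n)
    (hcard : Fintype.card α ≤ 2 * n) (hc : ∀ a, Nat.card {b : α // c b = c a} ≤ n) :
    ∃ g : α → Fin n, (∀ a b d, g a = g b → g a = g d → a = b ∨ a = d ∨ b = d) ∧
      ∀ a b, a ≠ b → g a = g b → c a ≠ c b := by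
  classical
  let N := Fintype.card α
  let eα := Fintype.equivFin α
  let r : α → ℕ := fun a => (eα (@Classical.epsilon α ⟨a⟩ fun b => c b = c a)).val
  have hr : ∀ a b, r a = r b → c a = c b := by
    intro a b h
    have h1 : ∀ x : α, c (@Classical.epsilon α ⟨x⟩ fun y => c y = c x) = c x :=
      fun x => Classical.epsilon_spec (p := fun y => c y = c x) ⟨x, rfl⟩
    have h2 := eα.injective (Fin.ext h)
    exact (h1 a).symm.trans ((congrArg c h2).trans (h1 b))
  have hr' : ∀ a b, c a = c b → r a = r b := by
    intro a b h
    simp only [r, h]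
  let σ := Tuple.sort fun i : Fin N => r (eα.symm i)
  have hσ : Monotone fun i : Fin N => r (eα.symm (σ i)) :=
    Tuple.monotone_sort fun i : Fin N => r (eα.symm i)
  let pos : α → Fin N := fun a => σ.symm (eα a)
  have hpos : Function.Injective pos := σ.symm.injective.comp eα.injective
  have hrpos : ∀ a, r (eα.symm (σ (pos a))) = r a := fun a => by simp [pos]
  refine ⟨fun a => ⟨(pos a).val % n, Nat.mod_lt _ hn⟩, ?_, ?_⟩
  · intro a b d h1 h2
    simp only [Fin.mk.injEq] at h1 h2
    have : pos a = pos b ∨ pos a = pos d ∨ pos b = pos d := by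
      simp only [Fin.ext_iff]
      have h3 := (pos a).isLt.trans_le hcard
      have h4 := (pos b).isLt.trans_le hcard
      have h5 := (pos d).isLt.trans_le hcard
      rcases mod_cases hn h3 h4 h1 with e1 | e1 | e1 <;>
        rcases mod_cases hn h3 h5 h2 with e2 | e2 | e2 <;> omega
    exact this.imp (@hpos a b) (Or.imp (@hpos a d) (@hpos b d))
  · intro a b hne hg hab
    wlog hlt : (pos a).val ≤ (pos b).val generalizing a b
    · exact this b a (Ne.symm hne) hg.symm hab.symm (le_of_not_ge hlt)
    simp only [Fin.mk.injEq] at hg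
    have hlt' : (pos a).val < (pos b).val :=
      lt_of_le_of_ne hlt fun h => hne (hpos (Fin.ext h))
    have hge : (pos a).val + n ≤ (pos b).val := by
      rcases mod_cases hn ((pos a).isLt.trans_le hcard) ((pos b).isLt.trans_le hcard) hg with e | e | e <;>
        omega
    let e : Fin (n + 1) → {x : α // c x = c a} := fun i =>
      ⟨eα.symm (σ ⟨(pos a).val + i.val, by have := (pos b).isLt; have := i.isLt; omega⟩), by
        apply hr
        apply le_antisymm
        · rw [hr' a b hab, ← hrpos b]
          exact hσ (show _ ≤ pos b from by simp only [Fin.le_def]; have := i.isLt; omega)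
        · rw [← hrpos a]
          exact hσ (show pos a ≤ _ from by simp only [Fin.le_def]; omega)⟩
    have hinj : Function.Injective e := fun i j h => by
      have h' := congrArg Fin.val (σ.injective (eα.symm.injective (congrArg Subtype.val h)))
      exact Fin.ext (by simpa using h')
    have h6 := Nat.card_le_card_of_injective e hinj
    have h7 := hc a
    rw [Nat.card_fin] at h6
    omega

end

/-- Let k be an algebraically closed field of characteristic zero, n ≥ 1, and Z a nonempty finite set of
points of projective 3-space over k (points of the projectivization of k⁴, forms in four variables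
being evaluated at the chosen representative). Suppose Z has the Cayley–Bacharach property in degree
n: every form of degree n vanishing at all points of Z but one vanishes at that point as well. Then
Z has at least n + 2 points; and if Z has at most 2n + 1 points, all points of Z lie on one line
(their lines in k⁴ lie in a common 2-dimensional subspace). (The source states this for an arbitrary
zero-dimensional subscheme with length in place of cardinality; only the reduced case is stated
here. The lower bound needs Z nonempty: the empty set has the Cayley–Bacharach property vacuously.) -/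
theorem result (k : Type u) [Field k] [IsAlgClosed k] [CharZero k]
    (Z : Finset (Projectivization k (Fin 4 → k))) (hZ : Z.Nonempty) (n : ℕ) (hn : 1 ≤ n)
    (hCB : (∀ z ∈ Z, ∀ p : MvPolynomial (Fin 4) k, p.IsHomogeneous n →
      (∀ z' ∈ Z, z' ≠ z → MvPolynomial.eval z'.rep p = 0) → MvPolynomial.eval z.rep p = 0)) :
    n + 2 ≤ Z.card ∧
      (Z.card ≤ 2 * n + 1 → ∃ W : Submodule k (Fin 4 → k), Module.finrank k ↥W = 2 ∧ ∀ z ∈ Z, z.submodule ≤ W) := by
  classical
  refine ⟨?_, fun hcard => ?_⟩
  · by_contra hlt
    obtain ⟨z, hz⟩ := hZ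
    have hc : (Z.erase z).card ≤ n := by
      rw [Finset.card_erase_of_mem hz]; omega
    let pts := (Z.erase z).equivFin
    refine false_of_cover hCB hz
      (fun i => if h : i.val < (Z.erase z).card then k ∙ (pts.symm ⟨i.val, h⟩).1.rep else ⊥)
      (fun i => ?_) (fun z' hz' hne => ?_)
    · split_ifs with h
      · exact rep_notMem_span (Finset.ne_of_mem_erase (pts.symm ⟨i.val, h⟩).2)
      · exact fun h0 => z.rep_nonzero ((Submodule.mem_bot k).1 h0)
    · have hmem : z' ∈ Z.erase z := Finset.mem_erase.2 ⟨hne, hz'⟩
      refine ⟨⟨(pts ⟨z', hmem⟩).val, lt_of_lt_of_le (pts ⟨z', hmem⟩).isLt hc⟩, ?_⟩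
      rw [dif_pos (pts ⟨z', hmem⟩).isLt]
      simp [Submodule.mem_span_singleton_self]
  · have key : ∀ z ∈ Z, ∃ w ∈ Z, w ≠ z ∧
        n + 2 ≤ (Z.filter fun x => x.rep ∈ Submodule.span k {z.rep, w.rep}).card := by
      intro z hz
      by_contra hno
      push Not at hno
      let c : ↥(Z.erase z) → Submodule k (Fin 4 → k) := fun x => Submodule.span k {z.rep, x.1.rep}
      have hcl : ∀ a, Nat.card {b : ↥(Z.erase z) // c b = c a} ≤ n := by
        intro a
        have h1 := hno a.1 (Finset.mem_of_mem_erase a.2) (Finset.ne_of_mem_erase a.2)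
        let F := Z.filter fun x => x.rep ∈ Submodule.span k {z.rep, a.1.rep}
        have hzF : z ∈ F := Finset.mem_filter.2 ⟨hz, Submodule.subset_span (by simp)⟩
        have h2 : Nat.card {b : ↥(Z.erase z) // c b = c a} ≤ (F.erase z).card := by
          rw [← Nat.card_eq_finsetCard]
          refine Nat.card_le_card_of_injective (fun b => ⟨b.1.1, Finset.mem_erase.2
            ⟨Finset.ne_of_mem_erase b.1.2, Finset.mem_filter.2 ⟨Finset.mem_of_mem_erase b.1.2, ?_⟩⟩⟩) ?_
          · rw [show Submodule.span k {z.rep, a.1.rep} = c b.1 from b.2.symm]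
            exact Submodule.subset_span (by simp)
          · intro b b' h
            apply Subtype.ext
            apply Subtype.ext
            exact congrArg (fun x : ↥(F.erase z) => x.1) h
        rw [Finset.card_erase_of_mem hzF] at h2
        have h3 : F.card < n + 2 := h1
        omega
      have hA : Fintype.card ↥(Z.erase z) ≤ 2 * n := by
        rw [Fintype.card_coe, Finset.card_erase_of_mem hz]; omega
      obtain ⟨g, hg3, hgc⟩ := exists_pairing c hn hA hcl
      refine false_of_cover hCB hz
        (fun i => Submodule.span k ((fun x : ↥(Z.erase z) => x.1.rep) '' (g ⁻¹' {i})))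
        (fun i hmem => ?_) (fun z' hz' hne => ?_)
      · rcases Set.eq_empty_or_nonempty (g ⁻¹' {i}) with h | ⟨a, ha⟩
        · simp [h, z.rep_nonzero] at hmem
        by_cases hb : ∃ b ∈ g ⁻¹' {i}, b ≠ a
        · obtain ⟨b, hb, hba⟩ := hb
          have hgab : g a = g b := (ha : g a = i).trans (hb : g b = i).symm
          have hset : g ⁻¹' {i} = {a, b} := by
            ext d
            refine ⟨fun hd => ?_, ?_⟩
            · rcases hg3 a b d hgab ((ha : g a = i).trans (hd : g d = i).symm) with h | h | h
              · exact absurd h.symm hba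
              · exact Or.inl h.symm
              · exact Or.inr h.symm
            · rintro (rfl | rfl) <;> assumption
          rw [hset, Set.image_pair, Set.pair_comm, Submodule.mem_span_pair] at hmem
          obtain ⟨s, t, hst⟩ := hmem
          have hs : s ≠ 0 := by
            rintro rfl
            rw [zero_smul, zero_add] at hst
            exact rep_notMem_span (Finset.ne_of_mem_erase a.2)
              (Submodule.mem_span_singleton.2 ⟨t, hst⟩)
          have ht : t ≠ 0 := by
            rintro rfl
            rw [zero_smul, add_zero] at hst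
            exact rep_notMem_span (Finset.ne_of_mem_erase b.2)
              (Submodule.mem_span_singleton.2 ⟨s, hst⟩)
          refine hgc a b (Ne.symm hba) hgab ?_
          change Submodule.span k {z.rep, a.1.rep} = Submodule.span k {z.rep, b.1.rep}
          apply le_antisymm <;>
            (rw [Submodule.span_le, Set.insert_subset_iff, Set.singleton_subset_iff]
             refine ⟨Submodule.subset_span (by simp), ?_⟩
             rw [SetLike.mem_coe, Submodule.mem_span_pair])
          · refine ⟨t⁻¹, -(t⁻¹ * s), ?_⟩
            rw [← hst]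
            simp [smul_smul, ht]
          · refine ⟨s⁻¹, -(s⁻¹ * t), ?_⟩
            rw [← hst]
            simp [smul_smul, hs]
        · push Not at hb
          have hset : g ⁻¹' {i} = {a} := Set.eq_singleton_iff_unique_mem.2 ⟨ha, hb⟩
          rw [hset, Set.image_singleton] at hmem
          exact rep_notMem_span (Finset.ne_of_mem_erase a.2) hmem
      · exact ⟨g ⟨z', Finset.mem_erase.2 ⟨hne, hz'⟩⟩,
          Submodule.subset_span ⟨⟨z', Finset.mem_erase.2 ⟨hne, hz'⟩⟩, rfl, rfl⟩⟩
    have hline : ∀ z w : Projectivization k (Fin 4 → k), w ≠ z →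
        Module.finrank k ↥(Submodule.span k ({z.rep, w.rep} : Set (Fin 4 → k))) = 2 := by
      intro z w hne
      have hli : LinearIndependent k ![z.rep, w.rep] := by
        rw [LinearIndependent.pair_iff' z.rep_nonzero]
        intro a ha
        exact rep_notMem_span (Ne.symm hne) (Submodule.mem_span_singleton.2 ⟨a, ha⟩)
      have h := finrank_span_eq_card hli
      rwa [Matrix.range_cons_cons_empty, Fintype.card_fin] at h
    obtain ⟨z, hz⟩ := hZ
    obtain ⟨w, hw, hwz, hbig⟩ := key z hz
    refine ⟨_, hline z w hwz, fun x hx => ?_⟩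
    rw [Projectivization.submodule_eq, Submodule.span_singleton_le_iff_mem]
    obtain ⟨y, hy, hyx, hbig'⟩ := key x hx
    let L := Submodule.span k ({z.rep, w.rep} : Set (Fin 4 → k))
    let L' := Submodule.span k ({x.rep, y.rep} : Set (Fin 4 → k))
    by_contra hxL
    have hinter : ((Z.filter fun v => v.rep ∈ L) ∩ (Z.filter fun v => v.rep ∈ L')).card ≤ 1 := by
      rw [Finset.card_le_one]
      intro u hu v hv
      by_contra huv
      simp only [Finset.mem_inter, Finset.mem_filter] at hu hv
      have hle : Submodule.span k ({u.rep, v.rep} : Set (Fin 4 → k)) ≤ L :=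
        Submodule.span_le.2 (Set.insert_subset hu.1.2 (Set.singleton_subset_iff.2 hv.1.2))
      have hle' : Submodule.span k ({u.rep, v.rep} : Set (Fin 4 → k)) ≤ L' :=
        Submodule.span_le.2 (Set.insert_subset hu.2.2 (Set.singleton_subset_iff.2 hv.2.2))
      have e1 := Submodule.eq_of_le_of_finrank_eq hle
        ((hline u v (Ne.symm huv)).trans (hline z w hwz).symm)
      have e2 := Submodule.eq_of_le_of_finrank_eq hle'
        ((hline u v (Ne.symm huv)).trans (hline x y hyx).symm)
      apply hxL
      have : x.rep ∈ L' := Submodule.subset_span (by simp)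
      rwa [← e2, e1] at this
    have h1 := Finset.card_union_add_card_inter (Z.filter fun v => v.rep ∈ L) (Z.filter fun v => v.rep ∈ L')
    have h2 : ((Z.filter fun v => v.rep ∈ L) ∪ (Z.filter fun v => v.rep ∈ L')).card ≤ Z.card :=
      Finset.card_le_card (Finset.union_subset (Finset.filter_subset _ _) (Finset.filter_subset _ _))
    simp only [L, L'] at h1 h2 hinter
    omega

end Groth.Agent.S18041
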