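import Groth.Statements.S18042
import Groth.Agent.AdjLin93.CayleyBacharach

set_option autoImplicit false
universe u
open AdjLin

namespace Groth.Agent.S18042

/-- Let k be an algebraically closed field of characteristic zero, n ≥ 1, and Z a finite set of points
of projective 3-space over k (points of the projectivization of k⁴, forms in four variables being
evaluated at the chosen representative) with the Cayley–Bacharach property in degree n: every form
of degree n vanishing at all points of Z but one vanishes at that point as well. If Z has at most 3n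
+ 1 points, then either all points of Z lie in one plane (a common 3-dimensional subspace of k⁴), or
they lie on the union of two skew lines (two 2-dimensional subspaces of k⁴ meeting in zero), each
line carrying at least n + 1 points of Z, and Z has at least 2n + 3 points. (The source states this
for an arbitrary zero-dimensional subscheme, with a third alternative, containment in the
first-order thickening of a line; for the reduced subschemes treated here that alternative is a case
of coplanarity.) -/
theorem result (k : Type u) [Field k] [IsAlgClosed k] [CharZero k]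
    (Z : Finset (Projectivization k (Fin 4 → k))) (n : ℕ) (hn : 1 ≤ n)
    (hCB : (∀ z ∈ Z, ∀ p : MvPolynomial (Fin 4) k, p.IsHomogeneous n →
      (∀ z' ∈ Z, z' ≠ z → MvPolynomial.eval z'.rep p = 0) → MvPolynomial.eval z.rep p = 0))
    (hcard : Z.card ≤ 3 * n + 1) :
    (∃ W : Submodule k (Fin 4 → k), Module.finrank k ↥W = 3 ∧ ∀ z ∈ Z, z.submodule ≤ W) ∨
      (∃ W₁ W₂ : Submodule k (Fin 4 → k), Module.finrank k ↥W₁ = 2 ∧ Module.finrank k ↥W₂ = 2 ∧ W₁ ⊓ W₂ = ⊥ ∧
        (∀ z ∈ Z, z.submodule ≤ W₁ ∨ z.submodule ≤ W₂) ∧
        n + 1 ≤ Set.ncard {z : Projectivization k (Fin 4 → k) | z ∈ Z ∧ z.submodule ≤ W₁} ∧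
        n + 1 ≤ Set.ncard {z : Projectivization k (Fin 4 → k) | z ∈ Z ∧ z.submodule ≤ W₂} ∧
        2 * n + 3 ≤ Z.card) := by
  classical
  have hsub : ∀ (z : Projectivization k (Fin 4 → k)) (W : Submodule k (Fin 4 → k)),
      z.submodule ≤ W ↔ z.rep ∈ W := fun z W => by
    rw [Projectivization.submodule_eq, Submodule.span_singleton_le_iff_mem]
  rcases Groth.Agent.AdjLin93.classification rfl n hn hCB hcard with
    ⟨W, hW, hZ⟩ | ⟨L, M, hL, hM, hLM, hcov, hLc, hMc⟩
  · exact Or.inl ⟨W, hW, fun z hz => (hsub z W).2 (hZ z hz)⟩
  · refine Or.inr ⟨L, M, hL, hM, hLM, fun z hz => (hcov z hz).imp (hsub z L).2 (hsub z M).2, ?_, ?_, ?_⟩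
    · rw [show {z | z ∈ Z ∧ z.submodule ≤ L} = ((Groth.Agent.AdjLin93.on Z L :
          Finset (Projectivization k (Fin 4 → k))) : Set (Projectivization k (Fin 4 → k))) from by
        ext z; simp [Groth.Agent.AdjLin93.mem_on, hsub], Set.ncard_coe_finset]
      omega
    · rw [show {z | z ∈ Z ∧ z.submodule ≤ M} = ((Groth.Agent.AdjLin93.on Z M :
          Finset (Projectivization k (Fin 4 → k))) : Set (Projectivization k (Fin 4 → k))) from by
        ext z; simp [Groth.Agent.AdjLin93.mem_on, hsub], Set.ncard_coe_finset]
      omega
    · have := Groth.Agent.AdjLin93.card_on_sup_eq Z hLM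
      omega

end Groth.Agent.S18042
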