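import Groth.Statements.S18049
import Mathlib.Tactic.NormNum
import Mathlib.Tactic.Linarith
import Mathlib.Tactic.Ring
import Mathlib.Tactic.FieldSimp
import Mathlib.Tactic.Positivity
-- import your own Groth.Agent.* helpers here

set_option autoImplicit false
open STCI

namespace Groth.Agent.S18049

/-- For natural numbers 0 < k < N such that k does not divide N, ⌊N/k⌋ ≤ (N - k)/gcd(k, N); stated here
in the equivalent cleared form ⌊N/k⌋ · gcd(k, N) ≤ N - k. -/
theorem result (k N : ℕ) (hk : 0 < k) (hkN : k < N) (hndvd : ¬ k ∣ N) :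
    N / k * Nat.gcd k N ≤ N - k := by
  obtain ⟨g, hg, a, b, hab, rfl, rfl⟩ : ∃ g, g = Nat.gcd k N ∧ ∃ a b, 0 < g ∧ k = g * a ∧ N = g * b := by
    refine ⟨_, rfl, k / Nat.gcd k N, N / Nat.gcd k N, Nat.gcd_pos_of_pos_left N hk, ?_, ?_⟩
    · exact (Nat.mul_div_cancel' (Nat.gcd_dvd_left k N)).symm
    · exact (Nat.mul_div_cancel' (Nat.gcd_dvd_right k N)).symm
  rw [← hg, Nat.mul_div_mul_left _ _ hab, ← Nat.mul_sub, mul_comm]
  refine Nat.mul_le_mul_left g ?_
  have ha : 0 < a := Nat.pos_of_mul_pos_left hk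
  have hlt : a < b := Nat.lt_of_mul_lt_mul_left hkN
  have hr : b % a ≠ 0 := fun h => hndvd (Nat.mul_dvd_mul_left g (Nat.dvd_of_mod_eq_zero h))
  have hq : 0 < b / a := Nat.div_pos hlt.le ha
  have h1 := Nat.div_add_mod b a
  obtain ⟨q, hq'⟩ : ∃ q, b / a = q + 1 := ⟨b / a - 1, by omega⟩
  rw [hq'] at h1 ⊢
  have : q ≤ a * q := Nat.le_mul_of_pos_left q ha
  rw [Nat.mul_succ] at h1
  omega

end Groth.Agent.S18049
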