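import Groth.Statements.S1805
import Groth.Agent.LocCoh.HDIBaseChange

set_option autoImplicit false
universe u
open CategoryTheory
attribute [local instance] HasDerivedCategory.standard
open LocCoh

namespace Groth.Agent.S1805

/-- Suppose A → B is a flat ring map between Noetherian rings, I is an ideal of A, and K is an object of
D(A); assume the derived base change functor D(A) → D(B) exists. Then for every i the B-module
H^i_{IB} of the base change of K (direct limit of Hom(B/I^nB, (K ⊗^L_A B)[i])) is isomorphic to B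
⊗_A H^i_I(K). -/
theorem result (A B : Type u) [CommRing A] [CommRing B] [Algebra A B] [IsNoetherianRing A] [IsNoetherianRing B] [Module.Flat A B] [DRing.HasLBaseChange (algebraMap A B)] (I : Ideal A) (K : Dual.D A) (i : ℤ) : Nonempty (Dual2.HDI B (I.map (algebraMap A B)) ((DRing.LBaseChange (algebraMap A B)).obj K) i ≅ (ModuleCat.extendScalars (algebraMap A B)).obj (Dual2.HDI A I K i)) := by
  obtain ⟨e⟩ := Groth.Agent.LocCoh.HDIBaseChange.nonempty_baseChange (B := B) I ((shiftFunctor (Dual.D A) i).obj K)
  obtain ⟨P, hP, -, ⟨p⟩⟩ := Groth.Agent.DRing.DBasic.exists_kproj_iso K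
  let F := Groth.Agent.DRing.LTensor.extCx (algebraMap A B)
  let P' := (shiftFunctor (DRing.Cx A) i).obj P
  have : P'.IsKProjective := inferInstance
  let p' : DRing.toD P' ≅ (shiftFunctor (Dual.D A) i).obj K :=
    ((DerivedCategory.Q (C := ModuleCat.{u} A)).commShiftIso i).app P ≪≫ (shiftFunctor (Dual.D A) i).mapIso p
  let c : (shiftFunctor (Dual.D B) i).obj ((DRing.LBaseChange (algebraMap A B)).obj K) ≅
      (DRing.LBaseChange (algebraMap A B)).obj ((shiftFunctor (Dual.D A) i).obj K) :=
    (shiftFunctor (Dual.D B) i).mapIso (Groth.Agent.DRing.Perfect.baseChangeIsoOfRep (algebraMap A B)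
      (Groth.Agent.DRing.KFlat.isKFlat_of_isKProjective P) p).symm ≪≫
    (((DerivedCategory.Q (C := ModuleCat.{u} B)).commShiftIso i).app (F.obj P)).symm ≪≫
    DerivedCategory.Q.mapIso ((F.commShiftIso i).app P).symm ≪≫
    Groth.Agent.DRing.Perfect.baseChangeIsoOfRep (algebraMap A B)
      (Groth.Agent.DRing.KFlat.isKFlat_of_isKProjective P') p'
  exact ⟨(Groth.Agent.DualCx.TorsColim.congr _ c).toModuleIso ≪≫ e⟩

end Groth.Agent.S1805
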