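import Groth.Statements.S18050
import Groth.Agent.S18049
import Mathlib.Tactic.NormNum
import Mathlib.Tactic.Linarith
import Mathlib.Tactic.Ring
import Mathlib.Tactic.FieldSimp
import Mathlib.Tactic.Positivity
-- import your own Groth.Agent.* helpers here

set_option autoImplicit false
open STCI

namespace Groth.Agent.S18050

open W4c5stcicurvesp3 in
/-- Let k ≤ N be positive integers, let t be the least positive integer with rem_t(N, k) = 0, where
rem_0 = k, rem_1 = N mod k and rem_i is the remainder of rem_{i-2} by rem_{i-1} (iterated Euclidean
remainders), and let d_i be the corresponding iterated quotients (d_1 = ⌊N/k⌋, d_i =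
⌊rem_{i-2}/rem_{i-1}⌋). Then d_1 + ⋯ + d_t ≤ N/gcd(k, N); stated in the cleared form (d_1 + ⋯ + d_t)
· gcd(k, N) ≤ N. -/
theorem result (k N t : ℕ) (hk : 0 < k) (hkN : k ≤ N) (ht : 0 < t)
    (hzero : irem N k t = 0) (hmin : ∀ i, 0 < i → i < t → irem N k i ≠ 0) :
    (∑ i ∈ Finset.Icc 1 t, idiv N k i) * Nat.gcd k N ≤ N := by
  induction t generalizing k N with
  | zero => omega
  | succ t ih =>
    by_cases h1 : N % k = 0
    · have ht' : t = 0 := by
        by_contra h
        exact hmin 1 one_pos (by omega) (by simpa [irem] using h1)
      subst ht'
      simp only [zero_add, Finset.Icc_self, Finset.sum_singleton, idiv]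
      calc N / k * Nat.gcd k N ≤ N / k * k :=
            Nat.mul_le_mul_left _ (Nat.le_of_dvd hk (Nat.gcd_dvd_left k N))
        _ ≤ N := Nat.div_mul_le_self N k
    · have hrem : ∀ i, irem N k (i + 1) = irem k (N % k) i := by
        intro i
        induction i using Nat.twoStepInduction with
        | zero => simp [irem]
        | one => simp [irem, h1]
        | more i e1 e2 =>
          show (if irem N k (i + 2) = 0 then 0 else irem N k (i + 1) % irem N k (i + 2)) = _
          rw [e1, e2]
          rfl
      have hdiv : ∀ i, idiv N k (i + 2) = idiv k (N % k) (i + 1) := by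
        intro i
        cases i with
        | zero => simp [irem, idiv, h1]
        | succ i =>
          show (if irem N k (i + 2) = 0 then 0 else irem N k (i + 1) / irem N k (i + 2)) = _
          rw [hrem (i + 1), hrem i]
          rfl
      have ht0 : 0 < t := by
        by_contra h
        have : t = 0 := by omega
        subst this
        exact h1 (by simpa [irem] using hzero)
      have hlt : N % k < k := Nat.mod_lt _ hk
      have hz : irem k (N % k) t = 0 := by rw [← hrem t]; exact hzero
      have hi := ih (N % k) k (Nat.pos_of_ne_zero h1) hlt.le ht0 hz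
        (fun i hi0 hit => by rw [← hrem i]; exact hmin (i + 1) (by omega) (by omega))
      rw [← Nat.gcd_rec k N] at hi
      have hfirst : N / k * Nat.gcd k N ≤ N - k := by
        refine Groth.Agent.S18049.result k N hk (lt_of_le_of_ne hkN ?_) fun h => h1 (Nat.dvd_iff_mod_eq_zero.1 h)
        rintro rfl
        exact h1 (Nat.mod_self _)
      have hsum : ∀ m, ∑ i ∈ Finset.Icc 1 (m + 1), idiv N k i =
          N / k + ∑ i ∈ Finset.Icc 1 m, idiv k (N % k) i := by
        intro m
        induction m with
        | zero => simp [idiv]
        | succ m e =>
          rw [Finset.sum_Icc_succ_top (b := m + 1) (by omega), e, hdiv,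
            Finset.sum_Icc_succ_top (b := m) (by omega), add_assoc]
      rw [hsum t, add_mul]
      omega

end Groth.Agent.S18050
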