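import Groth.Statements.S18051
import Mathlib.Tactic.NormNum
import Mathlib.Tactic.Linarith
import Mathlib.Tactic.Ring
import Mathlib.Tactic.FieldSimp
import Mathlib.Tactic.Positivity
-- import your own Groth.Agent.* helpers here

set_option autoImplicit false
open STCI

namespace Groth.Agent.S18051

open W4c5stcicurvesp3 in
/-- Let k ≤ N/2 be positive integers and let r_i = rem_i(N, k), d_i = div_i(N, k) be the iterated
Euclidean remainders and quotients of (N, k) (r_0 = k, r_1 = N mod k, r_2 = r_0 mod r_1, d_1 =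
⌊N/k⌋, d_2 = ⌊r_0/r_1⌋). If the least positive t with r_t = 0 satisfies t ≥ 3, i.e. r_1 ≠ 0 and r_2
≠ 0, then (r_0 - r_1)/d_1 + (r_1 - r_2)/(d_1 + d_2) + r_2/(d_1 + d_2 + 1) ≤ k²/N (in ℚ). -/
theorem result (k N : ℕ) (hk : 0 < k) (hkN : 2 * k ≤ N)
    (h1 : irem N k 1 ≠ 0) (h2 : irem N k 2 ≠ 0) :
    ((irem N k 0 : ℚ) - irem N k 1) / (idiv N k 1)
      + ((irem N k 1 : ℚ) - irem N k 2) / ((idiv N k 1 : ℚ) + idiv N k 2)
      + (irem N k 2 : ℚ) / ((idiv N k 1 : ℚ) + idiv N k 2 + 1)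
      ≤ (k : ℚ) ^ 2 / N := by
  obtain ⟨a, ha_def⟩ : ∃ a, idiv N k 1 = a := ⟨_, rfl⟩
  obtain ⟨b, hb_def⟩ : ∃ b, idiv N k 2 = b := ⟨_, rfl⟩
  obtain ⟨r, hr_def⟩ : ∃ r, irem N k 1 = r := ⟨_, rfl⟩
  obtain ⟨s, hs_def⟩ : ∃ s, irem N k 2 = s := ⟨_, rfl⟩
  rw [ha_def, hb_def, hr_def, hs_def, show irem N k 0 = k from rfl]
  rw [hr_def] at h1
  rw [hs_def] at h2
  have eN : a * k + r = N := by
    rw [← ha_def, ← hr_def, mul_comm]
    exact Nat.div_add_mod N k
  have eb : k / r = b := by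
    rw [← hb_def]
    show _ = (if irem N k 1 = 0 then 0 else k / irem N k 1)
    rw [hr_def, if_neg h1]
  have es : k % r = s := by
    rw [← hs_def]
    show _ = (if irem N k 1 = 0 then 0 else k % irem N k 1)
    rw [hr_def, if_neg h1]
  have ek : b * r + s = k := by rw [← eb, ← es, mul_comm]; exact Nat.div_add_mod k r
  have hsr : s < r := es ▸ Nat.mod_lt _ (Nat.pos_of_ne_zero h1)
  have hrk : r < k := by
    rw [← hr_def]
    exact Nat.mod_lt _ hk
  have ha : 2 ≤ a := by rw [← ha_def]; exact (Nat.le_div_iff_mul_le hk).2 hkN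
  have hb : 1 ≤ b := by rw [← eb]; exact Nat.div_pos hrk.le (Nat.pos_of_ne_zero h1)
  have qa : (2 : ℚ) ≤ a := by exact_mod_cast ha
  have qb : (1 : ℚ) ≤ b := by exact_mod_cast hb
  have qs : (s : ℚ) ≤ r := by exact_mod_cast hsr.le
  have qr : (0 : ℚ) < r := by exact_mod_cast Nat.pos_of_ne_zero h1
  have qk : (b : ℚ) * r + s = k := by exact_mod_cast ek
  have qN : (a : ℚ) * k + r = N := by exact_mod_cast eN
  rw [← qN, ← qk]
  set A : ℚ := (a : ℚ)
  set B : ℚ := (b : ℚ)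
  set R : ℚ := (r : ℚ)
  set S : ℚ := (s : ℚ)
  have hS : 0 ≤ S := Nat.cast_nonneg s
  have hD1 : A ^ 2 ≤ (B + 1) * B * (A - 1) * (A + B) := by
    have e1 : (2 : ℚ) ≤ (B + 1) * B := by nlinarith
    have e2 : (A - 1) * (A + 1) ≤ (A - 1) * (A + B) := by nlinarith
    have e3 : 2 * ((A - 1) * (A + 1)) ≤ (B + 1) * B * ((A - 1) * (A + B)) :=
      mul_le_mul e1 e2 (by nlinarith) (by linarith)
    nlinarith
  have hD0 : 0 ≤ B * (A - 1) * (B - 1) * (A + B + 1) :=
    mul_nonneg (mul_nonneg (mul_nonneg (by linarith) (by linarith)) (by linarith)) (by linarith)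
  have key : A * (A * (B * R + S) + R) * (R * (A + B + 1) - S) ≤
      R * ((A - 1) * (B * R + S) + R) * ((A + B) * (A + B + 1)) := by
    nlinarith [mul_nonneg (mul_nonneg hD0 qr.le) (sub_nonneg.2 qs),
      mul_nonneg (mul_nonneg (sub_nonneg.2 hD1) qr.le) hS, mul_nonneg (sq_nonneg A) (mul_self_nonneg S)]
  have hA : (0 : ℚ) < A := by linarith
  have hNp : (0 : ℚ) < A * (B * R + S) + R := by nlinarith
  have hAB : (0 : ℚ) < A + B := by linarith
  have e : (B * R + S) ^ 2 / (A * (B * R + S) + R) -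
      ((B * R + S - R) / A + (R - S) / (A + B) + S / (A + B + 1)) =
      (R * ((A - 1) * (B * R + S) + R) * ((A + B) * (A + B + 1)) -
        A * (A * (B * R + S) + R) * (R * (A + B + 1) - S)) /
      (A * (A * (B * R + S) + R) * ((A + B) * (A + B + 1))) := by
    field_simp
    ring
  have : 0 ≤ (B * R + S) ^ 2 / (A * (B * R + S) + R) -
      ((B * R + S - R) / A + (R - S) / (A + B) + S / (A + B + 1)) := by
    rw [e]
    exact div_nonneg (sub_nonneg.2 key) (by positivity)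
  linarith

end Groth.Agent.S18051
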