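import Groth.Statements.S18052
import Mathlib.Tactic

set_option autoImplicit false
open STCI

namespace Groth.Agent.S18052

open W4c5stcicurvesp3 in
/-- Let k ≤ N/2 be positive integers, let r_i = rem_i(N, k) and d_i = div_i(N, k) be the iterated
Euclidean remainders and quotients of (N, k) (r_0 = k, r_1 = N mod k, …; d_1 = ⌊N/k⌋, d_i =
⌊r_{i-2}/r_{i-1}⌋), and let t be the least positive integer with r_t = 0. Then the sum over i = 0,
…, t - 1 of (r_i - r_{i+1})/(d_1 + ⋯ + d_{i+1}) is at most k²/N (in ℚ). -/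
theorem result (k N t : ℕ) (hk : 0 < k) (hkN : 2 * k ≤ N) (ht : 0 < t)
    (hzero : irem N k t = 0) (hmin : ∀ i, 0 < i → i < t → irem N k i ≠ 0) :
    ∑ i ∈ Finset.range t, ((irem N k i : ℚ) - irem N k (i + 1)) / (∑ j ∈ Finset.Icc 1 (i + 1), (idiv N k j : ℚ))
      ≤ (k : ℚ) ^ 2 / N := by
  set prev : ℕ → ℕ := fun i => if i = 0 then N else irem N k (i - 1) with hprev
  have hpos : ∀ i, i < t → 0 < irem N k i := fun i hi => by
    rcases Nat.eq_zero_or_pos i with rfl | h
    · simpa [irem] using hk
    · exact Nat.pos_of_ne_zero (hmin i h hi)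
  have hstep : ∀ i, i < t → prev i = idiv N k (i + 1) * irem N k i + irem N k (i + 1) ∧
      irem N k (i + 1) < irem N k i ∧ 1 ≤ (∑ j ∈ Finset.Icc 1 (i + 1), idiv N k j) := by
    intro i hi
    have hp := hpos i hi
    have hd1 : 1 ≤ (∑ j ∈ Finset.Icc 1 (i + 1), idiv N k j) := by
      have h1 : 1 ≤ idiv N k 1 := by
        simp only [idiv]; exact (Nat.one_le_div_iff hk).mpr (by omega)
      exact h1.trans (Finset.single_le_sum (fun j _ => Nat.zero_le _) (Finset.mem_Icc.mpr ⟨le_rfl, by omega⟩))
    rcases i with _ | i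
    · refine ⟨?_, ?_, hd1⟩
      · simp [hprev, irem, idiv, Nat.div_add_mod']
      · simp [irem]; exact Nat.mod_lt _ hk
    · refine ⟨?_, ?_, hd1⟩
      · simp only [hprev, if_neg (Nat.succ_ne_zero i), Nat.add_sub_cancel]
        conv_rhs => rw [show idiv N k (i + 1 + 1) = irem N k i / irem N k (i + 1) by
          rw [idiv, if_neg hp.ne'], show irem N k (i + 1 + 1) = irem N k i % irem N k (i + 1) by
          rw [irem, if_neg hp.ne']]
        exact (Nat.div_add_mod' _ _).symm
      · rw [show irem N k (i + 1 + 1) = irem N k i % irem N k (i + 1) by rw [irem, if_neg hp.ne']]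
        exact Nat.mod_lt _ hp
  have key : ∀ m i, i + m = t → ∑ j ∈ Finset.Ico i t,
      ((irem N k j : ℚ) - irem N k (j + 1)) / (∑ l ∈ Finset.Icc 1 (j + 1), (idiv N k l : ℚ)) ≤
      (irem N k i : ℚ) ^ 2 / ((prev i : ℚ) + (∑ l ∈ Finset.Icc 1 i, (idiv N k l : ℚ)) * irem N k i) := by
    intro m
    induction m with
    | zero =>
      intro i hi
      obtain rfl : i = t := by omega
      rw [Finset.Ico_self, Finset.sum_empty, hzero]
      simp
    | succ m ih =>
      intro i hi
      obtain ⟨hdiv, hlt, hD⟩ := hstep i (by omega)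
      rw [Finset.sum_eq_sum_Ico_succ_bot (by omega : i < t)]
      have hrest := ih (i + 1) (by omega)
      have hp1 : (prev (i + 1) : ℚ) = irem N k i := by simp [hprev]
      rw [hp1] at hrest
      set a : ℚ := (irem N k i : ℚ) with ha
      set b : ℚ := (irem N k (i + 1) : ℚ) with hb
      set E : ℚ := ∑ l ∈ Finset.Icc 1 (i + 1), (idiv N k l : ℚ) with hE
      have e : (prev i : ℚ) + (∑ l ∈ Finset.Icc 1 i, (idiv N k l : ℚ)) * a = E * a + b := by
        rw [hE, Finset.sum_Icc_succ_top (by omega : 1 ≤ i + 1), hdiv]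
        push_cast
        rw [← ha, ← hb]; ring
      rw [e]
      refine (add_le_add le_rfl hrest).trans ?_
      have hE1 : 1 ≤ E := by rw [hE]; exact_mod_cast hD
      have ha0 : 0 < a := by rw [ha]; exact_mod_cast hpos i (by omega)
      have hb0 : 0 ≤ b := by rw [hb]; exact Nat.cast_nonneg _
      have hba : b ≤ a := by rw [ha, hb]; exact_mod_cast hlt.le
      have hden : 0 < E * a + b := by nlinarith
      have hden2 : 0 < a + E * b := by nlinarith
      rw [div_add_div _ _ (by linarith : E ≠ 0) hden2.ne', div_le_div_iff₀ (by positivity) hden]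
      nlinarith [mul_nonneg (mul_nonneg hb0 (sub_nonneg.mpr hE1)) (mul_nonneg ha0.le (sub_nonneg.mpr hba))]
  have := key t 0 (by omega)
  rw [← Finset.range_eq_Ico] at this
  simpa [hprev, irem] using this

end Groth.Agent.S18052
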