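import Groth.Statements.S18053
import Mathlib.Tactic
import Mathlib.Topology.Algebra.InfiniteSum.Basic

set_option autoImplicit false
open STCI

namespace Groth.Agent.S18053

/-- Let (p_k)_{k ≥ 1} be a sequence of nonnegative integers and n a nonnegative integer such that (i)
p_1 ≤ 9 - (2/5)n, (ii) p_1 ≥ p_2 ≥ p_3 ≥ ⋯, (iii) Σ_k p_k ≤ 19 - n, and (iv) n/4 + Σ_{k ≥ 1}
p_k/(k(k+1)) ≥ 6. Then n = 0 and (p_k) is one of (9, 8, 2), (9, 9), (9, 9, 1) (followed by zeros).
Here the sequence is indexed from 0 (so p 0 is p_1 and the weight of p k is 1/((k+1)(k+2))), (iii)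
is stated for every partial sum, and the series in (iv) is the real sum Σ' over all k. -/
theorem result (p : ℕ → ℕ) (n : ℕ)
    (h1 : (p 0 : ℝ) ≤ 9 - (2 / 5 : ℝ) * n) (h2 : Antitone p)
    (h3 : ∀ m : ℕ, ((∑ k ∈ Finset.range m, p k : ℕ) : ℝ) ≤ 19 - (n : ℝ))
    (h4 : (6 : ℝ) ≤ (n : ℝ) / 4 + ∑' k : ℕ, (p k : ℝ) / (((k : ℝ) + 1) * ((k : ℝ) + 2))) :
    n = 0 ∧ (p = (fun k => if k = 0 then 9 else if k = 1 then 8 else if k = 2 then 2 else 0)
      ∨ p = (fun k => if k = 0 then 9 else if k = 1 then 9 else 0)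
      ∨ p = (fun k => if k = 0 then 9 else if k = 1 then 9 else if k = 2 then 1 else 0)) := by
  have hz : ∀ k, 19 ≤ k → p k = 0 := fun k hk => by
    by_contra hne
    have h := h3 (k + 1)
    have hle : k + 1 ≤ ∑ i ∈ Finset.range (k + 1), p i := by
      have := Finset.card_nsmul_le_sum (Finset.range (k + 1)) p 1 fun i hi =>
        (Nat.one_le_iff_ne_zero.mpr hne).trans (h2 (Nat.lt_succ_iff.mp (Finset.mem_range.mp hi)))
      simpa using this
    have h' : (19 : ℝ) < ((∑ i ∈ Finset.range (k + 1), p i : ℕ) : ℝ) := by exact_mod_cast (by omega : 19 < _)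
    have : (0 : ℝ) ≤ n := Nat.cast_nonneg n
    linarith
  rw [tsum_eq_sum (s := Finset.range 19) (fun k hk => by
    rw [hz k (by simpa using hk)]; simp), Finset.range_eq_Ico,
    ← Finset.sum_Ico_consecutive _ (by omega : 0 ≤ 3) (by omega : 3 ≤ 19)] at h4
  have hR : ∑ k ∈ Finset.Ico 3 19, (p k : ℝ) / (((k : ℝ) + 1) * ((k : ℝ) + 2)) ≤
      ((∑ k ∈ Finset.Ico 3 19, p k : ℕ) : ℝ) / 20 := by
    rw [Nat.cast_sum, Finset.sum_div]
    refine Finset.sum_le_sum fun k hk => ?_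
    have : (3 : ℝ) ≤ k := by exact_mod_cast (Finset.mem_Ico.mp hk).1
    gcongr
    nlinarith
  have h19 := h3 19
  rw [Finset.range_eq_Ico, ← Finset.sum_Ico_consecutive _ (by omega : 0 ≤ 3) (by omega : 3 ≤ 19)] at h19
  set R := ∑ k ∈ Finset.Ico 3 19, p k with hRdef
  simp only [Finset.sum_Ico_succ_top (by omega : 0 ≤ 2), Finset.sum_Ico_succ_top (by omega : 0 ≤ 1),
    Finset.sum_Ico_succ_top (by omega : 0 ≤ 0), Finset.Ico_self, Finset.sum_empty] at h4 h19
  push_cast at h4 h19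
  have e1 : 360 ≤ 15 * n + 30 * p 0 + 10 * p 1 + 5 * p 2 + 3 * R := by
    have h : (360 : ℝ) ≤ 15 * n + 30 * p 0 + 10 * p 1 + 5 * p 2 + 3 * R := by linarith
    exact_mod_cast h
  have e2 : p 0 + p 1 + p 2 + R + n ≤ 19 := by
    have h : (p 0 : ℝ) + p 1 + p 2 + R + n ≤ 19 := by linarith
    exact_mod_cast h
  have e3 : 5 * p 0 + 2 * n ≤ 45 := by
    have h : (5 : ℝ) * p 0 + 2 * n ≤ 45 := by linarith
    exact_mod_cast h
  have h10 : p 1 ≤ p 0 := h2 (by omega)
  have h21 : p 2 ≤ p 1 := h2 (by omega)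
  have htail : ∀ k, 3 ≤ k → p k ≤ R ∧ p k ≤ p 2 := fun k hk => ⟨by
      rcases Nat.lt_or_ge k 19 with h | h
      · exact Finset.single_le_sum (fun i _ => Nat.zero_le _) (Finset.mem_Ico.mpr ⟨hk, h⟩)
      · rw [hz k h]; omega, h2 (by omega)⟩
  have hRp : p 2 = 0 → R = 0 := fun h => Finset.sum_eq_zero fun k hk => by
    have := h2 (show 2 ≤ k by have := (Finset.mem_Ico.mp hk).1; omega); omega
  have hn0 : n = 0 := by
    have hn22 : n ≤ 22 := by omega
    interval_cases n <;> omega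
  refine ⟨hn0, ?_⟩
  have hext : ∀ q : ℕ → ℕ, q 0 = p 0 → q 1 = p 1 → q 2 = p 2 → (∀ k, 3 ≤ k → q k = p k) → p = q :=
    fun q a b c d => funext fun k => by
      rcases k with _ | _ | _ | k
      · exact a.symm
      · exact b.symm
      · exact c.symm
      · exact (d _ (by omega)).symm
  obtain h | h | h : (p 1 = 8) ∨ (p 1 = 9 ∧ p 2 = 0) ∨ (p 1 = 9 ∧ p 2 = 1) := by omega
  · left; refine hext _ ?_ ?_ ?_ (fun k hk => ?_)
    · simp; omega
    · simp; omega
    · simp; omega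
    · have := htail k hk; simp [show k ≠ 0 by omega, show k ≠ 1 by omega, show k ≠ 2 by omega]; omega
  · right; left; refine hext _ ?_ ?_ ?_ (fun k hk => ?_)
    · simp; omega
    · simp; omega
    · simp; omega
    · have := htail k hk; simp [show k ≠ 0 by omega, show k ≠ 1 by omega]; omega
  · right; right; refine hext _ ?_ ?_ ?_ (fun k hk => ?_)
    · simp; omega
    · simp; omega
    · simp; omega
    · have := htail k hk; simp [show k ≠ 0 by omega, show k ≠ 1 by omega, show k ≠ 2 by omega]; omega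

end Groth.Agent.S18053
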