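import Groth.Statements.S18054
import Mathlib.Tactic.NormNum
import Mathlib.Tactic.Linarith
import Mathlib.Tactic.Ring
import Mathlib.Tactic.FieldSimp
import Mathlib.Tactic.Positivity
-- import your own Groth.Agent.* helpers here

set_option autoImplicit false
open STCI

namespace Groth.Agent.S18054

/-- Let s, t, d, g be integers with t ≥ s ≥ 4, d ≥ 1, g ≥ 0 and d dividing st; put n = st/d and assume n
≥ 2; put r = d[n(s - 4) + t] + (2 - 2g)n and assume r ≤ (s/3)(2s² - 6s + 7) - 1. Then d ≤ g + 3.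
(The bound is written cleared of the denominator 3; s(2s² - 6s + 7) is always divisible by 3, so
this is the same condition.) -/
theorem result (s t d g n : ℤ) (hs : 4 ≤ s) (hst : s ≤ t) (hd : 1 ≤ d) (hg : 0 ≤ g)
    (hn : s * t = d * n) (hn2 : 2 ≤ n)
    (hr : 3 * (d * (n * (s - 4) + t) + (2 - 2 * g) * n) ≤ s * (2 * s ^ 2 - 6 * s + 7) - 3) :
    d ≤ g + 3 := by
  by_contra hcon
  have hg4 : g + 4 ≤ d := by omega
  have h1 : (10 - 2 * d) * n ≤ (2 - 2 * g) * n :=
    mul_le_mul_of_nonneg_right (by omega) (by omega)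
  have hmain : 3 * (s * t * (s - 6) + d * t + 10 * n) ≤ s * (2 * s ^ 2 - 6 * s + 7) - 3 := by
    have e1 : d * (n * (s - 4)) = s * t * (s - 4) := by rw [← mul_assoc, hn]
    nlinarith
  by_cases h4 : s = 4
  · subst h4
    have h2 : 4 * (t - n) ^ 2 + 6 * n ^ 2 ≤ 19 * n := by nlinarith
    have h3 : n ≤ 3 := by nlinarith [sq_nonneg (t - n)]
    have h5 : (4 - n) * (4 - n) ≤ (t - n) ^ 2 := by nlinarith
    rcases (by omega : n = 2 ∨ n = 3) with rfl | rfl <;> nlinarith
  have ht0 : 0 ≤ t := by omega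
  have hamgm : ∀ c : ℤ, 0 ≤ c → c ^ 2 ≤ 40 * s → c * t ≤ d * t + 10 * n := by
    intro c hc0 hc
    have hsq : (c * t) ^ 2 ≤ (d * t + 10 * n) ^ 2 := by
      have : c ^ 2 * t ^ 2 ≤ 40 * s * t ^ 2 := mul_le_mul_of_nonneg_right hc (sq_nonneg t)
      nlinarith [sq_nonneg (d * t - 10 * n)]
    have hpos : 0 ≤ d * t + 10 * n := by nlinarith
    exact (pow_le_pow_iff_left₀ (mul_nonneg hc0 ht0) hpos two_ne_zero).1 hsq
  rcases (by omega : s = 5 ∨ s = 6 ∨ s = 7 ∨ 8 ≤ s) with rfl | rfl | rfl | h8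
  · nlinarith [hamgm 14 (by norm_num) (by norm_num)]
  · nlinarith [hamgm 15 (by norm_num) (by norm_num)]
  · nlinarith [hamgm 16 (by norm_num) (by norm_num)]
  · have h17 := hamgm 17 (by norm_num) (by nlinarith)
    have hst6 : s * (s - 6) * s ≤ s * (s - 6) * t :=
      mul_le_mul_of_nonneg_left hst (mul_nonneg (by omega) (by omega))
    have : 0 ≤ s * ((s - 6) ^ 2) := mul_nonneg (by omega) (sq_nonneg _)
    nlinarith

end Groth.Agent.S18054
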