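import Groth.Statements.S18055
import Mathlib.Tactic
-- import your own Groth.Agent.* helpers here

set_option autoImplicit false
open STCI

namespace Groth.Agent.S18055

/-- Let d ≥ 1, g ≥ 0 and 1 ≤ s ≤ t be integers with d dividing st, put n = st/d and r = d[n(s - 4) + t]
+ (2 - 2g)n, and assume n ≥ 2, r > 0 and (n - 1) divides r. Then s < 2d² and t < 2d⁴. This is the
statement about the degree data (d, g the degree and genus of the curve, s ≤ t the degrees of the
two surfaces) to which the published proof reduces the degree bound: there the divisibility and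
positivity express that r/(n - 1), the common value of the type numbers of the pair, is a positive
integer; the geometric hypotheses themselves are not part of this row. -/
theorem result (d g s t n : ℤ) (hd : 1 ≤ d) (hg : 0 ≤ g) (hs : 1 ≤ s) (hst : s ≤ t)
    (hn : s * t = d * n) (hn2 : 2 ≤ n)
    (hpos : 0 < d * (n * (s - 4) + t) + (2 - 2 * g) * n)
    (hdvd : (n - 1) ∣ d * (n * (s - 4) + t) + (2 - 2 * g) * n) :
    s < 2 * d ^ 2 ∧ t < 2 * d ^ 4 := by
  obtain ⟨k, hk⟩ : (n - 1) ∣ d * (s - 4) + 2 - 2 * g + d * t := by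
    obtain ⟨m, hm⟩ := hdvd
    exact ⟨m - (d * (s - 4) + 2 - 2 * g), by linear_combination hm⟩
  set B := d * (s - 4) + 2 - 2 * g with hB
  have hr : 0 < n * B + d * t := by rw [hB]; linear_combination hpos
  have ht : 1 ≤ t := hs.trans hst
  have hQ : 0 < B + d * t := by
    rcases le_or_gt 0 B with h | h
    · nlinarith
    · nlinarith
  have hk1 : 1 ≤ k := by
    by_contra hc
    nlinarith
  have key : t * (k * s - d ^ 2) = d * B + k * d := by
    linear_combination (-d) * hk + k * hn
  have hBle : B ≤ d * (s - 4) + 2 := by rw [hB]; linarith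
  rcases lt_or_ge B 0 with hneg | hpos'
  · have hsB : s * (-B) < d ^ 2 := by
      by_contra hc
      nlinarith [mul_le_mul_of_nonneg_left (not_lt.1 hc) (by linarith : (0 : ℤ) ≤ t)]
    have hsd : s < d ^ 2 := by nlinarith
    refine ⟨by nlinarith, ?_⟩
    have hd2 : 2 ≤ d := by nlinarith
    rcases lt_trichotomy (k * s) (d ^ 2) with h | h | h
    · have : t ≤ d * (-B) := by nlinarith
      have : -B < d ^ 2 := by nlinarith
      nlinarith [pow_pos (by linarith : (0 : ℤ) < d) 3, pow_pos (by linarith : (0 : ℤ) < d) 4]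
    · exfalso
      rw [h, sub_self, mul_zero] at key
      have : k = -B := by nlinarith
      nlinarith
    · have h1 : t * (k * s - d ^ 2) ≤ k * d := by nlinarith
      have h2 : k ≤ (k * s - d ^ 2) * (1 + d ^ 2) := by nlinarith
      have : t ≤ d * (1 + d ^ 2) := by nlinarith
      nlinarith [pow_pos (by linarith : (0 : ℤ) < d) 3, pow_pos (by linarith : (0 : ℤ) < d) 4]
  ·
    have hB0 : (0 : ℤ) ≤ d * (s - 4) + 2 := by linarith
    have h0 : 0 < k * s - d ^ 2 := by
      by_contra hc
      nlinarith
    have h2 : k ≤ (k * s - d ^ 2) * (1 + d ^ 2) := by nlinarith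
    have hstb : s * t ≤ d ^ 2 * s + d ^ 2 * t - 4 * d ^ 2 + 3 * d := by
      have h3 : n - 1 ≤ k * (n - 1) := by nlinarith
      nlinarith
    have hprod : (s - d ^ 2) * (t - d ^ 2) < d ^ 4 := by nlinarith
    have hs2 : s < 2 * d ^ 2 := by
      by_contra hc
      nlinarith [mul_le_mul (show d ^ 2 ≤ s - d ^ 2 by linarith) (show d ^ 2 ≤ t - d ^ 2 by linarith)
        (sq_nonneg d) (show (0 : ℤ) ≤ s - d ^ 2 by nlinarith)]
    refine ⟨hs2, ?_⟩
    rcases le_or_gt s (d ^ 2) with hsd | hsd
    · have h3 : t ≤ d * (d * (s - 4) + 2) + d * (1 + d ^ 2) := by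
        refine le_of_mul_le_mul_right ?_ h0
        rw [key]
        have e1 : d * B ≤ d * (d * (s - 4) + 2) * (k * s - d ^ 2) :=
          (mul_le_mul_of_nonneg_left hBle (by linarith)).trans
            (le_mul_of_one_le_right (mul_nonneg (by linarith) hB0) h0)
        have e2 : k * d ≤ d * (1 + d ^ 2) * (k * s - d ^ 2) := by
          calc k * d ≤ (k * s - d ^ 2) * (1 + d ^ 2) * d :=
                mul_le_mul_of_nonneg_right h2 (by linarith)
            _ = _ := by ring
        linarith [add_mul (d * (d * (s - 4) + 2)) (d * (1 + d ^ 2)) (k * s - d ^ 2)]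
      have h4 : d * (d * (s - 4) + 2) ≤ d * (d * (d ^ 2 - 4) + 2) :=
        mul_le_mul_of_nonneg_left (by nlinarith) (by linarith)
      nlinarith [pow_le_pow_right₀ hd (show 3 ≤ 4 by norm_num), le_self_pow₀ hd (show 2 ≠ 0 by norm_num)]
    · have : t - d ^ 2 < d ^ 4 := by
        by_contra hc
        nlinarith
      nlinarith [pow_le_pow_right₀ hd (show 2 ≤ 4 by norm_num)]

end Groth.Agent.S18055
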