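import Groth.Statements.S1806
import Groth.Agent.LocCoh.Support

set_option autoImplicit false
universe u
open CategoryTheory
open LocCoh

namespace Groth.Agent.S1806

/-- Let A be a Noetherian ring, I ⊆ I' ideals, M an A-module and i ≥ 0, and let Ψ : H^i_{I'}(M) →
H^i_I(M) be the comparison map. (1) If the local cohomology H^i of M_p with support in the maximal
ideal of A_p vanishes for every prime p ⊇ I with p ⊉ I', then Ψ is surjective. (2) If the
corresponding H^{i−1} vanish (encoded as vanishing of H^j for every j with j + 1 = i, a vacuous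
condition when i = 0), then Ψ is injective. Hence Ψ is bijective when both hold. -/
theorem result (A : Type u) [CommRing A] [IsNoetherianRing A] (I I' : Ideal A) (h : I ≤ I') (M : Type u) [AddCommGroup M] [Module A M] (i : ℕ) : ((∀ p : PrimeSpectrum A, I ≤ p.asIdeal → ¬ I' ≤ p.asIdeal → Subsingleton (LocCoh.H (IsLocalRing.maximalIdeal (Localization.AtPrime p.asIdeal)) i (LocalizedModule p.asIdeal.primeCompl M))) → Function.Surjective ((Dual2.HmapOfLE h i).app (ModuleCat.of A M)).hom) ∧ ((∀ p : PrimeSpectrum A, I ≤ p.asIdeal → ¬ I' ≤ p.asIdeal → ∀ j : ℕ, j + 1 = i → Subsingleton (LocCoh.H (IsLocalRing.maximalIdeal (Localization.AtPrime p.asIdeal)) j (LocalizedModule p.asIdeal.primeCompl M))) → Function.Injective ((Dual2.HmapOfLE h i).app (ModuleCat.of A M)).hom) := by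
  have hle : I ⊔ I' ≤ I' := sup_le h le_rfl
  have hbij := Groth.Agent.LocCoh.hm_bijective_of_pow_le hle (k := 1) (by rw [pow_one]; exact le_sup_right)
    i (ModuleCat.of A M)
  have hcomp : ∀ x, ((Dual2.HmapOfLE h i).app (ModuleCat.of A M)).hom x =
      Groth.Agent.LocCoh.hm (le_sup_left : I ≤ I ⊔ I') i (ModuleCat.of A M)
        (Groth.Agent.LocCoh.hm hle i (ModuleCat.of A M) x) :=
    fun x => (Groth.Agent.LocCoh.hm_hm le_sup_left hle i x).symm
  refine ⟨fun hv => ?_, fun hv => ?_⟩
  · rw [funext hcomp]
    exact (Groth.Agent.LocCoh.surjective_hm_of_vanishAt (M := ModuleCat.of A M) i I hv).comp hbij.2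
  · rw [funext hcomp]
    exact (Groth.Agent.LocCoh.injective_hm_of_vanishAt (M := ModuleCat.of A M) i I
      fun j hj p hp hp' => hv p hp hp' j hj).comp hbij.1

end Groth.Agent.S1806
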