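import Groth.Statements.S18068
import Groth.Agent.GrpScheme.IsogenyFunctions
import Groth.Agent.GrpScheme.AffineHom
import Groth.Agent.AbVarLib.Basics
import Mathlib.RingTheory.IntegralClosure.IntegralRestrict
-- import your own Groth.Agent.* helpers here

set_option autoImplicit false
universe u
open CategoryTheory MonoidalCategory CartesianMonoidalCategory MonObj GrpObj AlgebraicGeometry CategoryTheory.Limits
open AlgGrp

namespace Groth.Agent.S18068

/-- Let k be a field and f : G → H an isogeny (a surjective homomorphism with finite kernel, i.e.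
surjective and finite) of connected commutative algebraic groups over k. Then G is anti-affine (O(G)
= k) if and only if H is anti-affine. -/
theorem result (k : Type u) [Field k]
    (G H : Over (Spec (CommRingCat.of k))) [GrpObj G] [Smooth G.hom] [QuasiCompact G.hom] [ConnectedSpace ↥G.left] [IsCommMonObj G]
    [GrpObj H] [Smooth H.hom] [QuasiCompact H.hom] [ConnectedSpace ↥H.left] [IsCommMonObj H]
    (f : G ⟶ H) [IsMonHom f] [Surjective f.left] [IsFinite f.left] :
    Function.Bijective ((Scheme.ΓSpecIso (CommRingCat.of k)).inv ≫ G.hom.appTop).hom ↔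
      Function.Bijective ((Scheme.ΓSpecIso (CommRingCat.of k)).inv ≫ H.hom.appTop).hom := by
  have : IsReduced H.left := GrpScheme.HomFlat.isReduced_of_smooth H.hom
  have : IsReduced G.left := GrpScheme.HomFlat.isReduced_of_smooth G.hom
  have : IrreducibleSpace G.left := AbVarLib.Basics.irreducibleSpace_of_connectedSpace G
  have : IsIntegral G.left := isIntegral_of_irreducibleSpace_of_isReduced _
  have : CompactSpace G.left := QuasiCompact.compactSpace_of_compactSpace G.hom
  have : IsLocallyNoetherian G.left := LocallyOfFiniteType.isLocallyNoetherian G.hom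
  have : QuasiSeparated G.hom := (quasiSeparated_iff_quasiSeparatedSpace G.hom).2 inferInstance
  have : Flat f.left := GrpScheme.HomFlat.flat_of_surjective f
  have hinj := GrpScheme.GlobalSections.appTop_injective f.left
  have hwT : H.hom.appTop ≫ f.left.appTop = G.hom.appTop := by
    rw [← Scheme.Hom.comp_appTop, Over.w f]
  rw [GrpScheme.AntiAffine.bijective_iff_isIso G, GrpScheme.AntiAffine.bijective_iff_isIso H]
  refine ⟨fun _ => ?_, fun hH => ?_⟩
  · have : Mono f.left.appTop := ConcreteCategory.mono_of_injective _ hinj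
    have : IsSplitEpi f.left.appTop := IsSplitEpi.mk' ⟨inv G.hom.appTop ≫ H.hom.appTop, by
      rw [Category.assoc, hwT, IsIso.inv_hom_id]⟩
    have : IsIso f.left.appTop := isIso_of_mono_of_isSplitEpi _
    have : IsIso (H.hom.appTop ≫ f.left.appTop) := hwT ▸ inferInstance
    exact IsIso.of_isIso_comp_right H.hom.appTop f.left.appTop
  obtain ⟨N, _, i, _, hex⟩ := GrpScheme.AffineHom.exists_kernel f
  have : IsFinite N.hom :=
    MorphismProperty.of_isPullback (P := @IsFinite) (GrpdLib.GrpOver.isPullback_left hex) inferInstance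
  have hint := GrpScheme.IsogenyFunctions.isIntegral i f hex
  let e : Γ(G.left, ⊤) ⟶ Γ((𝟙_ (Over (Spec (CommRingCat.of k)))).left, ⊤) := η[G].left.appTop
  have hret : G.hom.appTop ≫ e = 𝟙 _ := by
    rw [← Scheme.Hom.comp_appTop, Over.w η[G]]
    exact Scheme.Hom.id_appTop
  have hfield : IsField Γ(Spec (CommRingCat.of k), ⊤) :=
    (Scheme.ΓSpecIso (CommRingCat.of k)).commRingCatIsoToRingEquiv.toMulEquiv.isField (Field.toIsField k)
  have hintG : G.hom.appTop.hom.IsIntegral := by
    rw [← hwT, CommRingCat.hom_comp]
    exact RingHom.IsIntegral.trans _ _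
      (RingHom.isIntegral_of_surjective _ (ConcreteCategory.bijective_of_isIso H.hom.appTop).2) hint
  have : Nonempty (⊤ : G.left.Opens) := ⟨⟨Classical.arbitrary G.left, trivial⟩⟩
  have hG : IsField Γ(G.left, ⊤) := by
    let _ : Algebra Γ(Spec (CommRingCat.of k), ⊤) Γ(G.left, ⊤) := G.hom.appTop.hom.toAlgebra
    have : Algebra.IsIntegral Γ(Spec (CommRingCat.of k), ⊤) Γ(G.left, ⊤) := ⟨hintG⟩
    exact isField_of_isIntegral_of_isField' hfield
  let _ := hG.toField
  have : Nontrivial Γ((𝟙_ (Over (Spec (CommRingCat.of k)))).left, ⊤) :=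
    hfield.nontrivial
  have hsec : Mono e := ConcreteCategory.mono_of_injective _ e.hom.injective
  have : IsSplitEpi e := IsSplitEpi.mk' ⟨G.hom.appTop, hret⟩
  have : IsIso e := isIso_of_mono_of_isSplitEpi e
  rw [show G.hom.appTop = inv e from IsIso.eq_inv_of_inv_hom_id hret]
  infer_instance

end Groth.Agent.S18068
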