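import Groth.Statements.S18069
import Groth.Agent.GrpScheme.AntiAffine
-- import your own Groth.Agent.* helpers here

set_option autoImplicit false
universe u
open CategoryTheory MonoidalCategory CartesianMonoidalCategory MonObj GrpObj AlgebraicGeometry CategoryTheory.Limits
open AlgGrp

namespace Groth.Agent.S18069

/-- Let k be a field and G₁, G₂ connected k-group schemes of finite type. Then G₁ × G₂ is anti-affine,
i.e. O(G₁ × G₂) = k, if and only if G₁ and G₂ are both anti-affine. -/
theorem result (k : Type u) [Field k]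
    (G₁ G₂ : Over (Spec (CommRingCat.of k))) [GrpObj G₁] [LocallyOfFiniteType G₁.hom] [QuasiCompact G₁.hom] [ConnectedSpace ↥G₁.left]
    [GrpObj G₂] [LocallyOfFiniteType G₂.hom] [QuasiCompact G₂.hom] [ConnectedSpace ↥G₂.left] :
    Function.Bijective ((Scheme.ΓSpecIso (CommRingCat.of k)).inv ≫ (G₁ ⊗ G₂).hom.appTop).hom ↔
      Function.Bijective ((Scheme.ΓSpecIso (CommRingCat.of k)).inv ≫ G₁.hom.appTop).hom ∧ Function.Bijective ((Scheme.ΓSpecIso (CommRingCat.of k)).inv ≫ G₂.hom.appTop).hom := by
  have : CompactSpace G₁.left := QuasiCompact.compactSpace_of_compactSpace G₁.hom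
  have : CompactSpace G₂.left := QuasiCompact.compactSpace_of_compactSpace G₂.hom
  have : IsLocallyNoetherian G₁.left := LocallyOfFiniteType.isLocallyNoetherian G₁.hom
  have : IsLocallyNoetherian G₂.left := LocallyOfFiniteType.isLocallyNoetherian G₂.hom
  have : QuasiSeparated G₁.hom := (quasiSeparated_iff_quasiSeparatedSpace G₁.hom).2 inferInstance
  have : QuasiSeparated G₂.hom := (quasiSeparated_iff_quasiSeparatedSpace G₂.hom).2 inferInstance
  rw [GrpScheme.AntiAffine.bijective_iff_isIso (G₁ ⊗ G₂), GrpScheme.AntiAffine.bijective_iff_isIso G₁,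
    GrpScheme.AntiAffine.bijective_iff_isIso G₂]
  refine ⟨fun h => ⟨GrpScheme.AntiAffine.isIso_appTop_left η[G₂], ?_⟩,
    fun h => have := h.1; have := h.2; GrpScheme.AntiAffine.isIso_appTop_tensor⟩
  have : IsIso (G₂ ⊗ G₁).hom.appTop := by
    have hb : IsIso (β_ G₂ G₁).hom.left := inferInstanceAs (IsIso ((Over.forget _).map (β_ G₂ G₁).hom))
    have he : IsIso (β_ G₂ G₁).hom.left.appTop := inferInstanceAs (IsIso (Scheme.Γ.map (β_ G₂ G₁).hom.left.op))
    rw [← Over.w (β_ G₂ G₁).hom, Scheme.Hom.comp_appTop]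
    exact IsIso.comp_isIso' h he
  exact GrpScheme.AntiAffine.isIso_appTop_left η[G₁]

end Groth.Agent.S18069
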