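import Groth.Statements.S18070
import Groth.Agent.GrpScheme.AntiAffine
import Groth.Agent.GrpScheme.GlobalSections
import Groth.Agent.GrpScheme.KernelPair
-- import your own Groth.Agent.* helpers here

set_option autoImplicit false
universe u
open CategoryTheory MonoidalCategory CartesianMonoidalCategory MonObj GrpObj AlgebraicGeometry CategoryTheory.Limits
open AlgGrp

namespace Groth.Agent.S18070

/-- Let k be a field and 1 → G₁ → G → G₂ → 1 an exact sequence of k-group schemes of finite type with
G₁, G₂ connected (i : G₁ → G a homomorphism and closed immersion which is the kernel of the flat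
surjective homomorphism q : G → G₂). Anti-affineness passes from G to the quotient G₂; in the other
direction, G is anti-affine whenever G₁ and G₂ both are. -/
theorem result (k : Type u) [Field k]
    (G₁ G G₂ : Over (Spec (CommRingCat.of k))) [GrpObj G₁] [LocallyOfFiniteType G₁.hom] [QuasiCompact G₁.hom] [ConnectedSpace ↥G₁.left]
    [GrpObj G] [LocallyOfFiniteType G.hom] [QuasiCompact G.hom]
    [GrpObj G₂] [LocallyOfFiniteType G₂.hom] [QuasiCompact G₂.hom] [ConnectedSpace ↥G₂.left]
    (i : G₁ ⟶ G) [IsMonHom i] [IsClosedImmersion i.left] (q : G ⟶ G₂) [IsMonHom q] [Surjective q.left] [Flat q.left]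
    (hex : AlgGrp.IsKernel i q) :
    (Function.Bijective ((Scheme.ΓSpecIso (CommRingCat.of k)).inv ≫ G.hom.appTop).hom → Function.Bijective ((Scheme.ΓSpecIso (CommRingCat.of k)).inv ≫ G₂.hom.appTop).hom) ∧
    (Function.Bijective ((Scheme.ΓSpecIso (CommRingCat.of k)).inv ≫ G₁.hom.appTop).hom → Function.Bijective ((Scheme.ΓSpecIso (CommRingCat.of k)).inv ≫ G₂.hom.appTop).hom → Function.Bijective ((Scheme.ΓSpecIso (CommRingCat.of k)).inv ≫ G.hom.appTop).hom) := by
  have : CompactSpace G₁.left := QuasiCompact.compactSpace_of_compactSpace G₁.hom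
  have : CompactSpace G.left := QuasiCompact.compactSpace_of_compactSpace G.hom
  have : IsLocallyNoetherian G₁.left := LocallyOfFiniteType.isLocallyNoetherian G₁.hom
  have : IsLocallyNoetherian G.left := LocallyOfFiniteType.isLocallyNoetherian G.hom
  have : IsLocallyNoetherian G₂.left := LocallyOfFiniteType.isLocallyNoetherian G₂.hom
  have : QuasiSeparated G₁.hom := (quasiSeparated_iff_quasiSeparatedSpace G₁.hom).2 inferInstance
  have : QuasiSeparated G.hom := (quasiSeparated_iff_quasiSeparatedSpace G.hom).2 inferInstance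
  have : QuasiSeparated G₂.hom := (quasiSeparated_iff_quasiSeparatedSpace G₂.hom).2 inferInstance
  have hw : q.left ≫ G₂.hom = G.hom := Over.w q
  have : QuasiCompact (q.left ≫ G₂.hom) := hw ▸ inferInstance
  have : QuasiCompact q.left := QuasiCompact.of_comp q.left G₂.hom
  rw [GrpScheme.AntiAffine.bijective_iff_isIso G, GrpScheme.AntiAffine.bijective_iff_isIso G₁,
    GrpScheme.AntiAffine.bijective_iff_isIso G₂]
  have hwT : G₂.hom.appTop ≫ q.left.appTop = G.hom.appTop := by
    rw [← Scheme.Hom.comp_appTop, hw]
  have hinj := GrpScheme.GlobalSections.appTop_injective q.left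
  refine ⟨fun _ => ?_, fun _ _ => ?_⟩
  · have : Mono q.left.appTop := ConcreteCategory.mono_of_injective _ hinj
    have : IsSplitEpi q.left.appTop := IsSplitEpi.mk' ⟨inv G.hom.appTop ≫ G₂.hom.appTop, by
      rw [Category.assoc, hwT, IsIso.inv_hom_id]⟩
    have : IsIso q.left.appTop := isIso_of_mono_of_isSplitEpi _
    have : IsIso (G₂.hom.appTop ≫ q.left.appTop) := hwT ▸ inferInstance
    exact IsIso.of_isIso_comp_right G₂.hom.appTop q.left.appTop
  · have : IsIso (fst G G₁).left.appTop :=
      (GrpScheme.QuasiAffine.isPushout_tensor G G₁).isIso_inl_of_isIso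
    let m : G ⊗ G₁ ⟶ G := fst G G₁ * (snd G G₁ ≫ i)
    let e : G ⟶ G ⊗ G₁ := lift (𝟙 G) 1
    have he : e ≫ m = 𝟙 G := by
      rw [MonObj.comp_mul, lift_fst, lift_snd_assoc, MonObj.one_comp, _root_.mul_one]
    have h₁ : (fst G G₁).left.appTop ≫ e.left.appTop = 𝟙 _ := by
      rw [← Scheme.Hom.comp_appTop, ← Over.comp_left, lift_fst, Over.id_left, Scheme.Hom.id_appTop]
    have h₂ : m.left.appTop ≫ e.left.appTop = 𝟙 _ := by
      rw [← Scheme.Hom.comp_appTop, ← Over.comp_left, he, Over.id_left, Scheme.Hom.id_appTop]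
    have : IsIso e.left.appTop := by
      rw [show e.left.appTop = inv (fst G G₁).left.appTop from IsIso.eq_inv_of_hom_inv_id h₁]
      infer_instance
    have hm : (fst G G₁).left.appTop = m.left.appTop :=
      (cancel_mono e.left.appTop).1 (h₁.trans h₂.symm)
    have hsurj : Function.Surjective q.left.appTop := fun s =>
      GrpScheme.GlobalSections.exists_of_eq q.left
        (GrpdLib.GrpOver.isPullback_left (GrpScheme.KernelPair.isPullback hex)) s (by rw [hm])
    have : IsIso q.left.appTop := (ConcreteCategory.isIso_iff_bijective _).2 ⟨hinj, hsurj⟩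
    rw [← hwT]
    infer_instance

end Groth.Agent.S18070
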