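import Groth.Statements.S18074
import Groth.Agent.GrpAff.Kernel
import Groth.Agent.GrpScheme.AntiAffine

set_option autoImplicit false
universe u
open CategoryTheory MonoidalCategory CartesianMonoidalCategory MonObj GrpObj AlgebraicGeometry CategoryTheory.Limits
open AlgGrp

open Limits Groth.Agent Groth.Agent.GrpAff Groth.Agent.UnipLib

namespace Groth.Agent.S18074

set_option backward.isDefEq.respectTransparency false

variable {k : Type u} [Field k]

/-- An affine scheme with only constant functions is the point. -/
lemma isTrivialGrp_of_isAffine (N : Over (Spec (CommRingCat.of k))) [IsAffine N.left] [IsIso N.hom.appTop] :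
    Red.IsTrivialGrp N := by
  show IsIso N.hom
  have h := Scheme.isoSpec_hom_naturality N.hom
  rw [show N.hom = N.left.isoSpec.hom ≫ Spec.map N.hom.appTop ≫ (Spec (CommRingCat.of k)).isoSpec.inv by
    rw [← Category.assoc, Iso.eq_comp_inv]; exact h.symm]
  infer_instance

/-- A group whose anti-affine kernel is trivial is affine; one whose kernel is everything is anti-affine. -/
lemma exists_antiAffine_subgroup (G : Over (Spec (CommRingCat.of k))) [GrpObj G] [LocallyOfFiniteType G.hom]
    [QuasiCompact G.hom] :
    ∃ (N : Over (Spec (CommRingCat.of k))) (_ : GrpObj N) (i : N ⟶ G), IsMonHom i ∧ IsClosedImmersion i.left ∧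
      IsIso N.hom.appTop ∧ (Red.IsTrivialGrp N → IsAffine G.left) ∧ (IsIso i → IsIso G.hom.appTop) := by
  obtain ⟨N, hN, i, hi, hci, hpb, hNc⟩ := exists_antiAffine_kernel G
  refine ⟨N, hN, i, hi, hci, hNc, fun htriv => ?_, fun hiso => ?_⟩
  · have hk : ∀ {T : Over (Spec (CommRingCat.of k))} (z : T ⟶ G), z ≫ toHull G = 1 → z ≫ 𝟙 G = 1 := by
      intro T z hz
      have hz' : z ≫ toHull G = (toUnit T ≫ η[G]) ≫ toHull G := by
        rw [hz, Category.assoc, IsMonHom.one_hom, ← Hom.one_def]
      have e := congrArg CommaMorphism.left hz'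
      simp only [Over.comp_left, toHull_left, Category.assoc] at e
      let w := hpb.lift z.left (toUnit T).left e
      have hw : w ≫ i.left = z.left := hpb.lift_fst _ _ _
      let w' : T ⟶ N := Over.homMk w (by rw [← Over.w i, reassoc_of% hw, Over.w])
      have hw' : w' ≫ i = z := Over.OverMorphism.ext hw
      haveI : IsIso N.hom := htriv
      haveI : Mono N.hom := inferInstance
      have h1 : w' = 1 := Over.OverMorphism.ext ((cancel_mono N.hom).1 (by rw [Over.w, Over.w]))
      rw [Category.comp_id, ← hw', h1, MonObj.one_comp]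
    haveI : IsIso (toHull G) := isIso_of_kernel_le (p := 𝟙 G) (q := toHull G)
      ⟨by rw [Over.id_left]; infer_instance, by rw [Over.id_left]; infer_instance,
        by rw [Over.id_left]; infer_instance⟩ (cover_toHull G).1 (toHull G) (Category.id_comp _) hk
    haveI : IsIso (toHull G).left := inferInstanceAs (IsIso ((Over.forget _).map (toHull G)))
    exact IsAffine.of_isIso (toHull G).left
  · haveI : IsIso i.left := inferInstanceAs (IsIso ((Over.forget _).map i))
    have e : G.hom.appTop ≫ i.left.appTop = N.hom.appTop := by rw [← Scheme.Hom.comp_appTop, Over.w]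
    haveI : IsIso (G.hom.appTop ≫ i.left.appTop) := e ▸ hNc
    exact IsIso.of_isIso_comp_right G.hom.appTop i.left.appTop

/-- Let k be a field and G a non-trivial k-group scheme of finite type. Then G is non-affine with every
closed subgroup scheme H ≠ G affine if and only if G is anti-affine and every anti-affine closed
subgroup scheme H ≠ G of G is trivial. -/
theorem result (k : Type u) [Field k]
    (G : Over (Spec (CommRingCat.of k))) [GrpObj G] [LocallyOfFiniteType G.hom] [QuasiCompact G.hom] (hG : ¬ Red.IsTrivialGrp G) :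
    (¬ IsAffine G.left ∧ ∀ (H : Over (Spec (CommRingCat.of k))) [GrpObj H] (h : H ⟶ G) [IsMonHom h] [IsClosedImmersion h.left], ¬ IsIso h → IsAffine H.left) ↔
    (Function.Bijective ((Scheme.ΓSpecIso (CommRingCat.of k)).inv ≫ G.hom.appTop).hom ∧ ∀ (H : Over (Spec (CommRingCat.of k))) [GrpObj H] (h : H ⟶ G) [IsMonHom h] [IsClosedImmersion h.left], ¬ IsIso h → Function.Bijective ((Scheme.ΓSpecIso (CommRingCat.of k)).inv ≫ H.hom.appTop).hom → Red.IsTrivialGrp H) := by
  constructor
  · rintro ⟨hna, hmin⟩
    obtain ⟨N, hN, i, hi, hci, hNc, htriv, hfull⟩ := exists_antiAffine_subgroup G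
    haveI := hi; haveI := hci; haveI := hNc
    refine ⟨(GrpScheme.AntiAffine.bijective_iff_isIso G).mpr (hfull ?_), fun H _ h _ _ hne hH => ?_⟩
    · by_contra hne
      haveI := hmin N i hne
      exact hna (htriv (isTrivialGrp_of_isAffine N))
    · haveI := hmin H h hne
      haveI := (GrpScheme.AntiAffine.bijective_iff_isIso H).mp hH
      exact isTrivialGrp_of_isAffine H
  · rintro ⟨hGa, hmin⟩
    refine ⟨fun ha => ?_, fun H _ h _ _ hne => ?_⟩
    · haveI := (GrpScheme.AntiAffine.bijective_iff_isIso G).mp hGa
      exact hG (isTrivialGrp_of_isAffine G)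
    · haveI : LocallyOfFiniteType H.hom := by rw [← Over.w h]; infer_instance
      haveI : QuasiCompact H.hom := by rw [← Over.w h]; infer_instance
      obtain ⟨N, hN, i, hi, hci, hNc, htriv, -⟩ := exists_antiAffine_subgroup H
      haveI := hi; haveI := hci
      haveI : IsClosedImmersion (i ≫ h).left := by rw [Over.comp_left]; infer_instance
      refine htriv (hmin N (i ≫ h) (fun hiso => hne ?_) ((GrpScheme.AntiAffine.bijective_iff_isIso N).mpr hNc))
      haveI : Mono h := Over.mono_of_mono_left h
      haveI : IsSplitEpi h := IsSplitEpi.mk' ⟨inv (i ≫ h) ≫ i, by simp⟩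
      exact isIso_of_mono_of_isSplitEpi h

end Groth.Agent.S18074
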