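import Groth.Statements.S18075
import Groth.Agent.GrpScheme.AntiAffineProd
import Groth.Agent.GrpScheme.AffineToProper
import Groth.Agent.GrpScheme.SubgroupObj
import Groth.Agent.GrpArtin.Descend
import Groth.Agent.S18074
import Groth.Agent.S15607
import Groth.Agent.S3293
-- import your own Groth.Agent.* helpers here

set_option autoImplicit false
universe u
open CategoryTheory MonoidalCategory CartesianMonoidalCategory MonObj GrpObj AlgebraicGeometry CategoryTheory.Limits
open AlgGrp

namespace Groth.Agent.S18075

set_option backward.isDefEq.respectTransparency false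
set_option maxHeartbeats 1600000
set_option synthInstance.maxHeartbeats 400000

open Groth.Agent.GrpScheme Groth.Agent.GrpScheme.AntiAffineProd
open UnipLib (Cover)

variable {k : Type u} [Field k]

lemma isTrivialGrp_of_subsingleton {T : Over (Spec (CommRingCat.of k))} [GrpObj T] [IsReduced T.left]
    [Subsingleton T.left] [LocallyOfFiniteType T.hom] : Red.IsTrivialGrp T := by
  have hη := S15607.isClosedImmersion_η T
  have hs : Surjective η[T].left := ⟨fun x => ⟨IsLocalRing.closedPoint k, Subsingleton.elim _ _⟩⟩
  have : IsIso η[T].left := isIso_of_isClosedImmersion_of_surjective η[T].left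
  have : IsIso (η[T].left ≫ T.hom) := by rw [Over.w η[T]]; exact inferInstanceAs (IsIso (𝟙 _))
  exact IsIso.of_isIso_comp_left η[T].left T.hom

/-- Let k be a field and G a non-trivial anti-affine k-group scheme of finite type, and let i : N → G be
a connected affine closed subgroup scheme which is the kernel of a flat surjective homomorphism q :
G → A onto an abelian variety A (for instance N = G_aff and A = G/G_aff, but any such N is allowed).
Then G has no anti-affine closed subgroup scheme other than G and the trivial group if and only if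
the abelian variety A is simple (every smooth connected closed subgroup scheme of A is trivial or
equal to A). -/
theorem result (k : Type u) [Field k]
    (G : Over (Spec (CommRingCat.of k))) [GrpObj G] [LocallyOfFiniteType G.hom] [QuasiCompact G.hom] (hG : ¬ Red.IsTrivialGrp G)
    (hGa : Function.Bijective ((Scheme.ΓSpecIso (CommRingCat.of k)).inv ≫ G.hom.appTop).hom)
    (N A : Over (Spec (CommRingCat.of k))) [GrpObj N] [GrpObj A] (i : N ⟶ G) [IsMonHom i] [IsClosedImmersion i.left]
    [IsAffine N.left] [ConnectedSpace ↥N.left]
    (q : G ⟶ A) [IsMonHom q] [Surjective q.left] [Flat q.left] [IsProper A.hom] [Smooth A.hom] [ConnectedSpace ↥A.left]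
    (hq : AlgGrp.IsKernel i q) :
    (∀ (H : Over (Spec (CommRingCat.of k))) [GrpObj H] (h : H ⟶ G) [IsMonHom h] [IsClosedImmersion h.left], ¬ IsIso h → Function.Bijective ((Scheme.ΓSpecIso (CommRingCat.of k)).inv ≫ H.hom.appTop).hom → Red.IsTrivialGrp H) ↔
    (∀ (B : Over (Spec (CommRingCat.of k))) [GrpObj B] (b : B ⟶ A) [IsMonHom b] [IsClosedImmersion b.left], Smooth B.hom → ConnectedSpace ↥B.left → IsIso b ∨ Red.IsTrivialGrp B) := by
  haveI hGi : IsIso G.hom.appTop := (GrpScheme.AntiAffine.bijective_iff_isIso G).mp hGa
  obtain ⟨hGc, hGcomm⟩ := Groth.Agent.S3293.result k G hGa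
  haveI := hGc
  haveI := hGcomm
  haveI : IsSeparated A.hom := inferInstance
  haveI : IsSeparated G.hom := GrpdLib.GrpOver.isSeparated_hom G
  haveI : LocallyOfFiniteType N.hom := by rw [← Over.w i]; infer_instance
  haveI : QuasiCompact N.hom := by rw [← Over.w i]; infer_instance
  haveI : Mono i := Over.mono_of_mono_left i
  have hqc : Cover q := by
    haveI : QuasiCompact (q.left ≫ A.hom) := by rw [Over.w q]; infer_instance
    exact ⟨inferInstance, inferInstance, QuasiCompact.of_comp q.left A.hom⟩
  have hni : AlgGrp.IsNormalHom i := fun T g n => ⟨n, by rw [mul_comm g, mul_inv_cancel_right]⟩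
  constructor
  · intro hG' B _ b _ _ hBs hBc
    haveI := hBs; haveI := hBc
    haveI : Mono b := Over.mono_of_mono_left b
    haveI : IsProper B.hom := by rw [← Over.w b]; infer_instance
    haveI : IsReduced B.left := HomFlat.isReduced_of_smooth B.hom
    haveI : IsReduced A.left := HomFlat.isReduced_of_smooth A.hom
    let P := pullback q b
    let incl : P ⟶ G := pullback.fst q b
    let q' : P ⟶ B := pullback.snd q b
    have hpb : IsPullback incl q' q b := IsPullback.of_hasPullback q b
    have hpbl : IsPullback incl.left q'.left q.left b.left := GrpdLib.GrpOver.isPullback_left hpb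
    haveI : IsClosedImmersion incl.left :=
      MorphismProperty.of_isPullback (P := @IsClosedImmersion) hpbl.flip inferInstance
    haveI : Mono incl := Over.mono_of_mono_left incl
    obtain ⟨_, hincl⟩ : ∃ _ : GrpObj P, IsMonHom incl := by
      refine GrpScheme.SubgroupObj.exists_grpObj incl ⟨hpb.lift ((incl ⊗ₘ incl) ≫ μ[G]) ((q' ⊗ₘ q') ≫ μ[B]) ?_,
        hpb.lift_fst _ _ _⟩ ⟨hpb.lift η[G] η[B] (by simp), hpb.lift_fst _ _ _⟩
        ⟨hpb.lift (incl ≫ ι[G]) (q' ≫ ι[B]) (by
          rw [Category.assoc, GrpObj.inv_hom q, ← Category.assoc, hpb.w, Category.assoc, Category.assoc,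
            GrpObj.inv_hom b]), hpb.lift_fst _ _ _⟩
      rw [Category.assoc, IsMonHom.mul_hom, ← Category.assoc, MonoidalCategory.tensorHom_comp_tensorHom, hpb.w,
        ← MonoidalCategory.tensorHom_comp_tensorHom, Category.assoc, Category.assoc, IsMonHom.mul_hom]
    haveI := hincl
    haveI : LocallyOfFiniteType P.hom := by rw [← Over.w incl]; infer_instance
    haveI : QuasiCompact P.hom := by rw [← Over.w incl]; infer_instance
    haveI : IsMonHom q' := WittLib.Basic.isMonHom_of_points _ fun T x y => by
      rw [← cancel_mono b, MonObj.mul_comp _ _ b, Category.assoc, Category.assoc, Category.assoc, ← hpb.w,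
        ← Category.assoc, ← Category.assoc, ← Category.assoc, MonObj.mul_comp x y incl, MonObj.mul_comp _ _ q]
    haveI : Surjective q'.left := MorphismProperty.of_isPullback hpbl (inferInstance : Surjective q.left)
    have hq'c : Cover q' :=
      ⟨MorphismProperty.of_isPullback hpbl (inferInstance : Flat q.left), inferInstance,
        MorphismProperty.of_isPullback hpbl hqc.qc⟩
    obtain ⟨M, hM, jM, hjM, hjMc, hMa, hMaff, -⟩ := Groth.Agent.S18074.exists_antiAffine_subgroup P
    haveI := hjMc
    haveI := hjM
    haveI : IsClosedImmersion (jM ≫ incl).left := by rw [Over.comp_left]; infer_instance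
    by_cases hiso : IsIso (jM ≫ incl)
    · left
      haveI : IsIso (jM ≫ incl).left := inferInstanceAs (IsIso ((Over.forget _).map (jM ≫ incl)))
      haveI : Surjective (jM.left ≫ incl.left) := by rw [← Over.comp_left]; infer_instance
      haveI : Surjective incl.left := Surjective.of_comp jM.left incl.left
      haveI : Surjective (q'.left ≫ b.left) := by rw [← hpbl.w]; infer_instance
      haveI : Surjective b.left := Surjective.of_comp q'.left b.left
      haveI : IsIso b.left := isIso_of_isClosedImmersion_of_surjective b.left
      haveI : IsIso ((Over.forget _).map b) := ‹IsIso b.left›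
      exact isIso_of_reflects_iso b (Over.forget _)
    · right
      haveI := hMaff (hG' M (jM ≫ incl) hiso ((GrpScheme.AntiAffine.bijective_iff_isIso M).mpr hMa))
      haveI := isAffine_of_cover q' hq'c
      haveI := subsingleton_of_proper (𝟙 B) inferInstance
      exact isTrivialGrp_of_subsingleton
  · intro hA H _ h _ _ hne hHa
    haveI : LocallyOfFiniteType H.hom := by rw [← Over.w h]; infer_instance
    haveI : QuasiCompact H.hom := by rw [← Over.w h]; infer_instance
    haveI : IsIso H.hom.appTop := (GrpScheme.AntiAffine.bijective_iff_isIso H).mp hHa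
    haveI : Mono h := Over.mono_of_mono_left h
    obtain ⟨QA, hQA, p, ιA, hp, hιA, hpc, hιAc, hQAl, hQAq, hpι⟩ := exists_image (h ≫ q)
    have hQa := antiAffine_of_cover p hpc
    haveI : IsProper QA.hom := by rw [← Over.w ιA]; infer_instance
    have hQc := (Groth.Agent.S3293.result k QA ((GrpScheme.AntiAffine.bijective_iff_isIso QA).mpr hQa)).1
    have hQs : Smooth QA.hom := GrpAff.smooth_of_antiAffine QA hQa
    rcases hA QA ιA hQs hQc with hιiso | htriv
    · exfalso
      haveI : IsIso ιA.left := inferInstanceAs (IsIso ((Over.forget _).map ιA))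
      haveI : Surjective (h ≫ q).left := by
        haveI := hpc.surj
        rw [← hpι, Over.comp_left]; infer_instance
      have hsurj : Surjective ((h ⊗ₘ i) ≫ μ[G]).left := surjective_mul h i fun {T} g => by
        let T' := pullback (h ≫ q) (g ≫ q)
        let r : T' ⟶ T := pullback.snd _ _
        let n : T' ⟶ H := pullback.fst _ _
        haveI hr : Surjective r.left := MorphismProperty.of_isPullback
          ((IsPullback.of_hasPullback (h ≫ q) (g ≫ q)).map (Over.forget _)) ‹Surjective (h ≫ q).left›
        obtain ⟨m, hm, -⟩ := hq.exists_lift ((n ≫ h)⁻¹ * (r ≫ g)) (toUnit T') (by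
          rw [MonObj.mul_comp, GrpObj.inv_comp, Category.assoc, Category.assoc,
            show n ≫ h ≫ q = r ≫ g ≫ q from pullback.condition, inv_mul_cancel, Hom.one_def])
        exact ⟨T', r, n, m, hr, by rw [hm, mul_inv_cancel_left]⟩
      obtain ⟨g, hg⟩ := (surjective_and_smallest i hni q hq (𝟙 G) hGa
        (fun M₁ _ _ _ j₁ _ _ _ => ⟨j₁, Category.comp_id _⟩)).2 H h hsurj
      haveI : IsSplitEpi h := IsSplitEpi.mk' ⟨g, hg⟩
      exact hne (isIso_of_mono_of_isSplitEpi h)
    · haveI : IsIso QA.hom := htriv
      have hp1 : p = 1 := Over.OverMorphism.ext ((cancel_mono QA.hom).1 (by rw [Over.w, Over.w]))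
      obtain ⟨v, hv, -⟩ := hq.exists_lift h (toUnit H) (by rw [← hpι, hp1, MonObj.one_comp, Hom.one_def])
      haveI : IsClosedImmersion (v.left ≫ i.left) := by rw [← Over.comp_left, hv]; infer_instance
      haveI : IsClosedImmersion v.left := IsClosedImmersion.of_comp v.left i.left
      haveI : IsAffine H.left := isAffine_of_isAffineHom v.left
      exact isIso_hom_of_isAffine H

end Groth.Agent.S18075
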