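import Groth.Statements.S18079
import Groth.Agent.S18072
import Groth.Agent.GrpScheme.IsogenySub
import Groth.Agent.Borel50.BaseChange
-- import your own Groth.Agent.* helpers here

set_option autoImplicit false
set_option backward.isDefEq.respectTransparency false
universe u
open CategoryTheory MonoidalCategory CartesianMonoidalCategory MonObj GrpObj AlgebraicGeometry CategoryTheory.Limits
open AlgGrp

namespace Groth.Agent.S18079

/-- Let k be a field with algebraic closure k̄ and f : G → H an isogeny of algebraic k-groups (a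
surjective homomorphism of k-group schemes of finite type with finite kernel, i.e. surjective and
finite). Then for every d, G_{k̄} contains a smooth connected unipotent subgroup of dimension at
least d (unipotent: no non-trivial subtorus) if and only if H_{k̄} does; that is, d_u(G) = d_u(H). -/
theorem result (k : Type u) [Field k]
    (G H : Over (Spec (CommRingCat.of k))) [GrpObj G] [LocallyOfFiniteType G.hom] [QuasiCompact G.hom]
    [GrpObj H] [LocallyOfFiniteType H.hom] [QuasiCompact H.hom]
    (f : G ⟶ H) [IsMonHom f] [Surjective f.left] [IsFinite f.left] (d : ℕ) :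
    (∃ (U : Over (Spec (CommRingCat.of (AlgebraicClosure k)))) (_ : GrpObj U) (i : U ⟶ Red.bc (Spec.map (CommRingCat.ofHom (algebraMap k (AlgebraicClosure k)))) G), IsMonHom i ∧ IsClosedImmersion i.left ∧
        Smooth U.hom ∧ IsAffine U.left ∧ ConnectedSpace ↥U.left ∧ Red.HasNoSubtorus (AlgebraicClosure k) U ∧
        (d : WithBot ℕ∞) ≤ topologicalKrullDim ↥U.left) ↔
    (∃ (U : Over (Spec (CommRingCat.of (AlgebraicClosure k)))) (_ : GrpObj U) (i : U ⟶ Red.bc (Spec.map (CommRingCat.ofHom (algebraMap k (AlgebraicClosure k)))) H), IsMonHom i ∧ IsClosedImmersion i.left ∧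
        Smooth U.hom ∧ IsAffine U.left ∧ ConnectedSpace ↥U.left ∧ Red.HasNoSubtorus (AlgebraicClosure k) U ∧
        (d : WithBot ℕ∞) ≤ topologicalKrullDim ↥U.left) := by
  let φ := Spec.map (CommRingCat.ofHom (algebraMap k (AlgebraicClosure k)))
  have : LocallyOfFiniteType (Red.bc φ G).hom := inferInstanceAs (LocallyOfFiniteType (pullback.snd G.hom φ))
  have : QuasiCompact (Red.bc φ G).hom := inferInstanceAs (QuasiCompact (pullback.snd G.hom φ))
  have : LocallyOfFiniteType (Red.bc φ H).hom := inferInstanceAs (LocallyOfFiniteType (pullback.snd H.hom φ))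
  have : QuasiCompact (Red.bc φ H).hom := inferInstanceAs (QuasiCompact (pullback.snd H.hom φ))
  have : Surjective ((Over.pullback φ).map f).left := LimGrp.property_map @Surjective φ f ‹_›
  have : IsFinite ((Over.pullback φ).map f).left := LimGrp.property_map @IsFinite φ f ‹_›
  constructor
  · rintro ⟨U, gU, i, hi, hic, hUs, hUa, hUc, hUp, hUd⟩
    have : QuasiCompact U.hom := by rw [← Over.w i]; infer_instance
    obtain ⟨X, gX, π, χ, hπ, hχ, hχc, hπf, hπs, hXs, hXq, hXc, -, hdim, haff⟩ :=
      GrpScheme.IsogenySub.exists_image (G := Red.bc φ G) (H := Red.bc φ H) ((Over.pullback φ).map f) i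
    exact ⟨X, gX, χ, hχ, hχc, hXs, haff hUa, hXc, (S18072.hasNoSubtorus_iff π).1 hUp, hdim ▸ hUd⟩
  · rintro ⟨U, gU, i, hi, hic, hUs, hUa, hUc, hUp, hUd⟩
    have : QuasiCompact U.hom := by rw [← Over.w i]; infer_instance
    obtain ⟨P, gP, p, f₀, hp, hpc, hPs, hPq, hPc, hf, hff, hfs, -, hdim, haff⟩ :=
      GrpScheme.IsogenySub.exists_preimage (G := Red.bc φ G) (H := Red.bc φ H) ((Over.pullback φ).map f) i
    exact ⟨P, gP, p, hp, hpc, hPs, haff hUa, hPc, (S18072.hasNoSubtorus_iff f₀).2 hUp, hdim.symm ▸ hUd⟩

end Groth.Agent.S18079
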