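import Groth.Statements.S1808
import Groth.Agent.TopDual.AdjBound

set_option autoImplicit false
universe u
open CategoryTheory CategoryTheory.Limits AlgebraicGeometry
attribute [local instance] HasDerivedCategory.standard
open Dual

namespace Groth.Agent.S1808

/-- Let A be a Noetherian local ring with normalized dualizing complex ω_A^• and ω_A = H^{−dim
A}(ω_A^•); let X be proper over Spec A with Rf_* on D_QCoh assumed to exist and to preserve
quasi-coherence of cohomology, a a right adjoint of it, and W an object of D_QCoh(Spec A) isomorphic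
to the derived tilde of ω_A^• (tilde assumed left exact). Put ω_X = H^{−dim X}(a(W)). Let d be the
dimension of the closed fibre and suppose dim X = d + dim A. Then there is an A-linear map t :
H^d(X, ω_X) → ω_A such that for every coherent O_X-module F and every A-linear ψ : H^d(X, F) → ω_A
there is exactly one φ : F → ω_X with ψ = t ∘ H^d(φ); that is, ω_X represents F ↦ Hom_A(H^d(X, F),
ω_A). -/
theorem result (A : Type u) [CommRing A] [IsLocalRing A] [IsNoetherianRing A] (ω : Dual.D A) (hω : Dual.IsDualizing A ω) (hn : Dual.IsNormalized A ω) (dA : ℕ) (hdA : ringKrullDim A = dA) (X : Scheme.{u}) [X.Over (Spec (CommRingCat.of A))] [IsProper (X ↘ Spec (CommRingCat.of A))] [DCoh.HasRpush (X ↘ Spec (CommRingCat.of A))] (h : ∀ K : DCoh.D X, DCoh.IsQCohD K → DCoh.IsQCohD ((DCoh.Rpush (X ↘ Spec (CommRingCat.of A))).obj K)) (a : DCoh.DQCoh (Spec (CommRingCat.of A)) ⥤ DCoh.DQCoh X) (adj : (ObjectProperty.lift DCoh.IsQCohD (ObjectProperty.ι DCoh.IsQCohD ⋙ DCoh.Rpush (X ↘ Spec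 (CommRingCat.of A))) (fun K => h K.obj K.property)) ⊣ a) [PreservesFiniteLimits (tilde.functor (CommRingCat.of A))] (W : DCoh.DQCoh (Spec (CommRingCat.of A))) (hW : Nonempty (W.obj ≅ (DCoh.tildeD (CommRingCat.of A)).obj ω)) (dX d : ℕ) (hdX : topologicalKrullDim X = dX) (hd : topologicalKrullDim ((X ↘ Spec (CommRingCat.of A)).fiber (IsLocalRing.closedPoint A)) = d) (hdim : dX = d + dA) : ∃ t : Coh.HH X (DCoh.HD (a.obj W).obj (-(dX : ℤ))) d →ₗ[A] Dual.HD A ω (-(dA : ℤ)), ∀ (F : X.Modules), Coh.IsCoh F → ∀ ψ : Coh.HH X F d →ₗ[A] Dual.HD A ω (-(dA : ℤ)), ∃! φ : F ⟶ DCoh.HD (a.obj W).obj (-(dX : ℤ)), ∀ x : Coh.HH X F d, ψ x = t (Sheaf.H.map ((SheafOfModules.toSheaf X.ringCatSheaf).map φ) d x) := by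
  let f := X ↘ Spec (CommRingCat.of A)
  let m : ℤ := -(dA : ℤ)
  let k : ℤ := -(dX : ℤ)
  have hfib := TopDual.fibre_bound f (d : WithBot ℕ∞) hd.le
  obtain ⟨w⟩ := hW
  let R := DCoh.tildeD (CommRingCat.of A)
  have hωge := TopDual.isGE_of_normalized hω hn dA hdA
  have hBge : (a.obj W).obj.IsGE k := by
    have := TopDual.isGE_adjoint_of_models h a adj d hfib ω m hωge W w
    rwa [show m - (d : ℤ) = k by omega] at this
  let B := (a.obj W).obj
  let ωX := DCoh.HD B k
  have hωX : Coh.IsQCoh ωX := (a.obj W).property k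
  obtain ⟨T, hT⟩ := TopDual.exists_topEquiv (A := A) (X := X) d k m (by omega)
  obtain ⟨Mω, jω, Tω, -, hTω⟩ := TopDual.exists_model_equiv h d hfib k m (by omega) T ωX hωX
  obtain ⟨c, hc⟩ := (KFlat.TruncHom.Φ_bijective_of_isGE_self ωX k B hBge).2 (𝟙 _)
  let Pω : DCoh.DQCoh X := ⟨_, TopDual.isQCohD_single hωX k⟩
  obtain ⟨gω, hgω⟩ := (TopDual.full_tildeD (A := A)).map_surjective (jω.hom ≫ TopDual.toW f adj w Pω c)
  refine ⟨(TopDual.evalAt A m ω).toLinearMap ∘ₗ (Linear.rightComp A _ gω) ∘ₗ Tω.toLinearMap,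
    fun F hF ψ => ?_⟩
  obtain ⟨M, j, T', hM, hT'⟩ := TopDual.exists_model_equiv h d hfib k m (by omega) T F hF.1
  obtain ⟨g, hg, hguniq⟩ := TopDual.exists_unique_postcomp A M ω m hM hωge
    ((TopDual.evalAt A m ω).symm.toLinearMap ∘ₗ ψ ∘ₗ T'.symm.toLinearMap)
  let P : DCoh.DQCoh X := ⟨_, TopDual.isQCohD_single hF.1 k⟩
  have := TopDual.full_tildeD (A := A)
  have := TopDual.faithful_tildeD (A := A)
  let γ : (F ⟶ ωX) → (M ⟶ ω) := fun φ => R.preimage
    (j.hom ≫ TopDual.toW f adj w P ((DerivedCategory.singleFunctor X.Modules k).map φ ≫ c))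
  have hΦc : ∀ φ : F ⟶ ωX, KFlat.TruncHom.Φ F k B
      ((DerivedCategory.singleFunctor X.Modules k).map φ ≫ c) = φ := fun φ => by
    rw [KFlat.TruncHom.Φ_apply, Functor.map_comp, ← Category.assoc]
    refine (congrArg (· ≫ (DerivedCategory.homologyFunctor X.Modules k).map c)
      ((DerivedCategory.singleFunctorCompHomologyFunctorIso X.Modules k).inv.naturality φ).symm).trans ?_
    refine (Category.assoc _ _ _).trans ?_
    exact (congrArg (φ ≫ ·) hc).trans (Category.comp_id φ)
  have hγ : Function.Bijective γ := by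
    constructor
    · intro φ φ' hφ
      have h1 : R.map (γ φ) = R.map (γ φ') := congrArg R.map hφ
      simp only [γ, R.map_preimage, cancel_epi] at h1
      rw [← hΦc φ, ← hΦc φ', (TopDual.toW_bijective f adj w P).1 h1]
    · intro g
      obtain ⟨v, hv⟩ := (TopDual.toW_bijective f adj w P).2 (j.inv ≫ R.map g)
      refine ⟨KFlat.TruncHom.Φ F k B v, R.map_injective ?_⟩
      have : (DerivedCategory.singleFunctor X.Modules k).map (KFlat.TruncHom.Φ F k B v) ≫ c = v :=
        (KFlat.TruncHom.Φ_bijective_of_isGE_self F k B hBge).1 (hΦc _)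
      change R.map (R.preimage _) = _
      rw [R.map_preimage, this, hv, Iso.hom_inv_id_assoc]
  have ht : ∀ (φ : F ⟶ ωX) (x : Coh.HH X F d),
      TopDual.evalAt A m ω (Tω (Sheaf.H.map ((SheafOfModules.toSheaf X.ringCatSheaf).map φ) d x) ≫ gω) =
        TopDual.evalAt A m ω (T' x ≫ γ φ) := fun φ x => by
    refine congrArg _ (R.map_injective ?_)
    rw [Functor.map_comp, Functor.map_comp, hgω, R.map_preimage, TopDual.toW_comp f adj w P Pω,
      ← Category.assoc, hTω, hT, ← Category.assoc (R.map (T' x)), hT']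
    simp only [Category.assoc]
    rfl
  obtain ⟨φ, hφ⟩ := hγ.2 g
  refine ⟨φ, fun x => ?_, fun φ' hφ' => hγ.1 ((hguniq _ fun s => ?_).trans hφ.symm)⟩
  · have := hg (T' x)
    simp only [LinearMap.comp_apply, LinearEquiv.coe_coe, LinearEquiv.symm_apply_apply] at this
    refine ((TopDual.evalAt A m ω).apply_symm_apply (ψ x)).symm.trans ?_
    rw [this, ← hφ]
    exact (ht φ x).symm
  · obtain ⟨x, rfl⟩ := T'.surjective s
    simp only [LinearMap.comp_apply, LinearEquiv.coe_coe, LinearEquiv.symm_apply_apply]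
    rw [hφ' x]
    exact (congrArg (TopDual.evalAt A m ω).symm (ht φ' x)).trans ((TopDual.evalAt A m ω).symm_apply_apply _)

end Groth.Agent.S1808
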