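import Groth.Statements.S18097
import Groth.Agent.GrpScheme.Special.Spread
-- import your own Groth.Agent.* helpers here

set_option autoImplicit false
set_option backward.isDefEq.respectTransparency false
set_option synthInstance.maxHeartbeats 400000
set_option maxHeartbeats 1600000
universe u
open CategoryTheory MonoidalCategory CartesianMonoidalCategory MonObj GrpObj AlgebraicGeometry CategoryTheory.Limits
open AlgGrp

namespace Groth.Agent.S18097

/-- Let k be an algebraically closed field, F an algebraically closed field extension of k, G an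
algebraic k-group (a k-group scheme of finite type) and d a natural number. Then G_F contains a
smooth connected solvable closed subgroup of dimension at least d if and only if G does; that is,
D'_s(k, G) = D'_s(F, G). -/
theorem result (k : Type u) [Field k] [IsAlgClosed k]
    (F : Type u) [Field F] [IsAlgClosed F] [Algebra k F]
    (G : Over (Spec (CommRingCat.of k))) [GrpObj G] [LocallyOfFiniteType G.hom] [QuasiCompact G.hom] (d : ℕ) :
    (∃ (U : Over (Spec (CommRingCat.of F))) (_ : GrpObj U) (i : U ⟶ Red.bc (Spec.map (CommRingCat.ofHom (algebraMap k F))) G), IsMonHom i ∧ IsClosedImmersion i.left ∧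
        Smooth U.hom ∧ ConnectedSpace ↥U.left ∧ Red.IsSolvableGrp U ∧ (d : WithBot ℕ∞) ≤ topologicalKrullDim ↥U.left) ↔
    (∃ (U : Over (Spec (CommRingCat.of k))) (_ : GrpObj U) (i : U ⟶ G), IsMonHom i ∧ IsClosedImmersion i.left ∧
        Smooth U.hom ∧ ConnectedSpace ↥U.left ∧ Red.IsSolvableGrp U ∧ (d : WithBot ℕ∞) ≤ topologicalKrullDim ↥U.left) := by
  constructor
  · rintro ⟨H, gH, i, hi, hic, hHs, hHc, hp, hd⟩
    obtain ⟨R, gR, r, hr, hrc, hRs, hRc, hdim, hw⟩ := GrpScheme.Special.exists_descend G H i
    exact ⟨R, gR, r, hr, hrc, hRs, hRc, (S18072.solvable_iff R).2 (((S18072.solvable_iff H).1 hp).imp fun n hn => hw.1 n hn), hd.trans hdim⟩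
  · rintro ⟨U, gU, i, hi, hic, hUs, hUc, hp, hd⟩
    let φ := Spec.map (CommRingCat.ofHom (algebraMap k F))
    have : QuasiCompact U.hom := by rw [← Over.w i]; infer_instance
    refine ⟨Red.bc φ U, inferInstance, (Over.pullback φ).map i, inferInstance,
      LimGrp.property_map @IsClosedImmersion φ i hic, inferInstanceAs (Smooth (pullback.snd U.hom φ)),
      Borel50.BaseChange.connectedSpace_bc φ U,
      (S18072.solvable_iff _).2 (((S18072.solvable_iff U).1 hp).imp fun n hn => GrpScheme.Special.word_bc φ U n hn), ?_⟩
    exact hd.trans_eq (S4642.result (K := F) U.hom).symm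

end Groth.Agent.S18097
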