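import Groth.Statements.S18100
import Groth.Agent.GrpGen19.Basic
import Groth.Agent.GrpScheme.Component
import Groth.Agent.GrpdLib.GrpOver
import Groth.Agent.AbVarLib.Rigidity
import Groth.Agent.AbVarLib.Basics
import Groth.Agent.GrpScheme.AntiAffine
import Groth.Agent.GrpScheme.OrbitDim
import Groth.Agent.VarDim.Scheme
-- import your own Groth.Agent.* helpers here

set_option autoImplicit false
universe u
open CategoryTheory MonoidalCategory CartesianMonoidalCategory MonObj GrpObj AlgebraicGeometry CategoryTheory.Limits
open AlgGrp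

namespace Groth.Agent.S18100

set_option backward.isDefEq.respectTransparency false
set_option maxHeartbeats 1600000
set_option synthInstance.maxHeartbeats 400000

open Groth.Agent.GrpScheme Groth.Agent.GrpGen19

variable {k : Type u} [Field k]

lemma tensor_facts (X W : Over (Spec (CommRingCat.of k))) [IsProper X.hom] [IsProper W.hom]
    [GeometricallyIrreducible X.hom] [GeometricallyIrreducible W.hom] :
    IsProper (X ⊗ W).hom ∧ GeometricallyIrreducible (X ⊗ W).hom :=
  ⟨inferInstanceAs (IsProper (pullback.fst X.hom W.hom ≫ X.hom)),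
    GeometricallyIrreducible.comp (pullback.fst X.hom W.hom) X.hom⟩

lemma word_facts (X : Over (Spec (CommRingCat.of k))) [IsProper X.hom] [GeometricallyIrreducible X.hom] :
    ∀ l : List Bool, IsProper (word X l).hom ∧ GeometricallyIrreducible (word X l).hom
  | [] => ⟨inferInstanceAs (IsProper (𝟙 _)), by
      show GeometricallyIrreducible (𝟙 (Spec (CommRingCat.of k)))
      refine ⟨geometrically_iff_of_commRing_of_isClosedUnderIsomorphisms.mpr fun L _ _ => ?_⟩
      let e := (asIso (pullback.snd (𝟙 (Spec (CommRingCat.of k))) (Spec.map (CommRingCat.ofHom (algebraMap k L)))))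
      exact e.inv.surjective.irreducibleSpace e.inv.continuous⟩
  | b :: l => by
      obtain ⟨_, _⟩ := word_facts X l
      exact tensor_facts X (word X l)

/-- The closed subgroup generated by a proper geometrically integral scheme meeting the unit in this way is proper. -/
theorem exists_proper_subgroup {G X Z : Over (Spec (CommRingCat.of k))} [GrpObj G] [LocallyOfFiniteType G.hom]
    [QuasiCompact G.hom] [IsProper X.hom] [GeometricallyReduced X.hom] [GeometricallyIrreducible X.hom]
    [Surjective Z.hom] (f : X ⟶ G) (δ : Z ⟶ X) (hδ : δ ≫ f = 1) :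
    ∃ (Γ : Over (Spec (CommRingCat.of k))) (_ : GrpObj Γ) (i : Γ ⟶ G), IsMonHom i ∧ IsClosedImmersion i.left ∧
      IsProper Γ.hom ∧ GeometricallyIntegral Γ.hom ∧ ∃ f' : X ⟶ Γ, f' ≫ i = f := by
  let := (⟨G.hom⟩ : G.left.Over (Spec (CommRingCat.of k)))
  have : LocallyOfFiniteType (G.left ↘ Spec (CommRingCat.of k)) := ‹LocallyOfFiniteType G.hom›
  have : IsSeparated G.hom := GrpdLib.GrpOver.isSeparated_hom G
  have hδl : ∀ l, ∃ d : Z ⟶ word X l, d ≫ wordMap f l = 1 := by
    intro l
    induction l with
    | nil => exact ⟨toUnit Z, by simp [wordMap]⟩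
    | cons b l ih =>
      obtain ⟨d, hd⟩ := ih
      refine ⟨lift δ d, ?_⟩
      show lift δ d ≫ ((fst X (word X l) ≫ letter f b) * (snd X (word X l) ≫ wordMap f l)) = 1
      cases b <;> simp [letter, hδ, hd, MonObj.comp_mul, GrpObj.comp_inv]
  have hmono : ∀ l l', Set.range (wordMap f l).left ⊆ Set.range (wordMap f (l ++ l')).left ∧
      Set.range (wordMap f l').left ⊆ Set.range (wordMap f (l ++ l')).left := by
    intro l l'
    obtain ⟨σ, hσ⟩ := exists_append f l l'
    obtain ⟨d, hd⟩ := hδl l
    obtain ⟨d', hd'⟩ := hδl l'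
    constructor
    · have e : lift (fst (word X l) Z) (snd _ Z ≫ d') ≫ σ ≫ wordMap f (l ++ l') = fst _ Z ≫ wordMap f l := by
        simp [hσ, hd', MonObj.comp_mul]
      have : Surjective (fst (word X l) Z).left :=
        inferInstanceAs (Surjective (pullback.fst (word X l).hom Z.hom))
      rintro _ ⟨w, rfl⟩
      obtain ⟨z, rfl⟩ := (fst (word X l) Z).left.surjective w
      exact ⟨(lift (fst (word X l) Z) (snd _ Z ≫ d') ≫ σ).left z, congr(($e).left z)⟩
    · have e : lift (fst Z (word X l') ≫ d) (snd Z (word X l')) ≫ σ ≫ wordMap f (l ++ l') =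
          snd Z _ ≫ wordMap f l' := by
        simp [hσ, hd, MonObj.comp_mul]
      have : Surjective (snd Z (word X l')).left :=
        inferInstanceAs (Surjective (pullback.snd Z.hom (word X l').hom))
      rintro _ ⟨w, rfl⟩
      obtain ⟨z, rfl⟩ := (snd Z (word X l')).left.surjective w
      exact ⟨(lift (fst Z (word X l') ≫ d) (snd Z (word X l')) ≫ σ).left z, congr(($e).left z)⟩
  have hclosed : ∀ l, IsClosed (Set.range (wordMap f l).left) := fun l => by
    obtain ⟨_, _⟩ := word_facts X l
    have : IsProper ((wordMap f l).left ≫ G.hom) := by rw [Over.w]; infer_instance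
    have : IsProper (wordMap f l).left := IsProper.of_comp (wordMap f l).left G.hom
    exact (wordMap f l).left.isClosedMap.isClosed_range
  have hgen : ∀ l, ∃ ξ : G.left, IsGenericPoint ξ (Set.range (wordMap f l).left) := fun l => by
    obtain ⟨_, _⟩ := word_facts X l
    have : IrreducibleSpace (word X l).left :=
      GeometricallyIrreducible.irreducibleSpace_of_subsingleton (word X l).hom
    exact QuasiSober.sober (Set.image_univ (f := (wordMap f l).left) ▸
      (IrreducibleSpace.isIrreducible_univ _).image _ (wordMap f l).left.continuous.continuousOn) (hclosed l)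
  choose ξ hξ using hgen
  obtain ⟨N, hN⟩ : ∃ N, ∀ x : G.left, VarDim.dimPt k G.left x ≤ N := by
    have : IsLocallyNoetherian G.left := LocallyOfFiniteType.isLocallyNoetherian G.hom
    have : CompactSpace G.left := QuasiCompact.compactSpace_of_compactSpace G.hom
    have : IsNoetherian G.left := { }
    have hfin : (irreducibleComponents G.left).Finite := TopologicalSpace.NoetherianSpace.finite_irreducibleComponents
    have : Finite (irreducibleComponents G.left) := hfin.to_subtype
    have hgen : ∀ Z : irreducibleComponents G.left, ∃ ξ : G.left, IsGenericPoint ξ (Z : Set G.left) :=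
      fun Z => QuasiSober.sober Z.2.1 (isClosed_of_mem_irreducibleComponents _ Z.2)
    choose gp hgp using hgen
    obtain ⟨N, hN⟩ := (Set.finite_range fun Z => VarDim.dimPt k G.left (gp Z)).bddAbove
    refine ⟨N, fun g => ?_⟩
    have hg := (hgp ⟨_, irreducibleComponent_mem_irreducibleComponents g⟩).specializes mem_irreducibleComponent
    exact (VarDim.exists_ltSeries_of_le k (hg : g ≤ _)).1.trans (hN ⟨_, rfl⟩)
  obtain ⟨m, ⟨l₀, hl₀⟩, hm⟩ : ∃ m ∈ Set.range (fun l => VarDim.dimPt k G.left (ξ l)),
      ∀ m' ∈ Set.range (fun l => VarDim.dimPt k G.left (ξ l)), m' ≤ m :=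
    Set.exists_max_image _ id ((Set.finite_Iic N).subset (Set.range_subset_iff.2 fun l => hN _))
      (Set.range_nonempty _)
  have hall : ∀ l, Set.range (wordMap f l).left ⊆ Set.range (wordMap f l₀).left := fun l => by
    obtain ⟨h₁, h₂⟩ := hmono l₀ l
    have hs : ξ (l₀ ++ l) ⤳ ξ l₀ := (hξ _).specializes (h₁ (hξ l₀).mem)
    have he : ξ l₀ = ξ (l₀ ++ l) := by
      by_contra hne
      have := VarDim.dimPt_lt_of_lt k
        (lt_iff_le_not_ge.mpr ⟨hs, fun h => hne (Specializes.antisymm h hs).eq⟩)
      have h' := hm _ ⟨l₀ ++ l, rfl⟩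
      beta_reduce at hl₀ h'
      subst hl₀
      omega
    have : Set.range (wordMap f (l₀ ++ l)).left = Set.range (wordMap f l₀).left := by
      rw [← (hξ (l₀ ++ l)).def, ← (hξ l₀).def, he]
    exact h₂.trans this.le
  obtain ⟨Γ, hΓ, i, hi, hic, hf, hgr, hr, -⟩ := exists_generated f
  have : LocallyOfFiniteType Γ.hom := by rw [← Over.w i]; infer_instance
  have : QuasiCompact Γ.hom := by rw [← Over.w i]; infer_instance
  have : IsSeparated Γ.hom := GrpdLib.GrpOver.isSeparated_hom Γ
  have hr' : Set.range i.left = Set.range (wordMap f l₀).left := by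
    rw [hr]
    refine le_antisymm (closure_minimal (Set.iUnion_subset fun l => hall l.down) (hclosed l₀)) ?_
    exact (Set.subset_iUnion (fun l : ULift.{u} (List Bool) => Set.range (wordMap f l.down).left) ⟨l₀⟩).trans
      subset_closure
  obtain ⟨f', hf'⟩ := hf
  obtain ⟨v, hv⟩ := exists_factor_word f i f' hf' l₀
  have hvs : Surjective v.left := ⟨fun y => by
    obtain ⟨w, hw⟩ : i.left y ∈ Set.range (wordMap f l₀).left := hr' ▸ ⟨y, rfl⟩
    exact ⟨w, i.left.isClosedEmbedding.injective (by rw [← hw, ← hv]; rfl)⟩⟩
  obtain ⟨_, _⟩ := word_facts X l₀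
  have : UniversallyClosed (v.left ≫ Γ.hom) := by rw [Over.w]; infer_instance
  have : UniversallyClosed Γ.hom := UniversallyClosed.of_comp_surjective v.left Γ.hom
  have : IsProper Γ.hom := {}
  have : IrreducibleSpace (word X l₀).left :=
    GeometricallyIrreducible.irreducibleSpace_of_subsingleton (word X l₀).hom
  have : IrreducibleSpace Γ.left := v.left.surjective.irreducibleSpace v.left.continuous
  have := Component.geometricallyIrreducible_of_irreducibleSpace Γ
  exact ⟨Γ, hΓ, i, hi, hic, inferInstance,
    GeometricallyIntegral.of_geometricallyReduced_of_geometricallyIrreducible _, f', hf'⟩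

/-- Let k be a field and G a non-trivial anti-affine k-group scheme of finite type with no anti-affine
closed subgroup scheme other than G and the trivial one. Then G is either an abelian variety (proper
over k), or every complete subvariety of G has dimension zero: any closed subscheme of G that is
geometrically integral and proper over k has dimension 0. -/
theorem result (k : Type u) [Field k]
    (G : Over (Spec (CommRingCat.of k))) [GrpObj G] [LocallyOfFiniteType G.hom] [QuasiCompact G.hom] (hG : ¬ Red.IsTrivialGrp G)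
    (hGa : Function.Bijective ((Scheme.ΓSpecIso (CommRingCat.of k)).inv ≫ G.hom.appTop).hom)
    (hmin : ∀ (H : Over (Spec (CommRingCat.of k))) [GrpObj H] (h : H ⟶ G) [IsMonHom h] [IsClosedImmersion h.left], ¬ IsIso h → Function.Bijective ((Scheme.ΓSpecIso (CommRingCat.of k)).inv ≫ H.hom.appTop).hom → Red.IsTrivialGrp H) :
    IsProper G.hom ∨
      ∀ (Z : Over (Spec (CommRingCat.of k))) (z : Z ⟶ G) [IsClosedImmersion z.left] [IsProper Z.hom] [GeometricallyIntegral Z.hom],
        topologicalKrullDim ↥Z.left = 0 := by
  by_cases hp : IsProper G.hom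
  · exact Or.inl hp
  right
  intro Z z _ _ _
  let X := Z ⊗ Z
  have : IsProper X.hom := inferInstanceAs (IsProper (pullback.fst Z.hom Z.hom ≫ Z.hom))
  have : GeometricallyIrreducible X.hom := GeometricallyIrreducible.comp (pullback.fst Z.hom Z.hom) Z.hom
  have : GeometricallyReduced X.hom := geometricallyReduced_tensor Z Z
  let f : X ⟶ G := (fst Z Z ≫ z) * (snd Z Z ≫ z)⁻¹
  obtain ⟨H, hH, i, hi, hic, hHp, hHg, f', hf'⟩ := exists_proper_subgroup f (lift (𝟙 Z) (𝟙 Z))
    (by simp [f, MonObj.comp_mul, GrpObj.comp_inv])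
  have := AbVarLib.Rigidity.isIso_appTop H.hom
  by_cases hiso : IsIso i
  · have : IsIso i.left := inferInstanceAs (IsIso ((Over.forget _).map i))
    refine absurd ?_ hp
    rw [show G.hom = inv i.left ≫ H.hom by rw [IsIso.eq_inv_comp, Over.w]]
    infer_instance
  · have htriv : IsIso H.hom := hmin H i hiso ((GrpScheme.AntiAffine.bijective_iff_isIso H).mpr inferInstance)
    have hf1 : f' = 1 := Over.OverMorphism.ext ((cancel_mono H.hom).1 (by rw [Over.w, Over.w]))
    have : Mono z := Over.mono_of_mono_left z
    have e : fst Z Z = snd Z Z := by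
      rw [← cancel_mono z]
      exact mul_inv_eq_one.1 (by rw [← show f = (fst Z Z ≫ z) * (snd Z Z ≫ z)⁻¹ from rfl, ← hf', hf1, MonObj.one_comp])
    have : Mono Z.hom := ⟨fun {T} a b hab => by
      have := lift (Over.homMk a rfl : Over.mk (a ≫ Z.hom) ⟶ Z) (Over.homMk b hab.symm) ≫= e
      rw [lift_fst, lift_snd] at this
      exact congrArg CommaMorphism.left this⟩
    have : Subsingleton Z.left :=
      Z.hom.injective.subsingleton (β := PrimeSpectrum k)
    have : Nonempty Z.left := ⟨(Z.hom.surjective (IsLocalRing.closedPoint k)).choose⟩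
    refine le_antisymm (topologicalKrullDim_zero_of_discreteTopology Z.left) ?_
    have : Nonempty (TopologicalSpace.IrreducibleCloseds Z.left) :=
      ⟨⟨closure {Classical.arbitrary Z.left}, isIrreducible_singleton.closure, isClosed_closure⟩⟩
    exact Order.krullDim_nonneg

end Groth.Agent.S18100
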