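import Groth.Statements.S18103
import Groth.Agent.GrpScheme.Special.Derived
import Groth.Agent.S4098
import Groth.Agent.S5322
-- import your own Groth.Agent.* helpers here

set_option autoImplicit false
set_option backward.isDefEq.respectTransparency false
set_option synthInstance.maxHeartbeats 400000
set_option maxHeartbeats 1600000
universe u
open CategoryTheory MonoidalCategory CartesianMonoidalCategory MonObj GrpObj AlgebraicGeometry CategoryTheory.Limits
open AlgGrp

namespace Groth.Agent.S18103

open GrpScheme.IdComponent in
lemma neutralSet_field {k : Type u} [Field k] (P : Over (Spec (CommRingCat.of k))) [GrpObj P] :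
    SGA3x.neutralSet P = connectedComponent (e₀ P) := by
  have hsub : Subsingleton ↥(Spec (CommRingCat.of k)) := inferInstanceAs (Subsingleton (PrimeSpectrum k))
  have hu : ∀ x : ↥(Spec (CommRingCat.of k)), P.hom.base ⁻¹' {x} = Set.univ := fun x =>
    Set.eq_univ_of_forall fun _ => hsub.elim _ _
  have he : ∀ p : ↥(𝟙_ (Over (Spec (CommRingCat.of k)))).left,
      η[P].left.base p = e₀ P := fun p => congrArg _ (hsub.elim p (IsLocalRing.closedPoint k))
  refine Set.ext fun y => ⟨fun hy => ?_, fun hy => ?_⟩
  · obtain ⟨p, hp⟩ := Set.mem_iUnion.1 hy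
    rwa [hu, connectedComponentIn_univ, he] at hp
  · refine Set.mem_iUnion.2 ⟨IsLocalRing.closedPoint k, ?_⟩
    rwa [hu, connectedComponentIn_univ]

/-- The neutral component of a geometric fibre. -/
lemma range_fibre {S : Scheme.{u}} (G : Over S) [GrpObj G] (G0 : Over S) [GrpObj G0] (i0 : G0 ⟶ G)
    (h : Set.range i0.left.base = SGA3x.neutralSet G) (s : S) :
    Set.range ((Over.pullback (Red.geomPt s)).map i0).left =
      connectedComponent (GrpScheme.IdComponent.e₀ (Red.geomFibre s G)) := by
  rw [← neutralSet_field]
  refine Eq.trans ?_ (S5322.result S _ (Red.geomPt s) G).symm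
  rw [← h]
  have : ((Over.pullback (Red.geomPt s)).map i0).left =
      pullback.map G0.hom (Red.geomPt s) G.hom (Red.geomPt s) i0.left (𝟙 _) (𝟙 _) (by simp) (by simp) := by
    apply pullback.hom_ext <;> simp
  show Set.range ((Over.pullback (Red.geomPt s)).map i0).left = _
  rw [this]
  refine (Scheme.Pullback.range_map _ _ _ _ _ _ _ _ _).trans ?_
  rw [show Set.range (𝟙 (Spec (CommRingCat.of (AlgebraicClosure (S.residueField s))))) = Set.univ from
    Set.range_eq_univ.2 fun x => ⟨x, rfl⟩, Set.preimage_univ, Set.inter_univ]

/-- Let S be a scheme and G a smooth S-group scheme of finite presentation; for s ∈ S let d_0(s) be the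
dimension of the derived group of the identity component of the geometric fibre of G at s, i.e. the
least dimension of a closed subgroup scheme N of the identity component C (the connected open and
closed subgroup scheme) which is normal in C and contains all commutators of points of C. Then d_0
does not increase under specialization: for every natural number n, if s specializes to s' (that is,
s' lies in the closure of s) and d_0(s) ≤ n, then d_0(s') ≤ n. (The published statement asserts that
d_0 is lower semicontinuous on S, i.e. that the set of points s with d_0(s) ≤ n is closed; the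
published argument reduces to the spectrum of an integral local ring and establishes that this set
is stable under specialization, which is what is stated here. Closedness would in addition need the
set to be locally constructible, which the argument does not address.) -/
theorem result (S : Scheme.{u}) (G : Over S) [GrpObj G]
    [Smooth G.hom] [QuasiCompact G.hom] [QuasiSeparated G.hom] (n : ℕ) :
    StableUnderSpecialization {s : ↥S | ∃ (C : Over (Spec (CommRingCat.of (AlgebraicClosure (S.residueField s))))) (_ : GrpObj C) (c : C ⟶ Red.geomFibre s G)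
      (N : Over (Spec (CommRingCat.of (AlgebraicClosure (S.residueField s))))) (_ : GrpObj N) (i : N ⟶ C),
      IsMonHom c ∧ IsOpenImmersion c.left ∧ IsClosedImmersion c.left ∧ ConnectedSpace ↥C.left ∧
      IsMonHom i ∧ IsClosedImmersion i.left ∧ AlgGrp.IsNormalHom i ∧
      (∀ (T : Over (Spec (CommRingCat.of (AlgebraicClosure (S.residueField s))))) (g h : T ⟶ C), ∃ m : T ⟶ N, g * h * g⁻¹ * h⁻¹ = m ≫ i) ∧
      topologicalKrullDim ↥N.left ≤ (n : WithBot ℕ∞)} := by
  rintro s t hst ⟨C, gC, c, N, gN, i, hc, hco, hcc, hcn, hi, hic, hn, hcom, hd⟩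
  obtain ⟨-, G0, gG0, i0, hi0, hio, hir, hsm, hqc⟩ := S4098.result S G
    ⟨⊤, inferInstanceAs (Smooth (Scheme.Opens.ι ⊤ ≫ G.hom)), fun _ => trivial⟩
  have hfib : ∀ x : S, IsMonHom ((Over.pullback (Red.geomPt x)).map i0) ∧
      IsOpenImmersion ((Over.pullback (Red.geomPt x)).map i0).left ∧
      IsClosedImmersion ((Over.pullback (Red.geomPt x)).map i0).left ∧
      ConnectedSpace ↥(Red.geomFibre x G0).left := fun x => by
    have ho : IsOpenImmersion ((Over.pullback (Red.geomPt x)).map i0).left :=
      LimGrp.property_map @IsOpenImmersion _ i0 hio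
    have hr := range_fibre G G0 i0 hir x
    refine ⟨inferInstance, ho, IsClosedImmersion.of_isPreimmersion _ (hr ▸ isClosed_connectedComponent), ?_⟩
    have hcn := isConnected_connectedComponent (x := GrpScheme.IdComponent.e₀ (Red.geomFibre x G))
    rw [← hr, ← Set.image_univ] at hcn
    refine connectedSpace_iff_univ.2 ⟨?_, ?_⟩
    · exact hcn.1.of_image
    · exact ((Over.pullback (Red.geomPt x)).map i0).left.isOpenEmbedding.isInducing.isPreconnected_image.1 hcn.2
  obtain ⟨hm0, ho0, hc0, hn0⟩ := hfib s
  let c₀ := (Over.pullback (Red.geomPt s)).map i0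
  -- the given component is the fibre of the neutral component
  have hrC : Set.range c.left = connectedComponent (GrpScheme.IdComponent.e₀ (Red.geomFibre s G)) := by
    have he : GrpScheme.IdComponent.e₀ (Red.geomFibre s G) ∈ Set.range c.left :=
      ⟨GrpScheme.IdComponent.e₀ C, by
        rw [GrpScheme.IdComponent.e₀, GrpScheme.IdComponent.e₀, ← Scheme.Hom.comp_apply, ← Over.comp_left,
          IsMonHom.one_hom c]⟩
    refine Set.Subset.antisymm ((isPreconnected_range c.left.continuous).subset_connectedComponent he) ?_
    exact (IsClopen.connectedComponent_subset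
      ⟨c.left.isClosedEmbedding.isClosed_range, c.left.isOpenEmbedding.isOpen_range⟩ he)
  have hr₀ : Set.range c.left = Set.range c₀.left := hrC.trans (range_fibre G G0 i0 hir s).symm
  let l : C ⟶ Red.geomFibre s G0 := Over.homMk (IsOpenImmersion.lift c₀.left c.left hr₀.le)
    (by rw [← Over.w c₀, IsOpenImmersion.lift_fac_assoc, Over.w c])
  let l' : Red.geomFibre s G0 ⟶ C := Over.homMk (IsOpenImmersion.lift c.left c₀.left hr₀.ge)
    (by rw [← Over.w c, IsOpenImmersion.lift_fac_assoc, Over.w c₀])
  have hl : l ≫ c₀ = c := Over.OverMorphism.ext (IsOpenImmersion.lift_fac _ _ _)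
  have hl' : l' ≫ c = c₀ := Over.OverMorphism.ext (IsOpenImmersion.lift_fac _ _ _)
  have : Mono c₀ := Over.mono_of_mono_left _
  have : Mono c := Over.mono_of_mono_left _
  let e : C ≅ Red.geomFibre s G0 := ⟨l, l', by rw [← cancel_mono c, Category.assoc, hl', hl, Category.id_comp],
    by rw [← cancel_mono c₀, Category.assoc, hl, hl', Category.id_comp]⟩
  have : IsMonHom e.hom :=
    { one_hom := by rw [← cancel_mono c₀, Category.assoc, show e.hom ≫ c₀ = c from hl, IsMonHom.one_hom c,
        IsMonHom.one_hom c₀]
      mul_hom := by rw [← cancel_mono c₀, Category.assoc, show e.hom ≫ c₀ = c from hl, IsMonHom.mul_hom c,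
        Category.assoc, IsMonHom.mul_hom c₀, MonoidalCategory.tensorHom_comp_tensorHom_assoc,
        show e.hom ≫ c₀ = c from hl] }
  have hs : GrpScheme.Special.HasDerived (Red.geomFibre s G0) (n : WithBot ℕ∞) :=
    GrpScheme.Special.HasDerived.of_iso (Grp.mkIso' e) ⟨N, gN, i, hi, hic, hn, hcom, hd⟩
  obtain ⟨N', gN', i', h1, h2, h3, h4, h5⟩ := GrpScheme.Special.hasDerived_specialise G0 hst hs
  obtain ⟨hm1, ho1, hc1, hn1⟩ := hfib t
  exact ⟨_, _, (Over.pullback (Red.geomPt t)).map i0, N', gN', i', hm1, ho1, hc1, hn1, h1, h2, h3, h4, h5⟩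

end Groth.Agent.S18103
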