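import Groth.Statements.S18112
-- import your own Groth.Agent.* helpers here

set_option autoImplicit false
universe u
open CategoryTheory CategoryTheory.Limits MonoidalCategory CartesianMonoidalCategory MonObj GrpObj AlgebraicGeometry
open AbVar

namespace Groth.Agent.S18112
section
open Polynomial

/-- A rational polynomial of degree at most `g` with integral values at `0, ..., g` has
coefficients in `(1/g!) ℤ`. -/
theorem factorial_mul_coeff_of_integral_values : ∀ (g : ℕ) (P : ℚ[X]), P.natDegree ≤ g →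
    (∀ m : ℕ, m ≤ g → ∃ z : ℤ, P.eval (m : ℚ) = z) →
    ∃ z : ℕ → ℤ, P = ∑ m ∈ Finset.range (g + 1),
      C ((z m : ℚ) / (m.factorial : ℚ)) * descPochhammer ℚ m := by
  intro g
  induction g with
  | zero =>
    intro P hP hv
    obtain ⟨z, hz⟩ := hv 0 le_rfl
    refine ⟨fun _ => z, ?_⟩
    rw [eq_C_of_natDegree_le_zero hP] at hz ⊢
    simp only [eval_C] at hz
    simp [hz]
  | succ g ih =>
    intro P hP hv
    let c := P.coeff (g + 1)
    let D := descPochhammer ℚ (g + 1)
    have hD : D.natDegree = g + 1 := descPochhammer_natDegree ℚ (g + 1)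
    have hD1 : D.coeff (g + 1) = 1 := by
      have := (monic_descPochhammer ℚ (g + 1)).coeff_natDegree
      rwa [descPochhammer_natDegree] at this
    have hP' : (P - C c * D).natDegree ≤ g := by
      refine natDegree_le_iff_coeff_eq_zero.mpr fun N hN => ?_
      rcases eq_or_lt_of_le (Nat.succ_le_of_lt hN) with h | h
      · rw [← h, coeff_sub, coeff_C_mul, Nat.succ_eq_add_one, hD1, _root_.mul_one, sub_self]
      · rw [coeff_sub, coeff_C_mul, coeff_eq_zero_of_natDegree_lt (lt_of_le_of_lt hP h),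
          coeff_eq_zero_of_natDegree_lt (hD.trans_lt h), mul_zero, sub_zero]
    have hD0 : ∀ m : ℕ, m ≤ g → D.eval (m : ℚ) = 0 := by
      intro m hm
      rw [descPochhammer_eval_eq_descFactorial, Nat.descFactorial_eq_zero_iff_lt.mpr (by omega)]
      simp
    obtain ⟨z, hz⟩ := ih (P - C c * D) hP' (by
      intro m hm
      obtain ⟨w, hw⟩ := hv m (by omega)
      exact ⟨w, by simp [hD0 m hm, hw]⟩)
    obtain ⟨w, hw⟩ := hv (g + 1) le_rfl
    let S : ℤ := ∑ m ∈ Finset.range (g + 1), z m * ((g + 1).choose m : ℤ)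
    have hS : (P - C c * D).eval ((g + 1 : ℕ) : ℚ) = (S : ℚ) := by
      rw [hz, eval_finsetSum]
      push_cast [S]
      refine Finset.sum_congr rfl fun m _ => ?_
      rw [eval_mul, eval_C, ← Nat.cast_add_one, descPochhammer_eval_eq_descFactorial,
        Nat.descFactorial_eq_factorial_mul_choose, Nat.cast_mul]
      field_simp
    have hc : c * ((g + 1).factorial : ℚ) = ((w - S : ℤ) : ℚ) := by
      rw [eval_sub, eval_mul, eval_C, descPochhammer_eval_eq_descFactorial,
        Nat.descFactorial_self, hw] at hS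
      push_cast
      linarith
    refine ⟨fun m => if m = g + 1 then w - S else z m, ?_⟩
    simp only [Finset.sum_range_succ _ (g + 1)]
    rw [if_pos trivial, ← hc, mul_div_assoc,
      div_self (by exact_mod_cast (Nat.factorial_pos _).ne'), _root_.mul_one]
    have : ∑ m ∈ Finset.range (g + 1),
        C (((if m = g + 1 then w - S else z m : ℤ) : ℚ) / (m.factorial : ℚ)) * descPochhammer ℚ m =
        P - C c * D := by
      rw [hz]
      refine Finset.sum_congr rfl fun m hm => ?_
      rw [if_neg (by have := Finset.mem_range.mp hm; omega)]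
    rw [this]
    ring

theorem exists_int_factorial_mul_coeff (g : ℕ) (P : ℚ[X]) (hP : P.natDegree ≤ g)
    (hv : ∀ m : ℕ, m ≤ g → ∃ z : ℤ, P.eval (m : ℚ) = z) :
    ∃ R : ℤ[X], R.map (Int.castRingHom ℚ) = C (g.factorial : ℚ) * P := by
  obtain ⟨z, hz⟩ := factorial_mul_coeff_of_integral_values g P hP hv
  refine ⟨∑ m ∈ Finset.range (g + 1),
    C (z m * ((g.factorial / m.factorial : ℕ) : ℤ)) * descPochhammer ℤ m, ?_⟩
  rw [hz, Finset.mul_sum, Polynomial.map_sum]
  refine Finset.sum_congr rfl fun m hm => ?_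
  have hdvd : m.factorial ∣ g.factorial :=
    Nat.factorial_dvd_factorial (by have := Finset.mem_range.mp hm; omega)
  rw [Polynomial.map_mul, map_C, descPochhammer_map, ← _root_.mul_assoc, ← C_mul]
  congr 2
  rw [eq_intCast, Int.cast_mul, Int.cast_natCast, Nat.cast_div hdvd
    (by exact_mod_cast (Nat.factorial_pos _).ne')]
  ring

theorem factorial_mul_coeff_of_homogeneous (g : ℕ) (Q : ℚ[X]) (hQ : Q.natDegree ≤ g) (b : ℕ)
    (hb : 0 < b) (a₀ : ℤ)
    (hv : ∀ m : ℕ, m ≤ g → ∃ z : ℤ, (b : ℚ) ^ (2 * g) * Q.eval (((a₀ + m : ℤ) : ℚ) / b) = z)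
    (j : ℕ) (hj : j ≤ g) :
    ∃ z : ℤ, (g.factorial : ℚ) * Q.coeff j * (b : ℚ) ^ (2 * g - j) = z := by
  let P₀ : ℚ[X] := C ((b : ℚ) ^ (2 * g)) * Q.comp (C ((b : ℚ)⁻¹) * X)
  let P : ℚ[X] := P₀.comp (X + C (a₀ : ℚ))
  have hdeg : P.natDegree ≤ g := by
    refine natDegree_comp_le.trans ?_
    rw [natDegree_X_add_C, _root_.mul_one]
    refine (natDegree_C_mul_le _ _).trans (natDegree_comp_le.trans ?_)
    calc Q.natDegree * (C ((b : ℚ)⁻¹) * X).natDegree ≤ Q.natDegree * 1 :=
          Nat.mul_le_mul_left _ ((natDegree_C_mul_le _ _).trans natDegree_X_le)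
      _ ≤ g := by omega
  obtain ⟨R, hR⟩ := exists_int_factorial_mul_coeff g P hdeg (by
    intro m hm
    obtain ⟨z, hz⟩ := hv m hm
    refine ⟨z, ?_⟩
    rw [← hz]
    simp only [P, P₀, eval_comp, eval_mul, eval_C, eval_add, eval_X]
    push_cast
    ring_nf)
  refine ⟨(R.comp (X - C a₀)).coeff j, ?_⟩
  have h1 : (R.comp (X - C a₀)).map (Int.castRingHom ℚ) = C (g.factorial : ℚ) * P₀ := by
    rw [map_comp, hR, Polynomial.map_sub, map_X, map_C, Polynomial.mul_comp, C_comp, eq_intCast]
    congr 1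
    rw [comp_assoc, add_comp, X_comp, C_comp, sub_add_cancel, comp_X]
  have h2 := congrArg (fun p => coeff p j) h1
  simp only [coeff_map, coeff_C_mul, P₀, comp_C_mul_X_coeff] at h2
  rw [eq_intCast] at h2
  rw [h2]
  have hb' : (b : ℚ) ≠ 0 := by exact_mod_cast hb.ne'
  rw [inv_pow, pow_sub₀ _ hb' (by omega)]
  ring

theorem factorial_mul_coeff_of_values (g : ℕ) (u v : ℚ) (huv : u < v) (Q : ℚ[X])
    (hQ : Q.natDegree ≤ g)
    (hv : ∀ (a : ℤ) (b : ℕ), 0 < b → u < (a : ℚ) / b → (a : ℚ) / b < v →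
      ∃ z : ℤ, (b : ℚ) ^ (2 * g) * Q.eval ((a : ℚ) / b) = z)
    (j : ℕ) : ∃ z : ℤ, (g.factorial : ℚ) * Q.coeff j = z := by
  rcases lt_or_ge g j with hj | hj
  · exact ⟨0, by simp [coeff_eq_zero_of_natDegree_lt (hQ.trans_lt hj)]⟩
  obtain ⟨N, hN⟩ := exists_nat_gt (((g : ℚ) + 1) / (v - u))
  have hlarge : ∀ b : ℕ, N ≤ b → 0 < b →
      ∃ z : ℤ, (g.factorial : ℚ) * Q.coeff j * (b : ℚ) ^ (2 * g - j) = z := by
    intro b hb hb0
    have hb1 : (0 : ℚ) < b := by exact_mod_cast hb0
    have hbN : ((g : ℚ) + 1) < b * (v - u) := by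
      have : ((g : ℚ) + 1) / (v - u) < b := lt_of_lt_of_le hN (by exact_mod_cast hb)
      rwa [div_lt_iff₀ (by linarith)] at this
    refine factorial_mul_coeff_of_homogeneous g Q hQ b hb0 (⌊u * b⌋ + 1) (fun m hm => ?_) j hj
    refine hv _ b hb0 ?_ ?_
    · rw [lt_div_iff₀ hb1]
      push_cast
      have := Int.lt_floor_add_one (u * b)
      have hm0 : (0 : ℚ) ≤ m := Nat.cast_nonneg m
      linarith
    · rw [div_lt_iff₀ hb1]
      push_cast
      have := Int.floor_le (u * b)
      have hm' : (m : ℚ) ≤ g := by exact_mod_cast hm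
      nlinarith
  obtain ⟨z₁, h₁⟩ := hlarge (N + 1) (by omega) (by omega)
  obtain ⟨z₂, h₂⟩ := hlarge (N + 2) (by omega) (by omega)
  have hcop : IsCoprime (((N + 1 : ℕ) : ℤ) ^ (2 * g - j)) (((N + 2 : ℕ) : ℤ) ^ (2 * g - j)) :=
    IsCoprime.pow ⟨-1, 1, by push_cast; ring⟩
  obtain ⟨x, y, hxy⟩ := hcop
  refine ⟨x * z₁ + y * z₂, ?_⟩
  have hxy' : (x : ℚ) * ((N + 1 : ℕ) : ℚ) ^ (2 * g - j) + (y : ℚ) * ((N + 2 : ℕ) : ℚ) ^ (2 * g - j) = 1 := by
    exact_mod_cast hxy
  push_cast
  rw [← h₁, ← h₂]
  linear_combination (-((g.factorial : ℚ) * Q.coeff j)) * hxy'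

end


/-- Let k be an algebraically closed field of characteristic zero, A an abelian variety over k (a proper
smooth k-group scheme with geometrically connected fibres) of dimension g, (A^t, φ) a given dual
abelian variety of A for the fppf topology with A^t itself an abelian variety, and P an invertible
module on A ×_k A^t whose class is a Poincaré class; for a k-point α of A^t write P_α for the
restriction of P to A × {α}. Let L be an ample invertible O_A-module with an inverse L' (L ⊗ L' ≅
O_A), negative powers of L meaning powers of L'. For a coherent O_A-module G write h^i_gen(G) for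
the generic value of h^i(A, G ⊗ P_α), rendered as the minimum over all k-points α of A^t (the
generic value by semicontinuity), and for b ≥ 1 let b_A : A → A be multiplication by b. Let F be a
coherent O_A-module and i ≥ 0, and consider the i-th cohomological rank function of F with respect
to L, the function on the rationals x = a/b (b ≥ 1) with value b^{-2g} · h^i_gen(b_A^* F ⊗ L^{ab}).
Suppose that on an open interval (u, v), u < v rational, this function agrees with a polynomial Q
with rational coefficients of degree at most g. Then every coefficient of Q lies in (1/g!)ℤ, i.e. g!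
· Q has integer coefficients. (Stated for a coherent module; the source allows any object of the
bounded derived category of coherent modules. The degree bound on Q, which the source takes from the
local polynomiality of rank functions, is made a hypothesis here.) -/
theorem result (k : Type u) [Field k] [IsAlgClosed k] [CharZero k]
    (A At : Over (Spec (CommRingCat.of k))) [GrpObj A] [IsProper A.hom] [Smooth A.hom] [GeometricallyConnected A.hom]
    [GrpObj At] [IsProper At.hom] [Smooth At.hom] [GeometricallyConnected At.hom]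
    (φ : ∀ T : Over (Spec (CommRingCat.of k)), PicF.Cl (PicF.XT A.hom T) → (T ⟶ At))
    (hφ : AbDual.IsDualAV Scheme.fppfPrecoverage A At φ)
    (P : (pullback A.hom At.hom).Modules) (hP : PicF.IsInvertible P)
    (hPξ : AbDual.IsPoincareCl A At φ (PicF.cl P))
    (g : ℕ) (hg : topologicalKrullDim ↥A.left = g)
    (L L' : A.left.Modules) (hL : CohB1.IsAmple L) (hLL' : Nonempty (CohB1.tensorMod L L' ≅ Coh.structureModule A.left))
    (F : A.left.Modules) (hF : Coh.IsCoh F) (i : ℕ) (u v : ℚ) (huv : u < v)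
    (Q : Polynomial ℚ) (hQ : Q.natDegree ≤ g)
    (hpoly : ∀ (a : ℤ) (b : ℕ), 0 < b → u < (a : ℚ) / (b : ℚ) → (a : ℚ) / (b : ℚ) < v →
      ((W4c5cohrankabvar.hgen k P (W4c5cohrankabvar.twist A F L L' b (a * b)) i : ℕ) : ℚ) / (b : ℚ) ^ (2 * g) =
        Q.eval ((a : ℚ) / (b : ℚ)))
    (j : ℕ) : ∃ z : ℤ, (Nat.factorial g : ℚ) * Q.coeff j = (z : ℚ) := by
  refine factorial_mul_coeff_of_values g u v huv Q hQ (fun a b hb h1 h2 => ?_) j
  refine ⟨(W4c5cohrankabvar.hgen k P (W4c5cohrankabvar.twist A F L L' b (a * b)) i : ℕ), ?_⟩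
  rw [← hpoly a b hb h1 h2, Int.cast_natCast]
  field_simp

end Groth.Agent.S18112
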