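import Groth.Statements.S18121
-- import your own Groth.Agent.* helpers here

set_option autoImplicit false
universe u
open Pinch

namespace Groth.Agent.S18121

open Polynomial in
lemma adjoinRoot_decomp {B : Type u} [CommRing B] (b : B) (x : AdjoinRoot (X ^ 2 - C b)) :
    ∃ c₀ c₁ : B, x = algebraMap B _ c₀ + algebraMap B _ c₁ * AdjoinRoot.root (X ^ 2 - C b) := by
  induction x using AdjoinRoot.induction_on with
  | ih q =>
    induction q using Polynomial.induction_on with
    | C a => exact ⟨a, 0, by simp [AdjoinRoot.algebraMap_eq]⟩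
    | add p q hp hq =>
      obtain ⟨a, c, h⟩ := hp
      obtain ⟨a', c', h'⟩ := hq
      exact ⟨a + a', c + c', by simp only [map_add, h, h']; ring⟩
    | monomial n a h =>
      obtain ⟨a', c', h'⟩ := h
      refine ⟨c' * b, a', ?_⟩
      have hr : AdjoinRoot.root (X ^ 2 - C b) ^ 2 = algebraMap B _ b := by
        have := AdjoinRoot.eval₂_root (X ^ 2 - C b)
        simpa [eval₂_sub, sub_eq_zero, AdjoinRoot.algebraMap_eq] using this
      rw [pow_succ X n, ← mul_assoc, map_mul, h', AdjoinRoot.mk_X, map_mul, ← hr]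
      ring

open Polynomial in
lemma adjoinRoot_unique {B : Type u} [CommRing B] (b c₀ c₁ : B)
    (h : algebraMap B (AdjoinRoot (X ^ 2 - C b)) c₀ +
      algebraMap B _ c₁ * AdjoinRoot.root (X ^ 2 - C b) = 0) : c₀ = 0 ∧ c₁ = 0 := by
  rcases subsingleton_or_nontrivial B with hB | hB
  · exact ⟨Subsingleton.elim _ _, Subsingleton.elim _ _⟩
  have h' : AdjoinRoot.mk (X ^ 2 - C b) (C c₁ * X + C c₀) = 0 := by
    rw [map_add, map_mul, AdjoinRoot.mk_X, AdjoinRoot.mk_C, AdjoinRoot.mk_C, add_comm]
    exact h
  have h0 : C c₁ * X + C c₀ = 0 := by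
    by_contra hne
    refine (monic_X_pow_sub_C b two_ne_zero).not_dvd_of_degree_lt hne ?_ (AdjoinRoot.mk_eq_zero.mp h')
    rw [degree_X_pow_sub_C (by norm_num : 0 < 2)]
    exact degree_linear_le.trans_lt (by norm_num)
  constructor
  · simpa using congrArg (fun q => q.coeff 0) h0
  · simpa using congrArg (fun q => q.coeff 1) h0

/-- Let B be a commutative ring, b an element of B, B' := B[z]/(z^2 - b) the rank-two B-algebra with z^2
= b, and Ψ : B[u, v] → B'[t] the B-algebra homomorphism with u ↦ z t and v ↦ t. Then the kernel of Ψ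
is the principal ideal generated by u^2 - b v^2, and a polynomial of B'[t] lies in the image of Ψ as
soon as its constant coefficient lies in B. Equivalently, B[u, v]/(u^2 - b v^2) is the fibre product
of B'[t] and B over B' (for t ↦ 0 and the inclusion of B): the pinching of Spec B' × 𝔸¹ along Spec
B' × {0} by the double cover Spec B' → Spec B is the hypersurface u^2 = b v^2 over B; for B = K[w]
and b = w this is the pinch point u^2 = v^2 w. -/
theorem result (B : Type u) [CommRing B] (b : B) :
    letI Ψ : MvPolynomial (Fin 2) B →ₐ[B] Polynomial (AdjoinRoot (Polynomial.X ^ 2 - Polynomial.C b)) :=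
      MvPolynomial.aeval
        ![Polynomial.C (AdjoinRoot.root (Polynomial.X ^ 2 - Polynomial.C b)) * Polynomial.X, Polynomial.X]
    RingHom.ker Ψ.toRingHom =
        Ideal.span {MvPolynomial.X 0 ^ 2 - MvPolynomial.C b * MvPolynomial.X 1 ^ 2} ∧
      ∀ G : Polynomial (AdjoinRoot (Polynomial.X ^ 2 - Polynomial.C b)),
        (∃ c : B, G.coeff 0 = algebraMap B (AdjoinRoot (Polynomial.X ^ 2 - Polynomial.C b)) c) →
          G ∈ Ψ.range := by
  set Ψ : MvPolynomial (Fin 2) B →ₐ[B] Polynomial (AdjoinRoot (Polynomial.X ^ 2 - Polynomial.C b)) :=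
    MvPolynomial.aeval (R := B) (σ := Fin 2) ![Polynomial.C (AdjoinRoot.root (Polynomial.X ^ 2 - Polynomial.C b)) *
      Polynomial.X, Polynomial.X] with hΨ
  have hz : (AdjoinRoot.root (Polynomial.X ^ 2 - Polynomial.C b)) ^ 2 = algebraMap B (AdjoinRoot (Polynomial.X ^ 2 - Polynomial.C b)) b := by
    have := AdjoinRoot.eval₂_root (Polynomial.X ^ 2 - Polynomial.C b)
    simpa [Polynomial.eval₂_sub, sub_eq_zero, AdjoinRoot.algebraMap_eq] using this
  have hv : ∀ F : Polynomial B, Ψ (Polynomial.aeval (MvPolynomial.X 1) F) =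
      F.map (algebraMap B (AdjoinRoot (Polynomial.X ^ 2 - Polynomial.C b))) := fun F => by
    rw [← Polynomial.aeval_algHom_apply]
    simp [hΨ, Polynomial.aeval_X_left_eq_map]
  have hu : Ψ (MvPolynomial.X 0) = Polynomial.C (AdjoinRoot.root (Polynomial.X ^ 2 - Polynomial.C b)) * Polynomial.X := by simp [hΨ]
  set g : MvPolynomial (Fin 2) B :=
    MvPolynomial.X 0 ^ 2 - MvPolynomial.C b * MvPolynomial.X 1 ^ 2
  have hg : Ψ g = 0 := by
    simp only [g, map_sub, map_mul, map_pow, hu, mul_pow]
    rw [← map_pow Polynomial.C, hz]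
    simp [hΨ]
  have normal : ∀ f, ∃ F G : Polynomial B, g ∣ f - (Polynomial.aeval (MvPolynomial.X 1) F +
      MvPolynomial.X 0 * Polynomial.aeval (MvPolynomial.X 1) G) := by
    intro f
    induction f using MvPolynomial.induction_on with
    | C a => exact ⟨Polynomial.C a, 0, by simp⟩
    | add p q hp hq =>
      obtain ⟨F, G, c, hc⟩ := hp
      obtain ⟨F', G', c', hc'⟩ := hq
      refine ⟨F + F', G + G', c + c', ?_⟩
      simp only [map_add]
      linear_combination hc + hc'
    | mul_X p i hp =>
      obtain ⟨F, G, c, hc⟩ := hp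
      fin_cases i
      · refine ⟨Polynomial.C b * Polynomial.X ^ 2 * G, F,
          c * MvPolynomial.X 0 + Polynomial.aeval (MvPolynomial.X 1) G, ?_⟩
        simp only [Fin.zero_eta, map_mul, map_pow, Polynomial.aeval_X, Polynomial.aeval_C,
          MvPolynomial.algebraMap_eq, g] at hc ⊢
        linear_combination hc * MvPolynomial.X 0
      · refine ⟨F * Polynomial.X, G * Polynomial.X, c * MvPolynomial.X 1, ?_⟩
        simp only [Fin.mk_one, map_mul, Polynomial.aeval_X]
        linear_combination hc * MvPolynomial.X 1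
  refine ⟨le_antisymm (fun f hf => ?_) ?_, fun G hG => ?_⟩
  · obtain ⟨F, G, hFG⟩ := normal f
    rw [Ideal.mem_span_singleton]
    have h0 : Ψ (Polynomial.aeval (MvPolynomial.X 1) F +
        MvPolynomial.X 0 * Polynomial.aeval (MvPolynomial.X 1) G) = 0 := by
      obtain ⟨c, hc⟩ := hFG
      have := congrArg Ψ hc
      rw [map_sub, map_mul, hg, zero_mul, show Ψ f = 0 from hf, zero_sub, neg_eq_zero] at this
      exact this
    rw [map_add, map_mul, hv, hv, hu] at h0
    have hk : ∀ n, F.coeff (n + 1) = 0 ∧ G.coeff n = 0 := fun n => by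
      refine adjoinRoot_unique b _ _ ?_
      have := congrArg (fun q => Polynomial.coeff q (n + 1)) h0
      simp only [Polynomial.coeff_add, Polynomial.coeff_map, mul_assoc, Polynomial.coeff_C_mul,
        Polynomial.coeff_X_mul, Polynomial.coeff_zero] at this
      rw [mul_comm (AdjoinRoot.root (Polynomial.X ^ 2 - Polynomial.C b))] at this
      exact this
    have hF0 : F.coeff 0 = 0 := by
      have := congrArg (fun q => Polynomial.coeff q 0) h0
      refine (adjoinRoot_unique b (F.coeff 0) 0 ?_).1
      simpa [mul_assoc] using this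
    obtain rfl : F = 0 := Polynomial.ext fun n => by
      cases n with
      | zero => simpa using hF0
      | succ n => simpa using (hk n).1
    obtain rfl : G = 0 := Polynomial.ext fun n => by simpa using (hk n).2
    simpa using hFG
  · rw [Ideal.span_le, Set.singleton_subset_iff]
    exact hg
  · have hpos : ∀ (n : ℕ) (x : (AdjoinRoot (Polynomial.X ^ 2 - Polynomial.C b))), Polynomial.monomial (n + 1) x ∈ Ψ.range := fun n x => by
      obtain ⟨a, c, rfl⟩ := adjoinRoot_decomp b x
      refine ⟨Polynomial.aeval (MvPolynomial.X 1) (Polynomial.monomial (n + 1) a) +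
        MvPolynomial.X 0 * Polynomial.aeval (MvPolynomial.X 1) (Polynomial.monomial n c), ?_⟩
      show Ψ _ = _
      rw [map_add, map_mul, hv, hv, hu, Polynomial.map_monomial, Polynomial.map_monomial, map_add,
        mul_assoc, Polynomial.X_mul_monomial, Polynomial.C_mul_monomial, mul_comm (AdjoinRoot.root (Polynomial.X ^ 2 - Polynomial.C b))]
    obtain ⟨a, ha⟩ := hG
    rw [G.as_sum_range]
    refine sum_mem fun n _ => ?_
    cases n with
    | zero =>
      rw [ha]
      exact ⟨MvPolynomial.C a, by simp [hΨ]⟩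
    | succ n => exact hpos n _

end Groth.Agent.S18121
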