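import Groth.Statements.S18122
import Mathlib.Algebra.MvPolynomial.Derivation
import Mathlib.Algebra.MvPolynomial.Division
import Mathlib.Algebra.Polynomial.Expand
import Mathlib.Tactic.LinearCombination

set_option autoImplicit false
universe u
open Pinch

namespace Groth.Agent.S18122

/-- Let K be a field in which 2 ≠ 0, S = K[x, y], and R ⊆ S the K-subalgebra generated by x^2, x y and
y; R is the coordinate ring of the pinch point u^2 = v^2 w (u = x y, v = y, w = x^2) and S is its
normalization. Then restriction along R ⊆ S is a bijection from the K-derivations S → S onto the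
K-derivations R → S: every K-derivation R → S extends uniquely to S. In sheaf terms, the natural
injective map from the tangent sheaf of the normalization to the dual of the pulled-back sheaf of
differentials of the pinch point is an isomorphism. (The text works over an algebraically closed
field of characteristic different from 2 and for every semi-smooth variety; only this model case is
stated, and the computation uses only 2 ≠ 0.) -/
theorem result
    (K : Type u) [Field K] [NeZero (2 : K)] :
    letI R : Subalgebra K (MvPolynomial (Fin 2) K) :=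
      Algebra.adjoin K {MvPolynomial.X 0 ^ 2, MvPolynomial.X 0 * MvPolynomial.X 1, MvPolynomial.X 1}
    ∀ δ : Derivation K R (MvPolynomial (Fin 2) K),
      ∃! D : Derivation K (MvPolynomial (Fin 2) K) (MvPolynomial (Fin 2) K),
        ∀ r : R, D (r : MvPolynomial (Fin 2) K) = δ r := by
  set x : MvPolynomial (Fin 2) K := MvPolynomial.X 0 with hx
  set y : MvPolynomial (Fin 2) K := MvPolynomial.X 1 with hy
  set R : Subalgebra K (MvPolynomial (Fin 2) K) := Algebra.adjoin K {x ^ 2, x * y, y} with hR
  intro δ
  let a : R := ⟨x ^ 2, Algebra.subset_adjoin (by simp)⟩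
  let c : R := ⟨x * y, Algebra.subset_adjoin (by simp)⟩
  let d : R := ⟨y, Algebra.subset_adjoin (by simp)⟩
  have h2 : (MvPolynomial.C (2 : K)⁻¹ : MvPolynomial (Fin 2) K) * 2 = 1 := by
    rw [← map_ofNat (MvPolynomial.C (σ := Fin 2) (R := K)) 2, ← map_mul, inv_mul_cancel₀ (NeZero.ne 2),
      map_one]
  have h2' : (2 : MvPolynomial (Fin 2) K) ≠ 0 := fun h => by simp [h] at h2
  have key : 2 * (x * y) * δ c = y ^ 2 * δ a + 2 * x ^ 2 * y * δ d := by
    have e : c ^ 2 = a * d ^ 2 := Subtype.ext (by simp [a, c, d]; ring)
    have := congrArg δ e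
    rw [δ.leibniz, δ.leibniz_pow, δ.leibniz_pow] at this
    simp only [Subalgebra.smul_def, nsmul_eq_mul, smul_eq_mul, SubmonoidClass.coe_pow, a, c, d] at this
    linear_combination this
  have key' : 2 * x * δ c - 2 * x ^ 2 * δ d = y * δ a := by
    apply mul_left_cancel₀ (show y ≠ 0 from MvPolynomial.X_ne_zero _)
    linear_combination key
  obtain ⟨s, hs⟩ : x ∣ δ a := by
    have hdvd : x ∣ y * δ a := ⟨2 * δ c - 2 * x * δ d, by rw [← key']; ring⟩
    refine ((MvPolynomial.X_prime (i := (0 : Fin 2))).dvd_or_dvd hdvd).resolve_left ?_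
    simp [hx, hy, MvPolynomial.X_dvd_X]
  let D : Derivation K (MvPolynomial (Fin 2) K) (MvPolynomial (Fin 2) K) :=
    MvPolynomial.mkDerivation K ![MvPolynomial.C (2 : K)⁻¹ * s, δ d]
  have Dx : D x = MvPolynomial.C (2 : K)⁻¹ * s := by simp [D, hx]
  have Dy : D y = δ d := by simp [D, hy]
  refine ⟨D, fun r => ?_, fun E hE => ?_⟩
  · obtain ⟨r, hr⟩ := r
    induction hr using Algebra.adjoin_induction with
    | mem z hz =>
      simp only [Set.mem_insert_iff, Set.mem_singleton_iff] at hz
      rcases hz with rfl | rfl | rfl
      · show D (x ^ 2) = δ a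
        rw [D.leibniz_pow, Dx, hs, smul_eq_mul, nsmul_eq_mul]
        linear_combination (x * s) * h2
      · show D (x * y) = δ c
        rw [D.leibniz, Dx, Dy, smul_eq_mul, smul_eq_mul]
        apply mul_left_cancel₀ (mul_ne_zero h2' (show x ≠ 0 from MvPolynomial.X_ne_zero _))
        linear_combination (x * y * s) * h2 - key' - y * hs
      · exact Dy
    | algebraMap k =>
      rw [D.map_algebraMap, show (⟨_, _⟩ : R) = algebraMap K R k from Subtype.ext rfl,
        δ.map_algebraMap]
    | add u v hu hv ihu ihv =>
      rw [map_add, ihu, ihv, ← map_add]; rfl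
    | mul u v hu hv ihu ihv =>
      show D (u * v) = δ ((⟨u, hu⟩ : R) * ⟨v, hv⟩)
      rw [D.leibniz, δ.leibniz, ihu, ihv]; rfl
  · refine MvPolynomial.derivation_ext fun i => ?_
    fin_cases i
    · show E x = D x
      apply mul_left_cancel₀ (mul_ne_zero h2' (show x ≠ 0 from MvPolynomial.X_ne_zero _))
      have := hE a
      rw [E.leibniz_pow, smul_eq_mul, nsmul_eq_mul, hs] at this
      rw [Dx]
      linear_combination this - x * s * h2
    · show E y = D y
      rw [Dy]
      exact hE d

end Groth.Agent.S18122
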