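import Groth.Statements.S18123
import Mathlib.Algebra.MvPolynomial.Derivation
import Mathlib.Algebra.MvPolynomial.Division
import Mathlib.Algebra.Polynomial.Expand
import Mathlib.RingTheory.Adjoin.Polynomial.Basic
import Mathlib.Tactic.LinearCombination

set_option autoImplicit false
universe u
open Pinch

namespace Groth.Agent.S18123

open MvPolynomial in
/-- Restriction to the line `y = 0`. -/
noncomputable def toLine (K : Type u) [Field K] : MvPolynomial (Fin 2) K →ₐ[K] Polynomial K :=
  aeval ![Polynomial.X, 0]

lemma sub_aeval_toLine_dvd (K : Type u) [Field K] (f : MvPolynomial (Fin 2) K) :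
    MvPolynomial.X 1 ∣ f - Polynomial.aeval (MvPolynomial.X 0) (toLine K f) := by
  induction f using MvPolynomial.induction_on with
  | C a => simp [toLine]
  | add p q hp hq =>
    rw [map_add, map_add, add_sub_add_comm]; exact dvd_add hp hq
  | mul_X p i hp =>
    fin_cases i
    · simp only [Fin.zero_eta, map_mul, toLine, MvPolynomial.aeval_X, Matrix.cons_val_zero,
        Polynomial.aeval_X] at hp ⊢
      rw [← sub_mul]; exact hp.mul_right _
    · simp [toLine]

lemma y_mul_mem (K : Type u) [Field K] (g : MvPolynomial (Fin 2) K) :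
    letI R : Subalgebra K (MvPolynomial (Fin 2) K) := Algebra.adjoin K
      {MvPolynomial.X 0 ^ 2, MvPolynomial.X 0 * MvPolynomial.X 1, MvPolynomial.X 1}
    MvPolynomial.X 1 * g ∈ R ∧ MvPolynomial.X 1 * MvPolynomial.X 0 * g ∈ R := by
  induction g using MvPolynomial.induction_on with
  | C a =>
    refine ⟨mul_mem (Algebra.subset_adjoin (by simp)) (Subalgebra.algebraMap_mem _ a),
      mul_mem ?_ (Subalgebra.algebraMap_mem _ a)⟩
    rw [mul_comm]
    exact Algebra.subset_adjoin (by simp)
  | add p q hp hq =>
    exact ⟨by rw [mul_add]; exact add_mem hp.1 hq.1, by rw [mul_add]; exact add_mem hp.2 hq.2⟩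
  | mul_X p i hp =>
    fin_cases i
    · refine ⟨?_, ?_⟩
      · convert hp.2 using 1; simp; ring
      · have := mul_mem (Algebra.subset_adjoin (R := K)
          (s := {MvPolynomial.X (R := K) (0 : Fin 2) ^ 2,
            MvPolynomial.X 0 * MvPolynomial.X 1, MvPolynomial.X 1}) (Set.mem_insert _ _)) hp.1
        convert this using 1; simp; ring
    · refine ⟨?_, ?_⟩
      · exact mul_assoc (MvPolynomial.X 1) p _ ▸ mul_mem hp.1 (Algebra.subset_adjoin (by simp))
      · exact mul_assoc (MvPolynomial.X 1 * MvPolynomial.X 0) p _ ▸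
          mul_mem hp.2 (Algebra.subset_adjoin (by simp))

lemma mem_R_iff (K : Type u) [Field K] (f : MvPolynomial (Fin 2) K) :
    f ∈ Algebra.adjoin K {MvPolynomial.X (0 : Fin 2) ^ 2,
        MvPolynomial.X 0 * MvPolynomial.X 1, MvPolynomial.X 1} ↔
      toLine K f ∈ (Polynomial.expand K 2).range := by
  constructor
  · intro hf
    refine (Algebra.adjoin_le ?_ : _ ≤ (Polynomial.expand K 2).range.comap (toLine K)) hf
    intro z hz
    simp only [Set.mem_insert_iff, Set.mem_singleton_iff] at hz
    rcases hz with rfl | rfl | rfl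
    · exact ⟨Polynomial.X, by simp [toLine]⟩
    · exact ⟨0, by simp [toLine]⟩
    · exact ⟨0, by simp [toLine]⟩
  · rintro ⟨q, hq⟩
    obtain ⟨g, hg⟩ := sub_aeval_toLine_dvd K f
    rw [sub_eq_iff_eq_add.mp hg]
    refine add_mem (y_mul_mem K g).1 ?_
    rw [← hq]
    show Polynomial.aeval _ (Polynomial.expand K 2 q) ∈ _
    rw [Polynomial.expand_aeval]
    refine Algebra.adjoin_mono (s := {MvPolynomial.X (R := K) (0 : Fin 2) ^ 2}) (by simp) ?_
    rw [Algebra.adjoin_singleton_eq_range_aeval]
    exact ⟨q, rfl⟩

/-- Let K be a field in which 2 ≠ 0, S = K[x, y], and R ⊆ S the K-subalgebra generated by x^2, x y, y,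
the coordinate ring of the pinch point with normalization S, obtained by gluing the plane along the
line y = 0 via x ↦ -x. A K-derivation D of S maps R into R if and only if D(y) is a multiple of y
and D(x) = y s + x p(x^2) for some s in S and some polynomial p in one variable. Every K-derivation
R → S extends uniquely to S, and under this identification the derivations mapping R into R form the
image of the tangent sheaf of the pinch point in that of its normalization; so this image contains y
times all derivations of S, and modulo those it is spanned by the odd multiples x^(2k+1) ∂/∂x, the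
part of the tangent sheaf of the line y = 0 invariant under x ↦ -x. (The text works over an
algebraically closed field of characteristic different from 2; the computation uses only 2 ≠ 0.) -/
theorem result
    (K : Type u) [Field K] [NeZero (2 : K)]
    (D : Derivation K (MvPolynomial (Fin 2) K) (MvPolynomial (Fin 2) K)) :
    letI x : MvPolynomial (Fin 2) K := MvPolynomial.X 0
    letI y : MvPolynomial (Fin 2) K := MvPolynomial.X 1
    letI R : Subalgebra K (MvPolynomial (Fin 2) K) := Algebra.adjoin K {x ^ 2, x * y, y}
    (∀ r ∈ R, D r ∈ R) ↔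
      (D y ∈ Ideal.span {y} ∧
        ∃ (s : MvPolynomial (Fin 2) K) (p : Polynomial K), D x = y * s + x * Polynomial.aeval (x ^ 2) p) := by
  constructor
  · intro h
    set x : MvPolynomial (Fin 2) K := MvPolynomial.X 0 with hx
    set y : MvPolynomial (Fin 2) K := MvPolynomial.X 1 with hy
    have hD : ∀ g ∈ ({x ^ 2, x * y, y} : Set _), toLine K (D g) ∈ (Polynomial.expand K 2).range :=
      fun g hg => (mem_R_iff K _).mp (h g (Algebra.subset_adjoin hg))
    obtain ⟨q₁, hq₁⟩ := hD (x ^ 2) (by simp)
    obtain ⟨q₂, hq₂⟩ := hD (x * y) (by simp)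
    obtain ⟨q₃, hq₃⟩ := hD y (by simp)
    set a := toLine K (D x)
    set c := toLine K (D y)
    have ha : Polynomial.expand K 2 q₁ = 2 * (Polynomial.X * a) := by
      rw [show Polynomial.expand K 2 q₁ = _ from hq₁, D.leibniz_pow]
      simp [toLine, a, hx, mul_assoc]
    have hc : Polynomial.expand K 2 q₂ = Polynomial.X * c := by
      rw [show Polynomial.expand K 2 q₂ = _ from hq₂, D.leibniz]
      simp [toLine, c, hx, hy]
    have hcoef : ∀ (r : Polynomial K) (n : ℕ), (Polynomial.expand K 2 r).coeff (2 * n + 1) = 0 :=
      fun r n => by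
        rw [Polynomial.coeff_expand two_pos, if_neg (by omega)]
    have hc0 : c = 0 := by
      ext n
      rcases Nat.even_or_odd' n with ⟨m, rfl | rfl⟩
      · have := hcoef q₂ m
        rw [hc, Polynomial.coeff_X_mul] at this
        simpa using this
      · rw [show c = Polynomial.expand K 2 q₃ from hq₃.symm, hcoef]; simp
    have ha0 : ∀ m, a.coeff (2 * m) = 0 := fun m => by
      have := hcoef q₁ m
      rw [ha, ← map_ofNat Polynomial.C 2, Polynomial.coeff_C_mul, Polynomial.coeff_X_mul] at this
      exact (mul_eq_zero.mp this).resolve_left (NeZero.ne 2)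
    refine ⟨?_, ?_⟩
    · rw [Ideal.mem_span_singleton]
      obtain ⟨g, hg⟩ := sub_aeval_toLine_dvd K (D y)
      exact ⟨g, by rw [← hg, show toLine K (D y) = 0 from hc0, map_zero, sub_zero]⟩
    · obtain ⟨g, hg⟩ := sub_aeval_toLine_dvd K (D x)
      refine ⟨g, Polynomial.contract 2 a.divX, ?_⟩
      have e : a = Polynomial.X * Polynomial.expand K 2 (Polynomial.contract 2 a.divX) := by
        ext n
        cases n with
        | zero => simpa using ha0 0
        | succ n =>
          rw [Polynomial.coeff_X_mul, Polynomial.coeff_expand two_pos]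
          split_ifs with hdvd
          · rw [Polynomial.coeff_contract two_ne_zero, Nat.div_mul_cancel hdvd, Polynomial.coeff_divX]
          · obtain ⟨m, rfl⟩ : ∃ m, n = 2 * m + 1 := ⟨n / 2, by omega⟩
            exact ha0 (m + 1)
      rw [sub_eq_iff_eq_add.mp hg, show toLine K (D x) = _ from e, map_mul, Polynomial.aeval_X,
        Polynomial.expand_aeval]
  · rintro ⟨hy', s, p, hp⟩ r hr
    obtain ⟨t, ht⟩ := Ideal.mem_span_singleton.mp hy'
    set x : MvPolynomial (Fin 2) K := MvPolynomial.X 0 with hx
    set y : MvPolynomial (Fin 2) K := MvPolynomial.X 1 with hy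
    set R : Subalgebra K (MvPolynomial (Fin 2) K) := Algebra.adjoin K {x ^ 2, x * y, y}
    induction hr using Algebra.adjoin_induction with
    | mem z hz =>
      rw [mem_R_iff]
      simp only [Set.mem_insert_iff, Set.mem_singleton_iff] at hz
      rcases hz with rfl | rfl | rfl
      · refine ⟨2 * Polynomial.X * p, ?_⟩
        rw [D.leibniz_pow, hp]
        simp [toLine, hx, hy, ← Polynomial.aeval_algHom_apply, Polynomial.expand_eq_comp_X_pow,
          Polynomial.comp_eq_aeval, map_ofNat]
        ring
      · exact ⟨0, by rw [D.leibniz, ht]; simp [toLine, hy]⟩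
      · exact ⟨0, by rw [ht]; simp [toLine, hy]⟩
    | algebraMap k => rw [D.map_algebraMap]; exact zero_mem _
    | add u v hu hv ihu ihv => rw [map_add]; exact add_mem ihu ihv
    | mul u v hu hv ihu ihv =>
      rw [D.leibniz]
      exact add_mem (mul_mem hu ihv) (mul_mem hv ihu)

end Groth.Agent.S18123
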