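import Groth.Statements.S18125
-- import your own Groth.Agent.* helpers here

set_option autoImplicit false
universe u
open Pinch

namespace Groth.Agent.S18125

/-- Let K be a field in which 2 ≠ 0, n ≥ 0, S = K[u, v, w, t_1, …, t_n] (u, v, w the first three
variables), h = u^2 - v^2 w the equation of the pinch-point model, and Jac the ideal generated by h
and its three partial derivatives 2u, -2vw, -v^2, which cuts out the scheme-theoretic singular locus
of {h = 0}. Then the ideal (u, v) of the double locus is Jac + (v), and the colon ideal of Jac by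
(v) is (u, v, w). Consequently (u, v)/Jac, the ideal of the double locus restricted to the singular
locus, is an invertible sheaf on the pinch locus u = v = w = 0: it is free of rank one over K[t_1,
…, t_n] on the class of v. (The text states this for every semi-smooth variety and reduces to this
model; K algebraically closed is not needed for the model computation.) -/
theorem result
    (K : Type u) [Field K] [NeZero (2 : K)] (n : ℕ) :
    letI u : MvPolynomial (Fin (n + 3)) K := MvPolynomial.X 0
    letI v : MvPolynomial (Fin (n + 3)) K := MvPolynomial.X 1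
    letI w : MvPolynomial (Fin (n + 3)) K := MvPolynomial.X 2
    letI Jac : Ideal (MvPolynomial (Fin (n + 3)) K) :=
      Ideal.span {u ^ 2 - v ^ 2 * w, 2 * u, -(2 * v * w), -(v ^ 2)}
    Ideal.span {u, v} = Jac ⊔ Ideal.span {v} ∧ Jac.colon (Ideal.span {v}) = Ideal.span {u, v, w} := by
  intros
  set u : MvPolynomial (Fin (n + 3)) K := MvPolynomial.X 0 with hu
  set v : MvPolynomial (Fin (n + 3)) K := MvPolynomial.X 1 with hv
  set w : MvPolynomial (Fin (n + 3)) K := MvPolynomial.X 2 with hw
  have hC : (MvPolynomial.C (2 : K)⁻¹ : MvPolynomial (Fin (n + 3)) K) * 2 = 1 := by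
    rw [show (2 : MvPolynomial (Fin (n + 3)) K) = MvPolynomial.C 2 from (map_ofNat MvPolynomial.C 2).symm,
      ← map_mul, inv_mul_cancel₀ (NeZero.ne (2 : K)), map_one]
  have hJ : Ideal.span {u ^ 2 - v ^ 2 * w, 2 * u, -(2 * v * w), -(v ^ 2)} = Ideal.span {u, v * w, v ^ 2} := by
    refine le_antisymm (Ideal.span_le.mpr ?_) (Ideal.span_le.mpr ?_)
    · rintro x (rfl | rfl | rfl | rfl)
      · exact sub_mem (by rw [pow_two]; exact Ideal.mul_mem_left _ _ (Ideal.subset_span (by simp)))
          (Ideal.mul_mem_right _ _ (Ideal.subset_span (by simp)))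
      · exact Ideal.mul_mem_left _ _ (Ideal.subset_span (by simp))
      · exact neg_mem (by rw [mul_assoc]; exact Ideal.mul_mem_left _ _ (Ideal.subset_span (by simp)))
      · exact neg_mem (Ideal.subset_span (by simp))
    · rintro x (rfl | rfl | rfl)
      · have h := Ideal.mul_mem_left (Ideal.span {u ^ 2 - v ^ 2 * w, 2 * u, -(2 * v * w), -(v ^ 2)})
          (MvPolynomial.C (2 : K)⁻¹) (Ideal.subset_span (show 2 * u ∈ _ by simp))
        rwa [← mul_assoc, hC, one_mul] at h
      · have h := Ideal.mul_mem_left (Ideal.span {u ^ 2 - v ^ 2 * w, 2 * u, -(2 * v * w), -(v ^ 2)})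
          (-(MvPolynomial.C (2 : K)⁻¹)) (Ideal.subset_span (show -(2 * v * w) ∈ _ by simp))
        rwa [neg_mul_neg, ← mul_assoc, ← mul_assoc, hC, one_mul] at h
      · have h := neg_mem (Ideal.subset_span (s := {u ^ 2 - v ^ 2 * w, 2 * u, -(2 * v * w), -(v ^ 2)})
          (show -(v ^ 2) ∈ _ by simp))
        rwa [neg_neg] at h
  rw [hJ]
  refine ⟨le_antisymm (Ideal.span_le.mpr ?_) (sup_le (Ideal.span_le.mpr ?_) ?_), le_antisymm ?_ ?_⟩
  · rintro x (rfl | rfl)
    · exact Ideal.mem_sup_left (Ideal.subset_span (by simp))
    · exact Ideal.mem_sup_right (Ideal.subset_span (by simp))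
  · rintro x (rfl | rfl | rfl)
    · exact Ideal.subset_span (by simp)
    · exact Ideal.mul_mem_right _ _ (Ideal.subset_span (by simp))
    · rw [pow_two]; exact Ideal.mul_mem_left _ _ (Ideal.subset_span (by simp))
  · exact Ideal.span_mono (by simp)
  · intro x hx
    have hxv : x * v ∈ Ideal.span {u, v * w, v ^ 2} := by
      have h := Submodule.mem_colon.mp hx v (Ideal.subset_span (Set.mem_singleton v))
      rwa [smul_eq_mul] at h
    classical
    let ψ : MvPolynomial (Fin (n + 3)) K →ₐ[K] MvPolynomial (Fin (n + 3)) K :=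
      MvPolynomial.aeval fun i => if i = 0 then 0 else MvPolynomial.X i
    have hψu : ψ u = 0 := by simp [ψ, hu]
    have hψv : ψ v = v := by simp [ψ, hv]
    have hψw : ψ w = w := by
      have h2 : (2 : Fin (n + 3)) ≠ 0 := by
        intro h
        have := congrArg Fin.val h
        rw [Fin.val_two, Fin.val_zero] at this
        omega
      simp only [ψ, hw, MvPolynomial.aeval_X, if_neg h2]
    have hdiff : ∀ y, y - ψ y ∈ Ideal.span {u} := fun y => by
      induction y using MvPolynomial.induction_on with
      | C r => simp [ψ]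
      | add a b ha hb =>
        rw [map_add, show a + b - (ψ a + ψ b) = a - ψ a + (b - ψ b) by ring]
        exact add_mem ha hb
      | mul_X a i ha =>
        rw [map_mul, show a * MvPolynomial.X i - ψ a * ψ (MvPolynomial.X i) =
          (a - ψ a) * MvPolynomial.X i + ψ a * (MvPolynomial.X i - ψ (MvPolynomial.X i)) by ring]
        refine add_mem (Ideal.mul_mem_right _ _ ha) (Ideal.mul_mem_left _ _ ?_)
        by_cases hi : i = 0
        · subst hi; simp [ψ, hu]
        · simp [ψ, hi]
    obtain ⟨a, z, hz, he⟩ := Ideal.mem_span_insert.mp hxv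
    obtain ⟨b, c, hbc⟩ := Ideal.mem_span_pair.mp hz
    have h := congrArg ψ he
    rw [← hbc] at h
    simp only [map_add, map_mul, map_pow, hψu, hψv, hψw, mul_zero, zero_add] at h
    have h' : ψ x * v = (ψ b * w + ψ c * v) * v := by rw [h]; ring
    have h'' := mul_right_cancel₀ (by rw [hv]; exact MvPolynomial.X_ne_zero 1) h'
    have hd := hdiff x
    rw [h''] at hd
    have hsum := add_mem (Ideal.span_mono (Set.singleton_subset_iff.mpr (Set.mem_insert u {v, w})) hd)
      (add_mem (Ideal.mul_mem_left (Ideal.span {u, v, w}) (ψ b) (Ideal.subset_span (show w ∈ ({u, v, w} : Set _) by simp)))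
        (Ideal.mul_mem_left (Ideal.span {u, v, w}) (ψ c) (Ideal.subset_span (show v ∈ ({u, v, w} : Set _) by simp))))
    rwa [sub_add_cancel] at hsum
  · rw [Ideal.span_le]
    intro x hx
    refine Submodule.mem_colon.mpr fun y hy => ?_
    obtain ⟨r, rfl⟩ := Ideal.mem_span_singleton'.mp hy
    rw [smul_eq_mul, mul_left_comm]
    refine Ideal.mul_mem_left _ _ ?_
    rcases hx with rfl | rfl | rfl
    · exact Ideal.mul_mem_right _ _ (Ideal.subset_span (by simp))
    · rw [← pow_two]; exact Ideal.subset_span (by simp)
    · rw [mul_comm]; exact Ideal.subset_span (by simp)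

end Groth.Agent.S18125
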