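import Groth.Statements.S18126
import Groth.Agent.RGFlat.WeakAssTensor
import Groth.Agent.RegLoc.SupportDim
import Groth.Agent.Gor.LCIFibre
import Groth.Agent.GrDual.GorCriterion
import Groth.Agent.Synt44.NLAmp
import Mathlib.RingTheory.Smooth.Locus
import Mathlib.RingTheory.Ideal.AssociatedPrime.Basic
-- import your own Groth.Agent.* helpers here

set_option autoImplicit false
universe u
open Deform

namespace Groth.Agent.S18126

open TensorProduct

attribute [local instance] Algebra.TensorProduct.rightAlgebra

theorem mem_minimalPrimes_of_isCM {R : Type u} [CommRing R] [hR : LocCoh.IsCohenMacaulayRing R]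
    {p : Ideal R} (hp : p ∈ associatedPrimes R R) : p ∈ minimalPrimes R := by
  haveI : IsNoetherianRing R := inferInstance
  haveI : p.IsPrime := hp.isPrime
  have h0 := RegLoc.SupportDim.depth_localized_eq_zero_iff.mpr hp
  have hcm := (hR.isCohenMacaulayLocalRing_localization p).supportDim_eq_depth
  let e : LocalizedModule p.primeCompl R ≃ₗ[Localization.AtPrime p] Localization.AtPrime p :=
    (IsLocalizedModule.iso p.primeCompl (Algebra.linearMap R (Localization.AtPrime p))).extendScalarsOfIsLocalization
      p.primeCompl _
  rw [Module.supportDim_self_eq_ringKrullDim, IsLocalization.AtPrime.ringKrullDim_eq_height p,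
    Depth.depth_eq_idealDepth, ← Depth.idealDepth_congr e, ← Depth.depth_eq_idealDepth, h0] at hcm
  exact Ideal.height_eq_zero_iff.mp (by exact_mod_cast hcm)

theorem fiber_mem_minimalPrimes {A P : Type u} [CommRing A] [IsNoetherianRing A] [CommRing P] [Algebra A P]
    [Module.Flat A P] (hlci : LCI.IsLCI A P) [Algebra.FiniteType A P]
    (q : Ideal P) [q.IsPrime] (hq : q ∈ associatedPrimes P P) :
    FlatCA.fiberIdeal (q.comap (algebraMap A P)) q ∈ minimalPrimes ((q.comap (algebraMap A P)).Fiber P) := by
  haveI : IsNoetherianRing P := Algebra.FiniteType.isNoetherianRing A P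
  let p := q.comap (algebraMap A P)
  haveI : q.LiesOver p := ⟨rfl⟩
  obtain ⟨-, x, hx⟩ := isAssociatedPrime_iff.1 hq
  have hw : q ∈ FlatCA.weakAss P (P ⊗[A] A) := by
    refine ⟨x ⊗ₜ 1, ?_⟩
    have heq : (Submodule.span P {x ⊗ₜ[A] (1 : A)}).annihilator = q := by
      ext r
      rw [Submodule.mem_annihilator_span_singleton, hx, Submodule.mem_colon_singleton, Submodule.mem_bot,
        TensorProduct.smul_tmul']
      exact ⟨fun h => by simpa using congrArg (TensorProduct.rid A P) h, fun h => by rw [h, TensorProduct.zero_tmul]⟩
    rw [heq]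
    exact ⟨⟨inferInstance, le_rfl⟩, fun _ hb _ => hb.2⟩
  have hflat : FlatCA.FlatAt A q P := by
    haveI : Module.Flat P (Localization.AtPrime q) := IsLocalization.flat _ q.primeCompl
    haveI : Module.Flat A (Localization.AtPrime q) := Module.Flat.trans A P _
    exact Module.Flat.of_linearEquiv
      ((IsLocalizedModule.iso q.primeCompl (Algebra.linearMap P (Localization.AtPrime q))).restrictScalars A)
  have h := RGFlat.mem_ass_fibre (N := P) (M := A) p q hflat hw
  let e : FlatCA.fiberMod p P P ≃ₗ[p.Fiber P] p.Fiber P := TensorProduct.AlgebraTensorModule.rid P (p.Fiber P) (p.Fiber P)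
  rw [LinearEquiv.AssociatedPrimes.eq e] at h
  haveI : LocCoh.IsGorensteinRing (p.Fiber P) := Gor.LCI.isGorensteinRing_fiber hlci p.ResidueField
  haveI := GrDual.isCohenMacaulayRing_of_gorenstein (p.Fiber P)
  exact mem_minimalPrimes_of_isCM h


/-- Let A be a Noetherian ring in which 2 is invertible and P a flat A-algebra which is a local complete
intersection over A (of finite type, with Koszul-regular kernel for some polynomial presentation)
and whose fibres are generically smooth: every prime of P minimal among the primes of its fibre over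
A lies in the smooth locus of A → P. Then the first homology of the naive cotangent complex of P
over A vanishes, H_1(NL_{P/A}) = 0: for every presentation P = S/I by a polynomial A-algebra S the
conormal sequence 0 → I/I^2 → Ω_{S/A} ⊗_S P → Ω_{P/A} → 0 is exact on the left. Since the cotangent
complex of a local complete intersection is this two-term complex, it is quasi-isomorphic to Ω_{P/A}
in degree 0, which is the identification that makes T^1 = Ext^1(Ω_{P/A}, P) the degree-one
cohomology of RHom of the cotangent complex into P. (The text states the latter identification for a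
flat local complete intersection morphism of Noetherian schemes with generically smooth fibres; the
row is its affine content.) -/
theorem result
    (A : Type u) [CommRing A] [IsNoetherianRing A] (h2 : IsUnit (2 : A))
    (P : Type u) [CommRing P] [Algebra A P] [Module.Flat A P] (hlci : LCI.IsLCI A P)
    (hgs : ∀ 𝔓 : PrimeSpectrum P,
      (∀ 𝔔 : PrimeSpectrum P, 𝔔 ≤ 𝔓 →
          𝔔.asIdeal.comap (algebraMap A P) = 𝔓.asIdeal.comap (algebraMap A P) → 𝔔 = 𝔓) →
        𝔓 ∈ Algebra.smoothLocus A P) :
    Subsingleton (Algebra.H1Cotangent A P) := by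
  haveI : Algebra.FinitePresentation A P := Synt44.finitePresentation_of_isLCI hlci
  haveI : Algebra.FiniteType A P := inferInstance
  haveI : IsNoetherianRing P := Algebra.FiniteType.isNoetherianRing A P
  obtain ⟨-, n, f, hf, hker⟩ := id hlci
  obtain ⟨G, hG⟩ := Synt44.NLAmp.exists_generators f hf
  haveI : Module.Projective P G.toExtension.Cotangent :=
    Synt44.projective_extension_cotangent G.toExtension (by change LCI.IsKoszulRegularIdeal G.ker; rw [hG]; exact hker)
  haveI : Algebra.FormallySmooth A G.toExtension.Ring :=
    inferInstanceAs (Algebra.FormallySmooth A (MvPolynomial (Fin n) A))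
  let e := Algebra.Extension.equivH1CotangentOfFormallySmooth G.toExtension
  let ι : Algebra.H1Cotangent A P →ₗ[P] G.toExtension.Cotangent :=
    G.toExtension.h1Cotangentι ∘ₗ e.symm.toLinearMap
  have hι : Function.Injective ι := Algebra.Extension.h1Cotangentι_injective.comp e.symm.injective
  obtain ⟨s, hs⟩ := (Module.projective_def' (R := P) (P := G.toExtension.Cotangent)).mp inferInstance
  refine subsingleton_of_forall_eq 0 fun x => ?_
  by_contra hx
  have hy : s (ι x) ≠ 0 := fun h => hx (hι (by
    have := LinearMap.congr_fun hs (ι x)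
    rw [LinearMap.comp_apply, h, map_zero, LinearMap.id_apply] at this
    rw [← this, map_zero]))
  obtain ⟨i, hi⟩ := Finsupp.ne_iff.mp hy
  obtain ⟨q, hq, hle⟩ := exists_le_isAssociatedPrime_of_isNoetherianRing P (s (ι x) i) (by simpa using hi)
  haveI : q.IsPrime := hq.isPrime
  have hmin := fiber_mem_minimalPrimes hlci q hq
  let p := q.comap (algebraMap A P)
  have hsm : (⟨q, inferInstance⟩ : PrimeSpectrum P) ∈ Algebra.smoothLocus A P := hgs _ fun Q hQ hQp => by
    haveI : Q.asIdeal.LiesOver p := ⟨hQp.symm⟩
    haveI : q.LiesOver p := ⟨rfl⟩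
    haveI := RGFlat.fiberIdeal_isPrime p Q.asIdeal
    have hle' : FlatCA.fiberIdeal p Q.asIdeal ≤ FlatCA.fiberIdeal p q := Ideal.map_mono hQ
    have heq := le_antisymm (hmin.2 ⟨inferInstance, bot_le⟩ hle') hle'
    apply PrimeSpectrum.ext
    show Q.asIdeal = q
    exact (FlatMisc.Fiber.comap_fiberIdeal p Q.asIdeal).symm.trans
      ((congrArg _ heq.symm).trans (FlatMisc.Fiber.comap_fiberIdeal p q))
  rw [Algebra.smoothLocus_eq_compl_support_inter] at hsm
  obtain ⟨r, hr, hrx⟩ := Module.notMem_support_iff'.1 hsm.1 x
  refine hr (hle ?_)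
  rw [Submodule.mem_colon_singleton, Submodule.mem_bot]
  have := congrArg (fun z => s (ι z) i) hrx
  simpa using this

end Groth.Agent.S18126
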