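import Groth.Statements.S18127
-- import your own Groth.Agent.* helpers here

set_option autoImplicit false
universe u
open LocAlg

namespace Groth.Agent.S18127

/-- Let R be a local ring with maximal ideal m and algebraically closed residue field, and M an n × n
matrix over R whose reduction modulo m has rank at most r. Then the determinant of M lies in m^(n −
r). (The published setting is the local ring of germs of holomorphic functions at a point of a
complex manifold, where this says that the determinant vanishes to order at least n − r at a point
where the matrix has rank at most r.) -/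
theorem result
    {R : Type u} [CommRing R] [IsLocalRing R] [IsAlgClosed (IsLocalRing.ResidueField R)]
    {n : ℕ} (M : Matrix (Fin n) (Fin n) R) (r : ℕ)
    (hr : (M.map (IsLocalRing.residue R)).rank ≤ r) :
    M.det ∈ IsLocalRing.maximalIdeal R ^ (n - r) := by
  classical
  let k := IsLocalRing.ResidueField R
  let N : Matrix (Fin n) (Fin n) k := M.map (IsLocalRing.residue R)
  let W : Submodule k (Fin n → k) := LinearMap.ker N.mulVecLin
  have hrn := N.mulVecLin.finrank_range_add_finrank_ker
  rw [Module.finrank_fin_fun] at hrn
  have hW : n - r ≤ Module.finrank k W := by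
    have : Module.finrank k (LinearMap.range N.mulVecLin) ≤ r := hr
    show n - r ≤ Module.finrank k (LinearMap.ker N.mulVecLin)
    omega
  let w := Module.finBasis k W
  have hli : LinearIndepOn k id (Set.range fun i => (w i : Fin n → k)) :=
    (w.linearIndependent.map' W.subtype W.ker_subtype).linearIndepOn_id
  let b0 := Module.Basis.extend hli
  let b : Module.Basis (Fin n) k (Fin n → k) :=
    b0.reindex (b0.indexEquiv (Pi.basisFun k (Fin n)))
  let Q : Matrix (Fin n) (Fin n) R := Matrix.of fun i j =>
    Function.surjInv IsLocalRing.residue_surjective (b j i)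
  have hQ : Q.map (IsLocalRing.residue R) = (Pi.basisFun k (Fin n)).toMatrix b := by
    ext i j
    rw [Matrix.map_apply, Module.Basis.toMatrix_apply, Pi.basisFun_repr]
    exact Function.surjInv_eq IsLocalRing.residue_surjective _
  have hQu : IsUnit Q.det := by
    rw [← isUnit_map_iff (IsLocalRing.residue R), RingHom.map_det, RingHom.mapMatrix_apply, hQ]
    exact (Pi.basisFun k (Fin n)).det_apply b ▸ (Pi.basisFun k (Fin n)).isUnit_det b
  let S : Finset (Fin n) := Finset.univ.filter fun j => b j ∈ W
  have hS : n - r ≤ S.card := by
    refine hW.trans ?_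
    rw [← Fintype.card_fin (Module.finrank k W), ← Finset.card_univ]
    refine Finset.card_le_card_of_injOn
      (fun i => (b0.indexEquiv (Pi.basisFun k (Fin n)))
        ⟨(w i : Fin n → k), hli.subset_extend _ ⟨i, rfl⟩⟩) (fun i _ => ?_) ?_
    · simp [S, b, b0, Module.Basis.extend_apply_self]
    · intro i _ j _ hij
      have h' := (b0.indexEquiv (Pi.basisFun k (Fin n))).injective hij
      have h'' : (w i : Fin n → k) = (w j : Fin n → k) := congrArg (fun z => z.1) h'
      exact w.injective (Subtype.ext h'')
  have hcol : ∀ i, ∀ j ∈ S, (M * Q) i j ∈ IsLocalRing.maximalIdeal R := by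
    intro i j hj
    rw [← IsLocalRing.residue_eq_zero_iff]
    have hbj : N.mulVec (b j) = 0 := (Finset.mem_filter.1 hj).2
    calc IsLocalRing.residue R ((M * Q) i j) = (N.mulVec (b j)) i := by
          rw [Matrix.mul_apply, map_sum]
          refine Finset.sum_congr rfl fun l _ => ?_
          rw [map_mul]
          exact congrArg (_ * ·) (Function.surjInv_eq IsLocalRing.residue_surjective _)
      _ = 0 := by rw [hbj]; rfl
  have hdet : (M * Q).det ∈ IsLocalRing.maximalIdeal R ^ (n - r) := by
    refine Ideal.pow_le_pow_right hS ?_
    rw [Matrix.det_apply]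
    refine Submodule.sum_mem _ fun σ _ => ?_
    rw [Units.smul_def, zsmul_eq_mul]
    refine Ideal.mul_mem_left _ _ ?_
    rw [← Finset.prod_mul_prod_compl S]
    refine Ideal.mul_mem_right _ _ ?_
    rw [← Finset.prod_const]
    exact Ideal.prod_mem_prod fun j hj => hcol _ j hj
  rw [Matrix.det_mul] at hdet
  exact (Ideal.mul_unit_mem_iff_mem _ hQu).1 hdet

end Groth.Agent.S18127
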