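import Mathlib
import Groth.Agent.CAlg99.Acyclicity
import Groth.Statements.S18128
-- import your own Groth.Agent.* helpers here

set_option autoImplicit false
universe u
open CAlg
open Matrix

namespace Groth.Agent.S18128

/-- Local step of Buchsbaum–Eisenbud: let R be a Noetherian local ring with maximal ideal m, and 0 →
R^(n_e) → ⋯ → R^(n_1) → R^(n_0) a complex of finite free modules, the map R^(n_(i+1)) → R^(n_i)
being given by the matrix A i, with 1 ≤ e and e at most the depth of R (there is an R-regular
sequence of length e inside m). If for every prime ideal p ≠ m the complex of matrices over R_p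
obtained by localization is exact at R_p^(n_e), …, R_p^(n_1), then the complex is exact at R^(n_e),
…, R^(n_1). -/
theorem result
    {R : Type u} [CommRing R] [IsLocalRing R] [IsNoetherianRing R]
    (e : ℕ) (he : 1 ≤ e) (n : ℕ → ℕ) (A : (i : ℕ) → Matrix (Fin (n i)) (Fin (n (i + 1))) R)
    (hA : ∀ i, i + 2 ≤ e → A i * A (i + 1) = 0)
    (rs : List R) (hlen : rs.length = e) (hmem : ∀ x ∈ rs, x ∈ IsLocalRing.maximalIdeal R)
    (hreg : RingTheory.Sequence.IsRegular R rs)
    (hloc : ∀ (p : Ideal R) [p.IsPrime], p ≠ IsLocalRing.maximalIdeal R →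
      LinearMap.ker ((A (e - 1)).map (algebraMap R (Localization.AtPrime p))).mulVecLin = ⊥ ∧
        ∀ i, i + 2 ≤ e →
          LinearMap.ker ((A i).map (algebraMap R (Localization.AtPrime p))).mulVecLin =
            LinearMap.range ((A (i + 1)).map (algebraMap R (Localization.AtPrime p))).mulVecLin) :
    LinearMap.ker (A (e - 1)).mulVecLin = ⊥ ∧
      ∀ i, i + 2 ≤ e → LinearMap.ker (A i).mulVecLin = LinearMap.range (A (i + 1)).mulVecLin := by
  classical
  open Groth.Agent.CAlg99.Acyclicity in
  refine conclude e A he hA fun q hq v hv => ?_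
  have hm : IsLocalRing.maximalIdeal R ≠ ⊤ := (IsLocalRing.maximalIdeal.isMaximal R).ne_top
  have h := Groth.Agent.CAlg99.Acyclicity.acyclic e A hA (IsLocalRing.maximalIdeal R) rs hmem hreg.1
    (fun J q h1 h2 => absurd h2 (by omega)) (fun p' hp' hlt q hq => ?_) q hq
  · obtain ⟨s, hs, w, hw⟩ := (Groth.Agent.CAlg99.Acyclicity.ex_bot_iff _ _).mp h v hv
    obtain ⟨u, hu⟩ := IsLocalRing.notMem_maximalIdeal.mp hs
    refine ⟨(↑u⁻¹ : R) • w, ?_⟩
    rw [Matrix.mulVec_smul, ← hw, smul_smul, ← hu, Units.inv_mul, one_smul]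
  · rw [Groth.Agent.CAlg99.Acyclicity.ex_bot_iff]
    intro v hv
    haveI := hp'
    let L := Localization.AtPrime p'
    let al := algebraMap R L
    rw [Groth.Agent.CAlg99.Acyclicity.F_of_lt e A hq] at hv
    have hker : (al ∘ v) ∈ LinearMap.ker ((A q).map al).mulVecLin := by
      rw [LinearMap.mem_ker, Matrix.mulVecLin_apply]
      funext k
      rw [← RingHom.map_mulVec al (A q) v k, hv, Pi.zero_apply, map_zero, Pi.zero_apply]
    obtain ⟨h1, h2⟩ := hloc p' (ne_of_lt hlt)
    by_cases hq1 : q + 1 < e
    · rw [Groth.Agent.CAlg99.Acyclicity.F_of_lt e A hq1]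
      rw [h2 q (by omega)] at hker
      obtain ⟨w, hw⟩ := hker
      obtain ⟨⟨b, hb⟩, hb'⟩ := IsLocalization.exist_integer_multiples_of_finite p'.primeCompl w
      choose w' hw' using hb'
      have hk : ∀ k, ∃ t ∉ p', t * (b * v k - (A (q + 1) *ᵥ w') k) = 0 := by
        intro k
        have h3 : al (b * v k - (A (q + 1) *ᵥ w') k) = 0 := by
          rw [map_sub, map_mul, RingHom.map_mulVec, show al ∘ w' = al b • w from
            funext fun l => by rw [Pi.smul_apply, Function.comp_apply, hw' l, algebra_compatible_smul L b],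
            Matrix.mulVec_smul, ← Matrix.mulVecLin_apply, hw]
          simp
        obtain ⟨⟨t, ht⟩, h4⟩ := (IsLocalization.map_eq_zero_iff p'.primeCompl L _).mp h3
        exact ⟨t, ht, h4⟩
      choose t ht h4 using hk
      refine ⟨(∏ k, t k) * b, fun hmem => ?_, (∏ k, t k) • w', ?_⟩
      · rcases hp'.mem_or_mem hmem with h | h
        · obtain ⟨k, -, hk⟩ := Ideal.IsPrime.prod_mem_iff.mp h
          exact ht k hk
        · exact hb h
      · funext k
        rw [Matrix.mulVec_smul, ← sub_eq_zero]
        simp only [Pi.smul_apply, smul_eq_mul]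
        obtain ⟨c, hc⟩ := Finset.dvd_prod_of_mem t (Finset.mem_univ k)
        rw [hc]
        linear_combination c * h4 k
    · obtain rfl : q = e - 1 := by omega
      rw [h1, Submodule.mem_bot] at hker
      choose t ht using fun k => (IsLocalization.map_eq_zero_iff p'.primeCompl L _).mp (congrFun hker k)
      refine ⟨∏ k, (t k : R), fun hmem => ?_, 0, ?_⟩
      · obtain ⟨k, -, hk⟩ := Ideal.IsPrime.prod_mem_iff.mp hmem
        exact (t k).2 hk
      · funext k
        obtain ⟨c, hc⟩ := Finset.dvd_prod_of_mem (fun k => (t k : R)) (Finset.mem_univ k)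
        rw [Matrix.mulVec_zero, Pi.smul_apply, smul_eq_mul, Pi.zero_apply, hc, mul_right_comm, ht k, zero_mul]

end Groth.Agent.S18128
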