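import Groth.Statements.S18129
import Groth.Agent.HodgeIdx81.RR


set_option autoImplicit false
universe u
open CategoryTheory CategoryTheory.Limits AlgebraicGeometry
open Surf

namespace Groth.Agent.S18129

open Groth.Agent.HodgeIdx81 Groth.Agent.ProjTwist

set_option linter.style.haveILetI false

/-- Let X be a K3 surface over an algebraically closed field k of characteristic zero — an integral
scheme, smooth and proper over k, of dimension two, carrying an ample invertible module, whose
structure sheaf is a second exterior power of its sheaf of differentials (trivial canonical sheaf)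
and with H^1(X, O_X) = 0. If L is an invertible O_X-module which is numerically trivial — the
intersection number (L·M), the alternating sum χ(O_X) − χ(L) − χ(M) + χ(L ⊗ M) of Euler
characteristics, vanishes for every invertible O_X-module M — then L ≅ O_X. Consequently the natural
surjections from Pic(X) to the Néron–Severi group and to the group of numerical equivalence classes
are bijective. -/
theorem result (k : Type u) [Field k] [IsAlgClosed k] [CharZero k]
    (X : Scheme.{u}) [X.Over (Spec (CommRingCat.of k))] [IsIntegral X]
    [Smooth (X ↘ Spec (CommRingCat.of k))] (hdim : topologicalKrullDim X = 2)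
    [IsProper (X ↘ Spec (CommRingCat.of k))]
    (H : X.Modules) (hHa : CohB1.IsAmple H)
    (hK : Canon.IsTopDiff (X ↘ Spec (CommRingCat.of k)) 2 (Coh.structureModule X))
    (hq : Module.finrank k (Coh.HH X (Coh.structureModule X) 1) = 0)
    (L : X.Modules) (hL : PicF.IsInvertible L)
    (hnum : ∀ M : X.Modules, PicF.IsInvertible M →
      FGA.intNum k X 2 ![L, M] (Coh.structureModule X) = 0) :
    Nonempty (L ≅ Coh.structureModule X) := by
  have hd : topologicalKrullDim X = ((2 : ℕ) : WithBot ℕ∞) := by rw [hdim]; norm_num
  have hreg : ∀ x : X, IsRegularLocalRing (X.presheaf.stalk x) :=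
    CurveDVR.isRegularLocalRing_stalk (X ↘ (Spec (CommRingCat.of k)))
  have hpr : ∀ M : X.Modules, PicF.IsInvertible M → pr k L M = 0 := fun M hM => by
    rw [← intNum_eq_pr k hd hL hM]
    exact hnum M hM
  have hW : ExtPow.IsExtPow 2 (Omega.sheaf (X ↘ Spec (CommRingCat.of k))) (Coh.structureModule X) := hK
  obtain ⟨L', hL', ⟨eL⟩⟩ := PicLaw.exists_inverse hL
  have hrr := RR.riemann_roch k hd hreg hHa hW hL
  rw [hpr L hL, hpr _ (PicLoc.isInvertible_structureModule X), RR.euler_structure k hd hq,
    ← RR.finrank_dual k hd hreg hHa hW (PicLoc.isInvertible_structureModule X) (oneTens _) 2 le_rfl,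
    Pn.finrank_hh_iso (k := k) (tensOne _) (2 - 2),
    VBLib.finrank_H0_structure_eq_one VBLib.bijective_toGlobal_of_isAlgClosed] at hrr
  have hle := RR.euler_le k hd L
  rw [← RR.finrank_dual k hd hreg hHa hW hL eL 2 le_rfl, Pn.finrank_hh_iso (k := k) (tensOne L') (2 - 2)] at hle
  have hor : Nontrivial (Coh.HH X L 0) ∨ Nontrivial (Coh.HH X L' 0) := by
    by_contra h
    rw [not_or, not_nontrivial_iff_subsingleton, not_nontrivial_iff_subsingleton] at h
    rw [RR.finrank_eq_zero_of_subsingleton k h.1, RR.finrank_eq_zero_of_subsingleton k h.2] at hle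
    omega
  rcases hor with h | h
  · exact RR.iso_of_section k hd hreg hHa hL h (by rw [pr_comm]; exact hpr H hHa.1)
  · obtain ⟨e⟩ := RR.iso_of_section k hd hreg hHa hL' h
      (by rw [pr_comm, pr_inv_left k hd.le hL hL' hHa.1 eL, hpr H hHa.1, neg_zero])
    exact ⟨(tensOne L).symm ≪≫ tensCongr (Iso.refl L) e.symm ≪≫ eL⟩

end Groth.Agent.S18129
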