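import Groth.Statements.S18136
import Mathlib

set_option autoImplicit false
universe u v
open IsLocalRing
open CAlg

namespace Groth.Agent.S18136

/-- Let A be a regular local ring with maximal ideal m and residue field k, written as a directed
colimit of regular local rings A_j with local transition maps (compatible maps ψ_j : A_j → A that
are jointly surjective, an element dying in A dying at some later stage). Let f_1, …, f_c, g_1, …,
g_d ∈ m have linearly independent classes in m/m^2 over k, and put I = (f_1, …, f_c) ⊆ I' = (f_1, …,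
f_c, g_1, …, g_d) (so I is generated by part of a regular system of parameters of A and I'/I by part
of a regular system of parameters of A/I; for a regular local ring the condition on I ⊆ I' is stated
through such a joint family). Then there are an index j_0 and ideals I_j ⊆ I'_j ⊆ A_j for j ≥ j_0
such that: each I_j is generated by c elements and I'_j by these together with d further elements of
the maximal ideal m_j, the c + d classes in m_j/m_j^2 being linearly independent over the residue
field of A_j; the transition maps carry I_i, I'_i onto generators of I_j, I'_j for j_0 ≤ i ≤ j; and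
I_j, I'_j generate I, I' in A. -/
theorem result
    {A : Type u} [CommRing A] [IsRegularLocalRing A]
    {ι : Type v} [Preorder ι] [Nonempty ι] [IsDirected ι (· ≤ ·)]
    (B : ι → Type u) [∀ j, CommRing (B j)] [∀ j, IsRegularLocalRing (B j)]
    (φ : ∀ i j, i ≤ j → (B i →+* B j)) (hφloc : ∀ i j (h : i ≤ j), IsLocalHom (φ i j h))
    (hφ : ∀ i j l (hij : i ≤ j) (hjl : j ≤ l), (φ j l hjl).comp (φ i j hij) = φ i l (hij.trans hjl))
    (ψ : ∀ j, B j →+* A) (hψ : ∀ i j (h : i ≤ j), (ψ j).comp (φ i j h) = ψ i)
    (hsurj : ∀ a : A, ∃ j, ∃ x : B j, ψ j x = a)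
    (hker : ∀ j (x : B j), ψ j x = 0 → ∃ l, ∃ h : j ≤ l, φ j l h x = 0)
    (c d : ℕ) (f : Fin c → maximalIdeal A) (g : Fin d → maximalIdeal A)
    (hind : LinearIndependent (ResidueField A) (⇑(maximalIdeal A).toCotangent ∘ Sum.elim f g)) :
    ∃ j₀ : ι, ∃ (P : ∀ j, j₀ ≤ j → Ideal (B j)) (Q : ∀ j, j₀ ≤ j → Ideal (B j)),
      (∀ j (hj : j₀ ≤ j), ∃ (F : Fin c → maximalIdeal (B j)) (E : Fin d → maximalIdeal (B j)),
        LinearIndependent (ResidueField (B j)) (⇑(maximalIdeal (B j)).toCotangent ∘ Sum.elim F E) ∧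
        P j hj = Ideal.span (Set.range (fun s => (F s : B j))) ∧
        Q j hj = P j hj ⊔ Ideal.span (Set.range (fun t => (E t : B j)))) ∧
      (∀ i j (hi : j₀ ≤ i) (hij : i ≤ j),
        (P i hi).map (φ i j hij) = P j (le_trans hi hij) ∧ (Q i hi).map (φ i j hij) = Q j (le_trans hi hij)) ∧
      (∀ j (hj : j₀ ≤ j),
        (P j hj).map (ψ j) = Ideal.span (Set.range (fun s => (f s : A))) ∧
        (Q j hj).map (ψ j) = Ideal.span (Set.range (fun s => (f s : A))) ⊔ Ideal.span (Set.range (fun t => (g t : A)))) := by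
  classical
  choose jf xf hxf using fun s : Fin c ⊕ Fin d => hsurj ((Sum.elim f g s : maximalIdeal A) : A)
  obtain ⟨j₀, hj₀⟩ := Finite.exists_le jf
  let G : ∀ j, j₀ ≤ j → Fin c ⊕ Fin d → B j := fun j hj s => φ (jf s) j ((hj₀ s).trans hj) (xf s)
  have hψG : ∀ j hj s, ψ j (G j hj s) = ((Sum.elim f g s : maximalIdeal A) : A) := fun j hj s =>
    ((RingHom.congr_fun (hψ (jf s) j _) (xf s))).trans (hxf s)
  have hGG : ∀ i j (hi : j₀ ≤ i) (hij : i ≤ j) s, φ i j hij (G i hi s) = G j (hi.trans hij) s :=
    fun i j hi hij s => RingHom.congr_fun (hφ (jf s) i j _ hij) (xf s)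
  -- the structure maps to the colimit are local
  have hψloc : ∀ j (x : B j), IsUnit (ψ j x) → IsUnit x := by
    intro j x hx
    obtain ⟨y, hy⟩ := hx.exists_right_inv
    obtain ⟨l, z, hz⟩ := hsurj y
    obtain ⟨p, hjp, hlp⟩ := exists_ge_ge j l
    have h1 : ψ p (φ j p hjp x * φ l p hlp z - 1) = 0 := by
      rw [map_sub, map_mul, map_one, ← RingHom.comp_apply, hψ, ← RingHom.comp_apply, hψ, hz, hy, sub_self]
    obtain ⟨q, hpq, hq⟩ := hker p _ h1
    have h2 : IsUnit (φ j q (hjp.trans hpq) x) := by
      rw [map_sub, map_mul, map_one, sub_eq_zero, ← RingHom.comp_apply, hφ] at hq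
      exact IsUnit.of_mul_eq_one _ hq
    haveI := hφloc j q (hjp.trans hpq)
    exact h2.of_map
  have hmem : ∀ j hj s, G j hj s ∈ maximalIdeal (B j) := fun j hj s hu =>
    (Sum.elim f g s).2 (hψG j hj s ▸ hu.map (ψ j))
  have hli : ∀ j hj, LinearIndependent (ResidueField (B j))
      (⇑(maximalIdeal (B j)).toCotangent ∘ fun s => (⟨G j hj s, hmem j hj s⟩ : maximalIdeal (B j))) := by
    intro j hj
    rw [Fintype.linearIndependent_iff]
    intro a ha i
    choose a' ha' using fun s => IsLocalRing.residue_surjective (a s)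
    have h1 : (maximalIdeal (B j)).toCotangent (∑ s, a' s • (⟨G j hj s, hmem j hj s⟩ : maximalIdeal (B j))) = 0 := by
      rw [map_sum, ← ha]
      refine Finset.sum_congr rfl fun s _ => ?_
      rw [map_smul, ← ha']
      rfl
    rw [Ideal.toCotangent_eq_zero] at h1
    have h2 : ψ j (∑ s, a' s * G j hj s) ∈ maximalIdeal A ^ 2 := by
      have hle : (maximalIdeal (B j)).map (ψ j) ≤ maximalIdeal A := Ideal.map_le_iff_le_comap.2
        fun x hx hu => hx (hψloc j x hu)
      refine Ideal.pow_right_mono hle 2 ?_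
      rw [← Ideal.map_pow]
      refine Ideal.mem_map_of_mem (ψ j) ?_
      simpa [Submodule.coe_sum] using h1
    have h3 := Fintype.linearIndependent_iff.1 hind (fun s => residue A (ψ j (a' s))) (by
      have h4 : (maximalIdeal A).toCotangent (∑ s, ψ j (a' s) • Sum.elim f g s) = 0 := by
        rw [Ideal.toCotangent_eq_zero]
        simpa [Submodule.coe_sum, map_sum, hψG] using h2
      rw [map_sum] at h4
      rw [← h4]
      refine Finset.sum_congr rfl fun s _ => ?_
      rw [map_smul]
      rfl) i
    rw [← ha', residue_eq_zero_iff]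
    exact fun hu => (residue_eq_zero_iff _).1 h3 (hu.map (ψ j))
  refine ⟨j₀, fun j hj => Ideal.span (Set.range fun s => G j hj (Sum.inl s)),
    fun j hj => Ideal.span (Set.range fun s => G j hj (Sum.inl s)) ⊔ Ideal.span (Set.range fun s => G j hj (Sum.inr s)),
    fun j hj => ⟨fun s => ⟨_, hmem j hj (Sum.inl s)⟩, fun s => ⟨_, hmem j hj (Sum.inr s)⟩, ?_, rfl, rfl⟩,
    fun i j hi hij => ?_, fun j hj => ?_⟩
  · convert hli j hj using 1
    funext s
    rcases s with s | s <;> rfl
  · simp only [Ideal.map_sup, Ideal.map_span, ← Set.range_comp', hGG, and_self]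
  · simp only [Ideal.map_sup, Ideal.map_span, ← Set.range_comp', hψG, Sum.elim_inl, Sum.elim_inr, and_self]

end Groth.Agent.S18136
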