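import Groth.Statements.S1814
import Groth.Agent.LocCoh.GreenleesMay

set_option autoImplicit false
universe u
open CategoryTheory
attribute [local instance] HasDerivedCategory.standard
open LocCoh

namespace Groth.Agent.S1814

/-- Greenlees–May duality over a Noetherian ring. Let A be a Noetherian ring, I an ideal and K an object
of D(A); assume that RΓ_I exists as a total right derived functor and that derived I-completion (the
left adjoint to the inclusion of derived complete objects) exists. Then RΓ_I applied to the derived
completion of K is isomorphic to RΓ_I(K), and the derived completion of RΓ_I(K) is isomorphic to the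
derived completion of K. Stated here for a Noetherian ring, where local cohomology with support in
V(I) agrees with RΓ_I. -/
theorem result (A : Type u) [CommRing A] [IsNoetherianRing A] (I : Ideal A) [DRing.HasRgammaI I] [DRing.HasDerivedCompletion I] (K : Dual.D A) : Nonempty ((DRing.RgammaI I).obj ((DRing.derivedCompletion I).obj K).obj ≅ (DRing.RgammaI I).obj K) ∧ Nonempty ((DRing.derivedCompletion I).obj ((DRing.RgammaI I).obj K) ≅ (DRing.derivedCompletion I).obj K) := by
  have h1 := Groth.Agent.LocCoh.GM.isIso_map_toDerivedCompletion I (IsNoetherian.noetherian I) K
  have h2 := Groth.Agent.LocCoh.GM.isIso_completion_map_ε I K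
  exact ⟨⟨(asIso ((DRing.RgammaI I).map (DRing.toDerivedCompletion I K))).symm⟩,
    ⟨asIso ((DRing.derivedCompletion I).map ((DRing.RgammaIε I).app K))⟩⟩

end Groth.Agent.S1814
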