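import Groth.Statements.S18151
import Groth.Agent.FrobInv.Basic
import Groth.Agent.EulerChar.Deg

set_option autoImplicit false
universe u
open CategoryTheory AlgebraicGeometry Opposite TopologicalSpace
open FrobSch

namespace Groth.Agent.S18151

/-- Let p be a prime, k a perfect field of characteristic p, and X a proper k-scheme. Let φ be the p-th
power map on the sheaf of additive groups underlying O_X and suppose X is Frobenius split: φ admits
a retraction s, an additive endomorphism of O_X with s ∘ φ the identity and s(a^p·b) = a·s(b) on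
every open. Then for every invertible module L and every i the dimension of H^i(X, L) over k is at
most that of H^i(X, L^{⊗p}). (The source shows, for any k-scheme X, that the Frobenius pull-back
H^i(X, L) → H^i(X, L^{⊗p}) is injective, with a left inverse coming from the splitting; that map is
not named here, so the statement records its consequence on dimensions, for X proper so that both
are finite.) -/
theorem result (p : ℕ) [Fact p.Prime]
    (k : Type u) [Field k] [CharP k p] [PerfectRing k p]
    (X : Scheme.{u}) [X.Over (Spec (CommRingCat.of k))] [IsProper (X ↘ Spec (CommRingCat.of k))]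
    (φ : Coh.toAb (Coh.structureModule X) ⟶ Coh.toAb (Coh.structureModule X))
    (hφ : ∀ (U : X.Opens) (t : Γ(X, U)), φ.hom.app (op U) t = t ^ p)
    (s : Coh.toAb (Coh.structureModule X) ⟶ Coh.toAb (Coh.structureModule X))
    (hs : φ ≫ s = 𝟙 _)
    (hlin : ∀ (U : X.Opens) (a b : Γ(X, U)),
      s.hom.app (op U) (a ^ p * b) = a * @id Γ(X, U) (s.hom.app (op U) b))
    (L : X.Modules) (hL : PicF.IsInvertible L) (i : ℕ) :
    Module.finrank k (Coh.HH X L i) ≤ Module.finrank k (Coh.HH X (CohB1.tensorPow L p) i) := by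
  haveI := Groth.Agent.EulerChar.isNoetherian k (X := X)
  haveI : ExpChar k p := ExpChar.prime Fact.out
  have hp : ∀ V : X.Opens, (p : Γ(X, V)) = 0 := fun V => by
    have h : ((Coh.resTop X (op V)).comp (Coh.toGlobal (X ↘ Spec (CommRingCat.of k)))) (p : k) = 0 := by
      rw [CharP.cast_eq_zero, map_zero]
    exact (map_natCast _ p).symm.trans h
  have h1 : ∀ V : X.Opens, Groth.Agent.FrobInv.sapp s V 1 = 1 := fun V => by
    have e : s.hom.app (op V) (φ.hom.app (op V) (1 : Γ(X, V))) = (1 : Γ(X, V)) :=
      congrArg (fun g : Coh.toAb (Coh.structureModule X) ⟶ Coh.toAb (Coh.structureModule X) =>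
        g.hom.app (op V) (1 : Γ(X, V))) hs
    rwa [hφ, one_pow] at e
  let Φ := Groth.Agent.FrobInv.frobHom (p := p) hL hp
  let Ψ := Groth.Agent.FrobInv.splitHom s hlin hL
  have hΦ : Φ ≫ Ψ = 𝟙 _ := Groth.Agent.FrobInv.frobHom_splitHom s hlin hL hp h1
  have hsl : ∀ r : Coh.Γtop X, Coh.smulAb L r ≫ Φ = Φ ≫ Coh.smulAb (CohB1.tensorPow L p) (r ^ p) :=
    Groth.Agent.FrobSplit.smulAb_comp Φ fun U r m => Groth.Agent.Props.GenTensor.pw_smul r m p
  have hinj : Function.Injective (Sheaf.H.map Φ i : Coh.HH X L i →+ Coh.HH X (CohB1.tensorPow L p) i) :=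
    fun x y hxy => by
    rw [← Sheaf.H.map_id_apply (x := x), ← Sheaf.H.map_id_apply (x := y), ← hΦ,
      Sheaf.H.map_comp_apply, Sheaf.H.map_comp_apply, hxy]
  have hcoh : ∀ M : X.Modules, PicF.IsInvertible M → Coh.IsCoh M := fun M hM =>
    Groth.Agent.CohDev.isCoh_of_iso (Groth.Agent.ProjTwist.oneTens M)
      (Groth.Agent.ProjTwist.isCoh_tensor hM (Groth.Agent.ProperFin.isCoh_structureModule X))
  haveI := Groth.Agent.EulerChar.finite_HH k L (hcoh L hL) i
  haveI := Groth.Agent.EulerChar.finite_HH k _ (hcoh _ (Groth.Agent.AmpleLib.isInvertible_tensorPow hL p)) i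
  exact Groth.Agent.FrobSplit.finrank_le_of_semilinear (p := p) (Sheaf.H.map Φ i) hinj
    (Groth.Agent.FrobSplit.hmap_semilinear Φ hsl i)

end Groth.Agent.S18151
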