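import Groth.Statements.S18150
import Groth.Agent.S18151
import Groth.Agent.S2330
import Groth.Agent.DualAbs.ProjEmbed
import Groth.Agent.CurveDVR.Stalk
import Groth.Agent.ProjProper.Basic
import Groth.Agent.ProperFin.Projective
import Groth.Agent.ProjForm.Unit
import Groth.Agent.AmpCrit.NegVan
import Groth.Agent.TwistFlat.Core
import Groth.Agent.AmpleLib.GenIso
-- import your own Groth.Agent.* helpers here

set_option autoImplicit false
universe u
open CategoryTheory AlgebraicGeometry Opposite TopologicalSpace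
open CategoryTheory.Limits (pullback pullback.fst pullback.snd)
open FrobSch

namespace Groth.Agent.S18150
set_option maxHeartbeats 400000

open Groth.Agent

/-- Tensor inverses are unique. -/
theorem inverse_unique {X : Scheme.{u}} {A B C : X.Modules}
    (b : CohB1.tensorMod A B ≅ Coh.structureModule X) (c : CohB1.tensorMod A C ≅ Coh.structureModule X) :
    Nonempty (B ≅ C) :=
  ⟨(ProjTwist.oneTens B).symm ≪≫ ProjTwist.tensCongr (c.symm ≪≫ ProjTwist.tensComm _ _) (Iso.refl _) ≪≫
    ProjTwist.tensAssoc _ _ _ ≪≫ ProjTwist.tensCongr (Iso.refl _) b ≪≫ ProjTwist.tensOne C⟩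

/-- Some power of an ample module is the hyperplane class of a closed immersion into `P^N_k`. -/
theorem exists_embedding (k : Type u) [Field k] {X : Scheme.{u}}
    [X.Over (Spec (CommRingCat.of k))] [IsProper (X ↘ Spec (CommRingCat.of k))]
    {L : X.Modules} (hL : CohB1.IsAmple L) :
    ∃ (a N : ℕ) (ι : X ⟶ CohB1.ProjSpace N k), 0 < a ∧ IsClosedImmersion ι ∧
      Nonempty (DualAbs.pbTwist ι 1 ≅ CohB1.tensorPow L a) := by
  obtain ⟨a, ha, N, i, hi, hif, ⟨α⟩⟩ :=
    ((Groth.Agent.S2330.result (X ↘ Spec (CommRingCat.of k)) L hL.1).1).mp hL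
  let φ : ULift.{u} ℤ →+* k := (Int.castRingHom k).comp (ULift.ringEquiv.toRingHom)
  have h : IsPullback (ProperFin.pnMap N φ) (CohB1.ProjSpace.toSpec N k)
      (CohB1.ProjSpace.toSpec N (ULift.{u} ℤ))
      (specULiftZIsTerminal.from (Spec (CommRingCat.of k))) := by
    rw [show specULiftZIsTerminal.from (Spec (CommRingCat.of k)) = Spec.map (CommRingCat.ofHom φ) from
      specULiftZIsTerminal.hom_ext _ _]
    exact ProperFin.isPullback_pnMap N φ
  have := hi
  let π : CohB1.ProjSpaceOver N (Spec (CommRingCat.of k)) ⟶ Spec (CommRingCat.of k) :=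
    CohB1.ProjSpaceOver.toBase N _
  have : IsProper π := ProjProper.Basic.isProper_toBase N _
  have hiπ : IsProper (i ≫ π) := by
    show IsProper (i ≫ CohB1.ProjSpaceOver.toBase N _)
    erw [hif]; infer_instance
  have : IsProper i := IsProper.of_comp i π
  have : IsClosedImmersion i := ProperFin.isClosedImmersion_of_isProper i
  let e : CohB1.ProjSpaceOver N (Spec (CommRingCat.of k)) ≅ CohB1.ProjSpace N k := h.isoPullback.symm
  have he : e.inv ≫ pullback.fst (CohB1.ProjSpace.toSpec N (ULift.{u} ℤ))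
      (specULiftZIsTerminal.from (Spec (CommRingCat.of k))) = ProperFin.pnMap N φ := h.isoPullback_hom_fst
  refine ⟨a, N, i ≫ e.hom, ha, inferInstance, ?_⟩
  obtain ⟨β⟩ := TwistFlat.nonempty_pullback_twist_one N φ
  exact ⟨(Scheme.Modules.pullback _).mapIso (β.symm ≪≫
      (Scheme.Modules.pullbackCongr he.symm).app _ ≪≫
      (Scheme.Modules.pullbackComp _ _).symm.app _) ≪≫
    (Scheme.Modules.pullbackComp _ _).app _ ≪≫
    (Scheme.Modules.pullbackCongr (show (i ≫ e.hom) ≫ e.inv = i by
      rw [Category.assoc, Iso.hom_inv_id, Category.comp_id])).app _ ≪≫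
    α.symm⟩

theorem pbTwist_natCast {k : Type u} [Field k] {X : Scheme.{u}} {N : ℕ}
    (ι : X ⟶ CohB1.ProjSpace N k) {L : X.Modules} (hL : PicF.IsInvertible L) {a : ℕ}
    (h1 : DualAbs.pbTwist ι 1 ≅ CohB1.tensorPow L a) :
    ∀ q : ℕ, Nonempty (DualAbs.pbTwist ι q ≅ CohB1.tensorPow L (a * q))
  | 0 => ⟨(Scheme.Modules.pullback ι).mapIso (ProjTwist.twistZeroIso (CohB1.polyGrading N k)).symm ≪≫
      QCoh.pullbackUnitIso ι ≪≫ eqToIso (by rw [Nat.mul_zero]; rfl)⟩
  | q + 1 => by
    obtain ⟨e⟩ := pbTwist_natCast ι hL h1 q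
    obtain ⟨b⟩ := TwistFlat.exists_iso_pow_add hL (a * q) a
    obtain ⟨t⟩ := ProjTwist.nonempty_twistProjSpace_tensor N k (q : ℤ) 1
    let u₁ : DualAbs.pbTwist ι ((q : ℤ) + 1) ≅
        CohB1.tensorMod (DualAbs.pbTwist ι (q : ℤ)) (DualAbs.pbTwist ι 1) :=
      Iso.trans ((Scheme.Modules.pullback ι).mapIso t.symm)
        (KFlat.PullTensor.pullTensorIso ι (Twist.twistProjSpace N k (q : ℤ)) (Twist.twistProjSpace N k 1))
    have hc : DualAbs.pbTwist ι ((q + 1 : ℕ) : ℤ) = DualAbs.pbTwist ι ((q : ℤ) + 1) :=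
      congrArg (DualAbs.pbTwist ι) (Nat.cast_succ q)
    have hp : CohB1.tensorPow L (a * q + a) = CohB1.tensorPow L (a * (q + 1)) :=
      congrArg (CohB1.tensorPow L) (Nat.mul_succ a q).symm
    exact ⟨eqToIso hc ≪≫ u₁ ≪≫ ProjTwist.tensCongr e h1 ≪≫ b ≪≫ eqToIso hp⟩

/-- Let p be a prime, k a perfect field of characteristic p, and X an irreducible smooth proper k-scheme
of dimension n. Let φ be the p-th power map on the sheaf of additive groups underlying O_X and
suppose X is Frobenius split: φ admits a retraction s, an additive endomorphism of O_X with s ∘ φ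
the identity and s(a^p·b) = a·s(b) on every open. Then Kodaira vanishing holds on X: for every ample
invertible module L with tensor inverse L⁻¹ and every i < n, the cohomology group H^i(X, L⁻¹)
vanishes. (The source allows X Gorenstein projective; X is taken smooth, proper with an ample
invertible module, and irreducible so that n is the dimension of every component.) -/
theorem result (p : ℕ) [Fact p.Prime]
    (k : Type u) [Field k] [CharP k p] [PerfectRing k p]
    (X : Scheme.{u}) [X.Over (Spec (CommRingCat.of k))] [IsProper (X ↘ Spec (CommRingCat.of k))]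
    [Smooth (X ↘ Spec (CommRingCat.of k))] [IrreducibleSpace X] (n : ℕ) (hn : topologicalKrullDim X = n)
    (φ : Coh.toAb (Coh.structureModule X) ⟶ Coh.toAb (Coh.structureModule X))
    (hφ : ∀ (U : X.Opens) (t : Γ(X, U)), φ.hom.app (op U) t = t ^ p)
    (s : Coh.toAb (Coh.structureModule X) ⟶ Coh.toAb (Coh.structureModule X))
    (hs : φ ≫ s = 𝟙 _)
    (hlin : ∀ (U : X.Opens) (a b : Γ(X, U)),
      s.hom.app (op U) (a ^ p * b) = a * @id Γ(X, U) (s.hom.app (op U) b))
    (L Linv : X.Modules) (hL : CohB1.IsAmple L) (hLinv : ClSub.IsInverseOf Linv L)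
    (i : ℕ) (hi : i < n) :
    Subsingleton (Coh.HH X Linv i) := by
  obtain ⟨e⟩ := hLinv
  let e' : CohB1.tensorMod L Linv ≅ Coh.structureModule X := ProjTwist.tensComm _ _ ≪≫ e
  have hI : PicF.IsInvertible Linv := AmpCrit.NegVan.isInvertible_of_inverse hL.1 e'
  obtain ⟨a, N, ι, ha, hι, ⟨h1⟩⟩ := exists_embedding k hL
  have hreg : ∀ x : X, IsRegularLocalRing (X.presheaf.stalk x) :=
    CurveDVR.isRegularLocalRing_stalk (X ↘ Spec (CommRingCat.of k))
  have key : ∀ r : ℕ, ∃ q₀ : ℕ, ∀ q : ℕ, q₀ ≤ q →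
      Subsingleton (Coh.HH X (CohB1.tensorPow Linv (r + a * q)) i) := by
    intro r
    have hr := AmpleLib.isInvertible_tensorPow hI r
    have hcoh : Coh.IsCoh (CohB1.tensorPow Linv r) := by
      have := Groth.Agent.EulerChar.isNoetherian k (X := X)
      exact CohDev.isCoh_of_iso (ProjTwist.oneTens (CohB1.tensorPow Linv r))
        (ProjTwist.isCoh_tensor hr (ProperFin.isCoh_structureModule X))
    obtain ⟨q₀, hq₀⟩ := (DualAbs.isFinLocFree_iff_vanish ι hreg hn hcoh).mp
      (ProjForm.isFinLocFree_of_isInvertible hr)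
    refine ⟨q₀, fun q hq => ?_⟩
    obtain ⟨p₁⟩ := pbTwist_natCast ι hL.1 h1 q
    obtain ⟨u₁⟩ := DualAbs.nonempty_pbTwist_inv ι (q : ℤ)
    obtain ⟨v⟩ := inverse_unique (ProjTwist.tensCongr p₁.symm (Iso.refl _) ≪≫ u₁)
      (AmpCrit.NegVan.powInvIso e' (a * q))
    obtain ⟨w⟩ := TwistFlat.exists_iso_pow_add hI r (a * q)
    have := hq₀ q hq i hi
    exact (CohLin.hIso (ProjTwist.tensCongr (Iso.refl _) v ≪≫ w) i).toEquiv.symm.subsingleton
  choose q₀ hq₀ using key
  let Q := (Finset.range a).sup q₀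
  let d := a * (Q + 1)
  let m := p ^ d
  have hd : d ≤ m := (Nat.lt_pow_self (Fact.out : p.Prime).one_lt).le
  have hQ : q₀ (m % a) ≤ m / a :=
    le_trans (Finset.le_sup (Finset.mem_range.mpr (Nat.mod_lt _ ha)))
      (le_trans (Nat.le_succ Q) ((Nat.le_div_iff_mul_le ha).mpr (by rw [mul_comm]; exact hd)))
  have hm : Subsingleton (Coh.HH X (CohB1.tensorPow Linv m) i) := by
    have := hq₀ _ _ hQ
    rwa [Nat.mod_add_div] at this
  have := Groth.Agent.EulerChar.isNoetherian k (X := X)
  have hfin : ∀ M : X.Modules, PicF.IsInvertible M → Module.Finite k (Coh.HH X M i) := fun M hM =>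
    Groth.Agent.EulerChar.finite_HH k M (CohDev.isCoh_of_iso (ProjTwist.oneTens M)
      (ProjTwist.isCoh_tensor hM (ProperFin.isCoh_structureModule X))) i
  have step : ∀ j, Module.finrank k (Coh.HH X Linv i) ≤
      Module.finrank k (Coh.HH X (CohB1.tensorPow Linv (p ^ j)) i) := by
    intro j
    induction j with
    | zero =>
      exact le_of_eq (LinearEquiv.ofBijective
        (CohLin.overLin k ((CohLin.hIso (ProjTwist.oneTens Linv).symm i).toLinearMap))
        (CohLin.hIso (ProjTwist.oneTens Linv).symm i).bijective).finrank_eq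
    | succ j ih =>
      refine ih.trans ((Groth.Agent.S18151.result p k X φ hφ s hs hlin _
        (AmpleLib.isInvertible_tensorPow hI (p ^ j)) i).trans (le_of_eq ?_))
      obtain ⟨c, -⟩ := AmpleLib.exists_iso_tensorPow_mul hI (p ^ j) p
      refine (LinearEquiv.ofBijective (CohLin.overLin k ((CohLin.hIso c i).toLinearMap))
        (CohLin.hIso c i).bijective).finrank_eq.trans ?_
      rw [pow_succ]
  have hzero : Module.finrank k (Coh.HH X (CohB1.tensorPow Linv m) i) = 0 :=
    Module.finrank_zero_of_subsingleton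
  have := hfin Linv hI
  exact (Module.finrank_eq_zero_iff_of_free k _).mp (Nat.le_zero.mp ((step d).trans (le_of_eq hzero)))

end Groth.Agent.S18150
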