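import Groth.Statements.S18153
import Mathlib.LinearAlgebra.Matrix.ToLinearEquiv
import Mathlib.Data.ZMod.Basic
import Mathlib.Algebra.Field.ZMod


set_option autoImplicit false
universe u w
open FrobAlg

namespace Groth.Agent.S18153

/-- Let R be a commutative ring of prime characteristic p and f_1, …, f_m (m ≥ 1) polynomials over R in
the variables t_1, …, t_m and a further, possibly empty, family of variables s_a. Then in the m × m
Jacobian determinant det(∂f_i/∂t_j) with respect to the t-variables, the coefficient of the monomial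
t_1^{p-1} ⋯ t_m^{p-1} (all s-exponents zero) vanishes. (In the source this is the claim, for formal
power series in n ≥ m variables over the base field, to which the proof of the proposition reduces;
the coefficient in question only involves truncations of the f_i, so the polynomial form over any
ring of characteristic p is the same assertion.) -/
theorem result
    (p : ℕ) [Fact p.Prime] (R : Type u) [CommRing R] [CharP R p]
    {m : ℕ} (hm : 0 < m) (σ : Type w) (f : Fin m → MvPolynomial (Fin m ⊕ σ) R) :
    MvPolynomial.coeff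
        (Finsupp.sumElim (Finsupp.equivFunOnFinite.symm fun _ : Fin m => p - 1) (0 : σ →₀ ℕ))
        (Matrix.of fun i j : Fin m => MvPolynomial.pderiv (Sum.inl j) (f i)).det = 0 := by
  classical
  have hp := (Fact.out : p.Prime)
  set P : MvPolynomial (Fin m ⊕ σ) R := ∏ j : Fin m, MvPolynomial.X (Sum.inl j) with hP
  set D := (Matrix.of fun i j : Fin m => MvPolynomial.pderiv (Sum.inl j) (f i)) with hD
  have hPm : P = MvPolynomial.monomial (∑ j : Fin m, Finsupp.single (Sum.inl j) 1) 1 := by
    rw [MvPolynomial.monomial_sum_one]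
    rfl
  have hdet : P * D.det = Matrix.det (fun i j : Fin m => ∑ a ∈ (f i).support,
      MvPolynomial.monomial a ((f i).coeff a) * ((a (Sum.inl j) : ℕ) : MvPolynomial (Fin m ⊕ σ) R)) := by
    rw [hP, ← Matrix.det_mul_row]
    congr 1
    ext i j : 1
    rw [Matrix.of_apply, hD, Matrix.of_apply]
    conv_lhs => rw [(f i).as_sum, map_sum, Finset.mul_sum]
    refine Finset.sum_congr rfl fun a _ => ?_
    rw [MvPolynomial.X_mul_pderiv_monomial, nsmul_eq_mul, mul_comm]
  have hexp : Matrix.det (fun i j : Fin m => ∑ a ∈ (f i).support,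
      MvPolynomial.monomial a ((f i).coeff a) * ((a (Sum.inl j) : ℕ) : MvPolynomial (Fin m ⊕ σ) R)) =
      ∑ r ∈ Fintype.piFinset fun i => (f i).support,
        MvPolynomial.monomial (∑ i, r i) (∏ i, (f i).coeff (r i)) *
          (Matrix.det (fun i j : Fin m => ((r i (Sum.inl j) : ℕ) : R)) |> MvPolynomial.C) := by
    have hrow : (fun i j : Fin m => ∑ a ∈ (f i).support,
        MvPolynomial.monomial a ((f i).coeff a) * ((a (Sum.inl j) : ℕ) : MvPolynomial (Fin m ⊕ σ) R)) =
        fun i => ∑ a ∈ (f i).support, MvPolynomial.monomial a ((f i).coeff a) •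
          (fun j : Fin m => ((a (Sum.inl j) : ℕ) : MvPolynomial (Fin m ⊕ σ) R)) := by
      funext i j
      simp [Finset.sum_apply]
    rw [hrow]
    change Matrix.detRowAlternating.toMultilinearMap (fun i => ∑ a ∈ (f i).support, _) = _
    rw [MultilinearMap.map_sum_finset]
    refine Finset.sum_congr rfl fun r _ => ?_
    rw [MultilinearMap.map_smul_univ, smul_eq_mul, MvPolynomial.monomial_sum_prod]
    congr 1
    rw [RingHom.map_det]
    congr 1
  have hz : ∀ r : Fin m → (Fin m ⊕ σ →₀ ℕ), (∀ j, ∑ i, r i (Sum.inl j) = p) →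
      Matrix.det (fun i j : Fin m => ((r i (Sum.inl j) : ℕ) : R)) = 0 := by
    intro r hr
    have hv : Matrix.det (fun i j : Fin m => ((r i (Sum.inl j) : ℕ) : ZMod p)) = 0 := by
      refine Matrix.exists_vecMul_eq_zero_iff.1 ⟨fun _ => 1, fun h => one_ne_zero (congrFun h ⟨0, hm⟩), ?_⟩
      funext j
      simp [Matrix.vecMul, dotProduct, ← Nat.cast_sum, hr j]
    have := congrArg (ZMod.castHom (dvd_refl p) R) hv
    rw [RingHom.map_det, map_zero] at this
    rw [← this]
    congr 1
    funext i j
    simp
  set d := Finsupp.sumElim (Finsupp.equivFunOnFinite.symm fun _ : Fin m => p - 1) (0 : σ →₀ ℕ) with hd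
  have hco := congrArg (MvPolynomial.coeff ((∑ j : Fin m, Finsupp.single (Sum.inl j) 1) + d)) hdet
  rw [hPm, MvPolynomial.coeff_monomial_mul, one_mul, hexp, MvPolynomial.coeff_sum] at hco
  rw [hco]
  refine Finset.sum_eq_zero fun r _ => ?_
  rw [mul_comm, MvPolynomial.coeff_C_mul, MvPolynomial.coeff_monomial]
  split_ifs with hr
  · rw [hz r fun j => ?_, zero_mul]
    have := DFunLike.congr_fun hr (Sum.inl j)
    simp [hd, Finsupp.single_apply] at this
    rw [this]
    have := hp.one_le
    omega
  · rw [mul_zero]

end Groth.Agent.S18153
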