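import Groth.Statements.S18154
import Groth.Agent.Hoch95.Basic
import Mathlib.LinearAlgebra.Matrix.Determinant.Basic
import Mathlib.RingTheory.Derivation.Lie


set_option autoImplicit false
universe u v
open FrobAlg

namespace Groth.Agent.S18154
open Finset Matrix

section
variable {k : Type u} {A : Type v} [CommRing k] [CommRing A] [Algebra k A]
variable {m : Type} [Fintype m] [DecidableEq m]

theorem der_prod {ι : Type} [DecidableEq ι] (E : Derivation k A A) (g : ι → A) (s : Finset ι) :
    E (∏ i ∈ s, g i) = ∑ i ∈ s, (∏ j ∈ s.erase i, g j) * E (g i) := by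
  induction s using Finset.induction with
  | empty => simp
  | @insert a s ha ih =>
    rw [prod_insert ha, Derivation.leibniz, ih, sum_insert ha, erase_insert ha]
    simp only [smul_eq_mul, mul_sum]
    rw [add_comm]
    congr 1
    refine sum_congr rfl fun i hi => ?_
    have hai : a ≠ i := fun h => ha (h ▸ hi)
    rw [erase_insert_of_ne hai, prod_insert (by simp [ha])]
    ring

theorem der_det (E : Derivation k A A) (M : Matrix m m A) :
    E M.det = ∑ i, (M.updateRow i (fun j => E (M i j))).det := by
  have hdet : ∀ N : Matrix m m A, N.det = ∑ σ : Equiv.Perm m,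
      ((Equiv.Perm.sign σ : ℤ) : A) * ∏ i, N i (σ i) := fun N => by
    rw [← det_transpose N, det_apply']; rfl
  rw [hdet, map_sum]
  simp only [hdet]
  rw [sum_comm]
  refine sum_congr rfl fun σ _ => ?_
  rw [Derivation.leibniz, Derivation.map_intCast, der_prod]
  simp only [smul_eq_mul, mul_zero, add_zero, mul_sum]
  refine sum_congr rfl fun i _ => ?_
  congr 1
  rw [← mul_prod_erase univ (fun j => M.updateRow i (fun j => E (M i j)) j (σ j)) (mem_univ i)]
  rw [mul_comm]
  congr 1
  · simp
  · exact prod_congr rfl fun j hj => by rw [updateRow_ne (ne_of_mem_erase hj)]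

/-- Piola identity: a determinant with one exact row and closed other rows is a divergence. -/
theorem det_exact_row (E : m → Derivation k A A) (i0 : m) (f : A) (M : Matrix m m A)
    (hM : ∀ i ≠ i0, ∀ j l, E j (M i l) = E l (M i j)) :
    (M.updateRow i0 (fun j => E j f)).det =
      ∑ j, E j (f * (M.updateRow i0 (Pi.single j 1)).det) := by
  let L : (m → A) →ₗ[A] A :=
    { toFun := fun v => (M.updateRow i0 v).det
      map_add' := det_updateRow_add M i0
      map_smul' := fun c v => det_updateRow_smul M i0 c v }
  have h1 : (M.updateRow i0 (fun j => E j f)).det =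
      ∑ j, E j f * (M.updateRow i0 (Pi.single j 1)).det := by
    show L (fun j => E j f) = ∑ j, E j f * L (Pi.single j 1)
    conv_lhs => rw [pi_eq_sum_univ' (fun j => E j f), map_sum]
    simp only [map_smul, smul_eq_mul]
  have hdiv : ∑ j, E j (M.updateRow i0 (Pi.single j 1)).det = 0 := by
    simp only [der_det]
    rw [sum_comm]
    refine sum_eq_zero fun i _ => ?_
    rcases eq_or_ne i i0 with rfl | hi
    · refine sum_eq_zero fun j _ => det_eq_zero_of_row_eq_zero i fun l => ?_
      simp [Pi.single_apply, apply_ite (E j)]
    let B : m → m → A := fun j l =>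
      ((M.updateRow i0 (Pi.single j 1)).updateRow i (Pi.single l 1)).det
    have hB : ∀ j, ((M.updateRow i0 (Pi.single j 1)).updateRow i
        (fun l => E j ((M.updateRow i0 (Pi.single j 1)) i l))).det =
        ∑ l, E j (M i l) * B j l := by
      intro j
      let L' : (m → A) →ₗ[A] A :=
        { toFun := fun v => ((M.updateRow i0 (Pi.single j 1)).updateRow i v).det
          map_add' := det_updateRow_add _ i
          map_smul' := fun c v => det_updateRow_smul _ i c v }
      simp only [updateRow_ne hi]
      show L' (fun l => E j (M i l)) = ∑ l, E j (M i l) * L' (Pi.single l 1)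
      conv_lhs => rw [pi_eq_sum_univ' (fun l => E j (M i l)), map_sum]
      simp only [map_smul, smul_eq_mul]
    simp only [hB]
    rw [← sum_product']
    have hdiag : ∀ j, B j j = 0 := fun j => det_zero_of_row_eq hi (by
      simp [B, updateRow_ne hi.symm])
    have hswap : ∀ j l, B l j = - B j l := fun j l => by
      have := det_permute (Equiv.swap i i0) ((M.updateRow i0 (Pi.single j 1)).updateRow i (Pi.single l 1))
      rw [Equiv.Perm.sign_swap hi] at this
      have he : ((M.updateRow i0 (Pi.single j 1)).updateRow i (Pi.single l (1 : A))).submatrix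
          (Equiv.swap i i0) id = (M.updateRow i0 (Pi.single l 1)).updateRow i (Pi.single j 1) := by
        ext a c
        rcases eq_or_ne a i with rfl | ha
        · simp [updateRow_ne hi.symm]
        rcases eq_or_ne a i0 with rfl | ha'
        · simp [updateRow_ne hi.symm]
        · simp [Equiv.swap_apply_of_ne_of_ne ha ha', updateRow_ne ha, updateRow_ne ha']
      rw [he] at this
      simp only [B]
      rw [this]; simp
    refine sum_involution (fun x _ => (x.2, x.1)) ?_ ?_ (fun x _ => mem_univ _) (fun x _ => rfl)
    · rintro ⟨j, l⟩ _
      simp only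
      rw [hswap j l, hM i hi l j]; ring
    · rintro ⟨j, l⟩ _ hne h
      simp only [Prod.mk.injEq] at h
      apply hne
      simp [← h.1, hdiag]
  have h2 : ∀ j, E j (f * (M.updateRow i0 (Pi.single j 1)).det) =
      E j f * (M.updateRow i0 (Pi.single j 1)).det +
        f * E j (M.updateRow i0 (Pi.single j 1)).det := fun j => by
    rw [Derivation.leibniz, smul_eq_mul, smul_eq_mul]; ring
  simp only [h2, sum_add_distrib, ← mul_sum, hdiv, mul_zero, add_zero, h1]

theorem det_sub_diag (E : m → Derivation k A A) (hE : ∀ i j x, E i (E j x) = E j (E i x))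
    (a f : m → A) (ha : ∀ i j, i ≠ j → E j (a i) = 0)
    (D : A →ₗ[k] A) (hD : ∀ j x, D (E j x) = 0) :
    D (Matrix.of fun i j => (if i = j then a i else 0) + E j (f i)).det = D (∏ i, a i) := by
  let R : Finset m → Matrix m m A := fun S => Matrix.of fun i j =>
    if i ∈ S then (if i = j then a i else 0) else (if i = j then a i else 0) + E j (f i)
  have hclosed : ∀ S i j l, E j (R S i l) = E l (R S i j) := by
    intro S i j l
    have hd : E j (if i = l then a i else 0) = E l (if i = j then a i else 0) := by
      by_cases hil : i = l <;> by_cases hij : i = j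
      · subst hil hij; rfl
      · subst hil; simp [hij, ha _ _ hij]
      · subst hij; simp [hil, ha _ _ hil]
      · simp [hil, hij]
    simp only [R, Matrix.of_apply]
    by_cases hi : i ∈ S
    · simp only [if_pos hi]; exact hd
    · simp only [if_neg hi]; rw [map_add, map_add, hd, hE j l (f i)]
  have step : ∀ S, D (R S).det = D (R ∅).det := by
    intro S
    induction S using Finset.induction with
    | empty => rfl
    | @insert i0 S hi0 ih =>
      rw [← ih]
      have e1 : R S = (R S).updateRow i0 ((fun j => if i0 = j then a i0 else 0) + fun j => E j (f i0)) := by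
        ext i j
        rcases eq_or_ne i i0 with rfl | h
        · simp [R, hi0]
        · simp [h]
      have e2 : (R S).updateRow i0 (fun j => if i0 = j then a i0 else 0) = R (insert i0 S) := by
        ext i j
        rcases eq_or_ne i i0 with rfl | h
        · simp [R]
        · simp [R, h]
      have h3 : (R S).det = (R (insert i0 S)).det + ((R S).updateRow i0 fun j => E j (f i0)).det := by
        conv_lhs => rw [e1, det_updateRow_add, e2]
      rw [h3, det_exact_row E i0 (f i0) (R S) (fun i _ j l => hclosed S i j l), map_add, map_sum]
      rw [Finset.sum_eq_zero (fun x _ => hD x _), add_zero]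
  have hu : (R univ) = Matrix.diagonal a := by
    ext i j; simp [R, Matrix.diagonal_apply]
  have h0 : (R ∅) = Matrix.of fun i j => (if i = j then a i else 0) + E j (f i) := by
    ext i j; simp [R]
  rw [← h0, ← step univ, hu, det_diagonal]

end


/-- Let k be an algebraically closed field of characteristic p, A a smooth k-algebra that is an integral
domain, and t_1, …, t_n ∈ A such that dt_1, …, dt_n is a basis of the module of Kähler differentials
Ω_{A/k}. Let (B, ι, π, Φ) be a flat lifting of A over W_2(k) together with a lift Φ of Frobenius,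
T_i ∈ B lifts of the t_i, and F_i ∈ B with Φ(T_i) = T_i^p + p·F_i; put f_i = π(F_i) ∈ A. Then the n
× n matrix over A with entries δ_{ij} t_i^{p-1} + ∂f_i/∂t_j, the partial derivatives being the
coordinates of df_i in the basis dt_j, has nonzero determinant. This is the matrix of the A-linear
map F_A^*Ω_{A/k} → Ω_{A/k} obtained from dΦ after dividing by p, which is therefore generically
bijective. (The source states generic bijectivity for a smooth variety and reduces it to this
determinant on an affine open with étale coordinates.) -/
theorem result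
    (p : ℕ) [Fact p.Prime] (k : Type u) [Field k] [IsAlgClosed k] [CharP k p]
    (A : Type v) [CommRing A] [IsDomain A] [Algebra k A] [Algebra.Smooth k A]
    {n : ℕ} (t : Fin n → A) (b : Module.Basis (Fin n) A (KaehlerDifferential k A))
    (hb : ∀ i, b i = KaehlerDifferential.D k A (t i))
    (B : Type v) [CommRing B] (ι : FrobAlg.W2 p k →+* B) (π : B →+* A) (Φ : B →+* B)
    (hΦ : FrobAlg.IsFrobLift p k A B ι π Φ)
    (T F : Fin n → B) (hT : ∀ i, π (T i) = t i) (hF : ∀ i, Φ (T i) = T i ^ p + (p : B) * F i) :
    (Matrix.of fun i j : Fin n =>
        (if i = j then t i ^ (p - 1) else 0) +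
          b.coord j (KaehlerDifferential.D k A (π (F i)))).det ≠ 0 := by
  classical
  haveI : CharP A p := charP_of_injective_algebraMap (algebraMap k A).injective p
  let E : Fin n → Derivation k A A := fun j => (b.coord j).compDer (KaehlerDifferential.D k A)
  have hEt : ∀ i j, E j (t i) = if i = j then 1 else 0 := fun i j => by
    show b.coord j (KaehlerDifferential.D k A (t i)) = _
    rw [← hb i, Module.Basis.coord_apply, b.repr_self, Finsupp.single_apply]
  have hzero : ∀ G : Derivation k A A, (∀ i, G (t i) = 0) → ∀ x, G x = 0 := by
    intro G hG x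
    have : G.liftKaehlerDifferential = 0 := b.ext fun i => by
      rw [hb i, Derivation.liftKaehlerDifferential_comp_D, LinearMap.zero_apply]; exact hG i
    rw [← Derivation.liftKaehlerDifferential_comp_D G x, this, LinearMap.zero_apply]
  have hcomm : ∀ i j x, E i (E j x) = E j (E i x) := by
    intro i j x
    have := hzero ⁅E i, E j⁆ (fun l => by
      rw [Derivation.commutator_apply, hEt, hEt]
      split_ifs <;> simp) x
    rw [Derivation.commutator_apply] at this
    exact sub_eq_zero.1 this
  have hp : p.Prime := Fact.out
  have hpp : ∀ j x, (⇑(E j))^[p] x = 0 := by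
    intro j x
    obtain ⟨Dp, hDp⟩ := Groth.Agent.Hoch95.exists_iterPow p (E j)
    rw [← hDp]
    refine hzero Dp (fun l => ?_) x
    obtain ⟨q, hq⟩ : ∃ q, p = q + 2 := ⟨p - 2, by have := hp.two_le; omega⟩
    rw [hDp, hq, Function.iterate_succ_apply, Function.iterate_succ_apply, hEt]
    split_ifs <;> simp [iterate_map_zero]
  -- the functional
  let P : List (Fin n) → (A →ₗ[k] A) := fun l =>
    (l.map fun j => ((E j : A →ₗ[k] A)) ^ (p - 1)).prod
  have hPcons : ∀ j l x, P (j :: l) x = (⇑(E j))^[p - 1] (P l x) := fun j l x => by
    simp only [P, List.map_cons, List.prod_cons, Module.End.mul_apply, Module.End.pow_apply]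
    rfl
  have hPcomm : ∀ l j x, P l (E j x) = E j (P l x) := by
    intro l j
    induction l with
    | nil => intro x; simp [P]
    | cons i l ih =>
      intro x
      rw [hPcons, hPcons, ih]
      exact (Function.Commute.iterate_left (fun y => hcomm i j y) (p - 1)) _
  have hPE : ∀ l, ∀ j ∈ l, ∀ x, P l (E j x) = 0 := by
    intro l
    induction l with
    | nil => simp
    | cons i l ih =>
      intro j hj x
      rw [hPcons]
      rcases List.mem_cons.1 hj with rfl | hj
      · rw [hPcomm, ← Function.iterate_succ_apply, Nat.succ_eq_add_one,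
          show p - 1 + 1 = p by have := hp.two_le; omega]
        exact hpp _ _
      · rw [ih j hj x, iterate_map_zero]
  have hne : ∀ q, q < p → (q.factorial : A) ≠ 0 := fun q hq h => by
    have := (CharP.cast_eq_zero_iff A p q.factorial).1 h
    exact absurd (hp.dvd_factorial.1 this) (by omega)
  have hpow : ∀ j q (g : A), E j g = 0 →
      (⇑(E j))^[q] (t j ^ q * g) = (q.factorial : A) * g := by
    intro j q
    induction q with
    | zero => intro g _; simp
    | succ q ih =>
      intro g hg
      have : E j (t j ^ (q + 1) * g) = t j ^ q * (((q + 1 : ℕ) : A) * g) := by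
        rw [Derivation.leibniz, Derivation.leibniz_pow, hg, hEt]
        simp only [smul_eq_mul, nsmul_eq_mul, if_true, mul_zero, zero_add, Nat.add_sub_cancel]
        ring
      rw [Function.iterate_succ_apply, this, ih _ (by
        rw [Derivation.leibniz, hg, Derivation.map_natCast]; simp)]
      push_cast [Nat.factorial_succ]; ring
  have hkill : ∀ i j, i ≠ j → E j (t i ^ (p - 1)) = 0 := fun i j h => by
    rw [Derivation.leibniz_pow, hEt, if_neg h]; simp
  have hPprod : ∀ (l : List (Fin n)), l.Nodup → ∀ g : A, (∀ j ∈ l, E j g = 0) →
      P l ((∏ i ∈ l.toFinset, t i ^ (p - 1)) * g) = ((p - 1).factorial : A) ^ l.length * g := by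
    intro l
    induction l with
    | nil => intro _ g _; simp [P]
    | cons i l ih =>
      intro hl g hg
      obtain ⟨hil, hl'⟩ := List.nodup_cons.1 hl
      rw [hPcons, List.toFinset_cons, Finset.prod_insert (by simpa using hil),
        show t i ^ (p - 1) * (∏ x ∈ l.toFinset, t x ^ (p - 1)) * g =
          (∏ x ∈ l.toFinset, t x ^ (p - 1)) * (t i ^ (p - 1) * g) by ring,
        ih hl' _ (fun j hj => by
          have : i ≠ j := fun h => hil (h ▸ hj)
          rw [Derivation.leibniz, hkill i j this, hg j (List.mem_cons_of_mem _ hj)]; simp),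
        show ((p - 1).factorial : A) ^ l.length * (t i ^ (p - 1) * g) =
          t i ^ (p - 1) * (((p - 1).factorial : A) ^ l.length * g) by ring,
        hpow i (p - 1) _ (by
          rw [Derivation.leibniz, hg i (List.mem_cons_self ..), Derivation.leibniz_pow,
            Derivation.map_natCast]
          simp)]
      rw [List.length_cons, pow_succ]; ring
  intro hdet
  have key := det_sub_diag E hcomm (fun i => t i ^ (p - 1)) (fun i => π (F i)) hkill
    (P (Finset.univ : Finset (Fin n)).toList) (fun j x => hPE _ j (by simp) x)
  change (Matrix.of fun i j => (if i = j then t i ^ (p - 1) else 0) + E j (π (F i))).det = 0 at hdet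
  rw [hdet, map_zero] at key
  have := hPprod _ (Finset.univ : Finset (Fin n)).nodup_toList 1 (fun j _ => Derivation.map_one_eq_zero _)
  rw [Finset.toList_toFinset, mul_one, mul_one, ← key] at this
  exact pow_ne_zero _ (hne (p - 1) (by have := hp.two_le; omega)) this.symm

end Groth.Agent.S18154
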