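import Groth.Statements.S18155
import Groth.Agent.IndAlg.EtaleLift
import Groth.Agent.FrobW.Witt
import Mathlib.RingTheory.RingHom.Etale
import Mathlib.RingTheory.RingHom.Flat

set_option autoImplicit false
universe u v
open FrobAlg

namespace Groth.Agent.S18155

/-- A ring map out of an étale algebra lifts along a square-zero surjection. -/
theorem lift_of_etale {R S T T' : Type*} [CommRing R] [CommRing S] [CommRing T] [CommRing T'] [Algebra R S]
    (hS : Algebra.Etale R S) (f : R →+* T) (π : T →+* T') (hπ : Function.Surjective π)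
    (hsq : ∀ x ∈ RingHom.ker π, ∀ y ∈ RingHom.ker π, x * y = 0)
    (g : S →+* T') (hg : g.comp (algebraMap R S) = π.comp f) :
    ∃ h : S →+* T, h.comp (algebraMap R S) = f ∧ π.comp h = g := by
  haveI := hS
  letI : Algebra R T := f.toAlgebra
  letI : Algebra R T' := (π.comp f).toAlgebra
  let πa : T →ₐ[R] T' := { π with commutes' := fun r => rfl }
  let ga : S →ₐ[R] T' := { g with commutes' := fun r => RingHom.congr_fun hg r }
  have hn : IsNilpotent (RingHom.ker (πa : T →+* T')) := by
    refine ⟨2, ?_⟩
    rw [Submodule.zero_eq_bot, eq_bot_iff]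
    refine le_trans (le_of_eq (by rw [Submodule.pow_succ, Submodule.pow_one])) (Ideal.mul_le.2 fun x hx y hy => ?_)
    exact hsq x hx y hy
  refine ⟨(Algebra.FormallySmooth.liftOfSurjective ga πa hπ hn).toRingHom, ?_, ?_⟩
  · exact RingHom.ext fun r => (Algebra.FormallySmooth.liftOfSurjective ga πa hπ hn).commutes r
  · exact RingHom.ext fun s => Algebra.FormallySmooth.liftOfSurjective_apply ga πa hπ hn s

/-- Let k be an algebraically closed field of characteristic p, A a commutative k-algebra and C an étale
A-algebra. If A admits a flat lifting over W_2(k) together with a lift of Frobenius, then so does C.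
(The source states this for an étale cover Y → X of smooth varieties over k; its argument uses only
that Y is étale over X, and the affine case is stated here with no smoothness or finiteness
hypothesis on A over k.) -/
theorem result
    (p : ℕ) [Fact p.Prime] (k : Type u) [Field k] [IsAlgClosed k] [CharP k p]
    (A C : Type v) [CommRing A] [CommRing C] [Algebra k A] [Algebra k C]
    [Algebra A C] [IsScalarTower k A C] [Algebra.Etale A C]
    (hA : FrobAlg.IsFLiftable p k A) : FrobAlg.IsFLiftable p k C := by
  classical
  obtain ⟨B, iB, ι, π, Φ, hΦ⟩ := hA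
  have hp := (Fact.out : p.Prime)
  have hpC : (p : C) = 0 := by rw [← map_natCast (algebraMap k C), CharP.cast_eq_zero, map_zero]
  set I : Ideal B := RingHom.ker π with hI
  letI : Algebra (B ⧸ I) C := ((algebraMap A C).comp (RingHom.quotientKerEquivOfSurjective hΦ.surj).toRingHom).toAlgebra
  letI : Algebra B C := ((algebraMap A C).comp π).toAlgebra
  haveI : IsScalarTower B (B ⧸ I) C := IsScalarTower.of_algebraMap_eq fun b => rfl
  haveI : Algebra.Etale (B ⧸ I) C := by
    rw [← RingHom.etale_algebraMap]
    exact (RingHom.Etale.respectsIso).right _ _ (RingHom.etale_algebraMap.2 ‹Algebra.Etale A C›)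
  obtain ⟨C', iC, iA, hC', ⟨e⟩⟩ := Groth.Agent.IndAlg.EtaleLift.exists_lift B I C
  let π' : C' →+* C := e.toRingEquiv.toRingHom.comp (Ideal.Quotient.mk _)
  have hπ'surj : Function.Surjective π' := e.surjective.comp Ideal.Quotient.mk_surjective
  have hπ' : π'.comp (algebraMap B C') = (algebraMap A C).comp π := RingHom.ext fun b => e.commutes b
  have hker : RingHom.ker π' = I.map (algebraMap B C') := by
    ext x
    rw [RingHom.mem_ker, ← Ideal.Quotient.eq_zero_iff_mem]
    exact e.toRingEquiv.map_eq_zero_iff
  have hsq : ∀ x ∈ RingHom.ker π', ∀ y ∈ RingHom.ker π', x * y = 0 := by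
    intro x hx y hy
    have h : I * I = ⊥ := eq_bot_iff.2 (Ideal.mul_le.2 fun a ha b hb => Groth.Agent.FrobW.Witt.lift_mul_eq_zero hΦ.toIsLift ha hb)
    have := Ideal.mul_mem_mul (hker ▸ hx) (hker ▸ hy)
    rw [← Ideal.map_mul, h, Ideal.map_bot] at this
    exact this
  have hC'flat : (algebraMap B C').Flat := RingHom.flat_algebraMap_iff.2 inferInstance
  have hlift : FrobAlg.IsLift p k C C' ((algebraMap B C').comp ι) π' :=
    { flat := hΦ.flat.comp hC'flat
      surj := hπ'surj
      ker_eq := by rw [hker, hI, hΦ.ker_eq, Ideal.map_map]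
      comm := by
        rw [← RingHom.comp_assoc, hπ', RingHom.comp_assoc, hΦ.comm, ← RingHom.comp_assoc, ← IsScalarTower.algebraMap_eq] }
  let F : C →+* C :=
    { toFun := fun x => x ^ p
      map_one' := one_pow p
      map_mul' := fun x y => mul_pow x y p
      map_zero' := zero_pow hp.ne_zero
      map_add' := fun x y => by
        obtain ⟨r, hr⟩ := exists_add_pow_prime_eq hp x y
        rw [hr, hpC]
        ring }
  have hF : (F.comp π').comp (algebraMap B C') = π'.comp ((algebraMap B C').comp Φ) := by
    rw [RingHom.comp_assoc, hπ']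
    conv_rhs => rw [← RingHom.comp_assoc, hπ']
    refine RingHom.ext fun b => ?_
    change algebraMap A C (π b) ^ p = algebraMap A C (π (Φ b))
    rw [hΦ.red, map_pow]
  obtain ⟨Φ', hΦ'1, hΦ'2⟩ := lift_of_etale hC' ((algebraMap B C').comp Φ) π' hπ'surj hsq (F.comp π') hF
  exact ⟨C', iC, _, π', Φ',
    { toIsLift := hlift
      semi := by rw [← RingHom.comp_assoc, hΦ'1, RingHom.comp_assoc, hΦ.semi, RingHom.comp_assoc]
      red := fun c => RingHom.congr_fun hΦ'2 c }⟩

end Groth.Agent.S18155
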