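import Mathlib
import Groth.Statements.S18156
-- import your own Groth.Agent.* helpers here

set_option autoImplicit false
universe u v
open CAlg

namespace Groth.Agent.S18156

/-- Let k be a field and A a regular local ring that is a k-algebra, with maximal ideal m and m-adic
completion Â. Then every k-derivation D of A into itself extends to a k-derivation D̂ of Â into
itself along the canonical map ρ : A → Â, in the sense that D̂(ρ(a)) = ρ(D(a)) for every a ∈ A. (The
source works throughout over an algebraically closed field of characteristic p; neither assumption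
enters this statement.) -/
theorem result
    (k : Type u) [Field k] (A : Type v) [CommRing A] [Algebra k A] [IsRegularLocalRing A]
    (D : Derivation k A A) :
    ∃ Dhat : Derivation k (AdicCompletion (IsLocalRing.maximalIdeal A) A)
        (AdicCompletion (IsLocalRing.maximalIdeal A) A),
      ∀ a : A, Dhat (algebraMap A (AdicCompletion (IsLocalRing.maximalIdeal A) A) a) =
        algebraMap A (AdicCompletion (IsLocalRing.maximalIdeal A) A) (D a) := by
  classical
  set m := IsLocalRing.maximalIdeal A with hm
  have hpow : ∀ n : ℕ, ∀ a ∈ m ^ (n + 1), D a ∈ m ^ n := by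
    intro n
    induction n with
    | zero => intro a _; simp
    | succ n ih =>
      intro a ha
      rw [pow_succ] at ha
      refine Submodule.smul_induction_on ha (fun u hu v hv => ?_) fun u v hu hv => by rw [map_add]; exact Ideal.add_mem _ hu hv
      rw [smul_eq_mul, D.leibniz, smul_eq_mul, smul_eq_mul]
      refine Ideal.add_mem _ (Ideal.mul_mem_right _ _ hu) ?_
      have h2 := Ideal.mul_mem_mul (ih u hu) hv
      rw [← pow_succ] at h2
      rwa [mul_comm]
  choose r hr using fun (x : AdicCompletion m A) (n : ℕ) => Submodule.Quotient.mk_surjective _ (x.val n)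
  have hwd : ∀ (x : AdicCompletion m A) (n : ℕ) (a : A),
      (Submodule.Quotient.mk a : A ⧸ (m ^ (n + 1) • ⊤ : Submodule A A)) = x.val (n + 1) →
      (Submodule.Quotient.mk (D a) : A ⧸ (m ^ n • ⊤ : Submodule A A)) = Submodule.Quotient.mk (D (r x (n + 1))) := by
    intro x n a ha
    rw [← hr x (n + 1), Submodule.Quotient.eq, smul_eq_mul, Ideal.mul_top] at ha
    rw [Submodule.Quotient.eq, smul_eq_mul, Ideal.mul_top, ← map_sub]
    exact hpow n _ ha
  let f : AdicCompletion m A → AdicCompletion m A := fun x =>
    ⟨fun n => Submodule.Quotient.mk (D (r x (n + 1))), fun {i j} hij => by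
      show (Submodule.Quotient.mk (D (r x (j + 1))) : A ⧸ (m ^ i • ⊤ : Submodule A A)) = Submodule.Quotient.mk (D (r x (i + 1)))
      refine hwd x i _ ?_
      rw [← x.2 (Nat.succ_le_succ hij), ← hr x (j + 1)]
      rfl⟩
  have hf : ∀ x n, (f x).val n = Submodule.Quotient.mk (D (r x (n + 1))) := fun x n => rfl
  have hadd : ∀ x y, f (x + y) = f x + f y := fun x y => AdicCompletion.ext fun n => by
    rw [hf, AdicCompletion.val_add_apply, hf, hf, ← hwd (x + y) n (r x (n + 1) + r y (n + 1))
      (by rw [Submodule.Quotient.mk_add, hr, hr]; rfl), map_add, Submodule.Quotient.mk_add]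
  have hsmul : ∀ (c : k) x, f (c • x) = c • f x := fun c x => AdicCompletion.ext fun n => by
    rw [hf, AdicCompletion.val_smul_apply, hf, ← hwd (c • x) n (c • r x (n + 1))
      (by rw [Submodule.Quotient.mk_smul, hr]; rfl), D.map_smul, Submodule.Quotient.mk_smul]
  have hleib : ∀ x y, f (x * y) = x • f y + y • f x := fun x y => AdicCompletion.ext fun n => by
    have hx : (Submodule.Quotient.mk (r x (n + 1)) : A ⧸ (m ^ n • ⊤ : Submodule A A)) = x.val n := by
      rw [← x.2 (Nat.le_succ n), ← hr x (n + 1)]; rfl
    have hy : (Submodule.Quotient.mk (r y (n + 1)) : A ⧸ (m ^ n • ⊤ : Submodule A A)) = y.val n := by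
      rw [← y.2 (Nat.le_succ n), ← hr y (n + 1)]; rfl
    rw [hf, ← hwd (x * y) n (r x (n + 1) * r y (n + 1))
      (by rw [AdicCompletion.val_mul, ← hr x (n + 1), ← hr y (n + 1)]; rfl), D.leibniz]
    simp only [smul_eq_mul, AdicCompletion.val_add_apply, AdicCompletion.val_mul, hf, ← hx, ← hy]
    rfl
  let F : AdicCompletion m A →ₗ[k] AdicCompletion m A := { toFun := f, map_add' := hadd, map_smul' := hsmul }
  refine ⟨Derivation.mk' F hleib, fun a => AdicCompletion.ext fun n => ?_⟩
  show (f _).val n = _
  rw [hf, ← hwd _ n a rfl]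
  rfl

end Groth.Agent.S18156
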