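import Groth.Statements.S18158
import Groth.Agent.S0118
import Groth.Agent.FrobW.Witt
import Groth.Agent.FrobW.W2

set_option autoImplicit false
universe u
open CategoryTheory CategoryTheory.Limits AlgebraicGeometry
open Lift

namespace Groth.Agent.S18158

theorem surjective_specMap_of_sq_zero {A B : CommRingCat.{u}} (φ : A ⟶ B) (hφ : Function.Surjective φ.hom)
    (h : ∀ a ∈ RingHom.ker φ.hom, a ^ 2 = 0) : AlgebraicGeometry.Surjective (AlgebraicGeometry.Spec.map φ) := by
  refine ⟨fun P => ?_⟩
  have hr : (P : PrimeSpectrum A) ∈ Set.range (PrimeSpectrum.comap φ.hom) := by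
    rw [range_comap_of_surjective _ φ.hom hφ]
    exact fun a ha => P.isPrime.mem_of_pow_mem 2 (by rw [h a ha]; exact zero_mem _)
  exact hr


/-- Let k be an algebraically closed field of characteristic p and q : Y → X an étale morphism to a
smooth k-scheme X. Suppose X has a W_2-lifting of its Frobenius: a scheme X~ flat over Spec W_2(k),
a morphism i : X → X~ making X the base change of X~ along Spec k → Spec W_2(k) (the residue map),
and an endomorphism F~ of X~ with i ∘ F_X = F~ ∘ i, F_X the absolute Frobenius. Then Y has one as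
well: there are a scheme Y~ flat over Spec W_2(k), a morphism j : Y → Y~ making Y the base change of
Y~ along the same map, and an endomorphism G~ of Y~ with j ∘ F_Y = G~ ∘ j. (The source speaks of an
étale cover Y → X of smooth varieties; its argument uses only that Y is étale over X and that X
lifts, so X is taken smooth over k and Y étale over X, with no integrality, separatedness or
quasi-compactness assumed.) -/
theorem result
    (p : ℕ) [Fact p.Prime] (k : Type u) [Field k] [IsAlgClosed k] [CharP k p]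
    (X Y : Scheme.{u}) (f : X ⟶ Spec (CommRingCat.of k)) [Smooth f]
    (q : Y ⟶ X) [AlgebraicGeometry.Etale q]
    [FrobSch.IsCharP X p] [FrobSch.IsCharP Y p]
    (Xl : Scheme.{u}) (g : Xl ⟶ Spec (CommRingCat.of (FrobAlg.W2 p k))) [Flat g]
    (i : X ⟶ Xl) (hsq : IsPullback i f g (Spec.map (CommRingCat.ofHom (FrobAlg.res p k))))
    (Fl : Xl ⟶ Xl) (hF : i ≫ Fl = FrobSch.frob X p ≫ i) :
    ∃ (Yl : Scheme.{u}) (gY : Yl ⟶ Spec (CommRingCat.of (FrobAlg.W2 p k))) (j : Y ⟶ Yl) (Gl : Yl ⟶ Yl),
      Flat gY ∧ IsPullback j (q ≫ f) gY (Spec.map (CommRingCat.ofHom (FrobAlg.res p k))) ∧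
        j ≫ Gl = FrobSch.frob Y p ≫ j := by
  let ρ := CommRingCat.ofHom (FrobAlg.res p k)
  have hρ : Function.Surjective ρ.hom := fun a =>
    ⟨TruncatedWittVector.mk p ![a, 0], by
      show FrobAlg.res p k _ = a
      rw [Groth.Agent.FrobW.Witt.res_eq, TruncatedWittVector.coeff_mk]
      rfl⟩
  haveI : IsClosedImmersion (Spec.map ρ) := IsClosedImmersion.spec_of_surjective ρ hρ
  haveI : Surjective (Spec.map ρ) := surjective_specMap_of_sq_zero ρ hρ fun a ha => by
    rw [pow_two]
    exact Groth.Agent.FrobW.Witt.mul_eq_zero_of_res (CharP.cast_eq_zero k p) ha ha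
  haveI : IsClosedImmersion i := MorphismProperty.of_isPullback (P := @IsClosedImmersion) hsq.flip inferInstance
  haveI : Surjective i := MorphismProperty.of_isPullback (P := @Surjective) hsq.flip inferInstance
  haveI := Groth.Agent.S0118.result i
  let U : X.Etale := MorphismProperty.Over.mk ⊤ q ‹_›
  let V := (EtCoh.bc i).objPreimage U
  let e : (EtCoh.bc i).obj V ≅ U := (EtCoh.bc i).objObjPreimageIso U
  let ql : V.left ⟶ Xl := V.hom
  haveI : AlgebraicGeometry.Etale ql := V.prop
  let a : Y ⟶ pullback ql i := e.inv.left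
  have ha : IsIso a :=
    inferInstanceAs (IsIso ((Scheme.Etale.forget X ⋙ Over.forget X).map e.inv))
  have haw : a ≫ pullback.snd ql i = q := MorphismProperty.Over.w e.inv
  let j : Y ⟶ V.left := a ≫ pullback.fst ql i
  have hj : IsPullback j q ql i :=
    IsPullback.of_iso_pullback ⟨by
      show (a ≫ pullback.fst ql i) ≫ ql = q ≫ i
      rw [Category.assoc, pullback.condition, ← Category.assoc, haw]⟩ (asIso a) rfl haw
  have hjq : j ≫ ql = q ≫ i := hj.w
  have hb : (inv a ≫ FrobSch.frob Y p ≫ j) ≫ ql = pullback.fst ql i ≫ ql ≫ Fl := by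
    simp only [Category.assoc]
    rw [hjq, ← Category.assoc (FrobSch.frob Y p), FrobSch.frob_comp, Category.assoc, ← hF,
      ← reassoc_of% hjq]
    simp [j]
  let b : pullback ql i ⟶ pullback ql Fl :=
    pullback.lift (inv a ≫ FrobSch.frob Y p ≫ j) (pullback.fst ql i ≫ ql) (hb.trans (Category.assoc _ _ _).symm)
  haveI : AlgebraicGeometry.Etale (pullback.snd ql Fl) := inferInstance
  let φ₀ : (Over.pullback i).obj (Over.mk ql) ⟶ (Over.pullback i).obj (Over.mk (pullback.snd ql Fl)) :=
    Over.homMk (pullback.lift b (pullback.snd ql i)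
      ((pullback.lift_snd _ _ _).trans pullback.condition)) (pullback.lift_snd _ _ _)
  haveI : AlgebraicGeometry.Etale (Over.mk (pullback.snd ql Fl)).hom := ‹AlgebraicGeometry.Etale (pullback.snd ql Fl)›
  obtain ⟨φ, hφ⟩ := (Groth.Agent.EtaleSite.bijective_pullback_map i (Over.mk (pullback.snd ql Fl)) (Over.mk ql)).2 φ₀
  have h1 : pullback.fst ql i ≫ φ.left = b := by
    have h2 := congrArg (fun k => k.left ≫ pullback.fst (pullback.snd ql Fl) i) hφ
    exact ((pullback.lift_fst _ _ _).symm.trans h2).trans (pullback.lift_fst _ _ _)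
  refine ⟨V.left, ql ≫ g, j, φ.left ≫ pullback.fst ql Fl, inferInstance, hj.paste_vert hsq, ?_⟩
  show (a ≫ pullback.fst ql i) ≫ φ.left ≫ pullback.fst ql Fl = _
  rw [Category.assoc, reassoc_of% h1, pullback.lift_fst]
  simp [j]

end Groth.Agent.S18158
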