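import Groth.Statements.S18160
import Mathlib
import Groth.Agent.FrobSplit71.Basic
import Groth.Agent.AmpCrit.TwistDev
import Groth.Agent.CMReg.Closed
import Groth.Agent.QCoh.Qcqs
import Groth.Agent.ProjTwist.Invertible
-- import your own Groth.Agent.* helpers here

set_option autoImplicit false
universe u
open CategoryTheory CategoryTheory.Limits AlgebraicGeometry
open FrobSch

namespace Groth.Agent.S18160

/-- Let k be an algebraically closed field of odd characteristic p, X a smooth, proper, integral
k-scheme and f : Y → X a finite étale morphism of degree 2, that is with f_*O_Y locally free of rank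
2 (a Galois cover with group of order 2; 2 divides p − 1). For a scheme Z of characteristic p write
B¹_Z for the cokernel, in O_Z-modules, of the unit O_Z → F_{Z*}O_Z of the absolute Frobenius F_Z. If
H^i(Y, B¹_Y) vanishes for every i, then H^i(X, B¹_X) vanishes for every i. (The source's cases (2)
and (3), cyclic covers of degree 3 and 4 with 3, resp. 4, dividing p − 1, are not stated here.) -/
theorem result
    (p : ℕ) [Fact p.Prime] (hp : p ≠ 2) (k : Type u) [Field k] [IsAlgClosed k] [CharP k p]
    (X Y : Scheme.{u}) (g : X ⟶ Spec (CommRingCat.of k)) [IsProper g] [Smooth g] [AlgebraicGeometry.IsIntegral X]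
    (f : Y ⟶ X) [IsFinite f] [AlgebraicGeometry.Etale f]
    (h2 : FlatMod.IsFinLocFreeOfRank 2 ((Scheme.Modules.pushforward f).obj (Coh.structureModule Y)))
    [FrobSch.IsCharP X p] [FrobSch.IsCharP Y p]
    (hY : ∀ i : ℕ, Subsingleton (Coh.HH Y (cokernel (ClSub.unitToPush (FrobSch.frob Y p))) i)) :
    ∀ i : ℕ, Subsingleton (Coh.HH X (cokernel (ClSub.unitToPush (FrobSch.frob X p))) i) := by
  intro i
  have hX : Coh.IsQCoh (Coh.structureModule Y) := ProjTwist.isQuasicoherent_structureModule Y
  haveI : IsAffineHom (FrobSch.frob Y p) := ⟨fun _ hU => hU⟩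
  haveI : ((Scheme.Modules.pushforward (FrobSch.frob Y p)).obj (Coh.structureModule Y)).IsQuasicoherent :=
    QCoh.isQuasicoherent_pushforward _ _
  haveI : ((Scheme.Modules.pushforward f).obj (Coh.structureModule Y)).IsQuasicoherent :=
    QCoh.isQuasicoherent_pushforward _ _
  haveI : ((Scheme.Modules.pushforward f).obj
      ((Scheme.Modules.pushforward (FrobSch.frob Y p)).obj (Coh.structureModule Y))).IsQuasicoherent :=
    QCoh.isQuasicoherent_pushforward _ _
  haveI : (cokernel (ClSub.unitToPush (FrobSch.frob Y p))).IsQuasicoherent :=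
    QCoh.isQuasicoherent_cokernel _
  have h2' : FlatMod.IsFinLocFreeOfRank 2 (FrobSplit71.pushAlg f).toModule := fun x => by
    obtain ⟨U, hx, ⟨e⟩⟩ := h2 x
    exact ⟨U, hx, ⟨(Scheme.Modules.restrictFunctor U.ι).mapIso (FrobSplit71.pushAlgIso f) ≪≫ e⟩⟩
  obtain ⟨e⟩ := FrobSplit71.nonempty_cokernel_push_iso f (ClSub.unitToPush (FrobSch.frob Y p))
  obtain ⟨a, b, hab⟩ := FrobSplit71.exists_retract p hp h2'
  exact AmpCrit.TwistDev.subsingleton_HH_of_retract (a ≫ e.hom) (e.inv ≫ b)
    (by rw [Category.assoc, Iso.hom_inv_id_assoc, hab]) i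
    ((CMReg.subsingleton_push_iff f (cokernel (ClSub.unitToPush (FrobSch.frob Y p))) i).2 (hY i))


end Groth.Agent.S18160
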