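import Groth.Statements.S18161
import Groth.Agent.Comod.UnipPts
import Groth.Agent.EtStruct.Instances
import Mathlib.AlgebraicGeometry.ZariskisMainTheorem
import Mathlib.AlgebraicGeometry.Morphisms.FlatMono

set_option autoImplicit false
set_option backward.isDefEq.respectTransparency false
set_option backward.isDefEq.respectTransparency.types false
universe u
open BSB

namespace Groth.Agent.S18161

section
open AlgebraicGeometry CategoryTheory CategoryTheory.Limits

variable {T S : Scheme.{u}} (f : T ⟶ S)

/-- The `L`-points of `T` over an `L`-point of `S`. -/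
abbrev Pts {L : Type u} [Field L] (a : Spec (.of L) ⟶ S) := {t : Spec (.of L) ⟶ T // t ≫ f = a}

lemma cancel_field {κ L : CommRingCat.{u}} (hκ : IsField κ) (hL : IsField L) (φ : κ ⟶ L)
    {X : Scheme.{u}} (a b : Spec κ ⟶ X) (h : Spec.map φ ≫ a = Spec.map φ ≫ b) : a = b := by
  letI := hκ.toField
  letI := hL.toField
  haveI : Subsingleton (Spec κ) := inferInstanceAs (Subsingleton (PrimeSpectrum κ))
  haveI : Surjective (Spec.map φ) := ⟨fun x ↦ ⟨(⟨⊥, Ideal.bot_prime⟩ : PrimeSpectrum L), Subsingleton.elim _ _⟩⟩
  haveI : Flat (Spec.map φ) := by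
    letI := φ.hom.toAlgebra
    exact Flat.SpecMap_iff.mpr (inferInstanceAs (Module.Flat κ L))
  haveI := Flat.epi_of_flat_of_surjective (Spec.map φ)
  exact (cancel_epi (Spec.map φ)).mp h

lemma exists_geomPt (X : Scheme.{u}) (x : X) :
    ∃ (L : Type u) (_ : Field L) (_ : IsAlgClosed L) (φ : X.residueField x ⟶ CommRingCat.of L)
      (s : Spec (.of L) ⟶ X), s = Spec.map φ ≫ X.fromSpecResidueField x :=
  ⟨AlgebraicClosure (X.residueField x), inferInstance, inferInstance,
    CommRingCat.ofHom (algebraMap (X.residueField x) (AlgebraicClosure (X.residueField x))), _, rfl⟩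

lemma geomPt_apply {X : Scheme.{u}} {L : Type u} [Field L] {x : X}
    (φ : X.residueField x ⟶ CommRingCat.of L) (y : Spec (CommRingCat.of L)) :
    (Spec.map φ ≫ X.fromSpecResidueField x) y = x := by
  simp

section Count
variable [Etale f] [QuasiCompact f] (d : ℕ)

lemma card_pts (hd : ∀ s : S, Module.finrank (S.residueField s) Γ(f.fiber s, ⊤) = d)
    {L : Type u} [Field L] [IsAlgClosed L] (a : Spec (.of L) ⟶ S) :
    Finite (Pts f a) ∧ Nat.card (Pts f a) = d := by
  obtain ⟨⟨s, φ⟩, rfl⟩ := (Scheme.SpecToEquivOfField L S).symm.surjective a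
  have : LocallyQuasiFinite f := EtStruct.locallyQuasiFinite_of_formallyUnramified f
  have hfin : IsFinite (f.fiberToSpecResidueField s) := inferInstance
  have : Etale (f.fiberToSpecResidueField s) :=
    MorphismProperty.pullback_snd (P := @Etale) _ _ ‹_›
  have : IsAffine (f.fiber s) := isAffine_of_isAffineHom (f.fiberToSpecResidueField s)
  let e := (f.fiber s).isoSpec
  obtain ⟨α, hα⟩ := Spec.map_surjective (e.inv ≫ f.fiberToSpecResidueField s)
  have hα' : α.hom = algebraMap (S.residueField s) Γ(f.fiber s, ⊤) := by
    have h1 : α = (Scheme.ΓSpecIso (S.residueField s)).inv ≫ (f.fiberToSpecResidueField s).appTop := by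
      apply Spec.map_injective
      rw [hα, Iso.inv_comp_eq, Spec.map_comp, ← Category.assoc, Scheme.isoSpec_hom_naturality,
        Category.assoc, Scheme.isoSpec_Spec_hom, ← Spec.map_comp, Iso.inv_hom_id, Spec.map_id,
        Category.comp_id]
    exact congrArg CommRingCat.Hom.hom h1
  have : Algebra.Etale (S.residueField s) Γ(f.fiber s, ⊤) := by
    rw [← RingHom.etale_algebraMap, ← hα', ← HasRingHomProperty.Spec_iff (P := @Etale), hα]
    exact MorphismProperty.comp_mem (W := @Etale) _ _ inferInstance ‹_›
  have : Module.Finite (S.residueField s) Γ(f.fiber s, ⊤) := by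
    rw [← RingHom.finite_algebraMap, ← hα', ← IsFinite.SpecMap_iff, hα]
    exact MorphismProperty.comp_mem (W := @IsFinite) _ _ inferInstance ‹_›
  letI : Algebra (S.residueField s) L := φ.hom.toAlgebra
  let toPts : (Γ(f.fiber s, ⊤) →ₐ[S.residueField s] L) →
      Pts f ((Scheme.SpecToEquivOfField L S).symm ⟨s, φ⟩) := fun χ ↦
    ⟨Spec.map (CommRingCat.ofHom χ.toRingHom) ≫ e.inv ≫ f.fiberι s, by
      have hχ : α ≫ CommRingCat.ofHom χ.toRingHom = φ := CommRingCat.hom_ext (RingHom.ext fun x ↦ by
        change χ (α.hom x) = φ.hom x
        rw [hα']; exact χ.commutes x)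
      rw [Category.assoc, Category.assoc, show f.fiberι s ≫ f = f.fiberToSpecResidueField s ≫ S.fromSpecResidueField s from pullback.condition,
        ← Category.assoc e.inv, ← hα, ← Category.assoc, ← Spec.map_comp, hχ]
      rfl⟩
  have hbij : Function.Bijective toPts := by
    refine ⟨fun χ χ' h ↦ ?_, fun t ↦ ?_⟩
    · have h1 : Spec.map (CommRingCat.ofHom χ.toRingHom) ≫ e.inv =
          Spec.map (CommRingCat.ofHom χ'.toRingHom) ≫ e.inv := by
        refine pullback.hom_ext ?_ ?_
        · exact (Category.assoc _ _ _).trans ((congrArg Subtype.val h).trans (Category.assoc _ _ _).symm)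
        · have key : ∀ χ : Γ(f.fiber s, ⊤) →ₐ[S.residueField s] L,
              (Spec.map (CommRingCat.ofHom χ.toRingHom) ≫ e.inv) ≫ f.fiberToSpecResidueField s =
                Spec.map φ := fun χ ↦ by
            rw [Category.assoc, ← hα, ← Spec.map_comp]
            congr 1
            exact CommRingCat.hom_ext (RingHom.ext fun x ↦ by
              change χ (α.hom x) = φ.hom x
              rw [hα']; exact χ.commutes x)
          exact (key χ).trans (key χ').symm
      have h2 := Spec.map_injective ((cancel_mono e.inv).mp h1)
      exact AlgHom.ext fun x ↦ congrArg (fun r ↦ r.hom x) h2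
    · let l : Spec (.of L) ⟶ f.fiber s := pullback.lift t.1 (Spec.map φ) t.2
      obtain ⟨χ, hχ⟩ := Spec.map_surjective (l ≫ e.hom)
      have hc : α ≫ χ = φ := by
        apply Spec.map_injective
        rw [Spec.map_comp, hχ, hα, Category.assoc, Iso.hom_inv_id_assoc]
        exact pullback.lift_snd _ _ _
      refine ⟨⟨χ.hom, fun x ↦ ?_⟩, Subtype.ext ?_⟩
      · rw [← hα']; exact congrArg (fun r ↦ r.hom x) hc
      · change Spec.map χ ≫ e.inv ≫ f.fiberι s = t.1
        rw [hχ, Category.assoc, Iso.hom_inv_id_assoc]
        exact pullback.lift_fst _ _ _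
  exact ⟨Finite.of_surjective _ hbij.2,
    (Nat.card_eq_of_bijective _ hbij).symm.trans ((Comod.UnipPts.card_points _ _ L).trans (hd s))⟩

lemma isOpen_distinct [UniversallyClosed f]
    (hd : ∀ s : S, Module.finrank (S.residueField s) Γ(f.fiber s, ⊤) = d)
    (m : ℕ) {k : ℕ} (hm : d ≤ k + m) {S' : Scheme.{u}} (g : S' ⟶ S) (σ : Fin k → (S' ⟶ T))
    (hσ : ∀ i, σ i ≫ f = g) :
    IsOpen {u : S' | Function.Injective fun i ↦ S'.fromSpecResidueField u ≫ σ i} := by
  have ofGeom : ∀ {L : Type u} [Field L] (u : S') (φ : S'.residueField u ⟶ CommRingCat.of L),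
      Function.Injective (fun i ↦ (Spec.map φ ≫ S'.fromSpecResidueField u) ≫ σ i) ↔
        Function.Injective (fun i ↦ S'.fromSpecResidueField u ≫ σ i) := by
    intro L _ u φ
    constructor
    · intro h i j hij
      exact h (by simpa only [Category.assoc] using congrArg (Spec.map φ ≫ ·) hij)
    · intro h i j hij
      refine h (cancel_field (Field.toIsField (S'.residueField u)) (Field.toIsField L) φ _ _ ?_)
      simpa only [Category.assoc] using hij
  refine isOpen_iff_forall_mem_open.mpr fun u hu ↦ ?_
  obtain ⟨L, _, _, φ, s, hs⟩ := exists_geomPt S' u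
  have hinj : Function.Injective
      (fun i ↦ (⟨s ≫ σ i, by rw [Category.assoc, hσ]⟩ : Pts f (s ≫ g))) := fun i j h ↦
    (ofGeom u φ).mpr hu (by simpa [hs] using congrArg Subtype.val h)
  have hfin := card_pts f d hd (s ≫ g)
  have := hfin.1
  by_cases hsurj : ∀ t : Pts f (s ≫ g), ∃ i, s ≫ σ i = t.1
  · have hk : k = d := by
      rw [← hfin.2, ← Nat.card_fin k]
      exact Nat.card_eq_of_bijective _ ⟨hinj, fun t ↦ (hsurj t).imp fun i h ↦ Subtype.ext h⟩
    subst hk
    let p := pullback.snd f g
    let τ : Fin k → (S' ⟶ pullback f g) := fun i ↦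
      pullback.lift (σ i) (𝟙 S') (by rw [hσ, Category.id_comp])
    have hτ : ∀ i, τ i ≫ p = 𝟙 S' := fun i ↦ pullback.lift_snd _ _ _
    have hp : Etale p := MorphismProperty.pullback_snd (P := @Etale) _ _ ‹_›
    have hopen : ∀ i, IsOpenImmersion (τ i) := fun i ↦ by
      have : Etale (τ i ≫ p) := by rw [hτ]; infer_instance
      have : Etale (τ i) := MorphismProperty.of_postcomp (W := @Etale) (W' := @Etale) _ p hp this
      have : Mono (τ i) := (SplitMono.mk p (hτ i)).mono
      exact IsOpenImmersion.of_flat_of_mono (τ i)
    let U : Set ↥(pullback f g) := ⋃ i, Set.range (τ i)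
    have hU : IsOpen U := isOpen_iUnion fun i ↦ (τ i).isOpenEmbedding.isOpen_range
    have hpc : IsClosedMap p := p.isClosedMap
    refine ⟨(p '' Uᶜ)ᶜ, fun v hv ↦ ?_, (hpc _ hU.isClosed_compl).isOpen_compl, ?_⟩
    · obtain ⟨L', _, _, φ', s', hs'⟩ := exists_geomPt S' v
      refine (ofGeom v φ').mp ?_
      rw [← hs']
      have hfin' := card_pts f k hd (s' ≫ g)
      have := hfin'.1
      have hs2 : Function.Surjective
          (fun i ↦ (⟨s' ≫ σ i, by rw [Category.assoc, hσ]⟩ : Pts f (s' ≫ g))) := by
        intro t
        let l : Spec (.of L') ⟶ pullback f g := pullback.lift t.1 s' t.2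
        have hlp : l ≫ p = s' := pullback.lift_snd _ _ _
        have hl : ∀ y, l y ∈ U := fun y ↦ by
          by_contra hy
          refine hv ⟨l y, hy, ?_⟩
          rw [← Scheme.Hom.comp_apply, hlp, hs']
          exact geomPt_apply φ' y
        obtain ⟨i, hi⟩ := Set.mem_iUnion.mp (hl default)
        have hr : Set.range l ⊆ Set.range (τ i) := by
          rintro _ ⟨y, rfl⟩
          rwa [show y = default from Subsingleton.elim (α := PrimeSpectrum L') _ _]
        refine ⟨i, Subtype.ext ?_⟩
        have := IsOpenImmersion.lift_fac (τ i) l hr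
        have h2 : IsOpenImmersion.lift (τ i) l hr = s' :=
          calc IsOpenImmersion.lift (τ i) l hr = (IsOpenImmersion.lift (τ i) l hr ≫ τ i) ≫ p := by
                rw [Category.assoc, hτ, Category.comp_id]
            _ = s' := by rw [this, hlp]
        rw [h2] at this
        change s' ≫ σ i = t.1
        rw [show t.1 = l ≫ pullback.fst f g from (pullback.lift_fst _ _ _).symm, ← this,
          Category.assoc, pullback.lift_fst]
      have hb := (Nat.bijective_iff_surjective_and_card _).mpr ⟨hs2, by rw [Nat.card_fin, hfin'.2]⟩
      exact fun i j h ↦ hb.1 (Subtype.ext h)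
    · rintro ⟨x, hx, hxu⟩
      obtain ⟨z, -, -⟩ := Scheme.Pullback.exists_preimage_pullback
        (f := (pullback f g).fromSpecResidueField x ≫ p) (g := s) default default
        (by rw [Scheme.Hom.comp_apply, Scheme.fromSpecResidueField_apply, hxu, hs, geomPt_apply])
      obtain ⟨K, _, _, φz, sz, hsz⟩ := exists_geomPt _ z
      let sK : Spec (.of K) ⟶ S' := sz ≫ pullback.snd _ _ ≫ s
      obtain ⟨β, hβ⟩ := Spec.map_surjective (sz ≫ pullback.snd _ _)
      have hK := card_pts f k hd (sK ≫ g)
      have := hK.1
      have hb := (Nat.bijective_iff_injective_and_card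
        (fun i ↦ (⟨sK ≫ σ i, by rw [Category.assoc, hσ]⟩ : Pts f (sK ≫ g)))).mpr
        ⟨fun i j h ↦ by
          have h' := congrArg Subtype.val h
          simp only [sK] at h'
          rw [← Category.assoc sz, ← hβ, Category.assoc, Category.assoc] at h'
          exact hinj (Subtype.ext
            (cancel_field (Field.toIsField L) (Field.toIsField K) β _ _ h')),
          by rw [Nat.card_fin, hK.2]⟩
      let tx : Spec (.of K) ⟶ pullback f g :=
        sz ≫ pullback.fst _ _ ≫ (pullback f g).fromSpecResidueField x
      have htp : tx ≫ p = sK := by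
        simp only [tx, sK, Category.assoc]
        rw [pullback.condition]
      obtain ⟨i, hi⟩ := hb.2 ⟨tx ≫ pullback.fst f g, by
        rw [Category.assoc, pullback.condition, ← Category.assoc, htp]⟩
      have htx : tx = sK ≫ τ i := by
        refine pullback.hom_ext ?_ ?_
        · rw [Category.assoc sK, pullback.lift_fst]
          exact (congrArg Subtype.val hi).symm
        · rw [Category.assoc sK, hτ, Category.comp_id]
          exact htp
      refine hx (Set.mem_iUnion.mpr ⟨i, sK default, ?_⟩)
      rw [← Scheme.Hom.comp_apply, ← htx]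
      simp [tx]
  · push_neg at hsurj
    obtain ⟨t, ht⟩ := hsurj
    cases m with
    | zero =>
      exfalso
      have hsur := ((Nat.bijective_iff_injective_and_card _).mpr ⟨hinj, le_antisymm
        (Nat.card_le_card_of_injective _ hinj) (by rw [Nat.card_fin, hfin.2]; omega)⟩).2 t
      exact hsur.elim fun i hi ↦ ht i (congrArg Subtype.val hi)
    | succ m =>
      let p := pullback.snd f g
      let σ' : Fin (k + 1) → (pullback f g ⟶ T) := Fin.cons (pullback.fst f g) (fun i ↦ p ≫ σ i)
      have hσ' : ∀ i, σ' i ≫ f = p ≫ g := by
        refine Fin.cases ?_ ?_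
        · simpa [σ'] using pullback.condition
        · intro i; simp [σ', hσ]
      have IH := isOpen_distinct hd m (k := k + 1) (by omega) (p ≫ g) σ' hσ'
      let l : Spec (.of L) ⟶ pullback f g := pullback.lift t.1 s t.2
      have hp : Etale p := MorphismProperty.pullback_snd (P := @Etale) _ _ ‹_›
      refine ⟨p '' _, ?_, p.isOpenMap _ IH, ?_⟩
      · rintro _ ⟨w, hw, rfl⟩ i j hij
        apply Fin.succ_injective
        apply hw
        simp only [σ', Fin.cons_succ]
        rw [← Category.assoc, ← Category.assoc, ← Scheme.Hom.SpecMap_residueFieldMap_fromSpecResidueField,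
          Category.assoc, Category.assoc]
        exact congrArg (Spec.map _ ≫ ·) hij
      · obtain ⟨⟨w, ψ⟩, hl⟩ := (Scheme.SpecToEquivOfField L (pullback f g)).symm.surjective l
        change Spec.map ψ ≫ (pullback f g).fromSpecResidueField w = l at hl
        refine ⟨w, ?_, ?_⟩
        · intro i j hij
          have h := congrArg (Spec.map ψ ≫ ·) hij
          simp only [← Category.assoc, hl] at h
          revert h
          have e0 : l ≫ σ' 0 = t.1 := by simpa [σ', l] using pullback.lift_fst _ _ _
          have e1 : ∀ i, l ≫ σ' i.succ = s ≫ σ i := fun i ↦ by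
            simp [σ', l, p]
          induction i using Fin.cases with
          | zero =>
            induction j using Fin.cases with
            | zero => exact fun _ ↦ rfl
            | succ j => rw [e0, e1]; exact fun h ↦ (ht j h.symm).elim
          | succ i =>
            induction j using Fin.cases with
            | zero => rw [e0, e1]; exact fun h ↦ (ht i h).elim
            | succ j => rw [e1, e1]; exact fun h ↦ congrArg Fin.succ (hinj (Subtype.ext h))
        · have h1 : l ≫ p = s := pullback.lift_snd _ _ _
          have h2 := congrArg (fun r : Spec (.of L) ⟶ S' ↦ r default) h1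
          rw [← hl, hs] at h2
          simpa using h2

end Count

end

open AlgebraicGeometry CategoryTheory in
/-- Let f : T ⟶ S be an étale, quasi-compact, quasi-separated and universally closed morphism of
schemes, and suppose that for some natural number d the global functions of every scheme-theoretic
fibre of f form a d-dimensional vector space over the residue field of the corresponding point of S.
Then f is finite. (Separatedness of f is not assumed.) -/
theorem result {T S : Scheme.{u}} (f : T ⟶ S)
    [Etale f] [QuasiCompact f] [QuasiSeparated f] [UniversallyClosed f] (d : ℕ)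
    (hd : ∀ s : S, Module.finrank (S.residueField s) Γ(f.fiber s, ⊤) = d) :
    IsFinite f := by
  open CategoryTheory.Limits in
  have : IsSeparated f := by
    refine ⟨?_⟩
    have ho := isOpen_distinct f d hd d (k := 2) (by omega) (pullback.fst f f ≫ f)
      ![pullback.fst f f, pullback.snd f f] (by
        intro i; fin_cases i
        · rfl
        · exact pullback.condition.symm)
    have hr : Set.range (pullback.diagonal f) =
        {z : ↥(pullback f f) | Function.Injective fun i ↦ (pullback f f).fromSpecResidueField z ≫
          ![pullback.fst f f, pullback.snd f f] i}ᶜ := by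
      ext z
      constructor
      · intro hz h
        have hz' : Set.range ((pullback f f).fromSpecResidueField z) ⊆
            Set.range (pullback.diagonal f) := by
          rw [Scheme.range_fromSpecResidueField]; simpa using hz
        have := IsOpenImmersion.lift_fac (pullback.diagonal f) _ hz'
        have h01 := @h 0 1 (by
          simp only [Matrix.cons_val_zero, Matrix.cons_val_one]
          set r := IsOpenImmersion.lift (pullback.diagonal f) _ hz'
          rw [← this, Category.assoc, Category.assoc]; simp)
        simp at h01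
      · intro hz
        by_contra hnot
        apply hz
        intro i j hij
        have key : (pullback f f).fromSpecResidueField z ≫ pullback.fst f f ≠
            (pullback f f).fromSpecResidueField z ≫ pullback.snd f f := fun h ↦ by
          have h' : (pullback f f).fromSpecResidueField z =
              ((pullback f f).fromSpecResidueField z ≫ pullback.fst f f) ≫ pullback.diagonal f := by
            refine pullback.hom_ext ?_ ?_
            · simp
            · rw [← h]; simp
          apply hnot
          refine ⟨((pullback f f).fromSpecResidueField z ≫ pullback.fst f f) default, ?_⟩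
          rw [← Scheme.Hom.comp_apply, ← h', Scheme.fromSpecResidueField_apply]
        fin_cases i <;> fin_cases j
        · rfl
        · exact absurd hij key
        · exact absurd hij.symm key
        · rfl
    exact IsClosedImmersion.of_isPreimmersion _ (hr ▸ ho.isClosed_compl)
  have : LocallyQuasiFinite f := EtStruct.locallyQuasiFinite_of_formallyUnramified f
  have : IsProper f := {}
  exact IsFinite.of_isProper_of_locallyQuasiFinite f

end Groth.Agent.S18161
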