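import Groth.Statements.S18187
import Mathlib.RingTheory.Flat.Basic

set_option autoImplicit false
universe u v
open CategoryTheory
open T1Lift

namespace Groth.Agent.S18187

section aux

open T1Lift Polynomial ArtFun

variable (k : Type u) [Field k]

lemma ker_αAlg (n : ℕ) (a : Tr k (n + 1)) (h : αAlg k n a = 0) :
    ∃ b, a = t k (n + 1) ^ (n + 1) * b := by
  induction a using AdjoinRoot.induction_on with
  | ih p =>
    have e : αAlg k n (AdjoinRoot.mk _ p) = AdjoinRoot.mk _ p := by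
      rw [αAlg, AdjoinRoot.liftAlgHom_mk]
      exact AdjoinRoot.aeval_eq p
    rw [e, AdjoinRoot.mk_eq_zero] at h
    obtain ⟨q, rfl⟩ := h
    exact ⟨AdjoinRoot.mk _ q, by rw [map_mul, map_pow, AdjoinRoot.mk_X]⟩

lemma t_pow_ne_zero (n : ℕ) : t k n ^ n ≠ 0 := by
  rw [show t k n ^ n = AdjoinRoot.mk _ (X ^ n) by rw [map_pow, AdjoinRoot.mk_X]]
  intro h
  rw [AdjoinRoot.mk_eq_zero, X_pow_dvd_iff] at h
  have := h n (Nat.lt_succ_self n)
  simp at this

lemma t_mul (n : ℕ) (a : Tr k n) : t k n ^ n * a = algebraMap k _ (resA k n a) * t k n ^ n := by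
  obtain ⟨b, hb⟩ := eq_algebraMap_add_t_mul k n a
  conv_lhs => rw [hb, mul_add, ← mul_assoc, ← pow_succ, t_pow, zero_mul, add_zero, mul_comm]

lemma mul_ker_αAlg (n : ℕ) {x a : Tr k (n + 1)} (hx : resA k (n + 1) x = 0) (h : αAlg k n a = 0) :
    x * a = 0 := by
  obtain ⟨b, rfl⟩ := ker_αAlg k n a h
  rw [mul_comm, mul_assoc, t_mul k (n + 1), map_mul, hx, mul_zero, map_zero, zero_mul]

lemma α_surjective (n : ℕ) : Function.Surjective (α k n) := fun a => by
  induction a using AdjoinRoot.induction_on with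
  | ih p =>
    refine ⟨AdjoinRoot.mk _ p, ?_⟩
    change αAlg k n _ = _
    rw [αAlg, AdjoinRoot.liftAlgHom_mk]
    exact AdjoinRoot.aeval_eq p

lemma dual_mul_eq_zero {R : Type u} [CommRing R] (x a : DualNumber R) (h1 : a.fst = 0)
    (h2 : x.fst * a.snd = 0) : x * a = 0 :=
  TrivSqZeroExt.ext (by simp [h1]) (by simp [h1, h2])

lemma isSemismall_α (n : ℕ) : Art.IsSemismallExt (α k n) := by
  refine ⟨α_surjective k n, le_bot_iff.1 (Ideal.mul_le.2 fun x hx a ha => ?_)⟩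
  rw [Art.mem_maximalIdeal_iff] at hx
  rw [Submodule.mem_bot]
  exact mul_ker_αAlg k n hx ha

lemma ε_comp_β (n : ℕ) : ε k n ≫ β k n = α k n :=
  Art.hom_ext (AdjoinRoot.algHom_ext (by
    show (εAlg k n (t k (n + 1))).fst = αAlg k n (t k (n + 1))
    rw [εAlg_t, αAlg_t, TrivSqZeroExt.fst_add, TrivSqZeroExt.fst_inl, DualNumber.fst_eps, add_zero]))

lemma ε_comp_ξ (n : ℕ) : ε k (n + 1) ≫ ξ k n = α k (n + 1) ≫ ε k n :=
  Art.hom_ext (AdjoinRoot.algHom_ext (by
    show T1Lift.dualMap k (αAlg k n) (εAlg k (n + 1) (t k (n + 2))) = εAlg k n (αAlg k (n + 1) (t k (n + 2)))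
    rw [εAlg_t, αAlg_t, εAlg_t, map_add]
    refine congrArg₂ (· + ·) (TrivSqZeroExt.ext (αAlg_t k n) (map_zero _))
      (TrivSqZeroExt.ext (map_zero _) (map_one _))))

end aux

open CategoryTheory in
/-- Obstructions compared along a map that is injective on kernels. -/
lemma obs_iff {k : Type u} [Field k] {F : ArtFun.Art k k ⥤ Type v} {V : Type u} [AddCommGroup V]
    [Module k V] (O : ArtFun.ObsTheory F V)
    (hnat : ∀ ⦃A' A C' C : ArtFun.Art k k⦄ (φ : A' ⟶ A) (hφ : ArtFun.Art.IsSemismallExt φ)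
      (ψ : C' ⟶ C) (hψ : ArtFun.Art.IsSemismallExt ψ) (g' : A' ⟶ C') (g : A ⟶ C), φ ≫ g = g' ≫ ψ →
      ∀ (ℓ : ↥(RingHom.ker φ.toAlgHom) →ₗ[k] ↥(RingHom.ker ψ.toAlgHom)),
        (∀ j : ↥(RingHom.ker φ.toAlgHom), ((ℓ j : ↥(RingHom.ker ψ.toAlgHom)) : C') = g' (j : A')) →
        ∀ u : F.obj A, O.obs ψ hψ (F.map g u) = LinearMap.lTensor V ℓ (O.obs φ hφ u))
    {A' A C' C : ArtFun.Art k k} (φ : A' ⟶ A) (hφ : ArtFun.Art.IsSemismallExt φ)
    (ψ : C' ⟶ C) (hψ : ArtFun.Art.IsSemismallExt ψ) (g' : A' ⟶ C') (g : A ⟶ C)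
    (hw : φ ≫ g = g' ≫ ψ) (hinj : ∀ j : A', φ j = 0 → g' j = 0 → j = 0) (u : F.obj A) :
    (∃ u' : F.obj A', F.map φ u' = u) ↔ ∃ v : F.obj C', F.map ψ v = F.map g u := by
  have hker : ∀ j : ↥(RingHom.ker φ.toAlgHom), g' (j : A') ∈ RingHom.ker ψ.toAlgHom := fun j => by
    rw [RingHom.mem_ker]
    change (g' ≫ ψ) (j : A') = 0
    rw [← hw]
    change g (φ (j : A')) = 0
    rw [show φ (j : A') = 0 from j.2, map_zero]
  let ℓ : ↥(RingHom.ker φ.toAlgHom) →ₗ[k] ↥(RingHom.ker ψ.toAlgHom) :=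
    { toFun := fun j => ⟨g' (j : A'), hker j⟩
      map_add' := fun x y => Subtype.ext (map_add g'.toAlgHom _ _)
      map_smul' := fun c x => Subtype.ext (map_smul g'.toAlgHom c (x : A')) }
  have hℓ : Function.Injective ℓ := (injective_iff_map_eq_zero ℓ).2 fun j hj =>
    Subtype.ext (hinj j j.2 (congrArg Subtype.val hj))
  rw [← O.obs_eq_zero_iff φ hφ u, ← O.obs_eq_zero_iff ψ hψ, hnat φ hφ ψ hψ g' g hw ℓ (fun _ => rfl)]
  exact ((injective_iff_map_eq_zero' _).1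
    (Module.Flat.lTensor_preserves_injective_linearMap ℓ hℓ) _).symm

/-- In the set-valued case, let k be a field of characteristic zero and F a functor on local Artinian
k-algebras with residue field k such that F(k) is one point, F satisfies the Rim–Schlessinger
condition (for every fibre-product square A' ×_A A'' with A'' → A surjective the comparison map F(A'
×_A A'') → F(A') ×_{F(A)} F(A'') is bijective), and F has an obstruction theory with values in a
k-vector space V which is moreover functorial for every commutative square of surjections whose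
kernels are killed by the maximal ideal. Write A_m = k[t]/(t^(m+1)), B_m = A_m[y]/(y²), α : A_(m+1)
→ A_m and ξ : B_(m+1) → B_m for t ↦ t, β : B_m → A_m for y ↦ 0 and ε : A_(m+1) → B_m for t ↦ t + y.
Then an element X ∈ F(A_(n+1)) lifts to F(A_(n+2)) along α if and only if there is Y ∈ F(B_(n+1))
with F(β) Y = X and F(ξ) Y = F(ε) X, i.e. if and only if the element of the first-order tangent set
T¹(F(α)X / A_n) defined by F(ε) X lies in the image of T¹(X / A_(n+1)). (Stated here for functors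
with values in sets; the version for predeformation categories in groupoids satisfying the
Rim–Schlessinger condition specialises to it. The functoriality of the obstruction theory for
arbitrary commutative squares is an explicit hypothesis, pinned through linear maps between the
kernels that agree with the given ring map.) -/
theorem result (k : Type u) [Field k] [CharZero k]
    (F : ArtFun.Art k k ⥤ Type v) (h0 : ArtFun.H0 F)
    (hRS : ∀ ⦃P A A' A'' : ArtFun.Art k k⦄ (p' : P ⟶ A') (p'' : P ⟶ A'') (f' : A' ⟶ A) (f'' : A'' ⟶ A)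
      (h : ArtFun.Art.IsFibreProd p' p'' f' f''), Function.Surjective f'' → Function.Bijective (ArtFun.cmp F h))
    (V : Type u) [AddCommGroup V] [Module k V] (O : ArtFun.ObsTheory F V)
    (hnat : ∀ ⦃A' A C' C : ArtFun.Art k k⦄ (φ : A' ⟶ A) (hφ : ArtFun.Art.IsSemismallExt φ)
      (ψ : C' ⟶ C) (hψ : ArtFun.Art.IsSemismallExt ψ) (g' : A' ⟶ C') (g : A ⟶ C), φ ≫ g = g' ≫ ψ →
      ∀ (ℓ : ↥(RingHom.ker φ.toAlgHom) →ₗ[k] ↥(RingHom.ker ψ.toAlgHom)),
        (∀ j : ↥(RingHom.ker φ.toAlgHom), ((ℓ j : ↥(RingHom.ker ψ.toAlgHom)) : C') = g' (j : A')) →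
        ∀ u : F.obj A, O.obs ψ hψ (F.map g u) = LinearMap.lTensor V ℓ (O.obs φ hφ u))
    (n : ℕ) (X : F.obj (T1Lift.A k (n + 1))) :
    (∃ X' : F.obj (T1Lift.A k (n + 2)), F.map (T1Lift.α k (n + 1)) X' = X) ↔
      ∃ Y : F.obj (T1Lift.B k (n + 1)), F.map (T1Lift.β k (n + 1)) Y = X ∧
        F.map (T1Lift.ξ k n) Y = F.map (T1Lift.ε k n) X := by
  classical
  let K : Ideal (T1Lift.B k (n + 1)) :=
    RingHom.ker (T1Lift.β k (n + 1)).toAlgHom ⊓ RingHom.ker (T1Lift.ξ k n).toAlgHom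
  have hK : K ≤ IsLocalRing.maximalIdeal (T1Lift.B k (n + 1)) := fun x hx => by
    rw [ArtFun.Art.mem_maximalIdeal_iff, ← ArtFun.Art.res_app (T1Lift.β k (n + 1)) x,
      show (T1Lift.β k (n + 1)) x = 0 from hx.1, map_zero]
  let C := ArtFun.Art.quot (T1Lift.B k (n + 1)) K hK
  let ψ : T1Lift.B k (n + 1) ⟶ C := ArtFun.Art.quotMk _ K hK
  let qβ : C ⟶ T1Lift.A k (n + 1) := ArtFun.Art.quotFactor hK (T1Lift.β k (n + 1)) inf_le_left
  let qξ : C ⟶ T1Lift.B k n := ArtFun.Art.quotFactor hK (T1Lift.ξ k n) inf_le_right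
  have hψ : ArtFun.Art.IsSemismallExt ψ := by
    refine ⟨ArtFun.Art.quotMk_surjective _ K hK, le_bot_iff.1 (Ideal.mul_le.2 fun x hx a ha => ?_)⟩
    have ha' : a ∈ K := Ideal.Quotient.eq_zero_iff_mem.1 ha
    obtain ⟨h1, h2⟩ := ha'
    have h1' : TrivSqZeroExt.fst a = 0 := h1
    have h2' : T1Lift.αAlg k n (TrivSqZeroExt.snd a) = 0 := congrArg TrivSqZeroExt.snd h2
    rw [ArtFun.Art.mem_maximalIdeal_iff] at hx
    rw [Submodule.mem_bot]
    exact dual_mul_eq_zero x a h1' (mul_ker_αAlg k n hx h2')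
  have hsq : ArtFun.Art.IsFibreProd qξ qβ (T1Lift.β k n) (T1Lift.α k n) := by
    refine ⟨ArtFun.Art.hom_ext (AlgHom.ext fun c => ?_), fun b₁ b₂ h₁ h₂ => ?_, fun a' a'' h => ?_⟩
    · obtain ⟨b, rfl⟩ := ArtFun.Art.quotMk_surjective _ K hK c
      rfl
    · obtain ⟨x, rfl⟩ := ArtFun.Art.quotMk_surjective _ K hK b₁
      obtain ⟨y, rfl⟩ := ArtFun.Art.quotMk_surjective _ K hK b₂
      refine Ideal.Quotient.eq.2 ⟨?_, ?_⟩
      · change (T1Lift.β k (n + 1)).toAlgHom (x - y) = 0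
        rw [map_sub, sub_eq_zero]; exact h₂
      · change (T1Lift.ξ k n).toAlgHom (x - y) = 0
        rw [map_sub, sub_eq_zero]; exact h₁
    · obtain ⟨b, hb⟩ := α_surjective k n (TrivSqZeroExt.snd a')
      exact ⟨ψ ((a'', b) : DualNumber (T1Lift.Tr k (n + 1))),
        TrivSqZeroExt.ext h.symm hb, rfl⟩
  let g' : T1Lift.A k (n + 2) ⟶ T1Lift.B k (n + 1) := T1Lift.ε k (n + 1)
  have hgker : ∀ j : T1Lift.A k (n + 2), T1Lift.α k (n + 1) j = 0 → g' j ∈ K := fun j hj => by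
    refine ⟨?_, ?_⟩
    · change (g' ≫ T1Lift.β k (n + 1)) j = 0
      rw [ε_comp_β, hj]
    · change (g' ≫ T1Lift.ξ k n) j = 0
      rw [ε_comp_ξ]
      change T1Lift.ε k n (T1Lift.α k (n + 1) j) = 0
      rw [hj, map_zero]
  let gAlg : T1Lift.Tr k (n + 1) →ₐ[k] C := AdjoinRoot.liftAlgHom _ (Algebra.ofId k _)
    (ψ (g' (T1Lift.t k (n + 2)))) (by
      rw [Polynomial.eval₂_X_pow, ← map_pow, ← map_pow]
      refine Ideal.Quotient.eq_zero_iff_mem.2 (hgker _ ?_)
      change T1Lift.αAlg k (n + 1) (T1Lift.t k (n + 2) ^ (n + 1 + 1)) = 0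
      rw [map_pow, T1Lift.αAlg_t, T1Lift.t_pow])
  have hgt : gAlg (T1Lift.t k (n + 1)) = ψ (g' (T1Lift.t k (n + 2))) :=
    AdjoinRoot.liftAlgHom_root _ _ _ _
  let g : T1Lift.A k (n + 1) ⟶ C := ArtFun.Art.homMk gAlg (AdjoinRoot.algHom_ext (by
    change C.res (gAlg (T1Lift.t k (n + 1))) = T1Lift.resA k (n + 1) (T1Lift.t k (n + 1))
    rw [hgt, ArtFun.Art.res_app, ArtFun.Art.res_app, T1Lift.resA_t]
    exact T1Lift.resA_t k (n + 2)))
  have hw : T1Lift.α k (n + 1) ≫ g = g' ≫ ψ := ArtFun.Art.hom_ext (AdjoinRoot.algHom_ext (by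
    change gAlg (T1Lift.αAlg k (n + 1) (T1Lift.t k (n + 2))) = ψ (g' (T1Lift.t k (n + 2)))
    rw [T1Lift.αAlg_t]
    exact hgt))
  have hg1 : g ≫ qβ = 𝟙 _ := ArtFun.Art.hom_ext (AdjoinRoot.algHom_ext (by
    change qβ (gAlg (T1Lift.t k (n + 1))) = T1Lift.t k (n + 1)
    rw [hgt]
    change (g' ≫ T1Lift.β k (n + 1)) (T1Lift.t k (n + 2)) = _
    rw [ε_comp_β]
    exact T1Lift.αAlg_t k (n + 1)))
  have hg2 : g ≫ qξ = T1Lift.ε k n := ArtFun.Art.hom_ext (AdjoinRoot.algHom_ext (by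
    change qξ (gAlg (T1Lift.t k (n + 1))) = T1Lift.εAlg k n (T1Lift.t k (n + 1))
    rw [hgt]
    change (g' ≫ T1Lift.ξ k n) (T1Lift.t k (n + 2)) = _
    rw [ε_comp_ξ]
    change T1Lift.εAlg k n (T1Lift.αAlg k (n + 1) (T1Lift.t k (n + 2))) = _
    rw [T1Lift.αAlg_t]))
  rw [obs_iff O hnat (T1Lift.α k (n + 1)) (isSemismall_α k (n + 1)) ψ hψ g' g hw ?_ X]
  · have key : ∀ Y, F.map ψ Y = F.map g X ↔
        F.map (T1Lift.β k (n + 1)) Y = X ∧ F.map (T1Lift.ξ k n) Y = F.map (T1Lift.ε k n) X := by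
      intro Y
      have e1 : F.map qβ (F.map ψ Y) = F.map (T1Lift.β k (n + 1)) Y := by
        rw [← Functor.map_comp_apply, ArtFun.Art.quotMk_quotFactor]
      have e2 : F.map qξ (F.map ψ Y) = F.map (T1Lift.ξ k n) Y := by
        rw [← Functor.map_comp_apply, ArtFun.Art.quotMk_quotFactor]
      have e3 : F.map qβ (F.map g X) = X := by
        rw [← Functor.map_comp_apply, hg1, Functor.map_id_apply]
      have e4 : F.map qξ (F.map g X) = F.map (T1Lift.ε k n) X := by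
        rw [← Functor.map_comp_apply, hg2]
      refine ⟨fun h => ⟨?_, ?_⟩, fun ⟨h1, h2⟩ => ?_⟩
      · rw [← e1, h, e3]
      · rw [← e2, h, e4]
      · refine (hRS qξ qβ (T1Lift.β k n) (T1Lift.α k n) hsq (α_surjective k n)).1 ?_
        exact Subtype.ext (Prod.ext (e2.trans (h2.trans e4.symm)) (e1.trans (h1.trans e3.symm)))
    simp only [key]
  · intro j h1 h2
    obtain ⟨b, hb⟩ := ker_αAlg k (n + 1) j h1
    change T1Lift.εAlg k (n + 1) j = 0 at h2
    rw [hb, t_mul] at h2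
    rw [hb, t_mul]
    have h3 := congrArg TrivSqZeroExt.snd h2
    rw [map_mul, AlgHom.commutes, map_pow, T1Lift.εAlg_t, TrivSqZeroExt.snd_zero,
      TrivSqZeroExt.algebraMap_eq_inl', TrivSqZeroExt.snd_mul, TrivSqZeroExt.snd_pow,
      TrivSqZeroExt.snd_inl, TrivSqZeroExt.fst_inl, TrivSqZeroExt.fst_add, TrivSqZeroExt.snd_add,
      TrivSqZeroExt.fst_inl, TrivSqZeroExt.snd_inl, DualNumber.fst_eps, DualNumber.snd_eps] at h3
    simp only [add_zero, zero_add, smul_zero, smul_eq_mul, mul_one, nsmul_eq_mul, Nat.pred_eq_sub_one,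
      Nat.add_sub_cancel] at h3
    have hc : T1Lift.resA k (n + 1 + 1) b = 0 := by
      by_contra hc
      have hu : IsUnit (algebraMap k (T1Lift.Tr k (n + 1))
          (T1Lift.resA k (n + 1 + 1) b * ((n + 1 + 1 : ℕ) : k))) :=
        ((mul_ne_zero hc (Nat.cast_ne_zero.2 (Nat.succ_ne_zero _))).isUnit).map _
      refine t_pow_ne_zero k (n + 1) (hu.mul_right_eq_zero.1 ?_)
      rw [map_mul, map_natCast, mul_assoc]
      exact h3
    rw [hc, map_zero, zero_mul]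
    rfl

end Groth.Agent.S18187
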