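import Groth.Statements.S18189
import Groth.Agent.OrbRR.Circulant

set_option autoImplicit false
open OrbRR

namespace Groth.Agent.S18189

open Groth.Agent.OrbRR

/-- Let N ≥ 1 be a natural number, let ζ ∈ ℂ be a primitive N-th root of unity, and put f(i) = i(i −
N)/2 + (N² − 1)/12 for 0 ≤ i < N. For every natural number m the complex number ε_m = (1/N)
∑_{i=0}^{N−1} f(i) ζ^{mi}, an eigenvalue of the symmetric circulant N × N matrix with (i, j) entry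
f(j − i)/N, is real and nonnegative. -/
theorem result (N : ℕ) (hN : 0 < N) (ζ : ℂ)
    (hζ : IsPrimitiveRoot ζ N) (m : ℕ) :
    (∑ i ∈ Finset.range N,
        ((i : ℂ) * ((i : ℂ) - (N : ℂ)) / 2 + ((N : ℂ) ^ 2 - 1) / 12) / (N : ℂ) * ζ ^ (m * i)).im = 0 ∧
    0 ≤ (∑ i ∈ Finset.range N,
        ((i : ℂ) * ((i : ℂ) - (N : ℂ)) / 2 + ((N : ℂ) ^ 2 - 1) / 12) / (N : ℂ) * ζ ^ (m * i)).re := by
  classical
  have hN' : (N : ℂ) ≠ 0 := by exact_mod_cast hN.ne'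
  have key : ∑ i ∈ Finset.range N,
      ((i : ℂ) * ((i : ℂ) - (N : ℂ)) / 2 + ((N : ℂ) ^ 2 - 1) / 12) / (N : ℂ) * ζ ^ (m * i) =
      ∑ k ∈ Finset.Ioo 0 N, if ζ ^ (k + m) = 1 then 1 / (2 - ζ ^ k - (ζ ^ k)⁻¹) else 0 := by
    have hf : ∀ i ∈ Finset.range N, ((i : ℂ) * ((i : ℂ) - (N : ℂ)) / 2 + ((N : ℂ) ^ 2 - 1) / 12) =
        Circulant.g N ζ i := fun i hi => (Circulant.g_eq_f (by norm_num) hζ (Finset.mem_range.mp hi)).symm
    rw [Finset.sum_congr rfl fun i hi => by rw [hf i hi]]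
    simp only [Circulant.g, Finset.sum_div, Finset.sum_mul]
    rw [Finset.sum_comm]
    refine Finset.sum_congr rfl fun k hk => ?_
    have e : ∀ i : ℕ, ζ ^ (k * i) / (2 - ζ ^ k - (ζ ^ k)⁻¹) / (N : ℂ) * ζ ^ (m * i) =
        (ζ ^ (k + m)) ^ i * (1 / (2 - ζ ^ k - (ζ ^ k)⁻¹) / (N : ℂ)) := fun i => by
      rw [← pow_mul, add_mul, pow_add]; ring
    simp only [e, ← Finset.sum_mul]
    split_ifs with h
    · simp only [h, one_pow, Finset.sum_const, Finset.card_range, nsmul_eq_mul, mul_one]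
      field_simp
    · have h' : (ζ ^ (k + m) - 1) * ∑ x ∈ Finset.range N, (ζ ^ (k + m)) ^ x = 0 := by
        rw [mul_geom_sum, Circulant.pow_N hζ, sub_self]
      rw [(mul_eq_zero.mp h').resolve_left (sub_ne_zero.mpr h), zero_mul]
  rw [key, Complex.im_sum, Complex.re_sum]
  refine ⟨Finset.sum_eq_zero fun k hk => ?_, Finset.sum_nonneg fun k hk => ?_⟩ <;>
    obtain ⟨d, hd, hd'⟩ := Circulant.denom_eq_ofReal hζ hk <;>
    split_ifs <;> simp [hd', hd]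

end Groth.Agent.S18189
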