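import Groth.Statements.S18190
import Groth.Agent.OrbRR.Circulant
import Mathlib.LinearAlgebra.Matrix.PosDef
import Mathlib.Data.ZMod.Basic
import Mathlib.Data.Real.StarOrdered

set_option autoImplicit false
open OrbRR

namespace Groth.Agent.S18190

open Groth.Agent.OrbRR Finset


/-- Let N ≥ 1 and let f : ℤ/Nℤ → ℚ be f(x) = x(x − N)/2 + (N² − 1)/12, where x is read as its
representative with 0 ≤ x < N. The real N × N matrix indexed by ℤ/Nℤ whose (i, j) entry is f(j −
i)/N, a symmetric circulant matrix, is positive semidefinite. -/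
theorem result (N : ℕ) [NeZero N] :
    (Matrix.of fun i j : ZMod N =>
        ((((j - i).val : ℝ) * (((j - i).val : ℝ) - (N : ℝ))) / 2 + ((N : ℝ) ^ 2 - 1) / 12) / (N : ℝ)).PosSemidef := by
  classical
  have hN : 0 < N := Nat.pos_of_ne_zero (NeZero.ne N)
  have hNC : (N : ℂ) ≠ 0 := by exact_mod_cast hN.ne'
  set ζ : ℂ := Complex.exp (2 * Real.pi * Complex.I / N) with hζdef
  have hζ : IsPrimitiveRoot ζ N := Complex.isPrimitiveRoot_exp N (NeZero.ne N)
  set w : ℕ → ℝ := fun k => ((2 : ℂ) - ζ ^ k - (ζ ^ k)⁻¹).re⁻¹ / N with hw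
  set A : ℕ → ZMod N → ℂ := fun k i => (ζ ^ k) ^ i.val with hA
  have key : (Matrix.of fun i j : ZMod N =>
        ((((j - i).val : ℝ) * (((j - i).val : ℝ) - (N : ℝ))) / 2 + ((N : ℝ) ^ 2 - 1) / 12) / (N : ℝ)) =
      ∑ k ∈ Ioo 0 N, w k • (Matrix.vecMulVec (fun i => (A k i).re) (fun i => (A k i).re) +
        Matrix.vecMulVec (fun i => (A k i).im) (fun i => (A k i).im)) := by
    ext i j
    rw [Matrix.sum_apply, Matrix.of_apply]
    have hg := Circulant.g_eq_f (K := ℂ) (by norm_num) hζ (ZMod.val_lt (j - i))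
    have hg' := congrArg Complex.re hg
    have hf : (Circulant.f N (((j - i).val : ℕ) : ℂ)) =
        (((((j - i).val : ℝ) * (((j - i).val : ℝ) - (N : ℝ))) / 2 + ((N : ℝ) ^ 2 - 1) / 12 : ℝ) : ℂ) := by
      simp only [Circulant.f]; push_cast; ring
    rw [hf, Complex.ofReal_re] at hg'
    rw [← hg', Circulant.g, Complex.re_sum, Finset.sum_div]
    refine Finset.sum_congr rfl fun k hk => ?_
    obtain ⟨d, -, hd⟩ := Circulant.denom_eq_ofReal hζ hk
    have hpow : ζ ^ (k * (j - i).val) = A k j * (starRingEnd ℂ) (A k i) := by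
      have hn : ‖A k i‖ = 1 := by
        simp only [hA, norm_pow, Complex.norm_eq_one_of_pow_eq_one hζ.pow_eq_one hN.ne', one_pow]
      have hc : A k i * (starRingEnd ℂ) (A k i) = 1 := by
        rw [Complex.mul_conj, Complex.normSq_eq_norm_sq, hn]; simp
      have h1 : (ζ ^ k) ^ (j - i).val * A k i = A k j := by
        simp only [hA, ← pow_add]
        rw [pow_eq_pow_mod _ (Circulant.pow_N hζ k), ← ZMod.val_add, sub_add_cancel]
      calc ζ ^ (k * (j - i).val) = (ζ ^ k) ^ (j - i).val * (A k i * (starRingEnd ℂ) (A k i)) := by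
            rw [hc, mul_one, pow_mul]
        _ = _ := by rw [← mul_assoc, h1]
    simp only [Matrix.smul_apply, Matrix.add_apply, Matrix.vecMulVec_apply, smul_eq_mul, hw, hpow, hd,
      Complex.div_ofReal_re, Complex.mul_re, Complex.conj_re, Complex.conj_im, Complex.ofReal_re]
    ring
  rw [key]
  refine Matrix.posSemidef_sum _ fun k hk => ?_
  obtain ⟨d, hd0, hd⟩ := Circulant.denom_eq_ofReal hζ hk
  refine Matrix.PosSemidef.smul ?_ (by simp only [hw, hd, Complex.ofReal_re]; positivity)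
  refine Matrix.PosSemidef.add ?_ ?_
  · exact (Matrix.posSemidef_vecMulVec_self_star fun i => (A k i).re)
  · exact (Matrix.posSemidef_vecMulVec_self_star fun i => (A k i).im)

end Groth.Agent.S18190
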