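import Groth.Statements.S18200
import Groth.Agent.LocHom.Loci
import Groth.Agent.LocImm77.Finite

set_option autoImplicit false
universe u
open LocImm CategoryTheory AlgebraicGeometry

namespace Groth.Agent.S18200

open CategoryTheory AlgebraicGeometry in
/-- Let `f : X ⟶ Y` be a separated morphism of Noetherian schemes that is essentially quasi-finite:
essentially of finite type with every fibre the spectrum of a finite algebra over the residue field
(equivalently, `f` locally quasi-finite in the fibrewise sense, which carries no finite-type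
condition). Then `f` factors as a localizing immersion `i : X ⟶ Z` (localizing and injective on
points, `Z` Noetherian) followed by a finite morphism `h : Z ⟶ Y`. -/
theorem result {X Y : Scheme.{u}} [IsNoetherian X] [IsNoetherian Y] (f : X ⟶ Y) [IsSeparated f] [EssFT.EssFiniteType f] [LocallyQuasiFinite f] :
    ∃ (Z : Scheme.{u}) (i : X ⟶ Z) (h : Z ⟶ Y), IsNoetherian Z ∧ LocImm.IsLocImmersion i ∧ IsFinite h ∧ i ≫ h = f := by
  obtain ⟨Z, i, h, hZ, hi, hs, hl, hq, hfac⟩ := LocHom.exists_factor f
  have hqf : ∀ x : X, i x ∈ h.quasiFiniteLocus := fun x => by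
    rw [Scheme.Hom.mem_quasiFiniteLocus]
    have h1 := f.quasiFiniteAt x
    subst hfac
    rw [Scheme.Hom.QuasiFiniteAt, Scheme.Hom.stalkMap_comp] at h1
    haveI := LocHom.isIso_stalkMap hi.1 x
    exact (RingHom.QuasiFinite.respectsIso.cancel_right_isIso (h.stalkMap (i x)) (i.stalkMap x)).mp h1
  have hr : Set.range i ⊆ Set.range h.quasiFiniteLocus.ι := by
    rw [Scheme.Opens.range_ι]
    rintro _ ⟨x, rfl⟩
    exact hqf x
  haveI := LocHom.isNoetherian_opens h.quasiFiniteLocus
  haveI : QuasiCompact (h.quasiFiniteLocus.ι ≫ h) := quasiCompact_of_compactSpace _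
  obtain ⟨W, j, g, hj, hg, hjg⟩ := LocImm77.exists_openImmersion_finite (h.quasiFiniteLocus.ι ≫ h)
  let k := IsOpenImmersion.lift h.quasiFiniteLocus.ι i hr
  have hk : k ≫ h.quasiFiniteLocus.ι = i := IsOpenImmersion.lift_fac _ _ _
  have hkN : LocHom.HasNhds k := LocHom.HasNhds.of_comp_mono (g := h.quasiFiniteLocus.ι) (hk.symm ▸ LocHom.hasNhds hi)
  haveI := hg
  haveI : IsNoetherian W := LocHom.isNoetherian_of_lft g
  refine ⟨W, k ≫ j, g, inferInstance, ((hkN.comp (LocHom.hasNhds_openImmersion j))).isLocImmersion, hg, ?_⟩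
  rw [Category.assoc, hjg, ← Category.assoc, hk, hfac]

end Groth.Agent.S18200
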