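import Groth.Statements.S18202
import Groth.Agent.LocHom.Basic
-- import your own Groth.Agent.* helpers here

set_option autoImplicit false
universe u
open LocImm

namespace Groth.Agent.S18202

open CategoryTheory AlgebraicGeometry Limits in
/-- Let `f : X ⟶ Y` be a localizing immersion (localizing and injective on points) of Noetherian schemes
and `g : Y' ⟶ Y` a morphism with `Y'` Noetherian. Then the base change `X ×_Y Y' ⟶ Y'` is a
localizing immersion. -/
theorem result {X Y Y' : Scheme.{u}} [IsNoetherian X] [IsNoetherian Y] [IsNoetherian Y']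
    (f : X ⟶ Y) (g : Y' ⟶ Y) (hf : LocImm.IsLocImmersion f) : LocImm.IsLocImmersion (pullback.snd f g) := by
  refine LocHom.of_affine_nhds fun z => ?_
  obtain ⟨W, hxW, hW, hW', h⟩ := LocHom.exists_affine_nhd hf (pullback.fst f g z)
  have hz : g (pullback.snd f g z) ∈ W := by
    rw [← Scheme.Hom.comp_apply, ← pullback.condition, Scheme.Hom.comp_apply]
    exact hxW
  obtain ⟨_, ⟨W', hW'', rfl⟩, hzW', hle⟩ :=
    Y'.isBasis_affineOpens.exists_subset_of_mem_open
      (show pullback.snd f g z ∈ (g ⁻¹ᵁ W : Set Y') from hz) (g ⁻¹ᵁ W).2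
  have hle' : W' ≤ g ⁻¹ᵁ W := hle
  have hsub : pullback.snd f g ⁻¹ᵁ W' =
      pullback.fst f g ⁻¹ᵁ (f ⁻¹ᵁ W) ⊓ pullback.snd f g ⁻¹ᵁ W' := by
    refine (inf_eq_right.mpr fun w hw => ?_).symm
    show f (pullback.fst f g w) ∈ W
    rw [← Scheme.Hom.comp_apply, pullback.condition, Scheme.Hom.comp_apply]
    exact hle' hw
  have H := IsPullback.of_hasPullback f g
  have : IsAffine _ := hW
  have : IsAffine _ := hW'
  have : IsAffine _ := hW''
  have hUY : IsAffineOpen (pullback.snd f g ⁻¹ᵁ W') :=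
    .of_isIso (Scheme.Hom.isPullback_resLE H hle' (le_refl (f ⁻¹ᵁ W)) hsub).isoPullback.hom
  refine ⟨W', hzW', hW'', hUY, ?_⟩
  have hP := (isIso_pushoutSection_iff H hle' (le_refl (f ⁻¹ᵁ W)) hsub).mp
    (isIso_pushoutSection_of_isAffineOpen H hle' le_rfl hsub hW hW'' hW')
  rw [Scheme.Hom.app_eq_appLE] at h ⊢
  exact LocHom.isLocHom_of_pushout hP h

end Groth.Agent.S18202
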