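import Groth.Statements.S18205
import Groth.Agent.LocHom.Basic
-- import your own Groth.Agent.* helpers here

set_option autoImplicit false
universe u
open LocImm

namespace Groth.Agent.S18205

open CategoryTheory AlgebraicGeometry in
/-- Let `f : X ⟶ Y` be a localizing immersion (localizing and injective on points) of Noetherian schemes
whose image is closed. Then `f` is an open immersion (so its image is open and closed and `f` is an
isomorphism onto a union of connected components of `Y`); in particular a surjective localizing
immersion is an isomorphism. -/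
theorem result {X Y : Scheme.{u}} [IsNoetherian X] [IsNoetherian Y]
    (f : X ⟶ Y) (hf : LocImm.IsLocImmersion f) (hc : IsClosed (Set.range (fun x => f x))) : IsOpenImmersion f := by
  refine LocHom.isOpenImmersion_of_isOpen_range hf ?_
  set C := Set.range (fun x => f x)
  have hgen : StableUnderGeneralization C := LocHom.stableUnderGeneralization_range hf.1
  obtain ⟨S, hSf, hScl, hSirr, hS⟩ :=
    TopologicalSpace.NoetherianSpace.exists_finite_set_isClosed_irreducible
      (isClosed_univ (X := Y))
  have hCc : Cᶜ = ⋃₀ {t ∈ S | ¬ (t ∩ C).Nonempty} := by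
    ext y
    refine ⟨fun hy => ?_, fun ⟨t, ht, hyt⟩ hyC => ht.2 ⟨y, hyt, hyC⟩⟩
    obtain ⟨t, ht, hyt⟩ := Set.mem_sUnion.mp (hS ▸ Set.mem_univ y)
    refine ⟨t, ⟨ht, fun ⟨z, hzt, hzC⟩ => hy ?_⟩, hyt⟩
    have hg := (hSirr t ht).isGenericPoint_genericPoint (hScl t ht)
    have hη : (hSirr t ht).genericPoint ∈ C := hgen (hg.specializes hzt) hzC
    exact hc.closure_subset_iff.mpr (Set.singleton_subset_iff.mpr hη) (hg.def.symm ▸ hyt)
  rw [← isClosed_compl_iff]
  rw [show (Set.range f)ᶜ = Cᶜ from rfl, hCc, Set.sUnion_eq_biUnion]
  exact (hSf.subset fun t ht => ht.1).isClosed_biUnion fun t ht => hScl t ht.1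

end Groth.Agent.S18205
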