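import Groth.Statements.S18206
import Groth.Agent.LocHom.Basic
-- import your own Groth.Agent.* helpers here

set_option autoImplicit false
universe u
open LocImm

namespace Groth.Agent.S18206

open CategoryTheory AlgebraicGeometry in
/-- Let `f : X ⟶ Y` be a localizing immersion (localizing and injective on points) of Noetherian
schemes. Then every quasi-coherent ideal sheaf `I` on `X` is the inverse image ideal `J·O_X` of some
quasi-coherent ideal sheaf `J` on `Y` (all such ideals are coherent, the schemes being Noetherian). -/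
theorem result {X Y : Scheme.{u}} [IsNoetherian X] [IsNoetherian Y]
    (f : X ⟶ Y) (hf : LocImm.IsLocImmersion f) (I : X.IdealSheafData) : ∃ J : Y.IdealSheafData, J.comap f = I := by
  refine ⟨I.map f, le_antisymm (Scheme.IdealSheafData.le_map_iff_comap_le.mp le_rfl) ?_⟩
  choose W hxW hW hW' h using fun x => LocHom.exists_affine_nhd hf x
  refine Scheme.IdealSheafData.le_of_iSup_eq_top (fun x => ⟨f ⁻¹ᵁ W x, hW' x⟩)
    (top_le_iff.mp fun x _ => TopologicalSpace.Opens.mem_iSup.mpr ⟨x, hxW x⟩) fun x => ?_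
  have hle : (I.map f).ideal ⟨W x, hW x⟩ ≤
      (((I.map f).comap f).map f).ideal ⟨W x, hW x⟩ :=
    Scheme.IdealSheafData.le_def.mp (Scheme.IdealSheafData.le_map_iff_comap_le.mpr le_rfl) _
  rw [Scheme.IdealSheafData.ideal_map _ f ⟨W x, hW x⟩ (hW' x),
    Scheme.IdealSheafData.ideal_map _ f ⟨W x, hW x⟩ (hW' x)] at hle
  let := (f.app (W x)).hom.toAlgebra
  obtain ⟨S, hS⟩ := h x
  calc I.ideal ⟨f ⁻¹ᵁ W x, hW' x⟩
      = ((I.ideal ⟨f ⁻¹ᵁ W x, hW' x⟩).comap (algebraMap Γ(Y, W x) Γ(X, f ⁻¹ᵁ W x))).map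
          (algebraMap Γ(Y, W x) Γ(X, f ⁻¹ᵁ W x)) := (IsLocalization.map_comap S _ _).symm
    _ ≤ _ := Ideal.map_le_iff_le_comap.mpr hle

end Groth.Agent.S18206
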