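import Groth.Statements.S18209
import Groth.Agent.LocBlow.Core

set_option autoImplicit false
universe u
open LocImm

namespace Groth.Agent.S18209

set_option backward.isDefEq.respectTransparency false
set_option linter.style.haveILetI false

open CategoryTheory AlgebraicGeometry Limits in
/-- Let `f : X ⟶ Y` and `g : Y ⟶ Z` be separated morphisms of Noetherian schemes, essentially of finite
type, such that `f` and `f ≫ g` are localizing immersions (localizing and injective on points). Then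
there are blow-ups `b : Ỹ ⟶ Y` and `c : Z̃ ⟶ Z` in quasi-coherent (hence coherent) ideals whose
closed subschemes are disjoint from the image of `X`, and a localizing immersion `g' : Ỹ ⟶ Z̃`
lifting `g`, i.e. `g' ≫ c = b ≫ g`. -/
theorem result {X Y Z : Scheme.{u}} [IsNoetherian X] [IsNoetherian Y] [IsNoetherian Z]
    (f : X ⟶ Y) (g : Y ⟶ Z) [IsSeparated f] [IsSeparated g] [EssFT.EssFiniteType f] [EssFT.EssFiniteType g]
    (hf : LocImm.IsLocImmersion f) (hfg : LocImm.IsLocImmersion (f ≫ g)) :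
    ∃ (𝓘 : Y.IdealSheafData) (𝓙 : Z.IdealSheafData) (Yt Zt : Scheme.{u}) (b : Yt ⟶ Y) (c : Zt ⟶ Z) (g' : Yt ⟶ Zt),
      BlowUp.IsBlowUp b 𝓘 ∧ Disjoint (𝓘.support : Set Y) (Set.range (fun x => f x)) ∧
      BlowUp.IsBlowUp c 𝓙 ∧ Disjoint (𝓙.support : Set Z) (Set.range (fun x => g (f x))) ∧
      LocImm.IsLocImmersion g' ∧ g' ≫ c = b ≫ g := by
  obtain ⟨Y', k, p, hY', hk, _, _, _, hkp⟩ := Groth.Agent.LocHom.exists_factor g
  have hfk := ((Groth.Agent.LocHom.hasNhds hf).comp (Groth.Agent.LocHom.hasNhds hk)).isLocImmersion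
  obtain ⟨W, kW, g₁, g₂, -, _, _, hg, hg₁, hg₂⟩ :=
    Groth.Agent.LocHom.exists_common_open (f ≫ k) (f ≫ g) p (𝟙 Z) hfk hfg
      (by rw [Category.comp_id, Category.assoc, hkp])
  obtain ⟨A, B, α, β, o, uA, 𝓛, 𝓜, hα, -, hdL, hβ, -, hdM, _, _, _, _, ho, -, -⟩ :=
    Groth.Agent.LocBlow.exists_blowUp_openImmersion p (𝟙 Z) g₁ g₂ hg
  rw [Category.comp_id] at ho
  obtain ⟨h1, h2, h3⟩ := Groth.Agent.LocBlow.pullback_blowUp hk hα f
    (hdL.mono_right (by rw [← hg₁]; rintro _ ⟨z, rfl⟩; exact ⟨kW z, rfl⟩))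
  refine ⟨_, 𝓜, pullback k α, B, pullback.fst k α, β, pullback.snd k α ≫ o, h1, h2, hβ,
    hdM.mono_right ?_, (h3.comp (Groth.Agent.LocHom.hasNhds_openImmersion o)).isLocImmersion, ?_⟩
  · show Set.range (f ≫ g) ⊆ _
    rw [← hg₂]; rintro _ ⟨z, rfl⟩; exact ⟨kW z, rfl⟩
  · rw [Category.assoc, ho, ← pullback.condition_assoc, hkp]

end Groth.Agent.S18209
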