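import Groth.Statements.S18210
import Groth.Agent.LocBlow.Core
import Groth.Agent.S17387

set_option autoImplicit false
universe u
open LocImm

namespace Groth.Agent.S18210

set_option backward.isDefEq.respectTransparency false
set_option linter.style.haveILetI false
set_option maxHeartbeats 800000

open CategoryTheory CategoryTheory.Limits AlgebraicGeometry TopologicalSpace

/-- The open of points all of whose generizations outside a generization-stable image are absent. -/
lemma exists_dense_nhd {U W : Scheme.{u}} [IsNoetherian W] (k : U ⟶ W) (hk : LocImm.IsLocalizing k) :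
    ∃ V : W.Opens, Set.range k ⊆ (V : Set W) ∧ (V : Set W) ⊆ closure (Set.range k) := by
  let bad : Set W := {η | η ∈ genericPoints W ∧ η ∉ Set.range k}
  have hbad : bad.Finite := ((genericPoints.finite
    (NoetherianSpace.finite_irreducibleComponents (α := W)))).subset fun η h => h.1
  refine ⟨⟨(⋃ η ∈ bad, closure {η})ᶜ,
    (hbad.isClosed_biUnion fun η _ => isClosed_closure).isOpen_compl⟩, ?_, fun p hp => ?_⟩
  · rintro _ ⟨x, rfl⟩
    simp only [Opens.coe_mk, Set.mem_compl_iff, Set.mem_iUnion₂, not_exists]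
    intro η hη hxη
    exact hη.2 (Groth.Agent.LocHom.stableUnderGeneralization_range hk
      (specializes_iff_mem_closure.mpr hxη) ⟨x, rfl⟩)
  · obtain ⟨C, hC, hCp⟩ := exists_mem_irreducibleComponents_subset_of_isIrreducible
      {p} isIrreducible_singleton
    have hgp := hC.1.isGenericPoint_genericPoint (isClosed_of_mem_irreducibleComponents C hC)
    have hs : hC.1.genericPoint ⤳ p := hgp.specializes (hCp rfl)
    by_cases hη : hC.1.genericPoint ∈ Set.range k
    · exact closure_mono (Set.singleton_subset_iff.mpr hη) (specializes_iff_mem_closure.mp hs)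
    · refine absurd ?_ hp
      simp only [Set.mem_iUnion₂]
      refine ⟨hC.1.genericPoint, ⟨?_, hη⟩, specializes_iff_mem_closure.mp hs⟩
      show closure {hC.1.genericPoint} ∈ irreducibleComponents W
      rw [hgp.def]
      exact hC

/-- A common open neighbourhood of finitely many localizing immersions over a base. -/
lemma exists_common_opens {S U : Scheme.{u}} [IsNoetherian S] [IsNoetherian U] {ι : Type} [Finite ι]
    (i₀ : ι) (gU : U ⟶ S) (Y : ι → Scheme.{u}) [∀ i, IsNoetherian (Y i)] (p : ∀ i, Y i ⟶ S)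
    [∀ i, IsSeparated (p i)] [∀ i, LocallyOfFiniteType (p i)]
    (f : ∀ i, U ⟶ Y i) (hf : ∀ i, LocImm.IsLocImmersion (f i)) (hfp : ∀ i, f i ≫ p i = gU) :
    ∃ (W : Scheme.{u}) (k : U ⟶ W) (g : ∀ i, W ⟶ Y i) (ρ : W ⟶ S),
      IsNoetherian W ∧ IsSeparated ρ ∧ LocallyOfFiniteType ρ ∧
      (∀ i, IsOpenImmersion (g i) ∧ k ≫ g i = f i ∧ g i ≫ p i = ρ) ∧
      Dense (Set.range k) := by
  classical
  haveI := Fintype.ofFinite ι
  suffices ∀ s : Finset ι, ∃ (W : Scheme.{u}) (k : U ⟶ W) (ρ : W ⟶ S),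
      IsNoetherian W ∧ IsSeparated ρ ∧ LocallyOfFiniteType ρ ∧ LocImm.IsLocImmersion k ∧ k ≫ ρ = gU ∧
      ∀ i ∈ insert i₀ s, ∃ g : W ⟶ Y i, IsOpenImmersion g ∧ k ≫ g = f i ∧ g ≫ p i = ρ by
    obtain ⟨W, k, ρ, _, _, _, hk, hkρ, hg⟩ := this Finset.univ
    choose g hgo hgk hgp using fun i => hg i (Finset.mem_insert_of_mem (Finset.mem_univ i))
    obtain ⟨V, hV, hVc⟩ := exists_dense_nhd k hk.1
    let k' := IsOpenImmersion.lift V.ι k (by rw [Scheme.Opens.range_ι]; exact hV)
    have hk' : k' ≫ V.ι = k := IsOpenImmersion.lift_fac _ _ _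
    refine ⟨V, k', fun i => V.ι ≫ g i, V.ι ≫ ρ, Groth.Agent.LocHom.isNoetherian_opens V, inferInstance,
      inferInstance, fun i => ⟨inferInstance, by rw [reassoc_of% hk', hgk], by rw [Category.assoc, hgp]⟩,
      fun z => ?_⟩
    have h1 := hVc z.2
    rw [V.ι.isEmbedding.isInducing.closure_eq_preimage_closure_image]
    show V.ι z ∈ closure (V.ι '' Set.range k')
    rwa [← Set.range_comp, ← TopCat.coe_comp, ← Scheme.Hom.comp_base, hk']
  intro s
  induction s using Finset.induction with
  | empty =>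
    refine ⟨Y i₀, f i₀, p i₀, inferInstance, inferInstance, inferInstance, hf i₀, hfp i₀,
      fun i hi => ?_⟩
    obtain rfl : i = i₀ := by simpa using hi
    exact ⟨𝟙 _, inferInstance, Category.comp_id _, Category.id_comp _⟩
  | @insert a s _ ih =>
    obtain ⟨W, k, ρ, _, _, _, hk, hkρ, hg⟩ := ih
    obtain ⟨W', k', h₁, h₂, hk', _, _, hh, hh₁, hh₂⟩ :=
      Groth.Agent.LocHom.exists_common_open k (f a) ρ (p a) hk (hf a) (hkρ.trans (hfp a).symm)
    refine ⟨W', k', h₁ ≫ ρ, Groth.Agent.LocHom.isNoetherian_of_openImmersion h₁, inferInstance,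
      inferInstance, hk', by rw [reassoc_of% hh₁, hkρ], fun i hi => ?_⟩
    by_cases hia : i = a
    · subst hia
      exact ⟨h₂, inferInstance, hh₂, hh.symm⟩
    · obtain ⟨g, _, hgk, hgp⟩ := hg i (by
        simp only [Finset.mem_insert] at hi ⊢; tauto)
      exact ⟨h₁ ≫ g, inferInstance, by rw [reassoc_of% hh₁, hgk], by rw [Category.assoc, hgp]⟩

open CategoryTheory AlgebraicGeometry Limits in
/-- Let `S` be a Noetherian scheme, `U` and `Y_1, …, Y_n` Noetherian schemes separated and essentially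
of finite type over `S`, and `f_i : U ⟶ Y_i` localizing immersions over `S` (localizing and
injective on points). Then there are blow-ups `b_i : Ỹ_i ⟶ Y_i` in quasi-coherent ideals whose
closed subschemes miss `f_i(U)`, a separated `S`-scheme `Z` of finite type, lifts `u_i : U ⟶ Ỹ_i` of
the `f_i`, and localizing immersions `g_i : Ỹ_i ⟶ Z` over `S` with dense image such that all
composites `u_i ≫ g_i` coincide. (The published statement does not require the `Y_i` to be separated
over `S`; its proof factors each `Y_i ⟶ S` through the main factorization result, which needs it,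
and without it the line with a doubled point over a field, with `U` the complement of the doubled
point, is a counterexample, since a scheme admitting a localizing immersion into a separated
`S`-scheme is separated over `S`.) -/
theorem result {S U : Scheme.{u}} [IsNoetherian S] [IsNoetherian U] {n : ℕ}
    (gU : U ⟶ S) (Y : Fin n → Scheme.{u}) [∀ i, IsNoetherian (Y i)] (q : ∀ i, Y i ⟶ S)
    [∀ i, IsSeparated (q i)] [∀ i, EssFT.EssFiniteType (q i)]
    (f : ∀ i, U ⟶ Y i) (hf : ∀ i, LocImm.IsLocImmersion (f i)) (hfq : ∀ i, f i ≫ q i = gU) :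
    ∃ (Z : Scheme.{u}) (r : Z ⟶ S) (_ : IsSeparated r) (_ : LocallyOfFiniteType r) (_ : QuasiCompact r)
      (𝓘 : ∀ i, (Y i).IdealSheafData) (Yt : Fin n → Scheme.{u}) (b : ∀ i, Yt i ⟶ Y i) (u : ∀ i, U ⟶ Yt i) (g : ∀ i, Yt i ⟶ Z),
      (∀ i, BlowUp.IsBlowUp (b i) (𝓘 i) ∧ Disjoint ((𝓘 i).support : Set (Y i)) (Set.range (fun x => f i x)) ∧
        u i ≫ b i = f i ∧ LocImm.IsLocImmersion (g i) ∧ Dense (Set.range (fun x => g i x)) ∧ g i ≫ r = b i ≫ q i) ∧
      (∀ i i', u i ≫ g i = u i' ≫ g i') := by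
  rcases n with _ | n
  · exact ⟨S, 𝟙 S, inferInstance, inferInstance, inferInstance, fun i => i.elim0, fun i => i.elim0,
      fun i => i.elim0, fun i => i.elim0, fun i => i.elim0, fun i => i.elim0, fun i => i.elim0⟩
  choose Y' k p hY' hk hps hpl hpq hkp using fun i => Groth.Agent.LocHom.exists_factor (q i)
  obtain ⟨W, kW, j, ρ, _, _, _, hj, hkd⟩ := exists_common_opens (0 : Fin (n + 1)) gU Y' p
    (fun i => f i ≫ k i)
    (fun i => ((Groth.Agent.LocHom.hasNhds (hf i)).comp (Groth.Agent.LocHom.hasNhds (hk i))).isLocImmersion)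
    (fun i => by rw [Category.assoc, hkp, hfq])
  haveI := fun i => (hj i).1
  choose I X' c v hc hI hd hcp hv hvo hvd hvr using fun i => Groth.Agent.LocBlow.exists_dense_blowUp (j i)
  haveI : QuasiCompact ρ := quasiCompact_of_compactSpace _
  obtain ⟨Z, r, hr1, hr2, hr3, jc, _, _, J, A, b, o, w, -, hP, -, hw⟩ :=
    S17387.good_succ ρ n X' (fun i => c i ≫ p i) v
      (fun i => by rw [← Category.assoc, hv, (hj i).2.2])
  have : ∀ i, IsNoetherian (X' i) := fun i => Groth.Agent.LocHom.isNoetherian_of_lft (c i)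
  have hK : ∀ i, ∃ 𝓚 : (Y' i).IdealSheafData, BlowUp.IsBlowUp (b i ≫ c i) 𝓚 ∧
      BlowUp.IsFiniteTypeIdeal 𝓚 ∧ Disjoint (𝓚.support : Set (Y' i)) (Set.range (j i)) := fun i => by
    obtain ⟨hb, hadm, -, -, -⟩ := hP i
    exact Groth.Agent.LocBlow.exists_comp (j i) (hc i) (hI i) (hd i) (hvr i) hb hadm.1 hadm.2
  choose K hKb hKf hKd using hK
  have hpb := fun i => Groth.Agent.LocBlow.pullback_blowUp (hk i) (hKb i) (f i)
    ((hKd i).mono_right (by rw [← (hj i).2.1]; rintro _ ⟨z, rfl⟩; exact ⟨kW z, rfl⟩))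
  refine ⟨Z, r, hr1, hr3, hr2, fun i => (K i).comap (k i), fun i => pullback (k i) (b i ≫ c i),
    fun i => pullback.fst _ _,
    fun i => pullback.lift (f i) (kW ≫ w i) (by
      rw [Category.assoc, reassoc_of% (hP i).2.2.2.2, hv, (hj i).2.1]),
    fun i => pullback.snd _ _ ≫ o i, fun i => ⟨(hpb i).1, (hpb i).2.1, pullback.lift_fst _ _ _, ?_, ?_, ?_⟩,
    fun i i' => by simp only [pullback.lift_snd_assoc, Category.assoc, hw]⟩
  · haveI := (hP i).2.2.1
    exact ((hpb i).2.2.comp (Groth.Agent.LocHom.hasNhds_openImmersion (o i))).isLocImmersion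
  · refine Dense.mono ?_ (jc.denseRange.dense_image jc.continuous hkd)
    rintro _ ⟨_, ⟨x, rfl⟩, rfl⟩
    refine ⟨pullback.lift (f i) (kW ≫ w i) (by
      rw [Category.assoc, reassoc_of% (hP i).2.2.2.2, hv, (hj i).2.1]) x, ?_⟩
    show (pullback.lift (f i) (kW ≫ w i) _ ≫ pullback.snd (k i) (b i ≫ c i) ≫ o i) x = _
    rw [pullback.lift_snd_assoc, Category.assoc, hw]
    rfl
  · rw [Category.assoc, (hP i).2.2.2.1, ← hkp i]
    simp only [pullback.condition_assoc, Category.assoc]

end Groth.Agent.S18210
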