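import Groth.Statements.S18211
import Groth.Agent.LocBlow.Core
import Groth.Agent.BlowUp.QProj

set_option autoImplicit false
universe u
open LocImm

namespace Groth.Agent.S18211

set_option backward.isDefEq.respectTransparency false
set_option linter.style.haveILetI false

open CategoryTheory AlgebraicGeometry Limits in
/-- Let `π : Y ⟶ S` be a separated morphism of Noetherian schemes, essentially of finite type, and `f :
U ⟶ Y` a localizing immersion (localizing and injective on points) with dense image such that `U ⟶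
S` is essentially quasi-projective: it factors as a localizing immersion `j : U ⟶ P` followed by a
projective morphism `P ⟶ S` (in the sense of the relative homogeneous spectrum of a quasi-coherent
graded algebra generated in degree one with degree-one part of finite type). Then there is a blow-up
`Ỹ ⟶ Y` in a quasi-coherent ideal whose closed subscheme misses `f(U)` such that `Ỹ ⟶ S` is
essentially quasi-projective in the same sense. -/
theorem result {U Y S P : Scheme.{u}} [IsNoetherian U] [IsNoetherian Y] [IsNoetherian S] [IsNoetherian P]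
    (π : Y ⟶ S) [IsSeparated π] [EssFT.EssFiniteType π] (f : U ⟶ Y) (hf : LocImm.IsLocImmersion f)
    (hfd : Dense (Set.range (fun x => f x))) (j : U ⟶ P) (p : P ⟶ S) (hj : LocImm.IsLocImmersion j)
    (hp : RelProj.IsProjective p) (hc : j ≫ p = f ≫ π) :
    ∃ (𝓘 : Y.IdealSheafData) (Yt P' : Scheme.{u}) (b : Yt ⟶ Y) (j' : Yt ⟶ P') (p' : P' ⟶ S),
      BlowUp.IsBlowUp b 𝓘 ∧ Disjoint (𝓘.support : Set Y) (Set.range (fun x => f x)) ∧
      LocImm.IsLocImmersion j' ∧ RelProj.IsProjective p' ∧ j' ≫ p' = b ≫ π := by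
  obtain ⟨Y', k, q, hY', hk, _, _, _, hkq⟩ := Groth.Agent.LocHom.exists_factor π
  have hfk := ((Groth.Agent.LocHom.hasNhds hf).comp (Groth.Agent.LocHom.hasNhds hk)).isLocImmersion
  obtain ⟨hpq, hpp⟩ := S4418.result p hp
  obtain ⟨W, kW, g₁, g₂, -, _, _, hg, hg₁, hg₂⟩ :=
    Groth.Agent.LocHom.exists_common_open (f ≫ k) j q p hfk hj
      (by rw [Category.assoc, hkq, hc])
  obtain ⟨A, B, α, β, o, uA, 𝓛, 𝓜, hα, -, hdL, hβ, hM, -, _, _, _, _, ho, -, -⟩ :=
    Groth.Agent.LocBlow.exists_blowUp_openImmersion q p g₁ g₂ hg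
  obtain ⟨h1, h2, h3⟩ := Groth.Agent.LocBlow.pullback_blowUp hk hα f
    (hdL.mono_right (by rw [← hg₁]; rintro _ ⟨z, rfl⟩; exact ⟨kW z, rfl⟩))
  refine ⟨_, pullback k α, B, pullback.fst k α, pullback.snd k α ≫ o, β ≫ p, h1, h2,
    (h3.comp (Groth.Agent.LocHom.hasNhds_openImmersion o)).isLocImmersion,
    Groth.Agent.BlowUp.QProj.isProjective_of_isProper _
      (Groth.Agent.BlowUp.QProj.isQuasiProjective_comp
        (Groth.Agent.BlowUp.QProj.isQuasiProjective_of_isBlowUp hβ hM) hpq), ?_⟩
  rw [Category.assoc, ho, ← pullback.condition_assoc, hkq]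

end Groth.Agent.S18211
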