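import Groth.Statements.S18212
import Groth.Agent.LocBlow.Core
import Groth.Agent.S18198

set_option autoImplicit false
universe u
open LocImm

namespace Groth.Agent.S18212

set_option backward.isDefEq.respectTransparency false
set_option linter.style.haveILetI false

open CategoryTheory AlgebraicGeometry Limits in
/-- Let `S` be a Noetherian scheme, `a : X ⟶ S` and `b : Y ⟶ S` separated morphisms essentially of
finite type with `X, Y` Noetherian, `Z` a Noetherian scheme, `j : Z ⟶ X` a localizing immersion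
(localizing and injective on points) and `f : Z ⟶ Y` a morphism over `S`. Then there are a blow-up
`c : X̃ ⟶ X` in a quasi-coherent ideal whose closed subscheme misses `j(Z)`, a localizing immersion
`j' : Z' ⟶ X̃` and a morphism `e : Z ⟶ Z'` with `e ≫ j' ≫ c = j` (so `j'` extends the lift of `j` to
`X̃`), and a morphism `f' : Z' ⟶ Y` over `S` extending `f` (`e ≫ f' = f`), such that the morphism
`Z' ⟶ X̃ ×_S Y` induced by `j'` and `f'` is a closed immersion. -/
theorem result {S X Y Z : Scheme.{u}} [IsNoetherian S] [IsNoetherian X] [IsNoetherian Y] [IsNoetherian Z]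
    (a : X ⟶ S) (b : Y ⟶ S) [IsSeparated a] [IsSeparated b] [EssFT.EssFiniteType a] [EssFT.EssFiniteType b]
    (j : Z ⟶ X) (hj : LocImm.IsLocImmersion j) (f : Z ⟶ Y) (hjf : j ≫ a = f ≫ b) :
    ∃ (𝓘 : X.IdealSheafData) (Xt Z' : Scheme.{u}) (c : Xt ⟶ X) (j' : Z' ⟶ Xt) (e : Z ⟶ Z') (f' : Z' ⟶ Y)
      (h : j' ≫ (c ≫ a) = f' ≫ b),
      BlowUp.IsBlowUp c 𝓘 ∧ Disjoint (𝓘.support : Set X) (Set.range (fun x => j x)) ∧
      LocImm.IsLocImmersion j' ∧ e ≫ j' ≫ c = j ∧ e ≫ f' = f ∧
      IsClosedImmersion (pullback.lift j' f' h) := by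
  obtain ⟨Y', k, p, _, hk, _, hkp⟩ := S18198.result b
  obtain ⟨𝓘, Xt, c, e, F, hc, hd, hec, heF, hFc⟩ :=
    Groth.Agent.LocBlow.exists_extension a p j hj (f ≫ k) (by rw [Category.assoc, hkp, hjf])
  refine ⟨𝓘, Xt, pullback k F, c, pullback.snd k F, pullback.lift f e heF.symm, pullback.fst k F, ?_,
    hc, hd, ((Groth.Agent.LocHom.hasNhds hk).pullback_snd F).isLocImmersion,
    by rw [pullback.lift_snd_assoc, hec], pullback.lift_fst _ _ _, ?_⟩
  · rw [hFc, ← pullback.condition_assoc, hkp]
  let θ : pullback (F ≫ p) (k ≫ p) ≅ pullback (c ≫ a) b := pullback.congrHom hFc.symm hkp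
  have key : ∀ h, pullback.lift (f := c ≫ a) (g := b) (pullback.snd k F) (pullback.fst k F) h =
      (pullbackSymmetry k F).hom ≫ pullback.mapDesc F k p ≫ θ.hom := fun h => by
    apply pullback.hom_ext <;> simp [θ, pullback.mapDesc]
  rw [key]
  infer_instance

end Groth.Agent.S18212
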