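import Groth.Statements.S18213
import Groth.Agent.LocHom.Loci
import Groth.Agent.FlatOpen.Scheme

set_option autoImplicit false
universe u
open LocImm CategoryTheory AlgebraicGeometry

namespace Groth.Agent.S18213

open CategoryTheory AlgebraicGeometry

theorem flat_fromSpecStalk_comp_iff {X Y : Scheme.{u}} (f : X ⟶ Y) (x : X) :
    Flat (X.fromSpecStalk x ≫ f) ↔ (f.stalkMap x).hom.Flat := by
  constructor
  · intro h
    have hl := (LocHom.hasNhds_fromSpecStalk X x).isLocImmersion.1
    obtain ⟨pt, hpt⟩ : ∃ pt : ↥(Spec (X.presheaf.stalk x)), X.fromSpecStalk x pt = x :=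
      ⟨IsLocalRing.closedPoint (X.presheaf.stalk x), Scheme.fromSpecStalk_closedPoint⟩
    haveI := LocHom.isIso_stalkMap hl pt
    have h1 := Flat.stalkMap (X.fromSpecStalk x ≫ f) pt
    rw [Scheme.Hom.stalkMap_comp] at h1
    have h2 := (RingHom.Flat.respectsIso.cancel_right_isIso _ _).mp h1
    rwa [hpt] at h2
  · intro h
    rw [← Scheme.SpecMap_stalkMap_fromSpecStalk]
    haveI : Flat (Spec.map (f.stalkMap x)) := (HasRingHomProperty.Spec_iff (P := @Flat)).mpr h
    haveI : Flat (Y.fromSpecStalk (f x)) := LocHom.flat (LocHom.hasNhds_fromSpecStalk Y (f x)).isLocImmersion.1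
    infer_instance

end Groth.Agent.S18213

namespace Groth.Agent.S18213

open CategoryTheory AlgebraicGeometry in
/-- Let `f : X ⟶ Y` be a separated morphism of Noetherian schemes, essentially of finite type. Then the
set of points `x` for which the composite `Spec O_{X,x} ⟶ X ⟶ Y` is flat is open, and if `f` is flat
it factors as a localizing immersion `i : X ⟶ Z` (localizing and injective on points, `Z`
Noetherian) followed by a separated flat morphism of finite type `h : Z ⟶ Y`. -/
theorem result {X Y : Scheme.{u}} [IsNoetherian X] [IsNoetherian Y] (f : X ⟶ Y) [IsSeparated f] [EssFT.EssFiniteType f] :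
    IsOpen {x : X | Flat (X.fromSpecStalk x ≫ f)} ∧
      (Flat f → ∃ (Z : Scheme.{u}) (i : X ⟶ Z) (h : Z ⟶ Y), IsNoetherian Z ∧ LocImm.IsLocImmersion i ∧ IsSeparated h ∧ LocallyOfFiniteType h ∧ QuasiCompact h ∧ Flat h ∧ i ≫ h = f) := by
  obtain ⟨-, h2, h3⟩ := LocHom.locus_open_and_factors (@Flat)
    (fun i g _ _ hi hg => by
      haveI := LocHom.flat hi.1
      haveI := hg
      infer_instance)
    (fun g _ _ hg => Flat.of_stalkMap _ fun x => (flat_fromSpecStalk_comp_iff g x).mp (hg x))
    (fun g _ _ => by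
      simp only [flat_fromSpecStalk_comp_iff]
      exact Groth.Agent.FlatOpen.Scheme.isOpen_stalkMap_flat g) f
  exact ⟨h2, h3⟩

end Groth.Agent.S18213
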