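import Groth.Statements.S18214
import Groth.Agent.LocBlow.Core

set_option autoImplicit false
universe u
open LocImm

namespace Groth.Agent.S18214

set_option backward.isDefEq.respectTransparency false
set_option linter.style.haveILetI false

open CategoryTheory AlgebraicGeometry Limits in
/-- Let `f : X ⟶ Y` and `g : Y ⟶ Z` be separated morphisms of Noetherian schemes, essentially of finite
type, with `f` and `f ≫ g` localizing immersions (localizing and injective on points), `g` proper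
and `X` dense in `Z`. Then there are blow-ups `b : Ỹ ⟶ Y` and `c : Z̃ ⟶ Z` in quasi-coherent ideals
whose closed subschemes miss the image of `X`, and an ISOMORPHISM `g' : Ỹ ⟶ Z̃` lifting `g` (`g' ≫ c
= b ≫ g`). -/
theorem result {X Y Z : Scheme.{u}} [IsNoetherian X] [IsNoetherian Y] [IsNoetherian Z]
    (f : X ⟶ Y) (g : Y ⟶ Z) [IsSeparated f] [EssFT.EssFiniteType f] [IsProper g]
    (hf : LocImm.IsLocImmersion f) (hfg : LocImm.IsLocImmersion (f ≫ g)) (hd : Dense (Set.range (fun x => g (f x)))) :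
    ∃ (𝓘 : Y.IdealSheafData) (𝓙 : Z.IdealSheafData) (Yt Zt : Scheme.{u}) (b : Yt ⟶ Y) (c : Zt ⟶ Z) (g' : Yt ⟶ Zt),
      BlowUp.IsBlowUp b 𝓘 ∧ Disjoint (𝓘.support : Set Y) (Set.range (fun x => f x)) ∧
      BlowUp.IsBlowUp c 𝓙 ∧ Disjoint (𝓙.support : Set Z) (Set.range (fun x => g (f x))) ∧
      IsIso g' ∧ g' ≫ c = b ≫ g := by
  haveI : EssFT.LocallyEssFiniteType g := Groth.Agent.LocHom.locallyEssFiniteType_of_lft g
  obtain ⟨W, kW, g₁, g₂, -, _, _, hg, hg₁, hg₂⟩ :=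
    Groth.Agent.LocHom.exists_common_open f (f ≫ g) g (𝟙 Z) hf hfg (by rw [Category.comp_id])
  obtain ⟨A, B, α, β, o, uA, 𝓛, 𝓜, hα, -, hdL, hβ, -, hdM, _, _, _, _, ho, -, -⟩ :=
    Groth.Agent.LocBlow.exists_blowUp_openImmersion g (𝟙 Z) g₁ g₂ hg
  rw [Category.comp_id] at ho
  haveI : IsProper (o ≫ β) := by rw [ho]; infer_instance
  haveI := Groth.Agent.LocBlow.isIso_of_isProper o β
  refine ⟨𝓛, 𝓜, A, B, α, β, o, hα, hdL.mono_right ?_, hβ, hdM.mono_right ?_, inferInstance, ho⟩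
  · show Set.range f ⊆ _
    rw [← hg₁]; rintro _ ⟨z, rfl⟩; exact ⟨kW z, rfl⟩
  · show Set.range (f ≫ g) ⊆ _
    rw [← hg₂]; rintro _ ⟨z, rfl⟩; exact ⟨kW z, rfl⟩

end Groth.Agent.S18214
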