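import Groth.Statements.S18223
import Groth.Agent.BigVol.KoszulSurj
import Groth.Agent.BigVol.Basic
import Groth.Agent.KFlat.FlatQuot
import Groth.Agent.ProjMorph.Ample
-- import your own Groth.Agent.* helpers here

set_option autoImplicit false
set_option linter.style.haveILetI false
universe u
open CategoryTheory CategoryTheory.Limits AlgebraicGeometry
open Coh

namespace Groth.Agent.S18223
open Groth.Agent.ProjTwist Groth.Agent.Props.GenLocus Groth.Agent.Props.GenTensor MonoidalCategory

theorem tensComm_tmul {X : Scheme.{u}} (A B : X.Modules) (U : X.Opens) (a : Γ(A, U)) (b : Γ(B, U)) :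
    (tensComm A B).hom.app U (tmul a b) = tmul b a := by
  have h := (PresheafOfModules.sheafificationAdjunction (𝟙 X.ringCatSheaf.obj)).unit.naturality
    (β_ (CohB1.toPMod A) (CohB1.toPMod B)).hom
  exact congr((PresheafOfModules.Hom.app $h (Opposite.op U)).hom (a ⊗ₜ[Γ(X, U)] b)).symm

theorem surjective_mul {k : Type u} [Field k] {X : Scheme.{u}} [X.Over (Spec (CommRingCat.of k))]
    [IsProper (X ↘ Spec (CommRingCat.of k))] {L : X.Modules} (hL : PicF.IsInvertible L)
    (J : Type u) (ev : (SheafOfModules.free J : X.Modules) ⟶ L) [Epi ev]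
    (hev : Function.Bijective (Sheaf.H.map ((SheafOfModules.toSheaf X.ringCatSheaf).map ev) 0))
    (G : X.Modules) (hvan : Subsingleton (Coh.HH X (CohB1.tensorMod G (kernel ev)) 1))
    (x : Γ(CohB1.tensorMod L G, ⊤)) :
    ∃ (n : ℕ) (a : Fin n → Γ(L, ⊤)) (b : Fin n → Γ(G, ⊤)), x = ∑ j, tmul (a j) (b j) := by
  classical
  rcases isEmpty_or_nonempty X with hX | hX
  · refine ⟨0, Fin.elim0, Fin.elim0, QCoh.eq_of_locally_eq (CohB1.tensorMod L G)
      (U := fun i : Fin 0 => i.elim0) (fun i => i.elim0) (fun z _ => (hX.false z).elim) _ _ fun i => i.elim0⟩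
  let O : J → X.Modules := fun _ => Coh.structureModule X
  let F : X.Modules := ∐ fun _ : J => Coh.structureModule X
  let ι : J → (Coh.structureModule X ⟶ F) := fun j => Sigma.ι (fun _ : J => Coh.structureModule X) j
  let π : J → (F ⟶ Coh.structureModule X) := fun j =>
    Sigma.desc (fun i : J => (if i = j then 𝟙 (Coh.structureModule X) else 0 :
      Coh.structureModule X ⟶ Coh.structureModule X))
  have hιπ : ∀ i j, ι i ≫ π j = if i = j then 𝟙 (Coh.structureModule X) else 0 := fun i j => Sigma.ι_desc _ i
  -- the index set is finite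
  let ev' : F ⟶ L := ev
  haveI : Epi ev' := ‹Epi ev›
  haveI : Finite J := by
    have hL' : Coh.IsCoh L := by
      haveI := EulerChar.isNoetherian k (X := X)
      exact BigVol.isCoh_of_isInvertible hL
    haveI := EulerChar.finite_HH k L hL' 0
    let u : Coh.HH X (Coh.structureModule X) 0 :=
      (ProperFin.h0Sec (Coh.structureModule X)).symm (show Γ(X, ⊤) from 1)
    have hu : u ≠ 0 := fun h => by
      have h' : (show Γ(X, ⊤) from 1) = (0 : Γ(X, ⊤)) := by
        have := congrArg (ProperFin.h0Sec (Coh.structureModule X)) h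
        rwa [AddEquiv.apply_symm_apply, map_zero] at this
      obtain ⟨z⟩ := hX
      have h'' := congrArg (fun t : Γ(X, ⊤) => (X.presheaf.germ ⊤ z trivial).hom t) h'
      simp only [map_one, map_zero] at h''
      exact one_ne_zero h''
    let v : J → Coh.HH X F 0 := fun j => CohLin.overLin k (CohLin.hMap (ι j) 0) u
    have hv : LinearIndependent k v := by
      rw [linearIndependent_iff']
      intro s c hc i hi
      have h1 := congrArg (CohLin.overLin k (CohLin.hMap (π i) 0)) hc
      rw [map_sum, map_zero, Finset.sum_eq_single i] at h1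
      · rw [map_smul] at h1
        have h2 : (CohLin.overLin k (CohLin.hMap (π i) 0)) (v i) = u := by
          refine (CohLin.hMap_comp (ι i) (π i) 0 u).symm.trans ?_
          rw [hιπ, if_pos rfl, CohLin.hMap_id]
        rw [h2] at h1
        exact (smul_eq_zero.1 h1).resolve_right hu
      · intro j _ hj
        rw [map_smul]
        have h2 : (CohLin.overLin k (CohLin.hMap (π i) 0)) (v j) = 0 := by
          refine (CohLin.hMap_comp (ι j) (π i) 0 u).symm.trans ?_
          rw [hιπ, if_neg hj]
          exact map_zero (CohLin.hMapHom _ _ 0 u) 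
        rw [h2, smul_zero]
      · exact fun h => absurd hi h
    exact (hv.map' (CohLin.overLin k (CohLin.hMap ev' 0))
      (LinearMap.ker_eq_bot.2 hev.1)).finite
  haveI : Fintype J := Fintype.ofFinite J
  have hid : (∑ j, π j ≫ ι j) = 𝟙 F := Sigma.hom_ext _ _ fun i => by
    refine (Preadditive.comp_sum _ _ _).trans ?_
    rw [Finset.sum_eq_single i]
    · rw [← Category.assoc, hιπ, if_pos rfl, Category.id_comp]; exact (Category.comp_id _).symm
    · intro j _ hj
      rw [← Category.assoc, hιπ, if_neg (Ne.symm hj), zero_comp]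
    · exact fun h => absurd (Finset.mem_univ i) h
  have hS : (ShortComplex.mk (kernel.ι ev') ev' (kernel.condition ev')).ShortExact :=
    ProjTwist.Pn.shortExact_kernel ev'
  have hT : KFlat.TensorMono (O := X.sheaf) L := by
    constructor
    intro A B f hf
    exact @S19801.mono_tensor_right _ L _ _ hL f hf
  have hSG := KFlat.shortExact_tensorBi_map hS hT G
  let x' := (tensComm L G).hom.app ⊤ x
  obtain ⟨y, hy⟩ := CohLin.exists_hMap_g_eq hSG ((ProperFin.h0Sec _).symm x')
    (@Subsingleton.elim _ hvan _ _)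
  let y' := ProperFin.h0Sec _ y
  let T := (DCoh.tensorBi (X := X)).obj G
  have hy' : (T.map ev').app ⊤ y' = x' := by
    refine (ProperFin.h0Sec_hMap (T.map ev') y).symm.trans ?_
    exact (congrArg (ProperFin.h0Sec _) hy).trans (AddEquiv.apply_symm_apply _ _)
  have hg : ∀ t : Γ(CohB1.tensorMod G (Coh.structureModule X), ⊤), ∃ g : Γ(G, ⊤),
      t = tmul g (show Γ(Coh.structureModule X, ⊤) from (1 : Γ(X, ⊤))) := fun t => by
    let s : Coh.structureModule X ⟶ Coh.structureModule X :=
      homOfSec (L := Coh.structureModule X) (show Γ(Coh.structureModule X, ⊤) from (1 : Γ(X, ⊤)))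
    have hs : sec s ⊤ = (show Γ(Coh.structureModule X, ⊤) from (1 : Γ(X, ⊤))) := by
      rw [sec_homOfSec]; exact QCoh.res_self _ le_top _
    obtain ⟨g, rfl⟩ := (mulSecHom_bijective (Coh.structureModule X) s ⊤
      (by rw [hs]; exact ProjMorph.isGen_one ⊤) G ⊤ le_rfl).2 t
    exact ⟨g, congrArg (tmul g) hs⟩
  choose g hg using fun j : J => hg ((T.map (π j)).app ⊤ y')
  let e := Fintype.equivFin J
  refine ⟨Fintype.card J, fun i => (ι (e.symm i) ≫ ev').app ⊤ (show Γ(Coh.structureModule X, ⊤) from (1 : Γ(X, ⊤))),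
    fun i => g (e.symm i), ?_⟩
  apply (ConcreteCategory.bijective_of_isIso ((tensComm L G).hom.app ⊤)).1
  rw [map_sum]
  simp only [tensComm_tmul]
  rw [Equiv.sum_comp e.symm (fun j => tmul (g j) ((ι j ≫ ev').app ⊤ (show Γ(Coh.structureModule X, ⊤) from (1 : Γ(X, ⊤)))))]
  refine hy'.symm.trans ?_
  have h1 : T.map ev' = ∑ j, T.map (π j) ≫ T.map (ι j ≫ ev') := by
    simp only [← T.map_comp, ← Category.assoc]
    rw [← T.map_sum, ← Preadditive.sum_comp, hid, Category.id_comp]
  rw [h1]
  have hsum : ∀ (t : Finset J) (f : J → (T.obj F ⟶ T.obj L)),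
      (∑ j ∈ t, f j).app ⊤ y' = ∑ j ∈ t, (f j).app ⊤ y' := fun t f => by
    induction t using Finset.induction with
    | empty => rfl
    | insert a t ha ih =>
      rw [Finset.sum_insert ha, Finset.sum_insert ha, ← ih]
      rfl
  refine (hsum _ _).trans (Finset.sum_congr rfl fun j _ => ?_)
  rw [Scheme.Modules.Hom.comp_app, ConcreteCategory.comp_apply, hg j]
  exact map_tmul_right G _ ⊤ _ _


/-- Let k be an algebraically closed field, X a proper k-scheme and L an invertible O_X-module which is
globally generated, its evaluation map H^0(X, L) ⊗ O_X → L given as an epimorphism ev from a free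
module inducing a bijection on global sections; let M_L = ker ev be the kernel bundle. Let i ≥ 0 and
h ≥ 1 and suppose H^1(X, M_L^{⊗(i+1)} ⊗ L^{⊗h}) = 0. Then the multiplication map on global sections
H^0(X, L) ⊗ H^0(X, M_L^{⊗i} ⊗ L^{⊗h}) → H^0(X, L ⊗ (M_L^{⊗i} ⊗ L^{⊗h})), written as the map from the
global sections of the sectionwise tensor product presheaf to the global sections of its
sheafification, is surjective (its target is H^0(X, M_L^{⊗i} ⊗ L^{⊗(h+1)}) up to the canonical
isomorphism; the published statement writes both sides as the iterated kernels K(L^h, L, …, L) of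
multiplication maps, which its first part identifies with these section spaces). The published
statement is for a projective variety; this row allows any proper k-scheme. -/
theorem result (k : Type u) [Field k] [IsAlgClosed k]
    (X : Scheme.{u}) [X.Over (Spec (CommRingCat.of k))] [IsProper (X ↘ Spec (CommRingCat.of k))]
    (L : X.Modules) (hL : PicF.IsInvertible L)
    (J : Type u) (ev : (SheafOfModules.free J : X.Modules) ⟶ L) [Epi ev]
    (hev : Function.Bijective (Sheaf.H.map ((SheafOfModules.toSheaf X.ringCatSheaf).map ev) 0))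
    (i h : ℕ) (hh : 1 ≤ h)
    (hvan : Subsingleton (Coh.HH X (CohB1.tensorMod (CohB1.tensorPow (kernel ev) (i + 1)) (CohB1.tensorPow L h)) 1)) :
    Function.Surjective ((toSheafify (Opens.grothendieckTopology ↥X)
      (CohB1.tensorPre L (CohB1.tensorMod (CohB1.tensorPow (kernel ev) i) (CohB1.tensorPow L h))).presheaf).app
        (Opposite.op ⊤)) := by
  have hG := hvan
  intro t
  let G := CohB1.tensorMod (CohB1.tensorPow (kernel ev) i) (CohB1.tensorPow L h)
  have hvan' : Subsingleton (Coh.HH X (CohB1.tensorMod G (kernel ev)) 1) :=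
    haveI : Subsingleton (Coh.HH X (CohB1.tensorMod (CohB1.tensorMod (CohB1.tensorPow (kernel ev) i) (kernel ev)) (CohB1.tensorPow L h)) 1) := hvan
    BigVol.KoszulSurj.subsingleton_of_iso
      ((tensAssoc (CohB1.tensorPow (kernel ev) i) (CohB1.tensorPow L h) (kernel ev)) ≪≫
        tensCongr (Iso.refl _) (tensComm _ _) ≪≫ (tensAssoc _ _ _).symm).symm 1
  obtain ⟨m, a, b, rfl⟩ := surjective_mul (k := k) hL J ev hev G hvan' t
  refine ⟨∑ j, ((a j) ⊗ₜ[Γ(X, ⊤)] (b j) : TensorProduct Γ(X, ⊤) Γ(L, ⊤) Γ(G, ⊤)), ?_⟩
  refine (congr($(congrArg (fun φ => NatTrans.app φ (Opposite.op ⊤)) (η_eq L G)) _)).symm.trans ?_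
  refine (map_sum ((η L G).app (Opposite.op ⊤)).hom _ _).trans ?_
  rfl

end Groth.Agent.S18223
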