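import Groth.Statements.S18229
import Groth.Agent.AbVarLib.EffAmple
import Groth.Agent.AbVarLib.AbSub
import Groth.Agent.AbVarLib.GenNonempty
import Groth.Agent.AbVarLib.KunnethField
import Groth.Agent.AbVarLib.Basics

set_option autoImplicit false
universe u
open CategoryTheory CategoryTheory.Limits MonoidalCategory CartesianMonoidalCategory MonObj GrpObj AlgebraicGeometry
open AbVar

namespace Groth.Agent.S18229

/-- Let k be an algebraically closed field (any characteristic) and X a simple abelian variety over k: a
proper smooth k-group scheme with geometrically connected fibres whose only geometrically integral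
closed k-subgroup schemes are the trivial subgroup and X itself. Let G be an invertible O_X-module
which is effective and non-trivial: H^0(X, G) ≠ 0 and G is not isomorphic to O_X. Then G is ample.
(In other words, when the abelian variety is simple, any line bundle that is effective and not
trivial must be ample.) -/
theorem result (k : Type u) [Field k] [IsAlgClosed k]
    (X : Over (Spec (CommRingCat.of k))) [GrpObj X] [IsProper X.hom] [Smooth X.hom] [GeometricallyConnected X.hom]
    (hsimple : ∀ (B : Over (Spec (CommRingCat.of k))) [GrpObj B] [GeometricallyIntegral B.hom] (i : B ⟶ X) [IsMonHom i]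
      [IsClosedImmersion i.left], Subsingleton ↥B.left ∨ IsIso i)
    (G : X.left.Modules) (hG : PicF.IsInvertible G)
    (hsec : Nontrivial (Coh.HH X.left G 0)) (hne : ¬ Nonempty (G ≅ Coh.structureModule X.left)) :
    CohB1.IsAmple G := by
  open Groth.Agent Groth.Agent.AbVarLib in
  open scoped Groth.Agent.PicLaw in
  exact by
    have := Basics.geometricallyIntegral X
    have : IsIntegral X.left := GeometricallyIntegral.isIntegral_of_subsingleton X.hom
    have : Nontrivial Γ(G, ⊤) := by
      have := hsec
      exact (Sheaf.H.equiv₀ (Coh.toAb G) isTerminalTop).toEquiv.symm.nontrivial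
    obtain ⟨σ, hσ⟩ := exists_ne (0 : Γ(G, ⊤))
    refine EffAmple.isAmple hG (Props.GenLocus.homOfSec σ) (GenNonempty.genLocus_nonempty hG hσ) ?_
    by_contra hinf
    let S : Subgroup ((𝟙_ (Over (Spec (CommRingCat.of k)))) ⟶ X) :=
      { carrier := {a | MumfordSurj.phi (PicGrp.cls G hG) a = 1}
        one_mem' := EffAmple.phi_one _
        mul_mem' := fun {a b} ha hb => by
          show MumfordSurj.phi _ (a * b) = 1
          rw [EffAmple.phi_mul, show MumfordSurj.phi _ a = 1 from ha, show MumfordSurj.phi _ b = 1 from hb,
            _root_.one_mul]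
        inv_mem' := fun {a} ha => by
          have h := EffAmple.phi_mul (PicGrp.cls G hG) a a⁻¹
          rwa [mul_inv_cancel, EffAmple.phi_one, show MumfordSurj.phi _ a = 1 from ha, _root_.one_mul, eq_comm] at h }
    obtain ⟨Y, _, i, _, _, _, _, _, hY⟩ := AbSub.exists_abelian S hinf
    rcases hsimple Y i with h | h
    · obtain ⟨a, b, hab⟩ := exists_pair_ne ((𝟙_ (Over (Spec (CommRingCat.of k)))) ⟶ Y)
      exact hab (AbSub.apply_inj (Subsingleton.elim _ _))
    · obtain ⟨Z, hZ, hmem⟩ := Slices.exists_closed (X := X) (Y := X)
        (Defect.pair (PicGrp.cls G hG) (fst X X) (snd X X))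
      have hker : ∀ a, a.left (IsLocalRing.closedPoint k) ∈ Z ↔ MumfordSurj.phi (PicGrp.cls G hG) a = 1 := fun a => by
        rw [hmem a, Defect.op_pair, lift_fst, lift_snd, MumfordSurj.pair_const]
      refine not_subsingleton (Coh.HH X.left G 0) (Vanish.subsingleton_H0 hG
        ((TransInv.iff_primitive (PicGrp.cls G hG)).mp fun a => ?_) hne)
      refine div_eq_one.mp ((hker a).mp (closure_minimal ?_ hZ (?_ : a.left (IsLocalRing.closedPoint k) ∈ closure (S15608.pts S))))
      · rintro _ ⟨b, hb, rfl⟩
        exact (hker b).mpr hb
      · have h2 := hY (a ≫ inv i)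
        rwa [Category.assoc, IsIso.inv_hom_id, Category.comp_id] at h2

end Groth.Agent.S18229
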