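import Groth.Statements.S18233
import Groth.Agent.MagnetLib.SmoothRep

set_option autoImplicit false
universe u
open CategoryTheory MonoidalCategory CartesianMonoidalCategory AlgebraicGeometry Opposite
open Magnet

namespace Groth.Agent.S18233

/-- Let S be a scheme, M a finitely generated abelian group, N a submonoid of M, X and Y schemes over S
with actions of the diagonalizable group scheme D(M)_S, and f : X → Y a smooth equivariant
S-morphism. If the attractors X^N and Y^N are represented by S-schemes Z_X and Z_Y, and j : Z_X →
Z_Y is the S-morphism that corresponds to f^N : X^N → Y^N under the two representing bijections,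
then j is smooth. (Stated for schemes; the published statement is for algebraic spaces over S and
representability by algebraic spaces.) -/
theorem result (S : Scheme.{u}) (M : Type) [AddCommGroup M] [AddGroup.FG M]
    (N : AddSubmonoid M) {X Y : Over S} (aX : Magnet.MonAct (Magnet.AMonS S M) X)
    (aY : Magnet.MonAct (Magnet.AMonS S M) Y) (f : X ⟶ Y) (hf : Magnet.MonAct.IsEquivariant aX aY f)
    [Smooth f.left] {ZX ZY : Over S} (eX : (Magnet.attr aX N).RepresentableBy ZX) (eY : (Magnet.attr aY N).RepresentableBy ZY)
    (j : ZX ⟶ ZY) (hj : ∀ (T : Over S) (z : T ⟶ ZX),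
      eY.homEquiv (z ≫ j) = (Magnet.MonAct.eqvHom.postcomp (Magnet.subAct S M N) f hf).app (op T) (eX.homEquiv z)) :
    Smooth j.left := by
  haveI : IsAffineHom (AMonS S M).hom := inferInstance
  refine Groth.Agent.MagnetLib.SmoothRep.smooth_of_lifts j ?_ ?_
  · intro I _ _ D hD c hc z i w hw
    have h := congrArg Subtype.val ((hj _ z).symm.trans ((congrArg eY.homEquiv hw).trans (eY.homEquiv_comp _ _)))
    obtain ⟨i', φ, x', hx', hx'f⟩ := Groth.Agent.MagnetLib.SmoothRep.exists_family_stage hD hc (subAct S M N) aX aY f hf
      (eX.homEquiv z) i (eY.homEquiv w) h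
    refine ⟨i', φ, eX.homEquiv.symm x', eX.homEquiv.injective ?_, eY.homEquiv.injective ?_⟩
    · rw [eX.homEquiv_comp, Equiv.apply_symm_apply]
      exact Subtype.ext hx'
    · rw [hj, Equiv.apply_symm_apply, eY.homEquiv_comp]
      exact Subtype.ext hx'f
  · intro A _ J hJ str z w hw
    have h := congrArg Subtype.val ((hj _ z).symm.trans ((congrArg eY.homEquiv hw).trans (eY.homEquiv_comp _ _)))
    obtain ⟨l, hl, hlf⟩ := Groth.Agent.MagnetLib.Avg.exists_attr_lift_of_smooth N str J aX aY f hf hJ
      (eX.homEquiv z) (eY.homEquiv w) h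
    refine ⟨eX.homEquiv.symm l, eX.homEquiv.injective ?_, eY.homEquiv.injective ?_⟩
    · rw [eX.homEquiv_comp, Equiv.apply_symm_apply]
      exact Subtype.ext hl
    · rw [hj, Equiv.apply_symm_apply]
      exact Subtype.ext hlf

end Groth.Agent.S18233
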