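import Groth.Statements.S18238
import Mathlib.RingTheory.MvPolynomial.Ideal
import Mathlib.LinearAlgebra.SymmetricAlgebra.Basis
import Mathlib.RingTheory.Ideal.Quotient.Operations
-- import your own Groth.Agent.* helpers here

set_option autoImplicit false
universe u
open DiagMon

namespace Groth.Agent.S18238

open MvPolynomial

noncomputable section

variable {R : Type u} [CommRing R] {N : Type} [AddCommMonoid N]

/-- the ideal of the variables -/
abbrev M (ι : Type) (R : Type u) [CommRing R] : Ideal (MvPolynomial ι R) := idealOfVars ι R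

theorem endo_congr {ι : Type} (θ : MvPolynomial ι R →ₐ[R] MvPolynomial ι R)
    (h : ∀ i, θ (X i) - X i ∈ M ι R ^ 2) :
    ∀ (e : ℕ) (f : MvPolynomial ι R), f ∈ M ι R ^ e → θ f - f ∈ M ι R ^ (e + 1) := by
  have hX : ∀ i, (X i : MvPolynomial ι R) ∈ M ι R := fun i => Ideal.subset_span ⟨i, rfl⟩
  have h0 : ∀ f, θ f - f ∈ M ι R := by
    have hc : (Ideal.Quotient.mkₐ R (M ι R)).comp θ = Ideal.Quotient.mkₐ R (M ι R) := by
      refine MvPolynomial.algHom_ext fun i => ?_
      exact Ideal.Quotient.eq.2 (Ideal.pow_le_self two_ne_zero (h i))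
    exact fun f => Ideal.Quotient.eq.1 (AlgHom.congr_fun hc f)
  have h1 : ∀ f ∈ M ι R, θ f - f ∈ M ι R ^ 2 := by
    intro f hf
    induction hf using Submodule.span_induction with
    | mem x hx =>
      obtain ⟨i, rfl⟩ := hx
      exact h i
    | zero => simp
    | add x y _ _ hx hy =>
      rw [map_add, show θ x + θ y - (x + y) = θ x - x + (θ y - y) by ring]
      exact add_mem hx hy
    | smul a x hx hx' =>
      rw [smul_eq_mul, map_mul, show θ a * θ x - a * x = θ a * (θ x - x) + (θ a - a) * x by ring]
      refine add_mem (Ideal.mul_mem_left _ _ hx') ?_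
      rw [pow_two]
      exact Ideal.mul_mem_mul (h0 a) hx
  intro e
  induction e with
  | zero => intro f _; simpa using h0 f
  | succ e ih =>
    intro f hf
    rw [pow_succ'] at hf
    induction hf using Submodule.mul_induction_on' with
    | mem_mul_mem a ha b hb =>
      rw [map_mul, show θ a * θ b - a * b = (θ a - a) * θ b + a * (θ b - b) by ring]
      have hb' : θ b ∈ M ι R ^ e := by
        have := add_mem (Ideal.pow_le_pow_right (Nat.le_succ e) (ih b hb)) hb
        rwa [sub_add_cancel] at this
      refine add_mem ?_ ?_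
      · rw [show e + 1 + 1 = 2 + e by omega, pow_add]
        exact Ideal.mul_mem_mul (h1 a ha) hb'
      · rw [pow_succ' _ (e + 1)]
        exact Ideal.mul_mem_mul ha (ih b hb)
    | add x _ y _ hx hy =>
      rw [map_add, show θ x + θ y - (x + y) = θ x - x + (θ y - y) by ring]
      exact add_mem hx hy

theorem monomial_congr {ι : Type} [Nontrivial R] [Algebra.FormallySmooth R (AddMonoidAlgebra R N)]
    (σ : (ι →₀ ℕ) →+ N) (hσ : Function.Surjective σ) (h0 : ∀ c, σ c = 0 → c = 0)
    (h1 : ∀ i c, σ c = σ (Finsupp.single i 1) → c = Finsupp.single i 1) :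
    Function.Injective σ := by
  classical
  have hdeg : ∀ c : ι →₀ ℕ, c.degree < 2 → ∀ d, σ d = σ c → d = c := by
    intro c hc d hd
    rcases Nat.eq_zero_or_pos c.degree with h | h
    · obtain rfl : c = 0 := Finsupp.degree_eq_zero_iff c |>.1 h
      exact h0 d (hd.trans (map_zero σ))
    · obtain ⟨i, hi⟩ := Finsupp.ne_iff.1 (fun h' : c = 0 => by rw [h', map_zero] at h; omega)
      have hle : Finsupp.single i 1 ≤ c := Finsupp.single_le_iff.2 (Nat.one_le_iff_ne_zero.2 hi)
      have hs := congr_arg Finsupp.degree (add_tsub_cancel_of_le hle)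
      rw [map_add, Finsupp.degree_single] at hs
      obtain rfl : c = Finsupp.single i 1 := by
        conv_lhs => rw [← add_tsub_cancel_of_le hle,
          (Finsupp.degree_eq_zero_iff (c - Finsupp.single i 1)).1 (by omega), add_zero]
      exact h1 i d hd
  let mk2 := Ideal.Quotient.mkₐ R (M ι R ^ 2)
  have hwd : ∀ a b : ι →₀ ℕ, σ a = σ b → mk2 (monomial a 1) = mk2 (monomial b 1) := by
    intro a b h
    by_cases ha : a.degree < 2
    · rw [hdeg a ha b h.symm]
    · by_cases hb : b.degree < 2
      · rw [hdeg b hb a h]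
      · simp only [mk2, Ideal.Quotient.mkₐ_eq_mk, Ideal.Quotient.eq]
        exact sub_mem ((monomial_mem_pow_idealOfVars_iff 2 a one_ne_zero).2 (by omega))
          ((monomial_mem_pow_idealOfVars_iff 2 b one_ne_zero).2 (by omega))
  let χ : Multiplicative N →* MvPolynomial ι R ⧸ (M ι R ^ 2) :=
    { toFun := fun n => mk2 (monomial (Function.surjInv hσ n.toAdd) 1)
      map_one' := by
        rw [hwd _ 0 (by rw [Function.surjInv_eq hσ]; simp)]
        simp
      map_mul' := fun m n => by
        rw [← map_mul, monomial_mul, one_mul]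
        exact hwd _ _ (by simp [map_add, Function.surjInv_eq hσ]) }
  intro a b hab
  have key : ∀ n, 2 ≤ n → ∀ e, e ≤ n →
      (monomial a (1 : R) - monomial b 1 : MvPolynomial ι R) ∈ M ι R ^ e := by
    intro n hn
    have hnil : IsNilpotent (RingHom.ker
        (Ideal.Quotient.factorₐ R (Ideal.pow_le_pow_right hn : M ι R ^ n ≤ M ι R ^ 2) :
          MvPolynomial ι R ⧸ (M ι R ^ n) →+* MvPolynomial ι R ⧸ (M ι R ^ 2))) := by
      refine ⟨n, le_bot_iff.1 ?_⟩
      refine (Ideal.pow_right_mono (J := Ideal.map (Ideal.Quotient.mk (M ι R ^ n)) (M ι R ^ 2)) ?_ n).trans ?_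
      · intro x hx
        obtain ⟨y, rfl⟩ := Ideal.Quotient.mk_surjective x
        exact Ideal.mem_map_of_mem _ (Ideal.Quotient.eq_zero_iff_mem.1 hx)
      rw [← Ideal.map_pow, ← pow_mul, Ideal.map_le_iff_le_comap]
      intro x hx
      rw [Ideal.mem_comap, Submodule.mem_bot, Ideal.Quotient.eq_zero_iff_mem]
      exact Ideal.pow_le_pow_right (by omega) hx
    let ψ : AddMonoidAlgebra R N →ₐ[R] MvPolynomial ι R ⧸ (M ι R ^ n) :=
      Algebra.FormallySmooth.liftOfSurjective (AddMonoidAlgebra.lift R (MvPolynomial ι R ⧸ (M ι R ^ 2)) N χ)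
        _ (Ideal.Quotient.factor_surjective (Ideal.pow_le_pow_right hn)) hnil
    choose q hq using fun i => Ideal.Quotient.mkₐ_surjective R (M ι R ^ n)
      (ψ (AddMonoidAlgebra.single (σ (Finsupp.single i 1)) 1))
    have hcomp : ∀ c, Ideal.Quotient.mkₐ R (M ι R ^ n) (aeval q (monomial c (1 : R))) =
        ψ (AddMonoidAlgebra.single (σ c) 1) := by
      intro c
      induction c using Finsupp.induction_linear with
      | zero =>
        simp only [map_zero, monomial_zero', map_one]
        exact (map_one ψ).symm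
      | add x y hx hy =>
        rw [show monomial (x + y) (1 : R) = monomial x 1 * monomial y 1 by simp [monomial_mul],
          map_mul, map_mul, hx, hy, ← map_mul, AddMonoidAlgebra.single_mul_single, one_mul, map_add]
      | single i k =>
        rw [← X_pow_eq_monomial (R := R), map_pow, map_pow, aeval_X, hq, ← map_pow,
          AddMonoidAlgebra.single_pow, one_pow, ← map_nsmul, Finsupp.smul_single, smul_eq_mul,
          mul_one]
    have hθ : ∀ i, aeval q (X i : MvPolynomial ι R) - X i ∈ M ι R ^ 2 := by
      intro i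
      rw [aeval_X, ← Ideal.Quotient.eq]
      have h2 := congr_arg (Ideal.Quotient.factorₐ R (Ideal.pow_le_pow_right hn : M ι R ^ n ≤ _)) (hq i)
      refine h2.trans ((Algebra.FormallySmooth.liftOfSurjective_apply _ _ _ _ _).trans ?_)
      rw [AddMonoidAlgebra.lift_single, one_smul]
      exact hwd _ _ (Function.surjInv_eq hσ _)
    have hzero : aeval q (monomial a (1 : R) - monomial b 1 : MvPolynomial ι R) ∈ M ι R ^ n := by
      rw [← Ideal.Quotient.eq_zero_iff_mem, ← Ideal.Quotient.mkₐ_eq_mk R, map_sub, map_sub, hcomp,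
        hcomp, hab, sub_self]
    intro e
    induction e with
    | zero => intro _; simp
    | succ e ih =>
      intro he
      have := endo_congr (aeval q) hθ e _ (ih (by omega))
      have h2 := sub_mem (Ideal.pow_le_pow_right he hzero) this
      simpa using h2
  by_contra hne
  have h := key (a.degree + 2) (by omega) (a.degree + 1) (by omega)
  rw [mem_pow_idealOfVars_iff'] at h
  simpa [coeff_monomial, Ne.symm hne] using h a (by omega)

theorem exists_gens [AddMonoid.FG N] [IsCancelAdd N] (hsharp : ∀ n : N, IsAddUnit n → n = 0) :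
    ∃ (ι : Type) (_ : Fintype ι) (σ : (ι →₀ ℕ) →+ N), Function.Surjective σ ∧
      (∀ c, σ c = 0 → c = 0) ∧ ∀ i c, σ c = σ (Finsupp.single i 1) → c = Finsupp.single i 1 := by
  classical
  obtain ⟨S, hS, hmin⟩ := AddSubmonoid.exists_minimal_closure_eq_top (M := N)
  let σ : (↥S →₀ ℕ) →+ N := Finsupp.liftAddHom (fun i => multiplesHom N (i : N))
  have hσ1 : ∀ i k, σ (Finsupp.single i k) = k • (i : N) := fun i k => by simp [σ]
  have hsurj : Function.Surjective σ := by
    rw [← AddMonoidHom.mrange_eq_top, eq_top_iff, ← hS, AddSubmonoid.closure_le]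
    exact fun x hx => ⟨Finsupp.single ⟨x, hx⟩ 1, by rw [hσ1, one_nsmul]⟩
  have hnot : ∀ i : ↥S, (i : N) ∉ AddSubmonoid.closure ((S.erase i : Finset N) : Set N) := by
    intro i hi
    have h : AddSubmonoid.closure ((S.erase i : Finset N) : Set N) = ⊤ := by
      rw [eq_top_iff, ← hS, AddSubmonoid.closure_le]
      intro x hx
      by_cases hxi : x = i
      · exact hxi ▸ hi
      · exact AddSubmonoid.subset_closure (Finset.mem_coe.2 (Finset.mem_erase.2 ⟨hxi, hx⟩))
    exact Finset.notMem_erase (i : N) S (hmin h (Finset.erase_subset _ _) i.2)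
  have hne : ∀ i : ↥S, (i : N) ≠ 0 := fun i h => hnot i (h ▸ zero_mem _)
  have hzero : ∀ c, σ c = 0 → c = 0 := by
    intro c hc
    by_contra h
    obtain ⟨i, hi⟩ := Finsupp.ne_iff.1 h
    refine hne i (hsharp _ ⟨⟨(i : N), σ (c - Finsupp.single i 1), ?_, ?_⟩, rfl⟩)
    all_goals
      have hle : Finsupp.single i 1 ≤ c := Finsupp.single_le_iff.2 (Nat.one_le_iff_ne_zero.2 hi)
      have := congr_arg σ (add_tsub_cancel_of_le hle)
      rw [map_add, hσ1, one_nsmul, hc] at this
      first
        | exact this
        | rw [add_comm]; exact this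
  refine ⟨↥S, inferInstance, σ, hsurj, hzero, fun i c hc => ?_⟩
  rw [hσ1, one_nsmul] at hc
  by_cases hi : c i = 0
  · refine absurd ((congrArg (fun x => x ∈ AddSubmonoid.closure ((S.erase (i : N) : Finset N) : Set N)) hc).mp ?_) (hnot i)
    have hc' : σ c = c.sum fun j k => k • (j : N) := rfl
    rw [hc']
    refine sum_mem fun j hj => nsmul_mem (AddSubmonoid.subset_closure ?_) _
    refine Finset.mem_coe.2 (Finset.mem_erase.2 ⟨fun h => ?_, j.2⟩)
    obtain rfl : j = i := Subtype.ext h
    exact (Finsupp.mem_support_iff.1 hj) hi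
  · have hle : Finsupp.single i 1 ≤ c := Finsupp.single_le_iff.2 (Nat.one_le_iff_ne_zero.2 hi)
    have := congr_arg σ (add_tsub_cancel_of_le hle)
    rw [map_add, hσ1, one_nsmul, hc] at this
    have h' := hzero _ (add_left_cancel (this.trans (add_zero _).symm))
    rw [← add_tsub_cancel_of_le hle, h', add_zero]

end


/-- Let R be a commutative ring and N a fine and sharp commutative monoid (finitely generated,
cancellative, and 0 its only invertible element). If the diagonalizable monoid scheme A(N)_R = Spec
R[N] is smooth over Spec R, then it is a vector bundle over Spec R: the monoid algebra R[N] is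
isomorphic as an R-algebra to the symmetric algebra of a finitely generated projective R-module
(existence of such a module and isomorphism). (Affine base; the published statement is over an
arbitrary base scheme S.) -/
theorem result (R : Type u) [CommRing R] (N : Type)
    [AddCommMonoid N] [AddMonoid.FG N] [IsCancelAdd N] (hsharp : ∀ n : N, IsAddUnit n → n = 0)
    [Algebra.Smooth R (AddMonoidAlgebra R N)] :
    ∃ (P : Type u) (_ : AddCommGroup P) (_ : Module R P), Module.Finite R P ∧ Module.Projective R P ∧
      Nonempty (AddMonoidAlgebra R N ≃ₐ[R] SymmetricAlgebra R P) := by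
  obtain ⟨ι, _, σ, hσ, h0, h1⟩ := exists_gens hsharp
  classical
  refine ⟨ι →₀ R, inferInstance, inferInstance, inferInstance, inferInstance, ⟨?_⟩⟩
  let e₀ : SymmetricAlgebra R (ι →₀ R) ≃ₐ[R] MvPolynomial ι R :=
    SymmetricAlgebra.equivMvPolynomial Finsupp.basisSingleOne
  by_cases hR : Nontrivial R
  · have hinj := monomial_congr (R := R) σ hσ h0 h1
    exact (AddMonoidAlgebra.domCongr R R (AddEquiv.ofBijective σ ⟨hinj, hσ⟩).symm).trans e₀.symm
  · haveI : Subsingleton R := not_nontrivial_iff_subsingleton.1 hR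
    haveI : Subsingleton (MvPolynomial ι R) := Module.subsingleton R _
    haveI : Subsingleton (AddMonoidAlgebra R N) := Module.subsingleton R _
    exact ((AlgEquiv.ofBijective (Algebra.ofId R (AddMonoidAlgebra R N))
        ⟨fun _ _ _ => Subsingleton.elim _ _, fun _ => ⟨0, Subsingleton.elim _ _⟩⟩).symm.trans
      (AlgEquiv.ofBijective (Algebra.ofId R (MvPolynomial ι R))
        ⟨fun _ _ _ => Subsingleton.elim _ _, fun _ => ⟨0, Subsingleton.elim _ _⟩⟩)).trans e₀.symm

end Groth.Agent.S18238
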