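import Groth.Statements.S18239
import Mathlib.RingTheory.MvPolynomial.Ideal
import Mathlib.LinearAlgebra.SymmetricAlgebra.Basis
import Mathlib.RingTheory.Ideal.Quotient.Operations
import Mathlib.RingTheory.Ideal.Cotangent
import Mathlib.Algebra.TrivSqZeroExt.Basic
import Mathlib.Data.Finsupp.PWO
import Mathlib.LinearAlgebra.StdBasis
-- import your own Groth.Agent.* helpers here

set_option autoImplicit false
universe u
open DiagMon

namespace Groth.Agent.S18239

open scoped DirectSum

noncomputable section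

section Retract

variable {R : Type u} [CommRing R] {B : Type u} [CommRing B] [Algebra R B]
  {A : Type u} [CommRing A] [Algebra R A] [Algebra B A] [IsScalarTower R B A] (ρ : A →ₐ[B] B)

/-- the augmentation ideal -/
abbrev mm : Ideal A := RingHom.ker (ρ : A →+* B)

theorem sub_mem_mm (a : A) : a - algebraMap B A (ρ a) ∈ mm ρ := by
  simp [RingHom.mem_ker]

/-- the universal derivation at the retraction -/
def dd : A →ₗ[B] (mm ρ).Cotangent :=
  ((mm ρ).toCotangent.restrictScalars B).comp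
    ({ toFun := fun a => ⟨a - algebraMap B A (ρ a), sub_mem_mm ρ a⟩
       map_add' := fun x y => Subtype.ext (by simp; abel)
       map_smul' := fun b x => Subtype.ext (by
        simp only [RingHom.id_apply, SetLike.val_smul_of_tower, map_smul, Algebra.smul_def, map_mul,
          AlgHom.commutes, Algebra.algebraMap_self_apply, mul_sub]) } : A →ₗ[B] mm ρ)

theorem dd_mem (x : A) (hx : x ∈ mm ρ) : dd ρ x = (mm ρ).toCotangent ⟨x, hx⟩ := by
  have h : ρ x = 0 := hx
  exact congrArg (mm ρ).toCotangent (Subtype.ext (by simp [h]))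

theorem dd_eq_zero {x : A} (hx : x ∈ (mm ρ) ^ 2) : dd ρ x = 0 := by
  rw [dd_mem ρ x (Ideal.pow_le_self two_ne_zero hx), Ideal.toCotangent_eq_zero]
  exact hx

theorem dd_surjective : Function.Surjective (dd ρ) := fun p => by
  obtain ⟨x, rfl⟩ := (mm ρ).toCotangent_surjective p
  exact ⟨x, dd_mem ρ _ x.2⟩

theorem dd_algebraMap (b : B) : dd ρ (algebraMap B A b) = 0 := by
  show (mm ρ).toCotangent _ = 0
  rw [Ideal.toCotangent_eq_zero]
  simp

theorem dd_mul (x y : A) : dd ρ (x * y) = ρ x • dd ρ y + ρ y • dd ρ x := by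
  rw [← map_smul, ← map_smul, ← map_add, ← sub_eq_zero, ← map_sub]
  have h : x * y - (ρ x • y + ρ y • x) =
      (x - algebraMap B A (ρ x)) * (y - algebraMap B A (ρ y)) - algebraMap B A (ρ x * ρ y) := by
    simp only [Algebra.smul_def, map_mul]; ring
  rw [h, map_sub, dd_algebraMap, sub_zero]
  exact dd_eq_zero ρ (by rw [pow_two]; exact Ideal.mul_mem_mul (sub_mem_mm ρ x) (sub_mem_mm ρ y))

theorem cotangent_smul (a : A) (p : (mm ρ).Cotangent) : a • p = ρ a • p := by
  obtain ⟨x, rfl⟩ := (mm ρ).toCotangent_surjective p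
  rw [← map_smul, ← IsScalarTower.algebraMap_smul A (ρ a), ← map_smul, Ideal.toCotangent_eq]
  simp only [SetLike.val_smul, smul_eq_mul, ← sub_mul, pow_two]
  exact Ideal.mul_mem_mul (sub_mem_mm ρ a) x.2

theorem cotangent_finite (hfg : (mm ρ).FG) : Module.Finite B (mm ρ).Cotangent := by
  haveI : Module.Finite A (mm ρ) := Module.Finite.iff_fg.2 hfg
  haveI : Module.Finite A (mm ρ).Cotangent :=
    Module.Finite.of_surjective (mm ρ).toCotangent (mm ρ).toCotangent_surjective
  obtain ⟨S, hS⟩ := (Module.Finite.fg_top : (⊤ : Submodule A (mm ρ).Cotangent).FG)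
  refine ⟨⟨S, eq_top_iff.2 fun p _ => ?_⟩⟩
  have hp : p ∈ Submodule.span A (S : Set (mm ρ).Cotangent) := hS ▸ trivial
  induction hp using Submodule.span_induction with
  | mem x hx => exact Submodule.subset_span hx
  | zero => exact zero_mem _
  | add x y _ _ hx hy => exact add_mem (hx trivial) (hy trivial)
  | smul a x _ hx => rw [cotangent_smul]; exact Submodule.smul_mem _ _ (hx trivial)

theorem cotangent_projective [Algebra.FormallySmooth R A] [Module.Finite B (mm ρ).Cotangent] :
    Module.Projective B (mm ρ).Cotangent := by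
  obtain ⟨n, π, hπ⟩ := Module.Finite.exists_fin' B (mm ρ).Cotangent
  let K : Ideal (TrivSqZeroExt B (Fin n → B)) :=
    { carrier := {c | c.fst = 0 ∧ π c.snd = 0}
      add_mem' := fun {x y} hx hy => ⟨by simp [hx.1, hy.1], by simp [hx.2, hy.2]⟩
      zero_mem' := by simp
      smul_mem' := fun a c hc => ⟨by simp [hc.1], by
        rw [smul_eq_mul, TrivSqZeroExt.snd_mul]
        simp [hc.1, hc.2]⟩ }
  have hK : IsNilpotent K := ⟨2, by
    refine (pow_two (M := Ideal (TrivSqZeroExt B (Fin n → B))) K).trans ?_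
    show K * K = ⊥
    rw [eq_bot_iff, Ideal.mul_le]
    intro x hx y hy
    rw [Submodule.mem_bot]
    exact TrivSqZeroExt.ext (by simp [hx.1]) (by simp [hx.1, hy.1])⟩
  choose l hl using fun a => hπ (dd ρ a)
  let g₀ : A → TrivSqZeroExt B (Fin n → B) := fun a =>
    TrivSqZeroExt.inl (ρ a) + TrivSqZeroExt.inr (l a)
  have hmk : ∀ c c' : TrivSqZeroExt B (Fin n → B), c.fst = c'.fst → π c.snd = π c'.snd →
      Ideal.Quotient.mk K c = Ideal.Quotient.mk K c' := fun c c' h h' =>
    Ideal.Quotient.eq.2 ⟨by simp [h], by simp [h']⟩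
  let g : A →ₐ[R] TrivSqZeroExt B (Fin n → B) ⧸ K :=
    { toFun := fun a => Ideal.Quotient.mk K (g₀ a)
      map_one' := by
        rw [← map_one (Ideal.Quotient.mk K)]
        refine hmk _ _ (by simp [g₀]) ?_
        have := dd_algebraMap ρ 1
        rw [map_one] at this
        simp [g₀, hl, this]
      map_mul' := fun x y => by
        rw [← map_mul]
        refine hmk _ _ (by simp [g₀]) ?_
        simp [g₀, hl, dd_mul]
      map_zero' := by
        rw [← map_zero (Ideal.Quotient.mk K)]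
        exact hmk _ _ (by simp [g₀]) (by simp [g₀, hl])
      map_add' := fun x y => by
        rw [← map_add]
        exact hmk _ _ (by simp [g₀]) (by simp [g₀, hl])
      commutes' := fun r => by
        rw [← Ideal.Quotient.mk_algebraMap]
        refine hmk _ _ ?_ ?_
        · simp [g₀, IsScalarTower.algebraMap_apply R B A, TrivSqZeroExt.algebraMap_eq_inl']
        · simp [g₀, hl, IsScalarTower.algebraMap_apply R B A, dd_algebraMap,
            TrivSqZeroExt.algebraMap_eq_inl'] }
  obtain ⟨f, hf⟩ := Algebra.FormallySmooth.exists_lift (A := A) K hK g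
  have hff : ∀ a, (f a).fst = ρ a ∧ π (f a).snd = dd ρ a := fun a => by
    have h := Ideal.Quotient.eq.1 (AlgHom.congr_fun hf a : Ideal.Quotient.mk K (f a) = _)
    obtain ⟨h1, h2⟩ := h
    simp [g₀, sub_eq_zero, hl] at h1 h2
    exact ⟨h1, h2⟩
  have hsq : ∀ x ∈ (mm ρ) ^ 2, (f x).snd = 0 := by
    intro x hx
    rw [pow_two] at hx
    induction hx using Submodule.mul_induction_on' with
    | mem_mul_mem a ha b hb =>
      rw [map_mul, TrivSqZeroExt.snd_mul, (hff a).1, (hff b).1]
      simp [show ρ a = 0 from ha, show ρ b = 0 from hb]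
    | add x _ y _ hx hy => simp [map_add, hx, hy]
  have hwd : ∀ x y : mm ρ, (mm ρ).toCotangent x = (mm ρ).toCotangent y →
      (f (x : A)).snd = (f (y : A)).snd := fun x y h => by
    have := hsq _ ((mm ρ).toCotangent_eq.1 h)
    rwa [map_sub, TrivSqZeroExt.snd_sub, sub_eq_zero] at this
  have hsurj := (mm ρ).toCotangent_surjective
  let si : (mm ρ).Cotangent → mm ρ := Function.surjInv hsurj
  have hsi : ∀ p, (mm ρ).toCotangent (si p) = p := Function.surjInv_eq hsurj
  let sec : (mm ρ).Cotangent →ₗ[B] (Fin n → B) :=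
    { toFun := fun p => (f ((si p : mm ρ) : A)).snd
      map_add' := fun p q => by
        rw [← TrivSqZeroExt.snd_add, ← map_add]
        refine hwd _ (si p + si q) ?_
        rw [map_add]
        simp [hsi]
      map_smul' := fun b p => by
        obtain ⟨x, rfl⟩ := hsurj p
        rw [RingHom.id_apply, hwd (si ((mm ρ).toCotangent x)) x
          (hsi _)]
        rw [hwd _ (algebraMap B A b • x) (by
          rw [hsi, map_smul, IsScalarTower.algebraMap_smul])]
        rw [SetLike.val_smul, smul_eq_mul, map_mul, TrivSqZeroExt.snd_mul, (hff _).1]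
        simp [(hff (x : A)).1, show ρ (x : A) = 0 from x.2] }
  refine Module.Projective.of_split sec π (LinearMap.ext fun p => ?_)
  show π (f _).snd = p
  rw [(hff _).2, dd_mem ρ _ (si p).2]
  exact hsi p

theorem eq_zero_of_mem_pow {P : Type u} [AddCommGroup P] [Module B P] [Module.Finite B P]
    [Module.Projective B P] (z : SymmetricAlgebra B P)
    (hz : ∀ e, z ∈ RingHom.ker (SymmetricAlgebra.algebraMapInv : SymmetricAlgebra B P →ₐ[B] B) ^ e) :
    z = 0 := by
  obtain ⟨n, π, sec, -, -, hps⟩ := Module.Finite.exists_comp_eq_id_of_projective B P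
  let e₀ := SymmetricAlgebra.equivMvPolynomial (Pi.basisFun B (Fin n))
  let j : SymmetricAlgebra B P →ₐ[B] MvPolynomial (Fin n) B :=
    SymmetricAlgebra.lift ((e₀.toLinearMap.comp (SymmetricAlgebra.ι B _)).comp sec)
  let r : MvPolynomial (Fin n) B →ₐ[B] SymmetricAlgebra B P :=
    (SymmetricAlgebra.lift ((SymmetricAlgebra.ι B P).comp π)).comp e₀.symm.toAlgHom
  have hrj : r.comp j = AlgHom.id B _ := by
    apply SymmetricAlgebra.algHom_ext
    ext p
    have := LinearMap.congr_fun hps p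
    simp at this
    simp [r, j, this]
  suffices h : j z = 0 by
    have := AlgHom.congr_fun hrj z
    simpa [h] using this.symm
  let I := RingHom.ker (SymmetricAlgebra.algebraMapInv : SymmetricAlgebra B P →ₐ[B] B)
  have hI : I.map (j : SymmetricAlgebra B P →+* MvPolynomial (Fin n) B) ≤
      MvPolynomial.idealOfVars (Fin n) B := by
    rw [Ideal.map_le_iff_le_comap]
    intro x hx
    have hg : ∀ y, j y - algebraMap B _ (SymmetricAlgebra.algebraMapInv y) ∈
        MvPolynomial.idealOfVars (Fin n) B := by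
      intro y
      induction y using SymmetricAlgebra.induction with
      | algebraMap b => simp
      | ι p =>
        rw [SymmetricAlgebra.algebraMapInv_ι, map_zero, sub_zero]
        simp only [j, SymmetricAlgebra.lift_ι_apply, LinearMap.comp_apply]
        rw [← (Pi.basisFun B (Fin n)).sum_repr (sec p)]
        simp only [map_sum, map_smul]
        refine sum_mem fun i _ => Submodule.smul_of_tower_mem _ _ ?_
        show e₀ _ ∈ _
        rw [SymmetricAlgebra.equivMvPolynomial_ι_apply]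
        exact Ideal.subset_span ⟨i, rfl⟩
      | mul a b ha hb =>
        rw [map_mul, map_mul, map_mul, show j a * j b -
          algebraMap B (MvPolynomial (Fin n) B) (SymmetricAlgebra.algebraMapInv a) *
            algebraMap B (MvPolynomial (Fin n) B) (SymmetricAlgebra.algebraMapInv b) =
          (j a - algebraMap B _ (SymmetricAlgebra.algebraMapInv a)) * j b +
            algebraMap B _ (SymmetricAlgebra.algebraMapInv a) *
              (j b - algebraMap B _ (SymmetricAlgebra.algebraMapInv b)) by ring]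
        exact add_mem (Ideal.mul_mem_right _ _ ha) (Ideal.mul_mem_left _ _ hb)
      | add a b ha hb =>
        rw [map_add, map_add, map_add, add_sub_add_comm]
        exact add_mem ha hb
    have := hg x
    rwa [show SymmetricAlgebra.algebraMapInv x = 0 from hx, map_zero, sub_zero] at this
  ext d
  have h : j z ∈ MvPolynomial.idealOfVars (Fin n) B ^ (d.degree + 1) :=
    Ideal.pow_right_mono hI _ ((Ideal.map_pow _ I _).le (Ideal.mem_map_of_mem _ (hz _)))
  rw [MvPolynomial.mem_pow_idealOfVars_iff'] at h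
  simpa using h d (by omega)

theorem endo_congr {S : Type u} [CommRing S] (I J : Ideal S) (θ : S →+* S ⧸ J)
    (h : ∀ z, θ z - Ideal.Quotient.mk J z ∈ (I ^ 2).map (Ideal.Quotient.mk J)) :
    ∀ (e : ℕ) (z : S), z ∈ I ^ e →
      θ z - Ideal.Quotient.mk J z ∈ (I ^ (e + 1)).map (Ideal.Quotient.mk J) := by
  intro e
  induction e with
  | zero => intro z _; exact Ideal.map_mono (Ideal.pow_le_pow_right one_le_two) (h z)
  | succ e ih =>
    intro z hz
    rw [pow_succ'] at hz
    induction hz using Submodule.mul_induction_on' with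
    | mem_mul_mem a ha b hb =>
      have hb' : θ b ∈ (I ^ e).map (Ideal.Quotient.mk J) := by
        have := add_mem (Ideal.map_mono (Ideal.pow_le_pow_right (Nat.le_succ e)) (ih b hb))
          (Ideal.mem_map_of_mem (Ideal.Quotient.mk J) hb)
        rwa [sub_add_cancel] at this
      rw [map_mul, map_mul, show θ a * θ b - Ideal.Quotient.mk J a * Ideal.Quotient.mk J b =
        (θ a - Ideal.Quotient.mk J a) * θ b + Ideal.Quotient.mk J a * (θ b - Ideal.Quotient.mk J b) by
          ring]
      refine add_mem ?_ ?_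
      · rw [show e + 1 + 1 = 2 + e by omega, pow_add, Ideal.map_mul]
        exact Ideal.mul_mem_mul (h a) hb'
      · rw [pow_succ' _ (e + 1), Ideal.map_mul]
        exact Ideal.mul_mem_mul (Ideal.mem_map_of_mem _ ha) (ih b hb)
    | add x _ y _ hx hy =>
      rw [map_add, map_add, add_sub_add_comm]
      exact add_mem hx hy

theorem lift_injective [Algebra.FormallySmooth R A] [Module.Finite B (mm ρ).Cotangent]
    [Module.Projective B (mm ρ).Cotangent] (s : (mm ρ).Cotangent →ₗ[B] A)
    (hs : ∀ p, ρ (s p) = 0 ∧ dd ρ (s p) = p) :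
    Function.Injective (SymmetricAlgebra.lift s) := by
  rw [injective_iff_map_eq_zero]
  intro z hz
  apply eq_zero_of_mem_pow
  let I := RingHom.ker
    (SymmetricAlgebra.algebraMapInv : SymmetricAlgebra B (mm ρ).Cotangent →ₐ[B] B)
  let mk2 := Ideal.Quotient.mk (I ^ 2)
  let χ₀ : A → SymmetricAlgebra B (mm ρ).Cotangent := fun a =>
    algebraMap B _ (ρ a) + SymmetricAlgebra.ι B _ (dd ρ a)
  have hι : ∀ p, SymmetricAlgebra.ι B (mm ρ).Cotangent p ∈ I := fun p =>
    SymmetricAlgebra.algebraMapInv_ι p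
  let χ : A →ₐ[R] SymmetricAlgebra B (mm ρ).Cotangent ⧸ (I ^ 2) :=
    { toFun := fun a => mk2 (χ₀ a)
      map_one' := by
        have h := dd_algebraMap ρ 1
        rw [map_one] at h
        simp [χ₀, mk2, h]
      map_mul' := fun x y => by
        rw [← map_mul, Ideal.Quotient.eq]
        simp only [χ₀, map_mul, dd_mul, map_add, map_smul, Algebra.smul_def]
        ring_nf
        refine neg_mem ?_
        rw [pow_two]
        exact Ideal.mul_mem_mul (hι _) (hι _)
      map_zero' := by simp [χ₀, mk2]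
      map_add' := fun x y => by simp [χ₀, mk2]; abel
      commutes' := fun r => by
        rw [← Ideal.Quotient.mk_algebraMap]
        simp [χ₀, mk2, IsScalarTower.algebraMap_apply R B A, dd_algebraMap,
          IsScalarTower.algebraMap_apply R B (SymmetricAlgebra B (mm ρ).Cotangent)] }
  have hzn : ∀ n, 2 ≤ n → ∀ e, e ≤ n → z ∈ I ^ e := by
    intro n hn
    have hle : I ^ n ≤ I ^ 2 := Ideal.pow_le_pow_right hn
    have hnil : IsNilpotent (RingHom.ker ((Ideal.Quotient.factorₐ R hle :
        SymmetricAlgebra B (mm ρ).Cotangent ⧸ (I ^ n) →ₐ[R]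
          SymmetricAlgebra B (mm ρ).Cotangent ⧸ (I ^ 2)) :
        SymmetricAlgebra B (mm ρ).Cotangent ⧸ (I ^ n) →+* SymmetricAlgebra B (mm ρ).Cotangent ⧸ (I ^ 2))) := by
      refine ⟨n, le_bot_iff.1 ?_⟩
      refine (Ideal.pow_right_mono (J := Ideal.map (Ideal.Quotient.mk (I ^ n)) (I ^ 2)) ?_ n).trans ?_
      · intro x hx
        obtain ⟨y, rfl⟩ := Ideal.Quotient.mk_surjective x
        exact Ideal.mem_map_of_mem _ (Ideal.Quotient.eq_zero_iff_mem.1 hx)
      rw [← Ideal.map_pow, ← pow_mul, Ideal.map_le_iff_le_comap]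
      intro x hx
      rw [Ideal.mem_comap, Submodule.mem_bot, Ideal.Quotient.eq_zero_iff_mem]
      exact Ideal.pow_le_pow_right (by omega) hx
    let ψ := Algebra.FormallySmooth.liftOfSurjective χ (Ideal.Quotient.factorₐ R hle)
      (Ideal.Quotient.factor_surjective hle) hnil
    let θ : SymmetricAlgebra B (mm ρ).Cotangent →+*
        SymmetricAlgebra B (mm ρ).Cotangent ⧸ (I ^ n) :=
      (ψ : A →+* _).comp
        (SymmetricAlgebra.lift s : SymmetricAlgebra B (mm ρ).Cotangent →+* A)
    have hχ : ∀ w, χ (SymmetricAlgebra.lift s w) = mk2 w := by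
      intro w
      induction w using SymmetricAlgebra.induction with
      | algebraMap b =>
        show mk2 (χ₀ _) = _
        simp [χ₀, dd_algebraMap]
      | ι p =>
        show mk2 (χ₀ _) = _
        simp [χ₀, (hs p).1, (hs p).2]
      | mul a b ha hb => simp [map_mul, ha, hb]
      | add a b ha hb => simp [map_add, ha, hb]
    have hθ : ∀ w, θ w - Ideal.Quotient.mk (I ^ n) w ∈ (I ^ 2).map (Ideal.Quotient.mk (I ^ n)) := by
      intro w
      obtain ⟨y, hy⟩ := Ideal.Quotient.mk_surjective (θ w)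
      rw [← hy, ← map_sub]
      refine Ideal.mem_map_of_mem _ ?_
      rw [← Ideal.Quotient.eq]
      have h2 := congr_arg (Ideal.Quotient.factorₐ R hle) hy
      exact h2.trans ((Algebra.FormallySmooth.liftOfSurjective_apply _ _ _ _ _).trans (hχ w))
    have hθz : θ z = 0 := by simp [θ, hz]
    intro e
    induction e with
    | zero => intro _; simp
    | succ e ih =>
      intro he
      have h := endo_congr I (I ^ n) θ hθ e z (ih (by omega))
      rw [hθz, zero_sub, Ideal.neg_mem_iff] at h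
      have h2 : z ∈ ((I ^ (e + 1)).map (Ideal.Quotient.mk (I ^ n))).comap (Ideal.Quotient.mk (I ^ n)) := h
      rw [Ideal.comap_map_of_surjective _ Ideal.Quotient.mk_surjective, ← RingHom.ker_eq_comap_bot,
        Ideal.mk_ker, sup_eq_left.2 (Ideal.pow_le_pow_right he)] at h2
      exact h2
  exact fun e => hzn (e + 2) (by omega) e (by omega)

end Retract

section Monoid

variable {N : Type} [AddCommMonoid N] [IsCancelAdd N]

theorem add_eq_zero (hsharp : ∀ n : N, IsAddUnit n → n = 0) {a b : N} (h : a + b = 0) :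
    a = 0 ∧ b = 0 :=
  ⟨hsharp a ⟨⟨a, b, h, by rw [add_comm]; exact h⟩, rfl⟩,
    hsharp b ⟨⟨b, a, by rw [add_comm]; exact h, h⟩, rfl⟩⟩

theorem wf_pred [AddMonoid.FG N] (hsharp : ∀ n : N, IsAddUnit n → n = 0) :
    WellFounded (fun a d : N => ∃ b, b ≠ 0 ∧ a + b = d) := by
  classical
  rw [wellFounded_iff_isEmpty_descending_chain]
  refine ⟨fun ⟨f, hf⟩ => ?_⟩
  obtain ⟨S, hS⟩ := (AddMonoid.FG.fg_top : (⊤ : AddSubmonoid N).FG)
  let σ : (↥S →₀ ℕ) →+ N := Finsupp.liftAddHom (fun i => multiplesHom N (i : N))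
  have hsurj : Function.Surjective σ := by
    rw [← AddMonoidHom.mrange_eq_top, eq_top_iff, ← hS, AddSubmonoid.closure_le]
    exact fun x hx => ⟨Finsupp.single ⟨x, hx⟩ 1, by simp [σ]⟩
  choose c hc using fun k => hsurj (f k)
  obtain ⟨i, j, hij, hle⟩ := wellQuasiOrdered_le c
  have hch : ∀ k, ∃ b, b ≠ 0 ∧ f (i + k + 1) + b = f i := by
    intro k
    induction k with
    | zero => exact hf i
    | succ k ih =>
      obtain ⟨b, hb, hb'⟩ := ih
      obtain ⟨b₂, hb₂, hb₂'⟩ := hf (i + k + 1)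
      refine ⟨b₂ + b, fun h => hb (add_eq_zero hsharp h).2, ?_⟩
      rw [show i + (k + 1) + 1 = i + k + 1 + 1 by omega, ← add_assoc, hb₂', hb']
  obtain ⟨k, rfl⟩ : ∃ k, j = i + k + 1 := ⟨j - i - 1, by omega⟩
  obtain ⟨b, hb, hb'⟩ := hch k
  have h := congr_arg σ (add_tsub_cancel_of_le hle)
  rw [map_add, hc, hc, ← hb', add_assoc] at h
  exact hb (add_eq_zero hsharp (add_eq_left.1 h)).1

end Monoid

section Graded

variable {R : Type u} [CommRing R] {A : Type u} [CommRing A] [Algebra R A] {N : Type}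
  [AddCommMonoid N] [DecidableEq N] [IsCancelAdd N] (hsharp : ∀ n : N, IsAddUnit n → n = 0)
  (𝒜 : N → Submodule R A) [GradedAlgebra 𝒜]

omit [IsCancelAdd N] in
/-- the component in degree `d`, linear over the degree zero part -/
def pd (d : N) : A →ₗ[𝒜 0] A where
  toFun := GradedRing.proj 𝒜 d
  map_add' := map_add _
  map_smul' b x := by
    simp only [Algebra.smul_def, SetLike.GradeZero.algebraMap_apply, RingHom.id_apply,
      GradedRing.proj_apply]
    exact DirectSum.coe_decompose_mul_of_left_mem_zero 𝒜 b.2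

omit [IsCancelAdd N] in
theorem pd_mem (d : N) (x : A) : pd 𝒜 d x ∈ 𝒜 d := (DirectSum.decompose 𝒜 x d).2

omit [IsCancelAdd N] in
theorem pd_same {d : N} {x : A} (hx : x ∈ 𝒜 d) : pd 𝒜 d x = x :=
  DirectSum.decompose_of_mem_same 𝒜 hx

omit [IsCancelAdd N] in
theorem pd_ne {d e : N} {x : A} (hx : x ∈ 𝒜 d) (h : d ≠ e) : pd 𝒜 e x = 0 :=
  DirectSum.decompose_of_mem_ne 𝒜 hx h

omit [IsCancelAdd N] in
theorem sum_pd (x : A) : ∃ s : Finset N, x = ∑ d ∈ s, pd 𝒜 d x := by
  classical
  exact ⟨_, (DirectSum.sum_support_decompose 𝒜 x).symm⟩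

include hsharp in
theorem pd_zero_mul (x y : A) : pd 𝒜 0 (x * y) = pd 𝒜 0 x * pd 𝒜 0 y := by
  classical
  induction x using DirectSum.Decomposition.inductionOn 𝒜 with
  | zero => simp
  | @homogeneous i m =>
    induction y using DirectSum.Decomposition.inductionOn 𝒜 with
    | zero => simp
    | @homogeneous j n =>
      have hm := SetLike.mul_mem_graded m.2 n.2
      by_cases h : i + j = 0
      · obtain ⟨rfl, rfl⟩ := add_eq_zero hsharp h
        rw [pd_same 𝒜 m.2, pd_same 𝒜 n.2]
        rw [add_zero] at hm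
        exact pd_same 𝒜 hm
      · rw [pd_ne 𝒜 hm h]
        by_cases hi : i = 0
        · subst hi
          rw [pd_ne 𝒜 n.2 (fun hj => h (by rw [zero_add, hj])), mul_zero]
        · rw [pd_ne 𝒜 m.2 hi, zero_mul]
    | add a b ha hb => simp only [mul_add, map_add, ha, hb]
  | add a b ha hb => simp only [add_mul, map_add, ha, hb]

/-- the retraction onto the degree zero part -/
def rho : A →ₐ[𝒜 0] 𝒜 0 where
  toFun x := ⟨pd 𝒜 0 x, pd_mem 𝒜 0 x⟩
  map_one' := Subtype.ext (pd_same 𝒜 SetLike.GradedOne.one_mem)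
  map_mul' x y := Subtype.ext (pd_zero_mul hsharp 𝒜 x y)
  map_zero' := Subtype.ext (map_zero _)
  map_add' x y := Subtype.ext (map_add _ _ _)
  commutes' b := Subtype.ext (pd_same 𝒜 b.2)

theorem mem_mm_iff (x : A) : x ∈ mm (rho hsharp 𝒜) ↔ pd 𝒜 0 x = 0 :=
  ⟨fun h => congr_arg Subtype.val (show rho hsharp 𝒜 x = 0 from h),
    fun h => show rho hsharp 𝒜 x = 0 from Subtype.ext h⟩

theorem homog_mem_mm {d : N} (hd : d ≠ 0) {x : A} (hx : x ∈ 𝒜 d) : x ∈ mm (rho hsharp 𝒜) :=
  (mem_mm_iff hsharp 𝒜 x).2 (pd_ne 𝒜 hx hd)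

theorem pd_mem_mm (d : N) {x : A} (hx : x ∈ mm (rho hsharp 𝒜)) :
    pd 𝒜 d x ∈ mm (rho hsharp 𝒜) := by
  by_cases hd : d = 0
  · subst hd
    rw [(mem_mm_iff hsharp 𝒜 x).1 hx]
    exact zero_mem _
  · exact homog_mem_mm hsharp 𝒜 hd (pd_mem 𝒜 d x)

theorem pd_sq (d : N) {x : A} (hx : x ∈ mm (rho hsharp 𝒜) ^ 2) :
    pd 𝒜 d x ∈ mm (rho hsharp 𝒜) ^ 2 := by
  classical
  rw [pow_two] at hx ⊢
  induction hx using Submodule.mul_induction_on' with
  | mem_mul_mem a ha b hb =>
    obtain ⟨s, hs⟩ := sum_pd 𝒜 a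
    obtain ⟨t, ht⟩ := sum_pd 𝒜 b
    rw [hs, ht, Finset.sum_mul_sum, map_sum]
    refine sum_mem fun i _ => ?_
    rw [map_sum]
    refine sum_mem fun j _ => ?_
    have hm := SetLike.mul_mem_graded (pd_mem 𝒜 i a) (pd_mem 𝒜 j b)
    by_cases h : i + j = d
    · subst h
      rw [pd_same 𝒜 hm]
      exact Ideal.mul_mem_mul (pd_mem_mm hsharp 𝒜 i ha) (pd_mem_mm hsharp 𝒜 j hb)
    · rw [pd_ne 𝒜 hm h]
      exact zero_mem _
  | add x _ y _ hx hy => rw [map_add]; exact add_mem hx hy

theorem exists_degrees [Algebra.FiniteType R A] :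
    ∃ D : Finset N, 0 ∉ D ∧ (mm (rho hsharp 𝒜)).FG ∧
      ∀ d ∉ D, ∀ x ∈ mm (rho hsharp 𝒜), pd 𝒜 d x ∈ mm (rho hsharp 𝒜) ^ 2 := by
  classical
  obtain ⟨S, hS⟩ := (Algebra.FiniteType.out : (⊤ : Subalgebra R A).FG)
  let D : Finset N := (S.biUnion fun x => (DirectSum.decompose 𝒜 x).support).erase 0
  let G : Finset A := (D ×ˢ S).image fun q => pd 𝒜 q.1 q.2
  have hG : ∀ x ∈ G, ∃ e ∈ D, x ∈ 𝒜 e := fun x hx => by
    obtain ⟨⟨e, y⟩, hq, rfl⟩ := Finset.mem_image.1 hx
    exact ⟨e, (Finset.mem_product.1 hq).1, pd_mem 𝒜 e y⟩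
  have hspan : mm (rho hsharp 𝒜) = Ideal.span (G : Set A) := by
    refine le_antisymm (fun x hx => ?_) (Ideal.span_le.2 fun x hx => ?_)
    · have key : ∀ a, a - algebraMap (𝒜 0) A (rho hsharp 𝒜 a) ∈ Ideal.span (G : Set A) := by
        intro a
        have ha : a ∈ Algebra.adjoin R (S : Set A) := hS ▸ trivial
        induction ha using Algebra.adjoin_induction with
        | mem y hy =>
          show y - pd 𝒜 0 y ∈ _
          have h : y - pd 𝒜 0 y = ∑ d ∈ (DirectSum.decompose 𝒜 y).support.erase 0, pd 𝒜 d y := by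
            rw [sub_eq_iff_eq_add']
            have h := DirectSum.sum_support_decompose 𝒜 y
            by_cases h0 : 0 ∈ (DirectSum.decompose 𝒜 y).support
            · exact h.symm.trans (Finset.add_sum_erase _ _ h0).symm
            · rw [Finset.erase_eq_of_notMem h0]
              have : pd 𝒜 0 y = 0 := by
                show ((DirectSum.decompose 𝒜 y 0 : 𝒜 0) : A) = 0
                rw [DFinsupp.notMem_support_iff.1 h0]; rfl
              rw [this, zero_add]
              exact h.symm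
          rw [h]
          refine sum_mem fun d hd => Ideal.subset_span ?_
          obtain ⟨hd0, hd⟩ := Finset.mem_erase.1 hd
          exact Finset.mem_image.2 ⟨(d, y), Finset.mem_product.2
            ⟨Finset.mem_erase.2 ⟨hd0, Finset.mem_biUnion.2 ⟨y, hy, hd⟩⟩, hy⟩, rfl⟩
        | algebraMap r =>
          show _ - pd 𝒜 0 _ ∈ _
          rw [pd_same 𝒜 (SetLike.algebraMap_mem_graded 𝒜 r), sub_self]
          exact zero_mem _
        | add p q _ _ hp hq =>
          rw [map_add, map_add, add_sub_add_comm]; exact add_mem hp hq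
        | mul p q _ _ hp hq =>
          rw [map_mul, map_mul, show p * q - algebraMap (𝒜 0) A (rho hsharp 𝒜 p) *
            algebraMap (𝒜 0) A (rho hsharp 𝒜 q) = (p - algebraMap (𝒜 0) A (rho hsharp 𝒜 p)) * q +
              algebraMap (𝒜 0) A (rho hsharp 𝒜 p) * (q - algebraMap (𝒜 0) A (rho hsharp 𝒜 q)) by ring]
          exact add_mem (Ideal.mul_mem_right _ _ hp) (Ideal.mul_mem_left _ _ hq)
      have := key x
      rwa [show rho hsharp 𝒜 x = 0 from hx, map_zero, sub_zero] at this
    · obtain ⟨e, he, hxe⟩ := hG x hx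
      exact homog_mem_mm hsharp 𝒜 (Finset.mem_erase.1 he).1 hxe
  refine ⟨D, Finset.notMem_erase 0 _, hspan ▸ ⟨G, rfl⟩, fun d hd x hx => ?_⟩
  rw [hspan] at hx
  induction hx using Submodule.span_induction with
  | mem x hx =>
    obtain ⟨e, he, hxe⟩ := hG x hx
    have hne : e ≠ d := fun h => hd (h ▸ he)
    rw [pd_ne 𝒜 hxe hne]
    exact zero_mem _
  | zero => simp
  | add x y _ _ hx hy => rw [map_add]; exact add_mem hx hy
  | smul a x hx' hx =>
    obtain ⟨s, hs⟩ := sum_pd 𝒜 a
    have hxm : x ∈ mm (rho hsharp 𝒜) := hspan ▸ hx'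
    rw [smul_eq_mul, hs, Finset.sum_mul, map_sum]
    refine sum_mem fun i _ => ?_
    by_cases hi : i = 0
    · subst hi
      have h := (pd 𝒜 d).map_smul (⟨pd 𝒜 0 a, pd_mem 𝒜 0 a⟩ : 𝒜 0) x
      rw [Algebra.smul_def, Algebra.smul_def] at h
      exact (show pd 𝒜 d (pd 𝒜 0 a * x) = pd 𝒜 0 a * pd 𝒜 d x from h) ▸ Ideal.mul_mem_left _ _ hx
    · refine pd_sq hsharp 𝒜 d ?_
      rw [pow_two]
      exact Ideal.mul_mem_mul (homog_mem_mm hsharp 𝒜 hi (pd_mem 𝒜 i a)) hxm

end Graded

end


/-- Let R be a commutative ring, N a fine and sharp commutative monoid (finitely generated,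
cancellative, and 0 its only invertible element) and A a commutative R-algebra graded by N which is
smooth over R. Then A is isomorphic, as an algebra over its degree-zero part A_0, to the symmetric
algebra of a finitely generated projective A_0-module; that is, Spec A → Spec A_0 is a vector bundle
whose zero section is the closed subscheme Spec A_0 cut out by the elements of non-zero degree.
(This is the affine, graded form of the statement that for a smooth S-scheme X with a
Zariski-locally linearizable action of a diagonalizable group D(M)_S and a finitely generated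
submonoid N of M the map from the attractor X^N to X^{N*} is a vector bundle: here the base is
affine, N* = 0, and X = Spec A equals its own attractor X^N, an N-grading of A being an action of
the monoid scheme of N; the fixed-point scheme X^0 is Spec A_0.) -/
theorem result (R : Type u) [CommRing R] (A : Type u)
    [CommRing A] [Algebra R A] (N : Type) [AddCommMonoid N] [DecidableEq N] [AddMonoid.FG N] [IsCancelAdd N]
    (hsharp : ∀ n : N, IsAddUnit n → n = 0) (𝒜 : N → Submodule R A) [GradedAlgebra 𝒜]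
    [Algebra.Smooth R A] :
    ∃ (P : Type u) (_ : AddCommGroup P) (_ : Module (𝒜 0) P), Module.Finite (𝒜 0) P ∧
      Module.Projective (𝒜 0) P ∧ Nonempty (A ≃ₐ[𝒜 0] SymmetricAlgebra (𝒜 0) P) := by
  classical
  let ρ := rho hsharp 𝒜
  haveI : IsScalarTower R (𝒜 0) A := IsScalarTower.of_algebraMap_eq fun r => rfl
  obtain ⟨D, hD0, hfg, hD⟩ := exists_degrees hsharp 𝒜
  haveI : Module.Finite (𝒜 0) (mm ρ).Cotangent := cotangent_finite ρ hfg
  haveI : Module.Projective (𝒜 0) (mm ρ).Cotangent := cotangent_projective (R := R) ρ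
  obtain ⟨s₀, hs₀⟩ := Module.projective_lifting_property (dd ρ) LinearMap.id (dd_surjective ρ)
  have hs₀' : ∀ p, dd ρ (s₀ p) = p := LinearMap.congr_fun hs₀
  have hm0 : ∀ x, ∀ d, d ≠ 0 → ρ (pd 𝒜 d x) = 0 := fun x d hd =>
    homog_mem_mm hsharp 𝒜 hd (pd_mem 𝒜 d x)
  have hdd : ∀ a, dd ρ a = dd ρ (a - algebraMap (𝒜 0) A (ρ a)) := fun a => by
    rw [map_sub, dd_algebraMap, sub_zero]
  -- components of representatives
  have hpd : ∀ d, d ≠ 0 → ∀ a b : A, dd ρ a = dd ρ b → dd ρ (pd 𝒜 d a) = dd ρ (pd 𝒜 d b) := by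
    intro d hd a b hab
    rw [← sub_eq_zero, ← map_sub, ← map_sub]
    have hc : a - b - algebraMap (𝒜 0) A (ρ (a - b)) ∈ mm ρ ^ 2 := by
      have h0 : dd ρ (a - b - algebraMap (𝒜 0) A (ρ (a - b))) = 0 := by
        rw [← hdd, map_sub, hab, sub_self]
      rwa [dd_mem ρ _ (sub_mem_mm ρ _), Ideal.toCotangent_eq_zero] at h0
    have h2 := dd_eq_zero ρ (pd_sq hsharp 𝒜 d hc)
    rwa [map_sub, show pd 𝒜 d (algebraMap (𝒜 0) A (ρ (a - b))) = 0 from
      pd_ne 𝒜 (ρ (a - b)).2 (Ne.symm hd), sub_zero] at h2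
  let T : N → (A →ₗ[𝒜 0] A) := fun d => (((pd 𝒜 d).comp s₀).comp (dd ρ)).comp (pd 𝒜 d)
  let s : (mm ρ).Cotangent →ₗ[𝒜 0] A := (∑ d ∈ D, T d).comp s₀
  have hT : ∀ d, d ≠ 0 → ∀ a, dd ρ (T d a) = dd ρ (pd 𝒜 d a) := fun d hd a =>
    (hpd d hd _ (pd 𝒜 d a) (hs₀' _)).trans (by rw [pd_same 𝒜 (pd_mem 𝒜 d a)])
  have hsum : ∀ a, dd ρ (∑ d ∈ D, pd 𝒜 d a) = dd ρ a := by
    intro a
    rw [hdd a]
    set x := a - algebraMap (𝒜 0) A (ρ a) with hx
    have hxm : x ∈ mm ρ := sub_mem_mm ρ a
    have hxa : ∀ d ∈ D, pd 𝒜 d x = pd 𝒜 d a := fun d hd => by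
      rw [hx, map_sub, show pd 𝒜 d (algebraMap (𝒜 0) A (ρ a)) = 0 from
        pd_ne 𝒜 (ρ a).2 (fun h => hD0 (h ▸ hd)), sub_zero]
    rw [← Finset.sum_congr rfl hxa, eq_comm, ← sub_eq_zero, ← map_sub]
    apply dd_eq_zero
    obtain ⟨F, hF⟩ := sum_pd 𝒜 (x - ∑ d ∈ D, pd 𝒜 d x)
    rw [hF]
    refine sum_mem fun e _ => ?_
    rw [map_sub, map_sum]
    by_cases he : e ∈ D
    · rw [Finset.sum_eq_single_of_mem e he (fun b _ hb => pd_ne 𝒜 (pd_mem 𝒜 b x) hb),
        pd_same 𝒜 (pd_mem 𝒜 e x), sub_self]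
      exact zero_mem _
    · have hne : ∀ b ∈ D, b ≠ e := fun b hb h => he (h ▸ hb)
      rw [Finset.sum_eq_zero (fun b hb => pd_ne 𝒜 (pd_mem 𝒜 b x) (hne b hb)), sub_zero]
      exact hD e he x hxm
  have hs : ∀ p, ρ (s p) = 0 ∧ dd ρ (s p) = p := by
    intro p
    simp only [s, LinearMap.comp_apply, LinearMap.sum_apply, map_sum]
    refine ⟨Finset.sum_eq_zero fun d hd => hm0 _ d (fun h => hD0 (h ▸ hd)), ?_⟩
    rw [Finset.sum_congr rfl fun d hd => hT d (fun h => hD0 (h ▸ hd)) _, ← map_sum, hsum, hs₀']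
  have hsurj : Function.Surjective (SymmetricAlgebra.lift s) := by
    suffices h : ∀ d, ∀ x ∈ 𝒜 d, x ∈ (SymmetricAlgebra.lift s).range by
      intro a
      obtain ⟨F, hF⟩ := sum_pd 𝒜 a
      have : a ∈ (SymmetricAlgebra.lift s).range :=
        hF ▸ sum_mem fun d _ => h d _ (pd_mem 𝒜 d a)
      exact this
    intro d
    induction d using (wf_pred hsharp).induction with
    | _ d ih =>
    intro x hx
    by_cases hd : d = 0
    · subst hd
      exact ⟨algebraMap (𝒜 0) _ ⟨x, hx⟩, AlgHom.commutes _ _⟩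
    have hy : s (dd ρ x) ∈ 𝒜 d := by
      simp only [s, LinearMap.comp_apply, LinearMap.sum_apply]
      refine sum_mem fun e he => ?_
      by_cases hed : e = d
      · subst hed; exact pd_mem 𝒜 e _
      · have h1 := hpd e (fun h => hD0 (h ▸ he)) _ x (hs₀' (dd ρ x))
        simp only [T, LinearMap.comp_apply]
        rw [h1, pd_ne 𝒜 hx (Ne.symm hed), map_zero, map_zero, map_zero]
        exact zero_mem _
    have hw : x - s (dd ρ x) ∈ mm ρ ^ 2 := by
      have hm : x - s (dd ρ x) ∈ mm ρ := sub_mem (homog_mem_mm hsharp 𝒜 hd hx) (hs _).1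
      have h0 : dd ρ (x - s (dd ρ x)) = 0 := by rw [map_sub, (hs _).2, sub_self]
      rwa [dd_mem ρ _ hm, Ideal.toCotangent_eq_zero] at h0
    have hsq : ∀ w ∈ mm ρ ^ 2, pd 𝒜 d w ∈ (SymmetricAlgebra.lift s).range := by
      intro w hw
      rw [pow_two] at hw
      induction hw using Submodule.mul_induction_on' with
      | mem_mul_mem a ha b hb =>
        obtain ⟨F, hF⟩ := sum_pd 𝒜 a
        obtain ⟨G, hG⟩ := sum_pd 𝒜 b
        rw [hF, hG, Finset.sum_mul_sum, map_sum]
        refine sum_mem fun i _ => ?_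
        rw [map_sum]
        refine sum_mem fun j _ => ?_
        have hm := SetLike.mul_mem_graded (pd_mem 𝒜 i a) (pd_mem 𝒜 j b)
        by_cases hi : i = 0
        · subst hi
          rw [(mem_mm_iff hsharp 𝒜 a).1 ha, zero_mul, map_zero]; exact zero_mem _
        by_cases hj : j = 0
        · subst hj
          rw [(mem_mm_iff hsharp 𝒜 b).1 hb, mul_zero, map_zero]; exact zero_mem _
        by_cases h : i + j = d
        · subst h
          rw [pd_same 𝒜 hm]
          exact mul_mem (ih i ⟨j, hj, rfl⟩ _ (pd_mem 𝒜 i a))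
            (ih j ⟨i, hi, add_comm j i⟩ _ (pd_mem 𝒜 j b))
        · rw [pd_ne 𝒜 hm h]; exact zero_mem _
      | add x _ y _ hx hy => rw [map_add]; exact add_mem hx hy
    have h1 := hsq _ hw
    rw [pd_same 𝒜 (sub_mem hx hy)] at h1
    have h2 := add_mem h1 (show s (dd ρ x) ∈ (SymmetricAlgebra.lift s).range from
      ⟨SymmetricAlgebra.ι _ _ (dd ρ x), SymmetricAlgebra.lift_ι_apply s _⟩)
    rwa [sub_add_cancel] at h2
  exact ⟨(mm ρ).Cotangent, inferInstance, inferInstance, inferInstance, inferInstance,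
    ⟨(AlgEquiv.ofBijective _ ⟨lift_injective (R := R) ρ s hs, hsurj⟩).symm⟩⟩

end Groth.Agent.S18239
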