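import Groth.Statements.S18241
import Groth.Agent.MagnetLib.SmoothRep

set_option autoImplicit false
universe u
open CategoryTheory MonoidalCategory CartesianMonoidalCategory AlgebraicGeometry Opposite
open Magnet

namespace Groth.Agent.S18241

/-- Let S be a scheme, M a finitely generated abelian group, N a submonoid of M and F a face of N, and X
an S-scheme smooth over S with an action of the diagonalizable group scheme D(M)_S. If the
attractors X^N and X^F are represented by S-schemes Z_N and Z_F, and j : Z_N → Z_F is the S-morphism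
that corresponds to the canonical map X^N → X^F under the two representing bijections, then j is
smooth. (Stated for schemes; the published statement is for algebraic spaces over S.) -/
theorem result (S : Scheme.{u}) (M : Type) [AddCommGroup M] [AddGroup.FG M]
    {N F : AddSubmonoid M} (hF : Magnet.IsFace N F) {X : Over S} [Smooth X.hom]
    (a : Magnet.MonAct (Magnet.AMonS S M) X) {ZN ZF : Over S} (eN : (Magnet.attr a N).RepresentableBy ZN)
    (eF : (Magnet.attr a F).RepresentableBy ZF) (j : ZN ⟶ ZF)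
    (hj : ∀ (T : Over S) (z : T ⟶ ZN), eF.homEquiv (z ≫ j) = (Magnet.attrFace a hF).app (op T) (eN.homEquiv z)) :
    Smooth j.left := by
  refine Groth.Agent.MagnetLib.SmoothRep.smooth_of_lifts j ?_ ?_
  · intro I _ _ D hD c hc z i w hw
    have h : (AMonS.faceMap S hF ▷ c.pt) ≫ (eN.homEquiv z).1 = (AMonS S F ◁ c.π.app i) ≫ (eF.homEquiv w).1 :=
      congrArg Subtype.val ((hj _ z).symm.trans ((congrArg eF.homEquiv hw).trans (eF.homEquiv_comp _ _)))
    haveI : LocallyOfFinitePresentation (toUnit X).left := (inferInstance : LocallyOfFinitePresentation X.hom)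
    have hT : Magnet.MonAct.IsEquivariant a (Magnet.MonAct.trivial (AMonS S M) (𝟙_ (Over S))) (toUnit X) :=
      toUnit_unique _ _
    obtain ⟨i₁, φ₁, x₁, hx₁, -⟩ := Groth.Agent.MagnetLib.SmoothRep.exists_family_stage hD hc (subAct S M N) a _
      (toUnit X) hT (eN.homEquiv z) i ⟨toUnit _, toUnit_unique _ _⟩ (toUnit_unique _ _)
    let v := (AMonS S F ◁ D.map φ₁) ≫ (eF.homEquiv w).1
    let u := (AMonS.faceMap S hF ▷ D.obj i₁) ≫ x₁.1
    have hP : ∀ k, IsAffine ((D ⋙ tensorLeft (AMonS S F)).obj k).left := fun k =>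
      haveI := hD k
      Groth.Agent.MagnetLib.SmoothRep.isAffine_tensor (AMonS S F) (D.obj k)
    obtain ⟨i₂, φ₂, e⟩ := Groth.Agent.MagnetLib.SmoothRep.exists_eq_stage hP
      (Groth.Agent.MagnetLib.SmoothRep.isLimitTensorLeft (AMonS S F) hc) (toUnit X) i₁ u v (toUnit_unique _ _) (by
        change (AMonS S F ◁ c.π.app i₁) ≫ u = (AMonS S F ◁ c.π.app i₁) ≫ v
        simp only [u, v]
        rw [whisker_exchange_assoc, hx₁]
        refine h.trans ?_
        rw [← MonoidalCategory.whiskerLeft_comp_assoc, c.w])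
    replace e : (AMonS S F ◁ D.map φ₂) ≫ u = (AMonS S F ◁ D.map φ₂) ≫ v := e
    refine ⟨i₂, φ₂ ≫ φ₁, eN.homEquiv.symm ((attr a N).map (D.map φ₂).op x₁), eN.homEquiv.injective ?_,
      eF.homEquiv.injective ?_⟩
    · rw [eN.homEquiv_comp, Equiv.apply_symm_apply]
      apply Subtype.ext
      change (AMonS S N ◁ c.π.app i₂) ≫ (AMonS S N ◁ D.map φ₂) ≫ x₁.1 = _
      rw [← MonoidalCategory.whiskerLeft_comp_assoc, c.w]
      exact hx₁
    · rw [hj, Equiv.apply_symm_apply, eF.homEquiv_comp]
      apply Subtype.ext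
      change (AMonS.faceMap S hF ▷ D.obj i₂) ≫ (AMonS S N ◁ D.map φ₂) ≫ x₁.1 =
        (AMonS S F ◁ D.map (φ₂ ≫ φ₁)) ≫ (eF.homEquiv w).1
      rw [← whisker_exchange_assoc, e, D.map_comp, MonoidalCategory.whiskerLeft_comp_assoc]
  · intro A _ J hJ str z w hw
    have h := congrArg Subtype.val ((hj _ z).symm.trans ((congrArg eF.homEquiv hw).trans (eF.homEquiv_comp _ _)))
    obtain ⟨l, hl, hlf⟩ := Groth.Agent.MagnetLib.Avg.exists_attrFace_lift_of_smooth str J a hF hJ
      (eN.homEquiv z) (eF.homEquiv w) h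
    refine ⟨eN.homEquiv.symm l, eN.homEquiv.injective ?_, eF.homEquiv.injective ?_⟩
    · rw [eN.homEquiv_comp, Equiv.apply_symm_apply]
      exact Subtype.ext hl
    · rw [hj, Equiv.apply_symm_apply]
      exact Subtype.ext hlf

end Groth.Agent.S18241
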