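import Groth.Statements.S18245
import Groth.Agent.S18241
import Groth.Agent.MagnetLib.AttrShift
import Groth.Agent.MagnetLib.AttrLocal
import Groth.Agent.MagnetLib.VecBundle
import Groth.Agent.MagnetLib.RepOpenCover

set_option autoImplicit false
universe u
open CategoryTheory MonoidalCategory CartesianMonoidalCategory AlgebraicGeometry Opposite
open Magnet

namespace Groth.Agent.S18245

/-- Let S be a scheme, M a finitely generated abelian group, X a scheme smooth and locally of finite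
presentation over S with an action a of the diagonalizable group scheme D(M)_S which is Zariski
locally linearizable (every point of X lies in a D(M)_S-stable open subscheme affine over S), and N
a submonoid of M such that N is finitely generated or X is quasi-compact over S. If the attractors
X^N and X^{N*} are represented by S-schemes Z_N and Z_* and j : Z_N → Z_* is the S-morphism
corresponding to the canonical map X^N → X^{N*} under the two representing bijections, then j is a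
vector bundle, in the following Zariski-local sense: every point of Z_* has an affine open
neighbourhood W with a finitely generated projective module P over B = Γ(W, O) and an isomorphism
j⁻¹(W) ≅ Spec Sym_B(P) over W. (Stated for schemes and for the local structure only; the published
statement is for algebraic spaces over S and says that X^N → X^{N*} is a vector bundle.) -/
theorem result (S : Scheme.{u}) (M : Type) [AddCommGroup M]
    [AddGroup.FG M] {X : Over S} [LocallyOfFinitePresentation X.hom] [Smooth X.hom]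
    (a : Magnet.MonAct (Magnet.AMonS S M) X)
    (hlin : ∀ x : X.left, ∃ V : X.left.Opens, x ∈ V ∧ IsAffineHom (V.ι ≫ X.hom) ∧
      (CartesianMonoidalCategory.snd (Magnet.AMonS S M) X).left ⁻¹ᵁ V ≤ a.act.left ⁻¹ᵁ V)
    (N : AddSubmonoid M) (hN : N.FG ∨ QuasiCompact X.hom) {ZN Z0 : Over S}
    (eN : (Magnet.attr a N).RepresentableBy ZN) (e0 : (Magnet.attr a (Magnet.unitFace N)).RepresentableBy Z0)
    (j : ZN ⟶ Z0) (hj : ∀ (T : Over S) (z : T ⟶ ZN),
      e0.homEquiv (z ≫ j) = (Magnet.attrFace a (Magnet.isFace_unitFace N)).app (op T) (eN.homEquiv z))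
    (z : Z0.left) :
    ∃ (W : Z0.left.Opens) (hW : IsAffineOpen W), z ∈ W ∧
      ∃ (P : Type u) (_ : AddCommGroup P) (_ : Module Γ(Z0.left, W) P),
        Module.Finite Γ(Z0.left, W) P ∧ Module.Projective Γ(Z0.left, W) P ∧
        ∃ e : (↑(j.left ⁻¹ᵁ W) : Scheme.{u}) ≅ Spec (CommRingCat.of (SymmetricAlgebra Γ(Z0.left, W) P)),
          e.hom ≫ Spec.map (CommRingCat.ofHom (algebraMap Γ(Z0.left, W) (SymmetricAlgebra Γ(Z0.left, W) P))) =
            (j.left ∣_ W) ≫ hW.isoSpec.hom := by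
  classical
  let F := Magnet.unitFace N
  have hFN : Magnet.IsFace N F := Magnet.isFace_unitFace N
  have hFu : ∀ m ∈ F, m ∈ Magnet.unitFace F := fun m hm => (Groth.Agent.MagnetLib.unitFace_unitFace N).ge hm
  -- the stable affine chart
  let Φ0 : (Magnet.attr a F).obj (op Z0) := e0.homEquiv (𝟙 Z0)
  let ev0 : Z0 ⟶ X := (Magnet.attrToX a F).app (op Z0) Φ0
  obtain ⟨V, hxV, hV, hVs⟩ := hlin (ev0.left z)
  obtain ⟨b, hb⟩ := Groth.Agent.MagnetLib.exists_act_open a V hVs
  let Y : Over S := Over.mk (V.ι ≫ X.hom)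
  let i : Y ⟶ X := Over.homMk V.ι rfl
  haveI : IsAffineHom Y.hom := hV
  haveI : LocallyOfFinitePresentation Y.hom := inferInstanceAs (LocallyOfFinitePresentation (V.ι ≫ X.hom))
  haveI : Smooth Y.hom := inferInstanceAs (Smooth (V.ι ≫ X.hom))
  haveI : IsOpenImmersion i.left := inferInstanceAs (IsOpenImmersion V.ι)
  haveI : Mono i := (Over.forget _).mono_of_mono_map (inferInstanceAs (Mono V.ι))
  obtain ⟨S0, hS0, hzS0, -⟩ := exists_isAffineOpen_mem_and_subset (x := Z0.hom z) (U := ⊤) trivial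
  -- the face
  obtain ⟨ZF, iF, eF, hiF, -⟩ := Groth.Agent.MagnetLib.exists_attr_representableBy b F
  let PF := Magnet.MonAct.eqvHom.postcomp (Magnet.subAct S M F) i hb
  let ψ0 : ZF ⟶ Z0 := e0.homEquiv.symm (PF.app (op ZF) (eF.homEquiv (𝟙 ZF)))
  have hψ0 : ∀ (T : Over S) (w : T ⟶ ZF), e0.homEquiv (w ≫ ψ0) = PF.app (op T) (eF.homEquiv w) := fun T w => by
    rw [e0.homEquiv_comp, Equiv.apply_symm_apply]
    conv_rhs => rw [← Category.comp_id w, eF.homEquiv_comp]
    exact (ConcreteCategory.congr_hom (PF.naturality w.op) _).symm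
  haveI : IsOpenImmersion ψ0.left :=
    Groth.Agent.MagnetLib.Avg.isOpenImmersion_postcomp b a i hb eF e0 ψ0 hψ0
  have hlift : ∀ (T : Over S) (c : T ⟶ Z0), (∀ t, (c ≫ ev0).left t ∈ V) → ∃ r : T ⟶ ZF, r ≫ ψ0 = c := by
    intro T c hc
    obtain ⟨l, hl⟩ := Groth.Agent.MagnetLib.exists_lift_of_unitPt b a i hb T ((Magnet.attr a F).map c.op Φ0)
      fun t => by
        rw [Groth.Agent.MagnetLib.unitPt_eq hFu]
        change ((Magnet.attrToX a F).app (op T) ((Magnet.attr a F).map c.op Φ0)).left t ∈ Set.range V.ι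
        rw [Groth.Agent.MagnetLib.Pure.attrToX_map, Scheme.Opens.range_ι]
        exact hc t
    refine ⟨eF.homEquiv.symm l, e0.homEquiv.injective ?_⟩
    rw [hψ0, Equiv.apply_symm_apply]
    refine hl.trans ?_
    conv_rhs => rw [← Category.comp_id c]
    exact (e0.homEquiv_comp c (𝟙 Z0)).symm
  -- the neighbourhood
  let U0 : ZF.left.Opens := ZF.hom ⁻¹ᵁ S0
  haveI : IsAffineHom ZF.hom := by rw [← Over.w iF]; infer_instance
  have hU0 : IsAffineOpen U0 := hS0.preimage ZF.hom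
  let W : Z0.left.Opens := ψ0.left ''ᵁ U0
  have hW : IsAffineOpen W := hU0.image_of_isOpenImmersion ψ0.left
  have hzW : z ∈ W := by
    let T0 : Z0.left.Opens := ev0.left ⁻¹ᵁ V
    obtain ⟨r, hr⟩ := hlift (Over.mk (T0.ι ≫ Z0.hom)) (Over.homMk T0.ι rfl) fun t => by
      rw [Over.comp_left, Scheme.Hom.comp_apply]
      exact t.2
    have hr' : ψ0.left (r.left ⟨z, hxV⟩) = z :=
      (Scheme.Hom.comp_apply r.left ψ0.left _).symm.trans (congrArg (fun m => m.left ⟨z, hxV⟩) hr)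
    refine ⟨r.left ⟨z, hxV⟩, ?_, hr'⟩
    change ZF.hom (r.left ⟨z, hxV⟩) ∈ S0
    rw [← Over.w ψ0, Scheme.Hom.comp_apply, hr']
    exact hzS0
  -- the finitely generated magnet
  obtain ⟨L, hLN, hLfg, hFL, hLsurj⟩ := Groth.Agent.MagnetLib.exists_fg_magnet_local b N hS0
  obtain ⟨ew, hew⟩ := Groth.Agent.MagnetLib.exists_faceWeight hLfg hFL
  obtain ⟨ZL, iL, eL, hiL, -⟩ := Groth.Agent.MagnetLib.exists_attr_representableBy b L
  let AF := Magnet.attrFace b hFL
  let jV : ZL ⟶ ZF := eF.homEquiv.symm (AF.app (op ZL) (eL.homEquiv (𝟙 ZL)))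
  have hjV : ∀ (T : Over S) (w : T ⟶ ZL), eF.homEquiv (w ≫ jV) = AF.app (op T) (eL.homEquiv w) := fun T w => by
    rw [eF.homEquiv_comp, Equiv.apply_symm_apply]
    conv_rhs => rw [← Category.comp_id w, eL.homEquiv_comp]
    exact (ConcreteCategory.congr_hom (AF.naturality w.op) _).symm
  haveI : Smooth jV.left := Groth.Agent.S18241.result S M hFL b eL eF jV hjV
  obtain ⟨A, σ, hσ, hretr, hact⟩ := Groth.Agent.MagnetLib.exists_contraction b eL hFL hew eF jV hjV
  let PN := Magnet.attrMap b hLN ≫ Magnet.MonAct.eqvHom.postcomp (Magnet.subAct S M N) i hb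
  let ψN : ZL ⟶ ZN := eN.homEquiv.symm (PN.app (op ZL) (eL.homEquiv (𝟙 ZL)))
  have hψN : ∀ (T : Over S) (w : T ⟶ ZL), eN.homEquiv (w ≫ ψN) = PN.app (op T) (eL.homEquiv w) := fun T w => by
    rw [eN.homEquiv_comp, Equiv.apply_symm_apply]
    conv_rhs => rw [← Category.comp_id w, eL.homEquiv_comp]
    exact (ConcreteCategory.congr_hom (PN.naturality w.op) _).symm
  haveI : Mono ψN := ⟨fun {T} w w' h => eL.homEquiv.injective (Groth.Agent.MagnetLib.attrMap_injective b hLN T (by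
    have e := congrArg Subtype.val ((hψN T w).symm.trans ((congrArg eN.homEquiv h).trans (hψN T w')))
    exact Subtype.ext ((cancel_mono i).1 e)))⟩
  have hfm : AMonS.faceMap S hFN ≫ AMonS.map S (AddSubmonoid.inclusion hLN) = AMonS.faceMap S hFL := by
    rw [Groth.Agent.MagnetLib.Avg.faceMap_map hFN hFL hLN le_rfl fun n _ hn => hn]
    have e : AMonS.map S (AddSubmonoid.inclusion (le_refl F)) = 𝟙 _ :=
      Groth.Agent.MagnetLib.mFn_ext fun m => by
        rw [← Category.id_comp (AMonS.map S _), Groth.Agent.MagnetLib.mFn_map]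
        rfl
    rw [e, Category.id_comp]
  have hsq : ψN ≫ j = jV ≫ ψ0 := e0.homEquiv.injective (by
    rw [hj, hψ0]
    have h1 : eN.homEquiv ψN = PN.app (op ZL) (eL.homEquiv (𝟙 ZL)) := Equiv.apply_symm_apply _ _
    have h2 : eF.homEquiv jV = AF.app (op ZL) (eL.homEquiv (𝟙 ZL)) := Equiv.apply_symm_apply _ _
    rw [h1, h2]
    refine Subtype.ext ?_
    change (AMonS.faceMap S hFN ▷ ZL) ≫ ((AMonS.map S (AddSubmonoid.inclusion hLN) ▷ ZL) ≫ (eL.homEquiv (𝟙 ZL)).1) ≫ i =
      ((AMonS.faceMap S hFL ▷ ZL) ≫ (eL.homEquiv (𝟙 ZL)).1) ≫ i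
    rw [← hfm, MonoidalCategory.comp_whiskerRight]
    simp only [Category.assoc])
  -- the total space
  let UL : ZL.left.Opens := jV.left ⁻¹ᵁ U0
  have hUL : IsAffineOpen UL := by
    haveI : IsAffineHom ZL.hom := by rw [← Over.w iL]; infer_instance
    have e : UL = ZL.hom ⁻¹ᵁ S0 := by rw [← Over.w jV]; rfl
    rw [e]
    exact hS0.preimage ZL.hom
  have hULs : (snd (AMonS S ℕ) ZL).left ⁻¹ᵁ UL ≤ A.act.left ⁻¹ᵁ UL := fun p hp => by
    change jV.left (A.act.left p) ∈ U0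
    rw [← Scheme.Hom.comp_apply, ← Over.comp_left, hact, Over.comp_left, Scheme.Hom.comp_apply]
    exact hp
  obtain ⟨bQ, hbQ⟩ := Groth.Agent.MagnetLib.exists_act_open A UL hULs
  let Q : Over S := Over.mk (UL.ι ≫ ZL.hom)
  let Q₀ : Over S := Over.mk (U0.ι ≫ ZF.hom)
  let kL : Q ⟶ ZL := Over.homMk UL.ι rfl
  let k₀ : Q₀ ⟶ ZF := Over.homMk U0.ι rfl
  haveI : Mono kL := (Over.forget _).mono_of_mono_map (inferInstanceAs (Mono UL.ι))
  haveI : Mono k₀ := (Over.forget _).mono_of_mono_map (inferInstanceAs (Mono U0.ι))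
  let jQ : Q ⟶ Q₀ := Over.homMk (jV.left ∣_ U0) (by
    change (jV.left ∣_ U0) ≫ U0.ι ≫ ZF.hom = UL.ι ≫ ZL.hom
    rw [morphismRestrict_ι_assoc, Over.w])
  have hjQ : jQ ≫ k₀ = kL ≫ jV := Over.OverMorphism.ext (morphismRestrict_ι jV.left U0)
  have hσr : Set.range (k₀ ≫ σ).left ⊆ Set.range UL.ι := by
    rintro _ ⟨p, rfl⟩
    rw [Scheme.Opens.range_ι]
    change jV.left ((k₀ ≫ σ).left p) ∈ U0
    rw [← Scheme.Hom.comp_apply, ← Over.comp_left, Category.assoc, hσ, Category.comp_id]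
    exact p.2
  let σQ : Q₀ ⟶ Q := Over.homMk (IsOpenImmersion.lift UL.ι (k₀ ≫ σ).left hσr) (by
    change _ ≫ UL.ι ≫ ZL.hom = U0.ι ≫ ZF.hom
    rw [IsOpenImmersion.lift_fac_assoc, Over.w]
    rfl)
  have hσQk : σQ ≫ kL = k₀ ≫ σ := Over.OverMorphism.ext (IsOpenImmersion.lift_fac _ _ _)
  haveI : Smooth jQ.left := inferInstanceAs (Smooth (jV.left ∣_ U0))
  have h1 : σQ ≫ jQ = 𝟙 Q₀ := (cancel_mono k₀).1 (by
    rw [Category.assoc, hjQ, ← Category.assoc, hσQk, Category.assoc, hσ, Category.comp_id, Category.id_comp])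
  have h2 : Groth.Agent.MagnetLib.A1.retr bQ = jQ ≫ σQ := (cancel_mono kL).1 (by
    rw [Groth.Agent.MagnetLib.A1.retr_comp bQ A kL hbQ, hretr, Category.assoc, hσQk, ← Category.assoc jQ, hjQ,
      Category.assoc])
  have h3 : bQ.act ≫ jQ = snd _ _ ≫ jQ := (cancel_mono k₀).1 (by
    have hb' : bQ.act ≫ kL = (AMonS S ℕ ◁ kL) ≫ A.act := hbQ
    rw [Category.assoc, hjQ, ← Category.assoc, hb', Category.assoc, hact, ← Category.assoc, whiskerLeft_snd,
      Category.assoc, Category.assoc, hjQ])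
  haveI : IsAffine Q.left := hUL
  let ι₀ : Q₀.left ≅ Spec (CommRingCat.of Γ(Z0.left, W)) := ψ0.left.isoImage U0 ≪≫ hW.isoSpec
  obtain ⟨P, _, _, hP₁, hP₂, eQ, heQ⟩ := Groth.Agent.MagnetLib.A1.exists_symmetricAlgebra_of_contraction bQ jQ σQ
    h1 h2 h3 Γ(Z0.left, W) ι₀
  -- the preimage of the neighbourhood
  let T : Over S := Over.mk ((j.left ⁻¹ᵁ W).ι ≫ ZN.hom)
  let c : T ⟶ ZN := Over.homMk (j.left ⁻¹ᵁ W).ι rfl
  haveI : Mono c := (Over.forget _).mono_of_mono_map (inferInstanceAs (Mono (j.left ⁻¹ᵁ W).ι))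
  have hcW : ∀ t, (c ≫ j).left t ∈ W := fun t => by
    rw [Over.comp_left, Scheme.Hom.comp_apply]
    exact t.2
  have hWS : ∀ w ∈ W, Z0.hom w ∈ S0 := by
    rintro _ ⟨v, hv, rfl⟩
    change Z0.hom (ψ0.left v) ∈ S0
    rw [← Scheme.Hom.comp_apply, Over.w]
    exact hv
  have hTS : ∀ t, T.hom t ∈ S0 := fun t => by
    have h := hWS _ (hcW t)
    rwa [← Scheme.Hom.comp_apply, Over.w] at h
  have hWV : ∀ w ∈ W, ev0.left w ∈ V := by
    rintro _ ⟨v, -, rfl⟩
    have e : ψ0 ≫ ev0 = (Magnet.attrToX b F).app (op ZF) (eF.homEquiv (𝟙 ZF)) ≫ i := by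
      rw [← Groth.Agent.MagnetLib.Pure.attrToX_map]
      have h : e0.homEquiv ψ0 = (Magnet.attr a F).map ψ0.op Φ0 := by
        conv_lhs => rw [← Category.comp_id ψ0]
        exact e0.homEquiv_comp ψ0 (𝟙 Z0)
      rw [← h, show e0.homEquiv ψ0 = PF.app (op ZF) (eF.homEquiv (𝟙 ZF)) from Equiv.apply_symm_apply _ _]
      change CartesianMonoidalCategory.lift _ _ ≫ (eF.homEquiv (𝟙 ZF)).1 ≫ i = _
      exact (Category.assoc _ _ _).symm
    change ev0.left (ψ0.left v) ∈ V
    rw [← Scheme.Hom.comp_apply, ← Over.comp_left, e, Over.comp_left, Scheme.Hom.comp_apply]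
    exact (Scheme.Opens.range_ι V).le ⟨_, rfl⟩
  obtain ⟨l, hl⟩ := Groth.Agent.MagnetLib.exists_lift_of_unitPt b a i hb T (eN.homEquiv c) fun t => by
    have h : Groth.Agent.MagnetLib.Avg.unitPt N T ≫ (eN.homEquiv c).1 = (c ≫ j) ≫ ev0 := by
      rw [← Groth.Agent.MagnetLib.Pure.attrToX_map, ← e0.homEquiv_comp, Category.comp_id, hj]
      exact Category.assoc _ _ _
    rw [h, Over.comp_left, Scheme.Hom.comp_apply]
    exact (Scheme.Opens.range_ι V).ge (hWV _ (hcW t))
  obtain ⟨φL, hφL⟩ := hLsurj T hTS l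
  let s : T ⟶ ZL := eL.homEquiv.symm φL
  have hs : s ≫ ψN = c := eN.homEquiv.injective (by
    rw [hψN, Equiv.apply_symm_apply]
    refine Eq.trans ?_ hl
    exact congrArg ((Magnet.MonAct.eqvHom.postcomp (Magnet.subAct S M N) i hb).app (op T)) hφL)
  have hsU : Set.range s.left ⊆ Set.range UL.ι := by
    rintro _ ⟨t, rfl⟩
    rw [Scheme.Opens.range_ι]
    obtain ⟨v, hv, he⟩ := hcW t
    have h : ψ0.left (jV.left (s.left t)) = (c ≫ j).left t := by
      rw [← hs, Category.assoc, hsq, Over.comp_left, Over.comp_left, Scheme.Hom.comp_apply, Scheme.Hom.comp_apply]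
    change jV.left (s.left t) ∈ U0
    rw [ψ0.left.isOpenEmbedding.injective (h.trans he.symm)]
    exact hv
  let s' : T ⟶ Q := Over.homMk (IsOpenImmersion.lift UL.ι s.left hsU) (by
    change _ ≫ UL.ι ≫ ZL.hom = T.hom
    rw [IsOpenImmersion.lift_fac_assoc, Over.w])
  have hs' : s' ≫ kL = s := Over.OverMorphism.ext (IsOpenImmersion.lift_fac _ _ _)
  have hQr : Set.range (kL ≫ ψN).left ⊆ Set.range (j.left ⁻¹ᵁ W).ι := by
    rintro _ ⟨p, rfl⟩
    rw [Scheme.Opens.range_ι]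
    change j.left ((kL ≫ ψN).left p) ∈ W
    rw [← Scheme.Hom.comp_apply, ← Over.comp_left, Category.assoc, hsq, ← Category.assoc, Over.comp_left,
      Scheme.Hom.comp_apply]
    exact ⟨_, p.2, rfl⟩
  let t' : Q ⟶ T := Over.homMk (IsOpenImmersion.lift (j.left ⁻¹ᵁ W).ι (kL ≫ ψN).left hQr) (by
    change _ ≫ (j.left ⁻¹ᵁ W).ι ≫ ZN.hom = Q.hom
    rw [IsOpenImmersion.lift_fac_assoc, Over.w])
  have ht' : t' ≫ c = kL ≫ ψN := Over.OverMorphism.ext (IsOpenImmersion.lift_fac _ _ _)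
  let h : Q ≅ T := ⟨t', s', (cancel_mono kL).1 ((cancel_mono ψN).1 (by
      simp only [Category.assoc, Category.id_comp, reassoc_of% hs', hs, ht'])),
    (cancel_mono c).1 (by rw [Category.assoc, ht', ← Category.assoc, hs', hs, Category.id_comp])⟩
  refine ⟨W, hW, hzW, P, inferInstance, inferInstance, hP₁, hP₂, ((Over.forget S).mapIso h).symm ≪≫ eQ, ?_⟩
  change (s'.left ≫ eQ.hom) ≫ _ = _
  rw [Category.assoc, heQ, Iso.trans_hom, ← Category.assoc jQ.left, ← Category.assoc s'.left]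
  congr 1
  rw [← cancel_mono W.ι, morphismRestrict_ι, Category.assoc, Category.assoc, Scheme.Hom.isoImage_hom_ι]
  have e : s' ≫ jQ ≫ k₀ ≫ ψ0 = c ≫ j := by
    rw [← Category.assoc jQ, hjQ, Category.assoc, ← hsq, reassoc_of% hs', reassoc_of% hs]
  exact congrArg CommaMorphism.left e

end Groth.Agent.S18245
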