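import Groth.Statements.S18247
import Mathlib.RingTheory.Ideal.Quotient.Operations
import Mathlib.Tactic.LinearCombination
import Mathlib.Tactic.FinCases
import Mathlib.Tactic.Ring

set_option autoImplicit false
universe u
open W4c5m1nsnscurves
open Curves

namespace Groth.Agent.S18247

open MvPolynomial (X)

/-- images of the generators in the polynomial ring -/
noncomputable def inv : UGen 2 → MvPolynomial (Fin 6) ℤ
  | .a => X 0
  | .c => (X 0 + X 1 + X 2 + X 3 + X 4 - X 5) * X 3 + X 5 * X 1 - X 1 * X 3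
  | .cb => (X 0 + X 1 + X 2 + X 3 + X 4 - X 5) * X 2 + X 5 * X 4 - X 2 * X 4
  | .ci i => if i = 0 then X 1 else X 3
  | .cbi i => if i = 0 then X 2 else X 4
  | .cij i _ _ => if i = 0 then X 5 else X 0 + X 1 + X 2 + X 3 + X 4 - X 5

/-- Case n = 5: the coordinate ring of U_5 over ℤ (m = 2 indices, standing for the points 4 and 5;
generators a, c, c̄, c_4, c̄_4, c_5, c̄_5, c_{45}, c_{54} with the linear and the two quadratic
relations for the one pair of indices, and no triple) is the polynomial ring on a, c_4, c̄_4, c_5,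
c̄_5, c_{45}: the ℤ-algebra map from the polynomial ring in six variables sending the variables to
these six classes, in this order, is bijective. -/
theorem result :
    Function.Bijective (MvPolynomial.aeval (R := ℤ) (S₁ := URing ℤ 2)
      ![ugen ℤ 2 .a, ugen ℤ 2 (.ci 0), ugen ℤ 2 (.cbi 0), ugen ℤ 2 (.ci 1), ugen ℤ 2 (.cbi 1),
        ugen ℤ 2 (.cij 0 1 Fin.zero_ne_one)]) := by
  set φ := MvPolynomial.aeval (R := ℤ) (S₁ := URing ℤ 2) ![ugen ℤ 2 .a, ugen ℤ 2 (.ci 0),
    ugen ℤ 2 (.cbi 0), ugen ℤ 2 (.ci 1), ugen ℤ 2 (.cbi 1), ugen ℤ 2 (.cij 0 1 Fin.zero_ne_one)] with hφ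
  have hker : ∀ p ∈ Ideal.span (URel ℤ 2), MvPolynomial.aeval inv p = 0 := by
    intro p hp
    have : Ideal.span (URel ℤ 2) ≤ RingHom.ker (MvPolynomial.aeval (R := ℤ) inv).toRingHom := by
      rw [Ideal.span_le]
      intro q hq
      rw [SetLike.mem_coe, RingHom.mem_ker]
      simp only [URel, Set.mem_union, Set.mem_range] at hq
      rcases hq with ((⟨⟨⟨i, j⟩, hij⟩, rfl⟩ | ⟨⟨⟨i, j⟩, hij⟩, rfl⟩) | ⟨⟨⟨i, j⟩, hij⟩, rfl⟩) | ⟨⟨⟨i, j, l⟩, hij⟩, rfl⟩
      iterate 3 (fin_cases i <;> fin_cases j <;> first | (exact absurd rfl hij) | (simp [inv]; try ring))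
      · exfalso
        have hi := i.2; have hj := j.2; have hl := l.2
        simp only [ne_eq, Fin.ext_iff] at hij
        omega
    exact this hp
  set ψ : URing ℤ 2 →ₐ[ℤ] MvPolynomial (Fin 6) ℤ :=
    Ideal.Quotient.liftₐ (Ideal.span (URel ℤ 2)) (MvPolynomial.aeval inv) hker with hψ
  have hψmk : ∀ p, ψ (Ideal.Quotient.mk (Ideal.span (URel ℤ 2)) p) = MvPolynomial.aeval inv p :=
    fun p => rfl
  clear_value ψ
  have h1 : ψ.comp φ = AlgHom.id ℤ _ := by
    apply MvPolynomial.algHom_ext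
    intro i
    fin_cases i <;> simp [hφ, hψmk, ugen, inv]
  have hrel : ∀ q : MvPolynomial (UGen 2) ℤ, q ∈ URel ℤ 2 →
      Ideal.Quotient.mk (Ideal.span (URel ℤ 2)) q = 0 :=
    fun q hq => Ideal.Quotient.eq_zero_iff_mem.2 (Ideal.subset_span hq)
  have r1 := hrel _ (Or.inl (Or.inl (Or.inl ⟨⟨(0, 1), Fin.zero_ne_one⟩, rfl⟩)))
  have r2 := hrel _ (Or.inl (Or.inl (Or.inr ⟨⟨(0, 1), Fin.zero_ne_one⟩, rfl⟩)))
  have r3 := hrel _ (Or.inl (Or.inr ⟨⟨(0, 1), Fin.zero_ne_one⟩, rfl⟩))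
  simp only [map_sub, map_add, map_mul] at r1 r2 r3
  have h2 : φ.comp ψ = AlgHom.id ℤ _ := by
    apply Ideal.Quotient.algHom_ext
    apply MvPolynomial.algHom_ext
    intro g
    match g with
    | .a => simp [hφ, hψmk, inv, ugen]
    | .ci i => fin_cases i <;> simp [hφ, hψmk, inv, ugen]
    | .cbi i => fin_cases i <;> simp [hφ, hψmk, inv, ugen]
    | .c =>
      simp [hφ, hψmk, inv, ugen]
      linear_combination r2 - (Ideal.Quotient.mk (Ideal.span (URel ℤ 2)) (MvPolynomial.X (.ci 1))) * r1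
    | .cb =>
      simp [hφ, hψmk, inv, ugen]
      linear_combination r3 - (Ideal.Quotient.mk (Ideal.span (URel ℤ 2)) (MvPolynomial.X (.cbi 0))) * r1
    | .cij i j h =>
      fin_cases i <;> fin_cases j <;> simp at h ⊢
      · simp [hφ, hψmk, inv, ugen]
      · simp [hφ, hψmk, inv, ugen]
        linear_combination -r1
  exact ⟨Function.LeftInverse.injective (g := ψ) (DFunLike.congr_fun h1),
    Function.RightInverse.surjective (g := ψ) (DFunLike.congr_fun h2)⟩

end Groth.Agent.S18247
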