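import Groth.Statements.S18248
import Groth.Agent.UCurves.Step
import Mathlib.Algebra.TrivSqZeroExt.Basic
import Mathlib.RingTheory.Ideal.Cotangent
import Mathlib.Algebra.BigOperators.Fin
import Mathlib.Tactic.Linarith

set_option autoImplicit false
universe u
open W4c5m1nsnscurves
open Curves

namespace Groth.Agent.S18248

open Groth.Agent.UCurves

/-- index set of the free generators -/
abbrev Idx (m : ℕ) : Type := Unit ⊕ Fin m ⊕ Fin m ⊕ {q : Fin m × Fin m // q.1 < q.2}

lemma card_idx (m : ℕ) : Fintype.card (Idx m) = (m + 2) * (m + 1) / 2 := by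
  let e : {q : Fin m × Fin m // q.1 < q.2} ≃ Σ j : Fin m, Fin j.val :=
    { toFun := fun q => ⟨q.1.2, ⟨q.1.1, q.2⟩⟩
      invFun := fun s => ⟨(⟨s.2, s.2.2.trans s.1.2⟩, s.1), s.2.2⟩
      left_inv := fun q => rfl
      right_inv := fun s => rfl }
  rw [Fintype.card_sum, Fintype.card_sum, Fintype.card_sum, Fintype.card_unit, Fintype.card_fin,
    Fintype.card_congr e, Fintype.card_sigma]
  simp only [Fintype.card_fin]
  rw [Fin.sum_univ_eq_sum_range (fun j => j) m, eq_comm, Nat.div_eq_iff two_pos]
  have h := Finset.sum_range_id_mul_two m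
  rcases m with _ | m
  · simp
  simp only [Nat.add_sub_cancel] at h
  have h' : (m + 1 + 2) * (m + 1 + 1) = (m + 1) * m + 4 * (m + 1) + 2 := by ring
  omega

lemma cotangent_finrank (k : Type u) [Field k] (m : ℕ) (hm : 2 ≤ m) :
    Module.finrank k (uorigin k m).Cotangent = (m + 2) * (m + 1) / 2 := by
  classical
  set I := uorigin k m with hI
  have hU := isU_ugen k m
  have hgI : ∀ g, ugen k m g ∈ I := fun g => Ideal.subset_span ⟨g, rfl⟩
  let δ : Idx m → (Idx m → k) := fun t => Pi.single t 1
  let vec : UGen m → (Idx m → k) := fun g => match g with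
    | .a => δ (.inl ())
    | .c => 0
    | .cb => 0
    | .ci i => δ (.inr (.inl i))
    | .cbi i => δ (.inr (.inr (.inl i)))
    | .cij i j h => if hlt : i < j then δ (.inr (.inr (.inr ⟨(i, j), hlt⟩)))
      else δ (.inl ()) + δ (.inr (.inl i)) + δ (.inr (.inr (.inl i))) + δ (.inr (.inl j)) +
        δ (.inr (.inr (.inl j))) - δ (.inr (.inr (.inr ⟨(j, i), lt_of_le_of_ne (not_lt.1 hlt) (Ne.symm h)⟩)))
  let W : UGen m → TrivSqZeroExt k (Idx m → k) := fun g => TrivSqZeroExt.inr (vec g)
  have hW : IsU W := by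
    refine ⟨fun i j h => ?_, fun i j h => ?_, fun i j h => ?_, fun i j l h1 h2 h3 => ?_⟩
    · rcases lt_or_gt_of_ne h with hlt | hgt
      · simp only [W, vec, dif_pos hlt, dif_neg hlt.asymm, ← TrivSqZeroExt.inr_add, ← TrivSqZeroExt.inr_sub]
        rw [← TrivSqZeroExt.inr_zero k]
        congr 1
        abel
      · simp only [W, vec, dif_neg hgt.asymm, dif_pos hgt, ← TrivSqZeroExt.inr_add, ← TrivSqZeroExt.inr_sub]
        rw [← TrivSqZeroExt.inr_zero k]
        congr 1
        abel
    · simp [W, vec, TrivSqZeroExt.inr_mul_inr]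
    · simp [W, vec, TrivSqZeroExt.inr_mul_inr]
    · simp [W, vec, TrivSqZeroExt.inr_mul_inr, add_mul]
  let ρ : URing k m →ₐ[k] TrivSqZeroExt k (Idx m → k) :=
    Ideal.Quotient.liftₐ _ (MvPolynomial.aeval W) fun p hp =>
      (Ideal.span_le (I := RingHom.ker (MvPolynomial.aeval W).toRingHom)).2
        (fun q hq => eval₂_aux W hW q hq) hp
  have hρ : ∀ g, ρ (ugen k m g) = TrivSqZeroExt.inr (vec g) := fun g =>
    (MvPolynomial.aeval_X W g : _)
  have hρI : ∀ x ∈ I, (ρ x).fst = 0 := by
    intro x hx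
    induction hx using Submodule.span_induction with
    | mem y hy => obtain ⟨g, rfl⟩ := hy; simp [hρ]
    | zero => simp
    | add a b _ _ ha hb => simp [ha, hb]
    | smul r a _ ha => simp [ha]
  let gen : Idx m → I := fun t => match t with
    | .inl () => ⟨_, hgI .a⟩
    | .inr (.inl i) => ⟨_, hgI (.ci i)⟩
    | .inr (.inr (.inl i)) => ⟨_, hgI (.cbi i)⟩
    | .inr (.inr (.inr q)) => ⟨_, hgI (.cij q.1.1 q.1.2 (ne_of_lt q.2))⟩
  have hgen : ∀ t, (ρ (gen t : URing k m)).snd = δ t := by
    rintro (⟨⟩ | i | i | ⟨⟨i, j⟩, hlt : i < j⟩)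
    · simp [gen, hρ, vec]
    · simp [gen, hρ, vec]
    · simp [gen, hρ, vec]
    · simp [gen, hρ, vec, hlt]
  have halg : ∀ (t : k) (x : I.Cotangent), algebraMap k (URing k m) t • x = t • x := fun t x =>
    algebraMap_smul (URing k m) t x

  have hind : LinearIndependent k (fun t => I.toCotangent (gen t)) := by
    rw [linearIndependent_iff']
    intro s c hc t ht
    have h0 : I.toCotangent (∑ t ∈ s, algebraMap k (URing k m) (c t) • gen t) = 0 := by
      rw [map_sum]
      refine Eq.trans (Finset.sum_congr rfl fun t _ => ?_) hc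
      rw [map_smul, halg]
    rw [Ideal.toCotangent_eq_zero] at h0
    have hsq0 : ∀ y ∈ I ^ 2, (ρ y).snd = 0 := by
      intro y hy
      rw [sq] at hy
      induction hy using Submodule.mul_induction_on' with
      | mem_mul_mem a ha b hb => simp [map_mul, TrivSqZeroExt.snd_mul, hρI a ha, hρI b hb]
      | add a _ b _ ha hb => simp [ha, hb]
    have h2 : (ρ ((∑ t ∈ s, algebraMap k (URing k m) (c t) • gen t : I) : URing k m)).snd = 0 := hsq0 _ h0
    simp only [AddSubmonoidClass.coe_finsetSum, SetLike.val_smul, smul_eq_mul, map_sum, map_mul,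
      AlgHom.commutes, TrivSqZeroExt.snd_sum] at h2
    have h3 := congrFun h2 t
    simp only [Finset.sum_apply, Pi.zero_apply, TrivSqZeroExt.algebraMap_eq_inl] at h3
    rw [Finset.sum_eq_single t] at h3
    · simpa [hgen, δ] using h3
    · intro t' _ hne
      simp [hgen, δ, Ne.symm hne]
    · exact fun h => absurd ht h
  have hspan : (⊤ : Submodule k I.Cotangent) ≤ Submodule.span k (Set.range fun t => I.toCotangent (gen t)) := by
    rintro z -
    obtain ⟨⟨x, hx⟩, rfl⟩ := Ideal.toCotangent_surjective I z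
    set S := Submodule.span k (Set.range fun t => I.toCotangent (gen t))
    have hS : ∀ t, I.toCotangent (gen t) ∈ S := fun t => Submodule.subset_span ⟨t, rfl⟩
    have hsq : ∀ (y : I), (y : URing k m) ∈ I ^ 2 → I.toCotangent y ∈ S := fun y hy => by
      rw [(Ideal.toCotangent_eq_zero I y).2 hy]; exact zero_mem _
    have hmul : ∀ a b, ugen k m a * ugen k m b ∈ I ^ 2 := fun a b => by
      rw [sq]; exact Ideal.mul_mem_mul (hgI a) (hgI b)
    have hG : ∀ g, I.toCotangent ⟨ugen k m g, hgI g⟩ ∈ S := by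
      let i0 : Fin m := ⟨0, by omega⟩
      let i1 : Fin m := ⟨1, by omega⟩
      have h01 : i0 ≠ i1 := by simp [i0, i1]
      intro g
      cases g with
      | a => exact hS (.inl ())
      | c =>
        refine hsq _ ?_
        change ugen k m UGen.c ∈ I ^ 2
        rw [show ugen k m .c = ugen k m (.cij i1 i0 (Ne.symm h01)) * ugen k m (.ci i1) +
            ugen k m (.cij i0 i1 h01) * ugen k m (.ci i0) - ugen k m (.ci i0) * ugen k m (.ci i1) from by
          linear_combination -(hU.qc i0 i1 h01)]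
        exact sub_mem (add_mem (hmul _ _) (hmul _ _)) (hmul _ _)
      | cb =>
        refine hsq _ ?_
        change ugen k m UGen.cb ∈ I ^ 2
        rw [show ugen k m .cb = ugen k m (.cij i1 i0 (Ne.symm h01)) * ugen k m (.cbi i0) +
            ugen k m (.cij i0 i1 h01) * ugen k m (.cbi i1) - ugen k m (.cbi i0) * ugen k m (.cbi i1) from by
          linear_combination -(hU.qb i0 i1 h01)]
        exact sub_mem (add_mem (hmul _ _) (hmul _ _)) (hmul _ _)
      | ci i => exact hS (.inr (.inl i))
      | cbi i => exact hS (.inr (.inr (.inl i)))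
      | cij i j h =>
        rcases lt_or_gt_of_ne h with hlt | hgt
        · exact hS (.inr (.inr (.inr ⟨(i, j), hlt⟩)))
        · have : (⟨ugen k m (.cij i j h), hgI _⟩ : I) = gen (.inl ()) + gen (.inr (.inl i)) +
              gen (.inr (.inr (.inl i))) + gen (.inr (.inl j)) + gen (.inr (.inr (.inl j))) -
              gen (.inr (.inr (.inr ⟨(j, i), hgt⟩))) := by
            apply Subtype.ext
            simp [gen]
            linear_combination hU.lin i j h
          rw [this, map_sub, map_add, map_add, map_add, map_add]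
          exact sub_mem (add_mem (add_mem (add_mem (add_mem (hS (.inl ())) (hS (.inr (.inl i)))) (hS (.inr (.inr (.inl i))))) (hS (.inr (.inl j)))) (hS (.inr (.inr (.inl j))))) (hS (.inr (.inr (.inr ⟨(j, i), hgt⟩))))
    have hres : ∀ r : URing k m, ∃ t : k, r - algebraMap k _ t ∈ I := by
      intro r
      obtain ⟨p, rfl⟩ := Ideal.Quotient.mk_surjective r
      induction p using MvPolynomial.induction_on with
      | C c => exact ⟨c, by rw [show Ideal.Quotient.mk _ (MvPolynomial.C c) = algebraMap k (URing k m) c from rfl, sub_self]; exact zero_mem _⟩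
      | add p q hp hq =>
        obtain ⟨s, hs⟩ := hp
        obtain ⟨t, ht⟩ := hq
        refine ⟨s + t, ?_⟩
        rw [map_add, map_add, add_sub_add_comm]
        exact add_mem hs ht
      | mul_X p g hp =>
        refine ⟨0, ?_⟩
        rw [map_zero, sub_zero, map_mul]
        exact Ideal.mul_mem_left _ _ (hgI g)
    induction hx using Submodule.span_induction with
    | mem y hy => obtain ⟨g, rfl⟩ := hy; exact hG g
    | zero => exact hsq _ (zero_mem _)
    | add a b ha hb iha ihb => exact (map_add I.toCotangent ⟨a, ha⟩ ⟨b, hb⟩) ▸ add_mem iha ihb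
    | smul r a ha iha =>
      obtain ⟨t, ht⟩ := hres r
      have e : (⟨r • a, Ideal.mul_mem_left _ r ha⟩ : I) =
          algebraMap k (URing k m) t • (⟨a, ha⟩ : I) + (r - algebraMap k (URing k m) t) • (⟨a, ha⟩ : I) := by
        apply Subtype.ext
        simp only [Submodule.coe_add, SetLike.val_smul, smul_eq_mul]
        ring
      refine (congrArg (fun y : I => I.toCotangent y ∈ S) e).mpr ?_
      rw [map_add, map_smul, halg]
      refine add_mem (Submodule.smul_mem S t iha) (hsq _ ?_)
      rw [sq]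
      exact Ideal.mul_mem_mul ht ha
  let b := Module.Basis.mk hind hspan
  rw [Module.finrank_eq_card_basis b, card_idx]
where
  eval₂_aux {k : Type u} [Field k] {m : ℕ} (W : UGen m → TrivSqZeroExt k (Idx m → k)) (hW : IsU W)
      (q : MvPolynomial (UGen m) k) (hq : q ∈ URel k m) : MvPolynomial.aeval W q = 0 :=
    eval₂_URel (algebraMap k _) W hW q hq

/-- Let m ≥ 2, so that n = m + 3 ≥ 5 points are marked. For every field k, the Zariski cotangent space
of U_n over k at the origin, that is I/I² for the ideal I of the coordinate ring of U_n over k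
generated by the classes of all the generators a, c, c̄, c_i, c̄_i, c_{ij}, has dimension (n − 1)(n
− 2)/2 = (m + 2)(m + 1)/2 over k; and the weight-one classes a, c_i, c̄_i (all indices i) and c_{ij}
(i < j) generate the coordinate ring of U_n over ℤ as a ℤ-algebra (so they form a minimal generating
set). -/
theorem result (m : ℕ) (hm : 2 ≤ m) :
    (∀ (k : Type u) [Field k], Module.finrank k (uorigin k m).Cotangent = (m + 2) * (m + 1) / 2) ∧
    Algebra.adjoin ℤ ({ugen ℤ m .a} ∪ Set.range (fun i : Fin m => ugen ℤ m (.ci i)) ∪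
        Set.range (fun i : Fin m => ugen ℤ m (.cbi i)) ∪
        Set.range (fun q : {q : Fin m × Fin m // q.1 < q.2} => ugen ℤ m (.cij q.1.1 q.1.2 (ne_of_lt q.2)))) = ⊤ := by
  refine ⟨fun k _ => ?_, ?_⟩
  · exact cotangent_finrank k m hm
  · rw [eq_top_iff]
    rintro x -
    obtain ⟨p, rfl⟩ := Ideal.Quotient.mk_surjective x
    set G : Set (URing ℤ m) := {ugen ℤ m .a} ∪ Set.range (fun i : Fin m => ugen ℤ m (.ci i)) ∪
      Set.range (fun i : Fin m => ugen ℤ m (.cbi i)) ∪
      Set.range (fun q : {q : Fin m × Fin m // q.1 < q.2} => ugen ℤ m (.cij q.1.1 q.1.2 (ne_of_lt q.2))) with hG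
    have hU := Groth.Agent.UCurves.isU_ugen ℤ m
    have ha : ugen ℤ m .a ∈ Algebra.adjoin ℤ G :=
      Algebra.subset_adjoin (Or.inl (Or.inl (Or.inl rfl)))
    have hc : ∀ i, ugen ℤ m (.ci i) ∈ Algebra.adjoin ℤ G := fun i =>
      Algebra.subset_adjoin (Or.inl (Or.inl (Or.inr ⟨i, rfl⟩)))
    have he : ∀ i, ugen ℤ m (.cbi i) ∈ Algebra.adjoin ℤ G := fun i =>
      Algebra.subset_adjoin (Or.inl (Or.inr ⟨i, rfl⟩))
    have hk : ∀ i j h, ugen ℤ m (.cij i j h) ∈ Algebra.adjoin ℤ G := by
      intro i j h
      rcases lt_or_gt_of_ne h with hlt | hgt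
      · exact Algebra.subset_adjoin (Or.inr ⟨⟨(i, j), hlt⟩, rfl⟩)
      · rw [show ugen ℤ m (.cij i j h) = ugen ℤ m .a + ugen ℤ m (.ci i) + ugen ℤ m (.cbi i) + ugen ℤ m (.ci j) +
            ugen ℤ m (.cbi j) - ugen ℤ m (.cij j i (Ne.symm h)) from by linear_combination hU.lin i j h]
        exact sub_mem (add_mem (add_mem (add_mem (add_mem ha (hc i)) (he i)) (hc j)) (he j))
          (Algebra.subset_adjoin (Or.inr ⟨⟨(j, i), hgt⟩, rfl⟩))
    let i0 : Fin m := ⟨0, by omega⟩
    let i1 : Fin m := ⟨1, by omega⟩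
    have h01 : i0 ≠ i1 := by simp [i0, i1]
    induction p using MvPolynomial.induction_on with
    | C r => exact Subalgebra.algebraMap_mem _ r
    | add p q hp hq => rw [map_add]; exact add_mem hp hq
    | mul_X p g hp =>
      rw [map_mul]
      refine mul_mem hp ?_
      change ugen ℤ m g ∈ _
      cases g with
      | a => exact ha
      | c =>
        rw [show ugen ℤ m .c = ugen ℤ m (.cij i1 i0 (Ne.symm h01)) * ugen ℤ m (.ci i1) +
            ugen ℤ m (.cij i0 i1 h01) * ugen ℤ m (.ci i0) - ugen ℤ m (.ci i0) * ugen ℤ m (.ci i1) from by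
          linear_combination -(hU.qc i0 i1 h01)]
        exact sub_mem (add_mem (mul_mem (hk _ _ _) (hc _)) (mul_mem (hk _ _ _) (hc _))) (mul_mem (hc _) (hc _))
      | cb =>
        rw [show ugen ℤ m .cb = ugen ℤ m (.cij i1 i0 (Ne.symm h01)) * ugen ℤ m (.cbi i0) +
            ugen ℤ m (.cij i0 i1 h01) * ugen ℤ m (.cbi i1) - ugen ℤ m (.cbi i0) * ugen ℤ m (.cbi i1) from by
          linear_combination -(hU.qb i0 i1 h01)]
        exact sub_mem (add_mem (mul_mem (hk _ _ _) (he _)) (mul_mem (hk _ _ _) (he _))) (mul_mem (he _) (he _))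
      | ci i => exact hc i
      | cbi i => exact he i
      | cij i j h => exact hk i j h

end Groth.Agent.S18248
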