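import Groth.Statements.S18251
import Groth.Agent.UCurves.Indep
import Mathlib.RingTheory.Ideal.Quotient.Operations
import Mathlib.Tactic.FinCases

set_option autoImplicit false
universe u
open W4c5m1nsnscurves
open Curves

namespace Groth.Agent.S18251

/-- Case n = 3: let R be a commutative ring and a, b, c, d elements of R (a point of U_3, which is
affine 4-space, so no condition is imposed). Then in the R-algebra R[x_2, x_3]/(x_2 x_3² − x_2² x_3
− a x_2 x_3 − b x_2 − c x_3 − d) the classes of the monomials 1, x_2^k x_3, x_2^k and x_3^k (k ≥ 1)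
are linearly independent over R and span, i.e. form an R-basis. -/
theorem result (R : Type u) [CommRing R] (a b c d : R) :
    LinearIndependent R (cmon3 R a b c d) ∧
      Submodule.span R (Set.range (cmon3 R a b c d)) = ⊤ := by
  classical
  let v : UGen 0 → R := fun g => match g with
    | .a => a
    | .c => c
    | .cb => b + c
    | .ci i => i.elim0
    | .cbi i => i.elim0
    | .cij i _ _ => i.elim0
  have hind := Groth.Agent.UCurves.indep_cubic (R := R) (m := 0) a b c d
  have hspan := Groth.Agent.UCurves.span_mon v d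
  let P : Ideal (MvPolynomial (CVar 0) R) := Ideal.span {Groth.Agent.UCurves.Cubic R 0 a b c d}
  have hP : Ideal.span (Groth.Agent.UCurves.extRel v d) = P := by
    have : CRel R 0 v = ∅ := by simp [CRel, Set.range_eq_empty]
    rw [Groth.Agent.UCurves.extRel, this, Set.empty_union]
    simp [P, v]
  have hspan' : Submodule.span R (Set.range fun z =>
      Ideal.Quotient.mk P (Groth.Agent.UCurves.pmon R 0 z)) = ⊤ := by
    rw [← hP]
    exact hspan
  let σ : CVar 0 ≃ Fin 2 :=
    { toFun := fun y => match y with
        | .x2 => 0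
        | .x3 => 1
        | .xi i => i.elim0
      invFun := fun i => if i = 0 then .x2 else .x3
      left_inv := fun y => match y with
        | .x2 => rfl
        | .x3 => rfl
        | .xi i => i.elim0
      right_inv := fun i => by fin_cases i <;> simp }
  let J : Ideal (MvPolynomial (Fin 2) R) := Ideal.span {MvPolynomial.X 0 * MvPolynomial.X 1 ^ 2 -
    MvPolynomial.X 0 ^ 2 * MvPolynomial.X 1 - (MvPolynomial.C a * MvPolynomial.X 0 * MvPolynomial.X 1 +
      MvPolynomial.C b * MvPolynomial.X 0 + MvPolynomial.C c * MvPolynomial.X 1 + MvPolynomial.C d)}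
  let e : (MvPolynomial (CVar 0) R ⧸ P) ≃ₐ[R] CurveAlg3 R a b c d :=
    Ideal.quotientEquivAlg P J (MvPolynomial.renameEquiv R σ) (by
      rw [Ideal.map_span, Set.image_singleton]
      simp [J, σ, Groth.Agent.UCurves.Cubic])
  let τ : Option (ℕ ⊕ (Fin 2 × ℕ)) ≃ Option (ℕ ⊕ (CVar 0 × ℕ)) :=
    Equiv.optionCongr (Equiv.sumCongr (Equiv.refl ℕ) (Equiv.prodCongr σ.symm (Equiv.refl ℕ)))
  have hfam : cmon3 R a b c d = e.toLinearEquiv ∘
      (fun z => Ideal.Quotient.mk P (Groth.Agent.UCurves.pmon R 0 z)) ∘ τ := by
    funext z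
    rcases z with _ | ⟨k | ⟨y, k⟩⟩
    · simp [cmon3, τ, Groth.Agent.UCurves.pmon]
    · change _ = e (Ideal.Quotient.mk P _)
      simp [cmon3, e, τ, σ, J, Groth.Agent.UCurves.pmon]
    · change _ = e (Ideal.Quotient.mk P _)
      simp [cmon3, e, τ, J, Groth.Agent.UCurves.pmon]
  rw [hfam]
  refine ⟨(hind.comp τ τ.injective).map' e.toLinearEquiv.toLinearMap (LinearMap.ker_eq_bot.2 e.toLinearEquiv.injective), ?_⟩
  rw [Set.range_comp, τ.surjective.range_comp, ← LinearEquiv.coe_coe e.toLinearEquiv, Submodule.span_image, hspan']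
  exact Submodule.map_top _ |>.trans (LinearMap.range_eq_top.2 e.toLinearEquiv.surjective)

end Groth.Agent.S18251
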