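import Groth.Statements.S18256
import Groth.Agent.ArtFunLib.Smooth
import Mathlib.LinearAlgebra.TensorProduct.Quotient
import Mathlib.RingTheory.Nakayama

set_option autoImplicit false
universe u
open ArtFun

namespace Groth.Agent.S18256

open Groth.Agent.ArtFunLib

open CategoryTheory TensorProduct in
/-- Let R be an Artinian local ring with residue field k and M a finitely generated R-module. Suppose
that for every small extension p : A' → A of local Artinian R-algebras with residue field k (p
surjective, its kernel I a nonzero principal ideal killed by the maximal ideal of A'), the map M ⊗_R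
I → M ⊗_R A' induced by the inclusion I ⊆ A' is injective (equivalently, the sequence 0 → M ⊗_R I →
M ⊗_R A' → M ⊗_R A → 0 is exact). Then M is a free R-module. (The printed conclusion reads free over
the residue field; the proof establishes freeness over R, which is what is stated here.) -/
theorem result
    (R : Type u) [CommRing R] [IsArtinianRing R] [IsLocalRing R]
    (k : Type u) [Field k] [Algebra R k] (hk : Function.Surjective (algebraMap R k))
    (M : Type u) [AddCommGroup M] [Module R M] [Module.Finite R M]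
    (h : ∀ (A' A : ArtFun.Art R k) (p : A' ⟶ A), ArtFun.Art.IsSmallExt p →
      Function.Injective
        (LinearMap.lTensor M (((RingHom.ker p.toAlgHom).restrictScalars R).subtype))) :
    Module.Free R M := by
  classical
  haveI : IsLocalRing R := inferInstance
  let m := IsLocalRing.maximalIdeal R
  have hker : RingHom.ker (algebraMap R k) = m :=
    IsLocalRing.eq_maximalIdeal (RingHom.ker_isMaximal_of_surjective _ hk)
  letI : Field (R ⧸ m) := Ideal.Quotient.field m
  let V := M ⧸ (m • ⊤ : Submodule R M)
  let b := Module.Free.chooseBasis (R ⧸ m) V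
  haveI : Module.Finite (R ⧸ m) V := Module.Finite.of_restrictScalars_finite R _ _
  haveI : Fintype (Module.Free.ChooseBasisIndex (R ⧸ m) V) := Fintype.ofFinite _
  let ι := Module.Free.ChooseBasisIndex (R ⧸ m) V
  choose v hv using fun i : ι => Submodule.Quotient.mk_surjective _ (b i)
  let π : (ι → R) →ₗ[R] M := Fintype.linearCombination R v
  have hπq : ∀ f : ι → R, (Submodule.Quotient.mk (π f) : V) = ∑ i, Ideal.Quotient.mk m (f i) • b i := fun f => by
    simp only [π, Fintype.linearCombination_apply, ← Submodule.mkQ_apply, map_sum, map_smul]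
    refine Finset.sum_congr rfl fun i _ => ?_
    rw [Submodule.mkQ_apply, hv]
    exact (algebraMap_smul (R ⧸ m) (f i) (b i)).symm
  have hsurj : Function.Surjective π := by
    refine LinearMap.range_eq_top.1 (top_le_iff.1 (Submodule.le_of_le_smul_of_le_jacobson_bot
      Module.Finite.fg_top (IsLocalRing.maximalIdeal_le_jacobson (⊥ : Ideal R)) fun x _ => ?_))
    choose c hc using fun i => Ideal.Quotient.mk_surjective (b.repr (Submodule.Quotient.mk x) i)
    have h1 : (Submodule.Quotient.mk (π c) : V) = Submodule.Quotient.mk x := by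
      rw [hπq]; simp only [hc]; exact b.sum_repr _
    have : x - π c ∈ (m • ⊤ : Submodule R M) := (Submodule.Quotient.eq _).1 h1.symm
    exact Submodule.mem_sup.2 ⟨π c, LinearMap.mem_range_self π c, x - π c, this, by abel⟩
  have hker0 : ∀ f : ι → R, π f ∈ (m • ⊤ : Submodule R M) → ∀ i, f i ∈ m := by
    intro f hf i
    have h1 := hπq f
    rw [(Submodule.Quotient.mk_eq_zero _).2 hf] at h1
    exact Ideal.Quotient.eq_zero_iff_mem.1 (Fintype.linearIndependent_iff.1 b.linearIndependent _ h1.symm i)
  have key : ∀ I : Ideal R, ∀ f, π f = 0 → ∀ i, f i ∈ I := by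
    intro I
    induction I using IsNoetherian.induction with
    | hgt I IH => ?_
    intro f hf i
    by_cases hIt : I = ⊤
    · rw [hIt]; trivial
    rcases (IsLocalRing.le_maximalIdeal hIt).lt_or_eq with hlt | heq
    swap
    · rw [heq]; exact hker0 f (by rw [hf]; exact zero_mem _) i
    obtain ⟨t, htm, htI, htk⟩ : ∃ t ∈ m, t ∉ I ∧ ∀ a ∈ m, a * t ∈ I := by
      obtain ⟨N, hN⟩ := IsArtinianRing.isNilpotent_jacobson_bot (R := R)
      rw [IsLocalRing.jacobson_eq_maximalIdeal ⊥ bot_ne_top] at hN
      have hex : ∃ n, m ^ n * m ≤ I := ⟨N, by rw [hN, Ideal.zero_eq_bot, Ideal.bot_mul]; exact bot_le⟩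
      have h0 : Nat.find hex ≠ 0 := fun h => hlt.not_ge (by
        have := Nat.find_spec hex
        rwa [h, pow_zero, one_mul] at this)
      obtain ⟨n, hn⟩ := Nat.exists_eq_succ_of_ne_zero h0
      obtain ⟨t, ht, htI⟩ := SetLike.not_le_iff_exists.1 (Nat.find_min hex (m := n) (by omega))
      refine ⟨t, (Ideal.mul_le_right : m ^ n * m ≤ m) ht, htI, fun a ha => ?_⟩
      have := Ideal.mul_mem_mul ha ht
      rw [← mul_assoc, ← pow_succ', ← Nat.succ_eq_add_one, ← hn] at this
      exact Nat.find_spec hex this
    have hJm : I ⊔ Ideal.span {t} ≤ m := sup_le hlt.le ((Ideal.span_singleton_le_iff_mem _).2 htm)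
    have hmem : ∀ j, ∃ a ∈ I, ∃ c, f j = a + c * t := fun j => by
      obtain ⟨a, ha, r, hr, e⟩ := Submodule.mem_sup.1 (IH (I ⊔ Ideal.span {t}) (lt_of_le_of_ne le_sup_left
        fun h => htI (h ▸ Submodule.mem_sup_right (Ideal.mem_span_singleton_self t))) f hf j)
      obtain ⟨c, rfl⟩ := Ideal.mem_span_singleton'.1 hr
      exact ⟨a, ha, c, e.symm⟩
    choose a ha c hc using hmem
    have mkO : ∀ I : Ideal R, I ≤ m → ∃ (A : ArtFun.Art R k), ∃ e : R →ₐ[R] A, Function.Surjective e ∧ RingHom.ker e = I := fun I hI => by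
      haveI : Nontrivial (R ⧸ I) := Ideal.Quotient.nontrivial_iff.2 fun h =>
        (IsLocalRing.maximalIdeal.isMaximal R).ne_top (top_le_iff.1 (h ▸ hI))
      haveI : IsLocalRing (R ⧸ I) := IsLocalRing.of_surjective' (Ideal.Quotient.mk I) Ideal.Quotient.mk_surjective
      haveI : IsArtinianRing (R ⧸ I) := Ideal.Quotient.mk_surjective.isArtinianRing (f := Ideal.Quotient.mk I)
      exact ⟨ArtFun.Art.of (R ⧸ I) (Ideal.Quotient.liftₐ I (Algebra.ofId R k) fun x hx => by
          have := hI hx
          rw [← hker] at this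
          exact this) (fun x => by obtain ⟨r, rfl⟩ := hk x; exact ⟨Ideal.Quotient.mk I r, rfl⟩),
        Ideal.Quotient.mkₐ R I, Ideal.Quotient.mk_surjective, Ideal.Quotient.mkₐ_ker R I⟩
    obtain ⟨A', e', he', hk'⟩ := mkO I hlt.le
    obtain ⟨A, e, he, hkA⟩ := mkO _ hJm
    obtain ⟨p, hp⟩ := exists_algHom_factor he' e (by rw [hk', hkA]; exact le_sup_left)
    let P : A' ⟶ A := ⟨p, AlgHom.ext fun x => by
      obtain ⟨r, rfl⟩ := he' x
      rw [show e' r = algebraMap R A' r by rw [← e'.commutes]; rfl, AlgHom.commutes, AlgHom.commutes]⟩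
    have he'' : ∀ r : R, e' r = algebraMap R A' r := fun r => by rw [← e'.commutes]; rfl
    have hPk : RingHom.ker P.toAlgHom = Ideal.span {e' t} := by
      refine le_antisymm (fun x hx => ?_) ((Ideal.span_singleton_le_iff_mem _).2 ?_)
      · obtain ⟨r, rfl⟩ := he' x
        have : r ∈ I ⊔ Ideal.span {t} := by rw [← hkA]; exact (hp r).symm.trans hx
        obtain ⟨a, ha, s, hs, rfl⟩ := Submodule.mem_sup.1 this
        obtain ⟨c, rfl⟩ := Ideal.mem_span_singleton'.1 hs
        rw [map_add, show e' a = 0 by rw [← RingHom.mem_ker, hk']; exact ha, zero_add, map_mul]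
        exact Ideal.mul_mem_left _ _ (Ideal.mem_span_singleton_self _)
      · change p (e' t) = 0
        rw [hp, ← RingHom.mem_ker, hkA]
        exact Submodule.mem_sup_right (Ideal.mem_span_singleton_self t)
    have ht0 : e' t ≠ 0 := fun h0 => htI (hk' ▸ (RingHom.mem_ker.2 h0))
    have htk' : ∀ x ∈ IsLocalRing.maximalIdeal A', x * e' t = 0 := fun x hx => by
      obtain ⟨r, rfl⟩ := he' x
      rw [← map_mul, ← RingHom.mem_ker, hk']
      refine htk r ?_
      rw [ArtFun.Art.mem_maximalIdeal_iff, he'', AlgHom.commutes] at hx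
      rw [← hker]
      exact hx
    have hP : ArtFun.Art.IsSmallExt P := isSmallExt_of_ker_eq_span (fun y => by
      obtain ⟨r, rfl⟩ := he y
      exact ⟨e' r, hp r⟩) hPk ht0 htk'
    have hinj := h A' A P hP
    let J := (RingHom.ker P.toAlgHom).restrictScalars R
    let t' : J := ⟨e' t, by
      change e' t ∈ RingHom.ker P.toAlgHom
      rw [hPk]; exact Ideal.mem_span_singleton_self _⟩
    let τ : R →ₗ[R] J := LinearMap.toSpanSingleton R J t'
    have hτv : ∀ r : R, ((τ r : J) : A') = e' (r * t) := fun r => by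
      rw [map_mul, he'' r, ← Algebra.smul_def]
      rfl
    have hτk : LinearMap.ker τ = m := by
      refine le_antisymm (IsLocalRing.le_maximalIdeal fun h => ht0 ?_) fun r hr => Subtype.ext ?_
      · have h1 : τ 1 = 0 := LinearMap.mem_ker.1 (h ▸ Submodule.mem_top)
        have := congrArg Subtype.val h1
        rw [hτv, one_mul] at this
        exact this
      · rw [hτv]
        exact RingHom.mem_ker.1 (hk'.symm ▸ htk r hr : r * t ∈ RingHom.ker e')
    have hτs : Function.Surjective τ := fun ⟨x, hx⟩ => by
      obtain ⟨y, hy⟩ := Ideal.mem_span_singleton'.1 (show x ∈ Ideal.span {e' t} by rw [← hPk]; exact hx)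
      obtain ⟨r, rfl⟩ := he' y
      exact ⟨r, Subtype.ext (by rw [hτv, map_mul, hy])⟩
    let ψ : J →ₗ[R] R ⧸ m := ((LinearMap.quotKerEquivOfSurjective τ hτs).symm ≪≫ₗ Submodule.quotEquivOfEq _ _ hτk).toLinearMap
    have hψ : ∀ r, ψ (τ r) = Ideal.Quotient.mk m r := fun r => by
      have : (LinearMap.quotKerEquivOfSurjective τ hτs).symm (τ r) = Submodule.Quotient.mk r :=
        (LinearMap.quotKerEquivOfSurjective τ hτs).injective (by simp)
      simp [ψ, this]
      rfl
    have h2 : ∑ j, v j ⊗ₜ[R] (τ (c j)) = (0 : M ⊗[R] J) := by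
      refine hinj ?_
      rw [map_sum, map_zero]
      have : ∀ j, (τ (c j) : A') = f j • (1 : A') := fun j => by
        rw [hτv, hc, Algebra.smul_def, mul_one, ← he'', map_add, show e' (a j) = 0 from RingHom.mem_ker.1 (hk'.symm ▸ ha j), zero_add]
      simp only [LinearMap.lTensor_tmul, Submodule.coe_subtype]
      rw [Finset.sum_congr rfl fun j _ => by rw [this j, ← TensorProduct.smul_tmul]]
      rw [← TensorProduct.sum_tmul]
      have : ∑ j, f j • v j = 0 := by rw [← hf]; simp [π, Fintype.linearCombination_apply]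
      rw [this, TensorProduct.zero_tmul]
    have h3 := congrArg ((TensorProduct.tensorQuotEquivQuotSMul M m) ∘ LinearMap.lTensor M ψ) h2
    simp only [Function.comp_apply, map_sum, map_zero, LinearMap.lTensor_tmul, hψ] at h3
    have h4 : π c ∈ (m • ⊤ : Submodule R M) := by
      rw [← Submodule.Quotient.mk_eq_zero]
      simp only [π, Fintype.linearCombination_apply, ← Submodule.mkQ_apply, map_sum]
      refine Eq.trans (Finset.sum_congr rfl fun j _ => ?_) h3
      exact (TensorProduct.tensorQuotEquivQuotSMul_tmul_mk m (v j) (c j)).symm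
    rw [hc i]
    refine I.add_mem (ha i) ?_
    exact htk _ (hker0 c h4 i)
  have hinjπ : Function.Injective π := (injective_iff_map_eq_zero π).2 fun f hf =>
    funext fun i => Ideal.mem_bot.1 (key ⊥ f hf i)
  exact Module.Free.of_equiv (LinearEquiv.ofBijective π ⟨hinjπ, hsurj⟩)

end Groth.Agent.S18256
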