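import Groth.Statements.S18257
import Groth.Agent.UnitsThick.Flat

set_option autoImplicit false
universe u
open UnitsSh

namespace Groth.Agent.S18257

open Groth.Agent.UnitsThick in
theorem main {A : Type u} [CommRing A] [IsLocalRing A] (t : A) (ht0 : t ≠ 0)
    (ht : t ∈ IsLocalRing.maximalIdeal A) (hmt : ∀ x ∈ IsLocalRing.maximalIdeal A, x * t = 0)
    {X Z Y : AlgebraicGeometry.Scheme.{u}} (g : X ⟶ AlgebraicGeometry.Spec (CommRingCat.of A))
    [AlgebraicGeometry.Flat g] (i : Z ⟶ X) (j : Y ⟶ X) [AlgebraicGeometry.IsClosedImmersion j]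
    (hi : Cl g i (Ideal.span {t})) (hj : Cl g j (IsLocalRing.maximalIdeal A)) (q : ℕ)
    (hvan : Subsingleton (Coh.HH Y (Coh.structureModule Y) (q + 1))) :
    Function.Surjective (CategoryTheory.Sheaf.H.map (UnitsSh.comap i) q) := by
  have hnil : IsNilpotent t := ⟨2, by rw [pow_two, hmt t ht]⟩
  have hS : (CategoryTheory.ShortComplex.mk (CategoryTheory.Limits.kernel.ι (UnitsSh.comap i)) (UnitsSh.comap i)
      (CategoryTheory.Limits.kernel.condition _)).ShortExact := by
    haveI := hi.epi ((Ideal.span_singleton_le_iff_mem _).2 (mem_nilradical.2 hnil))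
    exact CategoryTheory.ShortComplex.ShortExact.mk'
      (CategoryTheory.ShortComplex.exact_kernel _) inferInstance inferInstance
  refine surjective_H_map hS ((stepOf hi (cl_id g) hj t hnil (by rw [bot_sup_eq])
    (by rw [hmt t ht]; exact zero_mem _) (fun a ha => by rw [hmt a ha]; exact zero_mem _)
    fun W hW y hy => ?_).subsingleton_H (CategoryTheory.Sheaf.subsingleton_H_of_isZero (cl_id g).isZero _) hvan)
  rw [Ideal.map_bot, Ideal.mem_bot] at hy
  refine mem_map_of_mul_eq_zero _ (Groth.Agent.DefSchLib.flat_str hW) (fun c hc => ?_) hy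
  by_contra hcm
  have hu : IsUnit c := by
    by_contra h; exact hcm ((IsLocalRing.mem_maximalIdeal c).2 h)
  exact ht0 ((hu.mul_left_eq_zero).1 hc)


open CategoryTheory CategoryTheory.Limits AlgebraicGeometry in
/-- In the case of the multiplicative group, for schemes and with Zariski cohomology of the sheaf of
units. Let A be a local ring with maximal ideal m, t a nonzero element of m with m·t = 0, and X' a
scheme flat over Spec A; let i : X ⟶ X' be the closed subscheme cut out by t (base change to A/(t))
and X₀ the closed fibre (base change to the residue field). If H^{q+1}(X₀, O_{X₀}) = 0, then the map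
H^q(X', O_{X'}^×) → H^q(X', i_* O_X^×) induced by the units map of i is surjective. (The published
statement covers any smooth commutative group scheme in place of the multiplicative group, with the
Lie algebra of its closed fibre in place of O_{X₀}, uses étale cohomology, and takes A Artinian;
this row allows any local ring A with t as stated.) -/
theorem result
    (A : Type u) [CommRing A] [IsLocalRing A]
    (t : A) (ht0 : t ≠ 0) (ht : t ∈ IsLocalRing.maximalIdeal A)
    (hmt : ∀ x ∈ IsLocalRing.maximalIdeal A, x * t = 0)
    (X' : Scheme.{u}) [X'.Over (Spec (CommRingCat.of A))] [Flat (X' ↘ Spec (CommRingCat.of A))]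
    (q : ℕ)
    (hvan : Subsingleton (Coh.HH
      (pullback (X' ↘ Spec (CommRingCat.of A)) (Spec.map (CommRingCat.ofHom (IsLocalRing.residue A))))
      (Coh.structureModule _) (q + 1))) :
    Function.Surjective (Sheaf.H.map (UnitsSh.comap
      (pullback.fst (X' ↘ Spec (CommRingCat.of A))
        (Spec.map (CommRingCat.ofHom (Ideal.Quotient.mk (Ideal.span ({t} : Set A))))))) q) := by
  haveI : IsClosedImmersion (Spec.map (CommRingCat.ofHom (IsLocalRing.residue A))) :=
    IsClosedImmersion.spec_of_surjective _ IsLocalRing.residue_surjective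
  exact main t ht0 ht hmt (X' ↘ Spec (CommRingCat.of A)) _ _
    (Groth.Agent.UnitsThick.cl_clMap _ _) (Groth.Agent.UnitsThick.cl_residue _) q hvan

end Groth.Agent.S18257
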