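import Groth.Statements.S18258
import Groth.Agent.UnitsThick.Flat
import Groth.Agent.AffDef.Dual

set_option autoImplicit false
universe u
open UnitsSh

set_option backward.isDefEq.respectTransparency.types false

namespace Groth.Agent.S18258

section
open CategoryTheory CategoryTheory.Limits AlgebraicGeometry Opposite TopologicalSpace Groth.Agent.UnitsThick

/-- A split short exact sequence on cohomology. -/
theorem split_ker {T : TopCat.{u}} {S : ShortComplex (CohTop.Ab T)} (hS : S.ShortExact)
    (sp : S.Splitting) (q : ℕ) :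
    Nonempty ((Sheaf.H.map S.g q).ker ≃+ Sheaf.H S.X₁ q) := by
  refine ⟨(AddEquiv.ofBijective ((Sheaf.H.map S.f q).codRestrict (Sheaf.H.map S.g q).ker ?_) ⟨?_, ?_⟩).symm⟩
  · intro x
    rw [AddMonoidHom.mem_ker, ← Sheaf.H.map_comp_apply, S.zero, Sheaf.H.map_apply, Abelian.Ext.mk₀_zero]
    exact Abelian.Ext.comp_zero (Y := S.X₁) x S.X₃ 0 q (add_zero q)
  · intro x y hxy
    have h := congrArg (Sheaf.H.map sp.r q) (congrArg Subtype.val hxy)
    change Sheaf.H.map sp.r q (Sheaf.H.map S.f q x) = Sheaf.H.map sp.r q (Sheaf.H.map S.f q y) at h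
    rwa [← Sheaf.H.map_comp_apply, ← Sheaf.H.map_comp_apply, sp.f_r, Sheaf.H.map_id_apply,
      Sheaf.H.map_id_apply] at h
  · rintro ⟨x, hx⟩
    obtain ⟨y, hy⟩ := Abelian.Ext.covariant_sequence_exact₂
      ((constantSheaf (Opens.grothendieckTopology T) AddCommGrpCat.{u}).obj (AddCommGrpCat.of (ULift.{u} ℤ))) hS x hx
    exact ⟨y, Subtype.ext hy⟩

/-- A retraction of a homeomorphic closed immersion gives a section of the units map. -/
theorem exists_section {X Z : Scheme.{u}} (i : Z ⟶ X) (r : X ⟶ Z) (hir : i ≫ r = 𝟙 Z)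
    (hs : Function.Surjective i) : ∃ σ : P i ⟶ UnitsSh.unitsAb X, σ ≫ UnitsSh.comap i = 𝟙 _ := by
  have hle : ∀ V : X.Opens, V ≤ r ⁻¹ᵁ (i ⁻¹ᵁ V) := fun V x hx => by
    obtain ⟨z, rfl⟩ := hs x
    change r (i z) ∈ i ⁻¹ᵁ V
    rw [show r (i z) = z from congrArg (fun f : Z ⟶ Z => f z) hir]
    exact hx
  refine ⟨⟨{ app := fun V => UnitsSh.unitsFunctor.map (r.appLE (i ⁻¹ᵁ V.unop) V.unop (hle V.unop))
             naturality := ?_ }⟩, ?_⟩
  · intro U V h
    change UnitsSh.unitsFunctor.map _ ≫ UnitsSh.unitsFunctor.map _ =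
      UnitsSh.unitsFunctor.map _ ≫ UnitsSh.unitsFunctor.map _
    rw [← Functor.map_comp, ← Functor.map_comp]
    refine congrArg UnitsSh.unitsFunctor.map ?_
    exact (r.map_appLE _ _).trans (r.appLE_map _ h).symm
  · apply Sheaf.hom_ext
    ext V : 2
    change UnitsSh.unitsFunctor.map (r.appLE (i ⁻¹ᵁ V.unop) V.unop (hle V.unop)) ≫
      UnitsSh.unitsFunctor.map (i.app V.unop) = _
    rw [← Functor.map_comp, Scheme.Hom.app_eq_appLE, Scheme.Hom.appLE_comp_appLE]
    have : ∀ (f : Z ⟶ Z), f = 𝟙 Z → ∀ h, f.appLE (i ⁻¹ᵁ V.unop) (i ⁻¹ᵁ V.unop) h = 𝟙 _ := by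
      rintro _ rfl h
      exact (Scheme.Hom.app_eq_appLE (𝟙 Z)).symm.trans rfl
    rw [this _ hir]
    exact UnitsSh.unitsFunctor.map_id _

lemma eps_ann (k : Type u) [Field k] (c : DualNumber k) (hc : DualNumber.eps * c = 0) :
    c ∈ Ideal.span {(DualNumber.eps : DualNumber k)} := by
  rw [← Groth.Agent.AffDef.ker_fst]
  change TrivSqZeroExt.fst c = 0
  simpa using congrArg TrivSqZeroExt.snd hc

/-- Isomorphic sheaves have the same cohomology. -/
noncomputable def hCongr {T : TopCat.{u}} {F G : CohTop.Ab T} (e : F ≅ G) (q : ℕ) : Sheaf.H F q ≃+ Sheaf.H G q where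
  toFun := Sheaf.H.map e.hom q
  invFun := Sheaf.H.map e.inv q
  left_inv x := by rw [← Sheaf.H.map_comp_apply, e.hom_inv_id, Sheaf.H.map_id_apply]
  right_inv x := by rw [← Sheaf.H.map_comp_apply, e.inv_hom_id, Sheaf.H.map_id_apply]
  map_add' := map_add _

/-- The kernel of a first-order thickening. -/
theorem nonempty_H_K {k : Type u} [Field k] {X Z : Scheme.{u}} (g : X ⟶ Spec (CommRingCat.of (DualNumber k)))
    [Flat g] (i : Z ⟶ X) [IsClosedImmersion i] (hi : Cl g i (Ideal.span {(DualNumber.eps : DualNumber k)})) (q : ℕ) :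
    Nonempty (Sheaf.H (K i) q ≃+ Coh.HH Z (Coh.structureModule Z) q) := by
  have hnil : IsNilpotent (DualNumber.eps : DualNumber k) := ⟨2, by rw [pow_two, DualNumber.eps_mul_eps]⟩
  obtain ⟨f, π, w, hS₁⟩ := (stepOf hi (cl_id g) hi DualNumber.eps hnil (by rw [bot_sup_eq])
    (by rw [DualNumber.eps_mul_eps]; exact zero_mem _) (fun a ha => by
      obtain ⟨b, rfl⟩ := Ideal.mem_span_singleton'.1 ha
      rw [mul_assoc, DualNumber.eps_mul_eps, mul_zero]
      exact zero_mem _) fun W hW y hy => by
      rw [Ideal.map_bot, Ideal.mem_bot] at hy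
      exact mem_map_of_mul_eq_zero _ (Groth.Agent.DefSchLib.flat_str hW) (eps_ann k) hy).exists_shortExact
  haveI : Mono π := hS₁.exact.mono_g ((cl_id g).isZero.eq_of_src _ _)
  haveI : Epi π := hS₁.epi_g
  haveI : IsIso π := isIso_of_mono_of_epi π
  obtain ⟨e⟩ := H_push_O i q
  exact ⟨(hCongr (asIso π) q).trans e.symm⟩

/-- The units sequence of a split first-order thickening. -/
theorem main {k : Type u} [Field k] {X Z : Scheme.{u}} (g : X ⟶ Spec (CommRingCat.of (DualNumber k)))
    [Flat g] (i : Z ⟶ X) [IsClosedImmersion i] (hi : Cl g i (Ideal.span {(DualNumber.eps : DualNumber k)}))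
    (r : X ⟶ Z) (hir : i ≫ r = 𝟙 Z) (hs : Function.Surjective i) (q : ℕ) :
    Nonempty ((Sheaf.H.map (UnitsSh.comap i) q).ker ≃+ Coh.HH Z (Coh.structureModule Z) q) := by
  obtain ⟨σ, hσ⟩ := exists_section i r hir hs
  obtain ⟨e₁⟩ := nonempty_H_K g i hi q
  haveI := hi.epi ((Ideal.span_singleton_le_iff_mem _).2 (mem_nilradical.2
    ⟨2, by rw [pow_two, DualNumber.eps_mul_eps]⟩))
  let S := ShortComplex.mk (kernel.ι (UnitsSh.comap i)) (UnitsSh.comap i) (kernel.condition _)
  have hS : S.ShortExact := ShortComplex.ShortExact.mk' (ShortComplex.exact_kernel _) inferInstance inferInstance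
  obtain ⟨e₀⟩ := split_ker hS (ShortComplex.Splitting.ofExactOfSection S hS.exact σ hσ inferInstance) q
  exact ⟨e₀.trans e₁⟩

theorem spec_map_fst_comp (k : Type u) [Field k] :
    Spec.map (CommRingCat.ofHom (TrivSqZeroExt.fstHom k k k).toRingHom) ≫
      Spec.map (CommRingCat.ofHom (algebraMap k (DualNumber k))) = 𝟙 _ := by
  rw [← Spec.map_comp, ← Spec.map_id]
  congr 1

theorem surjective_fst (k : Type u) [Field k] :
    Surjective (Spec.map (CommRingCat.ofHom (TrivSqZeroExt.fstHom k k k).toRingHom)) := by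
  refine ⟨fun p => ⟨⟨⊥, Ideal.bot_prime⟩, PrimeSpectrum.ext ?_⟩⟩
  have hmax : (Ideal.span {(DualNumber.eps : DualNumber k)}).IsMaximal := by
    rw [← Groth.Agent.AffDef.ker_fst]
    exact RingHom.ker_isMaximal_of_surjective _ fun a => ⟨algebraMap k (DualNumber k) a, by simp⟩
  have hp : Ideal.span {(DualNumber.eps : DualNumber k)} = (show PrimeSpectrum (DualNumber k) from p).asIdeal :=
    hmax.eq_of_le (show PrimeSpectrum (DualNumber k) from p).isPrime.ne_top ((Ideal.span_singleton_le_iff_mem _).2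
      ((show PrimeSpectrum (DualNumber k) from p).isPrime.mem_of_pow_mem 2
        (by rw [pow_two, DualNumber.eps_mul_eps]; exact zero_mem _)))
  refine Eq.trans ?_ hp
  rw [← Groth.Agent.AffDef.ker_fst]
  rfl

end

open CategoryTheory CategoryTheory.Limits AlgebraicGeometry in
/-- In the case of the multiplicative group, for schemes and with Zariski cohomology of the sheaf of
units. Let k be a field, X₀ a k-scheme, X' = X₀ ×_k Spec k[ε] (k[ε] the dual numbers) and i : X ⟶ X'
the closed subscheme ε = 0 (base change of X' along k[ε] → k, a copy of X₀). Then for every q the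
kernel of the map H^q(X', O_{X'}^×) → H^q(X', i_* O_X^×) induced by the units map of i — the tangent
space at the origin of the functor A ↦ H^q(X₀ ⊗_k A, O^×) on local Artinian k-algebras — is
isomorphic, as an additive group, to H^q(X, O_X). (Existence of an isomorphism only. The published
statement covers any smooth commutative group scheme in place of the multiplicative group, with the
Lie algebra of its closed fibre in place of the structure sheaf, and uses étale cohomology.) -/
theorem result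
    (k : Type u) [Field k] (X₀ : Scheme.{u}) [X₀.Over (Spec (CommRingCat.of k))] (q : ℕ) :
    Nonempty ((Sheaf.H.map (UnitsSh.comap (pullback.fst (pullback.snd (X₀ ↘ Spec (CommRingCat.of k)) (Spec.map (CommRingCat.ofHom (algebraMap k (DualNumber k))))) (Spec.map (CommRingCat.ofHom (TrivSqZeroExt.fstHom k k k).toRingHom)))) q).ker ≃+
      Coh.HH (pullback (pullback.snd (X₀ ↘ Spec (CommRingCat.of k)) (Spec.map (CommRingCat.ofHom (algebraMap k (DualNumber k))))) (Spec.map (CommRingCat.ofHom (TrivSqZeroExt.fstHom k k k).toRingHom))) (Coh.structureModule (pullback (pullback.snd (X₀ ↘ Spec (CommRingCat.of k)) (Spec.map (CommRingCat.ofHom (algebraMap k (DualNumber k))))) (Spec.map (CommRingCat.ofHom (TrivSqZeroExt.fstHom k k k).toRingHom)))) q) := by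
  haveI : IsClosedImmersion (Spec.map (CommRingCat.ofHom (TrivSqZeroExt.fstHom k k k).toRingHom)) :=
    IsClosedImmersion.spec_of_surjective _ fun a => ⟨algebraMap k (DualNumber k) a, by simp⟩
  set g := pullback.snd (X₀ ↘ Spec (CommRingCat.of k)) (Spec.map (CommRingCat.ofHom (algebraMap k (DualNumber k)))) with hg
  set φ := Spec.map (CommRingCat.ofHom (TrivSqZeroExt.fstHom k k k).toRingHom) with hφ
  have hi : Groth.Agent.UnitsThick.Cl g (pullback.fst g φ) (Ideal.span {(DualNumber.eps : DualNumber k)}) := by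
    have h := Groth.Agent.UnitsThick.cl_of_isPullback (e := (TrivSqZeroExt.fstHom k k k).toRingHom)
      (fun a => ⟨algebraMap k (DualNumber k) a, by simp⟩) (IsPullback.of_hasPullback g φ)
    rwa [Groth.Agent.AffDef.ker_fst] at h
  have hsp := (IsPullback.of_hasPullback g φ).paste_horiz
    (IsPullback.of_hasPullback (X₀ ↘ Spec (CommRingCat.of k)) (Spec.map (CommRingCat.ofHom (algebraMap k (DualNumber k)))))
  have hid := spec_map_fst_comp k
  rw [← hφ] at hid
  rw [hid] at hsp
  haveI := surjective_fst k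
  haveI : IsIso (pullback.fst g φ ≫ pullback.fst (X₀ ↘ Spec (CommRingCat.of k))
      (Spec.map (CommRingCat.ofHom (algebraMap k (DualNumber k))))) := hsp.isIso_fst_of_isIso
  refine main g _ hi (pullback.fst (X₀ ↘ Spec (CommRingCat.of k))
    (Spec.map (CommRingCat.ofHom (algebraMap k (DualNumber k)))) ≫ inv (pullback.fst g φ ≫ pullback.fst _ _)) ?_ ?_ q
  · rw [← Category.assoc, IsIso.hom_inv_id]
  · exact (pullback.fst g φ).surjective

end Groth.Agent.S18258
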