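import Groth.Statements.S1826
import Groth.Agent.DualCx.Extended
import Groth.Agent.Hensel.EtLike

set_option autoImplicit false
universe u
open CategoryTheory
attribute [local instance] HasDerivedCategory.standard
open Dual

namespace Groth.Agent.S1826

/-- Let A be a Noetherian local ring, B a strict henselization of A and ω a dualizing complex for A;
assume the derived base change functor D(A) → D(B) exists. Then the base change ω ⊗^L_A B is a
dualizing complex for B. -/
theorem result (A B : Type u) [CommRing A] [IsLocalRing A] [IsNoetherianRing A] [CommRing B] [IsLocalRing B] [IsNoetherianRing B] [Algebra A B] [IsLocalHom (algebraMap A B)] [Hensel.IsStrictHenselization A B] [DRing.HasLBaseChange (algebraMap A B)] (ω : Dual.D A) (hω : Dual.IsDualizing A ω) : Dual.IsDualizing B ((DRing.LBaseChange (algebraMap A B)).obj ω) := by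
  have h := Hensel.isEtLike_of_isStrictHenselization A B
  have := h.flat
  refine DualCx.Extended.isDualizing_LBaseChange hω fun m hm => ?_
  obtain rfl := IsLocalRing.eq_maximalIdeal hm
  refine le_antisymm Ideal.map_comap_le ?_
  rw [← h.map_max]
  exact Ideal.map_mono (Ideal.map_le_iff_le_comap.mp le_rfl)

end Groth.Agent.S1826
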