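import Groth.Statements.S18262
import Groth.Agent.H85.LimitStable
import Groth.Agent.H85.PointSet
import Groth.Agent.InvQLib.GLnRed

set_option autoImplicit false
universe u
open InvQ

namespace Groth.Agent.S18262

/-- Let k be an algebraically closed field in which m! is non-zero, n and m natural numbers, and p_1, …,
p_m non-zero vectors of k^(n+1), an ordered configuration of m points of projective n-space. Encode
the configuration by the product π = ∏_i (Σ_j p_i,j x_j) of its m linear forms, on which the special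
linear group SL(n+1) acts by substitution, and let a be the point of the affine space of degree-m
forms in n + 1 variables whose form is π. If a is stable for SL(n+1) — closed orbit and finite
stabiliser — then for every linear subspace W of k^(n+1) with 0 ≠ W ≠ k^(n+1) the number of indices
i with p_i ∈ W, multiplied by n + 1, is less than m times the dimension of W. (Affine-cone form,
with the configuration carried by the product of its linear forms; only the necessity of the strict
criterion is given; its sufficiency is not stated here. The published statement asks the strict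
inequality of proper subsets of the points, through the dimension of their span; that version agrees
with this one when m ≥ n + 2 but not for m ≤ n + 1. The published statement allows any
characteristic; this row assumes m! non-zero in k, as the space of forms used here requires.) -/
theorem result (k : Type u) [Field k] [IsAlgClosed k] (n m : ℕ)
    (hm : (Nat.factorial m : k) ≠ 0) (p : Fin m → Fin (n + 1) → k) (hp : ∀ i, p i ≠ 0)
    (a : CoordGrp.FormIdx (n + 1) m → k)
    (ha : CoordGrp.formPoly a = ∏ i, ∑ j, MvPolynomial.C (p i j) * MvPolynomial.X j)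
    (hst : @GLin.IsStableVec k _ (CoordGrp.SLn (n + 1) k) _ _ (CoordGrp.FormIdx (n + 1) m)
      (GLin.comodAlong ((CoordGrp.SLn.mkHom (n + 1) k).comp (CoordGrp.Mat.toGLn (n + 1) k)) (CoordGrp.formsCoact k (n + 1) m))
      (GLin.isCoactAlg_comodAlong ((CoordGrp.SLn.mkHom (n + 1) k).comp (CoordGrp.Mat.toGLn (n + 1) k)) (CoordGrp.formsCoact k (n + 1) m) (CoordGrp.formsCoact_isCoactAlg k (n + 1) m)) a)
    (W : Submodule k (Fin (n + 1) → k)) (hW : W ≠ ⊥) (hW' : W ≠ ⊤) :
    Nat.card {i : Fin m // p i ∈ W} * (n + 1) < m * Module.finrank k W := by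
  classical
  letI c := GLin.comodAlong ((CoordGrp.SLn.mkHom (n + 1) k).comp (CoordGrp.Mat.toGLn (n + 1) k)) (CoordGrp.formsCoact k (n + 1) m)
  letI hc := GLin.isCoactAlg_comodAlong ((CoordGrp.SLn.mkHom (n + 1) k).comp (CoordGrp.Mat.toGLn (n + 1) k)) (CoordGrp.formsCoact k (n + 1) m) (CoordGrp.formsCoact_isCoactAlg k (n + 1) m)
  by_contra hlt
  rw [not_lt] at hlt
  have hrN : (Module.finrank k W) < (n + 1) := by
    have := Submodule.finrank_lt (lt_top_iff_ne_top.mpr hW').ne
    rw [Module.finrank_fin_fun] at this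
    exact this
  obtain ⟨U, hU⟩ := W.exists_isCompl
  let e := Submodule.prodEquivOfIsCompl W U hU
  let w : Fin m → Fin (n + 1) → k := fun i => ((e.symm (p i)).1 : Fin (n + 1) → k)
  let u : Fin m → Fin (n + 1) → k := fun i => ((e.symm (p i)).2 : Fin (n + 1) → k)
  let L : k → (Fin (n + 1) → k) →ₗ[k] (Fin (n + 1) → k) := fun a =>
    e.toLinearMap ∘ₗ ((a • LinearMap.id).prodMap LinearMap.id) ∘ₗ e.symm.toLinearMap
  have hLp : ∀ a i, L a (p i) = a • w i + u i := fun a i => by simp [L, w, u, e]
  have hLW : ∀ a, ∀ v ∈ W, L a v = a • v := fun a v hv => by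
    have : e.symm v = (⟨v, hv⟩, 0) := Submodule.prodEquivOfIsCompl_symm_apply_left W U hU ⟨v, hv⟩
    simp only [L, LinearMap.comp_apply, LinearEquiv.coe_coe, this, LinearMap.prodMap_apply, map_zero]
    simp [e]
  have hLdet : ∀ a, LinearMap.det (L a) = a ^ (Module.finrank k W) := fun a => by
    rw [LinearMap.det_conj, LinearMap.det_prodMap, LinearMap.det_smul, LinearMap.det_id, LinearMap.det_id,
      mul_one, mul_one]
  have hLmul : ∀ a b, L a ∘ₗ L b = L (a * b) := fun a b => LinearMap.ext fun v => by
    simp [L, smul_smul, mul_comm a b]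
  let M : k → Matrix (Fin (n + 1)) (Fin (n + 1)) k := fun t => (t ^ (Module.finrank k W))⁻¹ • LinearMap.toMatrix' (L (t ^ (n + 1)))
  have hMmul : ∀ t t', M t * M t' = M (t * t') := fun t t' => by
    simp only [M]
    rw [Matrix.smul_mul, Matrix.mul_smul, smul_smul, ← LinearMap.toMatrix'_comp, hLmul, mul_pow, mul_pow,
      ← mul_inv]
  have hMdet : ∀ t, t ≠ 0 → (M t).transpose.det = 1 := fun t ht => by
    rw [Matrix.det_transpose, Matrix.det_smul, LinearMap.det_toMatrix', hLdet, Fintype.card_fin, inv_pow,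
      ← pow_mul, ← pow_mul, mul_comm (n + 1) (Module.finrank k W), inv_mul_cancel₀ (pow_ne_zero _ ht)]
  let g : k → CoordGrp.SLn (n + 1) k →ₐ[k] k := fun t =>
    if h : (M t).transpose.det = 1 then H85.PointSet.slPt (M t).transpose h
    else Bialgebra.counitAlgHom k (CoordGrp.SLn (n + 1) k)
  have hg : ∀ t, (ht : t ≠ 0) → g t = H85.PointSet.slPt (M t).transpose (hMdet t ht) := fun t ht => dif_pos (hMdet t ht)
  have hgmul : ∀ t t' : k, t ≠ 0 → t' ≠ 0 → InvQLib.pmul (g t) (g t') = g (t * t') := fun t t' ht ht' => by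
    rw [hg t ht, hg t' ht', hg (t * t') (mul_ne_zero ht ht'), H85.PointSet.pmul_slPt]
    congr 1
    rw [← Matrix.transpose_mul, hMmul, mul_comm]
  let q : Fin m → Fin (n + 1) → Polynomial k := fun i j =>
    if p i ∈ W then Polynomial.C (p i j) else Polynomial.X ^ (n + 1) * Polynomial.C (w i j) + Polynomial.C (u i j)
  let P : MvPolynomial (CoordGrp.FormIdx (n + 1) m) k →ₐ[k] Polynomial k :=
    MvPolynomial.aeval fun l => Polynomial.C ((S18263.fac l.1 : k) / (Nat.factorial m : k)) *
      Polynomial.X ^ ((Nat.card {i : Fin m // p i ∈ W}) * (n + 1) - m * (Module.finrank k W)) *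
      (∏ i, ∑ j, MvPolynomial.C (q i j) * MvPolynomial.X j : MvPolynomial (Fin (n + 1)) (Polynomial k)).coeff l.1
  have hP : ∀ t : k, t ≠ 0 → ∀ f, (P f).eval t = InvQLib.move (g t) (GLin.vecPt k (CoordGrp.FormIdx (n + 1) m) a) f := by
    intro t ht
    refine fun f => AlgHom.congr_fun (φ₁ := (Polynomial.aeval t).comp P) (MvPolynomial.algHom_ext fun l => ?_) f
    rw [hg t ht]
    have h1 := H85.PointSet.move_slPt (M t).transpose (hMdet t ht) p a ha l
    refine mul_left_cancel₀ hm (Eq.trans ?_ h1.symm)
    let ci : Fin m → k := fun i => (t ^ (Module.finrank k W))⁻¹ * if p i ∈ W then t ^ (n + 1) else 1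
    have hci : ∏ i, ci i = t ^ ((Nat.card {i : Fin m // p i ∈ W}) * (n + 1) - m * (Module.finrank k W)) := by
      rw [Finset.prod_mul_distrib, Finset.prod_const, Finset.prod_ite, Finset.prod_const, Finset.prod_const,
        one_pow, mul_one, Finset.card_univ, Fintype.card_fin, ← pow_mul, inv_pow, ← pow_mul, ← Fintype.card_subtype,
        ← Nat.card_eq_fintype_card, pow_sub₀ _ ht hlt, mul_comm (Module.finrank k W) m, mul_comm (n + 1) (Nat.card {i : Fin m // p i ∈ W}), mul_comm]
    have hMp : ∀ i j, ∑ l, (M t).transpose l j * p i l = ci i * (q i j).eval t := by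
      intro i j
      have : ∑ l, (M t).transpose l j * p i l = ((t ^ (Module.finrank k W))⁻¹ • L (t ^ (n + 1)) (p i)) j := by
        rw [← LinearMap.toMatrix'_mulVec (L (t ^ (n + 1))), ← Matrix.smul_mulVec]
        rfl
      rw [this]
      by_cases h : p i ∈ W
      · simp [q, ci, h, hLW _ _ h]
        try ring
        try exact Or.inl (mul_comm _ _)
      · simp [q, ci, h, hLp]
        try exact Or.inl (mul_comm _ _)
    simp only [hMp]
    have h2 : (∏ i, ∑ j, MvPolynomial.C (ci i * (q i j).eval t) * MvPolynomial.X j : MvPolynomial (Fin (n + 1)) k) =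
        MvPolynomial.C (t ^ ((Nat.card {i : Fin m // p i ∈ W}) * (n + 1) - m * (Module.finrank k W))) * MvPolynomial.map (Polynomial.evalRingHom t)
          (∏ i, ∑ j, MvPolynomial.C (q i j) * MvPolynomial.X j) := by
      rw [← hci, map_prod, map_prod, ← Finset.prod_mul_distrib]
      refine Finset.prod_congr rfl fun i _ => ?_
      rw [map_sum, Finset.mul_sum]
      refine Finset.sum_congr rfl fun j _ => ?_
      simp [mul_assoc]
    rw [h2, MvPolynomial.coeff_C_mul, MvPolynomial.coeff_map]
    simp only [AlgHom.comp_apply, P, MvPolynomial.aeval_X, Polynomial.coe_aeval_eq_eval, Polynomial.eval_mul,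
      Polynomial.eval_C, Polynomial.eval_pow, Polynomial.eval_X, Polynomial.coe_evalRingHom]
    field_simp
  have hinf : (g '' {t | t ≠ 0}).Infinite := by
    obtain ⟨w0, hw0, hw00⟩ := Submodule.exists_mem_ne_zero_of_ne_bot hW
    obtain ⟨j, hj⟩ := Function.ne_iff.mp hw00
    intro hfin
    refine (Set.finite_singleton (0 : k)).infinite_compl
      ((hfin.image fun φ => ∑ l, φ (CoordGrp.SLn.X l j) * w0 l).subset ?_)
    intro x hx
    obtain ⟨t, ht⟩ := IsAlgClosed.exists_pow_nat_eq (x / w0 j) (show 0 < (n + 1) - (Module.finrank k W) by omega)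
    have ht0 : t ≠ 0 := by
      rintro rfl
      rw [zero_pow (by omega)] at ht
      exact div_ne_zero hx hj ht.symm
    refine ⟨g t, ⟨t, ht0, rfl⟩, ?_⟩
    simp only [hg t ht0, H85.PointSet.slPt_X]
    have : ∑ l, (M t).transpose l j * w0 l = ((t ^ (Module.finrank k W))⁻¹ • L (t ^ (n + 1)) w0) j := by
      rw [← LinearMap.toMatrix'_mulVec (L (t ^ (n + 1))), ← Matrix.smul_mulVec]
      rfl
    rw [this, hLW _ _ hw0, Pi.smul_apply, Pi.smul_apply, smul_eq_mul, smul_eq_mul, ← mul_assoc, mul_comm (t ^ (Module.finrank k W))⁻¹,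
      ← pow_sub₀ _ ht0 hrN.le, ht, div_mul_cancel₀ _ hj]
  haveI : Algebra.FiniteType k (CoordGrp.SLn (n + 1) k) :=
    Algebra.FiniteType.of_surjective ((CoordGrp.SLn.mk (n + 1) k).comp (CoordGrp.GLn.mk (n + 1) k) :
      MvPolynomial (CoordGrp.GLPoly.Idx (n + 1)) k →ₐ[k] CoordGrp.SLn (n + 1) k) fun y => by
      obtain ⟨y', rfl⟩ : ∃ y', CoordGrp.SLn.mk (n + 1) k y' = y := Ideal.Quotient.mk_surjective y
      obtain ⟨Q, rfl⟩ : ∃ Q, CoordGrp.GLn.mk (n + 1) k Q = y' := Ideal.Quotient.mk_surjective y'
      exact ⟨Q, rfl⟩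
  exact H85.LimitStable.not_isStablePt_of_limit (A := CoordGrp.SLn (n + 1) k) _ g hgmul P hP hinf hst

end Groth.Agent.S18262
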