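import Groth.Statements.S18263
import Groth.Agent.InvQLib.GLnRed

set_option autoImplicit false
universe u
open InvQ

namespace Groth.Agent.S18263

open scoped TensorProduct Nat
open CoordGrp Matrix MvPolynomial

noncomputable section

variable {R : Type*} [CommRing R] {N : ℕ}

/-- the directional derivative -/
def D (p : Fin N → R) : MvPolynomial (Fin N) R →ₗ[R] MvPolynomial (Fin N) R :=
  ∑ j, p j • (pderiv j).toLinearMap

/-- iterated directional derivatives -/
def Ds : List (Fin N → R) → MvPolynomial (Fin N) R →ₗ[R] MvPolynomial (Fin N) R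
  | [] => LinearMap.id
  | p :: ps => Ds ps ∘ₗ D p

/-- the product of linear forms -/
def prodL (ps : List (Fin N → R)) : MvPolynomial (Fin N) R :=
  (ps.map fun p => ∑ j, C (p j) * X j).prod

/-- factorial of an exponent -/
def fac (l : Fin N →₀ ℕ) : ℕ := ∏ i, (l i)!

theorem fac_sub_single (l : Fin N →₀ ℕ) (j : Fin N) (hj : l j ≠ 0) :
    fac (l - Finsupp.single j 1) * l j = fac l := by
  classical
  rw [fac, fac, ← Finset.mul_prod_erase _ _ (Finset.mem_univ j),
    ← Finset.mul_prod_erase Finset.univ (fun i => (l i)!) (Finset.mem_univ j),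
    Finset.prod_congr rfl fun i hi => by
      rw [Finsupp.tsub_apply, Finsupp.single_eq_of_ne (Finset.ne_of_mem_erase hi), tsub_zero]]
  rw [Finsupp.tsub_apply, Finsupp.single_eq_same, mul_right_comm,
    mul_comm (l j - 1)! (l j), Nat.mul_factorial_pred hj]

theorem constantCoeff_Ds (ps : List (Fin N → R)) : ∀ l : Fin N →₀ ℕ,
    constantCoeff (Ds ps (monomial l 1)) = (prodL ps).coeff l * (fac l : R) := by
  classical
  induction ps with
  | nil =>
    intro l
    rw [prodL, List.map_nil, List.prod_nil, coeff_one, Ds, LinearMap.id_apply, constantCoeff_monomial]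
    rcases eq_or_ne l 0 with rfl | h
    · simp [fac]
    · rw [if_neg h, if_neg (Ne.symm h), zero_mul]
  | cons p ps ih =>
    intro l
    have h1 : constantCoeff (Ds (p :: ps) (monomial l 1)) =
        ∑ j, p j * ((l j : R) * ((prodL ps).coeff (l - Finsupp.single j 1) *
          (fac (l - Finsupp.single j 1) : R))) := by
      rw [Ds, LinearMap.comp_apply, D, LinearMap.sum_apply, map_sum, map_sum]
      refine Finset.sum_congr rfl fun j _ => ?_
      rw [LinearMap.smul_apply, Derivation.coeFn_coe, pderiv_monomial, one_mul, map_smul,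
        show monomial (l - Finsupp.single j 1) (l j : R) = (l j : R) • monomial (l - Finsupp.single j 1) 1 by
          rw [smul_monomial, smul_eq_mul, mul_one],
        LinearMap.map_smul, smul_eq_C_mul, smul_eq_C_mul, map_mul, map_mul, constantCoeff_C, constantCoeff_C, ih]
    have h2 : (prodL (p :: ps)).coeff l =
        ∑ j, if j ∈ l.support then p j * (prodL ps).coeff (l - Finsupp.single j 1) else 0 := by
      rw [prodL, List.map_cons, List.prod_cons, Finset.sum_mul, coeff_sum]
      refine Finset.sum_congr rfl fun j _ => ?_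
      rw [mul_assoc, coeff_C_mul, coeff_X_mul', mul_ite, mul_zero]
      rfl
    rw [h1, h2, Finset.sum_mul]
    refine Finset.sum_congr rfl fun j _ => ?_
    by_cases hj : j ∈ l.support
    · rw [if_pos hj, ← fac_sub_single l j (Finsupp.mem_support_iff.mp hj), Nat.cast_mul]; ring
    · rw [if_neg hj, Finsupp.notMem_support_iff.mp hj]; simp

/-- substitution of linear forms by a matrix -/
def σ (g : Matrix (Fin N) (Fin N) R) : MvPolynomial (Fin N) R →ₐ[R] MvPolynomial (Fin N) R :=
  aeval fun i => ∑ j, C (g j i) * X j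

theorem D_σ (g : Matrix (Fin N) (Fin N) R) (p : Fin N → R) (hp : ∀ i, ∑ j, g j i * p j = p i)
    (f : MvPolynomial (Fin N) R) : D p (σ g f) = σ g (D p f) := by
  classical
  induction f using MvPolynomial.induction_on with
  | C r => simp [D, σ]
  | add a b ha hb => simp only [map_add, ha, hb]
  | mul_X a i ha =>
    have hD : ∀ u v : MvPolynomial (Fin N) R, D p (u * v) = D p u * v + u * D p v := fun u v => by
      simp only [D, LinearMap.sum_apply, LinearMap.smul_apply, Derivation.coeFn_coe, Derivation.leibniz,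
        Finset.sum_mul, Finset.mul_sum, ← Finset.sum_add_distrib, smul_eq_mul]
      refine Finset.sum_congr rfl fun j _ => ?_
      rw [smul_add, mul_smul_comm, smul_mul_assoc, add_comm]
      ring
    have hX : D p (X i) = C (p i) := by
      simp [D, Pi.single_apply, pderiv_X, smul_eq_C_mul]
    have hσX : D p (σ g (X i)) = σ g (D p (X i)) := by
      rw [hX, show σ g (C (p i)) = C (p i) from by simp [σ]]
      simp only [σ, aeval_X, ← MvPolynomial.smul_eq_C_mul, map_sum, map_smul]
      have : ∀ j, D p (X j) = C (p j) := fun j => by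
        simp [D, Pi.single_apply, pderiv_X, smul_eq_C_mul]
      simp only [this, smul_eq_C_mul, ← C_mul, ← map_sum, hp]
    rw [map_mul, hD, ha, hσX, hD, map_add, map_mul, map_mul]

theorem Ds_σ (g : Matrix (Fin N) (Fin N) R) (ps : List (Fin N → R))
    (hp : ∀ p ∈ ps, ∀ i, ∑ j, g j i * p j = p i) :
    ∀ f : MvPolynomial (Fin N) R, Ds ps (σ g f) = σ g (Ds ps f) := by
  induction ps with
  | nil => exact fun f => rfl
  | cons p ps ih =>
    intro f
    rw [Ds, LinearMap.comp_apply, LinearMap.comp_apply, D_σ g p (hp p (List.mem_cons_self ..)),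
      ih fun q hq => hp q (List.mem_cons_of_mem _ hq)]

theorem constantCoeff_σ (g : Matrix (Fin N) (Fin N) R) (f : MvPolynomial (Fin N) R) :
    constantCoeff (σ g f) = constantCoeff f := by
  induction f using MvPolynomial.induction_on with
  | C r => simp [σ]
  | add a b ha hb => simp only [map_add, ha, hb]
  | mul_X a i ha => simp [σ]

theorem fac_mul_multinomial (l : Fin N →₀ ℕ) : fac l * l.multinomial = (l.degree)! := by
  rw [Finsupp.multinomial_eq_of_support_subset (s := Finset.univ) (Finset.subset_univ _), fac,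
    Nat.multinomial_spec, Finsupp.degree_apply, ← Finset.sum_subset (Finset.subset_univ l.support)]
  intro i _ hi
  exact Finsupp.notMem_support_iff.mp hi

/-- a transvection fixes the orthogonal of its covector -/
theorem transvec_fix {A : Type*} [CommRing A] (T : A) (w u p : Fin N → A) (h : w ⬝ᵥ p = 0) (i : Fin N) :
    ∑ j, ((1 : Matrix (Fin N) (Fin N) A) + Matrix.of fun j i => T * (w j * u i)) j i * p j = p i := by
  classical
  simp only [Matrix.add_apply, Matrix.one_apply, Matrix.of_apply, add_mul, Finset.sum_add_distrib, ite_mul,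
    one_mul, zero_mul, Finset.sum_ite_eq', Finset.mem_univ, if_true]
  have : ∑ j, T * (w j * u i) * p j = T * u i * (w ⬝ᵥ p) := by
    rw [dotProduct, Finset.mul_sum]
    exact Finset.sum_congr rfl fun j _ => by ring
  rw [this, h, mul_zero, add_zero]

variable {k : Type u} [Field k] {d : ℕ}

/-- a product of linear forms is fixed by matrices fixing all its vectors -/
theorem sum_formCoeff (hd : (d ! : k) ≠ 0) (B : Type u) [CommRing B] [Algebra k B]
    (g : Matrix (Fin N) (Fin N) B) (p : Fin d → Fin N → k)
    (hg : ∀ t i, ∑ j, g j i * algebraMap k B (p t j) = algebraMap k B (p t i))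
    (a : FormIdx N d → k) (ha : formPoly a = ∏ t, ∑ j, C (p t j) * X j) (m : FormIdx N d) :
    ∑ l, algebraMap k B (a l) * Mat.aeval N k g (formCoeff k N d l m) = algebraMap k B (a m) := by
  classical
  let ps : List (Fin N → B) := List.ofFn fun t => fun i => algebraMap k B (p t i)
  have hps : prodL ps = MvPolynomial.map (algebraMap k B) (formPoly a) := by
    rw [ha, map_prod, prodL, List.map_ofFn, List.prod_ofFn]
    refine Finset.prod_congr rfl fun t _ => ?_
    simp [Function.comp]
  have hcoeff : ∀ l : FormIdx N d, (prodL ps).coeff l.1 * (fac l.1 : B) = (d ! : B) * algebraMap k B (a l) := by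
    intro l
    have hd' : (d ! : B) = (fac l.1 : B) * (l.1.multinomial : B) := by
      rw [← Nat.cast_mul, fac_mul_multinomial, l.2]
    rw [hps, coeff_map, coeff_formPoly, map_mul, map_natCast, hd']
    ring
  let L : MvPolynomial (Fin N) k ⊗[k] Mat N k →ₐ[k] MvPolynomial (Fin N) B :=
    Algebra.TensorProduct.lift (MvPolynomial.mapAlgHom (Algebra.ofId k B))
      (((IsScalarTower.toAlgHom k B (MvPolynomial (Fin N) B))).comp (Mat.aeval N k g)) fun _ _ => Commute.all _ _
  have hL : ∀ f, L (stdCoactAlg N k f) = σ g (MvPolynomial.map (algebraMap k B) f) := by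
    refine AlgHom.congr_fun (φ₁ := L.comp (stdCoactAlg N k))
      (φ₂ := ((σ g).restrictScalars k).comp (MvPolynomial.mapAlgHom (Algebra.ofId k B))) (algHom_ext fun i => ?_)
    simp [L, σ, stdCoactAlg_X, Mat.aeval_X, mul_comm]
  have hexp : σ g (monomial m.1 1) =
      ∑ l : FormIdx N d, Mat.aeval N k g (formCoeff k N d l m) • monomial l.1 (1 : B) := by
    have h := hL (monomial m.1 1)
    rw [MvPolynomial.map_monomial, (algebraMap k B).map_one, stdCoactAlg_monomial_expand, map_sum] at h
    rw [← h]
    refine Finset.sum_congr rfl fun l _ => ?_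
    rw [Algebra.TensorProduct.lift_tmul, AlgHom.comp_apply, smul_eq_C_mul]
    simp [mul_comm]
  have key : constantCoeff (Ds ps (σ g (monomial m.1 1))) = constantCoeff (Ds ps (monomial m.1 1)) := by
    rw [Ds_σ g ps ?_, constantCoeff_σ]
    intro q hq i
    obtain ⟨t, rfl⟩ := List.mem_ofFn.mp hq
    exact hg t i
  rw [hexp, map_sum, map_sum, constantCoeff_Ds, hcoeff] at key
  simp only [map_smul, constantCoeff_smul, constantCoeff_Ds, hcoeff, smul_eq_mul] at key
  have hu : IsUnit (d ! : B) := by
    have := (isUnit_iff_ne_zero.mpr hd).map (algebraMap k B)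
    rwa [map_natCast] at this
  apply hu.mul_left_cancel
  rw [← key, Finset.mul_sum]
  exact Finset.sum_congr rfl fun l _ => by ring

end

/-- Let k be an algebraically closed field in which m! is non-zero, n ≥ 1 and m ≤ n natural numbers, and
p_1, …, p_m non-zero vectors of k^(n+1), an ordered configuration of m points of projective n-space,
encoded by the product π = ∏_i (Σ_j p_i,j x_j) of its linear forms, on which the special linear
group SL(n+1) acts by substitution; let a be the point of the affine space of degree-m forms in n +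
1 variables whose form is π. Then a is not stable for SL(n+1): a configuration of at most n points
of projective n-space is never stable. (The case n = 0 is excluded: there the group is trivial and
the empty configuration is stable. The published statement allows any characteristic; this row
assumes m! non-zero in k, as the space of forms used here requires.) -/
theorem result (k : Type u) [Field k] [IsAlgClosed k] (n m : ℕ) (hn : 1 ≤ n) (hmn : m ≤ n)
    (hm : (Nat.factorial m : k) ≠ 0) (p : Fin m → Fin (n + 1) → k) (hp : ∀ i, p i ≠ 0)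
    (a : CoordGrp.FormIdx (n + 1) m → k)
    (ha : CoordGrp.formPoly a = ∏ i, ∑ j, MvPolynomial.C (p i j) * MvPolynomial.X j) :
    ¬ @GLin.IsStableVec k _ (CoordGrp.SLn (n + 1) k) _ _ (CoordGrp.FormIdx (n + 1) m)
      (GLin.comodAlong ((CoordGrp.SLn.mkHom (n + 1) k).comp (CoordGrp.Mat.toGLn (n + 1) k)) (CoordGrp.formsCoact k (n + 1) m))
      (GLin.isCoactAlg_comodAlong ((CoordGrp.SLn.mkHom (n + 1) k).comp (CoordGrp.Mat.toGLn (n + 1) k)) (CoordGrp.formsCoact k (n + 1) m) (CoordGrp.formsCoact_isCoactAlg k (n + 1) m)) a := by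
  classical
  letI c := GLin.comodAlong ((CoordGrp.SLn.mkHom (n + 1) k).comp (CoordGrp.Mat.toGLn (n + 1) k)) (CoordGrp.formsCoact k (n + 1) m)
  letI hc := GLin.isCoactAlg_comodAlong ((CoordGrp.SLn.mkHom (n + 1) k).comp (CoordGrp.Mat.toGLn (n + 1) k)) (CoordGrp.formsCoact k (n + 1) m) (CoordGrp.formsCoact_isCoactAlg k (n + 1) m)
  intro hst
  obtain ⟨-, hfin⟩ := hst
  -- a vector orthogonal to all the points
  obtain ⟨w, hw, hw0⟩ : ∃ w : Fin (n + 1) → k, (∀ i, p i ⬝ᵥ w = 0) ∧ w ≠ 0 := by
    have h := LinearMap.ker_ne_bot_of_finrank_lt (f := Matrix.mulVecLin (Matrix.of p)) (by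
      rw [Module.finrank_fin_fun, Module.finrank_fin_fun]; omega)
    obtain ⟨w, hw, hw0⟩ := Submodule.exists_mem_ne_zero_of_ne_bot h
    exact ⟨w, fun i => congrFun hw i, hw0⟩
  obtain ⟨u, hu, hu0⟩ : ∃ u : Fin (n + 1) → k, w ⬝ᵥ u = 0 ∧ u ≠ 0 := by
    have h := LinearMap.ker_ne_bot_of_finrank_lt (f := Matrix.mulVecLin (Matrix.of fun _ : Fin 1 => w)) (by
      rw [Module.finrank_fin_fun, Module.finrank_fin_fun]; omega)
    obtain ⟨u, hu, hu0⟩ := Submodule.exists_mem_ne_zero_of_ne_bot h
    exact ⟨u, congrFun hu 0, hu0⟩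
  let B := Polynomial k
  let g : Matrix (Fin (n + 1)) (Fin (n + 1)) B :=
    1 + Matrix.of fun j i => Polynomial.X * Polynomial.C (w j * u i)
  have hdet : g.det = 1 := by
    have hg : g = 1 + Matrix.replicateCol Unit (fun j => Polynomial.X * Polynomial.C (w j)) *
        Matrix.replicateRow Unit (fun i => Polynomial.C (u i)) := by
      refine Matrix.ext fun j i => ?_
      simp only [g, Matrix.add_apply, Matrix.mul_apply, Matrix.replicateCol_apply, Matrix.replicateRow_apply,
        Finset.univ_unique, Finset.sum_singleton, Matrix.of_apply, map_mul, mul_assoc]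
    rw [hg, Matrix.det_one_add_replicateCol_mul_replicateRow, dotProduct]
    have : ∑ i, Polynomial.C (u i) * (Polynomial.X * Polynomial.C (w i)) =
        Polynomial.X * Polynomial.C (w ⬝ᵥ u) := by
      rw [dotProduct, map_sum, Finset.mul_sum]
      exact Finset.sum_congr rfl fun i _ => by rw [map_mul]; ring
    rw [this, hu, map_zero, mul_zero, add_zero]
  have hrel : ∀ x ∈ GLb.relIdeal (n + 1) k, GLb.aeval (n + 1) k g 1 x = 0 := by
    intro x hx
    obtain ⟨b, rfl⟩ := Ideal.mem_span_singleton'.mp hx
    rw [map_mul, show GLb.aeval (n + 1) k g 1 (GLb.rel (n + 1) k) = 0 from ?_, mul_zero]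
    rw [GLb.rel, map_sub, map_mul, map_one, GLb.det, AlgHom.map_det, GLb.aeval_mapMatrix_genMat,
      GLb.aeval_D, hdet, one_mul, sub_self]
  let γ : GLn (n + 1) k →ₐ[k] B := Ideal.Quotient.liftₐ (GLb.relIdeal (n + 1) k) (GLb.aeval (n + 1) k g 1) hrel
  have hγX : ∀ i j, γ (GLn.X i j) = g i j := fun i j => GLb.aeval_X g _ i j
  have hγdet : γ GLn.det = 1 := by
    change GLb.aeval (n + 1) k g 1 (GLb.det (n + 1) k) = _
    rw [GLb.det, AlgHom.map_det, GLb.aeval_mapMatrix_genMat, hdet]
  let φs : SLn (n + 1) k →ₐ[k] B := Ideal.Quotient.liftₐ (GLn.slIdeal (n + 1) k) γ (by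
    intro x hx
    obtain ⟨b, rfl⟩ := Ideal.mem_span_singleton'.mp hx
    rw [map_mul, GLn.slRel, map_sub, map_one, hγdet, sub_self, mul_zero])
  have hφsX : ∀ i j, φs (SLn.X i j) = g i j := fun i j => hγX i j
  have hφsmat : (φs.comp (SLn.mk (n + 1) k)).comp (Mat.toGLn (n + 1) k : Mat (n + 1) k →ₐ[k] GLn (n + 1) k) =
      Mat.aeval (n + 1) k g := by
    refine Mat.algHom_ext fun i j => ?_
    rw [Mat.aeval_X]
    change φs (SLn.mk (n + 1) k (Mat.aeval (n + 1) k (GLn.genMat (n + 1) k) (Mat.X i j))) = _
    rw [Mat.aeval_X]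
    exact hφsX i j
  have hgp : ∀ (t : Fin m) (i : Fin (n + 1)), ∑ j, g j i * algebraMap k B (p t j) = algebraMap k B (p t i) := by
    intro t i
    have hg : g = 1 + Matrix.of fun j i => (Polynomial.X : B) * (Polynomial.C (w j) * Polynomial.C (u i)) := by
      refine Matrix.ext fun j i => ?_
      simp only [g, Matrix.add_apply, Matrix.of_apply, map_mul]
    rw [hg]
    refine transvec_fix (Polynomial.X : B) (fun j => Polynomial.C (w j)) (fun i => Polynomial.C (u i))
      (fun j => algebraMap k B (p t j)) ?_ i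
    have h0 : Polynomial.C (p t ⬝ᵥ w) = (0 : B) := by rw [hw t, map_zero]
    rw [dotProduct, map_sum] at h0
    rw [dotProduct]
    refine Eq.trans (Finset.sum_congr rfl fun j _ => ?_) h0
    rw [map_mul, mul_comm, Polynomial.algebraMap_eq]
  have hfix : φs.comp (GLin.orbitHom k (SLn (n + 1) k) (GLin.vecPt k (FormIdx (n + 1) m) a)) =
      (Algebra.ofId k B).comp (GLin.vecPt k (FormIdx (n + 1) m) a) := by
    refine MvPolynomial.algHom_ext fun l => ?_
    have e : GLin.coactAlgHom k (SLn (n + 1) k) (FormRing k (n + 1) m) (X l) =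
        TensorProduct.map LinearMap.id
          (((CoordGrp.SLn.mkHom (n + 1) k).comp (CoordGrp.Mat.toGLn (n + 1) k) : Mat (n + 1) k →ₐc[k] SLn (n + 1) k)
            : Mat (n + 1) k →ₗ[k] SLn (n + 1) k) (formsCoactAlg k (n + 1) m (X l)) := rfl
    simp only [AlgHom.comp_apply, GLin.orbitHom, e, formsCoactAlg_X, map_sum, TensorProduct.map_tmul]
    refine Eq.trans ?_ ((sum_formCoeff hm B g p ?_ a ha l).trans ?_)
    · refine Finset.sum_congr rfl fun q _ => ?_
      rw [← hφsmat]
      simp [GLin.vecPt, Algebra.smul_def]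
      exact Or.inl rfl
    · exact hgp
    · simp [GLin.vecPt]
  have hker : GLin.stabIdeal k (SLn (n + 1) k) (GLin.vecPt k (FormIdx (n + 1) m) a) ≤ RingHom.ker φs := by
    refine Ideal.map_le_iff_le_comap.mpr fun f hf => ?_
    have := AlgHom.congr_fun hfix f
    simp only [AlgHom.comp_apply] at this
    rw [Ideal.mem_comap, RingHom.mem_ker, this, RingHom.mem_ker.mp hf, map_zero]
  haveI : Module.Finite k (SLn (n + 1) k ⧸ GLin.stabIdeal k (SLn (n + 1) k) (GLin.vecPt k (FormIdx (n + 1) m) a)) := hfin
  let ψ : (SLn (n + 1) k ⧸ GLin.stabIdeal k (SLn (n + 1) k) (GLin.vecPt k (FormIdx (n + 1) m) a)) →ₐ[k] B :=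
    Ideal.Quotient.liftₐ _ φs fun x hx => hker hx
  have hsurj : Function.Surjective φs := by
    obtain ⟨j, hj⟩ := Function.ne_iff.mp hw0
    obtain ⟨i, hi⟩ := Function.ne_iff.mp hu0
    have h1 : (Polynomial.X : B) ∈ φs.range := by
      refine ⟨(w j * u i)⁻¹ • (SLn.X j i - if j = i then 1 else 0), ?_⟩
      change φs _ = _
      rw [map_smul, map_sub, hφsX]
      have : φs (if j = i then (1 : SLn (n + 1) k) else 0) = if j = i then 1 else 0 := by split_ifs <;> simp
      rw [this]
      simp only [g, Matrix.add_apply, Matrix.one_apply, Matrix.of_apply, add_sub_cancel_left]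
      rw [Polynomial.smul_eq_C_mul, mul_left_comm, ← map_mul, inv_mul_cancel₀ (mul_ne_zero hj hi), map_one, mul_one]
    intro y
    have : y ∈ φs.range := by
      rw [← Polynomial.aeval_X_left_apply y]
      exact (Algebra.adjoin_le (Set.singleton_subset_iff.mpr h1) : Algebra.adjoin k {(Polynomial.X : B)} ≤ φs.range)
        (Polynomial.aeval_mem_adjoin_singleton k Polynomial.X)
    exact this
  have : Module.Finite k B := Module.Finite.of_surjective ψ.toLinearMap fun y => by
    obtain ⟨x, rfl⟩ := hsurj y
    exact ⟨Ideal.Quotient.mk _ x, rfl⟩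
  exact Polynomial.not_finite (R := k) this

end Groth.Agent.S18263
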