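import Groth.Statements.S18265
import Mathlib

set_option autoImplicit false
universe u
open InvQ

namespace Groth.Agent.S18265

theorem isIntegrallyClosed_fixed {k : Type u} [Field k] {σ : Type*} (S : Subalgebra k (MvPolynomial σ k))
    {ι : Type*} (φ : ι → MvPolynomial σ k →ₐ[k] MvPolynomial σ k)
    (hS : ∀ x, x ∈ S ↔ ∀ i, φ i x = x) : IsIntegrallyClosed S := by
  refine (isIntegrallyClosed_iff (FractionRing S)).mpr fun {x} hx => ?_
  obtain ⟨a, b, hb, rfl⟩ := IsFractionRing.div_surjective (A := S) x
  have hb0 : (b : MvPolynomial σ k) ≠ 0 := fun h => nonZeroDivisors.ne_zero hb (Subtype.ext h)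
  let L := FractionRing (MvPolynomial σ k)
  have hinj : Function.Injective (S.val : S →+* MvPolynomial σ k) := Subtype.val_injective
  let ψ : FractionRing S →+* FractionRing (MvPolynomial σ k) :=
    IsFractionRing.lift (g := (algebraMap (MvPolynomial σ k) (FractionRing (MvPolynomial σ k))).comp (S.val : S →+* MvPolynomial σ k))
      ((IsFractionRing.injective (MvPolynomial σ k) _).comp hinj)
  obtain ⟨q, hq, hqx⟩ := hx
  have hint : IsIntegral (MvPolynomial σ k)
      (algebraMap (MvPolynomial σ k) (FractionRing (MvPolynomial σ k)) (a : MvPolynomial σ k) /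
        algebraMap (MvPolynomial σ k) (FractionRing (MvPolynomial σ k)) (b : MvPolynomial σ k)) := by
    refine ⟨q.map (S.val : S →+* MvPolynomial σ k), hq.map _, ?_⟩
    have h1 := congrArg ψ hqx
    rw [map_zero, Polynomial.hom_eval₂] at h1
    rw [Polynomial.eval₂_map]
    have e1 : ψ.comp (algebraMap S (FractionRing S)) =
        (algebraMap (MvPolynomial σ k) (FractionRing (MvPolynomial σ k))).comp (S.val : S →+* MvPolynomial σ k) := by
      ext s; simp [ψ, IsFractionRing.lift_algebraMap]
    rw [e1] at h1
    rw [map_div₀] at h1
    simp only [ψ, IsFractionRing.lift_algebraMap] at h1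
    exact h1
  obtain ⟨y, hy⟩ := IsIntegrallyClosed.algebraMap_eq_of_integral hint
  have hmul : (b : MvPolynomial σ k) * y = a := by
    apply IsFractionRing.injective (MvPolynomial σ k) (FractionRing (MvPolynomial σ k))
    rw [map_mul, hy, mul_div_cancel₀ _ (by simpa using hb0)]
  have hyS : y ∈ S := by
    rw [hS]
    intro i
    apply mul_left_cancel₀ hb0
    conv_lhs => rw [← (hS _).mp b.2 i, ← map_mul, hmul, (hS _).mp a.2 i, ← hmul]
  refine ⟨⟨y, hyS⟩, ?_⟩
  rw [eq_div_iff (IsFractionRing.to_map_ne_zero_of_mem_nonZeroDivisors hb), ← map_mul]
  congr 1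
  exact Subtype.ext (by rw [mul_comm] at hmul; exact hmul)

/-- Let k be an algebraically closed field and n, m natural numbers, and let R be the ring of polynomial
functions of m vectors of k^(n+1) invariant under the special linear group SL(n+1, k) acting on all
the vectors at once and under the rescalings of the individual vectors by units with product 1
(equivalently: invariant and homogeneous of one and the same degree in each vector) — the graded
ring of invariant sections whose Proj is the quotient variety of ordered m-point sets in projective
n-space. Then R is integrally closed in its field of fractions; hence that quotient variety is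
normal. (Only the normality assertion of the source's statement is given here; its dimension,
rationality and singular-locus assertions are not.) -/
theorem result (k : Type u) [Field k] [IsAlgClosed k] (n m : ℕ) :
    IsIntegrallyClosed (W4c5pointsetsdelpezzo.invRing k n m) := by
  refine isIntegrallyClosed_fixed (W4c5pointsetsdelpezzo.invRing k n m)
    (Sum.elim (W4c5pointsetsdelpezzo.slSubst k n m)
      (fun s : {s : Fin m → kˣ // ∏ i, s i = 1} => W4c5pointsetsdelpezzo.colScale k n m s.1)) fun x => ?_
  simp [W4c5pointsetsdelpezzo.invRing, Algebra.mem_inf, Algebra.mem_iInf, AlgHom.mem_equalizer]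

end Groth.Agent.S18265
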