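import Groth.Statements.S18266
import Groth.Agent.FDesc.GenericClosure
import Groth.Agent.FlatMor.SchDom
import Mathlib.RingTheory.DedekindDomain.Dvr

set_option autoImplicit false
universe u
open CategoryTheory AlgebraicGeometry
open FDesc

namespace Groth.Agent.S18266

/-- Let A be a discrete valuation ring, η the generic point of Spec A, and f : X → Spec A a morphism
from an arbitrary scheme X. The scheme-theoretic closure of the generic fibre X_η in X (the flat
completion) is flat over Spec A, and it is the largest closed subscheme of X flat over Spec A: for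
every closed immersion i : Z → X with Z flat over Spec A, the ideal sheaf of the flat completion is
contained in the ideal sheaf of i. -/
theorem result (A : Type u) [CommRing A] [IsDomain A]
    [IsDiscreteValuationRing A] {X : Scheme.{u}} (f : X ⟶ Spec (CommRingCat.of A))
    (η : ↥(Spec (CommRingCat.of A))) (hη : η.asIdeal = ⊥) :
    Flat ((f.fiberι η).imageι ≫ f) ∧
      ∀ (Z : Scheme.{u}) (i : Z ⟶ X), IsClosedImmersion i → Flat (i ≫ f) → (f.fiberι η).ker ≤ i.ker := by
  have hY : ∀ y : Spec (CommRingCat.of A), IsRegularLocalRing ((Spec (CommRingCat.of A)).presheaf.stalk y) ∧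
      ringKrullDim ((Spec (CommRingCat.of A)).presheaf.stalk y) ≤ 1 := by
    intro y
    let e : Localization.AtPrime y.asIdeal ≃+* (Spec (CommRingCat.of A)).presheaf.stalk y :=
      (IsLocalization.algEquiv y.asIdeal.primeCompl (Localization.AtPrime y.asIdeal)
        ((Spec.structureSheaf A).presheaf.stalk y)).toRingEquiv
    have hd : ringKrullDim (Localization.AtPrime y.asIdeal) ≤ 1 := by
      rw [IsLocalization.AtPrime.ringKrullDim_eq_height y.asIdeal]
      exact (Ideal.height_le_ringKrullDim_of_ne_top y.isPrime.ne_top).trans
        (IsPrincipalIdealRing.ringKrullDim_eq_one A (IsDiscreteValuationRing.not_isField A)).le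
    have key : ∀ (P : Ideal A) [P.IsPrime], IsRegularLocalRing (Localization.AtPrime P) := by
      intro P hP
      by_cases h0 : P = ⊥
      · subst h0
        have : IsDomain (Localization.AtPrime (⊥ : Ideal A)) :=
          IsLocalization.isDomain_of_le_nonZeroDivisors (Localization.AtPrime (⊥ : Ideal A)) (⊥ : Ideal A).primeCompl_le_nonZeroDivisors
        have hm : IsLocalRing.maximalIdeal (Localization.AtPrime (⊥ : Ideal A)) = ⊥ := by
          rw [← Localization.AtPrime.map_eq_maximalIdeal, Ideal.map_bot]
        let := (IsLocalRing.isField_iff_maximalIdeal_eq.mpr hm).toField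
        infer_instance
      · have : IsDiscreteValuationRing (Localization.AtPrime P) :=
          IsLocalization.AtPrime.isDiscreteValuationRing_of_dedekind_domain A h0 _
        exact ((Groth.Agent.RegLoc.Completion.exists_isDiscreteValuationRing_iff _).mp
          ⟨inferInstance, inferInstance⟩).1
    have hr : IsRegularLocalRing (Localization.AtPrime y.asIdeal) := key y.asIdeal
    exact ⟨IsRegularLocalRing.of_ringEquiv e, e.symm.ringKrullDim.trans_le hd⟩
  obtain rfl : η = genericPoint (Spec (CommRingCat.of A)) := by
    refine (IsGenericPoint.eq ?_ (genericPoint_spec _))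
    rw [isGenericPoint_iff_specializes]
    intro y
    simp only [Set.mem_univ, iff_true]
    refine (PrimeSpectrum.le_iff_specializes η y).mp ?_
    change η.asIdeal ≤ y.asIdeal
    rw [hη]
    exact bot_le
  have := Groth.Agent.FDesc.GenericClosure.quasiCompact_fromSpecResidueField
    (Y := Spec (CommRingCat.of A)) (genericPoint (Spec (CommRingCat.of A)))
  let ι := f.fiberι (genericPoint (Spec (CommRingCat.of A)))
  have : QuasiCompact ι := MorphismProperty.pullback_fst (P := @QuasiCompact) _ _ inferInstance
  refine ⟨?_, fun Z i _ hfl => ?_⟩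
  · have hw : IsSchemeTheoreticallyDominant ι.toImage :=
      Groth.Agent.FlatMor.SchDom.toImage_dominant _ (Or.inl inferInstance)
    have : QuasiCompact ι.toImage := by
      have : QuasiCompact (ι.toImage ≫ ι.imageι) := by rw [ι.toImage_imageι]; infer_instance
      exact QuasiCompact.of_comp ι.toImage ι.imageι
    refine Groth.Agent.FDesc.GenericClosure.flat_of_schemeTheoreticallyDominant hY _ ι.toImage fun a => ?_
    rw [← Scheme.Hom.comp_apply, ← Category.assoc, ι.toImage_imageι, Scheme.Hom.comp_apply,
      ← Set.mem_singleton_iff, ← Scheme.range_fromSpecResidueField]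
    exact ⟨_, (congr($(f.fiber_fac _) a)).symm⟩
  · rw [Groth.Agent.FDesc.GenericClosure.ker_eq_of_flat f (Limits.pullback.snd i ι) i _
      (IsPullback.of_hasPullback i ι)]
    exact Scheme.Hom.le_ker_comp _ _

end Groth.Agent.S18266
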