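import Groth.Statements.S18268
import Groth.Agent.CycLib.SpecPt
import Mathlib.AlgebraicGeometry.AlgClosed.Basic
import Mathlib.Analysis.Complex.Polynomial.Basic
import Mathlib.RingTheory.Artinian.Module
import Mathlib.RingTheory.HopkinsLevitzki

set_option autoImplicit false
open CategoryTheory CategoryTheory.Limits AlgebraicGeometry
open ZCorr

namespace Groth.Agent.S18268

/-- Over the complex numbers let W be a smooth irreducible quasi-projective variety of dimension n, X a
smooth irreducible projective variety and Γ an n-cycle on X × W, viewed as a correspondence from W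
to X, with no vertical component (every point of the support of Γ maps to the generic point of W).
If there is a nonempty open U ⊂ W over whose points the closures of the support points of Γ have
finite fibres, and such that for every complex point u of U the fibre cycle Γ_u on X vanishes, then
Γ = 0. Here Γ_u is the sum, over the support points ξ of Γ with coefficient Γ(ξ), of the fundamental
cycles of the scheme-theoretic fibres over u of the closures of ξ, read on X (the cycle-level fibre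
of the family at u; it agrees with the refined intersection of Γ with X × {u} where the components
are flat over u and has the same support wherever they are finite over u). -/
theorem result
    (W X : Scheme.{0}) [W.Over (Spec (CommRingCat.of ℂ))] [X.Over (Spec (CommRingCat.of ℂ))]
    [AlgebraicGeometry.IsIntegral W] [Smooth (W ↘ Spec (CommRingCat.of ℂ))] (hW : RelProj.IsHQuasiProjective (W ↘ Spec (CommRingCat.of ℂ)))
    (n : ℕ) (hdimW : topologicalKrullDim W = n)
    [AlgebraicGeometry.IsIntegral X] [Smooth (X ↘ Spec (CommRingCat.of ℂ))] (hX : RelProj.IsHProjective (X ↘ Spec (CommRingCat.of ℂ)))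
    (δ : ↥(pullback (X ↘ Spec (CommRingCat.of ℂ)) (W ↘ Spec (CommRingCat.of ℂ))) → ℤ)
    (hδ : Cyc.DeltaCompat (pullback.fst (X ↘ Spec (CommRingCat.of ℂ)) (W ↘ Spec (CommRingCat.of ℂ)) ≫ (X ↘ Spec (CommRingCat.of ℂ))) δ (fun _ => 0))
    (Γ : AlgebraicCycle (pullback (X ↘ Spec (CommRingCat.of ℂ)) (W ↘ Spec (CommRingCat.of ℂ))) ℤ)
    (hΓ : Γ ∈ Cyc.Zk (pullback (X ↘ Spec (CommRingCat.of ℂ)) (W ↘ Spec (CommRingCat.of ℂ))) δ n)
    (hvert : ∀ ξ, Γ ξ ≠ 0 → pullback.snd (X ↘ Spec (CommRingCat.of ℂ)) (W ↘ Spec (CommRingCat.of ℂ)) ξ = genericPoint W)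
    (U : W.Opens) (hU : (U : Set W).Nonempty)
    (hfin : ∀ ξ, Γ ξ ≠ 0 → ∀ w ∈ U,
      (closure {ξ} ∩ pullback.snd (X ↘ Spec (CommRingCat.of ℂ)) (W ↘ Spec (CommRingCat.of ℂ)) ⁻¹' {w}).Finite)
    (hzero : ∀ (u : Spec (CommRingCat.of ℂ) ⟶ W) (hu : u ≫ (W ↘ Spec (CommRingCat.of ℂ)) = 𝟙 _),
      u (IsLocalRing.closedPoint ℂ) ∈ U →
        ∀ x : X, AlgEqCyc.fibreFun (X ↘ Spec (CommRingCat.of ℂ)) (W ↘ Spec (CommRingCat.of ℂ)) Γ u hu x = 0) :
    Γ = 0 := by
  let pX := X ↘ Spec (CommRingCat.of ℂ)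
  let qW := W ↘ Spec (CommRingCat.of ℂ)
  haveI : LocallyOfFiniteType (pullback.snd pX qW ≫ qW) := inferInstance
  haveI : JacobsonSpace ↥(pullback pX qW) :=
    LocallyOfFiniteType.jacobsonSpace (pullback.snd pX qW ≫ qW)
  haveI : IsLocallyNoetherian (pullback pX qW) :=
    LocallyOfFiniteType.isLocallyNoetherian (pullback.snd pX qW ≫ qW)
  ext ξ₁
  by_contra hne
  change Γ ξ₁ ≠ 0 at hne
  obtain ⟨t, ht, htfin⟩ := Γ.supportLocallyFiniteWithinDomain ξ₁ (by trivial)
  obtain ⟨V, hVt, hVo, hξ₁⟩ := mem_nhds_iff.1 ht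
  have hfinS : (V ∩ {w | Γ w ≠ 0}).Finite := htfin.subset (Set.inter_subset_inter_left _ hVt)
  -- a support point with no other support point generalizing it
  obtain ⟨ξ, ⟨hξV, hξ⟩, hmin⟩ : ∃ ξ ∈ V ∩ {w | Γ w ≠ 0},
      ∀ w ∈ V ∩ {w | Γ w ≠ 0}, w ⤳ ξ → w = ξ := by
    letI := specializationOrder ↥(pullback pX qW)
    obtain ⟨ξ, hξ⟩ := hfinS.exists_maximal ⟨ξ₁, hξ₁, hne⟩
    exact ⟨ξ, hξ.prop, fun w hw hws => (hξ.eq_of_ge hw hws)⟩
  let Z : Set ↥(pullback pX qW) :=
    closure {ξ} ∩ (V ∩ (pullback.snd pX qW) ⁻¹' (U : Set W) ∩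
      (⋃ w ∈ (V ∩ {w | Γ w ≠ 0}) \ {ξ}, closure {w})ᶜ)
  have hO : IsOpen (V ∩ (pullback.snd pX qW) ⁻¹' (U : Set W) ∩
      (⋃ w ∈ (V ∩ {w | Γ w ≠ 0}) \ {ξ}, closure {w})ᶜ) :=
    (hVo.inter (U.2.preimage (pullback.snd pX qW).continuous)).inter
      ((hfinS.sdiff).isClosed_biUnion fun w _ => isClosed_closure).isOpen_compl
  have hξZ : ξ ∈ Z := by
    refine ⟨subset_closure rfl, ⟨hξV, ?_⟩, ?_⟩
    · show pullback.snd pX qW ξ ∈ U
      rw [hvert ξ hξ]
      exact ((genericPoint_spec W).mem_open_set_iff U.2).2 (by simpa using hU)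
    · intro hmem
      obtain ⟨w, ⟨hw, hwξ⟩, hw'⟩ := Set.mem_iUnion₂.1 hmem
      exact hwξ (hmin w hw (specializes_iff_mem_closure.2 hw'))
  obtain ⟨z, ⟨hzξ, ⟨hzV, hzU⟩, hzother⟩, hzc⟩ := nonempty_inter_closedPoints (Z := Z) ⟨ξ, hξZ⟩
    (isClosed_closure.isLocallyClosed.inter hO.isLocallyClosed)
  -- the rational point through `z`
  let T := (pointEquivClosedPoint (pullback.snd pX qW ≫ qW)).symm ⟨z, hzc⟩
  have hTz : T.1 (IsLocalRing.closedPoint ℂ) = z :=
    congrArg Subtype.val ((pointEquivClosedPoint (pullback.snd pX qW ≫ qW)).apply_symm_apply ⟨z, hzc⟩)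
  let u : Spec (CommRingCat.of ℂ) ⟶ W := T.1 ≫ pullback.snd pX qW
  have hu : u ≫ qW = 𝟙 _ := (Category.assoc _ _ _).trans T.2
  have hap : (T.1 ≫ pullback.fst pX qW) ≫ pX = 𝟙 _ := by
    rw [Category.assoc, pullback.condition]
    exact T.2
  let x : X := (T.1 ≫ pullback.fst pX qW) (IsLocalRing.closedPoint ℂ)
  have hslice : AlgEqCyc.slice pX qW u hu x = z := by
    have h : (T.1 ≫ pullback.fst pX qW) ≫ AlgEqCyc.slice pX qW u hu = T.1 := by
      apply pullback.hom_ext
      · simp only [AlgEqCyc.slice, Category.assoc]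
        erw [pullback.lift_fst, Category.comp_id]
      · simp only [AlgEqCyc.slice, Category.assoc, pullback.lift_snd]
        rw [← Category.assoc (pullback.fst pX qW), ← Category.assoc T.1, ← Category.assoc T.1, hap,
          Category.id_comp]
    rw [← Scheme.Hom.comp_apply, h]
    exact hTz
  have huU : u (IsLocalRing.closedPoint ℂ) ∈ U := by
    rw [Scheme.Hom.comp_apply, hTz]
    exact hzU
  have hsum := hzero u hu huU x
  have hξz : ξ ⤳ AlgEqCyc.slice pX qW u hu x := by
    rw [hslice]; exact specializes_iff_mem_closure.2 hzξ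
  haveI : Subsingleton {w : ↥(pullback pX qW) // Γ w ≠ 0 ∧ w ⤳ AlgEqCyc.slice pX qW u hu x} := by
    suffices H : ∀ w : {w : ↥(pullback pX qW) // Γ w ≠ 0 ∧ w ⤳ AlgEqCyc.slice pX qW u hu x}, w.1 = ξ from
      ⟨fun a b => Subtype.ext ((H a).trans (H b).symm)⟩
    rintro ⟨w, hw, hwz⟩
    rw [hslice] at hwz
    by_contra hne'
    exact hzother (Set.mem_biUnion ⟨⟨hwz.mem_open hVo hzV, hw⟩, hne'⟩
      (specializes_iff_mem_closure.1 hwz))
  rw [AlgEqCyc.fibreFun, finsum_eq_single _ ⟨ξ, hξ, hξz⟩ (fun b hb => absurd (Subsingleton.elim b _) hb)] at hsum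
  rcases mul_eq_zero.1 hsum with h0 | h0
  · exact hξ h0
  -- the multiplicity is positive
  revert h0
  rw [imp_false, Nat.cast_eq_zero]
  clear hsum
  set z' := AlgEqCyc.slice pX qW u hu x with hz'
  have hzU' : pullback.snd pX qW z' ∈ U := by rw [hslice]; exact hzU
  unfold AlgEqCyc.fibreMult
  let J := (IsLocalRing.maximalIdeal (W.presheaf.stalk (pullback.snd pX qW z'))).map
    ((Ideal.Quotient.mk (RingHom.ker (Cyc.specMap z' ξ hξz))).comp ((pullback.snd pX qW).stalkMap z').hom)
  let mI := IsLocalRing.maximalIdeal ((pullback pX qW).presheaf.stalk z')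
  have hker : RingHom.ker (Cyc.specMap z' ξ hξz) ≤ mI :=
    IsLocalRing.le_maximalIdeal (RingHom.ker_ne_top _)
  have hJ : J ≠ ⊤ := by
    intro htop
    have h1 : mI.map (Ideal.Quotient.mk (RingHom.ker (Cyc.specMap z' ξ hξz))) = ⊤ := by
      refine top_le_iff.1 (htop.symm.le.trans ?_)
      simp only [J, ← Ideal.map_map]
      exact Ideal.map_mono (((IsLocalRing.local_hom_TFAE ((pullback.snd pX qW).stalkMap z').hom).out 0 2 rfl rfl).1
        (inferInstanceAs (IsLocalHom ((pullback.snd pX qW).stalkMap z').hom)))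
    have h2 := congrArg (Ideal.comap (Ideal.Quotient.mk (RingHom.ker (Cyc.specMap z' ξ hξz)))) h1
    rw [Ideal.comap_map_of_surjective _ Ideal.Quotient.mk_surjective, Ideal.comap_top,
      ← RingHom.ker_eq_comap_bot, Ideal.mk_ker, sup_eq_left.2 hker] at h2
    exact (IsLocalRing.maximalIdeal.isMaximal _).ne_top h2
  let M := Cyc.LocQuot z' ξ hξz ⧸ J
  let π : (pullback pX qW).presheaf.stalk z' →+* M :=
    (Ideal.Quotient.mk J).comp (Ideal.Quotient.mk _)
  have hπ : Function.Surjective π := Ideal.Quotient.mk_surjective.comp Ideal.Quotient.mk_surjective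
  haveI : Nontrivial M := Ideal.Quotient.nontrivial_iff.2 hJ
  haveI : IsNoetherianRing M := isNoetherianRing_of_surjective _ _ π hπ
  haveI : Ring.KrullDimLE 0 M := by
    refine Ring.krullDimLE_zero_iff.2 fun Q hQ => ?_
    obtain ⟨y, hy, hyQ⟩ := Groth.Agent.CycLib.exists_ptPrime z' ⟨Q.comap π, inferInstance⟩
    have hQc : RingHom.ker (Cyc.specMap z' y hy) = Q.comap π := congrArg PrimeSpectrum.asIdeal hyQ
    have hξy : ξ ⤳ y := (Groth.Agent.CycLib.ptPrime_le_iff hξz hy).1 (by
      rw [hQc]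
      intro a ha
      rw [Ideal.mem_comap, RingHom.comp_apply, Ideal.Quotient.eq_zero_iff_mem.2 ha, map_zero]
      exact zero_mem _)
    have hsy : pullback.snd pX qW y = pullback.snd pX qW z' := by
      have h1 : IsLocalRing.maximalIdeal (W.presheaf.stalk (pullback.snd pX qW z')) ≤
          RingHom.ker (Cyc.specMap (pullback.snd pX qW z') (pullback.snd pX qW y)
            (hy.map (pullback.snd pX qW).continuous)) := by
        rw [← Groth.Agent.CycLib.comap_ker_specMap (pullback.snd pX qW) hy, hQc]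
        intro c hc
        rw [Ideal.mem_comap, Ideal.mem_comap, RingHom.comp_apply]
        rw [Ideal.Quotient.eq_zero_iff_mem.2]
        · exact zero_mem _
        · exact Ideal.mem_map_of_mem _ hc
      have h2 : pullback.snd pX qW z' ⤳ pullback.snd pX qW y :=
        (Groth.Agent.CycLib.ptPrime_le_iff specializes_rfl (hy.map (pullback.snd pX qW).continuous)).1
          ((IsLocalRing.le_maximalIdeal (RingHom.ker_ne_top _)).trans h1)
      exact ((hy.map (pullback.snd pX qW).continuous).antisymm h2).eq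
    let F : Set ↥(pullback pX qW) := closure {ξ} ∩ pullback.snd pX qW ⁻¹' {pullback.snd pX qW z'}
    have hFfin : F.Finite := hfin ξ hξ _ hzU'
    have hwc : IsClosed ({pullback.snd pX qW z'} : Set W) := by
      have := ((pointEquivClosedPoint qW) ⟨u, hu⟩).2
      rw [mem_closedPoints_iff] at this
      simpa [u, hTz, hslice, Scheme.Hom.comp_apply] using this
    have hFc : IsClosed F := isClosed_closure.inter (hwc.preimage (pullback.snd pX qW).continuous)
    haveI : Finite F := hFfin.to_subtype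
    haveI : JacobsonSpace F := JacobsonSpace.of_isClosedEmbedding hFc.isClosedEmbedding_subtypeVal
    have hdisc : DiscreteTopology F :=
      JacobsonSpace.discreteTopology (Set.toFinite _)
    have hyF : y ∈ F := ⟨specializes_iff_mem_closure.1 hξy, hsy⟩
    have hzF : z' ∈ F := ⟨specializes_iff_mem_closure.1 hξz, rfl⟩
    have hsp : (⟨y, hyF⟩ : F) ⤳ ⟨z', hzF⟩ := Topology.IsInducing.subtypeVal.specializes_iff.1 hy
    obtain rfl : y = z' := congrArg Subtype.val (specializes_iff_eq.1 hsp)
    haveI hmax : (Q.comap π).IsMaximal := by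
      rw [← hQc, Groth.Agent.CycLib.ker_specMap_eq_comap,
        show (pullback pX qW).presheaf.stalkSpecializes hy = 𝟙 _ from
          TopCat.Presheaf.stalkSpecializes_refl _ _]
      exact IsLocalRing.maximalIdeal.isMaximal _
    rw [← Ideal.map_comap_of_surjective π hπ Q]
    exact Ideal.IsMaximal.map_of_surjective_of_ker_le hπ (Ideal.comap_mono bot_le)
  haveI : IsArtinianRing M := IsNoetherianRing.isArtinianRing_of_krullDimLE_zero
  have hfl : IsFiniteLength ((pullback pX qW).presheaf.stalk z') M := by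
    rw [isFiniteLength_iff_isNoetherian_isArtinian]
    exact ⟨inferInstance,
      isArtinian_of_surjective_algebraMap (R := M) (M := M) (S := (pullback pX qW).presheaf.stalk z') hπ⟩
  intro hzero'
  rw [ENat.toNat_eq_zero] at hzero'
  rcases hzero' with h | h
  · exact not_subsingleton M (Module.length_eq_zero_iff.1 h)
  · exact (Module.length_ne_top_iff.2 hfl) h

end Groth.Agent.S18268
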