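import Groth.Statements.S18272
import Groth.Agent.AbVarLib.SumStab
import Groth.Agent.S16188

set_option autoImplicit false
open CategoryTheory MonoidalCategory CartesianMonoidalCategory MonObj GrpObj AlgebraicGeometry
open AbVar

namespace Groth.Agent.S18272

/-- Let A be an abelian variety over the complex numbers (a proper integral group scheme over Spec of
the complex numbers), G an abstract group and f : A(ℂ) → G a homomorphism from the group of complex
points. If V ⊂ A is an irreducible closed subset containing the neutral element and every complex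
point lying in V is in the kernel of f, then there is an abelian subvariety A' ⊂ A (an integral
closed subgroup scheme) containing V and with all its complex points in the kernel of f. -/
theorem result
    (A : Over (Spec (CommRingCat.of ℂ))) [GrpObj A] [IsProper A.hom] [AlgebraicGeometry.IsIntegral A.left]
    (G : Type) [Group G] (f : (𝟙_ (Over (Spec (CommRingCat.of ℂ))) ⟶ A) →* G)
    (V : Set ↥A.left) (hVcl : IsClosed V) (hVirr : IsIrreducible V)
    (hV1 : Set.range ⇑(η[A]).left ⊆ V)
    (hVker : ∀ a : 𝟙_ (Over (Spec (CommRingCat.of ℂ))) ⟶ A, Set.range ⇑a.left ⊆ V → f a = 1) :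
    ∃ (B : Over (Spec (CommRingCat.of ℂ))) (_ : GrpObj B) (incl : B ⟶ A), IsMonHom incl ∧ IsClosedImmersion incl.left ∧
      AlgebraicGeometry.IsIntegral B.left ∧ V ⊆ Set.range ⇑incl.left ∧
      ∀ b : 𝟙_ (Over (Spec (CommRingCat.of ℂ))) ⟶ B, f (b ≫ incl) = 1 := by
  open Groth.Agent Groth.Agent.AbVarLib in
  exact by
    let I := Scheme.IdealSheafData.vanishingIdeal (X := A.left) ⟨V, hVcl⟩
    let W : Over (Spec (CommRingCat.of ℂ)) := Over.mk (I.subschemeι ≫ A.hom)
    let j : W ⟶ A := Over.homMk I.subschemeι rfl
    have hr : Set.range j.left = V := by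
      show Set.range I.subschemeι = V
      rw [Scheme.IdealSheafData.range_subschemeι, Scheme.IdealSheafData.coe_support_vanishingIdeal]
      rfl
    have hp : IsProper W.hom := inferInstanceAs (IsProper (I.subschemeι ≫ A.hom))
    have hint : AlgebraicGeometry.IsIntegral W.left := S16188.isIntegral_subscheme _ hVirr
    have := LocallyOfFiniteType.jacobsonSpace A.hom
    have : IsClosedImmersion j.left := inferInstanceAs (IsClosedImmersion I.subschemeι)
    let e : (𝟙_ (Over (Spec (CommRingCat.of ℂ)))) ⟶ A := 1
    obtain ⟨w, hw⟩ : e.left (IsLocalRing.closedPoint ℂ) ∈ Set.range j.left := by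
      rw [hr]
      refine hV1 ⟨IsLocalRing.closedPoint ℂ, ?_⟩
      show _ = (1 : (𝟙_ (Over (Spec (CommRingCat.of ℂ)))) ⟶ A).left _
      rw [Hom.one_def, toUnit_unique (toUnit (𝟙_ (Over (Spec (CommRingCat.of ℂ))))) (𝟙 _), Category.id_comp]
    have hwc : IsClosed ({w} : Set W.left) := by
      rw [← j.left.isClosedEmbedding.injective.preimage_image {w}, Set.image_singleton, hw]
      exact (Slices.isClosed_point e).preimage j.left.continuous
    let D : SumStab.Dat A := ⟨W, j, TransInv.ptAt W w hwc, hp, hint,
      AbSub.apply_inj ((congrArg j.left (pointOfClosedPoint_apply W.hom w hwc _)).trans hw)⟩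
    obtain ⟨B, gB, i, hi, hci, hB, hsub, hker⟩ := SumStab.exists_subgroup D f.ker fun v => by
      refine MonoidHom.mem_ker.mpr (hVker _ ?_)
      rintro _ ⟨t, rfl⟩
      rw [← hr]
      exact ⟨v.left t, rfl⟩
    exact ⟨B, gB, i, hi, hci, hB, hr ▸ hsub, fun b => MonoidHom.mem_ker.mp (hker b)⟩

end Groth.Agent.S18272
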