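import Groth.Statements.S18281
import Groth.Agent.ZCorrLib.Finite
-- import your own Groth.Agent.* helpers here

set_option autoImplicit false
open CategoryTheory CategoryTheory.Limits AlgebraicGeometry
open ZCorr

namespace Groth.Agent.S18281

set_option backward.isDefEq.respectTransparency.types false

/-- Over the complex numbers let W be a smooth irreducible quasi-projective variety of dimension n, X a
smooth irreducible projective variety, and Z an integral closed subscheme of X × W of dimension n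
(an irreducible component of a correspondence from W to X), with projection π : Z → W. (a) The set
of points of W over which π is flat (flat at every point of the fibre) is open and nonempty. (b) The
set U of points of W with finite fibre is open and nonempty, and π restricted over U is finite. -/
theorem result
    (W X : Scheme.{0}) [W.Over (Spec (CommRingCat.of ℂ))] [X.Over (Spec (CommRingCat.of ℂ))]
    [AlgebraicGeometry.IsIntegral W] [Smooth (W ↘ Spec (CommRingCat.of ℂ))] (hW : RelProj.IsHQuasiProjective (W ↘ Spec (CommRingCat.of ℂ)))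
    (n : ℕ) (hdimW : topologicalKrullDim W = n)
    [AlgebraicGeometry.IsIntegral X] [Smooth (X ↘ Spec (CommRingCat.of ℂ))] (hX : RelProj.IsHProjective (X ↘ Spec (CommRingCat.of ℂ)))
    {Z : Scheme.{0}} (i : Z ⟶ pullback (X ↘ Spec (CommRingCat.of ℂ)) (W ↘ Spec (CommRingCat.of ℂ))) [IsClosedImmersion i]
    [AlgebraicGeometry.IsIntegral Z] (hdimZ : topologicalKrullDim Z = n) :
    (IsOpen {w : W | ∀ z : Z, (i ≫ pullback.snd (X ↘ Spec (CommRingCat.of ℂ)) (W ↘ Spec (CommRingCat.of ℂ))) z = w →
        ((i ≫ pullback.snd (X ↘ Spec (CommRingCat.of ℂ)) (W ↘ Spec (CommRingCat.of ℂ))).stalkMap z).hom.Flat} ∧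
      {w : W | ∀ z : Z, (i ≫ pullback.snd (X ↘ Spec (CommRingCat.of ℂ)) (W ↘ Spec (CommRingCat.of ℂ))) z = w →
        ((i ≫ pullback.snd (X ↘ Spec (CommRingCat.of ℂ)) (W ↘ Spec (CommRingCat.of ℂ))).stalkMap z).hom.Flat}.Nonempty) ∧
    ∃ U : W.Opens, (U : Set W) = {w : W | ((i ≫ pullback.snd (X ↘ Spec (CommRingCat.of ℂ)) (W ↘ Spec (CommRingCat.of ℂ))) ⁻¹' {w}).Finite} ∧
      (U : Set W).Nonempty ∧ IsFinite ((i ≫ pullback.snd (X ↘ Spec (CommRingCat.of ℂ)) (W ↘ Spec (CommRingCat.of ℂ))) ∣_ U) := by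
  haveI := ZCorrLib.isProper_of_isHProjective (X ↘ Spec (CommRingCat.of ℂ)) hX
  haveI : IsProper (i ≫ pullback.snd (X ↘ Spec (CommRingCat.of ℂ)) (W ↘ Spec (CommRingCat.of ℂ))) := inferInstance
  haveI : IsLocallyNoetherian W := LocallyOfFiniteType.isLocallyNoetherian (W ↘ Spec (CommRingCat.of ℂ))
  let π := i ≫ pullback.snd (X ↘ Spec (CommRingCat.of ℂ)) (W ↘ Spec (CommRingCat.of ℂ))
  haveI : LocallyOfFinitePresentation π :=
    LocallyOfFinitePresentation.iff_locallyOfFiniteType.2 inferInstance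
  refine ⟨⟨?_, genericPoint ↥W, fun z hz => ZCorrLib.flat_stalkMap_of_generic π hz⟩, ?_⟩
  · have hopen := (π.isClosedMap _ (FlatOpen.Scheme.isOpen_stalkMap_flat π).isClosed_compl).isOpen_compl
    convert! hopen using 1
    ext w
    exact ⟨fun hw ⟨z, hz, hzw⟩ => hz (hw z hzw), fun hw z hzw => by_contra fun hz => hw ⟨z, hz, hzw⟩⟩
  · obtain ⟨U, hU, hfin⟩ := ZCorrLib.exists_finiteLocus π
    refine ⟨U, hU, ⟨genericPoint ↥W, ?_⟩, hfin⟩
    rw [hU]
    by_cases hη : genericPoint ↥W ∈ Set.range π
    · obtain ⟨z, hz⟩ := hη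
      haveI : IsDominant π := ⟨dense_iff_closure_eq.2 (Set.eq_univ_of_univ_subset fun w _ =>
        closure_mono (s := ({genericPoint ↥W} : Set ↥W)) (t := Set.range π) (Set.singleton_subset_iff.2 (⟨z, hz⟩ : genericPoint ↥W ∈ Set.range π))
          (specializes_iff_mem_closure.1 (genericPoint_specializes w)))⟩
      exact ZCorrLib.finite_generic_fibre π π.isClosedMap n hdimW hdimZ
    · exact Set.finite_empty.subset fun z hz => hη ⟨z, hz⟩

end Groth.Agent.S18281
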