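import Groth.Statements.S18283
import Mathlib.LinearAlgebra.ExteriorPower.Basic
import Mathlib.LinearAlgebra.Matrix.Block
import Mathlib.LinearAlgebra.Matrix.Determinant.Basic

set_option autoImplicit false
universe u v
open CAlgX

namespace Groth.Agent.S18283

/-- Let A be a commutative ring, ι a finite index type, H a finite set of indices (the head indices) and
c : ι → ι → A a table of coefficients; for j ∈ H put f_j = e_j − Σ_{i ∉ H} c_{ji} e_i in the free
module A^ι, so that each f_j has head e_j with coefficient 1 and tail supported outside H. If a
submodule M of A^ι contains every f_j with j ∈ H, then M is the A-span of these f_j if and only if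
every wedge product of |H|+1 elements of M vanishes in the (|H|+1)-st exterior power of A^ι
(equivalently, every (|H|+1)-minor of every matrix whose rows lie in M vanishes). The published
statement is the case where A is a Noetherian algebra over a field of characteristic zero, A^ι is
the degree-(m+1) part of the polynomial ring over A with its basis of terms, H is the set of
degree-(m+1) terms of a strongly stable monomial ideal generated in degree m, and M is the
degree-(m+1) part of an ideal generated by a marked set on that monomial ideal; this row allows any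
commutative ring and any submodule containing the marked polynomials. -/
theorem result
    {A : Type u} [CommRing A] {ι : Type v} [Fintype ι] [DecidableEq ι]
    (H : Finset ι) (c : ι → ι → A) (M : Submodule A (ι → A))
    (hf : ∀ j ∈ H, (Pi.single j (1 : A) - ∑ i ∈ Hᶜ, c j i • Pi.single i (1 : A)) ∈ M) :
    M = Submodule.span A ((fun j => Pi.single j (1 : A) - ∑ i ∈ Hᶜ, c j i • Pi.single i (1 : A)) '' ↑H)
      ↔ ∀ v : Fin (H.card + 1) → ι → A, (∀ k, v k ∈ M) →
          exteriorPower.ιMulti A (H.card + 1) v = 0 := by
  classical
  set f : ι → ι → A := fun j => Pi.single j (1 : A) - ∑ i ∈ Hᶜ, c j i • Pi.single i (1 : A) with hfdef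
  have hfH : ∀ j, ∀ i ∈ H, f j i = if i = j then 1 else 0 := by
    intro j i hi
    simp only [hfdef, Pi.sub_apply, Finset.sum_apply, Pi.smul_apply, Pi.single_apply]
    rw [Finset.sum_eq_zero (fun l hl => by
      rw [if_neg (fun e => (Finset.mem_compl.1 hl) (by rw [← e]; exact hi)), smul_zero]), sub_zero]
  constructor
  · intro hM v hv
    have hspan : ∀ k, ∃ a : H → A, ∑ j, a j • f j = v k := fun k => by
      have hk := hv k
      rw [hM, Set.image_eq_range, Submodule.mem_span_range_iff_exists_fun] at hk
      exact hk
    choose a ha using hspan
    rw [show v = fun k => ∑ j, a k j • f j from funext fun k => (ha k).symm,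
      ← AlternatingMap.coe_multilinearMap, MultilinearMap.map_sum]
    refine Finset.sum_eq_zero fun σ _ => ?_
    rw [MultilinearMap.map_smul_univ]
    obtain ⟨p, q, hne, hpq⟩ := Fintype.exists_ne_map_eq_of_card_lt σ (by simp)
    rw [AlternatingMap.coe_multilinearMap, AlternatingMap.map_eq_zero_of_eq _ _ (by rw [hpq]) hne,
      smul_zero]
  · intro h
    refine le_antisymm (fun x hx => ?_) (Submodule.span_le.2 (by rintro _ ⟨j, hj, rfl⟩; exact hf j hj))
    set y := x - ∑ j ∈ H, x j • f j with hy
    have hyM : y ∈ M := M.sub_mem hx (M.sum_mem fun j hj => M.smul_mem _ (hf j hj))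
    have hyH : ∀ i ∈ H, y i = 0 := by
      intro i hi
      rw [hy, Pi.sub_apply, Finset.sum_apply, Finset.sum_eq_single i]
      · simp [hfH i i hi]
      · intro j _ hji
        simp [hfH j i hi, if_neg hji.symm]
      · exact fun hni => absurd hi hni
    suffices hy0 : y = 0 by
      rw [sub_eq_zero.1 hy0]
      exact Submodule.sum_mem _ fun j hj => Submodule.smul_mem _ _ (Submodule.subset_span ⟨j, hj, rfl⟩)
    funext i
    by_cases hi : i ∈ H
    · exact hyH i hi
    let e : Fin (H.card + 1) ≃ H ⊕ Fin 1 :=
      finSumFinEquiv.symm.trans (Equiv.sumCongr H.equivFin.symm (Equiv.refl _))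
    let v : Fin (H.card + 1) → ι → A := fun k => Sum.elim (fun j : H => f j) (fun _ => y) (e k)
    let col : Fin (H.card + 1) → ι := fun k => Sum.elim (fun j : H => (j : ι)) (fun _ => i) (e k)
    have hv := h v fun k => by
      simp only [v]
      rcases e k with j | _
      · exact hf j j.2
      · exact hyM
    have := congrArg (exteriorPower.alternatingMapLinearEquiv
      ((Matrix.detRowAlternating (R := A) (n := Fin (H.card + 1))).compLinearMap
        (LinearMap.funLeft A A col))) hv
    rw [exteriorPower.alternatingMapLinearEquiv_apply_ιMulti, map_zero,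
      AlternatingMap.compLinearMap_apply] at this
    change (Matrix.of fun k l => v k (col l)).det = 0 at this
    rw [show (Matrix.of fun k l => v k (col l)) = (Matrix.fromBlocks (1 : Matrix H H A)
        (Matrix.of fun (j : H) (_ : Fin 1) => f j i) 0 (Matrix.of fun _ _ => y i)).submatrix e e from ?_,
      Matrix.det_submatrix_equiv_self, Matrix.det_fromBlocks_zero₂₁, Matrix.det_one, one_mul,
      Matrix.det_unique] at this
    · simpa using this
    · ext k l
      simp only [Matrix.of_apply, Matrix.submatrix_apply, v, col]
      rcases e k with j | _ <;> rcases e l with j' | _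
      · simp only [Sum.elim_inl, Matrix.fromBlocks_apply₁₁]
        rw [hfH j j' j'.2, Matrix.one_apply]
        exact if_congr (by rw [Subtype.ext_iff]; exact eq_comm) rfl rfl
      · simp
      · simpa using hyH j' j'.2
      · simp

end Groth.Agent.S18283
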