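import Groth.Statements.S18307
import Mathlib
import Groth.Agent.SmoothAcyc.Main
import Groth.Agent.GmFppf.HFLeray
import Groth.Agent.EtaleSite.SH
-- import your own Groth.Agent.* helpers here

set_option autoImplicit false
universe u
open CategoryTheory AlgebraicGeometry
open CGrpSh

namespace Groth.Agent.S18307

/-- Let R be a strictly Henselian local ring (Henselian with separably closed residue field) and G a
commutative group scheme over Spec R whose structure morphism is smooth. Then H^i((Spec R)_fppf, G)
= 0 for every i ≥ 1, the cohomology being that of the abelian sheaf of points of G on the big fppf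
site of Spec R. The source proves this for commutative smooth group algebraic spaces; the
group-scheme case is stated here. -/
theorem result (R : Type u) [CommRing R]
    (hR : EtCoh.IsStrictlyHenselianLocalRing R) (G : Over (Spec (CommRingCat.of R))) [GrpObj G] [IsCommMonObj G]
    [Smooth G.hom] (i : ℕ) (hi : 1 ≤ i) :
    Subsingleton (EtFppf.HF (Spec (CommRingCat.of R)) (CGrpSh.pts Scheme.fppfPrecoverage G) i) := by
  haveI := hR.1
  haveI := hR.2
  obtain ⟨e⟩ := Groth.Agent.GmFppf.nonempty_HF_iso (Spec (CommRingCat.of R))
    (CGrpSh.pts Scheme.fppfPrecoverage G) (Groth.Agent.SmoothAcyc.acyc_pts (G := G)) i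
  haveI := Groth.Agent.EtaleSite.subsingleton_H R ((Groth.Agent.EtFppfCmp.resAt (Over.mk (𝟙 (Spec (CommRingCat.of R))))).obj
    (CGrpSh.pts Scheme.fppfPrecoverage G)) i hi
  exact e.addCommGroupIsoToAddEquiv.toEquiv.subsingleton

end Groth.Agent.S18307
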