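import Groth.Statements.S18310
import Groth.Agent.StFib.RatLift.Main
import Groth.Agent.StFib.SpaceLift

set_option autoImplicit false
set_option backward.isDefEq.respectTransparency false
set_option backward.isDefEq.respectTransparency.types false
universe u
open AlgSt

namespace Groth.Agent.S18310

open CategoryTheory AlgebraicGeometry in
/-- Let S be a scheme, 𝒵 an algebraic stack over (Sch/S) for the fppf topology whose diagonal 𝒵 → 𝒵
×_{(Sch/S)} 𝒵 is separated (representable by algebraic spaces with closed-immersion relative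
diagonal; no quasi-compactness is assumed), R a Henselian local ring with a structure morphism Spec
R → S, and z : (Sch/Spec R) → 𝒵 a functor over (Sch/S) (an R-point of 𝒵). Then there are an affine
scheme Z over S, a functor p : (Sch/Z) → 𝒵 over (Sch/S) which is representable by algebraic spaces
and smooth, and an S-morphism g : Spec R → Z such that g followed by p is isomorphic to z over
(Sch/S). The source assumes only that the fibre of the diagonal over the image in S of the closed
point of Spec R is separated; the diagonal itself is taken separated here. -/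
theorem result {S : Scheme.{u}} (𝒵 : AlgSt.Cat S)
    (h𝒵 : AlgSt.IsAlgStack Scheme.fppfPrecoverage 𝒵)
    (hΔ : AlgSt.RepByAlgSpWith AlgSp.IsSeparatedMor (FibCat.diag (FibCat.toSelf 𝒵)))
    (R : Type u) [CommRing R] [HenselianLocalRing R] (str : Spec (CommRingCat.of R) ⟶ S)
    (z : FibCat.overCat (Over.mk str) ⥤ᵇ 𝒵) :
    ∃ (Z : Over S) (_ : IsAffine Z.left) (p : FibCat.overCat Z ⥤ᵇ 𝒵) (g : Over.mk str ⟶ Z),
      AlgSt.RepByAlgSpWith (AlgSp.LocP @Smooth) p ∧
        Nonempty (BasedFunctor.comp (AlgSt.overMap g) p ≅ z) := by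
  obtain ⟨Z, hZ, p, u, hp, ⟨iu⟩⟩ := Groth.Agent.StFib.RatLift.exists_rational_lift
    (Groth.Agent.StFib.RatLift.isStack_etale_of_fppf h𝒵.isStack) h𝒵.diag h𝒵.atlas
    (Spec.map (CommRingCat.ofHom (IsLocalRing.residue R)) ≫ str)
    (BasedFunctor.comp (AlgSt.overMap (Over.homMk (Spec.map (CommRingCat.ofHom (IsLocalRing.residue R))) rfl :
      Over.mk ((Spec.map (CommRingCat.ofHom (IsLocalRing.residue R))) ≫ str) ⟶ Over.mk str)) z)
  let Zs : AlgSp.Space S := ⟨_, Groth.Agent.StFib.isAlgSpace_yon Z⟩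
  let T0 : Over S := Over.mk ((Spec.map (CommRingCat.ofHom (IsLocalRing.residue R))) ≫ str)
  let f : AlgSt.ofSp Zs.obj ⥤ᵇ 𝒵 := BasedFunctor.comp (AlgSt.toOverCat Z) p
  have hf : AlgSt.RepByAlgSpWith (AlgSp.LocP @Smooth) f :=
    Groth.Agent.StFib.repByAlgSpWith_comp_isEquivOver hp (Groth.Agent.StFib.toOverCat_isEquivOver Z)
  have h0 : BasedFunctor.comp (AlgSt.ofOverCat T0)
      (BasedFunctor.comp (AlgSt.ofSpMap ((AlgSp.yon S).map u)) (AlgSt.toOverCat Z)) = AlgSt.overMap u := by
    rfl
  obtain ⟨z', -, ⟨iz⟩⟩ := Groth.Agent.StFib.exists_lift_space Zs f hf R str z ((AlgSp.yon S).map u)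
    ⟨eqToIso (congrArg (fun t => BasedFunctor.comp t p) h0) ≪≫ iu⟩
  obtain ⟨g, hg⟩ := (AlgSp.yon S).map_surjective z'
  subst hg
  exact ⟨Z, hZ, p, g, hp, ⟨iz⟩⟩

end Groth.Agent.S18310
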