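import Groth.Statements.S18313
import Groth.Agent.AlgSpEN.Lift
import Groth.Agent.RelDiv.SmoothDesc
import Groth.Agent.AzInvLib.SH
import Groth.Agent.Hensel.Pair
import Groth.Agent.S0536
-- import your own Groth.Agent.* helpers here

set_option autoImplicit false
universe u
open CategoryTheory CategoryTheory.Limits AlgebraicGeometry
open AlgSp

namespace Groth.Agent.S18313

open Groth.Agent.AlgSpEN Groth.Agent.AlgSpB Groth.Agent.AlgSpB.Art

set_option backward.isDefEq.respectTransparency false
set_option backward.isDefEq.respectTransparency.types false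

/-- Let R be a Henselian local ring, S = Spec R, and X an algebraic space over S which is smooth over S,
in the sense that there are a scheme U over S with smooth structure morphism U → S and a
representable étale, representable surjective morphism h_U → X. Then for every ideal a ≠ R, every
point h_{Spec (R/a)} → X over S is the composite of h_q with a point h_S → X over S, where q : Spec
(R/a) → S is the closed immersion. The source states this for smooth algebraic stacks over R whose
diagonal has a separated fibre over the closed point (essential surjectivity on R/a-points); the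
algebraic-space case is stated here. -/
theorem result (R : Type u) [CommRing R] [HenselianLocalRing R]
    (X : AlgSp.Space (Spec (CommRingCat.of R)))
    (hX : ∃ (U : Over (Spec (CommRingCat.of R))) (c : (AlgSp.yon (Spec (CommRingCat.of R))).obj U ⟶ X.obj),
      Smooth U.hom ∧ AlgSp.RepWith @Etale c ∧ AlgSp.RepWith @Surjective c)
    (a : Ideal R) (ha : a ≠ ⊤)
    (x₀ : (AlgSp.yon (Spec (CommRingCat.of R))).obj (Over.mk (Spec.map (CommRingCat.ofHom (Ideal.Quotient.mk a)))) ⟶ X.obj) :
    ∃ x : (AlgSp.yon (Spec (CommRingCat.of R))).obj (Over.mk (𝟙 (Spec (CommRingCat.of R)))) ⟶ X.obj,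
      (AlgSp.yon (Spec (CommRingCat.of R))).map (Over.homMk (Spec.map (CommRingCat.ofHom (Ideal.Quotient.mk a)))
        (Category.comp_id _) : Over.mk (Spec.map (CommRingCat.ofHom (Ideal.Quotient.mk a))) ⟶ Over.mk (𝟙 _)) ≫ x = x₀ := by
  have : Nontrivial (R ⧸ a) := Ideal.Quotient.nontrivial_iff.2 ha
  have : HenselianLocalRing (R ⧸ a) :=
    Groth.Agent.AzInvLib.henselianLocalRing_of_surjective (Ideal.Quotient.mk a) Ideal.Quotient.mk_surjective
  obtain ⟨Z, p, g, hZ, hp, hg⟩ := exists_affine_chart_henselian X.property (R ⧸ a) _ x₀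
  obtain ⟨U, c, hU, hce, hcs⟩ := hX
  -- the chart is smooth over the base
  obtain ⟨B, b, e, sq⟩ := exists_pullback_yon hce.1 p
  have : Etale e.left := hce.2 _ _ _ sq
  have : Surjective e.left := hcs.2 _ _ _ sq
  have : Etale b.left := hp.2 _ _ _ sq.flip
  have : Smooth (e.left ≫ Z.hom) := by
    rw [Over.w e, ← Over.w b]
    infer_instance
  have hZs : Smooth Z.hom := Groth.Agent.RelDiv.smooth_of_fppf_comp e.left Z.hom
  -- lift the point of the chart
  let φ : CommRingCat.of R ⟶ Γ(Z.left, ⊤) := Spec.preimage (Z.left.isoSpec.inv ≫ Z.hom)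
  have hφ : Spec.map φ = Z.left.isoSpec.inv ≫ Z.hom := Spec.map_preimage _
  let ψ : Γ(Z.left, ⊤) ⟶ CommRingCat.of (R ⧸ a) := Spec.preimage (g.left ≫ Z.left.isoSpec.hom)
  have hψ : Spec.map ψ = g.left ≫ Z.left.isoSpec.hom := Spec.map_preimage _
  have hsm : φ.hom.Smooth := by
    have : Smooth (Spec.map φ) := by rw [hφ]; infer_instance
    exact (HasRingHomProperty.Spec_iff (P := @Smooth)).1 this
  have hc : φ ≫ ψ = CommRingCat.ofHom (Ideal.Quotient.mk a) := by
    apply Spec.map_injective
    rw [Spec.map_comp, hψ, hφ, Category.assoc, Iso.hom_inv_id_assoc]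
    exact Over.w g
  let _ : Algebra R Γ(Z.left, ⊤) := φ.hom.toAlgebra
  have : Algebra.Smooth R Γ(Z.left, ⊤) := RingHom.smooth_algebraMap.1 hsm
  have : HenselianRing R a := Groth.Agent.Hensel.henselianRing_of_le (IsLocalRing.le_maximalIdeal ha)
  let σ : Γ(Z.left, ⊤) →ₐ[R] R ⧸ a :=
    { toRingHom := ψ.hom
      commutes' := fun r => RingHom.congr_fun (congrArg CommRingCat.Hom.hom hc) r }
  obtain ⟨τ, hτ⟩ := Groth.Agent.S0536.result R Γ(Z.left, ⊤) R a σ
  let l : Spec (CommRingCat.of R) ⟶ Z.left := Spec.map (CommRingCat.ofHom τ.toRingHom) ≫ Z.left.isoSpec.inv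
  let g' : Over.mk (𝟙 (Spec (CommRingCat.of R))) ⟶ Z := Over.homMk l (by
    change (Spec.map _ ≫ Z.left.isoSpec.inv) ≫ Z.hom = 𝟙 _
    rw [Category.assoc, ← hφ, ← Spec.map_comp, ← Spec.map_id]
    congr 1
    ext r
    exact τ.commutes r)
  refine ⟨(AlgSp.yon _).map g' ≫ p, ?_⟩
  rw [← Category.assoc, ← Functor.map_comp, ← hg]
  refine congrArg (fun m => (AlgSp.yon _).map m ≫ p) (Over.OverMorphism.ext ?_)
  change Spec.map _ ≫ l = g.left
  rw [show l = _ from rfl, ← Category.assoc, ← Spec.map_comp,
    show CommRingCat.ofHom τ.toRingHom ≫ CommRingCat.ofHom (Ideal.Quotient.mk a) = ψ from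
      CommRingCat.hom_ext (RingHom.ext fun r => DFunLike.congr_fun hτ r), hψ, Category.assoc,
    Iso.hom_inv_id, Category.comp_id]

end Groth.Agent.S18313
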