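import Groth.Statements.S18315
import Mathlib
import Groth.Agent.SmoothAcyc.Main
import Groth.Agent.GmFppf.HFLeray
-- import your own Groth.Agent.* helpers here

set_option autoImplicit false
universe u
open CategoryTheory AlgebraicGeometry
open CGrpSh

namespace Groth.Agent.S18315

/-- Let S be a scheme and G a commutative group scheme over S whose structure morphism G → S is smooth.
Then for every n the étale cohomology group H^n(S_ét, a_* G) of the restriction to the small étale
site of the abelian fppf sheaf of points of G is isomorphic to the fppf cohomology group H^n(S_fppf,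
G). Only the existence of an additive isomorphism is asserted here (the source's identification is
the canonical comparison map); the source allows commutative smooth group algebraic spaces, the
group-scheme case is stated. -/
theorem result (S : Scheme.{u}) (G : Over S) [GrpObj G] [IsCommMonObj G]
    [Smooth G.hom] (n : ℕ) :
    Nonempty (EtCoh.H S ((EtFppf.aPush S).obj (CGrpSh.pts Scheme.fppfPrecoverage G)) n ≃+
      EtFppf.HF S (CGrpSh.pts Scheme.fppfPrecoverage G) n) := by
  obtain ⟨e⟩ := Groth.Agent.GmFppf.nonempty_HF_iso S
    (CGrpSh.pts Scheme.fppfPrecoverage G) (Groth.Agent.SmoothAcyc.acyc_pts (G := G)) n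
  let i : (Groth.Agent.EtFppfCmp.resAt (Over.mk (𝟙 S))).obj (CGrpSh.pts Scheme.fppfPrecoverage G) ≅
      (EtFppf.aPush S).obj (CGrpSh.pts Scheme.fppfPrecoverage G) :=
    (fullyFaithfulSheafToPresheaf S.smallEtaleTopology AddCommGrpCat.{u + 1}).preimageIso
      (NatIso.ofComponents (fun _ => Iso.refl _) fun _ => rfl)
  exact ⟨((e ≪≫ (EtCoh.HF S n).mapIso i).addCommGroupIsoToAddEquiv).symm⟩

end Groth.Agent.S18315
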