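import Groth.Statements.S18317
import Groth.Agent.ConnFinTorsor.Basic
-- import your own Groth.Agent.* helpers here

set_option autoImplicit false
universe u
open CategoryTheory AlgebraicGeometry
open NonAbH1

namespace Groth.Agent.S18317

/-- Let K be a field and G a finite connected K-group scheme (G → Spec K finite, G connected as a
topological space). Then every G-torsor X over Spec K for the étale topology (a K-scheme with an
action of G whose shear map G ×_K X → X ×_K X is an isomorphism and which acquires a section over
the members of some étale covering of Spec K) is trivial: X has a K-point. -/
theorem result (K : Type u) [Field K]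
    (G X : Over (Spec (CommRingCat.of K))) [GrpObj G] [IsFinite G.hom] [ConnectedSpace G.left]
    (a : AlgGrp.Action G X) (h : NonAbH1.IsTorsorFor Scheme.etalePrecoverage a) :
    NonAbH1.HasSectionOver X (𝟙 (Spec (CommRingCat.of K))) := by
  obtain ⟨L, _, _, _, hsep, x, hx⟩ := ConnFinTorsor.exists_finite_point (X := X) @Etale
    (fun _ _ f (hf : Etale f) => inferInstance) h.2
  haveI := hsep (fun _ _ f (hf : Etale f) => inferInstance)
  exact ConnFinTorsor.exists_section_of_separable a h.1 L x hx

end Groth.Agent.S18317
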