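import Groth.Statements.S18318
import Groth.Agent.ConnFinTorsor.Basic
-- import your own Groth.Agent.* helpers here

set_option autoImplicit false
universe u
open CategoryTheory AlgebraicGeometry
open NonAbH1

namespace Groth.Agent.S18318

/-- Let K be a field of exponential characteristic p and G a finite connected K-group scheme. Then there
is an integer n ≥ 0 such that every G-torsor X over Spec K for the fppf topology (simply transitive
action, a section over the members of some fppf covering) becomes trivial over the purely
inseparable extension K^{1/p^n} of K: equivalently, X admits a K-morphism from Spec K regarded as a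
K-scheme through the n-th iterate x ↦ x^(p^n) of the Frobenius endomorphism of K. The source
moreover bounds n by p^n ≤ (#G)!; only the existence of a uniform n is stated here. In particular (p
= 1, characteristic zero) every such torsor is trivial. -/
theorem result (K : Type u) [Field K]
    (p : ℕ) [ExpChar K p] (G : Over (Spec (CommRingCat.of K))) [GrpObj G] [IsFinite G.hom] [ConnectedSpace G.left] :
    ∃ n : ℕ, ∀ (X : Over (Spec (CommRingCat.of K))) (a : AlgGrp.Action G X), NonAbH1.IsTorsorFor Scheme.fppfPrecoverage a →
      NonAbH1.HasSectionOver X (Spec.map (CommRingCat.ofHom (iterateFrobenius K p n))) := by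
  rcases ‹ExpChar K p› with _ | hp
  · refine ⟨0, fun X a h => ?_⟩
    haveI : PerfectField K := PerfectField.ofCharZero
    obtain ⟨L, _, _, _, -, x, hx⟩ := ConnFinTorsor.exists_finite_point (X := X)
      (@Flat ⊓ @LocallyOfFinitePresentation)
      (fun _ _ f hf => by have := hf.2; infer_instance) h.2
    haveI : Algebra.IsAlgebraic K L := Algebra.IsAlgebraic.of_finite K L
    obtain ⟨s, hs⟩ := ConnFinTorsor.exists_section_of_separable a h.1 L x hx
    refine ⟨s, hs.trans ?_⟩
    rw [← Spec.map_id]
    congr 1
    ext r
    simp [iterateFrobenius_def]
  · haveI : ExpChar K p := ExpChar.prime hp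
    obtain ⟨A, i, c, e, N, hc, he, hN⟩ := ConnFinTorsor.exists_aug (G := G)
    refine ⟨N, fun X a h => ?_⟩
    obtain ⟨L, _, _, _, -, x, hx⟩ := ConnFinTorsor.exists_finite_point (X := X)
      (@Flat ⊓ @LocallyOfFinitePresentation)
      (fun _ _ f hf => by have := hf.2; infer_instance) h.2
    refine ConnFinTorsor.exists_frobenius_bound p hp N (fun A' i' c' e' hc' he' y => ?_) X a h.1
      (x (default : Spec (CommRingCat.of L)))
    obtain ⟨j, hj⟩ := Spec.map_surjective (show Spec A ⟶ Spec A' from i.inv ≫ i'.hom)
    have hcj : c' ≫ j = c := by
      apply Spec.map_injective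
      rw [Spec.map_comp, hj, ← hc, ← hc']
      simp
    have hje : j ≫ e = e' := by
      apply Spec.map_injective
      rw [Spec.map_comp, hj, ← he, ← he']
      simp
    haveI : IsIso (Spec.map j) := by rw [hj]; infer_instance
    have hinj : Function.Injective j.hom := by
      have h1 : j ≫ Spec.preimage (inv (Spec.map j)) = 𝟙 _ := by
        apply Spec.map_injective
        simp
      intro u v huv
      have := congrArg (Spec.preimage (inv (Spec.map j))).hom huv
      have hu := fun u => congrArg (fun q => q.hom u) h1
      simpa [hu] using (hu u).symm.trans (this.trans (hu v))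
    apply hinj
    change j.hom ((y - c'.hom (e'.hom y)) ^ N) = j.hom 0
    rw [map_pow, map_sub, map_zero, ← hje]
    refine Eq.trans ?_ (hN (j.hom y))
    rw [← hcj]
    rfl

end Groth.Agent.S18318
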