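import Groth.Statements.S18326
import Groth.Agent.StFib.RatLift.QuotPoints
import Groth.Agent.StFib.SpaceLift

set_option autoImplicit false
set_option backward.isDefEq.respectTransparency false
set_option backward.isDefEq.respectTransparency.types false
universe u
open AlgSt

namespace Groth.Agent.S18326

open CategoryTheory AlgebraicGeometry in
/-- Let S be a scheme, 𝒵 an algebraic stack over (Sch/S) for the fppf topology whose diagonal 𝒵 → 𝒵
×_{(Sch/S)} 𝒵 is separated (representable by algebraic spaces with closed-immersion relative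
diagonal), and R a Henselian local ring with a structure morphism Spec R → S. Then there are a
scheme Z separated over S and a functor p : (Sch/Z) → 𝒵 over (Sch/S) which is representable by
algebraic spaces and smooth, such that for every ideal a of R (Spec (R/a) mapping to S through Spec
R) every functor (Sch/Spec (R/a)) → 𝒵 over (Sch/S) is isomorphic to (Sch/g) followed by p for some
S-morphism g : Spec (R/a) → Z. The source assumes only that the fibre of the diagonal over the image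
of the closed point is separated; the diagonal itself is taken separated here. -/
theorem result {S : Scheme.{u}} (𝒵 : AlgSt.Cat S)
    (h𝒵 : AlgSt.IsAlgStack Scheme.fppfPrecoverage 𝒵)
    (hΔ : AlgSt.RepByAlgSpWith AlgSp.IsSeparatedMor (FibCat.diag (FibCat.toSelf 𝒵)))
    (R : Type u) [CommRing R] [HenselianLocalRing R] (str : Spec (CommRingCat.of R) ⟶ S) :
    ∃ (Z : Over S) (p : FibCat.overCat Z ⥤ᵇ 𝒵), IsSeparated Z.hom ∧ AlgSt.RepByAlgSpWith (AlgSp.LocP @Smooth) p ∧
      ∀ (a : Ideal R) (x : FibCat.overCat (Over.mk (Spec.map (CommRingCat.ofHom (Ideal.Quotient.mk a)) ≫ str)) ⥤ᵇ 𝒵),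
        ∃ g : Over.mk (Spec.map (CommRingCat.ofHom (Ideal.Quotient.mk a)) ≫ str) ⟶ Z,
          Nonempty (BasedFunctor.comp (AlgSt.overMap g) p ≅ x) := by
  classical
  obtain ⟨Z, p, hsep, hp, hlift⟩ := Groth.Agent.StFib.RatLift.exists_chart_all_rational h𝒵.isStack h𝒵.diag h𝒵.atlas
    (Spec.map (CommRingCat.ofHom (IsLocalRing.residue R)) ≫ str)
  refine ⟨Z, p, hsep, hp, fun a x => ?_⟩
  let strA := Spec.map (CommRingCat.ofHom (Ideal.Quotient.mk a)) ≫ str
  rcases eq_or_ne a ⊤ with ha | ha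
  · have : Subsingleton (R ⧸ a) := Ideal.Quotient.subsingleton_iff.2 ha
    have hT : IsEmpty (Over.mk strA).left := inferInstanceAs (IsEmpty (PrimeSpectrum (R ⧸ a)))
    let g : Over.mk strA ⟶ Z := Over.homMk (isInitialOfIsEmpty.to Z.left) (isInitialOfIsEmpty.hom_ext _ _)
    obtain ⟨θ, hθ⟩ := Groth.Agent.StFib.RatLift.exists_vert_of_isEmpty
      (Groth.Agent.StkLib.isPrestack_of_isStack h𝒵.isStack) hT
      ((BasedFunctor.comp (AlgSt.overMap g) p).w_obj (Over.mk (𝟙 (Over.mk strA))))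
      (x.w_obj (Over.mk (𝟙 (Over.mk strA))))
    have := hθ.isIso h𝒵.isStack.1
    obtain ⟨α, -⟩ := Groth.Agent.StFib.exists_overIso h𝒵.isStack.1 (BasedFunctor.comp (AlgSt.overMap g) p) x
      (asIso θ) hθ
    exact ⟨g, ⟨α⟩⟩
  · have : Nontrivial (R ⧸ a) := Ideal.Quotient.nontrivial_iff.2 ha
    have : HenselianLocalRing (R ⧸ a) :=
      Groth.Agent.AzInvLib.henselianLocalRing_of_surjective (Ideal.Quotient.mk a) Ideal.Quotient.mk_surjective
    have : IsLocalHom (Ideal.Quotient.mk a) := Ideal.Quotient.mk_surjective.isLocalHom _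
    let f : R ⧸ a →+* IsLocalRing.ResidueField R := Ideal.Quotient.lift a (IsLocalRing.residue R) fun r hr =>
      IsLocalRing.residue_eq_zero_iff r |>.2 (IsLocalRing.le_maximalIdeal ha hr)
    let κ : Over.mk (Spec.map (CommRingCat.ofHom (IsLocalRing.residue R)) ≫ str) ⟶ Over.mk strA :=
      Over.homMk (Spec.map (CommRingCat.ofHom f)) (by
        change Spec.map _ ≫ Spec.map _ ≫ str = Spec.map _ ≫ str
        rw [← Spec.map_comp_assoc]
        rfl)
    let η : IsLocalRing.ResidueField R →+* IsLocalRing.ResidueField (R ⧸ a) :=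
      IsLocalRing.ResidueField.map (Ideal.Quotient.mk a)
    have hηf : η.comp f = IsLocalRing.residue (R ⧸ a) := Ideal.Quotient.ringHom_ext (RingHom.ext fun r => rfl)
    let T0 : Over S := Over.mk (Spec.map (CommRingCat.ofHom (IsLocalRing.residue (R ⧸ a))) ≫ strA)
    let ω : T0 ⟶ Over.mk (Spec.map (CommRingCat.ofHom (IsLocalRing.residue R)) ≫ str) :=
      Over.homMk (Spec.map (CommRingCat.ofHom η)) (by
        change Spec.map _ ≫ Spec.map _ ≫ str = Spec.map _ ≫ Spec.map _ ≫ str
        rw [← Spec.map_comp_assoc, ← Spec.map_comp_assoc]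
        rfl)
    let r : T0 ⟶ Over.mk strA := Over.homMk (Spec.map (CommRingCat.ofHom (IsLocalRing.residue (R ⧸ a)))) rfl
    have hωκ : ω ≫ κ = r := Over.OverMorphism.ext (by
      change Spec.map _ ≫ Spec.map _ = Spec.map _
      rw [← Spec.map_comp, ← CommRingCat.ofHom_comp, hηf])
    obtain ⟨u, ⟨iu⟩⟩ := hlift (BasedFunctor.comp (AlgSt.overMap κ) x)
    let Zs : AlgSp.Space S := ⟨_, Groth.Agent.StFib.isAlgSpace_yon Z⟩
    let f' : AlgSt.ofSp Zs.obj ⥤ᵇ 𝒵 := BasedFunctor.comp (AlgSt.toOverCat Z) p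
    have hf : AlgSt.RepByAlgSpWith (AlgSp.LocP @Smooth) f' :=
      Groth.Agent.StFib.repByAlgSpWith_comp_isEquivOver hp (Groth.Agent.StFib.toOverCat_isEquivOver Z)
    have h0 : BasedFunctor.comp (AlgSt.ofOverCat T0)
        (BasedFunctor.comp (AlgSt.ofSpMap ((AlgSp.yon S).map (ω ≫ u))) (AlgSt.toOverCat Z)) =
          AlgSt.overMap (ω ≫ u) := by
      rfl
    obtain ⟨z', -, ⟨iz⟩⟩ := Groth.Agent.StFib.exists_lift_space Zs f' hf (R ⧸ a) strA x
      ((AlgSp.yon S).map (ω ≫ u))
      ⟨eqToIso (congrArg (fun t => BasedFunctor.comp t p) h0) ≪≫ Groth.Agent.StFib.isoWhiskerRight (Groth.Agent.StFib.overMapCompIso ω u) p ≪≫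
        Groth.Agent.StFib.isoWhiskerLeft (AlgSt.overMap ω) iu ≪≫ Groth.Agent.StFib.isoWhiskerRight ((Groth.Agent.StFib.overMapCompIso ω κ).symm ≪≫ eqToIso (congrArg AlgSt.overMap hωκ)) x⟩
    obtain ⟨g, hg⟩ := (AlgSp.yon S).map_surjective z'
    subst hg
    exact ⟨g, ⟨iz⟩⟩

end Groth.Agent.S18326
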