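import Groth.Statements.S18324
import Groth.Agent.S18326
import Groth.Agent.StFib.RatLift.SmoothBase
import Groth.Agent.StFib.GenInertia

set_option autoImplicit false
set_option backward.isDefEq.respectTransparency false
set_option backward.isDefEq.respectTransparency.types false
universe u
open AlgSt

namespace Groth.Agent.S18324

open CategoryTheory AlgebraicGeometry in
/-- Let R be a Henselian local ring, S = Spec R, and 𝒵 an algebraic stack over (Sch/S) for the fppf
topology which is smooth over S (in the chart sense: a smooth surjective scheme chart U of 𝒵 and a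
smooth V → S with a smooth U → V compatible up to isomorphism) and whose diagonal 𝒵 → 𝒵 ×_{(Sch/S)}
𝒵 is separated (representable by algebraic spaces with closed-immersion relative diagonal). Then for
every ideal a ≠ R, with q : Spec (R/a) → S the closed immersion, the restriction functor 𝒵(R) →
𝒵(R/a) is essentially surjective: every functor z₀ : (Sch/Spec (R/a)) → 𝒵 over (Sch/S) is isomorphic
to the composite of (Sch/q) with some functor z : (Sch/S) → 𝒵 over (Sch/S). The source assumes only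
that the fibre of the diagonal over the closed point is separated; the diagonal itself is taken
separated here. -/
theorem result (R : Type u) [CommRing R]
    [HenselianLocalRing R] (𝒵 : AlgSt.Cat (Spec (CommRingCat.of R)))
    (h𝒵 : AlgSt.IsAlgStack Scheme.fppfPrecoverage 𝒵)
    (hsm : AlgSt.LocQ (AlgSp.LocP @Smooth) (FibCat.toSelf 𝒵))
    (hΔ : AlgSt.RepByAlgSpWith AlgSp.IsSeparatedMor (FibCat.diag (FibCat.toSelf 𝒵)))
    (a : Ideal R) (ha : a ≠ ⊤)
    (z₀ : FibCat.overCat (Over.mk (Spec.map (CommRingCat.ofHom (Ideal.Quotient.mk a)))) ⥤ᵇ 𝒵) :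
    ∃ z : FibCat.overCat (Over.mk (𝟙 (Spec (CommRingCat.of R)))) ⥤ᵇ 𝒵,
      Nonempty (BasedFunctor.comp (AlgSt.overMap (Over.homMk (Spec.map (CommRingCat.ofHom (Ideal.Quotient.mk a)))
        (Category.comp_id _) : Over.mk (Spec.map (CommRingCat.ofHom (Ideal.Quotient.mk a))) ⟶ Over.mk (𝟙 _))) z ≅ z₀) := by
  obtain ⟨Z, p, -, hp, hlift⟩ := Groth.Agent.S18326.result 𝒵 h𝒵 hΔ R (𝟙 _)
  have : Smooth Z.hom := Groth.Agent.StFib.RatLift.smooth_hom_of_chart h𝒵 hsm hp
  let T : Over (Spec (CommRingCat.of R)) := Over.mk (Spec.map (CommRingCat.ofHom (Ideal.Quotient.mk a)))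
  let T' : Over (Spec (CommRingCat.of R)) :=
    Over.mk (Spec.map (CommRingCat.ofHom (Ideal.Quotient.mk a)) ≫ 𝟙 _)
  let θ : T ⟶ T' := Over.homMk (𝟙 _) (by
    change 𝟙 _ ≫ Spec.map _ ≫ 𝟙 _ = Spec.map _
    rw [Category.id_comp, Category.comp_id])
  let θ' : T' ⟶ T := Over.homMk (𝟙 _) (by
    change 𝟙 _ ≫ Spec.map _ = Spec.map _ ≫ 𝟙 _
    rw [Category.id_comp, Category.comp_id])
  obtain ⟨g, ⟨ig⟩⟩ := hlift a (BasedFunctor.comp (AlgSt.overMap θ') z₀)
  obtain ⟨u, hu, hu'⟩ := Groth.Agent.StFib.RatLift.exists_section_extending Z.hom a ha (θ ≫ g).left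
    (Over.w (θ ≫ g))
  let u' : Over.mk (𝟙 (Spec (CommRingCat.of R))) ⟶ Z := Over.homMk u hu
  let q : T ⟶ Over.mk (𝟙 (Spec (CommRingCat.of R))) :=
    Over.homMk (Spec.map (CommRingCat.ofHom (Ideal.Quotient.mk a))) (Category.comp_id _)
  have hq : q ≫ u' = θ ≫ g := Over.OverMorphism.ext hu'
  have hθ : θ ≫ θ' = 𝟙 T := Over.OverMorphism.ext (Category.id_comp _)
  obtain ⟨iid⟩ : Nonempty (AlgSt.overMap (𝟙 T) ≅ BasedFunctor.id (FibCat.overCat T)) :=
    ⟨Groth.Agent.StFib.overMapIdIso T⟩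
  exact ⟨BasedFunctor.comp (AlgSt.overMap u') p,
    ⟨Groth.Agent.StFib.isoWhiskerRight ((Groth.Agent.StFib.overMapCompIso q u').symm ≪≫
      eqToIso (congrArg AlgSt.overMap hq) ≪≫ Groth.Agent.StFib.overMapCompIso θ g) p ≪≫
      Groth.Agent.StFib.isoWhiskerLeft (AlgSt.overMap θ) ig ≪≫
      Groth.Agent.StFib.isoWhiskerRight ((Groth.Agent.StFib.overMapCompIso θ θ').symm ≪≫
        eqToIso (congrArg AlgSt.overMap hθ) ≪≫ iid) z₀⟩⟩

end Groth.Agent.S18324
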