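import Groth.Statements.S18329
import Groth.Agent.MultType.GeomConn
import Groth.Agent.MultType.TorsionFinite
import Mathlib.LinearAlgebra.Lagrange
import Mathlib.RingTheory.Jacobson.Ring
-- import your own Groth.Agent.* helpers here

set_option autoImplicit false
universe u
open TensorProduct
open SGA3

namespace Groth.Agent.S18329

set_option linter.style.haveILetI false

/-- Simple tensors of idempotents. -/
def idemTensors (k R B : Type u) [CommRing k] [CommRing R] [Algebra k R] [CommRing B] [Algebra k B] :
    Submodule k (R ⊗[k] B) :=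
  Submodule.span k {x | ∃ u f, IsIdempotentElem u ∧ IsIdempotentElem f ∧ x = u ⊗ₜ[k] f}

theorem eq_one_tmul_of_connected {k : Type u} [Field k] [IsAlgClosed k]
    {R B : Type u} [CommRing R] [Algebra k R] [Algebra.FiniteType k R] [CommRing B] [Algebra k B]
    [ConnectedSpace (PrimeSpectrum R)] (e : R ⊗[k] B) (he : IsIdempotentElem e) :
    ∃ f : B, IsIdempotentElem f ∧ e = 1 ⊗ₜ[k] f := by
  haveI : Nontrivial R := PrimeSpectrum.nonempty_iff_nontrivial.mp inferInstance
  obtain ⟨m, hm⟩ := Ideal.exists_maximal R
  let _ := Ideal.Quotient.field m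
  haveI : Module.Finite k (R ⧸ m) := finite_of_finite_type_of_isJacobsonRing _ _
  haveI : Algebra.IsIntegral k (R ⧸ m) := Algebra.IsIntegral.of_finite _ _
  let φ : k ≃ₐ[k] R ⧸ m := AlgEquiv.ofBijective (Algebra.ofId k _)
    (IsAlgClosed.algebraMap_bijective_of_isIntegral (k := k) (K := R ⧸ m))
  let x : R →ₐ[k] k := φ.symm.toAlgHom.comp (Ideal.Quotient.mkₐ k m)
  let xB : R ⊗[k] B →ₐ[k] B :=
    (Algebra.TensorProduct.lid k B).toAlgHom.comp (Algebra.TensorProduct.map x (AlgHom.id k B))
  have hf : IsIdempotentElem (xB e) := he.map xB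
  refine ⟨xB e, hf, ?_⟩
  have hf' : IsIdempotentElem ((1 : R) ⊗ₜ[k] xB e) :=
    hf.map (Algebra.TensorProduct.includeRight : B →ₐ[k] R ⊗[k] B)
  refine eq_of_isNilpotent_sub_of_isIdempotentElem he hf' ?_
  rw [← mem_nilradical, nilradical_eq_sInf]
  refine Ideal.mem_sInf.mpr fun P hP => ?_
  haveI : P.IsPrime := hP
  let K := FractionRing ((R ⊗[k] B) ⧸ P)
  let π : R ⊗[k] B →ₐ[k] K := (IsScalarTower.toAlgHom k _ K).comp (Ideal.Quotient.mkₐ k P)
  let ψ : B →ₐ[k] K := π.comp Algebra.TensorProduct.includeRight
  let Φ : R ⊗[k] B →ₐ[k] R ⊗[k] K := Algebra.TensorProduct.map (AlgHom.id k R) ψ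
  haveI := MultType.GeomConn.connectedSpace_of_point x K
  have hc : ∀ z : R ⊗[k] K, IsIdempotentElem z → z = 0 ∨ z = 1 := by
    haveI : ConnectedSpace (PrimeSpectrum (R ⊗[k] K)) :=
      (PrimeSpectrum.homeomorphOfRingEquiv (Algebra.TensorProduct.comm k K R).toRingEquiv).surjective.connectedSpace
        (PrimeSpectrum.homeomorphOfRingEquiv (Algebra.TensorProduct.comm k K R).toRingEquiv).continuous
    intro z hz
    rcases isClopen_iff.mp (PrimeSpectrum.isClopen_iff.mpr ⟨z, hz, rfl⟩ :
        IsClopen (PrimeSpectrum.basicOpen z : Set (PrimeSpectrum (R ⊗[k] K)))) with h | h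
    · left
      obtain ⟨n, hn⟩ := PrimeSpectrum.basicOpen_eq_bot_iff z |>.mp (SetLike.coe_injective (by simpa using h))
      exact hz.eq_zero_of_isNilpotent ⟨n, hn⟩
    · right
      have : IsUnit z := by
        by_contra hu
        obtain ⟨M, hM, hzM⟩ := exists_max_ideal_of_mem_nonunits hu
        have : (⟨M, hM.isPrime⟩ : PrimeSpectrum (R ⊗[k] K)) ∈
            (PrimeSpectrum.basicOpen z : Set (PrimeSpectrum (R ⊗[k] K))) := h ▸ Set.mem_univ _
        exact this hzM
      exact (IsIdempotentElem.iff_eq_one_of_isUnit this).mp hz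
  let xK : R ⊗[k] K →ₐ[k] K :=
    (Algebra.TensorProduct.lid k K).toAlgHom.comp (Algebra.TensorProduct.map x (AlgHom.id k K))
  let μK : R ⊗[k] K →ₐ[k] K :=
    Algebra.TensorProduct.productMap (π.comp Algebra.TensorProduct.includeLeft) (AlgHom.id k K)
  have h1 : μK.comp Φ = π := by
    apply Algebra.TensorProduct.ext
    · ext r
      simp [μK, Φ]
    · ext b
      simp [μK, Φ, ψ, ← Algebra.TensorProduct.one_def]
  have h2 : xK.comp Φ = ψ.comp xB := by
    apply Algebra.TensorProduct.ext
    · ext r
      simp [xK, Φ, xB]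
    · ext b
      simp [xK, Φ, xB, ψ]
  have h3 : π ((1 : R) ⊗ₜ[k] xB e) = π e := by
    have h3' := DFunLike.congr_fun h2 e
    simp only [AlgHom.comp_apply] at h3'
    rw [show π ((1 : R) ⊗ₜ[k] xB e) = ψ (xB e) from rfl, ← h3', ← DFunLike.congr_fun h1 e,
      AlgHom.comp_apply]
    rcases hc _ (he.map Φ) with h | h
    · rw [h, AlgHom.comp_apply, h, map_zero, map_zero]
      exact (map_zero μK).symm
    · rw [h, AlgHom.comp_apply, h, map_one, map_one]
      exact (map_one μK).symm
  have h4 : π (e - 1 ⊗ₜ[k] xB e) = 0 := by rw [map_sub, h3, sub_self]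
  refine Ideal.Quotient.eq_zero_iff_mem.mp ?_
  exact IsFractionRing.injective ((R ⊗[k] B) ⧸ P) K (h4.trans (map_zero _).symm)

theorem mem_idemTensors {k : Type u} [Field k] [IsAlgClosed k]
    {R B : Type u} [CommRing R] [Algebra k R] [Algebra.FiniteType k R] [CommRing B] [Algebra k B]
    (e : R ⊗[k] B) (he : IsIdempotentElem e) : e ∈ idemTensors k R B := by
  haveI : IsNoetherianRing R := Algebra.FiniteType.isNoetherianRing k R
  have hfin := MultType.TorsionFinite.finite_idempotents R
  suffices H : ∀ (n : ℕ) (u : R), IsIdempotentElem u →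
      {v : R | IsIdempotentElem v ∧ v * u = v}.ncard ≤ n → (u ⊗ₜ[k] (1 : B)) * e ∈ idemTensors k R B by
    simpa [Algebra.TensorProduct.one_def.symm] using H _ 1 IsIdempotentElem.one le_rfl
  intro n
  induction n with
  | zero =>
    intro u hu hn
    have : u ∈ {v : R | IsIdempotentElem v ∧ v * u = v} := ⟨hu, hu⟩
    rw [Nat.le_zero, Set.ncard_eq_zero (hfin.subset fun v hv => hv.1)] at hn
    rw [hn] at this
    exact this.elim
  | succ n ih =>
    intro u hu hn
    by_cases hs : ∃ v : R, IsIdempotentElem v ∧ v * u = v ∧ v ≠ 0 ∧ v ≠ u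
    · obtain ⟨v, hv, hvu, hv0, hvu'⟩ := hs
      have hw : IsIdempotentElem (u - v) := by
        show (u - v) * (u - v) = u - v
        linear_combination hu.eq + hv.eq - 2 * hvu
      have key : ∀ w : R, IsIdempotentElem w → w * u = w → w ≠ u →
          {z : R | IsIdempotentElem z ∧ z * w = z}.ncard ≤ n := by
        intro w hw hwu hne
        refine Nat.le_of_lt_succ (lt_of_lt_of_le (Set.ncard_lt_ncard ?_ (hfin.subset fun z hz => hz.1)) hn)
        constructor
        · rintro z ⟨hz, hzw⟩
          exact ⟨hz, by rw [← hzw, mul_assoc, hwu]⟩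
        · intro hle
          exact hne (by rw [← hwu, mul_comm, (hle ⟨hu, hu⟩).2])
      rw [← sub_add_cancel u v, TensorProduct.add_tmul, add_mul]
      refine add_mem (ih _ hw (key _ hw ?_ ?_)) (ih _ hv (key _ hv hvu hvu'))
      · linear_combination hu.eq - hvu
      · exact fun h => hv0 (by linear_combination -h)
    · push Not at hs
      by_cases hu0 : u = 0
      · simp [hu0]
      let q : R →ₐ[k] R ⧸ Ideal.span {1 - u} := Ideal.Quotient.mkₐ k _
      have hq : ∀ r, q r = 0 ↔ r * u = 0 := by
        intro r
        rw [Ideal.Quotient.mkₐ_eq_mk, Ideal.Quotient.eq_zero_iff_mem, Ideal.mem_span_singleton']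
        constructor
        · rintro ⟨a, rfl⟩
          linear_combination (-a) * hu.eq
        · intro h
          exact ⟨r, by linear_combination -h⟩
      haveI : Nontrivial (R ⧸ Ideal.span {1 - u}) := by
        refine ⟨⟨q u, 0, fun h => hu0 ?_⟩⟩
        have := (hq u).mp h
        rwa [hu.eq] at this
      haveI : Nonempty (PrimeSpectrum (R ⧸ Ideal.span {1 - u})) := inferInstance
      haveI : PreconnectedSpace (PrimeSpectrum (R ⧸ Ideal.span {1 - u})) := by
        refine preconnectedSpace_iff_clopen.mpr fun s hs' => ?_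
        obtain ⟨z, hz, rfl⟩ := PrimeSpectrum.isClopen_iff.mp hs'
        obtain ⟨r, rfl⟩ := Ideal.Quotient.mk_surjective z
        have hr : IsIdempotentElem (r * u) := by
          have h := (hq (r * r - r)).mp (by
            rw [map_sub, map_mul]; exact sub_eq_zero.mpr hz.eq)
          show r * u * (r * u) = r * u
          linear_combination h + r * r * hu.eq
        rcases eq_or_ne (r * u) 0 with h | h
        · left
          have : q r = 0 := (hq r).mpr h
          rw [Ideal.Quotient.mkₐ_eq_mk] at this
          simp [this]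
        · right
          have h' := hs (r * u) hr (by rw [mul_assoc, hu.eq]) h
          have : q (r - 1) = 0 := (hq _).mpr (by linear_combination h')
          rw [map_sub, map_one, sub_eq_zero, Ideal.Quotient.mkₐ_eq_mk] at this
          simp [this]
      haveI : ConnectedSpace (PrimeSpectrum (R ⧸ Ideal.span {1 - u})) := ⟨inferInstance⟩
      let Q : R ⊗[k] B →ₐ[k] (R ⧸ Ideal.span {1 - u}) ⊗[k] B :=
        Algebra.TensorProduct.map q (AlgHom.id k B)
      obtain ⟨f, hf, hef⟩ := eq_one_tmul_of_connected (Q e) (he.map Q)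
      let s : (R ⧸ Ideal.span {1 - u}) →ₗ[k] R :=
        ((Submodule.restrictScalars k (Ideal.span {1 - u})).liftQ (LinearMap.mulLeft k u) (by
          intro r hr
          rw [LinearMap.mem_ker, LinearMap.mulLeft_apply, mul_comm]
          exact (hq r).mp (Ideal.Quotient.eq_zero_iff_mem.mpr hr))).comp
        (Submodule.Quotient.restrictScalarsEquiv k (Ideal.span {1 - u})).symm.toLinearMap
      have h5 : (LinearMap.rTensor B s).comp Q.toLinearMap =
          LinearMap.mulLeft k (u ⊗ₜ[k] (1 : B)) := by
        refine TensorProduct.ext' fun r b => ?_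
        simp [Q, q, s]
        rfl
      have h6 := LinearMap.congr_fun h5 e
      simp only [LinearMap.comp_apply, AlgHom.toLinearMap_apply, LinearMap.mulLeft_apply, hef] at h6
      rw [← h6]
      refine Submodule.subset_span ⟨u, f, hu, hf, ?_⟩
      simp only [LinearMap.rTensor_tmul]
      congr 1
      show u * 1 = u
      exact mul_one u

theorem mem_span_idempotents_of_isSeparable {k : Type u} [Field k] [IsAlgClosed k]
    {R : Type u} [CommRing R] [Algebra k R] (a : R) (ha : IsSeparable k a) :
    a ∈ Submodule.span k {e : R | IsIdempotentElem e} := by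
  classical
  have hm : (minpoly k a).Separable := ha
  have hint : IsIntegral k a := ha.isIntegral
  have hsp : (minpoly k a).Splits := IsAlgClosed.splits _
  let s := (minpoly k a).roots.toFinset
  have hcard : (minpoly k a).natDegree = s.card := by
    rw [Multiset.toFinset_card_of_nodup (Polynomial.nodup_roots hm), hsp.natDegree_eq_card_roots]
  have key : ∀ P : Polynomial k, (∀ c ∈ s, P.eval c = 0) → Polynomial.aeval a P = 0 := by
    intro P hP
    have h0 : P %ₘ minpoly k a = 0 := by
      refine Polynomial.eq_zero_of_degree_lt_of_eval_finset_eq_zero s ?_ fun c hc => ?_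
      · refine (Polynomial.degree_modByMonic_lt P (minpoly.monic hint)).trans_le ?_
        rw [← hcard]
        exact Polynomial.degree_le_natDegree
      · have hc' : (minpoly k a).eval c = 0 :=
          (Polynomial.mem_roots (minpoly.ne_zero hint)).mp (Multiset.mem_toFinset.mp hc)
        have := congrArg (Polynomial.eval c) (Polynomial.modByMonic_add_div P (minpoly k a))
        rw [Polynomial.eval_add, Polynomial.eval_mul, hc', zero_mul, add_zero] at this
        rw [this]
        exact hP c hc
    rw [← Polynomial.modByMonic_add_div P (minpoly k a), h0, zero_add, map_mul, minpoly.aeval, zero_mul]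
  have hinj : Set.InjOn (id : k → k) s := fun _ _ _ _ h => h
  let ε : k → R := fun c => Polynomial.aeval a (Lagrange.basis s id c)
  have hε : ∀ c ∈ s, IsIdempotentElem (ε c) := by
    intro c hc
    show ε c * ε c = ε c
    rw [← sub_eq_zero, ← map_mul, ← map_sub]
    refine key _ fun d hd => ?_
    rw [Polynomial.eval_sub, Polynomial.eval_mul]
    rcases eq_or_ne d c with rfl | h
    · have := Lagrange.eval_basis_self (v := id) hinj hd
      simp only [id_eq] at this
      simp [this]
    · have := Lagrange.eval_basis_of_ne (v := id) (i := c) h.symm hd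
      simp only [id_eq] at this
      simp [this]
  have h1 : a = ∑ c ∈ s, c • ε c := by
    have h2 := key (Polynomial.X - Lagrange.interpolate s id id) fun d hd => by
      have := Lagrange.eval_interpolate_at_node (v := id) (r := id) hinj hd
      simp only [id_eq] at this
      rw [Polynomial.eval_sub, Polynomial.eval_X, this, sub_self]
    rw [map_sub, Polynomial.aeval_X, sub_eq_zero, Lagrange.interpolate_apply, map_sum] at h2
    refine h2.trans (Finset.sum_congr rfl fun c _ => ?_)
    rw [map_mul, Polynomial.aeval_C, Algebra.smul_def]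
    rfl
  rw [h1]
  exact sum_mem fun c hc => Submodule.smul_mem _ _ (Submodule.subset_span (hε c hc))

theorem isSeparable_of_isIdempotentElem {k R : Type u} [Field k] [CommRing R] [Algebra k R] {e : R}
    (he : IsIdempotentElem e) : IsSeparable k e := by
  have h0 : Polynomial.aeval e ((Polynomial.X - Polynomial.C (0:k)) * (Polynomial.X - Polynomial.C 1)) = 0 := by
    simp [mul_sub, he.eq]
  refine Polynomial.Separable.of_dvd ?_ (minpoly.dvd k e h0)
  exact Polynomial.separable_X_sub_C.mul Polynomial.separable_X_sub_C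
    (Polynomial.isCoprime_X_sub_C_of_isUnit_sub (by simp))

theorem isSeparable_map {k R T : Type u} [Field k] [CommRing R] [Algebra k R] [CommRing T] [Algebra k T]
    (f : R →ₐ[k] T) {a : R} (ha : IsSeparable k a) : IsSeparable k (f a) :=
  Polynomial.Separable.of_dvd ha (minpoly.dvd k (f a) (by
    rw [Polynomial.aeval_algHom_apply, minpoly.aeval, map_zero]))

theorem range_map_inf {k A : Type u} [Field k] [AddCommGroup A] [Module k A] (V W : Submodule k A)
    {x : A ⊗[k] A} (hV : x ∈ LinearMap.range (TensorProduct.map V.subtype V.subtype))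
    (hW : x ∈ LinearMap.range (TensorProduct.map W.subtype W.subtype)) :
    x ∈ LinearMap.range (TensorProduct.map (V ⊓ W).subtype (V ⊓ W).subtype) := by
  have left : ∀ {M : Type u} [AddCommGroup M] [Module k M] (y : A ⊗[k] M),
      y ∈ LinearMap.range (LinearMap.rTensor M V.subtype) →
      y ∈ LinearMap.range (LinearMap.rTensor M W.subtype) →
      y ∈ LinearMap.range (LinearMap.rTensor M (V ⊓ W).subtype) := by
    intro M _ _ y hyV hyW
    obtain ⟨v, rfl⟩ := hyV
    have hex : Function.Exact (Submodule.inclusion (inf_le_left : V ⊓ W ≤ V)) (W.mkQ.comp V.subtype) := by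
      intro z
      simp only [LinearMap.comp_apply, Submodule.mkQ_apply, Submodule.Quotient.mk_eq_zero]
      constructor
      · intro hz; exact ⟨⟨z, z.2, hz⟩, rfl⟩
      · rintro ⟨w, rfl⟩; exact w.2.2
    have h0 : LinearMap.rTensor M (W.mkQ.comp V.subtype) v = 0 := by
      obtain ⟨w, hw⟩ := hyW
      rw [LinearMap.rTensor_comp_apply, ← hw, ← LinearMap.rTensor_comp_apply,
        show W.mkQ.comp W.subtype = 0 from by ext z; simp, LinearMap.rTensor_zero]
      simp
    obtain ⟨w, rfl⟩ := (Module.Flat.rTensor_exact M hex v).mp h0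
    exact ⟨w, by rw [← LinearMap.rTensor_comp_apply]; rfl⟩
  have hl : ∀ (P : Submodule k A) z, z ∈ LinearMap.range (TensorProduct.map P.subtype P.subtype) →
      z ∈ LinearMap.range (LinearMap.rTensor A P.subtype) ∧
      (TensorProduct.comm k A A) z ∈ LinearMap.range (LinearMap.rTensor A P.subtype) := by
    rintro P z ⟨y, rfl⟩
    induction y using TensorProduct.induction_on with
    | zero => simp
    | tmul a b => exact ⟨⟨a ⊗ₜ b.1, by simp⟩, ⟨b ⊗ₜ a.1, by simp⟩⟩
    | add p q hp hq => simp only [map_add]; exact ⟨add_mem hp.1 hq.1, add_mem hp.2 hq.2⟩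
  obtain ⟨u, hu⟩ := left _ (hl V _ hV).1 (hl W _ hW).1
  obtain ⟨w, hw⟩ := left _ (hl V _ hV).2 (hl W _ hW).2
  obtain ⟨π, hπ⟩ := LinearMap.exists_leftInverse_of_injective (V ⊓ W).subtype
    (Submodule.ker_subtype _)
  let P := (V ⊓ W).subtype.comp π
  have hPi : P.comp (V ⊓ W).subtype = (V ⊓ W).subtype := by
    rw [LinearMap.comp_assoc, hπ, LinearMap.comp_id]
  have h1 : LinearMap.rTensor A P x = x := by rw [← hu, ← LinearMap.rTensor_comp_apply, hPi]
  have h2 : LinearMap.lTensor A P x = x := by
    apply (TensorProduct.comm k A A).injective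
    have : (TensorProduct.comm k A A).toLinearMap.comp (LinearMap.lTensor A P) =
        (LinearMap.rTensor A P).comp (TensorProduct.comm k A A).toLinearMap := by ext; simp
    have h := LinearMap.congr_fun this x
    simp only [LinearMap.comp_apply, LinearEquiv.coe_coe] at h
    rw [h, ← hw, ← LinearMap.rTensor_comp_apply, hPi]
  refine ⟨TensorProduct.map π π x, ?_⟩
  rw [← LinearMap.comp_apply, ← TensorProduct.map_comp, ← LinearMap.rTensor_comp_lTensor,
    LinearMap.comp_apply]
  show LinearMap.rTensor A P (LinearMap.lTensor A P x) = x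
  rw [h2, h1]

/-- Let k be an algebraically closed field of prime characteristic p and A a commutative Hopf algebra
over k, the coordinate ring of an affine k-group G, quotient groups of G being read as
sub-Hopf-algebras of A (subalgebras stable under comultiplication and antipode). Let B₀ be the
subalgebra of elements of A that are separable over k (its spectrum is the group of connected
components π₀(G)) and let C be the largest cocommutative sub-Hopf-algebra of A (its spectrum is the
largest commutative quotient group G_ab). Then B₀ ⊓ C, whose spectrum is π₀(G_ab), is the largest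
cocommutative sub-Hopf-algebra of A contained in B₀, whose spectrum is the largest commutative
quotient of π₀(G): the canonical homomorphism from π₀(G_ab) to (π₀(G))_ab is an isomorphism. (The
abelianization is rendered through its universal property among affine quotient groups, as the
largest cocommutative sub-Hopf-algebra, rather than as the quotient by the derived subgroup.) -/
theorem result (k A : Type u) [Field k] [IsAlgClosed k]
    (p : ℕ) [Fact p.Prime] [CharP k p] [CommRing A] [HopfAlgebra k A]
    (B₀ : Subalgebra k A) (hB₀ : ∀ a : A, a ∈ B₀ ↔ IsSeparable k a)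
    (C : Subalgebra k A) (hC : SGA3.IsHopfSubalgebra k A C)
    (hCc : ∀ c ∈ C, TensorProduct.comm k A A (Coalgebra.comul c) = Coalgebra.comul c)
    (hCmax : ∀ D : Subalgebra k A, SGA3.IsHopfSubalgebra k A D →
      (∀ d ∈ D, TensorProduct.comm k A A (Coalgebra.comul d) = Coalgebra.comul d) → D ≤ C) :
    IsGreatest {D : Subalgebra k A | SGA3.IsHopfSubalgebra k A D ∧
      (∀ d ∈ D, TensorProduct.comm k A A (Coalgebra.comul d) = Coalgebra.comul d) ∧ D ≤ B₀}
      (B₀ ⊓ C) := by
  have idem : ∀ e : A, IsIdempotentElem e → e ∈ B₀ := fun e he =>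
    (hB₀ e).mpr (isSeparable_of_isIdempotentElem he)
  have hB : IsHopfSubalgebra k A B₀ := by
    refine ⟨fun b hb => ?_, fun b hb =>
      (hB₀ _).mpr (isSeparable_map (HopfAlgebra.antipodeAlgHom k A) ((hB₀ b).mp hb))⟩
    have hs : IsSeparable k (Bialgebra.comulAlgHom k A b) :=
      isSeparable_map (Bialgebra.comulAlgHom k A) ((hB₀ b).mp hb)
    refine Submodule.span_le.mpr ?_ (mem_span_idempotents_of_isSeparable _ hs)
    intro e he
    obtain ⟨s, hs⟩ := TensorProduct.exists_finset (R := k) e
    classical
    let A' := Algebra.adjoin k ((s.image Prod.fst : Finset A) : Set A)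
    haveI : Algebra.FiniteType k A' :=
      A'.fg_iff_finiteType.mp (Subalgebra.fg_adjoin_finset _)
    let ι : A' ⊗[k] A →ₐ[k] A ⊗[k] A := Algebra.TensorProduct.map A'.val (AlgHom.id k A)
    have hι : Function.Injective ι :=
      Module.Flat.rTensor_preserves_injective_linearMap A'.val.toLinearMap Subtype.val_injective
    obtain ⟨e', rfl⟩ : ∃ e', ι e' = e := by
      rw [← AlgHom.mem_range, hs]
      refine sum_mem fun p hp => ?_
      exact ⟨⟨p.1, Algebra.subset_adjoin (Finset.mem_image_of_mem _ hp)⟩ ⊗ₜ p.2, rfl⟩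
    have he' : IsIdempotentElem e' := hι (by rw [map_mul]; exact he)
    have hm := mem_idemTensors e' he'
    clear he he' hs
    induction hm using Submodule.span_induction with
    | mem x hx =>
      obtain ⟨u, f, hu, hf, rfl⟩ := hx
      exact ⟨⟨u.1, idem _ (hu.map A'.val)⟩ ⊗ₜ ⟨f, idem _ hf⟩, rfl⟩
    | zero => rw [map_zero]; exact zero_mem _
    | add x y _ _ hx hy => rw [map_add]; exact add_mem hx hy
    | smul c x _ hx => rw [map_smul]; exact Submodule.smul_mem _ _ hx
  refine ⟨⟨⟨fun b hb => ?_, fun b hb => ⟨hB.2 b hb.1, hC.2 b hb.2⟩⟩,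
    fun d hd => hCc d hd.2, inf_le_left⟩, fun D hD => le_inf hD.2.2 (hCmax D hD.1 hD.2.1)⟩
  exact range_map_inf B₀.toSubmodule C.toSubmodule (hB.1 b hb.1) (hC.1 b hb.2)

end Groth.Agent.S18329
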