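import Groth.Statements.S1833
import Groth.Agent.CycHerb.IndexFormula
-- import your own Groth.Agent.* helpers here

set_option autoImplicit false
universe u v
open Pointwise
open CycAlg

namespace Groth.Agent.S1833

open Groth.Agent.CycHerb Groth.Agent.LenLib

/-- Let R be Noetherian local, M a finite R-module whose support has dimension at most 1, and x an
element with M/xM supported in dimension ≤ 0. Then length(M/xM) = length(ker(x : M → M)) + Σ_q
ord_{R/q}(x) · length_{R_q}(M_q), the sum running over the primes q of the support other than the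
maximal ideal (stated in ℕ∞; all terms are finite under the hypotheses). -/
theorem result (R : Type u) [CommRing R] [IsNoetherianRing R] [IsLocalRing R] (M : Type u) [AddCommGroup M] [Module R M] [Module.Finite R M] (x : R) (h1 : Module.supportDim R M ≤ 1) (h0 : Module.supportDim R (M ⧸ x • (⊤ : Submodule R M)) ≤ 0) : Module.length R (M ⧸ x • (⊤ : Submodule R M)) = Module.length R (LinearMap.ker (LinearMap.lsmul R M x)) + ∑ᶠ (p : PrimeSpectrum R) (_ : p ∈ Module.support R M ∧ p.asIdeal ≠ IsLocalRing.maximalIdeal R), Ring.ord (R ⧸ p.asIdeal) (Ideal.Quotient.mk p.asIdeal x) * Module.length (Localization.AtPrime p.asIdeal) (LocalizedModule p.asIdeal.primeCompl M) := by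
  have hset : {p : PrimeSpectrum R | p ∈ Module.support R M ∧
      p.asIdeal ≠ IsLocalRing.maximalIdeal R} =
      {p : PrimeSpectrum R | p ∈ Module.support R M ∧ ¬ p.asIdeal.IsMaximal} := by
    ext p
    exact and_congr_right fun _ => not_congr
      ⟨fun e => e ▸ IsLocalRing.maximalIdeal.isMaximal R, IsLocalRing.eq_maximalIdeal⟩
  have hfin := finite_nonMaximal_support h1
  set T := hfin.toFinset with hTdef
  have hmem : ∀ p, p ∈ T ↔ p ∈ Module.support R M ∧ ¬ p.asIdeal.IsMaximal := fun p => by
    rw [hTdef, Set.Finite.mem_toFinset]; rfl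
  have hx : ∀ p ∈ T, x ∉ p.asIdeal := fun p hp hxp => by
    obtain ⟨hps, hpm⟩ := (hmem p).1 hp
    refine hpm (isMaximal_of_supportDim_le_zero h0 ?_)
    show p ∈ Module.support R (QuotSMulTop x M)
    rw [Module.support_quotSMulTop]
    exact ⟨hps, by simpa using hxp⟩
  have hanti : ∀ p ∈ T, ∀ q ∈ T, q ≤ p → q = p := fun p hp q hq hqp =>
    supportDim_le_one_minimal h1 ((hmem p).1 hp).2 ((hmem q).1 hq).1 hqp
  obtain ⟨⟨hk, hc⟩, hidx⟩ := index_lsmul_eq_sum x T (fun p hp => ((hmem p).1 hp).2) hanti hx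
    (fun p hp hpm => (hmem p).2 ⟨hp, hpm⟩) (M := M)
  have hterm : ∀ p ∈ T, ∃ n m : ℕ, Ring.ord (R ⧸ p.asIdeal) (Ideal.Quotient.mk p.asIdeal x) = n ∧
      Module.length (Localization p.asIdeal.primeCompl)
        (LocalizedModule p.asIdeal.primeCompl M) = m := by
    intro p hp
    obtain ⟨hps, hpm⟩ := (hmem p).1 hp
    have hm := length_localized_ne_top (M := M) p
      fun q hq hqp => supportDim_le_one_minimal h1 hpm hq hqp
    have hn : Ring.ord (R ⧸ p.asIdeal) (Ideal.Quotient.mk p.asIdeal x) ≠ ⊤ := by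
      have := (index_lsmul_eq_sum x T (fun q hq => ((hmem q).1 hq).2) hanti hx
        (fun q hq hqm => (hmem q).2 ⟨by
          rw [Module.support_eq_zeroLocus, Ideal.annihilator_quotient] at hq
          exact Module.mem_support_mono (p := p) hq hps, hqm⟩) (M := R ⧸ p.asIdeal)).1.2
      rw [range_lsmul_eq] at this
      rw [Ring.ord, ← Module.length_eq_of_surjective (S := R) (R := R ⧸ p.asIdeal)
        Ideal.Quotient.mk_surjective]
      refine ne_top_of_le_ne_top this (Module.length_le_of_surjective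
        ((x • (⊤ : Submodule R (R ⧸ p.asIdeal))).mapQ
          ((Ideal.span {Ideal.Quotient.mk p.asIdeal x}).restrictScalars R) LinearMap.id ?_) ?_)
      · intro m hm
        obtain ⟨w, -, rfl⟩ := (Submodule.mem_smul_pointwise_iff_exists _ _ _).1 hm
        refine Ideal.mem_span_singleton'.2 ⟨w, ?_⟩
        rw [Algebra.smul_def, Ideal.Quotient.algebraMap_eq, mul_comm]
      · intro q
        obtain ⟨z, rfl⟩ := Submodule.Quotient.mk_surjective _ q
        exact ⟨Submodule.Quotient.mk z, rfl⟩
    obtain ⟨n, hn⟩ := ENat.ne_top_iff_exists.1 hn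
    obtain ⟨m, hm⟩ := ENat.ne_top_iff_exists.1 hm
    exact ⟨n, m, hn.symm, hm.symm⟩
  choose! n m hn hm using hterm
  have hsum : (∑ᶠ (p : PrimeSpectrum R)
      (_ : p ∈ Module.support R M ∧ p.asIdeal ≠ IsLocalRing.maximalIdeal R),
      Ring.ord (R ⧸ p.asIdeal) (Ideal.Quotient.mk p.asIdeal x) *
        Module.length (Localization.AtPrime p.asIdeal)
          (LocalizedModule p.asIdeal.primeCompl M)) = ((∑ p ∈ T, n p * m p : ℕ) : ℕ∞) := by
    refine (finsum_mem_congr hset fun _ _ => rfl).trans
      ((finsum_mem_eq_finite_toFinset_sum _ hfin).trans ?_)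
    push_cast
    exact Finset.sum_congr hTdef.symm fun p hp => by rw [hn p hp]; exact congr_arg _ (hm p hp)
  have hsumZ : (∑ p ∈ T, ordZ (Ideal.Quotient.mk p.asIdeal x) *
        lenZ (Localization p.asIdeal.primeCompl) (LocalizedModule p.asIdeal.primeCompl M)) =
      ((∑ p ∈ T, n p * m p : ℕ) : ℤ) := by
    push_cast
    refine Finset.sum_congr rfl fun p hp => ?_
    have h' := hn p hp
    simp only [Ring.ord] at h'
    simp only [ordZ, lenZ, h', hm p hp, ENat.toNat_coe]
  rw [hsumZ] at hidx
  obtain ⟨K, hK⟩ := ENat.ne_top_iff_exists.1 hk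
  obtain ⟨C, hC⟩ := ENat.ne_top_iff_exists.1 hc
  simp only [index, lenZ, ← hK, ← hC, ENat.toNat_coe] at hidx
  rw [hsum, ← hK, ← (Submodule.quotEquivOfEq _ _ (range_lsmul_eq x)).length_eq, ← hC]
  have hCK : C = K + ∑ p ∈ T, n p * m p := by omega
  rw [hCK, Nat.cast_add]

end Groth.Agent.S1833
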