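import Groth.Statements.S18330
import Groth.Agent.CAlg99.BilinLattice

set_option autoImplicit false
open CAlg CAlg99

namespace Groth.Agent.S18330

/-- Let r ≥ 1, let δ ≥ 0 and g be integers with δ dividing 2(g - 1), and let d be a vector of ℤ^r whose
coordinates have non-negative gcd D (its divisibility). For a symmetric bilinear form b on ℤ^r the
map x ↦ b(d, x) + (1 - g) b(x, x) taken modulo δ is additive (because δ divides 2(g - 1)); let H be
the subgroup of Hom(ℤ^r, ℤ/δℤ) generated by all such maps. Then the quotient of Hom(ℤ^r, ℤ/δℤ) by H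
is isomorphic to ℤ/gcd(δ, D + 1 - g) × (ℤ/gcd(δ, g - 1, D))^(r-1) (existence of an isomorphism of
abelian groups; for δ = 0 read ℤ/0ℤ = ℤ). (The published corollary is a statement about the cokernel
of the weight homomorphism on the Picard group of the rigidified stack of T-bundles of degree d on a
family of curves of genus g with invariant δ; this row is the lattice computation that its printed
proof carries out, the divisibility δ ∣ 2g - 2 being the standing property of that invariant.) -/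
theorem result
    (r : ℕ) (hr : 0 < r) (δ : ℕ) (g : ℤ) (hδ : (δ : ℤ) ∣ 2 * (g - 1))
    (d : Fin r → ℤ) :
    Nonempty ((((Fin r → ℤ) →+ ZMod δ) ⧸ AddSubgroup.closure
      {φ : (Fin r → ℤ) →+ ZMod δ | ∃ b : LinearMap.BilinForm ℤ (Fin r → ℤ), b.IsSymm ∧
      ∀ x, φ x = ((b d x + (1 - g) * b x x : ℤ) : ZMod δ)}) ≃+
      (ZMod (Int.gcd δ (Finset.univ.gcd d + 1 - g)) ×
        (Fin (r - 1) → ZMod (Int.gcd δ (Int.gcd (g - 1) (Finset.univ.gcd d)))))) := by
  classical
  obtain ⟨n, rfl⟩ := Nat.exists_eq_succ_of_ne_zero hr.ne'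
  show Nonempty ((((Fin (n + 1) → ℤ) →+ ZMod δ) ⧸ BilinLattice.H δ g d) ≃+
    (ZMod (Int.gcd δ (Finset.univ.gcd d + 1 - g)) ×
        (Fin n → ZMod (Int.gcd δ (Int.gcd (g - 1) (Finset.univ.gcd d))))))
  obtain ⟨T, hT⟩ := BilinLattice.exists_basis d
  set D := Finset.univ.gcd d
  set c₀ := Int.gcd δ (D + 1 - g) with hc₀
  set c₁ := Int.gcd δ (Int.gcd (g - 1) D) with hc₁
  have h0 : c₀ ∣ δ := Int.natCast_dvd_natCast.1 (Int.gcd_dvd_left _ _)
  have h1 : c₁ ∣ δ := Int.natCast_dvd_natCast.1 (Int.gcd_dvd_left _ _)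
  let f : ((Fin (n + 1) → ℤ) →+ ZMod δ) →+ ZMod c₀ × (Fin n → ZMod c₁) :=
    { toFun := fun φ => (ZMod.castHom h0 _ (φ (T.symm (Pi.single 0 1))),
        fun i => ZMod.castHom h1 _ (φ (T.symm (Pi.single i.succ 1))))
      map_zero' := by ext <;> simp
      map_add' := fun φ ψ => Prod.ext ((ZMod.castHom h0 (ZMod c₀)).map_add _ _) (funext fun i => (ZMod.castHom h1 (ZMod c₁)).map_add _ _) }
  have hker : f.ker = BilinLattice.H δ g d := by
    have hc : ∀ (c : ℕ) (hc : c ∣ δ) (z : ZMod δ),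
        ZMod.castHom hc (ZMod c) z = 0 ↔ ∃ y, z = (c : ZMod δ) * y := fun c hc z => by
      refine ⟨fun h => ?_, fun ⟨y, hy⟩ => by rw [hy, map_mul, map_natCast, ZMod.natCast_self, zero_mul]⟩
      have h' : ((z.cast : ℤ) : ZMod c) = 0 := by
        rw [← h]
        conv_rhs => rw [← ZMod.intCast_zmod_cast z, map_intCast]
      obtain ⟨q, hq⟩ := (ZMod.intCast_zmod_eq_zero_iff_dvd _ _).1 h'
      exact ⟨q, by rw [← ZMod.intCast_zmod_cast z, hq]; push_cast; rfl⟩
    ext φ
    rw [AddMonoidHom.mem_ker, BilinLattice.mem_H_iff hδ T hT, Fin.forall_fin_succ]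
    simp only [f, AddMonoidHom.coe_mk, ZeroHom.coe_mk, Prod.ext_iff, funext_iff, Prod.fst_zero,
      Prod.snd_zero, Pi.zero_apply, hc, BilinLattice.modulus, Fin.succ_ne_zero, if_false, if_true, ← hc₀, ← hc₁]
  have hsurj : Function.Surjective f := fun z => by
    choose y₀ hy₀ using ZMod.castHom_surjective h0
    choose y₁ hy₁ using ZMod.castHom_surjective h1
    refine ⟨BilinLattice.ofValues T (Fin.cons (y₀ z.1) fun i => y₁ (z.2 i)), ?_⟩
    refine Prod.ext ?_ (funext fun i => ?_)
    · show ZMod.castHom h0 _ _ = _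
      rw [BilinLattice.ofValues_apply, Fin.cons_zero, hy₀]
    · show ZMod.castHom h1 _ _ = _
      rw [BilinLattice.ofValues_apply, Fin.cons_succ, hy₁]
  exact ⟨(QuotientAddGroup.quotientAddEquivOfEq hker.symm).trans
    (QuotientAddGroup.quotientKerEquivOfSurjective f hsurj)⟩

end Groth.Agent.S18330
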