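import Groth.Statements.S18331
import Groth.Agent.CAlg99.BilinLattice

set_option autoImplicit false
open CAlg CAlg99

namespace Groth.Agent.S18331

/-- Let r ≥ 1, let δ ≥ 1 and g be integers with δ dividing 2(g - 1), and let d be a vector of ℤ^r whose
coordinates have non-negative gcd D. Let H be the subgroup of Hom(ℤ^r, ℤ/δℤ) generated by the
additive maps x ↦ b(d, x) + (1 - g) b(x, x) modulo δ, for b a symmetric bilinear form on ℤ^r. Then H
is isomorphic to ℤ/(δ/gcd(δ, D + 1 - g)) × (ℤ/(δ/gcd(δ, g - 1, D)))^(r-1) (existence of an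
isomorphism of abelian groups). (The published corollary states this as the structure of the
cokernel of the class map to the Neron-Severi lattice for the rigidified stack of T-bundles of
degree d on a family of curves of genus g with invariant δ > 0; this row is the lattice computation
that its printed proof carries out.) -/
theorem result
    (r : ℕ) (hr : 0 < r) (δ : ℕ) (hδ0 : 0 < δ) (g : ℤ) (hδ : (δ : ℤ) ∣ 2 * (g - 1))
    (d : Fin r → ℤ) :
    Nonempty (AddSubgroup.closure
      {φ : (Fin r → ℤ) →+ ZMod δ | ∃ b : LinearMap.BilinForm ℤ (Fin r → ℤ), b.IsSymm ∧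
      ∀ x, φ x = ((b d x + (1 - g) * b x x : ℤ) : ZMod δ)} ≃+
      (ZMod (δ / Int.gcd δ (Finset.univ.gcd d + 1 - g)) ×
        (Fin (r - 1) → ZMod (δ / Int.gcd δ (Int.gcd (g - 1) (Finset.univ.gcd d)))))) := by
  classical
  obtain ⟨n, rfl⟩ := Nat.exists_eq_succ_of_ne_zero hr.ne'
  show Nonempty (BilinLattice.H δ g d ≃+
    (ZMod (δ / Int.gcd δ (Finset.univ.gcd d + 1 - g)) ×
        (Fin n → ZMod (δ / Int.gcd δ (Int.gcd (g - 1) (Finset.univ.gcd d))))))
  obtain ⟨T, hT⟩ := BilinLattice.exists_basis d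
  set D := Finset.univ.gcd d
  set c₀ := Int.gcd δ (D + 1 - g) with hc₀
  set c₁ := Int.gcd δ (Int.gcd (g - 1) D) with hc₁
  -- multiplication by a divisor of `δ`
  have emb : ∀ c : ℕ, c ∣ δ → ∃ m : ZMod (δ / c) →+ ZMod δ, Function.Injective m ∧
      ∀ z : ℤ, m (z : ZMod (δ / c)) = (c : ZMod δ) * (z : ZMod δ) := by
    intro c hc
    obtain ⟨q, hq⟩ := hc
    have hc0 : c ≠ 0 := by rintro rfl; simp at hq; omega
    have hdiv : δ / c = q := by rw [hq, Nat.mul_div_cancel_left _ (Nat.pos_of_ne_zero hc0)]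
    let k : ℤ →+ ZMod δ := (AddMonoidHom.mulLeft (c : ZMod δ)).comp (Int.castAddHom (ZMod δ))
    have hk : k (δ / c : ℕ) = 0 := by
      show (c : ZMod δ) * ((δ / c : ℕ) : ℤ) = 0
      rw [hdiv, Int.cast_natCast, ← Nat.cast_mul, ← hq, ZMod.natCast_self]
    refine ⟨ZMod.lift (δ / c) ⟨k, hk⟩, (ZMod.lift_injective _).2 fun m hm => ?_, fun z => ZMod.lift_coe _ _ z⟩
    have hm' : ((c * m : ℤ) : ZMod δ) = 0 := by push_cast; exact hm
    rw [ZMod.intCast_zmod_eq_zero_iff_dvd] at hm' ⊢
    rw [hdiv]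
    rw [hq, Nat.cast_mul] at hm'
    exact Int.dvd_of_mul_dvd_mul_left (by exact_mod_cast hc0) hm'
  obtain ⟨m₀, hm₀, hm₀'⟩ := emb c₀ (Int.natCast_dvd_natCast.1 (Int.gcd_dvd_left _ _))
  obtain ⟨m₁, hm₁, hm₁'⟩ := emb c₁ (Int.natCast_dvd_natCast.1 (Int.gcd_dvd_left _ _))
  let f : ZMod (δ / c₀) × (Fin n → ZMod (δ / c₁)) →+ ((Fin (n + 1) → ℤ) →+ ZMod δ) :=
    { toFun := fun z => BilinLattice.ofValues T (Fin.cons (m₀ z.1) fun i => m₁ (z.2 i))
      map_zero' := by
        unfold BilinLattice.ofValues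
        refine Finset.sum_eq_zero fun i _ => ?_
        refine Fin.cases ?_ (fun j => ?_) i <;> simp
      map_add' := fun z w => by
        unfold BilinLattice.ofValues
        rw [← Finset.sum_add_distrib]
        refine Finset.sum_congr rfl fun i _ => ?_
        rw [← map_add]
        congr 1
        refine Fin.cases ?_ (fun j => ?_) i <;> simp }
  have hinj : Function.Injective f := fun z w h => by
    have hi := fun i => DFunLike.congr_fun h (T.symm (Pi.single i 1))
    simp only [f, AddMonoidHom.coe_mk, ZeroHom.coe_mk, BilinLattice.ofValues_apply] at hi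
    exact Prod.ext (hm₀ (by simpa using hi 0)) (funext fun j => hm₁ (by simpa using hi j.succ))
  have hrange : f.range = BilinLattice.H δ g d := by
    ext φ
    rw [BilinLattice.mem_H_iff hδ T hT]
    constructor
    · rintro ⟨z, rfl⟩ i
      simp only [f, AddMonoidHom.coe_mk, ZeroHom.coe_mk, BilinLattice.ofValues_apply]
      refine Fin.cases ?_ (fun j => ?_) i
      · obtain ⟨a, ha⟩ := ZMod.intCast_surjective z.1
        exact ⟨a, by rw [Fin.cons_zero, ← ha, hm₀', BilinLattice.modulus, if_pos rfl]⟩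
      · obtain ⟨a, ha⟩ := ZMod.intCast_surjective (z.2 j)
        exact ⟨a, by rw [Fin.cons_succ, ← ha, hm₁', BilinLattice.modulus, if_neg (Fin.succ_ne_zero j)]⟩
    · intro h
      choose y hy using h
      refine ⟨(((y 0).cast : ℤ), fun i => ((y i.succ).cast : ℤ)), ?_⟩
      have hi : ∀ i, f (((y 0).cast : ℤ), fun i => ((y i.succ).cast : ℤ)) (T.symm (Pi.single i 1)) =
          φ (T.symm (Pi.single i 1)) := fun i => by
        simp only [f, AddMonoidHom.coe_mk, ZeroHom.coe_mk, BilinLattice.ofValues_apply]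
        refine Fin.cases ?_ (fun j => ?_) i
        · rw [Fin.cons_zero, hm₀', ZMod.intCast_zmod_cast, hy, BilinLattice.modulus, if_pos rfl]
        · rw [Fin.cons_succ, hm₁', ZMod.intCast_zmod_cast, hy, BilinLattice.modulus, if_neg (Fin.succ_ne_zero j)]
      refine AddMonoidHom.ext fun x => ?_
      have hx : x = ∑ i, T x i • T.symm (Pi.single i 1) := by
        apply T.injective
        simp only [map_sum, map_smul, T.apply_symm_apply]
        ext j; simp [Pi.single_apply]
      rw [hx, map_sum, map_sum]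
      exact Finset.sum_congr rfl fun i _ => by rw [map_zsmul, map_zsmul, hi]
  exact ⟨((AddMonoidHom.ofInjective hinj).trans (AddEquiv.addSubgroupCongr hrange)).symm⟩

end Groth.Agent.S18331
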