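import Groth.Statements.S18340
import Groth.Agent.SmoothingLib.ApproxFunctor
import Groth.Agent.EGA4Lib.JacGRingMain
import Groth.Agent.S0600
import Groth.Agent.EGA4Lib.GRingPoly

set_option autoImplicit false
universe u
open ArtinApx

namespace Groth.Agent.S18340

open CategoryTheory in
/-- Let k be an algebraically closed field, A a finitely generated k-algebra with a maximal ideal m (a
k-point of Spec A), F a functor from commutative A-algebras to sets which preserves filtered
colimits, and ξ an element of F(Â), Â the m-adic completion of A. Then for every natural number N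
there are an étale A-algebra A′, a surjective A-algebra homomorphism ψ : A′ → A/m^(N+1) and an
element ξ′ of F(A′) whose image under F(ψ) is the image of ξ under F of the canonical map Â →
A/m^(N+1). (Affine form of the statement for limit-preserving functors on schemes over a finite-type
k-scheme S with a k-point s: Spec A′ is the étale neighbourhood of s, the kernel of ψ is the
(N+1)-st power of the maximal ideal of the point above s, and the equation says that ξ′ and ξ agree
to order N.) -/
theorem result (k : Type u) [Field k] [IsAlgClosed k]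
    (A : Type u) [CommRing A] [Algebra k A] [Algebra.FiniteType k A] (m : Ideal A) [m.IsMaximal]
    (F : CommAlgCat.{u} A ⥤ Type u) [Limits.PreservesFilteredColimits F]
    (ξ : F.obj (CommAlgCat.of A (AdicCompletion m A))) (N : ℕ) :
    ∃ (A' : Type u) (_ : CommRing A') (_ : Algebra A A') (_ : Algebra.Etale A A')
      (ψ : A' →ₐ[A] (A ⧸ m ^ (N + 1))) (_ : Function.Surjective ψ) (ξ' : F.obj (CommAlgCat.of A A')),
      F.map (CommAlgCat.ofHom ψ) ξ' =
        F.map (CommAlgCat.ofHom (AdicCompletion.evalₐ m (N + 1))) ξ := by
  haveI : IsNoetherianRing A := Algebra.FiniteType.isNoetherianRing k A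
  haveI : IsAdicComplete (IsLocalRing.maximalIdeal k) k := by
    rw [IsLocalRing.maximalIdeal_eq_bot]; infer_instance
  have hG : CAlg.IsGRing A := Groth.Agent.EGA4Lib.Jac.isGRing_of_finiteType
    (Groth.Agent.EGA4Lib.Jac.isGRing_of_isAdicComplete k) A
  obtain ⟨T, _, _, hT, f, η, hη⟩ := Groth.Agent.SmoothingLib.ApproxFunctor.exists_fp_preimage F ξ
  haveI := hT
  obtain ⟨D, _, _, hD, δ, ρ, hδ, hρ⟩ := Groth.Agent.SmoothingLib.ApproxFunctor.exists_etale_lift m
    (Groth.Agent.S0600.result A hG m) f (N + 1)
  refine ⟨D, inferInstance, inferInstance, hD, δ, hδ, F.map (CommAlgCat.ofHom ρ) η, ?_⟩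
  rw [← hη, ← Functor.map_comp_apply, ← Functor.map_comp_apply, ← CommAlgCat.ofHom_comp,
    ← CommAlgCat.ofHom_comp, hρ]

end Groth.Agent.S18340
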