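import Groth.Statements.S18342
import Groth.Agent.VBHom27.Canon
import Groth.Agent.CurveCoh.Integral
import Groth.Agent.VBLib.Slope

set_option autoImplicit false
universe u
open CategoryTheory CategoryTheory.Limits AlgebraicGeometry
open VBCurve

namespace Groth.Agent.S18342

/-- Let k be an algebraically closed field of characteristic zero and X a smooth proper geometrically
connected curve over k (topological dimension one) of genus g ≥ 2. Let E be a finite locally free
O_X-module of rank r ≥ 1 and degree 0, and F a finite locally free O_X-module of rank n ≥ 1 and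
degree n(g − 1), degrees being χ − rank · χ(O_X). If every morphism E → F is zero, then E is
slope-semistable: deg G · r ≤ 0 for every finite locally free submodule G of E of positive rank. The
published statement concerns quasi-parabolic bundles of rank r with trivial determinant and flags at
a finite set of points, and says that for n ≥ ⌈r²/4⌉ the closed substack of bundles that are not
semistable for a given system of weights is the base locus of the parabolic theta functions of order
n, these being attached to semistable F; this row is one inclusion of it (a bundle at which the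
theta function of some F does not vanish is semistable) for a single bundle with no parabolic
points, for every n ≥ 1 and every F of the stated rank and degree, with degree 0 in place of trivial
determinant, and with the vanishing of Hom(E, F) in place of the vanishing of both Hom(E, F) and
Ext^1(E, F). -/
theorem result (k : Type u) [Field k] [IsAlgClosed k] [CharZero k]
    (X : Scheme.{u}) [X.Over (Spec (CommRingCat.of k))]
    [IsProper (X ↘ Spec (CommRingCat.of k))] [Smooth (X ↘ Spec (CommRingCat.of k))]
    [GeometricallyConnected (X ↘ Spec (CommRingCat.of k))] (hdim : topologicalKrullDim ↥X = 1)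
    (g : ℕ) (hg : Curv2.genus k X = g) (hg2 : 2 ≤ g)
    (E : X.Modules) (r : ℕ) (hr : 0 < r) (hE : FlatMod.IsFinLocFreeOfRank r E)
    (hEdeg : Curv2.deg k X E r = 0)
    (F : X.Modules) (n : ℕ) (hn : 0 < n) (hF : FlatMod.IsFinLocFreeOfRank n F)
    (hFdeg : Curv2.deg k X F n = (n : ℤ) * ((g : ℤ) - 1))
    (hhom : ∀ φ : E ⟶ F, φ = 0) :
    ModFun.IsSlopeSemistable k X E r := by
  haveI := CurveCoh.isIntegral_of_smooth k X
  have hX : VBLib.GoodCurve k X := VBLib.goodCurve_of_smooth hdim
  haveI := hX.isLocallyNoetherian
  have hb := VBLib.bijective_toGlobal_of_isAlgClosed (k := k) (X := X)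
  have hEf := VBLib.isFinLocFree_of_ofRank hE
  have hFf := VBLib.isFinLocFree_of_ofRank hF
  have hEc := VBLib.isCoh_of_ofRank hE
  intro G r' i hi hr' hG
  rw [hEdeg, zero_mul, VBLib.dg_eq hG]
  by_contra hlt
  have hpos : 0 < VBLib.dg k G := by
    by_contra h
    exact hlt (mul_nonpos_of_nonpos_of_nonneg (by omega) (Int.natCast_nonneg _))
  obtain ⟨G', j, i', -, -, hi', hG', hQ, -, hd⟩ := hX.exists_saturation i (VBLib.isCoh_of_ofRank hG) hEf
  obtain ⟨d1, r1⟩ := hX.dg_mono_cokernel i' (VBLib.isCoh_of_isFinLocFree hG') hEc
  rw [VBLib.dg_eq hE] at hEdeg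
  rw [VBLib.dg_eq hF] at hFdeg
  obtain ⟨hH, hHr, hHd⟩ := VBHom27.dg_homSh hX hQ hFf
  have hrr := hX.riemannRoch hb (VBLib.isCoh_of_isFinLocFree hH)
  rw [hHr, hHd, VBLib.rk_eq hF, hFdeg, hg, show VBLib.dg k (cokernel i') = - VBLib.dg k G' by omega] at hrr
  push_cast at hrr
  have hn' : (0 : ℤ) < n * VBLib.dg k G' := mul_pos (by exact_mod_cast hn) (by omega)
  have h0 : 0 < Module.finrank k (Coh.HH X (RefHull.homSh (cokernel i') F) 0) := by
    by_contra h
    have h' : (Module.finrank k (Coh.HH X (RefHull.homSh (cokernel i') F) 0) : ℤ) = 0 := by omega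
    linarith [Int.natCast_nonneg (Module.finrank k (Coh.HH X (RefHull.homSh (cokernel i') F) 1))]
  haveI : Nontrivial (Coh.HH X (RefHull.homSh (cokernel i') F) 0) := Module.nontrivial_of_finrank_pos (R := k) h0
  obtain ⟨y, hy⟩ := exists_ne (0 : Coh.HH X (RefHull.homSh (cokernel i') F) 0)
  have h1 := hhom (cokernel.π i' ≫ VBHom27.homOf (VBLib.GenusZero.toSec _ y))
  rw [← comp_zero (f := cokernel.π i'), cancel_epi] at h1
  exact hy ((VBLib.GenusZero.toSec _).injective ((VBHom27.homOf_injective _ h1).trans (map_zero _).symm))

end Groth.Agent.S18342
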