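import Groth.Statements.S18343
import Mathlib
import Groth.Agent.IdealSh.Comap
import Groth.Agent.S0440
-- import your own Groth.Agent.* helpers here

set_option autoImplicit false
universe u
open CategoryTheory CategoryTheory.Limits AlgebraicGeometry
open MultCurve

namespace Groth.Agent.S18343

/-- Suppose C is a ribbon on the reduced scheme D via the closed immersion i : D ⟶ C (meaning the ideal
of D squares to zero and is locally generated by a single section z whose annihilator lies in (z)),
and consider an arbitrary morphism of schemes f : C ⟶ X. The morphism f is a closed immersion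
exactly when two things hold: the composite i ≫ f, i.e. f restricted to D, is a closed immersion,
and pulling back along f the ideal of the scheme-theoretic image of D in X yields the entire ideal
of D in C. This second requirement amounts to surjectivity of the map α_f that sends the pullback of
the conormal sheaf of the image of D in X onto the conormal bundle of D in C. (The statement is
given for arbitrary schemes and any morphism f; the published version assumes all schemes are of
finite type over a field and D is connected, but the proof relies on neither assumption.) -/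
theorem result (D C X : Scheme.{u}) (i : D ⟶ C)
    (hR : MultCurve.IsRibbon i) (f : C ⟶ X) :
    IsClosedImmersion f ↔ (IsClosedImmersion (i ≫ f) ∧ (i ≫ f).ker.comap f = i.ker) := by
  obtain ⟨⟨hi, hsq, -⟩, -⟩ := hR
  have : IsClosedImmersion i := hi
  have hsurj : Function.Surjective i := by
    intro p
    have hp : p ∈ ((i.ker * i.ker).support : Set C) := by
      rw [← pow_two, hsq, Scheme.IdealSheafData.support_bot]; trivial
    rwa [Scheme.IdealSheafData.support_mul, sup_idem, Scheme.Hom.support_ker,
      i.isClosedEmbedding.isClosed_range.closure_eq] at hp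
  constructor
  · intro hf
    refine ⟨inferInstance, ?_⟩
    let l := pullback.lift (f := f) (g := i ≫ f) i (𝟙 D) (Category.id_comp _).symm
    have h2 : pullback.snd f (i ≫ f) ≫ i = pullback.fst f (i ≫ f) := by
      rw [← cancel_mono f, Category.assoc, pullback.condition]
    have : IsIso l := ⟨pullback.snd _ _, pullback.lift_snd _ _ _, by
      refine pullback.hom_ext ?_ ?_
      · rw [Category.assoc, pullback.lift_fst, Category.id_comp, h2]
      · rw [Category.assoc, pullback.lift_snd, Category.id_comp, Category.comp_id]⟩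
    have h3 : l ≫ pullback.fst f (i ≫ f) = i := pullback.lift_fst _ _ _
    rw [← Scheme.IdealSheafData.ker_fst_of_isClosedImmersion]
    conv_rhs => rw [← h3, Scheme.Hom.ker_comp_of_isIso]
  rintro ⟨hg, hcomap⟩
  have hpre : ∀ U : X.Opens, IsAffineOpen U → IsAffineOpen (f ⁻¹ᵁ U) := by
    intro U hU
    have : IsAffine (i ⁻¹ᵁ (f ⁻¹ᵁ U)).toScheme := hU.preimage (i ≫ f)
    have : IsClosedImmersion (i ∣_ (f ⁻¹ᵁ U)) :=
      MorphismProperty.of_isPullback (isPullback_morphismRestrict i (f ⁻¹ᵁ U)).flip hi
    refine S0440.result (i ∣_ (f ⁻¹ᵁ U)) fun p => ?_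
    obtain ⟨d, hd⟩ := hsurj p.1
    exact ⟨⟨d, show i d ∈ f ⁻¹ᵁ U from hd ▸ p.2⟩, Subtype.ext (by simpa using hd)⟩
  rw [HasAffineProperty.iff_of_iSup_eq_top (P := @IsClosedImmersion) (fun U : X.affineOpens => U)
    (iSup_affineOpens_eq_top X)]
  intro U
  refine ⟨hpre U U.2, ?_⟩
  suffices H : ∀ W : X.affineOpens, Function.Surjective (f.app W.1).hom by
    rw [morphismRestrict_appTop]
    exact (ConcreteCategory.bijective_of_isIso (C.presheaf.map _)).2.comp
      (H ⟨U.1.ι ''ᵁ ⊤, by rw [Scheme.Opens.ι_image_top]; exact U.2⟩)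
  clear U
  intro U
  let V : C.affineOpens := ⟨f ⁻¹ᵁ U.1, hpre U U.2⟩
  intro x
  obtain ⟨a, ha⟩ := (i ≫ f).app_surjective U.1 U.2 (i.app V.1 x)
  have hJ : i.ker.ideal V = ((i ≫ f).ker.ideal U).map (f.appLE U V le_rfl).hom := by
    rw [← hcomap, IdealSh.Comap.ideal_comap _ f U V le_rfl]
  have hmem : x - f.app U.1 a ∈ i.ker.ideal V := by
    rw [Scheme.Hom.ker_apply, RingHom.mem_ker, map_sub, sub_eq_zero, ← ha, Scheme.Hom.comp_app]
    rfl
  suffices H : ∀ y ∈ i.ker.ideal V, ∃ c, f.app U.1 c = y by
    obtain ⟨c, hc⟩ := H _ hmem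
    exact ⟨a + c, by rw [map_add, hc]; exact add_sub_cancel _ _⟩
  intro y hy
  rw [hJ, Scheme.Hom.appLE_eq_app] at hy
  induction hy using Submodule.span_induction with
  | mem y hy => obtain ⟨c, -, rfl⟩ := hy; exact ⟨c, rfl⟩
  | zero => exact ⟨0, map_zero _⟩
  | add y y' _ _ h h' =>
    obtain ⟨c, rfl⟩ := h; obtain ⟨c', rfl⟩ := h'; exact ⟨c + c', map_add _ _ _⟩
  | smul r y hy' h =>
    obtain ⟨c, rfl⟩ := h
    obtain ⟨a', ha'⟩ := (i ≫ f).app_surjective U.1 U.2 (i.app V.1 r)
    have hr : r - f.app U.1 a' ∈ i.ker.ideal V := by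
      rw [Scheme.Hom.ker_apply, RingHom.mem_ker, map_sub, sub_eq_zero, ← ha', Scheme.Hom.comp_app]
      rfl
    have hc : (f.app U.1).hom c ∈ i.ker.ideal V := by
      rw [hJ, Scheme.Hom.appLE_eq_app]; exact hy'
    have h0 : (r - f.app U.1 a') * f.app U.1 c = 0 := by
      have h1 := Ideal.mul_mem_mul hr hc
      have h2 : (i.ker * i.ker).ideal V = ⊥ := by
        rw [← pow_two, hsq]; rfl
      rw [Scheme.IdealSheafData.ideal_mul] at h2
      exact (Submodule.mem_bot _).1 (h2.le h1)
    refine ⟨a' * c, ?_⟩
    rw [map_mul, smul_eq_mul]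
    linear_combination -h0

end Groth.Agent.S18343
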