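import Groth.Statements.S18344
import Mathlib
import Groth.Agent.Omega.ConormalProj
import Groth.Agent.Desc44.ProjBundle.Quot
import Groth.Agent.QCoh.Pullback
import Groth.Agent.LFDesc.Invertible
-- import your own Groth.Agent.* helpers here

set_option autoImplicit false
universe u
open CategoryTheory CategoryTheory.Limits AlgebraicGeometry
open MultCurve

namespace Groth.Agent.S18344

open scoped TensorProduct

theorem free_iff {R B : Type u} [CommRing R] [CommRing B] [Algebra R B]
    (hs : Function.Surjective (algebraMap R B)) (J : Ideal R) (hJ : J = RingHom.ker (algebraMap R B))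
    (hJJ : ∀ x y, x ∈ J → y ∈ J → x * y = 0) :
    (∀ z, J = Ideal.span {z} → (∀ a, a * z = 0 → a ∈ J) → Nonempty (B ≃ₗ[B] B ⊗[R] J)) ∧
      (Nonempty (B ≃ₗ[B] B ⊗[R] J) → ∃ z, J = Ideal.span {z} ∧ ∀ a, a * z = 0 → a ∈ J) := by
  choose sp hsp using hs
  have hdiff : ∀ a c, algebraMap R B a = algebraMap R B c → ∀ y ∈ J, a * y = c * y := fun a c h y hy => by
    rw [← sub_eq_zero, ← sub_mul]
    exact hJJ _ _ (hJ ▸ RingHom.mem_ker.2 (by rw [map_sub, h, sub_self])) hy
  let μ : B ⊗[R] J →ₗ[R] R := TensorProduct.lift (LinearMap.mk₂ R (fun b (y : J) => sp b * y)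
    (fun b b' y => by rw [← add_mul]; exact hdiff _ _ (by rw [map_add, hsp, hsp, hsp]) _ y.2)
    (fun c b y => by
      rw [smul_eq_mul, ← mul_assoc]
      exact hdiff _ _ (by rw [map_mul, hsp, hsp, Algebra.smul_def]) _ y.2)
    (fun b y y' => by rw [Submodule.coe_add, mul_add])
    (fun c b y => by rw [Submodule.coe_smul, smul_eq_mul, smul_eq_mul, mul_left_comm]))
  have hμ : ∀ b (y : J), μ (b ⊗ₜ y) = sp b * y := fun b y => rfl
  have hμ1 : ∀ y : J, μ (1 ⊗ₜ y) = y := fun y => by
    rw [hμ, hdiff _ 1 (by rw [hsp, map_one]) _ y.2, one_mul]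
  have hgen : ∀ t : B ⊗[R] J, ∃ y : J, t = 1 ⊗ₜ y := by
    intro t
    induction t using TensorProduct.induction_on with
    | zero => exact ⟨0, by simp⟩
    | tmul b y => exact ⟨sp b • y, by rw [TensorProduct.tmul_smul, TensorProduct.smul_tmul', Algebra.smul_def, hsp, mul_one]⟩
    | add t t' h h' =>
      obtain ⟨y, rfl⟩ := h
      obtain ⟨y', rfl⟩ := h'
      exact ⟨y + y', by rw [TensorProduct.tmul_add]⟩
  have hzero : ∀ a : R, a ∈ J ↔ algebraMap R B a = 0 := fun a => by rw [hJ]; rfl
  constructor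
  · intro z hz hann
    have hzJ : z ∈ J := hz ▸ Ideal.subset_span rfl
    refine ⟨LinearEquiv.ofBijective (LinearMap.toSpanSingleton B _ (1 ⊗ₜ[R] (⟨z, hzJ⟩ : J))) ⟨?_, ?_⟩⟩
    · rw [injective_iff_map_eq_zero]
      intro b hb
      rw [LinearMap.toSpanSingleton_apply, TensorProduct.smul_tmul', smul_eq_mul, mul_one] at hb
      have h := congrArg μ hb
      rw [hμ, map_zero] at h
      rw [← hsp b, ← hzero]
      exact hann _ h
    · intro t
      obtain ⟨y, rfl⟩ := hgen t
      obtain ⟨a, ha⟩ := Ideal.mem_span_singleton'.1 (hz ▸ y.2 : (y : R) ∈ Ideal.span {z})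
      refine ⟨algebraMap R B a, ?_⟩
      rw [LinearMap.toSpanSingleton_apply, algebraMap_smul, ← TensorProduct.tmul_smul]
      congr 1
      exact Subtype.ext ha
  · rintro ⟨e⟩
    obtain ⟨z, hz⟩ := hgen (e 1)
    have he : ∀ b, e b = b ⊗ₜ z := fun b => by
      rw [← mul_one b, ← smul_eq_mul, map_smul, hz, TensorProduct.smul_tmul', smul_eq_mul, mul_one]
    refine ⟨z, le_antisymm (fun y hy => ?_) (by rw [Ideal.span_le, Set.singleton_subset_iff]; exact z.2),
      fun a ha => ?_⟩
    · obtain ⟨b, hb⟩ := e.surjective (1 ⊗ₜ (⟨y, hy⟩ : J))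
      have h := congrArg μ hb
      rw [he, hμ, hμ1] at h
      exact Ideal.mem_span_singleton'.2 ⟨_, h⟩
    · refine (hzero a).2 (e.injective ?_)
      rw [he, map_zero, show algebraMap R B a ⊗ₜ[R] z = (a • (1 : B)) ⊗ₜ[R] z by rw [Algebra.smul_def, mul_one],
        TensorProduct.smul_tmul, show a • z = 0 from Subtype.ext ha, TensorProduct.tmul_zero]


/-- Let C be a scheme and I ⊂ O_C a quasi-coherent ideal with I² = 0, and let D ⊂ C be the closed
subscheme it defines. Then the following are equivalent: (a) every point of C has an affine open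
neighbourhood U on which I(U) is generated by one section z such that every a with a z = 0 lies in
I(U); (b) the conormal sheaf of D in C (the ideal I regarded as an O_D-module, which makes sense
because I² = 0) is an invertible O_D-module. This identifies the line-bundle clause in the
definition of a ribbon with the section-level principal-of-order-two condition. -/
theorem result (C : Scheme.{u}) (I : C.IdealSheafData)
    (hI : I ^ 2 = ⊥) :
    MultCurve.IsPrincipalOfOrder I 2 ↔ PicF.IsInvertible (Omega.conormal I.subschemeι) := by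
  let i := I.subschemeι
  have hkerI : i.ker = I := I.ker_subschemeι
  have hq : (Omega.conormal i).IsQuasicoherent := by
    have : (ClSub.idealMod i.ker).IsQuasicoherent := AmpleLib.isQCoh_idealMod _
    exact QCoh.isQuasicoherent_pullback i _
  have hsurj : Function.Surjective i := by
    intro p
    have hp : p ∈ ((I * I).support : Set C) := by
      rw [← pow_two, hI, Scheme.IdealSheafData.support_bot]; trivial
    rw [Scheme.IdealSheafData.support_mul, sup_idem] at hp
    rwa [← Scheme.IdealSheafData.range_subschemeι] at hp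
  have hideal : ∀ W : C.affineOpens, I.ideal W = RingHom.ker (i.app W.1).hom := fun W => by
    exact (congrArg (fun J : C.IdealSheafData => J.ideal W) hkerI).symm.trans (Scheme.Hom.ker_apply ..)
  have hJJ : ∀ (W : C.affineOpens) x y, x ∈ I.ideal W → y ∈ I.ideal W → x * y = 0 := fun W x y hx hy => by
    have h2 : (I * I).ideal W = ⊥ := by rw [← pow_two, hI]; rfl
    rw [Scheme.IdealSheafData.ideal_mul] at h2
    exact (Submodule.mem_bot _).1 (h2.le (Ideal.mul_mem_mul hx hy))
  constructor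
  · intro h d
    obtain ⟨W, hW, z, hz, hann⟩ := h (i d)
    simp only [show (2 - 1 : ℕ) = 1 from rfl, pow_one] at hann
    let _ := (i.app W.1).hom.toAlgebra
    obtain ⟨e⟩ := Omega.ConormalProj.nonempty_secEquiv i W.2 (W.2.preimage i)
    obtain ⟨e'⟩ := (free_iff (R := Γ(C, W.1)) (B := Γ(I.subscheme, i ⁻¹ᵁ W.1)) (i.app_surjective W.1 W.2)
      (RingHom.ker (i.app W.1).hom) rfl (fun x y hx hy => hJJ W x y (hideal W ▸ hx) (hideal W ▸ hy))).1 z
      (hideal W ▸ hz) (fun a ha => hideal W ▸ hann a ha)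
    let b := ((Module.Basis.singleton (Fin 1) Γ(I.subscheme, i ⁻¹ᵁ W.1)).map (e'.trans e))
    exact ⟨i ⁻¹ᵁ W.1, hW,
      (Desc44.ProjBundle.isFrame_of_basis (W.2.preimage i) b).nonempty_restrict_iso⟩
  · intro h x
    obtain ⟨d, rfl⟩ := hsurj x
    obtain ⟨U, e, hdU, he⟩ := Groth.Agent.LFDesc.exists_frame_one h d
    obtain ⟨O, hO, hOU⟩ := i.isClosedEmbedding.isEmbedding.isOpen_iff.1 U.2
    obtain ⟨W, hW, hdW, hWO⟩ := exists_isAffineOpen_mem_and_subset
      (show i d ∈ (⟨O, hO⟩ : C.Opens) from (Set.ext_iff.1 hOU d).2 hdU)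
    have hle : i ⁻¹ᵁ W ≤ U := fun p hp => (Set.ext_iff.1 hOU p).1 (hWO hp)
    refine ⟨⟨W, hW⟩, hdW, ?_⟩
    let _ := (i.app W).hom.toAlgebra
    obtain ⟨eM⟩ := Omega.ConormalProj.nonempty_secEquiv i hW (hW.preimage i)
    let c : (Fin 1 → Γ(I.subscheme, i ⁻¹ᵁ W)) →ₗ[Γ(I.subscheme, i ⁻¹ᵁ W)] Γ(Omega.conormal i, i ⁻¹ᵁ W) :=
      Fintype.linearCombination _ fun j => (Omega.conormal i).presheaf.map (homOfLE hle).op (e j)
    have hc : Function.Bijective c := by
      convert he _ hle using 1
      funext a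
      simp [c, Fintype.linearCombination_apply, LFFrame.comb]
      rfl
    obtain ⟨z, hz, hann⟩ := (free_iff (R := Γ(C, W)) (B := Γ(I.subscheme, i ⁻¹ᵁ W)) (i.app_surjective W hW)
      (RingHom.ker (i.app W).hom) rfl
      (fun x y hx hy => hJJ ⟨W, hW⟩ x y (hideal ⟨W, hW⟩ ▸ hx) (hideal ⟨W, hW⟩ ▸ hy))).2
      ⟨((LinearEquiv.funUnique (Fin 1) _ _).symm.trans (LinearEquiv.ofBijective c hc)).trans eM.symm⟩
    rw [← hideal ⟨W, hW⟩] at hz hann
    refine ⟨z, hz, fun a ha => hann a ?_⟩
    simpa using ha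

end Groth.Agent.S18344
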