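import Groth.Statements.S18346
import Mathlib
import Groth.Agent.Ribbon24.Fibre
-- import your own Groth.Agent.* helpers here

set_option autoImplicit false
universe u
open CategoryTheory CategoryTheory.Limits AlgebraicGeometry
open MultCurve

namespace Groth.Agent.S18346

/-- Let k be a field and C a ribbon, locally of finite type over k, on the reduced connected scheme D
along i : D ⟶ C, with its restricted cotangent sequence 0 → L → Ω_C|_D → Ω_D → 0 presented by a
universal k-derivation d₁ : O_C → Ω₁, a universal k-derivation d₂ : O_D → Ω₂, the map φ from the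
conormal bundle L of D in C to i^*Ω₁ induced by d₁ and the map c : i^*Ω₁ → Ω₂ compatible with d₁ and
d₂, assumed short exact, that is, with φ injective. Let X be a scheme over k with a universal
k-derivation d₃ : O_X → Ω₃, let f : D ⟶ X be a morphism over k and let df : f^*Ω₃ → Ω₂ be the map
compatible with d₃ and d₂. Then f extends to a morphism C ⟶ X over k restricting to f on D if and
only if the pulled-back sequence splits, i.e. there is an O_D-linear g : f^*Ω₃ → i^*Ω₁ with g
followed by c equal to df. (The published text treats the restricted cotangent sequence as short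
exact for every ribbon and puts the extensions in bijection with such maps g. Short exactness holds
over a perfect field but not in general: for k of characteristic p and a ∈ k not a p-th power, the
ribbon Spec k[x]/((x^p − a)²) on D = Spec k(a^{1/p}) has φ = 0 and c an isomorphism, so for X = D
and f the identity the inverse of c is such a map g, while the ribbon admits no retraction. So short
exactness is assumed here, and this row states the existence part of the bijection. X may be any
k-scheme.) -/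
theorem result (k : Type u) [Field k] (D C : Scheme.{u}) (i : D ⟶ C)
    (pC : C ⟶ Spec (CommRingCat.of k)) [LocallyOfFiniteType pC] [ConnectedSpace D] (hR : MultCurve.IsRibbon i)
    (Ω₁ : C.Modules) (d₁ : OmegaSh.Der pC Ω₁) (hd₁ : OmegaSh.IsUniversal d₁)
    (Ω₂ : D.Modules) (d₂ : OmegaSh.Der (i ≫ pC) Ω₂) (hd₂ : OmegaSh.IsUniversal d₂)
    (φ : Omega.conormal i ⟶ (Scheme.Modules.pullback i).obj Ω₁) (hφ : OmegaSh.IsConormalDiff i d₁ φ)
    (c : (Scheme.Modules.pullback i).obj Ω₁ ⟶ Ω₂) (hc : OmegaSh.IsDiffCompat i d₁ d₂ c)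
    (hw : φ ≫ c = 0) (hS : (ShortComplex.mk φ c hw).ShortExact)
    (X : Scheme.{u}) (pX : X ⟶ Spec (CommRingCat.of k)) (f : D ⟶ X) (hf : f ≫ pX = i ≫ pC)
    (Ω₃ : X.Modules) (d₃ : OmegaSh.Der pX Ω₃) (hd₃ : OmegaSh.IsUniversal d₃)
    (df : (Scheme.Modules.pullback f).obj Ω₃ ⟶ Ω₂) (hdf : OmegaSh.IsDiffCompat f d₃ d₂ df) :
    (∃ g : C ⟶ X, i ≫ g = f ∧ g ≫ pX = pC) ↔
      ∃ s : (Scheme.Modules.pullback f).obj Ω₃ ⟶ (Scheme.Modules.pullback i).obj Ω₁, s ≫ c = df := by
  have : IsClosedImmersion i := hR.1.1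
  constructor
  · rintro ⟨g, rfl, hg⟩
    have hsq : pC ≫ 𝟙 _ = g ≫ pX := by rw [Category.comp_id, hg]
    obtain ⟨c₀, hc₀, -⟩ := Omega.Basic.existsUnique_diffCompat g hsq hd₃ d₁
    refine ⟨(Scheme.Modules.pullbackComp i g).inv.app Ω₃ ≫ (Scheme.Modules.pullback i).map c₀, ?_⟩
    refine Omega.Transitivity.hom_ext_pullback hd₃ fun U t => ?_
    have hnat : ((Scheme.Modules.pullback i).map c₀).app (i ⁻¹ᵁ g ⁻¹ᵁ U)
        (OmegaSh.pullSect i ((Scheme.Modules.pullback g).obj Ω₃) (g ⁻¹ᵁ U)
          (OmegaSh.pullSect g Ω₃ U (d₃.app U t))) =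
        OmegaSh.pullSect i Ω₁ (g ⁻¹ᵁ U)
          (c₀.app (g ⁻¹ᵁ U) (OmegaSh.pullSect g Ω₃ U (d₃.app U t))) := by
      have h := (Scheme.Modules.pullbackPushforwardAdjunction i).unit.naturality c₀
      exact (congr(Scheme.Modules.Hom.app $h (g ⁻¹ᵁ U) (OmegaSh.pullSect g Ω₃ U (d₃.app U t)))).symm
    have hβ := ((congrArg (((Scheme.Modules.pullback i).map c₀).app _)
      (Omega.Lift.pullbackComp_inv_pullSect (h := g) i U (d₃.app U t))).trans hnat).trans
      (congrArg (OmegaSh.pullSect i Ω₁ (g ⁻¹ᵁ U)) (hc₀ U t))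
    refine (congrArg (c.app _) hβ).trans ((hc (g ⁻¹ᵁ U) (g.app U t)).trans ?_)
    exact (hdf U t).symm
  · rintro ⟨s, hs⟩
    obtain ⟨g, h1, h2, -⟩ := Ribbon24.exists_extension i hR.1.2.1 d₁ hφ hc hS hf hdf s hs
    exact ⟨g, h1, h2⟩

end Groth.Agent.S18346
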