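import Groth.Statements.S18348
import Mathlib
import Groth.Agent.Ribbon24.Hom
-- import your own Groth.Agent.* helpers here

set_option autoImplicit false
universe w u
open CategoryTheory CategoryTheory.Limits AlgebraicGeometry
open MultCurve

namespace Groth.Agent.S18348

open Groth.Agent.Ribbon24 in
theorem exists_hom {S D C C' : Scheme.{u}} {pD : D ⟶ S} {Ω₂ : D.Modules} (d₂ : OmegaSh.Der pD Ω₂)
    {i : D ⟶ C} [IsClosedImmersion i] (hsq : i.ker ^ 2 = ⊥) {pC : C ⟶ S} (hp : i ≫ pC = pD)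
    {Ω₁ : C.Modules} {d₁ : OmegaSh.Der pC Ω₁}
    {φ : Omega.conormal i ⟶ (Scheme.Modules.pullback i).obj Ω₁} (hφ : OmegaSh.IsConormalDiff i d₁ φ)
    {c : (Scheme.Modules.pullback i).obj Ω₁ ⟶ Ω₂} (hc : OmegaSh.IsDiffCompat i d₁ d₂ c)
    {hw : φ ≫ c = 0} (hS : (ShortComplex.mk φ c hw).ShortExact)
    {i' : D ⟶ C'} {pC' : C' ⟶ S} (hp' : i' ≫ pC' = pD) {Ω₁' : C'.Modules} {d₁' : OmegaSh.Der pC' Ω₁'}
    {c' : (Scheme.Modules.pullback i').obj Ω₁' ⟶ Ω₂} (hc' : OmegaSh.IsDiffCompat i' d₁' d₂ c')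
    (s : (Scheme.Modules.pullback i').obj Ω₁' ⟶ (Scheme.Modules.pullback i).obj Ω₁) (hs : s ≫ c = c') :
    ∃ g : C ⟶ C', i ≫ g = i' ∧ g ≫ pC' = pC ∧ Rel i i' d₁ d₁' g s := by
  subst hp
  obtain ⟨g, h1, h2, h3⟩ := exists_extension i hsq d₁ hφ hc hS hp' hc' s hs
  exact ⟨g, h1, h2, h3⟩


/-- Let k be a field and D a reduced connected scheme locally of finite type over k, with structure
morphism pD and a universal k-derivation d₂ : O_D → Ω₂. Let C and C′ be ribbons on D over k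
(k-schemes locally of finite type with closed immersions i, i′ of D over k making them ribbons),
each with its restricted cotangent sequence 0 → L → Ω_C|_D → Ω_D → 0 presented by a universal
k-derivation d₁ : O_C → Ω₁, the fixed universal k-derivation d₂ of D, the map φ from the conormal
bundle L of D in C to i^*Ω₁ induced by d₁ and the map c : i^*Ω₁ → Ω₂ compatible with d₁ and d₂,
assumed short exact, that is, with φ and φ′ injective, with classes e ∈ Ext¹(Ω₂, L) and e′ ∈
Ext¹(Ω₂, L′). Then C and C′ are isomorphic over D (by an isomorphism under D that is a k-morphism)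
if and only if there is an isomorphism of O_D-modules α : L ≅ L′ carrying e to e′. In particular a
ribbon with short exact restricted cotangent sequence is determined up to isomorphism over D by its
conormal bundle together with its class. (The published statement asserts the uniqueness for all
ribbons, treating the restricted cotangent sequence as short exact for every ribbon; it is so over a
perfect field but not in general: for k of characteristic p and a ∈ k not a p-th power, D = Spec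
k(a^{1/p}) has Ext¹(Ω_D, L) = 0 for every L, yet the split ribbon with conormal bundle O_D and Spec
k[x]/((x^p − a)²) are ribbons on D with conormal bundle O_D that are not isomorphic over D, the
second having φ = 0; so short exactness is assumed here for both ribbons. The published statement
also, for D proper over k, phrases the criterion as e = a·e′ with a a nonzero scalar, identifying
the automorphisms of the line bundle L with the nonzero constants; that identification needs Γ(D,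
O_D) = k and fails, for example, for the projective line over a quadratic extension of k regarded as
a k-scheme, so the criterion is stated here with an arbitrary automorphism of the conormal bundle,
in which form it holds for every reduced connected D.) -/
theorem result (k : Type u) [Field k] (D : Scheme.{u})
    (pD : D ⟶ Spec (CommRingCat.of k)) [LocallyOfFiniteType pD] [ConnectedSpace D]
    (Ω₂ : D.Modules) (d₂ : OmegaSh.Der pD Ω₂) (hd₂ : OmegaSh.IsUniversal d₂) [HasExt.{w} D.Modules]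
    (C : Scheme.{u}) (i : D ⟶ C) (pC : C ⟶ Spec (CommRingCat.of k)) [LocallyOfFiniteType pC]
    (hp : i ≫ pC = pD) (hR : MultCurve.IsRibbon i)
    (Ω₁ : C.Modules) (d₁ : OmegaSh.Der pC Ω₁) (hd₁ : OmegaSh.IsUniversal d₁)
    (φ : Omega.conormal i ⟶ (Scheme.Modules.pullback i).obj Ω₁) (hφ : OmegaSh.IsConormalDiff i d₁ φ)
    (c : (Scheme.Modules.pullback i).obj Ω₁ ⟶ Ω₂) (hc : OmegaSh.IsDiffCompat i d₁ d₂ c)
    (hw : φ ≫ c = 0) (hS : (ShortComplex.mk φ c hw).ShortExact)
    (C' : Scheme.{u}) (i' : D ⟶ C') (pC' : C' ⟶ Spec (CommRingCat.of k)) [LocallyOfFiniteType pC']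
    (hp' : i' ≫ pC' = pD) (hR' : MultCurve.IsRibbon i')
    (Ω₁' : C'.Modules) (d₁' : OmegaSh.Der pC' Ω₁') (hd₁' : OmegaSh.IsUniversal d₁')
    (φ' : Omega.conormal i' ⟶ (Scheme.Modules.pullback i').obj Ω₁') (hφ' : OmegaSh.IsConormalDiff i' d₁' φ')
    (c' : (Scheme.Modules.pullback i').obj Ω₁' ⟶ Ω₂) (hc' : OmegaSh.IsDiffCompat i' d₁' d₂ c')
    (hw' : φ' ≫ c' = 0) (hS' : (ShortComplex.mk φ' c' hw').ShortExact) :
    (∃ ψ : C ≅ C', i ≫ ψ.hom = i' ∧ ψ.hom ≫ pC' = pC) ↔
      ∃ α : Omega.conormal i ≅ Omega.conormal i',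
        hS.extClass.comp (Abelian.Ext.mk₀ α.hom) (add_zero 1) = hS'.extClass := by
  have : IsClosedImmersion i := hR.1.1
  have : IsClosedImmersion i' := hR'.1.1
  have : Mono φ := hS.mono_f
  have : Mono φ' := hS'.mono_f
  constructor
  · rintro ⟨ψ, hψi, hψp⟩
    have hψi' : i' ≫ ψ.inv = i := by rw [← hψi, Category.assoc, ψ.hom_inv_id, Category.comp_id]
    have hψp' : ψ.inv ≫ pC = pC' := by rw [← hψp, ψ.inv_hom_id_assoc]
    obtain ⟨s, hs, hsc⟩ := Ribbon24.exists_rel (d₁ := d₁) hd₁' hψi hψp hc hc'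
    obtain ⟨s', hs', hsc'⟩ := Ribbon24.exists_rel (d₁ := d₁') hd₁ hψi' hψp' hc' hc
    have h1 : s' ≫ s = 𝟙 _ := by
      have h := hs.comp hψi hψi' hs'
      rw [ψ.hom_inv_id] at h
      exact Ribbon24.eq_id_of_rel_id hd₁ h
    have h2 : s ≫ s' = 𝟙 _ := by
      have h := hs'.comp hψi' hψi hs
      rw [ψ.inv_hom_id] at h
      exact Ribbon24.eq_id_of_rel_id hd₁' h
    obtain ⟨a, ha⟩ : ∃ a : Omega.conormal i' ⟶ Omega.conormal i, a ≫ φ = φ' ≫ s :=
      ⟨_, (KernelFork.IsLimit.lift' hS.fIsKernel (φ' ≫ s) (by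
        show (φ' ≫ s) ≫ c = 0
        rw [Category.assoc, hsc, hw'])).2⟩
    obtain ⟨a', ha'⟩ : ∃ a' : Omega.conormal i ⟶ Omega.conormal i', a' ≫ φ' = φ ≫ s' :=
      ⟨_, (KernelFork.IsLimit.lift' hS'.fIsKernel (φ ≫ s') (by
        show (φ ≫ s') ≫ c' = 0
        rw [Category.assoc, hsc', hw])).2⟩
    have e1 : a' ≫ a = 𝟙 _ := by
      rw [← cancel_mono φ, Category.assoc, ha, reassoc_of% ha', h1, Category.comp_id, Category.id_comp]
    have e2 : a ≫ a' = 𝟙 _ := by
      rw [← cancel_mono φ', Category.assoc, ha', reassoc_of% ha, h2, Category.comp_id, Category.id_comp]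
    have hnat := ShortComplex.ShortExact.extClass_naturality hS' hS
      ⟨a, s, 𝟙 Ω₂, ha, by rw [Category.comp_id]; exact hsc⟩
    simp only [Abelian.Ext.mk₀_id_comp] at hnat
    refine ⟨⟨a', a, e1, e2⟩, ?_⟩
    show hS.extClass.comp (Abelian.Ext.mk₀ a') (add_zero 1) = hS'.extClass
    rw [← hnat, Abelian.Ext.comp_assoc_of_second_deg_zero, Abelian.Ext.mk₀_comp_mk₀, e2,
      Abelian.Ext.comp_mk₀_id]
  · rintro ⟨α, hα⟩
    have hea : hS'.extClass.comp (Abelian.Ext.mk₀ α.inv) (add_zero 1) = hS.extClass := by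
      rw [← hα, Abelian.Ext.comp_assoc_of_second_deg_zero, Abelian.Ext.mk₀_comp_mk₀, α.hom_inv_id,
        Abelian.Ext.comp_mk₀_id]
    have h0 : hS'.extClass.comp (Abelian.Ext.mk₀ (α.inv ≫ φ)) (add_zero 1) = 0 := by
      rw [← Abelian.Ext.mk₀_comp_mk₀, ← Abelian.Ext.comp_assoc_of_second_deg_zero, hea]
      exact hS.extClass_comp
    obtain ⟨x, hx⟩ := Abelian.Ext.contravariant_sequence_exact₁ hS' _
      (Abelian.Ext.mk₀ (α.inv ≫ φ)) (add_zero 1) h0
    let β₀ := Abelian.Ext.homEquiv₀ x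
    have hβ₀ : φ' ≫ β₀ = α.inv ≫ φ := by
      refine (Abelian.Ext.mk₀_bijective _ _).1 ?_
      rw [← Abelian.Ext.mk₀_comp_mk₀, Abelian.Ext.mk₀_homEquiv₀_apply]
      exact hx
    obtain ⟨θ, hθ'⟩ : ∃ θ : Ω₂ ⟶ Ω₂, c' ≫ θ = β₀ ≫ c :=
      ⟨_, (CokernelCofork.IsColimit.desc' hS'.gIsCokernel (β₀ ≫ c) (by
        show φ' ≫ β₀ ≫ c = 0
        rw [reassoc_of% hβ₀, hw, comp_zero])).2⟩
    have hnat := ShortComplex.ShortExact.extClass_naturality hS' hS
      ⟨α.inv, β₀, θ, hβ₀.symm, hθ'.symm⟩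
    have hθe : (Abelian.Ext.mk₀ (𝟙 Ω₂ - θ)).comp hS.extClass (zero_add 1) = 0 := by
      have h3 : Abelian.Ext.mk₀ (𝟙 Ω₂ - θ) = Abelian.Ext.mk₀ (𝟙 Ω₂) - Abelian.Ext.mk₀ θ :=
        map_sub (Abelian.Ext.addEquiv₀ (X := Ω₂) (Y := Ω₂)).symm _ _
      rw [h3, sub_eq_add_neg, Abelian.Ext.add_comp, Abelian.Ext.neg_comp, Abelian.Ext.mk₀_id_comp,
        ← sub_eq_add_neg, sub_eq_zero]
      exact hea.symm.trans hnat
    obtain ⟨y, hy⟩ := Abelian.Ext.covariant_sequence_exact₃ Ω₂ hS _ (zero_add 1) hθe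
    let δ := Abelian.Ext.homEquiv₀ y
    have hδ : δ ≫ c = 𝟙 Ω₂ - θ := by
      refine (Abelian.Ext.mk₀_bijective _ _).1 ?_
      rw [← Abelian.Ext.mk₀_comp_mk₀, Abelian.Ext.mk₀_homEquiv₀_apply]
      exact hy
    let β := β₀ + c' ≫ δ
    have hβ : β ≫ c = c' := by
      simp only [β, Preadditive.add_comp, Category.assoc, hδ, Preadditive.comp_sub, hθ', Category.comp_id,
        add_sub_cancel]
    have hφβ : α.inv ≫ φ = φ' ≫ β := by
      simp only [β, Preadditive.comp_add, reassoc_of% hw', zero_comp, add_zero, hβ₀]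
    let m : ShortComplex.mk φ' c' hw' ⟶ ShortComplex.mk φ c hw :=
      ⟨α.inv, β, 𝟙 Ω₂, hφβ, by rw [Category.comp_id]; exact hβ⟩
    have : IsIso m.τ₁ := show IsIso α.inv from inferInstance
    have : IsIso m.τ₃ := show IsIso (𝟙 Ω₂) from inferInstance
    have hiso : IsIso β := ShortComplex.isIso₂_of_shortExact_of_isIso₁₃ m hS' hS
    have hβ' : inv β ≫ c' = c := by rw [IsIso.inv_comp_eq]; exact hβ.symm
    obtain ⟨g, hg1, hg2, hg3⟩ := exists_hom d₂ hR.1.2.1 hp hφ hc hS hp' hc' β hβ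
    obtain ⟨g', hg1', hg2', hg3'⟩ := exists_hom d₂ hR'.1.2.1 hp' hφ' hc' hS' hp hc (inv β) hβ'
    have e1 : g ≫ g' = 𝟙 C := by
      refine Ribbon24.eq_id_of_rel hR.1.2.1 hφ hS (by rw [reassoc_of% hg1, hg1']) ?_
      have h := hg3.comp hg1 hg1' hg3'
      rwa [IsIso.inv_hom_id] at h
    have e2 : g' ≫ g = 𝟙 C' := by
      refine Ribbon24.eq_id_of_rel hR'.1.2.1 hφ' hS' (by rw [reassoc_of% hg1', hg1]) ?_
      have h := hg3'.comp hg1' hg1 hg3
      rwa [IsIso.hom_inv_id] at h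
    exact ⟨⟨g, g', e1, e2⟩, hg1, hg2⟩

end Groth.Agent.S18348
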