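import Groth.Statements.S1835
import Groth.Agent.CycHerb.IndexFormula
import Mathlib.RingTheory.Ideal.GoingUp
import Mathlib.RingTheory.Nakayama
import Mathlib.RingTheory.Ideal.MinimalPrime.Localization
-- import your own Groth.Agent.* helpers here

set_option autoImplicit false
universe u
open CycAlg

namespace Groth.Agent.S1835

open Groth.Agent.CycHerb Groth.Agent.LenLib Pointwise

/-- Let R be a Noetherian local ring of dimension 1, a a nonzerodivisor in the maximal ideal and b a
nonzerodivisor. There is an integer n such that whenever b = a^m c in some finite extension ring R ⊆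
R', one has m ≤ n. -/
theorem result (R : Type u) [CommRing R] [IsNoetherianRing R] [IsLocalRing R] (hR : ringKrullDim R = 1) (a b : R) (ha : a ∈ nonZeroDivisors R) (ham : a ∈ IsLocalRing.maximalIdeal R) (hb : b ∈ nonZeroDivisors R) : ∃ n : ℕ, ∀ (R' : Type u) [CommRing R'] [Algebra R R'], Function.Injective (algebraMap R R') → Module.Finite R R' → ∀ (m : ℕ) (c : R'), algebraMap R R' b = algebraMap R R' a ^ m * c → m ≤ n := by
  obtain ⟨⟨q, hq⟩⟩ := Ideal.nonempty_minimalPrimes (I := (⊥ : Ideal R)) bot_ne_top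
  have := hq.1.1
  refine ⟨(ordZ (Ideal.Quotient.mk q b)).toNat, fun R' _ _ hinj hfinR' m c hmc => ?_⟩
  obtain ⟨Q, -, hQ, hQq⟩ := Ideal.exists_ideal_over_prime_of_isIntegral (S := R') q ⊥
    (by rw [Ideal.comap_bot_of_injective _ hinj]; exact bot_le)
  have hnq : ∀ z ∈ nonZeroDivisors R, z ∉ q := fun z hz h =>
    Set.disjoint_left.1 (Ideal.disjoint_nonZeroDivisors_of_mem_minimalPrimes hq) h hz
  let P : PrimeSpectrum R := ⟨q, hq.1.1⟩
  have hqm : ¬ P.asIdeal.IsMaximal := fun h => by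
    have e : q = IsLocalRing.maximalIdeal R := IsLocalRing.eq_maximalIdeal h
    exact hnq a ha (e ▸ ham)
  have hRdim : Module.supportDim R R ≤ 1 := by
    rw [Module.supportDim_self_eq_ringKrullDim, hR]
  have hmin : ∀ p : PrimeSpectrum R, ¬ p.asIdeal.IsMaximal → ∀ p' ≤ p, p' = p :=
    fun p hpm p' hle => supportDim_le_one_minimal hRdim hpm (by simp [Module.support_eq_zeroLocus, Module.annihilator_eq_bot.2 (inferInstance : FaithfulSMul R R)]) hle
  have hker : ∀ z : R, (algebraMap R (R' ⧸ Q) z = 0) ↔ z ∈ q := fun z => by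
    rw [IsScalarTower.algebraMap_apply R R' (R' ⧸ Q), Ideal.Quotient.algebraMap_eq,
      Ideal.Quotient.eq_zero_iff_mem, ← Ideal.mem_comap, hQq]
  have hsupp : ∀ p ∈ Module.support R (R' ⧸ Q), ¬ p.asIdeal.IsMaximal →
      p ∈ ({P} : Finset (PrimeSpectrum R)) := by
    intro p hp hpm
    rw [Finset.mem_singleton]
    refine (hmin p hpm P ?_).symm
    intro z hz
    refine Module.annihilator_le_of_mem_support hp (Module.mem_annihilator.2 fun w => ?_)
    rw [Algebra.smul_def, (hker z).2 hz, zero_mul]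
  have hform := fun (z : R) (hz : z ∈ nonZeroDivisors R) =>
    index_lsmul_eq_sum (M := R' ⧸ Q) z {P} (by simpa using hqm)
      (by simp) (by simpa using hnq z hz) hsupp
  have hinjz : ∀ z : R, z ∈ nonZeroDivisors R →
      Function.Injective (LinearMap.lsmul R (R' ⧸ Q) z) := by
    intro z hz u v huv
    simp only [LinearMap.lsmul_apply, Algebra.smul_def] at huv
    exact mul_left_cancel₀ (fun h => hnq z hz ((hker z).1 h)) huv
  obtain ⟨⟨-, hfa⟩, ea⟩ := hform a ha
  obtain ⟨⟨-, hfb⟩, eb⟩ := hform b hb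
  obtain ⟨⟨-, hfm⟩, em⟩ := hform (a ^ m) (pow_mem ha m)
  rw [index_of_injective (hinjz a ha), Finset.sum_singleton] at ea
  rw [index_of_injective (hinjz b hb), Finset.sum_singleton] at eb
  rw [index_of_injective (hinjz _ (pow_mem ha m)), Finset.sum_singleton] at em
  have : Ring.KrullDimLE 1 (R ⧸ q) :=
    Ring.krullDimLE_iff.2 (le_trans (ringKrullDim_quotient_le q) hR.le)
  have hane : Ideal.Quotient.mk q a ≠ 0 := fun h =>
    hnq a ha (Ideal.Quotient.eq_zero_iff_mem.1 h)
  have hpow : ∀ k : ℕ, ordZ (Ideal.Quotient.mk q (a ^ k)) = k * ordZ (Ideal.Quotient.mk q a) := by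
    intro k
    induction k with
    | zero => simp [ordZ_of_isUnit]
    | succ k ih =>
      rw [pow_succ, map_mul, ordZ_mul (by simp [hane]) hane, ih]; push_cast; ring
  have hmono : lenZ R ((R' ⧸ Q) ⧸ LinearMap.range (LinearMap.lsmul R (R' ⧸ Q) (a ^ m))) ≤
      lenZ R ((R' ⧸ Q) ⧸ LinearMap.range (LinearMap.lsmul R (R' ⧸ Q) b)) := by
    have hle : LinearMap.range (LinearMap.lsmul R (R' ⧸ Q) b) ≤
        LinearMap.range (LinearMap.lsmul R (R' ⧸ Q) (a ^ m)) := by
      rintro _ ⟨w, rfl⟩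
      refine ⟨Ideal.Quotient.mk Q c * w, ?_⟩
      simp only [LinearMap.lsmul_apply, Algebra.smul_def,
        IsScalarTower.algebraMap_apply R R' (R' ⧸ Q), Ideal.Quotient.algebraMap_eq, map_pow, hmc,
        map_mul, mul_assoc]
    unfold lenZ
    exact_mod_cast ENat.toNat_le_toNat (Module.length_le_of_surjective _
      (Submodule.factor_surjective hle)) hfb
  have hapos : 1 ≤ lenZ R ((R' ⧸ Q) ⧸ LinearMap.range (LinearMap.lsmul R (R' ⧸ Q) a)) := by
    by_contra hc
    have h0 : Module.length R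
        ((R' ⧸ Q) ⧸ LinearMap.range (LinearMap.lsmul R (R' ⧸ Q) a)) = 0 := by
      obtain ⟨n, hn⟩ := ENat.ne_top_iff_exists.1 hfa
      simp only [lenZ, ← hn, ENat.toNat_coe] at hc
      rw [← hn]; simp; omega
    rw [Module.length_eq_zero_iff, Submodule.Quotient.subsingleton_iff, range_lsmul_eq] at h0
    exact Submodule.top_ne_pointwise_smul_of_mem_jacobson_annihilator
      (IsLocalRing.maximalIdeal_le_jacobson _ ham) h0.symm
  have hr : 0 ≤ lenZ (Localization P.asIdeal.primeCompl)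
      (LocalizedModule P.asIdeal.primeCompl (R' ⧸ Q)) := Int.natCast_nonneg _
  have ho : 0 ≤ ordZ (Ideal.Quotient.mk q a) := Int.natCast_nonneg _
  set r := lenZ (Localization P.asIdeal.primeCompl)
      (LocalizedModule P.asIdeal.primeCompl (R' ⧸ Q))
  set A := ordZ (Ideal.Quotient.mk q a)
  set B := ordZ (Ideal.Quotient.mk q b)
  have ea' : lenZ R ((R' ⧸ Q) ⧸ LinearMap.range (LinearMap.lsmul R (R' ⧸ Q) a)) = A * r := ea
  have eb' : lenZ R ((R' ⧸ Q) ⧸ LinearMap.range (LinearMap.lsmul R (R' ⧸ Q) b)) = B * r := eb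
  have em' : lenZ R ((R' ⧸ Q) ⧸ LinearMap.range (LinearMap.lsmul R (R' ⧸ Q) (a ^ m))) =
      (m : ℤ) * A * r := em.trans (by rw [hpow])
  rw [ea'] at hapos
  rw [eb', em'] at hmono
  have h1 : 1 ≤ A := by nlinarith
  have h2 : 0 < r := by nlinarith
  have h3 : (m : ℤ) * A ≤ B := le_of_mul_le_mul_right hmono h2
  have h4 : (m : ℤ) ≤ B := le_trans (le_mul_of_one_le_right (Int.natCast_nonneg m) h1) h3
  omega

end Groth.Agent.S1835
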