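import Groth.Statements.S18351
import Mathlib
import Groth.Agent.Omega.Retraction
import Groth.Agent.Omega.Lift
import Groth.Agent.Omega.ConormalMap
import Groth.Agent.Omega.Transitivity
-- import your own Groth.Agent.* helpers here

set_option autoImplicit false
universe w u
open CategoryTheory CategoryTheory.Limits AlgebraicGeometry
open MultCurve

namespace Groth.Agent.S18351

/-- Let k be a field and D a reduced connected scheme locally of finite type over k with a universal
k-derivation d₂ : O_D → Ω₂. Let C and C′ be ribbons on D over k (k-schemes locally of finite type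
with closed immersions i, i′ of D over k making them ribbons), each with its restricted cotangent
sequence presented by a universal k-derivation (d₁, resp. d₁′), the map from the conormal bundle (𝓛,
resp. 𝓛′) induced by it and the map to Ω₂ compatible with d₂, assumed short exact, with classes e_C
∈ Ext¹(Ω₂, 𝓛) and e_{C′} ∈ Ext¹(Ω₂, 𝓛′). Let g : C ⟶ C′ be a morphism over D and over k, and let α :
𝓛′ → 𝓛 be the map of conormal bundles induced by g (pulled back along the identity of D). Then
e_{C′} composed with α equals e_C: together with the restriction to D of the differential of g, α is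
a morphism from the restricted cotangent sequence of C′ to that of C. (This is the form in which the
blow-up morphism X ⟶ C of a ribbon C along an effective Cartier divisor of D relates the two
classes; that such a blow-up X is again a ribbon on D, with conormal bundle 𝓛(δ), is a separate
statement, and the identification of α with multiplication by the section of δ is not asserted here.
Valid for every morphism of ribbons over D.) -/
theorem result (k : Type u) [Field k] (D : Scheme.{u})
    (pD : D ⟶ Spec (CommRingCat.of k)) [LocallyOfFiniteType pD] [ConnectedSpace D]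
    (Ω₂ : D.Modules) (d₂ : OmegaSh.Der pD Ω₂) (hd₂ : OmegaSh.IsUniversal d₂) [HasExt.{w} D.Modules]
    (C : Scheme.{u}) (i : D ⟶ C) (pC : C ⟶ Spec (CommRingCat.of k)) [LocallyOfFiniteType pC]
    (hp : i ≫ pC = pD) (hR : MultCurve.IsRibbon i)
    (Ω₁ : C.Modules) (d₁ : OmegaSh.Der pC Ω₁) (hd₁ : OmegaSh.IsUniversal d₁)
    (φ : Omega.conormal i ⟶ (Scheme.Modules.pullback i).obj Ω₁) (hφ : OmegaSh.IsConormalDiff i d₁ φ)
    (c : (Scheme.Modules.pullback i).obj Ω₁ ⟶ Ω₂) (hc : OmegaSh.IsDiffCompat i d₁ d₂ c)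
    (hw : φ ≫ c = 0) (hS : (ShortComplex.mk φ c hw).ShortExact)
    (C' : Scheme.{u}) (i' : D ⟶ C') (pC' : C' ⟶ Spec (CommRingCat.of k)) [LocallyOfFiniteType pC']
    (hp' : i' ≫ pC' = pD) (hR' : MultCurve.IsRibbon i')
    (Ω₁' : C'.Modules) (d₁' : OmegaSh.Der pC' Ω₁') (hd₁' : OmegaSh.IsUniversal d₁')
    (φ' : Omega.conormal i' ⟶ (Scheme.Modules.pullback i').obj Ω₁') (hφ' : OmegaSh.IsConormalDiff i' d₁' φ')
    (c' : (Scheme.Modules.pullback i').obj Ω₁' ⟶ Ω₂) (hc' : OmegaSh.IsDiffCompat i' d₁' d₂ c')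
    (hw' : φ' ≫ c' = 0) (hS' : (ShortComplex.mk φ' c' hw').ShortExact)
    (g : C ⟶ C') (hgi : i ≫ g = i') (hgk : g ≫ pC' = pC)
    (α : (Scheme.Modules.pullback (𝟙 D)).obj (Omega.conormal i') ⟶ Omega.conormal i)
    (hα : OmegaSh.IsConormalMap i i' g (𝟙 D) α) :
    hS'.extClass.comp (Abelian.Ext.mk₀ ((Scheme.Modules.pullbackId D).inv.app (Omega.conormal i') ≫ α)) (add_zero 1) =
      hS.extClass := by
  subst hgi
  have : IsClosedImmersion i := hR.1.1
  have : IsClosedImmersion (i ≫ g) := hR'.1.1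
  have hsq : pC ≫ 𝟙 _ = g ≫ pC' := by rw [Category.comp_id, hgk]
  obtain ⟨c₀, hc₀, -⟩ := Omega.Basic.existsUnique_diffCompat g hsq hd₁' d₁
  let a : Omega.conormal (i ≫ g) ⟶ Omega.conormal i :=
    (Scheme.Modules.pullbackId D).inv.app (Omega.conormal (i ≫ g)) ≫ α
  let β : (Scheme.Modules.pullback (i ≫ g)).obj Ω₁' ⟶ (Scheme.Modules.pullback i).obj Ω₁ :=
    (Scheme.Modules.pullbackComp i g).inv.app Ω₁' ≫ (Scheme.Modules.pullback i).map c₀
  have hnat : ∀ {M N : C.Modules} (m : M ⟶ N) (V : C.Opens) (t : Γ(M, V)),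
      ((Scheme.Modules.pullback i).map m).app (i ⁻¹ᵁ V) (OmegaSh.pullSect i M V t) =
        OmegaSh.pullSect i N V (m.app V t) := fun {M N} m V t => by
    have h := (Scheme.Modules.pullbackPushforwardAdjunction i).unit.naturality m
    exact (congr(Scheme.Modules.Hom.app $h V t)).symm
  have hβ : ∀ (U : C'.Opens) (s : Γ(C', U)),
      β.app ((i ≫ g) ⁻¹ᵁ U) (OmegaSh.pullSect (i ≫ g) Ω₁' U (d₁'.app U s)) =
        OmegaSh.pullSect i Ω₁ (g ⁻¹ᵁ U) (d₁.app (g ⁻¹ᵁ U) (g.app U s)) := fun U s => by
    refine (congrArg (((Scheme.Modules.pullback i).map c₀).app _)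
      (Omega.Lift.pullbackComp_inv_pullSect (h := g) i U (d₁'.app U s))).trans ?_
    refine (hnat c₀ (g ⁻¹ᵁ U) _).trans ?_
    exact congrArg _ (hc₀ U s)
  have h₁ : a ≫ φ = φ' ≫ β := by
    refine Omega.Retraction.hom_ext_conormal (i ≫ g) fun U s' => ?_
    obtain ⟨-, hα'⟩ := hα
    have w : 𝟙 D ≫ (i ≫ g) = i ≫ g := Category.id_comp _
    let s := Omega.ConormalMap.lift (i := i) w U s'
    have hs := Omega.ConormalMap.idealSect_lift (i := i) w U s'
    have ha : a.app ((i ≫ g) ⁻¹ᵁ U) (OmegaSh.conormalSect (i ≫ g) U s') =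
        OmegaSh.conormalSect i (g ⁻¹ᵁ U) s := by
      have h := hα' U s' s hs ((i ≫ g) ⁻¹ᵁ U) le_rfl le_rfl
      refine (congrArg (α.app _) (Omega.Transitivity.pullbackId_inv_app _ _ _)).trans ?_
      refine ((congr($((Omega.conormal i).presheaf.map_id _) _)).symm.trans h).trans ?_
      exact congr($((Omega.conormal i).presheaf.map_id _) _)
    refine (congrArg (φ.app _) ha).trans ((hφ _ s).trans ?_)
    refine Eq.trans ?_ ((congrArg (β.app _) (hφ' U s')).trans (hβ U _)).symm
    rw [hs]
  have h₂ : β ≫ c = c' ≫ 𝟙 Ω₂ := by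
    rw [Category.comp_id]
    refine Omega.Transitivity.hom_ext_pullback hd₁' fun U s => ?_
    refine (congrArg (c.app _) (hβ U s)).trans ((hc (g ⁻¹ᵁ U) (g.app U s)).trans ?_)
    exact (hc' U s).symm
  rw [ShortComplex.ShortExact.extClass_naturality hS' hS ⟨a, β, 𝟙 Ω₂, h₁, h₂⟩]
  exact Abelian.Ext.mk₀_id_comp _

end Groth.Agent.S18351
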