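import Groth.Statements.S18352
import Groth.Agent.FFCurve.NormalFamily
import Groth.Agent.NodeStruct.Open
import Groth.Agent.Omega.SmoothNormalScheme
import Groth.Agent.S0601
import Groth.Agent.Wt.GenFibReduced
-- import your own Groth.Agent.* helpers here

set_option autoImplicit false
universe u
open Curv2 CategoryTheory CategoryTheory.Limits AlgebraicGeometry

namespace Groth.Agent.S18352

set_option linter.style.haveILetI false
set_option maxHeartbeats 1000000
set_option backward.isDefEq.respectTransparency false
set_option backward.isDefEq.respectTransparency.types false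

theorem geometricallyReduced_comp {X Y Z : Scheme.{u}} (j : X ⟶ Y) [IsOpenImmersion j] (g : Y ⟶ Z)
    [GeometricallyReduced g] : GeometricallyReduced (j ≫ g) := by
  refine ⟨fun K _ y P fst snd h => ?_⟩
  let l : P ⟶ pullback g y := pullback.lift (fst ≫ j) snd (by rw [Category.assoc, h.w])
  have hsq : IsPullback fst l j (pullback.fst g y) := by
    refine IsPullback.of_bot ?_ (by simp [l]) (IsPullback.of_hasPullback g y)
    simpa [l] using h
  haveI : IsOpenImmersion l := MorphismProperty.of_isPullback hsq ‹IsOpenImmersion j›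
  haveI : IsReduced (pullback g y) :=
    GeometricallyReduced.geometrically_isReduced (f := g) y _ _ (IsPullback.of_hasPullback g y)
  exact isReduced_of_isOpenImmersion l

theorem geometricallyReduced_of_comp_mono {X Y Z : Scheme.{u}} (a : X ⟶ Y) (j : Y ⟶ Z) [Mono j]
    [GeometricallyReduced (a ≫ j)] : GeometricallyReduced a := by
  refine ⟨fun K _ y P fst snd h => ?_⟩
  refine GeometricallyReduced.geometrically_isReduced (f := a ≫ j) (y ≫ j) fst snd
    (IsPullback.of_isLimit' ⟨by rw [reassoc_of% h.w]⟩ (PullbackCone.IsLimit.mk _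
      (fun c => h.lift c.fst c.snd ((cancel_mono j).1 (by simpa using c.condition)))
      (fun c => h.lift_fst _ _ _) (fun c => h.lift_snd _ _ _)
      fun c m h1 h2 => h.hom_ext (by simpa using h1) (by simpa using h2)))

open CategoryTheory AlgebraicGeometry in
/-- Let S be an integral Noetherian scheme all of whose local rings are integrally closed domains, and
let f : C → S be a flat, proper, locally finitely presented morphism of schemes whose fibres are
geometrically reduced and geometrically connected, all of Krull dimension one, and whose fibre over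
the generic point of S is smooth over the residue field there. Then every local ring of C is an
integrally closed domain. The total space C is a scheme here; the source also allows an algebraic
space. -/
theorem result (S C : Scheme.{u}) [IsIntegral S] [IsNoetherian S]
    (hS : Pi1.IsNormalScheme S) (f : C ⟶ S) [Flat f] [IsProper f] [LocallyOfFinitePresentation f]
    [GeometricallyReduced f] [GeometricallyConnected f]
    (hdim : ∀ s : ↥S, topologicalKrullDim ↥(f.fiber s) = 1)
    (hsm : Smooth (f.fiberToSpecResidueField (genericPoint ↥S))) :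
    Pi1.IsNormalScheme C := by
  intro x
  obtain ⟨_, ⟨V, hV, rfl⟩, hsV, -⟩ :=
    S.isBasis_affineOpens.exists_subset_of_mem_open (Set.mem_univ (f x)) isOpen_univ
  obtain ⟨_, ⟨U, hU, rfl⟩, hxU, hUV⟩ :=
    C.isBasis_affineOpens.exists_subset_of_mem_open (show x ∈ f ⁻¹ᵁ V from hsV) (f ⁻¹ᵁ V).isOpen
  replace hsV : f x ∈ V := hsV
  replace hxU : x ∈ U := hxU
  have e : U ≤ f ⁻¹ᵁ V := hUV
  haveI : Nonempty V := ⟨⟨f x, hsV⟩⟩
  haveI : IsLocallyNoetherian C := LocallyOfFiniteType.isLocallyNoetherian f
  haveI := IsLocallyNoetherian.component_noetherian (X := S) ⟨V, hV⟩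
  haveI := IsLocallyNoetherian.component_noetherian (X := C) ⟨U, hU⟩
  let A := Γ(S, V)
  let B := Γ(C, U)
  letI : Algebra A B := (f.appLE V U e).hom.toAlgebra
  haveI : Module.Flat A B := f.flat_appLE hV hU e
  haveI : Algebra.FiniteType A B := f.finiteType_appLE hV hU e
  have hA : ∀ (p : Ideal A) [p.IsPrime],
      IsDomain (Localization.AtPrime p) ∧ IsIntegrallyClosed (Localization.AtPrime p) := by
    intro p _
    let pt : PrimeSpectrum A := ⟨p, inferInstance⟩
    have hz : hV.fromSpec pt ∈ V := by
      have : hV.fromSpec pt ∈ Set.range hV.fromSpec := ⟨_, rfl⟩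
      rwa [hV.range_fromSpec] at this
    letI := S.presheaf.algebra_section_stalk (⟨hV.fromSpec pt, hz⟩ : V)
    haveI : IsLocalization.AtPrime (S.presheaf.stalk (hV.fromSpec pt)) p :=
      hV.isLocalization_stalk' pt hz
    let ey := (IsLocalization.algEquiv p.primeCompl (S.presheaf.stalk (hV.fromSpec pt))
      (Localization.AtPrime p)).toRingEquiv
    haveI := (hS (hV.fromSpec pt)).1
    haveI := (hS (hV.fromSpec pt)).2
    exact ⟨MulEquiv.isDomain (S.presheaf.stalk (hV.fromSpec pt)) ey.symm.toMulEquiv,
      IsIntegrallyClosed.of_equiv ey⟩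
  obtain ⟨hA1, hA2⟩ := (S0601.result A).1 hA
  have hfac := IsAffineOpen.SpecMap_appLE_fromSpec f hV hU e
  haveI : GeometricallyReduced (Spec.map (f.appLE V U e) ≫ hV.fromSpec) := by
    rw [hfac]; exact geometricallyReduced_comp _ _
  haveI hgr : GeometricallyReduced (Spec.map (CommRingCat.ofHom (algebraMap A B))) :=
    geometricallyReduced_of_comp_mono (Spec.map (f.appLE V U e)) hV.fromSpec
  have hred : ∀ (p : Ideal A) [p.IsPrime], _root_.IsReduced (p.Fiber B) := fun p _ => by
    let pt : Spec (CommRingCat.of A) := ⟨p, inferInstance⟩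
    exact (Groth.Agent.Wt.GenFib.isReduced_fiber_iff A B pt).1 inferInstance
  have hdimf : ∀ (p : Ideal A) [p.IsPrime], ringKrullDim (p.Fiber B) ≤ 1 := fun p _ => by
    let pt : PrimeSpectrum A := ⟨p, inferInstance⟩
    let e0 := PrimeSpectrum.preimageHomeomorphFiber A B pt
    let F : PrimeSpectrum (p.Fiber B) → f ⁻¹' {hV.fromSpec pt} := fun z =>
      ⟨hU.fromSpec (e0.symm z).1, by
        have h1 : Spec.map (f.appLE V U e) (e0.symm z).1 = pt := (e0.symm z).2
        rw [Set.mem_preimage, Set.mem_singleton_iff, ← Scheme.Hom.comp_apply, ← hfac, Scheme.Hom.comp_apply, h1]⟩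
    have hF : Topology.IsEmbedding F :=
      Topology.IsEmbedding.codRestrict (hU.fromSpec.isEmbedding.comp
        (Topology.IsEmbedding.subtypeVal.comp e0.symm.isEmbedding)) _ _
    rw [← PrimeSpectrum.topologicalKrullDim_eq_ringKrullDim]
    refine (((f.fiberHomeo _).symm.isEmbedding.comp hF).isInducing.topologicalKrullDim_le).trans ?_
    rw [hdim]
  have hgen : ∀ (q : Ideal B) [q.IsPrime], q.comap (algebraMap A B) = ⊥ →
      IsDomain (Localization.AtPrime q) ∧ IsIntegrallyClosed (Localization.AtPrime q) := by
    intro q _ hq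
    let qt : PrimeSpectrum B := ⟨q, inferInstance⟩
    have hz : hU.fromSpec qt ∈ U := by
      have : hU.fromSpec qt ∈ Set.range hU.fromSpec := ⟨_, rfl⟩
      rwa [hU.range_fromSpec] at this
    have hη : f (hU.fromSpec qt) = genericPoint S := by
      rw [← Scheme.Hom.comp_apply, ← hfac, Scheme.Hom.comp_apply]
      haveI : IsDomain A := inferInstance
      have h1 : Spec.map (f.appLE V U e) qt = genericPoint (Spec (CommRingCat.of A)) := by
        rw [genericPoint_eq_bot_of_affine]
        exact PrimeSpectrum.ext hq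
      rw [h1]
      exact genericPoint_eq_of_isOpenImmersion hV.fromSpec
    have hsmx : hU.fromSpec qt ∈ f.smoothLocus := by
      obtain ⟨z, hzz⟩ : hU.fromSpec qt ∈ Set.range (f.fiberι (genericPoint S)) := by
        rw [Scheme.Hom.range_fiberι]; exact hη
      rw [← hzz]
      haveI := hsm
      refine NodeStruct.mem_smoothLocus_of_fibre f _ z ?_
      rw [Scheme.Hom.smoothLocus_eq_top]; trivial
    have hn := (Omega.SmoothNormal.stalk_isNormal_iff f hsmx).2 (hS _)
    letI := C.presheaf.algebra_section_stalk (⟨hU.fromSpec qt, hz⟩ : U)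
    haveI : IsLocalization.AtPrime (C.presheaf.stalk (hU.fromSpec qt)) q :=
      hU.isLocalization_stalk' qt hz
    let ey := (IsLocalization.algEquiv q.primeCompl (C.presheaf.stalk (hU.fromSpec qt))
      (Localization.AtPrime q)).toRingEquiv
    haveI := hn.1
    haveI := hn.2
    exact ⟨MulEquiv.isDomain (C.presheaf.stalk (hU.fromSpec qt)) ey.symm.toMulEquiv,
      IsIntegrallyClosed.of_equiv ey⟩
  have hB1 := FFCurve.NormalFamily.hasRk_one A B hA1 hred hgen
  have hB2 : LocCoh.HasSk 2 B B := EGA4Lib.hasSk_of_flat_of_fibres A 2 hA2 fun p _ => by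
    haveI := hred p
    haveI : IsNoetherianRing (p.Fiber B) := Algebra.FiniteType.isNoetherianRing p.ResidueField _
    exact FFCurve.NormalFamily.hasSk_two _ (hdimf p)
  obtain ⟨h1, h2⟩ := (S0601.result B).2 ⟨hB1, hB2⟩ (hU.primeIdealOf ⟨x, hxU⟩).asIdeal
  letI := C.presheaf.algebra_section_stalk (⟨x, hxU⟩ : U)
  haveI := hU.isLocalization_stalk ⟨x, hxU⟩
  let ex := (IsLocalization.algEquiv (hU.primeIdealOf ⟨x, hxU⟩).asIdeal.primeCompl
    (Localization.AtPrime (hU.primeIdealOf ⟨x, hxU⟩).asIdeal) (C.presheaf.stalk x)).toRingEquiv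
  haveI := h1
  haveI := h2
  exact ⟨MulEquiv.isDomain (Localization.AtPrime (hU.primeIdealOf ⟨x, hxU⟩).asIdeal) ex.symm.toMulEquiv,
    IsIntegrallyClosed.of_equiv ex⟩

end Groth.Agent.S18352
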