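import Groth.Statements.S18353
import Groth.Agent.S18352
import Groth.Agent.S2422
import Mathlib.AlgebraicGeometry.Geometrically.Connected
import Mathlib.AlgebraicGeometry.Morphisms.UniversallyOpen

set_option autoImplicit false
set_option linter.style.haveILetI false
universe u
open Curv2

namespace Groth.Agent.S18353

open CategoryTheory CategoryTheory.Limits AlgebraicGeometry TopologicalSpace

/-- A connected normal Noetherian scheme is integral. -/
theorem isIntegral_of_normal {X : Scheme.{u}} [IsLocallyNoetherian X] [CompactSpace X] [ConnectedSpace X]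
    (hX : Pi1.IsNormalScheme X) : IsIntegral X := by
  haveI : IsNoetherian X := ⟨⟩
  have hmin : ∀ y : X, ∃ g : X, g ⤳ y ∧ ∀ z : X, z ⤳ y → g ⤳ z := by
    intro y
    haveI := (hX y).1
    let b : PrimeSpectrum (X.presheaf.stalk y) := ⟨⊥, Ideal.isPrime_bot⟩
    refine ⟨X.fromSpecStalk y b, ?_, fun z hz => ?_⟩
    · have : X.fromSpecStalk y b ∈ Set.range (X.fromSpecStalk y) := ⟨b, rfl⟩
      rwa [Scheme.range_fromSpecStalk] at this
    · obtain ⟨q, rfl⟩ : z ∈ Set.range (X.fromSpecStalk y) := by rw [Scheme.range_fromSpecStalk]; exact hz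
      exact ((PrimeSpectrum.le_iff_specializes b q).mp (show b.asIdeal ≤ q.asIdeal from bot_le)).map
        (X.fromSpecStalk y).continuous
  choose g hgy hg using hmin
  have hmax : ∀ y z : X, z ⤳ g y → z = g y := fun y z hz =>
    (hz.antisymm (hg y z (hz.trans (hgy y)))).eq
  have hgg : ∀ y z : X, g y ⤳ z → g z = g y := fun y z hz => hmax y _ (hg z _ hz)
  have hfin : (Set.range g).Finite := by
    classical
    refine Set.Finite.subset ((NoetherianSpace.finite_irreducibleComponents (α := X)).image
      (fun Z => if h : IsIrreducible Z then h.genericPoint else g (Classical.arbitrary X))) ?_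
    rintro _ ⟨y, rfl⟩
    have hirr := isIrreducible_irreducibleComponent (x := g y)
    refine ⟨_, irreducibleComponent_mem_irreducibleComponents (g y), ?_⟩
    show dite _ _ _ = g y
    rw [dif_pos hirr]
    refine hmax y _ ?_
    exact (hirr.isGenericPoint_genericPoint isClosed_irreducibleComponent).specializes mem_irreducibleComponent
  obtain ⟨y₀⟩ := ConnectedSpace.toNonempty (α := X)
  have hclopen : IsClopen (closure {g y₀}) := by
    refine ⟨isClosed_closure, ?_⟩
    have hc : closure {g y₀} = (⋃ a ∈ Set.range g \ {g y₀}, closure {a})ᶜ := by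
      ext z
      simp only [Set.mem_compl_iff, Set.mem_iUnion, exists_prop, ← specializes_iff_mem_closure, not_exists,
        not_and]
      refine ⟨fun hz a ha haz => ?_, fun H => ?_⟩
      · obtain ⟨⟨b, rfl⟩, hne⟩ := ha
        exact hne ((hgg b z haz).symm.trans (hgg y₀ z hz))
      · by_contra hz
        exact H (g z) ⟨⟨z, rfl⟩, fun e => hz ((Set.mem_singleton_iff.1 e) ▸ hgy z)⟩ (hgy z)
    rw [hc]
    exact ((hfin.subset Set.sdiff_subset).isClosed_biUnion fun _ _ => isClosed_closure).isOpen_compl
  have hc : closure {g y₀} = (Set.univ : Set X) := hclopen.eq_univ ⟨_, subset_closure rfl⟩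
  have : IrreducibleSpace X :=
    { toPreirreducibleSpace := ⟨hc ▸ isIrreducible_singleton.closure.isPreirreducible⟩
      toNonempty := ⟨y₀⟩ }
  have : ∀ y, _root_.IsReduced (X.presheaf.stalk y) := fun y => by
    haveI := (hX y).1
    infer_instance
  have : IsReduced X := isReduced_of_isReduced_stalk _
  exact isIntegral_of_irreducibleSpace_of_isReduced _


open CategoryTheory AlgebraicGeometry in
/-- Let S be an integral Noetherian scheme all of whose local rings are integrally closed domains, and
let f₁ : C₁ → S and f₂ : C₂ → S be flat, proper, locally finitely presented morphisms of schemes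
whose fibres are geometrically reduced and geometrically connected, all of Krull dimension one, and
whose fibres over the generic point of S are smooth. Let φ : C₁ → C₂ be a morphism over S which is
birational, in the sense that it restricts to an isomorphism over some dense open subset of C₂. Then
the canonical map O_{C₂} → φ_* O_{C₁} is an isomorphism: for every open V of C₂ the pull-back map
from sections over V to sections over φ⁻¹(V) is an isomorphism of rings. The total spaces are
schemes here; the source also allows algebraic spaces. -/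
theorem result (S C₁ C₂ : Scheme.{u}) [IsIntegral S]
    [IsNoetherian S] (hS : Pi1.IsNormalScheme S) (f₁ : C₁ ⟶ S) (f₂ : C₂ ⟶ S)
    [Flat f₁] [IsProper f₁] [LocallyOfFinitePresentation f₁] [GeometricallyReduced f₁] [GeometricallyConnected f₁]
    [Flat f₂] [IsProper f₂] [LocallyOfFinitePresentation f₂] [GeometricallyReduced f₂] [GeometricallyConnected f₂]
    (hdim₁ : ∀ s : ↥S, topologicalKrullDim ↥(f₁.fiber s) = 1) (hdim₂ : ∀ s : ↥S, topologicalKrullDim ↥(f₂.fiber s) = 1)
    (hsm₁ : Smooth (f₁.fiberToSpecResidueField (genericPoint ↥S)))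
    (hsm₂ : Smooth (f₂.fiberToSpecResidueField (genericPoint ↥S)))
    (φ : C₁ ⟶ C₂) (hφ : φ ≫ f₂ = f₁) (hbir : ∃ U : C₂.Opens, Dense (U : Set ↥C₂) ∧ IsIso (φ ∣_ U)) :
    ∀ V : C₂.Opens, IsIso (φ.app V) := by
  have hN₁ := S18352.result S C₁ hS f₁ hdim₁ hsm₁
  have hN₂ := S18352.result S C₂ hS f₂ hdim₂ hsm₂
  haveI : IsLocallyNoetherian C₁ := LocallyOfFiniteType.isLocallyNoetherian f₁
  haveI : IsLocallyNoetherian C₂ := LocallyOfFiniteType.isLocallyNoetherian f₂
  haveI : CompactSpace C₁ := QuasiCompact.compactSpace_of_compactSpace f₁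
  haveI : CompactSpace C₂ := QuasiCompact.compactSpace_of_compactSpace f₂
  haveI : ConnectedSpace C₁ := GeometricallyConnected.connectedSpace f₁ f₁.isOpenMap
  haveI : ConnectedSpace C₂ := GeometricallyConnected.connectedSpace f₂ f₂.isOpenMap
  haveI := isIntegral_of_normal hN₁
  haveI := isIntegral_of_normal hN₂
  haveI : IsProper φ := by
    haveI : IsProper (φ ≫ f₂) := hφ ▸ ‹IsProper f₁›
    exact IsProper.of_comp φ f₂
  obtain ⟨U, hUd, hUiso⟩ := hbir
  have hη₂ : genericPoint C₂ ∈ U := by
    obtain ⟨z, hz⟩ := hUd.nonempty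
    exact (genericPoint_specializes z).mem_open U.2 hz
  obtain ⟨x₀, hx₀⟩ : ∃ x₀ : (φ ⁻¹ᵁ U).toScheme, (φ ∣_ U) x₀ = ⟨genericPoint C₂, hη₂⟩ :=
    (ConcreteCategory.bijective_of_isIso (φ ∣_ U).base).2 _
  have hη₁ : genericPoint C₁ ∈ φ ⁻¹ᵁ U := (genericPoint_specializes x₀.1).mem_open (φ ⁻¹ᵁ U).2 x₀.2
  have hx₀' : φ x₀.1 = genericPoint C₂ := by
    have h := congrArg U.ι hx₀
    rw [← Scheme.Hom.comp_apply, morphismRestrict_ι, Scheme.Hom.comp_apply] at h
    exact h
  have hdom : φ.base (genericPoint C₁) ⤳ genericPoint C₂ := by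
    rw [← hx₀']
    exact (genericPoint_specializes x₀.1).map φ.continuous
  haveI : IsIso (φ.stalkMap (genericPoint C₁)) := by
    have e := morphismRestrictStalkMap φ U ⟨genericPoint C₁, hη₁⟩
    haveI : IsIso ((φ ∣_ U).stalkMap ⟨genericPoint C₁, hη₁⟩) := inferInstance
    exact ((MorphismProperty.isomorphisms _).arrow_mk_iso_iff e).1 this
  have hsurj : Function.Surjective (CohIII.stalkToFunctionField φ (genericPoint C₂) hdom) := by
    have heq : Inseparable (φ (genericPoint C₁)) (genericPoint C₂) :=
      hdom.antisymm (genericPoint_specializes _)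
    haveI : IsIso (C₂.presheaf.stalkSpecializes hdom) :=
      inferInstanceAs (IsIso (C₂.presheaf.stalkCongr heq).inv)
    exact (ConcreteCategory.bijective_of_isIso
      (C₂.presheaf.stalkSpecializes hdom ≫ φ.stalkMap (genericPoint C₁))).2
  exact S2422.result hN₂ φ hdom fun x _ => hsurj x

end Groth.Agent.S18353
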