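import Groth.Statements.S18354
import Groth.Agent.CurveRed.SmallAmple
import Groth.Agent.CurveRed.GlobGen
import Groth.Agent.CurveVA2.Basic
import Groth.Agent.FFCurve.NormalCount
import Groth.Agent.AmpleLib.GenIso

set_option autoImplicit false
universe u
open Curves

namespace Groth.Agent.S18354

open Groth.Agent

set_option linter.style.haveILetI false
set_option maxHeartbeats 1000000

open CategoryTheory CategoryTheory.Limits AlgebraicGeometry TopologicalSpace in
/-- An invertible module of small degree, generated, without higher cohomology and ample. -/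
theorem exists_gen (k : Type u) [Field k] [IsAlgClosed k] (X : Scheme.{u}) [X.Over (Spec (CommRingCat.of k))]
    [IsProper (X ↘ Spec (CommRingCat.of k))] [IsReduced X] [ConnectedSpace ↥X] (hdim : topologicalKrullDim ↥X = 1) :
    ∃ L : X.Modules, PicF.IsInvertible L ∧ CohB1.IsAmple L ∧ Curv2.IsGloballyGenerated L ∧
      Subsingleton (Coh.HH X L 1) ∧
      Curv2.deg k X L 1 ≤ ((2 * Curv2.genus k X + 1) * (irreducibleComponents (X : Type u)).ncard : ℕ) := by
  haveI := EulerChar.isNoetherian k (X := X)
  have hd := hdim.le
  obtain ⟨M, hM, hMa, hMd⟩ := CurveRed.exists_small_ample k hdim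
  set g := Curv2.genus k X with hgdef
  let L := CohB1.tensorPow M (2 * g + 1)
  have hL : PicF.IsInvertible L := AmpleLib.isInvertible_tensorPow hM _
  have hgenus : ∀ J : X.IdealSheafData,
      @Curv2.genus k _ J.subscheme ⟨J.subschemeι ≫ (X ↘ Spec (CommRingCat.of k))⟩ ≤ g := fun J => by
    letI : J.subscheme.Over (Spec (CommRingCat.of k)) := ⟨J.subschemeι ≫ (X ↘ Spec (CommRingCat.of k))⟩
    have h := CurveRed.h1_quotMod_add k hd J
    have e : Module.finrank k (Coh.HH X (ClSub.quotMod J) 1) =
        Module.finrank k (Coh.HH J.subscheme (Coh.structureModule J.subscheme) 1) := (EulerChar.nonempty_pushEquiv (A := k) J.subschemeι rfl (Coh.structureModule J.subscheme)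
      (ProjTwist.isQuasicoherent_structureModule J.subscheme) 1).some.finrank_eq
    simp only [Curv2.genus] at h ⊢ hgdef
    omega
  have hbound : ∀ J : X.IdealSheafData, IsReduced J.subscheme → ConnectedSpace J.subscheme →
      topologicalKrullDim J.subscheme = 1 → 2 * (g : ℤ) + 1 ≤ CurveRed.cdeg k L J := fun J _ _ hJ => by
    have h := CurveRed.cdeg_pow k hd hM J (2 * g + 1)
    have h' := CurveRed.cdeg_pos k hMa hd J hJ
    have h'' : ((2 * g + 1 : ℕ) : ℤ) * 1 ≤ ((2 * g + 1 : ℕ) : ℤ) * CurveRed.cdeg k M J :=
      mul_le_mul_of_nonneg_left h' (Int.natCast_nonneg _)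
    rw [← h] at h''
    push_cast at h''
    linarith
  refine ⟨L, hL, (AmpleLib.isAmple_tensorPow_iff hM (by omega)).2 hMa, ?_, ?_, ?_⟩
  · refine CurveRed.isGloballyGenerated k hdim hL fun J h1 h2 h3 => ?_
    have := hbound J h1 h2 h3
    have := hgenus J
    show 2 * (_ : ℤ) ≤ CurveRed.cdeg k L J
    omega
  · by_contra hne
    rw [not_subsingleton_iff_nontrivial] at hne
    have hZ : topologicalKrullDim ((⊤ : X.IdealSheafData).support : Set X) ≤ 0 :=
      EulerChar.topDim_le_zero_of_finite (by simp) fun z hz => absurd hz (by simp)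
    haveI : Mono (ClSub.idealModι (⊤ : X.IdealSheafData)) := inferInstanceAs (Mono (kernel.ι _))
    have hq : ∀ I : X.IdealSheafData, (⊤ : X.IdealSheafData) ≤ I → IsZero (ClSub.quotMod I) := fun I hI =>
      CohDev.isZero_of_support_eq_empty (Set.eq_empty_of_subset_empty
        ((EulerChar.support_quotMod_subset I).trans (by
          have := Scheme.IdealSheafData.support_antitone hI
          simpa using this)))
    haveI : IsIso (ClSub.idealModι (⊤ : X.IdealSheafData)) := by
      haveI : Epi (ClSub.idealModι (⊤ : X.IdealSheafData)) :=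
        (EulerChar.shortExact_ideal (⊤ : X.IdealSheafData)).exact.epi_f ((hq ⊤ le_rfl).eq_of_tgt _ _)
      exact isIso_of_mono_of_epi _
    let e : CohB1.tensorMod (ClSub.idealMod (⊤ : X.IdealSheafData)) L ≅ L :=
      ProjTwist.tensComm _ L ≪≫ (DCoh.tensorBi.obj L).mapIso (asIso (ClSub.idealModι _)) ≪≫ ProjTwist.tensOne L
    obtain ⟨J, hJr, hJc, hJd, hle⟩ := CurveRed.exists_subcurve k hdim hL ⊤ hZ
      ((CohLin.hIso e 1).toEquiv.nontrivial)
    have h0 : Module.finrank k (Coh.HH X (ClSub.quotMod (⊤ ⊔ J)) 0) = 0 := by
      haveI : Subsingleton (Coh.HH X (ClSub.quotMod (⊤ ⊔ J)) 0) := subsingleton_of_forall_eq 0 fun x => by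
        rw [← CohLin.hMap_id _ 0 x, (hq _ le_sup_left).eq_of_src (𝟙 _) 0]
        exact map_zero (CohLin.hMapHom _ _ 0 x)
      exact Module.finrank_zero_of_subsingleton
    letI : J.subscheme.Over (Spec (CommRingCat.of k)) := ⟨J.subschemeι ≫ (X ↘ Spec (CommRingCat.of k))⟩
    haveI : IsProper (J.subscheme ↘ Spec (CommRingCat.of k)) := inferInstanceAs (IsProper (J.subschemeι ≫ _))
    haveI := hJr
    haveI := hJc
    have h1 := hbound J hJr hJc hJd
    have h2 := hgenus J
    have h3 : Curv2.euler k J.subscheme (Coh.structureModule J.subscheme) =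
        1 - (Curv2.genus k J.subscheme : ℤ) := by
      simp only [DecCurve.euler_eq k hJd.le, DecCurve.h0, FFCurve.NormalCount.finrank_h0_connected (k := k) J.subscheme]
      rfl
    rw [h3, h0] at hle
    have hle' : CurveRed.cdeg k L J ≤ _ := hle
    push_cast at hle'
    omega
  · rw [CurveRed.deg_pow k hd hM]
    push_cast
    exact mul_le_mul_of_nonneg_left hMd (by positivity)

open CategoryTheory CategoryTheory.Limits AlgebraicGeometry in
/-- For all natural numbers g and e there is a natural number D with the following property. For every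
algebraically closed field k and every reduced, connected scheme X proper over k, of Krull dimension
one, with finitely many and at most e irreducible components and with dim_k H^1(X, O_X) = g, there
is an invertible O_X-module L of degree at most D with H^1(X, L) = 0, together with a closed
immersion i of X into some projective space P^m_k over k with i^* O(1) ≅ L. The source phrases the
conclusion as the existence of an embedding of degree at most D and reduces it to this form at the
start of its proof; its genus is the arithmetic genus 1 − χ(O_X), which equals dim_k H^1(X, O_X) for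
X reduced, connected and proper over an algebraically closed field. -/
theorem result (g e : ℕ) :
    ∃ D : ℕ, ∀ (k : Type u) [Field k] [IsAlgClosed k] (X : Scheme.{u}) [X.Over (Spec (CommRingCat.of k))]
      [IsProper (X ↘ Spec (CommRingCat.of k))] [IsReduced X] [ConnectedSpace ↥X],
      topologicalKrullDim ↥X = 1 → (irreducibleComponents (↥X : Type u)).Finite →
      (irreducibleComponents (↥X : Type u)).ncard ≤ e → Curv2.genus k X = g →
      ∃ L : X.Modules, PicF.IsInvertible L ∧ Curv2.deg k X L 1 ≤ (D : ℤ) ∧ Subsingleton (Coh.HH X L 1) ∧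
        ∃ (m : ℕ) (i : X ⟶ CohB1.ProjSpace m k), IsClosedImmersion i ∧
          i ≫ CohB1.ProjSpace.toSpec m k = X ↘ Spec (CommRingCat.of k) ∧
          Nonempty ((Scheme.Modules.pullback i).obj (Twist.twistProjSpace m k 1) ≅ L) := by
  refine ⟨2 * ((2 * g + 1) * e), fun k _ _ X _ _ _ _ hdim _ hcard hg => ?_⟩
  obtain ⟨L, hL, hLa, hLg, hL1, hLd⟩ := exists_gen k X hdim
  subst hg
  refine ⟨CohB1.tensorPow L 2, AmpleLib.isInvertible_tensorPow hL 2, ?_, CurveVA2.h1_pow (k := k) hdim hL hLg hL1 1,
    CurveVA2.exists_closedImmersion (k := k) hdim hL (FFCurve.NormalCount.finrank_h0_connected (k := k) X) hLg hL1 hLa⟩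
  rw [CurveRed.deg_pow k hdim.le hL]
  push_cast
  refine mul_le_mul_of_nonneg_left (hLd.trans ?_) (by norm_num)
  exact_mod_cast Nat.mul_le_mul_left _ hcard

end Groth.Agent.S18354
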