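import Groth.Statements.S18360
import Groth.Agent.Alter18360.Main

set_option autoImplicit false
universe u
open CategoryTheory CategoryTheory.Limits AlgebraicGeometry
open Alter

namespace Groth.Agent.S18360

/-- Let Y be a Noetherian scheme, i : F ⟶ Y a closed immersion and s : F' ⟶ F a finite surjective
morphism. Then there are a scheme Y' and a finite surjective morphism g : Y' ⟶ Y such that every
irreducible component of F ×_Y Y', with its reduced closed-subscheme structure, is the source of an
F-morphism to F': for every reduced scheme G and every closed immersion ι : G ⟶ F ×_Y Y' whose image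
is an irreducible component, there is φ : G ⟶ F' with φ ≫ s = ι ≫ pr₁. -/
theorem result {Y F F' : Scheme.{u}} [IsNoetherian Y]
    (i : F ⟶ Y) [IsClosedImmersion i] (s : F' ⟶ F) [IsFinite s] [Surjective s] :
    ∃ (Y' : Scheme.{u}) (g : Y' ⟶ Y), IsFinite g ∧ Surjective g ∧
      ∀ (G : Scheme.{u}) (ι : G ⟶ pullback i g) [IsClosedImmersion ι] [AlgebraicGeometry.IsReduced G],
        Set.range ι.base ∈ irreducibleComponents ↥(pullback i g) →
          ∃ φ : G ⟶ F', φ ≫ s = ι ≫ pullback.fst i g := by
  classical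
  haveI : IsFinite (s ≫ i) := inferInstance
  -- the local covers
  have hU : ∀ y : Y, ∃ V : Y.Opens, IsAffineOpen V ∧ y ∈ V := fun y => by
    obtain ⟨V, hV, hy, -⟩ := exists_isAffineOpen_mem_and_subset (X := Y) (x := y) (U := ⊤) trivial
    exact ⟨V, hV, hy⟩
  choose V hV hyV using hU
  choose A' hA' ε hεf hεs hε using fun y =>
    Groth.Agent.Alter18360.exists_splitting ((s ≫ i).app (V y)).hom ((s ≫ i).finite_app _ (hV y))
  let v : ∀ y, Spec (CommRingCat.of (A' y)) ⟶ (V y : Scheme.{u}) := fun y =>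
    Spec.map (CommRingCat.ofHom (ε y)) ≫ (hV y).isoSpec.inv
  have hvf : ∀ y, IsFinite (v y) := fun y => by
    haveI : IsFinite (Spec.map (CommRingCat.ofHom (ε y))) := (IsFinite.SpecMap_iff _).2 (hεf y)
    infer_instance
  have hvs : ∀ y, Surjective (v y) := fun y => by
    haveI : Surjective (Spec.map (CommRingCat.ofHom (ε y))) := ⟨hεs y⟩
    infer_instance
  choose Z π j hπs hπf hj using fun y =>
    haveI := hvf y
    haveI := hvs y
    Groth.Agent.Wt.ExtendFinite.exists_extension (V y) (hV y).isCompact (v y)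
  obtain ⟨t, ht⟩ := isCompact_univ.elim_finite_subcover (fun y : Y => (V y : Set Y))
    (fun y => (V y).2) fun y _ => Set.mem_iUnion.mpr ⟨y, hyV y⟩
  obtain ⟨Y', g, hgf, hgs, hfac⟩ := Groth.Agent.Alter18360.exists_common Z π hπf hπs t
  refine ⟨Y', g, hgf, hgs, fun G ι _ _ hG => ?_⟩
  let q₀ : G ⟶ F := ι ≫ pullback.fst i g
  let q : G ⟶ Y := q₀ ≫ i
  haveI : IsFinite (pullback.fst i g) := MorphismProperty.pullback_fst _ _ hgf
  haveI : IsFinite q := inferInstance
  haveI : IrreducibleSpace G := by
    obtain ⟨η, hη⟩ := QuasiSober.sober hG.1 ι.isClosedEmbedding.isClosed_range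
    obtain ⟨z, hz⟩ := hη.mem
    rw [irreducibleSpace_def, Set.top_eq_univ, show (Set.univ : Set G) = closure {z} from
      (Set.eq_univ_of_forall fun y => (ι.isEmbedding.isInducing.specializes_iff.mp
        (hz.symm ▸ hη.specializes ⟨y, rfl⟩)).mem_closure).symm]
    exact isIrreducible_singleton.closure
  haveI : IsIntegral G := isIntegral_of_irreducibleSpace_of_isReduced G
  -- a closed integral subscheme of the fibre product surjecting to `G`
  let P := pullback (s ≫ i) q
  haveI : Surjective s := ‹_›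
  obtain ⟨f', hf'⟩ := s.surjective (q₀ (genericPoint G))
  obtain ⟨z, -, hz⟩ := Scheme.Pullback.exists_preimage_pullback (f := s ≫ i) (g := q) f' (genericPoint G)
    (by simp only [q, Scheme.Hom.comp_apply, hf'])
  let C : TopologicalSpace.Closeds P := ⟨closure {z}, isClosed_closure⟩
  let Zs := (Scheme.IdealSheafData.vanishingIdeal C).subscheme
  let c : Zs ⟶ P := (Scheme.IdealSheafData.vanishingIdeal C).subschemeι
  have hc : Set.range c = closure {z} := Groth.Agent.RedSub.range_vanishingIdeal_subschemeι C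
  haveI : AlgebraicGeometry.IsReduced Zs := Groth.Agent.RedSub.isReduced_vanishingIdeal C
  obtain ⟨z', hz'⟩ : z ∈ Set.range c := hc ▸ subset_closure rfl
  haveI : IrreducibleSpace Zs := by
    rw [irreducibleSpace_def, Set.top_eq_univ, show (Set.univ : Set Zs) = closure {z'} from
      (Set.eq_univ_of_forall fun y => (c.isEmbedding.isInducing.specializes_iff.mp
        (hz'.symm ▸ specializes_iff_mem_closure.mpr (hc.le ⟨y, rfl⟩))).mem_closure).symm]
    exact isIrreducible_singleton.closure
  haveI : IsIntegral Zs := isIntegral_of_irreducibleSpace_of_isReduced Zs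
  let σ : Zs ⟶ G := c ≫ pullback.snd (s ≫ i) q
  let w : Zs ⟶ F' := c ≫ pullback.fst (s ≫ i) q
  have hw : w ≫ s ≫ i = σ ≫ q := by simp only [w, σ, Category.assoc, pullback.condition]
  haveI : IsFinite σ := inferInstance
  haveI : Surjective σ := ⟨fun x => by
    refine Set.mem_range.1 (Specializes.mem_closed (genericPoint_specializes x)
      σ.isClosedMap.isClosed_range ⟨z', ?_⟩)
    simp only [σ, Scheme.Hom.comp_apply, hz', hz]⟩
  haveI : IsClosedImmersion (pullback.lift w σ hw) := by
    rw [show pullback.lift w σ hw = c from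
      pullback.hom_ext (pullback.lift_fst _ _ _) (pullback.lift_snd _ _ _)]
    infer_instance
  have hloc : ∀ y ∈ t, IsIso (σ ∣_ (q ⁻¹ᵁ V y)) := fun y hy => by
    obtain ⟨h, hh⟩ := hfac y hy
    have hU : IsAffineOpen (q ⁻¹ᵁ V y) := (hV y).preimage q
    let b : Spec Γ(G, q ⁻¹ᵁ V y) ⟶ (V y : Scheme.{u}) := Spec.map (q.app (V y)) ≫ (hV y).isoSpec.inv
    have hb : (hU.fromSpec ≫ ι ≫ pullback.snd i g ≫ h) ≫ π y = b ≫ (V y).ι := by
      simp only [b, Category.assoc, (hV y).isoSpec_inv_ι, hh]
      rw [Scheme.Hom.app_eq_appLE, (hV y).SpecMap_appLE_fromSpec q hU]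
      congr 1
      simp only [q, q₀, Category.assoc, pullback.condition]
    have ha := (hj y).lift_snd (hU.fromSpec ≫ ι ≫ pullback.snd i g ≫ h) b hb
    refine Groth.Agent.Alter18360.isIso_morphismRestrict (s ≫ i) q σ w hw (hV y)
      (CommRingCat.ofHom (ε y)) (hε y) ((hj y).lift _ b hb) ?_
    rwa [← Category.assoc, cancel_mono] at ha
  haveI : IsIso σ := by
    refine (IsZariskiLocalAtTarget.iff_of_iSup_eq_top (P := MorphismProperty.isomorphisms Scheme.{u})
      (fun y : t => q ⁻¹ᵁ V y.1) ?_).2 fun y => hloc y.1 y.2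
    refine top_le_iff.mp fun x _ => ?_
    obtain ⟨y, hy, hxy⟩ := Set.mem_iUnion₂.mp (ht (Set.mem_univ (q x)))
    exact TopologicalSpace.Opens.mem_iSup.2 ⟨⟨y, hy⟩, hxy⟩
  refine ⟨inv σ ≫ w, ?_⟩
  rw [Category.assoc, IsIso.inv_comp_eq, ← cancel_mono i]
  simpa only [Category.assoc, q, q₀] using hw

end Groth.Agent.S18360
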