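import Groth.Statements.S18361
import Groth.Agent.EtConsAb.SubFLC
import Groth.Agent.EtConsAb.ProperDescent
import Groth.Agent.GenFinite.Basic
import Groth.Agent.EtaleStrat.Main

set_option autoImplicit false
universe u v
open CategoryTheory CategoryTheory.Limits AlgebraicGeometry
open EtPBC

namespace Groth.Agent.S18361

open Groth.Agent Groth.Agent.EtConsAb Topology

theorem exists_closed_point_fibre {Q Z : Scheme.{u}} [IsNoetherian Q] (f : Q ⟶ Z) [Surjective f] (η : Z) :
    ∃ z : Q, f z = η ∧ ∀ r : Q, f r = η → z ⤳ r → r = z := by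
  haveI : CompactSpace ↥(f ⁻¹' {η}) :=
    isCompact_iff_compactSpace.1 (TopologicalSpace.NoetherianSpace.isCompact _)
  obtain ⟨z₀, hz₀⟩ := f.surjective η
  obtain ⟨z, -, hz⟩ := (isClosed_univ (X := ↥(f ⁻¹' {η}))).exists_closed_singleton
    ⟨⟨z₀, hz₀⟩, trivial⟩
  refine ⟨z.1, z.2, fun r hr hzr => ?_⟩
  have h : z ⤳ ⟨r, hr⟩ := (subtype_specializes_iff _ _).2 hzr
  exact congrArg Subtype.val (Set.mem_singleton_iff.1 (h.mem_closed hz rfl))

/-- A stratum through a point on which a whole family becomes finite locally constant. -/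
theorem exists_stratum {X' X : Scheme.{u}}
    [IsNoetherian X] [IsNoetherian X'] (q : X' ⟶ X) [Surjective q] [LocallyOfFiniteType q]
    {ι : Type v} (F : ι → EtCoh.Ab X) {n : ℕ} (T : Fin n → Scheme.{u}) (g : ∀ i, T i ⟶ X')
    [∀ i, IsImmersion (g i)]
    (hcov : (⋃ i, Set.range (g i).base) = Set.univ)
    (hF : ∀ k i, EtCoh.IsFiniteLocallyConstant ((EtCoh.pull (g i)).obj ((EtCoh.pull q).obj (F k))))
    (x : X) : ∃ (S : Scheme.{u}) (a : S ⟶ X), IsImmersion a ∧ x ∈ Set.range a ∧
      ∀ k, EtCoh.IsFiniteLocallyConstant ((EtCoh.pull a).obj (F k)) := by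
  obtain ⟨Z, c, hc, _, hx⟩ := exists_irreducible_subscheme x
  haveI : IsLocallyNoetherian Z := LocallyOfFiniteType.isLocallyNoetherian c
  haveI : CompactSpace ↥Z := c.isClosedEmbedding.compactSpace
  haveI : IsNoetherian Z := { toCompactSpace := inferInstance }
  haveI : IsLocallyNoetherian (pullback q c) := LocallyOfFiniteType.isLocallyNoetherian (pullback.fst q c)
  haveI : CompactSpace ↥(pullback q c) := (pullback.fst q c).isClosedEmbedding.compactSpace
  haveI : IsNoetherian (pullback q c) := { toCompactSpace := inferInstance }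
  haveI : Surjective (pullback.snd q c) := inferInstance
  obtain ⟨z, hz, hzclosed⟩ := exists_closed_point_fibre (pullback.snd q c) (genericPoint ↥Z)
  obtain ⟨R, d, hd, _, hdz⟩ := exists_irreducible_subscheme z
  obtain ⟨i, hi⟩ := Set.mem_iUnion.1 (hcov.ge (Set.mem_univ ((d ≫ pullback.fst q c) (genericPoint ↥R))))
  have hlc : IsLocallyClosed ((d ≫ pullback.fst q c) ⁻¹' Set.range (g i)) :=
    (g i).isLocallyClosed_range.preimage (d ≫ pullback.fst q c).continuous
  obtain ⟨W₀, C₀, hW₀, hC₀, heq⟩ := hlc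
  have hgen : genericPoint ↥R ∈ W₀ ∩ C₀ := heq.le hi
  have hC : C₀ = Set.univ := Set.univ_subset_iff.1
    ((genericPoint_spec ↥R).def.ge.trans (closure_minimal (Set.singleton_subset_iff.2 hgen.2) hC₀))
  obtain ⟨O, hO, hgO, hOW⟩ := exists_isAffineOpen_mem_and_subset (U := ⟨W₀, hW₀⟩)
    (show genericPoint ↥R ∈ (⟨W₀, hW₀⟩ : R.Opens) from hgen.1)
  haveI : IsAffine (O : Scheme.{u}) := hO
  let f : (O : Scheme.{u}) ⟶ Z := O.ι ≫ d ≫ pullback.snd q c
  let h : (O : Scheme.{u}) ⟶ X' := O.ι ≫ d ≫ pullback.fst q c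
  have hfh : h ≫ q = f ≫ c := by simp [f, h, pullback.condition]
  haveI : LocallyOfFiniteType f := inferInstance
  haveI : QuasiCompact f := inferInstance
  have hfib : f ⁻¹' {genericPoint ↥Z} ⊆ {⟨genericPoint ↥R, hgO⟩} := fun o ho => by
    have h1 : z ⤳ d (O.ι o) := hdz ▸ (genericPoint_specializes _).map d.continuous
    have h2 := hzclosed (d (O.ι o)) ho h1
    exact Subtype.ext (d.isClosedEmbedding.injective (h2.trans hdz.symm))
  have hη : closure {genericPoint ↥Z} ∈ irreducibleComponents ↥Z := by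
    rw [irreducibleComponents_eq_singleton, Set.mem_singleton_iff]
    exact genericPoint_spec ↥Z
  haveI : IsAffine ((⊤ : (O : Scheme.{u}).Opens) : Scheme.{u}) := isAffineOpen_top _
  haveI : ((⊤ : (O : Scheme.{u}).Opens) : Scheme.{u}).IsSeparated := ⟨inferInstance⟩
  obtain ⟨V, -, hηV, hfin⟩ := GenFinite.exists_affine_isFinite f hη
    ((Set.finite_singleton _).subset hfib) ⊤ inferInstance (Set.subset_univ _)
  haveI := hfin
  haveI : Surjective (f ∣_ V) := ⟨fun v => by
    have hcl : IsClosed (Set.range (f ∣_ V)) := (f ∣_ V).isClosedMap.isClosed_range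
    have hfo : f ⟨genericPoint ↥R, hgO⟩ = genericPoint ↥Z := (congrArg _ hdz).trans hz
    have hη' : (⟨genericPoint ↥Z, hηV⟩ : (V : Scheme.{u})) ∈ Set.range (f ∣_ V) :=
      ⟨⟨⟨genericPoint ↥R, hgO⟩, show f _ ∈ V from hfo ▸ hηV⟩, Subtype.ext ((morphismRestrict_base_coe f V _).trans hfo)⟩
    exact hcl.closure_subset_iff.2 (Set.singleton_subset_iff.2 hη')
      (specializes_iff_mem_closure.1 ((subtype_specializes_iff _ _).2 (genericPoint_specializes v.1)))⟩
  refine ⟨V, V.ι ≫ c, inferInstance, ⟨⟨_, hηV⟩, (Scheme.Hom.comp_apply _ _ _).trans hx⟩, fun k => ?_⟩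
  refine isFLC_of_pull_surjective_closed (f ∣_ V) _ ?_
  let h' : ((f ⁻¹ᵁ V : (O : Scheme.{u}).Opens) : Scheme.{u}) ⟶ X' := (f ⁻¹ᵁ V).ι ≫ h
  have e1 : (f ∣_ V) ≫ V.ι ≫ c = h' ≫ q := by
    simp only [h', h, ← Category.assoc, morphismRestrict_ι]
    simp only [Category.assoc, ← hfh, h]
  have key : EtCoh.IsFiniteLocallyConstant ((EtCoh.pull h').obj ((EtCoh.pull q).obj (F k))) := by
    haveI : Surjective (pullback.fst h' (g i)) := ⟨fun o => by
      obtain ⟨t, ht⟩ : h' o ∈ Set.range (g i) :=
        heq.ge (Set.mem_inter (hOW ((f ⁻¹ᵁ V).ι o).2) (hC ▸ Set.mem_univ _))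
      obtain ⟨w, hw, -⟩ := Scheme.Pullback.exists_preimage_pullback o t ht.symm
      exact ⟨w, hw⟩⟩
    haveI : IsClosedImmersion (pullback.fst h' (g i)) :=
      IsClosedImmersion.of_isPreimmersion _ (by rw [(pullback.fst h' (g i)).surjective.range_eq]; exact isClosed_univ)
    refine isFLC_of_pull_surjective_closed (pullback.fst h' (g i)) _ ?_
    refine isFLC_of_iso ((pullComp (g i) (pullback.snd h' (g i))).app _ ≪≫
      (pullCongr pullback.condition.symm).app _ ≪≫ ((pullComp h' (pullback.fst h' (g i))).app _).symm)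
      (isFLC_pull _ (hF k i))
  exact isFLC_of_iso ((pullComp q h').app (F k) ≪≫ (pullCongr e1.symm).app _ ≪≫
    ((pullComp (V.ι ≫ c) (f ∣_ V)).app (F k)).symm) key

/-- Let q : X' ⟶ X be a surjective morphism locally of finite type between Noetherian schemes (hence of
finite type) and let (F k) be any family of abelian sheaves on the small étale site of X. Suppose X'
carries one finite stratification adapted to the whole pulled-back family: finitely many immersions
g i : T i ⟶ X' with pairwise disjoint images covering X', such that each q⁻¹(F k) pulled back along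
each g i is finite locally constant. Then X carries a finite stratification by immersions with
pairwise disjoint images covering X along each of which every F k becomes finite locally constant.
The published statement is an equivalence; this row states only the implication from X' to X. -/
theorem result {X' X : Scheme.{u}}
    [IsNoetherian X] [IsNoetherian X'] (q : X' ⟶ X) [Surjective q] [LocallyOfFiniteType q]
    {ι : Type v} (F : ι → EtCoh.Ab X) {n : ℕ} (T : Fin n → Scheme.{u}) (g : ∀ i, T i ⟶ X')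
    [∀ i, IsImmersion (g i)]
    (hdisj : Pairwise fun i j => Disjoint (Set.range (g i).base) (Set.range (g j).base))
    (hcov : (⋃ i, Set.range (g i).base) = Set.univ)
    (hF : ∀ k i, EtCoh.IsFiniteLocallyConstant ((EtCoh.pull (g i)).obj ((EtCoh.pull q).obj (F k)))) :
    ∃ (m : ℕ) (T₀ : Fin m → Scheme.{u}) (g₀ : ∀ j, T₀ j ⟶ X),
      (∀ j, IsImmersion (g₀ j)) ∧
      Pairwise (fun j j' => Disjoint (Set.range (g₀ j).base) (Set.range (g₀ j').base)) ∧
      (⋃ j, Set.range (g₀ j).base) = Set.univ ∧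
      ∀ k j, EtCoh.IsFiniteLocallyConstant ((EtCoh.pull (g₀ j)).obj (F k)) := by
  classical
  choose S a ha hx hS using exists_stratum q F T g hcov hF
  have hcons : ∀ x, IsConstructible (Set.range (a x)) := fun x =>
    haveI := ha x
    ConstrLib.isConstructible_of_isLocallyClosed (a x).isLocallyClosed_range
  obtain ⟨t, ht⟩ := exists_finite_subcover_of_isConstructible _ hcons
    (Set.eq_univ_of_forall fun x => Set.mem_iUnion.2 ⟨x, hx x⟩)
  let e := t.equivFin
  obtain ⟨m, T₀, g₀, hg₀, -, hd₀, hu₀, hfac⟩ := EtaleStrat.exists_partition (ι := Fin t.card)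
    (fun k => S (e.symm k).1) (fun k => a (e.symm k).1) (fun k => ha _) (fun k => hcons _)
    (Set.eq_univ_of_forall fun x => by
      obtain ⟨i, hi, hxi⟩ := Set.mem_iUnion₂.1 (ht.ge (Set.mem_univ x))
      exact Set.mem_iUnion.2 ⟨e ⟨i, hi⟩, by rw [Equiv.symm_apply_apply]; exact hxi⟩)
  refine ⟨m, T₀, g₀, hg₀, hd₀, hu₀, fun k j => ?_⟩
  obtain ⟨i, s, hs⟩ := hfac j
  exact hs ▸ isFLC_pull_comp _ s (hS _ k)

end Groth.Agent.S18361
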