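import Groth.Statements.S18362
import Groth.Agent.EtRamLib.Kummer.StrictSplit
import Groth.Agent.RegLoc.Basic
import Groth.Agent.EtaleSite.SplitAlg
import Mathlib.RingTheory.Kaehler.Basic
import Mathlib.RingTheory.Filtration

set_option autoImplicit false
universe u
open SGA1t

namespace Groth.Agent.S18362

open Polynomial Groth.Agent.EtRamLib.Kummer
open scoped TensorProduct

section

variable {R : Type u} [CommRing R] [IsDomain R] [IsNoetherianRing R] {p : ℕ} [hp : Fact p.Prime] (g : R)
  {B : Type u} [CommRing B] [Algebra R B] [Algebra.FormallyUnramified R B]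

theorem derivation_eq_zero {M : Type u} [AddCommGroup M] [Module R M] [Module B M] [IsScalarTower R B M]
    (δ : Derivation R B M) (b : B) : δ b = 0 := by
  rw [← δ.liftKaehlerDifferential_comp_D b, Subsingleton.elim (KaehlerDifferential.D R B b) 0, map_zero]

/-- the coefficient of `root ^ i` -/
noncomputable def cf (i : ℕ) : AdjoinRoot (X ^ p - C g) →ₗ[R] R :=
  (lcoeff R i).comp (AdjoinRoot.modByMonicHom (monic_X_pow_sub_C g hp.out.ne_zero))

lemma mk_modBy (x : AdjoinRoot (X ^ p - C g)) :
    AdjoinRoot.mk _ (AdjoinRoot.modByMonicHom (monic_X_pow_sub_C g hp.out.ne_zero) x) = x :=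
  AdjoinRoot.mk_leftInverse _ x

lemma natDegree_lt (x : AdjoinRoot (X ^ p - C g)) :
    (AdjoinRoot.modByMonicHom (monic_X_pow_sub_C g hp.out.ne_zero) x).natDegree < p := by
  obtain ⟨q, rfl⟩ := AdjoinRoot.mk_surjective x
  rw [AdjoinRoot.modByMonicHom_mk]
  refine lt_of_lt_of_eq (natDegree_modByMonic_lt q (monic_X_pow_sub_C g hp.out.ne_zero) ?_) (natDegree_X_pow_sub_C)
  intro h
  have := congrArg natDegree h
  rw [natDegree_X_pow_sub_C, natDegree_one] at this
  exact hp.out.ne_zero this

lemma cf_eq_zero_of_le {i : ℕ} (hi : p ≤ i) (x : AdjoinRoot (X ^ p - C g)) : cf g i x = 0 :=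
  coeff_eq_zero_of_natDegree_lt ((natDegree_lt g x).trans_le hi)

lemma cf_of (r : R) (i : ℕ) : cf g i (AdjoinRoot.of (X ^ p - C g) r) = if i = 0 then r else 0 := by
  have h : (X ^ p - C g).degree = (p : WithBot ℕ) := degree_X_pow_sub_C hp.out.pos g
  rw [cf, LinearMap.comp_apply, ← AdjoinRoot.mk_C, AdjoinRoot.modByMonicHom_mk,
    (modByMonic_eq_self_iff (monic_X_pow_sub_C g hp.out.ne_zero)).mpr (by
      rw [h]; exact lt_of_le_of_lt degree_C_le (by exact_mod_cast hp.out.pos))]
  exact coeff_C

variable {g} (ψ : B →ₐ[R] AdjoinRoot (X ^ p - C g))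

/-- Modulo `p` the image of an unramified algebra has no higher coefficients. -/
theorem dvd_cf_one (b : B) (i : ℕ) (hi : i ≠ 0) : (p : R) ∣ cf g i (ψ b) := by
  rcases le_or_gt p i with h | h
  · rw [cf_eq_zero_of_le g h]; exact dvd_zero _
  letI : Algebra B (AdjoinRoot (X ^ p - C g)) := ψ.toRingHom.toAlgebra
  haveI : IsScalarTower R B (AdjoinRoot (X ^ p - C g)) := IsScalarTower.of_algebraMap_eq fun r => (ψ.commutes r).symm
  let I : Ideal (AdjoinRoot (X ^ p - C g)) := Ideal.span {(p : AdjoinRoot (X ^ p - C g))}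
  have hg := monic_X_pow_sub_C g hp.out.ne_zero
  let L : AdjoinRoot (X ^ p - C g) →ₗ[R] (AdjoinRoot (X ^ p - C g) ⧸ I) :=
    (Ideal.Quotient.mkₐ R I).toLinearMap.comp ((AdjoinRoot.mkₐ (X ^ p - C g)).toLinearMap.comp
      (derivative.comp (AdjoinRoot.modByMonicHom hg)))
  have hL : ∀ q : R[X], L (AdjoinRoot.mk _ q) = Ideal.Quotient.mk I (AdjoinRoot.mk _ (derivative q)) := by
    intro q
    show Ideal.Quotient.mk I (AdjoinRoot.mk _ (derivative (AdjoinRoot.modByMonicHom hg (AdjoinRoot.mk _ q)))) = _
    rw [AdjoinRoot.modByMonicHom_mk]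
    conv_rhs => rw [← modByMonic_add_div q (X ^ p - C g)]
    have hzero : Ideal.Quotient.mk I (p : AdjoinRoot (X ^ p - C g)) = 0 :=
      Ideal.Quotient.eq_zero_iff_mem.mpr (Ideal.mem_span_singleton_self _)
    have hzero' : (p : AdjoinRoot (X ^ p - C g) ⧸ I) = 0 := by rw [← map_natCast (Ideal.Quotient.mk I), hzero]
    rw [derivative_add, derivative_mul, derivative_sub, derivative_C, derivative_X_pow, sub_zero]
    simp only [map_add, map_mul, map_natCast, AdjoinRoot.mk_self, zero_mul, hzero', add_zero, map_zero]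
  let δ : Derivation R B (AdjoinRoot (X ^ p - C g) ⧸ I) := Derivation.mk' (L.comp ψ.toLinearMap) fun a b => by
    obtain ⟨qa, hqa⟩ := AdjoinRoot.mk_surjective (ψ a)
    obtain ⟨qb, hqb⟩ := AdjoinRoot.mk_surjective (ψ b)
    simp only [LinearMap.comp_apply, AlgHom.toLinearMap_apply, map_mul]
    rw [← hqa, ← hqb, ← map_mul, hL, hL, hL, derivative_mul, Algebra.smul_def, Algebra.smul_def]
    simp only [map_add, map_mul]
    show _ = Ideal.Quotient.mk I (ψ a) * _ + Ideal.Quotient.mk I (ψ b) * _
    rw [← hqa, ← hqb]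
    ring
  have h0 : L (ψ b) = 0 := derivation_eq_zero δ b
  obtain ⟨z, hz⟩ := Ideal.mem_span_singleton.mp (Ideal.Quotient.eq_zero_iff_mem.mp h0)
  have h1 : cf g (i - 1) (AdjoinRoot.mk (X ^ p - C g) (derivative (AdjoinRoot.modByMonicHom hg (ψ b)))) =
      (i : R) * cf g i (ψ b) := by
    rw [cf, LinearMap.comp_apply, AdjoinRoot.modByMonicHom_mk,
      (modByMonic_eq_self_iff hg).mpr ?_]
    · show coeff (derivative (AdjoinRoot.modByMonicHom hg (ψ b))) (i - 1) = (i : R) * coeff (AdjoinRoot.modByMonicHom hg (ψ b)) i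
      rw [coeff_derivative, Nat.sub_add_cancel (Nat.one_le_iff_ne_zero.mpr hi)]
      have : ((i - 1 : ℕ) : R) + 1 = (i : R) := by
        rw [← Nat.cast_add_one, Nat.sub_add_cancel (Nat.one_le_iff_ne_zero.mpr hi)]
      rw [this, mul_comm]
    · rw [degree_X_pow_sub_C hp.out.pos g]
      refine lt_of_le_of_lt degree_le_natDegree ?_
      exact_mod_cast lt_of_le_of_lt (natDegree_derivative_le _)
        (lt_of_le_of_lt (Nat.sub_le _ 1) (natDegree_lt g (ψ b)))
  have h2 : (p : R) ∣ (i : R) * cf g i (ψ b) := by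
    refine ⟨cf g (i - 1) z, ?_⟩
    rw [← h1]
    refine (congrArg (cf g (i - 1)) hz).trans ?_
    rw [← map_natCast (algebraMap R (AdjoinRoot (X ^ p - C g))), ← Algebra.smul_def, map_smul, smul_eq_mul]
  have hcop : IsCoprime (p : ℤ) (i : ℤ) := Int.isCoprime_iff_gcd_eq_one.mpr (by
    exact_mod_cast (hp.out.coprime_iff_not_dvd.mpr fun hd => hi (Nat.eq_zero_of_dvd_of_lt hd h)))
  have hcop' : IsCoprime (p : R) (i : R) := by simpa using hcop.map (Int.castRingHom R)
  exact hcop'.dvd_of_dvd_mul_left h2

/-- The image has no higher coefficients at all. -/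
theorem dvd_cf_pow (hp0 : (p : R) ≠ 0) (k : ℕ) :
    ∀ (b : B) (i : ℕ), i ≠ 0 → (p : R) ^ k ∣ cf g i (ψ b) := by
  induction k with
  | zero => intro b i _; rw [pow_zero]; exact one_dvd _
  | succ k ih =>
    rcases Nat.eq_zero_or_pos k with rfl | hk
    · intro b i hi; rw [zero_add, pow_one]; exact dvd_cf_one ψ b i hi
    have hdec : ∀ b, ∃ G : AdjoinRoot (X ^ p - C g),
        ψ b = AdjoinRoot.of _ (cf g 0 (ψ b)) + (p : R) ^ k • G := by
      intro b
      choose q hq using fun i => if hi : i = 0 then (⟨0, fun h => absurd hi h⟩ :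
        ∃ q, i ≠ 0 → cf g i (ψ b) = (p : R) ^ k * q) else ⟨_, fun _ => (ih b i hi).choose_spec⟩
      refine ⟨AdjoinRoot.mk _ (∑ i ∈ Finset.range p, if i = 0 then 0 else C (q i) * X ^ i), ?_⟩
      conv_lhs => rw [← mk_modBy g (ψ b), as_sum_range' _ p (natDegree_lt g (ψ b))]
      rw [map_sum, map_sum, Finset.smul_sum]
      have hp' : 0 ∈ Finset.range p := Finset.mem_range.mpr hp.out.pos
      rw [← Finset.add_sum_erase _ _ hp', ← Finset.add_sum_erase _ _ hp', if_pos rfl, map_zero, smul_zero, zero_add]
      congr 1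
      refine Finset.sum_congr rfl fun i hi => ?_
      rw [if_neg (Finset.ne_of_mem_erase hi), ← C_mul_X_pow_eq_monomial, Algebra.smul_def,
        AdjoinRoot.algebraMap_eq, ← AdjoinRoot.mk_C, ← map_mul, ← mul_assoc, ← C_mul,
        ← hq i (Finset.ne_of_mem_erase hi)]
      rfl
    choose G hG using hdec
    intro b i hi
    let J : Ideal R := Ideal.span {(p : R)}
    have hcfi : ∀ b, cf g i (ψ b) = (p : R) ^ k * cf g i (G b) := fun b => by
      conv_lhs => rw [hG b]
      rw [map_add, map_smul, cf_of, if_neg hi, zero_add, smul_eq_mul]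
    have hprod : ∀ a b (j : ℕ), cf g j (ψ (a * b)) = (if j = 0 then cf g 0 (ψ a) * cf g 0 (ψ b) else 0) +
        (p : R) ^ k * (cf g 0 (ψ a) * cf g j (G b) + cf g 0 (ψ b) * cf g j (G a) + (p : R) ^ k * cf g j (G a * G b)) := by
      intro a b j
      have e : ψ (a * b) = AdjoinRoot.of _ (cf g 0 (ψ a) * cf g 0 (ψ b)) + (p : R) ^ k • (cf g 0 (ψ a) • G b +
          cf g 0 (ψ b) • G a + (p : R) ^ k • (G a * G b)) := by
        rw [map_mul]
        conv_lhs => rw [hG a, hG b]
        simp only [Algebra.smul_def, AdjoinRoot.algebraMap_eq, map_mul]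
        ring
      rw [e, map_add, map_smul, cf_of, map_add, map_add, map_smul, map_smul, map_smul]
      simp only [smul_eq_mul]
    have hpk : ∀ x : R, Ideal.Quotient.mk J ((p : R) ^ k * x) = 0 := fun x =>
      Ideal.Quotient.eq_zero_iff_mem.mpr (Ideal.mem_span_singleton.mpr ((dvd_pow_self _ hk.ne').mul_right x))
    let φ : B →+* R ⧸ J :=
      { toFun := fun b => Ideal.Quotient.mk J (cf g 0 (ψ b))
        map_one' := by rw [map_one, ← map_one (AdjoinRoot.of (X ^ p - C g)), cf_of, if_pos rfl, map_one]
        map_mul' := fun a b => by rw [hprod, if_pos rfl, map_add, hpk, add_zero, map_mul]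
        map_zero' := by simp
        map_add' := fun a b => by simp }
    letI : Algebra B (R ⧸ J) := φ.toAlgebra
    haveI : IsScalarTower R B (R ⧸ J) := IsScalarTower.of_algebraMap_eq fun r => by
      show _ = Ideal.Quotient.mk J (cf g 0 (ψ (algebraMap R B r)))
      rw [AlgHom.commutes, AdjoinRoot.algebraMap_eq, cf_of, if_pos rfl]
      rfl
    have hne : (p : R) ^ k ≠ 0 := pow_ne_zero _ hp0
    have hG_add : ∀ a b, cf g i (G (a + b)) = cf g i (G a) + cf g i (G b) := fun a b => by
      apply mul_left_cancel₀ hne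
      rw [mul_add, ← hcfi, ← hcfi, ← hcfi, map_add, map_add]
    have hG_smul : ∀ (r : R) (b : B), cf g i (G (r • b)) = r * cf g i (G b) := fun r b => by
      apply mul_left_cancel₀ hne
      rw [← hcfi, map_smul, map_smul, smul_eq_mul, hcfi]
      ring
    let l : B →ₗ[R] R ⧸ J :=
      { toFun := fun b => Ideal.Quotient.mk J (cf g i (G b))
        map_add' := fun a b => by rw [hG_add, map_add]
        map_smul' := fun r b => by rw [hG_smul, map_mul, RingHom.id_apply, Algebra.smul_def]; rfl }
    let δ : Derivation R B (R ⧸ J) := Derivation.mk' l fun a b => by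
      have h1 : cf g i (G (a * b)) = cf g 0 (ψ a) * cf g i (G b) + cf g 0 (ψ b) * cf g i (G a) +
          (p : R) ^ k * cf g i (G a * G b) := by
        apply mul_left_cancel₀ hne
        rw [← hcfi, hprod, if_neg hi, zero_add]
      show Ideal.Quotient.mk J _ = φ a * Ideal.Quotient.mk J _ + φ b * Ideal.Quotient.mk J _
      rw [h1, map_add, map_add, hpk, add_zero, map_mul, map_mul]
      rfl
    have h0 : Ideal.Quotient.mk J (cf g i (G b)) = 0 := derivation_eq_zero δ b
    rw [pow_succ, hcfi]
    exact mul_dvd_mul_left _ (Ideal.mem_span_singleton.mp (Ideal.Quotient.eq_zero_iff_mem.mp h0))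

/-- An unramified algebra maps into the base. -/
theorem image_in_base (hp0 : (p : R) ≠ 0) (hpu : ¬ IsUnit (p : R)) (b : B) :
    ψ b = AdjoinRoot.of _ (cf g 0 (ψ b)) := by
  have hz : ∀ i, i ≠ 0 → cf g i (ψ b) = 0 := by
    intro i hi
    have h1 : cf g i (ψ b) ∈ ⨅ k : ℕ, Ideal.span {(p : R)} ^ k := by
      rw [Ideal.mem_iInf]
      intro k
      rw [Ideal.span_singleton_pow, Ideal.mem_span_singleton]
      exact dvd_cf_pow ψ hp0 k b i hi
    rwa [Ideal.iInf_pow_eq_bot_of_isDomain _ (by rwa [Ne, Ideal.span_singleton_eq_top]), Ideal.mem_bot] at h1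
  conv_lhs => rw [← mk_modBy g (ψ b)]
  rw [← AdjoinRoot.mk_C]
  congr 1
  ext i
  rw [coeff_C]
  split_ifs with h
  · subst h; rfl
  · exact hz i h

end

/-- Let A be a regular local ring which is henselian with separably closed residue field of
characteristic p > 0, and let f be an element of A such that A/(f) is a regular local ring in which
p is nonzero. Write A₁ = A[t]/(t^p - f) and let B be a finite étale algebra over A[1/f]. If there is
a finite étale A₁-algebra C₁ with C₁[1/f] isomorphic to A₁ ⊗_A B as A₁-algebras, then there is a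
finite étale A-algebra C with C[1/f] isomorphic to B as A-algebras. The published statement also
assumes the cover connected and tamely ramified along f = 0; this row assumes neither, tameness
being automatic here because the generic point of the divisor f = 0 has residue characteristic zero. -/
theorem result {A : Type u} [CommRing A]
    [IsRegularLocalRing A] [HenselianLocalRing A] [IsSepClosed (IsLocalRing.ResidueField A)]
    (p : ℕ) [Fact p.Prime] [CharP (IsLocalRing.ResidueField A) p] (f : A)
    (hreg : IsRegularLocalRing (A ⧸ Ideal.span {f})) (hp : (p : A) ∉ Ideal.span {f})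
    (B : Type u) [CommRing B] [Algebra A B] [Algebra (Localization.Away f) B]
    [IsScalarTower A (Localization.Away f) B] [Module.Finite (Localization.Away f) B]
    [Algebra.Etale (Localization.Away f) B]
    (h : ∃ (C₁ : Type u) (_ : CommRing C₁) (_ : Algebra (AdjoinRoot (Polynomial.X ^ p - Polynomial.C f)) C₁),
      Module.Finite (AdjoinRoot (Polynomial.X ^ p - Polynomial.C f)) C₁ ∧
      Algebra.Etale (AdjoinRoot (Polynomial.X ^ p - Polynomial.C f)) C₁ ∧
      Nonempty (Localization.Away (algebraMap (AdjoinRoot (Polynomial.X ^ p - Polynomial.C f)) C₁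
          (AdjoinRoot.of (Polynomial.X ^ p - Polynomial.C f) f))
        ≃ₐ[AdjoinRoot (Polynomial.X ^ p - Polynomial.C f)]
          TensorProduct A (AdjoinRoot (Polynomial.X ^ p - Polynomial.C f)) B)) :
    ∃ (C : Type u) (_ : CommRing C) (_ : Algebra A C), Module.Finite A C ∧ Algebra.Etale A C ∧
      Nonempty (Localization.Away (algebraMap A C f) ≃ₐ[A] B) := by
  classical
  haveI : IsDomain A := RegLoc.isDomain A
  have hfm : f ∈ IsLocalRing.maximalIdeal A := by
    by_contra hfu
    have hu : IsUnit f := by by_contra hh; exact hfu hh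
    exact hp (by rw [Ideal.span_singleton_eq_top.mpr hu]; exact Submodule.mem_top)
  rcases eq_or_ne f 0 with hf0 | hf0
  · haveI : Subsingleton (Localization.Away f) :=
      IsLocalization.subsingleton (M := Submonoid.powers f) (S := Localization.Away f) (by subst hf0; exact Submonoid.mem_powers _)
    haveI : Subsingleton B := (Module.subsingleton (Localization.Away f) B)
    haveI : Subsingleton (Localization.Away (algebraMap A (Fin 0 → A) f)) :=
      (IsLocalization.subsingleton (M := Submonoid.powers (algebraMap A (Fin 0 → A) f))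
        (by rw [hf0, map_zero]; exact Submonoid.mem_powers _))
    exact ⟨Fin 0 → A, inferInstance, inferInstance, inferInstance, inferInstance,
      ⟨{ toFun := fun _ => 0
         invFun := fun _ => 0
         left_inv := fun _ => Subsingleton.elim _ _
         right_inv := fun _ => Subsingleton.elim _ _
         map_mul' := fun _ _ => Subsingleton.elim _ _
         map_add' := fun _ _ => Subsingleton.elim _ _
         commutes' := fun _ => Subsingleton.elim _ _ }⟩⟩
  haveI : IsDomain (A ⧸ Ideal.span {f}) := RegLoc.isDomain (A ⧸ Ideal.span {f})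
  have hfprime : Prime f := (Ideal.span_singleton_prime hf0).mp ((Ideal.Quotient.isDomain_iff_prime _).mp ‹_›)
  haveI : IsDomain (Localization.Away f) :=
    IsLocalization.isDomain_localization (powers_le_nonZeroDivisors_of_noZeroDivisors hf0)
  have hinjR : Function.Injective (algebraMap A (Localization.Away f)) :=
    IsLocalization.injective (Localization.Away f) (powers_le_nonZeroDivisors_of_noZeroDivisors hf0)
  have hp0A : (p : A) ≠ 0 := fun e => hp (by rw [e]; exact zero_mem _)
  have hp0 : (p : Localization.Away f) ≠ 0 := by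
    rw [← map_natCast (algebraMap A (Localization.Away f))]
    exact fun e => hp0A (hinjR (e.trans (map_zero _).symm))
  have hpm : (p : A) ∈ IsLocalRing.maximalIdeal A := by
    rw [← IsLocalRing.residue_eq_zero_iff, map_natCast, CharP.cast_eq_zero]
  have hpu : ¬ IsUnit (p : Localization.Away f) := by
    intro hu
    obtain ⟨v, hv⟩ := isUnit_iff_exists_inv.mp hu
    obtain ⟨⟨x, ⟨_, n, rfl⟩⟩, hx⟩ := IsLocalization.surj (Submonoid.powers f) v
    have e : (p : A) * x = f ^ n := hinjR (by rw [map_mul, map_natCast, ← hx, ← mul_assoc, hv, one_mul])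
    clear hx hv hu v
    induction n generalizing x with
    | zero => exact (IsLocalRing.notMem_maximalIdeal.mpr (IsUnit.of_mul_eq_one x (e.trans (pow_zero f)))) hpm
    | succ n ih =>
      rcases hfprime.dvd_or_dvd (⟨f ^ n, e.trans (pow_succ' f n)⟩ : f ∣ (p : A) * x) with h1 | h1
      · exact hp (Ideal.mem_span_singleton.mpr h1)
      · obtain ⟨y, rfl⟩ := h1
        exact ih y (mul_left_cancel₀ hf0 (by rw [← pow_succ' f n, ← e]; ring))
  let A₁ := AdjoinRoot (Polynomial.X ^ p - Polynomial.C f)
  have hmon : (Polynomial.X ^ p - Polynomial.C f).Monic := Polynomial.monic_X_pow_sub_C f (Fact.out : p.Prime).ne_zero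
  let π₀ : A₁ →+* IsLocalRing.ResidueField A := AdjoinRoot.lift (IsLocalRing.residue A) 0 (by
    simp [(IsLocalRing.residue_eq_zero_iff f).mpr hfm, (Fact.out : p.Prime).ne_zero])
  have hπ₀ : Function.Surjective π₀ := fun y => by
    obtain ⟨a, rfl⟩ := IsLocalRing.residue_surjective y
    exact ⟨AdjoinRoot.of _ a, AdjoinRoot.lift_of _⟩
  haveI : Module.Finite A A₁ := hmon.finite_adjoinRoot
  haveI : Module.Free A A₁ := hmon.free_adjoinRoot
  have huniq : ∀ M : Ideal A₁, M.IsMaximal → M = RingHom.ker π₀ := by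
    intro M hM
    refine ((RingHom.ker_isMaximal_of_surjective π₀ hπ₀).eq_of_le hM.ne_top ?_).symm
    have hcm : (M.comap (algebraMap A A₁)).IsMaximal := Ideal.isMaximal_comap_of_isIntegral_of_isMaximal M
    have hc := IsLocalRing.eq_maximalIdeal hcm
    have hr : AdjoinRoot.root _ ∈ M := by
      refine hM.isPrime.mem_of_pow_mem p ?_
      have h1 := AdjoinRoot.eval₂_root (Polynomial.X ^ p - Polynomial.C f)
      simp only [Polynomial.eval₂_sub, Polynomial.eval₂_pow, Polynomial.eval₂_X, Polynomial.eval₂_C, sub_eq_zero] at h1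
      rw [h1]
      exact (Ideal.mem_comap.mp (show f ∈ M.comap (algebraMap A A₁) by rw [hc]; exact hfm))
    intro x hx
    obtain ⟨q, rfl⟩ := AdjoinRoot.mk_surjective x
    rw [← Polynomial.X_mul_divX_add q, map_add, map_mul, AdjoinRoot.mk_X, AdjoinRoot.mk_C] at hx ⊢
    refine add_mem (M.mul_mem_right _ hr) ?_
    rw [RingHom.mem_ker, map_add, map_mul] at hx
    rw [show π₀ (AdjoinRoot.root _) = 0 from AdjoinRoot.lift_root _,
      show π₀ (AdjoinRoot.of _ (q.coeff 0)) = IsLocalRing.residue A (q.coeff 0) from AdjoinRoot.lift_of _, zero_mul, zero_add] at hx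
    exact Ideal.mem_comap.mp (show q.coeff 0 ∈ M.comap (algebraMap A A₁) by
      rw [hc]; exact (IsLocalRing.residue_eq_zero_iff _).mp hx)
  haveI : IsLocalRing A₁ := IsLocalRing.of_unique_max_ideal
    ⟨_, RingHom.ker_isMaximal_of_surjective π₀ hπ₀, fun M hM => huniq M hM⟩
  haveI : HenselianLocalRing A₁ := EtaleSite.henselianLocalRing_of_finite (R := A)
  have hker : IsLocalRing.maximalIdeal A₁ = RingHom.ker π₀ := huniq _ inferInstance
  let e₁ : IsLocalRing.ResidueField A₁ ≃+* IsLocalRing.ResidueField A :=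
    (Ideal.quotEquivOfEq hker).trans (RingHom.quotientKerEquivOfSurjective hπ₀)
  letI : Algebra (IsLocalRing.ResidueField A) (IsLocalRing.ResidueField A₁) := e₁.symm.toRingHom.toAlgebra
  haveI : Algebra.IsAlgebraic (IsLocalRing.ResidueField A) (IsLocalRing.ResidueField A₁) := ⟨fun x => by
    have hx : x = algebraMap (IsLocalRing.ResidueField A) (IsLocalRing.ResidueField A₁) (e₁ x) := (e₁.symm_apply_apply x).symm
    rw [hx]; exact isAlgebraic_algebraMap _⟩
  haveI : IsSepClosed (IsLocalRing.ResidueField A₁) :=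
    Algebra.IsAlgebraic.isSepClosed (F := IsLocalRing.ResidueField A) (E := IsLocalRing.ResidueField A₁)
  obtain ⟨C₁, _, _, hfin, het, ⟨Ψ⟩⟩ := h
  obtain ⟨d, ⟨sp⟩⟩ := exists_split A₁ C₁
  haveI : IsNoetherianRing (Localization.Away f) := IsLocalization.isNoetherianRing (Submonoid.powers f) _ inferInstance
  let g := algebraMap A (Localization.Away f) f
  let D := AdjoinRoot (Polynomial.X ^ p - Polynomial.C g)
  let π : A₁ →ₐ[A] D := AdjoinRoot.liftAlgHom _ (Algebra.ofId A D) (AdjoinRoot.root _) (by
    have h1 := AdjoinRoot.eval₂_root (Polynomial.X ^ p - Polynomial.C g)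
    simp only [Polynomial.eval₂_sub, Polynomial.eval₂_pow, Polynomial.eval₂_X, Polynomial.eval₂_C] at h1 ⊢
    refine Eq.trans ?_ h1
    congr 1)
  have hπroot : π (AdjoinRoot.root _) = AdjoinRoot.root _ := AdjoinRoot.liftAlgHom_root _ _ _ _
  have hπinj : Function.Injective π := by
    have hmap : ∀ q : Polynomial A, π (AdjoinRoot.mk _ q) =
        AdjoinRoot.mk _ (q.map (algebraMap A (Localization.Away f))) := by
      intro q
      induction q using Polynomial.induction_on' with
      | add a b ha hb => rw [map_add, map_add, ha, hb, Polynomial.map_add, map_add]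
      | monomial n c =>
        rw [← Polynomial.C_mul_X_pow_eq_monomial, map_mul, map_mul, map_pow, map_pow, AdjoinRoot.mk_X, hπroot,
          AdjoinRoot.mk_C, ← AdjoinRoot.algebraMap_eq, AlgHom.commutes, Polynomial.map_mul, map_mul, Polynomial.map_pow,
          Polynomial.map_X, map_pow, AdjoinRoot.mk_X, Polynomial.map_C, AdjoinRoot.mk_C,
          IsScalarTower.algebraMap_apply A (Localization.Away f) D, AdjoinRoot.algebraMap_eq]
    rw [injective_iff_map_eq_zero]
    intro x hx
    obtain ⟨q, rfl⟩ := AdjoinRoot.mk_surjective x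
    rw [hmap, AdjoinRoot.mk_eq_zero] at hx
    rw [AdjoinRoot.mk_eq_zero]
    refine (Polynomial.map_dvd_map _ hinjR hmon).mp ?_
    simpa [g] using hx
  have hgu : IsUnit g := IsLocalization.Away.algebraMap_isUnit f
  let L := Localization.Away (algebraMap A₁ C₁ (AdjoinRoot.of (Polynomial.X ^ p - Polynomial.C f) f))
  let proj : Fin d → (C₁ →ₐ[A₁] A₁) := fun j => (Pi.evalAlgHom A₁ (fun _ : Fin d => A₁) j).comp sp.toAlgHom
  have hπf : IsUnit (π (AdjoinRoot.of _ f)) := by
    rw [← AdjoinRoot.algebraMap_eq, AlgHom.commutes, IsScalarTower.algebraMap_apply A (Localization.Away f) D]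
    exact hgu.map _
  let χ : Fin d → (L →+* D) := fun j => IsLocalization.Away.lift (S := L)
    (algebraMap A₁ C₁ (AdjoinRoot.of (Polynomial.X ^ p - Polynomial.C f) f))
    (g := π.toRingHom.comp (proj j).toRingHom) (by
      simp only [RingHom.comp_apply, AlgHom.toRingHom_eq_coe, RingHom.coe_coe]
      rw [AlgHom.commutes]
      exact hπf)
  have hχ : ∀ j c, χ j (algebraMap C₁ L c) = π (proj j c) := fun j c => IsLocalization.Away.lift_eq _ _ c
  let e := Ψ.symm
  let ψA : Fin d → (B →ₐ[A] D) := fun j =>
    { (χ j).comp (e.toRingEquiv.toRingHom.comp (Algebra.TensorProduct.includeRight (R := A) (A := A₁) (B := B)).toRingHom) with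
      commutes' := fun a => by
        show χ j (e (1 ⊗ₜ algebraMap A B a)) = _
        have h1 : (1 : A₁) ⊗ₜ[A] algebraMap A B a = algebraMap A₁ (A₁ ⊗[A] B) (algebraMap A A₁ a) :=
          ((Algebra.TensorProduct.includeRight (R := A) (A := A₁) (B := B)).commutes a).trans
            (IsScalarTower.algebraMap_apply A A₁ (A₁ ⊗[A] B) a)
        rw [h1, AlgEquiv.commutes, IsScalarTower.algebraMap_apply A₁ C₁ L, hχ, AlgHom.commutes,
          Algebra.algebraMap_self, RingHom.id_apply, AlgHom.commutes] }
  let ψ : Fin d → (B →ₐ[Localization.Away f] D) := fun j =>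
    { (ψA j).toRingHom with
      commutes' := fun r => by
        have he : ((ψA j).toRingHom.comp (algebraMap (Localization.Away f) B)) = algebraMap (Localization.Away f) D := by
          refine IsLocalization.ringHom_ext (Submonoid.powers f) (RingHom.ext fun a => ?_)
          simp only [RingHom.comp_apply, AlgHom.toRingHom_eq_coe, RingHom.coe_coe, ← IsScalarTower.algebraMap_apply]
          exact (ψA j).commutes a
        exact RingHom.congr_fun he r }
  haveI : Algebra.FormallyUnramified (Localization.Away f) B := inferInstance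
  let r : B → Fin d → Localization.Away f := fun b j => cf g 0 (ψ j b)
  have hr : ∀ b j, ψ j b = AdjoinRoot.of _ (r b j) := fun b j => image_in_base (ψ j) hp0 hpu b
  have hofinj : Function.Injective (AdjoinRoot.of (Polynomial.X ^ p - Polynomial.C g)) := fun a b hab => by
    have := congrArg (cf g 0) hab
    rwa [cf_of, cf_of, if_pos rfl, if_pos rfl] at this
  let Θ : B →ₐ[A] (Fin d → Localization.Away f) :=
    { toFun := r
      map_one' := funext fun j => hofinj (by rw [← hr, map_one, Pi.one_apply, map_one])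
      map_mul' := fun a b => funext fun j => hofinj (by rw [← hr, map_mul, Pi.mul_apply, map_mul, hr, hr])
      map_zero' := funext fun j => hofinj (by rw [← hr, map_zero, Pi.zero_apply, map_zero])
      map_add' := fun a b => funext fun j => hofinj (by rw [← hr, map_add, Pi.add_apply, map_add, hr, hr])
      commutes' := fun a => funext fun j => hofinj (by
        rw [← hr]
        refine ((ψA j).commutes a).trans ?_
        rw [IsScalarTower.algebraMap_apply A (Localization.Away f) D, AdjoinRoot.algebraMap_eq]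
        rfl) }
  have hten : ∀ (j : Fin d) (x : A₁) (b : B), χ j (e (x ⊗ₜ b)) = π x * ψ j b := by
    intro j x b
    have h1 : x ⊗ₜ[A] b = algebraMap A₁ (A₁ ⊗[A] B) x * ((1 : A₁) ⊗ₜ b) := by
      rw [Algebra.TensorProduct.algebraMap_apply, Algebra.TensorProduct.tmul_mul_tmul, mul_one, one_mul,
        Algebra.algebraMap_self, RingHom.id_apply]
    rw [h1, map_mul, map_mul, AlgEquiv.commutes, IsScalarTower.algebraMap_apply A₁ C₁ L, hχ, AlgHom.commutes,
      Algebra.algebraMap_self, RingHom.id_apply]
    rfl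
  have hinj : Function.Injective Θ := by
    rw [injective_iff_map_eq_zero]
    intro b hb
    obtain ⟨⟨c, ⟨_, N, rfl⟩⟩, hc⟩ := IsLocalization.surj
      (Submonoid.powers (algebraMap A₁ C₁ (AdjoinRoot.of (Polynomial.X ^ p - Polynomial.C f) f))) (e ((1 : A₁) ⊗ₜ b))
    have hc0 : c = 0 := by
      apply sp.injective
      rw [map_zero]
      funext j
      apply hπinj
      rw [Pi.zero_apply, map_zero]
      show π (proj j c) = 0
      rw [← hχ, ← hc, map_mul, hten, hr]
      rw [show r b j = 0 from congrFun hb j, map_zero, mul_zero, zero_mul]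
    rw [hc0, map_zero] at hc
    have hu : IsUnit (algebraMap C₁ L ((algebraMap A₁ C₁ (AdjoinRoot.of (Polynomial.X ^ p - Polynomial.C f) f)) ^ N)) :=
      IsLocalization.map_units L (⟨_, N, rfl⟩ : Submonoid.powers _)
    haveI : Module.Flat A B := Module.Flat.trans A (Localization.Away f) B
    have h0 : (1 : A₁) ⊗ₜ[A] b = 0 := e.injective (by rw [map_zero]; exact hu.mul_left_eq_zero.mp hc)
    exact (Algebra.TensorProduct.includeRight_injective (A := A₁) (B := B) (R := A)
      (FaithfulSMul.algebraMap_injective A A₁)) (h0.trans (map_zero _).symm)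
  have hsurj : Function.Surjective Θ := by
    intro y
    obtain ⟨s, hs⟩ := IsLocalization.exist_integer_multiples_of_finite (Submonoid.powers f) y
    choose a ha using hs
    obtain ⟨_, N, rfl⟩ := s
    let fN := (algebraMap A₁ C₁ (AdjoinRoot.of (Polynomial.X ^ p - Polynomial.C f) f)) ^ N
    let el : L := IsLocalization.mk' L (sp.symm fun j => algebraMap A A₁ (a j)) (⟨fN, N, rfl⟩ : Submonoid.powers _)
    let bas := (AdjoinRoot.powerBasis' hmon).basis
    let co := (bas.baseChange B).repr (TensorProduct.comm A A₁ B (Ψ el))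
    have hz : Ψ el = ∑ i, bas i ⊗ₜ[A] co i := by
      apply (TensorProduct.comm A A₁ B).injective
      rw [map_sum]
      conv_lhs => rw [← (bas.baseChange B).sum_repr (TensorProduct.comm A A₁ B (Ψ el))]
      refine Finset.sum_congr rfl fun i _ => ?_
      rw [Module.Basis.baseChange_apply, TensorProduct.comm_tmul, TensorProduct.smul_tmul', smul_eq_mul, mul_one]
    have hp0' : 0 < (AdjoinRoot.powerBasis' hmon).dim := by
      rw [AdjoinRoot.powerBasis'_dim, Polynomial.natDegree_X_pow_sub_C]; exact (Fact.out : p.Prime).pos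
    refine ⟨co ⟨0, hp0'⟩, funext fun j => ?_⟩
    have h1 : χ j el = AdjoinRoot.of _ (y j) := by
      have hu : IsUnit (π (proj j fN)) := by
        simp only [fN, map_pow, AlgHom.commutes]
        exact hπf.pow N
      apply hu.mul_left_cancel
      rw [← hχ, ← map_mul]
      erw [IsLocalization.mk'_spec' L _ (⟨fN, N, rfl⟩ : Submonoid.powers _)]
      rw [hχ, hχ]
      show π (sp (sp.symm _) j) = π (sp fN j) * _
      rw [AlgEquiv.apply_symm_apply, AlgHom.commutes, map_pow (sp), Pi.pow_apply, map_pow π, AlgEquiv.commutes,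
        Pi.algebraMap_apply, Algebra.algebraMap_self, RingHom.id_apply, ← AdjoinRoot.algebraMap_eq, AlgHom.commutes,
        IsScalarTower.algebraMap_apply A (Localization.Away f) D, ha, Algebra.smul_def]
      rw [AdjoinRoot.algebraMap_eq, map_mul, IsScalarTower.algebraMap_apply A (Localization.Away f) D,
        AdjoinRoot.algebraMap_eq, map_pow, map_pow]
    have h2 : χ j el = ∑ i, π (bas i) * ψ j (co i) := by
      conv_lhs => rw [← e.apply_symm_apply el]
      rw [show e.symm el = Ψ el from rfl, hz, map_sum, map_sum]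
      exact Finset.sum_congr rfl fun i _ => hten j _ _
    have h3 := congrArg (cf g 0) (h1.symm.trans h2)
    rw [cf_of, if_pos rfl, map_sum] at h3
    rw [h3]
    show r _ j = _
    rw [Finset.sum_eq_single (⟨0, hp0'⟩ : Fin _)]
    · simp [bas, hr, cf_of]
    · intro i _ hi
      have hb : bas i = AdjoinRoot.root _ ^ (i : ℕ) := by simp [bas]
      rw [hb, map_pow, hπroot, hr]
      have hip : (i : ℕ) < p := by
        exact lt_of_lt_of_eq i.2 (by rw [AdjoinRoot.powerBasis'_dim, Polynomial.natDegree_X_pow_sub_C])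
      have hi0 : (i : ℕ) ≠ 0 := fun hh => hi (Fin.ext hh)
      rw [mul_comm, ← AdjoinRoot.algebraMap_eq, ← Algebra.smul_def, map_smul, ← AdjoinRoot.mk_X, ← map_pow, cf,
        LinearMap.comp_apply, AdjoinRoot.modByMonicHom_mk, (Polynomial.modByMonic_eq_self_iff
          (Polynomial.monic_X_pow_sub_C g (Fact.out : p.Prime).ne_zero)).mpr (by
          rw [Polynomial.degree_X_pow, Polynomial.degree_X_pow_sub_C (Fact.out : p.Prime).pos]
          exact_mod_cast hip)]
      simp [Polynomial.coeff_X_pow, Ne.symm hi0]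
    · simp
  let eΘ := AlgEquiv.ofBijective Θ ⟨hinj, hsurj⟩
  letI : Algebra (Fin d → A) (Fin d → Localization.Away f) :=
    (RingHom.compLeft (algebraMap A (Localization.Away f)) (Fin d)).toAlgebra
  haveI : @IsScalarTower A (Fin d → A) (Fin d → Localization.Away f) _ Algebra.toSMul _ := IsScalarTower.of_algebraMap_eq fun _ => rfl
  haveI : IsLocalization.Away (algebraMap A (Fin d → A) f) (Fin d → Localization.Away f) := by
    refine (isLocalization_iff _ _).mpr ⟨?_, ?_, ?_⟩
    · rintro ⟨_, N, rfl⟩
      have hu : IsUnit (Pi.constRingHom (Fin d) (Localization.Away f) (algebraMap A (Localization.Away f) f ^ N)) :=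
        ((IsLocalization.Away.algebraMap_isUnit f).pow N).map _
      convert! hu using 1
      funext i
      show algebraMap A (Localization.Away f) ((algebraMap A (Fin d → A) f ^ N) i) = algebraMap A (Localization.Away f) f ^ N
      rw [Pi.pow_apply, Pi.algebraMap_apply, Algebra.algebraMap_self, RingHom.id_apply, map_pow]
    · intro z
      obtain ⟨s, hs⟩ := IsLocalization.exist_integer_multiples_of_finite (Submonoid.powers f) z
      choose a ha using hs
      obtain ⟨_, N, rfl⟩ := s
      refine ⟨⟨a, ⟨_, N, rfl⟩⟩, funext fun i => ?_⟩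
      show z i * algebraMap A (Localization.Away f) ((algebraMap A (Fin d → A) f ^ N) i) = algebraMap A _ (a i)
      rw [ha, Pi.pow_apply, Pi.algebraMap_apply, Algebra.algebraMap_self, RingHom.id_apply, Algebra.smul_def]
      ring
    · intro x y hxy
      refine ⟨1, ?_⟩
      rw [OneMemClass.coe_one, one_mul, one_mul]
      exact funext fun i => hinjR (congrFun hxy i)
  exact ⟨Fin d → A, inferInstance, inferInstance, inferInstance, inferInstance,
    ⟨((Localization.algEquiv (Submonoid.powers (algebraMap A (Fin d → A) f))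
      (Fin d → Localization.Away f)).restrictScalars A).trans eΘ.symm⟩⟩

end Groth.Agent.S18362
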