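import Mathlib
import Groth.Statements.S18363
-- import your own Groth.Agent.* helpers here

set_option autoImplicit false
universe u
open CategoryTheory
open CAlg

namespace Groth.Agent.S18363

/-- Let R be a Noetherian local ring with maximal ideal m, and P, Q ideals of R such that P + Q contains
a power of m while R/P and R/Q are both reduced of Krull dimension one. Let I and J be nonzero
finitely generated R-modules with P·I = 0 and Q·J = 0, such that every element of R whose class in
R/P is a non-zero-divisor acts injectively on I, and every element whose class in R/Q is a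
non-zero-divisor acts injectively on J. Then the group Ext¹_R(I, J) is nonzero. (This is the stalk
statement behind the existence of a non-split extension of a torsion-free rank-one sheaf on a
subcurve Y by one on a subcurve Z of a reduced projective curve, at a point where Y and Z meet
without sharing a component; in that situation the modules moreover have rank one at the generic
points of their supports and P ∩ Q = 0, two assumptions the argument does not use.) -/
theorem result
    (R : Type u) [CommRing R] [IsNoetherianRing R] [IsLocalRing R]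
    (P Q : Ideal R) (hPQ : ∃ n : ℕ, IsLocalRing.maximalIdeal R ^ n ≤ P ⊔ Q)
    [IsReduced (R ⧸ P)] [IsReduced (R ⧸ Q)]
    (hPdim : ringKrullDim (R ⧸ P) = 1) (hQdim : ringKrullDim (R ⧸ Q) = 1)
    (I J : Type u) [AddCommGroup I] [Module R I] [Module.Finite R I] [Nontrivial I]
    [AddCommGroup J] [Module R J] [Module.Finite R J] [Nontrivial J]
    (hPI : ∀ p ∈ P, ∀ x : I, p • x = 0) (hQJ : ∀ q ∈ Q, ∀ y : J, q • y = 0)
    (hItf : ∀ r : R, Ideal.Quotient.mk P r ∈ nonZeroDivisors (R ⧸ P) → ∀ x : I, r • x = 0 → x = 0)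
    (hJtf : ∀ r : R, Ideal.Quotient.mk Q r ∈ nonZeroDivisors (R ⧸ Q) → ∀ y : J, r • y = 0 → y = 0) :
    Nontrivial (Abelian.Ext (ModuleCat.of R I) (ModuleCat.of R J) 1) := by
  classical
  set m := IsLocalRing.maximalIdeal R with hm
  have hQne : Q ≠ ⊤ := by
    intro h
    have : Subsingleton (R ⧸ Q) := Ideal.Quotient.subsingleton_iff.mpr h
    rw [ringKrullDim_eq_bot_of_subsingleton] at hQdim
    exact WithBot.bot_ne_coe hQdim
  have hnt : Nontrivial (R ⧸ Q) := Ideal.Quotient.nontrivial_iff.mpr hQne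
  have hloc : IsLocalRing (R ⧸ Q) := IsLocalRing.of_surjective' (Ideal.Quotient.mk Q) Ideal.Quotient.mk_surjective
  have : IsLocalHom (Ideal.Quotient.mk Q) := IsLocalHom.of_surjective _ Ideal.Quotient.mk_surjective
  have hnm : IsLocalRing.maximalIdeal (R ⧸ Q) ∉ minimalPrimes (R ⧸ Q) := by
    intro h
    have : Ring.KrullDimLE 0 (R ⧸ Q) := Ring.KrullDimLE.mk₀ fun p hp => by
      rw [show p = IsLocalRing.maximalIdeal (R ⧸ Q) from
        le_antisymm (IsLocalRing.le_maximalIdeal hp.ne_top) (h.2 ⟨hp, bot_le⟩ (IsLocalRing.le_maximalIdeal hp.ne_top))]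
      exact IsLocalRing.maximalIdeal.isMaximal _
    rw [ringKrullDimZero_iff_ringKrullDim_eq_zero.mp this] at hQdim
    exact zero_ne_one hQdim
  obtain ⟨xb, hxb, hxb'⟩ : ∃ x ∈ IsLocalRing.maximalIdeal (R ⧸ Q), ∀ p ∈ minimalPrimes (R ⧸ Q), x ∉ p := by
    by_contra hcon
    push Not at hcon
    have hfin : (minimalPrimes (R ⧸ Q)).Finite := minimalPrimes.finite_of_isNoetherianRing _
    have hsub : (IsLocalRing.maximalIdeal (R ⧸ Q) : Set (R ⧸ Q)) ⊆ ⋃ p ∈ (hfin.toFinset : Set (Ideal (R ⧸ Q))), (p : Set (R ⧸ Q)) := by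
      intro x hx
      obtain ⟨p, hp, hxp⟩ := hcon x hx
      exact Set.mem_biUnion (hfin.mem_toFinset.mpr hp) hxp
    obtain ⟨p, hp, hle⟩ := (Ideal.subset_union_prime ⊥ ⊥ fun p hp _ _ => (hfin.mem_toFinset.mp hp).1.1).mp hsub
    rw [hfin.mem_toFinset] at hp
    exact hnm ((IsLocalRing.maximalIdeal.isMaximal (R ⧸ Q)).eq_of_le hp.1.1.ne_top hle ▸ hp)
  obtain ⟨x, rfl⟩ := Ideal.Quotient.mk_surjective xb
  have hxm : x ∈ m := by
    rw [IsLocalRing.mem_maximalIdeal] at hxb ⊢
    exact fun hu => hxb (hu.map _)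
  have hxnzd : Ideal.Quotient.mk Q x ∈ nonZeroDivisors (R ⧸ Q) := by
    rw [mem_nonZeroDivisors_iff_right]
    intro y hy
    have : y ∈ (⊥ : Ideal (R ⧸ Q)).radical := by
      rw [← Ideal.sInf_minimalPrimes]
      refine Ideal.mem_sInf.mpr fun p hp => ?_
      exact ((hp.1.1).mem_or_mem (hy ▸ p.zero_mem)).resolve_right (hxb' p hp)
    obtain ⟨e, he⟩ := this
    exact IsReduced.eq_zero y ⟨e, Ideal.mem_bot.mp he⟩
  have hxreg : Function.Injective (LinearMap.lsmul R J x) := by
    rw [injective_iff_map_eq_zero]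
    exact fun y hy => hJtf x hxnzd y hy
  -- no maps from `I` to `J`
  have hHom : ∀ f : I →ₗ[R] J, f = 0 := by
    intro f
    ext v
    obtain ⟨n, hn⟩ := hPQ
    have hkill : ∀ a ∈ P ⊔ Q, a • f v = 0 := by
      intro a ha
      obtain ⟨p, hp, q, hq, rfl⟩ := Submodule.mem_sup.mp ha
      rw [add_smul, ← map_smul, hPI p hp, map_zero, hQJ q hq, add_zero]
    exact hJtf (x ^ n) (by rw [map_pow]; exact pow_mem hxnzd n) (f v) (hkill _ (hn (Ideal.pow_mem_pow hxm n)))
  -- the quotient `J / x J` has a socle element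
  set Jx := J ⧸ LinearMap.range (LinearMap.lsmul R J x)
  have hJx : Nontrivial Jx := by
    rw [Submodule.Quotient.nontrivial_iff]
    intro h
    have htop : (⊤ : Submodule R J) ≤ Ideal.span {x} • ⊤ := by
      refine h.ge.trans ?_
      rintro _ ⟨y, rfl⟩
      exact Submodule.smul_mem_smul (Ideal.mem_span_singleton_self x) trivial
    have h0 := Submodule.eq_bot_of_le_smul_of_le_jacobson_bot (Ideal.span {x}) (⊤ : Submodule R J)
      Module.Finite.fg_top htop ((Ideal.span_singleton_le_iff_mem _).mpr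
        (IsLocalRing.maximalIdeal_le_jacobson _ hxm))
    exact not_subsingleton J ((Submodule.subsingleton_iff R).mp (subsingleton_of_bot_eq_top h0.symm))
  have hrad : ∃ N : ℕ, m ^ N ≤ Q ⊔ Ideal.span {x} := by
    refine Ideal.exists_pow_le_of_le_radical_of_fg ?_ (IsNoetherian.noetherian m)
    rw [Ideal.radical_eq_sInf]
    refine le_sInf fun p ⟨hle, hp⟩ => ?_
    have hQp : Q ≤ p := le_trans le_sup_left hle
    have hxp : x ∈ p := hle (Ideal.mem_sup_right (Ideal.mem_span_singleton_self x))
    have hp' : (p.map (Ideal.Quotient.mk Q)).IsPrime :=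
      Ideal.map_isPrime_of_surjective Ideal.Quotient.mk_surjective (by rwa [Ideal.mk_ker])
    have hxp' : Ideal.Quotient.mk Q x ∈ p.map (Ideal.Quotient.mk Q) := Ideal.mem_map_of_mem _ hxp
    by_contra hne
    have hlt : p.map (Ideal.Quotient.mk Q) < IsLocalRing.maximalIdeal (R ⧸ Q) := by
      refine lt_of_le_of_ne (IsLocalRing.le_maximalIdeal hp'.ne_top) fun heq => hne ?_
      have h1 : (p.map (Ideal.Quotient.mk Q)).comap (Ideal.Quotient.mk Q) = p := by
        rw [Ideal.comap_map_of_surjective _ Ideal.Quotient.mk_surjective, ← RingHom.ker_eq_comap_bot,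
          Ideal.mk_ker, sup_eq_left.mpr hQp]
      rw [← h1, heq]
      exact fun a ha => by
        rw [Ideal.mem_comap, IsLocalRing.mem_maximalIdeal]
        exact fun hu => (IsLocalRing.mem_maximalIdeal a).mp ha (IsUnit.of_map (Ideal.Quotient.mk Q) a hu)
    obtain ⟨q, hq, hqp⟩ := Ideal.exists_minimalPrimes_le (I := (⊥ : Ideal (R ⧸ Q))) (J := p.map (Ideal.Quotient.mk Q)) bot_le
    rcases eq_or_lt_of_le hqp with h | h
    · exact hxb' q hq (h ▸ hxp')
    · let c : LTSeries (PrimeSpectrum (R ⧸ Q)) :=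
        ⟨2, ![⟨q, hq.1.1⟩, ⟨_, hp'⟩, IsLocalRing.closedPoint (R ⧸ Q)], fun i => by
          fin_cases i
          · exact h
          · exact hlt⟩
      have := Order.LTSeries.length_le_krullDim c
      rw [show Order.krullDim (PrimeSpectrum (R ⧸ Q)) = ringKrullDim (R ⧸ Q) from rfl, hQdim] at this
      exact absurd this (by norm_num [c])
  obtain ⟨w, hw0, hwm⟩ : ∃ w : Jx, w ≠ 0 ∧ ∀ a ∈ m, a • w = 0 := by
    obtain ⟨N, hN⟩ := hrad
    have hkill : m ^ N • (⊤ : Submodule R Jx) = ⊥ := by
      rw [eq_bot_iff, Submodule.smul_le]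
      intro a ha w _
      obtain ⟨v, rfl⟩ := Submodule.Quotient.mk_surjective _ w
      obtain ⟨q, hq, r, hr, rfl⟩ := Submodule.mem_sup.mp (hN ha)
      obtain ⟨c, rfl⟩ := Ideal.mem_span_singleton'.mp hr
      rw [Submodule.mem_bot, ← Submodule.Quotient.mk_smul, Submodule.Quotient.mk_eq_zero]
      exact ⟨c • v, by rw [LinearMap.lsmul_apply, smul_smul, add_smul, hQJ q hq, zero_add, mul_comm]⟩
    have hex : ∃ i, m ^ i • (⊤ : Submodule R Jx) = ⊥ := ⟨N, hkill⟩
    have hpos : 0 < Nat.find hex := by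
      rcases Nat.eq_zero_or_pos (Nat.find hex) with h | h
      · have := Nat.find_spec hex
        rw [h, pow_zero, Ideal.one_eq_top, Submodule.top_smul] at this
        exact absurd this (by simpa using (top_ne_bot (α := Submodule R Jx)))
      · exact h
    obtain ⟨w, hw, hw0⟩ := Submodule.exists_mem_ne_zero_of_ne_bot (Nat.find_min hex (Nat.sub_one_lt_of_lt hpos))
    refine ⟨w, hw0, fun a ha => ?_⟩
    have := Submodule.smul_mem_smul ha hw
    rw [← Submodule.mul_smul, ← pow_succ', Nat.sub_add_cancel hpos, Nat.find_spec hex] at this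
    exact this
  -- a nonzero map `I → J / x J`
  obtain ⟨f, hf⟩ : ∃ f : I →ₗ[R] Jx, f ≠ 0 := by
    let := Ideal.Quotient.field m
    have hI' : Nontrivial (I ⧸ (m • ⊤ : Submodule R I)) := by
      rw [Submodule.Quotient.nontrivial_iff]
      intro h
      exact not_subsingleton I ((Submodule.subsingleton_iff R).mp (subsingleton_of_bot_eq_top
        (Submodule.eq_bot_of_le_smul_of_le_jacobson_bot m ⊤ Module.Finite.fg_top h.ge
          (IsLocalRing.maximalIdeal_le_jacobson _)).symm))
    let b := Module.Basis.ofVectorSpace (R ⧸ m) (I ⧸ (m • ⊤ : Submodule R I))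
    obtain ⟨i⟩ := b.index_nonempty
    let l : (R ⧸ m) →ₗ[R] Jx := Submodule.liftQ m (LinearMap.toSpanSingleton R Jx w) fun a ha => hwm a ha
    refine ⟨l ∘ₗ ((b.coord i).restrictScalars R) ∘ₗ Submodule.mkQ _, fun h => hw0 ?_⟩
    obtain ⟨v, hv⟩ := Submodule.Quotient.mk_surjective (m • ⊤ : Submodule R I) (b i)
    have h2 := LinearMap.congr_fun h v
    simp only [LinearMap.comp_apply, Submodule.mkQ_apply, hv, LinearMap.restrictScalars_apply,
      Module.Basis.coord_apply, Module.Basis.repr_self, Finsupp.single_eq_same, LinearMap.zero_apply] at h2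
    rw [← one_smul R w]
    exact h2
  let S : ShortComplex (ModuleCat.{u} R) := ShortComplex.mk (ModuleCat.ofHom (LinearMap.lsmul R J x))
    (ModuleCat.ofHom (LinearMap.range (LinearMap.lsmul R J x)).mkQ)
    (by
      apply ModuleCat.hom_ext
      ext y
      exact (Submodule.Quotient.mk_eq_zero _).mpr ⟨y, rfl⟩)
  have hS : S.ShortExact :=
    { exact := by
        rw [ShortComplex.moduleCat_exact_iff]
        intro y hy
        exact (Submodule.Quotient.mk_eq_zero _).mp hy
      mono_f := (ModuleCat.mono_iff_injective _).mpr hxreg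
      epi_g := (ModuleCat.epi_iff_surjective _).mpr (Submodule.mkQ_surjective _) }
  refine nontrivial_of_ne ((Abelian.Ext.mk₀ (ModuleCat.ofHom f : ModuleCat.of R I ⟶ S.X₃)).comp hS.extClass (zero_add 1)) 0 fun h => hf ?_
  obtain ⟨g, hg⟩ := Abelian.Ext.covariant_sequence_exact₃ (ModuleCat.of R I) hS _ rfl h
  obtain ⟨g, rfl⟩ := (Abelian.Ext.mk₀_bijective _ _).2 g
  rw [Abelian.Ext.mk₀_comp_mk₀] at hg
  have hgf := congrArg ModuleCat.Hom.hom ((Abelian.Ext.mk₀_bijective _ _).1 hg)
  ext v
  have h2 := LinearMap.congr_fun hgf v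
  have hg0 : g.hom v = 0 := LinearMap.congr_fun (hHom g.hom) v
  simp [hg0, S] at h2
  exact h2.symm

end Groth.Agent.S18363
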