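import Mathlib
import Groth.Statements.S18364
-- import your own Groth.Agent.* helpers here

set_option autoImplicit false
universe u
open CAlg

namespace Groth.Agent.S18364

theorem mem_ker_loc {A : Type u} [CommRing A] (π : A) (p : Ideal A) [p.IsPrime]
    (P : Type u) [AddCommGroup P] [Module A P] (x : P) :
    Submodule.mkQ (Ideal.span {π} • (⊤ : Submodule A P)) x ∈ LinearMap.ker
      (LocalizedModule.mkLinearMap p.primeCompl (P ⧸ Ideal.span {π} • (⊤ : Submodule A P))) ↔
    ∃ s ∉ p, ∃ y : P, π • y = s • x := by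
  constructor
  · intro h
    obtain ⟨r, hr, h⟩ := LocalizedModule.mem_ker_mkLinearMap_iff.mp h
    rw [Submodule.mkQ_apply, ← Submodule.Quotient.mk_smul, Submodule.Quotient.mk_eq_zero,
      Submodule.ideal_span_singleton_smul, Submodule.mem_smul_pointwise_iff_exists] at h
    obtain ⟨y, -, hy⟩ := h
    exact ⟨r, hr, y, hy⟩
  · rintro ⟨s, hs, y, hy⟩
    refine LocalizedModule.mem_ker_mkLinearMap_iff.mpr ⟨s, hs, ?_⟩
    rw [Submodule.mkQ_apply, ← Submodule.Quotient.mk_smul, Submodule.Quotient.mk_eq_zero, ← hy]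
    exact Submodule.smul_mem_smul (Ideal.mem_span_singleton_self π) trivial

theorem mem_span_smul_top {A : Type u} [CommRing A] (π : A)
    (P : Type u) [AddCommGroup P] [Module A P] (x : P) :
    x ∈ Ideal.span {π} • (⊤ : Submodule A P) ↔ ∃ y : P, π • y = x := by
  rw [Submodule.ideal_span_singleton_smul, Submodule.mem_smul_pointwise_iff_exists]
  simp


/-- Let A be a Noetherian ring, π an element of A, and (𝔓_i)_{i ∈ ι} an injective finite family listing
exactly the minimal prime ideals over (π). Let M be a finitely generated A-module and M̄ = M/πM. For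
a subset T of ι let K(T) ⊆ M̄ be the submodule of elements whose image in the localisation of M̄ at
𝔓_i is zero for every i ∈ T, and N(T) ⊆ M its preimage in M. Assume K(ι) = 0, i.e. no nonzero
element of M̄ vanishes at all the minimal primes (every associated prime of M̄ is one of the 𝔓_i).
Then for every subset Y of ι with complement Z one has N(Y) ∩ N(Z) = πM, and the same construction
applied to the module N(Y) instead of M — the preimage in N(Y) of the elements of N(Y)/πN(Y)
vanishing at every 𝔓_i with i ∈ Z — is, as a submodule of M, equal to N(Y) ∩ N(Z). (Geometric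
meaning: A is the local ring of a flat family of curves over a discrete valuation ring with
uniformizer π at a point of the reduced special fibre, M the stalk of a torsion-free rank-one sheaf
I, Y a set of components of the special fibre through the point, and N(Y) the stalk of the kernel
I^Y of I → I(s)_Y; the statement is (I^Y)^Z = I^Y ∩ I^Z = πI. Reducedness of A/πA, flatness and rank
one are not used.) -/
theorem result
    (A : Type u) [CommRing A] [IsNoetherianRing A] (π : A)
    (ι : Type) [Finite ι] (𝔓 : ι → Ideal A) [∀ i, (𝔓 i).IsPrime]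
    (h𝔓 : ∀ i, 𝔓 i ∈ (Ideal.span {π}).minimalPrimes) (h𝔓inj : Function.Injective 𝔓)
    (h𝔓surj : ∀ 𝔔 ∈ (Ideal.span {π}).minimalPrimes, ∃ i, 𝔓 i = 𝔔)
    (M : Type u) [AddCommGroup M] [Module A M] [Module.Finite A M]
    (K : Set ι → Submodule A (M ⧸ Ideal.span {π} • (⊤ : Submodule A M)))
    (hK : ∀ T : Set ι, K T = ⨅ i ∈ T, LinearMap.ker
      (LocalizedModule.mkLinearMap (𝔓 i).primeCompl (M ⧸ Ideal.span {π} • (⊤ : Submodule A M))))
    (htf : K Set.univ = ⊥)
    (N : Set ι → Submodule A M)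
    (hN : ∀ T : Set ι, N T = (K T).comap (Submodule.mkQ (Ideal.span {π} • (⊤ : Submodule A M))))
    (Y : Set ι) :
    N Y ⊓ N Yᶜ = Ideal.span {π} • (⊤ : Submodule A M) ∧
    Submodule.map (N Y).subtype
      ((⨅ i ∈ Yᶜ, LinearMap.ker (LocalizedModule.mkLinearMap (𝔓 i).primeCompl
          (↥(N Y) ⧸ Ideal.span {π} • (⊤ : Submodule A ↥(N Y))))).comap
        (Submodule.mkQ (Ideal.span {π} • (⊤ : Submodule A ↥(N Y)))))
      = N Y ⊓ N Yᶜ := by
  classical
  cases nonempty_fintype ι
  let P : Submodule A M := Ideal.span {π} • ⊤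
  have hmem : ∀ (T : Set ι) (x : M), x ∈ N T ↔ ∀ i ∈ T, ∃ s ∉ 𝔓 i, ∃ y : M, π • y = s • x := by
    intro T x
    rw [hN, Submodule.mem_comap, hK]
    simp only [Submodule.mem_iInf, mem_ker_loc]
  have h1 : N Y ⊓ N Yᶜ = P := by
    refine le_antisymm (fun x hx => ?_) (fun x hx => ?_)
    · have h : Submodule.mkQ P x ∈ K Set.univ := by
        rw [hK]
        simp only [Submodule.mem_iInf]
        intro i _
        rw [mem_ker_loc]
        by_cases hi : i ∈ Y
        · exact (hmem Y x).mp hx.1 i hi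
        · exact (hmem Yᶜ x).mp hx.2 i hi
      rw [htf, Submodule.mem_bot] at h
      exact (Submodule.Quotient.mk_eq_zero _).mp h
    · obtain ⟨y, rfl⟩ := (mem_span_smul_top π M x).mp hx
      constructor <;> exact (hmem _ _).mpr fun i _ =>
        ⟨1, fun h => (inferInstance : (𝔓 i).IsPrime).ne_top ((Ideal.eq_top_iff_one _).mpr h), y, (one_smul _ _).symm⟩
  refine ⟨h1, le_antisymm ?_ ?_⟩
  · rintro x ⟨z, hz, rfl⟩
    refine ⟨z.2, (hmem Yᶜ _).mpr fun i hi => ?_⟩
    obtain ⟨s, hs, y, hy⟩ := (mem_ker_loc π (𝔓 i) _ z).mp (by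
      simp only [SetLike.mem_coe, Submodule.mem_comap, Submodule.mem_iInf] at hz
      exact hz i hi)
    exact ⟨s, hs, y, congrArg Subtype.val hy⟩
  · rintro x ⟨hxY, hxZ⟩
    refine ⟨⟨x, hxY⟩, ?_, rfl⟩
    simp only [SetLike.mem_coe, Submodule.mem_comap, Submodule.mem_iInf]
    intro i hi
    rw [mem_ker_loc]
    obtain ⟨s, hs, m, hm⟩ := (hmem Yᶜ x).mp hxZ i hi
    have ht : ∀ j ∈ Y, ∃ t ∉ 𝔓 i, ∃ v ∉ 𝔓 j, v * t ∈ Ideal.span {π} := by
      intro j hj
      have hne : ¬ 𝔓 j ≤ 𝔓 i := fun hle => by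
        have heq : 𝔓 j = 𝔓 i := le_antisymm hle ((h𝔓 i).2 (h𝔓 j).1 hle)
        exact hi (h𝔓inj heq ▸ hj)
      obtain ⟨a, haj, hai⟩ := SetLike.not_le_iff_exists.mp hne
      by_contra hcon
      simp only [not_exists, not_and] at hcon
      let S : Submonoid A := (𝔓 j).primeCompl ⊔ Submonoid.powers a
      have hdisj : Disjoint ((Ideal.span {π} : Ideal A) : Set A) S := by
        rw [Set.disjoint_right]
        intro z hz hzI
        obtain ⟨v, hv, w, ⟨n, rfl⟩, rfl⟩ := Submonoid.mem_sup.mp hz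
        exact hcon (a ^ n) (fun h => hai ((inferInstance : (𝔓 i).IsPrime).mem_of_pow_mem n h)) v hv hzI
      obtain ⟨Q, hQ, hQI, hQS⟩ := Ideal.exists_le_prime_disjoint _ S hdisj
      have hQj : Q ≤ 𝔓 j := fun z hz => by
        by_contra hzj
        exact Set.disjoint_left.mp hQS hz (Submonoid.mem_sup_left hzj)
      exact Set.disjoint_left.mp hQS ((h𝔓 j).2 ⟨hQ, hQI⟩ hQj haj)
        (Submonoid.mem_sup_right (Submonoid.mem_powers a))
    choose t ht v hv hvt using ht
    let T := ∏ j ∈ (Finset.univ.filter (· ∈ Y)).attach, t j.1 (Finset.mem_filter.mp j.2).2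
    have hT : T ∉ 𝔓 i := fun h => by
      obtain ⟨j, -, hj⟩ := Ideal.IsPrime.prod_mem_iff.mp h
      exact ht _ _ hj
    have hTN : ∀ y : M, T • y ∈ N Y := fun y => (hmem Y _).mpr fun j hj => by
      refine ⟨v j hj, hv j hj, ?_⟩
      have hd : t j hj ∣ T :=
        Finset.dvd_prod_of_mem (fun j : {x // x ∈ Finset.univ.filter (· ∈ Y)} =>
          t j.1 (Finset.mem_filter.mp j.2).2)
          (Finset.mem_attach _ ⟨j, Finset.mem_filter.mpr ⟨Finset.mem_univ _, hj⟩⟩)
      obtain ⟨c, hc⟩ := hd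
      obtain ⟨e, he⟩ := Ideal.mem_span_singleton.mp (hvt j hj)
      exact ⟨(e * c) • y, by rw [smul_smul, smul_smul, hc, ← mul_assoc, ← mul_assoc, he]⟩
    refine ⟨T * s, fun h => ((inferInstance : (𝔓 i).IsPrime).mem_or_mem h).elim hT hs,
      ⟨T • m, hTN m⟩, Subtype.ext ?_⟩
    show π • T • m = (T * s) • x
    rw [smul_comm, hm, smul_smul]

end Groth.Agent.S18364
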