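import Mathlib
import Groth.Statements.S18365
-- import your own Groth.Agent.* helpers here

set_option autoImplicit false
universe u
open CAlg

namespace Groth.Agent.S18365

theorem mem_ker_loc {A : Type u} [CommRing A] (π : A) (p : Ideal A) [p.IsPrime]
    (P : Type u) [AddCommGroup P] [Module A P] (x : P) :
    Submodule.mkQ (Ideal.span {π} • (⊤ : Submodule A P)) x ∈ LinearMap.ker
      (LocalizedModule.mkLinearMap p.primeCompl (P ⧸ Ideal.span {π} • (⊤ : Submodule A P))) ↔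
    ∃ s ∉ p, ∃ y : P, π • y = s • x := by
  constructor
  · intro h
    obtain ⟨r, hr, h⟩ := LocalizedModule.mem_ker_mkLinearMap_iff.mp h
    rw [Submodule.mkQ_apply, ← Submodule.Quotient.mk_smul, Submodule.Quotient.mk_eq_zero,
      Submodule.ideal_span_singleton_smul, Submodule.mem_smul_pointwise_iff_exists] at h
    obtain ⟨y, -, hy⟩ := h
    exact ⟨r, hr, y, hy⟩
  · rintro ⟨s, hs, y, hy⟩
    refine LocalizedModule.mem_ker_mkLinearMap_iff.mpr ⟨s, hs, ?_⟩
    rw [Submodule.mkQ_apply, ← Submodule.Quotient.mk_smul, Submodule.Quotient.mk_eq_zero, ← hy]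
    exact Submodule.smul_mem_smul (Ideal.mem_span_singleton_self π) trivial

theorem mem_span_smul_top {A : Type u} [CommRing A] (π : A)
    (P : Type u) [AddCommGroup P] [Module A P] (x : P) :
    x ∈ Ideal.span {π} • (⊤ : Submodule A P) ↔ ∃ y : P, π • y = x := by
  rw [Submodule.ideal_span_singleton_smul, Submodule.mem_smul_pointwise_iff_exists]
  simp


/-- Let A be a Noetherian ring, π an element of A, (𝔓_i)_{i ∈ ι} an injective finite family listing
exactly the minimal prime ideals over (π), and M a finitely generated A-module on which π acts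
injectively; put M̄ = M/πM. For T ⊆ ι let K(T) ⊆ M̄ be the submodule of elements whose image in the
localisation of M̄ at 𝔓_i vanishes for every i ∈ T, and N(T) ⊆ M its preimage; assume K(ι) = 0.
Suppose that M̄ decomposes at Y, i.e. K(Y) + K(Yᶜ) = M̄, and that for a subset Z the module
N(Y)/πN(Y) decomposes at Z, i.e. its submodule of elements vanishing at every 𝔓_i (i ∈ Z) and its
submodule of elements vanishing at every 𝔓_i (i ∉ Z) together span it. Then M̄ decomposes at Z: K(Z)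
+ K(Zᶜ) = M̄. (Geometric meaning: for a flat family of curves over a discrete valuation ring with
uniformizer π, I a torsion-free rank-one sheaf flat over the base, Y a subcurve of the special fibre
X(s) at which I(s) decomposes and I^Y = ker(I → I(s)_Y): if I^Y(s) decomposes at a subcurve Z then
so does I(s); decomposition of a sheaf at Z is the surjectivity of I(s) → I(s)_Z ⊕ I(s)_{Z^c},
checked on stalks. Reducedness of the special fibre and rank one are not used.) -/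
theorem result
    (A : Type u) [CommRing A] [IsNoetherianRing A] (π : A)
    (ι : Type) [Finite ι] (𝔓 : ι → Ideal A) [∀ i, (𝔓 i).IsPrime]
    (h𝔓 : ∀ i, 𝔓 i ∈ (Ideal.span {π}).minimalPrimes) (h𝔓inj : Function.Injective 𝔓)
    (h𝔓surj : ∀ 𝔔 ∈ (Ideal.span {π}).minimalPrimes, ∃ i, 𝔓 i = 𝔔)
    (M : Type u) [AddCommGroup M] [Module A M] [Module.Finite A M]
    (hπ : ∀ m : M, π • m = 0 → m = 0)
    (K : Set ι → Submodule A (M ⧸ Ideal.span {π} • (⊤ : Submodule A M)))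
    (hK : ∀ T : Set ι, K T = ⨅ i ∈ T, LinearMap.ker
      (LocalizedModule.mkLinearMap (𝔓 i).primeCompl (M ⧸ Ideal.span {π} • (⊤ : Submodule A M))))
    (htf : K Set.univ = ⊥)
    (N : Set ι → Submodule A M)
    (hN : ∀ T : Set ι, N T = (K T).comap (Submodule.mkQ (Ideal.span {π} • (⊤ : Submodule A M))))
    (Y Z : Set ι) (hY : K Y ⊔ K Yᶜ = ⊤)
    (K' : Set ι → Submodule A (↥(N Y) ⧸ Ideal.span {π} • (⊤ : Submodule A ↥(N Y))))
    (hK' : ∀ T : Set ι, K' T = ⨅ i ∈ T, LinearMap.ker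
      (LocalizedModule.mkLinearMap (𝔓 i).primeCompl (↥(N Y) ⧸ Ideal.span {π} • (⊤ : Submodule A ↥(N Y)))))
    (hZ : K' Z ⊔ K' Zᶜ = ⊤) :
    K Z ⊔ K Zᶜ = ⊤ := by
  classical
  let P : Submodule A M := Ideal.span {π} • ⊤
  have hmem : ∀ (T : Set ι) (x : M), x ∈ N T ↔ ∀ i ∈ T, ∃ s ∉ 𝔓 i, ∃ y : M, π • y = s • x := by
    intro T x
    rw [hN, Submodule.mem_comap, hK]
    simp only [Submodule.mem_iInf, mem_ker_loc]
  have hπN : ∀ (T : Set ι) (y : M), π • y ∈ N T := fun T y => (hmem T _).mpr fun i _ =>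
    ⟨1, fun h => (inferInstance : (𝔓 i).IsPrime).ne_top ((Ideal.eq_top_iff_one _).mpr h), y, (one_smul _ _).symm⟩
  have hkey : ∀ T : Set ι, K T = (N T).map (Submodule.mkQ P) := fun T => by
    rw [hN, Submodule.map_comap_eq_of_surjective (Submodule.mkQ_surjective _)]
  have hsplitY : ∀ m : M, ∃ a ∈ N Y, ∃ b ∈ N Yᶜ, a + b = m := by
    intro m
    obtain ⟨a, ha, b, hb, hab⟩ := Submodule.mem_sup.mp (hY ▸ Submodule.mem_top : Submodule.mkQ P m ∈ K Y ⊔ K Yᶜ)
    obtain ⟨a, rfl⟩ := Submodule.mkQ_surjective P a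
    refine ⟨a, ?_, m - a, ?_, add_sub_cancel a m⟩
    · rw [hN]; exact ha
    · rw [hN, Submodule.mem_comap, map_sub, ← hab]; simpa using hb
  have hsplitZ : ∀ (x : M) (hxY : x ∈ N Y), ∃ (c₁ c₂ : N Y), c₁ + c₂ = ⟨x, hxY⟩ ∧
      (∀ i ∈ Z, ∃ s ∉ 𝔓 i, ∃ y : N Y, π • y = s • c₁) ∧
      (∀ i ∈ Zᶜ, ∃ s ∉ 𝔓 i, ∃ y : N Y, π • y = s • c₂) := by
    intro x hx
    obtain ⟨a, ha, b, hb, hab⟩ := Submodule.mem_sup.mp (hZ ▸ Submodule.mem_top :
      Submodule.mkQ (Ideal.span {π} • (⊤ : Submodule A (N Y))) ⟨x, hx⟩ ∈ K' Z ⊔ K' Zᶜ)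
    obtain ⟨a, rfl⟩ := Submodule.mkQ_surjective _ a
    obtain ⟨b, rfl⟩ := Submodule.mkQ_surjective _ b
    rw [← map_add] at hab
    obtain ⟨w, hw⟩ := (mem_span_smul_top π _ _).mp ((Submodule.Quotient.eq _).mp hab)
    simp only [hK', Submodule.mem_iInf] at ha hb
    refine ⟨a - π • w, b, by rw [hw]; abel, fun i hi => ?_, fun i hi => (mem_ker_loc π _ _ _).mp (hb i hi)⟩
    obtain ⟨s, hs, y, hy⟩ := (mem_ker_loc π _ _ _).mp (ha i hi)
    exact ⟨s, hs, y - s • w, by rw [smul_sub, smul_sub, hy, smul_comm π s w]⟩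
  have hvan : ∀ (T : Set ι) (c : N Y), (∀ i ∈ T, ∃ s ∉ 𝔓 i, ∃ y : N Y, π • y = s • c) → (c : M) ∈ N T :=
    fun T c h => (hmem T _).mpr fun i hi => by
      obtain ⟨s, hs, y, hy⟩ := h i hi
      exact ⟨s, hs, y, congrArg Subtype.val hy⟩
  have hA : N Y ≤ N Z ⊔ N Zᶜ := fun x hx => by
    obtain ⟨c₁, c₂, h, h1, h2⟩ := hsplitZ x hx
    refine Submodule.mem_sup.mpr ⟨c₁, hvan Z c₁ h1, c₂, hvan Zᶜ c₂ h2, ?_⟩
    exact congrArg Subtype.val h
  have hlow : ∀ (T : Set ι) (c : N Y) (m : M), (∀ i ∈ T, ∃ s ∉ 𝔓 i, ∃ y : N Y, π • y = s • c) →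
      π • m = (c : M) → m ∈ N (Y ∩ T) := by
    intro T c m h hm
    refine (hmem _ _).mpr fun i hi => ?_
    obtain ⟨s, hs, y, hy⟩ := h i hi.2
    have hy' : s • m = (y : M) := by
      refine sub_eq_zero.mp (hπ _ ?_)
      rw [smul_sub, sub_eq_zero, smul_comm, hm]
      exact (congrArg Subtype.val hy).symm
    obtain ⟨s', hs', z, hz⟩ := (hmem Y _).mp y.2 i hi.1
    exact ⟨s' * s, fun h => ((inferInstance : (𝔓 i).IsPrime).mem_or_mem h).elim hs' hs, z,
      by rw [hz, mul_smul, hy']⟩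
  have hB : ∀ (T : Set ι), T = Z ∨ T = Zᶜ → ∀ m ∈ N (Y ∩ T), m ∈ N Z ⊔ N Zᶜ := by
    intro T hT m hm
    obtain ⟨a, ha, b, hb, rfl⟩ := hsplitY m
    refine add_mem (hA ha) ?_
    have hbT : b ∈ N T := (hmem T _).mpr fun i hi => by
      by_cases hiY : i ∈ Y
      · obtain ⟨s, hs, y, hy⟩ := (hmem _ _).mp hm i ⟨hiY, hi⟩
        obtain ⟨s', hs', y', hy'⟩ := (hmem _ _).mp ha i hiY
        refine ⟨s * s', fun h => ((inferInstance : (𝔓 i).IsPrime).mem_or_mem h).elim hs hs',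
          s' • y - s • y', ?_⟩
        rw [smul_sub, smul_comm π s' y, smul_comm π s y', hy, hy', smul_smul, smul_smul, smul_add,
          mul_comm s' s]
        abel
      · exact (hmem _ _).mp hb i hiY
    rcases hT with rfl | rfl
    · exact Submodule.mem_sup_left hbT
    · exact Submodule.mem_sup_right hbT
  rw [hkey, hkey, ← Submodule.map_sup, eq_top_iff]
  intro q _
  obtain ⟨m, rfl⟩ := Submodule.mkQ_surjective P q
  refine ⟨m, ?_, rfl⟩
  obtain ⟨a, ha, b, hb, rfl⟩ := hsplitY m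
  refine add_mem (hA ha) ?_
  obtain ⟨c₁, c₂, h, h1, h2⟩ := hsplitZ (π • b) (hπN Y b)
  have hsum : (c₁ : M) + c₂ = π • b := congrArg Subtype.val h
  have hc : (c₁ : M) ∈ P := by
    have hz : Submodule.mkQ P (c₁ : M) ∈ K Set.univ := by
      rw [hK]
      simp only [Submodule.mem_iInf]
      intro i _
      rw [mem_ker_loc]
      by_cases hi : i ∈ Z
      · exact (hmem _ _).mp (hvan Z c₁ h1) i hi
      · obtain ⟨s, hs, y, hy⟩ := (hmem _ _).mp (hvan Zᶜ c₂ h2) i hi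
        refine ⟨s, hs, s • b - y, ?_⟩
        rw [smul_sub, hy, smul_comm, ← smul_sub, ← hsum, add_sub_cancel_right]
    rw [htf, Submodule.mem_bot] at hz
    exact (Submodule.Quotient.mk_eq_zero _).mp hz
  obtain ⟨m₁, hm₁⟩ := (mem_span_smul_top π M _).mp hc
  have hm₂ : π • (b - m₁) = (c₂ : M) := by rw [smul_sub, hm₁, ← hsum, add_sub_cancel_left]
  rw [← add_sub_cancel m₁ b]
  exact add_mem (hB Z (Or.inl rfl) m₁ (hlow Z c₁ m₁ h1 hm₁))
    (hB Zᶜ (Or.inr rfl) _ (hlow Zᶜ c₂ _ h2 hm₂))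

end Groth.Agent.S18365
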