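import Groth.Statements.S18369
import Groth.Agent.S2329
import Groth.Agent.S2327
import Groth.Agent.S3565
import Groth.Agent.S9716
import Groth.Agent.S4384
import Groth.Agent.S4381
import Groth.Agent.AbVarLib.Defect
import Groth.Agent.AbVarLib.Basics
import Groth.Agent.GrpScheme.AVPow
import Groth.Agent.GrpScheme.PowPullback
-- import your own Groth.Agent.* helpers here

set_option autoImplicit false
universe u
open CategoryTheory CategoryTheory.Limits MonoidalCategory CartesianMonoidalCategory MonObj GrpObj AlgebraicGeometry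
open AbVar

namespace Groth.Agent.S18369

/-- Let k be a field, A an abelian variety over k (a proper smooth k-group scheme with geometrically
connected fibres) with group law m : A × A → A and projections p₁, p₂, L an ample invertible
O_A-module, and N an invertible O_A-module whose class lies in the dual abelian variety, expressed
as m^*N ≅ p₁^*N ⊗ p₂^*N. Then L ⊗ N is again ample; so ampleness of an invertible module on A
depends only on its class modulo Pic⁰. -/
theorem result (k : Type u) [Field k]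
    (A : Over (Spec (CommRingCat.of k))) [GrpObj A] [IsProper A.hom] [Smooth A.hom] [GeometricallyConnected A.hom]
    (L N : A.left.Modules) (hL : CohB1.IsAmple L) (hN : PicF.IsInvertible N)
    (hN0 : Nonempty ((Scheme.Modules.pullback μ[A].left).obj N ≅
      CohB1.tensorMod ((Scheme.Modules.pullback (fst A A).left).obj N) ((Scheme.Modules.pullback (snd A A).left).obj N))) :
    CohB1.IsAmple (CohB1.tensorMod L N) := by
  open Groth.Agent in
  open scoped Groth.Agent.PicLaw in
  exact (by
    have := AbVarLib.Basics.geometricallyIntegral A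
    have := GrpScheme.AVComm.isCommMonObj A
    have := AbVarLib.Basics.isIntegral_left A
    have : CompactSpace A.left := hL.2.1
    have : A.left.IsSeparated := AmpleLib.isSeparated_of_isAmple hL
    have : IsLocallyNoetherian A.left := LocallyOfFiniteType.isLocallyNoetherian A.hom
    obtain ⟨n₀, hn₀, hbig⟩ := S2329.result A.left L N hL hN
    let j : A ⟶ A := (𝟙 A)⁻¹
    have hjj : j ≫ j = 𝟙 A := by rw [GrpObj.comp_inv, Category.comp_id, _root_.inv_inv]
    have : IsIso j := ⟨j, hjj, hjj⟩
    have : IsIso j.left := inferInstanceAs (IsIso ((Over.forget _).map j))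
    have hjL : CohB1.IsAmple ((Scheme.Modules.pullback j.left).obj L) :=
      AmpleLib.isAmple_pullback_of_isInducing _ j.left.homeomorph.isInducing hL
    obtain ⟨hPi, hP⟩ := GrpScheme.PowPullback.cls_tensorPow hjL.1 n₀
    have hPa : CohB1.IsAmple (CohB1.tensorPow ((Scheme.Modules.pullback j.left).obj L) n₀) :=
      (S2327.result A.left _ hjL.1 n₀ hn₀).mp hjL
    have hB := (hbig (n₀ + 1) (Nat.le_succ _)).1
    obtain ⟨hQi, hQ⟩ := GrpScheme.PowPullback.cls_tensorPow hL.1 (n₀ + 1)
    have hC : CohB1.IsAmple (CohB1.tensorMod (CohB1.tensorMod (CohB1.tensorPow L (n₀ + 1)) N)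
        (CohB1.tensorPow ((Scheme.Modules.pullback j.left).obj L) n₀)) :=
      (S4381.result A.hom _).mp (S4384.result A.hom _ _ ((S4381.result A.hom _).mpr hB) ((S4381.result A.hom _).mpr hPa))
    have hD := (S2327.result A.left _ hC.1 (2 * n₀ + 1) (by omega)).mp hC
    obtain ⟨hRi, hR⟩ := GrpScheme.PowPullback.cls_tensorPow hC.1 (2 * n₀ + 1)
    -- pullback along multiplication by an odd number
    obtain ⟨hfin, hsurj⟩ := GrpScheme.AVPow.isFinite_surjective_pow A (n := 2 * n₀ + 1) (by omega)
    have : IsMonHom (𝟙 A ^ (2 * n₀ + 1)) :=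
      { one_hom := by rw [MonObj.comp_pow, Category.comp_id, MonObj.one_eq_one, one_pow]
        mul_hom := by
          rw [MonObj.comp_pow, Category.comp_id, MonObj.mul_eq_mul, MonObj.comp_mul,
            tensorHom_fst, tensorHom_snd, MonObj.comp_pow, MonObj.comp_pow, Category.comp_id, Category.comp_id,
            mul_pow] }
    have : Flat (𝟙 A ^ (2 * n₀ + 1)).left := GrpScheme.HomFlat.flat_of_surjective _
    have hfree := ((S9716.result (𝟙 A ^ (2 * n₀ + 1)).left).mpr ⟨inferInstance, inferInstance, inferInstance⟩).2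
    have hLN := PicLaw.isInvertible_tensor hL.1 hN
    rw [← S4381.result A.hom, S3565.result A.hom (𝟙 A ^ (2 * n₀ + 1)).left hfree _ hLN, S4381.result]
    refine AmpleLib.isAmple_of_iso ((PicLaw.iso_iff hD.1 (PicLoc.isInvertible_pullback _ hLN)).mpr ?_).some hD
    set l := PicGrp.cls L hL.1 with hl
    set ν := PicGrp.cls N hN with hν
    have hmul : ∀ {V : Over (Spec (CommRingCat.of k))} (x y : V ⟶ A),
        PicLaw.Mumford.op (x * y) ν = PicLaw.Mumford.op x ν * PicLaw.Mumford.op y ν := fun x y => by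
      have h := (PicLaw.iso_iff (PicLoc.isInvertible_pullback _ hN) (PicLaw.isInvertible_tensor
        (PicLoc.isInvertible_pullback _ hN) (PicLoc.isInvertible_pullback _ hN))).mp hN0
      rw [PicLaw.cls_tensor (PicLoc.isInvertible_pullback _ hN) (PicLoc.isInvertible_pullback _ hN),
        PicLaw.cls_pullback _ hN, PicLaw.cls_pullback _ hN, PicLaw.cls_pullback _ hN] at h
      have h' : PicLaw.Mumford.op μ[A] ν = PicLaw.Mumford.op (fst A A) ν * PicLaw.Mumford.op (snd A A) ν := h
      rw [show x * y = lift x y ≫ μ[A] from Hom.mul_def _ _, PicLaw.Mumford.op_comp, h', map_mul,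
        ← PicLaw.Mumford.op_comp, ← PicLaw.Mumford.op_comp, lift_fst, lift_snd]
    have hpow : ∀ m : ℕ, PicLaw.Mumford.op (𝟙 A ^ m) ν = ν ^ m := fun m => by
      induction m with
      | zero => rw [pow_zero, pow_zero, AbVarLib.CubeCons.op_one]
      | succ m ih => rw [pow_succ, pow_succ, hmul, ih]; exact congrArg (_ * ·) (PicLaw.pl_id _)
    have hd1 : (2 * n₀ + 1) * (2 * n₀ + 1 + 1) / 2 = (2 * n₀ + 1) * (n₀ + 1) := by
      rw [show (2 * n₀ + 1) * (2 * n₀ + 1 + 1) = (2 * n₀ + 1) * (n₀ + 1) * 2 by ring, Nat.mul_div_cancel _ (by norm_num)]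
    have hd2 : (2 * n₀ + 1) * (2 * n₀ + 1 - 1) / 2 = (2 * n₀ + 1) * n₀ := by
      rw [Nat.add_sub_cancel, show (2 * n₀ + 1) * (2 * n₀) = (2 * n₀ + 1) * n₀ * 2 by ring, Nat.mul_div_cancel _ (by norm_num)]
    rw [hR, PicLaw.cls_tensor hB.1 hPi, PicLaw.cls_tensor hQi hN, hP, hQ, PicLaw.cls_pullback _ hL.1,
      PicLaw.cls_pullback _ hLN, PicLaw.cls_tensor hL.1 hN, map_mul, ← hl, ← hν]
    show _ = PicLaw.Mumford.op (𝟙 A ^ (2 * n₀ + 1)) l * PicLaw.Mumford.op (𝟙 A ^ (2 * n₀ + 1)) ν
    rw [hpow, GrpScheme.PowPullback.op_pow (Cube.cubeHyp A), hd1, hd2,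
      show PicLaw.Mumford.op (𝟙 A) l = l from PicLaw.pl_id l, mul_pow, mul_pow, ← pow_mul, ← pow_mul,
      Nat.mul_comm (n₀ + 1), Nat.mul_comm n₀]
    show _ * (PicLaw.Mumford.op j l) ^ _ = _
    simp only [j]
    exact mul_right_comm _ _ _)

end Groth.Agent.S18369
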