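import Groth.Statements.S1837
import Groth.Agent.CycGlue.GlueMax
-- import your own Groth.Agent.* helpers here

set_option autoImplicit false
universe u
open TensorProduct
open CycAlg

namespace Groth.Agent.S1837

/-- Let A be Noetherian with pairwise distinct maximal ideals 𝔪₁, …, 𝔪_r, and for each i a ring map φ_i
from A_{𝔪_i} to B_i whose kernel and cokernel are killed by a power of 𝔪_i. Then there is an
A-algebra B whose base change to each A_{𝔪_i} is isomorphic to B_i and whose structure map has
kernel and cokernel killed by a power of 𝔪₁ ∩ … ∩ 𝔪_r; if every φ_i is finite (resp. injective,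
resp. surjective) B can be taken with the same property. -/
theorem result (A : Type u) [CommRing A] [IsNoetherianRing A] (r : ℕ) (m : Fin r → Ideal A) (hm : ∀ i, (m i).IsMaximal) (hinj : Function.Injective m) (B : Fin r → Type u) [∀ i, CommRing (B i)] [∀ i, Algebra (Localization.AtPrime (m i)) (B i)] (hker : ∀ i, ∃ n : ℕ, ∀ x ∈ RingHom.ker (algebraMap (Localization.AtPrime (m i)) (B i)), ∀ y ∈ Ideal.map (algebraMap A (Localization.AtPrime (m i))) (m i) ^ n, y * x = 0) (hcoker : ∀ i, ∃ n : ℕ, ∀ y ∈ Ideal.map (algebraMap A (Localization.AtPrime (m i))) (m i) ^ n, ∀ b : B i, y • b ∈ (algebraMap (Localization.AtPrime (m i)) (B i)).range) : ∃ (C : Type u) (_ : CommRing C) (_ : Algebra A C), (∀ i, Nonempty ((Localization.AtPrime (m i)) ⊗[A] C ≃ₐ[Localization.AtPrime (m i)] B i)) ∧ (∃ n : ℕ, (∀ x ∈ RingHom.ker (algebraMap A C), ∀ y ∈ (⨅ i, m i) ^ n, y * x = 0) ∧ (∀ y ∈ (⨅ i, m i) ^ n, ∀ c : C, y • c ∈ (algebraMap A C).range)) ∧ ((∀ i, (algebraMap (Localization.AtPrime (m i)) (B i)).Finite) → (algebraMap A C).Finite) ∧ ((∀ i,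 Function.Injective (algebraMap (Localization.AtPrime (m i)) (B i))) → Function.Injective (algebraMap A C)) ∧ ((∀ i, Function.Surjective (algebraMap (Localization.AtPrime (m i)) (B i))) → Function.Surjective (algebraMap A C)) := by
  classical
  haveI : ∀ i, (m i).IsPrime := fun i => (hm i).isPrime
  letI : ∀ i, Algebra A (B i) := fun i =>
    ((algebraMap (Localization.AtPrime (m i)) (B i)).comp
      (algebraMap A (Localization.AtPrime (m i)))).toAlgebra
  haveI : ∀ i, IsScalarTower A (Localization.AtPrime (m i)) (B i) := fun i =>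
    IsScalarTower.of_algebraMap_eq fun _ => rfl
  obtain ⟨k, f, hf⟩ := Submodule.fg_iff_exists_fin_generating_family.mp
    (IsNoetherian.noetherian (⨅ i, m i))
  choose n₁ hn₁ using hker
  choose n₂ hn₂ using hcoker
  let n := Finset.univ.sup n₁ + Finset.univ.sup n₂
  have hy : ∀ (i) (y : A), y ∈ m i ^ n → ∀ e ≤ n, algebraMap A (Localization.AtPrime (m i)) y ∈
      Ideal.map (algebraMap A (Localization.AtPrime (m i))) (m i) ^ e := fun i y hy e he => by
    rw [← Ideal.map_pow]
    exact Ideal.mem_map_of_mem _ (Ideal.pow_le_pow_right he hy)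
  have d : CycGlue.Data m B f n :=
    { maximal := hm
      inj := hinj
      span := hf
      ker := fun i x hx y hy' => by
        have e := hn₁ i (algebraMap A (Localization.AtPrime (m i)) x) hx _ (hy i y hy' _
          ((Finset.le_sup (f := n₁) (Finset.mem_univ i)).trans (Nat.le_add_right _ _)))
        rw [← map_mul, IsLocalization.map_eq_zero_iff (m i).primeCompl] at e
        obtain ⟨⟨s, hs⟩, h0⟩ := e
        exact ⟨s, hs, h0⟩
      coker := fun i b y hy' => by
        obtain ⟨α, hα⟩ := hn₂ i _ (hy i y hy' _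
          ((Finset.le_sup (f := n₂) (Finset.mem_univ i)).trans (Nat.le_add_left _ _))) b
        obtain ⟨x, s, hs, e⟩ := CycGlue.exists_num_den (B := B) i α
        refine ⟨x, s, hs, ?_⟩
        rw [← e, hα, IsScalarTower.algebraMap_smul] }
  exact ⟨CycGlue.C B f, inferInstance, inferInstance, d.nonempty_algEquiv,
    ⟨n, fun x hx y hy => d.ker_killed hx hy, fun y hy c => d.coker_killed hy c⟩,
    d.finite, d.injective, d.surjective⟩

end Groth.Agent.S1837
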