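import Groth.Statements.S18370
import Groth.Agent.GrpScheme.Basic

set_option autoImplicit false
universe u
open CategoryTheory CategoryTheory.Limits MonoidalCategory CartesianMonoidalCategory MonObj GrpObj AlgebraicGeometry
open GrpSch

namespace Groth.Agent.S18370

/-- Let S be a scheme and G a commutative S-group scheme which is killed by a natural number n, i.e. the
n-th power map of G is the trivial homomorphism, and let n = a·b with a and b coprime. If i_a : G_a
→ G and i_b : G_b → G are scheme-theoretic kernels of the a-th and b-th power maps of G, then the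
morphism G_a ×_S G_b → G sending (x, y) to i_a(x)·i_b(y) is an isomorphism of S-schemes. (The
published statement assumes n ≠ 0; the case n = 0, where {a, b} = {0, 1} and one kernel is all of G
while the other is trivial, is included here.) -/
theorem result {S : Scheme.{u}} (G Ga Gb : Over S)
    [GrpObj G] [IsCommMonObj G] (n a b : ℕ) (hn : n = a * b) (hab : Nat.Coprime a b)
    (hG : (𝟙 G) ^ n = 1)
    (ia : Ga ⟶ G) (hia : AlgGrp.IsKernel ia ((𝟙 G) ^ a))
    (ib : Gb ⟶ G) (hib : AlgGrp.IsKernel ib ((𝟙 G) ^ b)) :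
    IsIso ((fst Ga Gb ≫ ia) * (snd Ga Gb ≫ ib)) := by
  rw [Hom.one_def] at hG
  have hab' : IsCoprime (a : ℤ) (b : ℤ) := Nat.isCoprime_iff_coprime.mpr hab
  obtain ⟨p, q, hpq⟩ := hab'
  have hka : ia ≫ (𝟙 G) ^ a = toUnit Ga ≫ η[G] := hia.w
  have hkb : ib ≫ (𝟙 G) ^ b = toUnit Gb ≫ η[G] := hib.w
  rw [MonObj.comp_pow] at hka hkb
  simp only [Category.comp_id, ← Hom.one_def] at hka hkb
  have hgn : ∀ {T : Over S} (x : T ⟶ G), x ^ n = 1 := by
    intro T x
    have := x ≫= hG
    simpa [MonObj.comp_pow, Hom.one_def] using this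
  have ha : ((𝟙 G) ^ ((q : ℤ) * b)) ≫ (𝟙 G) ^ a = toUnit G ≫ η[G] := by
    rw [MonObj.comp_pow, Category.comp_id, ← Hom.one_def, ← zpow_natCast, ← zpow_mul,
      show (q * b * a : ℤ) = (n : ℤ) * q by subst hn; push_cast; ring, zpow_mul, zpow_natCast,
      hgn, one_zpow]
  have hb : ((𝟙 G) ^ ((p : ℤ) * a)) ≫ (𝟙 G) ^ b = toUnit G ≫ η[G] := by
    rw [MonObj.comp_pow, Category.comp_id, ← Hom.one_def, ← zpow_natCast, ← zpow_mul,
      show (p * a * b : ℤ) = (n : ℤ) * p by subst hn; push_cast; ring, zpow_mul, zpow_natCast,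
      hgn, one_zpow]
  let la := hia.lift _ _ ha
  let lb := hib.lift _ _ hb
  have hla : la ≫ ia = (𝟙 G) ^ ((q : ℤ) * b) := hia.lift_fst _ _ _
  have hlb : lb ≫ ib = (𝟙 G) ^ ((p : ℤ) * a) := hib.lift_fst _ _ _
  have xa : ∀ {T : Over S} (x : T ⟶ Ga), (x ≫ ia) ^ (a : ℤ) = 1 := by
    intro T x; rw [zpow_natCast, ← MonObj.comp_pow, hka, MonObj.comp_one]
  have xb : ∀ {T : Over S} (x : T ⟶ Gb), (x ≫ ib) ^ (b : ℤ) = 1 := by
    intro T x; rw [zpow_natCast, ← MonObj.comp_pow, hkb, MonObj.comp_one]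
  refine ⟨CartesianMonoidalCategory.lift la lb, ?_, ?_⟩
  · refine CartesianMonoidalCategory.hom_ext _ _ ?_ ?_
    · refine hia.hom_ext ?_ (toUnit_unique _ _)
      rw [Category.assoc, Category.assoc, lift_fst_assoc, hla, GrpObj.comp_zpow, Category.comp_id,
        mul_zpow, Category.id_comp]
      rw [show (q * b : ℤ) = 1 - p * a by omega, zpow_sub, zpow_one, mul_comm p, zpow_mul, xa]
      rw [mul_comm (a : ℤ) p, show (1 - p * a : ℤ) = b * q by linarith [hpq], zpow_mul, xb]
      simp
    · refine hib.hom_ext ?_ (toUnit_unique _ _)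
      rw [Category.assoc, Category.assoc, lift_snd_assoc, hlb, GrpObj.comp_zpow, Category.comp_id,
        mul_zpow, Category.id_comp]
      rw [mul_comm p, zpow_mul, xa, one_zpow, _root_.one_mul]
      rw [show (a * p : ℤ) = 1 - b * q by linarith [hpq], zpow_sub, zpow_one, zpow_mul, xb]
      simp
  · rw [comp_mul, lift_fst_assoc, lift_snd_assoc, hla, hlb, ← zpow_add,
      show (q * b + p * a : ℤ) = 1 by linarith [hpq], zpow_one]

end Groth.Agent.S18370
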