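import Groth.Statements.S18372
import Groth.Agent.AbVarLib.AbSub

set_option autoImplicit false
universe u
open CategoryTheory CategoryTheory.Limits MonoidalCategory CartesianMonoidalCategory MonObj GrpObj AlgebraicGeometry
open AbVar

namespace Groth.Agent.S18372

/-- Let k be an algebraically closed field, A an abelian variety over k (a proper smooth k-group scheme
with geometrically connected fibres), U an affine open subset of A containing the unit point and D =
A ∖ U. Then only finitely many k-rational points x of A have a translation t_x : z ↦ z + x (the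
product of the identity and the constant map x in the group Hom(A, A)) with t_x⁻¹(D) = D as sets. -/
theorem result (k : Type u) [Field k] [IsAlgClosed k]
    (A : Over (Spec (CommRingCat.of k))) [GrpObj A] [IsProper A.hom] [Smooth A.hom] [GeometricallyConnected A.hom]
    (U : A.left.Opens) (hU : IsAffineOpen U) (he : Set.range η[A].left.base ⊆ (U : Set A.left)) :
    Set.Finite {x : 𝟙_ (Over (Spec (CommRingCat.of k))) ⟶ A |
      (𝟙 A * (toUnit A ≫ x)).left.base ⁻¹' ((U : Set A.left)ᶜ) = (U : Set A.left)ᶜ} := by
  open Groth.Agent.AbVarLib in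
  exact by
    by_contra hinf
    let D : Set A.left := (U : Set A.left)ᶜ
    let tr : (𝟙_ (Over (Spec (CommRingCat.of k))) ⟶ A) → (A ⟶ A) := fun x => 𝟙 A * (toUnit A ≫ x)
    have hcomp : ∀ x y, tr x ≫ tr y = tr (x * y) := fun x y => by
      simp only [tr, MonObj.comp_mul, Category.comp_id]
      rw [← Category.assoc, toUnit_unique ((𝟙 A * (toUnit A ≫ x)) ≫ toUnit A) (toUnit A), _root_.mul_assoc]
    have h1 : tr 1 = 𝟙 A := by simp [tr]
    have hpre : ∀ x y, (tr (x * y)).left.base ⁻¹' D = (tr x).left.base ⁻¹' ((tr y).left.base ⁻¹' D) := fun x y => by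
      rw [← hcomp]; rfl
    let S : Subgroup (𝟙_ (Over (Spec (CommRingCat.of k))) ⟶ A) :=
      { carrier := {x | (tr x).left.base ⁻¹' D = D}
        one_mem' := by show _ = _; rw [h1]; rfl
        mul_mem' := fun {x y} hx hy => by
          show _ = _
          rw [hpre, show (tr y).left.base ⁻¹' D = D from hy]; exact hx
        inv_mem' := fun {x} hx => by
          show _ = _
          have h := hpre x⁻¹ x
          rw [inv_mul_cancel, h1, show (tr x).left.base ⁻¹' D = D from hx] at h
          exact h.symm }
    obtain ⟨Y, _, i, _, hci, hprop, hgi, hYinf, hY⟩ := AbSub.exists_abelian S hinf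
    haveI := hci; haveI := hprop; haveI := hgi; haveI := hYinf
    haveI : IsIntegral Y.left := GeometricallyIntegral.isIntegral_of_subsingleton Y.hom
    haveI : JacobsonSpace Y.left := LocallyOfFiniteType.jacobsonSpace Y.hom
    have hDc : IsClosed D := U.2.isClosed_compl
    have he' : (1 : 𝟙_ (Over (Spec (CommRingCat.of k))) ⟶ A).left (IsLocalRing.closedPoint k) ∈ (U : Set A.left) := by
      refine he ⟨IsLocalRing.closedPoint k, ?_⟩
      rw [Hom.one_def, toUnit_unique (toUnit _) (𝟙 _), Category.id_comp]
    have hU' : ∀ y : 𝟙_ (Over (Spec (CommRingCat.of k))) ⟶ Y, (y ≫ i).left (IsLocalRing.closedPoint k) ∈ (U : Set A.left) := by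
      intro y
      by_contra hy
      let d := y ≫ i
      let L : A ⟶ A := (toUnit A ≫ d) * 𝟙 A
      have hval : ∀ x : 𝟙_ (Over (Spec (CommRingCat.of k))) ⟶ A, x ≫ L = d * x ∧ d ≫ tr x = d * x := fun x => by
        constructor <;>
          simp only [L, tr, MonObj.comp_mul, Category.comp_id, ← Category.assoc] <;>
          rw [toUnit_unique (_ ≫ toUnit A) (𝟙 _), Category.id_comp]
      have hsub : S15608.pts S ⊆ L.left.base ⁻¹' D := by
        rintro _ ⟨x, hx, rfl⟩
        show (x ≫ L).left (IsLocalRing.closedPoint k) ∈ D
        rw [(hval x).1, ← (hval x).2]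
        exact (Set.ext_iff.mp hx (d.left (IsLocalRing.closedPoint k))).mpr hy
      have hinv : y⁻¹ ≫ i = d⁻¹ := map_inv (IsMonHom.monoidHom i _) y
      have h := closure_minimal hsub (hDc.preimage L.left.continuous) (hY y⁻¹)
      have h' : ((y⁻¹ ≫ i) ≫ L).left (IsLocalRing.closedPoint k) ∈ D := h
      rw [(hval _).1, hinv, mul_inv_cancel] at h'
      exact h' he'
    have htop : i.left ⁻¹ᵁ U = ⊤ := by
      rw [← top_le_iff]
      intro z _
      by_contra hz
      obtain ⟨w, hw, hwc⟩ := nonempty_inter_closedPoints (Z := (i.left.base ⁻¹' (U : Set A.left))ᶜ) ⟨z, hz⟩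
        (U.2.preimage i.left.continuous).isClosed_compl.isLocallyClosed
      refine hw ?_
      have h := hU' (TransInv.ptAt Y w hwc)
      rw [show (TransInv.ptAt Y w hwc ≫ i).left (IsLocalRing.closedPoint k) =
        i.left ((TransInv.ptAt Y w hwc).left (IsLocalRing.closedPoint k)) from rfl,
        show (TransInv.ptAt Y w hwc).left (IsLocalRing.closedPoint k) = w from pointOfClosedPoint_apply _ _ _ _] at h
      exact h
    haveI : IsAffine Y.left := by
      have := hU.preimage i.left
      rw [htop] at this
      haveI : IsAffine ((⊤ : Y.left.Opens) : Scheme.{u}) := this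
      exact IsAffine.of_isIso (Scheme.topIso Y.left).inv
    haveI : IsFinite Y.hom := IsFinite.iff_isProper_and_isAffineHom.mpr ⟨inferInstance, inferInstance⟩
    haveI : Finite Y.left := by
      have := IsFinite.finite_preimage_singleton Y.hom (IsLocalRing.closedPoint k)
      have huniv : Y.hom ⁻¹' {IsLocalRing.closedPoint k} = Set.univ :=
        Set.eq_univ_of_forall fun z => Subsingleton.elim (α := PrimeSpectrum k) (Y.hom z) _
      erw [huniv] at this
      exact Set.finite_univ_iff.mp this
    exact not_finite_iff_infinite.mpr hYinf (Finite.of_injective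
      (fun a : 𝟙_ (Over (Spec (CommRingCat.of k))) ⟶ Y => a.left (IsLocalRing.closedPoint k)) fun a b h => AbSub.apply_inj h)

end Groth.Agent.S18372
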