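import Groth.Statements.S18376
import Groth.Agent.PhiStabLib.Basic

set_option autoImplicit false
universe u
open PhiStab

namespace Groth.Agent.S18376
open Groth.Agent.PhiStabLib PhiStab in
lemma val_lt_one {V E : Type u} [Fintype V] [Fintype E] [DecidableEq V] [DecidableEq E]
    {ends : E → V × V} (T : Finset E) (hT : DualGr.IsTree (spanEnds ends T)) (φ : V → ℝ)
    (m : V → ℤ) (b : ℤ) (hφ : ∑ v, φ v = (b : ℝ)) (hm : totDeg m Tᶜ = b)
    (hst : IsStable ends φ m Tᶜ) (e : {e // e ∈ T}) (S : Finset V)
    (hS : S = side (spanEnds ends T) e ∨ Sᶜ = side (spanEnds ends T) e) :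
    val ends φ m Tᶜ S < 1 := by
  have htot : ∑ v, treeParam ends T φ v = ∑ v, (m v : ℝ) := by
    rw [sum_treeParam, hφ, ← hm, totDeg]
    push_cast
    ring
  have h := (tree_forall_iff hT (treeParam ends T φ) m htot (0 < ·) fun _ _ => add_pos).1
    (fun S h1 h2 => by rw [← val_spanEnds]; exact isStable_iff.1 hst S h1 h2) e
  obtain ⟨v1, v2⟩ := val_side_add hT (treeParam ends T φ) m e
  rw [val_spanEnds]
  rcases hS with hS | hS
  · rw [hS, v1]
    linarith [h.2]
  · rw [← compl_compl S, hS, v2]
    have := Finset.sum_add_sum_compl (side (spanEnds ends T) e)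
      (fun v => (m v : ℝ) - treeParam ends T φ v)
    simp only [Finset.sum_sub_distrib] at this
    simp only [Finset.sum_sub_distrib] at h ⊢
    linarith [h.1]

open PhiStab in
/-- Let (V, E, ends) be a connected finite multigraph, b an integer, and φ₁, φ₂ real weightings of the
vertices with Σ_v φ₁ v = Σ_v φ₂ v = b, φ₁ nondegenerate. Then every φ₁-stable sheaf datum (m, N) of
total degree b is φ₂-semistable if and only if φ₂ lies in the closed stability polytope of φ₁, that
is, for every elementary vertex set S and every integer d with d - Σ_{v ∈ S} φ₁ v + cut S / 2 > 0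
one has d - Σ_{v ∈ S} φ₂ v + cut S / 2 ≥ 0. Membership in the closure of the polytope is expressed
by this half-space condition, the form in which the source's proof uses it; the sheaves of degree g
- 1 = b on stable pointed curves with this dual graph enter through their combinatorial data. -/
theorem result {V E : Type u} [Fintype V] [Fintype E] [DecidableEq V] [DecidableEq E]
    (ends : E → V × V)
    (hconn : LabGraph.Connected ends) (b : ℤ) (φ₁ φ₂ : V → ℝ) (h₁ : (∑ v : V, φ₁ v) = (b : ℝ))
    (h₂ : (∑ v : V, φ₂ v) = (b : ℝ)) (hnd : Nondegenerate ends φ₁) :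
    (∀ (m : V → ℤ) (N : Finset E), totDeg m N = b → IsStable ends φ₁ m N → IsSemistable ends φ₂ m N) ↔
      InClosedPolytope ends φ₁ φ₂ := by
  open Groth.Agent.PhiStabLib in
  constructor
  · intro h S hS d hd
    by_contra hneg
    obtain ⟨T, e, hT, hside⟩ := exists_tree_side hconn hS
    obtain ⟨m, ⟨hm, hst⟩, -⟩ := existsUnique_stable T hT b φ₁ h₁ hnd
    have hlt := val_lt_one T hT φ₁ m b h₁ hm hst e S hside
    have hss := h m Tᶜ hm hst S (elementary_nonempty hS).1 (elementary_nonempty hS).2
    unfold val at hlt
    unfold ell at hd hneg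
    have hdd : (degOn ends m Tᶜ S : ℝ) < (d : ℝ) + 1 := by linarith
    have hdi : degOn ends m Tᶜ S ≤ d := by
      rw [← Int.lt_add_one_iff]
      exact_mod_cast hdd
    have : (degOn ends m Tᶜ S : ℝ) ≤ (d : ℝ) := by exact_mod_cast hdi
    push Not at hneg
    linarith
  · intro h m N hm hst
    rw [isSemistable_iff]
    refine forall_of_elementary hconn (by rw [h₂, hm]) (0 ≤ ·) (fun _ _ => add_nonneg) fun S hS => ?_
    have h1 := isStable_iff.1 hst S (elementary_nonempty hS).1 (elementary_nonempty hS).2
    have h2 := h S hS (degOn ends m N S)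
    unfold val at h1 ⊢
    unfold ell at h2
    linarith [h2 (by linarith)]

end Groth.Agent.S18376
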