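import Groth.Statements.S18377
import Groth.Agent.Verlinde.Schur

set_option autoImplicit false
open Complex
open VerlindeComb

namespace Groth.Agent.S18377

open Groth.Agent.Verlinde Finset Matrix Complex

/-- The value of the Gram determinant. -/
theorem gram_det (r k : ℕ) (hr : 1 ≤ r) (v : Fin r → ℕ) (hv : Function.Injective v)
    (hvlt : ∀ i, v i < r + k) :
    (Matrix.of fun i j : Fin r => ∑ a ∈ range (r + k - 1),
      (Exp.ep (r + k) (v i : ℤ) * (Exp.ep (r + k) (v j : ℤ))⁻¹) ^ a).det =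
      (k : ℂ) * ((r : ℂ) + k) ^ (r - 1) := by
  have hN : 0 < r + k := by omega
  have hNc : ((r + k : ℕ) : ℂ) ≠ 0 := by exact_mod_cast hN.ne'
  have h0 := Exp.gram_scalar hN hv hvlt
  have e : (Matrix.of fun i j : Fin r => ∑ a ∈ range (r + k - 1),
      (Exp.ep (r + k) (v i : ℤ) * (Exp.ep (r + k) (v j : ℤ))⁻¹) ^ a) =
      ((r + k : ℕ) : ℂ) • (1 : Matrix (Fin r) (Fin r) ℂ) -
        Matrix.of fun i j => (Exp.ep (r + k) (v i : ℤ))⁻¹ * Exp.ep (r + k) (v j : ℤ) := by
    rw [← h0]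
    ext i j
    simp only [Matrix.sub_apply, of_apply]
    conv_rhs => rw [show r + k = (r + k - 1) + 1 by omega, sum_range_succ]
    rw [← show r + k = (r + k - 1) + 1 by omega, eq_sub_iff_add_eq, add_right_inj, mul_pow, inv_pow]
    have hi := Exp.ep_pow_self hN (v i : ℤ)
    have hj := Exp.ep_pow_self hN (v j : ℤ)
    rw [show r + k = (r + k - 1) + 1 by omega, pow_succ] at hi hj
    rw [← show r + k = (r + k - 1) + 1 by omega] at hi hj
    rw [eq_inv_of_mul_eq_one_left hi, eq_inv_of_mul_eq_one_left hj, inv_inv]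
  rw [e, Exp.det_scalar_sub_outer _ hNc]
  simp only [mul_inv_cancel₀ (Exp.ep_ne_zero _ _), sum_const, card_univ, Fintype.card_fin,
    nsmul_eq_mul, mul_one]
  conv_lhs => rw [show r = (r - 1) + 1 by omega, pow_succ]
  rw [← show r = (r - 1) + 1 by omega]
  field_simp
  push_cast
  ring

/-- The identity for the alternants. -/
theorem aux (r k : ℕ) (hr : 1 ≤ r) (hk : 1 ≤ k) (v : Fin r → ℕ) (hv : Function.Injective v)
    (hvlt : ∀ i, v i < r + k) (z : Fin r → ℂ) (hz : ∀ j, z j = Exp.ep (r + k) (v j : ℤ)) :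
    (∑ μ ∈ (Finset.univ : Finset (Fin r → Fin k)).filter (fun μ : Fin r → Fin k => Antitone μ),
        Basic.alt z (fun i => (μ i : ℕ) + Basic.rho r i) / Basic.alt z (Basic.rho r) *
          (Basic.alt z (fun i => k - (μ (Fin.rev i) : ℕ) + Basic.rho r i) / Basic.alt z (Basic.rho r))) =
      (∏ j, z j) ^ k * ((k : ℂ) * ((r : ℂ) + k) ^ (r - 1)) /
        (Basic.alt z (Basic.rho r) * Basic.alt (fun j => (z j)⁻¹) (Basic.rho r)) := by
  have hN : 0 < r + k := by omega
  obtain rfl : z = fun j => Exp.ep (r + k) (v j : ℤ) := funext hz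
  have hinj := Exp.ep_injective hN hv hvlt
  rw [sum_congr rfl fun μ _ => by
    rw [Basic.schur_dual hr _ hinj (fun j => Exp.ep_pow_self hN _) (fun i => (μ i : ℕ))
      (fun i => (μ i).2.le)]]
  rw [← gram_det r k hr v hv hvlt, ← Basic.sum_alt_mul_alt (N := r + k - 1),
    ← Basic.sum_staircase (show r + k - 1 + 1 = r + k by omega) (by omega)
      (fun e => Basic.alt (fun j => Exp.ep (r + k) (v j : ℤ)) e *
        Basic.alt (fun j => (Exp.ep (r + k) (v j : ℤ))⁻¹) e),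
    mul_sum, sum_div]
  refine sum_congr rfl fun μ _ => ?_
  ring


/-- Let r, k ≥ 1 be integers and v_1 > v_2 > ⋯ > v_r ≥ 0 integers below r + k; put z_j = exp(2πi v_j /
(r + k)) and, for μ = (μ_1, …, μ_r), let S_μ(z) = det(z_j^{μ_i + r - i}) / det(z_j^{r - i}) be the
value of the Schur polynomial (the z_j are distinct, so the Vandermonde denominator is nonzero).
Then, summing over all μ with k > μ_1 ≥ ⋯ ≥ μ_r ≥ 0 and writing μ* = (k - μ_r, …, k - μ_1), one has
Σ_μ S_μ(z) S_{μ*}(z) = exp(2πi k (v_1 + ⋯ + v_r) / (r + k)) · k (r + k)^{r-1} / ∏_{i<j} (2 sin(π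
(v_i - v_j) / (r + k)))². Indices are 0-based below: μ i stands for μ_{i+1}. -/
theorem result (r k : ℕ) (hr : 1 ≤ r) (hk : 1 ≤ k)
    (v : Fin r → ℕ) (hv : StrictAnti v) (hvlt : ∀ i, v i < r + k)
    (z : Fin r → ℂ) (hz : ∀ j, z j = Complex.exp (2 * Real.pi * Complex.I * (v j : ℂ) / ((r : ℂ) + k)))
    (S : (Fin r → ℕ) → ℂ)
    (hS : ∀ μ : Fin r → ℕ, S μ =
      (Matrix.of fun i j : Fin r => z j ^ (μ i + (r - 1 - (i : ℕ)))).det /
        (Matrix.of fun i j : Fin r => z j ^ (r - 1 - (i : ℕ))).det) :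
    (∑ μ ∈ (Finset.univ : Finset (Fin r → Fin k)).filter (fun μ : Fin r → Fin k => Antitone μ),
        S (fun i => (μ i : ℕ)) * S (fun i => k - (μ (Fin.rev i) : ℕ))) =
      Complex.exp (2 * Real.pi * Complex.I * (k : ℂ) * ((∑ j, v j : ℕ) : ℂ) / ((r : ℂ) + k)) *
        ((k : ℂ) * ((r : ℂ) + k) ^ (r - 1)) /
        (∏ p ∈ (Finset.univ : Finset (Fin r × Fin r)).filter (fun p => p.1 < p.2),
          (((2 : ℝ) * Real.sin (Real.pi * ((v p.1 : ℝ) - (v p.2 : ℝ)) / ((r : ℝ) + k))) ^ 2 : ℝ) : ℂ) := by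
  obtain hz' : ∀ j, z j = Exp.ep (r + k) (v j : ℤ) := fun j => (hz j).trans (Schur.exp_eq_ep r k _)
  simp only [hS]
  refine (aux r k hr hk v hv.injective hvlt z hz').trans ?_
  rw [Exp.alt_rho_mul_alt_rho_inv (by omega : 0 < r + k) v z hz']
  congr 1
  · congr 1
    simp only [hz', Schur.prod_ep, Exp.ep_pow]
    rw [Exp.ep]
    push_cast
    ring_nf
  · push_cast
    rfl

end Groth.Agent.S18377
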