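import Groth.Statements.S18378
import Groth.Agent.Verlinde.Schur

set_option autoImplicit false
open Complex
open VerlindeComb

namespace Groth.Agent.S18378

open Groth.Agent.Verlinde Finset Matrix Complex

theorem algebra_step {cm cr cm' cr' cs Z A B Δ Δ' : ℂ} (hcr : cr ≠ 0) (hcr' : cr' ≠ 0)
    (hcm' : cm' ≠ 0) (hΔ : Δ ≠ 0) (hΔ' : Δ' ≠ 0) (hM : cm' * cs * Z = 1) :
    cr' / (cr * Δ * Δ') * (cm * cr * A * (cm'⁻¹ * cr'⁻¹ * B)) =
      cm * cs * (A / Δ) * (Z * (B / Δ')) := by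
  field_simp
  linear_combination -(cm * A * B) * hM

/-- The identity in exponential points. -/
theorem aux (r k : ℕ) (hr : 1 ≤ r) (v v' : Fin r → ℕ) (hv : StrictAnti v)
    (hvlt : ∀ i, v i < r + k) (hv' : StrictAnti v') (hv'lt : ∀ i, v' i < r + k)
    (hne : ¬ ∃ a : ℤ, ∀ i, (v i : ℤ) - (v' i : ℤ) = a)
    (z z' : Fin r → ℂ) (hz : ∀ j, z j = Exp.ep (r + k) (v j : ℤ))
    (hz' : ∀ j, z' j = Exp.ep (r + k) (v' j : ℤ)) :
    (∑ μ ∈ (Finset.univ : Finset (Fin r → Fin (k + 1))).filter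
        (fun μ : Fin r → Fin (k + 1) => Antitone μ ∧ ∀ i : Fin r, (i : ℕ) = r - 1 → (μ i : ℕ) = 0),
      Exp.ep (r * (r + k)) (-((∑ j, v j : ℕ) : ℤ)) ^ (∑ i, (μ i : ℕ)) *
      Exp.ep (r * (r + k)) (-((∑ j, v' j : ℕ) : ℤ)) ^ (∑ i, (k - (μ (Fin.rev i) : ℕ))) *
      (Basic.alt z (fun i => (μ i : ℕ) + Basic.rho r i) / Basic.alt z (Basic.rho r)) *
      (Basic.alt z' (fun i => k - (μ (Fin.rev i) : ℕ) + Basic.rho r i) /
        Basic.alt z' (Basic.rho r))) = 0 := by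
  obtain rfl : z = fun j => Exp.ep (r + k) (v j : ℤ) := funext hz
  obtain rfl : z' = fun j => Exp.ep (r + k) (v' j : ℤ) := funext hz'
  have hN : 0 < r + k := by omega
  set c := Exp.ep (r * (r + k)) (-((∑ j, v j : ℕ) : ℤ)) with hc
  set c' := Exp.ep (r * (r + k)) (-((∑ j, v' j : ℕ) : ℤ)) with hc'
  set Z' := ∏ j, Exp.ep (r + k) (v' j : ℤ) with hZ'
  set A := fun e => Basic.alt (Exp.pt (r + k) r v) e with hA
  set A' := fun e => Basic.alt (fun j => (Exp.pt (r + k) r v' j)⁻¹) e with hA'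
  have hkey := Exp.key (show 0 < r by omega) hN hv hvlt hv' hv'lt hne
  let Φ : (Fin r → ℕ) → ℂ := fun e =>
    if ∀ i : Fin r, (i : ℕ) = r - 1 → e i = 0 then A e * A' e else 0
  have hsum : ∑ μ ∈ (Finset.univ : Finset (Fin r → Fin (k + 1))).filter
      (fun μ : Fin r → Fin (k + 1) => Antitone μ),
      Φ (fun i => (μ i : ℕ) + Basic.rho r i) = 0 := by
    rw [Basic.sum_staircase (m := r + k) (by omega) (by omega) Φ]
    simp only [Φ]
    rw [← sum_filter, filter_filter]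
    exact hkey
  have hsplit : c' ^ r * Z' = 1 := by
    rw [hc', hZ', Schur.prod_ep, Exp.ep_pow]
    rw [Exp.ep, Exp.ep, ← Complex.exp_add]
    have h1 : ((r : ℂ)) ≠ 0 := by exact_mod_cast (show r ≠ 0 by omega)
    have h2 : ((r : ℂ) + k) ≠ 0 := by exact_mod_cast hN.ne'
    rw [← Complex.exp_zero]
    congr 1
    push_cast
    field_simp
    ring
  rw [← mul_zero (c' ^ (∑ i, Basic.rho r i) /
      (c ^ (∑ i, Basic.rho r i) * Basic.alt (fun j => Exp.ep (r + k) (v j : ℤ)) (Basic.rho r) *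
        Basic.alt (fun j => (Exp.ep (r + k) (v' j : ℤ))⁻¹) (Basic.rho r))), ← hsum]
  simp only [Φ]
  rw [← sum_filter, filter_filter, mul_sum]
  refine sum_congr ?_ fun μ hμ => ?_
  · ext μ
    simp only [mem_filter, mem_univ, true_and, and_congr_right_iff]
    intro _
    refine forall_congr' fun i => imp_congr_right fun hi => ?_
    simp only [Basic.rho]
    omega
  · rw [Basic.schur_dual hr _ (Exp.ep_injective hN hv'.injective hv'lt)
      (fun j => Exp.ep_pow_self hN _) (fun i => (μ i : ℕ)) (fun i => Nat.le_of_lt_succ (μ i).2)]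
    have hrk := Schur.sum_rev_sub (k := k) (fun i => (μ i : ℕ)) (fun i => Nat.le_of_lt_succ (μ i).2)
    have hM : c' ^ (∑ i, (μ i : ℕ)) * c' ^ (∑ i, (k - (μ (Fin.rev i) : ℕ))) * Z' ^ k = 1 := by
      rw [← pow_add, hrk, pow_mul, ← mul_pow, hsplit, one_pow]
    have hc0 : c ≠ 0 := Exp.ep_ne_zero _ _
    have hc0' : c' ≠ 0 := Exp.ep_ne_zero _ _
    have e1 : A (fun i => (μ i : ℕ) + Basic.rho r i) =
        c ^ (∑ i, (μ i : ℕ)) * c ^ (∑ i, Basic.rho r i) *
          Basic.alt (fun j => Exp.ep (r + k) (v j : ℤ)) (fun i => (μ i : ℕ) + Basic.rho r i) := by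
      rw [hA, ← pow_add, ← sum_add_distrib, ← Basic.alt_smul]
      refine congrArg (fun u => Basic.alt u _) (funext fun j => ?_)
      exact Schur.pt_eq (by omega) v j
    have e2 : A' (fun i => (μ i : ℕ) + Basic.rho r i) =
        c'⁻¹ ^ (∑ i, (μ i : ℕ)) * c'⁻¹ ^ (∑ i, Basic.rho r i) *
          Basic.alt (fun j => (Exp.ep (r + k) (v' j : ℤ))⁻¹) (fun i => (μ i : ℕ) + Basic.rho r i) := by
      rw [hA', ← pow_add, ← sum_add_distrib, ← Basic.alt_smul]
      refine congrArg (fun u => Basic.alt u _) (funext fun j => ?_)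
      rw [Schur.pt_inv_eq (by omega) v' j, hc', Exp.ep_inv (r * (r + k)), neg_neg]
    rw [e1, e2, inv_pow, inv_pow]
    have h1 := Basic.alt_rho_ne_zero (Exp.ep_injective hN hv.injective hvlt)
    have h2 := Basic.alt_rho_ne_zero
      (show Function.Injective (fun j => (Exp.ep (r + k) (v' j : ℤ))⁻¹) from
        inv_injective.comp (Exp.ep_injective hN hv'.injective hv'lt))
    exact (algebra_step (pow_ne_zero _ hc0) (pow_ne_zero _ hc0') (pow_ne_zero _ hc0') h1 h2 hM).symm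

/-- Let r, k ≥ 1 be integers and v, v' two integer vectors with r + k > v_1 > ⋯ > v_r ≥ 0 and r + k >
v'_1 > ⋯ > v'_r ≥ 0 whose difference v - v' is not a constant vector (a, …, a). Put z_j = exp(2πi
v_j / (r + k)), z'_j = exp(2πi v'_j / (r + k)), let S_μ(w) = det(w_j^{μ_i + r - i}) / det(w_j^{r -
i}) be the Schur value at w = z or z', and write |x| for the sum of the coordinates of a vector and
μ* = (k - μ_r, …, k - μ_1). Then the sum over all μ with k ≥ μ_1 ≥ ⋯ ≥ μ_{r-1} ≥ μ_r = 0 of exp(-2πi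
|μ| |v| / (r (r + k))) · exp(-2πi |μ*| |v'| / (r (r + k))) · S_μ(z) · S_{μ*}(z') is zero. The
vanishing is the orthogonality of distinct characters and holds exactly for non-equivalent v, v';
for v - v' constant the sum is nonzero. Indices are 0-based below: μ i stands for μ_{i+1}. -/
theorem result (r k : ℕ) (hr : 1 ≤ r)
    (hk : 1 ≤ k) (v v' : Fin r → ℕ) (hv : StrictAnti v) (hvlt : ∀ i, v i < r + k) (hv' : StrictAnti v')
    (hv'lt : ∀ i, v' i < r + k) (hne : ¬ ∃ a : ℤ, ∀ i, (v i : ℤ) - (v' i : ℤ) = a)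
    (z z' : Fin r → ℂ) (hz : ∀ j, z j = Complex.exp (2 * Real.pi * Complex.I * (v j : ℂ) / ((r : ℂ) + k)))
    (hz' : ∀ j, z' j = Complex.exp (2 * Real.pi * Complex.I * (v' j : ℂ) / ((r : ℂ) + k)))
    (S S' : (Fin r → ℕ) → ℂ)
    (hS : ∀ μ : Fin r → ℕ, S μ =
      (Matrix.of fun i j : Fin r => z j ^ (μ i + (r - 1 - (i : ℕ)))).det /
        (Matrix.of fun i j : Fin r => z j ^ (r - 1 - (i : ℕ))).det)
    (hS' : ∀ μ : Fin r → ℕ, S' μ =
      (Matrix.of fun i j : Fin r => z' j ^ (μ i + (r - 1 - (i : ℕ)))).det /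
        (Matrix.of fun i j : Fin r => z' j ^ (r - 1 - (i : ℕ))).det) :
    (∑ μ ∈ (Finset.univ : Finset (Fin r → Fin (k + 1))).filter
        (fun μ : Fin r → Fin (k + 1) => Antitone μ ∧ ∀ i : Fin r, (i : ℕ) = r - 1 → (μ i : ℕ) = 0),
      Complex.exp (-(2 * Real.pi * Complex.I * ((∑ i, (μ i : ℕ) : ℕ) : ℂ) * ((∑ j, v j : ℕ) : ℂ) /
          ((r : ℂ) * ((r : ℂ) + k)))) *
      Complex.exp (-(2 * Real.pi * Complex.I * ((∑ i, (k - (μ (Fin.rev i) : ℕ)) : ℕ) : ℂ) *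
          ((∑ j, v' j : ℕ) : ℂ) / ((r : ℂ) * ((r : ℂ) + k)))) *
      S (fun i => (μ i : ℕ)) * S' (fun i => k - (μ (Fin.rev i) : ℕ))) = 0 := by
  obtain hz₁ : ∀ j, z j = Exp.ep (r + k) (v j : ℤ) := fun j => (hz j).trans (Schur.exp_eq_ep r k _)
  obtain hz₂ : ∀ j, z' j = Exp.ep (r + k) (v' j : ℤ) := fun j => (hz' j).trans (Schur.exp_eq_ep r k _)
  refine Eq.trans ?_ (aux r k hr v v' hv hvlt hv' hv'lt hne z z' hz₁ hz₂)
  refine sum_congr rfl fun μ _ => ?_
  simp only [hS, hS']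
  congr 1
  congr 1
  congr 1
  all_goals
    rw [Exp.ep_pow, Exp.ep]
    congr 1
    push_cast
    ring

end Groth.Agent.S18378
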