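import Groth.Statements.S18379
import Groth.Agent.Verlinde.Schur

set_option autoImplicit false
open VerlindeComb

namespace Groth.Agent.S18379

open Groth.Agent.Verlinde Finset Matrix Complex


/-- Let r, k ≥ 1 be integers. Summing over all integer vectors v with r + k > v_1 > v_2 > ⋯ > v_{r-1} >
v_r = 0, one has Σ_v ∏_{i<j} (2 sin(π (v_i - v_j) / (r + k)))² = r (r + k)^{r-1}; that is, the
genus-zero Verlinde number of rank r and level k with no parabolic points, defined as (r (r +
k)^{r-1})⁻¹ times this sum, equals 1. Indices are 0-based below: v i stands for v_{i+1}. -/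
theorem result (r k : ℕ) (hr : 1 ≤ r) (hk : 1 ≤ k) :
    (∑ v ∈ (Finset.univ : Finset (Fin r → Fin (r + k))).filter
        (fun v : Fin r → Fin (r + k) => StrictAnti v ∧ ∀ i : Fin r, (i : ℕ) = r - 1 → (v i : ℕ) = 0),
      ∏ p ∈ (Finset.univ : Finset (Fin r × Fin r)).filter (fun p => p.1 < p.2),
        ((2 : ℝ) * Real.sin (Real.pi * ((v p.1 : ℕ) - (v p.2 : ℕ) : ℝ) / ((r : ℝ) + k))) ^ 2) =
      (r : ℝ) * ((r : ℝ) + k) ^ (r - 1) := by
  have hN : 0 < r + k := by omega
  have hNc : ((r + k : ℕ) : ℂ) ≠ 0 := by exact_mod_cast hN.ne'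
  set x : Fin r → ℂ := fun i => Exp.ep (r + k) (Basic.rho r i : ℤ) with hx
  have hrho : Function.Injective (Basic.rho r) := fun a b h => by
    have := a.2; have := b.2; simp [Basic.rho] at h; exact Fin.ext (by omega)
  have hrholt : ∀ i, Basic.rho r i < r + k := fun i => by simp [Basic.rho]; omega
  have hsum := Basic.sum_alt_mul_alt_zero (show 0 < r by omega) hN x (fun i => (x i)⁻¹)
  rw [Exp.gram_scalar hN hrho hrholt] at hsum
  have hJ : Matrix.of (fun (_ _ : Fin r) => (1 : ℂ)) =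
      Matrix.of fun i j : Fin r => (fun _ => (1 : ℂ)) i * (fun _ => (1 : ℂ)) j := by ext i j; simp
  rw [hJ, Exp.det_scalar_sub_outer _ hNc, det_smul, det_one, Fintype.card_fin] at hsum
  apply Complex.ofReal_injective
  rw [Complex.ofReal_sum]
  have hval : (((r : ℝ) * ((r : ℝ) + k) ^ (r - 1) : ℝ) : ℂ) =
      ((r + k : ℕ) : ℂ) ^ r * 1 - ((r + k : ℕ) : ℂ) ^ r *
        (1 - (∑ _i : Fin r, (1 : ℂ) * 1) / ((r + k : ℕ) : ℂ)) := by
    conv_rhs => rw [show r = (r - 1) + 1 by omega, pow_succ]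
    rw [← show r = (r - 1) + 1 by omega]
    simp only [sum_const, card_univ, Fintype.card_fin, nsmul_eq_mul, mul_one]
    field_simp
    push_cast
    ring
  rw [hval, ← hsum]
  refine sum_congr rfl fun v _ => ?_
  have h := Exp.alt_rho_mul_alt_rho_inv hN (fun j => (v j : ℕ))
    (fun j => Exp.ep (r + k) ((v j : ℕ) : ℤ)) (fun j => rfl)
  rw [Schur.alt_swap, Schur.alt_swap_inv] at h
  rw [hx, h]
  push_cast
  rfl

end Groth.Agent.S18379
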