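import Groth.Statements.S18381
import Groth.Agent.S18377

set_option autoImplicit false
open Complex
open VerlindeComb

namespace Groth.Agent.S18381

open Finset Complex


/-- Fix integers r, k ≥ 1. For g ≥ 0, d ∈ ℤ and parabolic data ω given by a finite family of partitions
λ_x with k ≥ λ_{x,1} ≥ ⋯ ≥ λ_{x,r} ≥ 0, write |ω| = Σ_x |λ_x|, z(v)_j = exp(2πi v_j / (r + k)),
S_λ(v) = det(z(v)_j^{λ_i + r - i}) / det(z(v)_j^{r - i}) (Schur value), P(v) = ∏_{i<j} (2 sin(π (v_i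
- v_j)/(r + k)))², and let V_g(r, d, ω) = (-1)^{d(r-1)} (k/r)^g (r (r+k)^{r-1})^{g-1} Σ_v exp(2πi
(d/r - |ω| / (r (r+k))) Σ_j v_j) · ∏_x S_{λ_x}(v) / P(v)^{g-1}, the sum over integer vectors r + k >
v_1 > ⋯ > v_{r-1} > v_r = 0 (the right-hand side of the Verlinde formula; it depends on ω only
through |ω| and the function v ↦ ∏_x S_{λ_x}(v), and is written that way below, with (r
(r+k)^{r-1})^{g-1} as the g-th power divided once and 1/P^{g-1} as P/P^g). Then V_{g+1}(r, d, ω) =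
Σ_μ V_g(r, d, ω^μ), the sum over all μ with k > μ_1 ≥ ⋯ ≥ μ_r ≥ 0, where ω^μ adjoins to ω the two
partitions μ and μ* = (k - μ_r, …, k - μ_1). Indices are 0-based below. -/
theorem result (r k : ℕ) (hr : 1 ≤ r) (hk : 1 ≤ k)
    (g : ℕ) (d : ℤ) (ι : Type) [Fintype ι] (lam : ι → Fin r → ℕ)
    (hlam : ∀ x, Antitone (lam x) ∧ ∀ i, lam x i ≤ k)
    (z : (Fin r → ℕ) → Fin r → ℂ)
    (hz : ∀ v j, z v j = Complex.exp (2 * Real.pi * Complex.I * (v j : ℂ) / ((r : ℂ) + k)))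
    (S : (Fin r → ℕ) → (Fin r → ℕ) → ℂ)
    (hS : ∀ μ v, S μ v = (Matrix.of fun i j : Fin r => z v j ^ (μ i + (r - 1 - (i : ℕ)))).det /
        (Matrix.of fun i j : Fin r => z v j ^ (r - 1 - (i : ℕ))).det)
    (P : (Fin r → ℕ) → ℝ)
    (hP : ∀ v, P v = ∏ p ∈ (Finset.univ : Finset (Fin r × Fin r)).filter (fun p => p.1 < p.2),
        ((2 : ℝ) * Real.sin (Real.pi * ((v p.1 : ℝ) - (v p.2 : ℝ)) / ((r : ℝ) + k))) ^ 2)
    (V : ℕ → ℤ → ℕ → ((Fin r → ℕ) → ℂ) → ℂ)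
    (hV : ∀ (g' : ℕ) (d' : ℤ) (w : ℕ) (Sω : (Fin r → ℕ) → ℂ), V g' d' w Sω =
        (-1 : ℂ) ^ (d' * ((r : ℤ) - 1)) * ((k : ℂ) / r) ^ g' *
          ((((r : ℂ) * ((r : ℂ) + k) ^ (r - 1)) ^ g') / ((r : ℂ) * ((r : ℂ) + k) ^ (r - 1))) *
          ∑ v ∈ (Finset.univ : Finset (Fin r → Fin (r + k))).filter
            (fun v : Fin r → Fin (r + k) => StrictAnti v ∧ ∀ i : Fin r, (i : ℕ) = r - 1 → (v i : ℕ) = 0),
            Complex.exp (2 * Real.pi * Complex.I * ((d' : ℂ) / r - (w : ℂ) / ((r : ℂ) * ((r : ℂ) + k))) *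
                ((∑ j, (v j : ℕ) : ℕ) : ℂ)) *
              Sω (fun j => (v j : ℕ)) *
              (((P (fun j => (v j : ℕ)) : ℂ)) / ((P (fun j => (v j : ℕ)) : ℂ)) ^ g')) :
    V (g + 1) d (∑ x, ∑ i, lam x i) (fun v => ∏ x, S (lam x) v) =
      ∑ μ ∈ (Finset.univ : Finset (Fin r → Fin k)).filter (fun μ : Fin r → Fin k => Antitone μ),
        V g d ((∑ x, ∑ i, lam x i) + (∑ i, (μ i : ℕ)) + (∑ i, (k - (μ (Fin.rev i) : ℕ))))
          (fun v => (∏ x, S (lam x) v) * S (fun i => (μ i : ℕ)) v *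
            S (fun i => k - (μ (Fin.rev i) : ℕ)) v) := by
  rw [hV]
  simp only [hV]
  set F := (Finset.univ : Finset (Fin r → Fin (r + k))).filter
    (fun v : Fin r → Fin (r + k) => StrictAnti v ∧ ∀ i : Fin r, (i : ℕ) = r - 1 → (v i : ℕ) = 0)
    with hF
  simp only [Finset.mul_sum]
  conv_rhs => rw [Finset.sum_comm]
  refine Finset.sum_congr rfl fun v hv => ?_
  simp only [hF, mem_filter, mem_univ, true_and] at hv
  set vn : Fin r → ℕ := fun j => (v j : ℕ) with hvn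
  have hanti : StrictAnti vn := fun a b hab => hv.1 hab
  have h77 := Groth.Agent.S18377.result r k hr hk vn hanti (fun i => (v i).2) (z vn) (hz vn)
    (fun μ => S μ vn) (fun μ => hS μ vn)
  rw [← Complex.ofReal_prod, ← hP vn] at h77
  have hterm : ∀ μ ∈ (Finset.univ : Finset (Fin r → Fin k)).filter (fun μ : Fin r → Fin k => Antitone μ),
      Complex.exp (2 * Real.pi * Complex.I * ((d : ℂ) / r -
          (((∑ x, ∑ i, lam x i) + (∑ i, (μ i : ℕ)) + (∑ i, (k - (μ (Fin.rev i) : ℕ))) : ℕ) : ℂ) /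
            ((r : ℂ) * ((r : ℂ) + k))) * ((∑ j, vn j : ℕ) : ℂ)) *
        ((∏ x, S (lam x) vn) * S (fun i => (μ i : ℕ)) vn * S (fun i => k - (μ (Fin.rev i) : ℕ)) vn) *
        ((P vn : ℂ) / (P vn : ℂ) ^ g) =
      (Complex.exp (2 * Real.pi * Complex.I * ((d : ℂ) / r -
          (((∑ x, ∑ i, lam x i) + r * k : ℕ) : ℂ) / ((r : ℂ) * ((r : ℂ) + k))) *
            ((∑ j, vn j : ℕ) : ℂ)) * (∏ x, S (lam x) vn) * ((P vn : ℂ) / (P vn : ℂ) ^ g)) *
        (S (fun i => (μ i : ℕ)) vn * S (fun i => k - (μ (Fin.rev i) : ℕ)) vn) := by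
    intro μ _
    rw [show (∑ x, ∑ i, lam x i) + (∑ i, (μ i : ℕ)) + (∑ i, (k - (μ (Fin.rev i) : ℕ))) =
      (∑ x, ∑ i, lam x i) + r * k by
        rw [add_assoc, Groth.Agent.Verlinde.Schur.sum_rev_sub (fun i => (μ i : ℕ)) (fun i => (μ i).2.le)]]
    ring
  rw [← Finset.mul_sum, sum_congr rfl hterm, ← Finset.mul_sum, h77]
  have hP0 : (P vn : ℂ) ≠ 0 := by
    have hzv : ∀ j, z vn j = Groth.Agent.Verlinde.Exp.ep (r + k) (vn j : ℤ) := fun j =>
      (hz vn j).trans (Groth.Agent.Verlinde.Schur.exp_eq_ep r k _)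
    have hinj : Function.Injective (z vn) := by
      rw [funext hzv]
      exact Groth.Agent.Verlinde.Exp.ep_injective (by omega) hanti.injective (fun i => (v i).2)
    have h := Groth.Agent.Verlinde.Exp.alt_rho_mul_alt_rho_inv (N := r + k) (by omega) vn (z vn) hzv
    have hne := mul_ne_zero (Groth.Agent.Verlinde.Basic.alt_rho_ne_zero hinj)
      (Groth.Agent.Verlinde.Basic.alt_rho_ne_zero
        (show Function.Injective fun j => (z vn j)⁻¹ from inv_injective.comp hinj))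
    rw [h] at hne
    convert hne using 2
    rw [hP]
    push_cast
    rfl
  set E := Complex.exp (2 * Real.pi * Complex.I * ((d : ℂ) / r -
      ((∑ x, ∑ i, lam x i : ℕ) : ℂ) / ((r : ℂ) * ((r : ℂ) + k))) * ((∑ j, vn j : ℕ) : ℂ)) with hE
  have hr0 : (r : ℂ) ≠ 0 := by exact_mod_cast (show r ≠ 0 by omega)
  have hN0 : (r : ℂ) + k ≠ 0 := by exact_mod_cast (show r + k ≠ 0 by omega)
  have hexp : Complex.exp (2 * Real.pi * Complex.I * ((d : ℂ) / r -
          (((∑ x, ∑ i, lam x i) + r * k : ℕ) : ℂ) / ((r : ℂ) * ((r : ℂ) + k))) *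
            ((∑ j, vn j : ℕ) : ℂ)) *
      Complex.exp (2 * Real.pi * Complex.I * (k : ℂ) * ((∑ j, vn j : ℕ) : ℂ) / ((r : ℂ) + k)) = E := by
    rw [hE, ← Complex.exp_add]
    congr 1
    generalize (∑ x, ∑ i, lam x i) = L
    generalize (∑ j, vn j) = V
    push_cast
    field_simp
    ring
  rw [← hexp, pow_succ, pow_succ, pow_succ]
  have hrn : ((r : ℂ) * ((r : ℂ) + k) ^ (r - 1)) ≠ 0 := mul_ne_zero hr0 (pow_ne_zero _ hN0)
  field_simp

end Groth.Agent.S18381
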