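import Groth.Statements.S18383
import Groth.Agent.GrpScheme.Basic

set_option autoImplicit false
universe u
open CategoryTheory CategoryTheory.Limits MonoidalCategory CartesianMonoidalCategory MonObj GrpObj AlgebraicGeometry
open GrpSch

namespace Groth.Agent.S18383

/-- Let S be a scheme, H an S-group scheme and i : G → H a homomorphism of S-group schemes which is a
closed immersion (G a closed subgroup scheme of H). Then the left-translation action of G on H is
strictly free: the S-morphism G ×_S H → H ×_S H, (g, h) ↦ (i(g)·h, h), is a closed immersion. -/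
theorem result {S : Scheme.{u}} (G H : Over S)
    [GrpObj G] [GrpObj H] (i : G ⟶ H) [IsMonHom i] [IsClosedImmersion i.left] :
    IsClosedImmersion (CartesianMonoidalCategory.lift ((i ▷ H) ≫ μ[H]) (snd G H)).left := by
  have e : CartesianMonoidalCategory.lift ((i ▷ H) ≫ μ[H]) (snd G H) =
      (i ▷ H) ≫ (Groth.Agent.GrpScheme.Basic.shearRight H).hom := by
    simp [Groth.Agent.GrpScheme.Basic.shearRight]
  have : IsClosedImmersion (i ▷ H).left :=
    Groth.Agent.GrpScheme.Basic.whiskerRight_mem @IsClosedImmersion i H ‹_›
  have := Groth.Agent.GrpScheme.Basic.isIso_left (Groth.Agent.GrpScheme.Basic.shearRight H).hom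
  rw [e, Over.comp_left]
  infer_instance

end Groth.Agent.S18383
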