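import Groth.Statements.S18384
import Mathlib.RingTheory.Filtration
-- import your own Groth.Agent.* helpers here

set_option autoImplicit false
universe u
open CategoryTheory CategoryTheory.Limits AlgebraicGeometry
open Coherent

namespace Groth.Agent.S18384

theorem ideal_eq_bot_near {X : Scheme.{u}} [IsLocallyNoetherian X] (I : X.IdealSheafData) (x : X)
    (hx : ∀ (W : X.affineOpens) (hxW : x ∈ W.1), ∀ a ∈ I.ideal W,
      (X.presheaf.germ W.1 x hxW).hom a = 0) :
    ∃ V : X.affineOpens, x ∈ V.1 ∧ I.ideal V = ⊥ := by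
  obtain ⟨W, hW, hxW, -⟩ := exists_isAffineOpen_mem_and_subset (x := x) (U := ⊤) trivial
  have hfin : (I.ideal ⟨W, hW⟩).FG := by
    have : IsNoetherianRing Γ(X, W) := IsLocallyNoetherian.component_noetherian ⟨W, hW⟩
    exact IsNoetherian.noetherian _
  obtain ⟨T, hT⟩ := hfin
  let alg := TopCat.Presheaf.algebra_section_stalk X.presheaf (⟨x, hxW⟩ : W)
  let : Algebra _ _ := alg
  have hloc := hW.isLocalization_stalk ⟨x, hxW⟩
  have hex : ∀ a ∈ T, ∃ s : (hW.primeIdealOf ⟨x, hxW⟩).asIdeal.primeCompl, (s : Γ(X, W)) * a = 0 := by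
    intro a ha
    have h0 : algebraMap Γ(X, W) (X.presheaf.stalk x) a = 0 :=
      hx ⟨W, hW⟩ hxW a (hT ▸ Submodule.subset_span ha)
    exact (IsLocalization.map_eq_zero_iff (hW.primeIdealOf ⟨x, hxW⟩).asIdeal.primeCompl _ a).mp h0
  choose s hs using hex
  let t : (hW.primeIdealOf ⟨x, hxW⟩).asIdeal.primeCompl := ∏ a ∈ T.attach, s a.1 a.2
  have htmul : ∀ a ∈ I.ideal ⟨W, hW⟩, (t : Γ(X, W)) * a = 0 := by
    intro a ha
    rw [← hT] at ha
    induction ha using Submodule.span_induction with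
    | mem b hb =>
      obtain ⟨c, hc⟩ : (s b hb : Γ(X, W)) ∣ (t : Γ(X, W)) := by
        have : s b hb ∣ t := Finset.dvd_prod_of_mem (fun a : T => s a.1 a.2) (Finset.mem_attach T ⟨b, hb⟩)
        obtain ⟨c, hc⟩ := this
        exact ⟨c, by rw [hc]; rfl⟩
      rw [hc, mul_comm (s b hb : Γ(X, W)) c, mul_assoc, hs, mul_zero]
    | zero => rw [mul_zero]
    | add b c _ _ hb hc => rw [mul_add, hb, hc, add_zero]
    | smul r b _ hb => rw [smul_eq_mul, mul_left_comm, hb, mul_zero]
  have hxt : x ∈ X.basicOpen (t : Γ(X, W)) := by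
    rw [Scheme.mem_basicOpen _ _ x hxW]
    exact IsLocalization.map_units (X.presheaf.stalk x) t
  refine ⟨X.affineBasicOpen (U := ⟨W, hW⟩) (t : Γ(X, W)), hxt, ?_⟩
  rw [← I.map_ideal_basicOpen]
  refine le_bot_iff.mp (Ideal.map_le_iff_le_comap.mpr fun a ha => ?_)
  rw [Ideal.mem_comap]
  change _ = 0
  exact ((X.toLocallyRingedSpace.toRingedSpace.isUnit_res_basicOpen (t : Γ(X, W))).mul_right_eq_zero).mp
    ((map_mul (X.presheaf.map (homOfLE (X.basicOpen_le (t : Γ(X, W)))).op).hom _ a).symm.trans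
      ((congrArg _ (htmul a ha)).trans (map_zero _)))

theorem germ_mem_maxPow {X : Scheme.{u}} (I : X.IdealSheafData) (x : X) (n : ℕ)
    (g : Spec (.of (↑(X.presheaf.stalk x) ⧸ IsLocalRing.maximalIdeal (X.presheaf.stalk x) ^ n)) ⟶
      I.subscheme)
    (hg : g ≫ I.subschemeι = Spec.map (CommRingCat.ofHom (Ideal.Quotient.mk
      (IsLocalRing.maximalIdeal (X.presheaf.stalk x) ^ n))) ≫ X.fromSpecStalk x)
    (W : X.affineOpens) (hxW : x ∈ W.1) (a : Γ(X, W.1)) (ha : a ∈ I.ideal W) :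
    (X.presheaf.germ W.1 x hxW).hom a ∈ IsLocalRing.maximalIdeal (X.presheaf.stalk x) ^ n := by
  set q := CommRingCat.ofHom (Ideal.Quotient.mk
      (IsLocalRing.maximalIdeal (X.presheaf.stalk x) ^ n)) with hq
  have hI : I ≤ (g ≫ I.subschemeι).ker := by
    conv_lhs => rw [← I.ker_subschemeι]
    exact Scheme.Hom.le_ker_comp g I.subschemeι
  rw [hg] at hI
  have h0 : ((Spec.map q ≫ X.fromSpecStalk x).app W.1).hom a = 0 :=
    Scheme.Hom.ideal_ker_le _ W (hI W ha)
  have h1 : W.2.fromSpecStalk hxW = X.fromSpecStalk x := W.2.fromSpecStalk_eq_fromSpecStalk hxW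
  have h2 : Spec.map q ≫ X.fromSpecStalk x =
      Spec.map (X.presheaf.germ W.1 x hxW ≫ q) ≫ W.2.fromSpec := by
    rw [← h1, IsAffineOpen.fromSpecStalk, Spec.map_comp, Category.assoc]
  have e : ⊤ ≤ (Spec.map (X.presheaf.germ W.1 x hxW ≫ q) ≫ W.2.fromSpec) ⁻¹ᵁ W.1 := by
    intro p _; simp only [Scheme.Hom.comp_preimage, W.2.fromSpec_preimage_self]; trivial
  have h3 : ((Spec.map (X.presheaf.germ W.1 x hxW ≫ q) ≫ W.2.fromSpec).appLE W.1 ⊤ e) =
      (X.presheaf.germ W.1 x hxW ≫ q) ≫ (Scheme.ΓSpecIso _).inv := by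
    rw [Scheme.ΓSpecIso_inv_naturality]
    rw [Scheme.Hom.comp_appLE, IsAffineOpen.fromSpec_app_self, Category.assoc,
      Scheme.Hom.map_appLE]
    congr 1
  have h4 : ∀ (φ ψ : Spec (.of (↑(X.presheaf.stalk x) ⧸
      IsLocalRing.maximalIdeal (X.presheaf.stalk x) ^ n)) ⟶ X) (_ : φ = ψ) (e : ⊤ ≤ ψ ⁻¹ᵁ W.1),
      (φ.app W.1).hom a = 0 → (ψ.appLE W.1 ⊤ e).hom a = 0 := by
    rintro φ _ rfl e h
    simp [Scheme.Hom.appLE, h]
  have h5 := h4 _ _ h2 e h0
  rw [h3] at h5
  rw [← Ideal.Quotient.eq_zero_iff_mem]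
  apply (ConcreteCategory.bijective_of_isIso (Scheme.ΓSpecIso (CommRingCat.of (↑(X.presheaf.stalk x) ⧸
      IsLocalRing.maximalIdeal (X.presheaf.stalk x) ^ n))).inv).1
  rw [map_zero]
  exact h5

/-- Let p : X → S be a morphism of locally Noetherian schemes, t a point of S, m the maximal ideal of
the local ring O_{S,t}, and Z the closed subscheme of X defined by a quasi-coherent ideal I. Suppose
that for every n ≥ 1 the projection X ×_S Spec(O_{S,t}/m^n) → X factors through Z. Then there is an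
open subscheme U of X containing every point of the fibre p⁻¹(t) such that the inclusion U → X
factors through Z. -/
theorem result {X S : Scheme.{u}}
    [IsLocallyNoetherian X] [IsLocallyNoetherian S] (p : X ⟶ S) (t : S) (I : X.IdealSheafData)
    (h : ∀ n : ℕ, ∃ g : pullback p (Spec.map (CommRingCat.ofHom (Ideal.Quotient.mk
        (IsLocalRing.maximalIdeal ↑(S.presheaf.stalk t) ^ (n + 1)))) ≫ S.fromSpecStalk t) ⟶ I.subscheme,
        g ≫ I.subschemeι = pullback.fst p _) :
    ∃ U : X.Opens, (∀ x : X, p.base x = t → x ∈ U) ∧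
      ∃ g : (U : Scheme.{u}) ⟶ I.subscheme, g ≫ I.subschemeι = U.ι := by
  have key : ∀ x : X, p.base x = t → ∃ V : X.affineOpens, x ∈ V.1 ∧ I.ideal V = ⊥ := by
    intro x hx
    subst hx
    refine ideal_eq_bot_near I x fun W hxW a ha => ?_
    have hn : ∀ n : ℕ, (X.presheaf.germ W.1 x hxW).hom a ∈
        IsLocalRing.maximalIdeal (X.presheaf.stalk x) ^ n := by
      intro n
      apply Ideal.pow_le_pow_right (Nat.le_succ n)
      set mS := IsLocalRing.maximalIdeal (S.presheaf.stalk (p.base x)) ^ (n + 1)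
      set mX := IsLocalRing.maximalIdeal (X.presheaf.stalk x) ^ (n + 1)
      have hle : mS ≤ mX.comap (p.stalkMap x).hom := by
        rw [← Ideal.map_le_iff_le_comap, Ideal.map_pow]
        exact Ideal.pow_right_mono (IsLocalRing.map_maximalIdeal_le _) _
      let φ := CommRingCat.ofHom (Ideal.quotientMap mX (p.stalkMap x).hom hle)
      have hsq : p.stalkMap x ≫ CommRingCat.ofHom (Ideal.Quotient.mk mX) =
          CommRingCat.ofHom (Ideal.Quotient.mk mS) ≫ φ := by
        ext b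
        exact (Ideal.quotientMap_mk (H := hle)).symm
      let u : Spec (.of (↑(X.presheaf.stalk x) ⧸ mX)) ⟶ pullback p
          (Spec.map (CommRingCat.ofHom (Ideal.Quotient.mk mS)) ≫ S.fromSpecStalk (p.base x)) :=
        pullback.lift (Spec.map (CommRingCat.ofHom (Ideal.Quotient.mk mX)) ≫ X.fromSpecStalk x)
          (Spec.map φ) (by
            rw [Category.assoc, ← Scheme.SpecMap_stalkMap_fromSpecStalk, ← Category.assoc,
              ← Spec.map_comp]
            exact (congrArg (fun r => Spec.map r ≫ S.fromSpecStalk (p.base x)) hsq).trans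
              (by rw [Spec.map_comp, Category.assoc]))
      exact germ_mem_maxPow I x (n + 1) (u ≫ (h n).choose) (by
        rw [Category.assoc]; refine (congrArg (u ≫ ·) (h n).choose_spec).trans ?_; exact pullback.lift_fst _ _ _) W hxW a ha
    have hinf := Ideal.iInf_pow_eq_bot_of_isLocalRing
      (IsLocalRing.maximalIdeal (X.presheaf.stalk x)) (IsLocalRing.maximalIdeal.isMaximal _).ne_top
    exact (Ideal.mem_bot).mp (hinf ▸ (Ideal.mem_iInf.mpr hn))
  let U : X.Opens := ⨆ V : {V : X.affineOpens // I.ideal V = ⊥}, V.1.1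
  refine ⟨U, fun x hx => ?_, IsClosedImmersion.lift I.subschemeι U.ι ?_, IsClosedImmersion.lift_fac _ _ _⟩
  · obtain ⟨V, hxV, hV⟩ := key x hx
    exact TopologicalSpace.Opens.mem_iSup.mpr ⟨⟨V, hV⟩, hxV⟩
  · rw [I.ker_subschemeι, ← Scheme.IdealSheafData.map_bot, Scheme.IdealSheafData.le_map_iff_comap_le]
    let cov : {V : X.affineOpens // I.ideal V = ⊥} → (U : Scheme.{u}).affineOpens := fun V =>
      ⟨U.ι ⁻¹ᵁ V.1.1, V.1.2.preimage_of_isOpenImmersion U.ι (by
        rw [Scheme.Opens.opensRange_ι]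
        exact le_iSup (fun V : {V : X.affineOpens // I.ideal V = ⊥} => V.1.1) V)⟩
    refine Scheme.IdealSheafData.le_of_iSup_eq_top cov ?_ fun V => ?_
    · rw [← top_le_iff]
      rintro ⟨y, hy⟩ -
      obtain ⟨V, hyV⟩ := TopologicalSpace.Opens.mem_iSup.mp hy
      exact TopologicalSpace.Opens.mem_iSup.mpr ⟨V, hyV⟩
    · rw [Scheme.IdealSheafData.ideal_comap_of_isOpenImmersion]
      have himg : U.ι ''ᵁ (cov V).1 = V.1.1 := by
        show U.ι ''ᵁ (U.ι ⁻¹ᵁ V.1.1) = V.1.1
        rw [Scheme.Hom.image_preimage_eq_opensRange_inf, Scheme.Opens.opensRange_ι, inf_eq_right]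
        exact le_iSup (fun V : {V : X.affineOpens // I.ideal V = ⊥} => V.1.1) V
      have heq : (⟨U.ι ''ᵁ (cov V).1, (cov V).2.image_of_isOpenImmersion U.ι⟩ : X.affineOpens) = V.1 :=
        Subtype.ext himg
      have hbot : I.ideal ⟨U.ι ''ᵁ (cov V).1, (cov V).2.image_of_isOpenImmersion U.ι⟩ = ⊥ := by
        rw [heq]; exact V.2
      rw [hbot]
      intro a ha
      rw [Ideal.mem_comap, Ideal.mem_bot] at ha
      rw [Scheme.IdealSheafData.ideal_bot]
      exact (map_eq_zero_iff _ (ConcreteCategory.bijective_of_isIso (U.ι.appIso (cov V).1).inv).1).mp ha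

end Groth.Agent.S18384
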