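import Groth.Statements.S18386
import Mathlib.RingTheory.Ideal.IdempotentFG

set_option autoImplicit false
universe u
open LVCorr

open CategoryTheory AlgebraicGeometry

namespace Groth.Agent.S18386

open AlgebraicGeometry in
/-- Let X be a connected Noetherian scheme and I a quasi-coherent sheaf of ideals on X, different from
the structure sheaf, such that I^k = I^(k+1) for some natural number k. Then I^k = 0. -/
theorem result (X : Scheme.{u}) [AlgebraicGeometry.IsNoetherian X]
    [ConnectedSpace X] (I : X.IdealSheafData) (hI : I ≠ ⊤) (k : ℕ)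
    (h : I ^ k = I ^ (k + 1)) : I ^ k = ⊥ := by
  rcases Nat.eq_zero_or_pos k with rfl | hk
  · exfalso
    apply hI
    ext U : 2
    have := congrFun (congrArg Scheme.IdealSheafData.ideal h) U
    simpa [Ideal.one_eq_top] using this.symm
  have hid : ∀ U : X.affineOpens, ∃ e, IsIdempotentElem e ∧ I.ideal U ^ k = Ideal.span {e} := by
    intro U
    have : IsNoetherianRing Γ(X, U) := IsLocallyNoetherian.component_noetherian U
    have h1 : I.ideal U ^ k = I.ideal U ^ (k + 1) :=
      congrFun (congrArg Scheme.IdealSheafData.ideal h) U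
    have h2 : ∀ m, I.ideal U ^ (k + m) = I.ideal U ^ k := fun m => by
      induction m with
      | zero => rfl
      | succ m ihm => rw [← add_assoc, pow_succ, ihm, ← pow_succ, ← h1]
    exact (Ideal.isIdempotentElem_iff_of_fg _ (IsNoetherian.noetherian _)).1
      (show I.ideal U ^ k * I.ideal U ^ k = I.ideal U ^ k by rw [← pow_add, h2])
  choose e he hspan using hid
  have hsupp : ∀ (U : X.affineOpens) (x : X), x ∈ (U : X.Opens) →
      (x ∈ I.support ↔ x ∈ X.basicOpen (1 - e U)) := by
    intro U x hx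
    rw [← I.support_pow k hk.ne', Scheme.IdealSheafData.mem_support_iff_of_mem hx,
      Scheme.IdealSheafData.ideal_pow, Pi.pow_apply, hspan, Scheme.zeroLocus_span,
      Scheme.zeroLocus_singleton, Set.mem_compl_iff, SetLike.mem_coe]
    constructor
    · intro hn
      have hu : X.basicOpen (e U) ⊔ X.basicOpen (1 - e U) = U.1 := by
        refine le_antisymm (sup_le (X.basicOpen_le _) (X.basicOpen_le _)) fun y hy => ?_
        by_contra hc
        rw [← SetLike.mem_coe, TopologicalSpace.Opens.coe_sup, Set.mem_union, not_or, SetLike.mem_coe,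
          SetLike.mem_coe, Scheme.mem_basicOpen _ _ _ hy, Scheme.mem_basicOpen _ _ _ hy] at hc
        rw [map_sub, map_one] at hc
        exact (IsLocalRing.isUnit_or_isUnit_one_sub_self _).elim hc.1 hc.2
      rw [← hu] at hx
      exact (show x ∈ X.basicOpen (e U) ∨ x ∈ X.basicOpen (1 - e U) from hx).resolve_left hn
    · intro h1 h2
      have h3 : x ∈ X.basicOpen (e U * (1 - e U)) := by
        rw [Scheme.basicOpen_mul]; exact ⟨h2, h1⟩
      rw [mul_sub, mul_one, (he U).eq, sub_self, Scheme.basicOpen_zero] at h3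
      exact h3
  have hopen : IsOpen (I.support : Set X) := by
    rw [isOpen_iff_forall_mem_open]
    intro x hx
    obtain ⟨_, ⟨U, hU, rfl⟩, hxU, -⟩ :=
      X.isBasis_affineOpens.exists_subset_of_mem_open (Set.mem_univ x) isOpen_univ
    exact ⟨X.basicOpen (1 - e ⟨U, hU⟩), fun y hy => (hsupp ⟨U, hU⟩ y (X.basicOpen_le _ hy)).2 hy,
      (X.basicOpen _).2, (hsupp ⟨U, hU⟩ x hxU).1 hx⟩
  rcases isClopen_iff.1 ⟨I.support.isClosed, hopen⟩ with h0 | h1
  · exact absurd ((Scheme.IdealSheafData.support_eq_bot_iff (I := I)).1 (SetLike.coe_injective h0)) hI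
  ext U : 2
  rw [Scheme.IdealSheafData.ideal_pow, Pi.pow_apply, hspan, Scheme.IdealSheafData.ideal_bot]
  rw [Pi.bot_apply, Ideal.span_singleton_eq_bot]
  have hb : X.basicOpen (e U) = ⊥ := le_bot_iff.1 fun x hx => by
    have hxU := X.basicOpen_le _ hx
    have h2 := (hsupp U x hxU).1 (show x ∈ I.support by rw [← SetLike.mem_coe, h1]; trivial)
    have h3 : x ∈ X.basicOpen (e U * (1 - e U)) := by
      rw [Scheme.basicOpen_mul]; exact ⟨hx, h2⟩
    rw [mul_sub, mul_one, (he U).eq, sub_self, Scheme.basicOpen_zero] at h3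
    exact h3
  obtain ⟨m, hm⟩ := (Scheme.isNilpotent_iff_basicOpen_eq_bot_of_isCompact U.2.isCompact _).2 hb
  rcases Nat.eq_zero_or_pos m with rfl | hm'
  · rw [pow_zero] at hm
    exact eq_zero_of_zero_eq_one hm.symm _
  · obtain ⟨m, rfl⟩ := Nat.exists_eq_succ_of_ne_zero hm'.ne'
    rwa [(he U).pow_succ_eq] at hm

end Groth.Agent.S18386
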