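import Groth.Statements.S18387
import Mathlib.RingTheory.Artinian.Ring
import Mathlib.RingTheory.Artinian.Module
import Mathlib.LinearAlgebra.FiniteDimensional.Lemmas

set_option autoImplicit false
universe u
open LVCorr

namespace Groth.Agent.S18387

/-- In the affine form which its proof establishes. Let A be a commutative algebra over a field F which
is finite-dimensional of dimension d over F. Then the d-th power of the nilradical of A vanishes.
(Applied to the fibre algebra A = B/mB of a quasi-finite morphism over a closed point with maximal
ideal m, this says that the d-th power of the radical of mB lies in mB, i.e. the ramification of the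
morphism at that point is at most the degree d of the fibre.) -/
theorem result (F A : Type u) [Field F] [CommRing A] [Algebra F A]
    [FiniteDimensional F A] : nilradical A ^ Module.finrank F A = ⊥ := by
  have hnil : IsNilpotent (nilradical A) := by
    have : IsArtinianRing A := IsArtinianRing.of_finite F A
    exact IsArtinianRing.isNilpotent_nilradical (R := A)
  obtain ⟨N, hN⟩ := hnil
  set I := nilradical A with hI
  have key : ∀ j, I ^ j = ⊥ ∨
      Module.finrank F ((I ^ j).restrictScalars F) + j ≤ Module.finrank F A := by
    intro j
    induction j with
    | zero => right; simpa using Submodule.finrank_le ((I ^ 0).restrictScalars F)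
    | succ j ih =>
      rcases ih with h | h
      · left; rw [pow_succ, h, Ideal.bot_mul]
      by_cases hb : I ^ (j + 1) = ⊥
      · exact Or.inl hb
      right
      have hlt : (I ^ (j + 1)).restrictScalars F < (I ^ j).restrictScalars F := by
        refine lt_of_le_of_ne (fun x hx => Ideal.pow_le_pow_right (Nat.le_succ j) hx) fun e => hb ?_
        have e' : I ^ (j + 1) = I ^ j := Submodule.restrictScalars_injective F A A e
        have : ∀ m, I ^ (j + m) = I ^ j := fun m => by
          induction m with
          | zero => rfl
          | succ m ihm => rw [← add_assoc, pow_succ, ihm, ← pow_succ, e']
        rw [e', ← this N, pow_add, hN]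
        exact mul_zero _
      have := Submodule.finrank_lt_finrank_of_lt hlt
      omega
  rcases key (Module.finrank F A) with h | h
  · exact h
  · have h0 : Module.finrank F ((I ^ Module.finrank F A).restrictScalars F) = 0 := by omega
    rw [Submodule.finrank_eq_zero] at h0
    exact (Submodule.restrictScalars_eq_bot_iff F A A).1 h0

end Groth.Agent.S18387
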