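import Groth.Statements.S18388
import Groth.Agent.Nagata.Boundary
import Groth.Agent.FlatMor.SchDom

set_option backward.isDefEq.respectTransparency false
-- import your own Groth.Agent.* helpers here

set_option autoImplicit false
universe u
open LVCorr

namespace Groth.Agent.S18388

open AlgebraicGeometry CategoryTheory in
/-- A correspondence admits a compactification compatible with any given compactifications of its
targets. Over a quasi-compact quasi-separated base scheme S, let C → S be separated and of finite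
type, let c₁ : C → X₁ and c₂ : C → X₂ be morphisms over S, and let jᵢ : Xᵢ → X̄ᵢ (i = 1, 2) be open
immersions over S with X̄ᵢ proper over S. Then there are a scheme C̄ proper over S, an open
immersion j : C → C̄ over S with dense image, and morphisms c̄ᵢ : C̄ → X̄ᵢ over S such that j
followed by c̄ᵢ equals cᵢ followed by jᵢ. (The source works over an algebraically closed field; the
base here is any quasi-compact quasi-separated scheme, over which compactifications of separated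
schemes of finite type exist.) -/
theorem result {S C X₁ X₂ Xb₁ Xb₂ : Scheme.{u}}
    [CompactSpace S] [QuasiSeparatedSpace S]
    (pC : C ⟶ S) [IsSeparated pC] [QuasiCompact pC] [LocallyOfFiniteType pC]
    (pX₁ : X₁ ⟶ S) (pX₂ : X₂ ⟶ S) (pXb₁ : Xb₁ ⟶ S) (pXb₂ : Xb₂ ⟶ S) [IsProper pXb₁] [IsProper pXb₂]
    (c₁ : C ⟶ X₁) (c₂ : C ⟶ X₂) (hc₁ : c₁ ≫ pX₁ = pC) (hc₂ : c₂ ≫ pX₂ = pC)
    (j₁ : X₁ ⟶ Xb₁) (j₂ : X₂ ⟶ Xb₂) [IsOpenImmersion j₁] [IsOpenImmersion j₂]
    (hj₁ : j₁ ≫ pXb₁ = pX₁) (hj₂ : j₂ ≫ pXb₂ = pX₂) :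
    ∃ (Cb : Scheme.{u}) (pCb : Cb ⟶ S) (j : C ⟶ Cb) (cb₁ : Cb ⟶ Xb₁) (cb₂ : Cb ⟶ Xb₂),
      IsProper pCb ∧ IsOpenImmersion j ∧ DenseRange j.base ∧ j ≫ pCb = pC ∧
      cb₁ ≫ pXb₁ = pCb ∧ cb₂ ≫ pXb₂ = pCb ∧ j ≫ cb₁ = c₁ ≫ j₁ ∧ j ≫ cb₂ = c₂ ≫ j₂ := by
  obtain ⟨Y, jY, pY, -, hjY, hjYc, -, hpY, hjYp, -, -⟩ := Nagata.exists_compactification_boundary pC
  let P₁ := Limits.pullback pY pXb₁
  let q₁ : P₁ ⟶ S := Limits.pullback.fst pY pXb₁ ≫ pY
  let P := Limits.pullback q₁ pXb₂
  let q : P ⟶ S := Limits.pullback.fst q₁ pXb₂ ≫ q₁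
  let l₁ : C ⟶ P₁ := Limits.pullback.lift jY (c₁ ≫ j₁) (by rw [hjYp, Category.assoc, hj₁, hc₁])
  let l : C ⟶ P := Limits.pullback.lift l₁ (c₂ ≫ j₂) (by
    simp only [l₁, q₁, Limits.pullback.lift_fst_assoc, hjYp, Category.assoc, hj₂, hc₂])
  haveI : IsImmersion (l ≫ Limits.pullback.fst q₁ pXb₂ ≫ Limits.pullback.fst pY pXb₁) := by
    simp only [l, l₁, Limits.pullback.lift_fst_assoc, Limits.pullback.lift_fst]; infer_instance
  haveI : IsImmersion l :=
    IsImmersion.of_comp l (Limits.pullback.fst q₁ pXb₂ ≫ Limits.pullback.fst pY pXb₁)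
  haveI : IsProper q₁ := inferInstance
  haveI : IsProper q := inferInstance
  have hlq : l ≫ q = pC := by
    simp only [l, q, l₁, q₁, Limits.pullback.lift_fst_assoc, hjYp]
  haveI : QuasiCompact (l ≫ q) := by rw [hlq]; infer_instance
  haveI : QuasiCompact l := QuasiCompact.of_comp l q
  refine ⟨l.image, l.imageι ≫ q, l.toImage,
    l.imageι ≫ Limits.pullback.fst q₁ pXb₂ ≫ Limits.pullback.snd pY pXb₁,
    l.imageι ≫ Limits.pullback.snd q₁ pXb₂, inferInstance,
    Groth.Agent.FlatMor.SchDom.isOpenImmersion_toImage' l (Or.inl inferInstance),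
    l.toImage.denseRange, by rw [← Category.assoc, Scheme.Hom.toImage_imageι, hlq], ?_, ?_, ?_, ?_⟩
  · simp only [q, q₁, Category.assoc]
    rw [← Limits.pullback.condition (f := pY) (g := pXb₁)]
  · simp only [q, Category.assoc]
    rw [← Limits.pullback.condition (f := q₁) (g := pXb₂)]
  · rw [← Category.assoc, Scheme.Hom.toImage_imageι]
    simp only [l, l₁, Limits.pullback.lift_fst_assoc, Limits.pullback.lift_snd]
  · rw [← Category.assoc, Scheme.Hom.toImage_imageι, Limits.pullback.lift_snd]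

end Groth.Agent.S18388
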