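import Groth.Statements.S18389
-- import your own Groth.Agent.* helpers here

set_option autoImplicit false
universe u
open LVCorr

open CategoryTheory AlgebraicGeometry

set_option backward.isDefEq.respectTransparency.types false
set_option backward.isDefEq.respectTransparency false

namespace Groth.Agent.S18389

open AlgebraicGeometry CategoryTheory in
/-- Let j : C → C̄ be an open immersion with dense image and jX : X → X̄ an open immersion, and let c₁ :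
C → X and c̄₁ : C̄ → X̄ satisfy j followed by c̄₁ equals c₁ followed by jX, with c̄₁ separated. Let
U be an open subset of X such that c₁⁻¹(U) is dense in C and the restriction c₁⁻¹(U) → U of c₁ is
proper. Then c̄₁⁻¹(jX(U)) = j(c₁⁻¹(U)) as open subsets of C̄. (In the source all schemes are
separated of finite type over a field, C̄ and X̄ are compactifications of a correspondence and of X,
so that c̄₁ is automatically separated.) -/
theorem result {C Cb X Xb : Scheme.{u}}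
    (j : C ⟶ Cb) [IsOpenImmersion j] (hj : DenseRange j.base)
    (jX : X ⟶ Xb) [IsOpenImmersion jX] (c₁ : C ⟶ X) (cb₁ : Cb ⟶ Xb) [IsSeparated cb₁]
    (h : j ≫ cb₁ = c₁ ≫ jX) (U : X.Opens) (hU : Dense ((c₁ ⁻¹ᵁ U : C.Opens) : Set C))
    [IsProper (c₁ ∣_ U)] :
    cb₁ ⁻¹ᵁ (jX ''ᵁ U) = j ''ᵁ (c₁ ⁻¹ᵁ U) := by
  set W := cb₁ ⁻¹ᵁ (jX ''ᵁ U) with hW
  have hle : j ''ᵁ (c₁ ⁻¹ᵁ U) ≤ W := by
    rintro _ ⟨x, hx, rfl⟩
    refine ⟨c₁ x, hx, ?_⟩
    change jX (c₁ x) = cb₁ (j x)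
    rw [← Scheme.Hom.comp_apply, ← h, Scheme.Hom.comp_apply]
  refine le_antisymm ?_ hle
  let j' : (c₁ ⁻¹ᵁ U : Scheme.{u}) ⟶ W := IsOpenImmersion.lift W.ι ((c₁ ⁻¹ᵁ U).ι ≫ j) (by
    rintro _ ⟨x, rfl⟩
    rw [Scheme.Opens.range_ι, Scheme.Hom.comp_apply]
    exact hle ⟨_, x.2, rfl⟩)
  let e : (U : Scheme.{u}) ≅ (jX ''ᵁ U : Scheme.{u}) := jX.isoImage U
  have he : e.hom ≫ (jX ''ᵁ U).ι = U.ι ≫ jX := Scheme.Hom.isoImage_hom_ι _ _
  have hfac : j' ≫ (cb₁ ∣_ (jX ''ᵁ U)) = (c₁ ∣_ U) ≫ e.hom := by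
    rw [← cancel_mono (jX ''ᵁ U).ι, Category.assoc, Category.assoc, morphismRestrict_ι, he,
      morphismRestrict_ι_assoc]
    simp only [j', ← h]
    erw [IsOpenImmersion.lift_fac_assoc]
    simp
  have : IsProper (j' ≫ (cb₁ ∣_ (jX ''ᵁ U))) := by rw [hfac]; infer_instance
  have : IsProper j' := IsProper.of_comp j' (cb₁ ∣_ (jX ''ᵁ U))
  have hcl : IsClosed (Set.range j') := j'.isClosedMap.isClosed_range
  intro z hz
  have hd : Dense ((j ''ᵁ (c₁ ⁻¹ᵁ U) : Cb.Opens) : Set Cb) := hj.dense_image j.continuous hU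
  have hzc : ∀ z' : (W : Scheme.{u}), z' ∈ closure (Set.range j') := by
    intro z'
    rw [mem_closure_iff]
    intro O hO hzO
    obtain ⟨_, ⟨w, hw, rfl⟩, y, hy, heq⟩ := hd.inter_open_nonempty (Subtype.val '' O)
      (W.2.isOpenEmbedding_subtypeVal.isOpenMap O hO) ⟨z'.1, z', hzO, rfl⟩
    refine ⟨w, hw, ⟨y, hy⟩, Subtype.ext ?_⟩
    change (W.ι (j' ⟨y, hy⟩)) = w.1
    rw [← Scheme.Hom.comp_apply, IsOpenImmersion.lift_fac]
    exact heq
  obtain ⟨⟨y, hy⟩, hy'⟩ := hcl.closure_eq ▸ hzc ⟨z, hz⟩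
  refine ⟨y, hy, ?_⟩
  have := congrArg (fun w => W.ι w) hy'
  change W.ι (j' ⟨y, hy⟩) = z at this
  rw [← Scheme.Hom.comp_apply, IsOpenImmersion.lift_fac] at this
  exact this

end Groth.Agent.S18389
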