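import Groth.Statements.S18390
-- import your own Groth.Agent.* helpers here

set_option autoImplicit false
universe u
open LVCorr

namespace Groth.Agent.S18390

/-- In the affine, ring-theoretic form which its proof establishes. Let φ : A' → A be a ring
homomorphism, I' a finitely generated ideal of A' and I an ideal of A containing the image of I'.
Then some power I'^k is mapped into I^(k+1) if and only if for every n ≥ 1 and every a ∈ I'^n there
is a k with φ(a)^k ∈ I^(nk+1). (Geometrically, for a morphism f : (X, Z) → (X', Z') of pairs with Z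
a closed subscheme of the preimage of Z', the normal cone of Z in X is the spectrum of the
associated graded algebra of I, and the second condition says that the induced map of normal cones
sends the normal cone of Z set-theoretically into the zero section Z'; the source states the
equivalence in that language.) -/
theorem result (A' A : Type u) [CommRing A'] [CommRing A]
    (φ : A' →+* A) (I' : Ideal A') (hI' : I'.FG) (I : Ideal A) (hle : I'.map φ ≤ I) :
    (∃ k : ℕ, (I' ^ k).map φ ≤ I ^ (k + 1)) ↔
      ∀ n : ℕ, 1 ≤ n → ∀ a ∈ I' ^ n, ∃ k : ℕ, 1 ≤ k ∧ φ a ^ k ∈ I ^ (n * k + 1) := by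
  constructor
  · rintro ⟨k, hk⟩ n hn a ha
    refine ⟨k + 1, by omega, ?_⟩
    have hk' : (I' ^ (k + 1)).map φ ≤ I ^ (k + 2) := by
      rw [pow_succ' I', Ideal.map_mul, pow_succ' I (k + 1)]
      exact Ideal.mul_mono hle hk
    have h1 : φ (a ^ (k + 1)) ∈ ((I' ^ (k + 1)).map φ) ^ n := by
      rw [← Ideal.map_pow, ← pow_mul, mul_comm, pow_mul]
      exact Ideal.mem_map_of_mem _ (Ideal.pow_mem_pow ha _)
    rw [← map_pow]
    refine Ideal.pow_le_pow_right ?_ (pow_mul I (k + 2) n ▸ Ideal.pow_right_mono hk' n h1)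
    nlinarith
  · intro h
    have key : ∀ J : Ideal A', J.FG → J ≤ I' → ∃ k, (Ideal.map φ J) ^ k ≤ I ^ (k + 1) := by
      intro J hJ
      induction J, hJ using Submodule.fg_induction with
      | singleton x =>
        intro hx
        obtain ⟨k, -, hk⟩ := h 1 le_rfl x (by simpa using hx (Submodule.mem_span_singleton_self x))
        refine ⟨k, ?_⟩
        change (Ideal.map φ (Ideal.span {x})) ^ k ≤ _
        rw [Ideal.map_span, Set.image_singleton, Ideal.span_singleton_pow, Ideal.span_le,
          Set.singleton_subset_iff]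
        simpa using hk
      | sup J₁ J₂ hJ₁ hJ₂ ih₁ ih₂ =>
        intro hx
        obtain ⟨k₁, h₁⟩ := ih₁ (le_sup_left.trans hx)
        obtain ⟨k₂, h₂⟩ := ih₂ (le_sup_right.trans hx)
        have hA : Ideal.map φ J₁ ≤ I := (Ideal.map_mono (le_sup_left.trans hx) : Ideal.map φ J₁ ≤ Ideal.map φ I').trans hle
        have hB : Ideal.map φ J₂ ≤ I := (Ideal.map_mono (le_sup_right.trans hx) : Ideal.map φ J₂ ≤ Ideal.map φ I').trans hle
        refine ⟨k₁ + k₂, ?_⟩
        rw [Ideal.map_sup, ← Submodule.add_eq_sup, add_pow, Ideal.sum_eq_sup]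
        refine Finset.sup_le fun i hi => le_trans Ideal.mul_le_left ?_
        have hi' : i ≤ k₁ + k₂ := by simpa using Finset.mem_range_succ_iff.1 hi
        rcases le_or_gt k₁ i with hk | hk
        · obtain ⟨d, rfl⟩ := Nat.exists_eq_add_of_le hk
          rw [pow_add (Ideal.map φ J₁)]
          calc (Ideal.map φ J₁) ^ k₁ * (Ideal.map φ J₁) ^ d * (Ideal.map φ J₂) ^ (k₁ + k₂ - (k₁ + d))
              ≤ I ^ (k₁ + 1) * I ^ d * I ^ (k₁ + k₂ - (k₁ + d)) :=
                Ideal.mul_mono (Ideal.mul_mono h₁ (Ideal.pow_right_mono hA _))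
                  (Ideal.pow_right_mono hB _)
            _ ≤ I ^ (k₁ + k₂ + 1) := by
                rw [← pow_add, ← pow_add]; exact Ideal.pow_le_pow_right (by omega)
        · obtain ⟨d, hd⟩ := Nat.exists_eq_add_of_le (show k₂ ≤ k₁ + k₂ - i by omega)
          rw [hd, pow_add (Ideal.map φ J₂)]
          calc (Ideal.map φ J₁) ^ i * ((Ideal.map φ J₂) ^ k₂ * (Ideal.map φ J₂) ^ d)
              ≤ I ^ i * (I ^ (k₂ + 1) * I ^ d) :=
                Ideal.mul_mono (Ideal.pow_right_mono hA _)
                  (Ideal.mul_mono h₂ (Ideal.pow_right_mono hB _))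
            _ ≤ I ^ (k₁ + k₂ + 1) := by
                rw [← pow_add, ← pow_add]; exact Ideal.pow_le_pow_right (by omega)
    obtain ⟨k, hk⟩ := key I' hI' le_rfl
    exact ⟨k, by rwa [Ideal.map_pow]⟩

end Groth.Agent.S18390
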