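import Groth.Statements.S18391
import Groth.Agent.LVCorr.DVR

set_option autoImplicit false
universe u
open LVCorr

namespace Groth.Agent.S18391

/-- Let A be a normal (integrally closed) Noetherian domain and z an element of A such that the radical
of the principal ideal (z) is prime. Then there exist elements w, t of A and a natural number r,
with w not in the radical of (z), such that in the localization A[1/w] the ideal generated by z
equals the ideal generated by t^r and the ideal generated by t is prime. (The condition on w is the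
one the printed proof produces and the later use of the lemma needs.) -/
theorem result (A : Type u) [CommRing A] [IsDomain A]
    [IsNoetherianRing A] [IsIntegrallyClosed A] (z : A) (hz : (Ideal.span {z}).radical.IsPrime) :
    ∃ (w t : A) (r : ℕ), w ∉ (Ideal.span {z}).radical ∧
      Ideal.span {algebraMap A (Localization.Away w) z} =
        Ideal.span {algebraMap A (Localization.Away w) t ^ r} ∧
      (Ideal.span {algebraMap A (Localization.Away w) t}).IsPrime := by
  set P := (Ideal.span {z}).radical with hP
  by_cases hz0 : z = 0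
  · subst hz0
    refine ⟨1, 0, 1, fun h => hz.ne_top ((Ideal.eq_top_iff_one _).2 h), by simp, ?_⟩
    have : IsDomain (Localization.Away (1 : A)) :=
      IsLocalization.isDomain_localization (powers_le_nonZeroDivisors_of_noZeroDivisors one_ne_zero)
    rw [map_zero, Ideal.span_singleton_eq_bot.2 rfl]
    exact Ideal.isPrime_bot
  have := Groth.Agent.LVCorr.DVR.isDVR (P := P) hz0 hP.symm
  obtain ⟨ϖ, hϖ⟩ := IsDiscreteValuationRing.exists_irreducible (Localization.AtPrime P)
  obtain ⟨⟨t, u⟩, hu⟩ := IsLocalization.mk'_surjective P.primeCompl ϖ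
  replace hu : IsLocalization.mk' (Localization.AtPrime P) t u = ϖ := hu
  obtain ⟨r, c, hc⟩ := IsDiscreteValuationRing.eq_unit_mul_pow_irreducible
    (x := algebraMap A (Localization.AtPrime P) z)
    (fun h => hz0 (IsLocalization.injective (Localization.AtPrime P)
      P.primeCompl_le_nonZeroDivisors (by rw [h, map_zero]))) hϖ
  have hmem : ∀ x : A, x ∈ P ↔ ϖ ∣ algebraMap A (Localization.AtPrime P) x := fun x => by
    rw [← Ideal.mem_span_singleton, ← (IsDiscreteValuationRing.irreducible_iff_uniformizer ϖ).1 hϖ,
      IsLocalization.AtPrime.to_map_mem_maximal_iff (Localization.AtPrime P) P]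
  have hcancel : ∀ {x y : A}, algebraMap A (Localization.AtPrime P) x = algebraMap A _ y → x = y :=
    fun h => IsLocalization.injective (Localization.AtPrime P) P.primeCompl_le_nonZeroDivisors h
  have htP : t ∈ P := by
    rw [hmem, ← IsLocalization.mk'_spec (Localization.AtPrime P) t u, hu]
    exact dvd_mul_right _ _
  have hgen : ∀ x ∈ P, ∃ s ∉ P, ∃ y, s * x = y * t := fun x hx => by
    obtain ⟨d, hd⟩ := (hmem x).1 hx
    obtain ⟨⟨a, s⟩, rfl⟩ := IsLocalization.mk'_surjective P.primeCompl d
    refine ⟨(s : A) * u, fun h => ?_, a, hcancel ?_⟩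
    · exact (hz.mem_or_mem h).elim s.2 u.2
    · rw [map_mul, map_mul, map_mul, hd, ← hu]
      rw [← IsLocalization.mk'_spec (Localization.AtPrime P) t u,
        ← IsLocalization.mk'_spec (Localization.AtPrime P) a s]
      ring
  obtain ⟨⟨a, s⟩, hs⟩ := IsLocalization.mk'_surjective P.primeCompl (c : Localization.AtPrime P)
  replace hs : IsLocalization.mk' (Localization.AtPrime P) a s = (c : Localization.AtPrime P) := hs
  have haP : a ∉ P := fun h => by
    have : IsUnit (algebraMap A (Localization.AtPrime P) a) := by
      rw [← IsLocalization.mk'_spec (Localization.AtPrime P) a s, hs]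
      exact c.isUnit.mul (IsLocalization.map_units _ s)
    exact hϖ.not_isUnit (isUnit_of_dvd_unit ((hmem a).1 h) this)
  have hzeq : (s : A) * (u : A) ^ r * z = a * t ^ r := hcancel (by
    rw [map_mul, map_mul, map_mul, map_pow, map_pow, hc, ← hu,
      ← IsLocalization.mk'_spec (Localization.AtPrime P) t u,
      ← IsLocalization.mk'_spec (Localization.AtPrime P) a s, hs, mul_pow]
    ring)
  obtain ⟨G, hG⟩ := IsNoetherian.noetherian P
  choose S hS Y hY using fun x : G => hgen x.1 (hG ▸ Submodule.subset_span x.2)
  let w : A := a * (s * (u : A) ^ r) * ∏ x : G, S x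
  have hw : w ∉ P := by
    intro h
    rcases hz.mem_or_mem h with h | h
    · rcases hz.mem_or_mem h with h | h
      · exact haP h
      · rcases hz.mem_or_mem h with h | h
        · exact s.2 h
        · exact u.2 (hz.mem_of_pow_mem _ h)
    · obtain ⟨x, -, hx⟩ := (Ideal.IsPrime.prod_mem_iff (hp := hz)).1 h
      exact hS x hx
  refine ⟨w, t, r, hw, ?_, ?_⟩
  · have hu1 : ∀ d : A, d ∣ w → IsUnit (algebraMap A (Localization.Away w) d) := fun d hd =>
      isUnit_of_dvd_unit (map_dvd _ hd) (IsLocalization.Away.algebraMap_isUnit w)
    have := congrArg (algebraMap A (Localization.Away w)) hzeq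
    rw [map_mul _ _ z, map_mul _ a, map_pow] at this
    rw [← Ideal.span_singleton_mul_left_unit (hu1 _ (dvd_mul_of_dvd_left (dvd_mul_left _ a) _)),
      this, Ideal.span_singleton_mul_left_unit (hu1 _ (dvd_mul_of_dvd_left (dvd_mul_right a _) _))]
  · have hmap : P.map (algebraMap A (Localization.Away w)) =
        Ideal.span {algebraMap A (Localization.Away w) t} := by
      refine le_antisymm ?_ ?_
      · rw [← hG, Ideal.map_span, Ideal.span_le]
        rintro _ ⟨x, hx, rfl⟩
        have hun : IsUnit (algebraMap A (Localization.Away w) (S ⟨x, hx⟩)) :=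
          isUnit_of_dvd_unit (map_dvd _ ((Finset.dvd_prod_of_mem S (Finset.mem_univ _)).trans
            (dvd_mul_left _ _))) (IsLocalization.Away.algebraMap_isUnit w)
        rw [SetLike.mem_coe, ← Ideal.unit_mul_mem_iff_mem _ hun, ← map_mul, hY ⟨x, hx⟩, map_mul]
        exact Ideal.mul_mem_left _ _ (Ideal.mem_span_singleton_self _)
      · rw [Ideal.span_le, Set.singleton_subset_iff]
        exact Ideal.mem_map_of_mem _ htP
    rw [← hmap]
    refine IsLocalization.isPrime_of_isPrime_disjoint (Submonoid.powers w) _ P hz ?_
    rw [Set.disjoint_left]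
    rintro _ ⟨n, rfl⟩ h
    exact hw (hz.mem_of_pow_mem _ h)

end Groth.Agent.S18391
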