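import Groth.Statements.S18392
import Groth.Agent.LVCorr.DVR

set_option autoImplicit false
universe u
open LVCorr

namespace Groth.Agent.S18392

/-- Let A be a normal (integrally closed) Noetherian domain and z an element of A such that the radical
of (z) is prime. Then for every non-empty open subset V of Spec A contained in the basic open set
D(z) (that is, every non-empty open subset of Spec A[1/z]) there is an element x of A, not in the
radical of (z), such that the basic open set D(xz) = Spec A[1/xz] is contained in V. -/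
theorem result (A : Type u) [CommRing A]
    [IsDomain A] [IsNoetherianRing A] [IsIntegrallyClosed A] (z : A)
    (hz : (Ideal.span {z}).radical.IsPrime) (V : Set (PrimeSpectrum A)) (hV : IsOpen V)
    (hVz : V ⊆ (PrimeSpectrum.basicOpen z : Set (PrimeSpectrum A))) (hne : V.Nonempty) :
    ∃ x : A, x ∉ (Ideal.span {z}).radical ∧
      ((PrimeSpectrum.basicOpen (x * z) : TopologicalSpace.Opens (PrimeSpectrum A)) :
        Set (PrimeSpectrum A)) ⊆ V := by
  obtain ⟨v, hv⟩ := hne
  obtain ⟨J, hJ⟩ := (PrimeSpectrum.isClosed_iff_zeroLocus_ideal _).1 hV.isClosed_compl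
  have hJ0 : J ≠ ⊥ := by
    rintro rfl
    have : v ∈ Vᶜ := by rw [hJ]; simp
    exact this hv
  obtain ⟨g, hgJ, hg⟩ := Submodule.exists_mem_ne_zero_of_ne_bot hJ0
  set P := (Ideal.span {z}).radical with hP
  have hrad : algebraMap A (Localization.AtPrime P) z ∈
      (Ideal.span {algebraMap A (Localization.AtPrime P) g}).radical := by
    rw [Ideal.radical_eq_sInf, Submodule.mem_sInf]
    rintro Q ⟨hgQ, hQ⟩
    have : Q ≠ ⊥ := fun h => hg (IsLocalization.injective (Localization.AtPrime P)
      P.primeCompl_le_nonZeroDivisors (by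
        rw [map_zero, ← Ideal.mem_bot, ← h]
        exact hgQ (Ideal.mem_span_singleton_self _)))
    rw [Groth.Agent.LVCorr.DVR.eq_maximalIdeal_of_ne_bot (P := P) hP.symm Q this,
      IsLocalization.AtPrime.to_map_mem_maximal_iff (Localization.AtPrime P) P]
    exact Ideal.le_radical (Ideal.mem_span_singleton_self z)
  obtain ⟨N, hN⟩ := hrad
  obtain ⟨c, hc⟩ := Ideal.mem_span_singleton'.1 hN
  obtain ⟨⟨a, s⟩, rfl⟩ := IsLocalization.mk'_surjective P.primeCompl c
  refine ⟨s, s.2, fun Q hQ => ?_⟩
  have hne : a * g = s * z ^ N := by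
    apply IsLocalization.injective (Localization.AtPrime P) P.primeCompl_le_nonZeroDivisors
    rw [map_mul, map_mul, map_pow, ← hc, ← mul_assoc, IsLocalization.mk'_spec']
  have hQ' : (s : A) * z ∉ Q.asIdeal := hQ
  by_contra hn
  have : Q ∈ PrimeSpectrum.zeroLocus (J : Set A) := hJ ▸ hn
  have hgQ : a * g ∈ Q.asIdeal := Ideal.mul_mem_left _ _ (this hgJ)
  rw [hne] at hgQ
  rcases Q.isPrime.mem_or_mem hgQ with h | h
  · exact hQ' (Ideal.mul_mem_right _ _ h)
  · exact hQ' (Ideal.mul_mem_left _ _ (Q.isPrime.mem_of_pow_mem _ h))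

end Groth.Agent.S18392
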