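import Groth.Statements.S18393
-- import your own Groth.Agent.* helpers here

set_option autoImplicit false
universe u v
open LVCorr

namespace Groth.Agent.S18393

/-- Stated for the underlying continuous maps. Let c₁, c₂ : C → X be continuous maps with C a Noetherian
topological space, let Z be a closed subset of X and B the closure in C of c₂⁻¹(Z) ∖ c₁⁻¹(Z). Call Z
locally invariant when every point x of Z has an open neighbourhood U such that every y in C with
c₂(y) ∈ Z ∩ U and c₁(y) ∈ U satisfies c₁(y) ∈ Z. Then Z is locally invariant if and only if for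
every irreducible subset T of B the closures of c₁(T) and of c₂(T) in X are disjoint. (The source
states this for a correspondence c = (c₁, c₂) : C → X × X of separated schemes of finite type over
an algebraically closed field and for the irreducible components of B; the condition for all
irreducible subsets of B is the same condition.) -/
theorem result {C : Type u} {X : Type v}
    [TopologicalSpace C] [TopologicalSpace X] [TopologicalSpace.NoetherianSpace C]
    (c₁ c₂ : C → X) (hc₁ : Continuous c₁) (hc₂ : Continuous c₂) (Z : Set X) (hZ : IsClosed Z) :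
    (∀ x ∈ Z, ∃ U : Set X, IsOpen U ∧ x ∈ U ∧
        ∀ y : C, c₂ y ∈ Z → c₂ y ∈ U → c₁ y ∈ U → c₁ y ∈ Z) ↔
      ∀ T : Set C, T ⊆ closure (c₂ ⁻¹' Z \ c₁ ⁻¹' Z) → IsIrreducible T →
        closure (c₁ '' T) ∩ closure (c₂ '' T) = ∅ := by
  constructor
  · intro h T hTB hT
    rw [Set.eq_empty_iff_forall_notMem]
    rintro x ⟨hx₁, hx₂⟩
    have hB : closure (c₂ ⁻¹' Z \ c₁ ⁻¹' Z) ⊆ c₂ ⁻¹' Z :=
      closure_minimal Set.sdiff_subset (hZ.preimage hc₂)
    have hxZ : x ∈ Z := closure_minimal (Set.image_subset_iff.2 (hTB.trans hB)) hZ hx₂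
    obtain ⟨U, hU, hxU, hinv⟩ := h x hxZ
    obtain ⟨-, ha, a, haT, rfl⟩ := mem_closure_iff.1 hx₁ U hU hxU
    obtain ⟨-, hb, b, hbT, rfl⟩ := mem_closure_iff.1 hx₂ U hU hxU
    obtain ⟨y, hyT, hy₁, hy₂⟩ := hT.2 _ _ (hU.preimage hc₁) (hU.preimage hc₂)
      ⟨a, haT, ha⟩ ⟨b, hbT, hb⟩
    obtain ⟨z, ⟨hz₁, hz₂⟩, hzZ, hzn⟩ := mem_closure_iff.1 (hTB hyT) _
      ((hU.preimage hc₁).inter (hU.preimage hc₂)) ⟨hy₁, hy₂⟩
    exact hzn (hinv z hzZ hz₂ hz₁)
  · intro h x hx
    obtain ⟨S, hSf, -, hSi, hSeq⟩ :=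
      TopologicalSpace.NoetherianSpace.exists_finite_set_isClosed_irreducible
        (isClosed_closure (s := c₂ ⁻¹' Z \ c₁ ⁻¹' Z))
    have hsel : ∀ T ∈ S, ∃ V : Set X, IsOpen V ∧ x ∈ V ∧
        ∀ y ∈ T, c₁ y ∈ V → c₂ y ∈ V → False := by
      intro T hT
      have hd := h T (hSeq ▸ Set.subset_sUnion_of_mem hT) (hSi T hT)
      by_cases hx₁ : x ∈ closure (c₁ '' T)
      · have hx₂ : x ∉ closure (c₂ '' T) := fun hx₂ => (Set.eq_empty_iff_forall_notMem.1 hd x) ⟨hx₁, hx₂⟩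
        exact ⟨(closure (c₂ '' T))ᶜ, isClosed_closure.isOpen_compl, hx₂,
          fun y hy _ h2 => h2 (subset_closure ⟨y, hy, rfl⟩)⟩
      · exact ⟨(closure (c₁ '' T))ᶜ, isClosed_closure.isOpen_compl, hx₁,
          fun y hy h1 _ => h1 (subset_closure ⟨y, hy, rfl⟩)⟩
    choose V hV hxV hdis using hsel
    have : Finite S := hSf
    refine ⟨⋂ T : S, V T.1 T.2, isOpen_iInter_of_finite fun T => hV T.1 T.2,
      Set.mem_iInter.2 fun T => hxV T.1 T.2, fun y hyZ hy₂ hy₁ => ?_⟩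
    by_contra hn
    have : y ∈ ⋃₀ S := hSeq ▸ subset_closure (show y ∈ c₂ ⁻¹' Z \ c₁ ⁻¹' Z from ⟨hyZ, hn⟩)
    obtain ⟨T, hT, hyT⟩ := this
    exact hdis T hT y hyT (Set.mem_iInter.1 hy₁ ⟨T, hT⟩) (Set.mem_iInter.1 hy₂ ⟨T, hT⟩)

end Groth.Agent.S18393
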