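import Groth.Statements.S18394
import Groth.Agent.Nagata.Boundary
import Groth.Agent.FlatMor.SchDom

set_option maxHeartbeats 400000
set_option backward.isDefEq.respectTransparency false
-- import your own Groth.Agent.* helpers here

set_option autoImplicit false
universe u v
open LVCorr

namespace Groth.Agent.S18394

open AlgebraicGeometry CategoryTheory in
/-- Let X be a scheme separated and of finite type over a field k, and let (C₁ᵢ, C₂ᵢ), i ranging over a
finite set, be pairs of closed subsets of X with C₁ᵢ and C₂ᵢ disjoint for every i. Then X admits a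
compactification in which each pair stays disjoint: there are a scheme X̄ proper over k and an open
immersion j : X → X̄ over k with dense image such that for every i the closures of j(C₁ᵢ) and of
j(C₂ᵢ) in X̄ do not meet. (The source has k algebraically closed.) -/
theorem result {X : Scheme.{u}} (k : Type u) [Field k]
    (pX : X ⟶ Spec (CommRingCat.of k)) [IsSeparated pX] [QuasiCompact pX] [LocallyOfFiniteType pX]
    {ι : Type v} [Finite ι] (C₁ C₂ : ι → Set X) (h₁ : ∀ i, IsClosed (C₁ i)) (h₂ : ∀ i, IsClosed (C₂ i))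
    (hd : ∀ i, C₁ i ∩ C₂ i = ∅) :
    ∃ (Xb : Scheme.{u}) (j : X ⟶ Xb) (p : Xb ⟶ Spec (CommRingCat.of k)),
      IsProper p ∧ IsOpenImmersion j ∧ DenseRange j.base ∧ j ≫ p = pX ∧
      ∀ i, closure (j.base '' C₁ i) ∩ closure (j.base '' C₂ i) = ∅ := by
  classical
  haveI : Fintype ι := Fintype.ofFinite ι
  haveI : CompactSpace X := QuasiCompact.compactSpace_of_compactSpace pX
  haveI : IsLocallyNoetherian X := LocallyOfFiniteType.isLocallyNoetherian pX
  haveI : IsNoetherian X := {}
  have key : ∀ s : Finset ι, ∃ (Y : Scheme.{u}) (j : X ⟶ Y) (p : Y ⟶ Spec (CommRingCat.of k)),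
      IsOpenImmersion j ∧ IsProper p ∧ j ≫ p = pX ∧
      ∀ i ∈ s, Disjoint (closure (j.base '' C₁ i)) (closure (j.base '' C₂ i)) := by
    intro s
    induction s using Finset.induction with
    | empty =>
      obtain ⟨Y, j, p, h1, -, h3, h4⟩ := Nagata.hasCompactification pX
      exact ⟨Y, j, p, h1, h3, h4, fun i hi => absurd hi (by simp)⟩
    | @insert a s _ ih =>
      obtain ⟨Y, j, p, hj, hp, hjp, hdis⟩ := ih
      haveI : CompactSpace Y := QuasiCompact.compactSpace_of_compactSpace p
      haveI : QuasiSeparatedSpace Y := quasiSeparatedSpace_of_quasiSeparated p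
      let V₁ : X.Opens := ⟨(C₁ a)ᶜ, (h₁ a).isOpen_compl⟩
      let V₂ : X.Opens := ⟨(C₂ a)ᶜ, (h₂ a).isOpen_compl⟩
      obtain ⟨J, hJ, hJs⟩ := QDom.Global.exists_support_eq_compl (V := j ''ᵁ V₁)
        ((TopologicalSpace.NoetherianSpace.isCompact _).image j.continuous)
      obtain ⟨K, hK, hKs⟩ := QDom.Global.exists_support_eq_compl (V := j ''ᵁ V₂)
        ((TopologicalSpace.NoetherianSpace.isCompact _).image j.continuous)
      have hmem : ∀ (V : X.Opens) (x : X), x ∉ V → j x ∈ ((j ''ᵁ V : Y.Opens) : Set Y)ᶜ := by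
        rintro V x hx ⟨x', hx', he⟩
        exact hx (j.isOpenEmbedding.injective he ▸ hx')
      have hcov : ∀ x, x ∈ V₁ ∨ x ∈ V₂ := fun x => by
        by_contra h
        simp only [not_or] at h
        exact Set.eq_empty_iff_forall_notMem.mp (hd a) x
          ⟨not_not.mp h.1, not_not.mp h.2⟩
      have hA : (fun x => j x) '' C₁ a ⊆ (J.support : Set Y) := by
        rintro _ ⟨x, hx, rfl⟩; rw [hJs]; exact hmem V₁ x (not_not.mpr hx)
      have hB : (fun x => j x) '' C₂ a ⊆ (K.support : Set Y) := by
        rintro _ ⟨x, hx, rfl⟩; rw [hKs]; exact hmem V₂ x (not_not.mpr hx)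
      have hA' : Disjoint (K.support : Set Y) ((fun x => j x) '' C₁ a) := by
        rw [Set.disjoint_right]
        rintro _ ⟨x, hx, rfl⟩ h
        rw [hKs] at h
        exact h ⟨x, (hcov x).resolve_left (not_not.mpr hx), rfl⟩
      have hB' : Disjoint (J.support : Set Y) ((fun x => j x) '' C₂ a) := by
        rw [Set.disjoint_right]
        rintro _ ⟨x, hx, rfl⟩ h
        rw [hJs] at h
        exact h ⟨x, (hcov x).resolve_right (not_not.mpr hx), rfl⟩
      have hdj : Disjoint ((J ⊔ K).support : Set Y) (j.opensRange : Set Y) := by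
        rw [Set.disjoint_left]
        rintro _ h ⟨x, rfl⟩
        have e1 : j x ∈ (J.support : Set Y) :=
          Scheme.IdealSheafData.support_antitone (le_sup_left : J ≤ J ⊔ K) h
        have e2 : j x ∈ (K.support : Set Y) :=
          Scheme.IdealSheafData.support_antitone (le_sup_right : K ≤ J ⊔ K) h
        rw [hJs] at e1
        rw [hKs] at e2
        rcases hcov x with hx | hx
        exacts [e1 ⟨x, hx, rfl⟩, e2 ⟨x, hx, rfl⟩]
      have hft : BlowUp.IsFiniteTypeIdeal (J ⊔ K) := fun U => by
        rw [Scheme.IdealSheafData.ideal_sup, Pi.sup_apply]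
        exact Submodule.FG.sup (hJ U) (hK U)
      obtain ⟨Z, c, hc⟩ := BlowUp.Glue.exists_isBlowUp Y (J ⊔ K)
      haveI : IsProper c := BlowUpProper.Basic.isProper hc hft
      haveI : CompactSpace Z := QuasiCompact.compactSpace_of_compactSpace c
      haveI : QuasiSeparatedSpace Z := quasiSeparatedSpace_of_quasiSeparated c
      obtain ⟨o, ho, hoo, -, -, -⟩ := Nagata.exists_lift j hc hdj
      have hsub : ∀ C : Set X, o.base '' C ⊆ (fun y => c y) ⁻¹' ((fun x => j x) '' C) := by
        rintro C _ ⟨x, hx, rfl⟩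
        exact ⟨x, hx, by rw [← ho]; exact Scheme.Hom.comp_apply o c x⟩
      refine ⟨Z, o, c ≫ p, hoo, inferInstance, by rw [← Category.assoc, ho, hjp], fun i hi => ?_⟩
      rcases Finset.mem_insert.mp hi with rfl | hi
      · exact (Nagata.disjoint_closure_blowUp J K c hc _ _ hA hB hA' hB').mono
          (closure_mono (hsub _)) (closure_mono (hsub _))
      · refine ((hdis i hi).preimage (fun y => c y)).mono ?_ ?_ <;>
          exact closure_minimal ((hsub _).trans (Set.preimage_mono subset_closure))
            (isClosed_closure.preimage c.continuous)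
  obtain ⟨Y, j, p, hj, hp, hjp, hdis⟩ := key Finset.univ
  haveI : CompactSpace Y := QuasiCompact.compactSpace_of_compactSpace p
  haveI : QuasiSeparatedSpace Y := quasiSeparatedSpace_of_quasiSeparated p
  haveI : QuasiCompact j := QuasiCompact.of_comp _ (Limits.terminal.from Y)
  refine ⟨j.image, j.toImage, j.imageι ≫ p, inferInstance,
    Groth.Agent.FlatMor.SchDom.isOpenImmersion_toImage' j (Or.inl inferInstance),
    j.toImage.denseRange, by rw [← Category.assoc, Scheme.Hom.toImage_imageι, hjp], fun i => ?_⟩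
  refine Set.disjoint_iff_inter_eq_empty.mp
    (((hdis i (Finset.mem_univ i)).preimage (fun y => j.imageι y)).mono ?_ ?_) <;>
    refine closure_minimal ?_ (isClosed_closure.preimage j.imageι.continuous) <;>
    (rintro _ ⟨x, hx, rfl⟩
     exact subset_closure ⟨x, hx, by rw [← Scheme.Hom.toImage_imageι j]; rfl⟩)

end Groth.Agent.S18394
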