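import Groth.Statements.S18395
import Groth.Agent.LVCompact.Basic
-- import your own Groth.Agent.* helpers here

set_option autoImplicit false
universe u
open LVCorr

namespace Groth.Agent.S18395

open AlgebraicGeometry CategoryTheory in
/-- Let X and C be schemes separated and of finite type over a field k, let c₁, c₂ : C → X be morphisms
over k (a correspondence C → X × X), and fix an open U ⊆ X whose preimage c₁⁻¹(U) forms a dense
subset of C, such that the restriction c₁⁻¹(U) → U of c₁ is proper, and the closed subset Z = X ∖ U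
is locally invariant: every point x of Z has an open neighbourhood U' such that every y in C with
c₂(y) ∈ Z ∩ U' and c₁(y) ∈ U' satisfies c₁(y) ∈ Z. Then the correspondence has a compactification
for which the complement of U is again locally invariant: there are schemes C̄ and X̄ proper over k,
open immersions j : C → C̄ and jX : X → X̄ over k with dense images, and morphisms c̄₁, c̄₂ : C̄ →
X̄ over k with j followed by c̄ᵢ equal to cᵢ followed by jX, such that X̄ ∖ jX(U) is locally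
invariant for (c̄₁, c̄₂) in the same sense. (The source has k algebraically closed.) -/
theorem result {C X : Scheme.{u}} (k : Type u) [Field k]
    (pC : C ⟶ Spec (CommRingCat.of k)) [IsSeparated pC] [QuasiCompact pC] [LocallyOfFiniteType pC]
    (pX : X ⟶ Spec (CommRingCat.of k)) [IsSeparated pX] [QuasiCompact pX] [LocallyOfFiniteType pX]
    (c₁ c₂ : C ⟶ X) (hc₁ : c₁ ≫ pX = pC) (hc₂ : c₂ ≫ pX = pC) (U : X.Opens)
    (hU : Dense ((c₁ ⁻¹ᵁ U : C.Opens) : Set C)) [IsProper (c₁ ∣_ U)]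
    (hZ : ∀ x ∈ ((U : Set X)ᶜ), ∃ U' : Set X, IsOpen U' ∧ x ∈ U' ∧
        ∀ y, c₂.base y ∈ ((U : Set X)ᶜ) → c₂.base y ∈ U' → c₁.base y ∈ U' → c₁.base y ∈ ((U : Set X)ᶜ)) :
    ∃ (Cb Xb : Scheme.{u}) (pCb : Cb ⟶ Spec (CommRingCat.of k)) (pXb : Xb ⟶ Spec (CommRingCat.of k))
      (j : C ⟶ Cb) (jX : X ⟶ Xb) (cb₁ cb₂ : Cb ⟶ Xb),
      IsProper pCb ∧ IsProper pXb ∧ IsOpenImmersion j ∧ IsOpenImmersion jX ∧
      DenseRange j.base ∧ DenseRange jX.base ∧ j ≫ pCb = pC ∧ jX ≫ pXb = pX ∧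
      cb₁ ≫ pXb = pCb ∧ cb₂ ≫ pXb = pCb ∧ j ≫ cb₁ = c₁ ≫ jX ∧ j ≫ cb₂ = c₂ ≫ jX ∧
      ∀ x ∈ ((jX.base '' (U : Set X))ᶜ), ∃ U' : Set Xb, IsOpen U' ∧ x ∈ U' ∧
        ∀ y, cb₂.base y ∈ ((jX.base '' (U : Set X))ᶜ) → cb₂.base y ∈ U' → cb₁.base y ∈ U' → cb₁.base y ∈ ((jX.base '' (U : Set X))ᶜ) := by
  haveI : IsLocallyNoetherian C := LocallyOfFiniteType.isLocallyNoetherian pC
  haveI : CompactSpace C := QuasiCompact.compactSpace_of_compactSpace pC
  haveI : AlgebraicGeometry.IsNoetherian C := { }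
  haveI : TopologicalSpace.NoetherianSpace C := inferInstance
  haveI : CompactSpace X := QuasiCompact.compactSpace_of_compactSpace pX
  classical
  let Z : Set X := (U : Set X)ᶜ
  have hZc : IsClosed Z := U.2.isClosed_compl
  let F : Set C := {y | c₁ y ∈ U ∧ c₂ y ∈ Z}
  -- finitely many maximal points of `F`
  obtain ⟨T, hTf, hTc, hTi, hTu⟩ :=
    TopologicalSpace.NoetherianSpace.exists_finite_set_isClosed_irreducible (isClosed_closure (s := F))
  have hgen : ∀ t ∈ T, ∃ g : C, IsGenericPoint g t := fun t ht =>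
    ⟨(hTi t ht).genericPoint, by
      have := (hTi t ht).isGenericPoint_genericPoint_closure
      rwa [(hTc t ht).closure_eq] at this⟩
  choose g hg using hgen
  let G : Finset C := (hTf.toFinset.attach.image fun t => g t.1 (hTf.mem_toFinset.mp t.2)).filter (· ∈ F)
  have hGcov : ∀ y ∈ F, ∃ x ∈ G, x ⤳ y := by
    intro y hy
    obtain ⟨t, ht, hyt⟩ := Set.mem_sUnion.mp (hTu ▸ subset_closure hy)
    refine ⟨g t ht, ?_, (hg t ht).specializes hyt⟩
    have h1 : g t ht ∈ c₁ ⁻¹ᵁ U :=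
      ((hg t ht).specializes hyt).mem_open (c₁ ⁻¹ᵁ U).2 hy.1
    have h2 : g t ht ∈ F := by
      refine ⟨h1, ?_⟩
      have : g t ht ∈ closure F := hTu ▸ Set.mem_sUnion.mpr ⟨t, ht, (hg t ht).mem⟩
      exact closure_minimal (fun z hz => hz.2) (hZc.preimage c₂.continuous) this
    rw [Finset.mem_filter, Finset.mem_image]
    exact ⟨⟨⟨t, hTf.mem_toFinset.mpr ht⟩, Finset.mem_attach _ _, rfl⟩, h2⟩
  -- compactify `X` separating the images
  have hGF : ∀ x ∈ G, x ∈ F := fun x hx => (Finset.mem_filter.mp hx).2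
  obtain ⟨Xb, pXb, jX, hpXb, hjX, hjXp, hjXd, hsep⟩ :=
    Groth.Agent.LVCompact.exists_compactification_separating pX G (fun x => closure {c₁ x})
      (fun x => closure {c₂ x}) (fun _ _ => isClosed_closure) (fun _ _ => isClosed_closure)
      (fun x hx => by
        rw [Set.disjoint_left]
        intro z hz₁ hz₂
        have hzZ : z ∈ Z :=
          closure_minimal (Set.singleton_subset_iff.mpr (hGF x hx).2) hZc hz₂
        obtain ⟨U', hU'o, hzU', hU'⟩ := hZ z hzZ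
        exact hU' x (hGF x hx).2 ((specializes_iff_mem_closure.mpr hz₂).mem_open hU'o hzU')
          ((specializes_iff_mem_closure.mpr hz₁).mem_open hU'o hzU') (hGF x hx).1)
  -- compactify `C` over `Xb ×ₖ Xb`
  haveI := hpXb
  haveI := hjX
  have hq : (c₁ ≫ jX) ≫ pXb = (c₂ ≫ jX) ≫ pXb := by
    rw [Category.assoc, Category.assoc, hjXp, hc₁, hc₂]
  let q := Limits.pullback.lift (c₁ ≫ jX) (c₂ ≫ jX) hq
  have hqp : q ≫ Limits.pullback.fst pXb pXb ≫ pXb = pC := by
    rw [Limits.pullback.lift_fst_assoc, Category.assoc, hjXp, hc₁]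
  haveI : IsSeparated (q ≫ Limits.pullback.fst pXb pXb ≫ pXb) := hqp ▸ inferInstance
  haveI : QuasiCompact (q ≫ Limits.pullback.fst pXb pXb ≫ pXb) := hqp ▸ inferInstance
  haveI : LocallyOfFiniteType (q ≫ Limits.pullback.fst pXb pXb ≫ pXb) := hqp ▸ inferInstance
  haveI : IsSeparated q := IsSeparated.of_comp q (Limits.pullback.fst pXb pXb ≫ pXb)
  haveI : QuasiCompact q := QuasiCompact.of_comp q (Limits.pullback.fst pXb pXb ≫ pXb)
  haveI : LocallyOfFiniteType q := locallyOfFiniteType_of_comp q (Limits.pullback.fst pXb pXb ≫ pXb)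
  haveI : CompactSpace Xb := QuasiCompact.compactSpace_of_compactSpace pXb
  haveI : QuasiSeparatedSpace Xb := quasiSeparatedSpace_of_quasiSeparated pXb
  haveI : CompactSpace ↥(Limits.pullback pXb pXb) :=
    QuasiCompact.compactSpace_of_compactSpace (Limits.pullback.fst pXb pXb)
  haveI : QuasiSeparatedSpace ↥(Limits.pullback pXb pXb) :=
    quasiSeparatedSpace_of_quasiSeparated (Limits.pullback.fst pXb pXb)
  obtain ⟨Cb, j, p, -, hj, _, _, hp, hjp, -, -⟩ := Groth.Agent.Nagata.exists_compactification_boundary q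
  haveI := hp
  haveI := hj
  let cb₁ := p ≫ Limits.pullback.fst pXb pXb
  let cb₂ := p ≫ Limits.pullback.snd pXb pXb
  have hj₁ : j ≫ cb₁ = c₁ ≫ jX := by
    simp only [cb₁, ← Category.assoc, hjp]
    exact Limits.pullback.lift_fst _ _ _
  have hj₂ : j ≫ cb₂ = c₂ ≫ jX := by
    simp only [cb₂, ← Category.assoc, hjp]
    exact Limits.pullback.lift_snd _ _ _
  refine ⟨Cb, Xb, cb₁ ≫ pXb, pXb, j, jX, cb₁, cb₂, inferInstance, hpXb, hj, hjX, j.denseRange, hjXd,
    by rw [reassoc_of% hj₁, hjXp, hc₁], hjXp, rfl, ?_, hj₁, hj₂, ?_⟩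
  · simp only [cb₁, cb₂, Category.assoc, Limits.pullback.condition]
  -- the preimage of `U` under `cb₁` lies in `C`
  let U₁ : Xb.Opens := jX ''ᵁ U
  have hpre : c₁ ⁻¹ᵁ U = j ⁻¹ᵁ (cb₁ ⁻¹ᵁ U₁) := by
    rw [← Scheme.Hom.comp_preimage, hj₁, Scheme.Hom.comp_preimage, Scheme.Hom.preimage_image_eq]
  have hrange : ∀ y, cb₁ y ∈ U₁ → y ∈ Set.range j := by
    let V := cb₁ ⁻¹ᵁ U₁
    let s : (c₁ ⁻¹ᵁ U).toScheme ⟶ V.toScheme := IsOpenImmersion.lift V.ι ((c₁ ⁻¹ᵁ U).ι ≫ j) (by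
      rw [Scheme.Opens.range_ι]
      rintro _ ⟨z, rfl⟩
      exact (hpre.le z.2))
    have hs : s ≫ V.ι = (c₁ ⁻¹ᵁ U).ι ≫ j := IsOpenImmersion.lift_fac _ _ _
    let e := IsOpenImmersion.isoOfRangeEq (U.ι ≫ jX) U₁.ι (by
      rw [Scheme.Opens.range_ι]
      ext z
      constructor
      · rintro ⟨w, rfl⟩; exact ⟨w.1, w.2, rfl⟩
      · rintro ⟨w, hw, rfl⟩; exact ⟨⟨w, hw⟩, rfl⟩)
    let l : U.toScheme ⟶ U₁.toScheme := e.hom
    have hl : l ≫ U₁.ι = U.ι ≫ jX := IsOpenImmersion.isoOfRangeEq_hom_fac _ _ _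
    haveI : IsIso l := inferInstanceAs (IsIso e.hom)
    haveI : IsProper (s ≫ (cb₁ ∣_ U₁)) := by
      have : s ≫ (cb₁ ∣_ U₁) = (c₁ ∣_ U) ≫ l := by
        rw [← cancel_mono U₁.ι, Category.assoc, morphismRestrict_ι, reassoc_of% hs, hj₁,
          Category.assoc, hl, morphismRestrict_ι_assoc]
      rw [this]
      infer_instance
    haveI : IsProper s := IsProper.of_comp s (cb₁ ∣_ U₁)
    have hd : DenseRange s := by
      intro z
      refine closure_subtype.mpr ?_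
      have hdC : Dense (j '' ((c₁ ⁻¹ᵁ U : C.Opens) : Set C)) :=
        j.denseRange.dense_image j.continuous hU
      refine closure_mono ?_ (hdC z.1)
      rintro _ ⟨x, hx, rfl⟩
      exact ⟨s ⟨x, hx⟩, ⟨⟨x, hx⟩, rfl⟩, congr(($hs) ⟨x, hx⟩)⟩
    intro y hy
    obtain ⟨x, hx⟩ : (⟨y, hy⟩ : V.toScheme) ∈ Set.range s := by
      rw [← s.isClosedMap.isClosed_range.closure_eq, hd.closure_range]
      trivial
    exact ⟨x.1, (congr(($hs) x)).symm.trans (congrArg Subtype.val hx)⟩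
  intro x hx
  by_cases hxX : x ∈ Set.range jX
  · obtain ⟨x₀, rfl⟩ := hxX
    obtain ⟨U', hU'o, hxU', hU'⟩ := hZ x₀ (fun h => hx ⟨x₀, h, rfl⟩)
    refine ⟨jX '' U', jX.isOpenEmbedding.isOpenMap _ hU'o, ⟨x₀, hxU', rfl⟩, fun y h2 h2' h1' h1 => ?_⟩
    obtain ⟨y₀, rfl⟩ := hrange y h1
    rw [← Scheme.Hom.comp_apply, hj₁] at h1 h1'
    rw [← Scheme.Hom.comp_apply, hj₂] at h2 h2'
    have hi := jX.isOpenEmbedding.injective
    exact hU' y₀ (fun h => h2 ⟨_, h, rfl⟩) (hi.mem_set_image.mp h2') (hi.mem_set_image.mp h1')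
      (hi.mem_set_image.mp h1)
  · let W : C → Set Xb := fun g =>
      if x ∈ closure (jX '' closure {c₁ g}) then (closure (jX '' closure {c₂ g}))ᶜ
      else (closure (jX '' closure {c₁ g}))ᶜ
    refine ⟨⋂ g ∈ G, W g, isOpen_biInter_finset fun g _ => ?_, Set.mem_iInter₂.mpr fun g hg => ?_,
      fun y h2 h2' h1' h1 => ?_⟩
    · simp only [W]; split_ifs <;> exact isClosed_closure.isOpen_compl
    · simp only [W]; split_ifs with h
      · exact Set.disjoint_left.mp (hsep g hg) h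
      · exact h
    obtain ⟨y₀, rfl⟩ := hrange y h1
    rw [← Scheme.Hom.comp_apply, hj₁] at h1 h1'
    rw [← Scheme.Hom.comp_apply, hj₂] at h2 h2'
    obtain ⟨g, hg, hgy⟩ := hGcov y₀ ⟨(jX.isOpenEmbedding.injective.mem_set_image).mp h1,
      fun h => h2 ⟨_, h, rfl⟩⟩
    have hW₁ := Set.mem_iInter₂.mp h1' g hg
    have hW₂ := Set.mem_iInter₂.mp h2' g hg
    simp only [W] at hW₁ hW₂
    split_ifs at hW₁ hW₂
    · exact hW₂ (subset_closure ⟨c₂ y₀, (hgy.map c₂.continuous).mem_closure, rfl⟩)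
    · exact hW₁ (subset_closure ⟨c₁ y₀, (hgy.map c₁.continuous).mem_closure, rfl⟩)

end Groth.Agent.S18395
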