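import Mathlib
import Groth.Agent.CAlg99.CotGen
import Groth.Statements.S18399
-- import your own Groth.Agent.* helpers here

set_option autoImplicit false
universe u
open CAlg

namespace Groth.Agent.S18399

/-- Let k be a field and A a regular local k-algebra with residue field k (the structure map from k onto
the residue field of A is surjective), let σ be a k-algebra endomorphism of A of finite order n with
n invertible in k, and let I_σ be the ideal of A generated by the elements f - σ f. Then I_σ is
generated by finitely many elements of the maximal ideal whose classes in the cotangent space m/m^2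
are linearly independent over the residue field. (Such elements are part of a regular system of
parameters of A, hence part of a regular sequence, which is the printed conclusion; the generators
with independent classes are what the argument produces.) -/
theorem result {k : Type u} [Field k] {A : Type u} [CommRing A] [Algebra k A] [IsRegularLocalRing A] (hres : Function.Surjective ⇑(algebraMap k (IsLocalRing.ResidueField A))) (σ : A →ₐ[k] A) (n : ℕ) (hσ : ∀ a : A, (⇑σ)^[n] a = a) (hn : (n : k) ≠ 0) : ∃ (m : ℕ) (f : Fin m → ↥(IsLocalRing.maximalIdeal A)), Ideal.span (Set.range fun i : Fin m => (f i : A)) = Ideal.span (Set.range fun a : A => a - σ a) ∧ LinearIndependent (IsLocalRing.ResidueField A) (fun i : Fin m => (IsLocalRing.maximalIdeal A).toCotangent (f i)) := by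
  classical
  have hn0 : 0 < n := Nat.pos_of_ne_zero fun h => hn (by rw [h]; simp)
  let τ : Fin n → A →ₐ[k] A := fun i => σ ^ (i : ℕ)
  have happ : ∀ (i : ℕ) (a : A), (σ ^ i) a = (⇑σ)^[i] a := fun i => by
    induction i with
    | zero => intro a; simp
    | succ i ih => intro a; rw [pow_succ', AlgHom.mul_apply, ih, Function.iterate_succ_apply']
  have hperiod : ∀ (i : ℕ) (a : A), (⇑σ)^[i] a = (⇑σ)^[i % n] a := fun i a => by
    conv_lhs => rw [← Nat.mod_add_div i n, Function.iterate_add_apply, Function.iterate_mul]
    rw [Function.iterate_fixed (hσ a)]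
  have hinj : Function.Injective σ := fun a b hab => by
    rw [← hσ a, ← hσ b, ← Nat.sub_add_cancel hn0, Function.iterate_succ_apply, Function.iterate_succ_apply, hab]
  have hbij : Function.Bijective σ := ⟨hinj, fun a => ⟨(⇑σ)^[n - 1] a, by
    rw [← Function.iterate_succ_apply' ⇑σ, Nat.succ_eq_add_one, Nat.sub_add_cancel hn0, hσ]⟩⟩
  have hm1 : ∀ a ∈ IsLocalRing.maximalIdeal A, σ a ∈ IsLocalRing.maximalIdeal A := fun a ha => by
    rw [IsLocalRing.mem_maximalIdeal] at ha ⊢
    intro hu
    exact ha (by simpa using hu.map (AlgEquiv.ofBijective σ hbij).symm.toAlgHom)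
  have hm : ∀ (i : Fin n), ∀ a ∈ IsLocalRing.maximalIdeal A, τ i a ∈ IsLocalRing.maximalIdeal A := by
    intro i a ha
    simp only [τ, happ]
    generalize (i : ℕ) = j
    induction j with
    | zero => simpa using ha
    | succ j ih => rw [Function.iterate_succ_apply']; exact hm1 _ ih
  have : Nonempty (Fin n) := ⟨⟨0, hn0⟩⟩
  have hperm : ∀ g, ∃ π : Equiv.Perm (Fin n), ∀ i a, τ i (τ g a) = τ (π i) a := by
    have : NeZero n := ⟨hn0.ne'⟩
    intro g
    refine ⟨Equiv.addRight g, fun i a => ?_⟩
    simp only [τ, happ, Equiv.coe_addRight, Fin.val_add]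
    rw [← Function.iterate_add_apply, hperiod]
  obtain ⟨hJ, hJ2⟩ := CAlg99.CotGen.fixed_inf_sq_le τ hres hm hperm (by simpa using hn)
  obtain ⟨r, f, hf, hli⟩ := CAlg99.CotGen.exists_indep_generators _ hJ hJ2
  refine ⟨r, f, ?_, hli⟩
  rw [hf]
  refine le_antisymm (Ideal.span_le.mpr ?_) (Ideal.span_le.mpr ?_)
  · rintro _ ⟨i, a, rfl⟩
    simp only [τ, happ]
    generalize (i : ℕ) = j
    induction j with
    | zero => simp
    | succ j ih =>
      rw [Function.iterate_succ_apply', ← sub_add_sub_cancel (σ ((⇑σ)^[j] a)) ((⇑σ)^[j] a) a]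
      refine Ideal.add_mem _ ?_ ih
      rw [← neg_sub]
      exact Submodule.neg_mem _ (Ideal.subset_span ⟨_, rfl⟩)
  · rintro _ ⟨a, rfl⟩
    rcases eq_or_ne n 1 with h1 | h1
    · have := hσ a
      rw [h1, Function.iterate_one] at this
      simp [this]
    · show a - σ a ∈ _
      rw [← neg_sub (σ a) a]
      refine Submodule.neg_mem _ (Ideal.subset_span ⟨⟨1, by omega⟩, a, ?_⟩)
      simp [τ]

end Groth.Agent.S18399
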