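import Groth.Statements.S1840
import Groth.Agent.CycDetLib.Rel
import Mathlib.LinearAlgebra.ExteriorPower.Basis
import Mathlib.LinearAlgebra.Dimension.Free
import Mathlib.RingTheory.Length
-- import your own Groth.Agent.* helpers here

set_option autoImplicit false
universe u v
open CycDet

namespace Groth.Agent.S1840

open Groth.Agent.CycDetLib IsLocalRing

/-- Let M be a finite-dimensional vector space over the residue field κ of a local ring R, viewed as an
R-module. There is a κ-linear isomorphism from det_κ(M) to the top exterior power of M sending the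
symbol of an admissible tuple (e₁, …, e_l) to e₁ ∧ … ∧ e_l. -/
theorem result (R : Type u) [CommRing R] [IsLocalRing R] (M : Type v) [AddCommGroup M] [Module R M] [Module (IsLocalRing.ResidueField R) M] [IsScalarTower R (IsLocalRing.ResidueField R) M] [Module.Finite (IsLocalRing.ResidueField R) M] : ∃ Φ : CycDet.Det R M ≃ₗ[IsLocalRing.ResidueField R] (⋀[IsLocalRing.ResidueField R]^((Module.length R M).toNat) M), ∀ e : CycDet.Adm R M (Module.length R M).toNat, Φ (CycDet.symbol R M e) = exteriorPower.ιMulti (IsLocalRing.ResidueField R) ((Module.length R M).toNat) e.1 := by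
  have hsurj : Function.Surjective (algebraMap R (ResidueField R)) := residue_surjective
  have hfl : Module.length R M = (Module.finrank (ResidueField R) M : ℕ∞) := by
    rw [Module.length_eq_of_surjective (S := R) (R := ResidueField R) hsurj, Module.length_eq_finrank]
  have hl : Module.length R M = ((Module.length R M).toNat : ℕ∞) := by simp [hfl]
  set l := (Module.length R M).toNat with hldef
  have hlk : l = Module.finrank (ResidueField R) M := by rw [hldef, hfl, ENat.toNat_coe]
  have hres : ∀ (r : R) (x : M), residue R r • x = r • x := fun r x => algebraMap_smul _ r x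
  have hm : ∀ r ∈ maximalIdeal R, ∀ x : M, r • x = 0 := fun r hr x => by
    rw [← hres, (residue_eq_zero_iff r).2 hr, zero_smul]
  have hadm : ∀ t : Fin l → M, CycDet.IsAdmissible R M t := fun t i r hr => by
    rw [hm r hr]; exact zero_mem _
  let ω := exteriorPower.ιMulti (ResidueField R) l (M := M)
  have key : ∀ (t : Fin l → M) (a : Fin l) (y : M), y ∈ CycDet.spanBefore R M t a →
      ω (Function.update t a y) = 0 := by
    intro t a y hy
    induction hy using Submodule.span_induction with
    | mem z hz =>
      obtain ⟨j, hj, rfl⟩ := hz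
      have hja : j ≠ a := by rintro rfl; simp at hj
      exact ω.map_eq_zero_of_eq _ (by rw [Function.update_of_ne hja, Function.update_self]) hja
    | zero => exact ω.map_update_zero t a
    | add u v _ _ hu hv => rw [ω.map_update_add, hu, hv, add_zero]
    | smul r u _ hu => rw [← hres, ω.map_update_smul, hu, smul_zero]
  have hD : RespectsRel (fun e : CycDet.Adm R M l => ω e.1) := by
    refine ⟨fun e a h => ?_, fun e e' a c hj hc => ?_, fun e e' a b hab _ he => ?_⟩
    · have := key e.1 a _ h
      rwa [Function.update_eq_self] at this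
    · have h0 := key e.1 a _ hc
      rw [← hres, ω.map_update_sub, ω.map_update_smul, Function.update_eq_self, sub_eq_zero] at h0
      have e1 : Function.update e.1 a (e'.1 a) = e'.1 := by
        funext j
        by_cases hja : j = a
        · subst hja; rw [Function.update_self]
        · rw [Function.update_of_ne hja]; exact hj j hja
      rwa [e1] at h0
    · show ω e.1 = - ω e'.1
      rw [he, ω.map_swap e.1 (by rintro rfl; omega), neg_neg]
  obtain ⟨F, hF⟩ := exists_lift hD
  obtain ⟨e₀, he₀, hn₀⟩ := exists_nondeg hl
  have hsurjF : Function.Surjective F := by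
    rw [← LinearMap.range_eq_top, eq_top_iff, ← exteriorPower.ιMulti_span (ResidueField R) l M,
      Submodule.span_le]
    rintro _ ⟨t, rfl⟩
    exact ⟨cls ⟨t, hadm t⟩, hF _⟩
  have hne : F (cls ⟨e₀, he₀⟩) ≠ 0 := by
    intro h0
    have hr : Module.finrank (ResidueField R) (⋀[ResidueField R]^l M) = 1 := by
      rw [exteriorPower.finrank_eq, hlk, Nat.choose_self]
    have : Nontrivial (⋀[ResidueField R]^l M) := Module.nontrivial_of_finrank_eq_succ hr
    obtain ⟨v, hv⟩ := exists_ne (0 : ⋀[ResidueField R]^l M)
    obtain ⟨w, rfl⟩ := hsurjF v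
    obtain ⟨c, rfl⟩ := exists_smul_cls hl ⟨e₀, he₀⟩ hn₀ w
    exact hv (by rw [map_smul, h0, smul_zero])
  have hinjF : Function.Injective F := by
    rw [← LinearMap.ker_eq_bot, eq_bot_iff]
    intro w hw
    obtain ⟨c, rfl⟩ := exists_smul_cls hl ⟨e₀, he₀⟩ hn₀ w
    rw [LinearMap.mem_ker, map_smul, smul_eq_zero] at hw
    rcases hw with hw | hw
    · simp [hw]
    · exact absurd hw hne
  exact ⟨LinearEquiv.ofBijective F ⟨hinjF, hsurjF⟩, fun e => hF e⟩

end Groth.Agent.S1840
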