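import Groth.Statements.S18402
import Groth.Agent.FEtCat.Basic
import Mathlib.AlgebraicGeometry.Geometrically.Irreducible
import Mathlib.AlgebraicGeometry.Morphisms.UniversallyOpen
import Mathlib.AlgebraicGeometry.Morphisms.QuasiFinite

set_option autoImplicit false
universe u
open Pi1

namespace Groth.Agent.S18402

open AlgebraicGeometry CategoryTheory CategoryTheory.Limits in
/-- Let X be an irreducible scheme and π : W ⟶ X a flat morphism whose fibre over every field-valued
point of X is irreducible (so every fibre is geometrically irreducible and π is surjective). Then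
for every finite étale cover Z of X with Z connected, the base change of Z along π is connected.
Ranging over all finite étale covers of X, this says that the monodromy group of each cover (the
image of the fundamental group in the permutations of a geometric fibre) is unchanged by pullback
along π. The published statement asserts that equality of monodromy groups, for generically finite,
generically étale covers between irreducible algebraic stacks. -/
theorem result {X W : Scheme.{u}}
    [IrreducibleSpace X] (π : W ⟶ X) [Flat π] [GeometricallyIrreducible π]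
    (Z : FEt.Cat X) [ConnectedSpace Z.left] :
    ConnectedSpace ↥(pullback Z.hom π) := by
  let p : pullback Z.hom π ⟶ Z.left := pullback.fst Z.hom π
  have : GeometricallyIrreducible p := inferInstanceAs (GeometricallyIrreducible (pullback.fst Z.hom π))
  have : Flat p := inferInstanceAs (Flat (pullback.fst Z.hom π))
  have hfib : ∀ z : Z.left, _root_.IsConnected (p ⁻¹' {z}) := fun z => by
    rw [← p.range_fiberι, ← Set.image_univ]
    exact (IrreducibleSpace.isIrreducible_univ _).isConnected.image _ (p.fiberι z).continuous.continuousOn
  have hsurj : Function.Surjective p := fun z => (hfib z).nonempty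
  have hgen : GeneralizingMap p := Flat.generalizingMap p
  -- finitely many generic points
  let zh : Z.left ⟶ X := Z.hom
  have : IsFinite zh := Z.prop.1
  have : Etale zh := Z.prop.2
  have hG : (genericPoints Z.left).Finite := by
    refine Set.Finite.subset (zh.finite_preimage_singleton (genericPoint X)) ?_
    intro g hg
    obtain ⟨g', hg', hgx⟩ := Flat.generalizingMap zh (genericPoint_specializes (zh g))
    have h1 : irreducibleComponent g' = closure {g} := by
      refine (hg.eq_of_le (irreducibleComponent_mem_irreducibleComponents g').1 ?_).symm
      refine (isClosed_irreducibleComponent.closure_subset_iff).mpr ?_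
      intro a ha
      rw [Set.mem_singleton_iff.mp ha]
      exact hg'.mem_closed isClosed_irreducibleComponent mem_irreducibleComponent
    have h2 : g ⤳ g' := by
      rw [specializes_iff_mem_closure, ← h1]; exact mem_irreducibleComponent
    rw [(h2.antisymm hg').eq]
    exact hgx
  have hne : Nonempty ↥(pullback Z.hom π) := by
    obtain ⟨z⟩ := (inferInstance : Nonempty Z.left)
    exact ⟨(hsurj z).choose⟩
  refine connectedSpace_iff_clopen.mpr ⟨hne, fun s hs => ?_⟩
  have hmem : ∀ a b, p a = p b → a ∈ s → b ∈ s := fun a b e ha =>
    (hfib (p a)).isPreconnected.subset_isClopen hs ⟨a, rfl, ha⟩ e.symm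
  have hcl : ∀ t : Set ↥(pullback Z.hom π), IsClopen t → (∀ a b, p a = p b → a ∈ t → b ∈ t) →
      IsClosed (p '' t) := by
    intro t ht htm
    have hA : StableUnderGeneralization (p '' t) :=
      hgen.stableUnderGeneralization_image ht.2.stableUnderGeneralization
    have hB : StableUnderGeneralization (p '' t)ᶜ := by
      have : (p '' t)ᶜ = p '' tᶜ := by
        ext z
        obtain ⟨a, rfl⟩ := hsurj z
        exact ⟨fun h => ⟨a, fun ha => h ⟨a, ha, rfl⟩, rfl⟩, fun ⟨b, hb, e⟩ ⟨c, hc, e'⟩ => hb (htm c b (e'.trans e.symm) hc)⟩
      rw [this]
      exact hgen.stableUnderGeneralization_image ht.compl.2.stableUnderGeneralization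
    have : p '' t = ⋃ g ∈ genericPoints Z.left ∩ p '' t, closure {g} := by
      ext z
      simp only [Set.mem_iUnion, exists_prop]
      constructor
      · intro hz
        let g := genericPoints.ofComponent
          (⟨irreducibleComponent z, irreducibleComponent_mem_irreducibleComponents z⟩ : irreducibleComponents Z.left)
        have hgz : g.1 ⤳ z :=
          (genericPoints.isGenericPoint_ofComponent _).specializes mem_irreducibleComponent
        exact ⟨g.1, ⟨g.2, hA hgz hz⟩, specializes_iff_mem_closure.mp hgz⟩
      · rintro ⟨g, ⟨-, hgt⟩, hzg⟩
        by_contra hz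
        exact hB (specializes_iff_mem_closure.mpr hzg) hz hgt
    rw [this]
    exact (hG.inter_of_left _).isClosed_biUnion fun _ _ => isClosed_closure
  have hsat : p ⁻¹' (p '' s) = s :=
    Set.Subset.antisymm (fun b ⟨a, ha, e⟩ => hmem a b e ha) (Set.subset_preimage_image _ _)
  have hc : (p '' s)ᶜ = p '' sᶜ := by
    ext z
    obtain ⟨a, rfl⟩ := hsurj z
    exact ⟨fun h => ⟨a, fun ha => h ⟨a, ha, rfl⟩, rfl⟩, fun ⟨b, hb, e⟩ ⟨c, hc, e'⟩ => hb (hmem c b (e'.trans e.symm) hc)⟩
  have hA : IsClopen (p '' s) :=
    ⟨hcl s hs hmem, isClosed_compl_iff.mp (hc ▸ hcl sᶜ hs.compl fun a b e ha hb => ha (hmem b a e.symm hb))⟩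
  rcases isClopen_iff.mp hA with h | h
  · exact .inl (Set.image_eq_empty.mp h)
  · exact .inr (by rw [← hsat, h, Set.preimage_univ])

end Groth.Agent.S18402
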