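import Groth.Statements.S18404
import Groth.Agent.Cubic.Hesse

set_option autoImplicit false
universe u
open Cubic

namespace Groth.Agent.S18404

open Groth.Agent.Cubic


open MvPolynomial in
/-- Let k ∈ ℂ with k³ ≠ 1 and let h = X₀³ + X₁³ + X₂³ − 3k·X₀X₁X₂ be the Hesse cubic. For a nonzero
vector v with h(v) = 0, the corresponding point is a flex of the plane curve of h — some line
through it meets the curve there with multiplicity three, i.e. there is a vector w linearly
independent from v with h(v + t·w) = t³·h(w) for every t — exactly when v is a scalar multiple of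
one of the nine vectors (0, 1, −γ), (−γ, 0, 1), (1, −γ, 0) with γ³ = 1. -/
theorem result (k : ℂ) (hk : k ^ 3 ≠ 1) (v : Fin 3 → ℂ) (hv : v ≠ 0)
    (hCv : eval v (HesseCubic.form k) = 0) :
    (∃ w : Fin 3 → ℂ, LinearIndependent ℂ ![v, w] ∧
        ∀ t : ℂ, eval (v + t • w) (HesseCubic.form k) = t ^ 3 * eval w (HesseCubic.form k)) ↔
      ∃ γ c : ℂ, γ ^ 3 = 1 ∧ (v = c • ![0, 1, -γ] ∨ v = c • ![-γ, 0, 1] ∨ v = c • ![1, -γ, 0]) := by
  constructor
  · intro h
    obtain ⟨γ, c, hγ, i, hi⟩ := Hesse.flex_classify hk hv hCv h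
    refine ⟨γ, c, hγ, ?_⟩
    fin_cases i
    · exact Or.inl hi
    · exact Or.inr (Or.inl hi)
    · exact Or.inr (Or.inr hi)
  · rintro ⟨γ, c, hγ, h⟩
    obtain ⟨i, rfl⟩ : ∃ i, v = c • Hesse.nine γ i := by
      rcases h with h | h | h
      · exact ⟨0, h⟩
      · exact ⟨1, h⟩
      · exact ⟨2, h⟩
    have hc : c ≠ 0 := fun h => hv (by rw [h, zero_smul])
    obtain ⟨w, hind, hw⟩ := Hesse.nine_flex (k := k) hγ i
    refine ⟨w, ?_, fun t => ?_⟩
    · refine LinearIndependent.pair_iff.mpr fun a b hab => ?_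
      have := LinearIndependent.pair_iff.mp hind (a * c) b (by rw [← smul_smul]; exact hab)
      exact ⟨(mul_eq_zero.mp this.1).resolve_right hc, this.2⟩
    · have e : c • Hesse.nine γ i + t • w = c • (Hesse.nine γ i + (t / c) • w) := by
        rw [smul_add, smul_smul, mul_div_cancel₀ _ hc]
      rw [e, Basic.eval_smul_cubic (Plane.form_hom k), hw]
      field_simp

end Groth.Agent.S18404
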