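import Groth.Statements.S18405
import Groth.Agent.Cubic.Hesse

set_option autoImplicit false
universe u
open Cubic

namespace Groth.Agent.S18405

open Groth.Agent.Cubic Matrix


open MvPolynomial in
/-- Let f be a nonzero homogeneous cubic in three variables over ℂ whose plane curve is smooth (at every
nonzero zero of f some partial derivative is nonzero), and let A be an invertible matrix whose
linear substitution X_i ↦ Σ_j A_ij X_j multiplies f by a constant, so that v ↦ A·v is a projective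
automorphism of the curve. If A·v is proportional to v for every flex v of the curve (every nonzero
zero v of f through which some line meets the curve with multiplicity three: there is w linearly
independent from v with f(v + t·w) = t³·f(w) for all t), then A is a scalar matrix: the projective
automorphisms of a smooth plane cubic act faithfully on its flexes. -/
theorem result (f : MvPolynomial (Fin 3) ℂ) (hf : f.IsHomogeneous 3)
    (hf0 : f ≠ 0) (hsm : ∀ v : Fin 3 → ℂ, v ≠ 0 → eval v f = 0 → ∃ i : Fin 3, eval v (pderiv i f) ≠ 0)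
    (A : Matrix (Fin 3) (Fin 3) ℂ) (hA : IsUnit A.det)
    (hAf : ∃ c : ℂ, aeval (fun i : Fin 3 => ∑ j : Fin 3, C (A i j) * X j) f = C c * f)
    (hfix : ∀ v : Fin 3 → ℂ, v ≠ 0 → eval v f = 0 →
      (∃ w : Fin 3 → ℂ, LinearIndependent ℂ ![v, w] ∧ ∀ t : ℂ, eval (v + t • w) f = t ^ 3 * eval w f) →
      ∃ d : ℂ, A.mulVec v = d • v) :
    ∃ c : ℂ, A = c • (1 : Matrix (Fin 3) (Fin 3) ℂ) := by
  obtain ⟨T, k, a, hT, hk, ha, h⟩ := Hesse.exists_hesse hf hsm
  set A' := T⁻¹ * A * T with hA'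
  have hfix' : ∀ γ : ℂ, γ ^ 3 = 1 → ∀ i, ∃ d : ℂ, A'.mulVec (Hesse.nine γ i) = d • Hesse.nine γ i := by
    intro γ hγ i
    obtain ⟨d, hd⟩ := hfix (T.mulVec (Hesse.nine γ i))
      (Hesse.mulVec_ne_zero hT (Hesse.nine_ne_zero γ i))
      (by rw [h, Hesse.nine_eval hγ, mul_zero])
      ((Hesse.flex_map hT ha h _).mpr (Hesse.nine_flex hγ i))
    refine ⟨d, ?_⟩
    rw [hA', ← mulVec_mulVec, ← mulVec_mulVec, hd, mulVec_smul, mulVec_mulVec,
      nonsing_inv_mul T hT, one_mulVec]
  obtain ⟨ω, hω⟩ := Hesse.exists_omega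
  have hω3 : ω ^ 3 = 1 := by linear_combination (ω - 1) * hω
  have key : ∀ (p q r u : ℂ), (∀ γ : ℂ, γ ^ 3 = 1 → r - u * γ = -γ * (p - q * γ)) →
      r = 0 ∧ q = 0 ∧ u = p := by
    intro p q r u hh
    have h1 := hh 1 (one_pow 3)
    have h2 := hh ω hω3
    have h3 := hh (ω ^ 2) (by linear_combination (ω ^ 3 + 1) * hω3)
    have hr : r = 0 := by
      linear_combination (h1 + h2 + h3) / 3 +
        ((u - p) / 3 + q * (ω ^ 2 - ω + 1) / 3) * hω
    subst hr
    have e : ω ≠ 1 := fun e => by rw [e] at hω; norm_num at hω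
    have hq : q * (ω - 1) = 0 := by
      have h2' : ω * ((p - u) - q * ω) = 0 := by linear_combination h2
      have hω0 : ω ≠ 0 := fun e => by rw [e] at hω; norm_num at hω
      have := (mul_eq_zero.mp h2').resolve_left hω0
      linear_combination h1 - this
    have hq0 : q = 0 := (mul_eq_zero.mp hq).resolve_right (sub_ne_zero.mpr e)
    exact ⟨rfl, hq0, by linear_combination -h1 - hq0⟩
  -- the three rows of conditions
  have row : ∀ γ : ℂ, γ ^ 3 = 1 →
      (A' 0 1 = γ * A' 0 2 ∧ A' 2 1 - A' 2 2 * γ = -γ * (A' 1 1 - A' 1 2 * γ)) ∧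
      (A' 1 2 = γ * A' 1 0 ∧ A' 0 2 - A' 0 0 * γ = -γ * (A' 2 2 - A' 2 0 * γ)) ∧
      (A' 2 0 = γ * A' 2 1 ∧ A' 1 0 - A' 1 1 * γ = -γ * (A' 0 0 - A' 0 1 * γ)) := by
    intro γ hγ
    refine ⟨?_, ?_, ?_⟩
    · obtain ⟨d, hd⟩ := hfix' γ hγ 0
      have e0 := congrFun hd 0
      have e1 := congrFun hd 1
      have e2 := congrFun hd 2
      simp [Hesse.nine, mulVec, dotProduct, Fin.sum_univ_three] at e0 e1 e2
      exact ⟨by linear_combination e0, by linear_combination e2 + γ * e1⟩
    · obtain ⟨d, hd⟩ := hfix' γ hγ 1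
      have e0 := congrFun hd 0
      have e1 := congrFun hd 1
      have e2 := congrFun hd 2
      simp [Hesse.nine, mulVec, dotProduct, Fin.sum_univ_three] at e0 e1 e2
      exact ⟨by linear_combination e1, by linear_combination e0 + γ * e2⟩
    · obtain ⟨d, hd⟩ := hfix' γ hγ 2
      have e0 := congrFun hd 0
      have e1 := congrFun hd 1
      have e2 := congrFun hd 2
      simp [Hesse.nine, mulVec, dotProduct, Fin.sum_univ_three] at e0 e1 e2
      exact ⟨by linear_combination e2, by linear_combination e1 + γ * e0⟩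
  obtain ⟨a21, a12, a22⟩ := key _ _ _ _ fun γ hγ => (row γ hγ).1.2
  obtain ⟨a02, a20, a00⟩ := key _ _ _ _ fun γ hγ => (row γ hγ).2.1.2
  obtain ⟨a10, a01, -⟩ := key _ _ _ _ fun γ hγ => (row γ hγ).2.2.2
  have hscal : A' = A' 0 0 • (1 : Matrix (Fin 3) (Fin 3) ℂ) := by
    ext i j
    fin_cases i <;> fin_cases j <;> simp [a21, a12, a22, a02, a20, a00, a10, a01]
  refine ⟨A' 0 0, ?_⟩
  calc A = T * A' * T⁻¹ := by
        rw [hA', ← Matrix.mul_assoc, ← Matrix.mul_assoc, mul_nonsing_inv T hT, Matrix.one_mul,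
          Matrix.mul_assoc, mul_nonsing_inv T hT, Matrix.mul_one]
    _ = A' 0 0 • (1 : Matrix (Fin 3) (Fin 3) ℂ) := by
        conv_lhs => rw [hscal]
        rw [Matrix.mul_smul, Matrix.mul_one, Matrix.smul_mul, mul_nonsing_inv T hT]

end Groth.Agent.S18405
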