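import Groth.Statements.S18406
import Groth.Agent.Cubic.Hesse

set_option autoImplicit false
universe u
open Cubic

namespace Groth.Agent.S18406

open Groth.Agent.Cubic Matrix

/-- An automorphism of the Hesse cubic carrying a fixed flex to a given one. -/
theorem transit (k γ : ℂ) (hγ : γ ^ 3 = 1) (i : Fin 3) :
    ∃ (G : Matrix (Fin 3) (Fin 3) ℂ) (d : ℂ), IsUnit G.det ∧ d ≠ 0 ∧
      (∀ v, MvPolynomial.eval (G.mulVec v) (HesseCubic.form k) = MvPolynomial.eval v (HesseCubic.form k)) ∧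
      G.mulVec (Hesse.nine 1 0) = d • Hesse.nine γ i := by
  have hγ0 : γ ≠ 0 := fun h => by simp [h] at hγ
  let R : Fin 3 → Matrix (Fin 3) (Fin 3) ℂ :=
    ![Matrix.diagonal ![1, γ, γ ^ 2], !![0, 0, γ ^ 2; 1, 0, 0; 0, γ, 0],
      !![0, γ, 0; 0, 0, γ ^ 2; 1, 0, 0]]
  refine ⟨R i, γ, ?_, hγ0, fun v => ?_, ?_⟩
  · rw [isUnit_iff_ne_zero]
    fin_cases i <;> simp [R, Matrix.det_fin_three, Fin.prod_univ_three, hγ0]
  · fin_cases i <;>
    · simp [R, Plane.eval_form, mulVec, dotProduct, Fin.sum_univ_three]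
      linear_combination (v 1 ^ 3 + (γ ^ 3 + 1) * v 2 ^ 3 - 3 * k * (v 0 * v 1 * v 2)) * hγ
  · ext j
    fin_cases i <;> fin_cases j <;> simp [R, Hesse.nine, mulVec, dotProduct, Fin.sum_univ_three] <;> ring


open MvPolynomial in
/-- Let f be a nonzero homogeneous cubic in three variables over ℂ whose plane curve is smooth (at every
nonzero zero of f some partial derivative is nonzero), and let v and v′ be flexes of the curve, that
is nonzero zeros of f through each of which some line meets the curve with multiplicity three (there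
is a vector w linearly independent from the point with f(point + t·w) = t³·f(w) for every t). Then a
projective automorphism of the curve carries the point of v to the point of v′: there are an
invertible matrix A whose substitution X_i ↦ Σ_j A_ij X_j multiplies f by a constant c, and a
constant d with A·v = d·v′. (The published statement gives more: a subgroup of the projective
automorphism group isomorphic to C₃ × C₃ acts simply transitively on the nine flexes; only
transitivity is stated here.) -/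
theorem result (f : MvPolynomial (Fin 3) ℂ) (hf : f.IsHomogeneous 3)
    (hf0 : f ≠ 0) (hsm : ∀ v : Fin 3 → ℂ, v ≠ 0 → eval v f = 0 → ∃ i : Fin 3, eval v (pderiv i f) ≠ 0)
    (v v' : Fin 3 → ℂ) (hv : v ≠ 0) (hv' : v' ≠ 0) (hfv : eval v f = 0) (hfv' : eval v' f = 0)
    (hflex : (∃ w : Fin 3 → ℂ, LinearIndependent ℂ ![v, w] ∧ ∀ t : ℂ, eval (v + t • w) f = t ^ 3 * eval w f))
    (hflex' : (∃ w : Fin 3 → ℂ, LinearIndependent ℂ ![v', w] ∧ ∀ t : ℂ, eval (v' + t • w) f = t ^ 3 * eval w f)) :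
    ∃ (A : Matrix (Fin 3) (Fin 3) ℂ) (c d : ℂ), IsUnit A.det ∧
      aeval (fun i : Fin 3 => ∑ j : Fin 3, C (A i j) * X j) f = C c * f ∧ A.mulVec v = d • v' := by
  obtain ⟨T, k, a, hT, hk, ha, h⟩ := Hesse.exists_hesse hf hsm
  have prep : ∀ u : Fin 3 → ℂ, u ≠ 0 → eval u f = 0 → Plane.IsFlex f u →
      ∃ (G : Matrix (Fin 3) (Fin 3) ℂ) (d : ℂ), IsUnit G.det ∧ d ≠ 0 ∧
        (∀ x, eval (G.mulVec x) (HesseCubic.form k) = eval x (HesseCubic.form k)) ∧
        (T * G).mulVec (Hesse.nine 1 0) = d • u := by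
    intro u hu hfu hflu
    obtain ⟨u', rfl⟩ := Hesse.surjective_mulVec hT u
    have hu' : u' ≠ 0 := fun e => hu (by rw [e, mulVec_zero])
    rw [h] at hfu
    obtain ⟨γ, c, hγ, i, rfl⟩ := Hesse.flex_classify hk hu'
      ((mul_eq_zero.mp hfu).resolve_left ha) ((Hesse.flex_map hT ha h _).mp hflu)
    have hc : c ≠ 0 := fun e => hu' (by rw [e, zero_smul])
    obtain ⟨G, d, hG, hd, hGf, hGe⟩ := transit k γ hγ i
    refine ⟨G, d / c, hG, div_ne_zero hd hc, hGf, ?_⟩
    rw [← mulVec_mulVec, hGe, mulVec_smul, mulVec_smul, smul_smul, div_mul_cancel₀ _ hc]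
  obtain ⟨G, d, hG, hd, hGf, hGe⟩ := prep v hv hfv hflex
  obtain ⟨G', d', hG', hd', hGf', hGe'⟩ := prep v' hv' hfv' hflex'
  have hTG : IsUnit (T * G).det := by rw [det_mul]; exact hT.mul hG
  refine ⟨T * G' * (T * G)⁻¹, 1, d' / d, ?_, ?_, ?_⟩
  · rw [det_mul, det_mul]
    exact (hT.mul hG').mul (Matrix.isUnit_nonsing_inv_det _ hTG)
  · rw [Basic.subst_eq_iff]
    intro x
    obtain ⟨y, rfl⟩ := Hesse.surjective_mulVec hTG x
    rw [mulVec_mulVec, Matrix.mul_assoc, nonsing_inv_mul _ hTG, Matrix.mul_one, one_mul,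
      ← mulVec_mulVec, ← mulVec_mulVec, h, h, hGf, hGf']
  · have e : (T * G)⁻¹.mulVec v = d⁻¹ • Hesse.nine 1 0 := by
      have := congrArg (T * G)⁻¹.mulVec hGe
      rw [mulVec_mulVec, nonsing_inv_mul _ hTG, one_mulVec, mulVec_smul] at this
      rw [this, smul_smul, inv_mul_cancel₀ hd, one_smul]
    rw [← mulVec_mulVec, e, mulVec_smul, hGe', smul_smul, div_eq_inv_mul]

end Groth.Agent.S18406
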