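import Groth.Statements.S18408
import Groth.Agent.Cubic.Eckardt
import Mathlib.Algebra.CubicDiscriminant
import Mathlib.Analysis.Complex.Polynomial.Basic

set_option autoImplicit false
universe u
open Cubic

namespace Groth.Agent.S18408

open Groth.Agent.Cubic Groth.Agent.Cubic.Eckardt
open Groth.Agent.Cubic.Basic (B)


open MvPolynomial in
/-- Let f be a nonzero homogeneous cubic in four variables over ℂ whose surface S = V_+(f) ⊂ P³ is
smooth (at every nonzero zero of f some partial derivative is nonzero); a line on S is a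
2-dimensional subspace of ℂ⁴ on which f vanishes, and an Eckardt point of S is a nonzero vector
lying on three distinct lines on S. Let A be an involutory matrix (A² = 1) whose +1-eigenspace is a
hyperplane and with A·p = −p, such that the substitution X_i ↦ Σ_j A_ij X_j multiplies f by a
constant — that is, a projective involution preserving S whose fixed locus is the disjoint union of
a plane and the point of p, where p is a nonzero vector on S. Then p is an Eckardt point of S. -/
theorem result (f : MvPolynomial (Fin 4) ℂ) (hf : f.IsHomogeneous 3)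
    (hf0 : f ≠ 0) (hsm : ∀ v : Fin 4 → ℂ, v ≠ 0 → eval v f = 0 → ∃ i : Fin 4, eval v (pderiv i f) ≠ 0)
    (A : Matrix (Fin 4) (Fin 4) ℂ) (p : Fin 4 → ℂ) (hp : p ≠ 0) (hfp : eval p f = 0)
    (hA : A * A = 1 ∧ Module.finrank ℂ ↥(LinearMap.ker (Matrix.toLin' A - LinearMap.id)) = 3 ∧
        A.mulVec p = -p ∧ ∃ c : ℂ, aeval (fun i : Fin 4 => ∑ j : Fin 4, C (A i j) * X j) f = C c * f) :
    (∃ U : Fin 3 → Submodule ℂ (Fin 4 → ℂ), Function.Injective U ∧
        ∀ i : Fin 3, Module.finrank ℂ ↥(U i) = 2 ∧ p ∈ U i ∧ ∀ u ∈ U i, eval u f = 0) := by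
  obtain ⟨hA2, hP, hAp, c, hc⟩ := hA
  rw [Basic.subst_eq_iff] at hc
  have hne := Basic.exists_B_ne_of_pderiv_ne (hsm p hp hfp)
  obtain ⟨hq, h1, hh1, hl1⟩ := invol_facts hf hp hfp hne hP hAp hc
  set P := LinearMap.ker (Matrix.toLin' A - LinearMap.id) with hPdef
  have hmemP : ∀ x, x ∈ P ↔ A.mulVec x = x := fun x => by simp [hPdef, sub_eq_zero]
  set l := Basic.Bₗ f p with hldef
  have hl0 : l ≠ 0 := fun hz => hl1 (by simpa [hldef] using LinearMap.congr_fun hz h1)
  have hlp : B f p p = 0 := by rw [Basic.B_self hf, hfp, mul_zero]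
  set W := P ⊓ LinearMap.ker l with hWdef
  have hW : Module.finrank ℂ ↥W = 2 := by
    have e1 := Submodule.finrank_sup_add_finrank_inf_eq P (LinearMap.ker l)
    rw [← hWdef, hP, finrank_ker_eq_three l hl0] at e1
    have hlt : LinearMap.ker l < P ⊔ LinearMap.ker l := by
      refine lt_of_le_of_ne le_sup_right fun hz => ?_
      have : h1 ∈ LinearMap.ker l := hz ▸ Submodule.mem_sup_left ((hmemP h1).mpr hh1)
      exact hl1 (by simpa [hldef] using this)
    have e2 := Submodule.finrank_lt_finrank_of_lt hlt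
    have e3 := Submodule.finrank_le (P ⊔ LinearMap.ker l)
    rw [finrank_ker_eq_three l hl0] at e2
    rw [Module.finrank_fin_fun] at e3
    omega
  have hWl : ∀ w ∈ W, B f p w = 0 := fun w hw => by simpa [hldef] using hw.2
  have hWA : ∀ w ∈ W, A.mulVec w = w := fun w hw => (hmemP w).mp hw.1
  have hpW : p ∉ W := fun hz => by
    have := hWA p hz
    rw [hAp] at this
    have : (2 : ℂ) • p = 0 := by linear_combination (norm := module) -this
    simp [hp] at this
  -- no double zero on the line cut out in the fixed plane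
  have nodouble : ∀ u ∈ W, u ≠ 0 → eval u f = 0 → ∃ w ∈ W, B f u w ≠ 0 := by
    intro u hu hu0 hfu
    by_contra hz
    push Not at hz
    have hq_u := hq u (hWA u hu)
    have hzero : ∀ y, A.mulVec y = y → B f p y = 0 → B f u y = 0 := fun y hy hy' =>
      hz y ⟨(hmemP y).mpr hy, by simpa [hldef] using hy'⟩
    have hg := Basic.isHomogeneous_dd p hf
    have hmid : ∀ x, B (Basic.dd p f) u x = 0 := by
      intro x
      obtain ⟨y, t, hy, rfl⟩ := exists_decomp hp hP hAp x
      rw [Basic.B_add_right, Basic.B_smul_right]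
      have e1 : B (Basic.dd p f) u p = 0 := by rw [mixed hf, hWl u hu, mul_zero]
      have e3 : eval (u + (1 : ℂ) • y) (Basic.dd p f) = 0 :=
        hq _ (by rw [Matrix.mulVec_add, Matrix.mulVec_smul, hy, hWA u hu])
      rw [Basic.eval_line_deg_two hg, show eval y (Basic.dd p f) = 0 from hq y hy,
        show eval u (Basic.dd p f) = 0 from hq_u] at e3
      simp at e3
      simp [e1, e3]
    obtain ⟨κ, hκ⟩ : ∃ κ : ℂ, κ = B f u h1 / B f p h1 := ⟨_, rfl⟩
    have hBu : ∀ x, B f u x = κ * B f p x := by
      intro x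
      obtain ⟨y, t, hy, rfl⟩ := exists_decomp hp hP hAp x
      have h0 := hzero (y - (B f p y / B f p h1) • h1)
        (by rw [Matrix.mulVec_sub, Matrix.mulVec_smul, hy, hh1])
        (by rw [Basic.B_sub_right, Basic.B_smul_right, div_mul_cancel₀ _ hl1, sub_self])
      rw [Basic.B_sub_right, Basic.B_smul_right] at h0
      rw [Basic.B_add_right, Basic.B_add_right, Basic.B_smul_right, Basic.B_smul_right,
        hq_u, hlp, hκ]
      field_simp
      field_simp at h0
      linear_combination h0
    obtain ⟨s, hs⟩ := IsAlgClosed.exists_pow_nat_eq (-κ) (n := 2) (by norm_num)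
    have hne0 : u + s • p ≠ 0 := by
      intro hz0
      rcases eq_or_ne s 0 with rfl | hs0
      · simp [hu0] at hz0
      · refine hpW ?_
        have : p = (-s⁻¹) • u := by
          have h' := congrArg (fun z => s⁻¹ • z) hz0
          simp only [smul_add, smul_zero, smul_smul, inv_mul_cancel₀ hs0, one_smul] at h'
          linear_combination (norm := module) h'
        rw [this]
        exact W.smul_mem _ hu
    have hf0' : eval (u + s • p) f = 0 := by
      rw [Basic.eval_line hf, hfu, hq_u, hWl u hu, hfp]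
      ring
    obtain ⟨w, hw⟩ := Basic.exists_B_ne_of_pderiv_ne (hsm _ hne0 hf0')
    apply hw
    rw [Basic.B_line_left hf, hmid, hBu, hs]
    ring
  obtain ⟨u₂, hu₂, hfu₂⟩ : ∃ u ∈ W, eval u f ≠ 0 := by
    by_contra hz
    push Not at hz
    obtain ⟨u, hu, hu0⟩ := Submodule.exists_mem_ne_zero_of_ne_bot
      (p := W) (fun hb => by rw [hb, finrank_bot] at hW; omega)
    obtain ⟨w, hw, hne'⟩ := nodouble u hu hu0 (hz u hu)
    have e1 := hz _ (W.add_mem hu (W.smul_mem (1 : ℂ) hw))
    have e2 := hz _ (W.add_mem hu (W.smul_mem (-1 : ℂ) hw))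
    rw [Basic.eval_line hf, hz u hu, hz w hw] at e1 e2
    exact hne' (by linear_combination (e1 - e2) / 2)
  have hu₂0 : u₂ ≠ 0 := by
    rintro rfl
    have h2 := Basic.eval_smul_cubic hf 0 h1
    rw [zero_smul] at h2
    exact hfu₂ (by rw [h2]; ring)
  obtain ⟨u₁, hu₁, hu₁'⟩ : ∃ u ∈ W, u ∉ Submodule.span ℂ {u₂} := by
    by_contra hz
    push Not at hz
    have := Submodule.finrank_mono (s := W) (t := Submodule.span ℂ {u₂}) hz
    rw [hW, finrank_span_singleton hu₂0] at this
    omega
  have hli : ∀ a b : ℂ, a • u₁ + b • u₂ = 0 → a = 0 ∧ b = 0 :=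
    fun a b hab => And.symm <| LinearIndependent.pair_iff.mp
      ((LinearIndependent.pair_iff' hu₂0).mpr fun a ha =>
        hu₁' (Submodule.mem_span_singleton.mpr ⟨a, ha⟩)) b a (by rw [add_comm]; exact hab)
  have hWspan : W = Submodule.span ℂ {u₁, u₂} := by
    refine (Submodule.eq_of_le_of_finrank_le (Submodule.span_le.mpr ?_) ?_).symm
    · intro x hx
      rcases hx with rfl | rfl
      · exact hu₁
      · exact hu₂
    · have h2 := finrank_span_eq_card (LinearIndependent.pair_iff.mpr hli)
      have e2 : Set.range ![u₁, u₂] = {u₁, u₂} := Matrix.range_cons_cons_empty _ _ _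
      rw [e2, Fintype.card_fin] at h2
      omega
  -- the binary cubic
  let g : Polynomial ℂ := (⟨eval u₂ f, B f u₂ u₁, B f u₁ u₂, eval u₁ f⟩ : _root_.Cubic ℂ).toPoly
  have hgeval : ∀ t : ℂ, g.eval t = eval (u₁ + t • u₂) f := fun t => by
    rw [Basic.eval_line hf]
    simp [g, _root_.Cubic.toPoly]
    ring
  have hgdeg : g.natDegree = 3 := _root_.Cubic.natDegree_of_a_ne_zero hfu₂
  have hg0 : g ≠ 0 := fun hz => by rw [hz] at hgdeg; simp at hgdeg
  have hnd : g.roots.Nodup := by
    rw [Multiset.nodup_iff_count_le_one]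
    intro α
    rw [Polynomial.count_roots]
    by_contra hz
    push Not at hz
    obtain ⟨hr, hr'⟩ := (Polynomial.one_lt_rootMultiplicity_iff_isRoot hg0).mp hz
    have hfu : eval (u₁ + α • u₂) f = 0 := by rw [← hgeval]; exact hr
    have hu : u₁ + α • u₂ ∈ W := W.add_mem hu₁ (W.smul_mem α hu₂)
    have hu0 : u₁ + α • u₂ ≠ 0 := fun hz' => by
      have := hli 1 α (by simpa using hz')
      simp at this
    have hd : B f (u₁ + α • u₂) u₂ = 0 := by
      rw [Basic.B_line_left hf, mixed hf, Basic.B_self hf]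
      have := hr'
      simp [g, _root_.Cubic.toPoly, Polynomial.IsRoot] at this
      linear_combination this
    obtain ⟨w, hw, hne'⟩ := nodouble _ hu hu0 hfu
    apply hne'
    rw [hWspan] at hw
    obtain ⟨a, b, rfl⟩ := Submodule.mem_span_pair.mp hw
    have e1 := Basic.B_self hf (u₁ + α • u₂)
    rw [hfu, mul_zero, Basic.B_add_right, Basic.B_smul_right, hd, mul_zero, add_zero] at e1
    rw [Basic.B_add_right, Basic.B_smul_right, Basic.B_smul_right, e1, hd]
    ring
  have hcard : g.roots.toFinset.card = 3 := by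
    rw [Multiset.toFinset_card_of_nodup hnd, IsAlgClosed.card_roots_eq_natDegree, hgdeg]
  let α : Fin 3 ≃ g.roots.toFinset := (Finset.equivFinOfCardEq hcard).symm
  have hα : ∀ i, eval (u₁ + (α i : ℂ) • u₂) f = 0 := fun i => by
    have := (α i).2
    rw [Multiset.mem_toFinset, Polynomial.mem_roots hg0] at this
    rw [← hgeval]
    exact this
  have hind : ∀ a s t : ℂ, a • p + s • u₁ + t • u₂ = 0 → a = 0 ∧ s = 0 ∧ t = 0 := by
    intro a s t hz
    have ha : a = 0 := by
      by_contra ha
      apply hpW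
      have : p = (-a⁻¹ * s) • u₁ + (-a⁻¹ * t) • u₂ := by
        have h' := congrArg (fun z => a⁻¹ • z) hz
        simp only [smul_add, smul_zero, smul_smul, inv_mul_cancel₀ ha, one_smul] at h'
        linear_combination (norm := module) h'
      rw [this]
      exact W.add_mem (W.smul_mem _ hu₁) (W.smul_mem _ hu₂)
    subst ha
    simp only [zero_smul, zero_add] at hz
    exact ⟨rfl, hli s t hz⟩
  refine ⟨fun i => Submodule.span ℂ {p, u₁ + (α i : ℂ) • u₂}, ?_, fun i => ⟨?_, ?_, ?_⟩⟩
  · intro i j hij
    have hm : u₁ + (α i : ℂ) • u₂ ∈ Submodule.span ℂ {p, u₁ + (α j : ℂ) • u₂} := by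
      have h0 : Submodule.span ℂ {p, u₁ + (α i : ℂ) • u₂} =
          Submodule.span ℂ {p, u₁ + (α j : ℂ) • u₂} := hij
      rw [← h0]
      exact Submodule.subset_span (by simp)
    obtain ⟨a, b, hab⟩ := Submodule.mem_span_pair.mp hm
    obtain ⟨-, hb, hb'⟩ := hind a (b - 1) (b * (α j : ℂ) - (α i : ℂ))
      (by linear_combination (norm := module) hab)
    refine α.injective (Subtype.ext ?_)
    have : b = 1 := sub_eq_zero.mp hb
    rw [this] at hb'
    linear_combination -hb'
  · have hli2 : LinearIndependent ℂ ![p, u₁ + (α i : ℂ) • u₂] :=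
      LinearIndependent.pair_iff.mpr fun a b hab => by
        have := hind a b (b * (α i : ℂ)) (by linear_combination (norm := module) hab)
        exact ⟨this.1, this.2.1⟩
    have h2 := finrank_span_eq_card hli2
    rw [Matrix.range_cons_cons_empty, Fintype.card_fin] at h2
    exact h2
  · exact Submodule.subset_span (by simp)
  · intro x hx
    obtain ⟨a, b, rfl⟩ := Submodule.mem_span_pair.mp hx
    have hu : b • (u₁ + (α i : ℂ) • u₂) ∈ W :=
      W.smul_mem _ (W.add_mem hu₁ (W.smul_mem _ hu₂))
    rw [add_comm, Basic.eval_line hf, hq _ (hWA _ hu), hWl _ hu, hfp,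
      Basic.eval_smul_cubic hf, hα]
    ring

end Groth.Agent.S18408
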