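import Groth.Statements.S18409
import Groth.Agent.Cubic.Eckardt

set_option autoImplicit false
universe u
open Cubic

namespace Groth.Agent.S18409

open Groth.Agent.Cubic Groth.Agent.Cubic.Eckardt
open Groth.Agent.Cubic.Basic (B)


open MvPolynomial in
/-- Let f be a nonzero homogeneous cubic in four variables over ℂ whose surface S = V_+(f) ⊂ P³ is
smooth (at every nonzero zero of f some partial derivative is nonzero); a line on S is a
2-dimensional subspace of ℂ⁴ on which f vanishes, and an Eckardt point of S is a nonzero vector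
lying on three distinct lines on S. Let e and e′ be Eckardt points of S that are not proportional
and let L be their span, a plane in ℂ⁴, i.e. the line of P³ through the two points. Then exactly one
of the two cases occurs: either f vanishes identically on L (the line lies on S), or L contains a
third Eckardt point e″, proportional to neither e nor e′, and every zero of f in L is proportional
to e, e′ or e″ (the line meets S in exactly three points, all Eckardt points). -/
theorem result (f : MvPolynomial (Fin 4) ℂ) (hf : f.IsHomogeneous 3)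
    (hf0 : f ≠ 0) (hsm : ∀ v : Fin 4 → ℂ, v ≠ 0 → eval v f = 0 → ∃ i : Fin 4, eval v (pderiv i f) ≠ 0)
    (e e' : Fin 4 → ℂ) (he : e ≠ 0) (he' : e' ∉ Submodule.span ℂ {e})
    (hE : (∃ U : Fin 3 → Submodule ℂ (Fin 4 → ℂ), Function.Injective U ∧
        ∀ i : Fin 3, Module.finrank ℂ ↥(U i) = 2 ∧ e ∈ U i ∧ ∀ u ∈ U i, eval u f = 0))
    (hE' : (∃ U : Fin 3 → Submodule ℂ (Fin 4 → ℂ), Function.Injective U ∧
        ∀ i : Fin 3, Module.finrank ℂ ↥(U i) = 2 ∧ e' ∈ U i ∧ ∀ u ∈ U i, eval u f = 0)) :
    Xor (∀ u ∈ Submodule.span ℂ {e, e'}, eval u f = 0)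
      (∃ e'' : Fin 4 → ℂ, e'' ∈ Submodule.span ℂ {e, e'} ∧ e'' ∉ Submodule.span ℂ {e} ∧ e'' ∉ Submodule.span ℂ {e'} ∧
        (∃ U : Fin 3 → Submodule ℂ (Fin 4 → ℂ), Function.Injective U ∧
        ∀ i : Fin 3, Module.finrank ℂ ↥(U i) = 2 ∧ e'' ∈ U i ∧ ∀ u ∈ U i, eval u f = 0) ∧
        ∀ u ∈ Submodule.span ℂ {e, e'}, eval u f = 0 →
          u ∈ Submodule.span ℂ {e} ∨ u ∈ Submodule.span ℂ {e'} ∨ u ∈ Submodule.span ℂ {e''}) := by
  obtain ⟨m, h⟩ := exists_data hf hsm he hE
  have he'0 : e' ≠ 0 := fun hz => he' (by simp [hz])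
  obtain ⟨m', h'⟩ := exists_data hf hsm he'0 hE'
  have hline : ∀ a b : ℂ, eval (a • e + b • e') f =
      a ^ 2 * b * B f e e' + a * b ^ 2 * B f e' e := by
    intro a b
    rw [Basic.eval_line hf, Basic.eval_smul_cubic hf, h.fe, h'.fe, Basic.B_smul_left hf,
      Basic.B_smul_right]
    ring
  by_cases hz : ∀ u ∈ Submodule.span ℂ {e, e'}, eval u f = 0
  · refine Or.inl ⟨hz, ?_⟩
    rintro ⟨e'', he''L, he''1, he''2, -, hall⟩
    have hout : ∀ t : ℂ, t ≠ 0 → e + t • e' ∈ Submodule.span ℂ {e''} := by
      intro t ht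
      have hm : e + t • e' ∈ Submodule.span ℂ {e, e'} := Submodule.mem_span_pair.mpr ⟨1, t, by simp⟩
      rcases hall _ hm (hz _ hm) with h1 | h1 | h1
      · exfalso
        obtain ⟨a, ha⟩ := Submodule.mem_span_singleton.mp h1
        refine he' (Submodule.mem_span_singleton.mpr ⟨t⁻¹ * (a - 1), ?_⟩)
        have h'' : t • e' = (a - 1) • e := by linear_combination (norm := module) -ha
        rw [← smul_smul, ← h'', smul_smul, inv_mul_cancel₀ ht, one_smul]
      · exfalso
        obtain ⟨a, ha⟩ := Submodule.mem_span_singleton.mp h1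
        rcases eq_or_ne a t with rfl | hat
        · exact he (by linear_combination (norm := module) -ha)
        · refine he' (Submodule.mem_span_singleton.mpr ⟨(a - t)⁻¹, ?_⟩)
          have h'' : e = (a - t) • e' := by linear_combination (norm := module) -ha
          rw [h'', smul_smul, inv_mul_cancel₀ (sub_ne_zero.mpr hat), one_smul]
      · exact h1
    have h1 := hout 1 one_ne_zero
    have h2 := hout 2 two_ne_zero
    have he'' : e' ∈ Submodule.span ℂ {e''} := by
      have := Submodule.sub_mem _ h2 h1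
      have e0 : e + (2 : ℂ) • e' - (e + (1 : ℂ) • e') = e' := by module
      rwa [e0] at this
    obtain ⟨a, ha⟩ := Submodule.mem_span_singleton.mp he''
    have ha0 : a ≠ 0 := fun hc => he'0 (by rw [← ha, hc, zero_smul])
    exact he''2 (Submodule.mem_span_singleton.mpr
      ⟨a⁻¹, by rw [← ha, smul_smul, inv_mul_cancel₀ ha0, one_smul]⟩)
  · refine Or.inr ⟨?_, hz⟩
    have hmem : ∀ u, u ∈ Submodule.span ℂ {e, e'} → ∃ a b : ℂ, a • e + b • e' = u :=
      fun u hu => Submodule.mem_span_pair.mp hu
    have hl : B f e e' ≠ 0 := fun hc => hz fun u hu => by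
      obtain ⟨a, b, rfl⟩ := hmem u hu
      rw [hline, h.q e', hc]
      ring
    have hl' : B f e' e ≠ 0 := fun hc => hz fun u hu => by
      obtain ⟨a, b, rfl⟩ := hmem u hu
      rw [hline, h'.q e, hc]
      ring
    have hm : m e' ≠ 0 := fun hc => hl' (by rw [h.q, hc, mul_zero])
    refine ⟨(invol e m).mulVec e', ?_, ?_, ?_, isEck_map h.invol_sq h.eval_invol hE', ?_⟩
    · rw [invol_mulVec]
      exact Submodule.mem_span_pair.mpr ⟨-m e', 1, by module⟩
    · rw [invol_mulVec]
      intro hc
      apply he'
      have := Submodule.add_mem _ hc (Submodule.smul_mem _ (m e') (Submodule.mem_span_singleton_self e))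
      rwa [sub_add_cancel] at this
    · rw [invol_mulVec]
      intro hc
      obtain ⟨a, ha⟩ := Submodule.mem_span_singleton.mp hc
      rcases eq_or_ne a 1 with rfl | ha1
      · have : m e' • e = 0 := by linear_combination (norm := module) ha
        simp [hm, he] at this
      · refine he' (Submodule.mem_span_singleton.mpr ⟨(1 - a)⁻¹ * m e', ?_⟩)
        have h'' : (1 - a) • e' = m e' • e := by linear_combination (norm := module) -ha
        rw [← smul_smul, ← h'', smul_smul, inv_mul_cancel₀ (sub_ne_zero.mpr (Ne.symm ha1)),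
          one_smul]
    · intro u hu hu0
      obtain ⟨a, b, rfl⟩ := hmem u hu
      rw [hline, h.q e'] at hu0
      have : a * b * B f e e' * (a + b * m e') = 0 := by linear_combination hu0
      rcases mul_eq_zero.mp this with h1 | h1
      · rcases mul_eq_zero.mp ((mul_eq_zero.mp h1).resolve_right hl) with rfl | rfl
        · exact Or.inr (Or.inl (Submodule.mem_span_singleton.mpr ⟨b, by simp⟩))
        · exact Or.inl (Submodule.mem_span_singleton.mpr ⟨a, by simp⟩)
      · refine Or.inr (Or.inr (Submodule.mem_span_singleton.mpr ⟨b, ?_⟩))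
        rw [invol_mulVec, eq_neg_of_add_eq_zero_left h1]
        module

end Groth.Agent.S18409
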