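import Groth.Statements.S18410
import Groth.Agent.Cubic.Eckardt
import Mathlib.Analysis.Complex.Polynomial.Basic

set_option autoImplicit false
universe u
open Cubic

namespace Groth.Agent.S18410

open Groth.Agent.Cubic Groth.Agent.Cubic.Eckardt
open Groth.Agent.Cubic.Basic (B)


open MvPolynomial in
/-- Let f be a nonzero homogeneous cubic in four variables over ℂ whose surface S = V_+(f) ⊂ P³ is
smooth (at every nonzero zero of f some partial derivative is nonzero); a line on S is a
2-dimensional subspace of ℂ⁴ on which f vanishes, and an Eckardt point of S is a nonzero vector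
lying on three distinct lines on S. Let e, e′ be non-proportional Eckardt points of S such that f
vanishes on their span (the line joining them lies on S), and let A, A′ be their Eckardt
involutions: an involutory matrix A (A² = 1) whose +1-eigenspace is a hyperplane and with A·e = −e,
such that the substitution X_i ↦ Σ_j A_ij X_j multiplies f by a constant — that is, a projective
involution preserving S whose fixed locus is the disjoint union of a plane and the point of e, and
likewise A′ for e′. Then the two involutions commute as projective transformations (A·A′ is a scalar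
multiple of A′·A) and each fixes the other point (A·e′ is proportional to e′ and A′·e to e). -/
theorem result (f : MvPolynomial (Fin 4) ℂ) (hf : f.IsHomogeneous 3)
    (hf0 : f ≠ 0) (hsm : ∀ v : Fin 4 → ℂ, v ≠ 0 → eval v f = 0 → ∃ i : Fin 4, eval v (pderiv i f) ≠ 0)
    (e e' : Fin 4 → ℂ) (he : e ≠ 0) (he' : e' ∉ Submodule.span ℂ {e})
    (hE : (∃ U : Fin 3 → Submodule ℂ (Fin 4 → ℂ), Function.Injective U ∧
        ∀ i : Fin 3, Module.finrank ℂ ↥(U i) = 2 ∧ e ∈ U i ∧ ∀ u ∈ U i, eval u f = 0))
    (hE' : (∃ U : Fin 3 → Submodule ℂ (Fin 4 → ℂ), Function.Injective U ∧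
        ∀ i : Fin 3, Module.finrank ℂ ↥(U i) = 2 ∧ e' ∈ U i ∧ ∀ u ∈ U i, eval u f = 0))
    (hL : ∀ u ∈ Submodule.span ℂ {e, e'}, eval u f = 0)
    (A A' : Matrix (Fin 4) (Fin 4) ℂ)
    (hA : A * A = 1 ∧ Module.finrank ℂ ↥(LinearMap.ker (Matrix.toLin' A - LinearMap.id)) = 3 ∧
        A.mulVec e = -e ∧ ∃ c : ℂ, aeval (fun i : Fin 4 => ∑ j : Fin 4, C (A i j) * X j) f = C c * f)
    (hA' : A' * A' = 1 ∧ Module.finrank ℂ ↥(LinearMap.ker (Matrix.toLin' A' - LinearMap.id)) = 3 ∧
        A'.mulVec e' = -e' ∧ ∃ c : ℂ, aeval (fun i : Fin 4 => ∑ j : Fin 4, C (A' i j) * X j) f = C c * f) :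
    (∃ c : ℂ, A * A' = c • (A' * A)) ∧ (∃ d : ℂ, A.mulVec e' = d • e') ∧ (∃ d : ℂ, A'.mulVec e = d • e) := by
  obtain ⟨m, h⟩ := exists_data hf hsm he hE
  have he'0 : e' ≠ 0 := fun hz => he' (by simp [hz])
  obtain ⟨m', h'⟩ := exists_data hf hsm he'0 hE'
  obtain ⟨-, hP, hAe, c, hc⟩ := hA
  obtain ⟨-, hP', hAe', c', hc'⟩ := hA'
  rw [Basic.subst_eq_iff] at hc hc'
  obtain rfl := h.unique hP hAe hc
  obtain rfl := h'.unique hP' hAe' hc'
  have e1 := hL _ (Submodule.mem_span_pair.mpr ⟨1, 1, rfl⟩)
  have e2 := hL _ (Submodule.mem_span_pair.mpr ⟨1, -1, rfl⟩)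
  rw [one_smul, Basic.eval_line hf, h.fe, h'.fe] at e1 e2
  have hl : B f e e' = 0 := by linear_combination (e1 - e2) / 2
  have hl' : B f e' e = 0 := by linear_combination (e1 + e2) / 2
  have key : ∀ w, B f e w * m e' = B f e' w * m' e := by
    intro w
    have expand : ∀ (p q : Fin 4 → ℂ) (n : (Fin 4 → ℂ) →ₗ[ℂ] ℂ), Data f p n → B f p q = 0 →
        B (Basic.dd p f) q w = B f p w * n q := by
      intro p q n hd hq
      have h3 := Basic.eval_line_deg_two (Basic.isHomogeneous_dd p hf) q w 1
      have hq0 : eval q (Basic.dd p f) = B f p q * n q := hd.q q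
      have hw0 : eval w (Basic.dd p f) = B f p w * n w := hd.q w
      have hs : eval (q + (1 : ℂ) • w) (Basic.dd p f) =
          B f p (q + (1 : ℂ) • w) * n (q + (1 : ℂ) • w) := hd.q _
      rw [hs, hq0, hw0, Basic.B_add_right, Basic.B_smul_right, map_add, map_smul, hq] at h3
      simp at h3
      linear_combination -h3
    rw [← expand e e' m h hl, ← expand e' e m' h' hl',
      Basic.B_symm_deg_two (Basic.isHomogeneous_dd e hf),
      Basic.B_symm_deg_two (Basic.isHomogeneous_dd e' hf)]
    simp only [B]
    rw [Basic.dd_comm e' e]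
  have hzero : m e' = 0 ∧ m' e = 0 := by
    by_cases hprop : ∃ κ : ℂ, ∀ w, B f e' w = κ * B f e w
    · exfalso
      obtain ⟨κ, hκ⟩ := hprop
      have hκ0 : κ ≠ 0 := by
        rintro rfl
        obtain ⟨w, hw⟩ := h'.ne
        exact hw (by rw [hκ, zero_mul])
      obtain ⟨s, hs⟩ : ∃ s : ℂ, κ * s ^ 2 + m e' * s + 1 = 0 := by
        let g : Polynomial ℂ :=
          Polynomial.C κ * Polynomial.X ^ 2 + Polynomial.C (m e') * Polynomial.X + Polynomial.C 1
        have hd : g.degree = 2 := Polynomial.degree_quadratic hκ0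
        obtain ⟨s, hs⟩ := IsAlgClosed.exists_root g (by rw [hd]; decide)
        exact ⟨s, by simpa [g] using hs⟩
      have hne0 : e + s • e' ≠ 0 := by
        intro hz
        rcases eq_or_ne s 0 with rfl | hs0
        · simp [he] at hz
        · refine he' (Submodule.mem_span_singleton.mpr ⟨-s⁻¹, ?_⟩)
          have h'' : s • e' = -e := by linear_combination (norm := module) hz
          rw [neg_smul, ← smul_neg, ← h'', smul_smul, inv_mul_cancel₀ hs0, one_smul]
      obtain ⟨w, hw⟩ := Basic.exists_B_ne_of_pderiv_ne (hsm _ hne0 (by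
        rw [Basic.eval_line hf, h.fe, h'.fe, hl, hl']; ring))
      apply hw
      have hmid : B (Basic.dd e' f) e w = B f e w * m e' := by
        have h3 := key w
        have expand := Basic.eval_line_deg_two (Basic.isHomogeneous_dd e hf) e' w 1
        have hq0 : eval e' (Basic.dd e f) = B f e e' * m e' := h.q e'
        have hw0 : eval w (Basic.dd e f) = B f e w * m w := h.q w
        have hs1 : eval (e' + (1 : ℂ) • w) (Basic.dd e f) =
            B f e (e' + (1 : ℂ) • w) * m (e' + (1 : ℂ) • w) := h.q _
        rw [hs1, hq0, hw0, Basic.B_add_right, Basic.B_smul_right, map_add, map_smul, hl] at expand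
        simp at expand
        have hsym : B (Basic.dd e' f) e w = B (Basic.dd e f) e' w := by
          rw [Basic.B_symm_deg_two (Basic.isHomogeneous_dd e' hf),
            Basic.B_symm_deg_two (Basic.isHomogeneous_dd e hf)]
          simp only [B]
          rw [Basic.dd_comm]
        linear_combination hsym - expand
      rw [Basic.B_line_left hf, hmid, hκ]
      linear_combination B f e w * hs
    · push Not at hprop
      have hm' : m' e = 0 := by
        by_contra hm'
        obtain ⟨w, hw⟩ := hprop (m e' / m' e)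
        apply hw
        field_simp
        linear_combination -key w
      obtain ⟨w, hw⟩ := h.ne
      have := key w
      rw [hm', mul_zero] at this
      exact ⟨by simpa [hw] using this, hm'⟩
  refine ⟨⟨1, ?_⟩, ⟨1, by simp [invol_mulVec, hzero.1]⟩, ⟨1, by simp [invol_mulVec, hzero.2]⟩⟩
  rw [one_smul]
  refine Matrix.toLin'.injective (LinearMap.ext fun x => ?_)
  simp only [Matrix.toLin'_apply, ← Matrix.mulVec_mulVec, invol_mulVec, map_sub, map_smul,
    hzero.1, hzero.2, smul_eq_mul, mul_zero, sub_zero]
  module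

end Groth.Agent.S18410
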