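import Groth.Statements.S18411
import Groth.Agent.Cubic.Eckardt

set_option autoImplicit false
universe u
open Cubic

namespace Groth.Agent.S18411

open Groth.Agent.Cubic Groth.Agent.Cubic.Eckardt
open Groth.Agent.Cubic.Basic (B)

/-- The image of one Eckardt point under the involution of the other is the third one. -/
theorem third {f : MvPolynomial (Fin 4) ℂ} (hf : f.IsHomogeneous 3)
    {a b : Fin 4 → ℂ} {m : (Fin 4 → ℂ) →ₗ[ℂ] ℂ} (h : Data f a m) (hb : MvPolynomial.eval b f = 0)
    (hab : b ∉ Submodule.span ℂ {a})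
    (hL : ¬ ∀ u ∈ Submodule.span ℂ {a, b}, MvPolynomial.eval u f = 0)
    {c : Fin 4 → ℂ} (hc : MvPolynomial.eval c f = 0) (hcL : c ∈ Submodule.span ℂ {a, b})
    (hca : c ∉ Submodule.span ℂ {a}) (hcb : c ∉ Submodule.span ℂ {b}) :
    ∃ t : ℂ, t ≠ 0 ∧ (invol a m).mulVec b = t • c := by
  have hl : B f a b ≠ 0 := fun hz => hL fun u hu => by
    obtain ⟨p, q, rfl⟩ := Submodule.mem_span_pair.mp hu
    rw [Basic.eval_line hf, Basic.eval_smul_cubic hf, h.fe, hb, Basic.B_smul_left hf,
      Basic.B_smul_right, h.q, hz]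
    ring
  obtain ⟨p, q, rfl⟩ := Submodule.mem_span_pair.mp hcL
  have hp : p ≠ 0 := fun hz => hcb (Submodule.mem_span_singleton.mpr ⟨q, by simp [hz]⟩)
  have hq : q ≠ 0 := fun hz => hca (Submodule.mem_span_singleton.mpr ⟨p, by simp [hz]⟩)
  rw [Basic.eval_line hf, Basic.eval_smul_cubic hf, h.fe, hb, Basic.B_smul_left hf,
    Basic.B_smul_right, h.q] at hc
  have : p * q * B f a b * (p + q * m b) = 0 := by linear_combination hc
  have hpq : p = -(q * m b) :=
    eq_neg_of_add_eq_zero_left ((mul_eq_zero.mp this).resolve_left (by simp [hp, hq, hl]))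
  refine ⟨q⁻¹, inv_ne_zero hq, ?_⟩
  rw [invol_mulVec, hpq, smul_add, smul_smul, smul_smul, inv_mul_cancel₀ hq, mul_neg,
    ← mul_assoc, inv_mul_cancel₀ hq]
  module


open MvPolynomial in
/-- Let f be a nonzero homogeneous cubic in four variables over ℂ whose surface S = V_+(f) ⊂ P³ is
smooth (at every nonzero zero of f some partial derivative is nonzero); a line on S is a
2-dimensional subspace of ℂ⁴ on which f vanishes, and an Eckardt point of S is a nonzero vector
lying on three distinct lines on S. Let e, e′, e″ be pairwise non-proportional Eckardt points of S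
spanning a single plane L = span(e, e′) of ℂ⁴ on which f does not vanish identically (three
collinear Eckardt points whose line is not on S), and let A, A′, A″ be their Eckardt involutions: an
involutory matrix A (A² = 1) whose +1-eigenspace is a hyperplane and with A·e = −e, such that the
substitution X_i ↦ Σ_j A_ij X_j multiplies f by a constant — that is, a projective involution
preserving S whose fixed locus is the disjoint union of a plane and the point of e, and likewise for
e′ and e″. Then the three involutions generate, as projective transformations, a group isomorphic to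
the symmetric group on three letters: the product A·A′ is not a scalar matrix, its cube is, and A″
is a scalar multiple of A·A′·A. -/
theorem result (f : MvPolynomial (Fin 4) ℂ) (hf : f.IsHomogeneous 3)
    (hf0 : f ≠ 0) (hsm : ∀ v : Fin 4 → ℂ, v ≠ 0 → eval v f = 0 → ∃ i : Fin 4, eval v (pderiv i f) ≠ 0)
    (e e' e'' : Fin 4 → ℂ) (he : e ≠ 0) (he' : e' ∉ Submodule.span ℂ {e})
    (he''1 : e'' ∉ Submodule.span ℂ {e}) (he''2 : e'' ∉ Submodule.span ℂ {e'}) (he''L : e'' ∈ Submodule.span ℂ {e, e'})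
    (hE : (∃ U : Fin 3 → Submodule ℂ (Fin 4 → ℂ), Function.Injective U ∧
        ∀ i : Fin 3, Module.finrank ℂ ↥(U i) = 2 ∧ e ∈ U i ∧ ∀ u ∈ U i, eval u f = 0))
    (hE' : (∃ U : Fin 3 → Submodule ℂ (Fin 4 → ℂ), Function.Injective U ∧
        ∀ i : Fin 3, Module.finrank ℂ ↥(U i) = 2 ∧ e' ∈ U i ∧ ∀ u ∈ U i, eval u f = 0))
    (hE'' : (∃ U : Fin 3 → Submodule ℂ (Fin 4 → ℂ), Function.Injective U ∧
        ∀ i : Fin 3, Module.finrank ℂ ↥(U i) = 2 ∧ e'' ∈ U i ∧ ∀ u ∈ U i, eval u f = 0))
    (hL : ¬ ∀ u ∈ Submodule.span ℂ {e, e'}, eval u f = 0)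
    (A A' A'' : Matrix (Fin 4) (Fin 4) ℂ)
    (hA : A * A = 1 ∧ Module.finrank ℂ ↥(LinearMap.ker (Matrix.toLin' A - LinearMap.id)) = 3 ∧
        A.mulVec e = -e ∧ ∃ c : ℂ, aeval (fun i : Fin 4 => ∑ j : Fin 4, C (A i j) * X j) f = C c * f)
    (hA' : A' * A' = 1 ∧ Module.finrank ℂ ↥(LinearMap.ker (Matrix.toLin' A' - LinearMap.id)) = 3 ∧
        A'.mulVec e' = -e' ∧ ∃ c : ℂ, aeval (fun i : Fin 4 => ∑ j : Fin 4, C (A' i j) * X j) f = C c * f)
    (hA'' : A'' * A'' = 1 ∧ Module.finrank ℂ ↥(LinearMap.ker (Matrix.toLin' A'' - LinearMap.id)) = 3 ∧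
        A''.mulVec e'' = -e'' ∧ ∃ c : ℂ, aeval (fun i : Fin 4 => ∑ j : Fin 4, C (A'' i j) * X j) f = C c * f) :
    (¬ ∃ c : ℂ, A * A' = c • (1 : Matrix (Fin 4) (Fin 4) ℂ)) ∧ (∃ c : ℂ, (A * A') ^ 3 = c • (1 : Matrix (Fin 4) (Fin 4) ℂ)) ∧
      ∃ c : ℂ, A'' = c • (A * A' * A) := by
  obtain ⟨m, h⟩ := exists_data hf hsm he hE
  have he'0 : e' ≠ 0 := fun hz => he' (by simp [hz])
  have he''0 : e'' ≠ 0 := fun hz => he''1 (by simp [hz])
  obtain ⟨m', h'⟩ := exists_data hf hsm he'0 hE'
  obtain ⟨m'', h''⟩ := exists_data hf hsm he''0 hE''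
  obtain ⟨hA2, hP, hAe, c, hc⟩ := hA
  obtain ⟨hA2', hP', hAe', c', hc'⟩ := hA'
  obtain ⟨-, hP'', hAe'', c'', hc''⟩ := hA''
  rw [Basic.subst_eq_iff] at hc hc' hc''
  obtain rfl := h.unique hP hAe hc
  obtain rfl := h'.unique hP' hAe' hc'
  obtain rfl := h''.unique hP'' hAe'' hc''
  have hswap : e ∉ Submodule.span ℂ {e'} := fun hz => by
    obtain ⟨a, ha⟩ := Submodule.mem_span_singleton.mp hz
    have ha0 : a ≠ 0 := fun h0 => he (by rw [← ha, h0, zero_smul])
    exact he' (Submodule.mem_span_singleton.mpr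
      ⟨a⁻¹, by rw [← ha, smul_smul, inv_mul_cancel₀ ha0, one_smul]⟩)
  obtain ⟨t, ht, hte⟩ := third hf h h'.fe he' hL h''.fe he''L he''1 he''2
  have hL' : ¬ ∀ u ∈ Submodule.span ℂ {e', e}, eval u f = 0 := by
    rwa [Set.pair_comm]
  obtain ⟨t', ht', hte'⟩ := third hf h' h.fe hswap hL' h''.fe
    (by rwa [Set.pair_comm]) he''2 he''1
  have conj : ∀ (X Y : Matrix (Fin 4) (Fin 4) ℂ) (y : Fin 4 → ℂ) (s : ℂ), s ≠ 0 → X * X = 1 →
      (∀ x, eval (X.mulVec x) f = eval x f) → (∀ x, eval (Y.mulVec x) f = eval x f) →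
      Y.mulVec y = -y →
      Module.finrank ℂ ↥(LinearMap.ker (Matrix.toLin' Y - LinearMap.id)) = 3 →
      X.mulVec y = s • e'' → X * Y * X = invol e'' m'' := by
    intro X Y y s hs hX hXf hYf hYy hYP hXy
    have hy : X.mulVec e'' = s⁻¹ • y := by
      have : X.mulVec (X.mulVec y) = y := by rw [Matrix.mulVec_mulVec, hX, Matrix.one_mulVec]
      rw [hXy, Matrix.mulVec_smul] at this
      rw [← this, smul_smul, inv_mul_cancel₀ hs, one_smul]
    refine h''.unique ?_ ?_ (c := 1) ?_
    · have hinj : Function.Injective (Matrix.toLin' X) := fun a b hab => by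
        have := congrArg X.mulVec hab
        simpa [Matrix.toLin'_apply, Matrix.mulVec_mulVec, hX] using this
      have hXX : ∀ z, X.mulVec (X.mulVec z) = z := fun z => by
        rw [Matrix.mulVec_mulVec, hX, Matrix.one_mulVec]
      have : LinearMap.ker (Matrix.toLin' (X * Y * X) - LinearMap.id) =
          Submodule.map (Matrix.toLin' X) (LinearMap.ker (Matrix.toLin' Y - LinearMap.id)) := by
        ext x
        simp only [LinearMap.mem_ker, LinearMap.sub_apply, LinearMap.id_apply, sub_eq_zero,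
          Submodule.mem_map, Matrix.toLin'_apply, ← Matrix.mulVec_mulVec]
        constructor
        · intro hx
          refine ⟨X.mulVec x, ?_, hXX x⟩
          have := congrArg X.mulVec hx
          rwa [hXX] at this
        · rintro ⟨z, hz, rfl⟩
          rw [hXX, hz]
      rw [this, ← hYP, (Submodule.equivMapOfInjective _ hinj
        (LinearMap.ker (Matrix.toLin' Y - LinearMap.id))).finrank_eq]
    · rw [← Matrix.mulVec_mulVec, ← Matrix.mulVec_mulVec, hy, Matrix.mulVec_smul, hYy,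
        Matrix.mulVec_smul, Matrix.mulVec_neg, hXy, smul_neg, smul_smul, inv_mul_cancel₀ hs,
        one_smul]
    · intro x
      rw [← Matrix.mulVec_mulVec, ← Matrix.mulVec_mulVec, hXf, hYf, hXf, one_mul]
  have k1 := conj _ _ e' t ht hA2 h.eval_invol h'.eval_invol hAe' hP' hte
  have k2 := conj _ _ e t' ht' hA2' h'.eval_invol h.eval_invol hAe hP hte'
  refine ⟨?_, ⟨1, ?_⟩, ⟨1, by rw [one_smul, k1]⟩⟩
  · rintro ⟨s, hs⟩
    have := congrArg (fun M : Matrix (Fin 4) (Fin 4) ℂ => M.mulVec e') hs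
    simp only [← Matrix.mulVec_mulVec, hAe', Matrix.mulVec_neg, hte, Matrix.smul_mulVec,
      Matrix.one_mulVec] at this
    refine he''2 (Submodule.mem_span_singleton.mpr ⟨-(t⁻¹ * s), ?_⟩)
    rw [neg_smul, ← smul_smul, ← this, smul_neg, neg_neg, smul_smul, inv_mul_cancel₀ ht, one_smul]
  · rw [one_smul, pow_succ, pow_succ, pow_one]
    have : invol e m * invol e' m' * (invol e m * invol e' m') * (invol e m * invol e' m') =
        (invol e m * invol e' m' * invol e m) * (invol e' m' * invol e m * invol e' m') := by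
      simp only [mul_assoc]
    rw [this, k1, k2]
    exact h''.invol_sq

end Groth.Agent.S18411
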