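import Groth.Statements.S18412
import Groth.Agent.Cubic.HesseAut

set_option autoImplicit false
universe u
open Cubic

namespace Groth.Agent.S18412

open Groth.Agent.Cubic Matrix


open MvPolynomial in
/-- For all k ∈ ℂ outside a finite set, the Hesse cubic h_k = X₀³ + X₁³ + X₂³ − 3k·X₀X₁X₂ has exactly 18
projective automorphisms; spelled without quotients as: the matrices A of determinant 1 whose
substitution X_i ↦ Σ_j A_ij X_j carries h_k to a constant multiple of h_k are exactly 54 in number
(every projective class has three lifts of determinant one, so 54 = 3 · 18). As every smooth plane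
cubic over ℂ is projectively equivalent to some h_k, this is the statement that the general smooth
plane cubic has a projective automorphism group of order 18. -/
theorem result :
    ∃ T : Finset ℂ, ∀ k : ℂ, k ∉ T →
      Nat.card {A : Matrix (Fin 3) (Fin 3) ℂ // A.det = 1 ∧
        ∃ c : ℂ, aeval (fun i : Fin 3 => ∑ j : Fin 3, C (A i j) * X j) (HesseCubic.form k) =
          C c * HesseCubic.form k} = 54 := by
  classical
  obtain ⟨ω, hω⟩ := Hesse.exists_omega
  have hω3 : ω ^ 3 = 1 := by linear_combination (ω - 1) * hω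
  refine ⟨(HesseAut.bad 1).roots.toFinset ∪ (HesseAut.bad ω).roots.toFinset ∪
    (HesseAut.bad (ω ^ 2)).roots.toFinset ∪ {0, 1, ω, ω ^ 2}, fun k hk => ?_⟩
  simp only [Finset.mem_union, Finset.mem_insert, Finset.mem_singleton, Multiset.mem_toFinset,
    not_or] at hk
  obtain ⟨⟨⟨b0, b1⟩, b2⟩, k0, k1, k2, k3⟩ := hk
  have hω32 : (ω ^ 2) ^ 3 = 1 := by linear_combination (ω ^ 3 + 1) * hω3
  have hcases : ∀ z : ℂ, z ^ 3 = 1 → z = 1 ∨ z = ω ∨ z = ω ^ 2 := fun z hz => by
    have : (z - 1) * (z - ω) * (z - ω ^ 2) = 0 := by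
      linear_combination hz - hω3 + (-z ^ 2 + z * ω) * hω
    rcases mul_eq_zero.mp this with h | h
    · rcases mul_eq_zero.mp h with h | h
      · exact Or.inl (sub_eq_zero.mp h)
      · exact Or.inr (Or.inl (sub_eq_zero.mp h))
    · exact Or.inr (Or.inr (sub_eq_zero.mp h))
  have hk3 : k ^ 3 ≠ 1 := fun h => by
    rcases hcases k h with e | e | e
    · exact k1 e
    · exact k2 e
    · exact k3 e
  have hbad : ∀ m : ℂ, m ^ 3 = 1 → (HesseAut.bad m).eval k ≠ 0 := fun m hm h0 => by
    have hr : k ∈ (HesseAut.bad m).roots :=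
      (Polynomial.mem_roots (HesseAut.bad_ne_zero hm)).mpr h0
    rcases hcases m hm with rfl | rfl | rfl
    · exact b0 hr
    · exact b1 hr
    · exact b2 hr
  rw [← HesseAut.card_eq hk3 k0 hbad]
  refine Nat.card_congr (Equiv.subtypeEquivRight fun A => and_congr_right fun _ => exists_congr fun c => ?_)
  rw [Basic.subst_eq_iff]
  simp only [Plane.eval_form, HesseAut.h]

end Groth.Agent.S18412
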