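import Groth.Statements.S18413
import Groth.Agent.S1025
import Groth.Agent.IntProd70.Family
import Groth.Agent.Hens.SteinConnected
import Groth.Agent.GITLib.RigidGroup
import Groth.Agent.CohTop.Vanishing
import Groth.Agent.QCoh.Pullback
import Groth.Agent.CurveCoh.Euler
import Groth.Agent.EulerChar.Basic
import Groth.Agent.ProperFin.Descend
import Groth.Agent.DimIneq.Basic
import Groth.Agent.AlgSpD.EtaleTop
import Mathlib.AlgebraicGeometry.AlgClosed.Basic
-- import your own Groth.Agent.* helpers here

set_option autoImplicit false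
set_option backward.isDefEq.respectTransparency false
set_option maxHeartbeats 1000000
set_option linter.style.haveILetI false
universe u
open CategoryTheory AlgebraicGeometry
open Curves

namespace Groth.Agent.S18413

open Order

/-- A scheme smooth of relative dimension `2` over a field has coheights at most `2`. -/
theorem coheight_le_two {k : Type u} [Field k] {X : Scheme.{u}} (f : X ⟶ Spec (CommRingCat.of k))
    [SmoothOfRelativeDimension 2 f] (x : X) : (coheight x : WithBot ℕ∞) ≤ 2 := by
  obtain ⟨U, hU, V, hV, hxV, e, hstd⟩ :=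
    SmoothOfRelativeDimension.exists_isStandardSmoothOfRelativeDimension (f := f) (n := 2) x
  obtain ⟨g, hg⟩ := hstd.exists_etale_mvPolynomial
  haveI : Subsingleton (Spec (CommRingCat.of k)) := inferInstanceAs (Subsingleton (PrimeSpectrum k))
  obtain rfl : U = ⊤ := top_le_iff.1 fun y _ => Subsingleton.elim (f x) y ▸ e hxV
  let K := Γ(Spec (CommRingCat.of k), ⊤)
  have hK : IsField K := (Scheme.ΓSpecIso (CommRingCat.of k)).commRingCatIsoToRingEquiv.toMulEquiv.isField
    (Semifield.toIsField k)
  letI := hK.toField
  let P := CommRingCat.of (MvPolynomial (Fin 2) K)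
  let a : Spec Γ(X, V) ⟶ Spec P := Spec.map (CommRingCat.ofHom g)
  haveI : Etale a := (HasRingHomProperty.Spec_iff (P := @Etale)).2 hg.2
  let z := hV.isoSpec.hom ⟨x, hxV⟩
  have h1 : coheight (α := X) x = coheight (α := Spec Γ(X, V)) z := by
    have hx : hV.fromSpec z = x := by
      show hV.fromSpec (hV.isoSpec.hom ⟨x, hxV⟩) = x
      rw [← Scheme.Hom.comp_apply, IsAffineOpen.isoSpec_hom_fromSpec]
      rfl
    conv_lhs => rw [← hx]
    exact AlgSpD.coheight_apply_eq_of_etale hV.fromSpec z
  have h2 : coheight (α := Spec P) (a z) = coheight (α := Spec Γ(X, V)) z :=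
    AlgSpD.coheight_apply_eq_of_etale a z
  rw [h1, ← h2]
  refine (coheight_le_krullDim _).trans ?_
  rw [show Order.krullDim ↥(Spec P) = topologicalKrullDim ↥(Spec P) from
    (Order.krullDim_eq_of_orderIso irreducibleSetEquivPoints).symm]
  rw [show topologicalKrullDim ↥(Spec P) = ringKrullDim P from PrimeSpectrum.topologicalKrullDim_eq_ringKrullDim _,
    show ringKrullDim P = ringKrullDim K + 2 from MvPolynomial.ringKrullDim_of_isNoetherianRing.trans (by simp),
    ringKrullDim_eq_zero_of_field, zero_add]

/-- A closed fibre, away from the generic point, of a flat morphism from a surface is at most one dimensional. -/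
theorem dim_fiber_le {X S : Scheme.{u}} (π : X ⟶ S) [Flat π] [IrreducibleSpace S]
    (h2 : ∀ x : X, (coheight x : WithBot ℕ∞) ≤ 2) (s : S) (hne : s ≠ genericPoint S) :
    topologicalKrullDim ↥(π.fiber s) ≤ 1 := by
  rw [show topologicalKrullDim ↥(π.fiber s) = Order.krullDim ↥(π.fiber s) from
    Order.krullDim_eq_of_orderIso irreducibleSetEquivPoints]
  refine iSup_le fun p => ?_
  by_contra hlt
  have hlen : 2 ≤ p.length := by
    by_contra h
    exact hlt (by exact_mod_cast (by omega : p.length ≤ 1))
  let ι := π.fiberι s
  have hmono : StrictMono ι.base := fun a b hab => by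
    refine lt_of_le_not_ge ?_ fun h => hab.not_ge (ι.isEmbedding.isInducing.specializes_iff.1 h)
    exact Specializes.map (le_of_lt hab) ι.base.hom.continuous
  let q := p.map ι.base hmono
  have hπ : π q.last = s := by
    have : q.last ∈ Set.range ι := ⟨p.last, rfl⟩
    rw [π.range_fiberι] at this
    exact this
  obtain ⟨y, hy, hyη⟩ := Flat.generalizingMap π (a := q.last) (b := genericPoint S)
    (genericPoint_specializes _)
  have hlast : q.last < y := lt_of_le_not_ge hy fun h => hne (by
    have : π y = π q.last := congrArg π ((hy.antisymm h).eq)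
    rw [hπ] at this
    exact this.symm.trans hyη)
  let r := q.snoc y hlast
  have h3 : (r.length : ℕ∞) ≤ coheight (RelSeries.head r) := Order.length_le_coheight le_rfl
  have h4 : (r.length : WithBot ℕ∞) ≤ 2 :=
    le_trans (by exact_mod_cast h3) (h2 (RelSeries.head r))
  have h5 : r.length ≤ 2 := by exact_mod_cast h4
  simp [r, q] at h5
  omega

theorem finrank_congr (k : Type u) [Field k] {X : Scheme.{u}} [X.Over (Spec (CommRingCat.of k))]
    {A B : X.Modules} (e : A ≅ B) (i : ℕ) :
    Module.finrank k (Coh.HH X A i) = Module.finrank k (Coh.HH X B i) := by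
  have h : ∀ {M N : X.Modules} (e : M ≅ N) (x : Coh.HH X M i),
      Groth.Agent.CurveCoh.mapL k e.inv i (Groth.Agent.CurveCoh.mapL k e.hom i x) = x := fun {M N} e x => by
    show Sheaf.H.map _ i (Sheaf.H.map _ i x) = x
    rw [← Sheaf.H.map_comp_apply, ← Functor.map_comp, e.hom_inv_id, CategoryTheory.Functor.map_id,
      Sheaf.H.map_id_apply]
  exact LinearEquiv.finrank_eq (LinearEquiv.ofBijective (Groth.Agent.CurveCoh.mapL k e.hom i)
    ⟨fun x y hxy => (h e x).symm.trans ((congrArg _ hxy).trans (h e y)), fun y => ⟨_, h e.symm y⟩⟩)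

theorem finrank_H0_eq_one {K : Type u} [Field K] {C : Scheme.{u}} (f : C ⟶ Spec (CommRingCat.of K))
    (hH0 : Function.Bijective f.appTop) :
    letI : C.Over (Spec (CommRingCat.of K)) := ⟨f⟩
    Module.finrank K (Coh.HH C (Coh.structureModule C) 0) = 1 := by
  letI : C.Over (Spec (CommRingCat.of K)) := ⟨f⟩
  have hb : Function.Bijective (Coh.toGlobal (A := K) f) :=
    hH0.comp (ConcreteCategory.bijective_of_isIso (Scheme.ΓSpecIso (CommRingCat.of K)).inv)
  let e : K ≃ₗ[K] Coh.HH C (Coh.structureModule C) 0 :=
    { (AddEquiv.ofBijective (Coh.toGlobal (A := K) f).toAddMonoidHom hb).trans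
        (ProperFin.h0Sec (Coh.structureModule C)).symm with
      map_smul' := fun r a => by
        apply (ProperFin.h0Sec (Coh.structureModule C)).injective
        refine Eq.trans ?_ (ProperFin.h0Sec_smul (Coh.structureModule C) (Coh.toGlobal f r) _).symm
        show (ProperFin.h0Sec (Coh.structureModule C))
            ((ProperFin.h0Sec (Coh.structureModule C)).symm (Coh.toGlobal f (r * a))) =
          (show Γ(C, ⊤) from Coh.toGlobal f r) • (ProperFin.h0Sec (Coh.structureModule C))
            ((ProperFin.h0Sec (Coh.structureModule C)).symm (Coh.toGlobal f a))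
        refine ((ProperFin.h0Sec (Coh.structureModule C)).apply_symm_apply _).trans ?_
        refine (map_mul (Coh.toGlobal f) r a).trans ?_
        exact (congrArg (fun t => (show Γ(C, ⊤) from Coh.toGlobal f r) • t)
          ((ProperFin.h0Sec (Coh.structureModule C)).apply_symm_apply _)).symm }
  rw [← e.finrank_eq, Module.finrank_self]

theorem one_le_finrank_H0 {K : Type u} [Field K] {C : Scheme.{u}} [Nonempty C]
    (f : C ⟶ Spec (CommRingCat.of K)) [IsProper f] :
    letI : C.Over (Spec (CommRingCat.of K)) := ⟨f⟩
    1 ≤ Module.finrank K (Coh.HH C (Coh.structureModule C) 0) := by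
  letI : C.Over (Spec (CommRingCat.of K)) := ⟨f⟩
  haveI : IsProper (C ↘ Spec (CommRingCat.of K)) := ‹IsProper f›
  haveI := LocallyOfFiniteType.isLocallyNoetherian f
  haveI := Groth.Agent.EulerChar.finite_HH (k := K) (Coh.structureModule C)
    (ProperFin.isCoh_structureModule C) 0
  haveI : Nontrivial Γ(C, ⊤) :=
    (C.presheaf.germ ⊤ (Classical.arbitrary C) trivial).hom.domain_nontrivial
  haveI : Nontrivial (Coh.HH C (Coh.structureModule C) 0) :=
    @Equiv.nontrivial _ _ (ProperFin.h0Sec (Coh.structureModule C)).toEquiv (inferInstanceAs (Nontrivial Γ(C, ⊤)))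
  exact Module.finrank_pos

theorem betti_two {X S : Scheme.{u}} (π : X ⟶ S) [IsProper π] (s : S)
    (h : topologicalKrullDim ↥(π.fiber s) ≤ 1) (i : ℕ) (hi : 1 < i) :
    PerfAux.betti π (Coh.structureModule X) s i = 0 := by
  letI : (π.fiber s).Over (Spec (CommRingCat.of (S.residueField s))) := ⟨π.fiberToSpecResidueField s⟩
  haveI : IsProper (π.fiber s ↘ Spec (CommRingCat.of (S.residueField s))) :=
    inferInstanceAs (IsProper (Limits.pullback.snd π (S.fromSpecResidueField s)))
  haveI := Groth.Agent.EulerChar.isNoetherian (S.residueField s) (X := π.fiber s)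
  haveI : Subsingleton (PerfAux.fiberH π (Coh.structureModule X) s i) :=
    Groth.Agent.CohTop.Vanishing.grothendieck_vanishing (X := (π.fiber s).toPresheafedSpace.carrier) 1 h _ i hi
  exact Module.finrank_zero_of_subsingleton

theorem eulerChar_eq {X S : Scheme.{u}} (π : X ⟶ S) (F : X.Modules) (s : S)
    (h : ∀ i, 1 < i → PerfAux.betti π F s i = 0) :
    PerfAux.eulerChar π F s = (PerfAux.betti π F s 0 : ℤ) - PerfAux.betti π F s 1 := by
  show (∑ᶠ i : ℕ, (-1 : ℤ) ^ i * (PerfAux.betti π F s i : ℤ)) = _
  rw [finsum_eq_sum_of_support_subset _ (s := {0, 1})]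
  · simp [sub_eq_add_neg]
  · intro i hi
    simp only [Finset.coe_insert, Finset.coe_singleton, Set.mem_insert_iff, Set.mem_singleton_iff]
    by_contra hne
    exact hi (by simp [h i (by omega)])

/-- Let k be an algebraically closed field, X a k-scheme that is smooth of relative dimension 2 and
proper over k (a smooth proper surface), S an irreducible k-scheme smooth of relative dimension 1 (a
smooth curve), and π : X → S a proper flat k-morphism with O_S → π_* O_X bijective on every open
subset of S. For a closed point s of S whose scheme-theoretic fibre X_s is reduced: (a) H^0(X_s,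
O_{X_s}) is one-dimensional over κ(s), and (b) the arithmetic genus dim H^1(X_s, O_{X_s}) equals
that of the generic fibre X_η over κ(η). -/
theorem result
    {k : Type u} [Field k] [IsAlgClosed k] {X S : Scheme.{u}}
    (π : X ⟶ S) (g : S ⟶ Spec (CommRingCat.of k))
    [SmoothOfRelativeDimension 1 g] [IrreducibleSpace S]
    [SmoothOfRelativeDimension 2 (π ≫ g)] [IsProper (π ≫ g)]
    [IsProper π] [Flat π]
    (hO : ∀ U : S.Opens, Function.Bijective (π.app U))
    (s : S) (hs : IsClosed ({s} : Set S)) [AlgebraicGeometry.IsReduced (π.fiber s)] :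
    PerfAux.betti π (Coh.structureModule X) s 0 = 1 ∧
      PerfAux.betti π (Coh.structureModule X) s 1 =
        PerfAux.betti π (Coh.structureModule X) (genericPoint S) 1 := by
  haveI : Smooth g := SmoothOfRelativeDimension.smooth (n := 1) g
  haveI : IsLocallyNoetherian S := LocallyOfFiniteType.isLocallyNoetherian g
  haveI : IsLocallyNoetherian X := LocallyOfFiniteType.isLocallyNoetherian (π ≫ g)
  haveI : LocallyOfFinitePresentation π := inferInstance
  haveI : GeometricallyConnected π := Groth.Agent.Hens.SteinConnected.geometricallyConnected π hO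
  have hfp := Groth.Agent.IntProd70.isFP_unit X
  have hfl := Groth.Agent.IntProd70.isFlatOver_unit π
  have hb0 : ∀ t : S, 1 ≤ PerfAux.betti π (Coh.structureModule X) t 0 := fun t => by
    haveI : ConnectedSpace ↥(π.fiber t) := inferInstance
    haveI : Nonempty ↥(π.fiber t) := ConnectedSpace.toNonempty
    letI : (π.fiber t).Over (Spec (CommRingCat.of (S.residueField t))) := ⟨π.fiberToSpecResidueField t⟩
    haveI : IsProper (π.fiberToSpecResidueField t) :=
      inferInstanceAs (IsProper (Limits.pullback.snd π (S.fromSpecResidueField t)))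
    refine le_of_le_of_eq (one_le_finrank_H0 (π.fiberToSpecResidueField t)) ?_
    exact finrank_congr (S.residueField t) (Groth.Agent.QCoh.pullbackUnitIso (π.fiberι t)).symm 0
  have h0 : PerfAux.betti π (Coh.structureModule X) s 0 = 1 := by
    haveI : IsAlgClosed (IsLocalRing.ResidueField (S.presheaf.stalk s)) :=
      IsAlgClosed.of_ringEquiv k _ (residueFieldIsoBase g s hs).commRingCatIsoToRingEquiv.symm
    haveI : IsAlgClosed (S.residueField s) := ‹IsAlgClosed (IsLocalRing.ResidueField (S.presheaf.stalk s))›
    haveI : IsProper (π.fiberToSpecResidueField s) :=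
      inferInstanceAs (IsProper (Limits.pullback.snd π (S.fromSpecResidueField s)))
    haveI : ConnectedSpace ↥(π.fiber s) := inferInstance
    letI : (π.fiber s).Over (Spec (CommRingCat.of (S.residueField s))) := ⟨π.fiberToSpecResidueField s⟩
    refine Eq.trans ?_ (finrank_H0_eq_one (π.fiberToSpecResidueField s)
      (Groth.Agent.GITLib.Rigid.bijective_appTop (π.fiberToSpecResidueField s)))
    exact finrank_congr (S.residueField s) (Groth.Agent.QCoh.pullbackUnitIso (π.fiberι s)) 0
  refine ⟨h0, ?_⟩
  by_cases hne : s = genericPoint S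
  · exact congrArg (fun t : S => PerfAux.betti π (Coh.structureModule X) t 1) hne
  have hd := dim_fiber_le π (coheight_le_two (π ≫ g)) s hne
  have hη : ∀ i n, PerfAux.betti π (Coh.structureModule X) s i < n →
      PerfAux.betti π (Coh.structureModule X) (genericPoint S) i < n := fun i n h =>
    (genericPoint_specializes s).mem_open (Groth.Agent.S1025.result π _ hfp hfl i n) h
  have hs2 : ∀ i, 1 < i → PerfAux.betti π (Coh.structureModule X) s i = 0 := betti_two π s hd
  have hη2 : ∀ i, 1 < i → PerfAux.betti π (Coh.structureModule X) (genericPoint S) i = 0 := fun i hi => by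
    have := hη i 1 (by rw [hs2 i hi]; omega)
    omega
  have hη0 : PerfAux.betti π (Coh.structureModule X) (genericPoint S) 0 = 1 := by
    have := hη 0 2 (by omega)
    have := hb0 (genericPoint S)
    omega
  haveI : (Coh.structureModule X).IsQuasicoherent := (ProperFin.isCoh_structureModule X).1
  have hlc : IsLocallyConstant (fun t : S => PerfAux.eulerChar π (Coh.structureModule X) t) :=
    Groth.Agent.IntProd70.isLocallyConstant_euler hfp hfl
  have hχ := hlc.apply_eq_of_preconnectedSpace s (genericPoint S)
  rw [eulerChar_eq π _ s hs2, eulerChar_eq π _ _ hη2, h0, hη0] at hχ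
  omega

end Groth.Agent.S18413
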