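import Groth.Statements.S18416
import Groth.Agent.Omega.SmoothRelDimZero

set_option autoImplicit false
universe u v w
open CAlg

namespace Groth.Agent.S18416

/-- Let R → C and C → B be smooth ring homomorphisms, J an ideal of B and K the preimage of J in C, and
suppose that C surjects onto A = B/J (so that C/K = B/J = A). Then for every prime x of A there
exist f ∈ B whose image in A does not lie in x and an ideal J₀ of B_f contained in J B_f such that
the composite C → B_f → B_f/J₀ is étale. -/
theorem result (R : Type u) (C : Type v) (B : Type w)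
    [CommRing R] [CommRing C] [CommRing B] [Algebra R C] [Algebra C B] [Algebra R B] [IsScalarTower R C B]
    [Algebra.Smooth R C] [Algebra.Smooth C B] (J : Ideal B)
    (hsurj : Function.Surjective ((Ideal.Quotient.mk J).comp (algebraMap C B)))
    (x : PrimeSpectrum (B ⧸ J)) :
    ∃ f : B, Ideal.Quotient.mk J f ∉ x.asIdeal ∧
      ∃ J₀ : Ideal (Localization.Away f), J₀ ≤ J.map (algebraMap B (Localization.Away f)) ∧
        ((Ideal.Quotient.mk J₀).comp ((algebraMap B (Localization.Away f)).comp (algebraMap C B))).Etale := by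
  classical
  let q := x.asIdeal.comap (Ideal.Quotient.mk J)
  have hJq : J ≤ q := fun b hb => by
    rw [Ideal.mem_comap, Ideal.Quotient.eq_zero_iff_mem.2 hb]
    exact zero_mem _
  obtain ⟨J₀, hJ₀, -, f, hf, het⟩ := Omega.SmoothRelDimZero.exists_etale_quotient (C := C) J hsurj q hJq
  let Bf := Localization.Away f
  let Lf := Localization.Away (Ideal.Quotient.mk J₀ f)
  refine ⟨f, hf, J₀.map (algebraMap B Bf), Ideal.map_mono hJ₀, ?_⟩
  haveI : IsLocalization ((Submonoid.powers f).map (Ideal.Quotient.mk J₀)) Lf := by
    rw [Submonoid.map_powers]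
    exact (inferInstance : IsLocalization (Submonoid.powers (Ideal.Quotient.mk J₀ f)) Lf)
  let π : Bf →+* Lf := IsLocalization.map Lf (Ideal.Quotient.mk J₀) (Submonoid.powers f).le_comap_map
  have hπ : Function.Surjective π :=
    IsLocalization.map_surjective_of_surjective (g := Ideal.Quotient.mk J₀) (Submonoid.powers f) Bf Lf Ideal.Quotient.mk_surjective
  have hker : RingHom.ker π = J₀.map (algebraMap B Bf) := by
    change RingHom.ker (IsLocalization.map Lf (Ideal.Quotient.mk J₀) _) = _
    rw [IsLocalization.ker_map (T := (Submonoid.powers f).map (Ideal.Quotient.mk J₀)) Lf (Ideal.Quotient.mk J₀) rfl, Ideal.mk_ker]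
  let e : (Bf ⧸ J₀.map (algebraMap B Bf)) ≃+* Lf :=
    (Ideal.quotEquivOfEq hker.symm).trans (RingHom.quotientKerEquivOfSurjective hπ)
  have hfac : e.symm.toRingHom.comp (algebraMap C Lf) =
      (Ideal.Quotient.mk (J₀.map (algebraMap B Bf))).comp ((algebraMap B Bf).comp (algebraMap C B)) := by
    ext c
    refine e.symm_apply_eq.2 ?_
    change algebraMap C Lf c = π (algebraMap B Bf (algebraMap C B c))
    rw [IsLocalization.map_eq, IsScalarTower.algebraMap_apply C (B ⧸ J₀) Lf]
    rfl
  have halg : (Ideal.Quotient.mk (J₀.map (algebraMap B Bf))).comp ((algebraMap B Bf).comp (algebraMap C B)) =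
      algebraMap C (Bf ⧸ J₀.map (algebraMap B Bf)) := by
    rw [← IsScalarTower.algebraMap_eq C B Bf]
    rfl
  rw [halg, RingHom.etale_algebraMap]
  haveI := het
  exact Algebra.Etale.of_equiv (AlgEquiv.ofRingEquiv (f := e.symm) fun c => by
    rw [← halg]
    exact RingHom.congr_fun hfac c)

end Groth.Agent.S18416
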