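import Groth.Statements.S18418
import Groth.Agent.FinLenLib.Basic
import Mathlib.RingTheory.WittVector.DiscreteValuationRing
import Mathlib.Algebra.BigOperators.WithTop
-- import your own Groth.Agent.* helpers here

set_option autoImplicit false
universe u v
open FonLaf

namespace Groth.Agent.S18418

open Groth.Agent.FinLenLib

variable {W : Type*} [CommRing W] (a : W) {σ : W →+* W} [RingHomSurjective σ] (r : ℕ)
  {N : ℕ → Type v} [∀ i, AddCommGroup (N i)] [∀ i, Module W (N i)]

/-- Extend a family on `[1, r]` by zero. -/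
def ext0 : ((i : Fin r) → N (i.1 + 1)) →ₗ[W] (i : ℕ) → N (i + 1) :=
  LinearMap.pi fun i => if h : i < r then LinearMap.proj (⟨i, h⟩ : Fin r) else 0

theorem ext0_of_lt (x : (i : Fin r) → N (i.1 + 1)) {i : ℕ} (h : i < r) : ext0 (W := W) r x i = x ⟨i, h⟩ := by
  simp [ext0, h]

theorem ext0_of_ge (x : (i : Fin r) → N (i.1 + 1)) {i : ℕ} (h : r ≤ i) : ext0 (W := W) r x i = 0 := by
  simp [ext0, not_lt.2 h]

variable (α : ∀ i, N (i + 1) →ₗ[W] N i)

/-- `ι` on infinite sequences. -/
def seq : ((i : ℕ) → N (i + 1)) →ₗ[W] (i : ℕ) → N i :=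
  LinearMap.pi fun i => match i with
    | 0 => (α 0).comp (LinearMap.proj 0)
    | i + 1 => (α (i + 1)).comp (LinearMap.proj (i + 1)) - a • LinearMap.proj i

theorem seq_zero (z : (i : ℕ) → N (i + 1)) : seq a α z 0 = α 0 (z 0) := rfl

theorem seq_succ (z : (i : ℕ) → N (i + 1)) (i : ℕ) : seq a α z (i + 1) = α (i + 1) (z (i + 1)) - a • z i := rfl

/-- The map `ι` of the statement. -/
def iota : ((i : Fin r) → N (i.1 + 1)) →ₗ[W] (i : Fin (r + 1)) → N i.1 :=
  (LinearMap.pi fun i : Fin (r + 1) => (LinearMap.proj i.1 : ((i : ℕ) → N i) →ₗ[W] N i.1)).comp ((seq a α).comp (ext0 r))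

theorem iota_apply (x : (i : Fin r) → N (i.1 + 1)) (i : Fin (r + 1)) : iota a r α x i = seq a α (ext0 (W := W) r x) i.1 := rfl

variable {a r α} (φ : ∀ i, N i →ₛₗ[σ] N 0)

/-- The map `Φ` of the statement. -/
def PhiMap (r : ℕ) : ((i : Fin (r + 1)) → N i.1) →ₛₗ[σ] N 0 where
  toFun y := ∑ i, φ i.1 (y i)
  map_add' x y := by simp only [Pi.add_apply, map_add, Finset.sum_add_distrib]
  map_smul' c x := by simp only [Pi.smul_apply, map_smulₛₗ, Finset.smul_sum]

theorem reduction_injective (ha : σ a = a) (hφ : ∀ i, i < r → ∀ y : N (i + 1), φ i (α i y) = a • φ (i + 1) y)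
    (hsurj : Function.Surjective (PhiMap φ r))
    (hker : ∀ y, PhiMap φ r y = 0 → y ∈ LinearMap.range (iota a r α))
    (hfl : ∀ i, IsFiniteLength W (N i)) (k : ℕ) (x : (i : Fin r) → N (i.1 + 1))
    (hx : iota a r α x ∈ mults (a ^ k) _) : x ∈ mults (a ^ k) _ := by
  have hzero : ∀ x, PhiMap φ r (iota a r α x) = 0 := by
    intro x
    show ∑ i : Fin (r + 1), φ i.1 (seq a α (ext0 r x) i.1) = 0
    rw [Fin.sum_univ_eq_sum_range (fun i => φ i (seq a α (ext0 (W := W) r x) i)), Finset.sum_range_succ']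
    simp only [seq_zero, seq_succ, map_sub, map_smulₛₗ, ha, Finset.sum_sub_distrib]
    have h2 := Finset.sum_range_succ' (fun i => φ i (α i (ext0 (W := W) r x i))) r
    rw [Finset.sum_range_succ, ext0_of_ge r x le_rfl, map_zero, map_zero, add_zero] at h2
    rw [sub_add_eq_add_sub, ← h2, ← Finset.sum_sub_distrib]
    exact Finset.sum_eq_zero fun i hi => by rw [hφ i (Finset.mem_range.1 hi), sub_self]
  let K := mults (a ^ k) ((i : Fin (r + 1)) → N i.1)
  let S := LinearMap.range (iota a r α) ⊔ K
  let KL := mults (a ^ k) ((i : Fin r) → N (i.1 + 1))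
  let K0 := mults (a ^ k) (N 0)
  have hak : σ (a ^ k) = a ^ k := by rw [map_pow, ha]
  have hS : S ≤ K0.comap (PhiMap φ r) := by
    refine sup_le ?_ ?_
    · rintro _ ⟨x, rfl⟩
      rw [Submodule.mem_comap, hzero]
      exact zero_mem _
    · rintro _ ⟨y, rfl⟩
      exact ⟨PhiMap φ r y, by simp [map_smulₛₗ, hak]⟩
  let q : (((i : Fin (r + 1)) → N i.1) ⧸ S) →ₛₗ[σ] N 0 ⧸ K0 := Submodule.mapQ S K0 (PhiMap φ r) hS
  have hq : Function.Bijective q := by
    constructor
    · rw [injective_iff_map_eq_zero]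
      intro u hu
      obtain ⟨y, rfl⟩ := Submodule.mkQ_surjective S u
      rw [Submodule.mkQ_apply, Submodule.Quotient.mk_eq_zero]
      obtain ⟨m, hm⟩ := (Submodule.Quotient.mk_eq_zero K0).1 hu
      obtain ⟨y', rfl⟩ := hsurj m
      have h0 : PhiMap φ r (y - a ^ k • y') = 0 := by
        rw [map_sub, map_smulₛₗ, hak, sub_eq_zero]
        exact hm.symm
      exact Submodule.mem_sup.2 ⟨_, hker _ h0, a ^ k • y', ⟨y', rfl⟩, sub_add_cancel _ _⟩
    · intro u
      obtain ⟨m, rfl⟩ := Submodule.mkQ_surjective K0 u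
      obtain ⟨y, rfl⟩ := hsurj m
      exact ⟨Submodule.Quotient.mk y, rfl⟩
  have hlq := length_eq_of_semilinear q hq
  let ib : (((i : Fin r) → N (i.1 + 1)) ⧸ KL) →ₗ[W] ((i : Fin (r + 1)) → N i.1) ⧸ K :=
    Submodule.mapQ KL K (iota a r α) (by rintro _ ⟨y, rfl⟩; exact ⟨iota a r α y, by simp⟩)
  let π : (((i : Fin (r + 1)) → N i.1) ⧸ K) →ₗ[W] ((i : Fin (r + 1)) → N i.1) ⧸ S :=
    Submodule.factor le_sup_right
  have hπ : Function.Surjective π := Submodule.factor_surjective le_sup_right
  have hex : Function.Exact (LinearMap.range ib).subtype π := by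
    intro u
    obtain ⟨y, rfl⟩ := Submodule.mkQ_surjective K u
    constructor
    · intro hu
      obtain ⟨_, ⟨z, rfl⟩, w, hw, hzw⟩ := Submodule.mem_sup.1 ((Submodule.Quotient.mk_eq_zero S).1 hu)
      exact ⟨⟨K.mkQ y, Submodule.Quotient.mk z, (Submodule.Quotient.eq K).2 (by
        show iota a r α z - y ∈ K
        rw [show y = iota a r α z + w from hzw.symm, sub_add_cancel_left]; exact neg_mem hw)⟩, rfl⟩
    · rintro ⟨⟨v, z, rfl⟩, hv⟩
      obtain ⟨z, rfl⟩ := Submodule.mkQ_surjective KL z
      rw [← hv]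
      exact (Submodule.Quotient.mk_eq_zero S).2 (Submodule.mem_sup_left ⟨z, rfl⟩)
  have e1 := Module.length_eq_add_of_exact _ π (Submodule.subtype_injective _) hπ hex
  have e2 := Module.length_eq_add_of_exact (LinearMap.ker ib).subtype ib.rangeRestrict (Submodule.subtype_injective _)
    ib.surjective_rangeRestrict (by
      intro u; rw [← LinearMap.mem_ker, LinearMap.ker_rangeRestrict]; exact ⟨fun h => ⟨⟨u, h⟩, rfl⟩, fun ⟨v, hv⟩ => hv ▸ v.2⟩)
  have hf : ∀ i, Module.length W (N i ⧸ mults (a ^ k) (N i)) ≠ ⊤ := fun i =>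
    Module.length_ne_top_iff.2 ((hfl i).of_surjective (Submodule.mkQ_surjective _))
  have e3 : Module.length W (((i : Fin (r + 1)) → N i.1) ⧸ K) =
      Module.length W (N 0 ⧸ K0) + Module.length W (((i : Fin r) → N (i.1 + 1)) ⧸ KL) := by
    rw [length_pi_quot_mults, length_pi_quot_mults, Fin.sum_univ_succ]
    rfl
  have hR : Module.length W (LinearMap.range ib) = Module.length W (((i : Fin r) → N (i.1 + 1)) ⧸ KL) := by
    rw [hlq, e3, add_comm (Module.length W (N 0 ⧸ K0))] at e1
    exact (WithTop.add_right_cancel (hf 0) e1).symm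
  have hfinL : Module.length W (LinearMap.range ib) ≠ ⊤ := by
    rw [hR, length_pi_quot_mults]
    rw [← lt_top_iff_ne_top]
    exact WithTop.sum_lt_top.2 fun i _ => lt_top_iff_ne_top.2 (hf _)
  rw [← hR, eq_comm] at e2
  have hk0 : Module.length W (LinearMap.ker ib) = 0 :=
    WithTop.add_right_cancel hfinL (e2.trans (zero_add _).symm)
  have hsub := Module.length_eq_zero_iff.1 hk0
  have hxk : ib (Submodule.Quotient.mk x) = 0 := (Submodule.Quotient.mk_eq_zero K).2 hx
  have := Subsingleton.elim (⟨_, hxk⟩ : LinearMap.ker ib) 0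
  exact (Submodule.Quotient.mk_eq_zero KL).1 (congrArg Subtype.val this)


/-- Let k be a perfect field of characteristic p and W = W(k) its ring of Witt vectors with Frobenius σ.
Fix r and W-modules of finite length N_0 = M, N_1, N_2, … with W-linear maps α_i : N_{i+1} → N_i and
σ-semilinear maps φ_i : N_i → M such that φ_i ∘ α_i = p φ_{i+1} for all i < r. Let ι be the map
sending (x_1, …, x_r) ∈ N_1 ⊕ ⋯ ⊕ N_r to (α_0 x_1, α_1 x_2 − p x_1, …, α_{r−1} x_r − p x_{r−1}, −p
x_r) ∈ N_0 ⊕ ⋯ ⊕ N_r, and Φ the map N_0 ⊕ ⋯ ⊕ N_r → M, (y_i) ↦ Σ_i φ_i(y_i). Suppose that Φ is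
surjective and that its kernel is contained in the image of ι (with the displayed relation this says
that Φ induces a σ-semilinear bijection from the cokernel of ι onto M). Then for every i < r the map
α_i is injective and its image is a direct summand of N_i (so the N_i form a filtration of M by
direct summands, the data of a Fontaine–Laffaille module). Families are indexed by all natural
numbers; only the indices ≤ r enter. -/
theorem result (p : ℕ) [Fact p.Prime]
    (k : Type u) [Field k] [CharP k p] [PerfectRing k p] (r : ℕ)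
    (N : ℕ → Type v) [∀ i, AddCommGroup (N i)] [∀ i, Module (WittVector p k) (N i)]
    (hfl : ∀ i, IsFiniteLength (WittVector p k) (N i))
    (α : ∀ i, N (i + 1) →ₗ[WittVector p k] N i)
    (φ : ∀ i, N i →ₛₗ[(WittVector.frobenius : WittVector p k →+* WittVector p k)] N 0)
    (hφ : ∀ i, i < r → ∀ y : N (i + 1), φ i (α i y) = (p : WittVector p k) • φ (i + 1) y)
    (hsurj : ∀ m : N 0, ∃ y : (i : ℕ) → N i, (∀ i, r < i → y i = 0) ∧
      (Finset.range (r + 1)).sum (fun i => φ i (y i)) = m)
    (hker : ∀ y : (i : ℕ) → N i, (∀ i, r < i → y i = 0) →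
      (Finset.range (r + 1)).sum (fun i => φ i (y i)) = 0 →
        ∃ z : (i : ℕ) → N (i + 1), (∀ i, r ≤ i → z i = 0) ∧
          y 0 = α 0 (z 0) ∧ ∀ i, y (i + 1) = α (i + 1) (z (i + 1)) - (p : WittVector p k) • z i)
    (i : ℕ) (hi : i < r) :
    Function.Injective (α i) ∧
      ∃ Q : Submodule (WittVector p k) (N i), IsCompl (LinearMap.range (α i)) Q := by
  classical
  have hbij := WittVector.frobenius_bijective p k
  have : RingHomSurjective (WittVector.frobenius : WittVector p k →+* WittVector p k) := ⟨hbij.surjective⟩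
  have hp : (p : WittVector p k) ∈ (⊥ : Ideal (WittVector p k)).jacobson := by
    rw [IsLocalRing.jacobson_eq_maximalIdeal _ bot_ne_top]
    exact (IsLocalRing.mem_maximalIdeal _).2 (WittVector.irreducible p).not_isUnit
  have hkey := fun k' x => reduction_injective (a := (p : WittVector p k)) (r := r) (α := α) φ (map_natCast _ p) hφ
    (fun m => by
      obtain ⟨y, -, hy⟩ := hsurj m
      refine ⟨fun i => y i.1, ?_⟩
      rw [← hy]
      exact Fin.sum_univ_eq_sum_range (fun i => φ i (y i)) (r + 1))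
    (fun y hy => by
      let y' : (i : ℕ) → N i := fun i => if h : i < r + 1 then y ⟨i, h⟩ else 0
      obtain ⟨z, hz, hz0, hz1⟩ := hker y' (fun i hi => dif_neg (by omega)) (by
        rw [← Fin.sum_univ_eq_sum_range (fun i => φ i (y' i)) (r + 1)]
        rw [← hy]
        exact Finset.sum_congr rfl fun i _ => congrArg (φ i.1) (dif_pos i.2))
      refine ⟨fun i => z i.1, funext fun i => ?_⟩
      have hext : ext0 (W := WittVector p k) r (fun i : Fin r => z i.1) = z := funext fun j => by
        by_cases h : j < r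
        · exact ext0_of_lt r _ h
        · rw [ext0_of_ge r _ (not_lt.1 h), hz j (not_lt.1 h)]
      rw [iota_apply, hext]
      refine Eq.trans ?_ (dif_pos i.2 : y' i.1 = y i)
      obtain ⟨i, hi'⟩ := i
      cases i with
      | zero => exact hz0.symm
      | succ i => exact (hz1 i).symm)
    hfl k' x
  have step : ∀ (k' : ℕ) (x : N (i + 1)), α i x ∈ mults ((p : WittVector p k) ^ k') (N i) →
      (p : WittVector p k) • x ∈ mults ((p : WittVector p k) ^ k') (N (i + 1)) →
      x ∈ mults ((p : WittVector p k) ^ k') (N (i + 1)) := by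
    intro k' x hx hpx
    let e : (j : Fin r) → N (j.1 + 1) := Pi.single (⟨i, hi⟩ : Fin r) x
    obtain ⟨u, hu⟩ := hx
    obtain ⟨v, hv⟩ := hpx
    obtain ⟨z, hz⟩ := hkey k' e (by
      let w : (j : ℕ) → N j := Pi.single i u + Pi.single (i + 1) (-v)
      refine ⟨fun j => w j.1, funext fun j => ?_⟩
      show (p : WittVector p k) ^ k' • w j.1 = seq (p : WittVector p k) α (ext0 (W := WittVector p k) r e) j.1
      have he : ext0 (W := WittVector p k) r e = Pi.single (M := fun j => N (j + 1)) i x := funext fun l => by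
        by_cases h : l < r
        · rw [ext0_of_lt r _ h]
          by_cases hl : l = i
          · subst hl; simp [e]
          · simp [e, hl, Fin.ext_iff]
        · rw [ext0_of_ge r _ (not_lt.1 h), Pi.single_eq_of_ne (M := fun j => N (j + 1)) (by omega)]
      rw [he]
      obtain ⟨j, hj⟩ := j
      show (p : WittVector p k) ^ k' • w j = seq (p : WittVector p k) α (Pi.single (M := fun j => N (j + 1)) i x) j
      cases j with
      | zero =>
        rw [seq_zero]
        by_cases h : i = 0
        · subst h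
          simp only [w, Pi.add_apply, Pi.single_eq_same, Pi.single_eq_of_ne (M := N) (Nat.zero_ne_one), add_zero]
          exact hu
        · simp [w, Pi.single_eq_of_ne (M := N) (Ne.symm h), Pi.single_eq_of_ne (M := N) (show 0 ≠ i + 1 by omega),
            Pi.single_eq_of_ne (M := fun j => N (j + 1)) (Ne.symm h)]
      | succ j =>
        rw [seq_succ]
        by_cases h : j + 1 = i
        · subst h
          simp only [w, Pi.add_apply, Pi.single_eq_same, Pi.single_eq_of_ne (M := N) (show j + 1 ≠ j + 1 + 1 by omega),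
            add_zero, Pi.single_eq_of_ne (M := fun j => N (j + 1)) (show j ≠ j + 1 by omega), smul_zero, sub_zero]
          exact hu
        · by_cases h' : j = i
          · subst h'
            simp only [w, Pi.add_apply, Pi.single_eq_same, Pi.single_eq_of_ne (M := N) (show j + 1 ≠ j by omega),
              zero_add, Pi.single_eq_of_ne (M := fun j => N (j + 1)) (show j + 1 ≠ j by omega), map_zero, zero_sub,
              smul_neg]
            exact congrArg Neg.neg hv
          · simp [w, Pi.single_eq_of_ne (M := N) h, Pi.single_eq_of_ne (M := N) (show j + 1 ≠ i + 1 by omega),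
              Pi.single_eq_of_ne (M := fun j => N (j + 1)) h, Pi.single_eq_of_ne (M := fun j => N (j + 1)) h'])
    have := congrFun hz (⟨i, hi⟩ : Fin r)
    simp only [e, Pi.single_eq_same, LinearMap.smul_apply, LinearMap.id_apply] at this
    exact ⟨z ⟨i, hi⟩, this⟩
  have inj : ∀ (k' : ℕ) (x : N (i + 1)), α i x ∈ mults ((p : WittVector p k) ^ k') (N i) →
      x ∈ mults ((p : WittVector p k) ^ k') (N (i + 1)) := by
    intro k' x hx
    have : ∀ d, d ≤ k' → (p : WittVector p k) ^ (k' - d) • x ∈ mults ((p : WittVector p k) ^ k') (N (i + 1)) := by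
      intro d
      induction d with
      | zero => exact fun _ => ⟨x, rfl⟩
      | succ d ih =>
        intro hd
        refine step k' _ (by rw [map_smul]; exact Submodule.smul_mem _ _ hx) ?_
        rw [smul_smul, ← pow_succ', show k' - (d + 1) + 1 = k' - d by omega]
        exact ih (by omega)
    simpa using this k' le_rfl
  obtain ⟨c₁, hc₁⟩ := exists_pow_smul_eq_zero hp (hfl (i + 1))
  obtain ⟨c₀, hc₀⟩ := exists_pow_smul_eq_zero hp (hfl i)
  refine ⟨(injective_iff_map_eq_zero _).2 fun x hx => ?_, ?_⟩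
  · obtain ⟨y, hy⟩ := inj c₁ x (by rw [hx]; exact zero_mem _)
    rw [← hy]
    exact hc₁ y
  · obtain ⟨_, _⟩ := isFiniteLength_iff_isNoetherian_isArtinian.1 (hfl i)
    refine Groth.Agent.FinLenLib.exists_isCompl_of_pure (WittVector.irreducible p) hc₀ _ fun k' y hy => ?_
    obtain ⟨x, hx⟩ := hy
    obtain ⟨z, hz⟩ := inj k' x ⟨y, hx.symm⟩
    refine ⟨α i z, ⟨z, rfl⟩, ?_⟩
    rw [← hx, ← hz]
    exact (map_smul _ _ _).symm

end Groth.Agent.S18418
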