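import Groth.Statements.S18422
import Mathlib.Topology.Algebra.ClopenNhdofOne
import Mathlib.Data.Nat.Prime.Basic

set_option autoImplicit false
universe u v
open Pi1

namespace Groth.Agent.S18422

/-- Let p and l be distinct primes, G a profinite group (a compact totally disconnected topological
group) which is pro-p, meaning that every open normal subgroup of G has index a power of p, and H a
profinite group which is pro-l in the same sense. Then every continuous group homomorphism from G to
H is trivial. -/
theorem result {p l : ℕ} (hp : p.Prime) (hl : l.Prime) (hpl : p ≠ l)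
    (G : Type u) [Group G] [TopologicalSpace G] [IsTopologicalGroup G] [CompactSpace G]
    [TotallyDisconnectedSpace G]
    (H : Type v) [Group H] [TopologicalSpace H] [IsTopologicalGroup H] [CompactSpace H]
    [TotallyDisconnectedSpace H]
    (hG : ∀ U : OpenNormalSubgroup G, ∃ n : ℕ, U.toSubgroup.index = p ^ n)
    (hH : ∀ V : OpenNormalSubgroup H, ∃ n : ℕ, V.toSubgroup.index = l ^ n)
    (f : G →* H) (hf : Continuous f) (g : G) : f g = 1 := by
  have key : ∀ V : OpenNormalSubgroup H, f g ∈ V.toSubgroup := by
    intro V
    let U : OpenNormalSubgroup G :=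
      { toSubgroup := V.toSubgroup.comap f
        isOpen' := V.isOpen'.preimage hf
        isNormal' := by infer_instance }
    obtain ⟨a, ha⟩ := hG U
    obtain ⟨b, hb⟩ := hH V
    let π : G →* H ⧸ V.toSubgroup := (QuotientGroup.mk' V.toSubgroup).comp f
    have hker : π.ker = U.toSubgroup := by
      ext x; simp [π, U, MonoidHom.mem_ker, QuotientGroup.eq_one_iff]
    have h1 : Nat.card π.range = p ^ a := by rw [← Subgroup.index_ker, hker, ha]
    have h2 : Nat.card π.range ∣ l ^ b := by
      rw [← hb, Subgroup.index_eq_card]; exact Subgroup.card_subgroup_dvd_card _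
    rw [h1] at h2
    have h3 : p ^ a = 1 :=
      Nat.Coprime.eq_one_of_dvd (Nat.Coprime.pow a b ((Nat.coprime_primes hp hl).mpr hpl)) h2
    have : U.toSubgroup = ⊤ := Subgroup.index_eq_one.mp (by rw [ha, h3])
    have : g ∈ U.toSubgroup := by rw [this]; trivial
    exact this
  by_contra hne
  obtain ⟨V, hV⟩ := ProfiniteGrp.exist_openNormalSubgroup_sub_open_nhds_of_one
    (isOpen_compl_singleton (x := f g)) (by simpa [eq_comm] using hne)
  exact hV (key V) rfl

end Groth.Agent.S18422
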