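import Groth.Statements.S18424
import Groth.Agent.S0005
import Groth.Agent.S0244
import Groth.Agent.SGA1Birat.Basic
import Groth.Agent.FEtCat.UnivHomeo

set_option autoImplicit false
universe u
open Pi1

namespace Groth.Agent.S18424

open AlgebraicGeometry CategoryTheory CategoryTheory.Limits in
/-- Let k be a field, X and Y integral schemes separated and of finite type over k with X normal and Y
nonsingular (every local ring of Y regular), and f : X → Y a proper k-morphism which is birational,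
i.e. an isomorphism over some nonempty open subset V of Y. Then pulling back finite etale covers
along f is an equivalence between the categories of finite etale covers of Y and of X; in particular
f induces an isomorphism of etale fundamental groups. -/
theorem result (k : Type u) [Field k]
    {X Y : Scheme.{u}} (f : X ⟶ Y) (g : Y ⟶ Spec (CommRingCat.of k))
    [IsSeparated g] [LocallyOfFiniteType g] [QuasiCompact g]
    [IsSeparated (f ≫ g)] [LocallyOfFiniteType (f ≫ g)] [QuasiCompact (f ≫ g)]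
    [IsIntegral X] [IsIntegral Y] (hX : Pi1.IsNormalScheme X)
    (hY : ∀ y : Y, IsRegularLocalRing (Y.presheaf.stalk y)) [IsProper f]
    (V : Y.Opens) (hV : (V : Set Y).Nonempty) (hf : IsIso (f ∣_ V)) :
    (FEt.restrict f).IsEquivalence := by
  have : IsNoetherian Y := by
    have := LocallyOfFiniteType.isLocallyNoetherian g
    have : CompactSpace Y := QuasiCompact.compactSpace_of_compactSpace g
    exact { }
  have hVd : Dense (V : Set Y) := V.2.dense hV
  have := hf
  obtain ⟨U', hle, φ, hcodim, hφ⟩ := SGA1Birat.exists_extension_codimTwo hY (𝟙 Y) f V hVd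
    (inv (f ∣_ V) ≫ (f ⁻¹ᵁ V).ι)
    (by rw [Category.assoc, ← morphismRestrict_ι, IsIso.inv_hom_id_assoc, Category.comp_id])
  have : IsDominant (Y.homOfLE hle) := by
    refine ⟨(hVd.preimage U'.ι.isOpenEmbedding.isOpenMap).mono fun y hy => ?_⟩
    have h := congrArg (fun O : (↑U' : Scheme.{u}).Opens => (↑O : Set (↑U' : Scheme.{u})))
      (Y.opensRange_homOfLE hle)
    exact h.ge hy
  have hφf : φ ≫ f = U'.ι := by
    have : Y.IsSeparated := ⟨by
      rw [show terminal.from Y = g ≫ terminal.from _ from terminal.hom_ext _ _]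
      infer_instance⟩
    refine ext_of_isDominant_of_isSeparated (terminal.from Y) (terminal.hom_ext _ _) (Y.homOfLE hle) ?_
    rw [reassoc_of% hφ, ← morphismRestrict_ι, IsIso.inv_hom_id_assoc, Scheme.homOfLE_ι]
  have hrange : Set.range φ ⊆ Set.range (f ⁻¹ᵁ U').ι := by
    rintro _ ⟨y, rfl⟩
    rw [Scheme.Opens.range_ι]
    show f (φ y) ∈ U'
    rw [← Scheme.Hom.comp_apply, hφf]
    exact y.2
  let σ := IsOpenImmersion.lift (f ⁻¹ᵁ U').ι φ hrange
  have hσ : σ ≫ (f ⁻¹ᵁ U').ι = φ := IsOpenImmersion.lift_fac _ _ _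
  have hσf : σ ≫ (f ∣_ U') = 𝟙 _ := by
    rw [← cancel_mono U'.ι, Category.assoc, morphismRestrict_ι, ← Category.assoc, hσ, hφf, Category.id_comp]
  have hVd' : Dense ((f ⁻¹ᵁ V : X.Opens) : Set X) := by
    refine (f ⁻¹ᵁ V).2.dense ?_
    obtain ⟨y, hy⟩ := hV
    let z := inv (f ∣_ V) ⟨y, hy⟩
    exact ⟨_, z.2⟩
  have hle' : f ⁻¹ᵁ V ≤ f ⁻¹ᵁ U' := fun x hx => hle hx
  have : IsDominant (X.homOfLE hle') := by
    refine ⟨(hVd'.preimage (f ⁻¹ᵁ U').ι.isOpenEmbedding.isOpenMap).mono fun y hy => ?_⟩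
    have h := congrArg (fun O : (↑(f ⁻¹ᵁ U') : Scheme.{u}).Opens => (↑O : Set (↑(f ⁻¹ᵁ U') : Scheme.{u})))
      (X.opensRange_homOfLE hle')
    exact h.ge hy
  have hfσ : (f ∣_ U') ≫ σ = 𝟙 _ := by
    refine ext_of_isDominant_of_isSeparated (f ∣_ U') ?_ (X.homOfLE hle') ?_
    · rw [Category.assoc, hσf, Category.comp_id, Category.id_comp]
    · rw [Category.comp_id, ← cancel_mono (f ⁻¹ᵁ U').ι, Category.assoc, Category.assoc, hσ,
        Scheme.homOfLE_ι]
      have h1 : X.homOfLE hle' ≫ (f ∣_ U') = (f ∣_ V) ≫ Y.homOfLE hle := by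
        rw [← cancel_mono U'.ι, Category.assoc, Category.assoc, morphismRestrict_ι, Scheme.homOfLE_ι,
          Scheme.homOfLE_ι_assoc, morphismRestrict_ι]
      rw [reassoc_of% h1, hφ, IsIso.hom_inv_id_assoc]
  have : IsIso (f ∣_ U') := ⟨σ, hfσ, hσf⟩
  have h1 : (FEt.restrict U'.ι).IsEquivalence := S0005.result Y hY U' hcodim
  have h2 : (FEt.restrict (f ∣_ U')).IsEquivalence := FEtCat.UnivHomeo.isEquivalence_restrict _
  have h3 : (FEt.restrict f ⋙ FEt.restrict (f ⁻¹ᵁ U').ι).IsEquivalence :=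
    Functor.isEquivalence_of_iso
      ((MorphismProperty.Over.pullbackComp (f ∣_ U') U'.ι ((f ∣_ U') ≫ U'.ι) rfl).symm ≪≫
        MorphismProperty.Over.pullbackComp (f ⁻¹ᵁ U').ι f ((f ∣_ U') ≫ U'.ι) (morphismRestrict_ι f U') :
        FEt.restrict U'.ι ⋙ FEt.restrict (f ∣_ U') ≅ FEt.restrict f ⋙ FEt.restrict (f ⁻¹ᵁ U').ι)
  have hne : ((f ⁻¹ᵁ U' : X.Opens) : Set X).Nonempty := (hVd'.nonempty).mono fun x hx => hle' hx
  obtain ⟨hF, hFF⟩ := S0244.result hX (f ⁻¹ᵁ U') hne
  have : (FEt.restrict (f ⁻¹ᵁ U').ι).EssSurj :=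
    ⟨fun Z => ⟨_, ⟨(FEt.restrict f ⋙ FEt.restrict (f ⁻¹ᵁ U').ι).objObjPreimageIso Z⟩⟩⟩
  have : (FEt.restrict (f ⁻¹ᵁ U').ι).IsEquivalence := { }
  exact Functor.isEquivalence_of_comp_right (FEt.restrict f) (FEt.restrict (f ⁻¹ᵁ U').ι)

end Groth.Agent.S18424
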