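import Groth.Statements.S18425
import Mathlib.CategoryTheory.Action.Concrete

set_option autoImplicit false
universe u
open Pi1

namespace Groth.Agent.S18425

open CategoryTheory
open scoped CategoryTheory.PreGaloisCategory

variable (G : Type u) [Group G]

/-- A finite quotient as a finite `G`-set. -/
noncomputable def quotObj (H : Subgroup G) [H.FiniteIndex] : Action FintypeCat.{u} G :=
  letI : Fintype (G ⧸ H) := Fintype.ofFinite _
  Action.FintypeCat.ofMulAction G (FintypeCat.of (G ⧸ H))

/-- Multiplication on the right. -/
noncomputable def rightMul (H : Subgroup G) [H.Normal] [H.FiniteIndex] (x : G ⧸ H) : quotObj G H ⟶ quotObj G H where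
  hom := FintypeCat.homMk fun q : G ⧸ H => (q * x : G ⧸ H)
  comm g := FintypeCat.hom_ext _ _ fun q => by
    obtain ⟨a, ha⟩ := QuotientGroup.mk_surjective (s := H) q
    obtain rfl := ha
    exact mul_assoc (QuotientGroup.mk g : G ⧸ H) (QuotientGroup.mk a) x

/-- The projection between finite quotients. -/
noncomputable def proj {H K : Subgroup G} [H.Normal] [K.Normal] [H.FiniteIndex] [K.FiniteIndex] (h : H ≤ K) :
    quotObj G H ⟶ quotObj G K where
  hom := FintypeCat.homMk fun q : G ⧸ H => QuotientGroup.map H K (MonoidHom.id G) h q
  comm g := FintypeCat.hom_ext _ _ fun q => by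
    obtain ⟨a, ha⟩ := QuotientGroup.mk_surjective (s := H) q
    obtain rfl := ha
    rfl

/-- The canonical homomorphism. -/
noncomputable def iota : G →* Aut (Action.forget FintypeCat.{u} G) where
  toFun g := NatIso.ofComponents
    (fun X => FintypeCat.equivEquivIso
      { toFun := fun x => (X.ρ g).hom x
        invFun := fun x => (X.ρ g⁻¹).hom x
        left_inv := fun x => by
          change (X.ρ g ≫ X.ρ g⁻¹) x = x
          rw [← End.mul_def, ← map_mul, inv_mul_cancel, map_one]
          rfl
        right_inv := fun x => by
          change (X.ρ g⁻¹ ≫ X.ρ g) x = x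
          rw [← End.mul_def, ← map_mul, mul_inv_cancel, map_one]
          rfl })
    (fun {X Y} f => (f.comm g).symm)
  map_one' := by
    ext X x
    change (X.ρ 1).hom x = x
    rw [map_one]
    rfl
  map_mul' g h := by
    ext X x
    change (X.ρ (g * h)).hom x = (X.ρ g).hom ((X.ρ h).hom x)
    rw [map_mul]
    rfl

/-- Evaluation at the base point. -/
noncomputable def ev (σ : Aut (Action.forget FintypeCat.{u} G)) (H : FiniteIndexNormalSubgroup G) :
    G ⧸ H.toSubgroup :=
  σ.hom.app (quotObj G H.toSubgroup) (1 : G ⧸ H.toSubgroup)

theorem app_eq (σ : Aut (Action.forget FintypeCat.{u} G)) (H : FiniteIndexNormalSubgroup G)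
    (x : G ⧸ H.toSubgroup) : (σ.hom.app (quotObj G H.toSubgroup) x : G ⧸ H.toSubgroup) = ev G σ H * x := by
  have h1 := FunctorToFintypeCat.naturality (Action.forget FintypeCat.{u} G) (Action.forget FintypeCat.{u} G)
    σ.hom (rightMul G H.toSubgroup x) (1 : G ⧸ H.toSubgroup)
  refine Eq.trans ?_ h1
  exact congrArg (σ.hom.app (quotObj G H.toSubgroup)) (one_mul x).symm

/-- The map to the completion. -/
noncomputable def toCompletion :
    Aut (Action.forget FintypeCat.{u} G) →* ProfiniteGrp.ProfiniteCompletion.completion (GrpCat.of G) :=
  MonoidHom.mk' (fun σ => ⟨fun H => ev G σ H, fun {H K} i => by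
      exact (FunctorToFintypeCat.naturality (Action.forget FintypeCat.{u} G) (Action.forget FintypeCat.{u} G)
        σ.hom (proj G (H := H.toSubgroup) (K := K.toSubgroup) (leOfHom i)) (1 : G ⧸ H.toSubgroup)).symm.trans
        (congrArg (σ.hom.app (quotObj G K.toSubgroup)) rfl)⟩)
    fun σ τ => Subtype.ext (funext fun H => app_eq G σ H (ev G τ H))

theorem toCompletion_iota (g : G) :
    toCompletion G (iota G g) = ProfiniteGrp.ProfiniteCompletion.etaFn (GrpCat.of G) g :=
  Subtype.ext (funext fun H => congrArg QuotientGroup.mk (mul_one g))

theorem continuous_toCompletion : Continuous (toCompletion G) := by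
  refine continuous_induced_rng.mpr (continuous_pi fun H => ?_)
  have h1 : Continuous fun σ : Aut (Action.forget FintypeCat.{u} G) =>
      PreGaloisCategory.autEmbedding (Action.forget FintypeCat.{u} G) σ (quotObj G H.toSubgroup) :=
    (continuous_apply _).comp continuous_induced_dom
  exact (continuous_of_discreteTopology (f := fun e : Aut ((Action.forget FintypeCat.{u} G).obj (quotObj G H.toSubgroup)) =>
    e.hom (1 : G ⧸ H.toSubgroup))).comp h1

theorem injective_toCompletion : Function.Injective (toCompletion G) := by
  refine (injective_iff_map_eq_one _).mpr fun σ hσ => Iso.ext (NatTrans.ext (funext fun X => ?_))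
  refine FintypeCat.hom_ext _ _ fun (x : X.V) => ?_
  let _ := Action.instMulAction X
  have hfin : Finite (Equiv.Perm X.V) := inferInstance
  let K : Subgroup G := (MulAction.toPermHom G X.V).ker
  have hK : K.FiniteIndex := inferInstanceAs (MulAction.toPermHom G X.V).ker.FiniteIndex
  let H : FiniteIndexNormalSubgroup G := FiniteIndexNormalSubgroup.ofSubgroup K
  let f : quotObj G H.toSubgroup ⟶ X :=
    { hom := FintypeCat.homMk fun q : G ⧸ K => Quotient.liftOn' q (fun g => g • x) (fun a b hab => by
        have h1 : a⁻¹ * b ∈ K := QuotientGroup.leftRel_apply.mp hab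
        have h2 : (a⁻¹ * b) • x = x := DFunLike.congr_fun (MonoidHom.mem_ker.mp h1) x
        calc a • x = a • ((a⁻¹ * b) • x) := by rw [h2]
          _ = b • x := by rw [← mul_smul, mul_inv_cancel_left])
      comm := fun g => FintypeCat.hom_ext _ _ fun q => by
        obtain ⟨a, ha⟩ := QuotientGroup.mk_surjective (s := K) q
        obtain rfl := ha
        exact mul_smul g a x }
  have h1 := FunctorToFintypeCat.naturality (Action.forget FintypeCat.{u} G) (Action.forget FintypeCat.{u} G)
    σ.hom f (1 : G ⧸ K)
  have h2 : ev G σ H = 1 := congrFun (congrArg Subtype.val hσ) H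
  have h3 : ((Action.forget FintypeCat.{u} G).map f) (σ.hom.app (quotObj G H.toSubgroup) (1 : G ⧸ K)) =
      ((Action.forget FintypeCat.{u} G).map f) (1 : G ⧸ K) := congrArg _ h2
  have h4 := h1.trans h3
  rwa [show ((Action.forget FintypeCat.{u} G).map f) (1 : G ⧸ K) = x from one_smul G x] at h4

theorem bijective_toCompletion : Function.Bijective (toCompletion G) := by
  refine ⟨injective_toCompletion G, fun c => ?_⟩
  have hcl : IsClosed (Set.range (toCompletion G)) := (isCompact_range (continuous_toCompletion G)).isClosed
  have hsub : Set.range (ProfiniteGrp.ProfiniteCompletion.etaFn (GrpCat.of G)) ⊆ Set.range (toCompletion G) := by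
    rintro _ ⟨g, rfl⟩
    exact ⟨iota G g, toCompletion_iota G g⟩
  exact hcl.closure_subset_iff.mpr hsub (ProfiniteGrp.ProfiniteCompletion.denseRange (GrpCat.of G) c)


open CategoryTheory in
/-- In the case of a discrete group G, let F be the forgetful functor from the category of finite G-sets
to finite sets. Then the canonical homomorphism from G to Aut(F), letting g act on every finite
G-set, extends to an isomorphism of topological groups from the profinite completion of G (the limit
of the finite quotients G/U over normal subgroups U of finite index) onto Aut(F) with its profinite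
topology. (The published statement is for an arbitrary topological group G, with finite G-sets
carrying a continuous action and the completion taken over open normal subgroups of finite index;
this row is the case of a discrete group.) -/
theorem result (G : Type u) [Group G] :
    ∃ φ : (ProfiniteGrp.ProfiniteCompletion.completion (GrpCat.of G)) ≃ₜ* Aut (Action.forget FintypeCat.{u} G),
      ∀ (g : G) (X : Action FintypeCat.{u} G) (x : X.V),
        (φ (ProfiniteGrp.ProfiniteCompletion.etaFn (GrpCat.of G) g)).hom.app X x = (X.ρ g).hom x := by
  let e := MulEquiv.ofBijective (toCompletion G) (bijective_toCompletion G)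
  let H := Continuous.homeoOfEquivCompactToT2 (f := e.toEquiv) (continuous_toCompletion G)
  let ψ : Aut (Action.forget FintypeCat.{u} G) ≃ₜ* ProfiniteGrp.ProfiniteCompletion.completion (GrpCat.of G) :=
    { e with
      continuous_toFun := continuous_toCompletion G
      continuous_invFun := H.continuous_invFun }
  refine ⟨ψ.symm, fun g X x => ?_⟩
  have : ψ.symm (ProfiniteGrp.ProfiniteCompletion.etaFn (GrpCat.of G) g) = iota G g :=
    e.symm_apply_eq.mpr (toCompletion_iota G g).symm
  rw [this]
  rfl

end Groth.Agent.S18425
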