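import Groth.Statements.S18426
import Groth.Agent.S9821
import Mathlib.AlgebraicGeometry.Normalization
import Mathlib.RingTheory.DedekindDomain.IntegralClosure

set_option autoImplicit false
universe u
open Pi1

namespace Groth.Agent.S18426
set_option backward.isDefEq.respectTransparency.types false

open AlgebraicGeometry CategoryTheory CategoryTheory.Limits in
/-- Suppose X is an integral scheme that is Noetherian and normal, write K for its function field, and
take L to be a finite separable extension of K. Then the normalization of X in L, namely the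
relative normalization of the morphism Spec L → Spec K → X, is finite over X. (That this
normalization is a normal integral scheme with function field L is not restated.) -/
theorem result {X : Scheme.{u}} [IsIntegral X] [IsNoetherian X]
    (hX : Pi1.IsNormalScheme X) (L : Type u) [Field L] [Algebra X.functionField L] [FiniteDimensional X.functionField L]
    [Algebra.IsSeparable X.functionField L]
    [QuasiCompact (Spec.map (CommRingCat.ofHom (algebraMap X.functionField L)) ≫ X.fromSpecStalk (genericPoint X))]
    [QuasiSeparated (Spec.map (CommRingCat.ofHom (algebraMap X.functionField L)) ≫ X.fromSpecStalk (genericPoint X))] :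
    IsFinite (Spec.map (CommRingCat.ofHom (algebraMap X.functionField L)) ≫ X.fromSpecStalk (genericPoint X)).fromNormalization := by
  let φ := CommRingCat.ofHom (algebraMap X.functionField L)
  let g := X.fromSpecStalk (genericPoint X)
  let f := Spec.map φ ≫ g
  have : IsIntegralHom f.fromNormalization := inferInstance
  refine { toIsAffineHom := this.toIsAffineHom, finite_app := fun U hU => ?_ }
  change (f.fromNormalization.app U).hom.Finite
  rw [Scheme.Hom.fromNormalization_app _ hU]
  erw [CommRingCat.hom_comp]
  refine RingHom.Finite.comp (RingHom.Finite.of_surjective _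
    (ConcreteCategory.bijective_of_isIso (f.normalizationObjIso hU).inv).2) ?_
  let algU := (f.app U).hom.toAlgebra
  change (algebraMap Γ(X, U) (integralClosure Γ(X, U) Γ(Spec (CommRingCat.of L), f ⁻¹ᵁ U))).Finite
  rw [RingHom.finite_algebraMap]
  rcases U.1.eq_empty_or_nonempty with hne | ⟨x, hx⟩
  · obtain rfl : U = ⊥ := TopologicalSpace.Opens.ext hne
    have : Subsingleton (integralClosure Γ(X, ⊥) Γ(Spec (CommRingCat.of L), f ⁻¹ᵁ ⊥)) := Module.subsingleton Γ(X, ⊥) _
    infer_instance
  · have hne : Nonempty U := ⟨⟨x, hx⟩⟩
    have := functionField_isFractionRing_of_isAffineOpen X U hU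
    have hgen : genericPoint ↥X ∈ U := (genericPoint_specializes x).mem_open U.2 hx
    have hgt : g ⁻¹ᵁ U = ⊤ := by
      refine top_le_iff.mp fun z _ => ?_
      have hz : g z ⤳ genericPoint ↥X := X.range_fromSpecStalk.le ⟨z, rfl⟩
      exact hz.mem_open U.2 hgen
    have htop : f ⁻¹ᵁ U = ⊤ := by simp [f, hgt]
    let algL : Algebra Γ(X, U) L :=
      ((algebraMap X.functionField L).comp (algebraMap Γ(X, U) X.functionField)).toAlgebra
    have : IsScalarTower Γ(X, U) X.functionField L := .of_algebraMap_eq' rfl
    let ei := (Spec (CommRingCat.of L)).presheaf.mapIso (eqToIso htop.symm).op ≪≫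
      Scheme.ΓSpecIso (CommRingCat.of L)
    have hg : g.app U = X.presheaf.germ U (genericPoint ↥X) hgen ≫ (Scheme.ΓSpecIso X.functionField).inv ≫
        (Spec X.functionField).presheaf.map (eqToHom hgt).op := by
      rw [Scheme.fromSpecStalk_app hgen]
      rfl
    have h2 : f.appLE U ⊤ htop.ge ≫ (Scheme.ΓSpecIso (CommRingCat.of L)).hom =
        X.presheaf.germ U (genericPoint ↥X) hgen ≫ φ := by
      change (Spec.map φ ≫ g).appLE U ⊤ _ ≫ _ = _
      rw [Scheme.Hom.comp_appLE, hg]
      simp only [Category.assoc, Scheme.Hom.map_appLE_assoc]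
      rw [show (Spec.map φ).appLE ⊤ ⊤ le_top = (Spec.map φ).appTop from by simp [Scheme.Hom.appLE]]
      rw [← Scheme.ΓSpecIso_inv_naturality_assoc]
      simp
    have hei : f.app U ≫ ei.hom = X.presheaf.germ U (genericPoint ↥X) hgen ≫ φ := by
      rw [← h2]
      simp [ei, Scheme.Hom.app_eq_appLE, Scheme.Hom.appLE_map_assoc]
    let e : Γ(Spec (CommRingCat.of L), f ⁻¹ᵁ U) ≃ₐ[Γ(X, U)] L :=
      AlgEquiv.ofRingEquiv (f := ei.commRingCatIsoToRingEquiv) fun r => congr($(hei).hom r)
    have : IsDomain Γ(X, U) := IsIntegral.component_integral U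
    have : IsNoetherianRing Γ(X, U) := IsLocallyNoetherian.component_noetherian ⟨U, hU⟩
    have : IsIntegrallyClosed Γ(X, U) := (Groth.Agent.S9821.result X).mp hX U hU
    have := IsIntegralClosure.finite Γ(X, U) X.functionField L (integralClosure Γ(X, U) L)
    exact Module.Finite.equiv e.mapIntegralClosure.symm.toLinearEquiv

end Groth.Agent.S18426
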