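import Groth.Statements.S18427
import Groth.Agent.ProperConn.GeomConn

set_option autoImplicit false
universe u
open Models

namespace Groth.Agent.S18427

open CategoryTheory AlgebraicGeometry in
/-- Let R be a discrete valuation ring with fraction field K, C a smooth proper geometrically connected
curve over K, and X a regular proper model of C over R (flat and proper over R, regular, with
generic fibre C). Then the structure morphism X → Spec R has geometrically connected fibres; in
particular the special fibre of X is geometrically connected over the residue field of R. -/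
theorem result (R : Type u) [CommRing R] [IsDomain R]
    [IsDiscreteValuationRing R] (C X : Scheme.{u})
    (f : C ⟶ Spec (CommRingCat.of (FractionRing R))) (p : X ⟶ Spec (CommRingCat.of R))
    (hC : Curve.IsSmoothProperCurve (FractionRing R) C f) [GeometricallyConnected f]
    (hX : Models.IsRegularProperModel R X p C f) :
    GeometricallyConnected p := by
  obtain ⟨⟨hflat, hlft, -, g, hpb⟩, hprop, -⟩ := hX
  haveI := hflat
  haveI := hlft
  haveI := hprop
  haveI : LocallyOfFinitePresentation p := inferInstance
  rw [Groth.Agent.ProperConn.geometricallyConnected_iff_nGeom]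
  have hgen : MoreMor.nGeomConnComp p (⊥ : PrimeSpectrum R) = 1 := by
    have h1 := (Groth.Agent.Wt.GenFib.nGeom_baseChange hpb (⊥ : PrimeSpectrum (FractionRing R))).2
    have h2 := h1.symm.trans ((Groth.Agent.ProperConn.geometricallyConnected_iff_nGeom f).1 inferInstance _)
    refine Eq.trans ?_ h2
    congr 1
    exact PrimeSpectrum.ext (Ideal.comap_bot_of_injective _ (IsFractionRing.injective R (FractionRing R))).symm
  intro y
  have hy : (⊥ : PrimeSpectrum R) ≤ y := bot_le
  have hsp := (PrimeSpectrum.le_iff_specializes (⊥ : PrimeSpectrum R) y).mp hy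
  refine le_antisymm (hgen ▸ Groth.Agent.ProperConn.le_of_specializes p hsp
    fun x _ => Groth.Agent.ProperConn.isUnivOpenAt_of_flat p x) ?_
  obtain ⟨c⟩ : Nonempty C := f.surjective (⊥ : PrimeSpectrum (FractionRing R)) |>.nonempty
  have hη : p (g c) = (⊥ : PrimeSpectrum R) := by
    rw [← Scheme.Hom.comp_apply, hpb.w, Scheme.Hom.comp_apply,
      Subsingleton.elim (α := PrimeSpectrum (FractionRing R)) (f c) ⊥]
    exact PrimeSpectrum.ext (Ideal.comap_bot_of_injective _ (IsFractionRing.injective R (FractionRing R)))
  obtain ⟨x, -, rfl⟩ : y ∈ p '' Set.univ :=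
    (hη ▸ hsp).mem_closed (p.isClosedMap _ isClosed_univ) ⟨g c, trivial, rfl⟩
  exact Groth.Agent.ProperConn.one_le_nGeom p

end Groth.Agent.S18427
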