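import Groth.Statements.S18428
import Mathlib.CategoryTheory.Action.Concrete
import Mathlib.CategoryTheory.Galois.Topology

set_option autoImplicit false
universe u
open scoped FintypeCatDiscrete
open Pi1

namespace Groth.Agent.S18428

open CategoryTheory
open scoped CategoryTheory.PreGaloisCategory

section

variable (G : Type u) [Group G] [TopologicalSpace G]

/-- The object given by a finite set with action all of whose transporters are open. -/
noncomputable def mkObj (α : Type u) [Finite α] [MulAction G α]
    (h : ∀ a b : α, IsOpen {g : G | g • a = b}) : ContAction FintypeCat.{u} G :=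
  letI : Fintype α := Fintype.ofFinite α
  ⟨Action.FintypeCat.ofMulAction G (FintypeCat.of α), ⟨by
    let _ : TopologicalSpace α := ⊥
    have : DiscreteTopology α := ⟨rfl⟩
    exact (continuous_prod_of_discrete_right (f := fun p : G × α => p.1 • p.2)).mpr fun a =>
      continuous_discrete_rng.mpr fun b => h a b⟩⟩

variable {G}

theorem isOpen_transporter (X : ContAction FintypeCat.{u} G) (a b : X.obj.V) :
    IsOpen {g : G | (X.obj.ρ g).hom a = b} := by
  have h := X.property.1
  have h2 : Continuous fun g : G => (X.obj.ρ g).hom a :=
    h.comp (Continuous.prodMk continuous_id (continuous_const (y := a)))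
  exact continuous_discrete_rng.mp h2 b

/-- The canonical homomorphism. -/
noncomputable def iota : G →* Aut (forget₂ (ContAction FintypeCat.{u} G) FintypeCat.{u}) where
  toFun g := NatIso.ofComponents
    (fun X => FintypeCat.equivEquivIso
      { toFun := fun x => (X.obj.ρ g).hom x
        invFun := fun x => (X.obj.ρ g⁻¹).hom x
        left_inv := fun x => by
          change (X.obj.ρ g ≫ X.obj.ρ g⁻¹) x = x
          rw [← End.mul_def, ← map_mul, inv_mul_cancel, map_one]
          rfl
        right_inv := fun x => by
          change (X.obj.ρ g⁻¹ ≫ X.obj.ρ g) x = x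
          rw [← End.mul_def, ← map_mul, mul_inv_cancel, map_one]
          rfl })
    (fun {X Y} f => (f.hom.comm g).symm)
  map_one' := by
    ext X x
    change (X.obj.ρ 1).hom x = x
    rw [map_one]
    rfl
  map_mul' g h := by
    ext X x
    change (X.obj.ρ (g * h)).hom x = (X.obj.ρ g).hom ((X.obj.ρ h).hom x)
    rw [map_mul]
    rfl

theorem exists_eq_on_finset (I : Finset (ContAction FintypeCat.{u} G))
    (σ : Aut (forget₂ (ContAction FintypeCat.{u} G) FintypeCat.{u})) :
    ∃ g : G, ∀ X ∈ I, ∀ x : X.obj.V, σ.hom.app X x = (X.obj.ρ g).hom x := by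
  classical
  let J := Σ X : I, (X : ContAction FintypeCat.{u} G).obj.V
  have hJ : Finite J := Finite.instSigma
  let e := Finite.equivFin J
  let P := ∀ k : Fin (Nat.card J), (e.symm k).1.1.obj.V
  let _ : ∀ k : Fin (Nat.card J), MulAction G (e.symm k).1.1.obj.V :=
    fun k => Action.instMulAction (e.symm k).1.1.obj
  let y : P := fun k => (e.symm k).2
  let α : Type u := MulAction.orbit G y
  let O : ContAction FintypeCat.{u} G := mkObj G α fun a b => by
    have : {g : G | g • a = b} = ⋂ k, {g : G | ((e.symm k).1.1.obj.ρ g).hom (a.1 k) = b.1 k} := by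
      ext g
      simp only [Set.mem_iInter, Set.mem_setOf_eq]
      exact ⟨fun h i => congrFun (congrArg Subtype.val h) i, fun h => Subtype.ext (funext h)⟩
    rw [this]
    exact isOpen_iInter_of_finite fun j => isOpen_transporter _ _ _
  let y0 : O.obj.V := (⟨y, MulAction.mem_orbit_self y⟩ : α)
  obtain ⟨g, hg⟩ := MulAction.mem_orbit_iff.mp (show (σ.hom.app O y0 : α).1 ∈ MulAction.orbit G y from
    (σ.hom.app O y0 : α).2)
  have key : ∀ k, σ.hom.app (e.symm k).1.1 (e.symm k).2 = ((e.symm k).1.1.obj.ρ g).hom (e.symm k).2 := by
    intro k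
    let f : O ⟶ (e.symm k).1.1 := ObjectProperty.homMk
      { hom := FintypeCat.homMk fun a : α => a.1 k
        comm := fun h => rfl }
    have h1 := FunctorToFintypeCat.naturality (forget₂ (ContAction FintypeCat.{u} G) FintypeCat.{u})
      (forget₂ (ContAction FintypeCat.{u} G) FintypeCat.{u}) σ.hom f y0
    refine h1.trans ?_
    change (σ.hom.app O y0 : α).1 k = _
    rw [← hg]
    rfl
  refine ⟨g, fun X hX x => ?_⟩
  have := key (e ⟨⟨X, hX⟩, x⟩)
  generalize hj : e.symm (e ⟨⟨X, hX⟩, x⟩) = j at this
  rw [Equiv.symm_apply_apply] at hj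
  subst hj
  exact this

end


open CategoryTheory in
/-- Let G be a topological group, consider the category of finite sets (with the discrete topology)
equipped with a continuous action of G, and let F be the forgetful functor to finite sets, so that
Aut(F) is a profinite group. Then the homomorphism ι : G → Aut(F) letting g act on every finite
continuous G-set exists and is continuous, has dense image, and every continuous homomorphism from G
to a finite discrete group factors uniquely through ι by a continuous homomorphism on Aut(F). As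
Aut(F) is profinite, these properties say that ι induces an isomorphism of topological groups from
the profinite completion of G (the limit of the quotients G/U by open normal subgroups of finite
index) onto Aut(F). -/
theorem result (G : Type u) [Group G]
    [TopologicalSpace G] [IsTopologicalGroup G] :
    ∃ ι : G →* Aut (forget₂ (ContAction FintypeCat.{u} G) FintypeCat.{u}),
      Continuous ι ∧
      (∀ (g : G) (X : ContAction FintypeCat.{u} G) (x : X.obj.V), (ι g).hom.app X x = (X.obj.ρ g).hom x) ∧
      DenseRange ι ∧
      ∀ (Q : Type u) [Group Q] [Finite Q] [TopologicalSpace Q] [DiscreteTopology Q] (π : G →* Q),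
        Continuous π → ∃! ψ : Aut (forget₂ (ContAction FintypeCat.{u} G) FintypeCat.{u}) →* Q,
          Continuous ψ ∧ ψ.comp ι = π := by
  let F := forget₂ (ContAction FintypeCat.{u} G) FintypeCat.{u}
  refine ⟨iota, ?_, fun g X x => rfl, ?_, fun Q _ _ _ _ π hπ => ?_⟩
  · refine continuous_induced_rng.mpr (continuous_pi fun X => continuous_discrete_rng.mpr fun e => ?_)
    have : (fun g : G => PreGaloisCategory.autEmbedding F (iota g) X) ⁻¹' {e} =
        ⋂ x : X.obj.V, {g : G | (X.obj.ρ g).hom x = e.hom x} := by
      ext g
      simp only [Set.mem_preimage, Set.mem_singleton_iff, Set.mem_iInter, Set.mem_setOf_eq]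
      refine ⟨fun h x => ?_, fun h => ?_⟩
      · rw [← h]; rfl
      · exact Iso.ext (FintypeCat.hom_ext _ _ h)
    change IsOpen ((fun g : G => PreGaloisCategory.autEmbedding F (iota g) X) ⁻¹' {e})
    rw [this]
    exact isOpen_iInter_of_finite fun x => isOpen_transporter _ _ _
  · refine dense_iff_inter_open.mpr fun U hU ⟨σ, hσ⟩ => ?_
    obtain ⟨W, hW, rfl⟩ := isOpen_induced_iff.mp hU
    obtain ⟨I, V, hV, hsub⟩ := isOpen_pi_iff.mp hW _ hσ
    obtain ⟨g, hg⟩ := exists_eq_on_finset I σ
    refine ⟨iota g, hsub fun X hX => ?_, g, rfl⟩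
    rw [show PreGaloisCategory.autEmbedding F (iota g) X = PreGaloisCategory.autEmbedding F σ X from
      Iso.ext (FintypeCat.hom_ext _ _ fun x => (hg X hX x).symm)]
    exact (hV X hX).2
  · let act : MulAction G Q := MulAction.compHom Q π
    let O : ContAction FintypeCat.{u} G := mkObj G Q fun a b => by
      exact continuous_discrete_rng.mp ((continuous_mul_const a).comp hπ) b
    let ev : Aut F → Q := fun σ => σ.hom.app O (1 : Q)
    have key : ∀ (σ : Aut F) (q : Q), σ.hom.app O q = (ev σ * q : Q) := by
      intro σ q
      let r : O ⟶ O := ObjectProperty.homMk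
        { hom := FintypeCat.homMk fun a : Q => (a * q : Q)
          comm := fun h => FintypeCat.hom_ext _ _ fun a => mul_assoc (π h) (show Q from a) q }
      have h1 := FunctorToFintypeCat.naturality F F σ.hom r (1 : Q)
      refine Eq.trans ?_ h1
      exact congrArg (σ.hom.app O) (one_mul q).symm
    let ψ : Aut F →* Q := MonoidHom.mk' ev fun σ τ => key σ (ev τ)
    have hψ : Continuous ψ := by
      have h1 : Continuous fun σ : Aut F => PreGaloisCategory.autEmbedding F σ O :=
        (continuous_apply O).comp continuous_induced_dom
      exact (continuous_of_discreteTopology : Continuous (fun e : Aut (F.obj O) => (show Q from e.hom (1 : Q)))).comp h1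
    have hψι : ψ.comp iota = π := MonoidHom.ext fun g => mul_one (π g)
    refine ⟨ψ, ⟨hψ, hψι⟩, fun ψ' ⟨hc, he⟩ => ?_⟩
    have hd : DenseRange (iota : G → Aut F) := by
      refine dense_iff_inter_open.mpr fun U hU ⟨σ, hσ⟩ => ?_
      obtain ⟨W, hW, rfl⟩ := isOpen_induced_iff.mp hU
      obtain ⟨I, V, hV, hsub⟩ := isOpen_pi_iff.mp hW _ hσ
      obtain ⟨g, hg⟩ := exists_eq_on_finset I σ
      refine ⟨iota g, hsub fun X hX => ?_, g, rfl⟩
      rw [show PreGaloisCategory.autEmbedding F (iota g) X = PreGaloisCategory.autEmbedding F σ X from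
        Iso.ext (FintypeCat.hom_ext _ _ fun x => (hg X hX x).symm)]
      exact (hV X hX).2
    exact DFunLike.coe_injective (hd.equalizer hc hψ (funext fun g => DFunLike.congr_fun (he.trans hψι.symm) g))

end Groth.Agent.S18428
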