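import Groth.Statements.S18429
import Mathlib.Tactic.LinearCombination
-- import your own Groth.Agent.* helpers here

set_option autoImplicit false
universe u
open SpinCurv

namespace Groth.Agent.S18429

/-- Let n ≥ 1 and r ≥ 2 be integers and let e_0, …, e_{nr} be integers with e_0 = e_{nr} = 0 (the
coefficients of a chain of nr - 1 exceptional curves joining two non-exceptional components with
coefficient zero) such that at every interior index 1 ≤ j ≤ nr - 1 the second difference e_{j-1} - 2
e_j + e_{j+1} (the degree of the divisor Σ e_i E_i on the j-th curve of the chain) is divisible by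
r. Then there are integers e'_0, …, e'_{nr}, with e'_j ≡ e_j modulo r for every interior j, with
e'_0 = e'_{nr} = 0 and every e'_j ≤ 0, whose second differences at the interior indices are each 0
or r, and are nonzero at no two distinct interior indices. -/
theorem result (n r : ℕ) (hn : 1 ≤ n) (hr : 2 ≤ r)
    (e : ℕ → ℤ) (he0 : e 0 = 0) (henr : e (n * r) = 0)
    (hdiv : ∀ j : ℕ, 1 ≤ j → j < n * r → (r : ℤ) ∣ e (j - 1) - 2 * e j + e (j + 1)) :
    ∃ e' : ℕ → ℤ, e' 0 = 0 ∧ e' (n * r) = 0 ∧
      (∀ j : ℕ, 1 ≤ j → j < n * r → (r : ℤ) ∣ e' j - e j) ∧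
      (∀ j : ℕ, j ≤ n * r → e' j ≤ 0) ∧
      (∀ j : ℕ, 1 ≤ j → j < n * r →
        (e' (j - 1) - 2 * e' j + e' (j + 1) = 0 ∨ e' (j - 1) - 2 * e' j + e' (j + 1) = r)) ∧
      (∀ j j' : ℕ, 1 ≤ j → j < n * r → 1 ≤ j' → j' < n * r →
        e' (j - 1) - 2 * e' j + e' (j + 1) ≠ 0 → e' (j' - 1) - 2 * e' j' + e' (j' + 1) ≠ 0 → j = j') := by
  have key : ∀ j : ℕ, j < n * r → (r : ℤ) ∣ (e j - j * e 1) ∧ (r : ℤ) ∣ (e (j + 1) - (j + 1) * e 1) := by
    intro j
    induction j with
    | zero => intro _; simp [he0]
    | succ j ih =>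
      intro hj
      obtain ⟨h1, h2⟩ := ih (by omega)
      refine ⟨by simpa using h2, ?_⟩
      have h3 := hdiv (j + 1) (by omega) hj
      rw [Nat.add_sub_cancel] at h3
      have := (h3.add (dvd_mul_of_dvd_right h2 2)).sub h1
      refine this.trans (dvd_of_eq ?_)
      push_cast
      ring
  set c : ℤ := (-e 1) % r with hc
  have hr0 : (0 : ℤ) < r := by omega
  have hc0 : 0 ≤ c := Int.emod_nonneg _ hr0.ne'
  have hcr : c < r := Int.emod_lt_of_pos _ hr0
  have hce : (r : ℤ) ∣ c + e 1 := by
    have := Int.dvd_emod_sub_self (x := -e 1) (m := (r : ℤ))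
    simpa [hc] using this
  set K : ℤ := n * r - n * c with hK
  have hN : ((n * r : ℕ) : ℤ) = n * r := by push_cast; ring
  refine ⟨fun j => if (j : ℤ) ≤ K then -c * j else (r - c) * (j - n * r), ?_, ?_, ?_, ?_, ?_, ?_⟩
  · have : (0 : ℤ) ≤ K := by nlinarith
    simp [this]
  · simp only [hN]
    split <;> nlinarith
  · intro j h1 h2
    have h := (key j h2).1
    have hj : (r : ℤ) ∣ (j : ℤ) * (c + e 1) := dvd_mul_of_dvd_right hce _
    dsimp only
    split
    · have := (hj.add h).neg_right
      refine this.trans (dvd_of_eq ?_)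
      ring
    · have := ((hj.add h).neg_right).add (Dvd.intro ((j : ℤ) + c * n - r * n) rfl)
      refine this.trans (dvd_of_eq ?_)
      ring
  · intro j hj
    have hjz : (j : ℤ) ≤ n * r := by exact_mod_cast hj
    dsimp only
    split <;> nlinarith
  · intro j h1 h2
    obtain ⟨i, rfl⟩ : ∃ i, j = i + 1 := ⟨j - 1, by omega⟩
    simp only [Nat.add_sub_cancel, Nat.cast_add, Nat.cast_one]
    rcases lt_trichotomy ((i : ℤ) + 1) K with h | h | h
    · left
      rw [if_pos (by omega), if_pos (by omega), if_pos (by omega)]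
      ring
    · right
      rw [if_pos (by omega), if_pos (by omega), if_neg (by omega)]
      rw [hK] at h
      linear_combination (r : ℤ) * h
    · left
      rcases eq_or_lt_of_le (show K ≤ i by omega) with h' | h'
      · rw [if_pos (by omega), if_neg (by omega), if_neg (by omega)]
        rw [hK] at h'
        linear_combination (r : ℤ) * h'
      · rw [if_neg (by omega), if_neg (by omega), if_neg (by omega)]
        ring
  · intro j j' h1 h2 h1' h2' hne hne'
    have huniq : ∀ j : ℕ, 1 ≤ j → j < n * r →
        ((fun j : ℕ => if (j : ℤ) ≤ K then -c * j else (r - c) * (j - n * r)) (j - 1) -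
          2 * (fun j : ℕ => if (j : ℤ) ≤ K then -c * j else (r - c) * (j - n * r)) j +
          (fun j : ℕ => if (j : ℤ) ≤ K then -c * j else (r - c) * (j - n * r)) (j + 1) ≠ 0) → (j : ℤ) = K := by
      intro j h1 h2 hne
      obtain ⟨i, rfl⟩ : ∃ i, j = i + 1 := ⟨j - 1, by omega⟩
      simp only [Nat.add_sub_cancel, Nat.cast_add, Nat.cast_one] at hne ⊢
      by_contra hK'
      apply hne
      rcases lt_or_gt_of_ne hK' with h | h
      · rw [if_pos (by omega), if_pos (by omega), if_pos (by omega)]
        ring
      · rcases eq_or_lt_of_le (show K ≤ i by omega) with h' | h'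
        · rw [if_pos (by omega), if_neg (by omega), if_neg (by omega)]
          rw [hK] at h'
          linear_combination (r : ℤ) * h'
        · rw [if_neg (by omega), if_neg (by omega), if_neg (by omega)]
          ring
    exact_mod_cast (huniq j h1 h2 hne).trans (huniq j' h1' h2' hne').symm

end Groth.Agent.S18429
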