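import Groth.Statements.S18431
import Mathlib.Algebra.Ring.GeomSum
import Mathlib.RingTheory.LocalRing.ResidueField.Basic
import Mathlib.Tactic.LinearCombination
-- import your own Groth.Agent.* helpers here

set_option autoImplicit false
universe u
open SpinCurv

namespace Groth.Agent.S18431

/-- Let R be a Noetherian local ring in which the natural number r is invertible and let ξ, ζ ∈ R
satisfy ξ^r = 1 and ζ^r = 1. Then either ξ = ζ, or ξ - ζ is a unit of R. (Consequently an element of
R annihilated by ξ - ζ is zero unless ξ = ζ. In the published setting R is moreover complete; the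
step does not use completeness.) -/
theorem result (R : Type u) [CommRing R] [IsNoetherianRing R] [IsLocalRing R]
    (r : ℕ) (hr : IsUnit (r : R)) (ξ ζ : R) (hξ : ξ ^ r = 1) (hζ : ζ ^ r = 1) :
    ξ = ζ ∨ IsUnit (ξ - ζ) := by
  by_contra h
  push_neg at h
  obtain ⟨hne, hu⟩ := h
  have hmem : ξ - ζ ∈ IsLocalRing.maximalIdeal R := hu
  have hr0 : r ≠ 0 := by
    rintro rfl
    rw [Nat.cast_zero] at hr
    exact not_isUnit_zero hr
  have hξu : IsUnit ξ := IsUnit.of_pow_eq_one hξ hr0
  have hg := geom_sum₂_mul ξ ζ r
  rw [hξ, hζ, sub_self] at hg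
  have hs : IsUnit (∑ i ∈ Finset.range r, ξ ^ i * ζ ^ (r - 1 - i)) := by
    refine isUnit_of_map_unit (IsLocalRing.residue R) _ ?_
    have he : IsLocalRing.residue R ζ = IsLocalRing.residue R ξ :=
      (Ideal.Quotient.eq.2 hmem).symm
    simp only [map_sum, map_mul, map_pow, he, geom_sum₂_self]
    rw [← map_natCast (IsLocalRing.residue R), ← map_pow, ← map_mul]
    exact ((hr.mul (hξu.pow _)).map _)
  exact hne (sub_eq_zero.1 (hs.mul_right_eq_zero.1 hg))

end Groth.Agent.S18431
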