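import Groth.Statements.S18433
import Groth.Agent.SpinCurvLib.NodeNormal

set_option autoImplicit false
universe u
open SpinCurv

namespace Groth.Agent.S18433

/-- Let R be a complete Noetherian local ring, p, q elements of its maximal ideal, A = R[[x, y]]/(xy -
pq), and α(p, q) the endomorphism (a, b) ↦ (x a + p b, q a + y b) of A². Restrict α(p, q) to pairs
(f, g) with f a power series in x alone and g a power series in y alone: the resulting map R[[x]] ×
R[[y]] → A², (f, g) ↦ (x f + p g, q f + y g), is injective and has the same image as α(p, q). Thus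
the image E(p, q) of α(p, q) is identified, R-linearly, with R[[x]] ⊕ R[[y]]. -/
theorem result (R : Type u) [CommRing R] [IsNoetherianRing R] [IsLocalRing R]
    [IsAdicComplete (IsLocalRing.maximalIdeal R) R]
    (p q : R) (hp : p ∈ IsLocalRing.maximalIdeal R) (hq : q ∈ IsLocalRing.maximalIdeal R) :
    Function.Injective (fun fg : PowerSeries R × PowerSeries R =>
        Matrix.mulVec (SpinCurv.nodeAlpha R p q)
          ![SpinCurv.NodeRing.ofX R (p * q) fg.1, SpinCurv.NodeRing.ofY R (p * q) fg.2]) ∧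
    Set.range (fun fg : PowerSeries R × PowerSeries R =>
        Matrix.mulVec (SpinCurv.nodeAlpha R p q)
          ![SpinCurv.NodeRing.ofX R (p * q) fg.1, SpinCurv.NodeRing.ofY R (p * q) fg.2]) =
      Set.range (Matrix.mulVec (SpinCurv.nodeAlpha R p q)) := by
  have hπ : p * q ∈ IsLocalRing.maximalIdeal R := Ideal.mul_mem_right q _ hp
  refine ⟨fun a b h => ?_, Set.Subset.antisymm ?_ ?_⟩
  · have e : Matrix.mulVec (SpinCurv.nodeAlpha R p q)
        ![SpinCurv.NodeRing.ofX R (p * q) (a.1 - b.1), SpinCurv.NodeRing.ofY R (p * q) (a.2 - b.2)] = 0 := by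
      have hx : SpinCurv.NodeRing.ofX R (p * q) (a.1 - b.1) =
          SpinCurv.NodeRing.ofX R (p * q) a.1 - SpinCurv.NodeRing.ofX R (p * q) b.1 := by
        simp only [SpinCurv.NodeRing.ofX]
        rw [map_sub (PowerSeries.toMvPowerSeries (σ := Fin 2) 0), map_sub (Ideal.Quotient.mk _)]
      have hy : SpinCurv.NodeRing.ofY R (p * q) (a.2 - b.2) =
          SpinCurv.NodeRing.ofY R (p * q) a.2 - SpinCurv.NodeRing.ofY R (p * q) b.2 := by
        simp only [SpinCurv.NodeRing.ofY]
        rw [map_sub (PowerSeries.toMvPowerSeries (σ := Fin 2) 1), map_sub (Ideal.Quotient.mk _)]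
      rw [show ![SpinCurv.NodeRing.ofX R (p * q) (a.1 - b.1), SpinCurv.NodeRing.ofY R (p * q) (a.2 - b.2)] =
          ![SpinCurv.NodeRing.ofX R (p * q) a.1, SpinCurv.NodeRing.ofY R (p * q) a.2] -
            ![SpinCurv.NodeRing.ofX R (p * q) b.1, SpinCurv.NodeRing.ofY R (p * q) b.2] by
        funext i; fin_cases i <;> simp [hx, hy], Matrix.mulVec_sub]
      exact sub_eq_zero.2 h
    obtain ⟨h1, h2⟩ := Groth.Agent.SpinCurvLib.NodeNormal.eq_zero_of_mulVec p q hπ e
    exact Prod.ext (sub_eq_zero.1 h1) (sub_eq_zero.1 h2)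
  · rintro _ ⟨fg, rfl⟩
    exact ⟨_, rfl⟩
  · rintro _ ⟨v, rfl⟩
    obtain ⟨f, g, hfg⟩ := Groth.Agent.SpinCurvLib.NodeNormal.exists_pure p q hπ v
    have h0 := Groth.Agent.SpinCurvLib.NodeNormal.mulVec_span_eq_zero p q _ hfg
    rw [Matrix.mulVec_sub, sub_eq_zero] at h0
    exact ⟨(f, g), h0.symm⟩

end Groth.Agent.S18433
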