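import Groth.Statements.S18434
import Mathlib.RingTheory.MvPowerSeries.Basic
import Mathlib.RingTheory.Ideal.Quotient.Operations
import Mathlib.LinearAlgebra.Dimension.Constructions
-- import your own Groth.Agent.* helpers here

set_option autoImplicit false
universe u
open SpinCurv

namespace Groth.Agent.S18434

/-- Let k be a field, u, v ≥ 1 integers and w ∈ k nonzero. In the ring A = k[[x, y]]/(xy), the quotient
A/(x^u, w y^v) has dimension u + v - 1 over k (a basis is 1, x, …, x^{u-1}, y, …, y^{v-1}); this is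
the length of the cokernel at the node of a map whose image is generated by x^u and w y^v. -/
theorem result (k : Type u) [Field k] (u v : ℕ) (hu : 1 ≤ u) (hv : 1 ≤ v)
    (w : k) (hw : w ≠ 0) :
    Module.finrank k (SpinCurv.NodeRing k 0 ⧸
      Ideal.span {SpinCurv.NodeRing.x k 0 ^ u, algebraMap k (SpinCurv.NodeRing k 0) w * SpinCurv.NodeRing.y k 0 ^ v}) =
      u + v - 1 := by
  classical
  let J : Set (Fin 2 →₀ ℕ) := {m | (m 1 = 0 ∧ m 0 < u) ∨ (m 0 = 0 ∧ m 1 < v)}
  let idx : Fin (u + v - 1) → (Fin 2 →₀ ℕ) := fun i =>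
    if (i : ℕ) < u then Finsupp.single 0 (i : ℕ) else Finsupp.single 1 ((i : ℕ) - u + 1)
  have hidx : ∀ i, idx i ∈ J := fun i => by
    have := i.isLt
    by_cases h : (i : ℕ) < u
    · left; simp [idx, h]
    · right; simp [idx, h]; omega
  have hinj : Function.Injective idx := fun i j h => by
    have h0 := DFunLike.congr_fun h 0
    have h1 := DFunLike.congr_fun h 1
    by_cases hi : (i : ℕ) < u <;> by_cases hj : (j : ℕ) < u <;> simp [idx, hi, hj] at h0 h1 <;> ext <;> omega
  have hsur : ∀ m ∈ J, ∃ i, idx i = m := fun m hm => by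
    by_cases h1 : m 1 = 0
    · have hlt : m 0 < u := by rcases hm with h | h <;> omega
      refine ⟨⟨m 0, by omega⟩, Finsupp.ext fun i => ?_⟩
      fin_cases i <;> simp [idx, hlt, h1]
    · have hm2 : m 0 = 0 ∧ m 1 < v := hm.resolve_left fun h => h1 h.1
      refine ⟨⟨u + (m 1 - 1), by omega⟩, Finsupp.ext fun i => ?_⟩
      fin_cases i <;> simp [idx, hm2.1] <;> omega
  let Φ : MvPowerSeries (Fin 2) k →ₗ[k] (Fin (u + v - 1) → k) := LinearMap.pi fun i => MvPowerSeries.coeff (idx i)
  have hΦ : Function.Surjective Φ := fun c => by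
    refine ⟨fun m => if h : ∃ i, idx i = m then c h.choose else 0, funext fun i => ?_⟩
    show (if h : ∃ j, idx j = idx i then c h.choose else 0) = c i
    rw [dif_pos ⟨i, rfl⟩]
    exact congrArg c (hinj (Exists.choose_spec (⟨i, rfl⟩ : ∃ j, idx j = idx i)))
  let X0 : MvPowerSeries (Fin 2) k := MvPowerSeries.X 0
  let X1 : MvPowerSeries (Fin 2) k := MvPowerSeries.X 1
  let Q : Ideal (MvPowerSeries (Fin 2) k) := Ideal.span {X0 * X1 - MvPowerSeries.C 0}
  let I : Ideal (MvPowerSeries (Fin 2) k) := Ideal.span {X0 * X1, X0 ^ u, X1 ^ v}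
  have hker : ∀ f, Φ f = 0 → f ∈ I := fun f hf => by
    have hJ : ∀ m ∈ J, MvPowerSeries.coeff m f = 0 := fun m hm => by
      obtain ⟨i, rfl⟩ := hsur m hm
      exact congrFun hf i
    let f₁ : MvPowerSeries (Fin 2) k := fun m => if 1 ≤ m 0 ∧ 1 ≤ m 1 then f m else 0
    let f₂ : MvPowerSeries (Fin 2) k := fun m => if m 1 = 0 ∧ u ≤ m 0 then f m else 0
    let f₃ : MvPowerSeries (Fin 2) k := fun m => if m 0 = 0 ∧ v ≤ m 1 then f m else 0
    have hsum : f = f₁ + f₂ + f₃ := by
      funext m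
      show f m = (if _ then _ else _) + (if _ then _ else _) + (if _ then _ else _)
      by_cases hm : m ∈ J
      · have h0 : f m = 0 := hJ m hm
        rw [h0]; simp
      · have hm' : ¬((m 1 = 0 ∧ m 0 < u) ∨ (m 0 = 0 ∧ m 1 < v)) := hm
        split_ifs <;> first | (exfalso; omega) | simp
    have h₂ : X0 ^ u ∣ f₂ := MvPowerSeries.X_pow_dvd_iff.2 fun m hm => by
      show (if _ then _ else _) = _
      rw [if_neg (by omega)]
    have h₃ : X1 ^ v ∣ f₃ := MvPowerSeries.X_pow_dvd_iff.2 fun m hm => by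
      show (if _ then _ else _) = _
      rw [if_neg (by omega)]
    obtain ⟨g, hg⟩ : X0 ∣ f₁ := MvPowerSeries.X_dvd_iff.2 fun m hm => by
      show (if _ then _ else _) = _
      rw [if_neg (by omega)]
    have hg1 : X1 ∣ g := MvPowerSeries.X_dvd_iff.2 fun m hm => by
      have h := congrArg (MvPowerSeries.coeff (Finsupp.single 0 1 + m)) hg
      change (if _ then _ else _) = MvPowerSeries.coeff (Finsupp.single 0 1 + m) (MvPowerSeries.X 0 * g) at h
      rw [if_neg (by simp [hm]), MvPowerSeries.X, MvPowerSeries.coeff_add_monomial_mul, one_mul] at h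
      exact h.symm
    obtain ⟨g', rfl⟩ := hg1
    rw [hsum, hg, ← mul_assoc]
    refine add_mem (add_mem ?_ ?_) ?_
    · exact Ideal.mul_mem_right _ _ (Ideal.subset_span (by simp))
    · exact Ideal.mem_of_dvd _ h₂ (Ideal.subset_span (by simp))
    · exact Ideal.mem_of_dvd _ h₃ (Ideal.subset_span (by simp))
  have hI : ∀ f ∈ I, Φ f = 0 := fun f hf => by
    have key : ∀ (d : Fin 2 →₀ ℕ) (g : MvPowerSeries (Fin 2) k), (∀ i, ¬ d ≤ idx i) →
        Φ (MvPowerSeries.monomial d 1 * g) = 0 := fun d g hd => funext fun i => by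
      show MvPowerSeries.coeff (idx i) (MvPowerSeries.monomial d 1 * g) = 0
      rw [MvPowerSeries.coeff_monomial_mul, if_neg (hd i)]
    obtain ⟨a, z, hz, rfl⟩ := Ideal.mem_span_insert.1 hf
    obtain ⟨b, c, rfl⟩ := Ideal.mem_span_pair.1 hz
    rw [map_add, map_add, mul_comm a, mul_comm b, mul_comm c]
    have e1 : X0 * X1 = MvPowerSeries.monomial (Finsupp.single 0 1 + Finsupp.single 1 1) 1 := by
      simp [X0, X1, MvPowerSeries.X, MvPowerSeries.monomial_mul_monomial]
    rw [e1, MvPowerSeries.X_pow_eq, MvPowerSeries.X_pow_eq, key, key, key, add_zero, add_zero]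
    · intro i h
      have h1 : v ≤ idx i 1 := by simpa using h 1
      rcases hidx i with h2 | h2 <;> omega
    · intro i h
      have h1 : u ≤ idx i 0 := by simpa using h 0
      rcases hidx i with h2 | h2 <;> omega
    · intro i h
      have h1 : 1 ≤ idx i 0 := by simpa using h 0
      have h3 : 1 ≤ idx i 1 := by simpa using h 1
      rcases hidx i with h2 | h2 <;> omega
  have hQI : Q ≤ I := by
    rw [Ideal.span_le, Set.singleton_subset_iff, map_zero, sub_zero]
    exact Ideal.subset_span (by simp)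
  let mkQ := Ideal.Quotient.mkₐ k Q
  let T : Ideal (SpinCurv.NodeRing k 0) := Ideal.span {SpinCurv.NodeRing.x k 0 ^ u,
    algebraMap k (SpinCurv.NodeRing k 0) w * SpinCurv.NodeRing.y k 0 ^ v}
  let π : MvPowerSeries (Fin 2) k →ₐ[k] SpinCurv.NodeRing k 0 ⧸ T := (Ideal.Quotient.mkₐ k T).comp mkQ
  have hπ : ∀ f, π f = 0 ↔ f ∈ I := fun f => by
    show Ideal.Quotient.mk T (Ideal.Quotient.mk Q f) = 0 ↔ _
    rw [Ideal.Quotient.eq_zero_iff_mem]
    have hT : T = I.map (Ideal.Quotient.mk Q) := by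
      have hu : IsUnit (algebraMap k (SpinCurv.NodeRing k 0) w) := (IsUnit.mk0 w hw).map _
      have hxy : Ideal.Quotient.mk Q (X0 * X1) = 0 :=
        Ideal.Quotient.eq_zero_iff_mem.2 (Ideal.subset_span (by simp))
      refine le_antisymm (Ideal.span_le.2 ?_) ?_
      · rintro z (rfl | rfl)
        · exact (map_pow (Ideal.Quotient.mk Q) X0 u) ▸ Ideal.mem_map_of_mem _ (Ideal.subset_span (by simp))
        · exact Ideal.mul_mem_left _ _ ((map_pow (Ideal.Quotient.mk Q) X1 v) ▸ Ideal.mem_map_of_mem _ (Ideal.subset_span (by simp)))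
      · rw [Ideal.map_span, Ideal.span_le]
        rintro z ⟨y, (rfl | rfl | rfl), rfl⟩
        · rw [hxy]; exact zero_mem T
        · rw [map_pow]; exact Ideal.subset_span (Or.inl rfl)
        · rw [map_pow]; exact (Ideal.unit_mul_mem_iff_mem T hu).1 (Ideal.subset_span (Or.inr rfl))
    rw [hT, ← Ideal.mem_comap, Ideal.comap_map_of_surjective _ Ideal.Quotient.mk_surjective, ← RingHom.ker_eq_comap_bot,
      Ideal.mk_ker, sup_eq_left.2 hQI]
  have hπs : Function.Surjective π.toLinearMap :=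
    (Ideal.Quotient.mkₐ_surjective k T).comp (Ideal.Quotient.mkₐ_surjective k Q)
  have hk : LinearMap.ker π.toLinearMap = LinearMap.ker Φ := by
    ext f
    exact ⟨fun h => hI f ((hπ f).1 h), fun h => (hπ f).2 (hker f h)⟩
  have e := ((π.toLinearMap.quotKerEquivOfSurjective hπs).symm.trans
    ((Submodule.quotEquivOfEq _ _ hk).trans (Φ.quotKerEquivOfSurjective hΦ))).finrank_eq
  rw [Module.finrank_fin_fun] at e
  exact e

end Groth.Agent.S18434
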