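import Groth.Statements.S18435
import Groth.Agent.SpinCurvLib.Twist
-- import your own Groth.Agent.* helpers here

set_option autoImplicit false
universe u
open SpinCurv

namespace Groth.Agent.S18435

/-- Let k be a field and A = k[x, y]/(xy) the node, with the two affine charts U = Spec k[s, y]/(sy) and
V = Spec k[t, x]/(tx) of the curve obtained by the (p, q)-construction with p = q = 0, glued along
k[s, s⁻¹] by t = s⁻¹ (y ↦ 0 from U, x ↦ 0 from V), and with A → O(U) given by x ↦ 0, y ↦ y and A →
O(V) by x ↦ x, y ↦ 0. A global section of O(1) is a pair (g, f) with g = s f on U ∩ V. If such a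
pair is annihilated by both x and y (acting through the two restriction maps), then g = 0 and f = 0;
so the module of global sections of O(1) has no nonzero element killed by the maximal ideal (x, y),
i.e. its direct image on the node is torsion-free there. All three coordinate rings are written as
the quotient of the polynomial ring in two variables by the product of the variables, and the four
restriction homomorphisms are k-algebra maps pinned by their values on generators. (The published
proof reduces the torsion-freeness of the direct image of O(1), for general R, p, q, to exactly this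
case of a field with p = q = 0.) -/
theorem result (k : Type u) [Field k]
    (rU : SpinCurv.PolyNodeRing k 0 →ₐ[k] SpinCurv.PolyNodeRing k 0)
    (hrUx : rU (SpinCurv.PolyNodeRing.x k 0) = 0)
    (hrUy : rU (SpinCurv.PolyNodeRing.y k 0) = SpinCurv.PolyNodeRing.y k 0)
    (rV : SpinCurv.PolyNodeRing k 0 →ₐ[k] SpinCurv.PolyNodeRing k 0)
    (hrVx : rV (SpinCurv.PolyNodeRing.x k 0) = SpinCurv.PolyNodeRing.y k 0)
    (hrVy : rV (SpinCurv.PolyNodeRing.y k 0) = 0)
    (gU : SpinCurv.PolyNodeRing k 0 →ₐ[k] LaurentPolynomial k)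
    (hgUs : gU (SpinCurv.PolyNodeRing.x k 0) = LaurentPolynomial.T 1)
    (hgUy : gU (SpinCurv.PolyNodeRing.y k 0) = 0)
    (gV : SpinCurv.PolyNodeRing k 0 →ₐ[k] LaurentPolynomial k)
    (hgVt : gV (SpinCurv.PolyNodeRing.x k 0) = LaurentPolynomial.T (-1))
    (hgVx : gV (SpinCurv.PolyNodeRing.y k 0) = 0)
    (g f : SpinCurv.PolyNodeRing k 0) (hsec : gU g = LaurentPolynomial.T 1 * gV f)
    (hx : rU (SpinCurv.PolyNodeRing.x k 0) * g = 0 ∧ rV (SpinCurv.PolyNodeRing.x k 0) * f = 0)
    (hy : rU (SpinCurv.PolyNodeRing.y k 0) * g = 0 ∧ rV (SpinCurv.PolyNodeRing.y k 0) * f = 0) :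
    g = 0 ∧ f = 0 := by
  have hU : gU (SpinCurv.PolyNodeRing.y k 0) = LaurentPolynomial.C (0 : k) * LaurentPolynomial.T (-1) := by
    simpa using hgUy
  have hV : gV (SpinCurv.PolyNodeRing.y k 0) = LaurentPolynomial.C (0 : k) * LaurentPolynomial.T 1 := by
    simpa using hgVx
  obtain ⟨h, hh⟩ := (Groth.Agent.SpinCurvLib.eq_iff_exists_psi hgUs hU hgVt hV (by norm_num) g f).1 hsec
  obtain ⟨rfl, rfl⟩ := Prod.ext_iff.1 hh
  suffices h = 0 by simp [this]
  have hym : ∀ (z : SpinCurv.PolyNodeRing k 0), SpinCurv.PolyNodeRing.y k 0 * z = 0 →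
      ∀ m : ℤ, m ≤ 0 → Groth.Agent.SpinCurvLib.nf k 0 z m = 0 := fun z hz m hm => by
    have key : (Finsupp.lapply (m - 1)).comp
        ((Groth.Agent.SpinCurvLib.nf k 0).comp (LinearMap.mulLeft k (SpinCurv.PolyNodeRing.y k 0))) =
        (Finsupp.lapply m).comp (Groth.Agent.SpinCurvLib.nf k 0) := by
      refine Groth.Agent.SpinCurvLib.linearMap_ext k 0 fun j => ?_
      show Groth.Agent.SpinCurvLib.nf k 0 (_ * _) (m - 1) = Groth.Agent.SpinCurvLib.nf k 0 _ m
      rw [Groth.Agent.SpinCurvLib.nf_mono, Groth.Agent.SpinCurvLib.mono, mul_left_comm, ← pow_succ',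
        Groth.Agent.SpinCurvLib.pow_mul_pow, map_smul, Groth.Agent.SpinCurvLib.nf_mono, Finsupp.smul_single,
        smul_eq_mul, mul_one]
      rcases le_or_gt j 0 with hj | hj
      · rw [show min j.toNat ((-j).toNat + 1) = 0 by omega, pow_zero,
          show ((j.toNat : ℤ) - ↑((-j).toNat + 1)) = j - 1 by omega]
        simp [Finsupp.single_apply]
      · rw [show min j.toNat ((-j).toNat + 1) = 1 by omega, pow_one, Finsupp.single_zero, Finsupp.zero_apply,
          Finsupp.single_apply, if_neg (by omega)]
    have := LinearMap.congr_fun key z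
    simp only [LinearMap.comp_apply, LinearMap.mulLeft_apply, hz, map_zero] at this
    exact this.symm
  ext m
  rw [Finsupp.zero_apply]
  by_cases hm : 0 ≤ m
  · rcases eq_or_lt_of_le hm with rfl | hm'
    · have h0 := hy.1
      rw [hrUy] at h0
      have := hym _ h0 0 le_rfl
      rw [(Groth.Agent.SpinCurvLib.psi_coeff 0 0 1 h 0).1, if_pos hm,
        Groth.Agent.SpinCurvLib.wt_nonneg k 0 (by norm_num), one_mul] at this
      exact this
    · have h0 := hx.2
      rw [hrVx] at h0
      have := hym _ h0 (1 - m) (by omega)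
      rw [(Groth.Agent.SpinCurvLib.psi_coeff 0 0 1 h m).2, if_pos hm, one_mul] at this
      exact this
  · have h0 := hy.1
    rw [hrUy] at h0
    have := hym _ h0 m (by omega)
    rw [(Groth.Agent.SpinCurvLib.psi_coeff 0 0 1 h m).1, if_neg hm, one_mul] at this
    exact this

end Groth.Agent.S18435
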