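import Groth.Statements.S18436
import Groth.Agent.SpinCurvLib.Twist
-- import your own Groth.Agent.* helpers here

set_option autoImplicit false
universe u
open SpinCurv

namespace Groth.Agent.S18436

/-- Let R be a commutative ring and p, q ∈ R, and consider the two affine charts U = Spec R[s, y]/(sy -
q) and V = Spec R[t, x]/(xt - p) of the curve obtained from the node xy = pq by the (p,
q)-construction, glued along R[s, s⁻¹] by t = s⁻¹ (so y = q s⁻¹ on U and x = p s on V). For an
integer n ≥ -1 the global sections of the twisting sheaf O(n) (equal to vⁿ O on U and to ξⁿ O on V,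
ξ = s v) are the pairs (g, f) of functions on U and V with g = sⁿ f on U ∩ V. This R-module, written
as the kernel of the R-linear map (g, f) ↦ g|_{U ∩ V} - sⁿ · f|_{U ∩ V} into R[s, s⁻¹], is free over
R (hence the direct image of O(n) on the node is flat over R). Both chart rings are written as the
quotient of the polynomial ring in two variables by (first variable)·(second variable) - constant,
and the two restriction homomorphisms to R[s, s⁻¹] are R-algebra maps pinned by their values on
generators. (The published setting has R complete local and p, q in the maximal ideal; the printed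
computation uses neither.) -/
theorem result (R : Type u) [CommRing R] (p q : R)
    (gU : SpinCurv.PolyNodeRing R q →ₐ[R] LaurentPolynomial R)
    (hgUs : gU (SpinCurv.PolyNodeRing.x R q) = LaurentPolynomial.T 1)
    (hgUy : gU (SpinCurv.PolyNodeRing.y R q) = LaurentPolynomial.C q * LaurentPolynomial.T (-1))
    (gV : SpinCurv.PolyNodeRing R p →ₐ[R] LaurentPolynomial R)
    (hgVt : gV (SpinCurv.PolyNodeRing.x R p) = LaurentPolynomial.T (-1))
    (hgVx : gV (SpinCurv.PolyNodeRing.y R p) = LaurentPolynomial.C p * LaurentPolynomial.T 1)
    (n : ℤ) (hn : -1 ≤ n) :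
    Module.Free R (LinearMap.ker
      (gU.toLinearMap.comp (LinearMap.fst R (SpinCurv.PolyNodeRing R q) (SpinCurv.PolyNodeRing R p)) -
        (LinearMap.mulLeft R (LaurentPolynomial.T n)).comp
          (gV.toLinearMap.comp (LinearMap.snd R (SpinCurv.PolyNodeRing R q) (SpinCurv.PolyNodeRing R p))))) := by
  have hmem : ∀ gf : SpinCurv.PolyNodeRing R q × SpinCurv.PolyNodeRing R p,
      gf ∈ LinearMap.ker (gU.toLinearMap.comp (LinearMap.fst R _ _) -
        (LinearMap.mulLeft R (LaurentPolynomial.T n)).comp (gV.toLinearMap.comp (LinearMap.snd R _ _))) ↔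
      ∃ h, Groth.Agent.SpinCurvLib.psi p q n h = gf := fun gf => by
    rw [LinearMap.mem_ker, ← Groth.Agent.SpinCurvLib.eq_iff_exists_psi hgUs hgUy hgVt hgVx hn gf.1 gf.2]
    exact sub_eq_zero
  exact Module.Free.of_equiv (LinearEquiv.ofBijective
    ((Groth.Agent.SpinCurvLib.psi p q n).codRestrict _ fun h => (hmem _).2 ⟨h, rfl⟩)
    ⟨fun a b h => Groth.Agent.SpinCurvLib.psi_injective p q n (congrArg Subtype.val h), fun x => by
      obtain ⟨h, hh⟩ := (hmem x.1).1 x.2
      exact ⟨h, Subtype.ext hh⟩⟩)

end Groth.Agent.S18436
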