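import Groth.Statements.S18437
import Groth.Agent.SpinCurvLib.Twist
-- import your own Groth.Agent.* helpers here

set_option autoImplicit false
universe u
open SpinCurv

namespace Groth.Agent.S18437

/-- Let R be a commutative ring and p, q ∈ R; put A = R[x, y]/(xy - pq) and consider the two affine
charts U = Spec R[s, y]/(sy - q) and V = Spec R[t, x]/(xt - p) of the curve obtained from Spec A by
blowing up as in the (p, q)-construction, glued along R[s, s⁻¹] by t = s⁻¹ (so y = q s⁻¹ on U and x
= p s on V), with the projection to Spec A given by x ↦ p s, y ↦ y on U and x ↦ x, y ↦ q t on V. For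
n ≥ 0 the twisting sheaf O(n) is vⁿ O on U and ξⁿ O on V with ξ = s v, so its global sections are
the pairs (g, f) of functions on U and V with g = sⁿ f on U ∩ V. Then the map A^{n+1} → O(U) × O(V)
sending (F_0, …, F_n), i.e. the section Σ F_i ξ^{n-i} v^i, to (Σ F_i|_U s^{n-i}, Σ F_i|_V t^i) has
image exactly the set of such pairs, and F is sent to zero exactly when it lies in the A-submodule
of A^{n+1} generated by the vectors p e_i - x e_{i+1} and y e_i - q e_{i+1} for 0 ≤ i < n (e_0, …,
e_n the standard basis). So the global sections of O(n) form the degree-n piece of A[ξ, v]/(p ξ - x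
v, q v - y ξ). For n = 0 this says that a ↦ (a|_U, a|_V) is injective on A with image the pairs of
functions that agree on U ∩ V, so that the functions on the blown-up curve are exactly the functions
on Spec A (the direct image of its structure sheaf is the structure sheaf of Spec A); for n = 1 it
presents the global sections of O(1) as A ξ ⊕ A v modulo the relations p ξ = x v and y ξ = q v. Here
R[s, y]/(sy - q) and R[t, x]/(xt - p) are both written as the quotient of the polynomial ring in two
variables by (first variable)·(second variable) - constant, the homomorphisms rU, rV are the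
restriction maps from A to the two charts and gU, gV the restriction maps from the charts to their
intersection R[s, s⁻¹] (Laurent polynomials), each pinned by its values on the two generators. (The
published setting has R complete local and p, q in the maximal ideal, and reduces to this polynomial
computation, which uses neither.) -/
theorem result (R : Type u) [CommRing R] (p q : R)
    (rU : SpinCurv.PolyNodeRing R (p * q) →ₐ[R] SpinCurv.PolyNodeRing R q)
    (hrUx : rU (SpinCurv.PolyNodeRing.x R (p * q)) = algebraMap R _ p * SpinCurv.PolyNodeRing.x R q)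
    (hrUy : rU (SpinCurv.PolyNodeRing.y R (p * q)) = SpinCurv.PolyNodeRing.y R q)
    (rV : SpinCurv.PolyNodeRing R (p * q) →ₐ[R] SpinCurv.PolyNodeRing R p)
    (hrVx : rV (SpinCurv.PolyNodeRing.x R (p * q)) = SpinCurv.PolyNodeRing.y R p)
    (hrVy : rV (SpinCurv.PolyNodeRing.y R (p * q)) = algebraMap R _ q * SpinCurv.PolyNodeRing.x R p)
    (gU : SpinCurv.PolyNodeRing R q →ₐ[R] LaurentPolynomial R)
    (hgUs : gU (SpinCurv.PolyNodeRing.x R q) = LaurentPolynomial.T 1)
    (hgUy : gU (SpinCurv.PolyNodeRing.y R q) = LaurentPolynomial.C q * LaurentPolynomial.T (-1))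
    (gV : SpinCurv.PolyNodeRing R p →ₐ[R] LaurentPolynomial R)
    (hgVt : gV (SpinCurv.PolyNodeRing.x R p) = LaurentPolynomial.T (-1))
    (hgVx : gV (SpinCurv.PolyNodeRing.y R p) = LaurentPolynomial.C p * LaurentPolynomial.T 1) (n : ℕ) :
    Set.range (fun F : Fin (n + 1) → SpinCurv.PolyNodeRing R (p * q) =>
        (∑ i : Fin (n + 1), rU (F i) * SpinCurv.PolyNodeRing.x R q ^ (n - (i : ℕ)),
         ∑ i : Fin (n + 1), rV (F i) * SpinCurv.PolyNodeRing.x R p ^ (i : ℕ))) =
      {gf : SpinCurv.PolyNodeRing R q × SpinCurv.PolyNodeRing R p |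
        gU gf.1 = LaurentPolynomial.T (n : ℤ) * gV gf.2} ∧
    {F : Fin (n + 1) → SpinCurv.PolyNodeRing R (p * q) |
        (∑ i : Fin (n + 1), rU (F i) * SpinCurv.PolyNodeRing.x R q ^ (n - (i : ℕ)),
         ∑ i : Fin (n + 1), rV (F i) * SpinCurv.PolyNodeRing.x R p ^ (i : ℕ)) = 0} =
      (Submodule.span (SpinCurv.PolyNodeRing R (p * q))
        (Set.range (fun i : Fin n =>
            (Pi.single (Fin.castSucc i) (algebraMap R (SpinCurv.PolyNodeRing R (p * q)) p) -
              Pi.single (Fin.succ i) (SpinCurv.PolyNodeRing.x R (p * q)) : Fin (n + 1) → SpinCurv.PolyNodeRing R (p * q))) ∪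
         Set.range (fun i : Fin n =>
            (Pi.single (Fin.castSucc i) (SpinCurv.PolyNodeRing.y R (p * q)) -
              Pi.single (Fin.succ i) (algebraMap R (SpinCurv.PolyNodeRing R (p * q)) q) : Fin (n + 1) → SpinCurv.PolyNodeRing R (p * q)))) :
        Set (Fin (n + 1) → SpinCurv.PolyNodeRing R (p * q))) := by
  classical
  open Groth.Agent.SpinCurvLib in
  exact (by
    let Φ : (Fin (n + 1) → (SpinCurv.PolyNodeRing R (p * q))) →ₗ[R] SpinCurv.PolyNodeRing R q × SpinCurv.PolyNodeRing R p :=
      { toFun := fun F => (∑ i : Fin (n + 1), rU (F i) * SpinCurv.PolyNodeRing.x R q ^ (n - (i : ℕ)),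
          ∑ i : Fin (n + 1), rV (F i) * SpinCurv.PolyNodeRing.x R p ^ (i : ℕ))
        map_add' := fun F G => by simp [add_mul, Finset.sum_add_distrib]
        map_smul' := fun r F => by simp [Finset.smul_sum, smul_mul_assoc] }
    have hs : ∀ (i : Fin (n + 1)) (a : (SpinCurv.PolyNodeRing R (p * q))), Φ (Pi.single i a) =
        (rU a * SpinCurv.PolyNodeRing.x R q ^ (n - (i : ℕ)), rV a * SpinCurv.PolyNodeRing.x R p ^ (i : ℕ)) := fun i a => by
      refine Prod.ext ?_ ?_
      · show ∑ j, rU ((Pi.single i a : Fin (n + 1) → SpinCurv.PolyNodeRing R (p * q)) j) * _ = _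
        rw [Finset.sum_eq_single i (fun j _ hj => by rw [Pi.single_eq_of_ne hj, map_zero, zero_mul]) (by simp),
          Pi.single_eq_same]
      · show ∑ j, rV ((Pi.single i a : Fin (n + 1) → SpinCurv.PolyNodeRing R (p * q)) j) * _ = _
        rw [Finset.sum_eq_single i (fun j _ hj => by rw [Pi.single_eq_of_ne hj, map_zero, zero_mul]) (by simp),
          Pi.single_eq_same]
    have hΦA : ∀ (c : (SpinCurv.PolyNodeRing R (p * q))) (F : Fin (n + 1) → (SpinCurv.PolyNodeRing R (p * q))), Φ (c • F) = (rU c * (Φ F).1, rV c * (Φ F).2) := fun c F => by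
      show (∑ i, rU (c * F i) * _, ∑ i, rV (c * F i) * _) = _
      simp only [map_mul, mul_assoc, ← Finset.mul_sum]
      rfl
    let L : Submodule (SpinCurv.PolyNodeRing R (p * q)) (Fin (n + 1) → (SpinCurv.PolyNodeRing R (p * q))) := Submodule.span (SpinCurv.PolyNodeRing R (p * q))
      (Set.range (fun i : Fin n => (Pi.single (Fin.castSucc i) (algebraMap R (SpinCurv.PolyNodeRing R (p * q)) p) -
          Pi.single (Fin.succ i) (SpinCurv.PolyNodeRing.x R (p * q)) : Fin (n + 1) → (SpinCurv.PolyNodeRing R (p * q)))) ∪
        Set.range (fun i : Fin n => (Pi.single (Fin.castSucc i) (SpinCurv.PolyNodeRing.y R (p * q)) -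
          Pi.single (Fin.succ i) (algebraMap R (SpinCurv.PolyNodeRing R (p * q)) q) : Fin (n + 1) → (SpinCurv.PolyNodeRing R (p * q)))))
    have hL : ∀ F ∈ L, Φ F = 0 := fun F hF => by
      induction hF using Submodule.span_induction with
      | zero => exact map_zero _
      | add a b _ _ ha hb => rw [map_add, ha, hb, add_zero]
      | smul c a _ ha => rw [hΦA, ha]; simp
      | mem F hF =>
        rcases hF with ⟨i, rfl⟩ | ⟨i, rfl⟩
        · simp only [map_sub, hs, AlgHom.commutes, hrUx, hrVx, Fin.val_castSucc, Fin.val_succ, Prod.mk_sub_mk]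
          rw [Prod.mk_eq_zero]; constructor
          · skip
            rw [show n - (i : ℕ) = n - ((i : ℕ) + 1) + 1 by omega, pow_succ]
            ring
          · skip
            rw [pow_succ, ← x_mul_y R p]
            ring
        · simp only [map_sub, hs, AlgHom.commutes, hrUy, hrVy, Fin.val_castSucc, Fin.val_succ, Prod.mk_sub_mk]
          rw [Prod.mk_eq_zero]; constructor
          · skip
            rw [show n - (i : ℕ) = n - ((i : ℕ) + 1) + 1 by omega, pow_succ, ← x_mul_y R q]
            ring
          · skip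
            rw [pow_succ]
            ring
    let w : ℤ → (Fin (n + 1) → (SpinCurv.PolyNodeRing R (p * q))) := fun m =>
      if m < 0 then Pi.single (Fin.last n) (mono R (p * q) m)
      else if m ≤ n then Pi.single (⟨n - m.toNat, by omega⟩ : Fin (n + 1)) 1
      else Pi.single 0 (mono R (p * q) (m - n))
    let Ψ := Finsupp.linearCombination R w
    let M : Submodule R (Fin (n + 1) → (SpinCurv.PolyNodeRing R (p * q))) := L.restrictScalars R ⊔ LinearMap.range Ψ
    have hw : ∀ m, w m ∈ M := fun m => Submodule.mem_sup_right ⟨Finsupp.single m 1, by simp [Ψ]⟩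
    have hzero : ∀ i : Fin (n + 1), (Pi.single i (1 : (SpinCurv.PolyNodeRing R (p * q))) : Fin (n + 1) → (SpinCurv.PolyNodeRing R (p * q))) ∈ M := fun i => by
      have h := hw ((n : ℤ) - (i : ℕ))
      have hi : (i : ℕ) ≤ n := Nat.lt_succ_iff.1 i.isLt
      simp only [w] at h
      rw [if_neg (by omega), if_pos (by omega)] at h
      convert h using 3
      omega
    have hpos : ∀ (iv : ℕ) (hi : iv < n + 1) (j : ℕ),
        (Pi.single (⟨iv, hi⟩ : Fin (n + 1)) (SpinCurv.PolyNodeRing.x R (p * q) ^ j) : Fin (n + 1) → (SpinCurv.PolyNodeRing R (p * q))) ∈ M := by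
      intro iv
      induction iv with
      | zero =>
        intro hi j
        rcases j with _ | j
        · rw [pow_zero]; exact hzero _
        · have h := hw ((n : ℤ) + (j + 1 : ℕ))
          simp only [w] at h
          rw [if_neg (by omega), if_neg (by omega), add_sub_cancel_left, mono, Int.toNat_natCast,
            Int.toNat_neg_natCast, pow_zero, mul_one] at h
          exact h
      | succ iv ih =>
        intro hi j
        rcases j with _ | j
        · rw [pow_zero]; exact hzero _
        · have hrel : (SpinCurv.PolyNodeRing.x R (p * q) ^ j) •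
              ((Pi.single (Fin.castSucc (⟨iv, by omega⟩ : Fin n)) (algebraMap R (SpinCurv.PolyNodeRing R (p * q)) p) -
              Pi.single (Fin.succ (⟨iv, by omega⟩ : Fin n)) (SpinCurv.PolyNodeRing.x R (p * q)) : Fin (n + 1) → (SpinCurv.PolyNodeRing R (p * q)))) ∈ M :=
            Submodule.mem_sup_left (L.smul_mem _ (Submodule.subset_span (Or.inl ⟨_, rfl⟩)))
          have h2 := M.sub_mem (M.smul_mem p (ih (by omega) j)) hrel
          convert h2 using 1
          rw [smul_sub, ← Pi.single_smul', ← Pi.single_smul', ← Pi.single_smul', smul_eq_mul, smul_eq_mul, ← pow_succ,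
            Algebra.smul_def (A := SpinCurv.PolyNodeRing R (p * q)), mul_comm (algebraMap R (SpinCurv.PolyNodeRing R (p * q)) p), Fin.castSucc_mk, sub_sub_cancel]
          rfl
    have hneg : ∀ (d : ℕ) (i : Fin (n + 1)), n - (i : ℕ) = d → ∀ j : ℕ,
        (Pi.single i (SpinCurv.PolyNodeRing.y R (p * q) ^ j) : Fin (n + 1) → (SpinCurv.PolyNodeRing R (p * q))) ∈ M := by
      intro d
      induction d with
      | zero =>
        intro i hi j
        rcases j with _ | j
        · rw [pow_zero]; exact hzero _
        · obtain rfl : i = Fin.last n := Fin.ext (by rw [Fin.val_last]; omega)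
          have h := hw (-((j + 1 : ℕ) : ℤ))
          simp only [w] at h
          rw [if_pos (by omega), mono, neg_neg, Int.toNat_natCast, Int.toNat_neg_natCast, pow_zero, one_mul] at h
          exact h
      | succ d ih =>
        intro i hi j
        rcases j with _ | j
        · rw [pow_zero]; exact hzero _
        · obtain ⟨k, rfl⟩ : ∃ k : Fin n, i = Fin.castSucc k := ⟨⟨i, by omega⟩, rfl⟩
          have hrel : (SpinCurv.PolyNodeRing.y R (p * q) ^ j) •
              ((Pi.single (Fin.castSucc k) (SpinCurv.PolyNodeRing.y R (p * q)) -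
              Pi.single (Fin.succ k) (algebraMap R (SpinCurv.PolyNodeRing R (p * q)) q) : Fin (n + 1) → (SpinCurv.PolyNodeRing R (p * q)))) ∈ M :=
            Submodule.mem_sup_left (L.smul_mem _ (Submodule.subset_span (Or.inr ⟨_, rfl⟩)))
          have h2 := M.add_mem (M.smul_mem q (ih k.succ (by rw [Fin.val_succ]; rw [Fin.val_castSucc] at hi; omega) j)) hrel
          convert h2 using 1
          rw [smul_sub, ← Pi.single_smul', ← Pi.single_smul', ← Pi.single_smul', smul_eq_mul, smul_eq_mul, ← pow_succ,
            Algebra.smul_def (A := SpinCurv.PolyNodeRing R (p * q)), mul_comm (algebraMap R (SpinCurv.PolyNodeRing R (p * q)) q), add_sub_cancel]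
    have hall : ∀ F, F ∈ M := fun F => by
      have hF : F = ∑ i, Pi.single i (F i) := (Finset.univ_sum_single F).symm
      rw [hF]
      refine Submodule.sum_mem _ fun i _ => ?_
      generalize F i = a
      rw [← linearCombination_nf R (p * q) a, Finsupp.linearCombination_apply, Finsupp.sum, ← LinearMap.coe_single (R := R),
        map_sum]
      refine Submodule.sum_mem _ fun k _ => ?_
      rw [map_smul]
      refine M.smul_mem _ ?_
      show (Pi.single i (mono R (p * q) k) : Fin (n + 1) → (SpinCurv.PolyNodeRing R (p * q))) ∈ M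
      rcases le_or_gt 0 k with hk | hk
      · rw [mono, Int.toNat_eq_zero.2 (show -k ≤ 0 by omega), pow_zero, mul_one]
        exact hpos i i.isLt _
      · rw [mono, Int.toNat_eq_zero.2 (show k ≤ 0 by omega), pow_zero, one_mul]
        exact hneg _ i rfl _
    have hΦw : ∀ m, Φ (w m) = psi p q n (Finsupp.single m 1) := fun m => by
      rw [psi, LinearMap.prod_apply, Function.prod_apply, Finsupp.linearCombination_single, Finsupp.linearCombination_single,
        one_smul, one_smul]
      simp only [w, secU, secV]
      rcases lt_or_ge m 0 with hm | hm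
      · rw [if_pos hm, if_neg (by omega), if_neg (by omega), hs, Fin.val_last, Nat.sub_self, pow_zero, mul_one, one_smul]
        simp only [mono, Int.toNat_eq_zero.2 hm.le, pow_zero, one_mul, map_pow, hrUy, hrVy]
        rw [Int.toNat_eq_zero.2 (show -((n : ℤ) - m) ≤ 0 by omega), pow_zero, mul_one, mul_pow, ← map_pow (algebraMap R _), mul_assoc,
          ← pow_add, ← Algebra.smul_def (A := SpinCurv.PolyNodeRing R p), show ((n : ℤ) - m).toNat = (-m).toNat + n by omega]
        rfl
      rw [if_neg (by omega), if_pos hm, if_pos hm, one_smul]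
      rcases le_or_gt m n with hmn | hmn
      · rw [if_pos hmn, hs, map_one, map_one, one_mul, one_mul, wt_nonneg R p (by omega), one_smul]
        simp only [mono, Int.toNat_eq_zero.2 (show -m ≤ 0 by omega), Int.toNat_eq_zero.2 (show -((n : ℤ) - m) ≤ 0 by omega),
          pow_zero, mul_one]
        rw [show n - (n - m.toNat) = m.toNat by omega, show ((n : ℤ) - m).toNat = n - m.toNat by omega]
      · rw [if_neg (by omega), hs, Fin.val_zero, Nat.sub_zero, pow_zero, mul_one]
        simp only [mono, Int.toNat_eq_zero.2 (show -m ≤ 0 by omega), Int.toNat_eq_zero.2 (show -(m - (n : ℤ)) ≤ 0 by omega),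
          Int.toNat_eq_zero.2 (show (n : ℤ) - m ≤ 0 by omega), pow_zero, mul_one, one_mul, map_pow, hrUx, hrVx, wt]
        rw [show (-((n : ℤ) - m)).toNat = (m - n).toNat by omega, mul_pow, mul_assoc, ← pow_add, ← map_pow (algebraMap R _),
          ← Algebra.smul_def (A := SpinCurv.PolyNodeRing R q), show (m - (n : ℤ)).toNat + n = m.toNat by omega]
    have hΦΨ : ∀ h, Φ (Ψ h) = psi p q n h := fun h => by
      have : Φ.comp Ψ = psi p q n := Finsupp.lhom_ext fun m r => by
        rw [LinearMap.comp_apply, show Ψ (Finsupp.single m r) = r • w m from Finsupp.linearCombination_single _ _ _,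
          map_smul, hΦw, ← map_smul, Finsupp.smul_single, smul_eq_mul, mul_one]
      exact LinearMap.congr_fun this h
    have hdec : ∀ F, ∃ h, Φ F = psi p q n h ∧ F - Ψ h ∈ L := fun F => by
      obtain ⟨l, hl, x, ⟨h, rfl⟩, rfl⟩ := Submodule.mem_sup.1 (hall F)
      exact ⟨h, by rw [map_add, hL l hl, zero_add, hΦΨ], by simpa using hl⟩
    refine ⟨Set.ext fun gf => ⟨?_, fun hgf => ?_⟩, Set.ext fun F => ⟨fun hF => ?_, fun hF => hL F hF⟩⟩
    · rintro ⟨F, rfl⟩
      obtain ⟨h, hh, -⟩ := hdec F
      exact (eq_iff_exists_psi hgUs hgUy hgVt hgVx (by omega) _ _).2 ⟨h, hh.symm⟩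
    · obtain ⟨h, hh⟩ := (eq_iff_exists_psi hgUs hgUy hgVt hgVx (by omega) gf.1 gf.2).1 hgf
      exact ⟨Ψ h, (hΦΨ h).trans hh⟩
    · obtain ⟨h, hh, hFL⟩ := hdec F
      have h0 : h = 0 := psi_injective p q n (by rw [← hh, map_zero]; exact hF)
      rw [h0, map_zero, sub_zero] at hFL
      exact hFL)

end Groth.Agent.S18437
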