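import Groth.Statements.S1844
import Groth.Agent.GrpScheme.PowPullback
import Groth.Agent.Cube.Main
-- import your own Groth.Agent.* helpers here

set_option autoImplicit false
universe u v
open CategoryTheory MonoidalCategory CartesianMonoidalCategory MonObj GrpObj AlgebraicGeometry
open GrpSch

namespace Groth.Agent.S1844
open scoped Groth.Agent.PicLaw

/-- Let A be an abelian variety over a field, L an invertible O_A-module and n ≥ 1. Then [n]^*L is
isomorphic to L^{⊗ n(n+1)/2} ⊗ ([-1]^*L)^{⊗ n(n-1)/2}, where [n] is multiplication by n and [-1] the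
inversion of A. -/
theorem result (K : Type u) [Field K] (A : Over (Spec (CommRingCat.of K))) [GrpObj A] [IsProper A.hom] [GeometricallyIntegral A.hom] (L : A.left.Modules) (hL : PicF.IsInvertible L) (n : ℕ) (hn : 1 ≤ n) : Nonempty ((Scheme.Modules.pullback (𝟙 A ^ n).left).obj L ≅ CohB1.tensorMod (CohB1.tensorPow L (n * (n + 1) / 2)) (CohB1.tensorPow ((Scheme.Modules.pullback ((𝟙 A)⁻¹).left).obj L) (n * (n - 1) / 2))) := by
  obtain ⟨hi, ei⟩ : ∃ h, PicGrp.cls ((Scheme.Modules.pullback ((𝟙 A)⁻¹).left).obj L) h =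
      PicLaw.pl ((𝟙 A)⁻¹).left (PicGrp.cls L hL) := ⟨_, PicLaw.cls_pullback _ hL⟩
  obtain ⟨h₁, e₁⟩ := GrpScheme.PowPullback.cls_tensorPow hL (n * (n + 1) / 2)
  obtain ⟨h₂, e₂⟩ := GrpScheme.PowPullback.cls_tensorPow hi (n * (n - 1) / 2)
  rw [PicLaw.iso_iff (PicLoc.isInvertible_pullback _ hL) (PicLaw.isInvertible_tensor h₁ h₂),
    PicLaw.cls_pullback, PicLaw.cls_tensor h₁ h₂, e₁, e₂, ei]
  have h := GrpScheme.PowPullback.op_pow (Cube.cubeHyp A) (PicGrp.cls L hL) (𝟙 A) n
  rw [show PicLaw.Mumford.op (𝟙 A) (PicGrp.cls L hL) = PicGrp.cls L hL from PicLaw.pl_id _] at h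
  exact h

end Groth.Agent.S1844
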