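import Groth.Statements.S18440
import Groth.Agent.HodgeIdx81.RR


set_option autoImplicit false
universe u
open CategoryTheory CategoryTheory.Limits AlgebraicGeometry TopologicalSpace
open Surf

namespace Groth.Agent.S18440

open Groth.Agent.HodgeIdx81 Groth.Agent.ProjTwist

set_option linter.style.haveILetI false

/-- Let k be an algebraically closed field and X a smooth projective surface over k (an integral scheme,
proper and smooth over k of dimension 2) with H¹(X, O_X) = 0, and W a canonical module of X (a
second exterior power of Ω_{X/k}). Let C ⊆ X be an integral closed one-dimensional subscheme, smooth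
over k, of arithmetic genus one, written χ(O_C) = 0 with the Euler characteristic of O_C computed on
X through the closed immersion (k being algebraically closed and C integral, H⁰(C, O_C) = k, so this
says dim_k H¹(C, O_C) = 1), whose module O_X(C) — a tensor inverse N of the ideal I_C — is ample.
Then W ≅ I_C, that is ω_X ≅ O_X(−C) (existence of an isomorphism of invertible modules). (The
published statement is that a smooth del Pezzo surface of degree d embedded in projective d-space
has canonical module O_X(−1); its argument takes C a general hyperplane section and uses about the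
embedding only that C is a smooth curve of genus one and that H¹(X, O_X) vanishes, facts it draws
from results quoted without proof; those two properties are the hypotheses here.) -/
theorem result (k : Type u) [Field k] [IsAlgClosed k] (X : Scheme.{u})
    [X.Over (Spec (CommRingCat.of k))] [IsIntegral X] [IsProper (X ↘ (Spec (CommRingCat.of k)))] [Smooth (X ↘ (Spec (CommRingCat.of k)))]
    (hdim : topologicalKrullDim X = 2)
    (W : X.Modules) (hW : ExtPow.IsExtPow 2 (Omega.sheaf (X ↘ (Spec (CommRingCat.of k)))) W)
    (hq : Subsingleton (Coh.HH X (Coh.structureModule X) 1))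
    (C : X.IdealSheafData) (hC : IsIntegral C.subscheme) (hC1 : topologicalKrullDim (C.support : Set X) = 1)
    (hCs : Smooth (C.subschemeι ≫ (X ↘ (Spec (CommRingCat.of k)))))
    (hg : Curv2.euler k X (ClSub.quotMod C) = 0)
    (N : X.Modules) (hN : ClSub.IsInverseOf N (ClSub.idealMod C)) (hNample : CohB1.IsAmple N) :
    Nonempty (W ≅ ClSub.idealMod C) := by
  have hd : topologicalKrullDim X = ((2 : ℕ) : WithBot ℕ∞) := by rw [hdim]; norm_num
  have hreg : ∀ x : X, IsRegularLocalRing (X.presheaf.stalk x) :=
    CurveDVR.isRegularLocalRing_stalk (X ↘ (Spec (CommRingCat.of k)))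
  have hWi := RR.isInvertible_canonical k hd hreg hNample hW
  obtain ⟨eN⟩ := hN
  haveI := hC
  have hI := isInvertible_of_curve k hreg hd C (hC1.trans rfl)
  have hN' : ∀ B : X.Modules, PicF.IsInvertible B → pr k N B = -pr k (ClSub.idealMod C) B := fun B hB =>
    pr_inv_left k hd.le hI hNample.1 hB (tensComm _ N ≪≫ eN)
  have hadj := RR.adjunction k hd hreg hNample hW C hI
  rw [hg, mul_zero, sub_eq_zero] at hadj
  have hII : 0 < pr k (ClSub.idealMod C) (ClSub.idealMod C) := by
    have h := pr_self_pos k hd hNample
    rwa [hN' N hNample.1, pr_comm, hN' _ hI, neg_neg] at h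
  let M := CohB1.tensorMod W N
  have hM : PicF.IsInvertible M := AmpleLib.isInvertible_tensorMod hWi hNample.1
  have hMN : pr k N M = 0 := by
    rw [pr_comm, pr_add_left k hd.le hWi hNample.1 hNample.1, pr_comm k W N, hN' W hWi, hN' N hNample.1,
      pr_comm k _ N, hN' _ hI]
    linarith
  refine (RR.iso_of_section k hd hreg hNample hM ?_ hMN).map fun e => ?_
  · obtain ⟨M', hM', ⟨eM⟩⟩ := PicLaw.exists_inverse hM
    have h2 : Module.finrank k (Coh.HH X M 2) = 0 := by
      rw [← RR.finrank_dual k hd hreg hNample hW hM eM 2 le_rfl]
      refine RR.finrank_eq_zero_of_subsingleton k (not_nontrivial_iff_subsingleton.1 fun hn => ?_)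
      obtain ⟨c, hc⟩ := @exists_ne _ hn 0
      have h := pr_nonneg_of_section k hd.le (AmpleLib.isInvertible_tensorMod hM' hWi) hNample
        ((ShStabLib.BC.secEquiv k _).symm c) fun h => hc ((LinearEquiv.map_eq_zero_iff _).1 h)
      rw [pr_add_left k hd.le hM' hWi hNample.1, pr_inv_left k hd.le hM hM' hNample.1 eM,
        pr_comm k M N, hMN, pr_comm k W N, hN' W hWi] at h
      linarith
    have hRR := RR.riemann_roch k hd hreg hNample hW hM
    rw [pr_add_left k hd.le hWi hNample.1 hM, hMN, pr_comm k W M,
      RR.euler_structure k hd (RR.finrank_eq_zero_of_subsingleton k hq)] at hRR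
    have hle := RR.euler_le k hd M
    refine Module.nontrivial_of_finrank_pos (R := k) ?_
    omega
  · exact (tensOne W).symm ≪≫ tensCongr (Iso.refl W) eN.symm ≪≫ (tensAssoc W N _).symm ≪≫
      tensCongr e (Iso.refl _) ≪≫ oneTens _

end Groth.Agent.S18440
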