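import Groth.Statements.S18442
import Groth.Agent.DualAbs.SmoothImm
import Groth.Agent.DualAbs.PnTop
import Groth.Agent.FanoCI.Conormal
import Groth.Agent.S6472
import Groth.Agent.KFlat.PullTensor
import Groth.Agent.SurfRR.Basic
import Groth.Agent.ExtPowSt.Pullback
-- import your own Groth.Agent.* helpers here

set_option autoImplicit false
universe u
open CategoryTheory CategoryTheory.Limits AlgebraicGeometry TopologicalSpace
open Surf

namespace Groth.Agent.S18442

open Groth.Agent in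
/-- The determinant of a coproduct of two copies of an invertible module. -/
theorem det_two {X : Scheme.{u}} [IsLocallyNoetherian X] {A L : X.Modules} (hA : PicF.IsInvertible A)
    (hL : ExtPow.IsExtPow 2 (∐ fun _ : Fin 2 => A) L) : Nonempty (CohB1.tensorMod A A ≅ L) := by
  let S : ShortComplex X.Modules := ShortComplex.mk (Sigma.ι (fun _ : Fin 2 => A) 0)
    (Sigma.desc fun j : Fin 2 => if j = 1 then 𝟙 A else 0)
    (by rw [Sigma.ι_desc, if_neg (by decide)])
  have hS : S.ShortExact := ShortComplex.Splitting.shortExact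
    { r := Sigma.desc fun j : Fin 2 => if j = 0 then 𝟙 A else 0
      s := Sigma.ι (fun _ : Fin 2 => A) 1
      f_r := by simp [S]
      s_g := by simp [S]
      id := Sigma.hom_ext _ _ fun j => by fin_cases j <;> simp [S] }
  haveI : S.X₁.IsQuasicoherent := ProjTwist.isQCoh_of_isInvertible hA
  haveI : S.X₃.IsQuasicoherent := ProjTwist.isQCoh_of_isInvertible hA
  haveI : S.X₂.IsQuasicoherent := (CohDev.isCoh_of_iso
    (Sigma.whiskerEquiv (f := fun _ : ULift.{u} (Fin 2) => A) (g := fun _ : Fin 2 => A) Equiv.ulift fun _ => Iso.refl _)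
    (ProjTwist.Pn.isCoh_sigma _ fun _ => VBLib.isCoh_of_isFinLocFree (ProjForm.isFinLocFree_of_isInvertible hA))).1
  exact DualAbs.PnTop.nonempty_det_iso (c := 1) (r := 1) hS (S3203.isExtPow_one A) hL (S3203.isExtPow_one A)
    (DualAbs.PnTop.exists_basis_invertible hA) (DualAbs.PnTop.exists_basis_invertible hA)

/-- Let k be an algebraically closed field and X ⊆ P⁴_k a smooth surface which is the complete
intersection of two quadrics: X is an integral scheme, smooth over k of dimension 2, with a closed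
immersion ι : X → P⁴_k over k whose kernel ideal sheaf is the ideal sheaf generated by two quadratic
forms G_0, G_1. Then a canonical module W of X (a second exterior power of Ω_{X/k}) is isomorphic to
ι^*O(−1) (existence of an isomorphism), so its tensor inverse ι^*O(1) is ample and X is a del Pezzo
surface. -/
theorem result (k : Type u) [Field k] [IsAlgClosed k] (X : Scheme.{u})
    [X.Over (Spec (CommRingCat.of k))] [IsIntegral X] [Smooth (X ↘ (Spec (CommRingCat.of k)))] (hdim : topologicalKrullDim X = 2)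
    (ι : X ⟶ CohB1.ProjSpace 4 k) [IsClosedImmersion ι] (hι : ι ≫ CohB1.ProjSpace.toSpec 4 k = X ↘ (Spec (CommRingCat.of k)))
    (G : Fin 2 → LefPen.Form 4 k 2) (hker : ι.ker = LefPen.ciIdeal G)
    (W : X.Modules) (hW : ExtPow.IsExtPow 2 (Omega.sheaf (X ↘ (Spec (CommRingCat.of k)))) W) :
    Nonempty (W ≅ (Scheme.Modules.pullback ι).obj (Twist.twistProjSpace 4 k (-1))) := by
  haveI : IsLocallyNoetherian (CohB1.ProjSpace 4 k) := Groth.Agent.SerrePn.isLocallyNoetherian (n := 4) (R := k)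
  haveI : LocallyOfFiniteType (CohB1.ProjSpace.toSpec 4 k) :=
    Groth.Agent.ProjTwist.Pn.locallyOfFiniteType_toSpec 4 k
  haveI : IsProper (CohB1.ProjSpace.toSpec 4 k) := Groth.Agent.ProjProper.Basic.isProper_toSpec 4 k
  haveI : IsLocallyNoetherian X := LocallyOfFiniteType.isLocallyNoetherian ι
  haveI := Groth.Agent.DualAbs.PnTop.smoothOfRelativeDimension_toSpec 4 k
  haveI : SmoothOfRelativeDimension 2 (X ↘ Spec (CommRingCat.of k)) :=
    Groth.Agent.S6472.smoothOfRelativeDimension_of_dim 2 hdim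
  haveI : SmoothOfRelativeDimension 2 (ι ≫ CohB1.ProjSpace.toSpec 4 k) := by rw [hι]; infer_instance
  -- the conormal sheaf
  let I := LefPen.ciIdeal G
  haveI : IsIso ι.toImage := inferInstance
  let t : X ≅ I.subscheme := asIso ι.toImage ≪≫ eqToIso (congrArg (fun J : (CohB1.ProjSpace 4 k).IdealSheafData => J.subscheme) hker)
  have ht : t.hom ≫ I.subschemeι = ι := by
    have : ∀ (J : (CohB1.ProjSpace 4 k).IdealSheafData) (h : ι.ker = J),
        (asIso ι.toImage ≪≫ eqToIso (congrArg (fun J : (CohB1.ProjSpace 4 k).IdealSheafData => J.subscheme) h)).hom ≫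
          J.subschemeι = ι := by
      rintro _ rfl
      simpa using ι.toImage_imageι
    exact this _ hker
  have hY : topologicalKrullDim ↥I.subscheme = ((4 - 2 : ℕ) : WithBot ℕ∞) :=
    (t.hom.homeomorph.isHomeomorph.topologicalKrullDim_eq).symm.trans hdim
  haveI := Groth.Agent.FanoCI.isIso_psi G (by norm_num) hY
  let O2 := Twist.twistProjSpace 4 k (-2)
  let A := (Scheme.Modules.pullback ι).obj O2
  have hO2 : Twist.twistProjSpace 4 k (-2) = Groth.Agent.FanoCI.tw (n := 4) (k := k) 2 := by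
    simp [Twist.twistProjSpace, Groth.Agent.FanoCI.tw]; rfl
  let B := fun _ : Fin 2 => (Scheme.Modules.pullback I.subschemeι).obj O2
  let eC : Omega.conormal ι ≅ ∐ fun _ : Fin 2 => A :=
    (Scheme.Modules.pullback ι).mapIso (eqToIso (congrArg ClSub.idealMod
      (hker.trans (Scheme.IdealSheafData.ker_subschemeι I).symm))) ≪≫
      ((Scheme.Modules.pullbackCongr ht.symm).app _) ≪≫
      ((Scheme.Modules.pullbackComp t.hom I.subschemeι).app _).symm ≪≫
      (Scheme.Modules.pullback t.hom).mapIso ((asIso (Groth.Agent.FanoCI.psi G)).symm ≪≫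
        Sigma.mapIso fun _ => (Scheme.Modules.pullback I.subschemeι).mapIso (eqToIso hO2.symm)) ≪≫
      PreservesCoproduct.iso (Scheme.Modules.pullback t.hom) B ≪≫
      Sigma.mapIso fun _ => (Scheme.Modules.pullbackComp t.hom I.subschemeι).app O2 ≪≫
        (Scheme.Modules.pullbackCongr ht).app O2
  have hA : PicF.IsInvertible A :=
    Groth.Agent.PicCl.isInvertible_pullback ι (Groth.Agent.ProjTwist.isInvertible_twistProjSpace 4 k (-2))
  haveI : (∐ fun _ : Fin 2 => A).IsQuasicoherent := (Groth.Agent.CohDev.isCoh_of_iso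
    (Sigma.whiskerEquiv (f := fun _ : ULift.{u} (Fin 2) => A) (g := fun _ : Fin 2 => A) Equiv.ulift fun _ => Iso.refl _)
    (Groth.Agent.ProjTwist.Pn.isCoh_sigma _ fun _ => Groth.Agent.VBLib.isCoh_of_isFinLocFree
      (Groth.Agent.ProjForm.isFinLocFree_of_isInvertible hA))).1
  obtain ⟨LC, hLC⟩ := Groth.Agent.ExtPowSt.Exists.exists_isExtPow 2 (∐ fun _ : Fin 2 => A)
  obtain ⟨d2⟩ := det_two hA hLC
  haveI := (Groth.Agent.VBLib.isCoh_of_ofRank (Groth.Agent.CanonTriv.isFinLocFreeOfRank_omega (CohB1.ProjSpace.toSpec 4 k) 4)).1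
  obtain ⟨LP, hLP⟩ := Groth.Agent.ExtPowSt.Exists.exists_isExtPow 4 (Omega.sheaf (CohB1.ProjSpace.toSpec 4 k))
  obtain ⟨eP⟩ := Groth.Agent.DualAbs.PnTop.nonempty_top_iso 4 k hLP
  rw [← hι] at hW
  obtain ⟨e⟩ := Groth.Agent.DualAbs.SmoothImm.nonempty_pullback_top_iso (CohB1.ProjSpace.toSpec 4 k) ι 4 2 hLP
    (Groth.Agent.ExtPowSt.Pullback.isExtPow_of_iso_left eC.symm hLC) hW
  obtain ⟨t4⟩ := Groth.Agent.ProjTwist.nonempty_twistProjSpace_tensor 4 k (-2) (-2)
  obtain ⟨t5⟩ := Groth.Agent.ProjTwist.nonempty_twistProjSpace_tensor 4 k 4 (-5)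
  obtain ⟨t0⟩ := Groth.Agent.ProjTwist.nonempty_twistProjSpace_tensor 4 k 4 (-4)
  let Q := fun c : ℤ => (Scheme.Modules.pullback ι).obj (Twist.twistProjSpace 4 k c)
  let f4 : LC ≅ Q (-4) := d2.symm ≪≫ (Groth.Agent.KFlat.PullTensor.pullTensorIso ι O2 O2).symm ≪≫
    (Scheme.Modules.pullback ι).mapIso (t4 ≪≫ eqToIso (by norm_num))
  let e0 : CohB1.tensorMod (Q 4) (Q (-4)) ≅ Coh.structureModule X :=
    (Groth.Agent.KFlat.PullTensor.pullTensorIso ι _ _).symm ≪≫
      (Scheme.Modules.pullback ι).mapIso (t0 ≪≫ eqToIso (by norm_num; rfl) ≪≫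
        (Groth.Agent.ProjTwist.twistZeroIso (CohB1.polyGrading 4 k)).symm) ≪≫
      Groth.Agent.QCoh.pullbackUnitIso ι
  exact ⟨(Groth.Agent.ProjTwist.oneTens W).symm ≪≫
    Groth.Agent.ProjTwist.tensCongr e0.symm (Iso.refl W) ≪≫
    Groth.Agent.ProjTwist.tensAssoc _ _ _ ≪≫
    Groth.Agent.ProjTwist.tensCongr (Iso.refl (Q 4))
      (Groth.Agent.ProjTwist.tensCongr f4.symm (Iso.refl W) ≪≫ e ≪≫
        (Scheme.Modules.pullback ι).mapIso (eP ≪≫ eqToIso (by norm_num))) ≪≫
    (Groth.Agent.KFlat.PullTensor.pullTensorIso ι _ (Twist.twistProjSpace 4 k (-5))).symm ≪≫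
      (Scheme.Modules.pullback ι).mapIso (t5 ≪≫ eqToIso (by norm_num))⟩

end Groth.Agent.S18442
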