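import Groth.Statements.S18445
import Groth.Agent.ArtFunLib.T1Lift
import Groth.Agent.ArtFunLib.PowerSeries
import Groth.Agent.CAlg48.PSEval
import Groth.Agent.PSLoc.Basic
import Groth.Agent.S12722

set_option autoImplicit false
universe u
open CategoryTheory
open Deform

namespace Groth.Agent.S18445

open Groth.Agent.ArtFunLib

/-- Let k be a field of characteristic zero and R a complete local Noetherian k-algebra with residue
field k, with n the dimension of its cotangent space m_R/m_R². Then R is isomorphic as a k-algebra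
to the power series ring k[[x_1, …, x_n]] if and only if for every local Artinian k-algebra A with
residue field k, all A-modules M and M' and every surjective A-linear map f : M' → M, every
k-algebra homomorphism R → A ⊕ M into the trivial square-zero extension is the composite of some
k-algebra homomorphism R → A ⊕ M' with the map A ⊕ M' → A ⊕ M induced by f. (The modules are taken
in the universe of k, with the A-action on both sides equal; in positive characteristic the
criterion fails, e.g. for k[x]/(x^p).) -/
theorem result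
    {k : Type u} [Field k] [CharZero k] (R : ArtFun.CRing k k) :
    Nonempty (R.carrier ≃ₐ[k] MvPowerSeries
        (Fin (Module.finrank (IsLocalRing.ResidueField R.carrier) (IsLocalRing.CotangentSpace R.carrier))) k) ↔
      ∀ (A : ArtFun.Art k k) (M M' : Type u) [AddCommGroup M] [Module (↥A) M] [Module (↥A)ᵐᵒᵖ M]
        [IsCentralScalar (↥A) M] [Module k M] [IsScalarTower k (↥A) M] [IsScalarTower k (↥A)ᵐᵒᵖ M]
        [AddCommGroup M'] [Module (↥A) M'] [Module (↥A)ᵐᵒᵖ M'] [IsCentralScalar (↥A) M'] [Module k M']
        [IsScalarTower k (↥A) M'] [IsScalarTower k (↥A)ᵐᵒᵖ M'] (f : M' →ₗ[↥A] M),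
        Function.Surjective f →
          ∀ φ : R.carrier →ₐ[k] TrivSqZeroExt (↥A) M,
            ∃ ψ : R.carrier →ₐ[k] TrivSqZeroExt (↥A) M',
              ∀ r : R.carrier, (ψ r).fst = (φ r).fst ∧ f (ψ r).snd = (φ r).snd := by
  classical
  let L : ArtFun.CRing k k :=
    { carrier := k, res := AlgHom.id k k, res_surjective := Function.surjective_id, isAdicComplete := by
        rw [IsLocalRing.maximalIdeal_eq_bot]; infer_instance }
  constructor
  · rintro ⟨e⟩ A M M' _ _ _ _ _ _ _ _ _ _ _ _ _ _ f hf φ
    let T := MvPowerSeries (Fin (Module.finrank (IsLocalRing.ResidueField R.carrier) (IsLocalRing.CotangentSpace R.carrier))) k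
    let φ' : T →ₐ[k] TrivSqZeroExt A M := φ.comp e.symm.toAlgHom
    have hnil : ∀ i, φ' (MvPowerSeries.X i) ∈ (IsLocalRing.maximalIdeal A).comap (TrivSqZeroExt.fstHom k A M) := by
      intro i
      rw [Ideal.mem_comap, ArtFun.Art.mem_maximalIdeal_iff]
      set c := A.res (TrivSqZeroExt.fstHom k A M (φ' (MvPowerSeries.X i))) with hcdef
      by_contra hne
      have hu : IsUnit (1 - c⁻¹ • MvPowerSeries.X i : T) := by
        rw [MvPowerSeries.isUnit_iff_constantCoeff]
        rw [← MvPowerSeries.coeff_zero_eq_constantCoeff_apply, map_sub, map_smul, MvPowerSeries.coeff_zero_eq_constantCoeff_apply, MvPowerSeries.coeff_zero_eq_constantCoeff_apply, MvPowerSeries.constantCoeff_X]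
        simp
      have h2 := hu.map ((A.res.comp (TrivSqZeroExt.fstHom k A M)).comp φ')
      rw [map_sub, map_one, map_smul] at h2
      refine h2.ne_zero ?_
      change 1 - c⁻¹ • c = 0
      rw [smul_eq_mul, inv_mul_cancel₀ hne, sub_self]
    obtain ⟨N, hN⟩ := maximalIdeal_pow_eq_bot A
    let lift : ∀ i, TrivSqZeroExt A M' := fun i =>
      TrivSqZeroExt.inl (φ' (MvPowerSeries.X i)).fst + TrivSqZeroExt.inr (hf (φ' (MvPowerSeries.X i)).snd).choose
    let J : Ideal (TrivSqZeroExt A M') := (IsLocalRing.maximalIdeal A).comap (TrivSqZeroExt.fstHom k A M')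
    have hpow : ∀ (X : Type u) [AddCommGroup X] [Module A X] [Module (↥A)ᵐᵒᵖ X] [IsCentralScalar A X] [Module k X]
        [IsScalarTower k A X] [IsScalarTower k (↥A)ᵐᵒᵖ X],
        ((IsLocalRing.maximalIdeal A).comap (TrivSqZeroExt.fstHom k A X)) ^ ((N + 1) * 2) = ⊥ := by
      intro X _ _ _ _ _ _ _
      rw [pow_mul, ← le_bot_iff, pow_two, Ideal.mul_le]
      intro a ha b hb
      have hz : ∀ a ∈ ((IsLocalRing.maximalIdeal A).comap (TrivSqZeroExt.fstHom k A X)) ^ (N + 1), TrivSqZeroExt.fst a = 0 := by
        intro a ha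
        have := apply_mem_pow (TrivSqZeroExt.fstHom k A X) _ (IsLocalRing.maximalIdeal A) (fun b hb => hb) _ ha
        rw [hN, Ideal.mem_bot] at this
        exact this
      refine Ideal.mem_bot.2 (TrivSqZeroExt.ext ?_ ?_)
      · simp [hz a ha]
      · simp [hz a ha, hz b hb]
    haveI : IsAdicComplete J (TrivSqZeroExt A M') :=
      { haus' := fun x hx => by
          have := hx ((N + 1) * 2)
          rwa [hpow M', Submodule.bot_smul, SModEq.bot] at this
        prec' := fun x hx => ⟨x ((N + 1) * 2), fun i => by
          rcases le_total i ((N + 1) * 2) with hi | hi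
          · exact hx hi
          · have := hx hi
            rw [hpow M', Submodule.bot_smul, SModEq.bot] at this
            rw [this]
            exact @SModEq.refl _ _ _ _ _ (J ^ i • ⊤ : Submodule (TrivSqZeroExt A M') (TrivSqZeroExt A M')) (x i)⟩ }
    obtain ⟨ψ, hψ⟩ := CAlg48.PSEval.exists_algHom (k := k) J lift (fun i => by
      rw [Ideal.mem_comap]
      simpa [lift] using hnil i)
    let F : TrivSqZeroExt A M' →ₐ[k] TrivSqZeroExt A M := (TrivSqZeroExt.map f).restrictScalars k
    have hkill : ∀ χ : T →ₐ[k] TrivSqZeroExt A M,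
        (∀ i, χ (MvPowerSeries.X i) ∈ (IsLocalRing.maximalIdeal A).comap (TrivSqZeroExt.fstHom k A M)) →
        ∀ z, z ∈ Ideal.span (Set.range MvPowerSeries.X) ^ ((N + 1) * 2) → χ z = 0 := by
      intro χ hχ z hz
      have := Ideal.mem_map_of_mem χ hz
      rw [Ideal.map_pow] at this
      have h3 := Ideal.pow_right_mono (Ideal.map_le_iff_le_comap.2 (Ideal.span_le.2 (by
        rintro _ ⟨i, rfl⟩; rw [SetLike.mem_coe, Ideal.mem_comap]; exact hχ i))) _ this
      rwa [hpow M, Ideal.mem_bot] at h3
    have hFψ : F.comp ψ = φ' := by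
      have hX : ∀ i, F (ψ (MvPowerSeries.X i)) = φ' (MvPowerSeries.X i) := fun i => by
        rw [hψ]
        refine TrivSqZeroExt.ext ?_ ?_
        · simp [F, lift]
        · simp [F, lift, (hf (φ' (MvPowerSeries.X i)).snd).choose_spec]
      refine AlgHom.ext fun z => ?_
      have hz := CAlg48.PowerSeriesAFS.sub_truncTotal_mem z ((N + 1) * 2)
      have e1 := hkill (F.comp ψ) (fun i => by rw [AlgHom.comp_apply, hX]; exact hnil i) _ hz
      have e2 := hkill φ' hnil _ hz
      rw [map_sub, sub_eq_zero] at e1 e2
      rw [e1, e2]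
      set p := MvPowerSeries.truncTotal ((N + 1) * 2) z
      clear_value p
      clear e1 e2 hz
      induction p using MvPolynomial.induction_on with
      | C c => rw [MvPolynomial.coe_C]; exact ((F.comp ψ).commutes c).trans (φ'.commutes c).symm
      | add p q hp hq => rw [MvPolynomial.coe_add, map_add, map_add, hp, hq]
      | mul_X p i hp => rw [MvPolynomial.coe_mul, MvPolynomial.coe_X, map_mul, map_mul, hp]; exact congrArg _ (hX i)
    refine ⟨ψ.comp e.toAlgHom, fun r => ?_⟩
    have := congrArg (fun χ : T →ₐ[k] TrivSqZeroExt A M => χ (e r)) hFψ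
    simp only [AlgHom.comp_apply, φ', AlgEquiv.coe_algHom, e.symm_apply_apply] at this
    refine ⟨?_, ?_⟩
    · rw [← this]; simp [F]
    · rw [← this]; simp [F]
  · intro h
    have hsm : ArtFun.IsSmoothFunctor (ArtFun.hR R.carrier R.res) := isSmoothFunctor_hR_of_derivations fun N φ => by
      let A := R.trunc N
      letI : Algebra A k := A.res.toRingHom.toAlgebra
      haveI : IsScalarTower k A k := IsScalarTower.of_algebraMap_eq fun c => (A.res.commutes c).symm
      letI : Module (↥A)ᵐᵒᵖ k := Module.compHom k ((RingEquiv.toOpposite A).symm.toRingHom)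
      haveI : IsCentralScalar A k := ⟨fun _ _ => rfl⟩
      haveI : IsScalarTower k (↥A)ᵐᵒᵖ k := ⟨fun c a x => by
        obtain ⟨a, rfl⟩ := MulOpposite.op_surjective a
        rw [← MulOpposite.op_smul, op_smul_eq_smul, op_smul_eq_smul, smul_assoc]⟩
      let f : A →ₗ[A] k := Algebra.linearMap A k
      have hf : Function.Surjective f := A.res_surjective
      let φ₀ : R.carrier →ₐ[k] TrivSqZeroExt A k := AlgHom.ofLinearMap
        { toFun := fun r => TrivSqZeroExt.inl ((R.truncHom N).1 r) + TrivSqZeroExt.inr (TrivSqZeroExt.snd (R := k) (M := k) (φ.1 r))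
          map_add' := fun a b => by
            rw [map_add, map_add, TrivSqZeroExt.inl_add, show TrivSqZeroExt.snd (R := k) (M := k) (φ.1 a + φ.1 b) =
              TrivSqZeroExt.snd (R := k) (M := k) (φ.1 a) + TrivSqZeroExt.snd (R := k) (M := k) (φ.1 b) from rfl,
              TrivSqZeroExt.inr_add]
            abel
          map_smul' := fun c a => by
            rw [map_smul, map_smul, show TrivSqZeroExt.snd (R := k) (M := k) (c • φ.1 a) =
              c • TrivSqZeroExt.snd (R := k) (M := k) (φ.1 a) from rfl, RingHom.id_apply]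
            ext <;> simp }
        (by
          change TrivSqZeroExt.inl ((R.truncHom N).1 1) + TrivSqZeroExt.inr (TrivSqZeroExt.snd (R := k) (M := k) (φ.1 1)) = 1
          rw [map_one, map_one, show TrivSqZeroExt.snd (R := k) (M := k) (1 : ArtFun.Art.dual k k) = 0 from rfl,
            TrivSqZeroExt.inl_one, TrivSqZeroExt.inr_zero, add_zero])
        (fun a b => by
          change TrivSqZeroExt.inl ((R.truncHom N).1 (a * b)) + TrivSqZeroExt.inr (TrivSqZeroExt.snd (R := k) (M := k) (φ.1 (a * b))) =
            (TrivSqZeroExt.inl ((R.truncHom N).1 a) + TrivSqZeroExt.inr (TrivSqZeroExt.snd (R := k) (M := k) (φ.1 a))) *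
              (TrivSqZeroExt.inl ((R.truncHom N).1 b) + TrivSqZeroExt.inr (TrivSqZeroExt.snd (R := k) (M := k) (φ.1 b)))
          rw [map_mul, map_mul, dual_snd_mul, fst_homSet_dual, fst_homSet_dual]
          refine TrivSqZeroExt.ext ?_ ?_
          · simp
          · have hr : ∀ a, algebraMap A k ((R.truncHom N).1 a) = R.res a := fun a =>
              congrArg (fun g : R.carrier →ₐ[k] k => g a) (R.truncHom N).2
            simp [Algebra.smul_def, hr]
            erw [hr a, hr b]
            ring)
      obtain ⟨ψ, hψ⟩ := h A k A f hf φ₀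
      refine ⟨ψ, fun a => ?_, fun a => ?_⟩
      · rw [(hψ a).1]; simp [φ₀]
      · refine (hψ a).2.trans ?_
        simp [φ₀]
    obtain ⟨n, ⟨e⟩⟩ := (Groth.Agent.S12722.result (Λ := k) (k := k) Function.surjective_id R).1 hsm
    suffices hn : Module.finrank (IsLocalRing.ResidueField R.carrier) (IsLocalRing.CotangentSpace R.carrier) = n by
      rw [hn]; exact ⟨e⟩
    have hd := PSLoc.ringKrullDim_eq k n
    haveI := PSLoc.isRegularLocalRing k n
    haveI : IsRegularLocalRing R.carrier := IsRegularLocalRing.of_ringEquiv e.symm.toRingEquiv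
    have := IsRegularLocalRing.spanFinrank_maximalIdeal (R := R.carrier)
    rw [ringKrullDim_eq_of_ringEquiv e.toRingEquiv, hd] at this
    rw [← IsLocalRing.spanFinrank_maximalIdeal_eq_finrank_cotangentSpace]
    exact_mod_cast this

end Groth.Agent.S18445
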