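import Groth.Statements.S18450
import Groth.Agent.HodgeIdx81.Fundamental
import Groth.Agent.IdealSh.CartierInSub


set_option autoImplicit false
universe u
open CategoryTheory CategoryTheory.Limits AlgebraicGeometry TopologicalSpace
open Surf

namespace Groth.Agent.S18450

open Groth.Agent.HodgeIdx81 Groth.Agent.ProjTwist Groth.Agent.PullStalk.Exact
open scoped TensorProduct

set_option linter.style.haveILetI false
attribute [local irreducible] Curv2.euler

theorem ker_eq_of_surjective {R F M : Type*} [CommRing R] [AddCommGroup F] [Module R F] [AddCommGroup M]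
    [Module R M] (eF : R ≃ₗ[R] F) (f g : F →ₗ[R] M) (hf : Function.Surjective f) (hg : Function.Surjective g)
    {a : F} (ha : f a = 0) : g a = 0 := by
  obtain ⟨r, rfl⟩ := eF.surjective a
  have hr : ∀ m : M, r • m = 0 := fun m => by
    obtain ⟨b, rfl⟩ := hf m
    obtain ⟨s, rfl⟩ := eF.surjective b
    have h1 : r • s = s • r := by simp [mul_comm]
    rw [← map_smul, ← map_smul, h1, map_smul, map_smul, ha, smul_zero]
  have h : eF r = r • eF 1 := by rw [← map_smul, smul_eq_mul, mul_one]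
  rw [h, map_smul, hr]

theorem surjective_of_comp {R F Q N : Type*} [CommRing R] [IsLocalRing R] [AddCommGroup F] [Module R F]
    [AddCommGroup Q] [Module R Q] [AddCommGroup N] [Module R N] [Nontrivial N] (e : Q)
    (he : ∀ q : Q, ∃ r : R, q = r • e) (f : F →ₗ[R] Q) (p : Q →ₗ[R] N)
    (hp : Function.Surjective p) (h : ∀ n, ∃ y, p (f y) = n) : Function.Surjective f := by
  obtain ⟨y, hy⟩ := h (p e)
  obtain ⟨a, ha⟩ := he (f y)
  rw [ha, map_smul] at hy
  have hu : IsUnit a := by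
    rcases IsLocalRing.isUnit_or_isUnit_one_sub_self a with h1 | h1
    · exact h1
    · exfalso
      have h0 : p e = 0 := h1.smul_eq_zero.1 (by rw [sub_smul, one_smul, hy, sub_self])
      obtain ⟨n, hn⟩ := exists_ne (0 : N)
      obtain ⟨q, rfl⟩ := hp n
      obtain ⟨r, rfl⟩ := he q
      exact hn (by rw [map_smul, h0, smul_zero])
  intro q
  obtain ⟨r, rfl⟩ := he q
  obtain ⟨b, hb⟩ := hu.exists_left_inv
  exact ⟨(r * b) • y, by rw [map_smul, ha, smul_smul, mul_assoc, hb, mul_one]⟩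

section
variable {X : Scheme.{u}}

theorem stalk_surjective {A B : X.Modules} (g : A ⟶ B) [Epi g] (x : X) :
    Function.Surjective (stalkLin g x) :=
  (PullStalk.Exact.stalk_exact (S := ShortComplex.mk (kernel.ι g) g (kernel.condition g))
    { exact := ShortComplex.exact_of_f_is_kernel _ (kernelIsKernel g)
      mono_f := inferInstanceAs (Mono (kernel.ι g))
      epi_g := ‹Epi g› } x).2.2

theorem nontrivial_stalk_quot {C : X.IdealSheafData} (hC : BlowUp.IsEffCartierIdeal C) {x : X}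
    (hx : x ∈ (C.support : Set X)) : Nontrivial ((ClSub.quotMod C).presheaf.stalk x) := by
  by_contra hn
  haveI := not_nontrivial_iff_subsingleton.1 hn
  obtain ⟨U, hU, g, hg, he⟩ := hC x
  obtain ⟨eO⟩ := EulerChar.stalk_ofRank (isFinLocFreeOfRank_one (PicLoc.isInvertible_structureModule X)) x
  obtain ⟨s, hs⟩ := (CartFilt.range_idealModι (I := C) (U := U) (g := g) ⟨hg, he⟩ hU (eO fun _ => 1)).1
    (((PullStalk.Exact.stalk_exact (EulerChar.shortExact_ideal C) x).2.1 _).1 (Subsingleton.elim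
      (α := (ClSub.quotMod C).presheaf.stalk x) _ _))
  have h := congrArg (fun t => eO.symm t 0) hs
  simp only [map_smul, LinearEquiv.symm_apply_apply, Pi.smul_apply, smul_eq_mul] at h
  have hu : IsUnit (X.presheaf.germ U.1 x hU g) := IsUnit.of_mul_eq_one _ h
  have h2 := (Scheme.mem_zeroLocus_iff _ _ _).mp ((Scheme.IdealSheafData.mem_support_iff_of_mem hU).mp hx)
    g (he ▸ Ideal.mem_span_singleton_self g)
  exact h2 ((Scheme.mem_basicOpen _ _ x hU).mpr hu)

variable (k : Type u) [Field k] [X.Over (Spec (CommRingCat.of k))]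

theorem mapL_secEquiv {M N : X.Modules} (φ : Coh.structureModule X ⟶ M) (g : M ⟶ N)
    (h : φ ≫ g = 0) : CurveCoh.mapL k g 0 (ShStabLib.BC.secEquiv k M φ) = 0 := by
  have hs : VBLib.GenusZero.toSec M (ShStabLib.BC.secEquiv k M φ) = Props.GenLocus.sec φ ⊤ :=
    AddEquiv.apply_symm_apply _ _
  refine (VBLib.GenusZero.toSec N).injective ?_
  rw [map_zero, VBLib.GenusZero.toSec_mapL, hs]
  show Props.GenLocus.sec (φ ≫ g) ⊤ = 0
  rw [h]
  rfl

include k in
theorem subsingleton_HH_of_stalks {M : X.Modules} (h : ∀ x, Subsingleton (M.presheaf.stalk x)) (i : ℕ) :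
    Subsingleton (Coh.HH X M i) := by
  have h0 : 𝟙 M = (0 : k) • 𝟙 M := Omega.Stalks.hom_ext_stalk fun x =>
    LinearMap.ext fun t => @Subsingleton.elim _ (h x) _ _
  refine subsingleton_of_forall_eq 0 fun y => ?_
  have h1 : CurveCoh.mapL k (𝟙 M) i y = CurveCoh.mapL k ((0 : k) • 𝟙 M) i y := by rw [← h0]
  rw [VBLib.GenusZero.mapL_id, VBLib.GenusZero.mapL_smul, LinearMap.id_apply, LinearMap.smul_apply,
    zero_smul] at h1
  exact h1

variable [IsProper (X ↘ Spec (CommRingCat.of k))] [IsIntegral X]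
  (hdim : topologicalKrullDim X = ((2 : ℕ) : WithBot ℕ∞))
  (hreg : ∀ x : X, IsRegularLocalRing (X.presheaf.stalk x))

include k hdim in
theorem exists_curve {Z : X.IdealSheafData} (hZ : BlowUp.IsEffCartierIdeal Z) {x : X}
    (hx : x ∈ (Z.support : Set X)) :
    ∃ ξ : X, ξ ⤳ x ∧ ξ ∈ (Z.support : Set X) ∧
      topologicalKrullDim ↥((IntMult.ptIdeal ξ).support : Set X) = ((1 : ℕ) : WithBot ℕ∞) := by
  haveI := EulerChar.isNoetherian k (X := X)
  obtain ⟨U, hU, f, hf, he⟩ := hZ x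
  have hxf : Z.ideal U ≤ (U.2.primeIdealOf ⟨x, hU⟩).asIdeal := fun a ha => by
    by_contra hne
    have h1 : U.2.primeIdealOf ⟨x, hU⟩ ∈ PrimeSpectrum.basicOpen a := hne
    rw [← U.2.fromSpec_preimage_basicOpen] at h1
    have h2 : U.2.fromSpec (U.2.primeIdealOf ⟨x, hU⟩) ∈ X.basicOpen a := h1
    rw [U.2.fromSpec_primeIdealOf] at h2
    exact (Scheme.mem_zeroLocus_iff _ _ _).mp ((Scheme.IdealSheafData.mem_support_iff_of_mem hU).mp hx) a ha h2
  haveI : IsNoetherianRing Γ(X, U.1) := IsLocallyNoetherian.component_noetherian U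
  obtain ⟨q, hq, hqle⟩ := Ideal.exists_minimalPrimes_le (I := Z.ideal U)
    (J := (U.2.primeIdealOf ⟨x, hU⟩).asIdeal) hxf
  haveI := hq.1.1
  haveI : (Z.ideal U).IsPrincipal := by rw [he]; exact ⟨_, rfl⟩
  have hht : q.height ≤ 1 := Ideal.height_le_one_of_isPrincipal_of_mem_minimalPrimes (Z.ideal U) q hq
  let p : PrimeSpectrum Γ(X, U.1) := ⟨q, hq.1.1⟩
  have hξU : U.2.fromSpec p ∈ U.1 := U.2.range_fromSpec.le ⟨p, rfl⟩
  have hξx : U.2.fromSpec p ⤳ x := by
    have := ((PrimeSpectrum.le_iff_specializes p (U.2.primeIdealOf ⟨x, hU⟩)).mp hqle).map U.2.fromSpec.continuous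
    rwa [U.2.fromSpec_primeIdealOf] at this
  have hξZ : U.2.fromSpec p ∈ (Z.support : Set X) := by
    refine (Scheme.IdealSheafData.mem_support_iff_of_mem hξU).mpr ?_
    rw [Scheme.mem_zeroLocus_iff]
    intro a ha h
    have : p ∈ U.2.fromSpec ⁻¹ᵁ X.basicOpen a := h
    rw [U.2.fromSpec_preimage_basicOpen] at this
    exact this (hq.1.2 ha)
  refine ⟨_, hξx, hξZ, ?_⟩
  have hp : U.2.primeIdealOf ⟨U.2.fromSpec p, hξU⟩ = p :=
    U.2.fromSpec.isOpenEmbedding.injective (U.2.fromSpec_primeIdealOf _)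
  letI := TopCat.Presheaf.algebra_section_stalk X.presheaf (⟨U.2.fromSpec p, hξU⟩ : U.1)
  haveI : IsLocalization.AtPrime (X.presheaf.stalk (U.2.fromSpec p))
      (U.2.primeIdealOf ⟨U.2.fromSpec p, hξU⟩).asIdeal := U.2.isLocalization_stalk ⟨U.2.fromSpec p, hξU⟩
  have hco : Order.coheight (U.2.fromSpec p) ≤ 1 := by
    have h := IsLocalization.AtPrime.ringKrullDim_eq_height (U.2.primeIdealOf ⟨U.2.fromSpec p, hξU⟩).asIdeal
      (X.presheaf.stalk (U.2.fromSpec p))
    rw [ringKrullDim_stalk_eq_coheight, WithBot.coe_inj] at h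
    rw [h, hp]
    exact hht
  have hη : VarDim.dimPt k X (genericPoint X) = 2 := by
    have h := (VarDim.topologicalKrullDim_eq_of_irreducible k (X := X)).symm.trans hdim
    exact_mod_cast h
  have h2 := VarDim.le_coheight k (x := U.2.fromSpec p) (y := genericPoint X) (genericPoint_specializes _)
  have hne : (Z.support : Set X) ≠ Set.univ := fun hu => by
    obtain ⟨y, -, hy⟩ := IdealSh.exists_generization Z hZ hx
    exact hy (hu ▸ Set.mem_univ y : y ∈ (Z.support : Set X))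
  have hd1 : VarDim.dimPt k X (U.2.fromSpec p) ≤ 1 := by
    have h1 := (CohDev.dim_mono (closure_minimal (Set.singleton_subset_iff.2 hξZ) Z.support.isClosed)).trans
      (Fundamental.dim_le_one hdim Z.support.isClosed hne)
    have h := FibBound.topDim_closure_singleton k (U.2.fromSpec p)
    rw [h] at h1
    exact_mod_cast h1
  have h3 : VarDim.dimPt k X (U.2.fromSpec p) = 1 := by
    rw [hη] at h2
    have h4 := h2.trans hco
    generalize VarDim.dimPt k X (U.2.fromSpec p) = d at h4 hd1 ⊢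
    interval_cases d
    · exact absurd h4 (by decide)
    · rfl
  rw [CohDev.coe_support_ptIdeal]
  exact (FibBound.topDim_closure_singleton k (U.2.fromSpec p)).trans (by rw [h3])

variable [IsAlgClosed k]

set_option maxHeartbeats 1000000 in
include hdim hreg in
theorem h0_rest {Z : X.IdealSheafData} (hZ : FGA.IsEffCartier Z)
    (hnc : ∀ Z₁ Z₂ : X.IdealSheafData, FGA.IsEffCartier Z₁ → FGA.IsEffCartier Z₂ → Z₁ ≠ ⊤ → Z₂ ≠ ⊤ →
      Z = Z₁ * Z₂ → 0 < pr k (ClSub.idealMod Z₁) (ClSub.idealMod Z₂))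
    {L : X.Modules} (hL : PicF.IsInvertible L)
    (hdeg : ∀ C : X.IdealSheafData, IsIntegral C.subscheme →
      topologicalKrullDim ↥(C.support : Set X) = ((1 : ℕ) : WithBot ℕ∞) → Z ≤ C →
      NumTriv.deg1 k (ClSub.quotMod C) L ≤ 0)
    {W J : X.IdealSheafData} (hW : BlowUp.IsEffCartierIdeal W) (hJ : BlowUp.IsEffCartierIdeal J)
    (hW0 : W ≠ ⊤) (hZWJ : Z = W * J) :
    Subsingleton (Coh.HH X (CohB1.tensorMod (CohB1.tensorMod L (ClSub.idealMod W)) (ClSub.quotMod J)) 0) := by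
  obtain ⟨A, hA⟩ := exists_ample k hreg hdim
  haveI := EulerChar.isNoetherian k (X := X)
  suffices key : ∀ (n : ℕ) (W J : X.IdealSheafData), BlowUp.IsEffCartierIdeal W → BlowUp.IsEffCartierIdeal J →
      W ≠ ⊤ → Z = W * J → -pr k A (ClSub.idealMod J) ≤ n →
      Subsingleton (Coh.HH X (CohB1.tensorMod (CohB1.tensorMod L (ClSub.idealMod W)) (ClSub.quotMod J)) 0) from
    key _ W J hW hJ hW0 hZWJ (Int.self_le_toNat _)
  intro n
  induction n using Nat.strong_induction_on with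
  | _ n ih =>
    intro W J hW hJ hW0 hZWJ hn
    by_cases hJ0 : J = ⊤
    · refine subsingleton_HH_of_stalks k (fun x => ?_) 0
      by_contra hns
      have h1 := EulerChar.support_quotMod_subset J (CohDev.support_tens_subset (CohB1.tensorMod L (ClSub.idealMod W)) (ClSub.quotMod J)
        (show x ∈ CohB1.support (CohDev.tens (CohB1.tensorMod L (ClSub.idealMod W)) (ClSub.quotMod J)) from hns))
      rw [hJ0, Scheme.IdealSheafData.support_top] at h1
      exact h1
    have hWi := IdealSh.IdealMod.isInvertible_of_isEffCartierIdeal W hW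
    have hpos := hnc W J hW hJ hW0 hJ0 hZWJ
    obtain ⟨s, m, hs, hp⟩ := Sub.pr_ideal_pieces k hdim hreg (I := J) hJ
    rw [hp _ hWi] at hpos
    obtain ⟨ξ, hξ, hξpos⟩ : ∃ ξ ∈ s, 0 < pr k (ClSub.idealMod W) (ClSub.idealMod (IntMult.ptIdeal ξ)) := by
      by_contra h
      push Not at h
      exact hpos.not_ge (Finset.sum_nonpos fun ξ hξ =>
        mul_nonpos_of_nonneg_of_nonpos (Int.natCast_nonneg _) (h ξ hξ))
    obtain ⟨hξJ, hint, hd1, hCi⟩ := hs ξ hξ
    haveI := hint
    obtain ⟨J', hJ', hJJ'⟩ := Sub.exists_split k hdim hreg hJ hξJ hd1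
    have hC := Sub.isEffCartier_curve k hdim hreg (IntMult.ptIdeal ξ) hd1
    have hV : PicF.IsInvertible (CohB1.tensorMod L (ClSub.idealMod W)) := AmpleLib.isInvertible_tensorMod hL hWi
    have hAJ := Fundamental.pr_mul k hdim hJ' hC hA.1
    rw [hJJ'] at hAJ
    have hAC := RealNakai.pr_ample_curve k hA _ hd1 hCi
    have hAJ' := Fundamental.pr_ample_nonpos k hdim hreg hA hJ'
    haveI hind := ih (-pr k A (ClSub.idealMod J')).toNat (by omega) (W * IntMult.ptIdeal ξ) J'
      (IdealSh.EffCartier.mul hW hC) hJ'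
      (fun h => Fundamental.curve_ne_top (IntMult.ptIdeal ξ)
        (top_le_iff.1 (h ▸ Fundamental.mul_le_right' W (IntMult.ptIdeal ξ))))
      (by rw [hZWJ, ← hJJ', mul_comm J', mul_assoc]) (Int.self_le_toNat _)
    obtain ⟨S, hS, ⟨e₁⟩, ⟨e₂⟩, ⟨e₃⟩⟩ := Sub.exists_mulShort k hC hJ'
    rw [mul_comm, hJJ'] at e₂
    let V := CohB1.tensorMod L (ClSub.idealMod W)
    let F := (DCoh.tensorBi (X := X)).obj V
    let S' := ShortComplex.mk (F.map S.f) (F.map S.g) (by rw [← F.map_comp, S.zero, F.map_zero])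
    have hS' : S'.ShortExact := CohDev.tens_shortExact (isFinLocFreeOfRank_one hV) hS
    let i₁ : CohB1.tensorMod V S.X₁ ≅ S'.X₁ := Iso.refl (F.obj S.X₁)
    let i₂ : CohB1.tensorMod V S.X₂ ≅ S'.X₂ := Iso.refl (F.obj S.X₂)
    let i₃ : CohB1.tensorMod V S.X₃ ≅ S'.X₃ := Iso.refl (F.obj S.X₃)
    have hZC : Z ≤ IntMult.ptIdeal ξ := by
      rw [hZWJ, ← hJJ', ← mul_assoc]; exact Fundamental.mul_le_right' _ _
    have hlt : NumTriv.deg1 k (ClSub.quotMod (IntMult.ptIdeal ξ)) V < 0 := by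
      have h := hdeg _ hint hd1 hZC
      rw [deg1_quotMod k hCi hL] at h
      rw [deg1_quotMod k hCi hV, pr_add_left k hdim.le hL hWi hCi]
      omega
    haveI := (Sub.curve_h0 k _ hd1 hV hlt.le).2 hlt
    haveI h3 : Subsingleton (Coh.HH X S'.X₃ 0) :=
      AmpCrit.subsingleton_HH_of_iso (tensCongr (Iso.refl V) e₃.symm ≪≫ i₃) 0
    obtain ⟨eW⟩ := VertInter.nonempty_idealMod_mul hW hC
    haveI h1 : Subsingleton (Coh.HH X S'.X₁ 0) := AmpCrit.subsingleton_HH_of_iso
      (tensCongr (tensCongr (Iso.refl L) eW.symm ≪≫ (tensAssoc L (ClSub.idealMod W) _).symm) (Iso.refl _) ≪≫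
        tensAssoc V _ _ ≪≫ tensCongr (Iso.refl V) e₁.symm ≪≫ i₁) 0
    haveI : Subsingleton (Coh.HH X S'.X₂ 0) := subsingleton_of_forall_eq 0 fun y => by
      obtain ⟨z, hz⟩ := ((CurveCoh.exact_mapL k hS' 0) y).mp (Subsingleton.elim _ _)
      rw [← hz, Subsingleton.elim z 0, map_zero]
    exact AmpCrit.subsingleton_HH_of_iso (i₂.symm ≪≫ tensCongr (Iso.refl V) e₂) 0

end

/-- Let k be an algebraically closed field of characteristic zero and X a smooth projective surface over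
k (integral, proper and smooth over k, of dimension 2). Let Z be a nonzero effective Cartier divisor
on X (ideal sheaf I_Z ≠ O_X) which is numerically connected: whenever I_Z = I_{Z₁} · I_{Z₂} with Z₁,
Z₂ nonzero effective Cartier divisors, (Z₁·Z₂) = χ(O_X) − χ(I_{Z₁}) − χ(I_{Z₂}) + χ(I_{Z₁} ⊗ I_{Z₂})
> 0. Let L be an invertible O_X-module whose degree χ(O_C ⊗ L) − χ(O_C) is ≤ 0 on every integral
curve C contained in Z (integral closed one-dimensional C with I_Z ⊆ I_C). Then H⁰(Z, L|_Z) has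
dimension at most 1 over k, and if the dimension is 1 then L|_Z ≅ O_Z (existence of an isomorphism);
here L|_Z = O_Z ⊗ L with O_Z the direct image on X of the structure sheaf of Z. The published
statement is over the complex numbers, for a connected cycle admitting a computation sequence, which
numerical connectedness provides, and for any line bundle on Z; this row takes restrictions of
invertible O_X-modules. The converse, that the dimension is 1 when L|_Z is trivial, is not restated. -/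
theorem result (k : Type u) [Field k] [IsAlgClosed k] [CharZero k]
    (X : Scheme.{u}) [X.Over (Spec (CommRingCat.of k))] [IsProper (X ↘ (Spec (CommRingCat.of k)))]
    [Smooth (X ↘ (Spec (CommRingCat.of k)))] [IsIntegral X] (hdim : topologicalKrullDim X = 2)
    (Z : X.IdealSheafData) (hZ : FGA.IsEffCartier Z) (hZ0 : Z ≠ ⊤)
    (hnc : ∀ Z₁ Z₂ : X.IdealSheafData, FGA.IsEffCartier Z₁ → FGA.IsEffCartier Z₂ → Z₁ ≠ ⊤ → Z₂ ≠ ⊤ →
      Z = Z₁ * Z₂ → 0 < FGA.intNum k X 2 ![(ClSub.idealMod Z₁), (ClSub.idealMod Z₂)] (Coh.structureModule X))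
    (L : X.Modules) (hL : PicF.IsInvertible L)
    (hdeg : ∀ C : X.IdealSheafData, IsIntegral C.subscheme → topologicalKrullDim (C.support : Set X) = 1 → Z ≤ C →
      Curv2.euler k X (CohB1.tensorMod (ClSub.quotMod C) L) - Curv2.euler k X (ClSub.quotMod C) ≤ 0) :
    Module.finrank k (Coh.HH X (CohB1.tensorMod (ClSub.quotMod Z) L) 0) ≤ 1 ∧
      (Module.finrank k (Coh.HH X (CohB1.tensorMod (ClSub.quotMod Z) L) 0) = 1 →
        Nonempty (CohB1.tensorMod (ClSub.quotMod Z) L ≅ ClSub.quotMod Z)) := by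
  classical
  have hd : topologicalKrullDim X = ((2 : ℕ) : WithBot ℕ∞) := by rw [hdim]; norm_num
  have hreg : ∀ x : X, IsRegularLocalRing (X.presheaf.stalk x) :=
    CurveDVR.isRegularLocalRing_stalk (X ↘ (Spec (CommRingCat.of k)))
  haveI := EulerChar.isNoetherian k (X := X)
  have hnc' : ∀ Z₁ Z₂ : X.IdealSheafData, FGA.IsEffCartier Z₁ → FGA.IsEffCartier Z₂ → Z₁ ≠ ⊤ → Z₂ ≠ ⊤ →
      Z = Z₁ * Z₂ → 0 < pr k (ClSub.idealMod Z₁) (ClSub.idealMod Z₂) := fun Z₁ Z₂ h₁ h₂ n₁ n₂ e => by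
    rw [← intNum_eq_pr k hd (IdealSh.IdealMod.isInvertible_of_isEffCartierIdeal Z₁ h₁)
      (IdealSh.IdealMod.isInvertible_of_isEffCartierIdeal Z₂ h₂)]
    exact hnc Z₁ Z₂ h₁ h₂ n₁ n₂ e
  have hdeg' : ∀ C : X.IdealSheafData, IsIntegral C.subscheme →
      topologicalKrullDim ↥(C.support : Set X) = ((1 : ℕ) : WithBot ℕ∞) → Z ≤ C →
      NumTriv.deg1 k (ClSub.quotMod C) L ≤ 0 := fun C h1 h2 h3 => hdeg C h1 (h2.trans rfl) h3
  have hle := Sub.finrank_le_one k hd hreg hZ hZ0 hnc' hL hdeg'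
  rw [Pn.finrank_hh_iso (k := k) (tensComm L (ClSub.quotMod Z)) 0] at hle
  refine ⟨hle, fun h1 => ?_⟩
  rw [← Pn.finrank_hh_iso (k := k) (tensComm L (ClSub.quotMod Z)) 0] at h1
  have hfin : Module.finrank k (Coh.structureModule X ⟶ CohB1.tensorMod L (ClSub.quotMod Z)) = 1 :=
    (ShStabLib.BC.secEquiv k _).finrank_eq.trans h1
  obtain ⟨φ, hφ⟩ : ∃ φ : Coh.structureModule X ⟶ CohB1.tensorMod L (ClSub.quotMod Z), φ ≠ 0 := by
    by_contra h
    push Not at h
    haveI : Subsingleton (Coh.structureModule X ⟶ CohB1.tensorMod L (ClSub.quotMod Z)) :=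
      subsingleton_of_forall_eq 0 h
    rw [Module.finrank_zero_of_subsingleton] at hfin
    exact zero_ne_one hfin
  let πZ : Coh.structureModule X ⟶ ClSub.quotMod Z := ClSub.toSubscheme Z
  haveI : Epi πZ := (EulerChar.shortExact_ideal Z).epi_g
  obtain ⟨eO⟩ : Nonempty (∀ x : X, X.presheaf.stalk x ≃ₗ[X.presheaf.stalk x]
      (Coh.structureModule X).presheaf.stalk x) := ⟨fun x =>
    (LinearEquiv.funUnique (Fin 1) _ _).symm ≪≫ₗ
      (EulerChar.stalk_ofRank (isFinLocFreeOfRank_one (PicLoc.isInvertible_structureModule X)) x).some⟩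
  -- the stalks of `L ⊗ O_Z`
  obtain ⟨eQ⟩ : Nonempty (∀ x : X, (CohB1.tensorMod L (ClSub.quotMod Z)).presheaf.stalk x ≃ₗ[X.presheaf.stalk x]
      (ClSub.quotMod Z).presheaf.stalk x) := ⟨fun x =>
    KFlat.StalkTensor.stalkTensorEquiv L (ClSub.quotMod Z) x ≪≫ₗ
      TensorProduct.congr ((EulerChar.stalk_ofRank (isFinLocFreeOfRank_one hL) x).some.symm ≪≫ₗ
        LinearEquiv.funUnique (Fin 1) _ _) (LinearEquiv.refl _ _) ≪≫ₗ TensorProduct.lid _ _⟩
  have hsur : ∀ x : X, Function.Surjective (stalkLin φ x) := by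
    intro x
    by_cases hx : x ∈ (Z.support : Set X)
    swap
    · haveI : Subsingleton ((ClSub.quotMod Z).presheaf.stalk x) := by
        by_contra hns
        exact hx (EulerChar.support_quotMod_subset Z hns)
      haveI : Subsingleton ((CohB1.tensorMod L (ClSub.quotMod Z)).presheaf.stalk x) :=
        (eQ x).toEquiv.subsingleton
      exact fun y => ⟨0, Subsingleton.elim _ _⟩
    obtain ⟨ξ, hξx, hξZ, hd1⟩ := exists_curve k hd hZ hx
    haveI : IsIntegral (IntMult.ptIdeal ξ).subscheme :=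
      S16188.isIntegral_subscheme _ isIrreducible_singleton.closure
    have hxC : x ∈ ((IntMult.ptIdeal ξ).support : Set X) := by
      rw [CohDev.coe_support_ptIdeal]; exact hξx.mem_closure
    obtain ⟨R, hR, hRZ⟩ := Sub.exists_split k hd hreg hZ hξZ hd1
    have hC := Sub.isEffCartier_curve k hd hreg (IntMult.ptIdeal ξ) hd1
    have hCi := IdealSh.IdealMod.isInvertible_of_isEffCartierIdeal _ hC
    have hZC : Z ≤ IntMult.ptIdeal ξ := hRZ ▸ Fundamental.mul_le_right' _ _
    obtain ⟨S, hS, ⟨e₁⟩, ⟨e₂⟩, ⟨e₃⟩⟩ := Sub.exists_mulShort k hC hR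
    rw [mul_comm, hRZ] at e₂
    let F := (DCoh.tensorBi (X := X)).obj L
    let S' := ShortComplex.mk (F.map S.f) (F.map S.g) (by rw [← F.map_comp, S.zero, F.map_zero])
    have hS' : S'.ShortExact := CohDev.tens_shortExact (isFinLocFreeOfRank_one hL) hS
    let i₁ : CohB1.tensorMod L S.X₁ ≅ S'.X₁ := Iso.refl (F.obj S.X₁)
    let j₂ : CohB1.tensorMod L (ClSub.quotMod Z) ≅ S'.X₂ :=
      tensCongr (Iso.refl L) e₂.symm ≪≫ (Iso.refl (F.obj S.X₂) : CohB1.tensorMod L S.X₂ ≅ S'.X₂)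
    let j₃ : S'.X₃ ≅ CohB1.tensorMod L (ClSub.quotMod (IntMult.ptIdeal ξ)) :=
      (Iso.refl (F.obj S.X₃) : S'.X₃ ≅ CohB1.tensorMod L S.X₃) ≪≫ tensCongr (Iso.refl L) e₃
    haveI := h0_rest k hd hreg hZ hnc' hL hdeg' hC hR (Fundamental.curve_ne_top _)
      (by rw [← hRZ, mul_comm])
    haveI hX1 : Subsingleton (Coh.HH X S'.X₁ 0) :=
      AmpCrit.subsingleton_HH_of_iso (tensAssoc _ _ _ ≪≫ tensCongr (Iso.refl L) e₁.symm ≪≫ i₁) 0
    have hne : φ ≫ j₂.hom ≫ S'.g ≠ 0 := fun h => by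
      have h0 : CurveCoh.mapL k S'.g 0 (ShStabLib.BC.secEquiv k S'.X₂ (φ ≫ j₂.hom)) = 0 :=
        mapL_secEquiv k _ _ (by rw [Category.assoc, h])
      obtain ⟨w, hw⟩ := ((CurveCoh.exact_mapL k hS' 0) _).mp h0
      rw [Subsingleton.elim w 0, map_zero] at hw
      have h2 : φ ≫ j₂.hom = 0 := (LinearEquiv.map_eq_zero_iff _).1 hw.symm
      exact hφ ((cancel_mono j₂.hom).1 (h2.trans zero_comp.symm))
    let ψ : Coh.structureModule X ⟶ CohB1.tensorMod L (ClSub.quotMod (IntMult.ptIdeal ξ)) :=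
      φ ≫ j₂.hom ≫ S'.g ≫ j₃.hom
    have hψ : ψ ≠ 0 := fun h => hne ((cancel_mono j₃.hom).1 (by simpa [ψ] using h))
    -- `L` is trivial on the curve
    have hdegC := hdeg' _ inferInstance hd1 hZC
    obtain ⟨hLC, hLC'⟩ := Sub.curve_h0 k _ hd1 hL hdegC
    have hd0 : NumTriv.deg1 k (ClSub.quotMod (IntMult.ptIdeal ξ)) L = 0 := by
      refine le_antisymm hdegC (le_of_not_gt fun hlt => hψ ?_)
      haveI := hLC' hlt
      exact (ShStabLib.BC.secEquiv k _).injective (Subsingleton.elim _ _)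
    obtain ⟨eC⟩ : Nonempty (CohB1.tensorMod L (ClSub.quotMod (IntMult.ptIdeal ξ)) ≅
        ClSub.quotMod (IntMult.ptIdeal ξ)) := by
      letI : (IntMult.ptIdeal ξ).subscheme.Over (Spec (CommRingCat.of k)) :=
        ⟨(IntMult.ptIdeal ξ).subschemeι ≫ (X ↘ Spec (CommRingCat.of k))⟩
      haveI : IsProper ((IntMult.ptIdeal ξ).subscheme ↘ Spec (CommRingCat.of k)) :=
        inferInstanceAs (IsProper ((IntMult.ptIdeal ξ).subschemeι ≫ (X ↘ Spec (CommRingCat.of k))))
      have hdC : topologicalKrullDim (IntMult.ptIdeal ξ).subscheme = 1 := by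
        rw [IsHomeomorph.topologicalKrullDim_eq _ ((IntMult.ptIdeal ξ).subschemeι.isEmbedding.toHomeomorph.trans
          (Homeomorph.setCongr (IntMult.ptIdeal ξ).range_subschemeι)).isHomeomorph]
        exact hd1.trans rfl
      let P := (Scheme.Modules.pullback (IntMult.ptIdeal ξ).subschemeι).obj L
      have hP : PicF.IsInvertible P := PicCl.isInvertible_pullback _ hL
      let e : CohB1.tensorMod L (ClSub.quotMod (IntMult.ptIdeal ξ)) ≅
          (Scheme.Modules.pushforward (IntMult.ptIdeal ξ).subschemeι).obj P :=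
        EulerChar.tensQuotIso (IntMult.ptIdeal ξ).subschemeι L
      obtain ⟨E⟩ := EulerChar.nonempty_pushEquiv (A := k) (IntMult.ptIdeal ξ).subschemeι rfl P
        (ProjTwist.isQCoh_of_isInvertible hP) 0
      have e3 := BigVol.CurveTest.euler_sub_eq_deg k (IntMult.ptIdeal ξ) hL
      simp only [Curv2.deg, Nat.cast_one, one_mul] at e3
      have hn : Nontrivial (Coh.HH (IntMult.ptIdeal ξ).subscheme P 0) :=
        not_subsingleton_iff_nontrivial.1 fun hs => hψ <| by
          haveI := hs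
          haveI : Subsingleton (Coh.HH X ((Scheme.Modules.pushforward (IntMult.ptIdeal ξ).subschemeι).obj P) 0) :=
            E.toEquiv.subsingleton
          haveI := AmpCrit.subsingleton_HH_of_iso e.symm 0
          exact (ShStabLib.BC.secEquiv k _).injective (Subsingleton.elim _ _)
      obtain ⟨c, hc⟩ := @exists_ne _ hn 0
      obtain ⟨-, hiso⟩ := EulerChar.euler_le_of_ne_zero
        (PicLoc.isInvertible_structureModule (IntMult.ptIdeal ξ).subscheme) hP
        ((ShStabLib.BC.secEquiv k P).symm c) (fun h => hc ((LinearEquiv.map_eq_zero_iff _).1 h)) k hdC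
      have h0' : Curv2.euler k (IntMult.ptIdeal ξ).subscheme P -
          Curv2.euler k (IntMult.ptIdeal ξ).subscheme (Coh.structureModule (IntMult.ptIdeal ξ).subscheme) = 0 :=
        e3.symm.trans hd0
      haveI := hiso (eq_of_sub_eq_zero h0').symm
      exact ⟨e ≪≫ (Scheme.Modules.pushforward (IntMult.ptIdeal ξ).subschemeι).mapIso
        (asIso ((ShStabLib.BC.secEquiv k P).symm c)).symm⟩
    let πC : Coh.structureModule X ⟶ ClSub.quotMod (IntMult.ptIdeal ξ) := ClSub.toSubscheme (IntMult.ptIdeal ξ)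
    haveI : Epi πC := (EulerChar.shortExact_ideal (IntMult.ptIdeal ξ)).epi_g
    haveI := nontrivial_stalk_quot hC hxC
    have hπ : πC ≠ 0 := fun h => by
      obtain ⟨v, hv⟩ := exists_ne (0 : (ClSub.quotMod (IntMult.ptIdeal ξ)).presheaf.stalk x)
      obtain ⟨y, hy⟩ := stalk_surjective πC x v
      exact hv (by rw [← hy, h, CohDev.stalkLin_zero_apply])
    haveI := EulerChar.finite_HH k _ (EulerChar.isCoh_quotMod k (IntMult.ptIdeal ξ)) 0
    haveI : Module.Finite k (Coh.structureModule X ⟶ ClSub.quotMod (IntMult.ptIdeal ξ)) :=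
      Module.Finite.equiv (ShStabLib.BC.secEquiv k _).symm
    have hone : Module.finrank k (Coh.structureModule X ⟶ ClSub.quotMod (IntMult.ptIdeal ξ)) = 1 := by
      refine le_antisymm ?_ (Module.finrank_pos_iff_exists_ne_zero.2 ⟨πC, hπ⟩)
      rw [(ShStabLib.BC.secEquiv k _).finrank_eq, ← Pn.finrank_hh_iso (k := k) eC 0]
      exact hLC
    obtain ⟨c, hc⟩ := (finrank_eq_one_iff_of_nonzero' πC hπ).1 hone (ψ ≫ eC.hom)
    have hc0 : c ≠ 0 := fun h => hψ ((cancel_mono eC.hom).1 (by rw [← hc, h, zero_smul, zero_comp]))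
    haveI hepi : Epi (ψ ≫ eC.hom) := Preadditive.epi_of_cancel_zero _ fun v hv => by
      rw [← hc, Linear.smul_comp] at hv
      exact (cancel_epi πC).1 (((smul_eq_zero_iff_right hc0).1 hv).trans comp_zero.symm)
    let p := j₂.hom ≫ S'.g ≫ j₃.hom ≫ eC.hom
    haveI : Epi S'.g := hS'.epi_g
    haveI : Epi p := inferInstanceAs (Epi (j₂.hom ≫ S'.g ≫ j₃.hom ≫ eC.hom))
    obtain ⟨q₀, hq₀⟩ : ∃ e : (CohB1.tensorMod L (ClSub.quotMod Z)).presheaf.stalk x,
        ∀ q, ∃ r : X.presheaf.stalk x, q = r • e := by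
      refine ⟨(eQ x).symm (stalkLin πZ x (eO x 1)), fun q => ?_⟩
      obtain ⟨y, hy⟩ := stalk_surjective πZ x (eQ x q)
      obtain ⟨r, rfl⟩ := (eO x).surjective y
      refine ⟨r, (eQ x).injective ?_⟩
      rw [map_smul, LinearEquiv.apply_symm_apply, ← map_smul, ← map_smul, smul_eq_mul, mul_one, hy]
    refine surjective_of_comp q₀ hq₀ (stalkLin φ x) (stalkLin p x) (stalk_surjective p x) fun v => ?_
    obtain ⟨y, hy⟩ := stalk_surjective (ψ ≫ eC.hom) x v
    refine ⟨y, ?_⟩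
    rw [← Omega.Stalks.stalkLin_comp]
    simpa [p, ψ] using hy
  -- compare with `O → O_Z`
  have hker : ∀ x a, (stalkLin φ x a = 0 ↔ stalkLin πZ x a = 0) := fun x a => by
    have h1 : Function.Surjective ((eQ x).toLinearMap ∘ₗ stalkLin φ x) := (eQ x).surjective.comp (hsur x)
    refine ⟨fun h => ker_eq_of_surjective (eO x) ((eQ x).toLinearMap ∘ₗ stalkLin φ x) (stalkLin πZ x) h1
      (stalk_surjective πZ x) ((congrArg (eQ x) h).trans (map_zero _)), fun h => ?_⟩
    exact (eQ x).map_eq_zero_iff.1 (ker_eq_of_surjective (eO x) (stalkLin πZ x)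
      ((eQ x).toLinearMap ∘ₗ stalkLin φ x) (stalk_surjective πZ x) h1 h)
  have hS := EulerChar.shortExact_ideal Z
  have hz : ClSub.idealModι Z ≫ φ = 0 := Omega.Stalks.hom_ext_stalk fun x => LinearMap.ext fun t => by
    rw [Omega.Stalks.stalkLin_comp, CohDev.stalkLin_zero_apply, hker]
    exact ((PullStalk.Exact.stalk_exact hS x).2.1 _).2 ⟨t, rfl⟩
  let ρ : ClSub.quotMod Z ⟶ CohB1.tensorMod L (ClSub.quotMod Z) :=
    hS.gIsCokernel.desc (CokernelCofork.ofπ φ hz)
  have hρ : πZ ≫ ρ = φ := hS.gIsCokernel.fac (CokernelCofork.ofπ φ hz) WalkingParallelPair.one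
  have hb : ∀ x y, stalkLin ρ x (stalkLin πZ x y) = stalkLin φ x y := fun x y => by
    rw [← Omega.Stalks.stalkLin_comp, hρ]
  haveI : IsIso ρ := Omega.Stalks.isIso_of_stalk fun x => by
    refine ⟨(injective_iff_map_eq_zero _).2 fun v hv => ?_, fun w => ?_⟩
    · obtain ⟨y, rfl⟩ := stalk_surjective πZ x v
      rw [hb, hker] at hv
      exact hv
    · obtain ⟨y, hy⟩ := hsur x w
      exact ⟨stalkLin πZ x y, (hb x y).trans hy⟩
  exact ⟨tensComm _ _ ≪≫ (asIso ρ).symm⟩

end Groth.Agent.S18450
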