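import Groth.Statements.S18451
import Groth.Agent.HodgeIdx81.RealNakai


set_option autoImplicit false
universe u
open CategoryTheory CategoryTheory.Limits AlgebraicGeometry TopologicalSpace
open Surf

namespace Groth.Agent.S18451

open Groth.Agent.HodgeIdx81

set_option linter.style.haveILetI false

/-- Let k be an algebraically closed field of characteristic zero and X a smooth projective surface over
k (integral, proper and smooth over k, of dimension 2, carrying an ample invertible module). Let
C_1, …, C_r be pairwise distinct integral curves on X (integral closed one-dimensional subschemes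
with ideal sheaves I_1, …, I_r) and write G_{ij} = (I_i·I_j) = χ(O_X) − χ(I_i) − χ(I_j) + χ(I_i ⊗
I_j) for their intersection matrix. Suppose the classes of the C_i span a negative definite
sublattice modulo numerical equivalence: for every integer vector a such that Σ_i a_i [C_i] is
numerically nontrivial, meaning that Σ_i a_i (I_i·M) ≠ 0 for some invertible O_X-module M, one has
Σ_{i,j} a_i a_j G_{ij} < 0. Then the classes are linearly independent, i.e. G itself is negative
definite: Σ_{i,j} a_i a_j G_{ij} < 0 for every nonzero integer vector a. -/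
theorem result (k : Type u) [Field k] [IsAlgClosed k] [CharZero k]
    (X : Scheme.{u}) [X.Over (Spec (CommRingCat.of k))] [IsProper (X ↘ (Spec (CommRingCat.of k)))]
    [Smooth (X ↘ (Spec (CommRingCat.of k)))] [IsIntegral X] (hdim : topologicalKrullDim X = 2)
    (hproj : ∃ H : X.Modules, CohB1.IsAmple H)
    (r : ℕ) (C : Fin r → X.IdealSheafData) (hC : Function.Injective C)
    (hCi : ∀ i, IsIntegral (C i).subscheme) (hCd : ∀ i, topologicalKrullDim ((C i).support : Set X) = 1)
    (hneg : ∀ a : Fin r → ℤ,
      (∃ M : X.Modules, PicF.IsInvertible M ∧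
        ∑ i, a i * FGA.intNum k X 2 ![(ClSub.idealMod (C i)), M] (Coh.structureModule X) ≠ 0) →
      ∑ i, ∑ j, a i * a j * FGA.intNum k X 2 ![(ClSub.idealMod (C i)), (ClSub.idealMod (C j))] (Coh.structureModule X) < 0) :
    ∀ a : Fin r → ℤ, a ≠ 0 →
      ∑ i, ∑ j, a i * a j * FGA.intNum k X 2 ![(ClSub.idealMod (C i)), (ClSub.idealMod (C j))] (Coh.structureModule X) < 0 := by
  have hd : topologicalKrullDim X = ((2 : ℕ) : WithBot ℕ∞) := by rw [hdim]; norm_num
  have hreg : ∀ x : X, IsRegularLocalRing (X.presheaf.stalk x) :=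
    CurveDVR.isRegularLocalRing_stalk (X ↘ (Spec (CommRingCat.of k)))
  have hC1 : ∀ i, topologicalKrullDim ↥((C i).support : Set X) = ((1 : ℕ) : WithBot ℕ∞) :=
    fun i => (hCd i).trans rfl
  have hI : ∀ i, PicF.IsInvertible (ClSub.idealMod (C i)) := fun i =>
    haveI := hCi i
    isInvertible_of_curve k hreg hd (C i) (hC1 i)
  let G : Fin r → Fin r → ℤ := fun i j => pr k (ClSub.idealMod (C i)) (ClSub.idealMod (C j))
  have hG0 : ∀ i j, i ≠ j → 0 ≤ G i j := fun i j hij => by
    haveI := hCi i
    haveI := hCi j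
    exact RealNakai.pr_curves_nonneg k (hC1 j) (hC1 i) (hI j) (hI i) fun h => hij (hC h).symm
  have hpn : ∀ a b : Fin r → ℤ, (∀ i, 0 ≤ a i) → (∀ i, 0 ≤ b i) → (∀ i, a i * b i = 0) →
      0 ≤ ∑ i, ∑ j, a i * b j * G i j := fun a b ha hb hab =>
    Finset.sum_nonneg fun i _ => Finset.sum_nonneg fun j _ => by
      rcases eq_or_ne i j with rfl | h
      · rw [hab, zero_mul]
      · exact mul_nonneg (mul_nonneg (ha i) (hb j)) (hG0 i j h)
  have hN : ∀ i j, FGA.intNum k X 2 ![(ClSub.idealMod (C i)), (ClSub.idealMod (C j))] (Coh.structureModule X) =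
      G i j := fun i j => intNum_eq_pr k hd (hI i) (hI j)
  obtain ⟨H, hH⟩ := hproj
  have hc : ∀ i, pr k (ClSub.idealMod (C i)) H < 0 := fun i => by
    haveI := hCi i
    rw [pr_comm]
    exact RealNakai.pr_ample_curve k hH (C i) (hC1 i) (hI i)
  intro a ha
  by_cases hM : ∃ M : X.Modules, PicF.IsInvertible M ∧
      ∑ i, a i * FGA.intNum k X 2 ![(ClSub.idealMod (C i)), M] (Coh.structureModule X) ≠ 0
  · exact hneg a hM
  exfalso
  push Not at hM
  have hzero : ∀ p : Fin r → ℤ, (∀ i, 0 ≤ p i) → (0 ≤ ∑ i, ∑ j, p i * p j * G i j) → p = 0 := by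
    intro p hp hpp
    by_contra hp0
    refine absurd (hneg p ⟨H, hH.1, fun h => hp0 (funext fun i => ?_)⟩) ?_
    · rw [Finset.sum_congr rfl fun i _ => by rw [intNum_eq_pr k hd (hI i) hH.1]] at h
      have := (Finset.sum_eq_zero_iff_of_nonpos fun j _ =>
        mul_nonpos_of_nonneg_of_nonpos (hp j) (hc j).le).1 h i (Finset.mem_univ i)
      exact (mul_eq_zero.1 this).resolve_right (hc i).ne
    · rw [Finset.sum_congr rfl fun i _ => Finset.sum_congr rfl fun j _ => by rw [hN]]
      exact hpp.not_gt
  let p : Fin r → ℤ := fun i => max (a i) 0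
  let n : Fin r → ℤ := fun i => max (-a i) 0
  have hab : ∀ i, p i * n i = 0 := fun i => by
    rcases le_total (a i) 0 with h | h <;> simp [p, n, h]
  have hGa : ∀ i, ∑ j, a j * G i j = 0 := fun i => by
    have h := hM _ (hI i)
    refine Eq.trans (Finset.sum_congr rfl fun j _ => ?_) h
    rw [hN, show G j i = G i j from pr_comm k _ _]
  have key : ∀ q : Fin r → ℤ, ∑ i, ∑ j, q i * p j * G i j = ∑ i, ∑ j, q i * n j * G i j := fun q => by
    rw [← sub_eq_zero, ← Finset.sum_sub_distrib]
    refine Finset.sum_eq_zero fun i _ => ?_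
    rw [← Finset.sum_sub_distrib, ← mul_zero (q i), ← hGa i, Finset.mul_sum]
    refine Finset.sum_congr rfl fun j _ => ?_
    rw [show a j = p j - n j by simp only [p, n]; omega]
    ring
  have hp := hzero p (fun i => le_max_right _ _) (by
    rw [key p]; exact hpn p n (fun i => le_max_right _ _) (fun i => le_max_right _ _) hab)
  have hn := hzero n (fun i => le_max_right _ _) (by
    rw [← key n]; exact hpn n p (fun i => le_max_right _ _) (fun i => le_max_right _ _)
      fun i => by rw [mul_comm]; exact hab i)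
  refine ha (funext fun i => ?_)
  have h1 := congrFun hp i
  have h2 := congrFun hn i
  simp only [p, n, Pi.zero_apply] at h1 h2 ⊢
  omega

end Groth.Agent.S18451
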