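import Groth.Statements.S18454
import Groth.Agent.HodgeIdx81.Fundamental


set_option autoImplicit false
universe u
open CategoryTheory CategoryTheory.Limits AlgebraicGeometry TopologicalSpace
open Surf

namespace Groth.Agent.S18454

open Groth.Agent.HodgeIdx81 Groth.Agent.ProjTwist

set_option linter.style.haveILetI false
attribute [local irreducible] Curv2.euler

/-- Let k be an algebraically closed field of characteristic zero and X a smooth projective surface over
k (integral, proper and smooth over k, of dimension 2). Let C_1, …, C_r (r ≥ 1) be pairwise distinct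
integral curves on X, with ideal sheaves I_i, forming a connected configuration whose intersection
matrix is negative definite: writing (A·B) = χ(O_X) − χ(A) − χ(B) + χ(A ⊗ B), there is no partition
of the indices into two nonempty sets with (I_i·I_j) = 0 for all i, j on opposite sides, and Σ_{i,j}
a_i a_j (I_i·I_j) < 0 for every nonzero integer vector a. Let Z₀ be a fundamental cycle of the
configuration: a nonzero effective Cartier divisor supported on ⋃ C_i such that Z₀·C_i ≤ 0 for every
i, stated as deg(I_{Z₀}|_{C_i}) = χ(O_{C_i} ⊗ I_{Z₀}) − χ(O_{C_i}) ≥ 0, and such that every nonzero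
effective Cartier divisor Z supported on ⋃ C_i with the same property satisfies Z ≥ Z₀ (I_Z ⊆
I_{Z₀}). Then H¹(Z, O_Z) = 0 for every nonzero effective Cartier divisor Z supported on ⋃ C_i if and
only if χ(O_{Z₀}) = 1, i.e. the arithmetic genus of Z₀ is 0; cohomology and Euler characteristics
are computed on X through direct images. The published statement characterises rationality of the
normal surface singularity obtained by contracting the configuration over the complex numbers; this
row uses the equivalent condition that H¹(O_Z) = 0 for every nonzero effective divisor Z supported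
on the configuration, which is what the printed algebraic argument establishes. -/
theorem result (k : Type u) [Field k] [IsAlgClosed k] [CharZero k]
    (X : Scheme.{u}) [X.Over (Spec (CommRingCat.of k))] [IsProper (X ↘ (Spec (CommRingCat.of k)))]
    [Smooth (X ↘ (Spec (CommRingCat.of k)))] [IsIntegral X] (hdim : topologicalKrullDim X = 2)
    (r : ℕ) (hr : 0 < r) (C : Fin r → X.IdealSheafData) (hC : Function.Injective C)
    (hCi : ∀ i, IsIntegral (C i).subscheme) (hCd : ∀ i, topologicalKrullDim ((C i).support : Set X) = 1)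
    (hconn : ∀ S : Finset (Fin r), S.Nonempty → Sᶜ.Nonempty →
      ∃ i ∈ S, ∃ j ∈ Sᶜ, FGA.intNum k X 2 ![(ClSub.idealMod (C i)), (ClSub.idealMod (C j))] (Coh.structureModule X) ≠ 0)
    (hneg : ∀ a : Fin r → ℤ, a ≠ 0 →
      ∑ i, ∑ j, a i * a j * FGA.intNum k X 2 ![(ClSub.idealMod (C i)), (ClSub.idealMod (C j))] (Coh.structureModule X) < 0)
    (Z₀ : X.IdealSheafData) (hZ₀ : FGA.IsEffCartier Z₀) (hZ₀0 : Z₀ ≠ ⊤)
    (hZ₀s : (Z₀.support : Set X) ⊆ ⋃ i, ((C i).support : Set X))
    (hZ₀C : ∀ i, 0 ≤ Curv2.euler k X (CohB1.tensorMod (ClSub.quotMod (C i)) (ClSub.idealMod Z₀)) -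
      Curv2.euler k X (ClSub.quotMod (C i)))
    (hZ₀min : ∀ Z : X.IdealSheafData, FGA.IsEffCartier Z → Z ≠ ⊤ → (Z.support : Set X) ⊆ ⋃ i, ((C i).support : Set X) →
      (∀ i, 0 ≤ Curv2.euler k X (CohB1.tensorMod (ClSub.quotMod (C i)) (ClSub.idealMod Z)) -
        Curv2.euler k X (ClSub.quotMod (C i))) → Z ≤ Z₀) :
    (∀ Z : X.IdealSheafData, FGA.IsEffCartier Z → Z ≠ ⊤ → (Z.support : Set X) ⊆ ⋃ i, ((C i).support : Set X) →
        Subsingleton (Coh.HH X (ClSub.quotMod Z) 1)) ↔
      Curv2.euler k X (ClSub.quotMod Z₀) = 1 := by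
  classical
  have hd : topologicalKrullDim X = ((2 : ℕ) : WithBot ℕ∞) := by rw [hdim]; norm_num
  have hreg : ∀ x : X, IsRegularLocalRing (X.presheaf.stalk x) :=
    CurveDVR.isRegularLocalRing_stalk (X ↘ (Spec (CommRingCat.of k)))
  have hC1 : ∀ i, topologicalKrullDim ↥((C i).support : Set X) = ((1 : ℕ) : WithBot ℕ∞) :=
    fun i => (hCd i).trans rfl
  have hCe : ∀ i, BlowUp.IsEffCartierIdeal (C i) := fun i =>
    haveI := hCi i
    Sub.isEffCartier_curve k hd hreg (C i) (hC1 i)
  haveI := EulerChar.isNoetherian k (X := X)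
  have hI : ∀ i, PicF.IsInvertible (ClSub.idealMod (C i)) := fun i =>
    IdealSh.IdealMod.isInvertible_of_isEffCartierIdeal _ (hCe i)
  have hχC : ∀ i, Curv2.euler k X (ClSub.quotMod (C i)) ≤ 1 := fun i =>
    haveI := hCi i
    (RR.curve_euler k _ (hC1 i)).1
  let g : Fin r → X := fun i =>
    haveI := hCi i
    (C i).subschemeι (genericPoint ↥(C i).subscheme)
  obtain ⟨A, hA⟩ := exists_ample k hreg hd
  have hZC : ∀ i, pr k (ClSub.idealMod Z₀) (ClSub.idealMod (C i)) ≤ 0 := fun i => by
    have h0 := IdealSh.IdealMod.isInvertible_of_isEffCartierIdeal Z₀ hZ₀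
    have h : 0 ≤ NumTriv.deg1 k (ClSub.quotMod (C i)) (ClSub.idealMod Z₀) := hZ₀C i
    rw [deg1_quotMod k (hI i) h0] at h
    omega
  have hprm : ∀ {P Q : X.IdealSheafData}, BlowUp.IsEffCartierIdeal P → BlowUp.IsEffCartierIdeal Q → ∀ i,
      pr k (ClSub.idealMod (P * Q)) (ClSub.idealMod (C i)) =
        pr k (ClSub.idealMod P) (ClSub.idealMod (C i)) + pr k (ClSub.idealMod Q) (ClSub.idealMod (C i)) := by
    intro P Q hP hQ i
    rw [pr_comm, Fundamental.pr_mul k hd hP hQ (hI i), pr_comm k (ClSub.idealMod P), pr_comm k (ClSub.idealMod Q)]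
  -- the computation sequence
  have key : ∀ (n : ℕ) (W R : X.IdealSheafData), BlowUp.IsEffCartierIdeal W → BlowUp.IsEffCartierIdeal R →
      W ≠ ⊤ → Z₀ = W * R → -pr k A (ClSub.idealMod R) ≤ n →
      Curv2.euler k X (ClSub.quotMod Z₀) ≤ Curv2.euler k X (ClSub.quotMod W) ∧
      (Curv2.euler k X (ClSub.quotMod Z₀) = Curv2.euler k X (ClSub.quotMod W) →
        ∀ P : X.IdealSheafData, BlowUp.IsEffCartierIdeal P →
          (∀ i, pr k (ClSub.idealMod P) (ClSub.idealMod (C i)) ≤ 0) →
          Subsingleton (Coh.HH X (ClSub.quotMod (P * W)) 1) →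
          Subsingleton (Coh.HH X (ClSub.quotMod (P * Z₀)) 1)) := by
    intro n
    induction n using Nat.strong_induction_on with
    | _ n ih =>
      intro W R hW hR hW0 hZ hn
      by_cases hex : ∃ i, 0 < pr k (ClSub.idealMod W) (ClSub.idealMod (C i))
      · obtain ⟨i, hi⟩ := hex
        haveI := hCi i
        have hmem : g i ∈ (R.support : Set X) := by
          by_contra hm
          have h1 := Fundamental.pr_curve_nonneg k hd hreg hR (C i) (hC1 i) hm
          have h2 := hZC i
          rw [hZ, hprm hW hR i] at h2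
          omega
        obtain ⟨eC, -⟩ := RealNakai.eq_ptIdeal (C i)
        obtain ⟨R', hR', hRR⟩ := Sub.exists_split k hd hreg hR hmem (show _ = _ by rw [← eC]; exact hC1 i)
        rw [← eC] at hRR
        have hAR := Fundamental.pr_mul k hd hR' (hCe i) hA.1
        rw [hRR] at hAR
        have hAC := RealNakai.pr_ample_curve k hA (C i) (hC1 i) (hI i)
        have hAR' := Fundamental.pr_ample_nonpos k hd hreg hA hR'
        obtain ⟨hle, hst⟩ := ih (-pr k A (ClSub.idealMod R')).toNat (by omega) (W * C i) R'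
          (IdealSh.EffCartier.mul hW (hCe i)) hR'
          (fun h => Fundamental.curve_ne_top (C i) (top_le_iff.1 (h ▸ Fundamental.mul_le_right' W (C i))))
          (by rw [hZ, ← hRR, mul_comm R', mul_assoc]) (Int.self_le_toNat _)
        have hm := Fundamental.euler_mul k hd hW (hCe i)
        have hc := hχC i
        refine ⟨by omega, fun he P hP hPC h => hst (by omega) P hP hPC ?_⟩
        rw [← mul_assoc]
        refine Fundamental.subsingleton_add k hd hreg (IdealSh.EffCartier.mul hP hW) (C i) (hC1 i)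
          (by omega) ?_ h
        rw [hprm hP hW i]
        have := hPC i
        omega
      · push Not at hex
        have hWi := IdealSh.IdealMod.isInvertible_of_isEffCartierIdeal W hW
        have hsupp : (W.support : Set X) ⊆ ⋃ i, ((C i).support : Set X) := fun x hx =>
          hZ₀s (by rw [hZ, Scheme.IdealSheafData.support_mul]; exact Or.inl hx)
        have hWle : W ≤ Z₀ := hZ₀min W hW hW0 hsupp fun i => by
          change 0 ≤ NumTriv.deg1 k (ClSub.quotMod (C i)) (ClSub.idealMod W)
          rw [deg1_quotMod k (hI i) hWi]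
          have := hex i
          omega
        have e : Z₀ = W := le_antisymm (by rw [hZ, mul_comm]; exact Fundamental.mul_le_right' R W) hWle
        rw [e]
        exact ⟨le_rfl, fun _ _ _ _ h => h⟩
  -- a first curve
  have hpiece : ∃ i, g i ∈ (Z₀.support : Set X) := by
    obtain ⟨s, m, hs, hp⟩ := Sub.pr_ideal_pieces k hd hreg hZ₀
    obtain ⟨ξ, hξ⟩ : s.Nonempty := by
      by_contra h
      have h1 := pr_ample_ideal_neg k hd hreg hA hZ₀ hZ₀0
      rw [hp A hA.1, Finset.not_nonempty_iff_eq_empty.1 h] at h1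
      simp at h1
    obtain ⟨i, hi⟩ := Set.mem_iUnion.1 (hZ₀s (hs ξ hξ).1)
    haveI := hCi i
    refine ⟨i, ?_⟩
    have hmem := Fundamental.mem_support (C i)
    have hset : ((C i).support : Set X) = closure {ξ} :=
      (congrArg (fun I : X.IdealSheafData => (I.support : Set X))
        (Fundamental.ptIdeal_eq (C i) hi (hC1 i) (hs ξ hξ).2.2.1)).symm.trans (CohDev.coe_support_ptIdeal ξ)
    rw [hset] at hmem
    exact closure_minimal (Set.singleton_subset_iff.2 (hs ξ hξ).1) Z₀.support.isClosed hmem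
  have start : ∀ i, g i ∈ (Z₀.support : Set X) → ∃ R, BlowUp.IsEffCartierIdeal R ∧ Z₀ = C i * R := fun i hi => by
    haveI := hCi i
    obtain ⟨eC, -⟩ := RealNakai.eq_ptIdeal (C i)
    obtain ⟨R, hR, hRR⟩ := Sub.exists_split k hd hreg hZ₀ hi (show _ = _ by rw [← eC]; exact hC1 i)
    rw [← eC] at hRR
    exact ⟨R, hR, by rw [← hRR, mul_comm]⟩
  obtain ⟨i₀, hi₀⟩ := hpiece
  obtain ⟨R₀, hR₀, hZR₀⟩ := start i₀ hi₀
  haveI := hCi i₀
  obtain ⟨hle, hstep⟩ := key _ (C i₀) R₀ (hCe i₀) hR₀ (Fundamental.curve_ne_top _) hZR₀ (Int.self_le_toNat _)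
  have hc₀ := hχC i₀
  refine ⟨fun h => ?_, fun h1 Z hZ hZ0 hZs => ?_⟩
  · have := Rational.one_le_euler k hd hreg hZ₀ hZ₀0 (h Z₀ hZ₀ hZ₀0 hZ₀s)
    omega
  have hadd : ∀ P : X.IdealSheafData, BlowUp.IsEffCartierIdeal P →
      (∀ i, pr k (ClSub.idealMod P) (ClSub.idealMod (C i)) ≤ 0) →
      Subsingleton (Coh.HH X (ClSub.quotMod P) 1) → Subsingleton (Coh.HH X (ClSub.quotMod (P * Z₀)) 1) :=
    fun P hP hPC h => hstep (by omega) P hP hPC
      (Fundamental.subsingleton_add k hd hreg hP (C i₀) (hC1 i₀) (by omega)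
        (le_trans (hPC i₀) (by norm_num)) h)
  have htop : ∀ i, pr k (ClSub.idealMod (⊤ : X.IdealSheafData)) (ClSub.idealMod (C i)) = 0 := fun i => by
    have h := hprm IdealSh.EffCartier.top hZ₀ i
    rw [Scheme.IdealSheafData.top_mul] at h
    omega
  have hq : Subsingleton (Coh.HH X (ClSub.quotMod (⊤ : X.IdealSheafData)) 1) := by
    haveI := Fundamental.subsingleton_tens_quot k (⊤ : X.IdealSheafData)
      (PicLoc.isInvertible_structureModule X) 0 1 (by
        haveI : IsEmpty ↥((⊤ : X.IdealSheafData).support : Set X) := by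
          rw [Scheme.IdealSheafData.support_top]; exact ⟨fun x => x.2⟩
        exact le_trans (Order.krullDim_eq_bot_iff.2 ⟨fun T => T.isIrreducible.1.elim fun x _ => isEmptyElim x⟩).le
          bot_le) Nat.zero_lt_one
    exact AmpCrit.subsingleton_HH_of_iso (oneTens _) 1
  have hpow : ∀ n : ℕ, BlowUp.IsEffCartierIdeal (Z₀ ^ (n + 1)) ∧
      (∀ i, pr k (ClSub.idealMod (Z₀ ^ (n + 1))) (ClSub.idealMod (C i)) ≤ 0) ∧
      ((Z₀ ^ (n + 1)).support : Set X) ⊆ ⋃ i, ((C i).support : Set X) ∧
      Subsingleton (Coh.HH X (ClSub.quotMod (Z₀ ^ (n + 1))) 1) := by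
    intro n
    induction n with
    | zero =>
      rw [pow_one]
      have h := hadd ⊤ IdealSh.EffCartier.top (fun i => (htop i).le) hq
      rw [Scheme.IdealSheafData.top_mul] at h
      exact ⟨hZ₀, hZC, hZ₀s, h⟩
    | succ n ihn =>
      obtain ⟨h1, h2, h3, h4⟩ := ihn
      rw [pow_succ Z₀ (n + 1)]
      refine ⟨IdealSh.EffCartier.mul h1 hZ₀, fun i => ?_, ?_, hadd _ h1 h2 h4⟩
      · rw [hprm h1 hZ₀ i]
        have := h2 i
        have := hZC i
        omega
      · rw [Scheme.IdealSheafData.support_mul]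
        exact Set.union_subset h3 hZ₀s
  -- every curve lies in `Z₀`
  have hall : ∀ j, g j ∈ (Z₀.support : Set X) := by
    by_contra hcon
    push Not at hcon
    obtain ⟨j₀, hj₀⟩ := hcon
    obtain ⟨i, hi, j, hj, hne⟩ := hconn (Finset.univ.filter fun i => g i ∈ (Z₀.support : Set X))
      ⟨i₀, Finset.mem_filter.2 ⟨Finset.mem_univ _, hi₀⟩⟩
      ⟨j₀, Finset.mem_compl.2 fun h => hj₀ (Finset.mem_filter.1 h).2⟩
    replace hi := (Finset.mem_filter.1 hi).2
    replace hj : g j ∉ (Z₀.support : Set X) := fun h =>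
      Finset.mem_compl.1 hj (Finset.mem_filter.2 ⟨Finset.mem_univ _, h⟩)
    obtain ⟨R, hR, hRR⟩ := start i hi
    haveI := hCi i
    haveI := hCi j
    rw [intNum_eq_pr k hd (hI i) (hI j)] at hne
    have hij : i ≠ j := fun e => hj (e ▸ hi)
    have h1 : 0 ≤ pr k (ClSub.idealMod (C i)) (ClSub.idealMod (C j)) :=
      RealNakai.pr_curves_nonneg k (hC1 j) (hC1 i) (hI j) (hI i) fun e => hij (hC e).symm
    have h2 := Fundamental.pr_curve_nonneg k hd hreg hR (C j) (hC1 j) fun hm => hj (by
      rw [hRR, Scheme.IdealSheafData.support_mul]; exact Or.inr hm)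
    have h3 := hZC j
    rw [hRR, hprm (hCe i) hR j] at h3
    omega
  have hsub : (Z.support : Set X) ⊆ (Z₀.support : Set X) := fun x hx => by
    obtain ⟨i, hi⟩ := Set.mem_iUnion.1 (hZs hx)
    haveI := hCi i
    obtain ⟨-, hcl⟩ := RealNakai.eq_ptIdeal (C i)
    rw [← hcl] at hi
    exact closure_minimal (Set.singleton_subset_iff.2 (hall i)) Z₀.support.isClosed hi
  obtain ⟨N, hN⟩ := Adic.PowLe.exists_pow_le Z₀ Z (fun U =>
    haveI := IsLocallyNoetherian.component_noetherian U
    IsNoetherian.noetherian _) hsub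
  obtain ⟨hPe, -, hPs, hP1⟩ := hpow N
  have e := ModPairLib.Divide.quot_mul_eq hZ (hN (N + 1) (Nat.le_succ N))
  rw [mul_comm] at e
  refine Fundamental.subsingleton_sub k hZ (IdealSh.EffCartier.factor_left (𝓙 := Z) (by rw [mul_comm, e]; exact hPe))
    (Fundamental.dim_le_one hd (Scheme.IdealSheafData.support _).isClosed fun hu => ?_) (by rw [e]; exact hP1)
  have hgen : genericPoint X ∈ ((Z₀ ^ (N + 1)).support : Set X) := by
    rw [← e, Scheme.IdealSheafData.support_mul]
    exact Or.inr (hu ▸ Set.mem_univ _)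
  obtain ⟨i, hi⟩ := Set.mem_iUnion.1 (hPs hgen)
  have huniv : ((C i).support : Set X) = Set.univ :=
    Set.univ_subset_iff.1 ((genericPoint_spec X).def ▸
      closure_minimal (Set.singleton_subset_iff.2 hi) (C i).support.isClosed)
  have h := hC1 i
  rw [huniv, IsHomeomorph.topologicalKrullDim_eq _ (Homeomorph.Set.univ X).isHomeomorph, hd] at h
  exact absurd h (by decide)

end Groth.Agent.S18454
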