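import Groth.Statements.S18456
import Groth.Agent.HodgeIdx81.Rational


set_option autoImplicit false
universe u
open CategoryTheory CategoryTheory.Limits AlgebraicGeometry TopologicalSpace
open Surf

namespace Groth.Agent.S18456

open Groth.Agent.HodgeIdx81 Groth.Agent.ProjTwist

set_option linter.style.haveILetI false

theorem ptIdeal_eq {X : Scheme.{u}} {ξ : X} (C : X.IdealSheafData) [IsIntegral C.subscheme]
    (hξ : ξ ∈ (C.support : Set X))
    (hC : topologicalKrullDim ↥(C.support : Set X) = ((1 : ℕ) : WithBot ℕ∞))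
    (h1 : topologicalKrullDim ↥((IntMult.ptIdeal ξ).support : Set X) = ((1 : ℕ) : WithBot ℕ∞)) :
    IntMult.ptIdeal ξ = C := by
  obtain ⟨eC, hclC⟩ := RealNakai.eq_ptIdeal C
  rw [CohDev.coe_support_ptIdeal] at h1
  have hle : closure ({ξ} : Set X) ⊆ (C.support : Set X) :=
    closure_minimal (Set.singleton_subset_iff.2 hξ) C.support.isClosed
  have heq : closure ({ξ} : Set X) = (C.support : Set X) := by
    by_contra hns
    have hirr : IsIrreducible (C.support : Set X) := hclC ▸ isIrreducible_singleton.closure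
    have h := CohDev.dim_lt_of_irreducible isClosed_closure hirr hle
      (fun h => hns (hle.antisymm h)) hC.le
    rw [h1] at h
    exact lt_irrefl _ h
  rw [eC]
  unfold IntMult.ptIdeal
  congr 1
  exact TopologicalSpace.Closeds.ext (heq.trans hclC.symm)

/-- Let k be an algebraically closed field of characteristic zero and X a smooth projective surface over
k (integral, proper and smooth over k, of dimension 2). Let C_1, …, C_r be pairwise distinct
integral curves on X with ideal sheaves I_i, each with H¹(C_i, O_{C_i}) = 0 (so C_i ≅ P¹) and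
self-intersection (I_i·I_i) = −2, and with negative definite intersection matrix: Σ_{i,j} a_i a_j
(I_i·I_j) < 0 for every nonzero integer vector a, where (A·B) = χ(O_X) − χ(A) − χ(B) + χ(A ⊗ B).
Then H¹(Z, O_Z) = 0 for every nonzero effective Cartier divisor Z on X supported on ⋃ C_i,
cohomology computed on X through the direct image of O_Z. The published statement concludes that the
singularity obtained by contracting the configuration over the complex numbers is rational; the
vanishing for all supported nonzero effective divisors is the form of rationality the printed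
argument establishes, and this row states that form. -/
theorem result (k : Type u) [Field k] [IsAlgClosed k] [CharZero k]
    (X : Scheme.{u}) [X.Over (Spec (CommRingCat.of k))] [IsProper (X ↘ (Spec (CommRingCat.of k)))]
    [Smooth (X ↘ (Spec (CommRingCat.of k)))] [IsIntegral X] (hdim : topologicalKrullDim X = 2)
    (r : ℕ) (C : Fin r → X.IdealSheafData) (hC : Function.Injective C)
    (hCi : ∀ i, IsIntegral (C i).subscheme) (hCd : ∀ i, topologicalKrullDim ((C i).support : Set X) = 1)
    (hCrat : ∀ i, Subsingleton (Coh.HH X (ClSub.quotMod (C i)) 1))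
    (hC2 : ∀ i, FGA.intNum k X 2 ![(ClSub.idealMod (C i)), (ClSub.idealMod (C i))] (Coh.structureModule X) = -2)
    (hneg : ∀ a : Fin r → ℤ, a ≠ 0 →
      ∑ i, ∑ j, a i * a j * FGA.intNum k X 2 ![(ClSub.idealMod (C i)), (ClSub.idealMod (C j))] (Coh.structureModule X) < 0)
    (Z : X.IdealSheafData) (hZ : FGA.IsEffCartier Z) (hZ0 : Z ≠ ⊤)
    (hZs : (Z.support : Set X) ⊆ ⋃ i, ((C i).support : Set X)) :
    Subsingleton (Coh.HH X (ClSub.quotMod Z) 1) := by
  classical
  have hd : topologicalKrullDim X = ((2 : ℕ) : WithBot ℕ∞) := by rw [hdim]; norm_num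
  have hreg : ∀ x : X, IsRegularLocalRing (X.presheaf.stalk x) :=
    CurveDVR.isRegularLocalRing_stalk (X ↘ (Spec (CommRingCat.of k)))
  have hC1 : ∀ i, topologicalKrullDim ↥((C i).support : Set X) = ((1 : ℕ) : WithBot ℕ∞) :=
    fun i => (hCd i).trans rfl
  have hI : ∀ i, PicF.IsInvertible (ClSub.idealMod (C i)) := fun i =>
    haveI := hCi i
    isInvertible_of_curve k hreg hd (C i) (hC1 i)
  obtain ⟨A, hA⟩ := exists_ample k hreg hd
  haveI := EulerChar.isNoetherian k (X := X)
  haveI : SmoothOfRelativeDimension 2 (X ↘ Spec (CommRingCat.of k)) :=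
    SurfRR.smoothRelDim_of_regular k (r := 2) hd hreg
  haveI : (Omega.sheaf (X ↘ Spec (CommRingCat.of k))).IsQuasicoherent :=
    (VBLib.isCoh_of_ofRank (CanonTriv.isFinLocFreeOfRank_omega (X ↘ Spec (CommRingCat.of k)) 2)).1
  obtain ⟨W, hW⟩ := ExtPowSt.Exists.exists_isExtPow (X := X) 2 (Omega.sheaf (X ↘ Spec (CommRingCat.of k)))
  have hWi := RR.isInvertible_canonical k hd hreg hA hW
  have hKC : ∀ i, pr k W (ClSub.idealMod (C i)) = 0 := fun i => by
    haveI := hCi i
    have hne : C i ≠ ⊤ := fun h => by
      have hmem : (C i).subschemeι (genericPoint ↥(C i).subscheme) ∈ ((C i).support : Set X) :=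
        (C i).range_subschemeι ▸ Set.mem_range_self _
      have h' : ((C i).support : Set X) = ∅ := by
        rw [h, Scheme.IdealSheafData.support_top]; rfl
      exact Set.eq_empty_iff_forall_notMem.1 h' _ hmem
    have hχ : Curv2.euler k X (ClSub.quotMod (C i)) = 1 :=
      le_antisymm (RR.curve_euler k _ (hC1 i)).1 (Rational.one_le_euler k hd hreg
        (Sub.isEffCartier_curve k hd hreg _ (hC1 i)) hne (hCrat i))
    have h := RR.adjunction k hd hreg hA hW _ (hI i)
    rw [hχ, ← intNum_eq_pr k hd (hI i) (hI i), hC2 i, pr_comm k (ClSub.idealMod (C i)) W] at h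
    omega
  have key : ∀ Z : X.IdealSheafData, FGA.IsEffCartier Z → Z ≠ ⊤ →
      (Z.support : Set X) ⊆ ⋃ i, ((C i).support : Set X) → 1 ≤ Curv2.euler k X (ClSub.quotMod Z) := by
    intro Z hZ hZ0 hZs
    have hZi := IdealSh.IdealMod.isInvertible_of_isEffCartierIdeal Z hZ
    obtain ⟨s, m, hs, hp⟩ := Sub.pr_ideal_pieces k hd hreg hZ
    have hf : ∀ ξ ∈ s, ∃ i, IntMult.ptIdeal ξ = C i := fun ξ hξ => by
      obtain ⟨i, hi⟩ := Set.mem_iUnion.1 (hZs (hs ξ hξ).1)
      haveI := hCi i
      exact ⟨i, ptIdeal_eq (C i) hi (hC1 i) (hs ξ hξ).2.2.1⟩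
    haveI : Nonempty (Fin r) := not_isEmpty_iff.1 fun he => hZ0 <|
      (Scheme.IdealSheafData.support_eq_bot_iff Z).1 <| TopologicalSpace.Closeds.ext <|
        Set.subset_empty_iff.1 (hZs.trans (Set.iUnion_subset fun i => he.elim i))
    choose! f hf using hf
    let a : Fin r → ℤ := fun i => ∑ ξ ∈ s with f ξ = i, (m ξ : ℤ)
    have hp' : ∀ B : X.Modules, PicF.IsInvertible B →
        pr k B (ClSub.idealMod Z) = ∑ i, a i * pr k B (ClSub.idealMod (C i)) := fun B hB => by
      rw [hp B hB, ← Finset.sum_fiberwise_of_maps_to (g := f) (fun ξ _ => Finset.mem_univ _)]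
      refine Finset.sum_congr rfl fun i _ => ?_
      rw [Finset.sum_mul]
      refine Finset.sum_congr rfl fun ξ hξ => ?_
      obtain ⟨hξs, hξi⟩ := Finset.mem_filter.1 hξ
      rw [hf ξ hξs, hξi]
    have ha : a ≠ 0 := fun h => by
      have h2 := pr_ample_ideal_neg k hd hreg hA hZ hZ0
      rw [hp' A hA.1, h] at h2
      simp at h2
    have hII : pr k (ClSub.idealMod Z) (ClSub.idealMod Z) < 0 := by
      rw [hp' _ hZi]
      refine lt_of_eq_of_lt (Finset.sum_congr rfl fun i _ => ?_) (hneg a ha)
      rw [pr_comm k _ (ClSub.idealMod (C i)), hp' _ (hI i), Finset.mul_sum]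
      exact Finset.sum_congr rfl fun j _ => by rw [intNum_eq_pr k hd (hI i) (hI j), mul_assoc]
    have hWZ : pr k (ClSub.idealMod Z) W = 0 := by
      rw [pr_comm, hp' W hWi]
      exact Finset.sum_eq_zero fun i _ => by rw [hKC i, mul_zero]
    have hadj := RR.adjunction k hd hreg hA hW Z hZi
    omega
  exact Rational.subsingleton_h1 k hd hreg hZ hZ0 fun Z' J h1 _ h3 h4 => key Z' h1 h3
    (le_trans (fun x hx => by rw [h4, Scheme.IdealSheafData.support_mul]; exact Or.inl hx) hZs)

end Groth.Agent.S18456
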