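import Groth.Statements.S18457
import Mathlib.Tactic
import Mathlib.Algebra.Order.Chebyshev

set_option autoImplicit false
open Finset
open Surf

namespace Groth.Agent.S18457

/-- In the Picard lattice of the plane blown up at n ≤ 8 points, with basis h, e_1, …, e_n, form h² = 1,
e_i² = −1, all other products 0, and anticanonical class D = 3h − Σ e_i, let d·h − Σ a_i e_i be a
class with all a_i ≥ 0 (the class of the strict transform of a degree-d plane curve having
multiplicity a_i at the i-th point) which is a (−2)-class orthogonal to D, that is d² − Σ a_i² = −2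
and 3d = Σ a_i. Then one of the following holds: d = 1 and every a_i is 0 or 1 with exactly three
equal to 1; d = 2 and every a_i is 0 or 1 with exactly six equal to 1; d = 3, n = 8, and one a_i
equals 2 while the remaining seven equal 1. The published statement is geometric: under the
general-position hypotheses on the points, no smooth rational curve on the blown-up plane is
orthogonal to D; this row is the lattice enumeration its proof carries out (a line through three of
the points, a conic through six, a cubic through all eight and singular at one). -/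
theorem result (n : ℕ) (hn : n ≤ 8)
    (d : ℤ) (a : Fin n → ℤ) (ha : ∀ i, 0 ≤ a i)
    (hsq : d ^ 2 - ∑ i, (a i) ^ 2 = -2) (hK : 3 * d = ∑ i, a i) :
    (d = 1 ∧ (∀ i, a i = 0 ∨ a i = 1) ∧ (Finset.univ.filter (fun i => a i = 1)).card = 3) ∨
      (d = 2 ∧ (∀ i, a i = 0 ∨ a i = 1) ∧ (Finset.univ.filter (fun i => a i = 1)).card = 6) ∨
      (d = 3 ∧ n = 8 ∧ ∃ j, a j = 2 ∧ ∀ i, i ≠ j → a i = 1) := by
  have hd0 : 0 ≤ d := by
    have h : 0 ≤ ∑ i, a i := Finset.sum_nonneg fun i _ => ha i
    linarith
  have hsq' : ∑ i, a i ^ 2 = d ^ 2 + 2 := by linarith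
  have hC : (∑ i, a i) ^ 2 ≤ (n : ℤ) * ∑ i, a i ^ 2 := by
    simpa using sq_sum_le_card_mul_sum_sq (s := Finset.univ) (f := a)
  have hd4 : d ≤ 4 := by
    rw [← hK, hsq'] at hC
    have h8 : (n : ℤ) * (d ^ 2 + 2) ≤ 8 * (d ^ 2 + 2) :=
      mul_le_mul_of_nonneg_right (by exact_mod_cast hn) (by positivity)
    nlinarith
  have hpos : ∀ i ∈ (Finset.univ : Finset (Fin n)), 0 ≤ a i ^ 2 - a i := by
    intro i _
    rcases eq_or_lt_of_le (ha i) with h | h
    · rw [← h]; norm_num
    · nlinarith
  have hqe : ∑ i, (a i ^ 2 - a i) = d ^ 2 + 2 - 3 * d := by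
    rw [Finset.sum_sub_distrib]; linarith
  have h01 : (∑ i, (a i ^ 2 - a i) = 0) → ∀ i, a i = 0 ∨ a i = 1 := by
    intro h i
    have h1 := (Finset.sum_eq_zero_iff_of_nonneg hpos).1 h i (Finset.mem_univ i)
    have h' : a i * (a i - 1) = 0 := by linear_combination h1
    rcases mul_eq_zero.1 h' with h0 | h0
    · exact Or.inl h0
    · exact Or.inr (by linarith)
  have hcard : (∀ i, a i = 0 ∨ a i = 1) →
      ((Finset.univ.filter (fun i => a i = 1)).card : ℤ) = 3 * d := by
    intro h
    rw [hK, Finset.natCast_card_filter]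
    exact Finset.sum_congr rfl fun i _ => by rcases h i with h | h <;> simp [h]
  interval_cases d
  · exfalso
    have hz := (Finset.sum_eq_zero_iff_of_nonneg (fun i _ => ha i)).1 (show ∑ i, a i = 0 by linarith)
    have : ∑ i, a i ^ 2 = 0 := Finset.sum_eq_zero fun i hi => by rw [hz i hi]; rfl
    omega
  · left
    refine ⟨rfl, h01 (by linarith), ?_⟩
    exact_mod_cast hcard (h01 (by linarith))
  · right; left
    refine ⟨rfl, h01 (by linarith), ?_⟩
    exact_mod_cast hcard (h01 (by linarith))
  · right; right
    have hq2 : ∑ i, (a i ^ 2 - a i) = 2 := by linarith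
    have hex : ∃ j, a j = 2 := by
      by_contra hne
      push Not at hne
      have hall : ∀ i, a i = 0 ∨ a i = 1 := by
        intro i
        have h1 := Finset.single_le_sum hpos (Finset.mem_univ i)
        rw [hq2] at h1
        have : a i ≤ 2 := by nlinarith
        have := hne i
        have := ha i
        omega
      have : ∑ i, (a i ^ 2 - a i) = 0 :=
        Finset.sum_eq_zero fun i _ => by rcases hall i with h | h <;> simp [h]
      omega
    obtain ⟨j, hj⟩ := hex
    have hsplit := Finset.sum_erase_add Finset.univ (fun i => a i ^ 2 - a i) (Finset.mem_univ j)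
    simp only [hj, hq2] at hsplit
    have hrest : ∀ i ∈ Finset.univ.erase j, a i ≤ 1 := by
      intro i hi
      have h1 := (Finset.sum_eq_zero_iff_of_nonneg (fun i hi => hpos i (Finset.mem_univ i))).1
        (show ∑ i ∈ Finset.univ.erase j, (a i ^ 2 - a i) = 0 by linarith) i hi
      nlinarith
    have hs2 : ∑ i ∈ Finset.univ.erase j, a i = 7 := by
      have := Finset.sum_erase_add Finset.univ a (Finset.mem_univ j)
      linarith
    have hc : (Finset.univ.erase j).card = n - 1 := by simp
    have hle : ∑ i ∈ Finset.univ.erase j, a i ≤ ((n - 1 : ℕ) : ℤ) := by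
      refine (Finset.sum_le_sum hrest).trans ?_
      simp
    have hn8 : n = 8 := by omega
    subst hn8
    refine ⟨rfl, rfl, j, hj, fun i hi => ?_⟩
    by_contra hne
    have hmem : i ∈ Finset.univ.erase j := Finset.mem_erase.2 ⟨hi, Finset.mem_univ i⟩
    have hlt : ∑ i ∈ Finset.univ.erase j, a i < ∑ i ∈ Finset.univ.erase j, (1 : ℤ) :=
      Finset.sum_lt_sum hrest ⟨i, hmem, lt_of_le_of_ne (hrest i hmem) hne⟩
    simp at hlt
    omega
  · exfalso
    have hexp : ∑ i, (2 * a i - 3) ^ 2 = 4 * ∑ i, a i ^ 2 - 12 * ∑ i, a i + 9 * (n : ℤ) := by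
      rw [Finset.mul_sum, Finset.mul_sum, ← Finset.sum_sub_distrib,
        show 9 * (n : ℤ) = ∑ _i : Fin n, (9 : ℤ) by simp [mul_comm], ← Finset.sum_add_distrib]
      exact Finset.sum_congr rfl fun i _ => by ring
    have hge : (n : ℤ) ≤ ∑ i, (2 * a i - 3) ^ 2 := by
      calc (n : ℤ) = ∑ _i : Fin n, (1 : ℤ) := by simp
        _ ≤ _ := Finset.sum_le_sum fun i _ => by
          rcases le_or_gt (a i) 1 with h | h
          · nlinarith
          · nlinarith
    have hn0 : n = 0 := by omega
    subst hn0
    simp at hK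

end Groth.Agent.S18457
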