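import Groth.Statements.S18458
import Groth.Agent.HodgeIdx81.RealNakai


set_option autoImplicit false
universe u
open CategoryTheory CategoryTheory.Limits AlgebraicGeometry TopologicalSpace
open Surf

namespace Groth.Agent.S18458

open Groth.Agent.HodgeIdx81

set_option linter.style.haveILetI false

/-- Let k be an algebraically closed field of characteristic zero and X a smooth projective surface over
k (integral, proper and smooth over k, of dimension 2, carrying an ample invertible module). Let
C_1, …, C_r be pairwise distinct integral curves on X with ideal sheaves I_i whose intersection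
matrix is negative definite: Σ_{i,j} a_i a_j (I_i·I_j) < 0 for every nonzero integer vector a, where
(A·B) = χ(O_X) − χ(A) − χ(B) + χ(A ⊗ B). Then there is an invertible O_X-module L (the sheaf of a
divisor H) which is nef and big and is orthogonal to exactly the curves C_i: writing (L·C) = χ(O_C ⊗
L) − χ(O_C) for the degree of L on an integral curve C, one has (L·C) ≥ 0 for every integral curve
C, (L·L) > 0, and (L·C) = 0 if and only if C is one of the C_i. -/
theorem result (k : Type u) [Field k] [IsAlgClosed k] [CharZero k]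
    (X : Scheme.{u}) [X.Over (Spec (CommRingCat.of k))] [IsProper (X ↘ (Spec (CommRingCat.of k)))]
    [Smooth (X ↘ (Spec (CommRingCat.of k)))] [IsIntegral X] (hdim : topologicalKrullDim X = 2)
    (hproj : ∃ H : X.Modules, CohB1.IsAmple H)
    (r : ℕ) (C : Fin r → X.IdealSheafData) (hC : Function.Injective C)
    (hCi : ∀ i, IsIntegral (C i).subscheme) (hCd : ∀ i, topologicalKrullDim ((C i).support : Set X) = 1)
    (hneg : ∀ a : Fin r → ℤ, a ≠ 0 →
      ∑ i, ∑ j, a i * a j * FGA.intNum k X 2 ![(ClSub.idealMod (C i)), (ClSub.idealMod (C j))] (Coh.structureModule X) < 0) :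
    ∃ L : X.Modules, PicF.IsInvertible L ∧
      (∀ D : X.IdealSheafData, IsIntegral D.subscheme → topologicalKrullDim (D.support : Set X) = 1 →
        0 ≤ Curv2.euler k X (CohB1.tensorMod (ClSub.quotMod D) L) - Curv2.euler k X (ClSub.quotMod D)) ∧
      0 < FGA.intNum k X 2 ![L, L] (Coh.structureModule X) ∧
      (∀ D : X.IdealSheafData, IsIntegral D.subscheme → topologicalKrullDim (D.support : Set X) = 1 →
        (Curv2.euler k X (CohB1.tensorMod (ClSub.quotMod D) L) - Curv2.euler k X (ClSub.quotMod D) = 0 ↔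
          ∃ i, D = C i)) := by
  classical
  have hd : topologicalKrullDim X = ((2 : ℕ) : WithBot ℕ∞) := by rw [hdim]; norm_num
  have hreg : ∀ x : X, IsRegularLocalRing (X.presheaf.stalk x) :=
    CurveDVR.isRegularLocalRing_stalk (X ↘ (Spec (CommRingCat.of k)))
  have hC1 : ∀ i, topologicalKrullDim ↥((C i).support : Set X) = ((1 : ℕ) : WithBot ℕ∞) :=
    fun i => (hCd i).trans rfl
  have hI : ∀ i, PicF.IsInvertible (ClSub.idealMod (C i)) := fun i =>
    haveI := hCi i
    isInvertible_of_curve k hreg hd (C i) (hC1 i)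
  obtain ⟨H, hH⟩ := hproj
  let G : Matrix (Fin r) (Fin r) ℤ :=
    Matrix.of fun i j => pr k (ClSub.idealMod (C i)) (ClSub.idealMod (C j))
  let c : Fin r → ℤ := fun i => -pr k H (ClSub.idealMod (C i))
  have hc0 : ∀ i, 0 < c i := fun i => by
    haveI := hCi i
    exact neg_pos.2 (RealNakai.pr_ample_curve k hH (C i) (hC1 i) (hI i))
  have hG0 : ∀ i j, i ≠ j → 0 ≤ G i j := fun i j hij => by
    haveI := hCi i
    haveI := hCi j
    exact RealNakai.pr_curves_nonneg k (hC1 j) (hC1 i) (hI j) (hI i) fun h => hij (hC h).symm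
  have hneg' : ∀ a : Fin r → ℤ, a ≠ 0 → ∑ i, ∑ j, a i * a j * G i j < 0 := fun a ha =>
    lt_of_eq_of_lt (Finset.sum_congr rfl fun i _ => Finset.sum_congr rfl fun j _ => by
      rw [intNum_eq_pr k hd (hI i) (hI j)]; rfl) (hneg a ha)
  have hdet : G.det ≠ 0 := fun h => by
    obtain ⟨v, hv0, hv⟩ := Matrix.exists_mulVec_eq_zero_iff.2 h
    refine (hneg' v hv0).ne (Finset.sum_eq_zero fun i _ => ?_)
    have h1 : ∑ j, G i j * v j = 0 := congrFun hv i
    rw [Finset.sum_congr rfl fun j _ => show v i * v j * G i j = v i * (G i j * v j) by ring,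
      ← Finset.mul_sum, h1, mul_zero]
  let b : Fin r → ℤ := (-G.det) • G.adjugate.mulVec c
  have hb : ∀ i, ∑ j, G i j * b j = -(G.det * G.det) * c i := fun i => by
    have h : G.mulVec b = (-(G.det * G.det)) • c := by
      simp only [b, Matrix.mulVec_smul, Matrix.mulVec_mulVec, Matrix.mul_adjugate, Matrix.smul_mulVec,
        Matrix.one_mulVec, smul_smul, neg_mul]
    exact congrFun h i
  let p : Fin r → ℤ := fun i => max (b i) 0
  let n : Fin r → ℤ := fun i => max (-b i) 0
  have hn : n = 0 := by
    by_contra hn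
    have h1 := hneg' n hn
    have h2 : 0 ≤ ∑ i, ∑ j, n i * p j * G i j :=
      Finset.sum_nonneg fun i _ => Finset.sum_nonneg fun j _ => by
        rcases eq_or_ne i j with rfl | h
        · rcases le_total (b i) 0 with h | h <;> simp [p, n, h]
        · exact mul_nonneg (mul_nonneg (le_max_right _ _) (le_max_right _ _)) (hG0 i j h)
    have h3 : ∑ i, ∑ j, n i * p j * G i j - ∑ i, ∑ j, n i * n j * G i j =
        ∑ i, n i * ∑ j, G i j * b j := by
      rw [← Finset.sum_sub_distrib]
      refine Finset.sum_congr rfl fun i _ => ?_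
      rw [← Finset.sum_sub_distrib, Finset.mul_sum]
      refine Finset.sum_congr rfl fun j _ => ?_
      rw [show b j = p j - n j by simp only [p, n]; omega]
      ring
    have h4 : ∑ i, n i * ∑ j, G i j * b j ≤ 0 := Finset.sum_nonpos fun i _ => by
      rw [hb]
      exact mul_nonpos_of_nonneg_of_nonpos (le_max_right _ _)
        (mul_nonpos_of_nonpos_of_nonneg (neg_nonpos.2 (mul_self_nonneg _)) (hc0 i).le)
    omega
  have hb0 : ∀ i, 0 ≤ b i := fun i => by
    have h := congrFun hn i
    simp only [n, Pi.zero_apply] at h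
    omega
  set d : ℤ := G.det * G.det
  have hd0 : 0 < d := mul_self_pos.2 hdet
  have hex : ∀ s : Finset (Fin r), ∃ P : X.Modules, PicF.IsInvertible P ∧ ∀ A : X.Modules,
      PicF.IsInvertible A → pr k P A = d * pr k H A - ∑ i ∈ s, b i * pr k (ClSub.idealMod (C i)) A := by
    intro s
    induction s using Finset.induction_on with
    | empty =>
      obtain ⟨P, hP, hPC⟩ := exists_comb k hd.le hH.1 hH.1 d 0
      exact ⟨P, hP, fun A hA => by rw [hPC A hA, Finset.sum_empty]; ring⟩
    | @insert i s hi ih =>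
      obtain ⟨P, hP, hPC⟩ := ih
      obtain ⟨Q, hQ, hQC⟩ := exists_comb k hd.le hP (hI i) 1 (-b i)
      exact ⟨Q, hQ, fun A hA => by rw [hQC A hA, hPC A hA, Finset.sum_insert hi]; ring⟩
  obtain ⟨L, hL, hLA⟩ := hex Finset.univ
  have hLC : ∀ j, pr k L (ClSub.idealMod (C j)) = 0 := fun j => by
    have h : ∀ i, b i * pr k (ClSub.idealMod (C i)) (ClSub.idealMod (C j)) = G j i * b i := fun i => by
      rw [pr_comm, mul_comm]
      rfl
    rw [hLA _ (hI j), Finset.sum_congr rfl fun i _ => h i, hb, show c j = -pr k H (ClSub.idealMod (C j)) from rfl]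
    ring
  have hLH : 0 < pr k H L := by
    rw [pr_comm, hLA H hH.1, sub_pos]
    refine lt_of_le_of_lt (Finset.sum_nonpos fun i _ => ?_) (mul_pos hd0 (pr_self_pos k hd hH))
    haveI := hCi i
    rw [pr_comm]
    exact mul_nonpos_of_nonneg_of_nonpos (hb0 i) (RealNakai.pr_ample_curve k hH (C i) (hC1 i) (hI i)).le
  have hdeg : ∀ D : X.IdealSheafData, IsIntegral D.subscheme → topologicalKrullDim (D.support : Set X) = 1 →
      ∃ e : ℤ, Curv2.euler k X (CohB1.tensorMod (ClSub.quotMod D) L) - Curv2.euler k X (ClSub.quotMod D) = e ∧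
        0 ≤ e ∧ (e = 0 ↔ ∃ i, D = C i) := by
    intro D hD hD1
    haveI := hD
    have hID := isInvertible_of_curve k hreg hd D (hD1.trans rfl)
    refine ⟨_, deg1_quotMod k hID hL, ?_⟩
    by_cases h : ∃ i, D = C i
    · obtain ⟨i, rfl⟩ := h
      exact ⟨by rw [hLC, neg_zero], iff_of_true (by rw [hLC, neg_zero]) ⟨i, rfl⟩⟩
    have hlt : pr k L (ClSub.idealMod D) < 0 := by
      rw [hLA _ hID, sub_neg]
      refine lt_of_lt_of_le (mul_neg_of_pos_of_neg hd0
        (RealNakai.pr_ample_curve k hH D (hD1.trans rfl) hID)) (Finset.sum_nonneg fun i _ =>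
        mul_nonneg (hb0 i) ?_)
      haveI := hCi i
      exact RealNakai.pr_curves_nonneg k (hD1.trans rfl) (hC1 i) hID (hI i) fun e => h ⟨i, e⟩
    exact ⟨by linarith, iff_of_false (by linarith) h⟩
  refine ⟨L, hL, fun D hD hD1 => ?_, ?_, fun D hD hD1 => ?_⟩
  · obtain ⟨e, he, he0, -⟩ := hdeg D hD hD1
    exact he.symm ▸ he0
  · rw [intNum_eq_pr k hd hL hL, hLA L hL,
      Finset.sum_eq_zero fun i _ => by rw [pr_comm, hLC, mul_zero], sub_zero]
    exact mul_pos hd0 hLH
  · obtain ⟨e, he, -, he1⟩ := hdeg D hD hD1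
    rw [he]
    exact he1

end Groth.Agent.S18458
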