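import Groth.Statements.S1846
import Mathlib.RingTheory.HopfAlgebra.Convolution
-- import your own Groth.Agent.* helpers here

set_option autoImplicit false
universe u v
open GrpSch

namespace Groth.Agent.S1846

open TensorProduct Coalgebra

section

variable {K : Type u} [Field K] {B : Type v} [CommRing B] [HopfAlgebra K B]

variable (K B) in
/-- The cotangent space at the identity, as a quotient of `B`. -/
noncomputable def cotN : Submodule K B :=
  ((RingHom.ker (Bialgebra.counitAlgHom K B)) ^ 2).restrictScalars K ⊔ Submodule.span K {(1 : B)}

variable (K B) in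
/-- The projection to the cotangent space at the identity. -/
noncomputable def proj : B →ₗ[K] B ⧸ cotN K B := (cotN K B).mkQ

lemma proj_mul (u v : B) :
    proj K B (u * v) = counit (R := K) u • proj K B v + counit (R := K) v • proj K B u := by
  let u' := u - algebraMap K B (counit (R := K) u)
  let v' := v - algebraMap K B (counit (R := K) v)
  have h : u * v - (counit (R := K) u • v + counit (R := K) v • u) =
      u' * v' + (-(counit (R := K) u * counit (R := K) v)) • (1 : B) := by
    simp only [u', v', Algebra.smul_def, map_neg, map_mul, mul_one]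
    ring
  rw [← map_smul, ← map_smul, ← map_add]
  refine (Submodule.Quotient.eq _).mpr ?_
  rw [h]
  refine Submodule.add_mem_sup ?_ (Submodule.smul_mem _ _ (Submodule.mem_span_singleton_self _))
  rw [Submodule.restrictScalars_mem, pow_two]
  exact Ideal.mul_mem_mul (by simp [u', RingHom.mem_ker]) (by simp [v', RingHom.mem_ker])

variable (K B) in
/-- `a ⊗ b ↦ ε(b) • a`. -/
noncomputable def aug : B ⊗[K] B →ₗ[K] B :=
  (TensorProduct.rid K B).toLinearMap ∘ₗ counit.lTensor B

lemma lTensor_proj_mul (u v : B ⊗[K] B) :
    (proj K B).lTensor B (u * v) =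
      aug K B u • (proj K B).lTensor B v + aug K B v • (proj K B).lTensor B u := by
  induction u using TensorProduct.induction_on with
  | zero => simp
  | add x y hx hy => simp only [add_mul, map_add, hx, hy, add_smul, smul_add]; abel
  | tmul a b =>
    induction v using TensorProduct.induction_on with
    | zero => simp
    | add x y hx hy => simp only [mul_add, map_add, hx, hy, add_smul, smul_add]; abel
    | tmul c d =>
      simp only [Algebra.TensorProduct.tmul_mul_tmul, LinearMap.lTensor_tmul, proj_mul,
        tmul_add, tmul_smul, aug, LinearMap.comp_apply, LinearEquiv.coe_coe, rid_tmul,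
        smul_tmul', smul_eq_mul, smul_mul_assoc, mul_comm c a]

variable (K B) in
/-- The invariant derivation `b ↦ b₁ ⊗ [b₂]`. -/
noncomputable def invDer : Derivation K B (B ⊗[K] (B ⧸ cotN K B)) :=
  Derivation.mk' ((proj K B).lTensor B ∘ₗ comul) fun a b => by
    have e : ∀ x : B, aug K B (comul (R := K) x) = x := fun x => by
      simp [aug, lTensor_counit_comul]
    simp only [LinearMap.comp_apply, Bialgebra.comul_mul, lTensor_proj_mul, e]

variable (K B) in
/-- `a ⊗ b ↦ S(a) * b`. -/
noncomputable def convL : B ⊗[K] B →ₗ[K] B :=
  LinearMap.mul' K B ∘ₗ (HopfAlgebra.antipode K).rTensor B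

variable (K B) in
/-- `a ⊗ b ↦ S(a) • D b`. -/
noncomputable def gMap : B ⊗[K] B →ₗ[K] Ω[B⁄K] :=
  TensorProduct.lift ((LinearMap.lsmul B Ω[B⁄K]).restrictScalars₁₂ K K ∘ₗ HopfAlgebra.antipode K)
    ∘ₗ (KaehlerDifferential.D K B : B →ₗ[K] Ω[B⁄K]).lTensor B

lemma gMap_tmul (a b : B) :
    gMap K B (a ⊗ₜ b) = HopfAlgebra.antipode K a • KaehlerDifferential.D K B b := rfl

lemma gMap_mul (u v : B ⊗[K] B) :
    gMap K B (u * v) = convL K B u • gMap K B v + convL K B v • gMap K B u := by
  induction u using TensorProduct.induction_on with
  | zero => simp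
  | add x y hx hy => simp only [add_mul, map_add, hx, hy, add_smul, smul_add]; abel
  | tmul a b =>
    induction v using TensorProduct.induction_on with
    | zero => simp
    | add x y hx hy => simp only [mul_add, map_add, hx, hy, add_smul, smul_add]; abel
    | tmul c d =>
      simp only [Algebra.TensorProduct.tmul_mul_tmul, gMap_tmul, HopfAlgebra.antipode_mul_distrib,
        Derivation.leibniz, smul_add, smul_smul, convL, LinearMap.comp_apply,
        LinearMap.rTensor_tmul, LinearMap.mul'_apply]
      congr 2 <;> ring

lemma convL_comul (x : B) :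
    convL K B (comul (R := K) x) = algebraMap K B (counit (R := K) x) :=
  HopfAlgebra.mul_antipode_rTensor_comul_apply x

lemma gMap_comul_eq_zero {x : B} (hx : x ∈ cotN K B) : gMap K B (comul (R := K) x) = 0 := by
  obtain ⟨y, hy, z, hz, rfl⟩ := Submodule.mem_sup.mp hx
  rw [map_add, map_add]
  have h1 : gMap K B (comul (R := K) y) = 0 := by
    rw [Submodule.restrictScalars_mem, pow_two] at hy
    refine Submodule.mul_induction_on hy (fun a ha b hb => ?_) fun a b ha hb => by
      rw [map_add, map_add, ha, hb, add_zero]
    rw [Bialgebra.comul_mul, gMap_mul, convL_comul, convL_comul,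
      show counit (R := K) a = 0 from ha, show counit (R := K) b = 0 from hb]
    simp
  have h2 : gMap K B (comul (R := K) z) = 0 := by
    obtain ⟨r, rfl⟩ := Submodule.mem_span_singleton.mp hz
    simp [Algebra.TensorProduct.one_def, gMap_tmul]
  rw [h1, h2, add_zero]

variable (K B) in
/-- The inverse map `B ⊗ cotangent → Ω`. -/
noncomputable def invMap : B ⊗[K] (B ⧸ cotN K B) →ₗ[B] Ω[B⁄K] :=
  LinearMap.liftBaseChange B ((cotN K B).liftQ (gMap K B ∘ₗ comul) fun _ hx =>
    gMap_comul_eq_zero hx)

lemma invMap_lTensor (w : B ⊗[K] B) :
    invMap K B ((proj K B).lTensor B w) =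
      TensorProduct.lift ((LinearMap.lsmul B Ω[B⁄K]).restrictScalars₁₂ K K)
        ((gMap K B).lTensor B (comul.lTensor B w)) := by
  induction w using TensorProduct.induction_on with
  | zero => simp
  | add x y hx hy => simp only [map_add, hx, hy]
  | tmul a b => (first | (simp [invMap, proj]; done) | (simp [invMap, proj]; rfl))

lemma invMap_invDer (b : B) : invMap K B (invDer K B b) = KaehlerDifferential.D K B b := by
  show invMap K B ((proj K B).lTensor B (comul b)) = _
  rw [invMap_lTensor, ← coassoc_apply]
  have key : ∀ u : B ⊗[K] B,
      TensorProduct.lift ((LinearMap.lsmul B Ω[B⁄K]).restrictScalars₁₂ K K)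
        ((gMap K B).lTensor B (TensorProduct.assoc K B B B (comul.rTensor B u))) =
      KaehlerDifferential.D K B (TensorProduct.lid K B (counit.rTensor B u)) := by
    intro u
    induction u using TensorProduct.induction_on with
    | zero => simp
    | add x y hx hy => simp only [map_add, hx, hy]
    | tmul x c =>
      have h : ∀ t : B ⊗[K] B,
          TensorProduct.lift ((LinearMap.lsmul B Ω[B⁄K]).restrictScalars₁₂ K K)
            ((gMap K B).lTensor B (TensorProduct.assoc K B B B (t ⊗ₜ c))) =
          LinearMap.mul' K B ((HopfAlgebra.antipode K).lTensor B t) •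
            KaehlerDifferential.D K B c := by
        intro t
        induction t using TensorProduct.induction_on with
        | zero => simp
        | add x y hx hy => simp only [add_tmul, map_add, hx, hy, add_smul]
        | tmul a a' => simp [gMap_tmul, smul_smul, mul_comm]
      rw [LinearMap.rTensor_tmul, h, HopfAlgebra.mul_antipode_lTensor_comul_apply]
      simp [Algebra.smul_def]
  rw [key, rTensor_counit_comul]
  simp

lemma invDer_gMap (w : B ⊗[K] B) :
    (invDer K B).liftKaehlerDifferential (gMap K B w) =
      TensorProduct.lift ((LinearMap.lsmul B (B ⊗[K] (B ⧸ cotN K B))).restrictScalars₁₂ K K ∘ₗ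
        HopfAlgebra.antipode K) (((proj K B).lTensor B).lTensor B (comul.lTensor B w)) := by
  induction w using TensorProduct.induction_on with
  | zero => simp
  | add x y hx hy => simp only [map_add, hx, hy]
  | tmul a b => simp [gMap_tmul, invDer]

lemma invDer_invMap (x : B) :
    (invDer K B).liftKaehlerDifferential (invMap K B (1 ⊗ₜ proj K B x)) = 1 ⊗ₜ proj K B x := by
  have e : invMap K B (1 ⊗ₜ proj K B x) = gMap K B (comul x) := by (first | (simp [invMap, proj]; done) | (simp [invMap, proj]; rfl))
  rw [e, invDer_gMap, ← coassoc_apply]
  have key : ∀ u : B ⊗[K] B,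
      TensorProduct.lift ((LinearMap.lsmul B (B ⊗[K] (B ⧸ cotN K B))).restrictScalars₁₂ K K ∘ₗ
        HopfAlgebra.antipode K)
        (((proj K B).lTensor B).lTensor B (TensorProduct.assoc K B B B (comul.rTensor B u))) =
      1 ⊗ₜ proj K B (TensorProduct.lid K B (counit.rTensor B u)) := by
    intro u
    induction u using TensorProduct.induction_on with
    | zero => simp
    | add x y hx hy => simp only [map_add, tmul_add, hx, hy]
    | tmul y c =>
      have h : ∀ t : B ⊗[K] B,
          TensorProduct.lift ((LinearMap.lsmul B (B ⊗[K] (B ⧸ cotN K B))).restrictScalars₁₂ K K ∘ₗ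
            HopfAlgebra.antipode K)
            (((proj K B).lTensor B).lTensor B (TensorProduct.assoc K B B B (t ⊗ₜ c))) =
          convL K B t ⊗ₜ proj K B c := by
        intro t
        induction t using TensorProduct.induction_on with
        | zero => simp
        | add x y hx hy => simp only [add_tmul, map_add, hx, hy]
        | tmul a a' => simp [convL, smul_tmul']
      rw [LinearMap.rTensor_tmul, h, convL_comul]
      simp [Algebra.algebraMap_eq_smul_one, smul_tmul]
  rw [key, rTensor_counit_comul]
  simp

end

/-- Affine case of the last sentence: for a group scheme over a field the module of differentials is a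
free module; stated for an affine group scheme Spec B, i.e. for a commutative Hopf algebra B over a
field K: Ω_{B/K} is a free B-module. -/
theorem result (K : Type u) [Field K] (B : Type v) [CommRing B] [HopfAlgebra K B] : Module.Free B (Ω[B⁄K]) := by
  let e : Ω[B⁄K] ≃ₗ[B] B ⊗[K] (B ⧸ cotN K B) :=
    LinearEquiv.ofLinear (invDer K B).liftKaehlerDifferential (invMap K B)
      (by
        ext x
        simpa [proj] using invDer_invMap x)
      (by
        refine Derivation.liftKaehlerDifferential_unique _ _ (Derivation.ext fun b => ?_)
        simpa using invMap_invDer b)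
  exact Module.Free.of_equiv e.symm

end Groth.Agent.S1846
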