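import Groth.Statements.S18461
import Groth.Agent.S18454


set_option autoImplicit false
universe u
open CategoryTheory CategoryTheory.Limits AlgebraicGeometry TopologicalSpace
open Surf

namespace Groth.Agent.S18461

open Groth.Agent.HodgeIdx81 Groth.Agent.ProjTwist

set_option linter.style.haveILetI false
attribute [local irreducible] Curv2.euler

theorem subsingleton_tens_add (k : Type u) [Field k] [IsAlgClosed k] {X : Scheme.{u}}
    [X.Over (Spec (CommRingCat.of k))] [IsProper (X ↘ Spec (CommRingCat.of k))] [IsIntegral X]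
    (hdim : topologicalKrullDim X = ((2 : ℕ) : WithBot ℕ∞))
    (hreg : ∀ x : X, IsRegularLocalRing (X.presheaf.stalk x))
    {W : X.IdealSheafData} (hW : BlowUp.IsEffCartierIdeal W)
    (C : X.IdealSheafData) [IsIntegral C.subscheme]
    (hC : topologicalKrullDim ↥(C.support : Set X) = ((1 : ℕ) : WithBot ℕ∞))
    (hχ : Curv2.euler k X (ClSub.quotMod C) = 1) {L : X.Modules} (hL : PicF.IsInvertible L)
    (hpr : pr k L (ClSub.idealMod C) + pr k (ClSub.idealMod W) (ClSub.idealMod C) ≤ 1)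
    (h : Subsingleton (Coh.HH X (CohB1.tensorMod L (ClSub.quotMod W)) 1)) :
    Subsingleton (Coh.HH X (CohB1.tensorMod L (ClSub.quotMod (W * C))) 1) := by
  haveI := EulerChar.isNoetherian k (X := X)
  have hWi := IdealSh.IdealMod.isInvertible_of_isEffCartierIdeal W hW
  have hCe := Sub.isEffCartier_curve k hdim hreg C hC
  have hCi := IdealSh.IdealMod.isInvertible_of_isEffCartierIdeal C hCe
  obtain ⟨S, hS, ⟨e₁⟩, ⟨e₂⟩, ⟨e₃⟩⟩ := Sub.exists_mulShort k hW hCe
  let F := (DCoh.tensorBi (X := X)).obj L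
  let S' := ShortComplex.mk (F.map S.f) (F.map S.g) (by rw [← F.map_comp, S.zero, F.map_zero])
  have hS' : S'.ShortExact := CohDev.tens_shortExact (isFinLocFreeOfRank_one hL) hS
  have hLW : PicF.IsInvertible (CohB1.tensorMod L (ClSub.idealMod W)) :=
    AmpleLib.isInvertible_tensorMod hL hWi
  let i₁ : CohB1.tensorMod L S.X₁ ≅ S'.X₁ := Iso.refl (F.obj S.X₁)
  let i₂ : CohB1.tensorMod L S.X₂ ≅ S'.X₂ := Iso.refl (F.obj S.X₂)
  let i₃ : CohB1.tensorMod L S.X₃ ≅ S'.X₃ := Iso.refl (F.obj S.X₃)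
  haveI := Rational.curve_h1 k C hC hχ hLW
    (by rw [deg1_quotMod k hCi hLW, pr_add_left k hdim.le hL hWi hCi]; omega)
  haveI h1 : Subsingleton (Coh.HH X S'.X₁ 1) :=
    AmpCrit.subsingleton_HH_of_iso (tensAssoc _ _ _ ≪≫ tensCongr (Iso.refl L) e₁.symm ≪≫ i₁) 1
  haveI := h
  haveI h3 : Subsingleton (Coh.HH X S'.X₃ 1) :=
    AmpCrit.subsingleton_HH_of_iso (tensCongr (Iso.refl L) e₃.symm ≪≫ i₃) 1
  haveI := Rational.subsingleton_h1_of_shortExact k hS' h1 h3
  exact AmpCrit.subsingleton_HH_of_iso (i₂.symm ≪≫ tensCongr (Iso.refl L) e₂) 1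

/-- Let k be an algebraically closed field of characteristic zero and X a smooth projective surface over
k (integral, proper and smooth over k, of dimension 2). Let C_1, …, C_r (r ≥ 1) be pairwise distinct
integral curves on X, with ideal sheaves I_i, forming a connected configuration with negative
definite intersection matrix (no partition of the indices into two nonempty sets with (I_i·I_j) = 0
across; Σ a_i a_j (I_i·I_j) < 0 for every nonzero integer vector a; (A·B) = χ(O_X) − χ(A) − χ(B) +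
χ(A ⊗ B)), and let Z₀ be a fundamental cycle: a nonzero effective Cartier divisor supported on ⋃ C_i
with deg(I_{Z₀}|_{C_i}) = χ(O_{C_i} ⊗ I_{Z₀}) − χ(O_{C_i}) ≥ 0 for all i, every other such divisor Z
satisfying Z ≥ Z₀ (I_Z ⊆ I_{Z₀}). Suppose the configuration is rational in the sense that H¹(Z, O_Z)
= 0 for every nonzero effective Cartier divisor Z supported on ⋃ C_i. Then for every natural number
N, writing O_{Z₀}(−NZ₀) = O_{Z₀} ⊗ I_{Z₀}^{⊗N}: H¹(Z₀, O_{Z₀}(−NZ₀)) = 0 and dim_k H⁰(Z₀,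
O_{Z₀}(−NZ₀)) = −N·(I_{Z₀}·I_{Z₀}) + 1, that is −N·Z₀² + 1; cohomology is computed on X through the
direct image of O_{Z₀}. The published statement assumes the singularity obtained by contracting the
configuration over the complex numbers rational, which is equivalent to the vanishing assumed here,
and also asserts R¹π_*O_X(−NZ₀) = 0 for the contraction π and two facts on the maximal ideal of that
singularity; those are not restated. -/
theorem result (k : Type u) [Field k] [IsAlgClosed k] [CharZero k]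
    (X : Scheme.{u}) [X.Over (Spec (CommRingCat.of k))] [IsProper (X ↘ (Spec (CommRingCat.of k)))]
    [Smooth (X ↘ (Spec (CommRingCat.of k)))] [IsIntegral X] (hdim : topologicalKrullDim X = 2)
    (r : ℕ) (hr : 0 < r) (C : Fin r → X.IdealSheafData) (hC : Function.Injective C)
    (hCi : ∀ i, IsIntegral (C i).subscheme) (hCd : ∀ i, topologicalKrullDim ((C i).support : Set X) = 1)
    (hconn : ∀ S : Finset (Fin r), S.Nonempty → Sᶜ.Nonempty →
      ∃ i ∈ S, ∃ j ∈ Sᶜ, FGA.intNum k X 2 ![(ClSub.idealMod (C i)), (ClSub.idealMod (C j))] (Coh.structureModule X) ≠ 0)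
    (hneg : ∀ a : Fin r → ℤ, a ≠ 0 →
      ∑ i, ∑ j, a i * a j * FGA.intNum k X 2 ![(ClSub.idealMod (C i)), (ClSub.idealMod (C j))] (Coh.structureModule X) < 0)
    (Z₀ : X.IdealSheafData) (hZ₀ : FGA.IsEffCartier Z₀) (hZ₀0 : Z₀ ≠ ⊤)
    (hZ₀s : (Z₀.support : Set X) ⊆ ⋃ i, ((C i).support : Set X))
    (hZ₀C : ∀ i, 0 ≤ Curv2.euler k X (CohB1.tensorMod (ClSub.quotMod (C i)) (ClSub.idealMod Z₀)) -
      Curv2.euler k X (ClSub.quotMod (C i)))
    (hZ₀min : ∀ Z : X.IdealSheafData, FGA.IsEffCartier Z → Z ≠ ⊤ → (Z.support : Set X) ⊆ ⋃ i, ((C i).support : Set X) →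
      (∀ i, 0 ≤ Curv2.euler k X (CohB1.tensorMod (ClSub.quotMod (C i)) (ClSub.idealMod Z)) -
        Curv2.euler k X (ClSub.quotMod (C i))) → Z ≤ Z₀)
    (hrat : ∀ Z : X.IdealSheafData, FGA.IsEffCartier Z → Z ≠ ⊤ → (Z.support : Set X) ⊆ ⋃ i, ((C i).support : Set X) →
      Subsingleton (Coh.HH X (ClSub.quotMod Z) 1))
    (N : ℕ) :
    Subsingleton (Coh.HH X (CohB1.tensorMod (ClSub.quotMod Z₀) (CohB1.tensorPow (ClSub.idealMod Z₀) N)) 1) ∧
      (Module.finrank k (Coh.HH X (CohB1.tensorMod (ClSub.quotMod Z₀) (CohB1.tensorPow (ClSub.idealMod Z₀) N)) 0) : ℤ) =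
        -(N : ℤ) * FGA.intNum k X 2 ![(ClSub.idealMod Z₀), (ClSub.idealMod Z₀)] (Coh.structureModule X) + 1 := by
  classical
  have hd : topologicalKrullDim X = ((2 : ℕ) : WithBot ℕ∞) := by rw [hdim]; norm_num
  have hreg : ∀ x : X, IsRegularLocalRing (X.presheaf.stalk x) :=
    CurveDVR.isRegularLocalRing_stalk (X ↘ (Spec (CommRingCat.of k)))
  have hC1 : ∀ i, topologicalKrullDim ↥((C i).support : Set X) = ((1 : ℕ) : WithBot ℕ∞) :=
    fun i => (hCd i).trans rfl
  have hCe : ∀ i, BlowUp.IsEffCartierIdeal (C i) := fun i =>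
    haveI := hCi i
    Sub.isEffCartier_curve k hd hreg (C i) (hC1 i)
  haveI := EulerChar.isNoetherian k (X := X)
  have hI : ∀ i, PicF.IsInvertible (ClSub.idealMod (C i)) := fun i =>
    IdealSh.IdealMod.isInvertible_of_isEffCartierIdeal _ (hCe i)
  have hχC : ∀ i, Curv2.euler k X (ClSub.quotMod (C i)) ≤ 1 := fun i =>
    haveI := hCi i
    (RR.curve_euler k _ (hC1 i)).1
  let g : Fin r → X := fun i =>
    haveI := hCi i
    (C i).subschemeι (genericPoint ↥(C i).subscheme)
  obtain ⟨A, hA⟩ := exists_ample k hreg hd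
  have hZC : ∀ i, pr k (ClSub.idealMod Z₀) (ClSub.idealMod (C i)) ≤ 0 := fun i => by
    have h0 := IdealSh.IdealMod.isInvertible_of_isEffCartierIdeal Z₀ hZ₀
    have h : 0 ≤ NumTriv.deg1 k (ClSub.quotMod (C i)) (ClSub.idealMod Z₀) := hZ₀C i
    rw [deg1_quotMod k (hI i) h0] at h
    omega
  have hprm : ∀ {P Q : X.IdealSheafData}, BlowUp.IsEffCartierIdeal P → BlowUp.IsEffCartierIdeal Q → ∀ i,
      pr k (ClSub.idealMod (P * Q)) (ClSub.idealMod (C i)) =
        pr k (ClSub.idealMod P) (ClSub.idealMod (C i)) + pr k (ClSub.idealMod Q) (ClSub.idealMod (C i)) := by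
    intro P Q hP hQ i
    rw [pr_comm, Fundamental.pr_mul k hd hP hQ (hI i), pr_comm k (ClSub.idealMod P), pr_comm k (ClSub.idealMod Q)]
  have hχ0 : Curv2.euler k X (ClSub.quotMod Z₀) = 1 :=
    (S18454.result k X hdim r hr C hC hCi hCd hconn hneg Z₀ hZ₀ hZ₀0 hZ₀s hZ₀C hZ₀min).1 hrat
  have hZi := IdealSh.IdealMod.isInvertible_of_isEffCartierIdeal Z₀ hZ₀
  let V := CohB1.tensorPow (ClSub.idealMod Z₀) N
  have hV : PicF.IsInvertible V := AmpleLib.isInvertible_tensorPow hZi N
  have hVC : ∀ i, pr k V (ClSub.idealMod (C i)) ≤ 0 := fun i => by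
    rw [pr_pow_left k hd.le hZi (hI i) N]
    exact mul_nonpos_of_nonneg_of_nonpos (Int.natCast_nonneg _) (hZC i)
  have key : ∀ (n : ℕ) (W R : X.IdealSheafData), BlowUp.IsEffCartierIdeal W → BlowUp.IsEffCartierIdeal R →
      W ≠ ⊤ → Z₀ = W * R → -pr k A (ClSub.idealMod R) ≤ n →
      Curv2.euler k X (ClSub.quotMod Z₀) ≤ Curv2.euler k X (ClSub.quotMod W) ∧
      (Curv2.euler k X (ClSub.quotMod Z₀) = Curv2.euler k X (ClSub.quotMod W) →
        Subsingleton (Coh.HH X (CohB1.tensorMod V (ClSub.quotMod W)) 1) →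
        Subsingleton (Coh.HH X (CohB1.tensorMod V (ClSub.quotMod Z₀)) 1)) := by
    intro n
    induction n using Nat.strong_induction_on with
    | _ n ih =>
      intro W R hW hR hW0 hZ hn
      by_cases hex : ∃ i, 0 < pr k (ClSub.idealMod W) (ClSub.idealMod (C i))
      · obtain ⟨i, hi⟩ := hex
        haveI := hCi i
        have hmem : g i ∈ (R.support : Set X) := by
          by_contra hm
          have h1 := Fundamental.pr_curve_nonneg k hd hreg hR (C i) (hC1 i) hm
          have h2 := hZC i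
          rw [hZ, hprm hW hR i] at h2
          omega
        obtain ⟨eC, -⟩ := RealNakai.eq_ptIdeal (C i)
        obtain ⟨R', hR', hRR⟩ := Sub.exists_split k hd hreg hR hmem (show _ = _ by rw [← eC]; exact hC1 i)
        rw [← eC] at hRR
        have hAR := Fundamental.pr_mul k hd hR' (hCe i) hA.1
        rw [hRR] at hAR
        have hAC := RealNakai.pr_ample_curve k hA (C i) (hC1 i) (hI i)
        have hAR' := Fundamental.pr_ample_nonpos k hd hreg hA hR'
        obtain ⟨hle, hst⟩ := ih (-pr k A (ClSub.idealMod R')).toNat (by omega) (W * C i) R'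
          (IdealSh.EffCartier.mul hW (hCe i)) hR'
          (fun h => Fundamental.curve_ne_top (C i) (top_le_iff.1 (h ▸ Fundamental.mul_le_right' W (C i))))
          (by rw [hZ, ← hRR, mul_comm R', mul_assoc]) (Int.self_le_toNat _)
        have hm := Fundamental.euler_mul k hd hW (hCe i)
        have hc := hχC i
        refine ⟨by omega, fun he h => hst (by omega) ?_⟩
        exact subsingleton_tens_add k hd hreg hW (C i) (hC1 i) (by omega) hV
          (by have := hVC i; omega) h
      · push Not at hex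
        have hWi := IdealSh.IdealMod.isInvertible_of_isEffCartierIdeal W hW
        have hsupp : (W.support : Set X) ⊆ ⋃ i, ((C i).support : Set X) := fun x hx =>
          hZ₀s (by rw [hZ, Scheme.IdealSheafData.support_mul]; exact Or.inl hx)
        have hWle : W ≤ Z₀ := hZ₀min W hW hW0 hsupp fun i => by
          change 0 ≤ NumTriv.deg1 k (ClSub.quotMod (C i)) (ClSub.idealMod W)
          rw [deg1_quotMod k (hI i) hWi]
          have := hex i
          omega
        have e : Z₀ = W := le_antisymm (by rw [hZ, mul_comm]; exact Fundamental.mul_le_right' R W) hWle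
        rw [e]
        exact ⟨le_rfl, fun _ h => h⟩
  -- a first curve
  have hpiece : ∃ i, g i ∈ (Z₀.support : Set X) := by
    obtain ⟨s, m, hs, hp⟩ := Sub.pr_ideal_pieces k hd hreg hZ₀
    obtain ⟨ξ, hξ⟩ : s.Nonempty := by
      by_contra h
      have h1 := pr_ample_ideal_neg k hd hreg hA hZ₀ hZ₀0
      rw [hp A hA.1, Finset.not_nonempty_iff_eq_empty.1 h] at h1
      simp at h1
    obtain ⟨i, hi⟩ := Set.mem_iUnion.1 (hZ₀s (hs ξ hξ).1)
    haveI := hCi i
    refine ⟨i, ?_⟩
    have hmem := Fundamental.mem_support (C i)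
    have hset : ((C i).support : Set X) = closure {ξ} :=
      (congrArg (fun I : X.IdealSheafData => (I.support : Set X))
        (Fundamental.ptIdeal_eq (C i) hi (hC1 i) (hs ξ hξ).2.2.1)).symm.trans (CohDev.coe_support_ptIdeal ξ)
    rw [hset] at hmem
    exact closure_minimal (Set.singleton_subset_iff.2 (hs ξ hξ).1) Z₀.support.isClosed hmem
  have start : ∀ i, g i ∈ (Z₀.support : Set X) → ∃ R, BlowUp.IsEffCartierIdeal R ∧ Z₀ = C i * R := fun i hi => by
    haveI := hCi i
    obtain ⟨eC, -⟩ := RealNakai.eq_ptIdeal (C i)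
    obtain ⟨R, hR, hRR⟩ := Sub.exists_split k hd hreg hZ₀ hi (show _ = _ by rw [← eC]; exact hC1 i)
    rw [← eC] at hRR
    exact ⟨R, hR, by rw [← hRR, mul_comm]⟩
  obtain ⟨i₀, hi₀⟩ := hpiece
  obtain ⟨R₀, hR₀, hZR₀⟩ := start i₀ hi₀
  haveI := hCi i₀
  obtain ⟨hle, hstep⟩ := key _ (C i₀) R₀ (hCe i₀) hR₀ (Fundamental.curve_ne_top _) hZR₀ (Int.self_le_toNat _)
  have hc₀ := hχC i₀
  have hne := Fundamental.curve_ne_top (C i₀)
  have hstart : Subsingleton (Coh.HH X (CohB1.tensorMod V (ClSub.quotMod (C i₀))) 1) :=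
    Rational.curve_h1 k (C i₀) (hC1 i₀) (by omega) hV
      (by rw [deg1_quotMod k (hI i₀) hV]; have := hVC i₀; omega)
  haveI h1 := hstep (by omega) hstart
  haveI hH1 : Subsingleton (Coh.HH X (CohB1.tensorMod (ClSub.quotMod Z₀) V) 1) :=
    AmpCrit.subsingleton_HH_of_iso (tensComm V (ClSub.quotMod Z₀)) 1
  haveI : Subsingleton (Coh.HH X (CohB1.tensorMod V (ClSub.quotMod Z₀)) 2) :=
    Fundamental.subsingleton_tens_quot k Z₀ hV 1 2 (Fundamental.dim_le_one hd Z₀.support.isClosed fun hu => by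
      obtain ⟨i, hi⟩ := Set.mem_iUnion.1 (hZ₀s (hu ▸ Set.mem_univ (genericPoint X)))
      have huniv : ((C i).support : Set X) = Set.univ :=
        Set.univ_subset_iff.1 ((genericPoint_spec X).def ▸
          closure_minimal (Set.singleton_subset_iff.2 hi) (C i).support.isClosed)
      have h := hC1 i
      rw [huniv, IsHomeomorph.topologicalKrullDim_eq _ (Homeomorph.Set.univ X).isHomeomorph, hd] at h
      exact absurd h (by decide)) (by norm_num)
  haveI : Subsingleton (Coh.HH X (CohB1.tensorMod (ClSub.quotMod Z₀) V) 2) :=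
    AmpCrit.subsingleton_HH_of_iso (tensComm V (ClSub.quotMod Z₀)) 2
  refine ⟨hH1, ?_⟩
  show (Module.finrank k (Coh.HH X (CohB1.tensorMod (ClSub.quotMod Z₀) V) 0) : ℤ) = _
  have h2 := deg1_quotMod k hZi hV
  rw [NumTriv.deg1, SurfRR.euler_eq_three k hd.le,
    Module.finrank_zero_of_subsingleton (M := Coh.HH X (CohB1.tensorMod (ClSub.quotMod Z₀) V) 1),
    Module.finrank_zero_of_subsingleton (M := Coh.HH X (CohB1.tensorMod (ClSub.quotMod Z₀) V) 2),
    hχ0, pr_pow_left k hd.le hZi hZi N] at h2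
  rw [intNum_eq_pr k hd hZi hZi]
  push_cast at h2
  linarith

end Groth.Agent.S18461
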