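import Groth.Statements.S18462
import Groth.Agent.HodgeIdx81.RealNakai


set_option autoImplicit false
universe u
open CategoryTheory CategoryTheory.Limits AlgebraicGeometry TopologicalSpace
open Surf

namespace Groth.Agent.S18462

open Groth.Agent.HodgeIdx81

set_option linter.style.haveILetI false

/-- Let k be an algebraically closed field of characteristic zero and X a smooth projective surface over
k (integral, proper and smooth over k, of dimension 2, carrying an ample invertible module). Let
C_1, …, C_r be pairwise distinct integral curves on X with ideal sheaves I_i and negative definite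
intersection matrix (Σ_{i,j} a_i a_j (I_i·I_j) < 0 for every nonzero integer vector a, where (A·B) =
χ(O_X) − χ(A) − χ(B) + χ(A ⊗ B)), let F be an effective Cartier divisor on X, with ideal I_F, none
of whose components is a C_i, and let s_1, …, s_r be integers such that the divisor class F + Σ_i
s_i C_i is orthogonal to every C_j, that is (F·C_j) + Σ_i s_i (C_i·C_j) = 0, written here as
deg(I_F|_{C_j}) = χ(O_{C_j} ⊗ I_F) − χ(O_{C_j}) = Σ_i s_i (I_i·I_j) for every j. Then all the s_i
are nonnegative. The published statement allows real coefficients s_i; this row takes integer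
coefficients. Its second assertion, that s_i > 0 on every connected group of the C_i one of which
meets F positively, is not restated. -/
theorem result (k : Type u) [Field k] [IsAlgClosed k] [CharZero k]
    (X : Scheme.{u}) [X.Over (Spec (CommRingCat.of k))] [IsProper (X ↘ (Spec (CommRingCat.of k)))]
    [Smooth (X ↘ (Spec (CommRingCat.of k)))] [IsIntegral X] (hdim : topologicalKrullDim X = 2)
    (hproj : ∃ H : X.Modules, CohB1.IsAmple H)
    (r : ℕ) (C : Fin r → X.IdealSheafData) (hC : Function.Injective C)
    (hCi : ∀ i, IsIntegral (C i).subscheme) (hCd : ∀ i, topologicalKrullDim ((C i).support : Set X) = 1)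
    (hneg : ∀ a : Fin r → ℤ, a ≠ 0 →
      ∑ i, ∑ j, a i * a j * FGA.intNum k X 2 ![(ClSub.idealMod (C i)), (ClSub.idealMod (C j))] (Coh.structureModule X) < 0)
    (F : X.IdealSheafData) (hF : FGA.IsEffCartier F) (hFC : ∀ i, ¬ ((C i).support : Set X) ⊆ (F.support : Set X))
    (s : Fin r → ℤ)
    (horth : ∀ j, Curv2.euler k X (CohB1.tensorMod (ClSub.quotMod (C j)) (ClSub.idealMod F)) - Curv2.euler k X (ClSub.quotMod (C j)) =
      ∑ i, s i * FGA.intNum k X 2 ![(ClSub.idealMod (C i)), (ClSub.idealMod (C j))] (Coh.structureModule X)) :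
    ∀ i, 0 ≤ s i := by
  have hd : topologicalKrullDim X = ((2 : ℕ) : WithBot ℕ∞) := by rw [hdim]; norm_num
  have hreg : ∀ x : X, IsRegularLocalRing (X.presheaf.stalk x) :=
    CurveDVR.isRegularLocalRing_stalk (X ↘ (Spec (CommRingCat.of k)))
  have hC1 : ∀ i, topologicalKrullDim ↥((C i).support : Set X) = ((1 : ℕ) : WithBot ℕ∞) :=
    fun i => (hCd i).trans rfl
  have hI : ∀ i, PicF.IsInvertible (ClSub.idealMod (C i)) := fun i =>
    haveI := hCi i
    isInvertible_of_curve k hreg hd (C i) (hC1 i)
  let G : Fin r → Fin r → ℤ := fun i j => pr k (ClSub.idealMod (C i)) (ClSub.idealMod (C j))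
  have hG0 : ∀ i j, i ≠ j → 0 ≤ G i j := fun i j hij => by
    haveI := hCi i
    haveI := hCi j
    exact RealNakai.pr_curves_nonneg k (hC1 j) (hC1 i) (hI j) (hI i) fun h => hij (hC h).symm
  have hpn : ∀ a b : Fin r → ℤ, (∀ i, 0 ≤ a i) → (∀ i, 0 ≤ b i) → (∀ i, a i * b i = 0) →
      0 ≤ ∑ i, ∑ j, a i * b j * G i j := fun a b ha hb hab =>
    Finset.sum_nonneg fun i _ => Finset.sum_nonneg fun j _ => by
      rcases eq_or_ne i j with rfl | h
      · rw [hab, zero_mul]
      · exact mul_nonneg (mul_nonneg (ha i) (hb j)) (hG0 i j h)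
  have hN : ∀ i j, FGA.intNum k X 2 ![(ClSub.idealMod (C i)), (ClSub.idealMod (C j))] (Coh.structureModule X) =
      G i j := fun i j => intNum_eq_pr k hd (hI i) (hI j)
  have hneg' : ∀ a : Fin r → ℤ, a ≠ 0 → ∑ i, ∑ j, a i * a j * G i j < 0 := fun a ha =>
    lt_of_eq_of_lt (Finset.sum_congr rfl fun i _ => Finset.sum_congr rfl fun j _ => by rw [hN]) (hneg a ha)
  have hFI : PicF.IsInvertible (ClSub.idealMod F) :=
    IdealSh.IdealMod.isInvertible_of_isEffCartierIdeal F hF
  have hFC0 : ∀ j, 0 ≤ pr k (ClSub.idealMod F) (ClSub.idealMod (C j)) := fun j => by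
    haveI := hCi j
    have hgen : (C j).subschemeι (genericPoint ↥(C j).subscheme) ∉ (F.support : Set X) := fun h =>
      hFC j ((RealNakai.eq_ptIdeal (C j)).2 ▸
        closure_minimal (Set.singleton_subset_iff.2 h) F.support.isClosed)
    have h := RealNakai.pr_le_of_hom k hFI (PicLoc.isInvertible_structureModule X) (ClSub.idealModι F) (C j)
      (hC1 j) (hI j) fun hmem => hgen (EulerChar.support_quotMod_subset F (CohDev.support_subset_of_epi
        ((cokernelIsCokernel (ClSub.idealModι F)).coconePointUniqueUpToIso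
          (EulerChar.shortExact_ideal F).gIsCokernel).inv hmem))
    rwa [pr_one_left] at h
  let p : Fin r → ℤ := fun i => max (s i) 0
  let n : Fin r → ℤ := fun i => max (-s i) 0
  have hab : ∀ i, p i * n i = 0 := fun i => by
    rcases le_total (s i) 0 with h | h <;> simp [p, n, h]
  have key : ∀ q : Fin r → ℤ, ∑ i, ∑ j, q i * p j * G i j - ∑ i, ∑ j, q i * n j * G i j =
      ∑ i, q i * ∑ j, s j * G i j := fun q => by
    rw [← Finset.sum_sub_distrib]
    refine Finset.sum_congr rfl fun i _ => ?_
    rw [← Finset.sum_sub_distrib, Finset.mul_sum]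
    refine Finset.sum_congr rfl fun j _ => ?_
    rw [show s j = p j - n j by simp only [p, n]; omega]
    ring
  have hs : ∀ j, ∑ i, s i * G j i ≤ 0 := fun j => by
    have h := horth j
    rw [show Curv2.euler k X (CohB1.tensorMod (ClSub.quotMod (C j)) (ClSub.idealMod F)) -
        Curv2.euler k X (ClSub.quotMod (C j)) = NumTriv.deg1 k (ClSub.quotMod (C j)) (ClSub.idealMod F) from rfl,
      deg1_quotMod k (hI j) hFI] at h
    refine le_trans (le_of_eq (Finset.sum_congr rfl fun i _ => ?_)) (h.symm.le.trans (neg_nonpos.2 (hFC0 j)))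
    rw [hN, show G j i = G i j from pr_comm k _ _]
  have hn : n = 0 := by
    by_contra hne
    have h1 := hneg' n hne
    have h2 := hpn n p (fun i => le_max_right _ _) (fun i => le_max_right _ _)
      fun i => by rw [mul_comm]; exact hab i
    have h3 : ∑ i, n i * ∑ j, s j * G i j ≤ 0 :=
      Finset.sum_nonpos fun i _ => mul_nonpos_of_nonneg_of_nonpos (le_max_right _ _) (hs i)
    have h4 := key n
    omega
  intro i
  have h := congrFun hn i
  simp only [n, Pi.zero_apply] at h
  omega

end Groth.Agent.S18462
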