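import Groth.Statements.S18463
import Groth.Agent.HodgeIdx81.RealNakai
import Groth.Agent.CartDiv.DimOne


set_option autoImplicit false
universe u
open CategoryTheory CategoryTheory.Limits AlgebraicGeometry TopologicalSpace
open Surf

namespace Groth.Agent.S18463

open Groth.Agent.HodgeIdx81

set_option linter.style.haveILetI false

/-- Let k be an algebraically closed field of characteristic zero and X a smooth projective surface over
k (integral, proper and smooth over k, of dimension 2, carrying an ample invertible module). Let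
C_1, …, C_r be pairwise distinct integral curves on X with ideal sheaves I_i and negative definite
intersection matrix (Σ_{i,j} a_i a_j (I_i·I_j) < 0 for every nonzero integer vector a, where (A·B) =
χ(O_X) − χ(A) − χ(B) + χ(A ⊗ B)), let F be an effective Cartier divisor on X, with ideal I_F, none
of whose components is a C_i, and let s_1, …, s_r be integers such that F is numerically equivalent
to Σ_i s_i C_i: (I_F·M) = Σ_i s_i (I_i·M) for every invertible O_X-module M (equivalently (F·D) = Σ
s_i (C_i·D) for every divisor D). Then F = 0, i.e. I_F = O_X, and every s_i is 0. The published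
statement writes the hypothesis as [F] + Σ s_i[C_i] = 0 with real s_i; this row writes F ≡ Σ s_i C_i
with integer s_i, which is the same after changing the signs of the s_i. -/
theorem result (k : Type u) [Field k] [IsAlgClosed k] [CharZero k]
    (X : Scheme.{u}) [X.Over (Spec (CommRingCat.of k))] [IsProper (X ↘ (Spec (CommRingCat.of k)))]
    [Smooth (X ↘ (Spec (CommRingCat.of k)))] [IsIntegral X] (hdim : topologicalKrullDim X = 2)
    (hproj : ∃ H : X.Modules, CohB1.IsAmple H)
    (r : ℕ) (C : Fin r → X.IdealSheafData) (hC : Function.Injective C)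
    (hCi : ∀ i, IsIntegral (C i).subscheme) (hCd : ∀ i, topologicalKrullDim ((C i).support : Set X) = 1)
    (hneg : ∀ a : Fin r → ℤ, a ≠ 0 →
      ∑ i, ∑ j, a i * a j * FGA.intNum k X 2 ![(ClSub.idealMod (C i)), (ClSub.idealMod (C j))] (Coh.structureModule X) < 0)
    (F : X.IdealSheafData) (hF : FGA.IsEffCartier F) (hFC : ∀ i, ¬ ((C i).support : Set X) ⊆ (F.support : Set X))
    (s : Fin r → ℤ)
    (hnum : ∀ M : X.Modules, PicF.IsInvertible M →
      FGA.intNum k X 2 ![(ClSub.idealMod F), M] (Coh.structureModule X) =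
        ∑ i, s i * FGA.intNum k X 2 ![(ClSub.idealMod (C i)), M] (Coh.structureModule X)) :
    F = ⊤ ∧ ∀ i, s i = 0 := by
  have hd : topologicalKrullDim X = ((2 : ℕ) : WithBot ℕ∞) := by rw [hdim]; norm_num
  have hreg : ∀ x : X, IsRegularLocalRing (X.presheaf.stalk x) :=
    CurveDVR.isRegularLocalRing_stalk (X ↘ (Spec (CommRingCat.of k)))
  have hC1 : ∀ i, topologicalKrullDim ↥((C i).support : Set X) = ((1 : ℕ) : WithBot ℕ∞) :=
    fun i => (hCd i).trans rfl
  have hI : ∀ i, PicF.IsInvertible (ClSub.idealMod (C i)) := fun i =>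
    haveI := hCi i
    isInvertible_of_curve k hreg hd (C i) (hC1 i)
  let G : Fin r → Fin r → ℤ := fun i j => pr k (ClSub.idealMod (C i)) (ClSub.idealMod (C j))
  have hG0 : ∀ i j, i ≠ j → 0 ≤ G i j := fun i j hij => by
    haveI := hCi i
    haveI := hCi j
    exact RealNakai.pr_curves_nonneg k (hC1 j) (hC1 i) (hI j) (hI i) fun h => hij (hC h).symm
  have hpn : ∀ a b : Fin r → ℤ, (∀ i, 0 ≤ a i) → (∀ i, 0 ≤ b i) → (∀ i, a i * b i = 0) →
      0 ≤ ∑ i, ∑ j, a i * b j * G i j := fun a b ha hb hab =>
    Finset.sum_nonneg fun i _ => Finset.sum_nonneg fun j _ => by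
      rcases eq_or_ne i j with rfl | h
      · rw [hab, zero_mul]
      · exact mul_nonneg (mul_nonneg (ha i) (hb j)) (hG0 i j h)
  have hN : ∀ i j, FGA.intNum k X 2 ![(ClSub.idealMod (C i)), (ClSub.idealMod (C j))] (Coh.structureModule X) =
      G i j := fun i j => intNum_eq_pr k hd (hI i) (hI j)
  have hneg' : ∀ a : Fin r → ℤ, a ≠ 0 → ∑ i, ∑ j, a i * a j * G i j < 0 := fun a ha =>
    lt_of_eq_of_lt (Finset.sum_congr rfl fun i _ => Finset.sum_congr rfl fun j _ => by rw [hN]) (hneg a ha)
  have hFI : PicF.IsInvertible (ClSub.idealMod F) :=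
    IdealSh.IdealMod.isInvertible_of_isEffCartierIdeal F hF
  have hFC0 : ∀ j, 0 ≤ pr k (ClSub.idealMod F) (ClSub.idealMod (C j)) := fun j => by
    haveI := hCi j
    have hgen : (C j).subschemeι (genericPoint ↥(C j).subscheme) ∉ (F.support : Set X) := fun h =>
      hFC j ((RealNakai.eq_ptIdeal (C j)).2 ▸
        closure_minimal (Set.singleton_subset_iff.2 h) F.support.isClosed)
    have h := RealNakai.pr_le_of_hom k hFI (PicLoc.isInvertible_structureModule X) (ClSub.idealModι F) (C j)
      (hC1 j) (hI j) fun hmem => hgen (EulerChar.support_quotMod_subset F (CohDev.support_subset_of_epi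
        ((cokernelIsCokernel (ClSub.idealModι F)).coconePointUniqueUpToIso
          (EulerChar.shortExact_ideal F).gIsCokernel).inv hmem))
    rwa [pr_one_left] at h
  let p : Fin r → ℤ := fun i => max (s i) 0
  let n : Fin r → ℤ := fun i => max (-s i) 0
  have hab : ∀ i, p i * n i = 0 := fun i => by
    rcases le_total (s i) 0 with h | h <;> simp [p, n, h]
  have key : ∀ q : Fin r → ℤ, ∑ i, ∑ j, q i * p j * G i j - ∑ i, ∑ j, q i * n j * G i j =
      ∑ i, q i * ∑ j, s j * G i j := fun q => by
    rw [← Finset.sum_sub_distrib]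
    refine Finset.sum_congr rfl fun i _ => ?_
    rw [← Finset.sum_sub_distrib, Finset.mul_sum]
    refine Finset.sum_congr rfl fun j _ => ?_
    rw [show s j = p j - n j by simp only [p, n]; omega]
    ring
  obtain ⟨H, hH⟩ := hproj
  haveI := EulerChar.isNoetherian k (X := X)
  have hs : ∀ j, 0 ≤ ∑ i, s i * G j i := fun j => by
    have h := hnum _ (hI j)
    rw [intNum_eq_pr k hd hFI (hI j)] at h
    refine le_trans ((hFC0 j).trans h.le) (le_of_eq (Finset.sum_congr rfl fun i _ => ?_))
    rw [hN, show G j i = G i j from pr_comm k _ _]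
  have hp : p = 0 := by
    by_contra hne
    have h1 := hneg' p hne
    have h2 := hpn p n (fun i => le_max_right _ _) (fun i => le_max_right _ _) hab
    have h3 : 0 ≤ ∑ i, p i * ∑ j, s j * G i j :=
      Finset.sum_nonneg fun i _ => mul_nonneg (le_max_right _ _) (hs i)
    have h4 := key p
    omega
  have hs0 : ∀ i, s i ≤ 0 := fun i => by
    have h := congrFun hp i
    simp only [p, Pi.zero_apply] at h
    omega
  have hc : ∀ i, pr k (ClSub.idealMod (C i)) H < 0 := fun i => by
    haveI := hCi i
    rw [pr_comm]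
    exact RealNakai.pr_ample_curve k hH (C i) (hC1 i) (hI i)
  have hQ := EulerChar.isCoh_quotMod k F
  have hη : genericPoint X ∉ (F.support : Set X) := fun h =>
    IdealSh.Regular.not_mem_support_of_maximal hF (genericPoint X)
      (fun y hy => (Specializes.antisymm hy (genericPoint_specializes y)).eq) h
  have hFd : topologicalKrullDim ↥(F.support : Set X) ≤ ((1 : ℕ) : WithBot ℕ∞) :=
    dim_le_of_not_mem F.support.isClosed hη (d := 1) hd.le
  have hQd : topologicalKrullDim ↥(CohB1.support (ClSub.quotMod F)) ≤ ((1 : ℕ) : WithBot ℕ∞) :=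
    (CohDev.dim_mono (EulerChar.support_quotMod_subset F)).trans hFd
  have hdeg := NumTriv.deg1_nonneg k hQ hQd hH
  have hFH := hnum H hH.1
  rw [intNum_eq_pr k hd hFI hH.1, Finset.sum_congr rfl fun i _ => by rw [intNum_eq_pr k hd (hI i) hH.1],
    pr_comm k (ClSub.idealMod F)] at hFH
  have hsum : 0 ≤ ∑ i, s i * pr k (ClSub.idealMod (C i)) H :=
    Finset.sum_nonneg fun i _ => mul_nonneg_of_nonpos_of_nonpos (hs0 i) (hc i).le
  have hdegeq := deg1_quotMod k hFI hH.1
  have hs00 : ∀ i, s i = 0 := fun i => by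
    have := (Finset.sum_eq_zero_iff_of_nonneg fun j _ => mul_nonneg_of_nonpos_of_nonpos (hs0 j) (hc j).le).1
      (show ∑ i, s i * pr k (ClSub.idealMod (C i)) H = 0 by omega) i (Finset.mem_univ i)
    exact (mul_eq_zero.1 this).resolve_right (hc i).ne
  refine ⟨(Scheme.IdealSheafData.support_eq_bot_iff F).1 ?_, hs00⟩
  have hsupp : (F.support : Set X) ⊆ CohB1.support (ClSub.quotMod F) := fun x hx hsub => by
    obtain ⟨z, rfl⟩ := F.range_subschemeι.ge hx
    let P := ClSub.quotMod F
    obtain ⟨W, hyW, i₁, i₂, e⟩ := P.presheaf.germ_eq (F.subschemeι z)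
      (show F.subschemeι z ∈ (⊤ : X.Opens) from trivial) (show F.subschemeι z ∈ (⊤ : X.Opens) from trivial)
      (show Γ(F.subscheme, F.subschemeι ⁻¹ᵁ ⊤) from 1) 0 (hsub.elim _ _)
    have h1 : (1 : Γ(F.subscheme, F.subschemeι ⁻¹ᵁ W)) = 0 :=
      ((map_one (F.subscheme.presheaf.map ((TopologicalSpace.Opens.map F.subschemeι.base).map i₁).op).hom).symm.trans e).trans
        (map_zero _)
    exact one_ne_zero (α := F.subscheme.presheaf.stalk z)
      ((map_one (F.subscheme.presheaf.germ (F.subschemeι ⁻¹ᵁ W) z hyW).hom).symm.trans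
        ((congrArg (F.subscheme.presheaf.germ (F.subschemeι ⁻¹ᵁ W) z hyW) h1).trans (map_zero _)))
  have hQ0 : topologicalKrullDim ↥(CohB1.support (ClSub.quotMod F)) ≤ ((0 : ℕ) : WithBot ℕ∞) := by
    by_contra h0
    have hQ1 : topologicalKrullDim ↥(CohB1.support (ClSub.quotMod F)) = ((1 : ℕ) : WithBot ℕ∞) := by
      rcases lt_or_eq_of_le hQd with h | h
      · exact absurd (Snapper.le_of_lt_succ h) h0
      · exact h
    obtain ⟨H', hH', ⟨e⟩⟩ := PicLaw.exists_inverse hH.1
    have hpos := IntProd70.intE_pos k (L := fun _ : Fin 1 => H) (M := fun _ : Fin 1 => H')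
      (fun _ => hH) (fun _ => ⟨e⟩) hQ hQ1
    rw [show (fun _ : Fin 1 => H') = Fin.cons H' (fun i : Fin 0 => H') from
        funext fun i => by fin_cases i; rfl,
      Snapper.intE_cons k (fun i => i.elim0) hH' hQ, map_sub,
      Snapper.intK_kcl k (fun i => i.elim0) (Snapper.isCoh_tensorMod k hH' hQ),
      Snapper.intK_kcl k (fun i => i.elim0) hQ, Snapper.intE_zero, Snapper.intE_zero] at hpos
    have h3 := NumTriv.deg1_tens k hQ hQd hH.1 hH'
    rw [NumTriv.deg1_iso k (ClSub.quotMod F) e, NumTriv.deg1_one] at h3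
    have h4 : NumTriv.deg1 k (ClSub.quotMod F) H' =
        Curv2.euler k X (CohB1.tensorMod H' (ClSub.quotMod F)) - Curv2.euler k X (ClSub.quotMod F) := by
      rw [NumTriv.deg1, EulerChar.euler_iso k (ProjTwist.tensComm (ClSub.quotMod F) H')]
    rw [Finset.sum_eq_zero fun i _ => by rw [hs00 i, zero_mul]] at hFH
    omega
  refine TopologicalSpace.Closeds.ext (Set.eq_empty_iff_forall_notMem.2 fun x hx => ?_)
  have h0 : ∀ y ∈ (F.support : Set X), VarDim.dimPt k X y = 0 := fun y hy => by
    have h := ((CohDev.dim_mono (closure_minimal (Set.singleton_subset_iff.2 hy) F.support.isClosed)).trans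
      (CohDev.dim_mono hsupp)).trans hQ0
    rw [FibBound.topDim_closure_singleton k y] at h
    exact Nat.le_zero.1 (by exact_mod_cast h)
  have hgen : ∀ y ∈ (F.support : Set X), y ⤳ x → y = x := fun y hy hyx => by
    have hcl : IsClosed ({y} : Set X) := VarDim.isClosed_singleton_of_isMin
      (Order.height_eq_zero.1 (by rw [VarDim.height_eq_dimPt k y, h0 y hy]; rfl))
    exact (Set.mem_singleton_iff.1 (hyx.mem_closed hcl rfl)).symm
  have h1 := CartDiv.DimOne.ringKrullDim_eq_one F hF x hx hgen
  have h2 := VarDim.le_coheight k (x := x) (y := genericPoint X) (genericPoint_specializes x)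
  have hη2 : VarDim.dimPt k X (genericPoint X) = 2 := by
    have h := (VarDim.topologicalKrullDim_eq_of_irreducible k (X := X)).symm.trans hd
    exact_mod_cast h
  rw [h0 x hx, hη2] at h2
  rw [ringKrullDim_stalk_eq_coheight] at h1
  have h5 : Order.coheight x = (1 : ℕ∞) := by exact_mod_cast h1
  rw [h5] at h2
  exact absurd h2 (by decide)

end Groth.Agent.S18463
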