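import Groth.Statements.S18464
import Groth.Agent.GenericFibre.Forms
import Mathlib.LinearAlgebra.Dual.Lemmas
import Mathlib.Algebra.MvPolynomial.Funext

set_option autoImplicit false
universe u
open CategoryTheory CategoryTheory.Limits AlgebraicGeometry
open LefPen

namespace Groth.Agent.S18464

open Groth.Agent.GenericFibre in
theorem open_nbhd {k : Type u} [Field k] (r d m : ℕ) (x : Fin m → (Fin (r + 1) → k))
    (hx : ∀ G : LefPen.Form r k d, (∀ i : Fin m, MvPolynomial.aeval (x i) G.1 = 0) → G = 0) :
    ∃ f : (Fin m → (Fin (r + 1) → k)) → k, LefPen.IsPolyFun k f ∧ f x ≠ 0 ∧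
      ∀ w, f w ≠ 0 → ∀ G : LefPen.Form r k d, (∀ i : Fin m, MvPolynomial.aeval (w i) G.1 = 0) → G = 0 := by
  classical
  let e := coeffEquiv k r d
  let Φ : (Fin m → (Fin (r + 1) → k)) → (Mon r d → k) →ₗ[k] (Fin m → k) := fun w =>
    LinearMap.pi fun i => (MvPolynomial.aeval (w i)).toLinearMap.comp
      ((CohB1.polyGrading r k d).subtype.comp e.symm.toLinearMap)
  have hker : LinearMap.ker (Φ x) = ⊥ := by
    rw [LinearMap.ker_eq_bot']
    intro c hc
    exact e.symm.injective (by rw [map_zero]; exact hx _ fun i => congrFun hc i)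
  obtain ⟨Ψ, hΨ⟩ := LinearMap.exists_leftInverse_of_injective (Φ x) hker
  let F : Matrix (Mon r d) (Mon r d) ((Fin m → (Fin (r + 1) → k)) → k) := Matrix.of fun a b w =>
    LinearMap.toMatrix' (Ψ.comp (Φ w)) a b
  have hdet : ∀ w, F.det w = LinearMap.det (Ψ.comp (Φ w)) := fun w => by
    rw [← LinearMap.det_toMatrix']
    exact RingHom.map_det (Pi.evalRingHom (fun _ => k) w) F
  refine ⟨F.det, ?_, ?_, fun w hw G hG => ?_⟩
  · let P := Algebra.adjoin k (Set.range (fun l : Module.Dual k (Fin m → (Fin (r + 1) → k)) =>
      (l : (Fin m → (Fin (r + 1) → k)) → k)))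
    have hent : ∀ a b, F a b ∈ P := by
      intro a b
      have hF : F a b = ∑ i : Fin m, algebraMap k ((Fin m → (Fin (r + 1) → k)) → k) (Ψ (Pi.single i 1) a) *
          ∏ l : Fin (r + 1), (fun w : Fin m → (Fin (r + 1) → k) => w i l) ^ b.1 l := by
        funext w
        simp only [Finset.sum_apply, Pi.mul_apply, Finset.prod_apply, Pi.pow_apply, Pi.algebraMap_apply]
        change LinearMap.toMatrix' (Ψ.comp (Φ w)) a b = _
        rw [LinearMap.toMatrix'_apply, LinearMap.comp_apply]
        conv_lhs => rw [pi_eq_sum_univ' (Φ w _), map_sum]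
        rw [Finset.sum_apply]
        refine Finset.sum_congr rfl fun i _ => ?_
        rw [map_smul, Pi.smul_apply, smul_eq_mul, mul_comm]
        congr 1
        change MvPolynomial.aeval (w i) (∑ m' : Mon r d, MvPolynomial.monomial m'.1 _) = _
        rw [Finset.sum_eq_single b (fun c _ hc => by simp [hc]) (by simp), MvPolynomial.aeval_monomial,
          Finsupp.prod_fintype _ _ (by simp)]
        simp
      rw [hF]
      refine Subalgebra.sum_mem _ fun i _ => Subalgebra.mul_mem _ (Subalgebra.algebraMap_mem _ _)
        (Subalgebra.prod_mem _ fun l _ => Subalgebra.pow_mem _ (Algebra.subset_adjoin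
          (s := Set.range (fun l : Module.Dual k (Fin m → (Fin (r + 1) → k)) => (l : (Fin m → (Fin (r + 1) → k)) → k)))
          ⟨(LinearMap.proj l : (Fin (r + 1) → k) →ₗ[k] k).comp (LinearMap.proj i), rfl⟩) _)
    change F.det ∈ P
    let F' : Matrix (Mon r d) (Mon r d) P := Matrix.of fun a b => ⟨F a b, hent a b⟩
    rw [show F.det = P.val F'.det by rw [AlgHom.map_det]; rfl]
    exact Subtype.coe_prop _
  · rw [hdet, hΨ, LinearMap.det_id]
    exact one_ne_zero
  · rw [hdet] at hw
    have hinj := (LinearMap.equivOfDetNeZero _ hw).injective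
    refine e.injective ?_
    rw [map_zero]
    refine hinj ?_
    change Ψ (Φ w (e G)) = Ψ (Φ w 0)
    congr 1
    funext i
    rw [map_zero]
    change MvPolynomial.aeval (w i) (e.symm (e G) : MvPolynomial (Fin (r + 1)) k) = 0
    rw [LinearEquiv.symm_apply_apply]
    exact hG i

open Groth.Agent.GenericFibre in
theorem exists_points {k : Type u} [Field k] [Infinite k] (r d m : ℕ) (hm : Nat.choose (r + d) d ≤ m) :
    ∃ x : Fin m → (Fin (r + 1) → k), ∀ G : LefPen.Form r k d,
      (∀ i : Fin m, MvPolynomial.aeval (x i) G.1 = 0) → G = 0 := by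
  classical
  let ev : (Fin (r + 1) → k) → Module.Dual k (LefPen.Form r k d) := fun y =>
    (MvPolynomial.aeval y).toLinearMap.comp (CohB1.polyGrading r k d).subtype
  obtain ⟨b, hbsub, hbspan, hbli⟩ := exists_linearIndependent k (Set.range ev)
  have hfin : b.Finite := hbli.setFinite
  haveI : Fintype b := hfin.fintype
  have hcard : Fintype.card b ≤ m := by
    refine (LinearIndependent.fintype_card_le_finrank hbli).trans (le_trans ?_ hm)
    rw [Subspace.dual_finrank_eq, finrank_form]
  choose y hy using fun v : b => hbsub v.2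
  obtain ⟨g⟩ : Nonempty (b ↪ Fin m) := Function.Embedding.nonempty_of_card_le (by simpa using hcard)
  refine ⟨Function.extend g y 0, fun G hG => ?_⟩
  have hb : ∀ v ∈ b, (v : Module.Dual k (LefPen.Form r k d)) G = 0 := fun v hv => by
    have := hG (g ⟨v, hv⟩)
    rw [g.injective.extend_apply] at this
    have h2 : ev (y ⟨v, hv⟩) G = 0 := this
    rwa [hy] at h2
  have hall : ∀ z, ev z G = 0 := fun z => by
    have hz : ev z ∈ Submodule.span k b := hbspan ▸ Submodule.subset_span ⟨z, rfl⟩
    generalize ev z = u at hz ⊢
    induction hz using Submodule.span_induction with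
    | mem v hv => exact hb v hv
    | zero => rfl
    | add a c _ _ ha hc => rw [LinearMap.add_apply, ha, hc, add_zero]
    | smul s a _ ha => rw [LinearMap.smul_apply, ha, smul_zero]
  refine Subtype.ext (MvPolynomial.funext fun z => ?_)
  rw [ZeroMemClass.coe_zero, map_zero]
  have := hall z
  exact this

/-- Let k be an infinite field, r a natural number, d ≥ 1 an integer, and m ≥ C(r+d, d), the number of
monomials of degree d in r+1 variables. In the space of m-tuples of vectors of k^(r+1) (homogeneous
coordinate vectors of m points of projective r-space; a zero vector is allowed and imposes no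
condition), the tuples such that the only form of degree d vanishing at all of them is the zero form
make up a Zariski-open subset which contains the non-vanishing locus of a not identically zero
polynomial function, so a dense open subset. (The published statement is the openness and density of
the corresponding locus in the m-fold product of projective r-space over the ground field; here the
ground field is any infinite field and the statement is made on coordinate vectors.) -/
theorem result (k : Type u) [Field k] [Infinite k]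
    (r d m : ℕ) (hd : 1 ≤ d) (hm : Nat.choose (r + d) d ≤ m) :
    LefPen.IsZOpen k {x : Fin m → (Fin (r + 1) → k) |
      ∀ G : LefPen.Form r k d, (∀ i : Fin m, MvPolynomial.aeval (x i) G.1 = 0) → G = 0} ∧
    LefPen.IsGeneric k {x : Fin m → (Fin (r + 1) → k) |
      ∀ G : LefPen.Form r k d, (∀ i : Fin m, MvPolynomial.aeval (x i) G.1 = 0) → G = 0} := by
  refine ⟨fun x hx => open_nbhd r d m x hx, ?_⟩
  obtain ⟨x, hx⟩ := exists_points (k := k) r d m hm
  obtain ⟨f, hf, hfx, hfw⟩ := open_nbhd r d m x hx
  exact ⟨f, hf, ⟨x, hfx⟩, hfw⟩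

end Groth.Agent.S18464
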