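import Groth.Statements.S18465


set_option autoImplicit false
universe u v w x
open WildLef

namespace Groth.Agent.S18465

/-- Let f : G₁ → G₂ be a homomorphism of groups, ρ : G₂ → Γ a homomorphism with finite image G, and A a
nontrivial commutative ring. Let G₂ act on the group algebra A[G] through ρ followed by the left
regular representation, and G₁ through f. If the elements of A[G] fixed by G₁ coincide with those
fixed by G₂, then ρ ∘ f and ρ have the same image. (The published statement has Γ a general linear
group GL_r(A); over the zero ring that group is trivial, so requiring A nontrivial and allowing any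
target group loses nothing.) -/
theorem result
    {G₁ : Type u} {G₂ : Type v} {Γ : Type w} [Group G₁] [Group G₂] [Group Γ]
    (f : G₁ →* G₂) (ρ : G₂ →* Γ) [Finite ρ.range] (A : Type x) [CommRing A] [Nontrivial A]
    (h : {x : MonoidAlgebra A ρ.range | ∀ g : G₁, MonoidAlgebra.of A ρ.range (ρ.rangeRestrict (f g)) * x = x} =
      {x : MonoidAlgebra A ρ.range | ∀ g : G₂, MonoidAlgebra.of A ρ.range (ρ.rangeRestrict g) * x = x}) :
    (ρ.comp f).range = ρ.range := by
  classical
  have : Fintype ρ.range := Fintype.ofFinite _
  let H : Subgroup ρ.range := (ρ.rangeRestrict.comp f).range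
  let x : MonoidAlgebra A ρ.range := ∑ k ∈ Finset.univ.filter (· ∈ H), MonoidAlgebra.single k 1
  have hx : ∀ k, x.coeff k = if k ∈ H then 1 else 0 := by
    intro k
    simp only [x, MonoidAlgebra.coeff_sum, Finsupp.finsetSum_apply, MonoidAlgebra.coeff_single, Finsupp.single_apply, Finset.sum_ite_eq',
      Finset.mem_filter, Finset.mem_univ, true_and]
  have h1 : x ∈ {x : MonoidAlgebra A ρ.range | ∀ g : G₁,
      MonoidAlgebra.of A ρ.range (ρ.rangeRestrict (f g)) * x = x} := by
    intro g
    ext k
    rw [MonoidAlgebra.of_apply, MonoidAlgebra.coeff_single_mul_apply, one_mul, hx, hx]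
    have hg : ρ.rangeRestrict (f g) ∈ H := ⟨g, rfl⟩
    simp only [H.mul_mem_cancel_left (H.inv_mem hg)]
  rw [h] at h1
  refine le_antisymm ?_ ?_
  · rintro _ ⟨g, rfl⟩; exact ⟨f g, rfl⟩
  · rintro _ ⟨g, rfl⟩
    have h2 := congrArg (fun z : MonoidAlgebra A ρ.range => z.coeff (ρ.rangeRestrict g)) (h1 g)
    simp only [MonoidAlgebra.of_apply, MonoidAlgebra.coeff_single_mul_apply, one_mul, hx,
      inv_mul_cancel, H.one_mem, if_true] at h2
    by_contra hg
    rw [if_neg fun ⟨g', hg'⟩ => hg ⟨g', congrArg Subtype.val hg'⟩] at h2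
    exact one_ne_zero h2

end Groth.Agent.S18465
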