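import Groth.Statements.S18466
import Groth.Agent.CartKit.Group
import Groth.Agent.CartKit.Points

set_option autoImplicit false
universe u
open Hopf

namespace Groth.Agent.S18466

theorem nonempty_equiv (k : Type u) [Field k] (n : ℕ) [NeZero n] (ζ : k) (hζ : IsPrimitiveRoot ζ n) :
    Nonempty (MonoidAlgebra k (Multiplicative (ZMod n)) ≃ₐc[k] ConstGrp.F k (Multiplicative (ZMod n))) := by
  let G := Multiplicative (ZMod n)
  let ψ := AddChar.zmodChar n hζ.pow_eq_one
  let χ : G →* ConstGrp.F k G :=
    { toFun := fun g => (fun h : G => ψ (Multiplicative.toAdd g * Multiplicative.toAdd h) : G → k)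
      map_one' := ConstGrp.ext fun h => by
        show ψ (Multiplicative.toAdd (1 : G) * _) = 1
        rw [toAdd_one, zero_mul, AddChar.map_zero_eq_one]
      map_mul' := fun a b => ConstGrp.ext fun h => by
        show ψ (Multiplicative.toAdd (a * b) * _) = ψ _ * ψ _
        rw [toAdd_mul, add_mul, AddChar.map_add_eq_mul] }
  have hχ : ∀ g a b : G, χ g (a * b) = χ g a * χ g b := by
    intro g a b
    show ψ (_ * Multiplicative.toAdd (a * b)) = _
    rw [toAdd_mul, mul_add, AddChar.map_add_eq_mul]
    rfl
  have hχ1 : ∀ g, χ g 1 = 1 := by
    intro g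
    show ψ (_ * Multiplicative.toAdd (1 : G)) = 1
    rw [toAdd_one, mul_zero, AddChar.map_zero_eq_one]
  let F := MonoidAlgebra.lift k (ConstGrp.F k G) G χ
  have hF : ∀ g, F (MonoidAlgebra.single g 1) = χ g := fun g => by simp [F]
  have hcomul : ∀ g, Coalgebra.comul (R := k) (χ g) = χ g ⊗ₜ[k] χ g := by
    intro g
    refine CartKit.comul_eq_of_forall fun x y => ?_
    rw [CartDual.ev₂_tmul]
    obtain ⟨z, rfl⟩ := (CartKit.grpAlgToDualB_bijective k G).2 x
    obtain ⟨w, rfl⟩ := (CartKit.grpAlgToDualB_bijective k G).2 y
    rw [← map_mul]
    show CartKit.grpAlgToDual k G (z * w) (χ g) = CartKit.grpAlgToDual k G z (χ g) * CartKit.grpAlgToDual k G w (χ g)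
    induction z using MonoidAlgebra.induction_linear with
    | zero => simp
    | add a b ha hb =>
      simp only [add_mul, map_add]
      simpa [add_mul, CartDual.coe_apply] using congrArg₂ (· + ·) ha hb
    | single a r =>
      induction w using MonoidAlgebra.induction_linear with
      | zero => simp
      | add c d hc hd =>
        simp only [mul_add, map_add]
        simpa [mul_add, CartDual.coe_apply] using congrArg₂ (· + ·) hc hd
      | single b s =>
        simp [CartKit.grpAlgToDual, MonoidAlgebra.single_mul_single, CartDual.coe_apply]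
        erw [hχ g a b]
        ring
  let B : MonoidAlgebra k G →ₐc[k] ConstGrp.F k G := BialgHom.ofAlgHom F
    (MonoidAlgebra.algHom_ext (fun g => by
      show Coalgebra.counit (F (MonoidAlgebra.single g 1)) = Coalgebra.counit (MonoidAlgebra.single g (1 : k))
      rw [hF, ConstGrp.counit_apply, hχ1, MonoidAlgebra.counit_single]
      simp) (Subsingleton.elim _ _))
    (MonoidAlgebra.algHom_ext (fun g => by
      show Algebra.TensorProduct.map F F (Coalgebra.comul (MonoidAlgebra.single g (1 : k))) =
        Coalgebra.comul (F (MonoidAlgebra.single g 1))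
      rw [hF, hcomul, MonoidAlgebra.comul_single]
      simp [hF]) (Subsingleton.elim _ _))
  haveI : FiniteDimensional k (MonoidAlgebra k G) := Module.Finite.of_basis (MonoidAlgebra.basis G k)
  have hli : LinearIndependent k (fun g : G => χ g) := by
    let c : G → (G →* k) := fun g => { toFun := fun h => χ g h, map_one' := hχ1 g, map_mul' := hχ g }
    have hc : Function.Injective c := by
      intro g g' h
      apply Multiplicative.toAdd.injective
      have h1 := DFunLike.congr_fun h (Multiplicative.ofAdd 1)
      have h2 : ψ (Multiplicative.toAdd g * 1) = ψ (Multiplicative.toAdd g' * 1) := h1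
      rw [mul_one, mul_one, AddChar.zmodChar_apply, AddChar.zmodChar_apply] at h2
      exact ZMod.val_injective n (hζ.pow_inj (ZMod.val_lt _) (ZMod.val_lt _) h2)
    exact (linearIndependent_monoidHom G k).comp c hc
  have hinj : Function.Injective B := by
    have : (F.toLinearMap : MonoidAlgebra k G →ₗ[k] ConstGrp.F k G) =
        (Finsupp.linearCombination k fun g : G => χ g) ∘ₗ (MonoidAlgebra.coeffLinearEquiv k).toLinearMap := by
      refine (MonoidAlgebra.basis G k).ext fun g => ?_
      simp [hF]
    show Function.Injective F.toLinearMap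
    rw [this]
    rw [LinearMap.coe_comp]
    exact Function.Injective.comp hli (MonoidAlgebra.coeffLinearEquiv k).injective
  have hfr : Module.finrank k (MonoidAlgebra k G) = Module.finrank k (ConstGrp.F k G) := by
    rw [Module.finrank_eq_card_basis (MonoidAlgebra.basis G k), Module.finrank_eq_card_basis (ConstGrp.basis k G)]
  have hbij : Function.Bijective B :=
    ⟨hinj, (LinearMap.injective_iff_surjective_of_finrank_eq_finrank hfr (f := F.toLinearMap)).1 hinj⟩
  exact ⟨(CartKit.exists_equiv_of_bijective (A := MonoidAlgebra k G) (B := ConstGrp.F k G) B hbij).choose⟩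

/-- Let k be a field and n ≥ 1. The constant group scheme ℤ/n over k is self-dual, that is, isomorphic
to its Cartier dual μ_n — equivalently the Hopf algebra of k-valued functions on the cyclic group of
order n and the group algebra of that group over k (group elements group-like) are isomorphic as
bialgebras — precisely when the field k has a primitive n-th root of unity, i.e. k contains n
distinct n-th roots of unity in k. (The published statement assumes that the characteristic of k
does not divide n; both directions hold without that assumption by the same argument, since a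
primitive n-th root of unity forces n to be nonzero in k, so it is omitted here.) -/
theorem result
    (k : Type u) [Field k] (n : ℕ) [NeZero n] :
    Nonempty (ConstGrp.F k (Multiplicative (ZMod n)) ≃ₐc[k] MonoidAlgebra k (Multiplicative (ZMod n))) ↔
      ∃ ζ : k, IsPrimitiveRoot ζ n := by
  constructor
  · rintro ⟨φ⟩
    let G := Multiplicative (ZMod n)
    let f : G → ConstGrp.F k G := fun g => φ.symm (MonoidAlgebra.single g 1)
    have hgl : ∀ g a b : G, f g (a * b) = f g a * f g b := by
      intro g a b
      have h : IsGroupLikeElem k (f g) := by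
        refine IsGroupLikeElem.map φ.symm ⟨?_, ?_⟩ <;> simp
      have h2 := CartKit.conv_apply_groupLike (CartKit.evD k G a) (CartKit.evD k G b) h.comul_eq_tmul_self
      rw [← CartKit.evD_mul] at h2
      simpa using h2
    have hmul : ∀ g g' : G, f (g * g') = f g * f g' := by
      intro g g'
      show φ.symm _ = φ.symm _ * φ.symm _
      rw [← map_mul, MonoidAlgebra.single_mul_single, one_mul]
    have hf1 : f 1 = 1 := by
      show φ.symm _ = 1
      rw [← MonoidAlgebra.one_def, map_one]
    have hg1 : ∀ g, f g 1 = 1 := by
      intro g
      have h : IsGroupLikeElem k (f g) := by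
        refine IsGroupLikeElem.map φ.symm ⟨?_, ?_⟩ <;> simp
      have h2 := h.counit_eq_one
      rwa [ConstGrp.counit_apply] at h2
    let σ : G := Multiplicative.ofAdd 1
    have hσ : ∀ g : G, g = σ ^ (Multiplicative.toAdd g).val := by
      intro g
      apply Multiplicative.toAdd.injective
      rw [toAdd_pow, show Multiplicative.toAdd σ = (1 : ZMod n) from rfl, nsmul_one]
      exact (ZMod.natCast_zmod_val _).symm
    have hfpow : ∀ (g : G) (i : ℕ), f g (σ ^ i) = f g σ ^ i := by
      intro g i
      induction i with
      | zero => simp [hg1]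
      | succ i ih => rw [pow_succ, hgl, ih, pow_succ]
    have hfpow' : ∀ (i : ℕ), f (σ ^ i) σ = f σ σ ^ i := by
      intro i
      induction i with
      | zero => simp [hf1]
      | succ i ih => rw [pow_succ, hmul, ConstGrp.mul_apply, ih, pow_succ]
    have hinj : ∀ g : G, f g σ = 1 → g = 1 := by
      intro g hg
      have h1 : f g = f 1 := by
        refine ConstGrp.ext fun a => ?_
        rw [hσ a, hfpow, hg, one_pow, hf1, ConstGrp.one_apply]
      have h2 := φ.symm.toEquiv.injective h1
      exact MonoidAlgebra.single_left_injective one_ne_zero h2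
    refine ⟨f σ σ, ?_⟩
    have hord : orderOf σ = n := by
      show orderOf (Multiplicative.ofAdd (1 : ZMod n)) = n
      rw [orderOf_ofAdd_eq_addOrderOf, ZMod.addOrderOf_one]
    refine ⟨?_, fun l hl => ?_⟩
    · rw [← hfpow', show σ ^ n = 1 by rw [← orderOf_dvd_iff_pow_eq_one, hord], hf1, ConstGrp.one_apply]
    · rw [← hfpow'] at hl
      have := orderOf_dvd_of_pow_eq_one (hinj _ hl)
      rwa [hord] at this
  · rintro ⟨ζ, hζ⟩
    exact ⟨(Classical.choice (nonempty_equiv k n ζ hζ)).symm⟩

end Groth.Agent.S18466
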