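import Groth.Statements.S18467
import Groth.Agent.OortTate.Eigen

set_option autoImplicit false
universe u
open Hopf

namespace Groth.Agent.S18467

theorem prodEq (p : ℕ) [Fact p.Prime] (R : Type u) [CommRing R] (u : R) (χ : (ZMod p)ˣ →* Rˣ)
    (hsum : ∀ i j : ℕ, u * ∑ m : (ZMod p)ˣ, ((χ m⁻¹ : Rˣ) : R) ^ i * ((χ m : Rˣ) : R) ^ j =
      if i % (p - 1) = j % (p - 1) then 1 else 0) (i j : ℕ) :
    (u • ∑ m : (ZMod p)ˣ, ((χ m⁻¹ : Rˣ) : R) ^ i • MonoidAlgebra.of R (ZMod p)ˣ m) *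
      (u • ∑ m : (ZMod p)ˣ, ((χ m⁻¹ : Rˣ) : R) ^ j • MonoidAlgebra.of R (ZMod p)ˣ m) =
    if i % (p - 1) = j % (p - 1) then
      u • ∑ m : (ZMod p)ˣ, ((χ m⁻¹ : Rˣ) : R) ^ j • MonoidAlgebra.of R (ZMod p)ˣ m else 0 := by
  rw [smul_mul_smul_comm, Finset.sum_mul]
  simp only [Finset.mul_sum, smul_mul_smul_comm, ← map_mul]
  have h1 : ∀ a : (ZMod p)ˣ, (∑ b : (ZMod p)ˣ, (((χ a⁻¹ : Rˣ) : R) ^ i * ((χ b⁻¹ : Rˣ) : R) ^ j) •
      MonoidAlgebra.of R (ZMod p)ˣ (a * b)) =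
      ∑ c : (ZMod p)ˣ, ((((χ a⁻¹ : Rˣ) : R) ^ i * ((χ a : Rˣ) : R) ^ j) * ((χ c⁻¹ : Rˣ) : R) ^ j) •
        MonoidAlgebra.of R (ZMod p)ˣ c := by
    intro a
    refine Fintype.sum_equiv (Equiv.mulLeft a) _ _ fun b => ?_
    show _ = ((((χ a⁻¹ : Rˣ) : R) ^ i * ((χ a : Rˣ) : R) ^ j) * ((χ (a * b)⁻¹ : Rˣ) : R) ^ j) •
      MonoidAlgebra.of R (ZMod p)ˣ (a * b)
    congr 1
    rw [mul_inv, map_mul, Units.val_mul, mul_pow, mul_assoc, ← mul_assoc (((χ a : Rˣ) : R) ^ j),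
      ← mul_pow ((χ a : Rˣ) : R), ← Units.val_mul, ← map_mul, mul_inv_cancel, map_one, Units.val_one, one_pow,
      one_mul]
  simp only [h1]
  rw [Finset.sum_comm]
  simp only [← Finset.sum_smul, ← Finset.sum_mul]
  simp only [Finset.smul_sum, smul_smul]
  have h2 : ∀ c : R, u * u * ((∑ a : (ZMod p)ˣ, ((χ a⁻¹ : Rˣ) : R) ^ i * ((χ a : Rˣ) : R) ^ j) * c) =
      (if i % (p - 1) = j % (p - 1) then 1 else 0) * (u * c) := by
    intro c; rw [← hsum]; ring
  simp only [h2]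
  split_ifs <;> simp [Finset.smul_sum]

/-- Let p be a prime and R a commutative ring containing an element u with u(p − 1) = 1, and let χ be a
homomorphism from the group of units of ℤ/p to the group of units of R such that χ(m) − 1 is a unit
of R for every m ≠ 1. For 0 ≤ i < p − 1 put e_i = u · Σ_m χ(m)^{−i} [m] in the group algebra
R[(ℤ/p)ˣ]. Then the e_i are idempotents, e_i e_j = 0 for i ≠ j, and Σ_i e_i = 1. (The published
statement is for algebras over the subring of the p-adic integers generated over ℤ by the values of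
the Teichmüller character χ and by 1/(p(p − 1)); the hypotheses on R and χ here are the properties
of that situation which the computation uses, so the row is stated for every such pair.) -/
theorem result
    (p : ℕ) [Fact p.Prime] (R : Type u) [CommRing R] (u : R) (hu : u * ((p - 1 : ℕ) : R) = 1)
    (χ : (ZMod p)ˣ →* Rˣ) (hχ : ∀ m : (ZMod p)ˣ, m ≠ 1 → IsUnit ((χ m : R) - 1)) :
    CompleteOrthogonalIdempotents (fun i : Fin (p - 1) =>
      u • ∑ m : (ZMod p)ˣ, ((χ m⁻¹ : Rˣ) : R) ^ (i : ℕ) • MonoidAlgebra.of R (ZMod p)ˣ m) := by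
  have hsum := fun i j => OortTate.Eigen.sum_char_pow p u χ hu hχ i j
  refine ⟨⟨fun i => ?_, fun i j hij => ?_⟩, ?_⟩
  · exact (prodEq p R u χ hsum i i).trans (if_pos rfl)
  · refine (prodEq p R u χ hsum i j).trans (if_neg fun h => hij ?_)
    rw [Nat.mod_eq_of_lt i.2, Nat.mod_eq_of_lt j.2] at h
    exact Fin.ext h
  · rw [← Finset.smul_sum, Finset.sum_comm]
    simp only [← Finset.sum_smul]
    have hsc : ∀ m : (ZMod p)ˣ, (∑ i : Fin (p - 1), ((χ m⁻¹ : Rˣ) : R) ^ (i : ℕ)) =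
        if m = 1 then ((p - 1 : ℕ) : R) else 0 := by
      intro m
      rw [Fin.sum_univ_eq_sum_range (fun i => ((χ m⁻¹ : Rˣ) : R) ^ i)]
      split_ifs with hm
      · subst hm; simp
      · have h := geom_sum_mul ((χ m⁻¹ : Rˣ) : R) (p - 1)
        rw [OortTate.Eigen.char_pow_pred p χ, sub_self] at h
        exact (hχ m⁻¹ (inv_ne_one.mpr hm)).mul_left_eq_zero.1 h
    simp only [hsc, ite_smul, zero_smul, Finset.sum_ite_eq', Finset.mem_univ, if_true]
    rw [smul_smul, hu, one_smul, map_one]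

end Groth.Agent.S18467
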