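import Groth.Statements.S18479
import Mathlib.Tactic.LinearCombination
import Mathlib.Tactic.Ring

set_option autoImplicit false
universe u v
open scoped TensorProduct
open OortTate

namespace Groth.Agent.S18479

/-- Let R be a commutative ring and A a commutative Hopf algebra over R whose augmentation ideal ker ε
is a free R-module of rank one with generator x (this is the situation of a group scheme of order 2
over a local ring: A free of rank 2, so ker ε is free of rank 1). Then there are a, b ∈ R with x² =
a·x, Δ(x) = x ⊗ 1 + 1 ⊗ x + b·(x ⊗ x), and ab = −2; thus A is the Hopf algebra R[T]/(T² − aT) with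
comultiplication T ↦ T ⊗ 1 + 1 ⊗ T + b T ⊗ T. (The copy works over a Noetherian local ring to get
freeness; the computation uses only that ker ε is free on x.) -/
theorem result
    (R : Type u) [CommRing R] (A : Type v) [CommRing A] [HopfAlgebra R A]
    (x : A) (hx : Bialgebra.counitAlgHom R A x = 0)
    (hgen : ∀ f : A, Bialgebra.counitAlgHom R A f = 0 → ∃ r : R, f = r • x)
    (hfree : ∀ r : R, r • x = 0 → r = 0) :
    ∃ a b : R, x * x = a • x ∧
      Bialgebra.comulAlgHom R A x = x ⊗ₜ[R] 1 + 1 ⊗ₜ[R] x + b • (x ⊗ₜ[R] x) ∧ a * b = -2 := by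
  classical
  set ε := Bialgebra.counitAlgHom R A
  have huniq : ∀ r s : R, r • x = s • x → r = s := fun r s h =>
    sub_eq_zero.1 (hfree _ (by rw [sub_smul, h, sub_self]))
  have hP : ∀ f : A, ∃ r : R, f - algebraMap R A (ε f) = r • x := fun f => hgen _ (by simp)
  choose ρ₀ hρ₀ using hP
  let ρ : A →ₗ[R] R :=
    { toFun := ρ₀
      map_add' := fun f g => huniq _ _ (by rw [add_smul, ← hρ₀, ← hρ₀, ← hρ₀, map_add, map_add]; abel)
      map_smul' := fun c f => huniq _ _ (by
        rw [RingHom.id_apply, smul_eq_mul, mul_smul, ← hρ₀, ← hρ₀, map_smul, smul_eq_mul, map_mul, smul_sub,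
          ← Algebra.smul_def]) }
  have hρ : ∀ f, f - algebraMap R A (ε f) = ρ f • x := hρ₀
  have hρ1 : ρ 1 = 0 := huniq _ _ (by rw [← hρ, map_one, map_one, sub_self, zero_smul])
  have hρx : ρ x = 1 := huniq _ _ (by rw [← hρ, hx, map_zero, sub_zero, one_smul])
  obtain ⟨a, ha⟩ : ∃ a : R, x * x = a • x := hgen _ (by rw [map_mul, hx, mul_zero])
  let ρρ : A ⊗[R] A →ₗ[R] R := LinearMap.mul' R R ∘ₗ TensorProduct.map ρ ρ
  set b := ρρ (Coalgebra.comul (R := R) x)
  have hρρ : ∀ u v, ρρ (u ⊗ₜ v) = ρ u * ρ v := fun u v => rfl
  let P : A →ₗ[R] A := LinearMap.id - Algebra.linearMap R A ∘ₗ ε.toLinearMap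
  have hP2 : ∀ t : A ⊗[R] A, TensorProduct.map P P t = ρρ t • (x ⊗ₜ[R] x) := by
    intro t
    induction t using TensorProduct.induction_on with
    | zero => simp
    | add t t' ht ht' => simp only [map_add, ht, ht', add_smul]
    | tmul u v =>
      rw [TensorProduct.map_tmul, show P u = ρ u • x from hρ u, show P v = ρ v • x from hρ v, hρρ,
        TensorProduct.smul_tmul_smul]
  have hcx : Bialgebra.comulAlgHom R A x = x ⊗ₜ[R] 1 + 1 ⊗ₜ[R] x + b • (x ⊗ₜ[R] x) := by
    rw [← hP2, Bialgebra.comulAlgHom_apply]
    have hε : ε.toLinearMap = Coalgebra.counit := rfl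
    have hexp : ∀ t : A ⊗[R] A, TensorProduct.map P P t = t -
        TensorProduct.map LinearMap.id (Algebra.linearMap R A) ((Coalgebra.counit (R := R)).lTensor A t) -
        TensorProduct.map (Algebra.linearMap R A) LinearMap.id ((Coalgebra.counit (R := R)).rTensor A t) +
        algebraMap R A (LinearMap.mul' R R (TensorProduct.map Coalgebra.counit Coalgebra.counit t)) ⊗ₜ[R] 1 := by
      intro t
      induction t using TensorProduct.induction_on with
      | zero => simp
      | add t t' ht ht' =>
        simp only [map_add, ht, ht', TensorProduct.add_tmul]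
        abel
      | tmul u v =>
        simp only [TensorProduct.map_tmul, LinearMap.lTensor_tmul, LinearMap.rTensor_tmul, LinearMap.id_apply,
          Algebra.linearMap_apply, LinearMap.mul'_apply, P, LinearMap.sub_apply, LinearMap.comp_apply, hε,
          TensorProduct.sub_tmul, TensorProduct.tmul_sub]
        rw [map_mul, mul_comm (algebraMap R A (Coalgebra.counit u)), ← Algebra.smul_def,
          TensorProduct.smul_tmul (R := R) (Coalgebra.counit v) (algebraMap R A (Coalgebra.counit u)) (1 : A),
          Algebra.smul_def, mul_one]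
        abel
    have hεx : Coalgebra.counit (R := R) x = 0 := hx
    have h2 : LinearMap.mul' R R (TensorProduct.map Coalgebra.counit Coalgebra.counit (Coalgebra.comul (R := R) x)) = 0 := by
      have : TensorProduct.map (Coalgebra.counit (R := R) (A := A)) (Coalgebra.counit (R := R) (A := A)) =
          (Coalgebra.counit (R := R) (A := A)).lTensor R ∘ₗ (Coalgebra.counit (R := R) (A := A)).rTensor A := by
        ext u v; simp
      rw [this, LinearMap.comp_apply, Coalgebra.rTensor_counit_comul, LinearMap.lTensor_tmul, LinearMap.mul'_apply, hεx,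
        mul_zero]
    rw [hexp, Coalgebra.lTensor_counit_comul, Coalgebra.rTensor_counit_comul, h2, TensorProduct.map_tmul,
      TensorProduct.map_tmul, map_zero, TensorProduct.zero_tmul, add_zero]
    simp only [LinearMap.id_apply, Algebra.linearMap_apply, map_one]
    abel
  refine ⟨a, b, ha, hcx, ?_⟩
  have hquad : (a * b + 1) * (a * b + 2) = 0 := by
    have h := congrArg ρρ (congrArg (Bialgebra.comulAlgHom R A) ha)
    rw [map_mul, map_smul, hcx] at h
    simp only [mul_add, add_mul, mul_smul_comm, smul_mul_assoc, Algebra.TensorProduct.tmul_mul_tmul, mul_one, one_mul,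
      ha, map_add, map_smul, hρρ, hρx, hρ1, smul_eq_mul] at h
    linear_combination h
  have hunit : IsUnit (a * b + 1) := by
    obtain ⟨r, hr⟩ : ∃ r : R, HopfAlgebra.antipode R x = r • x := hgen _ (by
      rw [Bialgebra.counitAlgHom_apply, HopfAlgebra.counit_antipode]; exact hx)
    have h := HopfAlgebra.mul_antipode_rTensor_comul_apply (R := R) x
    rw [show Coalgebra.comul (R := R) x = _ from hcx] at h
    simp only [map_add, map_smul, LinearMap.rTensor_tmul, hr, HopfAlgebra.antipode_one, LinearMap.mul'_apply,
      mul_one, one_mul, smul_mul_assoc, ha, smul_smul] at h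
    rw [show Coalgebra.counit (R := R) x = 0 from hx, map_zero] at h
    have h' : (r + 1 + b * (r * a)) • x = 0 := by rw [add_smul, add_smul, one_smul]; exact h
    exact IsUnit.of_mul_eq_one (-r) (by linear_combination -(hfree _ h'))
  linear_combination hunit.mul_right_eq_zero.1 hquad

end Groth.Agent.S18479
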