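import Groth.Statements.S18480
import Mathlib
-- import your own Groth.Agent.* helpers here

set_option autoImplicit false
universe u v
open scoped TensorProduct
open OortTate

namespace Groth.Agent.S18480

open TensorProduct

section
variable {R : Type u} [CommRing R] {A : Type v} [CommRing A] [HopfAlgebra R A]
  {x : A} (hx : Bialgebra.counitAlgHom R A x = 0)
  (hgen : ∀ f : A, Bialgebra.counitAlgHom R A f = 0 → ∃ r : R, f = r • x)
  (hfree : ∀ r : R, r • x = 0 → r = 0)

include hx hgen hfree in
lemma exists_basis : ∃ b : Module.Basis (Fin 2) R A, b 0 = 1 ∧ b 1 = x := by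
  have li : LinearIndependent R ![(1 : A), x] := by
    rw [LinearIndependent.pair_iff]
    intro s t h
    have h' := congrArg (Bialgebra.counitAlgHom R A) h
    rw [map_add, map_smul, map_smul, map_one, hx, map_zero, smul_eq_mul, smul_eq_mul, mul_one, mul_zero, add_zero] at h'
    subst h'
    rw [zero_smul, zero_add] at h
    exact ⟨rfl, hfree t h⟩
  have hsp : ⊤ ≤ Submodule.span R (Set.range ![(1 : A), x]) := by
    intro f _
    obtain ⟨r, hr⟩ := hgen (f - algebraMap R A (Bialgebra.counitAlgHom R A f)) (by
      rw [map_sub, AlgHom.commutes]; simp)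
    rw [sub_eq_iff_eq_add, Algebra.algebraMap_eq_smul_one] at hr
    rw [hr]
    exact add_mem (Submodule.smul_mem _ _ (Submodule.subset_span ⟨1, rfl⟩)) (Submodule.smul_mem _ _ (Submodule.subset_span ⟨0, rfl⟩))
  exact ⟨Module.Basis.mk li hsp, by simp, by simp⟩

end

/-- Let R be a commutative ring and let A and A' be commutative Hopf algebras over R whose augmentation
ideals are free of rank one with generators x and x', with constants a, b and a', b' ∈ R such that
x² = a x, Δ(x) = x ⊗ 1 + 1 ⊗ x + b x ⊗ x and x'² = a' x', Δ(x') = x' ⊗ 1 + 1 ⊗ x' + b' x' ⊗ x' (the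
group schemes of order two G_{a,b} and G_{a',b'}). Then A and A' are isomorphic as bialgebras over R
(G_{a,b} ≅ G_{a',b'} as group schemes) if and only if there is a unit s of R with a = a'·s and b' =
b·s. -/
theorem result
    (R : Type u) [CommRing R] (A : Type v) [CommRing A] [HopfAlgebra R A]
    (x : A) (hx : Bialgebra.counitAlgHom R A x = 0)
    (hgen : ∀ f : A, Bialgebra.counitAlgHom R A f = 0 → ∃ r : R, f = r • x)
    (hfree : ∀ r : R, r • x = 0 → r = 0)
    (a b : R) (hxa : x * x = a • x)
    (hxb : Bialgebra.comulAlgHom R A x = x ⊗ₜ[R] 1 + 1 ⊗ₜ[R] x + b • (x ⊗ₜ[R] x))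
    (A' : Type v) [CommRing A'] [HopfAlgebra R A']
    (x' : A') (hx' : Bialgebra.counitAlgHom R A' x' = 0)
    (hgen' : ∀ f : A', Bialgebra.counitAlgHom R A' f = 0 → ∃ r : R, f = r • x')
    (hfree' : ∀ r : R, r • x' = 0 → r = 0)
    (a' b' : R) (hxa' : x' * x' = a' • x')
    (hxb' : Bialgebra.comulAlgHom R A' x' = x' ⊗ₜ[R] 1 + 1 ⊗ₜ[R] x' + b' • (x' ⊗ₜ[R] x')) :
    Nonempty (A ≃ₐc[R] A') ↔ ∃ s : Rˣ, a = a' * (s : R) ∧ b' = b * (s : R) := by
  obtain ⟨B, hB0, hB1⟩ := exists_basis hx hgen hfree
  obtain ⟨B', hB0', hB1'⟩ := exists_basis hx' hgen' hfree'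
  have hone : ∀ r : R, r • x' = 0 → r = 0 := hfree'
  have hsq : ∀ r : R, r • (x' ⊗ₜ[R] x') = 0 → r = 0 := by
    intro r h
    have := congrArg (fun z => (B'.tensorProduct B').repr z (1, 1)) h
    simpa [← hB1', Module.Basis.tensorProduct_repr_tmul_apply] using this
  constructor
  · rintro ⟨e⟩
    have he : Bialgebra.counitAlgHom R A' (e x) = 0 := by
      rw [Bialgebra.counitAlgHom_apply, CoalgHomClass.counit_comp_apply e x]; simpa using hx
    obtain ⟨s, hs⟩ := hgen' (e x) he
    obtain ⟨t, ht⟩ := hgen (e.symm x') (by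
      rw [Bialgebra.counitAlgHom_apply, CoalgHomClass.counit_comp_apply e.symm x']; simpa using hx')
    have hts : s * t = 1 := by
      have h := congrArg e ht
      rw [e.apply_symm_apply, map_smul, hs, smul_smul] at h
      exact sub_eq_zero.1 (hfree' _ (by rw [sub_smul, one_smul, mul_comm, ← h, sub_self]))
    refine ⟨⟨s, t, hts, by rw [mul_comm]; exact hts⟩, ?_, ?_⟩
    · have h := congrArg e hxa
      rw [map_mul, map_smul, hs, smul_mul_smul_comm, hxa', smul_smul, smul_smul] at h
      have h0 : (s * s * a' - a * s) • x' = 0 := by rw [sub_smul, h, sub_self]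
      have := hfree' _ h0
      show a = a' * s
      calc a = a * (s * t) := by rw [hts, mul_one]
        _ = s * s * a' * t := by linear_combination -t * this
        _ = a' * s * (s * t) := by ring
        _ = a' * s := by rw [hts, mul_one]
    · have h := CoalgHomClass.map_comp_comul_apply e x
      rw [show Coalgebra.comul x = _ from hxb, hs, map_smul, show Coalgebra.comul x' = _ from hxb'] at h
      simp only [map_add, map_smul, TensorProduct.map_tmul, CoalgHom.toLinearMap_eq_coe, CoalgHom.coe_toLinearMap, CoalgHom.coe_coe, LinearMap.coe_coe, hs, map_one, smul_add, TensorProduct.smul_tmul', TensorProduct.tmul_smul, smul_smul] at h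
      have h0 : (b * (s * s) - s * b') • (x' ⊗ₜ[R] x') = 0 := by
        rw [sub_smul, sub_eq_zero]
        simpa [TensorProduct.smul_tmul', smul_smul, mul_assoc, mul_comm, mul_left_comm] using h
      have := hsq _ h0
      show b' = b * s
      calc b' = s * t * b' := by rw [hts, one_mul]
        _ = b * (s * s) * t := by linear_combination -t * this
        _ = b * s * (s * t) := by ring
        _ = b * s := by rw [hts, mul_one]
  · rintro ⟨s, ha, hb⟩
    let l : A →ₗ[R] A' := B.constr R ![1, (s : R) • x']
    have l1 : l 1 = 1 := by rw [← hB0, Module.Basis.constr_basis]; rfl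
    have lx : l x = (s : R) • x' := by rw [← hB1, Module.Basis.constr_basis]; rfl
    have lmul : ∀ f g, l (f * g) = l f * l g := by
      have : (LinearMap.mul R A).compr₂ l = (LinearMap.mul R A').compl₁₂ l l := by
        refine B.ext fun i => B.ext fun j => ?_
        fin_cases i <;> fin_cases j <;> simp [hB0, hB1, l1, lx, hxa, hxa', smul_smul, ha, mul_comm, mul_left_comm]
      exact fun f g => LinearMap.congr_fun₂ this f g
    let φ : A →ₐ[R] A' := AlgHom.ofLinearMap l l1 lmul
    have hbij : Function.Bijective φ := by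
      let m : A' →ₗ[R] A := B'.constr R ![1, ((s⁻¹ : Rˣ) : R) • x]
      have m1 : m 1 = 1 := by rw [← hB0', Module.Basis.constr_basis]; rfl
      have mx : m x' = ((s⁻¹ : Rˣ) : R) • x := by rw [← hB1', Module.Basis.constr_basis]; rfl
      have h1 : m ∘ₗ l = LinearMap.id := B.ext fun i => by
        fin_cases i <;> simp [hB0, hB1, l1, lx, m1, mx, smul_smul]
      have h2 : l ∘ₗ m = LinearMap.id := B'.ext fun i => by
        fin_cases i <;> simp [hB0', hB1', l1, lx, m1, mx, smul_smul]
      exact ⟨Function.LeftInverse.injective (g := m) fun f => LinearMap.congr_fun h1 f, Function.RightInverse.surjective (g := m) fun f => LinearMap.congr_fun h2 f⟩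
    refine ⟨BialgEquiv.ofBijective (BialgHom.ofAlgHom φ ?_ ?_) hbij⟩
    · refine AlgHom.toLinearMap_injective (B.ext fun i => ?_)
      fin_cases i
      · simp [hB0]
      · have hl : φ x = (s : R) • x' := lx
        simpa [hB1, hl] using (show (s : R) * Bialgebra.counitAlgHom R A' x' = Bialgebra.counitAlgHom R A x by rw [hx, hx', mul_zero])
    · refine AlgHom.toLinearMap_injective (B.ext fun i => ?_)
      fin_cases i
      · simp [hB0, Algebra.TensorProduct.one_def]
      · have hl : φ x = (s : R) • x' := lx
        simp only [hB1, AlgHom.toLinearMap_apply, AlgHom.comp_apply, Fin.mk_one]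
        rw [hl, map_smul, hxb, hxb']
        simp [hl, TensorProduct.smul_tmul', TensorProduct.tmul_smul, smul_smul, hb, mul_assoc, mul_comm, mul_left_comm]

end Groth.Agent.S18480
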