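import Groth.Statements.S18482
import Groth.Agent.TorsorClos.Main
import Groth.Agent.TorsorClos.Ring
import Groth.Agent.GITLib.TorsorSchMore

set_option autoImplicit false
universe u
open NonAbH1

namespace Groth.Agent.S18482

open CategoryTheory CategoryTheory.Limits MonoidalCategory CartesianMonoidalCategory MonObj AlgebraicGeometry Groth.Agent.GITLib Groth.Agent.TorsorClos

set_option linter.style.haveILetI false
set_option maxHeartbeats 1000000

theorem isTorsorFor_of_act_eq {S : Scheme.{u}} {G Z : Over S} [GrpObj G] {a a' : AlgGrp.Action G Z}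
    (h : a.act = a'.act) {K : Precoverage Scheme.{u}} (ha : NonAbH1.IsTorsorFor K a) :
    NonAbH1.IsTorsorFor K a' := by
  refine ⟨?_, ha.2⟩
  show IsIso (lift a'.act (snd G Z))
  rw [← h]
  exact ha.1

theorem body (R : Type u) [CommRing R] [IsDomain R] [IsDiscreteValuationRing R]
    (G : Over (Spec (CommRingCat.of R))) [GrpObj G] [IsFinite G.hom] [Flat G.hom]
    (H : Over (Spec (CommRingCat.of R))) [GrpObj H] [Flat H.hom]
    (i : H ⟶ G) [IsMonHom i] [IsClosedImmersion i.left]
    (X : Scheme.{u}) (f : X ⟶ Spec (CommRingCat.of R)) [Flat f]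
    [AlgebraicGeometry.IsReduced (pullback f (Spec.map (CommRingCat.ofHom (IsLocalRing.residue R))))]
    (P : Over X) [IsAffineHom P.hom] (a : AlgGrp.Action (Red.bc f G) P)
    (hP : NonAbH1.IsTorsorFor Scheme.fpqcPrecoverage a)
    (Z : Over X) (j : Z ⟶ P) [IsClosedImmersion j.left] [Flat (Z.hom ≫ f)]
    (bη : AlgGrp.Action
      (Red.bc (pullback.fst f (Spec.map (CommRingCat.ofHom (algebraMap R (FractionRing R))))) (Red.bc f H))
      (Red.bc (pullback.fst f (Spec.map (CommRingCat.ofHom (algebraMap R (FractionRing R))))) Z))
    (hj : AlgGrp.Action.IsEquivariant bη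
      (((a.restrict ((Over.pullback f).map i)).bc
        (pullback.fst f (Spec.map (CommRingCat.ofHom (algebraMap R (FractionRing R)))))))
      ((Over.pullback (pullback.fst f (Spec.map (CommRingCat.ofHom (algebraMap R (FractionRing R)))))).map j))
    (hZ : NonAbH1.IsTorsorFor Scheme.fpqcPrecoverage bη) :
    ∃ b : AlgGrp.Action (Red.bc f H) Z,
      AlgGrp.Action.IsEquivariant b (a.restrict ((Over.pullback f).map i)) j ∧
      NonAbH1.IsTorsorFor Scheme.fppfPrecoverage b := by
  let g := Spec.map (CommRingCat.ofHom (algebraMap R (FractionRing R)))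
  let ρ := pullback.fst f g
  haveI : IsSchemeTheoreticallyDominant g := by
    haveI : IsDominant g := by
      rw [isDominant_iff]
      exact PrimeSpectrum.denseRange_comap_iff_ker_le_nilRadical _ |>.2 (by
        rw [CommRingCat.hom_ofHom,
          (RingHom.injective_iff_ker_eq_bot _).1 (IsFractionRing.injective R (FractionRing R))]
        exact bot_le)
    exact .of_isDominant _
  haveI : IsSchemeTheoreticallyDominant (pullback.fst Z.hom ρ) :=
    IsSchemeTheoreticallyDominant.of_isPullback
      ((IsPullback.of_hasPullback Z.hom ρ).paste_vert (IsPullback.of_hasPullback f g)).flip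
  -- finiteness
  haveI : IsFinite H.hom := by rw [← Over.w i]; infer_instance
  haveI : LocallyOfFinitePresentation H.hom := inferInstance
  haveI : IsFinite (Red.bc f H).hom := MorphismProperty.pullback_snd _ _ inferInstance
  haveI : Flat (Red.bc f H).hom := MorphismProperty.pullback_snd _ _ inferInstance
  haveI : LocallyOfFinitePresentation (Red.bc f H).hom :=
    MorphismProperty.pullback_snd _ _ inferInstance
  haveI : IsFinite P.hom := by
    haveI : MorphismProperty.DescendsAlong @IsFinite.{u} AlgSpCov.Fpqc :=
      FpqcDesc.descendsAlong_isFinite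
    exact property_of_torsor @IsFinite hP (MorphismProperty.pullback_snd _ _ inferInstance)
  haveI : IsFinite Z.hom := by rw [← Over.w j]; infer_instance
  haveI : IsAffineHom ρ := MorphismProperty.pullback_fst _ _ (inferInstance : IsAffineHom g)
  let iX := (Over.pullback f).map i
  obtain ⟨b, hb, hbc⟩ := exists_action_closure ρ a iX j bη hj
  refine ⟨b, ?_, ?_⟩
  · exact AlgGrp.Action.hom_ext_lift₂ fun V h v => by
      rw [lift_whiskerLeft_assoc, AlgGrp.Action.lift_restrict_act, ← Category.assoc, hb]
  haveI : Mono i := Over.mono_of_mono_left i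
  haveI : Mono iX := inferInstance
  haveI : Mono j := Over.mono_of_mono_left j
  haveI : Mono (lift b.act (snd (Red.bc f H) Z)) := ⟨fun {U} u v huv => by
    have e1 : u ≫ snd _ _ = v ≫ snd _ _ := by
      have := congrArg (· ≫ snd Z Z) huv
      simpa using this
    have e2 : u ≫ b.act = v ≫ b.act := by
      have := congrArg (· ≫ fst Z Z) huv
      simpa using this
    have key : ∀ w : U ⟶ Red.bc f H ⊗ Z,
        (w ≫ b.act) ≫ j = lift ((w ≫ fst _ _) ≫ iX) ((w ≫ snd _ _) ≫ j) ≫ a.act := fun w => by
      rw [← hb, ← comp_lift, lift_fst_snd, Category.comp_id]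
    apply CartesianMonoidalCategory.hom_ext _ _ ?_ e1
    rw [← cancel_mono iX]
    exact (existsUnique_diff hP.1 ((v ≫ snd _ _) ≫ j) ((v ≫ b.act) ≫ j)).unique
      (by rw [← e1, ← e2]; exact (key u).symm) (key v).symm⟩
  have hgen : NonAbH1.IsTorsorFor Scheme.fpqcPrecoverage (b.bc ρ) := by
    refine isTorsorFor_of_act_eq (AlgGrp.Action.hom_ext_lift₂ fun T h v => ?_) hZ
    obtain ⟨h₀, rfl⟩ := ((Over.mapPullbackAdj ρ).homEquiv T _).surjective h
    obtain ⟨v₀, rfl⟩ := ((Over.mapPullbackAdj ρ).homEquiv T _).surjective v
    rw [AlgGrp.Action.lift_homEquiv_bc_act]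
    exact hbc h₀ v₀
  haveI : Flat (Red.bc ρ Z).hom :=
    property_of_torsor @Flat hZ (MorphismProperty.pullback_snd _ _ inferInstance)
  obtain ⟨ϖ, hϖ⟩ := IsDiscreteValuationRing.exists_irreducible R
  haveI : IsSchemeTheoreticallyDominant ρ := inferInstanceAs (IsSchemeTheoreticallyDominant (pullback.fst f g))
  have hinj : ∀ V : X.Opens, IsAffineOpen V → Function.Injective (ρ ∣_ V).appTop.hom := by
    intro V hV
    haveI : IsSchemeTheoreticallyDominant (ρ ∣_ V) :=
      IsSchemeTheoreticallyDominant.of_isPullback (isPullback_morphismRestrict ρ V).flip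
    exact (ρ ∣_ V).app_injective ⊤
  refine isTorsorFor_of_dense ρ hinj (fun V hV y hy => ?_) b hgen
  haveI : IsAffine V.toScheme := hV
  haveI : IsAffine (ρ ⁻¹ᵁ V).toScheme := hV.preimage ρ
  let fV := V.ι ≫ f
  let aV := (Scheme.ΓSpecIso (CommRingCat.of R)).inv ≫ fV.appTop
  have hsq : IsPullback ((ρ ⁻¹ᵁ V).ι ≫ pullback.snd f g) (ρ ∣_ V) g fV :=
    ((isPullback_morphismRestrict ρ V).paste_vert (IsPullback.of_hasPullback f g)).flip
  obtain ⟨hu, hden⟩ := exists_denominator (isPushout_of_isPullback_Spec hsq) hϖ
  let res := Spec.map (CommRingCat.ofHom (IsLocalRing.residue R))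
  haveI : IsAffineHom res := inferInstance
  haveI : IsAffineHom (pullback.fst f res) := MorphismProperty.pullback_fst _ _ ‹IsAffineHom res›
  let Vk := (pullback.fst f res) ⁻¹ᵁ V
  haveI : IsAffine Vk.toScheme := hV.preimage (pullback.fst f res)
  haveI : _root_.IsReduced Γ(Vk.toScheme, ⊤) := inferInstance
  have hsqk : IsPullback (Vk.ι ≫ pullback.snd f res) (pullback.fst f res ∣_ V) res fV :=
    ((isPullback_morphismRestrict (pullback.fst f res) V).paste_vert
      (IsPullback.of_hasPullback f res)).flip
  exact mem_range_of_isIntegral_of_radical _ (hinj V hV) (aV.hom ϖ)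
    (radical_of_isReduced (isPushout_of_isPullback_Spec hsqk) hϖ) hu hden hy

open CategoryTheory CategoryTheory.Limits MonoidalCategory AlgebraicGeometry in
/-- Let R be a discrete valuation ring with fraction field K, G a finite flat group scheme over Spec R
and H a closed subgroup scheme of G, flat over Spec R. Let X be a scheme faithfully flat over Spec R
whose generic and special fibres are reduced and irreducible, and P an affine X-scheme with an
action of the base change of G making it a torsor for the fpqc topology over X. Let Z be a closed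
subscheme of P which is flat over Spec R (equivalently: Z is the scheme-theoretic closure in P of
its generic fibre), and suppose that the generic fibre of Z is stable under H, through an action for
which its inclusion into the generic fibre of P is equivariant (H acting on P through G), and is an
fpqc torsor under H over the generic fibre of X. Then Z itself is stable under H: there is an action
of the base change of H on Z for which the inclusion of Z in P is equivariant, and with it Z is an
fpqc torsor under H over X. (The published statement concerns the Zariski closure in P of a closed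
sub-torsor of the generic fibre of P; over a discrete valuation ring a closed subscheme of P is such
a closure exactly when it is flat over R, so the two formulations are equivalent. Flatness of H over
R, which the published notion of torsor requires of the structure group, is assumed explicitly here;
H is also taken closed in G, which the conclusion forces (a torsor under H over X, finite over X,
makes H finite over R, hence closed in G) and which the proof uses. Torsors are written with left
actions and fpqc-local triviality, the published ones with right actions and an affine faithfully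
flat structure map, an equivalent notion for a finite flat group.) -/
theorem result
    (R : Type u) [CommRing R] [IsDomain R] [IsDiscreteValuationRing R]
    (G : Over (Spec (CommRingCat.of R))) [GrpObj G] [IsFinite G.hom] [Flat G.hom]
    (H : Over (Spec (CommRingCat.of R))) [GrpObj H] [Flat H.hom]
    (i : H ⟶ G) [IsMonHom i] [IsClosedImmersion i.left]
    (X : Scheme.{u}) (f : X ⟶ Spec (CommRingCat.of R)) [Flat f] [Surjective f]
    [AlgebraicGeometry.IsReduced (pullback f (Spec.map (CommRingCat.ofHom (algebraMap R (FractionRing R)))))]
    [IrreducibleSpace ↥(pullback f (Spec.map (CommRingCat.ofHom (algebraMap R (FractionRing R)))))]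
    [AlgebraicGeometry.IsReduced (pullback f (Spec.map (CommRingCat.ofHom (IsLocalRing.residue R))))]
    [IrreducibleSpace ↥(pullback f (Spec.map (CommRingCat.ofHom (IsLocalRing.residue R))))]
    (P : Over X) [IsAffineHom P.hom] (a : AlgGrp.Action (Red.bc f G) P)
    (hP : NonAbH1.IsTorsorFor Scheme.fpqcPrecoverage a)
    (Z : Over X) (j : Z ⟶ P) [IsClosedImmersion j.left] [Flat (Z.hom ≫ f)]
    (bη : AlgGrp.Action
      (Red.bc (pullback.fst f (Spec.map (CommRingCat.ofHom (algebraMap R (FractionRing R))))) (Red.bc f H))
      (Red.bc (pullback.fst f (Spec.map (CommRingCat.ofHom (algebraMap R (FractionRing R))))) Z))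
    (hj : AlgGrp.Action.IsEquivariant bη
      (((a.restrict ((Over.pullback f).map i)).bc
        (pullback.fst f (Spec.map (CommRingCat.ofHom (algebraMap R (FractionRing R)))))))
      ((Over.pullback (pullback.fst f (Spec.map (CommRingCat.ofHom (algebraMap R (FractionRing R)))))).map j))
    (hZ : NonAbH1.IsTorsorFor Scheme.fpqcPrecoverage bη) :
    ∃ b : AlgGrp.Action (Red.bc f H) Z,
      AlgGrp.Action.IsEquivariant b (a.restrict ((Over.pullback f).map i)) j ∧
      NonAbH1.IsTorsorFor Scheme.fpqcPrecoverage b := by
  obtain ⟨b, h1, h2⟩ := body R G H i X f P a hP Z j bη hj hZ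
  exact ⟨b, h1, isTorsorFor_mono Scheme.fppfPrecoverage_le_fpqcPrecoverage h2⟩

end Groth.Agent.S18482
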