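import Groth.Statements.S18484
import Groth.Agent.NeronLib.Dense
import Groth.Agent.NeronLib.MapBij

set_option autoImplicit false
universe u
open CategoryTheory CategoryTheory.Limits AlgebraicGeometry MonObj
open Neron

namespace Groth.Agent.S18484

/-- Let R be a Dedekind domain with fraction field K, X a Spec R-scheme which is a Néron model of its
generic fibre X_K, and i : G → X a closed immersion with G smooth over Spec R. Then G is a Néron
model of its generic fibre G_K: smooth, separated, of finite type, and for every smooth Spec
R-scheme Y restriction to generic fibres is a bijection from R-morphisms Y → G onto K-morphisms Y_K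
→ G_K. (The source states this for a closed subgroup scheme of a Néron model; the group laws play no
part and are not assumed. The converse direction of the source, that a Néron model is a closed
subgroup of a Néron model, is immediate and not stated.) -/
theorem result (R : Type u) [CommRing R] [IsDedekindDomain R]
    (X G : Over (Spec (CommRingCat.of R))) (hX : Neron.IsNeronModelOf R X ((Neron.genericFibre R).obj X) (Iso.refl _))
    (i : G ⟶ X) [IsClosedImmersion i.left] [Smooth G.hom] :
    Neron.IsNeronModelOf R G ((Neron.genericFibre R).obj G) (Iso.refl _) := by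
  obtain ⟨hsm, hsep, hlft, hqc, hbij⟩ := hX
  have hw : i.left ≫ X.hom = G.hom := Over.w i
  refine ⟨inferInstance, by rw [← hw]; infer_instance, by rw [← hw]; infer_instance,
    by rw [← hw]; infer_instance, fun Y hY => ?_⟩
  haveI : IsSeparated G.hom := by rw [← hw]; infer_instance
  simp only [Iso.refl_hom, Category.comp_id]
  refine ⟨fun f f' h => Groth.Agent.NeronLib.Dense.eq_of_genericFibre_map_eq R h, fun φ => ?_⟩
  obtain ⟨ψ, hψ⟩ := (hbij Y hY).2 (φ ≫ (Neron.genericFibre R).map i)
  simp only [Iso.refl_hom, Category.comp_id] at hψ
  have h1 : pullback.fst Y.hom (Neron.genPt R) ≫ ψ.left =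
      (φ.left ≫ pullback.fst G.hom (Neron.genPt R)) ≫ i.left := by
    rw [(Groth.Agent.NeronLib.MapBij.map_ext_iff _ ψ _).1 hψ, Over.comp_left, Category.assoc,
      Category.assoc]
    congr 1
    exact Groth.Agent.NeronLib.MapBij.map_left_fst _ i
  have hj := Groth.Agent.NeronLib.Dense.isIso_of_factors (pullback.fst ψ.left i.left)
    (pullback.fst Y.hom (Neron.genPt R)) (pullback.lift _ _ h1) (pullback.lift_fst _ _ _)
  refine ⟨Over.homMk (inv (pullback.fst ψ.left i.left) ≫ pullback.snd ψ.left i.left) ?_, ?_⟩
  · rw [← hw, Category.assoc, ← pullback.condition_assoc, IsIso.inv_hom_id_assoc]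
    exact Over.w ψ
  · rw [Groth.Agent.NeronLib.MapBij.map_ext_iff]
    apply (cancel_mono i.left).1
    simp only [Over.homMk_left, Category.assoc, ← pullback.condition, IsIso.inv_hom_id_assoc]
    rw [h1, Category.assoc]

end Groth.Agent.S18484
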