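import Groth.Statements.S18485
import Mathlib.RingTheory.QuasiFinite.Basic
import Mathlib.RingTheory.DedekindDomain.Ideal.Lemmas
import Mathlib.RingTheory.TensorProduct.Basic
import Mathlib.RingTheory.Flat.Basic

set_option autoImplicit false
universe u
open CategoryTheory CategoryTheory.Limits AlgebraicGeometry MonObj
open Neron

namespace Groth.Agent.S18485

open scoped TensorProduct in
lemma finite_fiber (R A : Type u) [CommRing R] [IsDedekindDomain R] [CommRing A] [Algebra R A]
    [Module.Flat R A] [Module.Finite (FractionRing R) (FractionRing R ⊗[R] A)]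
    (P : Ideal R) [P.IsPrime] : Module.Finite P.ResidueField (P.ResidueField ⊗[R] A) := by
  classical
  let K := FractionRing R
  let κ := P.ResidueField
  have hinj : Function.Injective (Algebra.TensorProduct.includeRight : A →ₐ[R] K ⊗[R] A) :=
    Algebra.TensorProduct.includeRight_injective (IsFractionRing.injective R K)
  have hscal : ∀ (F : Type u) [Field F] [Algebra R F] (r : R) (a : A),
      algebraMap R F r • ((1 : F) ⊗ₜ[R] a) = (1 : F) ⊗ₜ[R] (r • a) := by
    intro F _ _ r a
    rw [algebraMap_smul, TensorProduct.tmul_smul]
  obtain ⟨b, hb, hspan, hli⟩ := exists_linearIndependent κ (Set.range fun a : A => (1 : κ) ⊗ₜ[R] a)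
  have hcard : ∀ t : Finset ↥b, t.card ≤ Module.finrank K (K ⊗[R] A) := by
    intro t
    have hx : ∀ x : ↥t, ∃ a : A, (1 : κ) ⊗ₜ[R] a = (x.1.1 : κ ⊗[R] A) := fun x => hb x.1.2
    choose a ha using hx
    have hliK : LinearIndependent K (fun x : ↥t => (1 : K) ⊗ₜ[R] a x) := by
      rw [Fintype.linearIndependent_iff]
      intro g hg x₀
      by_contra hne
      obtain ⟨c, hint, x₁, -, hx₁⟩ := Ideal.exist_integer_multiples_notMem
        (Ideal.IsPrime.ne_top (I := P) inferInstance) Finset.univ g (Finset.mem_univ x₀) hne
      choose r hr using fun x => hint x (Finset.mem_univ x)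
      have hr' : ∀ x, algebraMap R K (r x) = c * g x := hr
      have hA : ∑ x, r x • a x = 0 := by
        apply hinj
        rw [map_zero, map_sum]
        have : ∑ x, (c * g x) • ((1 : K) ⊗ₜ[R] a x) = 0 := by
          simp_rw [mul_smul, ← Finset.smul_sum, hg, smul_zero]
        rw [← this]
        exact Finset.sum_congr rfl fun x _ => by rw [← hr', hscal]; rfl
      have hκ : ∑ x : ↥t, algebraMap R κ (r x) • (x.1.1 : κ ⊗[R] A) = 0 := by
        simp_rw [← ha, hscal, ← TensorProduct.tmul_sum, hA, TensorProduct.tmul_zero]
      have h0 := Fintype.linearIndependent_iff.1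
        (hli.comp (fun x : ↥t => x.1) Subtype.val_injective) (fun x => algebraMap R κ (r x)) hκ x₁
      rw [Ideal.algebraMap_residueField_eq_zero] at h0
      exact hx₁ (by rw [← hr']; exact FractionalIdeal.mem_coeIdeal_of_mem _ h0)
    simpa using hliK.fintype_card_le_finrank
  haveI : Finite ↥b := by
    by_contra h
    rw [not_finite_iff_infinite] at h
    obtain ⟨t, ht⟩ := Infinite.exists_subset_card_eq ↥b (Module.finrank K (K ⊗[R] A) + 1)
    have := hcard t
    omega
  refine ⟨⟨(Set.toFinite b).toFinset, ?_⟩⟩
  rw [Set.Finite.coe_toFinset, hspan, eq_top_iff]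
  rintro x -
  induction x using TensorProduct.induction_on with
  | zero => exact zero_mem _
  | tmul s a =>
    rw [show s ⊗ₜ[R] a = s • ((1 : κ) ⊗ₜ[R] a) by rw [TensorProduct.smul_tmul', smul_eq_mul, _root_.mul_one]]
    exact Submodule.smul_mem _ _ (Submodule.subset_span ⟨a, rfl⟩)
  | add x y hx hy => exact add_mem hx hy

lemma quasiFinite_aux (R : Type u) [CommRing R] [IsDedekindDomain R] {A : CommRingCat.{u}}
    (φ : CommRingCat.of R ⟶ A) (hfl : φ.hom.Flat)
    [LocallyQuasiFinite (pullback.fst (Neron.genPt R) (Spec.map φ))] : φ.hom.QuasiFinite := by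
  letI := φ.hom.toAlgebra
  haveI : Module.Flat R A := hfl
  have h : LocallyQuasiFinite ((pullbackSpecIso R (FractionRing R) A).inv ≫
      pullback.fst (Neron.genPt R) (Spec.map φ)) := by infer_instance
  erw [pullbackSpecIso_inv_fst, HasRingHomProperty.Spec_iff (P := @LocallyQuasiFinite)] at h
  haveI : Algebra.QuasiFinite (FractionRing R) (TensorProduct R (FractionRing R) A) :=
    RingHom.quasiFinite_algebraMap.1 h
  haveI : Module.Finite (FractionRing R) (TensorProduct R (FractionRing R) A) :=
    Module.Finite.of_quasiFinite
  exact ⟨fun P _ => finite_fiber R A P⟩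

/-- Let R be a Dedekind domain with fraction field K and H a Spec R-scheme which is flat and locally of
finite type over Spec R. If the generic fibre H_K is locally quasi-finite over K, then H is locally
quasi-finite over Spec R. (The published statement is about the schematic closure, in an S-group
algebraic space of finite type over a connected Dedekind scheme S, of a finite subgroup of the
generic fibre, which it asserts to be a quasi-finite S-group; this row is the statement about flat
schemes locally of finite type over an affine Dedekind base on which that rests. Locally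
quasi-finite is meant here without a finite type clause, which is assumed separately.) -/
theorem result (R : Type u) [CommRing R]
    [IsDedekindDomain R] (H : Over (Spec (CommRingCat.of R))) [Flat H.hom] [LocallyOfFiniteType H.hom]
    [LocallyQuasiFinite ((Neron.genericFibre R).obj H).hom] : LocallyQuasiFinite H.hom := by
  have key : ∀ (A : CommRingCat.{u}) (j : Spec A ⟶ H.left) [IsOpenImmersion j],
      LocallyQuasiFinite (j ≫ H.hom) := by
    intro A j _
    obtain ⟨φ, hφ⟩ := Spec.map_surjective (j ≫ H.hom)
    haveI : Flat (Spec.map φ) := by rw [hφ]; infer_instance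
    haveI : LocallyQuasiFinite (pullback.snd (j ≫ H.hom) (Neron.genPt R)) := by
      rw [← pullbackRightPullbackFstIso_inv_snd_snd H.hom (Neron.genPt R) j]
      haveI : LocallyQuasiFinite (pullback.snd H.hom (Neron.genPt R)) :=
        inferInstanceAs (LocallyQuasiFinite ((Neron.genericFibre R).obj H).hom)
      infer_instance
    haveI : LocallyQuasiFinite (pullback.fst (Neron.genPt R) (Spec.map φ)) := by
      rw [hφ, ← pullbackSymmetry_hom_comp_snd]
      infer_instance
    rw [← hφ, HasRingHomProperty.Spec_iff (P := @LocallyQuasiFinite)]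
    exact quasiFinite_aux R φ ((HasRingHomProperty.Spec_iff (P := @Flat)).1 inferInstance)
  haveI : IsZariskiLocalAtSource @LocallyQuasiFinite :=
    HasRingHomProperty.instIsZariskiLocalAtSource (P := @LocallyQuasiFinite)
  exact (IsZariskiLocalAtSource.iff_of_openCover (P := @LocallyQuasiFinite)
    H.left.affineCover).2 fun i => @key _ (H.left.affineCover.f i) (H.left.affineCover.map_prop i)

end Groth.Agent.S18485
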