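import Groth.Statements.S18486
import Groth.Agent.GITLib.TorsorSch
import Groth.Agent.NeronHD.Torsor
import Mathlib.AlgebraicGeometry.Morphisms.LocalFlatDescent

set_option autoImplicit false
universe u
open CategoryTheory CategoryTheory.Limits AlgebraicGeometry MonObj
open Neron

namespace Groth.Agent.S18486

set_option backward.isDefEq.respectTransparency.types false in
/-- Let R be a Dedekind domain with fraction field K, X a group scheme over Spec R which is a Néron
model of its generic fibre, and P a Spec R-scheme with an action of X making it an X-torsor for the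
fppf topology (a pseudo-torsor which acquires sections on the members of some fppf covering family
of Spec R). Then P is smooth, separated and of finite type over Spec R and has the Néron mapping
property: for every smooth Spec R-scheme Y restriction to generic fibres is a bijection from
R-morphisms Y → P onto K-morphisms Y_K → P_K; that is, P is a Néron model of P_K. (The source treats
Néron lft models, torsors that are algebraic spaces and the mapping property towards smooth
algebraic spaces; the case of a Néron model of finite type and a torsor which is a scheme is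
stated.) -/
theorem result (R : Type u) [CommRing R] [IsDedekindDomain R]
    (X : Over (Spec (CommRingCat.of R))) [GrpObj X] (hX : Neron.IsNeronModelOf R X ((Neron.genericFibre R).obj X) (Iso.refl _))
    (P : NonAbH1.TorsorSch X Scheme.fppfPrecoverage) :
    Neron.IsNeronModelOf R P.X ((Neron.genericFibre R).obj P.X) (Iso.refl _) := by
  open CategoryTheory CategoryTheory.Limits AlgebraicGeometry MonoidalCategory CartesianMonoidalCategory MonObj in
  obtain ⟨hsm, hsep, hlft, hqc, hb⟩ := hX
  obtain ⟨hpt, R', hR', hs⟩ := P.isTorsor
  have ha : NonAbH1.IsTorsorFor Scheme.fpqcPrecoverage P.act :=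
    ⟨hpt, R', Scheme.fppfPrecoverage_le_fpqcPrecoverage _ hR', hs⟩
  haveI := hsm
  haveI : IsZariskiLocalAtTarget (@Smooth : MorphismProperty Scheme.{u}) :=
    HasRingHomProperty.instIsZariskiLocalAtTarget _ (Q := RingHom.Smooth)
  haveI : MorphismProperty.DescendsAlong @Smooth.{u} AlgSpCov.Fpqc :=
    inferInstanceAs (MorphismProperty.DescendsAlong @Smooth (@Surjective ⊓ @Flat ⊓ @QuasiCompact))
  haveI : MorphismProperty.DescendsAlong @Surjective.{u} AlgSpCov.Fpqc :=
    inferInstanceAs (MorphismProperty.DescendsAlong @Surjective (@Surjective ⊓ @Flat ⊓ @QuasiCompact))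
  haveI : MorphismProperty.DescendsAlong @IsSeparated.{u} AlgSpCov.Fpqc :=
    FpqcDesc.descendsAlong_isSeparated
  haveI : MorphismProperty.DescendsAlong @QuasiCompact.{u} AlgSpCov.Fpqc :=
    FpqcDesc.descendsAlong_quasiCompact
  haveI hPsm : Smooth P.X.hom := GITLib.property_of_torsor @Smooth ha hsm
  haveI : IsSeparated P.X.hom := GITLib.property_of_torsor @IsSeparated ha hsep
  haveI : QuasiCompact P.X.hom := GITLib.property_of_torsor @QuasiCompact ha hqc
  haveI : Surjective P.X.hom := GITLib.property_of_torsor @Surjective ha ⟨fun s =>
    ⟨η[X].left.base s, (Scheme.Hom.comp_apply η[X].left X.hom s).symm.trans (by rw [Over.w η[X]]; rfl)⟩⟩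
  refine ⟨hPsm, inferInstance, inferInstance, inferInstance, fun Y hY => ?_⟩
  haveI : IsIso (lift P.act.act (snd X P.X)) := hpt
  have hX' : ∀ W : Over (Spec (CommRingCat.of R)), Smooth W.hom →
      Function.Bijective (fun g : W ⟶ X => NeronHD.res (Neron.genPt R) W ≫ g) := fun W hW => by
    rw [← NeronHD.bijective_map_iff_res]
    have := hb W hW
    simp only [Iso.refl_hom, Category.comp_id] at this
    exact this
  simp only [Iso.refl_hom, Category.comp_id]
  rw [NeronHD.bijective_map_iff_res]
  exact NeronHD.bijective_res_of_torsor (N := P.X) (X := P.X) (Neron.genPt R)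
    (fun W hW w => (NeronHD.bijective_res_iff_torsor _ P.act w).1 (hX' W hW)) Y hY

end Groth.Agent.S18486
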