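import Groth.Statements.S18487
import Groth.Agent.GITLib.DedekindTorsor
open Groth.Agent.GITLib

set_option autoImplicit false
universe u
open CategoryTheory CategoryTheory.Limits AlgebraicGeometry MonObj
open NonAbH1

namespace Groth.Agent.S18487

/-- Let R be a Dedekind domain with fraction field K, G a proper flat group scheme over Spec R, and P a
Spec R-scheme with an action of G making it a G-torsor for the fppf topology (a pseudo-torsor
acquiring sections on the members of an fppf covering family). If P acquires a section over the
generic point Spec K → Spec R, then P has a section over Spec R: a generically trivial torsor is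
trivial. (The source allows any connected Dedekind scheme as base and torsors that are fppf sheaves,
shown there to be schemes; the affine base and scheme torsors are stated.) -/
theorem result (R : Type u) [CommRing R] [IsDedekindDomain R]
    (G : Over (Spec (CommRingCat.of R))) [GrpObj G] [IsProper G.hom] [Flat G.hom]
    (P : NonAbH1.TorsorSch G Scheme.fppfPrecoverage) (h : NonAbH1.HasSectionOver P.X (Neron.genPt R)) :
    NonAbH1.HasSectionOver P.X (𝟙 (Spec (CommRingCat.of R))) := by
  have := Groth.Agent.FpqcDesc.descendsAlong_isProper.{u}
  have : IsProper P.X.hom := property_of_torsor @IsProper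
    (isTorsorFor_mono Scheme.fppfPrecoverage_le_fpqcPrecoverage P.isTorsor) inferInstance
  obtain ⟨x, hx⟩ := h
  have : Algebra.IsAlgebraic R R := Algebra.IsIntegral.isAlgebraic
  obtain ⟨ζ, hζ, -⟩ := exists_lift_of_point (R := R) (CommRingCat.of R)
    (fun p hp => valuationRing_localization (R := R) p) (FractionRing R) P.X x
    (by rw [hx, Algebra.algebraMap_self, CommRingCat.ofHom_id, Spec.map_id]; exact (Category.comp_id _).symm)
  refine ⟨ζ, hζ.trans ?_⟩
  rw [Algebra.algebraMap_self, CommRingCat.ofHom_id, Spec.map_id]

end Groth.Agent.S18487
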