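import Groth.Statements.S18488
import Groth.Agent.GITLib.DedekindTorsor
open Groth.Agent.GITLib

set_option autoImplicit false
universe u
open CategoryTheory CategoryTheory.Limits AlgebraicGeometry MonObj
open NonAbH1

namespace Groth.Agent.S18488

/-- Let R be a Dedekind domain with fraction field K and G a proper flat group scheme over Spec R. Then
restriction to the generic fibre, from the set of classes of G-torsors for the fppf topology (Spec
R-schemes with a G-action, pseudo-torsors trivialised on an fppf covering family, up to equivariant
isomorphism) to the set of classes of G_K-torsors, is injective. (The source allows any connected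
Dedekind scheme as base and all fppf torsors, which it shows to be schemes; the affine base and
torsors representable by schemes are stated.) -/
theorem result (R : Type u) [CommRing R] [IsDedekindDomain R]
    (G : Over (Spec (CommRingCat.of R))) [GrpObj G] [IsProper G.hom] [Flat G.hom] :
    Function.Injective (NonAbH1.H1Sch.bcMap (Neron.genPt R) G Scheme.fppfPrecoverage) := by
  intro c c' h
  induction c using Quot.ind with | _ P => ?_
  induction c' using Quot.ind with | _ P' => ?_
  have h2 : Relation.EqvGen _ (P.bc (Neron.genPt R)) (P'.bc (Neron.genPt R)) := Quot.eqvGen_exact h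
  have key : ∀ {A B : TorsorSch (Red.bc (Neron.genPt R) G) Scheme.fppfPrecoverage},
      Relation.EqvGen (fun P Q => Nonempty (EquivIso P.act Q.act)) A B → Nonempty (EquivIso A.act B.act) := by
    intro A B hAB
    induction hAB with
    | rel _ _ h => exact h
    | refl A => exact ⟨⟨Iso.refl _, by simp⟩⟩
    | symm _ _ _ ih =>
      obtain ⟨e⟩ := ih
      refine ⟨⟨e.iso.symm, ?_⟩⟩
      rw [← cancel_mono e.iso.hom, Category.assoc, Category.assoc, e.comm, ← MonoidalCategory.whiskerLeft_comp_assoc]
      simp
    | trans _ _ _ _ _ ih₁ ih₂ =>
      obtain ⟨e⟩ := ih₁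
      obtain ⟨e'⟩ := ih₂
      refine ⟨⟨e.iso ≪≫ e'.iso, ?_⟩⟩
      rw [Iso.trans_hom, reassoc_of% e.comm, e'.comm, MonoidalCategory.whiskerLeft_comp, Category.assoc]
  obtain ⟨e⟩ := key h2
  exact Quot.sound (exists_equivIso_dedekind (isTorsorFor_mono Scheme.fppfPrecoverage_le_fpqcPrecoverage P.isTorsor)
    (isTorsorFor_mono Scheme.fppfPrecoverage_le_fpqcPrecoverage P'.isTorsor) e)

end Groth.Agent.S18488
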