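import Groth.Statements.S18493
import Groth.Agent.S18485
import Groth.Agent.S0385
import Groth.Agent.S1607
import Groth.Agent.AlgSpD.EtaleTop

set_option autoImplicit false
set_option backward.isDefEq.respectTransparency.types false
set_option linter.style.haveILetI false
universe u
open CategoryTheory CategoryTheory.Limits AlgebraicGeometry MonObj
open Neron

namespace Groth.Agent.S18493

open CategoryTheory CategoryTheory.Limits MonoidalCategory CartesianMonoidalCategory MonObj AlgebraicGeometry in
/-- Pullback functors carry kernels to kernels. -/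
theorem isKernel_map {S S' : Scheme.{u}} (t : S' ⟶ S) {N A B : Over S} [GrpObj B] {i : N ⟶ A} {φ : A ⟶ B}
    (h : AlgGrp.IsKernel i φ) : AlgGrp.IsKernel ((Over.pullback t).map i) ((Over.pullback t).map φ) := by
  refine (h.map (Over.pullback t)).of_iso (Iso.refl _) (Iso.refl _)
    (Functor.Monoidal.εIso (Over.pullback t)).symm (Iso.refl _) (by simp) ?_ (by simp) ?_
  · exact toUnit_unique _ _
  · simp

open CategoryTheory CategoryTheory.Limits AlgebraicGeometry in
/-- A separated quasi-finite scheme of finite type over a Dedekind domain is affine. -/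
theorem isAffine_of_quasiFinite (R : Type u) [CommRing R] [IsDedekindDomain R] {N : Scheme.{u}}
    (f : N ⟶ Spec (CommRingCat.of R)) [LocallyQuasiFinite f] [LocallyOfFiniteType f] [QuasiCompact f]
    [IsSeparated f] : IsAffine N := by
  obtain ⟨T, j, π, hj, hjq, hπ, hcomp⟩ := Groth.Agent.S0385.result f
  haveI : IsAffine T := isAffine_of_isAffineHom π
  haveI : IsLocallyNoetherian T := LocallyOfFiniteType.isLocallyNoetherian π
  haveI : CompactSpace N := QuasiCompact.compactSpace_of_compactSpace f
  have h : IsAffineOpen j.opensRange := by
    refine Groth.Agent.S1607.result T (fun x => ⟨inferInstance, ?_⟩) _ ?_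
    · refine (Groth.Agent.AlgSpD.ringKrullDim_stalk_le π x).trans ?_
      refine le_trans (le_of_eq (ringKrullDim_eq_of_ringEquiv
        (StructureSheaf.stalkIso R (π x)).symm.toRingEquiv)) ?_
      rw [IsLocalization.AtPrime.ringKrullDim_eq_height (π x).asIdeal (Localization.AtPrime (π x).asIdeal)]
      exact Ideal.height_le_ringKrullDim_of_ne_top (π x).isPrime.ne_top |>.trans
        ((Ring.krullDimLE_iff (R := R) (n := 1)).1 inferInstance)
    · rw [Scheme.Hom.coe_opensRange]
      exact isCompact_range j.continuous
  haveI : IsAffine (j.opensRange : Scheme.{u}) := h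
  exact IsAffine.of_isIso j.isoOpensRange.hom

/-- Let R be a Dedekind domain with fraction field K, let A and B be group schemes over Spec R which are
Néron models of their generic fibres, both abelian varieties over K (proper and geometrically
integral), let φ : A → B be a homomorphism whose generic fibre is an isogeny (surjective with finite
kernel), and let i : N → A be a kernel of φ (cartesian square against the unit section of B). If φ
is flat, then N → Spec R is locally quasi-finite, of finite type, flat and affine; if moreover A is
proper over Spec R then N → Spec R is finite. -/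
theorem result (R : Type u) [CommRing R]
    [IsDedekindDomain R] (A B : Over (Spec (CommRingCat.of R))) [GrpObj A] [GrpObj B]
    (hA : Neron.IsNeronModelOf R A ((Neron.genericFibre R).obj A) (Iso.refl _))
    (hB : Neron.IsNeronModelOf R B ((Neron.genericFibre R).obj B) (Iso.refl _))
    [IsProper ((Neron.genericFibre R).obj A).hom] [GeometricallyIntegral ((Neron.genericFibre R).obj A).hom]
    [IsProper ((Neron.genericFibre R).obj B).hom] [GeometricallyIntegral ((Neron.genericFibre R).obj B).hom]
    (φ : A ⟶ B) [IsMonHom φ] (hφ : SGA7.IsIsogenyOver ((Neron.genericFibre R).map φ)) [Flat φ.left]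
    (N : Over (Spec (CommRingCat.of R))) (i : N ⟶ A) (hN : AlgGrp.IsKernel i φ) :
    (LocallyQuasiFinite N.hom ∧ QuasiCompact N.hom ∧ Flat N.hom ∧ IsAffineHom N.hom) ∧
    (IsProper A.hom → IsFinite N.hom) := by
  obtain ⟨hAs, hAsep, hAft, hAqc, -⟩ := hA
  obtain ⟨hBs, hBsep, hBft, hBqc, -⟩ := hB
  have sq : IsPullback i.left N.hom φ.left η[B].left := by
    have h := hN.map (Over.forget (Spec (CommRingCat.of R)))
    simpa using h
  haveI : LocallyOfFiniteType (φ.left ≫ B.hom) := by rw [Over.w φ]; infer_instance
  haveI : QuasiCompact (φ.left ≫ B.hom) := by rw [Over.w φ]; infer_instance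
  haveI : IsSeparated (φ.left ≫ B.hom) := by rw [Over.w φ]; infer_instance
  haveI : LocallyOfFiniteType φ.left := locallyOfFiniteType_of_comp φ.left B.hom
  haveI : QuasiCompact φ.left := QuasiCompact.of_comp φ.left B.hom
  haveI : IsSeparated φ.left := IsSeparated.of_comp φ.left B.hom
  haveI hflat : Flat N.hom := MorphismProperty.of_isPullback (P := @Flat) sq ‹_›
  haveI hft : LocallyOfFiniteType N.hom := MorphismProperty.of_isPullback (P := @LocallyOfFiniteType) sq ‹_›
  haveI hqc : QuasiCompact N.hom := MorphismProperty.of_isPullback (P := @QuasiCompact) sq ‹_›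
  haveI hsep : IsSeparated N.hom := MorphismProperty.of_isPullback (P := @IsSeparated) sq ‹_›
  have hfin : IsFinite ((Neron.genericFibre R).obj N).hom :=
    hφ.2 _ _ (isKernel_map (Neron.genPt R) hN)
  haveI : LocallyQuasiFinite ((Neron.genericFibre R).obj N).hom := inferInstance
  haveI hlqf : LocallyQuasiFinite N.hom := Groth.Agent.S18485.result R N
  refine ⟨⟨hlqf, hqc, hflat, ?_⟩, fun hprop => ?_⟩
  · haveI := isAffine_of_quasiFinite R N.hom
    infer_instance
  · haveI : IsProper (φ.left ≫ B.hom) := by rw [Over.w φ]; exact hprop
    haveI : IsProper φ.left := IsProper.of_comp φ.left B.hom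
    haveI : IsProper N.hom := MorphismProperty.of_isPullback (P := @IsProper) sq ‹_›
    exact IsFinite.of_isProper_of_locallyQuasiFinite N.hom

end Groth.Agent.S18493
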