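import Groth.Statements.S18489
import Groth.Agent.NeronFlat.Dim
import Groth.Agent.S18493
import Groth.Agent.GrpScheme.KernelPair

set_option autoImplicit false
set_option backward.isDefEq.respectTransparency false
set_option backward.isDefEq.respectTransparency.types false
set_option linter.style.haveILetI false
universe u
open CategoryTheory CategoryTheory.Limits AlgebraicGeometry MonObj
open Neron

namespace Groth.Agent.S18489

open CategoryTheory CategoryTheory.Limits MonoidalCategory CartesianMonoidalCategory MonObj AlgebraicGeometry in
/-- Base change of a map along a factorization of the base map. -/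
theorem mem_of_factor (P : MorphismProperty Scheme.{u}) [P.IsStableUnderBaseChange] {S T T' : Scheme.{u}}
    (t : T ⟶ S) (t' : T' ⟶ S) (g : T ⟶ T') (hg : g ≫ t' = t) {A B : Over S} (φ : A ⟶ B)
    (h : P ((Over.pullback t').map φ).left) : P ((Over.pullback t).map φ).left := by
  have sqA : ∀ (C : Over S), IsPullback
      (pullback.lift (pullback.fst C.hom t) (pullback.snd C.hom t ≫ g)
        (by rw [Category.assoc, hg, pullback.condition]))
      (pullback.snd C.hom t) (pullback.snd C.hom t') g := fun C =>
    IsPullback.of_right (by simpa [hg] using IsPullback.of_hasPullback C.hom t) (by simp)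
      (IsPullback.of_hasPullback C.hom t')
  refine MorphismProperty.of_isPullback (P := P)
    (f' := pullback.lift (pullback.fst A.hom t) (pullback.snd A.hom t ≫ g)
        (by rw [Category.assoc, hg, pullback.condition]))
    (f := pullback.lift (pullback.fst B.hom t) (pullback.snd B.hom t ≫ g)
        (by rw [Category.assoc, hg, pullback.condition])) ?_ h
  refine IsPullback.of_bot ?_ ?_ (sqA B)
  · have e1 : ((Over.pullback t).map φ).left ≫ pullback.snd B.hom t = pullback.snd A.hom t := by simp
    have e2 : ((Over.pullback t').map φ).left ≫ pullback.snd B.hom t' = pullback.snd A.hom t' := by simp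
    rw [e1, e2]
    exact sqA A
  · apply pullback.hom_ext <;> simp

open CategoryTheory CategoryTheory.Limits AlgebraicGeometry in
theorem exists_factor_genPt (R : Type u) [CommRing R] [IsDomain R] :
    ∃ (s : Spec (CommRingCat.of R)) (g : Spec ((Spec (CommRingCat.of R)).residueField s) ⟶
        Spec (CommRingCat.of (FractionRing R))),
      g ≫ Neron.genPt R = (Spec (CommRingCat.of R)).fromSpecResidueField s := by
  haveI : IsPreimmersion (Neron.genPt R) :=
    IsPreimmersion.of_isLocalization (R := R) (S := FractionRing R) (nonZeroDivisors R)
  let pt : Spec (CommRingCat.of (FractionRing R)) := IsLocalRing.closedPoint (FractionRing R)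
  haveI : IsIso ((Neron.genPt R).residueFieldMap pt) := by
    rw [ConcreteCategory.isIso_iff_bijective]
    refine ⟨RingHom.injective _, fun z => ?_⟩
    obtain ⟨z, rfl⟩ := (Spec (CommRingCat.of (FractionRing R))).residue_surjective pt z
    obtain ⟨w, rfl⟩ := (Neron.genPt R).stalkMap_surjective pt z
    exact ⟨(Spec (CommRingCat.of R)).residue _ w,
      congr($(Scheme.residue_residueFieldMap (Neron.genPt R) pt).hom w)⟩
  refine ⟨Neron.genPt R pt,
    inv (Spec.map ((Neron.genPt R).residueFieldMap pt)) ≫
      (Spec (CommRingCat.of (FractionRing R))).fromSpecResidueField pt, ?_⟩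
  rw [Category.assoc, IsIso.inv_comp_eq, Scheme.Hom.SpecMap_residueFieldMap_fromSpecResidueField]

/-- Let R be a Dedekind domain with fraction field K, let A and B be group schemes over Spec R which are
Néron models of their generic fibres A_K and B_K, both abelian varieties over K (proper and
geometrically integral), and let φ : A → B be a homomorphism of group schemes over Spec R whose
generic fibre φ_K is an isogeny (surjective with finite kernel). Then φ is locally quasi-finite (its
fibres are finite; it is of finite type in any case) if and only if φ is flat. (A third equivalent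
condition, surjectivity of φ on the identity components of the fibres, is not part of this
statement. The published lemma is over any connected Dedekind scheme; the affine base is stated.) -/
theorem result (R : Type u) [CommRing R]
    [IsDedekindDomain R] (A B : Over (Spec (CommRingCat.of R))) [GrpObj A] [GrpObj B]
    (hA : Neron.IsNeronModelOf R A ((Neron.genericFibre R).obj A) (Iso.refl _))
    (hB : Neron.IsNeronModelOf R B ((Neron.genericFibre R).obj B) (Iso.refl _))
    [IsProper ((Neron.genericFibre R).obj A).hom] [GeometricallyIntegral ((Neron.genericFibre R).obj A).hom]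
    [IsProper ((Neron.genericFibre R).obj B).hom] [GeometricallyIntegral ((Neron.genericFibre R).obj B).hom]
    (φ : A ⟶ B) [IsMonHom φ] (hφ : SGA7.IsIsogenyOver ((Neron.genericFibre R).map φ)) :
    LocallyQuasiFinite φ.left ↔ Flat φ.left := by
  obtain ⟨hAs, hAsep, hAft, hAqc, -⟩ := hA
  obtain ⟨hBs, hBsep, hBft, hBqc, -⟩ := hB
  haveI : LocallyOfFiniteType (φ.left ≫ B.hom) := by rw [Over.w φ]; infer_instance
  haveI : LocallyOfFiniteType φ.left := locallyOfFiniteType_of_comp φ.left B.hom
  haveI : QuasiCompact (φ.left ≫ B.hom) := by rw [Over.w φ]; infer_instance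
  haveI : QuasiCompact φ.left := QuasiCompact.of_comp φ.left B.hom
  -- the kernel
  let N : Over (Spec (CommRingCat.of R)) := pullback φ η[B]
  let i : N ⟶ A := pullback.fst φ η[B]
  have hN : AlgGrp.IsKernel i φ := by
    have := IsPullback.of_hasPullback φ η[B]
    rw [show pullback.snd φ η[B] = CartesianMonoidalCategory.toUnit _ from CartesianMonoidalCategory.toUnit_unique _ _] at this
    exact this
  have sq : IsPullback i.left N.hom φ.left η[B].left := by
    simpa using hN.map (Over.forget (Spec (CommRingCat.of R)))
  haveI : LocallyOfFiniteType N.hom := MorphismProperty.of_isPullback (P := @LocallyOfFiniteType) sq ‹_›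
  haveI : QuasiCompact N.hom := MorphismProperty.of_isPullback (P := @QuasiCompact) sq ‹_›
  -- the generic fibre
  let : GrpObj ((Neron.genericFibre R).obj A) := Functor.grpObjObj
  let : GrpObj ((Neron.genericFibre R).obj B) := Functor.grpObjObj
  have hNfin : IsFinite ((Neron.genericFibre R).obj N).hom :=
    hφ.2 _ _ (Groth.Agent.S18493.isKernel_map (Neron.genPt R) hN)
  constructor
  · intro hlqf
    haveI : Smooth ((Neron.genericFibre R).obj B).hom :=
      inferInstanceAs (Smooth (pullback.snd B.hom (Neron.genPt R)))
    haveI : IsReduced ((Neron.genericFibre R).obj B).left :=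
      Groth.Agent.GrpScheme.HomFlat.isReduced_of_smooth (K := FractionRing R) ((Neron.genericFibre R).obj B).hom
    haveI : Surjective ((Neron.genericFibre R).map φ).left := hφ.1
    haveI : LocallyOfFiniteType ((Neron.genericFibre R).obj A).hom :=
      inferInstanceAs (LocallyOfFiniteType (pullback.snd A.hom (Neron.genPt R)))
    haveI : LocallyOfFiniteType ((Neron.genericFibre R).obj B).hom :=
      inferInstanceAs (LocallyOfFiniteType (pullback.snd B.hom (Neron.genPt R)))
    have hKflat : Flat ((Neron.genericFibre R).map φ).left :=
      Groth.Agent.GrpScheme.HomFlat.flat_of_surjective (K := FractionRing R) ((Neron.genericFibre R).map φ)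
    let S := Spec (CommRingCat.of R)
    let F := fun s : S => (Over.pullback (S.fromSpecResidueField s))
    have hconst : ∀ (C : Over S) [GrpObj C] [Smooth C.hom] (s s' : S),
        topologicalKrullDim ((F s).obj C).left = topologicalKrullDim ((F s').obj C).left := by
      intro C _ _ s s'
      have key : ∀ (x : C.left) (s : S), C.hom x = s →
          FlatMor.fibreDimAt C.hom x = topologicalKrullDim ((F s).obj C).left := by
        rintro x _ rfl
        let : GrpObj ((F (C.hom x)).obj C) := Functor.grpObjObj
        haveI : LocallyOfFiniteType ((F (C.hom x)).obj C).hom :=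
          inferInstanceAs (LocallyOfFiniteType (pullback.snd C.hom (S.fromSpecResidueField (C.hom x))))
        exact Groth.Agent.NeronFlat.localDim_eq ((F (C.hom x)).obj C) (C.hom.asFiber x)
      have he : ∀ t : S, C.hom (η[C].left t) = t := fun t => by
        rw [← Scheme.Hom.comp_apply, Over.w η[C]]
        rfl
      rw [← key (η[C].left s) s (he s), ← key (η[C].left s') s' (he s')]
      haveI : IrreducibleSpace (PrimeSpectrum R) := inferInstance
      haveI : PreconnectedSpace ↥S := inferInstanceAs (PreconnectedSpace (PrimeSpectrum R))
      have hcont : Continuous (fun t : S => η[C].left t) := η[C].left.continuous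
      exact ((Groth.Agent.NeronFlat.isLocallyConstant_fibreDimAt C.hom).comp_continuous
        hcont).apply_eq_of_preconnectedSpace s s'
    obtain ⟨s₀, g, hg⟩ := exists_factor_genPt R
    have hdim : ∀ s : S, topologicalKrullDim ((F s).obj A).left = topologicalKrullDim ((F s).obj B).left := by
      intro s
      rw [hconst A s s₀, hconst B s s₀]
      let : GrpObj ((F s₀).obj A) := Functor.grpObjObj
      let : GrpObj ((F s₀).obj B) := Functor.grpObjObj
      haveI : LocallyOfFiniteType ((F s₀).obj A).hom :=
        inferInstanceAs (LocallyOfFiniteType (pullback.snd A.hom (S.fromSpecResidueField s₀)))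
      haveI : LocallyOfFiniteType ((F s₀).obj B).hom :=
        inferInstanceAs (LocallyOfFiniteType (pullback.snd B.hom (S.fromSpecResidueField s₀)))
      haveI : Flat ((F s₀).map φ).left := mem_of_factor @Flat _ _ g hg φ hKflat
      haveI : LocallyQuasiFinite ((F s₀).map φ).left :=
        (Groth.Agent.GrpScheme.FibreFlat.pullback_map_mem_iff φ s₀ @LocallyQuasiFinite).mpr inferInstance
      exact Groth.Agent.NeronFlat.topologicalKrullDim_eq ((F s₀).map φ)
    haveI : LocallyOfFinitePresentation (φ.left ≫ B.hom) := by rw [Over.w φ]; infer_instance
    haveI : Flat (φ.left ≫ B.hom) := by rw [Over.w φ]; infer_instance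
    refine Groth.Agent.GrpScheme.FibreFlat.flat_of_fibres φ.left B.hom fun s => ?_
    rw [Groth.Agent.GrpScheme.FibreFlat.fiberMap_mem_iff @Flat,
      ← Groth.Agent.GrpScheme.FibreFlat.pullback_map_mem_iff φ s @Flat]
    let : GrpObj ((F s).obj A) := Functor.grpObjObj
    let : GrpObj ((F s).obj B) := Functor.grpObjObj
    haveI : LocallyOfFiniteType ((F s).obj A).hom :=
      inferInstanceAs (LocallyOfFiniteType (pullback.snd A.hom (S.fromSpecResidueField s)))
    haveI : LocallyOfFiniteType ((F s).obj B).hom :=
      inferInstanceAs (LocallyOfFiniteType (pullback.snd B.hom (S.fromSpecResidueField s)))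
    haveI : Smooth ((F s).obj B).hom :=
      inferInstanceAs (Smooth (pullback.snd B.hom (S.fromSpecResidueField s)))
    haveI : IsReduced ((F s).obj B).left :=
      Groth.Agent.GrpScheme.HomFlat.isReduced_of_smooth (K := S.residueField s) ((F s).obj B).hom
    haveI : LocallyQuasiFinite ((F s).map φ).left :=
      (Groth.Agent.GrpScheme.FibreFlat.pullback_map_mem_iff φ s @LocallyQuasiFinite).mpr inferInstance
    exact Groth.Agent.NeronFlat.flat_of_topologicalKrullDim_eq (K := S.residueField s) ((F s).map φ) (hdim s)
  · intro hflat
    haveI : Flat N.hom := MorphismProperty.of_isPullback (P := @Flat) sq hflat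
    haveI : LocallyQuasiFinite ((Neron.genericFibre R).obj N).hom := inferInstance
    haveI : LocallyQuasiFinite N.hom := Groth.Agent.S18485.result R N
    have hp := Groth.Agent.GrpdLib.GrpOver.isPullback_left (Groth.Agent.GrpScheme.KernelPair.isPullback hN)
    haveI : LocallyQuasiFinite (CartesianMonoidalCategory.fst A N).left := inferInstanceAs (LocallyQuasiFinite (pullback.fst A.hom N.hom))
    haveI : QuasiCompact (CartesianMonoidalCategory.fst A N).left := inferInstanceAs (QuasiCompact (pullback.fst A.hom N.hom))
    refine LocallyQuasiFinite.of_finite_preimage_singleton φ.left fun y => ?_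
    by_cases hy : ∃ x, φ.left x = y
    · obtain ⟨x, rfl⟩ := hy
      refine (((CartesianMonoidalCategory.fst A N).left.finite_preimage_singleton x).image (CartesianMonoidalCategory.fst A N * (CartesianMonoidalCategory.snd A N ≫ i)).left).subset ?_
      intro x' hx'
      obtain ⟨z, hz1, hz2⟩ := Scheme.exists_preimage_of_isPullback hp x x' hx'.symm
      exact ⟨z, hz1, hz2⟩
    · exact Set.Finite.subset Set.finite_empty fun x hx => hy ⟨x, hx⟩

end Groth.Agent.S18489
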