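import Groth.Statements.S18494
import Groth.Agent.S18489
import Groth.Agent.S18493
import Groth.Agent.S7790
import Groth.Agent.SGA7Lib.TorsionEtale
import Groth.Agent.GrpScheme.AVComm
import Groth.Agent.AbDualLib.Rigid
import Groth.Agent.GrpdLib.GrpOver
import Groth.Agent.GrpScheme.KernelPair

set_option autoImplicit false
set_option backward.isDefEq.respectTransparency false
set_option backward.isDefEq.respectTransparency.types false
set_option linter.style.haveILetI false
set_option synthInstance.maxHeartbeats 200000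
set_option maxHeartbeats 1000000
universe u
open CategoryTheory CategoryTheory.Limits AlgebraicGeometry MonObj
open Neron

namespace Groth.Agent.S18494

open CategoryTheory CategoryTheory.Limits MonoidalCategory CartesianMonoidalCategory MonObj AlgebraicGeometry in
/-- Base change preserves commutativity of groups. -/
theorem isCommMonObj_bc {S S' : Scheme.{u}} (t : S' ⟶ S) (G : Over S) [GrpObj G] [IsCommMonObj G] :
    @IsCommMonObj (Over S') _ _ _ ((Over.pullback t).obj G) (Functor.grpObjObj (F := Over.pullback t)).toMonObj := by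
  letI : GrpObj ((Over.pullback t).obj G) := Functor.grpObjObj
  refine ⟨?_⟩
  show (β_ _ _).hom ≫ Functor.LaxMonoidal.μ (Over.pullback t) G G ≫ (Over.pullback t).map μ[G] =
    Functor.LaxMonoidal.μ (Over.pullback t) G G ≫ (Over.pullback t).map μ[G]
  rw [← Category.assoc, ← Functor.LaxBraided.braided, Category.assoc, ← Functor.map_comp,
    IsCommMonObj.mul_comm]

open CategoryTheory CategoryTheory.Limits MonoidalCategory CartesianMonoidalCategory MonObj AlgebraicGeometry in
/-- A Néron model of a commutative group is commutative. -/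
theorem isCommMonObj_neron (R : Type u) [CommRing R] [IsDomain R] (A : Over (Spec (CommRingCat.of R))) [GrpObj A]
    (hA : Neron.IsNeronModelOf R A ((Neron.genericFibre R).obj A) (Iso.refl _))
    (hc : @IsCommMonObj (Over (Spec (CommRingCat.of (FractionRing R)))) _ _ _ ((Neron.genericFibre R).obj A)
      (Functor.grpObjObj (F := Neron.genericFibre R)).toMonObj) : IsCommMonObj A := by
  letI : GrpObj ((Neron.genericFibre R).obj A) := Functor.grpObjObj
  obtain ⟨hAs, -, -, -, hAmap⟩ := hA
  haveI : Smooth (A ⊗ A).hom := inferInstanceAs (Smooth (pullback.fst A.hom A.hom ≫ A.hom))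
  refine ⟨(hAmap (A ⊗ A) ‹_›).1 ?_⟩
  show (Neron.genericFibre R).map _ ≫ 𝟙 _ = (Neron.genericFibre R).map _ ≫ 𝟙 _
  rw [Category.comp_id, Category.comp_id, ← cancel_epi (Functor.LaxMonoidal.μ (Neron.genericFibre R) A A),
    Functor.map_comp, ← Category.assoc, Functor.LaxBraided.braided, Category.assoc]
  exact hc.mul_comm

open CategoryTheory AlgebraicGeometry in
theorem cast_residueField_ne_zero (R : Type u) [CommRing R] (d : ℕ) (hd : IsUnit (d : R))
    (s : Spec (CommRingCat.of R)) : (d : (Spec (CommRingCat.of R)).residueField s) ≠ 0 := by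
  have h := hd.map ((Scheme.ΓSpecIso (CommRingCat.of R)).inv ≫
    (Spec (CommRingCat.of R)).Γevaluation s).hom
  rw [map_natCast] at h
  exact h.ne_zero

open MonoidalCategory CartesianMonoidalCategory in
/-- Let R be a Dedekind domain with fraction field K, let A and B be group schemes over Spec R which are
Néron models of their generic fibres, both abelian varieties over K (proper and geometrically
integral), let φ : A → B be a homomorphism whose generic fibre φ_K is an isogeny (surjective with
finite kernel), and let i : N → A be a kernel of φ. If the degree of φ_K, that is the order of the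
finite K-group scheme N_K (its rank over Spec K), is a unit in R, then N is a Néron model of its
generic fibre N_K (smooth, separated, of finite type, with the Néron mapping property for smooth
Spec R-schemes) and N → Spec R is étale. -/
theorem result (R : Type u) [CommRing R]
    [IsDedekindDomain R] (A B : Over (Spec (CommRingCat.of R))) [GrpObj A] [GrpObj B]
    (hA : Neron.IsNeronModelOf R A ((Neron.genericFibre R).obj A) (Iso.refl _))
    (hB : Neron.IsNeronModelOf R B ((Neron.genericFibre R).obj B) (Iso.refl _))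
    [IsProper ((Neron.genericFibre R).obj A).hom] [GeometricallyIntegral ((Neron.genericFibre R).obj A).hom]
    [IsProper ((Neron.genericFibre R).obj B).hom] [GeometricallyIntegral ((Neron.genericFibre R).obj B).hom]
    (φ : A ⟶ B) [IsMonHom φ] (hφ : SGA7.IsIsogenyOver ((Neron.genericFibre R).map φ))
    (N : Over (Spec (CommRingCat.of R))) (i : N ⟶ A) (hN : AlgGrp.IsKernel i φ)
    (hdeg : ∀ x : ↥(Spec (CommRingCat.of (FractionRing R))),
      IsUnit ((((Neron.genericFibre R).obj N).hom.finrank x : ℕ) : R)) :
    Neron.IsNeronModelOf R N ((Neron.genericFibre R).obj N) (Iso.refl _) ∧ Etale N.hom := by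
  have hA' := hA
  have hB' := hB
  obtain ⟨hAs, hAsep, hAft, hAqc, hAmap⟩ := hA
  obtain ⟨hBs, hBsep, hBft, hBqc, hBmap⟩ := hB
  let F := Neron.genericFibre R
  let : GrpObj (F.obj A) := Functor.grpObjObj
  let : GrpObj (F.obj B) := Functor.grpObjObj
  have hinjA : ∀ (Y : Over (Spec (CommRingCat.of R))), Smooth Y.hom → ∀ f g : Y ⟶ A, F.map f = F.map g → f = g :=
    fun Y hY f g h => (hAmap Y hY).1 (by show F.map f ≫ 𝟙 _ = F.map g ≫ 𝟙 _; rw [h])
  -- the generic fibre
  haveI : Smooth (F.obj A).hom := inferInstanceAs (Smooth (pullback.snd A.hom (Neron.genPt R)))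
  haveI : Smooth (F.obj B).hom := inferInstanceAs (Smooth (pullback.snd B.hom (Neron.genPt R)))
  haveI : IsReduced (F.obj B).left :=
    Groth.Agent.GrpScheme.HomFlat.isReduced_of_smooth (K := FractionRing R) (F.obj B).hom
  haveI : Surjective (F.map φ).left := hφ.1
  haveI : Flat (F.map φ).left := Groth.Agent.GrpScheme.HomFlat.flat_of_surjective (K := FractionRing R) (F.map φ)
  haveI : QuasiCompact ((F.map φ).left ≫ (F.obj B).hom) := by rw [Over.w (F.map φ)]; infer_instance
  haveI : QuasiCompact (F.map φ).left := QuasiCompact.of_comp _ (F.obj B).hom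
  have hkK : AlgGrp.IsKernel (F.map i) (F.map φ) := Groth.Agent.S18493.isKernel_map (Neron.genPt R) hN
  have hNfin : IsFinite (F.obj N).hom := hφ.2 _ _ hkK
  haveI : IsFinite (F.map φ).left := by
    have := Groth.Agent.FpqcDesc.descendsAlong_isFinite.{u}
    exact Groth.Agent.GrpScheme.KernelPair.mem_of_kernel hkK @IsFinite Groth.Agent.FpqcDesc.FPQC
      ⟨⟨‹_›, ‹_›⟩, ‹_›⟩ hNfin
  let d := (F.obj N).hom.finrank (IsLocalRing.closedPoint (FractionRing R))
  have hd : IsUnit (d : R) := hdeg _
  have hd1 : 1 ≤ d := Nat.one_le_iff_ne_zero.mpr fun h0 => hd.ne_zero (by rw [h0]; simp)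
  haveI : LocallyOfFinitePresentation (F.map φ).left := Groth.Agent.GrpdLib.GrpOver.lfp_left (F.map φ)
  have hsqK : IsPullback (F.map i).left (F.obj N).hom (F.map φ).left η[F.obj B].left := by
    simpa using hkK.map (Over.forget (Spec (CommRingCat.of (FractionRing R))))
  haveI : GeometricallyReduced (F.obj A).hom := Groth.Agent.AbDualLib.Rigid.geometricallyReduced_of_smooth _
  haveI : GeometricallyReduced (F.obj B).hom := Groth.Agent.AbDualLib.Rigid.geometricallyReduced_of_smooth _
  haveI : GeometricallyConnected (F.obj A).hom := ⟨fun _ _ y _ fst snd h =>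
    have := GeometricallyIrreducible.geometrically_irreducibleSpace (f := (F.obj A).hom) y fst snd h
    inferInstance⟩
  haveI : GeometricallyConnected (F.obj B).hom := ⟨fun _ _ y _ fst snd h =>
    have := GeometricallyIrreducible.geometrically_irreducibleSpace (f := (F.obj B).hom) y fst snd h
    inferInstance⟩
  obtain ⟨⟨g, ⟨hgm, hg⟩, -⟩, -⟩ := Groth.Agent.S7790.result (F.obj A) (F.obj B) (F.map φ) d hd1 (fun s => by
    refine (Scheme.Hom.finrank_of_isPullback _ _ _ _ hsqK s).symm.trans ?_
    exact congrArg _ (Subsingleton.elim (α := PrimeSpectrum (FractionRing R)) _ _))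
  -- commutativity
  haveI hcA : IsCommMonObj A :=
    isCommMonObj_neron R A hA' (Groth.Agent.GrpScheme.AVComm.isCommMonObj (F.obj A))
  -- the extension of the dual isogeny
  obtain ⟨ψ, hψ⟩ := (hAmap B hBs).2 g
  have hψ' : F.map ψ = g := by
    have h : F.map ψ ≫ 𝟙 _ = g := hψ
    rwa [Category.comp_id] at h
  have hcomp : φ ≫ ψ = (𝟙 A : A ⟶ A) ^ d := by
    refine hinjA A hAs _ _ ?_
    rw [Functor.map_comp, hψ', hg]
    have h := map_pow (Functor.homMonoidHom (X := A) (M := A) F) (𝟙 A) d
    refine (h.trans ?_).symm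
    congr 1
    exact F.map_id A
  haveI : LocallyOfFinitePresentation A.hom := inferInstance
  haveI hpow : Etale ((𝟙 A : A ⟶ A) ^ d).left :=
    Groth.Agent.SGA7Lib.etale_pow A (fun s => isCommMonObj_bc _ A) d (cast_residueField_ne_zero R d hd)
  haveI : LocallyQuasiFinite (φ.left ≫ ψ.left) := by
    rw [← Over.comp_left, hcomp]
    exact Groth.Agent.AlgSpD.locallyQuasiFinite_of_etale _
  haveI hlqf : LocallyQuasiFinite φ.left := LocallyQuasiFinite.of_comp φ.left ψ.left
  haveI hflat : Flat φ.left := (Groth.Agent.S18489.result R A B hA' hB' φ hφ).1 hlqf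
  obtain ⟨⟨-, hNqc, hNflat, -⟩, -⟩ := Groth.Agent.S18493.result R A B hA' hB' φ hφ N i hN
  -- the kernel is unramified
  have sq : IsPullback i.left N.hom φ.left η[B].left := by
    simpa using hN.map (Over.forget (Spec (CommRingCat.of R)))
  haveI : IsClosedImmersion η[B].left := by
    haveI : IsClosedImmersion (η[B].left ≫ B.hom) := by
      rw [Over.w η[B]]
      exact inferInstanceAs (IsClosedImmersion (𝟙 _))
    exact IsClosedImmersion.of_comp η[B].left B.hom
  haveI : IsClosedImmersion i.left := MorphismProperty.of_isPullback (P := @IsClosedImmersion) sq.flip ‹_›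
  have hi1 : i ≫ (𝟙 A : A ⟶ A) ^ d = toUnit N ≫ η[A] := by
    rw [← hcomp, ← Category.assoc, hN.w, Category.assoc]
    congr 1
    have h1 : η[A] ≫ φ ≫ ψ = η[A] := by
      rw [hcomp, MonObj.comp_pow, Category.comp_id, MonObj.one_eq_one, one_pow]
    rwa [← Category.assoc, IsMonHom.one_hom] at h1
  let T : Over (Spec (CommRingCat.of R)) := pullback ((𝟙 A : A ⟶ A) ^ d) η[A]
  have sqT : IsPullback (pullback.fst ((𝟙 A : A ⟶ A) ^ d) η[A]).left T.hom ((𝟙 A : A ⟶ A) ^ d).left η[A].left := by
    have h0 := IsPullback.of_hasPullback ((𝟙 A : A ⟶ A) ^ d) η[A]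
    rw [show pullback.snd ((𝟙 A : A ⟶ A) ^ d) η[A] = toUnit T from toUnit_unique _ _] at h0
    simpa using h0.map (Over.forget (Spec (CommRingCat.of R)))
  haveI : Etale T.hom := MorphismProperty.of_isPullback (P := @Etale) sqT hpow
  let j : N ⟶ T := pullback.lift i (toUnit N) hi1
  haveI : IsClosedImmersion (η[A].left) := by
    haveI : IsClosedImmersion (η[A].left ≫ A.hom) := by
      rw [Over.w η[A]]
      exact inferInstanceAs (IsClosedImmersion (𝟙 _))
    exact IsClosedImmersion.of_comp η[A].left A.hom
  haveI : IsClosedImmersion (pullback.fst ((𝟙 A : A ⟶ A) ^ d) η[A]).left :=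
    MorphismProperty.of_isPullback (P := @IsClosedImmersion) sqT.flip ‹_›
  haveI : IsClosedImmersion (j.left ≫ (pullback.fst ((𝟙 A : A ⟶ A) ^ d) η[A]).left) := by
    rw [← Over.comp_left, pullback.lift_fst]
    infer_instance
  haveI : IsClosedImmersion j.left := IsClosedImmersion.of_comp j.left (pullback.fst ((𝟙 A : A ⟶ A) ^ d) η[A]).left
  haveI : FormallyUnramified N.hom := by
    rw [← Over.w j]
    haveI : Mono j.left := inferInstance
    haveI : FormallyUnramified j.left := inferInstance
    exact MorphismProperty.comp_mem _ _ _ ‹FormallyUnramified j.left› (inferInstanceAs (FormallyUnramified T.hom))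
  haveI : IsSeparated N.hom := by
    rw [← Over.w i]
    infer_instance
  haveI : LocallyOfFiniteType N.hom := by
    rw [← Over.w i]
    infer_instance
  haveI : IsNoetherianRing R := inferInstance
  haveI : LocallyOfFinitePresentation N.hom :=
    LocallyOfFinitePresentation.iff_locallyOfFiniteType.mpr inferInstance
  have hNet : Etale N.hom := Etale.of_formallyUnramified_of_flat N.hom
  haveI := hNet
  refine ⟨⟨inferInstance, inferInstance, inferInstance, hNqc, fun Y hY => ⟨?_, ?_⟩⟩, hNet⟩
  · intro a b hab
    haveI := Groth.Agent.GrpdLib.GrpOver.kernel_mono hN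
    have hab' : F.map a = F.map b := by
      have h : F.map a ≫ 𝟙 _ = F.map b ≫ 𝟙 _ := hab
      rwa [Category.comp_id, Category.comp_id] at h
    rw [← cancel_mono i]
    exact hinjA Y hY _ _ (by rw [Functor.map_comp, Functor.map_comp, hab'])
  · intro h
    haveI := Groth.Agent.GrpdLib.GrpOver.kernel_mono hkK
    obtain ⟨a, ha⟩ := (hAmap Y hY).2 (h ≫ F.map i)
    have ha' : F.map a = h ≫ F.map i := by
      have h' : F.map a ≫ 𝟙 _ = h ≫ F.map i := ha
      rwa [Category.comp_id] at h'
    have hw : a ≫ φ = toUnit Y ≫ η[B] := by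
      refine (hBmap Y hY).1 ?_
      show F.map (a ≫ φ) ≫ 𝟙 _ = F.map (toUnit Y ≫ η[B]) ≫ 𝟙 _
      rw [Functor.map_comp, ha']
      simp only [Category.comp_id]
      rw [Category.assoc, ← Functor.map_comp, hN.w, Functor.map_comp, Functor.map_comp, ← Category.assoc h]
      congr 1
      haveI : IsIso (Functor.LaxMonoidal.ε F) := inferInstance
      rw [← cancel_mono (Functor.Monoidal.εIso F).inv]
      exact toUnit_unique _ _
    refine ⟨hN.lift a (toUnit Y) hw, ?_⟩
    show F.map (hN.lift a (toUnit Y) hw) ≫ 𝟙 _ = h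
    rw [Category.comp_id, ← cancel_mono (F.map i), ← Functor.map_comp, hN.lift_fst, ha']

end Groth.Agent.S18494
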