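import Groth.Statements.S18497
import Groth.Agent.FinEtNeron67.Closure
import Groth.Agent.S18498
import Groth.Agent.EtStruct.Instances

set_option autoImplicit false
set_option maxHeartbeats 1000000
set_option backward.isDefEq.respectTransparency false
universe u
open CategoryTheory CategoryTheory.Limits AlgebraicGeometry MonObj
open Neron

open CategoryTheory.Limits
open scoped TensorProduct nonZeroDivisors

namespace Groth.Agent.S18497

/-- Let R be a Dedekind domain with fraction field K and G a finite étale group scheme over K. Then G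
has a Néron model over Spec R which is separated, quasi-finite and étale: there are a Spec R-scheme
N and an isomorphism e of its generic fibre N_K with G such that N is smooth, separated and of
finite type over Spec R with the Néron mapping property (for every smooth Spec R-scheme Y, g ↦ e ∘
g_K is a bijection from R-morphisms Y → N onto K-morphisms Y_K → G), and N → Spec R is étale and
locally quasi-finite. -/
theorem result (R : Type u) [CommRing R] [IsDedekindDomain R]
    (G : Over (Spec (CommRingCat.of (FractionRing R)))) [GrpObj G] [IsFinite G.hom] [Etale G.hom] :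
    ∃ (N : Over (Spec (CommRingCat.of R))) (e : (Neron.genericFibre R).obj N ≅ G),
      Neron.IsNeronModelOf R N G e ∧ Etale N.hom ∧ LocallyQuasiFinite N.hom := by
  let K := FractionRing R
  let gK := Neron.genPt R
  have : IsAffine G.left := isAffine_of_isAffineHom G.hom
  let E : Type u := Γ(G.left, ⊤)
  obtain ⟨φK, hφK⟩ := Spec.map_surjective (G.left.isoSpec.inv ≫ G.hom)
  letI : Algebra K E := φK.hom.toAlgebra
  letI : Algebra R E := ((algebraMap K E).comp (algebraMap R K)).toAlgebra
  haveI : IsScalarTower R K E := IsScalarTower.of_algebraMap_eq fun _ => rfl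
  have hEK : Spec.map (CommRingCat.ofHom (algebraMap K E)) = G.left.isoSpec.inv ≫ G.hom := hφK
  haveI : Algebra.Etale K E := by
    have : Etale (Spec.map (CommRingCat.ofHom (algebraMap K E))) := by rw [hEK]; infer_instance
    exact RingHom.etale_algebraMap.1 (HasRingHomProperty.Spec_iff.1 this)
  haveI : Module.Finite K E := by
    have : IsFinite (Spec.map (CommRingCat.ofHom (algebraMap K E))) := by rw [hEK]; infer_instance
    exact RingHom.finite_algebraMap.1 ((IsFinite.SpecMap_iff _).1 this)
  let C := integralClosure R E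
  haveI := FinEtNeron67.finite_integralClosure (R := R) (E := E)
  haveI := FinEtNeron67.isLocalization_integralClosure (R := R) (E := E)
  haveI : Algebra.FinitePresentation R C := Algebra.FinitePresentation.of_finiteType.1 inferInstance
  let p : Spec (CommRingCat.of C) ⟶ Spec (CommRingCat.of R) := Spec.map (CommRingCat.ofHom (algebraMap R C))
  let U : (Spec (CommRingCat.of C)).Opens := ⟨Algebra.etaleLocus R C, Algebra.isOpen_etaleLocus⟩
  haveI : IsNoetherianRing C := Algebra.FiniteType.isNoetherianRing R C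
  have hUe : Etale (U.ι ≫ p) := by
    have hx : ∀ x : U, ∃ f : C, x.1 ∈ PrimeSpectrum.basicOpen f ∧
        (PrimeSpectrum.basicOpen f : Set (PrimeSpectrum C)) ⊆ Algebra.etaleLocus R C := fun x => by
      obtain ⟨_, ⟨f, rfl⟩, h1, h2⟩ :=
        PrimeSpectrum.isTopologicalBasis_basic_opens.exists_subset_of_mem_open x.2 U.2
      exact ⟨f, h1, h2⟩
    choose f hxf hfU using hx
    let Z := fun x : U => CommRingCat.of (Localization.Away (f x))
    let j := fun x : U => Spec.map (CommRingCat.ofHom (algebraMap C (Localization.Away (f x))))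
    haveI : ∀ x, IsOpenImmersion (j x) := fun x => IsOpenImmersion.of_isLocalization (f x)
    have hr : ∀ x, Set.range (j x) ⊆ Set.range U.ι := fun x => by
      rw [Scheme.Opens.range_ι]
      rintro _ ⟨w, rfl⟩
      exact hfU x ((PrimeSpectrum.localization_away_comap_range (Localization.Away (f x)) (f x)).subset ⟨w, rfl⟩)
    let c := fun x => IsOpenImmersion.lift U.ι (j x) (hr x)
    haveI : ∀ x, IsOpenImmersion (c x) := fun x => by
      have : IsOpenImmersion (c x ≫ U.ι) := by rw [IsOpenImmersion.lift_fac]; infer_instance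
      exact IsOpenImmersion.of_comp (c x) U.ι
    let 𝒰 : (U : Scheme.{u}).OpenCover :=
      Scheme.Cover.mkOfCovers U (fun x => Spec (Z x)) c (fun x => ⟨x, by
        obtain ⟨w, hw⟩ := (PrimeSpectrum.localization_away_comap_range (Localization.Away (f x)) (f x)).ge (hxf x)
        refine ⟨w, U.ι.isOpenEmbedding.injective ?_⟩
        show (c x ≫ U.ι) w = U.ι x
        rw [IsOpenImmersion.lift_fac]
        exact hw⟩) (fun x => inferInstance)
    refine IsZariskiLocalAtSource.of_openCover (P := @Etale) 𝒰 fun x => ?_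
    show Etale (c x ≫ U.ι ≫ p)
    rw [← Category.assoc, IsOpenImmersion.lift_fac, ← Spec.map_comp, ← CommRingCat.ofHom_comp,
      ← IsScalarTower.algebraMap_eq]
    haveI := Algebra.basicOpen_subset_etaleLocus_iff_etale.1 (hfU x)
    exact HasRingHomProperty.Spec_iff.2 (RingHom.etale_algebraMap.2 inferInstance)
  haveI : CompactSpace (U : Scheme.{u}) :=
    isCompact_iff_compactSpace.1 (TopologicalSpace.NoetherianSpace.isCompact (U : Set (Spec (CommRingCat.of C))))
  let N : Over (Spec (CommRingCat.of R)) := Over.mk (U.ι ≫ p)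
  haveI : Etale N.hom := hUe
  haveI : QuasiCompact N.hom :=
    (quasiCompact_iff_compactSpace N.hom).2 ‹CompactSpace (U : Scheme.{u})›
  haveI : IsSeparated N.hom := inferInstanceAs (IsSeparated (U.ι ≫ p))
  -- the generic fibre
  let jE : Spec (CommRingCat.of E) ⟶ Spec (CommRingCat.of C) := Spec.map (CommRingCat.ofHom (algebraMap C E))
  haveI : IsScalarTower R C E := inferInstance
  have hrange : Set.range (G.left.isoSpec.hom ≫ jE) ⊆ Set.range U.ι := by
    rw [Scheme.Opens.range_ι]
    rintro _ ⟨w, rfl⟩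
    haveI := ((G.left.isoSpec.hom ≫ jE) w).isPrime
    refine FinEtNeron67.isEtaleAt_of_comap_eq_bot _ ?_
    let P : PrimeSpectrum E := G.left.isoSpec.hom w
    haveI := P.isPrime
    show (P.asIdeal.comap (algebraMap C E)).comap (algebraMap R C) = ⊥
    rw [Ideal.comap_comap, ← IsScalarTower.algebraMap_eq R C E, IsScalarTower.algebraMap_eq R K E, ← Ideal.comap_comap,
      Ideal.eq_bot_of_prime (P.asIdeal.comap (algebraMap K E))]
    exact Ideal.comap_bot_of_injective _ (IsFractionRing.injective R K)
  let k : G.left ⟶ (U : Scheme.{u}) := IsOpenImmersion.lift U.ι (G.left.isoSpec.hom ≫ jE) hrange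
  have hk : k ≫ U.ι = G.left.isoSpec.hom ≫ jE := IsOpenImmersion.lift_fac _ _ _
  have sq : IsPullback k G.hom (U.ι ≫ p) gK := by
    haveI := Algebra.isPushout_of_isLocalization R⁰ K C E
    have h1 : IsPullback jE (Spec.map (CommRingCat.ofHom (algebraMap K E))) p gK :=
      isPullback_SpecMap_of_isPushout _ _ _ _ (CommRingCat.isPushout_of_isPushout R C K E)
    have h0 : IsPullback G.left.isoSpec.hom G.hom (Spec.map (CommRingCat.ofHom (algebraMap K E))) (𝟙 _) :=
      IsPullback.of_horiz_isIso ⟨by rw [hEK, Iso.hom_inv_id_assoc, Category.comp_id]⟩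
    have h2 := h0.paste_horiz h1
    rw [Category.id_comp] at h2
    rw [← hk] at h2
    have h3 : IsPullback k (𝟙 G.left) U.ι (k ≫ U.ι) := ⟨⟨by simp⟩, ⟨PullbackCone.IsLimit.mk _ (fun s => s.snd)
      (fun s => by rw [← cancel_mono U.ι, Category.assoc]; exact s.condition.symm)
      (fun s => Category.comp_id _) (fun s m _ h => by simpa using h)⟩⟩
    have := h3.paste_vert h2
    rwa [Category.id_comp] at this
  let e : (Neron.genericFibre R).obj N ≅ G := (Over.isoMk sq.isoPullback sq.isoPullback_hom_snd).symm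
  refine ⟨N, e, ⟨inferInstance, inferInstance, inferInstance, inferInstance, fun Y hY => ?_⟩, hUe, EtStruct.locallyQuasiFinite_of_formallyUnramified N.hom⟩
  haveI := hY
  refine ⟨fun g g' hgg => ?_, fun h => ?_⟩
  · exact Groth.Agent.S18498.result R Y N g g' ((cancel_mono e.hom).1 hgg)
  let hu : pullback Y.hom gK ⟶ (U : Scheme.{u}) := h.left ≫ k
  let 𝒲 := Y.left.affineOpenCover
  let 𝒱 := 𝒲.openCover
  let Fi := fun i => pullback.map (𝒱.f i ≫ Y.hom) gK Y.hom gK (𝒱.f i) (𝟙 _) (𝟙 _) (by simp) (by simp)
  have hloc : ∀ i, ∃ fi : 𝒱.X i ⟶ (U : Scheme.{u}), fi ≫ U.ι ≫ p = 𝒱.f i ≫ Y.hom ∧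
      pullback.fst (𝒱.f i ≫ Y.hom) gK ≫ fi = Fi i ≫ hu := by
    intro i
    let B : Type u := 𝒲.X i
    obtain ⟨ψ, hψ⟩ := Spec.map_surjective (𝒱.f i ≫ Y.hom : Spec (𝒲.X i) ⟶ Spec (CommRingCat.of R))
    letI : Algebra R B := ψ.hom.toAlgebra
    let b : Spec (CommRingCat.of B) ⟶ Spec (CommRingCat.of R) := Spec.map (CommRingCat.ofHom (algebraMap R B))
    have hb : b = 𝒱.f i ≫ Y.hom := hψ
    haveI : Algebra.Smooth R B := by
      have : Smooth b := by rw [hb]; infer_instance
      exact RingHom.smooth_algebraMap.1 (HasRingHomProperty.Spec_iff.1 this)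
    let T : Type u := B ⊗[R] K
    haveI : IsLocalization (Algebra.algebraMapSubmonoid B R⁰) T := inferInstance
    letI : Algebra K T := Algebra.TensorProduct.rightAlgebra
    let tB : Spec (CommRingCat.of T) ⟶ Spec (CommRingCat.of B) := Spec.map (CommRingCat.ofHom (algebraMap B T))
    let tK : Spec (CommRingCat.of T) ⟶ Spec (CommRingCat.of K) :=
      Spec.map (CommRingCat.ofHom (Algebra.TensorProduct.includeRight : K →ₐ[R] T).toRingHom)
    have hT0 : IsPullback tB tK b gK :=
      isPullback_SpecMap_of_isPushout _ _ _ _ (CommRingCat.isPushout_of_isPushout R B K T)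
    have hT : IsPullback tB tK (𝒱.f i ≫ Y.hom) gK := by
      convert hT0 using 1
      exact hb.symm
    let m : Spec (CommRingCat.of T) ⟶ pullback Y.hom gK := pullback.lift (tB ≫ 𝒱.f i) tK (by
      exact (Category.assoc _ _ _).trans hT.w)
    obtain ⟨χ, hχ⟩ := Spec.map_surjective (m ≫ h.left ≫ G.left.isoSpec.hom : Spec (CommRingCat.of T) ⟶ Spec (CommRingCat.of E))
    have hχK : χ.hom.comp (algebraMap K E) = (Algebra.TensorProduct.includeRight : K →ₐ[R] T).toRingHom := by
      have e1 : Spec.map (CommRingCat.ofHom (χ.hom.comp (algebraMap K E))) = tK := by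
        rw [CommRingCat.ofHom_comp, Spec.map_comp, CommRingCat.ofHom_hom, hχ, hEK]
        simp only [Category.assoc, Iso.hom_inv_id_assoc]
        have hw : h.left ≫ G.hom = pullback.snd Y.hom gK := Over.w h
        rw [hw, pullback.lift_snd]
      exact congrArg CommRingCat.Hom.hom (Spec.map_injective e1)
    let χ' : E →ₐ[R] T := AlgHom.mk χ.hom (fun r => by
      show χ.hom (algebraMap K E (algebraMap R K r)) = algebraMap R T r
      rw [← RingHom.comp_apply, hχK]
      exact (Algebra.TensorProduct.includeRight : K →ₐ[R] T).commutes r)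
    have hinj : Function.Injective (algebraMap B T) := by
      refine IsLocalization.injective T (M := Algebra.algebraMapSubmonoid B R⁰) ?_
      rintro _ ⟨r, hr, rfl⟩
      have hreg := Module.Flat.isSMulRegular_of_isRegular (M := B) (IsRegular.of_ne_zero (nonZeroDivisors.ne_zero hr))
      rw [mem_nonZeroDivisors_iff_right]
      intro x hx
      refine hreg (show r • x = r • 0 from ?_)
      rw [smul_zero, Algebra.smul_def, mul_comm]
      exact hx
    let φ : C →ₐ[R] B :=
      (AlgEquiv.ofInjective (IsScalarTower.toAlgHom R B T) hinj).symm.toAlgHom.comp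
        ((χ'.comp (integralClosure R E).val).codRestrict _ fun c => by
          obtain ⟨x, hx⟩ := FinEtNeron67.exists_of_isIntegral (R := R) (B := B) T
            ((show IsIntegral R (c : E) from c.2).map χ')
          exact ⟨x, hx⟩)
    have hφ : ∀ c, algebraMap B T (φ c) = χ.hom (c : E) := fun c =>
      congrArg Subtype.val ((AlgEquiv.ofInjective (IsScalarTower.toAlgHom R B T) hinj).apply_symm_apply _)
    let sφ : Spec (CommRingCat.of B) ⟶ Spec (CommRingCat.of C) := Spec.map (CommRingCat.ofHom φ.toRingHom)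
    have hsr : Set.range sφ ⊆ Set.range U.ι := by
      rw [Scheme.Opens.range_ι]
      rintro _ ⟨w, rfl⟩
      haveI := w.isPrime
      exact FinEtNeron67.isEtaleAt_centre φ w.asIdeal
    let fi : Spec (CommRingCat.of B) ⟶ (U : Scheme.{u}) := IsOpenImmersion.lift U.ι sφ hsr
    have hfi : fi ≫ U.ι = sφ := IsOpenImmersion.lift_fac _ _ _
    refine ⟨fi, ?_, ?_⟩
    · refine ((Category.assoc fi U.ι p).symm.trans ((congrArg (· ≫ p) hfi).trans ?_)).trans hb
      show Spec.map _ ≫ Spec.map _ = _
      rw [← Spec.map_comp, ← CommRingCat.ofHom_comp, show φ.toRingHom.comp (algebraMap R C) = algebraMap R B from φ.comp_algebraMap]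
    · rw [← cancel_epi hT.isoPullback.hom, hT.isoPullback_hom_fst_assoc]
      have hm : hT.isoPullback.hom ≫ Fi i = m := by
        apply pullback.hom_ext
        · rw [Category.assoc, pullback.lift_fst, hT.isoPullback_hom_fst_assoc, pullback.lift_fst]
        · rw [Category.assoc, pullback.lift_snd, Category.comp_id, hT.isoPullback_hom_snd, pullback.lift_snd]
      rw [reassoc_of% hm, ← cancel_mono U.ι, Category.assoc, hfi]
      simp only [hu, Category.assoc, hk]
      rw [reassoc_of% hχ.symm]
      show Spec.map _ ≫ Spec.map _ = Spec.map _ ≫ Spec.map _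
      rw [← Spec.map_comp, ← Spec.map_comp]
      congr 1
      ext c
      exact hφ c
  choose fi hfi hfi' using hloc
  have hcompat : ∀ i i', pullback.fst (𝒱.f i) (𝒱.f i') ≫ fi i = pullback.snd (𝒱.f i) (𝒱.f i') ≫ fi i' := by
    intro i i'
    let P := pullback (𝒱.f i) (𝒱.f i')
    let q := pullback.fst (𝒱.f i) (𝒱.f i') ≫ 𝒱.f i ≫ Y.hom
    let P' : Over (Spec (CommRingCat.of R)) := Over.mk q
    haveI : Flat P'.hom := inferInstanceAs (Flat (pullback.fst (𝒱.f i) (𝒱.f i') ≫ 𝒱.f i ≫ Y.hom))
    let g₁ : P' ⟶ N := Over.homMk (pullback.fst (𝒱.f i) (𝒱.f i') ≫ fi i) (by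
      show (pullback.fst (𝒱.f i) (𝒱.f i') ≫ fi i) ≫ U.ι ≫ p = q
      rw [Category.assoc, hfi])
    let g₂ : P' ⟶ N := Over.homMk (pullback.snd (𝒱.f i) (𝒱.f i') ≫ fi i') (by
      show (pullback.snd (𝒱.f i) (𝒱.f i') ≫ fi i') ≫ U.ι ≫ p = q
      rw [Category.assoc, hfi, ← pullback.condition_assoc])
    have key : ∀ (l : 𝒱.I₀) (v : P ⟶ 𝒱.X l) (hv : v ≫ 𝒱.f l = pullback.fst (𝒱.f i) (𝒱.f i') ≫ 𝒱.f i),
        pullback.fst q gK ≫ v ≫ fi l = pullback.map q gK Y.hom gK (pullback.fst (𝒱.f i) (𝒱.f i') ≫ 𝒱.f i) (𝟙 _) (𝟙 _)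
          (by simp [q]) (by simp) ≫ hu := fun l v hv => by
      let M := pullback.map q gK (𝒱.f l ≫ Y.hom) gK v (𝟙 _) (𝟙 _) (by simp [q, reassoc_of% hv]) (by simp)
      have e1 : pullback.fst q gK ≫ v = M ≫ pullback.fst (𝒱.f l ≫ Y.hom) gK := (pullback.lift_fst _ _ _).symm
      rw [← Category.assoc (pullback.fst q gK) v, e1, Category.assoc, hfi', ← Category.assoc]
      congr 1
      apply pullback.hom_ext
      · simp only [M, Fi, Category.assoc, pullback.lift_fst, pullback.lift_fst_assoc, hv]
      · simp only [M, Fi, Category.assoc, pullback.lift_snd, pullback.lift_snd_assoc, Category.comp_id]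
    have := Groth.Agent.S18498.result R P' N g₁ g₂ (by
      ext1
      apply pullback.hom_ext
      · refine (pullback.lift_fst _ _ _).trans (Eq.trans ?_ (pullback.lift_fst _ _ _).symm)
        show pullback.fst q gK ≫ pullback.fst (𝒱.f i) (𝒱.f i') ≫ fi i = pullback.fst q gK ≫ pullback.snd (𝒱.f i) (𝒱.f i') ≫ fi i'
        exact (key i _ rfl).trans (key i' _ pullback.condition.symm).symm
      · exact (Over.w ((Neron.genericFibre R).map g₁)).trans (Over.w ((Neron.genericFibre R).map g₂)).symm)
    exact congrArg CommaMorphism.left this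
  let f := 𝒱.glueMorphisms fi hcompat
  have hf : ∀ i, 𝒱.f i ≫ f = fi i := fun i => 𝒱.ι_glueMorphisms fi hcompat i
  let g : Y ⟶ N := Over.homMk f (𝒱.hom_ext _ _ fun i => by
    show 𝒱.f i ≫ f ≫ U.ι ≫ p = _
    rw [reassoc_of% hf i, hfi])
  refine ⟨g, ?_⟩
  rw [← cancel_mono e.inv, Category.assoc, Iso.hom_inv_id, Category.comp_id]
  ext1
  apply pullback.hom_ext
  · refine (pullback.lift_fst _ _ _).trans ?_
    show pullback.fst Y.hom gK ≫ f = (h.left ≫ sq.isoPullback.hom) ≫ pullback.fst _ _
    rw [Category.assoc, sq.isoPullback_hom_fst]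
    refine (Scheme.Pullback.openCoverOfLeft 𝒱 Y.hom gK).hom_ext _ _ fun i => ?_
    show Fi i ≫ pullback.fst Y.hom gK ≫ f = Fi i ≫ hu
    rw [← hfi', pullback.lift_fst_assoc, Category.assoc, hf]
  · exact (Over.w ((Neron.genericFibre R).map g)).trans (Over.w (h ≫ e.inv)).symm

end Groth.Agent.S18497
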