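import Groth.Statements.S1850
import Groth.Agent.CycGlue.TameFlatMain
-- import your own Groth.Agent.* helpers here

set_option autoImplicit false
universe u
open CycAlg

namespace Groth.Agent.S1850

/-- Let A → A' be a flat local homomorphism of Noetherian local rings of dimension 1 and m =
length_{A'}(A'/𝔪_A A'). For nonzerodivisors a₁, a₂ of A the image of ∂_A(a₁, a₂)^m in the residue
field of A' equals ∂_{A'}(a₁, a₂). -/
theorem result (A A' : Type u) [CommRing A] [CommRing A'] [IsNoetherianRing A] [IsNoetherianRing A'] [IsLocalRing A] [IsLocalRing A'] [Algebra A A'] [IsLocalHom (algebraMap A A')] [Module.Flat A A'] (hA : ringKrullDim A = 1) (hA' : ringKrullDim A' = 1) (a₁ a₂ : A) (h₁ : a₁ ∈ nonZeroDivisors A) (h₂ : a₂ ∈ nonZeroDivisors A) : IsLocalRing.ResidueField.map (algebraMap A A') (CycAlg.tameSymbol A a₁ a₂) ^ (Module.length A' (A' ⧸ Ideal.map (algebraMap A A') (IsLocalRing.maximalIdeal A))).toNat = CycAlg.tameSymbol A' (algebraMap A A' a₁) (algebraMap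 A A' a₂) := by
  have hA1 : Ring.KrullDimLE 1 A := Ring.krullDimLE_iff.mpr hA.le
  have hA1' : Ring.KrullDimLE 1 A' := Ring.krullDimLE_iff.mpr hA'.le
  by_cases hu : IsUnit a₁ ∧ IsUnit a₂
  · rw [Groth.Agent.CycGlue.Tame.tameSymbol_of_isUnit hA1 hu.1 hu.2,
      Groth.Agent.CycGlue.Tame.tameSymbol_of_isUnit hA1' (hu.1.map _) (hu.2.map _), map_one, one_pow]
  obtain ⟨d, hd, hdm⟩ : ∃ d, d ∈ nonZeroDivisors A ∧ d ∈ IsLocalRing.maximalIdeal A := by
    rw [not_and_or] at hu
    rcases hu with h | h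
    exacts [⟨a₁, h₁, h⟩, ⟨a₂, h₂, h⟩]
  refine Groth.Agent.CycGlue.Tame.tameSymbol_flat hA1 hA1' h₁ h₂ ?_
  have hd' : algebraMap A A' d ∈ nonZeroDivisors A' := Groth.Agent.CycGlue.Tame.nzd_of_flat hd
  have hle : Ideal.span {algebraMap A A' d} ≤ (IsLocalRing.maximalIdeal A).map (algebraMap A A') :=
    (Ideal.span_singleton_le_iff_mem _).mpr (Ideal.mem_map_of_mem _ hdm)
  exact ne_top_of_le_ne_top (Groth.Agent.CycGlue.Factor.length_quotient_span_ne_top hA1' hd')
    (Module.length_le_of_surjective (Submodule.factor hle) (Submodule.factor_surjective hle))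

end Groth.Agent.S1850
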