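import Groth.Statements.S18500
import Groth.Agent.AlgSp.SchImageRep
import Groth.Agent.AlgSp.ClosedSub
import Groth.Agent.AlgSpCov.LocPBasic
import Groth.Agent.AlgSpCov.AffineDescent
import Groth.Agent.AlgSpEN.GenClosure

set_option autoImplicit false
set_option backward.isDefEq.respectTransparency false
set_option backward.isDefEq.respectTransparency.types false
set_option maxHeartbeats 1000000
universe u
open CategoryTheory CategoryTheory.Limits AlgebraicGeometry
open AlgSp

namespace Groth.Agent.S18500

/-- Let R be a Dedekind domain with fraction field K, S = Spec R, and Y an algebraic space over S (an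
fppf sheaf on S-schemes with representable diagonal and an étale atlas), with structure map p : Y →
h_S; let Y_K → Y be its generic fibre, the pullback of p along h_{Spec K} → h_S; let k : H → Y_K be
a closed subspace (a representable closed immersion from an algebraic space) and i : Z → Y the
scheme theoretic image of the composite H → Y_K → Y. Then Z is flat over S (étale-locally on
charts), the square H → Z, H → Y_K, Z → Y, Y_K → Y is cartesian for the induced H → Z (the generic
fibre of Z is H), and Z is the unique such subspace: every closed subspace i' : Z' → Y which is flat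
over S and whose pullback along Y_K → Y is H (through some H → Z') is isomorphic to Z over Y. (The
source allows any connected Dedekind scheme as base; the affine base is stated.) -/
theorem result (R : Type u) [CommRing R] [IsDedekindDomain R]
    (Y YK H Z : AlgSp.Space (Spec (CommRingCat.of R)))
    (pY : Y.obj ⟶ (AlgSp.yon (Spec (CommRingCat.of R))).obj (Over.mk (𝟙 (Spec (CommRingCat.of R)))))
    (pr : YK ⟶ Y) (qK : YK.obj ⟶ (AlgSp.yon (Spec (CommRingCat.of R))).obj (Over.mk (Neron.genPt R)))
    (hYK : IsPullback pr.hom qK pY ((AlgSp.yon (Spec (CommRingCat.of R))).map (Over.mkIdTerminal.from (Over.mk (Neron.genPt R)))))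
    (k : H ⟶ YK) (hk : AlgSp.RepWith @IsClosedImmersion k.hom)
    (i : Z ⟶ Y) (hZ : AlgSp.IsSchImage (k.hom ≫ pr.hom) i.hom) :
    AlgSp.LocP @Flat (i.hom ≫ pY) ∧
    (∃ m : H ⟶ Z, m ≫ i = k ≫ pr ∧ IsPullback m.hom k.hom i.hom pr.hom) ∧
    (∀ (Z' : AlgSp.Space (Spec (CommRingCat.of R))) (i' : Z' ⟶ Y) (m' : H ⟶ Z'),
      AlgSp.RepWith @IsClosedImmersion i'.hom → AlgSp.LocP @Flat (i'.hom ≫ pY) →
      IsPullback m'.hom k.hom i'.hom pr.hom → ∃ e : Z ≅ Z', e.hom ≫ i' = i) := by
  let φK : Over.mk (Neron.genPt R) ⟶ Over.mk (𝟙 (Spec (CommRingCat.of R))) :=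
    Over.mkIdTerminal.from (Over.mk (Neron.genPt R))
  have hφK : φK.left = Neron.genPt R := (Category.comp_id _).symm.trans (Over.w φK)
  obtain ⟨U, p, hpe, hps⟩ := Y.property.atlas
  obtain ⟨gU, hgU⟩ := (AlgSp.yon (Spec (CommRingCat.of R))).map_surjective (p ≫ pY)
  have hgUl : gU.left = U.hom := (Category.comp_id _).symm.trans (Over.w gU)
  -- the generic fibre of the atlas
  have sqW0 := IsPullback.of_hasPullback gU φK
  have sqK : IsPullback (pullback.fst gU φK).left (pullback.snd gU φK).left U.hom (Neron.genPt R) := by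
    have h0 := sqW0.map (Over.forget _)
    change IsPullback (pullback.fst gU φK).left (pullback.snd gU φK).left gU.left φK.left at h0
    rwa [hgUl, hφK] at h0
  have sqW := sqW0.map (AlgSp.yon (Spec (CommRingCat.of R)))
  rw [hgU] at sqW
  obtain ⟨l, hlpr, hlq⟩ := hYK.exists_lift ((AlgSp.yon _).map (pullback.fst gU φK) ≫ p)
    ((AlgSp.yon _).map (pullback.snd gU φK)) (by rw [Category.assoc]; exact sqW.w)
  have sql : IsPullback l ((AlgSp.yon _).map (pullback.fst gU φK)) pr.hom p :=
    IsPullback.of_right (h₁₂ := qK) (by rw [hlq]; exact sqW.flip) hlpr hYK.flip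
  have hle : AlgSp.RepWith @Etale l := MorphismProperty.of_isPullback sql.flip hpe
  have hls : AlgSp.RepWith @Surjective l := MorphismProperty.of_isPullback sql.flip hps
  have : QuasiCompact (Neron.genPt R) := inferInstanceAs (QuasiCompact (Spec.map _))
  have : QuasiCompact (pullback.fst gU φK).left := MorphismProperty.of_isPullback sqK.flip inferInstance
  -- the closed subspace on the generic fibre of the atlas
  obtain ⟨J, fH, sqH⟩ := Groth.Agent.AlgSp.CartierDesc.exists_ideal hk l
  let W := pullback gU φK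
  let cJ := Groth.Agent.AlgSp.CartierDesc.subι W J
  have sqHp : IsPullback fH ((AlgSp.yon _).map (cJ ≫ pullback.fst gU φK)) (k.hom ≫ pr.hom) p := by
    rw [Functor.map_comp]
    exact sqH.paste_vert sql
  obtain ⟨I, fZ, sqI⟩ := Groth.Agent.AlgSp.CartierDesc.exists_ideal hZ.1 p
  have : IsClosedImmersion cJ.left := inferInstanceAs (IsClosedImmersion J.subschemeι)
  have : QuasiCompact (cJ ≫ pullback.fst gU φK).left := by rw [Over.comp_left]; infer_instance
  have hI : I = (cJ.left ≫ (pullback.fst gU φK).left).ker :=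
    Groth.Agent.AlgSp.SchImageRep.ideal_eq_ker_rep H.property Y.property hpe hps sqHp sqI hZ
  have hJ : cJ.left.ker = J := J.ker_subschemeι
  refine ⟨?_, ?_, ?_⟩
  · refine Groth.Agent.AlgSpCov.locP_of_one_chart (P := @Flat) Groth.Agent.AlgSpCov.etaleLocal_flat
      (fun _ _ e he => have := he; inferInstance) (IsAlgSpace.yon_obj _)
      (a := fZ) (b := 𝟙 _) (h := Groth.Agent.AlgSp.CartierDesc.subι U I ≫ gU)
      (MorphismProperty.of_isPullback sqI.flip hpe) (MorphismProperty.of_isPullback sqI.flip hps)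
      (AlgSp.repWith_id _ _) ?_ ?_
    · rw [reassoc_of% sqI.w, Functor.map_comp, hgU, Category.comp_id]
    · change Flat (I.subschemeι ≫ gU.left)
      rw [hgUl, hI]
      refine Groth.Agent.AlgSpEN.GenClosure.flat_imageι (cJ.left ≫ (pullback.fst gU φK).left) U.hom
        (cJ.left ≫ (pullback.snd gU φK).left) ?_
      rw [Category.assoc, sqK.w, Category.assoc]
  · obtain ⟨m, hm⟩ := hZ.2.1
    have sqQ := IsPullback.of_hasPullback i.hom pr.hom
    have hQ : AlgSp.RepWith @IsClosedImmersion (pullback.snd i.hom pr.hom) :=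
      MorphismProperty.of_isPullback sqQ hZ.1
    obtain ⟨JQ, fQ, sqJQ⟩ := Groth.Agent.AlgSp.CartierDesc.exists_ideal hQ l
    have sqJQ' := sqJQ.paste_horiz sqQ
    rw [hlpr] at sqJQ'
    have hJQ : JQ = J := by
      rw [← Groth.Agent.AlgSp.CartierDesc.comap_eq (pullback.fst gU φK) sqI sqJQ', hI,
        Groth.Agent.AlgSpEN.GenClosure.ker_comp_comap sqK cJ.left, hJ]
    obtain ⟨e, he⟩ := (Groth.Agent.AlgSp.ClosedSub.exists_le_iff hQ hle hls sqH sqJQ).2 hJQ.le
    obtain ⟨e', he'⟩ := (Groth.Agent.AlgSp.ClosedSub.exists_le_iff hk hle hls sqJQ sqH).2 hJQ.ge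
    have := Groth.Agent.AlgSpB.mono_of_isClosedImmersion hk
    have := Groth.Agent.AlgSpB.mono_of_isClosedImmersion hQ
    have := Groth.Agent.AlgSpB.mono_of_isClosedImmersion hZ.1
    let E : H.obj ≅ pullback i.hom pr.hom :=
      ⟨e, e', by rw [← cancel_mono k.hom, Category.assoc, he', he, Category.id_comp],
        by rw [← cancel_mono (pullback.snd i.hom pr.hom), Category.assoc, he, he', Category.id_comp]⟩
    refine ⟨ObjectProperty.homMk m, ObjectProperty.hom_ext _ hm, ?_⟩
    refine sqQ.of_iso E.symm (Iso.refl _) (Iso.refl _) (Iso.refl _) ?_ ?_ (by simp) (by simp)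
    · rw [Iso.symm_hom, Iso.eq_inv_comp, Iso.refl_hom, Category.comp_id, ← cancel_mono i.hom]
      change (e ≫ pullback.fst i.hom pr.hom) ≫ i.hom = m ≫ i.hom
      rw [Category.assoc, sqQ.w, reassoc_of% he, hm]
    · simp only [Iso.refl_hom, Category.comp_id]
      rw [Iso.symm_hom, Iso.eq_inv_comp]
      exact he
  · intro Z' i' m' hi' hflat sq'
    obtain ⟨I', fZ', sqI'⟩ := Groth.Agent.AlgSp.CartierDesc.exists_ideal hi' p
    have sqH' := sqH.paste_horiz sq'
    rw [hlpr] at sqH'
    have hcomap := Groth.Agent.AlgSp.CartierDesc.comap_eq (pullback.fst gU φK) sqI' sqH'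
    have : Flat (I'.subschemeι ≫ U.hom) := by
      have := hflat fZ' (𝟙 _) (Groth.Agent.AlgSp.CartierDesc.subι U I' ≫ gU)
        (MorphismProperty.of_isPullback sqI'.flip hpe) (AlgSp.repWith_id _ _)
        (by rw [reassoc_of% sqI'.w, Functor.map_comp, hgU, Category.comp_id])
      rw [← hgUl]
      exact this
    have hII : I' = I := by
      rw [hI]
      exact Groth.Agent.AlgSpEN.GenClosure.eq_ker_of_flat sqK cJ.left I' (by rw [hJ]; exact hcomap)
    obtain ⟨e, he⟩ := (Groth.Agent.AlgSp.ClosedSub.exists_le_iff hi' hpe hps sqI sqI').2 hII.le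
    obtain ⟨e', he'⟩ := (Groth.Agent.AlgSp.ClosedSub.exists_le_iff hZ.1 hpe hps sqI' sqI).2 hII.ge
    have := Groth.Agent.AlgSpB.mono_of_isClosedImmersion hi'
    have := Groth.Agent.AlgSpB.mono_of_isClosedImmersion hZ.1
    exact ⟨(ObjectProperty.fullyFaithfulι _).preimageIso
      ⟨e, e', by rw [← cancel_mono i.hom, Category.assoc, he', he, Category.id_comp],
        by rw [← cancel_mono i'.hom, Category.assoc, he, he', Category.id_comp]⟩, ObjectProperty.hom_ext _ he⟩

end Groth.Agent.S18500
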