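import Groth.Statements.S18501
import Groth.Agent.S18489
import Groth.Agent.GrpScheme.IdSubgroup
import Groth.Agent.GrpScheme.ClosedImage

set_option autoImplicit false
set_option backward.isDefEq.respectTransparency false
set_option backward.isDefEq.respectTransparency.types false
set_option linter.style.haveILetI false
universe u
open CategoryTheory CategoryTheory.Limits AlgebraicGeometry MonObj
open Neron

namespace Groth.Agent.S18501

open CategoryTheory CategoryTheory.Limits AlgebraicGeometry in
/-- A preimmersion of a field point factors the residue field point. -/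
theorem exists_factor {K : Type u} [Field K] {S : Scheme.{u}} (t : Spec (CommRingCat.of K) ⟶ S)
    [IsPreimmersion t] :
    ∃ g : Spec (S.residueField (t (IsLocalRing.closedPoint K))) ⟶ Spec (CommRingCat.of K),
      g ≫ t = S.fromSpecResidueField (t (IsLocalRing.closedPoint K)) := by
  let pt : Spec (CommRingCat.of K) := IsLocalRing.closedPoint K
  haveI : IsIso (t.residueFieldMap pt) := by
    rw [ConcreteCategory.isIso_iff_bijective]
    refine ⟨RingHom.injective _, fun z => ?_⟩
    obtain ⟨z, rfl⟩ := (Spec (CommRingCat.of K)).residue_surjective pt z
    obtain ⟨w, rfl⟩ := t.stalkMap_surjective pt z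
    exact ⟨S.residue _ w, congr($(Scheme.residue_residueFieldMap t pt).hom w)⟩
  refine ⟨inv (Spec.map (t.residueFieldMap pt)) ≫ (Spec (CommRingCat.of K)).fromSpecResidueField pt, ?_⟩
  rw [Category.assoc, IsIso.inv_comp_eq, Scheme.Hom.SpecMap_residueFieldMap_fromSpecResidueField]

open CategoryTheory CategoryTheory.Limits MonoidalCategory CartesianMonoidalCategory MonObj AlgebraicGeometry in
/-- A flat homomorphism carries the identity component onto the identity component. -/
theorem image_connectedComponent {K : Type u} [Field K] {G H : Over (Spec (CommRingCat.of K))} [GrpObj G] [GrpObj H]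
    [LocallyOfFiniteType G.hom] [LocallyOfFiniteType H.hom] (f : G ⟶ H) [IsMonHom f] [Flat f.left] :
    f.left '' connectedComponent (Groth.Agent.GrpScheme.IdComponent.e₀ G) =
      connectedComponent (Groth.Agent.GrpScheme.IdComponent.e₀ H) := by
  have he : f.left (Groth.Agent.GrpScheme.IdComponent.e₀ G) = Groth.Agent.GrpScheme.IdComponent.e₀ H := by
    show f.left (η[G].left (IsLocalRing.closedPoint K)) = η[H].left (IsLocalRing.closedPoint K)
    rw [← Scheme.Hom.comp_apply, ← Over.comp_left, IsMonHom.one_hom]
  let i := Groth.Agent.GrpScheme.IdSubgroup.incl G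
  let h := i ≫ f
  haveI : LocallyOfFiniteType (Groth.Agent.GrpScheme.IdSubgroup.G₀ G).hom := by
    rw [← Over.w i]; infer_instance
  haveI : Flat h.left := inferInstanceAs (Flat (i.left ≫ f.left))
  haveI := Groth.Agent.GrpScheme.IdSubgroup.compactSpace_G₀ G
  haveI : IsSeparated H.hom := Groth.Agent.GrpScheme.IdComponent.isSeparated H
  haveI : QuasiCompact (h.left ≫ H.hom) := by
    rw [Over.w h]
    exact (quasiCompact_iff_compactSpace _).mpr inferInstance
  haveI : QuasiCompact h.left := QuasiCompact.of_comp h.left H.hom
  haveI := Groth.Agent.GrpdLib.GrpOver.lfp_left h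
  have hr : Set.range h.left = f.left '' connectedComponent (Groth.Agent.GrpScheme.IdComponent.e₀ G) := by
    rw [← Groth.Agent.GrpScheme.IdSubgroup.range_incl G, ← Set.range_comp]
    rfl
  refine Set.Subset.antisymm ?_ ?_
  · rw [← he]
    exact f.left.continuous.image_connectedComponent_subset _
  · rw [← hr]
    refine IsClopen.connectedComponent_subset
      ⟨Groth.Agent.GrpScheme.ClosedImage.isClosed_range h, h.left.isOpenMap.isOpen_range⟩ ?_
    rw [hr]
    exact ⟨_, mem_connectedComponent, he⟩

open CategoryTheory CategoryTheory.Limits MonoidalCategory CartesianMonoidalCategory MonObj AlgebraicGeometry in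
/-- A homomorphism to a reduced group which carries the identity component onto the identity component is flat. -/
theorem flat_of_image_connectedComponent {K : Type u} [Field K] {G H : Over (Spec (CommRingCat.of K))}
    [GrpObj G] [GrpObj H] (f : G ⟶ H) [IsMonHom f] [IsReduced H.left]
    (h : f.left '' connectedComponent (Groth.Agent.GrpScheme.IdComponent.e₀ G) =
      connectedComponent (Groth.Agent.GrpScheme.IdComponent.e₀ H)) : Flat f.left := by
  obtain ⟨d, hd⟩ := QuasiSober.sober
    (isIrreducible_irreducibleComponent (x := Groth.Agent.GrpScheme.IdComponent.e₀ H))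
    isClosed_irreducibleComponent
  have hdmax : Groth.Agent.GrpScheme.Component.IsMaxGen d := Groth.Agent.GrpScheme.Component.isMaxGen_iff.mpr
    (hd.def.symm ▸ irreducibleComponent_mem_irreducibleComponents _)
  have hmem : d ∈ connectedComponent (Groth.Agent.GrpScheme.IdComponent.e₀ H) :=
    irreducibleComponent_subset_connectedComponent hd.mem
  rw [← h] at hmem
  obtain ⟨z, -, rfl⟩ := hmem
  exact Groth.Agent.GrpScheme.HomFlat.flat_of_isMaxGen f hdmax

/-- Let R be a discrete valuation ring with fraction field K and residue field k, let A and B be group
schemes over Spec R which are Néron models of their generic fibres, both abelian varieties over K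
(proper and geometrically integral), and let φ : A → B be a homomorphism whose generic fibre is an
isogeny (surjective with finite kernel). Then φ is flat if and only if the special fibre φ_k : A_k →
B_k maps the connected component of the identity point of A_k onto the connected component of the
identity point of B_k, i.e. the image of the former subset is the latter (φ induces a surjection of
identity components; on the generic fibre this is automatic). (The published lemma is over a
connected Dedekind scheme, with this condition at every point, and includes a further equivalent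
condition, quasi-finiteness of φ; the case of a discrete valuation ring is stated here, where only
the closed point matters.) -/
theorem result (R : Type u) [CommRing R]
    [IsDomain R] [IsDiscreteValuationRing R] (A B : Over (Spec (CommRingCat.of R))) [GrpObj A] [GrpObj B]
    (hA : Neron.IsNeronModelOf R A ((Neron.genericFibre R).obj A) (Iso.refl _))
    (hB : Neron.IsNeronModelOf R B ((Neron.genericFibre R).obj B) (Iso.refl _))
    [IsProper ((Neron.genericFibre R).obj A).hom] [GeometricallyIntegral ((Neron.genericFibre R).obj A).hom]
    [IsProper ((Neron.genericFibre R).obj B).hom] [GeometricallyIntegral ((Neron.genericFibre R).obj B).hom]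
    (φ : A ⟶ B) [IsMonHom φ] (hφ : SGA7.IsIsogenyOver ((Neron.genericFibre R).map φ)) :
    Flat φ.left ↔
      ((Over.pullback (Spec.map (CommRingCat.ofHom (IsLocalRing.residue R)))).map φ).left.base ''
          connectedComponent ((η[Red.bc (Spec.map (CommRingCat.ofHom (IsLocalRing.residue R))) A]).left.base (IsLocalRing.closedPoint (IsLocalRing.ResidueField R))) =
        connectedComponent ((η[Red.bc (Spec.map (CommRingCat.ofHom (IsLocalRing.residue R))) B]).left.base (IsLocalRing.closedPoint (IsLocalRing.ResidueField R))) := by
  obtain ⟨hAs, hAsep, hAft, hAqc, -⟩ := hA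
  obtain ⟨hBs, hBsep, hBft, hBqc, -⟩ := hB
  let t : Spec (CommRingCat.of (IsLocalRing.ResidueField R)) ⟶ Spec (CommRingCat.of R) :=
    Spec.map (CommRingCat.ofHom (IsLocalRing.residue R))
  let fk := (Over.pullback t).map φ
  let : GrpObj (Red.bc t A) := Red.grpObj_bc t A
  let : GrpObj (Red.bc t B) := Red.grpObj_bc t B
  haveI : LocallyOfFiniteType (Red.bc t A).hom := inferInstanceAs (LocallyOfFiniteType (pullback.snd A.hom t))
  haveI : LocallyOfFiniteType (Red.bc t B).hom := inferInstanceAs (LocallyOfFiniteType (pullback.snd B.hom t))
  constructor
  · intro hflat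
    haveI : Flat fk.left := by
      have hsq : IsPullback (pullback.fst A.hom t) fk.left φ.left (pullback.fst B.hom t) := by
        refine IsPullback.of_bot ?_ (by simp [fk]) (IsPullback.of_hasPullback B.hom t)
        have e : fk.left ≫ pullback.snd B.hom t = pullback.snd A.hom t := by simp [fk]
        rw [e, Over.w φ]
        exact IsPullback.of_hasPullback A.hom t
      exact MorphismProperty.of_isPullback (P := @Flat) hsq hflat
    exact image_connectedComponent fk
  · intro himg
    haveI : Smooth (Red.bc t B).hom := inferInstanceAs (Smooth (pullback.snd B.hom t))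
    haveI : IsReduced (Red.bc t B).left :=
      Groth.Agent.GrpScheme.HomFlat.isReduced_of_smooth (K := IsLocalRing.ResidueField R) (Red.bc t B).hom
    have hkflat : Flat fk.left := flat_of_image_connectedComponent fk himg
    let : GrpObj ((Neron.genericFibre R).obj A) := Functor.grpObjObj
    let : GrpObj ((Neron.genericFibre R).obj B) := Functor.grpObjObj
    haveI : Smooth ((Neron.genericFibre R).obj B).hom :=
      inferInstanceAs (Smooth (pullback.snd B.hom (Neron.genPt R)))
    haveI : IsReduced ((Neron.genericFibre R).obj B).left :=
      Groth.Agent.GrpScheme.HomFlat.isReduced_of_smooth (K := FractionRing R) ((Neron.genericFibre R).obj B).hom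
    haveI : Surjective ((Neron.genericFibre R).map φ).left := hφ.1
    have hKflat : Flat ((Neron.genericFibre R).map φ).left :=
      Groth.Agent.GrpScheme.HomFlat.flat_of_surjective (K := FractionRing R) ((Neron.genericFibre R).map φ)
    haveI : LocallyOfFinitePresentation (φ.left ≫ B.hom) := by rw [Over.w φ]; infer_instance
    haveI : Flat (φ.left ≫ B.hom) := by rw [Over.w φ]; infer_instance
    refine Groth.Agent.GrpScheme.FibreFlat.flat_of_fibres φ.left B.hom fun s => ?_
    rw [Groth.Agent.GrpScheme.FibreFlat.fiberMap_mem_iff @Flat,
      ← Groth.Agent.GrpScheme.FibreFlat.pullback_map_mem_iff φ s @Flat]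
    haveI : IsPreimmersion t := by
      haveI : IsClosedImmersion t := IsClosedImmersion.spec_of_surjective _ IsLocalRing.residue_surjective
      infer_instance
    haveI : IsPreimmersion (Neron.genPt R) :=
      IsPreimmersion.of_isLocalization (R := R) (S := FractionRing R) (nonZeroDivisors R)
    have hcases : s = Neron.genPt R (IsLocalRing.closedPoint (FractionRing R)) ∨
        s = t (IsLocalRing.closedPoint (IsLocalRing.ResidueField R)) := by
      by_cases hs : s.asIdeal = ⊥
      · left
        refine PrimeSpectrum.ext ?_
        rw [hs]
        show ⊥ = (IsLocalRing.maximalIdeal (FractionRing R)).comap (algebraMap R (FractionRing R))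
        rw [IsLocalRing.isField_iff_maximalIdeal_eq.mp (Field.toIsField _),
          Ideal.comap_bot_of_injective _ (IsFractionRing.injective R (FractionRing R))]
      · right
        refine PrimeSpectrum.ext ?_
        rw [IsLocalRing.eq_maximalIdeal (s.isPrime.isMaximal hs)]
        show _ = (IsLocalRing.maximalIdeal (IsLocalRing.ResidueField R)).comap (IsLocalRing.residue R)
        rw [IsLocalRing.isField_iff_maximalIdeal_eq.mp (Field.toIsField _)]
        exact (IsLocalRing.ker_residue (R := R)).symm
    rcases hcases with rfl | rfl
    · obtain ⟨g, hg⟩ := exists_factor (Neron.genPt R)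
      exact Groth.Agent.S18489.mem_of_factor @Flat _ _ g hg φ hKflat
    · obtain ⟨g, hg⟩ := exists_factor t
      exact Groth.Agent.S18489.mem_of_factor @Flat _ _ g hg φ hkflat

end Groth.Agent.S18501
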