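import Groth.Statements.S18505
import Groth.Agent.NormGen.Basic
import Mathlib.AlgebraicGeometry.Morphisms.Flat
-- import your own Groth.Agent.* helpers here

set_option autoImplicit false
universe u
open CategoryTheory MonoidalCategory CartesianMonoidalCategory MonObj GrpObj AlgebraicGeometry Topology
open EqInt

namespace Groth.Agent.S18505

theorem eq_zero_of_flat_mul {Z X : Scheme.{u}} (f : Z ⟶ X) [Flat f] [IsIntegral X] (V : X.Opens)
    (b : Γ(X, V)) (hb : b ≠ 0) (W : Z.Opens) (e : W ≤ f ⁻¹ᵁ V) (d : Γ(Z, W))
    (h : f.appLE V W e b * d = 0) : d = 0 := by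
  refine TopCat.Presheaf.section_ext Z.sheaf W d 0 fun z hz => ?_
  change Z.presheaf.germ W z hz d = Z.presheaf.germ W z hz 0
  rw [map_zero]
  letI := (f.stalkMap z).hom.toAlgebra
  haveI : Module.Flat (X.presheaf.stalk (f z)) (Z.presheaf.stalk z) := Flat.stalkMap f z
  have hb0 : X.presheaf.germ V (f z) (e hz) b ≠ 0 := fun h0 =>
    hb (germ_injective_of_isIntegral X (f z) (e hz) (h0.trans (map_zero _).symm))
  have hr : IsSMulRegular (X.presheaf.stalk (f z)) (X.presheaf.germ V (f z) (e hz) b) :=
    fun u v huv => mul_left_cancel₀ hb0 huv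
  have hr' := IsSMulRegular.of_flat (S := Z.presheaf.stalk z) hr
  apply hr'
  change f.stalkMap z (X.presheaf.germ V (f z) (e hz) b) * _ = f.stalkMap z _ * 0
  rw [Scheme.Hom.germ_stalkMap_apply, mul_zero]
  have := congrArg (Z.presheaf.germ W z hz) h
  rw [map_mul, map_zero, Scheme.Hom.appLE] at this
  simpa using this

/-- Over an algebraically closed field k of characteristic zero, let an affine group scheme G of finite
type act on a normal variety X (integral, separated, of finite type over k, with integrally closed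
local rings) and let (Y, φ) be a geometric quotient of X by G with Y separated of finite type over
k. Then Y is normal. (The other two conditions of the published criterion are immediate from the
definition of a geometric quotient, and its converse rests on a result quoted there without proof;
only this implication is stated. A geometric quotient is taken here with φ universally submersive.) -/
theorem result (k : Type u) [Field k] [IsAlgClosed k] [CharZero k]
    (G X Y : Over (Spec (CommRingCat.of k))) [GrpObj G] [IsAffine G.left] [LocallyOfFiniteType G.hom]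
    [LocallyOfFiniteType X.hom] [QuasiCompact X.hom] [IsSeparated X.hom] [IsIntegral X.left]
    (hX : Pi1.IsNormalScheme X.left)
    [LocallyOfFiniteType Y.hom] [QuasiCompact Y.hom] [IsSeparated Y.hom]
    (a : AlgGrp.Action G X) (φ : X ⟶ Y) (h : GIT.IsGeomQuot a φ) :
    Pi1.IsNormalScheme Y.left := by
  intro y
  haveI : Flat (snd G X).left := by
    haveI : Flat G.hom := inferInstance
    exact MorphismProperty.pullback_snd (P := @Flat) G.hom X.hom inferInstance
  obtain ⟨_, ⟨U, hU, rfl⟩, hyU, -⟩ :=
    Y.left.isBasis_affineOpens.exists_subset_of_mem_open (Set.mem_univ y) isOpen_univ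
  replace hU : IsAffineOpen U := hU
  let V := φ.left ⁻¹ᵁ U
  haveI : Nonempty V := by
    obtain ⟨x, hx⟩ := h.surj y
    exact ⟨⟨x, show φ.left x ∈ U from (show φ.left x = y from hx).symm ▸ hyU⟩⟩
  haveI : IsIntegrallyClosed Γ(X.left, V) :=
    NormGen.Basic.isIntegrallyClosed_sections (fun x => (hX x).2) V
  obtain ⟨hinj, hrange⟩ := h.sections U
  let g : Γ(Y.left, U) →+* Γ(X.left, V) := (φ.left.app U).hom
  haveI : IsDomain Γ(Y.left, U) := hinj.isDomain g
  haveI : IsIntegrallyClosed Γ(Y.left, U) := by
    rw [isIntegrallyClosed_iff (FractionRing Γ(Y.left, U))]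
    intro z hz
    obtain ⟨a₀, b₀, hb₀, rfl⟩ := IsFractionRing.div_surjective (A := Γ(Y.left, U)) z
    have hb₀' : b₀ ≠ 0 := nonZeroDivisors.ne_zero hb₀
    obtain ⟨c, hc⟩ := NormalSec.exists_mul_eq_of_isIntegral_div (FractionRing Γ(X.left, V)) g hinj
      a₀ b₀ hb₀' hz
    have hinv : ∀ r, GIT.IsInvSection a φ U (g r) := fun r =>
      (Set.ext_iff.mp hrange (g r)).mp ⟨r, rfl⟩
    have hcinv : GIT.IsInvSection a φ U c := by
      have hb := hinv b₀
      have ha := hinv a₀
      unfold GIT.IsInvSection at hb ha ⊢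
      rw [← sub_eq_zero]
      refine eq_zero_of_flat_mul (snd G X).left V (g b₀) ?_ _ inf_le_right _ ?_
      · exact fun h0 => hb₀' (hinj (h0.trans (map_zero g).symm))
      · rw [mul_sub, sub_eq_zero]
        conv_lhs => rw [← hb, ← map_mul, hc]
        conv_rhs => rw [← map_mul, hc]
        exact ha
    obtain ⟨d, hd⟩ := (Set.ext_iff.mp hrange c).mpr hcinv
    refine ⟨d, ?_⟩
    have hba : b₀ * d = a₀ := hinj (by rw [map_mul]; exact (congrArg (g b₀ * ·) hd).trans hc)
    rw [eq_div_iff (fun h0 => hb₀' (IsFractionRing.injective Γ(Y.left, U) _ (h0.trans (map_zero _).symm))),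
      ← map_mul, mul_comm, hba]
  let := (Y.left.presheaf.germ U y hyU).hom.toAlgebra
  have hloc : IsLocalization.AtPrime (Y.left.presheaf.stalk y) (hU.primeIdealOf ⟨y, hyU⟩).asIdeal :=
    hU.isLocalization_stalk ⟨y, hyU⟩
  exact ⟨IsLocalization.isDomain_of_le_nonZeroDivisors (S := Y.left.presheaf.stalk y)
      (Ideal.primeCompl_le_nonZeroDivisors (hU.primeIdealOf ⟨y, hyU⟩).asIdeal),
    isIntegrallyClosed_of_isLocalization (Y.left.presheaf.stalk y) _
      (Ideal.primeCompl_le_nonZeroDivisors (hU.primeIdealOf ⟨y, hyU⟩).asIdeal)⟩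

end Groth.Agent.S18505
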