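import Groth.Statements.S18506
import Groth.Agent.GITLib.AssocQuot
import Mathlib.AlgebraicGeometry.Morphisms.Flat
-- import your own Groth.Agent.* helpers here

set_option autoImplicit false
universe u
open CategoryTheory MonoidalCategory CartesianMonoidalCategory MonObj GrpObj AlgebraicGeometry Topology
open EqInt

namespace Groth.Agent.S18506

open Groth.Agent Groth.Agent.GITLib MonObj CategoryTheory.Limits

/-- Over a field k, let an affine group scheme G of finite type act on X and on U (quasi-separated
schemes of finite type over k), and let π : U → B be a principal bundle quotient (π is G-invariant,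
flat and surjective and (σ, p₂) : G × U → U ×_B U is an isomorphism) which is locally trivial in the
Zariski topology: every point of B has an open neighbourhood over which π has a section. Then the
diagonal action of G on X × U has a principal bundle quotient X × U → Q in the category of schemes.
(The published hypothesis is that G is special, i.e. every principal G-bundle is Zariski-locally
trivial; only the local triviality of U → B is used, and it is what is assumed here.) -/
theorem result (k : Type u) [Field k]
    (G X U B : Over (Spec (CommRingCat.of k))) [GrpObj G] [IsAffine G.left] [LocallyOfFiniteType G.hom]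
    [LocallyOfFiniteType X.hom] [QuasiCompact X.hom] [QuasiSeparated X.hom]
    [LocallyOfFiniteType U.hom] [QuasiCompact U.hom] [QuasiSeparated U.hom]
    [LocallyOfFiniteType B.hom] [QuasiCompact B.hom] [QuasiSeparated B.hom]
    (a : AlgGrp.Action G X) (b : AlgGrp.Action G U) (π : U ⟶ B) (hinv : GIT.IsInvariant b π)
    [Flat π.left] [Surjective π.left] (hcart : IsIso (GIT.PsiY b π hinv))
    (hzar : ∀ y : ↥B.left, ∃ (W : B.left.Opens) (s : (↑W : Scheme.{u}) ⟶ U.left), y ∈ W ∧ s ≫ π.left = W.ι) :
    ∃ (Q : Over (Spec (CommRingCat.of k))) (ρ : X ⊗ U ⟶ Q) (hρ : GIT.IsInvariant (a.prod b) ρ),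
      Flat ρ.left ∧ Surjective ρ.left ∧ IsIso (GIT.PsiY (a.prod b) ρ hρ) := by
  haveI : IsIso (GIT.PsiY b π hinv) := hcart
  have hsq : IsPullback b.act.left (snd G U).left π.left π.left :=
    IsPullback.of_iso (IsPullback.of_hasPullback π.left π.left) (asIso (GIT.PsiY b π hinv)).symm
      (Iso.refl _) (Iso.refl _) (Iso.refl _)
      (by simp [GIT.PsiY, IsIso.eq_inv_comp]; exact pullback.lift_fst _ _ _)
      (by simp [GIT.PsiY, IsIso.eq_inv_comp]; exact pullback.lift_snd _ _ _) (by simp) (by simp)
  haveI : QuasiCompact π.left := by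
    have : QuasiCompact (π.left ≫ B.hom) := by rw [Over.w π]; infer_instance
    exact QuasiCompact.of_comp π.left B.hom
  obtain ⟨W, Φ, r, hq, hΦ⟩ := exists_bundle_of_effective b π hsq a
    (SGA1Desc.effective_of_sections _ fun y => by
      obtain ⟨V, s, hy, hs⟩ := hzar y
      exact ⟨V, s, hy, hs⟩)
  let ρ : X ⊗ U ⟶ W := lift (snd X U) (fst X U) ≫ Φ
  let sw : X ⊗ U ≅ U ⊗ X := ⟨lift (snd X U) (fst X U), lift (snd U X) (fst U X), by simp, by simp⟩
  have hq' : IsPullback (snd X U).left ρ.left π.left r.left :=
    IsPullback.of_iso hq ((Over.forget _).mapIso sw.symm) (Iso.refl _) (Iso.refl _) (Iso.refl _)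
      (by
        show (fst U X).left ≫ 𝟙 _ = sw.inv.left ≫ (snd X U).left
        rw [Category.comp_id, ← Over.comp_left]
        exact congrArg (fun m => CommaMorphism.left m) (lift_snd _ _).symm)
      (by
        show Φ.left ≫ 𝟙 _ = sw.inv.left ≫ ρ.left
        rw [Category.comp_id, ← Over.comp_left, show sw.inv ≫ ρ = Φ from sw.inv_hom_id_assoc Φ])
      (by simp) (by simp)
  have hρ : GIT.IsInvariant (a.prod b) ρ := by
    show (a.prod b).act ≫ lift (snd X U) (fst X U) ≫ Φ = snd G (X ⊗ U) ≫ lift (snd X U) (fst X U) ≫ Φ
    have h := congrArg ((G ◁ sw.hom) ≫ ·) hΦ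
    simp only [← Category.assoc] at h ⊢
    refine Eq.trans (congrArg (· ≫ Φ) ?_) (h.trans (congrArg (· ≫ Φ) ?_))
    · refine CartesianMonoidalCategory.hom_ext _ _ ?_ ?_ <;>
        simp [AlgGrp.Action.prod_act, sw, ← whiskerLeft_comp_assoc]
    · exact whiskerLeft_snd _ _
  have hpb := isPullback_act_of_cartesian b π hsq (a.prod b) (snd X U) ρ r hq'
    (by simp [AlgGrp.Action.prod_act]) hρ
  refine ⟨W, ρ, hρ, MorphismProperty.of_isPullback (P := @Flat) hq' inferInstance,
    MorphismProperty.of_isPullback (P := @Surjective) hq' inferInstance, ?_⟩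
  have hp : IsPullback (a.prod b).act.left (snd G (X ⊗ U)).left ρ.left ρ.left := hpb.map (Over.forget _)
  rw [show GIT.PsiY (a.prod b) ρ hρ = hp.isoPullback.hom from
    pullback.hom_ext (by rw [GIT.PsiY, pullback.lift_fst, hp.isoPullback_hom_fst])
      (by rw [GIT.PsiY, pullback.lift_snd, hp.isoPullback_hom_snd])]
  infer_instance
end Groth.Agent.S18506
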