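import Groth.Statements.S18510
import Groth.Agent.GITLib.TorsorMap
import Groth.Agent.GITLib.Orbit
import Groth.Agent.FpqcDesc.Props
import Groth.Agent.AlgSpCov.SchemeDescent
open Groth.Agent.GITLib CategoryTheory.Limits

set_option autoImplicit false
universe u
open CategoryTheory MonoidalCategory CartesianMonoidalCategory MonObj GrpObj AlgebraicGeometry Topology
open EqInt

namespace Groth.Agent.S18510

/-- Over a field k, let an affine group scheme G of finite type act on X, on Y and on U (quasi-separated
schemes of finite type over k), let f : X → Y be G-equivariant, and let q_X : X × U → X_G and q_Y :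
Y × U → Y_G be principal bundle quotients for the diagonal actions (each is invariant, flat and
surjective, and (σ, p₂) into the fibre square over the quotient is an isomorphism), X_G and Y_G
being quasi-separated of finite type over k. Let f_G : X_G → Y_G satisfy f_G ∘ q_X = q_Y ∘ (f ×
id_U) as maps X × U → Y_G. If f is proper, resp. flat, resp. smooth, then so is f_G. (Stated for
schemes; the source allows algebraic spaces and also treats regular embeddings and local complete
intersection morphisms, which are not stated here.) -/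
theorem result (k : Type u) [Field k]
    (G X Y U XG YG : Over (Spec (CommRingCat.of k))) [GrpObj G] [IsAffine G.left] [LocallyOfFiniteType G.hom]
    [LocallyOfFiniteType X.hom] [QuasiCompact X.hom] [QuasiSeparated X.hom]
    [LocallyOfFiniteType Y.hom] [QuasiCompact Y.hom] [QuasiSeparated Y.hom]
    [LocallyOfFiniteType U.hom] [QuasiCompact U.hom] [QuasiSeparated U.hom]
    [LocallyOfFiniteType XG.hom] [QuasiCompact XG.hom] [QuasiSeparated XG.hom]
    [LocallyOfFiniteType YG.hom] [QuasiCompact YG.hom] [QuasiSeparated YG.hom]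
    (a : AlgGrp.Action G X) (aY : AlgGrp.Action G Y) (b : AlgGrp.Action G U)
    (f : X ⟶ Y) (hf : AlgGrp.Action.IsEquivariant a aY f)
    (qX : X ⊗ U ⟶ XG) (hqX : GIT.IsInvariant (a.prod b) qX) [Flat qX.left] [Surjective qX.left]
    (hcX : IsIso (GIT.PsiY (a.prod b) qX hqX))
    (qY : Y ⊗ U ⟶ YG) (hqY : GIT.IsInvariant (aY.prod b) qY) [Flat qY.left] [Surjective qY.left]
    (hcY : IsIso (GIT.PsiY (aY.prod b) qY hqY))
    (fG : XG ⟶ YG) (hfG : qX ≫ fG = (f ▷ U) ≫ qY) :
    (IsProper f.left → IsProper fG.left) ∧ (Flat f.left → Flat fG.left) ∧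
      (Smooth f.left → Smooth fG.left) := by
  have : IsLocallyNoetherian YG.left := LocallyOfFiniteType.isLocallyNoetherian YG.hom
  have : LocallyOfFiniteType (X ⊗ U).hom := inferInstanceAs (LocallyOfFiniteType (pullback.fst X.hom U.hom ≫ X.hom))
  have : LocallyOfFiniteType (Y ⊗ U).hom := inferInstanceAs (LocallyOfFiniteType (pullback.fst Y.hom U.hom ≫ Y.hom))
  have hX := isLocQuot_of_field hqX hcX
  have hY := isLocQuot_of_field hqY hcY
  have := hcY
  have hF : (a.prod b).act ≫ (f ▷ U) = (G ◁ (f ▷ U)) ≫ (aY.prod b).act := by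
    apply AlgGrp.Action.hom_ext_lift₂
    intro T g p
    have hp : lift (p ≫ fst X U) (p ≫ snd X U) = p := by rw [← comp_lift, lift_fst_snd, Category.comp_id]
    rw [← hp, AlgGrp.Action.lift_prod_act_assoc, lift_whiskerRight, lift_whiskerLeft_assoc, lift_whiskerRight,
      AlgGrp.Action.lift_prod_act, Category.assoc, show a.act ≫ f = (G ◁ f) ≫ aY.act from hf,
      lift_whiskerLeft_assoc]
  have sq := (isPullback_of_equivariant hX hY hF hfG).map (Over.forget _)
  have hq : QuasiCompact qY.left := by
    have : QuasiCompact (Y ⊗ U).hom := inferInstanceAs (QuasiCompact (pullback.fst Y.hom U.hom ≫ Y.hom))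
    have : QuasiCompact (qY.left ≫ YG.hom) := by rw [Over.w]; infer_instance
    exact QuasiCompact.of_comp qY.left YG.hom
  have hQ : (@Surjective ⊓ @Flat ⊓ @QuasiCompact : MorphismProperty Scheme) qY.left :=
    ⟨⟨‹_›, ‹_›⟩, hq⟩
  have := Groth.Agent.FpqcDesc.descendsAlong_isProper.{u}
  have hb := isPullback_whiskerRight f U
  refine ⟨fun h => ?_, fun h => ?_, fun h => ?_⟩ <;>
    refine MorphismProperty.of_isPullback_of_descendsAlong sq.flip hQ ?_ <;>
    exact MorphismProperty.of_isPullback hb h

end Groth.Agent.S18510
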