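import Groth.Statements.S18515
import Mathlib.AlgebraicGeometry.ValuativeCriterion
-- import your own Groth.Agent.* helpers here

set_option autoImplicit false
open CategoryTheory CategoryTheory.Limits MonoidalCategory CartesianMonoidalCategory MonObj GrpObj AlgebraicGeometry
universe u
open NonAbH1

namespace Groth.Agent.S18515

open CategoryTheory.Limits MonoidalCategory CartesianMonoidalCategory

theorem isPseudoTorsor_restrict {S : Scheme.{u}} {G H X : Over S} [GrpObj G] [GrpObj H] (φ : H ⟶ G) [IsMonHom φ]
    [IsIso φ] {a : AlgGrp.Action G X} (h : NonAbH1.IsPseudoTorsorSch a) :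
    NonAbH1.IsPseudoTorsorSch (a.restrict φ) := by
  haveI : IsIso (lift a.act (snd G X)) := h
  show IsIso (lift ((φ ▷ X) ≫ a.act) (snd H X))
  rw [show lift ((φ ▷ X) ≫ a.act) (snd H X) = (φ ▷ X) ≫ lift a.act (snd G X) by rw [comp_lift, whiskerRight_snd]]
  infer_instance

/-- A class represented by a torsor over a complete variety is unramified at every discrete valuation
ring of the function field. The published lemma assumes G finite, k algebraically closed of
characteristic zero and K finitely generated over k; this row allows any field k, any field K and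
any affine k-group scheme of finite type: let k be a field, X a proper k-scheme, G an affine k-group
scheme of finite type and P a torsor over X, locally trivial for the etale topology, under the base
change of G. For every field K with a k-morphism e : Spec K ⟶ X (for instance the generic point of
an integral X) and every discrete valuation ring R with fraction field K containing k compatibly,
there is a torsor Q over Spec R under the base change of G whose restriction to Spec K is
equivariantly isomorphic to the pullback of P along e, both regarded as actions of the base change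
of G to Spec K through the canonical identifications of iterated base changes. -/
theorem result
    (k K R : Type u) [Field k] [Field K] [Algebra k K]
    [CommRing R] [IsDomain R] [IsDiscreteValuationRing R] [Algebra k R] [Algebra R K] [IsFractionRing R K]
    (hc : Spec.map (CommRingCat.ofHom (algebraMap R K)) ≫ Spec.map (CommRingCat.ofHom (algebraMap k R)) =
      Spec.map (CommRingCat.ofHom (algebraMap k K)))
    (X : Scheme.{u}) (x : X ⟶ Spec (CommRingCat.of k)) [IsProper x]
    (G : Over (Spec (CommRingCat.of k))) [GrpObj G] [IsAffine G.left] [LocallyOfFiniteType G.hom]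
    (P : NonAbH1.TorsorSch (Red.bc x G) Scheme.etalePrecoverage)
    (e : Spec (CommRingCat.of K) ⟶ X) (he : e ≫ x = Spec.map (CommRingCat.ofHom (algebraMap k K))) :
    ∃ Q : NonAbH1.TorsorSch (Red.bc (Spec.map (CommRingCat.ofHom (algebraMap k R))) G) Scheme.etalePrecoverage,
      Nonempty (NonAbH1.EquivIso
        ((Q.act.bc (Spec.map (CommRingCat.ofHom (algebraMap R K)))).restrict
          (ActBC.bcCompIso (Spec.map (CommRingCat.ofHom (algebraMap R K)))
            (Spec.map (CommRingCat.ofHom (algebraMap k R))) G hc).inv)
        ((P.act.bc e).restrict (ActBC.bcCompIso e x G he).inv)) := by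
  obtain ⟨Q₀, hQ₀⟩ : ∃ et : Spec (CommRingCat.of R) ⟶ X,
      Spec.map (CommRingCat.ofHom (algebraMap R K)) ≫ et = e ∧ et ≫ x = Spec.map (CommRingCat.ofHom (algebraMap k R)) := by
    have hp : ValuativeCriterion.Existence x := by
      have h : UniversallyClosed x := inferInstance
      rw [UniversallyClosed.eq_valuativeCriterion] at h
      exact h.1
    obtain ⟨l, h₁, h₂⟩ := (hp
      { R := R
        K := K
        i₁ := e
        i₂ := Spec.map (CommRingCat.ofHom (algebraMap k R))
        commSq := ⟨he.trans hc.symm⟩ }).exists_lift.some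
    exact ⟨l, h₁, h₂⟩
  obtain ⟨hj, het⟩ := hQ₀
  let j := Spec.map (CommRingCat.ofHom (algebraMap R K))
  let xR := Spec.map (CommRingCat.ofHom (algebraMap k R))
  let c₁ := ActBC.bcCompIso Q₀ x G het
  let c₂ := ActBC.bcCompIso j xR G hc
  let c₃ := ActBC.bcCompIso e x G he
  let c₄ := ActBC.bcCompIso j Q₀ (Red.bc x G) hj
  refine ⟨⟨Red.bc Q₀ P.X, (P.act.bc Q₀).restrict c₁.inv,
    isPseudoTorsor_restrict c₁.inv (NonAbH1.isPseudoTorsorSch_bc Q₀ P.isTorsor.1),
    NonAbH1.isLocallyTrivialFor_bc Q₀ Scheme.etalePrecoverage P.isTorsor.2⟩, ⟨?_⟩⟩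
  have key : (c₂.inv ≫ (Over.pullback j).map c₁.inv) ≫ c₄.hom = c₃.inv := by
    rw [← cancel_mono c₃.hom, Category.assoc, Category.assoc, Iso.inv_hom_id, Iso.inv_comp_eq, Category.comp_id]
    refine Over.OverMorphism.ext (pullback.hom_ext ?_ ((Over.w _).trans (Over.w _).symm))
    simp only [c₂, c₃, c₄, Over.comp_left, Category.assoc, ActBC.bcCompIso_hom_left_fst,
      ActBC.bcCompIso_hom_left_fst_assoc, ActBC.pullback_map_left_fst_assoc]
    rw [← ActBC.bcCompIso_hom_left_fst Q₀ x G het, ← Over.comp_left_assoc, Iso.inv_hom_id]
    exact congrArg _ (Category.id_comp _)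
  exact
    { iso := ActBC.bcCompIso j Q₀ P.X hj
      comm := by
        have h4 := (ActBC.equivIsoBcComp j Q₀ hj P.act).comm
        rw [AlgGrp.Action.restrict_act, MonoidalCategory.whisker_exchange_assoc] at h4
        show ((c₂.inv ▷ _) ≫ (((P.act.bc Q₀).restrict c₁.inv).bc j).act) ≫ _ = (_ ◁ _) ≫ (c₃.inv ▷ _) ≫ (P.act.bc e).act
        rw [AlgGrp.Action.bc_restrict, AlgGrp.Action.restrict_act, Category.assoc, Category.assoc]
        rw [show ((P.act.bc Q₀).bc j).act ≫ (ActBC.bcCompIso j Q₀ P.X hj).hom =
            ((ActBC.bcCompIso j Q₀ (Red.bc x G) hj).hom ▷ _) ≫ (_ ◁ (ActBC.bcCompIso j Q₀ P.X hj).hom) ≫ (P.act.bc e).act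
          from h4]
        rw [← comp_whiskerRight_assoc, ← comp_whiskerRight_assoc, key, MonoidalCategory.whisker_exchange_assoc] }

end Groth.Agent.S18515
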