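import Groth.Statements.S18519
import Groth.Agent.CSA.Splitting


set_option autoImplicit false
universe u
open scoped TensorProduct
open Brauer

namespace Groth.Agent.S18519

open scoped Pointwise

/-- For a field K with maximal abelian extension K_ab, cd(K_ab) ≤ 1 if and only if for every etale
K-algebra E the restriction map Br(E) ⟶ Br(E ⊗_K K_ab) is trivial; the same holds with the maximal
solvable extension. Stated here for an arbitrary separable algebraic extension F of K in place of
K_ab (the published lemma takes for F the maximal abelian or the maximal solvable extension of K;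
this row allows any separable algebraic extension), with cd(F) ≤ 1 unfolded by the Brauer-group
criterion (every finite separable extension of F has trivial Brauer group) and with etale algebras
replaced by their field factors: (a) every finite-dimensional central division algebra over a finite
separable extension F′ of F is F′ itself; if and only if (b) for every finite separable extension E
of K, every finite-dimensional central division algebra D over E and every field M containing E and
F compatibly over K, the base change M ⊗_E D is isomorphic over M to a matrix algebra over M. -/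
theorem result
    (K F : Type u) [Field K] [Field F] [Algebra K F] [Algebra.IsSeparable K F] :
    (∀ (F' : Type u) [Field F'] [Algebra F F'] [FiniteDimensional F F'] [Algebra.IsSeparable F F']
        (D : Type u) [DivisionRing D] [Algebra F' D] [Algebra.IsCentral F' D] [FiniteDimensional F' D],
        Module.finrank F' D = 1) ↔
    (∀ (E : Type u) [Field E] [Algebra K E] [FiniteDimensional K E] [Algebra.IsSeparable K E]
        (D : Type u) [DivisionRing D] [Algebra E D] [Algebra.IsCentral E D] [FiniteDimensional E D]
        (M : Type u) [Field M] [Algebra K M] [Algebra E M] [Algebra F M] [IsScalarTower K E M]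
        [IsScalarTower K F M],
        ∃ n : ℕ, Nonempty ((M ⊗[E] D) ≃ₐ[M] Matrix (Fin n) (Fin n) M)) := by
  constructor
  · intro ha E _ _ _ _ D _ _ _ _ M _ _ _ _ _ _
    classical
    obtain ⟨α, hα⟩ := Field.exists_primitive_element K E
    let x : M := algebraMap E M α
    haveI : Algebra.IsSeparable K E := inferInstance
    have hx : IsSeparable F x := by
      have h1 : IsSeparable K α := Algebra.IsSeparable.isSeparable K α
      have h2 : IsSeparable K x := IsSeparable.map (IsScalarTower.toAlgHom K E M) (algebraMap E M).injective h1
      exact h2.tower_top F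
    let F' : IntermediateField F M := IntermediateField.adjoin F {x}
    haveI : FiniteDimensional F F' := IntermediateField.adjoin.finiteDimensional hx.isIntegral
    haveI : Algebra.IsSeparable F F' := (IntermediateField.isSeparable_adjoin_simple_iff_isSeparable _ _).2 hx
    have hmem : ∀ e : E, algebraMap E M e ∈ F' := fun e => by
      have he : e ∈ IntermediateField.adjoin K {α} := by rw [hα]; trivial
      have : algebraMap E M e ∈ (IntermediateField.adjoin K {α}).map (IsScalarTower.toAlgHom K E M) := ⟨e, he, rfl⟩
      rw [IntermediateField.adjoin_map, Set.image_singleton] at this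
      have hle : IntermediateField.adjoin K {x} ≤ F'.restrictScalars K :=
        IntermediateField.adjoin_le_iff.2 (Set.singleton_subset_iff.2 (IntermediateField.mem_adjoin_simple_self F x))
      exact hle this
    letI : Algebra E F' := ((algebraMap E M).codRestrict F'.toSubfield hmem).toAlgebra
    haveI : IsSimpleRing (F' ⊗[E] D) := Groth.Agent.CSA.isSimpleRing_tensor_right
    haveI : Algebra.IsCentral F' (F' ⊗[E] D) := Groth.Agent.CSA.isCentral_baseChange
    obtain ⟨n, hn, D', _, _, _, _, ⟨e⟩⟩ := Groth.Agent.CSA.exists_algEquiv_matrix_divisionRing F' (F' ⊗[E] D)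
    have h1 : (⊥ : Subalgebra F' D') = ⊤ := Subalgebra.bot_eq_top_iff_finrank_eq_one.2 (ha F' D')
    have hsplit : Curves.Splits E D F' :=
      ⟨n, NeZero.ne n, ⟨e.trans ((Algebra.botEquiv F' D').symm.trans ((Subalgebra.equivOfEq _ _ h1).trans Subalgebra.topEquiv)).mapMatrix.symm⟩⟩
    let σ : F' →ₐ[E] M := { F'.val.toRingHom with commutes' := fun _ => rfl }
    obtain ⟨m, -, hm⟩ := Groth.Agent.CSA.splits_of_splits_algHom E D σ hsplit
    exact ⟨m, hm⟩
  · intro hb F' _ _ _ _ D _ _ _ _
    classical
    letI : Algebra K F' := ((algebraMap F F').comp (algebraMap K F)).toAlgebra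
    haveI : IsScalarTower K F F' := IsScalarTower.of_algebraMap_eq' rfl
    haveI : Algebra.IsSeparable K F' := Algebra.IsSeparable.trans K F F'
    let b := Module.finBasis F' D
    let S : Set F' := (Set.range fun p : _ × _ × _ => b.repr (b p.1 * b p.2.1) p.2.2) ∪ Set.range fun l => b.repr 1 l
    let E : IntermediateField K F' := IntermediateField.adjoin K S
    haveI : Finite S := ((Set.finite_range _).union (Set.finite_range _)).to_subtype
    haveI : FiniteDimensional K E := IntermediateField.finiteDimensional_adjoin fun x _ => Algebra.IsSeparable.isIntegral K x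
    haveI : Algebra.IsSeparable K E := Algebra.isSeparable_tower_bot_of_isSeparable K E F'
    haveI : IsScalarTower E F' D := inferInstance
    have hS : ∀ c ∈ S, c ∈ E := fun c hc => IntermediateField.subset_adjoin K S hc
    let V : Submodule E D := Submodule.span E (Set.range b)
    have hV : ∀ x : D, (∀ l, b.repr x l ∈ E) → x ∈ V := fun x hx => by
      rw [← b.sum_repr x]
      refine Submodule.sum_mem _ fun l _ => ?_
      rw [show b.repr x l = algebraMap E F' ⟨_, hx l⟩ from rfl, algebraMap_smul]
      exact V.smul_mem _ (Submodule.subset_span ⟨l, rfl⟩)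
    have hV1 : (1 : D) ∈ V := hV 1 fun l => hS _ (Or.inr ⟨l, rfl⟩)
    have hVm : ∀ x y, x ∈ V → y ∈ V → x * y ∈ V := fun x y hx hy => by
      have hxy : x * y ∈ Submodule.span E (Set.range b * Set.range b) := by
        rw [← Submodule.span_mul_span]
        exact Submodule.mul_mem_mul hx hy
      refine Submodule.span_le.2 ?_ hxy
      rintro _ ⟨_, ⟨i, rfl⟩, _, ⟨j, rfl⟩, rfl⟩
      exact hV _ fun l => hS _ (Or.inl ⟨(i, j, l), rfl⟩)
    let D₀ : Subalgebra E D := V.toSubalgebra hV1 hVm
    let b₀ : Module.Basis _ E D₀ := Module.Basis.span (R := E) (v := b) (b.linearIndependent.restrict_scalars (Algebra.algebraMap_eq_smul_one' (R := E) (A := F') ▸ (algebraMap E F').injective))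
    haveI : FiniteDimensional E D₀ := Module.Finite.of_basis b₀
    haveI : NoZeroDivisors D₀ := Function.Injective.noZeroDivisors D₀.val Subtype.val_injective (map_zero _) (map_mul _)
    haveI : IsDomain D₀ := NoZeroDivisors.to_isDomain D₀
    letI : DivisionRing D₀ := divisionRingOfFiniteDimensional E D₀
    haveI : Algebra.IsCentral E D₀ := ⟨fun z hz => by
      rw [Subalgebra.mem_center_iff] at hz
      have hzb : ∀ i, b i * (z : D) = (z : D) * b i := fun i => congrArg Subtype.val (hz ⟨b i, Submodule.subset_span ⟨i, rfl⟩⟩)
      have hzc : (z : D) ∈ Subalgebra.center F' D := by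
        rw [Subalgebra.mem_center_iff]
        intro x
        rw [← b.sum_repr x, Finset.sum_mul, Finset.mul_sum]
        exact Finset.sum_congr rfl fun i _ => by rw [smul_mul_assoc, mul_smul_comm, hzb]
      obtain ⟨c, hc⟩ := (Algebra.IsCentral.mem_center_iff F').1 hzc
      have hzE : ∀ l, b.repr (z : D) l ∈ E := fun l => by
        have hz' : (z : D) ∈ V := z.2
        generalize (z : D) = zz at hz'
        induction hz' using Submodule.span_induction with
        | mem x hx =>
          obtain ⟨i, rfl⟩ := hx
          rw [b.repr_self, Finsupp.single_apply]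
          split <;> first | exact E.one_mem | exact E.zero_mem
        | zero => simp
        | add x y _ _ hx hy => rw [map_add, Finsupp.add_apply]; exact E.add_mem hx hy
        | smul a x _ hx =>
          rw [← algebraMap_smul F', map_smul, Finsupp.smul_apply, smul_eq_mul]
          exact E.mul_mem a.2 hx
      obtain ⟨l, hl⟩ : ∃ l, b.repr (1 : D) l ≠ 0 := by
        by_contra! h
        exact one_ne_zero (b.ext_elem (x := (1 : D)) (y := 0) fun l => by simpa using h l)
      have hcE : c ∈ E := by
        have := hzE l
        rw [hc, Algebra.algebraMap_eq_smul_one, map_smul, Finsupp.smul_apply, smul_eq_mul] at this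
        have h1 : b.repr (1 : D) l ∈ E := hS _ (Or.inr ⟨l, rfl⟩)
        simpa [mul_div_assoc, div_self hl] using E.div_mem this h1
      exact Algebra.mem_bot.2 ⟨⟨c, hcE⟩, Subtype.ext hc.symm⟩⟩
    obtain ⟨n, ⟨e⟩⟩ := hb E D₀ F'
    let Φ : F' ⊗[E] D₀ →ₐ[F'] D := Algebra.TensorProduct.lift (Algebra.ofId F' D) D₀.val fun c a => Algebra.commutes c _
    have hn : Module.finrank F' D = n * n := by
      have h1 := e.toLinearEquiv.finrank_eq
      rw [Module.finrank_baseChange, Module.finrank_matrix, Module.finrank_self, Module.finrank_eq_card_basis b₀, Fintype.card_fin] at h1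
      simpa using h1
    by_contra hne
    have hsurj : Function.Surjective Φ := fun x => by
      rw [← b.sum_repr x]
      exact ⟨∑ i, b.repr x i ⊗ₜ[E] ⟨b i, Submodule.subset_span ⟨i, rfl⟩⟩, by simp [Φ, Algebra.smul_def]⟩
    have hinj : Function.Injective Φ := by
      refine (LinearMap.injective_iff_surjective_of_finrank_eq_finrank (f := Φ.toLinearMap) ?_).2 hsurj
      simp [Module.finrank_baseChange, Module.finrank_eq_card_basis b₀]
    let ψ := e.symm.toAlgHom
    have h2 : 1 < n := by
      by_contra h
      have : n = 0 ∨ n = 1 := by omega
      rcases this with rfl | rfl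
      · exact absurd (hn ▸ Module.finrank_pos (R := F') (M := D)) (by simp)
      · exact hne (by simpa using hn)
    let i0 : Fin n := ⟨0, by omega⟩
    let i1 : Fin n := ⟨1, h2⟩
    have hi : i0 ≠ i1 := by simp [i0, i1, Fin.ext_iff]
    have hN : Φ (e.symm (Matrix.single i0 i1 (1 : F'))) * Φ (e.symm (Matrix.single i0 i1 (1 : F'))) = 0 := by
      rw [← map_mul, ← map_mul, Matrix.single_mul_single_of_ne _ _ _ _ hi.symm, map_zero, map_zero]
    have h0 := mul_self_eq_zero.1 hN
    rw [← map_zero Φ] at h0
    have h00 := congr_fun (congr_fun (e.symm.injective ((hinj h0).trans (map_zero e.symm).symm)) i0) i1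
    simp at h00

end Groth.Agent.S18519
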