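import Groth.Statements.S18523
import Groth.Agent.ParShLib.CurveHom
import Groth.Agent.CurveCoh.Integral
import Groth.Agent.VBLib.Slope

set_option autoImplicit false
universe u
open CategoryTheory CategoryTheory.Limits AlgebraicGeometry
open ParSh

set_option linter.style.haveILetI false

namespace Groth.Agent.S18523

/-- Let k be an algebraically closed field of characteristic zero, X a smooth proper geometrically
connected curve over k (topological dimension one) of genus g ≥ 2, and I the ideal of a reduced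
effective Cartier divisor on X. Let F be a finite locally free O_X-module of rank r with a parabolic
structure 𝓕 along I which is parabolic stable: for every finite locally free sub-module F₁ → F of
rank r₁ with 0 < r₁ < r, the structure induced on F₁ has r·par-deg(F₁) < r₁·par-deg(F). Let 0 → F' →
F → F'' → 0 be a parabolic extension (a short exact sequence in which F' carries the structure
induced from 𝓕 as a sub-module and F'' the structure induced as a quotient) with F' and F'' finite
locally free. Then every parabolic homomorphism F'' → F' is zero. The published statement tests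
stability on quotient bundles; on a smooth proper curve this singles out the same parabolic bundles
as the test on sub-modules used here. -/
theorem result (k : Type u) [Field k] [IsAlgClosed k] [CharZero k]
    (X : Scheme.{u}) [X.Over (Spec (CommRingCat.of k))]
    [IsProper (X ↘ Spec (CommRingCat.of k))] [Smooth (X ↘ Spec (CommRingCat.of k))]
    [GeometricallyConnected (X ↘ Spec (CommRingCat.of k))] (hdim : topologicalKrullDim ↥X = 1)
    (g : ℕ) (hg : Curv2.genus k X = g) (hg2 : 2 ≤ g)
    (I : X.IdealSheafData) (hD : FGA.IsEffCartier I) [AlgebraicGeometry.IsReduced I.subscheme]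
    {F F' F'' : X.Modules} (r : ℕ) (hF : FlatMod.IsFinLocFreeOfRank r F)
    (𝓕 : ParSh.Str F) (h𝓕 : 𝓕.Along I) (hst : ParSh.IsParStable k X 𝓕 r)
    (i : F' ⟶ F) (p : F ⟶ F'') [Epi p] (𝓕' : ParSh.Str F') (𝓕'' : ParSh.Str F'')
    (hext : ParSh.IsParExt i p 𝓕' 𝓕 𝓕'') (hF' : FlatMod.IsFinLocFree F') (hF'' : FlatMod.IsFinLocFree F'')
    (φ : F'' ⟶ F') (hφ : ParSh.IsParHom 𝓕'' 𝓕' φ) : φ = 0 := by
  haveI := CurveCoh.isIntegral_of_smooth k (X := X)
  by_contra hne
  obtain ⟨w, hex, rfl, rfl⟩ := hext
  have hX := VBLib.goodCurve_of_smooth (k := k) (X := X) hdim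
  haveI := hX.isLocallyNoetherian
  haveI : Mono i := hex.mono_f
  let ψ : F ⟶ F := p ≫ φ ≫ i
  have hψ0 : ψ ≠ 0 := fun h => hne (by
    rw [← cancel_epi p, comp_zero, ← cancel_mono i, zero_comp, Category.assoc]
    exact h)
  have hψ : ParSh.IsParHom 𝓕 𝓕 ψ := by
    intro a ha0 ha1
    obtain ⟨l, hl⟩ := ParShLib.exists_isIndex 𝓕 a
    have h := hφ a ha0 ha1
    rw [ParShLib.at_eq_pieceX (𝓕.coinduced p) (i := l) hl,
      ParShLib.at_eq_pieceX (𝓕.induced i) (i := l) hl, ParShLib.induced_pieceX,
      ParShLib.coinduced_pieceX, CategoryTheory.Limits.pullback_factors_iff,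
      ParShLib.factors_iff_comp_eq_zero] at h
    rw [ParShLib.at_eq_pieceX 𝓕 hl, ParShLib.factors_iff_comp_eq_zero]
    have h' := congrArg (factorThruImageSubobject ((𝓕.pieceX l).arrow ≫ p) ≫ ·) h
    simp only [← Category.assoc, imageSubobject_arrow_comp, comp_zero] at h'
    simpa only [ψ, Category.assoc] using h'
  have hFf := VBLib.isFinLocFree_of_ofRank hF
  have hFc := VBLib.isCoh_of_isFinLocFree hFf
  have hIf := VBLib.isFinLocFree_image hX.pid ψ hFc hFf
  have hKf := VBLib.isFinLocFree_kernel hX.pid ψ hFf hFc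
  obtain ⟨G', j, i', hji, hj, hi', hG', hQ', hrk', -⟩ :=
    hX.exists_saturation (Abelian.image.ι ψ) (VBLib.isCoh_of_isFinLocFree hIf) hFf
  haveI := hj
  haveI := hi'
  have hr : 0 < VBLib.rk (Abelian.image ψ) :=
    Nat.pos_of_ne_zero fun h => hψ0 (VBLib.eq_zero_of_rk_image ψ hIf h)
  have hrk : r = VBLib.rk (kernel ψ) + VBLib.rk (Abelian.image ψ) := by
    have := (hX.dg_kernel_image ψ hFc hFc).2
    rwa [VBLib.rk_eq hF] at this
  have hK0 : 0 < VBLib.rk (kernel ψ) := by
    have hz : i ≫ ψ = 0 := (Category.assoc _ _ _).symm.trans ((congrArg (· ≫ φ ≫ i) w).trans zero_comp)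
    haveI : Mono (kernel.lift ψ i hz) := by
      haveI : Mono (kernel.lift ψ i hz ≫ kernel.ι ψ) := by rw [kernel.lift_ι]; infer_instance
      exact mono_of_mono _ (kernel.ι ψ)
    refine lt_of_lt_of_le (Nat.pos_of_ne_zero fun h0 => hne ?_)
      (VBLib.rk_le_of_mono (kernel.lift ψ i hz) (VBLib.isCoh_of_isFinLocFree hKf))
    exact (VBLib.isZero_of_rk_eq_zero hF' h0).eq_of_tgt _ _
  have hKr := VBLib.ofRank_rk hKf
  have hVr := VBLib.ofRank_rk hIf
  have hGr : FlatMod.IsFinLocFreeOfRank (VBLib.rk (Abelian.image ψ)) G' := hrk' ▸ VBLib.ofRank_rk hG'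
  let S := ShortComplex.mk (kernel.ι ψ) (Abelian.factorThruImage ψ)
    ((cancel_mono (Abelian.image.ι ψ)).mp (by simp))
  have hS : S.ShortExact := by
    refine { exact := ShortComplex.exact_of_f_is_kernel _ ?_ }
    refine KernelFork.IsLimit.ofι' _ _ fun {A} c hc => ⟨kernel.lift ψ c ?_, kernel.lift_ι _ _ _⟩
    rw [← Abelian.image.fac ψ, ← Category.assoc]
    exact (congrArg (· ≫ Abelian.image.ι ψ) hc).trans zero_comp
  have hadd := ParShLib.parDeg_add I k hdim hD hKr hF hVr h𝓕 (kernel.ι ψ)
    (Abelian.factorThruImage ψ) _ hS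
  have hle := ParShLib.parDeg_image_le I k hdim hD hF hF h𝓕 h𝓕 hψ (Abelian.factorThruImage ψ) j i'
    (by rw [hji, Abelian.image.fac]) hVr hGr hQ'
  have h1 := hst (kernel ψ) _ (kernel.ι ψ) inferInstance hK0 (by omega) hKr
  have h2 := hst G' _ i' hi' hr (by omega) hGr
  have hrR : (r : ℝ) = (VBLib.rk (kernel ψ) : ℝ) + (VBLib.rk (Abelian.image ψ) : ℝ) := by
    exact_mod_cast hrk
  have h3 := mul_le_mul_of_nonneg_right hle (Nat.cast_nonneg (α := ℝ) r)
  have h4 := congrArg (· * (r : ℝ)) hadd
  simp only [add_mul] at h4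
  have h5 : 𝓕.parDeg k X r * (r : ℝ) = 𝓕.parDeg k X r * (VBLib.rk (kernel ψ) : ℝ) +
      𝓕.parDeg k X r * (VBLib.rk (Abelian.image ψ) : ℝ) := by
    rw [← mul_add, ← hrR]
  linarith

end Groth.Agent.S18523
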