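import Groth.Statements.S18524
import Groth.Agent.ParShLib.One
-- import your own Groth.Agent.* helpers here

set_option autoImplicit false
universe u
open CategoryTheory CategoryTheory.Limits AlgebraicGeometry
open ParSh

namespace Groth.Agent.S18524

/-- Let X be a scheme proper over a field k with an ample invertible sheaf L, and 0 → F → E → G → 0 a
short exact sequence of coherent O_X-modules. Let 𝓔 be a finite weighted filtration of E by coherent
sub-modules E = E₀ ⊇ E₁ ⊇ ⋯ ⊇ E_l ⊇ B with B coherent and weights 0 ≤ w₀ < ⋯ < w_l < 1, and give F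
the filtration pulled back along F → E and G the image filtration along E → G, so that the sequence
is a parabolic extension. Then for every natural number m the parabolic Hilbert functions are
additive: par-χ(F, m) + par-χ(G, m) = par-χ(E, m), where par-χ(E, m) = χ(B ⊗ L^m) + Σ_j w_j (χ(E_j ⊗
L^m) − χ(E_{j+1} ⊗ L^m)) with E_{l+1} = B. The published statement is for parabolic sheaves along
effective Cartier divisors D on a projective scheme over an algebraically closed field, with B =
E(−D) and the functions averaged over several divisors; the identity holds for each weighted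
filtration separately, over any field and for any coherent bottom piece. -/
theorem result (k : Type u) [Field k] (X : Scheme.{u})
    [X.Over (Spec (CommRingCat.of k))] [IsProper (X ↘ Spec (CommRingCat.of k))]
    (L : X.Modules) (hL : CohB1.IsAmple L) {F E G : X.Modules}
    (hF : Coh.IsCoh F) (hE : Coh.IsCoh E) (hG : Coh.IsCoh G)
    (i : F ⟶ E) (p : E ⟶ G) [Epi p] (𝓕 : ParSh.Str F) (𝓔 : ParSh.Str E) (𝓖 : ParSh.Str G)
    (hext : ParSh.IsParExt i p 𝓕 𝓔 𝓖)
    (hcoh : ∀ j, Coh.IsCoh ((𝓔.piece j : Subobject E) : X.Modules))
    (hbot : Coh.IsCoh ((𝓔.bot : Subobject E) : X.Modules)) (m : ℕ) :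
    𝓕.parHilb k X L m + 𝓖.parHilb k X L m = 𝓔.parHilb k X L m := by
  open Groth.Agent.ParShLib Groth.Agent.HilbPolyX Groth.Agent.ShStabLib in
  obtain ⟨w, hS, rfl, rfl⟩ := hext
  haveI := Groth.Agent.EulerChar.isNoetherian k (X := X)
  haveI := hS.mono_f
  let φ : X.Modules → ℝ := fun M => (Curv2.euler k X (ShStab.twist X L M m) : ℝ)
  have key : ∀ S : Subobject E, Coh.IsCoh (S : X.Modules) →
      φ ((Subobject.pullback i).obj S : Subobject F) + φ (imageSubobject (S.arrow ≫ p) : Subobject G) =
        φ (S : X.Modules) := by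
    intro S hS'
    let P := (Subobject.pullback i).obj S
    let a : (P : X.Modules) ⟶ (S : X.Modules) := Subobject.pullbackπ i S
    let b := factorThruImageSubobject (S.arrow ≫ p)
    have hab : a ≫ b = 0 := by
      rw [← cancel_mono (imageSubobject (S.arrow ≫ p)).arrow, Category.assoc,
        imageSubobject_arrow_comp, Limits.zero_comp]
      show Subobject.pullbackπ i S ≫ S.arrow ≫ p = 0
      rw [← Category.assoc, (Subobject.isPullback i S).w, Category.assoc, w, Limits.comp_zero]
    haveI : Mono a := by
      haveI : Mono (a ≫ S.arrow) := by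
        rw [(Subobject.isPullback i S).w]; exact mono_comp _ _
      exact mono_of_mono a S.arrow
    have hker : IsLimit (KernelFork.ofι a hab) := by
      refine KernelFork.IsLimit.ofι' a hab fun {Y} c hc => ?_
      have h1 : (c ≫ S.arrow) ≫ p = 0 :=
        (Category.assoc _ _ _).trans
          ((congrArg (c ≫ ·) (imageSubobject_arrow_comp (S.arrow ≫ p)).symm).trans
            ((Category.assoc _ _ _).symm.trans
              ((congrArg (· ≫ (imageSubobject (S.arrow ≫ p)).arrow) hc).trans Limits.zero_comp)))
      exact ⟨(Subobject.isPullback i S).lift c (hS.exact.lift (c ≫ S.arrow) h1)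
        (hS.exact.lift_f _ h1).symm, (Subobject.isPullback i S).lift_fst _ _ _⟩
    have hses : (ShortComplex.mk a b hab).ShortExact :=
      { exact := ShortComplex.exact_of_f_is_kernel _ hker }
    have hPc := isCoh_pullback k i hF hE hS'
    have hIc : Coh.IsCoh ((imageSubobject (S.arrow ≫ p) : Subobject G) : X.Modules) :=
      Groth.Agent.CohDev.isCoh_of_iso (hses.gIsCokernel.coconePointUniqueUpToIso
        (colimit.isColimit (parallelPair a 0))).symm
        (Groth.Agent.HilbPolyX.isCoh_of_monoCokernel a hPc hS')
    have h := euler_twist_add k hL.1 hses hPc hS' hIc m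
    simp only [φ]
    exact_mod_cast h.symm
  show (𝓔.induced i).parSum φ + (𝓔.coinduced p).parSum φ = 𝓔.parSum φ
  have hbotI : ∀ j : Fin (𝓔.l + 1), φ (((𝓔.induced i).pieceX j.succ : Subobject F) : X.Modules) +
      φ (((𝓔.coinduced p).pieceX j.succ : Subobject G) : X.Modules) =
        φ ((𝓔.pieceX j.succ : Subobject E) : X.Modules) := by
    intro j
    induction j using Fin.lastCases with
    | last =>
      rw [𝓔.pieceX_succ_last]
      rw [show (𝓔.induced i).pieceX (Fin.last 𝓔.l).succ = (Subobject.pullback i).obj 𝓔.bot from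
          (𝓔.induced i).pieceX_succ_last,
        show (𝓔.coinduced p).pieceX (Fin.last 𝓔.l).succ = imageSubobject (𝓔.bot.arrow ≫ p) from
          (𝓔.coinduced p).pieceX_succ_last]
      exact key _ hbot
    | cast j =>
      rw [𝓔.pieceX_succ_castSucc]
      rw [show (𝓔.induced i).pieceX j.castSucc.succ = (Subobject.pullback i).obj (𝓔.piece j.succ) from
          (𝓔.induced i).pieceX_succ_castSucc j,
        show (𝓔.coinduced p).pieceX j.castSucc.succ = imageSubobject ((𝓔.piece j.succ).arrow ≫ p) from
          (𝓔.coinduced p).pieceX_succ_castSucc j]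
      exact key _ (hcoh _)
  simp only [ParSh.Str.parSum]
  show φ ((Subobject.pullback i).obj 𝓔.bot : Subobject F) + ∑ j : Fin (𝓔.l + 1), 𝓔.wt j *
      (φ ((Subobject.pullback i).obj (𝓔.piece j) : Subobject F) -
        φ (((𝓔.induced i).pieceX j.succ : Subobject F) : X.Modules)) +
    (φ (imageSubobject (𝓔.bot.arrow ≫ p) : Subobject G) + ∑ j : Fin (𝓔.l + 1), 𝓔.wt j *
      (φ (imageSubobject ((𝓔.piece j).arrow ≫ p) : Subobject G) -
        φ (((𝓔.coinduced p).pieceX j.succ : Subobject G) : X.Modules))) = _
  rw [add_add_add_comm, ← Finset.sum_add_distrib, key _ hbot]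
  congr 1
  refine Finset.sum_congr rfl fun j _ => ?_
  rw [← hbotI j, ← key _ (hcoh j)]
  ring

end Groth.Agent.S18524
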