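import Groth.Statements.S18526
import Groth.Agent.ParShLib.Slope
-- import your own Groth.Agent.* helpers here

set_option autoImplicit false
universe u
open CategoryTheory CategoryTheory.Limits AlgebraicGeometry Polynomial
open ParSh

namespace Groth.Agent.S18526

/-- Let X be a scheme proper over a field k with an ample invertible sheaf L, and E a coherent
O_X-module with a finite weighted filtration 𝓔 by coherent sub-modules E = E₀ ⊇ E₁ ⊇ ⋯ ⊇ E_l ⊇
E_{l+1} = B, B coherent, with weights 0 ≤ w₀ < ⋯ < w_l < 1 and w_{l+1} := 1. Let P be the Hilbert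
polynomial of E with respect to L and, for 1 ≤ j ≤ l+1, H_j the Hilbert polynomial of the quotient
E/E_j. Then for every natural number m the parabolic Hilbert function χ(B(m)) + Σ_{j ≤ l} w_j
(χ(E_j(m)) − χ(E_{j+1}(m))) equals P(m) − Σ_{j=1}^{l+1} (w_j − w_{j−1}) H_j(m). The published
statement is for a parabolic sheaf along effective Cartier divisors on a projective scheme over an
algebraically closed field (B = E(−D)), averaged over several divisors; the identity holds for each
weighted filtration separately. -/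
theorem result (k : Type u) [Field k] (X : Scheme.{u})
    [X.Over (Spec (CommRingCat.of k))] [IsProper (X ↘ Spec (CommRingCat.of k))]
    (L : X.Modules) (hL : CohB1.IsAmple L) (E : X.Modules) (hE : Coh.IsCoh E) (𝓔 : ParSh.Str E)
    (hcoh : ∀ j, Coh.IsCoh ((𝓔.pieceX j : Subobject E) : X.Modules))
    (P : ℚ[X]) (hP : ShStab.IsHilbPoly k X L E P) (H : Fin (𝓔.l + 2) → ℚ[X])
    (hH : ∀ j, ShStab.IsHilbPoly k X L (cokernel (𝓔.pieceX j).arrow) (H j)) (m : ℕ) :
    𝓔.parHilb k X L m =
      ((P.eval (m : ℚ) : ℚ) : ℝ) -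
        ∑ j : Fin (𝓔.l + 1), (𝓔.wtX j.succ - 𝓔.wtX j.castSucc) * (((H j.succ).eval (m : ℚ) : ℚ) : ℝ) := by
  open Groth.Agent.ParShLib Groth.Agent.HilbPolyX in
  have hc : ∀ j, Coh.IsCoh (cokernel (𝓔.pieceX j).arrow) := fun j =>
    Groth.Agent.HilbPolyX.isCoh_of_monoCokernel _ (hcoh j) hE
  rw [ParSh.Str.parHilb, parSum_eq]
  have hev : ∀ (G : X.Modules), Coh.IsCoh G →
      (Curv2.euler k X (ShStab.twist X L G m) : ℝ) = (((hilb k L G).eval (m : ℚ) : ℚ) : ℝ) :=
    fun G hG => by rw [← isHilbPoly_hilb k hL hG m, Rat.cast_intCast]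
  rw [hev _ (hcoh 0), hilb_piece_zero k hL hE, eq_hilb k hL hE hP]
  congr 1
  refine Finset.sum_congr rfl fun j _ => ?_
  rw [hev _ (hcoh _), eq_hilb k hL (hc _) (hH _), hilb_coker_arrow k hL hE (hcoh _),
    Polynomial.eval_sub, Rat.cast_sub]

end Groth.Agent.S18526
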