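import Groth.Statements.S18527
import Groth.Agent.ParShLib.Slope
-- import your own Groth.Agent.* helpers here

set_option autoImplicit false
universe u
open CategoryTheory CategoryTheory.Limits AlgebraicGeometry Polynomial
open ParSh

namespace Groth.Agent.S18527

/-- An upper and a lower bound for the second coefficient of the parabolic Hilbert polynomial. Let X be
a scheme proper over a field k with an ample invertible sheaf L, I the ideal of an effective Cartier
divisor D on X, and E a coherent O_X-module with a finite weighted filtration 𝓔 along I by coherent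
pieces E = E₀ ⊇ ⋯ ⊇ E_l ⊇ E_{l+1} = I·E, weights 0 ≤ w₀ < ⋯ < w_l < 1. Let d ≥ 1 be a natural number
with Supp E ∩ Supp D of topological Krull dimension less than d, P the Hilbert polynomial of E with
respect to L and P_j that of E_j (0 ≤ j ≤ l+1). Then the coefficient of degree d − 1 of the
parabolic Hilbert polynomial P_{l+1} + Σ_{j ≤ l} w_j (P_j − P_{j+1}) is at least the coefficient of
degree d − 1 of P_{l+1} and at most that of P. For E pure of dimension d this says that the
parabolic slope lies between the slope of E(−D) and the slope of E; the published statement also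
gives a lower bound μ(E) − b with b depending only on a bound for the multiplicity of E, on d, D and
L, which is not part of this row. -/
theorem result (k : Type u) [Field k] (X : Scheme.{u})
    [X.Over (Spec (CommRingCat.of k))] [IsProper (X ↘ Spec (CommRingCat.of k))]
    (L : X.Modules) (hL : CohB1.IsAmple L) (I : X.IdealSheafData) (hD : FGA.IsEffCartier I)
    (E : X.Modules) (hE : Coh.IsCoh E) (𝓔 : ParSh.Str E) (h𝓔 : 𝓔.Along I)
    (hcoh : ∀ j, Coh.IsCoh ((𝓔.pieceX j : Subobject E) : X.Modules)) (d : ℕ) (hd : 1 ≤ d)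
    (hsupp : topologicalKrullDim ↥(CohB1.support E ∩ (I.support : Set X)) < (d : WithBot ℕ∞))
    (P : ℚ[X]) (hP : ShStab.IsHilbPoly k X L E P) (PX : Fin (𝓔.l + 2) → ℚ[X])
    (hPX : ∀ j, ShStab.IsHilbPoly k X L ((𝓔.pieceX j : Subobject E) : X.Modules) (PX j)) :
    (W4swparbununimod.rpoly (PX (Fin.last (𝓔.l + 1)))).coeff (d - 1) ≤ (W4swparbununimod.parPoly 𝓔 PX).coeff (d - 1) ∧
      (W4swparbununimod.parPoly 𝓔 PX).coeff (d - 1) ≤ (W4swparbununimod.rpoly P).coeff (d - 1) := by
  open Groth.Agent.ParShLib Groth.Agent.HilbPolyX Groth.Agent.ShStabLib in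
  have hbX : PX (Fin.last (𝓔.l + 1)) = hilb k L ((𝓔.pieceX (Fin.last _) : Subobject E) : X.Modules) :=
    eq_hilb k hL (hcoh _) (hPX _)
  rw [eq_hilb k hL hE hP, hbX, parPoly_eq_sub k hL hE hcoh hPX, Polynomial.coeff_sub,
    Polynomial.finsetSum_coeff, coeff_rpoly, coeff_rpoly]
  simp only [Polynomial.coeff_C_mul, coeff_rpoly]
  set H : Fin (𝓔.l + 2) → ℚ := fun j => (hilb k L (cokernel (𝓔.pieceX j).arrow)).coeff (d - 1) with hH
  have h0 : ∀ j, 0 ≤ H j := fun j => coeff_hilb_coker_nonneg k hL hE h𝓔 hcoh hsupp j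
  have hlast : (hilb k L ((𝓔.pieceX (Fin.last _) : Subobject E) : X.Modules)).coeff (d - 1) =
      (hilb k L E).coeff (d - 1) - H (Fin.last _) := by
    simp only [hH, hilb_coker_arrow k hL hE (hcoh _), Polynomial.coeff_sub]; ring
  -- the quotients grow
  have hmono : ∀ j, H j ≤ H (Fin.last _) := fun j => by
    have hle : 𝓔.pieceX (Fin.last _) ≤ 𝓔.pieceX j := pieceX_anti 𝓔 (Fin.le_last j)
    have hq := isCoh_quo hle (hcoh _) (hcoh _)
    have hdim : topologicalKrullDim ↥(CohB1.support (quo hle)) ≤ ((d - 1 : ℕ) : WithBot ℕ∞) := by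
      let e : cokernel (𝓔.pieceX (Fin.last _)).arrow ≅ quo (le_top : 𝓔.pieceX (Fin.last _) ≤ ⊤) :=
        (cokernel.mapIso (Subobject.ofLE _ ⊤ le_top) (𝓔.pieceX (Fin.last _)).arrow (Iso.refl _)
          (asIso (⊤ : Subobject E).arrow) (by simp)).symm
      haveI : Mono (quoMap hle (le_top : 𝓔.pieceX j ≤ ⊤) ≫ e.inv) := mono_comp _ _
      exact dim_le_of_mono (quoMap hle (le_top : 𝓔.pieceX j ≤ ⊤) ≫ e.inv)
        (dim_le_pred (dim_coker_piece_lt h𝓔 hsupp _))
    have hnn := alpha_hilb_nonneg k hL hq hdim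
    rw [hilb_quo k hL hle (hcoh _) (hcoh _)] at hnn
    simp only [StabCat.alpha, Polynomial.coeff_sub] at hnn
    have := nonneg_of_mul_nonneg_right hnn
      (show (0 : ℚ) < ((d - 1).factorial : ℕ) by exact_mod_cast (d - 1).factorial_pos)
    simp only [hH, hs, hilb_coker_arrow k hL hE (hcoh _), Polynomial.coeff_sub] at this ⊢
    linarith
  have hs := sum_step 𝓔
  have hpos := wtX_step_pos 𝓔
  constructor
  · rw [hlast, Rat.cast_sub]
    refine sub_le_sub_left ?_ _
    calc ∑ j : Fin (𝓔.l + 1), (𝓔.wtX j.succ - 𝓔.wtX j.castSucc) * (H j.succ : ℝ)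
        ≤ ∑ j : Fin (𝓔.l + 1), (𝓔.wtX j.succ - 𝓔.wtX j.castSucc) * (H (Fin.last _) : ℝ) :=
          Finset.sum_le_sum fun j _ =>
            mul_le_mul_of_nonneg_left (by exact_mod_cast hmono j.succ) (hpos j).le
      _ = (1 - 𝓔.wt 0) * (H (Fin.last _) : ℝ) := by rw [← Finset.sum_mul, hs]
      _ ≤ (H (Fin.last _) : ℝ) := mul_le_of_le_one_left (by exact_mod_cast h0 _)
          (by linarith [𝓔.wt_nonneg])
  · exact sub_le_self _ (Finset.sum_nonneg fun j _ =>
      mul_nonneg (hpos j).le (by exact_mod_cast h0 j.succ))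

end Groth.Agent.S18527
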