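import Groth.Statements.S18528
import Groth.Agent.ParShLib.Slope
-- import your own Groth.Agent.* helpers here

set_option autoImplicit false
universe u
open CategoryTheory CategoryTheory.Limits AlgebraicGeometry Polynomial
open ParSh

namespace Groth.Agent.S18528

/-- Reduced parabolic Hilbert polynomials versus parabolic slopes, for one test subsheaf. Let X be a
scheme proper over a field k with an ample invertible sheaf L, I the ideal of an effective Cartier
divisor D on X, and E a nonzero coherent O_X-module, pure of dimension d ≥ 1, with Supp E ∩ Supp D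
of topological Krull dimension less than d, carrying a finite weighted filtration 𝓔 along I by
coherent pieces E = E₀ ⊇ ⋯ ⊇ E_{l+1} = I·E with weights 0 ≤ w₀ < ⋯ < w_l < 1. Let P be the Hilbert
polynomial of E and P_j that of E_j. Let ι : W → E be a monomorphism from a coherent module W, give
W the induced filtration (pieces the preimages of the E_j, same weights) with Hilbert polynomials Q
of W and Q_j of its pieces, and write Par_E = P_{l+1} + Σ_j w_j (P_j − P_{j+1}), Par_W = Q_{l+1} +
Σ_j w_j (Q_j − Q_{j+1}), α_d for d! times the coefficient of degree d. Then: (i) if Par_W(m)·α_d(P)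
≤ Par_E(m)·α_d(Q) for all large natural numbers m, the coefficients of degree d − 1 satisfy
coeff(Par_W)·α_d(P) ≤ coeff(Par_E)·α_d(Q); (ii) if this coefficient inequality is strict, then
Par_W(m)·α_d(P) < Par_E(m)·α_d(Q) for all large m. With W running over the saturated nonzero proper
subsheaves this is the published implication: parabolic semistability for the reduced parabolic
Hilbert polynomial implies parabolic slope-semistability, and parabolic slope-stability implies
stability for the reduced parabolic Hilbert polynomial. -/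
theorem result (k : Type u) [Field k] (X : Scheme.{u})
    [X.Over (Spec (CommRingCat.of k))] [IsProper (X ↘ Spec (CommRingCat.of k))]
    (L : X.Modules) (hL : CohB1.IsAmple L) (I : X.IdealSheafData) (hD : FGA.IsEffCartier I)
    (E : X.Modules) (hE : Coh.IsCoh E) (h0 : ¬ IsZero E) (d : ℕ) (hd : 1 ≤ d)
    (hpure : ShStab.IsPure X E d) (𝓔 : ParSh.Str E) (h𝓔 : 𝓔.Along I)
    (hcoh : ∀ j, Coh.IsCoh ((𝓔.pieceX j : Subobject E) : X.Modules))
    (hsupp : topologicalKrullDim ↥(CohB1.support E ∩ (I.support : Set X)) < (d : WithBot ℕ∞))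
    (P : ℚ[X]) (hP : ShStab.IsHilbPoly k X L E P) (PX : Fin (𝓔.l + 2) → ℚ[X])
    (hPX : ∀ j, ShStab.IsHilbPoly k X L ((𝓔.pieceX j : Subobject E) : X.Modules) (PX j))
    {W : X.Modules} (ι : W ⟶ E) [Mono ι] (hW : Coh.IsCoh W)
    (Q : ℚ[X]) (hQ : ShStab.IsHilbPoly k X L W Q) (QX : Fin (𝓔.l + 2) → ℚ[X])
    (hQX : ∀ j, ShStab.IsHilbPoly k X L (((𝓔.induced ι).pieceX j : Subobject W) : X.Modules) (QX j)) :
    ((∃ M : ℕ, ∀ m : ℕ, M ≤ m →
        (W4swparbununimod.parPoly (𝓔.induced ι) QX).eval (m : ℝ) * (StabCat.alpha d P : ℝ) ≤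
          (W4swparbununimod.parPoly 𝓔 PX).eval (m : ℝ) * (StabCat.alpha d Q : ℝ)) →
      (W4swparbununimod.parPoly (𝓔.induced ι) QX).coeff (d - 1) * (StabCat.alpha d P : ℝ) ≤
        (W4swparbununimod.parPoly 𝓔 PX).coeff (d - 1) * (StabCat.alpha d Q : ℝ)) ∧
    ((W4swparbununimod.parPoly (𝓔.induced ι) QX).coeff (d - 1) * (StabCat.alpha d P : ℝ) <
        (W4swparbununimod.parPoly 𝓔 PX).coeff (d - 1) * (StabCat.alpha d Q : ℝ) →
      ∃ M : ℕ, ∀ m : ℕ, M ≤ m →
        (W4swparbununimod.parPoly (𝓔.induced ι) QX).eval (m : ℝ) * (StabCat.alpha d P : ℝ) <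
          (W4swparbununimod.parPoly 𝓔 PX).eval (m : ℝ) * (StabCat.alpha d Q : ℝ)) := by
  open Groth.Agent.ParShLib Groth.Agent.HilbPolyX Groth.Agent.ShStabLib in
  rw [eq_hilb k hL hE hP, eq_hilb k hL hW hQ]
  have hd' : topologicalKrullDim ↥(CohB1.support E) ≤ (d : WithBot ℕ∞) := (dim_of_isPure hE h0 hpure).le
  have hWd := dim_le_of_mono ι hd'
  have hcW : ∀ j, Coh.IsCoh (((𝓔.induced ι).pieceX j : Subobject W) : X.Modules) :=
    isCoh_induced k ι hW hE hcoh
  set a : ℝ := (StabCat.alpha d (hilb k L E) : ℝ)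
  set b : ℝ := (StabCat.alpha d (hilb k L W) : ℝ)
  set D : ℝ[X] := Polynomial.C b * W4swparbununimod.parPoly 𝓔 PX -
    Polynomial.C a * W4swparbununimod.parPoly (𝓔.induced ι) QX with hD
  have hdeg : D.natDegree ≤ d :=
    (Polynomial.natDegree_sub_le _ _).trans (max_le
      ((Polynomial.natDegree_C_mul_le _ _).trans (natDegree_parPoly_le k hL hE hcoh hPX hd'))
      ((Polynomial.natDegree_C_mul_le _ _).trans (natDegree_parPoly_le k hL hW hcW hQX hWd)))
  have hWtop : (W4swparbununimod.parPoly (𝓔.induced ι) QX).coeff d =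
      (W4swparbununimod.rpoly (hilb k L W)).coeff d := by
    rw [parPoly_eq_sub k hL hW hcW hQX, Polynomial.coeff_sub, Polynomial.finsetSum_coeff,
      Finset.sum_eq_zero, sub_zero]
    intro j _
    have hc := Groth.Agent.HilbPolyX.isCoh_of_monoCokernel ((𝓔.induced ι).pieceX j.succ).arrow (hcW _) hW
    rw [Polynomial.coeff_C_mul, coeff_rpoly, coeff_eq_zero k hL.1 hc (isHilbPoly_hilb k hL hc)
      (dim_coker_induced_lt h𝓔 hsupp ι j.succ) le_rfl, Rat.cast_zero, mul_zero]
  have hdeg' : D.natDegree ≤ d - 1 := by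
    refine Polynomial.natDegree_le_iff_coeff_eq_zero.2 fun i hi => ?_
    rcases (show d ≤ i by omega).eq_or_lt with rfl | hi'
    · simp only [hD, Polynomial.coeff_sub, Polynomial.coeff_C_mul, hWtop,
        coeff_parPoly_top k hL hE h𝓔 hcoh hsupp hPX le_rfl, coeff_rpoly, a, b, StabCat.alpha]
      push_cast
      ring
    · exact Polynomial.coeff_eq_zero_of_natDegree_lt (hdeg.trans_lt hi')
  refine ⟨fun hM => ?_, fun hlt => ?_⟩
  · have := coeff_nonneg_of_eventually hdeg' (by
      obtain ⟨M, hM⟩ := hM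
      exact ⟨M, fun m hm => by
        simp only [hD, Polynomial.eval_sub, Polynomial.eval_mul, Polynomial.eval_C]
        linarith [hM m hm]⟩)
    simp only [hD, Polynomial.coeff_sub, Polynomial.coeff_C_mul] at this
    linarith
  · obtain ⟨M, hM⟩ := eventually_pos_of_coeff hdeg' (by
      simp only [hD, Polynomial.coeff_sub, Polynomial.coeff_C_mul]
      linarith)
    refine ⟨M, fun m hm => ?_⟩
    have := hM m hm
    simp only [hD, Polynomial.eval_sub, Polynomial.eval_mul, Polynomial.eval_C] at this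
    linarith

end Groth.Agent.S18528
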