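import Groth.Statements.S18529
import Groth.Agent.ParShLib.ImageHilb

set_option autoImplicit false
universe u
open CategoryTheory CategoryTheory.Limits AlgebraicGeometry Polynomial
open ParSh

set_option linter.style.haveILetI false

namespace Groth.Agent.S18529

/-- Kernel and image of a parabolic homomorphism between semistable parabolic sheaves with the same
reduced parabolic Hilbert polynomial, for one divisor. Let X be a scheme proper over a field k with
an ample invertible sheaf L, I the ideal of an effective Cartier divisor D on X, and d ≥ 1. Let E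
and F be nonzero coherent O_X-modules, pure of dimension d, with Supp E ∩ Supp D and Supp F ∩ Supp D
of topological Krull dimension less than d, carrying finite weighted filtrations 𝓔 and 𝓕 along I by
coherent pieces, with the same set of weights and with smallest weight positive. Let P and R be the
Hilbert polynomials of E and F, P_j and R_j those of the pieces, and Par_E = P_{l+1} + Σ_j w_j (P_j
− P_{j+1}), Par_F likewise; α_d denotes d! times the coefficient of degree d. Assume both filtered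
sheaves are semistable for the reduced parabolic Hilbert polynomial: for every nonzero coherent
sub-module W → E whose cokernel is pure of dimension d or zero, with its induced filtration and any
Hilbert polynomials Q of W and Q_j of its pieces, Par_W(m)·α_d(P) ≤ Par_E(m)·α_d(Q) for all large
natural m (and the same for F); and assume Par_E·α_d(R) = Par_F·α_d(P). Let f : E → F be a parabolic
homomorphism, j : K → E a monomorphism with 0 → K → E → F exact at E, and f = q ≫ u with q : E → V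
an epimorphism and u : V → F a monomorphism. Then: (1) for all Hilbert polynomials Q_K of K and
Q_{K,j} of the pieces of the filtration induced on K, Par_K·α_d(P) = Par_E·α_d(Q_K) (the kernel has
the same reduced parabolic Hilbert polynomial); (2) the cokernel of u is pure of dimension d or zero
(the image of f is saturated in F); (3) for every real a with 0 ≤ a ≤ 1, the a-th piece of the
filtration induced on V as a quotient of E equals the a-th piece of the filtration induced on V as a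
sub-module of F. The published statement is phrased for parabolic sheaves along several divisors on
the fibres of a projective X → S over an algebraically closed field and concludes that such sheaves
form an abelian category; this row is the absolute one-divisor case of the kernel and image steps of
its proof, with semistability tested on saturated sub-modules carrying the induced filtration. -/
theorem result (k : Type u) [Field k] (X : Scheme.{u})
    [X.Over (Spec (CommRingCat.of k))] [IsProper (X ↘ Spec (CommRingCat.of k))]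
    (L : X.Modules) (hL : CohB1.IsAmple L) (I : X.IdealSheafData) (hD : FGA.IsEffCartier I) (d : ℕ) (hd : 1 ≤ d)
    {E F : X.Modules} (hE : Coh.IsCoh E) (hF : Coh.IsCoh F) (hE0 : ¬ IsZero E) (hF0 : ¬ IsZero F)
    (hEp : ShStab.IsPure X E d) (hFp : ShStab.IsPure X F d)
    (hEs : topologicalKrullDim ↥(CohB1.support E ∩ (I.support : Set X)) < (d : WithBot ℕ∞))
    (hFs : topologicalKrullDim ↥(CohB1.support F ∩ (I.support : Set X)) < (d : WithBot ℕ∞))
    (𝓔 : ParSh.Str E) (h𝓔 : 𝓔.Along I) (𝓕 : ParSh.Str F) (h𝓕 : 𝓕.Along I)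
    (hcE : ∀ j, Coh.IsCoh ((𝓔.pieceX j : Subobject E) : X.Modules))
    (hcF : ∀ j, Coh.IsCoh ((𝓕.pieceX j : Subobject F) : X.Modules))
    (hw : Set.range 𝓕.wt = Set.range 𝓔.wt) (hw0 : 0 < 𝓔.wt 0)
    (P R : ℚ[X]) (hP : ShStab.IsHilbPoly k X L E P) (hR : ShStab.IsHilbPoly k X L F R)
    (PX : Fin (𝓔.l + 2) → ℚ[X]) (hPX : ∀ j, ShStab.IsHilbPoly k X L ((𝓔.pieceX j : Subobject E) : X.Modules) (PX j))
    (RX : Fin (𝓕.l + 2) → ℚ[X]) (hRX : ∀ j, ShStab.IsHilbPoly k X L ((𝓕.pieceX j : Subobject F) : X.Modules) (RX j))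
    (hssE : (∀ (W : X.Modules) (ι : W ⟶ E), Mono ι → Coh.IsCoh W → ¬ IsZero W → ShStab.IsPure X (cokernel ι) d →
        ∀ (Q : ℚ[X]) (QX : Fin (𝓔.l + 2) → ℚ[X]), ShStab.IsHilbPoly k X L W Q →
          (∀ j, ShStab.IsHilbPoly k X L (((𝓔.induced ι).pieceX j : Subobject W) : X.Modules) (QX j)) →
          ∃ M : ℕ, ∀ m : ℕ, M ≤ m →
            (W4swparbununimod.parPoly (𝓔.induced ι) QX).eval (m : ℝ) * (StabCat.alpha d P : ℝ) ≤
              (W4swparbununimod.parPoly 𝓔 PX).eval (m : ℝ) * (StabCat.alpha d Q : ℝ)))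
    (hssF : (∀ (W : X.Modules) (ι : W ⟶ F), Mono ι → Coh.IsCoh W → ¬ IsZero W → ShStab.IsPure X (cokernel ι) d →
        ∀ (Q : ℚ[X]) (QX : Fin (𝓕.l + 2) → ℚ[X]), ShStab.IsHilbPoly k X L W Q →
          (∀ j, ShStab.IsHilbPoly k X L (((𝓕.induced ι).pieceX j : Subobject W) : X.Modules) (QX j)) →
          ∃ M : ℕ, ∀ m : ℕ, M ≤ m →
            (W4swparbununimod.parPoly (𝓕.induced ι) QX).eval (m : ℝ) * (StabCat.alpha d R : ℝ) ≤
              (W4swparbununimod.parPoly 𝓕 RX).eval (m : ℝ) * (StabCat.alpha d Q : ℝ)))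
    (hred : W4swparbununimod.parPoly 𝓔 PX * Polynomial.C (StabCat.alpha d R : ℝ) =
      W4swparbununimod.parPoly 𝓕 RX * Polynomial.C (StabCat.alpha d P : ℝ))
    (f : E ⟶ F) (hf : ParSh.IsParHom 𝓔 𝓕 f)
    {K V : X.Modules} (j : K ⟶ E) [Mono j] (w : j ≫ f = 0) (hex : (ShortComplex.mk j f w).Exact)
    (q : E ⟶ V) [Epi q] (u : V ⟶ F) [Mono u] (hqu : q ≫ u = f) :
    (∀ (QK : ℚ[X]) (QKX : Fin (𝓔.l + 2) → ℚ[X]), ShStab.IsHilbPoly k X L K QK →
        (∀ j', ShStab.IsHilbPoly k X L (((𝓔.induced j).pieceX j' : Subobject K) : X.Modules) (QKX j')) →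
        W4swparbununimod.parPoly (𝓔.induced j) QKX * Polynomial.C (StabCat.alpha d P : ℝ) =
          W4swparbununimod.parPoly 𝓔 PX * Polynomial.C (StabCat.alpha d QK : ℝ)) ∧
    ShStab.IsPure X (cokernel u) d ∧
    (∀ a : ℝ, 0 ≤ a → a ≤ 1 → (𝓔.coinduced q).at a = (𝓕.induced u).at a) := by
  open Groth.Agent.ParShLib Groth.Agent.HilbPolyX Groth.Agent.ShStabLib Filter in
  obtain ⟨pcF, btF, hF0', haF, hbF, rfl⟩ := exists_eq_of_range_wt 𝓔 𝓕 hw
  -- kernel and image
  have hlK : ∀ {A : X.Modules} (a : A ⟶ E), a ≫ q = 0 → ∃ l, l ≫ j = a := fun a ha =>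
    ⟨_, hex.lift_f a (by
      show a ≫ f = 0
      rw [← hqu, ← Category.assoc, ha, Limits.zero_comp])⟩
  have hjq : j ≫ q = 0 := by rw [← cancel_mono u, Category.assoc, hqu, w, Limits.zero_comp]
  have hse : (ShortComplex.mk j q hjq).ShortExact :=
    { exact := ShortComplex.exact_of_f_is_kernel _ (KernelFork.IsLimit.ofι' _ _ fun {A} a ha =>
        ⟨(hlK a ha).choose, (hlK a ha).choose_spec⟩) }
  have hK : Coh.IsCoh K := CohDev.isCoh_of_iso
    ((kernelIsKernel f).conePointUniqueUpToIso hex.fIsKernel)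
    (Groth.Agent.HilbPolyX.isCoh_of_kernel k f hE hF)
  have eV : cokernel j ≅ V := (cokernelIsCokernel j).coconePointUniqueUpToIso hse.gIsCokernel
  have hV : Coh.IsCoh V := CohDev.isCoh_of_iso eV (Groth.Agent.HilbPolyX.isCoh_of_monoCokernel j hK hE)
  have hKp : ShStab.IsPure X (cokernel j) d := isPure_of_mono (isPure_of_mono hFp u) eV.hom
  obtain ⟨T, hST, hT, hTe, hsat⟩ := exists_saturation k hL hF hFp (isCohSub_mk u hV)
  rw [hs_mk k hL u hV] at hTe
  have hTp : ShStab.IsPure X (cokernel T.arrow) d := by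
    rcases hsat with rfl | h
    · exact isPure_of_isZero (isZero_cokernel_of_isIso _) d
    · exact h
  -- coherence of all the pieces
  have cA := isCoh_induced k j hK hE hcE
  have cB : ∀ i, IsCohSub ((𝓔.coinduced q).pieceX i) := fun i => by
    exact (coinduced_pieceX 𝓔 q i).symm ▸ isCoh_image_piece k hse hK hE (hcE i)
  have cC := isCoh_induced k u hV hF hcF
  have cT := isCoh_induced k T.arrow hT hF hcF
  -- the five families of values
  let val : ∀ {Z : X.Modules}, Subobject Z → ℕ → ℝ := fun S m =>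
    (((hs k L S).eval (m : ℚ) : ℚ) : ℝ)
  have hEA : ∀ (i : Fin (𝓔.l + 2)) (m : ℕ),
      val (𝓔.pieceX i) m = val ((𝓔.induced j).pieceX i) m + val ((𝓔.coinduced q).pieceX i) m := by
    intro i m
    simp only [val, induced_pieceX, coinduced_pieceX]
    rw [hilb_pullback_add_image k hL hse hK hE (hcE i), Polynomial.eval_add, Rat.cast_add]
  have hBC : ∀ i : Fin (𝓔.l + 2), (𝓔.coinduced q).pieceX i ≤
      ((ParSh.Str.mk 𝓔.l pcF btF 𝓔.wt hF0' haF hbF 𝓔.wt_strictMono 𝓔.wt_nonneg 𝓔.wt_lt_one).induced u).pieceX i := by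
    intro i
    refine Subobject.le_of_factors ?_
    rw [coinduced_pieceX, induced_pieceX, CategoryTheory.Limits.pullback_factors_iff,
      factors_iff_comp_eq_zero, ← cancel_epi (factorThruImageSubobject ((𝓔.pieceX i).arrow ≫ q)), Limits.comp_zero]
    simp only [← Category.assoc, imageSubobject_arrow_comp]
    obtain ⟨a, ha0, ha1, hi⟩ : ∃ a : ℝ, 0 ≤ a ∧ a ≤ 1 ∧ IsIndex 𝓔 a i := by
      induction i using Fin.lastCases with
      | last =>
        exact ⟨1, zero_le_one, le_rfl, fun j' => ⟨fun h => absurd h (not_le.2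
          ((𝓔.wt_strictMono.monotone (Fin.le_last j')).trans_lt 𝓔.wt_lt_one)),
          fun h => absurd h (not_le.2 (Fin.castSucc_lt_last j'))⟩⟩
      | cast i =>
        exact ⟨𝓔.wt i, 𝓔.wt_nonneg.trans (𝓔.wt_strictMono.monotone (Fin.zero_le i)),
          ((𝓔.wt_strictMono.monotone (Fin.le_last i)).trans_lt 𝓔.wt_lt_one).le,
          fun j' => 𝓔.wt_strictMono.le_iff_le.trans Fin.castSucc_le_castSucc_iff.symm⟩
    have h := (factors_iff_comp_eq_zero _ _).1 (hf a ha0 ha1)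
    rw [at_eq_pieceX 𝓔 hi, at_eq_pieceX (ParSh.Str.mk 𝓔.l pcF btF 𝓔.wt hF0' haF hbF 𝓔.wt_strictMono
      𝓔.wt_nonneg 𝓔.wt_lt_one) (i := i) hi, ← hqu] at h
    simpa only [Category.assoc] using h
  have e1 : ∀ i : Fin (𝓔.l + 2), ∀ᶠ m : ℕ in atTop,
      val ((𝓔.coinduced q).pieceX i) m ≤ val (((ParSh.Str.mk 𝓔.l pcF btF 𝓔.wt hF0' haF hbF 𝓔.wt_strictMono 𝓔.wt_nonneg 𝓔.wt_lt_one).induced u).pieceX i) m := fun i => by
    refine eventually_eval_le ?_
    have h := hilb_mono k hL (Subobject.ofLE _ _ (hBC i)) (cB i) (cC i)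
    rw [polyLE_iff, hs, hs, h, add_sub_cancel_left]
    have := hilb_nonneg k hL (Groth.Agent.HilbPolyX.isCoh_of_monoCokernel
      (Subobject.ofLE _ _ (hBC i)) (cB i) (cC i))
    rwa [polyLE_iff, sub_zero] at this
  have e2 : ∀ i : Fin (𝓔.l + 2), ∀ᶠ m : ℕ in atTop,
      val (((ParSh.Str.mk 𝓔.l pcF btF 𝓔.wt hF0' haF hbF 𝓔.wt_strictMono 𝓔.wt_nonneg 𝓔.wt_lt_one).induced u).pieceX i) m ≤ val (((ParSh.Str.mk 𝓔.l pcF btF 𝓔.wt hF0' haF hbF 𝓔.wt_strictMono 𝓔.wt_nonneg 𝓔.wt_lt_one).induced T.arrow).pieceX i) m := fun i =>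
    eventually_eval_le (exists_mono_induced_of_le k hL u T.arrow (Subobject.ofMkLE u T hST)
      (Subobject.ofMkLE_arrow hST) hV hT hF hcF i)
  -- the multiplicities
  have hα : StabCat.alpha d P = StabCat.alpha d (hilb k L K) + StabCat.alpha d (hilb k L V) := by
    rw [eq_hilb k hL hE hP, hilb_add k hL hse hK hE hV, alpha_add]
  have hαP : (0 : ℝ) < (StabCat.alpha d P : ℝ) := by
    rw [eq_hilb k hL hE hP]; exact_mod_cast alpha_pos_of_isPure k hL hE hE0 hEp
  have hαR : (0 : ℝ) < (StabCat.alpha d R : ℝ) := by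
    rw [eq_hilb k hL hF hR]; exact_mod_cast alpha_pos_of_isPure k hL hF hF0 hFp
  have hPXv : ∀ (i : Fin (𝓔.l + 2)) (m : ℕ), (((PX i).eval (m : ℚ) : ℚ) : ℝ) = val (𝓔.pieceX i) m :=
    fun i m => by rw [eq_hilb k hL (hcE i) (hPX i)]
  -- semistability of the source on the kernel
  have e3 : ∀ᶠ m : ℕ in atTop, comb 𝓔 (fun i => val ((𝓔.induced j).pieceX i) m) * (StabCat.alpha d P : ℝ) ≤
      (W4swparbununimod.parPoly 𝓔 PX).eval (m : ℝ) * (StabCat.alpha d (hilb k L K) : ℝ) := by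
    by_cases hz : IsZero K
    · refine Eventually.of_forall fun m => ?_
      have h0 : ∀ i, val ((𝓔.induced j).pieceX i) m = 0 := fun i => by
        simp only [val, hs, hilb_eq_zero_of_isZero k hL (IsZero.of_mono ((𝓔.induced j).pieceX i).arrow hz),
          Polynomial.eval_zero, Rat.cast_zero]
      have hc : comb 𝓔 (fun i => val ((𝓔.induced j).pieceX i) m) = 0 :=
        (congrArg (comb 𝓔) (funext h0)).trans (by simp [comb])
      rw [hc]
      simp [hilb_eq_zero_of_isZero k hL hz, StabCat.alpha]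
    · obtain ⟨M, hM⟩ := hssE K j inferInstance hK hz hKp _ (fun i => hs k L ((𝓔.induced j).pieceX i))
        (isHilbPoly_hilb k hL hK) fun i => isHilbPoly_hilb k hL (cA i)
      exact eventually_atTop.2 ⟨M, fun m hm =>
        le_of_eq_of_le (congrArg (· * _) (eval_parPoly_eq_comb (𝓔.induced j)
          (fun i => hs k L ((𝓔.induced j).pieceX i)) m).symm) (hM m hm)⟩
  -- semistability of the target on the saturation
  have e4 : ∀ᶠ m : ℕ in atTop, comb 𝓔 (fun i => val (((ParSh.Str.mk 𝓔.l pcF btF 𝓔.wt hF0' haF hbF 𝓔.wt_strictMono 𝓔.wt_nonneg 𝓔.wt_lt_one).induced T.arrow).pieceX i) m) * (StabCat.alpha d R : ℝ) ≤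
      (W4swparbununimod.parPoly (ParSh.Str.mk 𝓔.l pcF btF 𝓔.wt hF0' haF hbF 𝓔.wt_strictMono 𝓔.wt_nonneg 𝓔.wt_lt_one) RX).eval (m : ℝ) * (StabCat.alpha d (hilb k L V) : ℝ) := by
    rw [hTe]
    by_cases hz : IsZero (T : X.Modules)
    · refine Eventually.of_forall fun m => ?_
      have h0 : ∀ i : Fin (𝓔.l + 2), val (((ParSh.Str.mk 𝓔.l pcF btF 𝓔.wt hF0' haF hbF 𝓔.wt_strictMono 𝓔.wt_nonneg 𝓔.wt_lt_one).induced T.arrow).pieceX i) m = 0 := fun i => by
        simp only [val, hs, hilb_eq_zero_of_isZero k hL (IsZero.of_mono (((ParSh.Str.mk 𝓔.l pcF btF 𝓔.wt hF0' haF hbF 𝓔.wt_strictMono 𝓔.wt_nonneg 𝓔.wt_lt_one).induced T.arrow).pieceX i).arrow hz),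
          Polynomial.eval_zero, Rat.cast_zero]
      have hc : comb 𝓔 (fun i => val (((ParSh.Str.mk 𝓔.l pcF btF 𝓔.wt hF0' haF hbF 𝓔.wt_strictMono 𝓔.wt_nonneg 𝓔.wt_lt_one).induced T.arrow).pieceX i) m) = 0 :=
        (congrArg (comb 𝓔) (funext h0)).trans (by simp [comb])
      rw [hc]
      simp [hs, hilb_eq_zero_of_isZero k hL hz, StabCat.alpha]
    · obtain ⟨M, hM⟩ := hssF _ T.arrow inferInstance hT hz hTp _ (fun i => hs k L (((ParSh.Str.mk 𝓔.l pcF btF 𝓔.wt hF0' haF hbF 𝓔.wt_strictMono 𝓔.wt_nonneg 𝓔.wt_lt_one).induced T.arrow).pieceX i))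
        (isHilbPoly_hilb k hL hT) fun i => isHilbPoly_hilb k hL (cT i)
      exact eventually_atTop.2 ⟨M, fun m hm =>
        le_of_eq_of_le (congrArg (· * _) (eval_parPoly_eq_comb ((ParSh.Str.mk 𝓔.l pcF btF 𝓔.wt hF0' haF hbF 𝓔.wt_strictMono 𝓔.wt_nonneg 𝓔.wt_lt_one).induced T.arrow)
          (fun i => hs k L (((ParSh.Str.mk 𝓔.l pcF btF 𝓔.wt hF0' haF hbF 𝓔.wt_strictMono 𝓔.wt_nonneg 𝓔.wt_lt_one).induced T.arrow).pieceX i)) m).symm) (hM m hm)⟩
  have key : ∀ᶠ m : ℕ in atTop,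
      comb 𝓔 (fun i => val ((𝓔.induced j).pieceX i) m) * (StabCat.alpha d P : ℝ) =
          (W4swparbununimod.parPoly 𝓔 PX).eval (m : ℝ) * (StabCat.alpha d (hilb k L K) : ℝ) ∧
        (∀ i : Fin (𝓔.l + 2), val ((𝓔.coinduced q).pieceX i) m = val (((ParSh.Str.mk 𝓔.l pcF btF 𝓔.wt hF0' haF hbF 𝓔.wt_strictMono 𝓔.wt_nonneg 𝓔.wt_lt_one).induced u).pieceX i) m) ∧
        (∀ i : Fin (𝓔.l + 2), val (((ParSh.Str.mk 𝓔.l pcF btF 𝓔.wt hF0' haF hbF 𝓔.wt_strictMono 𝓔.wt_nonneg 𝓔.wt_lt_one).induced u).pieceX i) m = val (((ParSh.Str.mk 𝓔.l pcF btF 𝓔.wt hF0' haF hbF 𝓔.wt_strictMono 𝓔.wt_nonneg 𝓔.wt_lt_one).induced T.arrow).pieceX i) m) := by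
    filter_upwards [e3, e4, eventually_all.2 e1, eventually_all.2 e2] with m h3 h4 h1 h2
    have hred' := congrArg (Polynomial.eval (m : ℝ)) hred
    simp only [Polynomial.eval_mul, Polynomial.eval_C] at hred'
    have hsum : (W4swparbununimod.parPoly 𝓔 PX).eval (m : ℝ) =
        comb 𝓔 (fun i => val ((𝓔.induced j).pieceX i) m) +
          comb 𝓔 (fun i => val ((𝓔.coinduced q).pieceX i) m) := by
      rw [eval_parPoly_eq_comb, ← comb_add]
      exact congrArg (comb 𝓔) (funext fun i => (hPXv i m).trans (hEA i m))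
    have hαR' : ((StabCat.alpha d P : ℚ) : ℝ) = (StabCat.alpha d (hilb k L K) : ℝ) +
        (StabCat.alpha d (hilb k L V) : ℝ) := by exact_mod_cast hα
    set a := comb 𝓔 (fun i => val ((𝓔.induced j).pieceX i) m)
    set b := comb 𝓔 (fun i => val ((𝓔.coinduced q).pieceX i) m) with hb
    set c := comb 𝓔 (fun i => val (((ParSh.Str.mk 𝓔.l pcF btF 𝓔.wt hF0' haF hbF 𝓔.wt_strictMono 𝓔.wt_nonneg 𝓔.wt_lt_one).induced u).pieceX i) m) with hc
    set t := comb 𝓔 (fun i => val (((ParSh.Str.mk 𝓔.l pcF btF 𝓔.wt hF0' haF hbF 𝓔.wt_strictMono 𝓔.wt_nonneg 𝓔.wt_lt_one).induced T.arrow).pieceX i) m) with ht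
    have hbc : b ≤ c := comb_mono 𝓔 h1
    have hct : c ≤ t := comb_mono 𝓔 h2
    have a4 := mul_le_mul_of_nonneg_right h4 hαP.le
    have a3 := mul_le_mul_of_nonneg_right h3 hαR.le
    have a2 := mul_le_mul_of_nonneg_right (mul_le_mul_of_nonneg_right hct hαR.le) hαP.le
    have a1 := mul_le_mul_of_nonneg_right (mul_le_mul_of_nonneg_right hbc hαR.le) hαP.le
    have tot : (a + b) * (StabCat.alpha d P : ℝ) * (StabCat.alpha d R : ℝ) =
        (W4swparbununimod.parPoly 𝓔 PX).eval (m : ℝ) * (StabCat.alpha d (hilb k L K) : ℝ) *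
            (StabCat.alpha d R : ℝ) +
          (W4swparbununimod.parPoly (ParSh.Str.mk 𝓔.l pcF btF 𝓔.wt hF0' haF hbF 𝓔.wt_strictMono 𝓔.wt_nonneg 𝓔.wt_lt_one) RX).eval (m : ℝ) * (StabCat.alpha d (hilb k L V) : ℝ) *
            (StabCat.alpha d P : ℝ) := by
      rw [mul_right_comm ((W4swparbununimod.parPoly (ParSh.Str.mk 𝓔.l pcF btF 𝓔.wt hF0' haF hbF 𝓔.wt_strictMono 𝓔.wt_nonneg 𝓔.wt_lt_one) RX).eval (m : ℝ)), ← hred', ← hsum, hαR']
      ring
    have q0 : a * (StabCat.alpha d P : ℝ) * (StabCat.alpha d R : ℝ) =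
        (W4swparbununimod.parPoly 𝓔 PX).eval (m : ℝ) * (StabCat.alpha d (hilb k L K) : ℝ) *
            (StabCat.alpha d R : ℝ) := by linarith
    have q1 : b * (StabCat.alpha d R : ℝ) * (StabCat.alpha d P : ℝ) =
        c * (StabCat.alpha d R : ℝ) * (StabCat.alpha d P : ℝ) := by linarith
    have q2 : c * (StabCat.alpha d R : ℝ) * (StabCat.alpha d P : ℝ) =
        t * (StabCat.alpha d R : ℝ) * (StabCat.alpha d P : ℝ) := by linarith
    refine ⟨mul_right_cancel₀ hαR.ne' q0, ?_, ?_⟩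
    · exact congrFun (eq_of_comb_eq 𝓔 hw0 h1
        (mul_right_cancel₀ hαR.ne' (mul_right_cancel₀ hαP.ne' q1)))
    · exact congrFun (eq_of_comb_eq 𝓔 hw0 h2
        (mul_right_cancel₀ hαR.ne' (mul_right_cancel₀ hαP.ne' q2)))
  obtain ⟨M, hM⟩ := eventually_atTop.1 key
  refine ⟨fun QK QKX hQK hQKX => ?_, ?_, ?_⟩
  · refine poly_eq_of_eventually (M := M) fun m hm => ?_
    simp only [Polynomial.eval_mul, Polynomial.eval_C]
    rw [eq_hilb k hL hK hQK]
    have hh : (W4swparbununimod.parPoly (𝓔.induced j) QKX).eval (m : ℝ) =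
        comb 𝓔 (fun i => val ((𝓔.induced j).pieceX i) m) := by
      have hf : (fun i : Fin (𝓔.l + 2) => (((QKX i).eval (m : ℚ) : ℚ) : ℝ)) =
          fun i => val ((𝓔.induced j).pieceX i) m := funext fun i => by
        simp only [val]
        rw [eq_hilb k hL (cA i) (hQKX i)]
      exact (eval_parPoly_eq_comb (𝓔.induced j) QKX m).trans (congrArg (comb 𝓔) hf)
    rw [hh]
    exact (hM m hm).1
  · have h0 : hilb k L V = hs k L T := by
      refine poly_eq_of_eventually (M := M) fun m hm => ?_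
      have h := (hM m hm).2.2 0
      simp only [val] at h
      rw [show ((ParSh.Str.mk 𝓔.l pcF btF 𝓔.wt hF0' haF hbF 𝓔.wt_strictMono 𝓔.wt_nonneg 𝓔.wt_lt_one).induced u).pieceX (0 : Fin (𝓔.l + 2)) = ⊤ from pieceX_zero ((ParSh.Str.mk 𝓔.l pcF btF 𝓔.wt hF0' haF hbF 𝓔.wt_strictMono 𝓔.wt_nonneg 𝓔.wt_lt_one).induced u),
        show ((ParSh.Str.mk 𝓔.l pcF btF 𝓔.wt hF0' haF hbF 𝓔.wt_strictMono 𝓔.wt_nonneg 𝓔.wt_lt_one).induced T.arrow).pieceX (0 : Fin (𝓔.l + 2)) = ⊤ from
          pieceX_zero ((ParSh.Str.mk 𝓔.l pcF btF 𝓔.wt hF0' haF hbF 𝓔.wt_strictMono 𝓔.wt_nonneg 𝓔.wt_lt_one).induced T.arrow)] at h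
      have h' : (hs k L (⊤ : Subobject V)).eval (m : ℚ) =
          (hs k L (⊤ : Subobject (T : X.Modules))).eval (m : ℚ) := by exact_mod_cast h
      rwa [hs_top k hL hV, hs_top k hL hT] at h'
    have hTu : Subobject.mk u = T :=
      eq_of_le_of_hs_eq k hL hST (isCohSub_mk u hV) hT ((hs_mk k hL u hV).trans h0)
    subst hTu
    exact isPure_of_mono hTp (cokernel.mapIso u (Subobject.mk u).arrow (Subobject.underlyingIso u).symm
      (Iso.refl _) (by simp)).hom
  · intro a _ _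
    obtain ⟨i, hi⟩ := exists_isIndex 𝓔 a
    rw [at_eq_pieceX (𝓔.coinduced q) (i := i) hi, at_eq_pieceX ((ParSh.Str.mk 𝓔.l pcF btF 𝓔.wt hF0' haF hbF 𝓔.wt_strictMono 𝓔.wt_nonneg 𝓔.wt_lt_one).induced u) (i := i) hi]
    refine eq_of_le_of_hs_eq k hL (hBC i) (cB i) (cC i) ?_
    refine poly_eq_of_eventually (M := M) fun m hm => ?_
    have h := (hM m hm).2.1 i
    simp only [val] at h
    exact_mod_cast h

end Groth.Agent.S18529
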