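import Groth.Statements.S18532
import Groth.Agent.ParShLib.One
-- import your own Groth.Agent.* helpers here

set_option autoImplicit false
universe u
open CategoryTheory CategoryTheory.Limits AlgebraicGeometry Polynomial
open ParSh

namespace Groth.Agent.S18532

/-- The comparison of the second and first modified parabolic Hilbert polynomials for one test subsheaf.
Let X be a scheme proper over a field k with an ample invertible sheaf L, I the ideal of an
effective Cartier divisor D on X, d ≥ 1, and E a nonzero coherent O_X-module, pure of dimension d,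
with Supp E ∩ Supp D of topological Krull dimension less than d, carrying a finite weighted
filtration 𝓔 along I by coherent pieces E = E₀ ⊇ ⋯ ⊇ E_{l+1} = I·E, weights 0 ≤ w₀ < ⋯ < w_l < 1,
w_{l+1} := 1. Let P be the Hilbert polynomial of E, P_j of E_j, H_j of E/E_j with α_{d−1}(H_j) ≠ 0
for 1 ≤ j ≤ l+1, and Par_E = P_{l+1} + Σ_j w_j (P_j − P_{j+1}). Let ι : W → E be a monomorphism from
a coherent module W with induced filtration W_j = W ∩ E_j, Q the Hilbert polynomial of W and K_j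
that of W/W_j; put par-P₁(W ⊂ E) = Q − Σ_{j=1}^{l+1} (w_j − w_{j−1})·(α_{d−1}(K_j)/α_{d−1}(H_j))·H_j
and par-P₂(W ⊂ E)(x, y) = Q(x) − Σ_{j=1}^{l+1} (w_j − w_{j−1})·(K_j(y)/H_j(y))·H_j(x). Then: (i) if
there is M such that for every m ≥ M there is N with par-P₂(W ⊂ E)(m, n)·P(n) ≤ Par_E(m)·Q(n) for
all n ≥ N, then par-P₁(W ⊂ E)(m)·α_d(P) ≤ Par_E(m)·α_d(Q) for all large m; (ii) if par-P₁(W ⊂
E)(m)·α_d(P) < Par_E(m)·α_d(Q) for all large m, then there is M such that for every m ≥ M there is N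
with par-P₂(W ⊂ E)(m, n)·P(n) < Par_E(m)·Q(n) for all n ≥ N. With W running over the nonzero
saturated (proper) sub-modules this is the published implication p₂-semistable ⇒ p₁-semistable,
p₁-stable ⇒ p₂-stable; the further implications to and from parabolic slope-(semi)stability in the
published statement are not part of this row. -/
theorem result (k : Type u) [Field k] (X : Scheme.{u})
    [X.Over (Spec (CommRingCat.of k))] [IsProper (X ↘ Spec (CommRingCat.of k))]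
    (L : X.Modules) (hL : CohB1.IsAmple L) (I : X.IdealSheafData) (hD : FGA.IsEffCartier I)
    (E : X.Modules) (hE : Coh.IsCoh E) (𝓔 : ParSh.Str E) (h𝓔 : 𝓔.Along I)
    (hcoh : ∀ j, Coh.IsCoh ((𝓔.pieceX j : Subobject E) : X.Modules)) (d : ℕ) (hd : 1 ≤ d)
    (hsupp : topologicalKrullDim ↥(CohB1.support E ∩ (I.support : Set X)) < (d : WithBot ℕ∞))
    (h0 : ¬ IsZero E) (hpure : ShStab.IsPure X E d)
    (P : ℚ[X]) (hP : ShStab.IsHilbPoly k X L E P) (PX : Fin (𝓔.l + 2) → ℚ[X])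
    (hPX : ∀ j, ShStab.IsHilbPoly k X L ((𝓔.pieceX j : Subobject E) : X.Modules) (PX j))
    (H : Fin (𝓔.l + 2) → ℚ[X]) (hH : ∀ j, ShStab.IsHilbPoly k X L (cokernel (𝓔.pieceX j).arrow) (H j))
    (hHa : ∀ j : Fin (𝓔.l + 1), StabCat.alpha (d - 1) (H j.succ) ≠ 0)
    {W : X.Modules} (ι : W ⟶ E) [Mono ι] (hW : Coh.IsCoh W)
    (Q : ℚ[X]) (hQ : ShStab.IsHilbPoly k X L W Q) (QH : Fin (𝓔.l + 2) → ℚ[X])
    (hQH : ∀ j, ShStab.IsHilbPoly k X L (cokernel ((𝓔.induced ι).pieceX j).arrow) (QH j)) :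
    ((∃ M : ℕ, ∀ m : ℕ, M ≤ m → ∃ N : ℕ, ∀ n : ℕ, N ≤ n →
        (((Q.eval (m : ℚ) : ℚ) : ℝ) -
            ∑ j : Fin (𝓔.l + 1), (𝓔.wtX j.succ - 𝓔.wtX j.castSucc) *
              ((((QH j.succ).eval (n : ℚ) / (H j.succ).eval (n : ℚ) : ℚ) : ℝ) * (((H j.succ).eval (m : ℚ) : ℚ) : ℝ))) *
          ((P.eval (n : ℚ) : ℚ) : ℝ) ≤
        (W4swparbununimod.parPoly 𝓔 PX).eval (m : ℝ) * ((Q.eval (n : ℚ) : ℚ) : ℝ)) →
      ∃ M : ℕ, ∀ m : ℕ, M ≤ m →
        (W4swparbununimod.parPolyOne 𝓔 d Q QH H).eval (m : ℝ) * (StabCat.alpha d P : ℝ) ≤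
          (W4swparbununimod.parPoly 𝓔 PX).eval (m : ℝ) * (StabCat.alpha d Q : ℝ)) ∧
    ((∃ M : ℕ, ∀ m : ℕ, M ≤ m →
        (W4swparbununimod.parPolyOne 𝓔 d Q QH H).eval (m : ℝ) * (StabCat.alpha d P : ℝ) <
          (W4swparbununimod.parPoly 𝓔 PX).eval (m : ℝ) * (StabCat.alpha d Q : ℝ)) →
      ∃ M : ℕ, ∀ m : ℕ, M ≤ m → ∃ N : ℕ, ∀ n : ℕ, N ≤ n →
        (((Q.eval (m : ℚ) : ℚ) : ℝ) -
            ∑ j : Fin (𝓔.l + 1), (𝓔.wtX j.succ - 𝓔.wtX j.castSucc) *
              ((((QH j.succ).eval (n : ℚ) / (H j.succ).eval (n : ℚ) : ℚ) : ℝ) * (((H j.succ).eval (m : ℚ) : ℚ) : ℝ))) *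
          ((P.eval (n : ℚ) : ℚ) : ℝ) <
        (W4swparbununimod.parPoly 𝓔 PX).eval (m : ℝ) * ((Q.eval (n : ℚ) : ℚ) : ℝ)) := by
  open Groth.Agent.ParShLib Groth.Agent.HilbPolyX Groth.Agent.ShStabLib Filter in
  have hcW : ∀ j, Coh.IsCoh (((𝓔.induced ι).pieceX j : Subobject W) : X.Modules) :=
    isCoh_induced k ι hW hE hcoh
  have hdE : topologicalKrullDim ↥(CohB1.support E) ≤ (d : WithBot ℕ∞) := (dim_of_isPure hE h0 hpure).le
  have hP' := eq_hilb k hL hE hP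
  have hQ' := eq_hilb k hL hW hQ
  have hPd : P.natDegree ≤ d := hP' ▸ natDegree_hilb_le k hL hE hdE
  have hQd : Q.natDegree ≤ d := hQ' ▸ natDegree_hilb_le k hL hW (dim_le_of_mono ι hdE)
  have hQHd : ∀ j, (QH j).natDegree ≤ d - 1 := fun j => by
    have hc := Groth.Agent.HilbPolyX.isCoh_of_monoCokernel ((𝓔.induced ι).pieceX j).arrow (hcW j) hW
    rw [show QH j = hilb k L (cokernel ((𝓔.induced ι).pieceX j).arrow) from eq_hilb k hL hc (hQH j)]
    exact natDegree_hilb_le k hL hc (dim_le_pred (dim_coker_induced_lt h𝓔 hsupp ι j))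
  have hHd : ∀ j, (H j).natDegree ≤ d - 1 := fun j => by
    have hc := Groth.Agent.HilbPolyX.isCoh_of_monoCokernel (𝓔.pieceX j).arrow (hcoh j) hE
    rw [eq_hilb k hL hc (hH j)]
    exact natDegree_hilb_le k hL hc (dim_le_pred (dim_coker_piece_lt h𝓔 hsupp j))
  have hHc : ∀ j : Fin (𝓔.l + 1), (H j.succ).coeff (d - 1) ≠ 0 := fun j => by
    have := hHa j
    simp only [StabCat.alpha] at this
    exact right_ne_zero_of_mul this
  -- the two sides of `p₂`, divided by `n ^ d`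
  have hlim : ∀ m : ℕ, Tendsto (fun n : ℕ => (((Q.eval (m : ℚ) : ℚ) : ℝ) -
        ∑ j : Fin (𝓔.l + 1), (𝓔.wtX j.succ - 𝓔.wtX j.castSucc) *
          ((((QH j.succ).eval (n : ℚ) / (H j.succ).eval (n : ℚ) : ℚ) : ℝ) *
            (((H j.succ).eval (m : ℚ) : ℚ) : ℝ))) * (((P.eval (n : ℚ) : ℚ) : ℝ) / (n : ℝ) ^ d))
      atTop (nhds ((W4swparbununimod.parPolyOne 𝓔 d Q QH H).eval (m : ℝ) * (P.coeff d : ℝ))) := fun m => by
    refine Tendsto.mul ?_ ?_
    · simp only [W4swparbununimod.parPolyOne, Polynomial.eval_sub, Polynomial.eval_finsetSum,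
        Polynomial.eval_mul, Polynomial.eval_C, eval_rpoly, mul_assoc]
      refine tendsto_const_nhds.sub (tendsto_finsetSum _ fun j _ => Tendsto.const_mul _ ?_)
      refine Tendsto.mul_const _ ?_
      rw [alpha_div_alpha]
      exact tendsto_ratio (hQHd _) (hHd _) (hHc j)
    · simpa only [eval_rpoly, coeff_rpoly] using
        tendsto_eval_div_pow (W4swparbununimod.rpoly P) (Polynomial.natDegree_map_le.trans hPd)
  have hlimR : ∀ m : ℕ, Tendsto (fun n : ℕ => (W4swparbununimod.parPoly 𝓔 PX).eval (m : ℝ) *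
        (((Q.eval (n : ℚ) : ℚ) : ℝ) / (n : ℝ) ^ d)) atTop
      (nhds ((W4swparbununimod.parPoly 𝓔 PX).eval (m : ℝ) * (Q.coeff d : ℝ))) := fun m =>
    Tendsto.const_mul _ (by simpa only [eval_rpoly, coeff_rpoly] using tendsto_eval_div_pow (W4swparbununimod.rpoly Q) (Polynomial.natDegree_map_le.trans hQd))
  have hf : (0 : ℝ) < (d.factorial : ℝ) := by exact_mod_cast d.factorial_pos
  have hα : ∀ R : ℚ[X], ((StabCat.alpha d R : ℚ) : ℝ) = (d.factorial : ℝ) * (R.coeff d : ℝ) :=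
    fun R => by simp [StabCat.alpha]
  refine ⟨fun ⟨M, hM⟩ => ⟨M, fun m hm => ?_⟩, fun ⟨M, hM⟩ => ⟨M, fun m hm => ?_⟩⟩
  · obtain ⟨N, hN⟩ := hM m hm
    have h := le_of_tendsto_of_tendsto (hlim m) (hlimR m) (eventually_atTop.2 ⟨max N 1, fun n hn => by
      show _ * (_ / _) ≤ _ * (_ / _)
      rw [← mul_div_assoc, ← mul_div_assoc]
      exact div_le_div_of_nonneg_right (hN n (le_of_max_le_left hn)) (by positivity)⟩)
    rw [hα, hα]
    nlinarith [mul_le_mul_of_nonneg_left h hf.le]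
  · have h := hM m hm
    rw [hα, hα] at h
    have h' : (W4swparbununimod.parPolyOne 𝓔 d Q QH H).eval (m : ℝ) * (P.coeff d : ℝ) <
        (W4swparbununimod.parPoly 𝓔 PX).eval (m : ℝ) * (Q.coeff d : ℝ) :=
      lt_of_mul_lt_mul_left (by linarith) hf.le
    obtain ⟨N, hN⟩ := eventually_atTop.1 ((hlim m).eventually_lt (hlimR m) h')
    refine ⟨max N 1, fun n hn => ?_⟩
    have h2 := hN n (le_of_max_le_left hn)
    rw [← mul_div_assoc, ← mul_div_assoc] at h2
    exact (div_lt_div_iff_of_pos_right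
      (pow_pos (by exact_mod_cast (le_of_max_le_right hn)) d)).1 h2

end Groth.Agent.S18532
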