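import Groth.Statements.S18534
import Groth.Agent.EtRamLib.GaloisLoc
import Groth.Agent.EtStruct.Completion
import Groth.Agent.EGA4Lib.AdicFibres

set_option autoImplicit false
universe u
open scoped Pointwise
open EtAlg

namespace Groth.Agent.S18534

open IsLocalRing

/-- the completed extension is Galois, abstract form -/
theorem key {A T SQ D : Type u} [CommRing A] [IsLocalRing A] [IsNoetherianRing A] [CommRing T] [Algebra A T]
    [CommRing SQ] [IsLocalRing SQ] [IsNoetherianRing SQ] [Group D] (QT : Ideal T) (τ : D → T →+* T)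
    [MulSemiringAction D (EGA4.Cpl SQ)] [Algebra (EGA4.Cpl A) (EGA4.Cpl SQ)]
    (ι : T →+* EGA4.Cpl SQ) (hA : ∀ a : A, algebraMap (EGA4.Cpl A) (EGA4.Cpl SQ) (algebraMap A (EGA4.Cpl A) a) = ι (algebraMap A T a))
    (hmQ : (maximalIdeal A).map (algebraMap A T) ≤ QT) (hact : ∀ d t, d • ι t = ι (τ d t))
    (hfix : ∀ d (a : A), τ d (algebraMap A T a) = algebraMap A T a)
    (hle : QT.map ι ≤ maximalIdeal (EGA4.Cpl SQ))
    (hback : ∀ n t, ι t ∈ maximalIdeal (EGA4.Cpl SQ) ^ n → t ∈ QT ^ n)
    (happ : ∀ n (x : EGA4.Cpl SQ), ∃ t, x - ι t ∈ maximalIdeal (EGA4.Cpl SQ) ^ n)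
    (happrox : ∀ n, ∃ N, ∀ t : T, (∀ d, τ d t - t ∈ QT ^ N) → ∃ a : A, t - algebraMap A T a ∈ QT ^ n)
    (hdesc : ∀ n, ∃ N, ∀ a : A, algebraMap A T a ∈ QT ^ N → a ∈ maximalIdeal A ^ n) :
    SMulCommClass D (EGA4.Cpl A) (EGA4.Cpl SQ) ∧ Algebra.IsInvariant (EGA4.Cpl A) (EGA4.Cpl SQ) D := by
  haveI : IsAdicComplete (maximalIdeal (EGA4.Cpl A)) (EGA4.Cpl A) := inferInstance
  haveI : IsAdicComplete (maximalIdeal (EGA4.Cpl SQ)) (EGA4.Cpl SQ) := inferInstance
  set φ := algebraMap (EGA4.Cpl A) (EGA4.Cpl SQ)
  set mS := maximalIdeal (EGA4.Cpl SQ)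
  have hφ : (maximalIdeal (EGA4.Cpl A)).map φ ≤ mS := by
    rw [AdicCompletion.maximalIdeal_eq_map, Ideal.map_map, Ideal.map_le_iff_le_comap]
    intro a ha
    rw [Ideal.mem_comap, RingHom.comp_apply, hA]
    exact hle (Ideal.mem_map_of_mem ι (hmQ (Ideal.mem_map_of_mem _ ha)))
  have hφn : ∀ n, ∀ y ∈ maximalIdeal (EGA4.Cpl A) ^ n, φ y ∈ mS ^ n := fun n y hy ↦ by
    have := Ideal.mem_map_of_mem φ hy
    rw [Ideal.map_pow] at this
    exact Ideal.pow_right_mono hφ n this
  have hιn : ∀ n, ∀ t ∈ QT ^ n, ι t ∈ mS ^ n := fun n t ht ↦ by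
    have := Ideal.mem_map_of_mem ι ht
    rw [Ideal.map_pow] at this
    exact Ideal.pow_right_mono hle n this
  have hdn : ∀ (d : D) n, ∀ y ∈ mS ^ n, d • y ∈ mS ^ n := fun d n y hy ↦ by
    have h1 : mS.map (MulSemiringAction.toRingHom D (EGA4.Cpl SQ) d) ≤ mS := by
      rw [Ideal.map_le_iff_le_comap]
      intro z hz hu
      refine hz ?_
      have := hu.map (MulSemiringAction.toRingHom D (EGA4.Cpl SQ) d⁻¹)
      simpa using this
    have := Ideal.mem_map_of_mem (MulSemiringAction.toRingHom D (EGA4.Cpl SQ) d) hy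
    rw [Ideal.map_pow] at this
    exact Ideal.pow_right_mono h1 n this
  have hsep : ∀ y : EGA4.Cpl SQ, (∀ n, y ∈ mS ^ n) → y = 0 := fun y hy ↦
    IsHausdorff.haus' (I := mS) y fun n ↦ by
      rw [SModEq.sub_mem, sub_zero, smul_eq_mul, Ideal.mul_top]
      exact hy n
  have hcomm : ∀ (d : D) (a : EGA4.Cpl A), d • φ a = φ a := by
    intro d a
    rw [← sub_eq_zero]
    refine hsep _ fun n ↦ ?_
    obtain ⟨r, hr⟩ := Groth.Agent.EGA4Lib.completion_exists_sub_mem_pow (maximalIdeal A) n a
    rw [Ideal.map_pow, ← AdicCompletion.maximalIdeal_eq_map] at hr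
    have h1 := hφn n _ hr
    rw [map_sub, hA] at h1
    have h2 := hdn d n _ h1
    rw [smul_sub, hact, hfix] at h2
    have := sub_mem h2 h1
    rwa [sub_sub_sub_cancel_right] at this
  refine ⟨⟨fun d a y ↦ ?_⟩, ⟨fun x hx ↦ ?_⟩⟩
  · rw [Algebra.smul_def, Algebra.smul_def, smul_mul', hcomm]
  have step : ∀ n, ∃ a : A, x - φ (algebraMap A (EGA4.Cpl A) a) ∈ mS ^ n := by
    intro n
    obtain ⟨N, hN⟩ := happrox n
    obtain ⟨t, ht⟩ := happ (n + N) x
    obtain ⟨a, ha⟩ := hN t fun d ↦ hback N _ (by
      have h1 := Ideal.pow_le_pow_right (Nat.le_add_left N n) ht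
      have h2 := hdn d N _ h1
      rw [smul_sub, hx d, hact] at h2
      have := sub_mem h1 h2
      rwa [sub_sub_sub_cancel_left, ← map_sub] at this)
    refine ⟨a, ?_⟩
    have h3 := add_mem (Ideal.pow_le_pow_right (Nat.le_add_right n N) ht) (hιn n _ ha)
    rwa [map_sub, sub_add_sub_cancel, ← hA] at h3
  choose a ha using step
  choose Nd hNd using hdesc
  let f : ℕ → ℕ := fun n ↦ n + ∑ i ∈ Finset.range (n + 1), Nd i
  have hf : ∀ n, Nd n ≤ f n := fun n ↦
    (Finset.single_le_sum (f := Nd) (fun i _ ↦ Nat.zero_le _) (Finset.self_mem_range_succ n)).trans (Nat.le_add_left _ _)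
  have hmono : ∀ {i k}, i ≤ k → f i ≤ f k := fun {i k} h ↦ Nat.add_le_add h
    (Finset.sum_le_sum_of_subset (Finset.range_subset_range.2 (Nat.succ_le_succ h)))
  have hcauchy : ∀ {i k}, i ≤ k → a (f i) - a (f k) ∈ maximalIdeal A ^ i := fun {i k} h ↦ hNd i _ (hback _ _ (by
    have h1 := sub_mem (Ideal.pow_le_pow_right ((hf i).trans (hmono h)) (ha (f k))) (Ideal.pow_le_pow_right (hf i) (ha (f i)))
    rwa [sub_sub_sub_cancel_left, ← map_sub, ← map_sub, hA] at h1))
  obtain ⟨L, hL⟩ := IsPrecomplete.prec (inferInstance : IsPrecomplete (maximalIdeal (EGA4.Cpl A)) (EGA4.Cpl A))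
    (f := fun n ↦ algebraMap A (EGA4.Cpl A) (a (f n))) (fun {i k} h ↦ by
      rw [SModEq.sub_mem, smul_eq_mul, Ideal.mul_top, ← map_sub, AdicCompletion.maximalIdeal_eq_map, ← Ideal.map_pow]
      exact Ideal.mem_map_of_mem _ (hcauchy h))
  refine ⟨L, (sub_eq_zero.1 (hsep _ fun n ↦ ?_))⟩
  have h1 := hL n
  rw [SModEq.sub_mem, smul_eq_mul, Ideal.mul_top] at h1
  have h2 := hφn n _ h1
  rw [map_sub] at h2
  have h3 := Ideal.pow_le_pow_right (Nat.le_add_right n _) (ha (f n))
  have := neg_mem (add_mem h3 h2)
  rwa [sub_add_sub_cancel, neg_sub] at this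

/-- Let R be a normal domain which is excellent and S a normal domain containing R on which a finite
group G acts by R-algebra automorphisms, faithfully and with ring of invariants exactly R (so S is
the integral closure of R in a finite Galois extension of Frac R with group G), Q a prime of S lying
over the prime P of R, and D the decomposition group of Q (the stabilizer of Q in G). Equip the
completion of the local ring S_Q with an action of D by ring automorphisms extending the action of D
on S, and with an algebra structure over the completion of R_P compatible with R → S (both exist and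
are unique, by density and continuity). Then D is a Galois group for the completed extension: it
acts faithfully, linearly over the completion of R_P, and its ring of invariants is exactly the
image of the completion of R_P; equivalently the extension of fraction fields of the completed local
rings is Galois with group D. (Only the completions of the local rings R_P and S_Q are treated. For
the P-adic completion of R itself and the Q-adic completion of S the analogous finiteness fails:
with R = k[x,y], S = k[y,t], t² = x + y², char k ≠ 2 and Q = (t − y) over P = (x), the Q-adic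
completion k[y][[t − y]] is not finite over the (x)-adic completion k[y][[x]] and their fraction
fields form an extension of infinite degree.) -/
theorem result
    (R S G : Type u) [CommRing R] [CommRing S] [IsDomain R] [IsDomain S]
    [IsIntegrallyClosed R] [IsIntegrallyClosed S] (hR : EGA4.IsExcellent R)
    [Algebra R S] [FaithfulSMul R S]
    [Group G] [Finite G] [MulSemiringAction G S] [SMulCommClass G R S] [IsGaloisGroup G R S]
    (P : Ideal R) [P.IsPrime] (Q : Ideal S) [Q.IsPrime] [Q.LiesOver P]
    [MulSemiringAction (MulAction.stabilizer G Q) (EGA4.Cpl (Localization.AtPrime Q))]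
    (hact : ∀ (g : MulAction.stabilizer G Q) (s : S),
      g • algebraMap (Localization.AtPrime Q) (EGA4.Cpl (Localization.AtPrime Q)) (algebraMap S (Localization.AtPrime Q) s) =
        algebraMap (Localization.AtPrime Q) (EGA4.Cpl (Localization.AtPrime Q)) (algebraMap S (Localization.AtPrime Q) (g • s)))
    [Algebra (EGA4.Cpl (Localization.AtPrime P)) (EGA4.Cpl (Localization.AtPrime Q))]
    (halg : ∀ r : R,
      algebraMap (EGA4.Cpl (Localization.AtPrime P)) (EGA4.Cpl (Localization.AtPrime Q)) (algebraMap (Localization.AtPrime P) (EGA4.Cpl (Localization.AtPrime P)) (algebraMap R (Localization.AtPrime P) r)) =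
        algebraMap (Localization.AtPrime Q) (EGA4.Cpl (Localization.AtPrime Q)) (algebraMap S (Localization.AtPrime Q) (algebraMap R S r))) :
    IsGaloisGroup (MulAction.stabilizer G Q) (EGA4.Cpl (Localization.AtPrime P)) (EGA4.Cpl (Localization.AtPrime Q)) := by
  classical
  haveI : IsNoetherianRing R := hR.1
  haveI : Algebra.IsIntegral R S := Algebra.IsInvariant.isIntegral R S G
  haveI : Module.Finite R S := by
    letI := FractionRing.liftAlgebra R (FractionRing S)
    letI := IsFractionRing.mulSemiringAction G S (FractionRing S)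
    haveI : IsGaloisGroup G (FractionRing R) (FractionRing S) :=
      IsGaloisGroup.to_isFractionRing_of_isIntegral G R S (FractionRing R) (FractionRing S)
    haveI : FiniteDimensional (FractionRing R) (FractionRing S) := IsGaloisGroup.finiteDimensional G _ _
    haveI : IsGalois (FractionRing R) (FractionRing S) := IsGaloisGroup.isGalois G _ _
    haveI : IsIntegralClosure S R (FractionRing S) := IsIntegralClosure.of_isIntegrallyClosed S R (FractionRing S)
    exact IsIntegralClosure.finite R (FractionRing R) (FractionRing S) S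
  haveI : IsNoetherianRing S := IsNoetherianRing.of_finite R S
  haveI : IsNoetherianRing (Localization.AtPrime P) := IsLocalization.isNoetherianRing P.primeCompl _ hR.1
  haveI : IsNoetherianRing (Localization.AtPrime Q) := IsLocalization.isNoetherianRing Q.primeCompl _ inferInstance
  let T := Localization (Algebra.algebraMapSubmonoid S P.primeCompl)
  letI : Algebra (Localization.AtPrime P) T := localizationAlgebra P.primeCompl S
  haveI : IsScalarTower R (Localization.AtPrime P) T := IsScalarTower.of_algebraMap_eq fun r ↦ by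
    rw [IsScalarTower.algebraMap_apply R S T, RingHom.algebraMap_toAlgebra, IsLocalization.map_eq]
  haveI : Module.Finite (Localization.AtPrime P) T := Module.Finite.of_isLocalization R S P.primeCompl
  haveI : Algebra.IsIntegral (Localization.AtPrime P) T := Algebra.IsIntegral.of_finite _ _
  obtain ⟨σ, hσ⟩ := Groth.Agent.EtRamLib.GaloisLoc.exists_sigma R S G (Localization.AtPrime P) T P
  obtain ⟨hmax, hQc, hmQ, htrans, hstab⟩ := Groth.Agent.EtRamLib.GaloisLoc.setup (P := P) Q σ hσ
  set QT : Ideal T := Q.map (algebraMap S T) with hQT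
  haveI := hmax
  have hM : ∀ y : Algebra.algebraMapSubmonoid S P.primeCompl, IsUnit (algebraMap S (Localization.AtPrime Q) y) := by
    rintro ⟨_, r, hr, rfl⟩
    exact IsLocalization.map_units (M := Q.primeCompl) _ ⟨algebraMap R S r, fun h ↦ hr (by
      rw [Ideal.LiesOver.over (p := P) (P := Q)]; exact h)⟩
  let j : T →+* Localization.AtPrime Q := IsLocalization.lift hM
  have hj : ∀ s, j (algebraMap S T s) = algebraMap S (Localization.AtPrime Q) s := fun s ↦ IsLocalization.lift_eq hM s
  set e := algebraMap (Localization.AtPrime Q) (EGA4.Cpl (Localization.AtPrime Q)) with he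
  let ι : T →+* EGA4.Cpl (Localization.AtPrime Q) := e.comp j
  have hι : ∀ s, ι (algebraMap S T s) = e (algebraMap S (Localization.AtPrime Q) s) := fun s ↦ congrArg e (hj s)
  have hunit : ∀ (u : T), u ∉ QT → ∀ n, ∃ v, v * u - 1 ∈ QT ^ n := by
    intro u hu n
    have hc : IsCoprime (Ideal.span {u}) (QT ^ n) :=
      (Ideal.isCoprime_iff_sup_eq.2 (by
        rw [sup_comm]
        exact hmax.1.2 _ (lt_of_le_of_ne le_sup_left fun h ↦ hu (h ▸ Ideal.mem_sup_right (Ideal.mem_span_singleton_self u))))).pow_right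
    obtain ⟨i, hi, q, hq, hiq⟩ := Ideal.isCoprime_iff_exists.1 hc
    obtain ⟨v, rfl⟩ := Ideal.mem_span_singleton'.1 hi
    exact ⟨v, by rw [show v * u - 1 = -q by linear_combination hiq]; exact neg_mem hq⟩
  have hnQ : ∀ w : S, w ∉ Q → algebraMap S T w ∉ QT := fun w hw h ↦ hw (hQc ▸ h)
  have hle : QT.map ι ≤ maximalIdeal (EGA4.Cpl (Localization.AtPrime Q)) := by
    rw [hQT, Ideal.map_map, Ideal.map_le_iff_le_comap]
    intro s hs
    rw [Ideal.mem_comap, RingHom.comp_apply, hι, AdicCompletion.maximalIdeal_eq_map]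
    refine Ideal.mem_map_of_mem _ ?_
    rw [← IsLocalization.AtPrime.map_eq_maximalIdeal Q]
    exact Ideal.mem_map_of_mem _ hs
  have hmaxS : ∀ n, maximalIdeal (EGA4.Cpl (Localization.AtPrime Q)) ^ n = ((maximalIdeal (Localization.AtPrime Q)) ^ n).map e :=
    fun n ↦ by rw [AdicCompletion.maximalIdeal_eq_map, Ideal.map_pow]
  haveI : Module.FaithfullyFlat (Localization.AtPrime Q) (EGA4.Cpl (Localization.AtPrime Q)) :=
    Groth.Agent.EtStruct.Completion.faithfullyFlat _
  have hback : ∀ n t, ι t ∈ maximalIdeal (EGA4.Cpl (Localization.AtPrime Q)) ^ n → t ∈ QT ^ n := by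
    intro n t ht
    rw [hmaxS] at ht
    have h1 : j t ∈ maximalIdeal (Localization.AtPrime Q) ^ n := by
      rw [← Ideal.comap_map_eq_self_of_faithfullyFlat (B := EGA4.Cpl (Localization.AtPrime Q)) (maximalIdeal (Localization.AtPrime Q) ^ n)]
      exact ht
    obtain ⟨s, w, rfl⟩ := IsLocalization.exists_mk'_eq (Algebra.algebraMapSubmonoid S P.primeCompl) t
    have hwQ : (w : S) ∉ Q := fun h ↦
      Set.disjoint_left.1 (Groth.Agent.EtRamLib.GaloisLoc.disjoint_of_liesOver (P := P) Q) w.2 h
    have h2 : algebraMap S (Localization.AtPrime Q) s ∈ maximalIdeal (Localization.AtPrime Q) ^ n := by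
      rw [← hj, ← IsLocalization.mk'_spec T s w, map_mul]
      exact Ideal.mul_mem_right _ _ h1
    rw [← IsLocalization.AtPrime.map_eq_maximalIdeal Q, ← Ideal.map_pow,
      IsLocalization.algebraMap_mem_map_algebraMap_iff Q.primeCompl] at h2
    obtain ⟨u, hu, hus⟩ := h2
    obtain ⟨v, hv⟩ := hunit (algebraMap S T ((w : S) * u)) (hnQ _ (fun h ↦ (‹Q.IsPrime›.mem_or_mem h).elim hwQ hu)) n
    set t := IsLocalization.mk' T s w
    have h3 : t * algebraMap S T ((w : S) * u) ∈ QT ^ n := by
      rw [map_mul, ← mul_assoc, IsLocalization.mk'_spec, ← map_mul, mul_comm, hQT, ← Ideal.map_pow]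
      exact Ideal.mem_map_of_mem _ hus
    have := sub_mem (Ideal.mul_mem_left _ v h3) (Ideal.mul_mem_left _ t hv)
    rwa [show v * (t * algebraMap S T ((w : S) * u)) - t * (v * algebraMap S T ((w : S) * u) - 1) = t by ring] at this
  have happ : ∀ n (x : EGA4.Cpl (Localization.AtPrime Q)), ∃ t, x - ι t ∈ maximalIdeal (EGA4.Cpl (Localization.AtPrime Q)) ^ n := by
    intro n x
    obtain ⟨c, hc⟩ := Groth.Agent.EGA4Lib.completion_exists_sub_mem_pow (maximalIdeal (Localization.AtPrime Q)) n x
    rw [Ideal.map_pow, ← AdicCompletion.maximalIdeal_eq_map] at hc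
    obtain ⟨s, w, rfl⟩ := IsLocalization.exists_mk'_eq Q.primeCompl c
    obtain ⟨v, hv⟩ := hunit _ (hnQ _ w.2) n
    refine ⟨algebraMap S T s * v, ?_⟩
    have h1 : ι (v * algebraMap S T w - 1) ∈ maximalIdeal (EGA4.Cpl (Localization.AtPrime Q)) ^ n := by
      have := Ideal.mem_map_of_mem ι hv
      rw [Ideal.map_pow] at this
      exact Ideal.pow_right_mono hle n this
    have h2 := sub_mem hc (Ideal.mul_mem_left _ (e (IsLocalization.mk' _ s w)) h1)
    refine (Eq.mp (congrArg (· ∈ _) ?_) h2)
    rw [map_sub, map_mul, map_mul, map_one, hι, hι, ← IsLocalization.mk'_spec (Localization.AtPrime Q) s w, map_mul]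
    ring
  have hA : ∀ a : Localization.AtPrime P,
      algebraMap (EGA4.Cpl (Localization.AtPrime P)) (EGA4.Cpl (Localization.AtPrime Q))
        (algebraMap (Localization.AtPrime P) (EGA4.Cpl (Localization.AtPrime P)) a) = ι (algebraMap _ T a) := by
    intro a
    refine RingHom.congr_fun (IsLocalization.ringHom_ext P.primeCompl (RingHom.ext fun r ↦ ?_) :
      (algebraMap (EGA4.Cpl (Localization.AtPrime P)) (EGA4.Cpl (Localization.AtPrime Q))).comp
        (algebraMap (Localization.AtPrime P) (EGA4.Cpl (Localization.AtPrime P))) = ι.comp (algebraMap _ T)) a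
    change algebraMap _ _ (algebraMap _ _ (algebraMap R (Localization.AtPrime P) r)) =
      ι (algebraMap (Localization.AtPrime P) T (algebraMap R (Localization.AtPrime P) r))
    rw [← IsScalarTower.algebraMap_apply R (Localization.AtPrime P) T, IsScalarTower.algebraMap_apply R S T, hι, halg]
  have hT : Function.Injective (algebraMap (Localization.AtPrime P) T) := by
    intro a b h
    obtain ⟨r, u, rfl⟩ := IsLocalization.exists_mk'_eq P.primeCompl a
    obtain ⟨r', u', rfl⟩ := IsLocalization.exists_mk'_eq P.primeCompl b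
    have hinj : Function.Injective (algebraMap S T) :=
      IsLocalization.injective T (algebraMapSubmonoid_le_nonZeroDivisors_of_faithfulSMul _ P.primeCompl_le_nonZeroDivisors)
    rw [IsLocalization.mk'_eq_iff_eq]
    congr 1
    apply FaithfulSMul.algebraMap_injective R S
    apply hinj
    rw [← IsScalarTower.algebraMap_apply, ← IsScalarTower.algebraMap_apply,
      IsScalarTower.algebraMap_apply R (Localization.AtPrime P) T, IsScalarTower.algebraMap_apply R (Localization.AtPrime P) T,
      map_mul, map_mul, map_mul, map_mul, ← IsLocalization.mk'_spec' (Localization.AtPrime P) r u,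
      ← IsLocalization.mk'_spec' (Localization.AtPrime P) r' u', map_mul, map_mul, h]
    ring
  have hact' : ∀ (d : MulAction.stabilizer G Q) t, d • ι t = ι (σ (d : G) t) := by
    intro d t
    refine RingHom.congr_fun (IsLocalization.ringHom_ext (Algebra.algebraMapSubmonoid S P.primeCompl) (RingHom.ext fun s ↦ ?_) :
      (MulSemiringAction.toRingHom _ (EGA4.Cpl (Localization.AtPrime Q)) d).comp ι = ι.comp (σ (d : G)).toRingEquiv.toRingHom) t
    change d • ι (algebraMap S T s) = ι (σ (d : G) (algebraMap S T s))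
    rw [hι, hσ, hι, hact]
    rfl
  obtain ⟨hc, hi⟩ := key (A := Localization.AtPrime P) QT (fun d : MulAction.stabilizer G Q ↦ (σ (d : G)).toRingEquiv.toRingHom) ι hA hmQ hact'
    (fun d a ↦ (σ (d : G)).commutes a) hle hback happ
    (fun n ↦ by
      obtain ⟨N, hN⟩ := Groth.Agent.EtRamLib.GaloisApprox.exists_approx htrans
        (Groth.Agent.EtRamLib.GaloisLoc.invariant (P := P) σ hσ) hmQ n
      exact ⟨N, fun t ht ↦ hN t fun g hg ↦ ht ⟨g, (hstab g).1 hg⟩⟩)
    (Groth.Agent.EtRamLib.GaloisApprox.descend htrans hT)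
  refine ⟨⟨fun {g h} hgh ↦ ?_⟩, hc, hi⟩
  haveI : FaithfulSMul G S := IsGaloisGroup.faithful R
  apply Subtype.ext
  refine eq_of_smul_eq_smul fun s : S ↦ ?_
  apply IsLocalization.injective (Localization.AtPrime Q) Q.primeCompl_le_nonZeroDivisors
  apply FaithfulSMul.algebraMap_injective (Localization.AtPrime Q) (EGA4.Cpl (Localization.AtPrime Q))
  have := hgh (e (algebraMap S (Localization.AtPrime Q) s))
  rw [he, hact, hact] at this
  exact this

end Groth.Agent.S18534
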