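import Groth.Statements.S18536
import Groth.Agent.EtRamLib.CompositumFrac
import Groth.Agent.EtStruct.Completion
import Groth.Agent.EtRamLib.CompositumNoeth

set_option autoImplicit false
universe u
open EtAlg

namespace Groth.Agent.S18536

/-- Let R be an excellent normal local domain with fraction field K, let L, M ⊇ K be two finite
separable field extensions, both contained in a field Ω that they generate, let A ⊆ Ω be the
localization of the integral closure of R in Ω at one of its maximal ideals, and put S = A ∩ L, T =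
A ∩ M (local rings dominated by A); the completions at the maximal ideals give maps Ŝ → Â ← T̂ (the
algebra structures below are these inclusions and completed inclusions, pinned by the stated
compatibilities). If the residue field of A is generated, over the residue field of S, by the image
of the residue field of T, then the fraction field of Â is the compositum of the fraction fields of
Ŝ and T̂ inside it: every element of Â is a quotient of two elements of the subring of Â generated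
by the images of Ŝ and T̂. -/
theorem result
    (R K L M Ω : Type u) [CommRing R] [IsDomain R] [IsLocalRing R] [IsIntegrallyClosed R]
    (hR : EGA4.IsExcellent R)
    [Field K] [Field L] [Field M] [Field Ω]
    [Algebra R K] [IsFractionRing R K]
    [Algebra K L] [Algebra K M] [Algebra K Ω] [Algebra L Ω] [Algebra M Ω]
    [IsScalarTower K L Ω] [IsScalarTower K M Ω]
    [FiniteDimensional K L] [FiniteDimensional K M] [Algebra.IsSeparable K L] [Algebra.IsSeparable K M]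
    (hΩ : IntermediateField.adjoin K (Set.range (algebraMap L Ω) ∪ Set.range (algebraMap M Ω)) = ⊤)
    [Algebra R L] [Algebra R M] [Algebra R Ω] [IsScalarTower R K L] [IsScalarTower R K M] [IsScalarTower R K Ω]
    [IsScalarTower R L Ω] [IsScalarTower R M Ω]
    (𝔪 : Ideal ↥(integralClosure R Ω)) [𝔪.IsMaximal]
    (A : Subalgebra R Ω)
    (hA : ∀ z : Ω, z ∈ A ↔ ∃ a b : ↥(integralClosure R Ω), b ∉ 𝔪 ∧ z * (b : Ω) = (a : Ω))
    [IsLocalRing ↥A] [IsLocalRing ↥(Subalgebra.comap (IsScalarTower.toAlgHom R L Ω) A)] [IsLocalRing ↥(Subalgebra.comap (IsScalarTower.toAlgHom R M Ω) A)]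
    [Algebra ↥(Subalgebra.comap (IsScalarTower.toAlgHom R L Ω) A) ↥A]
    (hSA : ∀ s : ↥(Subalgebra.comap (IsScalarTower.toAlgHom R L Ω) A), ((algebraMap ↥(Subalgebra.comap (IsScalarTower.toAlgHom R L Ω) A) ↥A s : ↥A) : Ω) = algebraMap L Ω (s : L))
    [Algebra ↥(Subalgebra.comap (IsScalarTower.toAlgHom R M Ω) A) ↥A]
    (hTA : ∀ t : ↥(Subalgebra.comap (IsScalarTower.toAlgHom R M Ω) A), ((algebraMap ↥(Subalgebra.comap (IsScalarTower.toAlgHom R M Ω) A) ↥A t : ↥A) : Ω) = algebraMap M Ω (t : M))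
    [Algebra (EGA4.Cpl ↥(Subalgebra.comap (IsScalarTower.toAlgHom R L Ω) A)) (EGA4.Cpl ↥A)]
    (hcS : ∀ s : ↥(Subalgebra.comap (IsScalarTower.toAlgHom R L Ω) A), algebraMap (EGA4.Cpl ↥(Subalgebra.comap (IsScalarTower.toAlgHom R L Ω) A)) (EGA4.Cpl ↥A) (algebraMap ↥(Subalgebra.comap (IsScalarTower.toAlgHom R L Ω) A) (EGA4.Cpl ↥(Subalgebra.comap (IsScalarTower.toAlgHom R L Ω) A)) s) =
      algebraMap ↥A (EGA4.Cpl ↥A) (algebraMap ↥(Subalgebra.comap (IsScalarTower.toAlgHom R L Ω) A) ↥A s))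
    [Algebra (EGA4.Cpl ↥(Subalgebra.comap (IsScalarTower.toAlgHom R M Ω) A)) (EGA4.Cpl ↥A)]
    (hcT : ∀ t : ↥(Subalgebra.comap (IsScalarTower.toAlgHom R M Ω) A), algebraMap (EGA4.Cpl ↥(Subalgebra.comap (IsScalarTower.toAlgHom R M Ω) A)) (EGA4.Cpl ↥A) (algebraMap ↥(Subalgebra.comap (IsScalarTower.toAlgHom R M Ω) A) (EGA4.Cpl ↥(Subalgebra.comap (IsScalarTower.toAlgHom R M Ω) A)) t) =
      algebraMap ↥A (EGA4.Cpl ↥A) (algebraMap ↥(Subalgebra.comap (IsScalarTower.toAlgHom R M Ω) A) ↥A t))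
    [(IsLocalRing.maximalIdeal ↥A).LiesOver (IsLocalRing.maximalIdeal ↥(Subalgebra.comap (IsScalarTower.toAlgHom R M Ω) A))]
    [(IsLocalRing.maximalIdeal ↥A).LiesOver (IsLocalRing.maximalIdeal ↥(Subalgebra.comap (IsScalarTower.toAlgHom R L Ω) A))]
    (hres : Algebra.adjoin (↥(Subalgebra.comap (IsScalarTower.toAlgHom R L Ω) A) ⧸ IsLocalRing.maximalIdeal ↥(Subalgebra.comap (IsScalarTower.toAlgHom R L Ω) A))
      (Set.range (algebraMap (↥(Subalgebra.comap (IsScalarTower.toAlgHom R M Ω) A) ⧸ IsLocalRing.maximalIdeal ↥(Subalgebra.comap (IsScalarTower.toAlgHom R M Ω) A)) (↥A ⧸ IsLocalRing.maximalIdeal ↥A))) = ⊤) :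
    ∀ x : (EGA4.Cpl ↥A), ∃ a b : (EGA4.Cpl ↥A), a ∈ Algebra.adjoin (EGA4.Cpl ↥(Subalgebra.comap (IsScalarTower.toAlgHom R L Ω) A)) (Set.range (algebraMap (EGA4.Cpl ↥(Subalgebra.comap (IsScalarTower.toAlgHom R M Ω) A)) (EGA4.Cpl ↥A))) ∧ b ∈ Algebra.adjoin (EGA4.Cpl ↥(Subalgebra.comap (IsScalarTower.toAlgHom R L Ω) A)) (Set.range (algebraMap (EGA4.Cpl ↥(Subalgebra.comap (IsScalarTower.toAlgHom R M Ω) A)) (EGA4.Cpl ↥A))) ∧ b ≠ 0 ∧ x * b = a := by
  classical
  intro x
  haveI : IsNoetherianRing R := hR.1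
  haveI := Groth.Agent.EtRamLib.Compositum.finite_integralClosure (R := R) hΩ
  have hD := Groth.Agent.EtRamLib.Compositum.integralClosure_le 𝔪 A hA
  obtain ⟨hN, hle, -⟩ := Groth.Agent.EtRamLib.Compositum.setup 𝔪 A hA
  haveI := hN
  -- `↥(Subalgebra.comap (IsScalarTower.toAlgHom R L Ω) A)` is Noetherian and dominated by `A`
  have hloc : IsLocalHom (algebraMap ↥(Subalgebra.comap (IsScalarTower.toAlgHom R L Ω) A) A) := by
    refine ⟨fun s hs ↦ ?_⟩
    obtain ⟨u, hu⟩ := hs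
    have hne : algebraMap L Ω (s : L) ≠ 0 := by
      intro h0
      have h1 : (u : A) = 0 := by rw [hu]; exact Subtype.ext ((hSA s).trans h0)
      exact u.ne_zero h1
    have hs0 : (s : L) ≠ 0 := fun h ↦ hne (by rw [h, map_zero])
    have hinv : (s : L)⁻¹ ∈ Subalgebra.comap (IsScalarTower.toAlgHom R L Ω) A := by
      change algebraMap L Ω (s : L)⁻¹ ∈ A
      have h2 : ((u⁻¹ : Aˣ) : A).1 * algebraMap L Ω (s : L) = 1 := by
        rw [← hSA s, ← hu]; exact congrArg Subtype.val u.inv_mul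
      rw [map_inv₀, ← eq_inv_of_mul_eq_one_left h2]
      exact ((u⁻¹ : Aˣ) : A).2
    exact isUnit_iff_exists_inv.2 ⟨⟨_, hinv⟩, Subtype.ext (mul_inv_cancel₀ hs0)⟩
  haveI := hloc
  haveI : IsNoetherianRing ↥(Subalgebra.comap (IsScalarTower.toAlgHom R L Ω) A) := Groth.Agent.EtRamLib.Compositum.noetherian_comap (L := L) (K := K) 𝔪 A hA
  have hSR : ∀ r, algebraMap ↥(Subalgebra.comap (IsScalarTower.toAlgHom R L Ω) A) A (algebraMap R ↥(Subalgebra.comap (IsScalarTower.toAlgHom R L Ω) A) r) = algebraMap R A r := fun r ↦ Subtype.ext (by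
    rw [hSA]; exact (IsScalarTower.algebraMap_apply R L Ω r).symm)
  have hWm : (IsLocalRing.maximalIdeal R).map (algebraMap R ↥(Subalgebra.comap (IsScalarTower.toAlgHom R L Ω) A)) ≤ IsLocalRing.maximalIdeal ↥(Subalgebra.comap (IsScalarTower.toAlgHom R L Ω) A) := by
    rw [Ideal.map_le_iff_le_comap]
    intro r hr hu
    have := hu.map (algebraMap ↥(Subalgebra.comap (IsScalarTower.toAlgHom R L Ω) A) A)
    rw [hSR] at this
    exact hle (Ideal.mem_map_of_mem _ hr) this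
  obtain ⟨k, d, c, hx⟩ := Groth.Agent.EtRamLib.Compositum.exists_combination 𝔪 A hA hWm (algebraMap ↥(Subalgebra.comap (IsScalarTower.toAlgHom R L Ω) A) A) hSR
    (algebraMap (EGA4.Cpl ↥(Subalgebra.comap (IsScalarTower.toAlgHom R L Ω) A)) (EGA4.Cpl A)) hcS x
  set Alg := Algebra.adjoin (EGA4.Cpl ↥(Subalgebra.comap (IsScalarTower.toAlgHom R L Ω) A)) (Set.range (algebraMap (EGA4.Cpl ↥(Subalgebra.comap (IsScalarTower.toAlgHom R M Ω) A)) (EGA4.Cpl A)))
  set e := algebraMap A (EGA4.Cpl A)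
  have hgen : ∀ z ∈ Subring.closure ((algebraMap L Ω '' ((Subalgebra.comap (IsScalarTower.toAlgHom R L Ω) A) : Set L)) ∪ (algebraMap M Ω '' ((Subalgebra.comap (IsScalarTower.toAlgHom R M Ω) A) : Set M))),
      ∃ za : A, (za : Ω) = z ∧ e za ∈ Alg := by
    intro z hz
    induction hz using Subring.closure_induction with
    | mem z hz =>
      rcases hz with ⟨w, hw, rfl⟩ | ⟨w, hw, rfl⟩
      · exact ⟨algebraMap ↥(Subalgebra.comap (IsScalarTower.toAlgHom R L Ω) A) A ⟨w, hw⟩, hSA _, by rw [← hcS]; exact Subalgebra.algebraMap_mem _ _⟩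
      · exact ⟨algebraMap ↥(Subalgebra.comap (IsScalarTower.toAlgHom R M Ω) A) A ⟨w, hw⟩, hTA _, by rw [← hcT]; exact Algebra.subset_adjoin ⟨_, rfl⟩⟩
    | zero => exact ⟨0, rfl, by rw [map_zero]; exact zero_mem _⟩
    | one => exact ⟨1, rfl, by rw [map_one]; exact one_mem _⟩
    | add a b _ _ ha hb =>
      obtain ⟨a', rfl, ha⟩ := ha
      obtain ⟨b', rfl, hb⟩ := hb
      exact ⟨a' + b', rfl, by rw [map_add]; exact add_mem ha hb⟩
    | neg a _ ha =>
      obtain ⟨a', rfl, ha⟩ := ha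
      exact ⟨-a', rfl, by rw [map_neg]; exact neg_mem ha⟩
    | mul a b _ _ ha hb =>
      obtain ⟨a', rfl, ha⟩ := ha
      obtain ⟨b', rfl, hb⟩ := hb
      exact ⟨a' * b', rfl, by rw [map_mul]; exact mul_mem ha hb⟩
  have hfr : ∀ i, ∃ a b : A, e a ∈ Alg ∧ e b ∈ Alg ∧ b ≠ 0 ∧ Subalgebra.inclusion hD (d i) * b = a := by
    intro i
    obtain ⟨a, b, ha, hb, hb0, hab⟩ :=
      Groth.Agent.EtRamLib.Compositum.exists_frac (R := R) hΩ A hD ((d i : ↥(integralClosure R Ω)) : Ω)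
    obtain ⟨a', rfl, ha'⟩ := hgen a ha
    obtain ⟨b', rfl, hb'⟩ := hgen b hb
    exact ⟨a', b', ha', hb', fun h ↦ hb0 (by rw [h]; rfl), Subtype.ext hab⟩
  choose a b ha hb hb0 hab using hfr
  refine ⟨∑ i, algebraMap (EGA4.Cpl ↥(Subalgebra.comap (IsScalarTower.toAlgHom R L Ω) A)) (EGA4.Cpl A) (c i) * (e (a i) * e (∏ j ∈ Finset.univ.erase i, b j)),
    e (∏ j, b j), Subalgebra.sum_mem _ fun i _ ↦ mul_mem (Subalgebra.algebraMap_mem _ _) (mul_mem (ha i) ?_), ?_, ?_, ?_⟩
  · rw [map_prod]; exact Subalgebra.prod_mem _ fun j _ ↦ hb j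
  · rw [map_prod]; exact Subalgebra.prod_mem _ fun j _ ↦ hb j
  · haveI := Groth.Agent.EtStruct.Completion.faithfullyFlat A
    intro h
    exact (Finset.prod_ne_zero_iff.2 fun j _ ↦ hb0 j)
      (FaithfulSMul.algebraMap_injective A (EGA4.Cpl A) (by rw [map_zero]; exact h))
  · rw [hx, Finset.sum_mul]
    refine Finset.sum_congr rfl fun i _ ↦ ?_
    rw [← hab i, mul_assoc, ← Finset.mul_prod_erase _ _ (Finset.mem_univ i)]
    simp only [map_mul]
    ring

end Groth.Agent.S18536
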