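import Groth.Statements.S18537
import Groth.Agent.EtRamLib.CompositumFrac
import Groth.Agent.EtRamLib.CompositumNoeth
import Groth.Agent.EtRamLib.CplNormal
import Groth.Agent.EtStruct.Completion
import Groth.Agent.EGA4Lib.ExcellentLoc
import Groth.Agent.Hens.GRingFinite

set_option autoImplicit false
universe u
open EtAlg

namespace Groth.Agent.S18537

open IsLocalRing
open Groth.Agent.EtRamLib

/-- a localization of a normal finite algebra over a G-ring -/
theorem local_facts {R D X : Type u} [CommRing R] [CommRing D] [IsDomain D] [IsIntegrallyClosed D] [CommRing X]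
    [IsLocalRing X] [IsDomain X] [Algebra R D] [Module.Finite R D] [Algebra D X] (P : Ideal D) [P.IsPrime]
    [IsLocalization.AtPrime X P] (hR : CAlg.IsGRing R) :
    IsNoetherianRing X ∧ IsIntegrallyClosed X ∧ CAlg.IsGRing X ∧ ringKrullDim X = P.height := by
  haveI := hR.1
  haveI : IsNoetherianRing D := IsNoetherianRing.of_finite R D
  exact ⟨IsLocalization.isNoetherianRing P.primeCompl _ inferInstance,
    isIntegrallyClosed_of_isLocalization _ P.primeCompl P.primeCompl_le_nonZeroDivisors,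
    Groth.Agent.EGA4Lib.isGRing_of_isLocalization P.primeCompl X (Groth.Agent.Hens.isGRing_of_finite (A := R) hR),
    IsLocalization.AtPrime.ringKrullDim_eq_height P X⟩

/-- the local rings `A` and `A ∩ M` -/
theorem facts {R K M Ω : Type u} [CommRing R] [IsDomain R] [IsLocalRing R] [IsIntegrallyClosed R] [IsNoetherianRing R]
    [Field K] [Field M] [Field Ω] [Algebra R K] [IsFractionRing R K] [Algebra K M] [FiniteDimensional K M]
    [Algebra.IsSeparable K M] [Algebra R M] [IsScalarTower R K M] [Algebra M Ω] [Algebra R Ω] [IsScalarTower R M Ω]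
    [Module.Finite R ↥(integralClosure R Ω)] (hG : CAlg.IsGRing R)
    (𝔪 : Ideal ↥(integralClosure R Ω)) [𝔪.IsMaximal] (A : Subalgebra R Ω)
    (hA : ∀ z : Ω, z ∈ A ↔ ∃ a b : ↥(integralClosure R Ω), b ∉ 𝔪 ∧ z * (b : Ω) = (a : Ω))
    [IsLocalRing A] [IsLocalRing ↥(A.comap (IsScalarTower.toAlgHom R M Ω))] :
    (IsNoetherianRing A ∧ IsIntegrallyClosed A ∧ CAlg.IsGRing A) ∧
      (IsNoetherianRing ↥(A.comap (IsScalarTower.toAlgHom R M Ω)) ∧
        IsIntegrallyClosed ↥(A.comap (IsScalarTower.toAlgHom R M Ω)) ∧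
        CAlg.IsGRing ↥(A.comap (IsScalarTower.toAlgHom R M Ω))) ∧
      ringKrullDim ↥(A.comap (IsScalarTower.toAlgHom R M Ω)) ≤ ringKrullDim A := by
  haveI : IsIntegrallyClosed ↥(integralClosure R Ω) :=
    IsIntegrallyClosed.of_isIntegrallyClosedIn ↥(integralClosure R Ω) Ω
  letI : Algebra ↥(integralClosure R Ω) A :=
    (Subalgebra.inclusion (Compositum.integralClosure_le 𝔪 A hA)).toRingHom.toAlgebra
  haveI := Compositum.isLocalization 𝔪 A hA
  haveI : Module.Finite R ↥(integralClosure R M) := IsIntegralClosure.finite R K M _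
  haveI : IsIntegrallyClosed ↥(integralClosure R M) := integralClosure.isIntegrallyClosedOfFiniteExtension K
  letI : Algebra ↥(integralClosure R M) ↥(A.comap (IsScalarTower.toAlgHom R M Ω)) :=
    (Compositum.closureToComap (L := M) A (Compositum.integralClosure_le 𝔪 A hA)).toAlgebra
  haveI := Compositum.isLocalization_comap (K := K) (L := M) 𝔪 A hA
  obtain ⟨h1, h2, h3, h4⟩ := local_facts (X := A) 𝔪 hG
  obtain ⟨k1, k2, k3, k4⟩ := local_facts (X := ↥(A.comap (IsScalarTower.toAlgHom R M Ω)))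
    (𝔪.comap (Compositum.closureMap R M Ω)) hG
  refine ⟨⟨h1, h2, h3⟩, ⟨k1, k2, k3⟩, ?_⟩
  rw [h4, k4]
  letI : Algebra ↥(integralClosure R M) ↥(integralClosure R Ω) := (Compositum.closureMap R M Ω).toAlgebra
  haveI : IsNoetherianRing ↥(integralClosure R Ω) := IsNoetherianRing.of_finite R _
  haveI : IsNoetherianRing ↥(integralClosure R M) := IsNoetherianRing.of_finite R _
  haveI : IsScalarTower R ↥(integralClosure R M) ↥(integralClosure R Ω) := IsScalarTower.of_algebraMap_eq fun r ↦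
    Subtype.ext (IsScalarTower.algebraMap_apply R M Ω r)
  haveI : Algebra.IsIntegral ↥(integralClosure R M) ↥(integralClosure R Ω) := Algebra.IsIntegral.tower_top R
  haveI : FaithfulSMul ↥(integralClosure R M) ↥(integralClosure R Ω) :=
    (faithfulSMul_iff_algebraMap_injective _ _).2 fun x y h ↦ Subtype.ext ((algebraMap M Ω).injective (congrArg Subtype.val h))
  haveI : 𝔪.LiesOver (𝔪.comap (Compositum.closureMap R M Ω)) := ⟨rfl⟩
  rw [Ideal.height_eq_height_add_of_liesOver_of_hasGoingDown (𝔪.comap (Compositum.closureMap R M Ω)) 𝔪]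
  exact_mod_cast le_self_add

/-- Let R be an excellent normal local domain with fraction field K, let L, M ⊇ K be two finite
separable field extensions, both contained in a field Ω that they generate, let A ⊆ Ω be the
localization of the integral closure of R in Ω at one of its maximal ideals, and put S = A ∩ L, T =
A ∩ M; these are local rings, T ⊆ A, and the completions at the maximal ideals give maps Ŝ → Â ← T̂
(the algebra structures below are these inclusions and completed inclusions, pinned by the stated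
compatibilities). If, inside the fraction field of Â, the ring Ŝ lies in the fraction field of T̂
(every element of Ŝ becomes a quotient of two elements of T̂), then A is unramified over T: m_T A =
m_A and A/m_A is a finite separable extension of T/m_T. -/
theorem result
    (R K L M Ω : Type u) [CommRing R] [IsDomain R] [IsLocalRing R] [IsIntegrallyClosed R]
    (hR : EGA4.IsExcellent R)
    [Field K] [Field L] [Field M] [Field Ω]
    [Algebra R K] [IsFractionRing R K]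
    [Algebra K L] [Algebra K M] [Algebra K Ω] [Algebra L Ω] [Algebra M Ω]
    [IsScalarTower K L Ω] [IsScalarTower K M Ω]
    [FiniteDimensional K L] [FiniteDimensional K M] [Algebra.IsSeparable K L] [Algebra.IsSeparable K M]
    (hΩ : IntermediateField.adjoin K (Set.range (algebraMap L Ω) ∪ Set.range (algebraMap M Ω)) = ⊤)
    [Algebra R L] [Algebra R M] [Algebra R Ω] [IsScalarTower R K L] [IsScalarTower R K M] [IsScalarTower R K Ω]
    [IsScalarTower R L Ω] [IsScalarTower R M Ω]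
    (𝔪 : Ideal ↥(integralClosure R Ω)) [𝔪.IsMaximal]
    (A : Subalgebra R Ω)
    (hA : ∀ z : Ω, z ∈ A ↔ ∃ a b : ↥(integralClosure R Ω), b ∉ 𝔪 ∧ z * (b : Ω) = (a : Ω))
    [IsLocalRing ↥A] [IsLocalRing ↥(Subalgebra.comap (IsScalarTower.toAlgHom R L Ω) A)] [IsLocalRing ↥(Subalgebra.comap (IsScalarTower.toAlgHom R M Ω) A)]
    [Algebra ↥(Subalgebra.comap (IsScalarTower.toAlgHom R L Ω) A) ↥A]
    (hSA : ∀ s : ↥(Subalgebra.comap (IsScalarTower.toAlgHom R L Ω) A), ((algebraMap ↥(Subalgebra.comap (IsScalarTower.toAlgHom R L Ω) A) ↥A s : ↥A) : Ω) = algebraMap L Ω (s : L))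
    [Algebra ↥(Subalgebra.comap (IsScalarTower.toAlgHom R M Ω) A) ↥A]
    (hTA : ∀ t : ↥(Subalgebra.comap (IsScalarTower.toAlgHom R M Ω) A), ((algebraMap ↥(Subalgebra.comap (IsScalarTower.toAlgHom R M Ω) A) ↥A t : ↥A) : Ω) = algebraMap M Ω (t : M))
    [Algebra (EGA4.Cpl ↥(Subalgebra.comap (IsScalarTower.toAlgHom R L Ω) A)) (EGA4.Cpl ↥A)]
    (hcS : ∀ s : ↥(Subalgebra.comap (IsScalarTower.toAlgHom R L Ω) A), algebraMap (EGA4.Cpl ↥(Subalgebra.comap (IsScalarTower.toAlgHom R L Ω) A)) (EGA4.Cpl ↥A) (algebraMap ↥(Subalgebra.comap (IsScalarTower.toAlgHom R L Ω) A) (EGA4.Cpl ↥(Subalgebra.comap (IsScalarTower.toAlgHom R L Ω) A)) s) =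
      algebraMap ↥A (EGA4.Cpl ↥A) (algebraMap ↥(Subalgebra.comap (IsScalarTower.toAlgHom R L Ω) A) ↥A s))
    [Algebra (EGA4.Cpl ↥(Subalgebra.comap (IsScalarTower.toAlgHom R M Ω) A)) (EGA4.Cpl ↥A)]
    (hcT : ∀ t : ↥(Subalgebra.comap (IsScalarTower.toAlgHom R M Ω) A), algebraMap (EGA4.Cpl ↥(Subalgebra.comap (IsScalarTower.toAlgHom R M Ω) A)) (EGA4.Cpl ↥A) (algebraMap ↥(Subalgebra.comap (IsScalarTower.toAlgHom R M Ω) A) (EGA4.Cpl ↥(Subalgebra.comap (IsScalarTower.toAlgHom R M Ω) A)) t) =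
      algebraMap ↥A (EGA4.Cpl ↥A) (algebraMap ↥(Subalgebra.comap (IsScalarTower.toAlgHom R M Ω) A) ↥A t))
    [(IsLocalRing.maximalIdeal ↥A).LiesOver (IsLocalRing.maximalIdeal ↥(Subalgebra.comap (IsScalarTower.toAlgHom R M Ω) A))]
    (hLM : ∀ x : (EGA4.Cpl ↥(Subalgebra.comap (IsScalarTower.toAlgHom R L Ω) A)), ∃ a b : (EGA4.Cpl ↥(Subalgebra.comap (IsScalarTower.toAlgHom R M Ω) A)), algebraMap (EGA4.Cpl ↥(Subalgebra.comap (IsScalarTower.toAlgHom R M Ω) A)) (EGA4.Cpl ↥A) b ≠ 0 ∧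
      algebraMap (EGA4.Cpl ↥(Subalgebra.comap (IsScalarTower.toAlgHom R L Ω) A)) (EGA4.Cpl ↥A) x * algebraMap (EGA4.Cpl ↥(Subalgebra.comap (IsScalarTower.toAlgHom R M Ω) A)) (EGA4.Cpl ↥A) b = algebraMap (EGA4.Cpl ↥(Subalgebra.comap (IsScalarTower.toAlgHom R M Ω) A)) (EGA4.Cpl ↥A) a) :
    (IsLocalRing.maximalIdeal ↥(Subalgebra.comap (IsScalarTower.toAlgHom R M Ω) A)).map (algebraMap ↥(Subalgebra.comap (IsScalarTower.toAlgHom R M Ω) A) ↥A) = IsLocalRing.maximalIdeal ↥A ∧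
      Module.Finite (↥(Subalgebra.comap (IsScalarTower.toAlgHom R M Ω) A) ⧸ IsLocalRing.maximalIdeal ↥(Subalgebra.comap (IsScalarTower.toAlgHom R M Ω) A)) (↥A ⧸ IsLocalRing.maximalIdeal ↥A) ∧
      Algebra.IsSeparable (↥(Subalgebra.comap (IsScalarTower.toAlgHom R M Ω) A) ⧸ IsLocalRing.maximalIdeal ↥(Subalgebra.comap (IsScalarTower.toAlgHom R M Ω) A)) (↥A ⧸ IsLocalRing.maximalIdeal ↥A) := by
  classical
  haveI : IsNoetherianRing R := hR.1
  haveI := Compositum.finite_integralClosure (R := R) hΩ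
  have hD := Compositum.integralClosure_le 𝔪 A hA
  obtain ⟨-, hle, -⟩ := Compositum.setup 𝔪 A hA
  obtain ⟨⟨hAN, hAI, hAG⟩, ⟨hTN, hTI, hTG⟩, hdim⟩ := facts (K := K) (M := M) hR.2.2.1 𝔪 A hA
  haveI := hAN
  haveI := hAI
  haveI := hTN
  haveI := hTI
  obtain ⟨hAD, -⟩ := CplNormal.isDomain_isIC_cpl ↥A hAG
  obtain ⟨hTD, hTIC⟩ := CplNormal.isDomain_isIC_cpl _ hTG
  haveI := hAD
  haveI := hTD
  haveI := hTIC
  haveI : IsNoetherianRing (EGA4.Cpl ↥(Subalgebra.comap (IsScalarTower.toAlgHom R M Ω) A)) :=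
    RegLoc.Completion.isNoetherianRing_adicCompletion' _
  haveI hloc : IsLocalHom (algebraMap ↥(Subalgebra.comap (IsScalarTower.toAlgHom R M Ω) A) ↥A) := by
    refine ⟨fun s hs ↦ ?_⟩
    obtain ⟨u, hu⟩ := hs
    have hne : algebraMap M Ω (s : M) ≠ 0 := by
      intro h0
      have h1 : (u : A) = 0 := by rw [hu]; exact Subtype.ext ((hTA s).trans h0)
      exact u.ne_zero h1
    have hs0 : (s : M) ≠ 0 := fun h ↦ hne (by rw [h, map_zero])
    have hinv : (s : M)⁻¹ ∈ Subalgebra.comap (IsScalarTower.toAlgHom R M Ω) A := by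
      change algebraMap M Ω (s : M)⁻¹ ∈ A
      have h2 : ((u⁻¹ : Aˣ) : A).1 * algebraMap M Ω (s : M) = 1 := by
        rw [← hTA s, ← hu]; exact congrArg Subtype.val u.inv_mul
      rw [map_inv₀, ← eq_inv_of_mul_eq_one_left h2]
      exact ((u⁻¹ : Aˣ) : A).2
    exact isUnit_iff_exists_inv.2 ⟨⟨_, hinv⟩, Subtype.ext (mul_inv_cancel₀ hs0)⟩
  have hTR : ∀ r, algebraMap ↥(Subalgebra.comap (IsScalarTower.toAlgHom R M Ω) A) ↥A (algebraMap R _ r) = algebraMap R A r :=
    fun r ↦ Subtype.ext (by rw [hTA]; exact (IsScalarTower.algebraMap_apply R M Ω r).symm)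
  have hWm : (maximalIdeal R).map (algebraMap R ↥(Subalgebra.comap (IsScalarTower.toAlgHom R M Ω) A)) ≤ maximalIdeal _ := by
    rw [Ideal.map_le_iff_le_comap]
    intro r hr hu
    have := hu.map (algebraMap _ ↥A)
    rw [hTR] at this
    exact hle (Ideal.mem_map_of_mem _ hr) this
  set e := algebraMap A (EGA4.Cpl ↥A) with he
  set φ := algebraMap (EGA4.Cpl ↥(Subalgebra.comap (IsScalarTower.toAlgHom R M Ω) A)) (EGA4.Cpl ↥A) with hφ
  haveI hff := Groth.Agent.EtStruct.Completion.faithfullyFlat ↥A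
  have heinj : Function.Injective e := FaithfulSMul.algebraMap_injective _ _
  -- fractions over the completion of `A ∩ M`
  have hgen : ∀ z ∈ Subring.closure ((algebraMap L Ω '' (Subalgebra.comap (IsScalarTower.toAlgHom R L Ω) A : Set L)) ∪
      (algebraMap M Ω '' (Subalgebra.comap (IsScalarTower.toAlgHom R M Ω) A : Set M))),
      ∃ za : A, (za : Ω) = z ∧ ∃ a b, φ b ≠ 0 ∧ e za * φ b = φ a := by
    intro z hz
    induction hz using Subring.closure_induction with
    | mem z hz =>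
      rcases hz with ⟨w, hw, rfl⟩ | ⟨w, hw, rfl⟩
      · obtain ⟨a, b, hb, h⟩ := hLM (algebraMap _ _ (⟨w, hw⟩ : ↥(Subalgebra.comap (IsScalarTower.toAlgHom R L Ω) A)))
        exact ⟨algebraMap _ ↥A (⟨w, hw⟩ : ↥(Subalgebra.comap (IsScalarTower.toAlgHom R L Ω) A)), hSA _, a, b, hb, by
          rw [hcS] at h; exact h⟩
      · refine ⟨algebraMap _ ↥A (⟨w, hw⟩ : ↥(Subalgebra.comap (IsScalarTower.toAlgHom R M Ω) A)), hTA _,
          algebraMap _ _ (⟨w, hw⟩ : ↥(Subalgebra.comap (IsScalarTower.toAlgHom R M Ω) A)), 1, ?_, ?_⟩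
        · rw [map_one]; exact one_ne_zero
        · rw [map_one, mul_one, hφ, hcT]
    | zero => exact ⟨0, rfl, 0, 1, by rw [map_one]; exact one_ne_zero, by simp⟩
    | one => exact ⟨1, rfl, 1, 1, by rw [map_one]; exact one_ne_zero, by simp⟩
    | add z₁ z₂ _ _ h₁ h₂ =>
      obtain ⟨x₁, rfl, a₁, b₁, hb₁, h₁⟩ := h₁
      obtain ⟨x₂, rfl, a₂, b₂, hb₂, h₂⟩ := h₂
      refine ⟨x₁ + x₂, rfl, a₁ * b₂ + a₂ * b₁, b₁ * b₂, by rw [map_mul]; exact mul_ne_zero hb₁ hb₂, ?_⟩
      simp only [map_add, map_mul, ← h₁, ← h₂]; ring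
    | neg z _ h =>
      obtain ⟨x, rfl, a, b, hb, h⟩ := h
      exact ⟨-x, rfl, -a, b, hb, by rw [map_neg, map_neg, neg_mul, h]⟩
    | mul z₁ z₂ _ _ h₁ h₂ =>
      obtain ⟨x₁, rfl, a₁, b₁, hb₁, h₁⟩ := h₁
      obtain ⟨x₂, rfl, a₂, b₂, hb₂, h₂⟩ := h₂
      refine ⟨x₁ * x₂, rfl, a₁ * a₂, b₁ * b₂, by rw [map_mul]; exact mul_ne_zero hb₁ hb₂, ?_⟩
      simp only [map_mul, ← h₁, ← h₂]; ring
  have hd : ∀ d : ↥(integralClosure R Ω), ∃ a b, φ b ≠ 0 ∧ e (Subalgebra.inclusion hD d) * φ b = φ a := by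
    intro d
    obtain ⟨a, b, ha, hb, hb0, hab⟩ := Compositum.exists_frac (R := R) hΩ A hD (d : Ω)
    obtain ⟨xa, rfl, a₁, b₁, hb₁, h₁⟩ := hgen a ha
    obtain ⟨xb, rfl, a₂, b₂, hb₂, h₂⟩ := hgen b hb
    have hxb : e xb ≠ 0 := fun h ↦ hb0 (by
      rw [← map_zero e] at h; rw [heinj h]; rfl)
    have hd' : Subalgebra.inclusion hD d * xb = xa := Subtype.ext hab
    refine ⟨a₁ * b₂, a₂ * b₁, ?_, ?_⟩
    · rw [map_mul]; exact mul_ne_zero (h₂ ▸ mul_ne_zero hxb hb₂) hb₁
    · simp only [map_mul, ← h₁, ← h₂, ← hd']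
      ring
  choose a b hb hab using hd
  have hsurj : Function.Surjective φ := by
    refine CplNormal.surjective_of_birational φ (fun x ↦ ?_) ?_ fun x ↦ ?_
    · obtain ⟨k, d, c, hx⟩ := Compositum.exists_combination 𝔪 A hA hWm (algebraMap _ ↥A) hTR φ hcT x
      rw [hx]
      refine IsIntegral.sum (R := EGA4.Cpl ↥(Subalgebra.comap (IsScalarTower.toAlgHom R M Ω) A)) _ fun i _ ↦
        IsIntegral.mul isIntegral_algebraMap ?_
      obtain ⟨f, hf, hfd⟩ : IsIntegral R (d i) := (isIntegral_algHom_iff (integralClosure R Ω).val Subtype.val_injective).1 (d i).2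
      refine ⟨f.map ((algebraMap ↥(Subalgebra.comap (IsScalarTower.toAlgHom R M Ω) A)
        (EGA4.Cpl ↥(Subalgebra.comap (IsScalarTower.toAlgHom R M Ω) A))).comp (algebraMap R _)), hf.map _, ?_⟩
      have h1 := congrArg (e.comp (Subalgebra.inclusion hD).toRingHom) hfd
      rw [Polynomial.hom_eval₂, map_zero] at h1
      rw [Polynomial.eval₂_map]
      refine Eq.trans ?_ h1
      congr 1
      refine RingHom.ext fun r ↦ ?_
      simp only [RingHom.comp_apply]
      rw [hcT, hTR]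
      rfl
    · rw [RegLoc.Completion.ringKrullDim_completion, RegLoc.Completion.ringKrullDim_completion]
      exact hdim
    · obtain ⟨k, d, c, hx⟩ := Compositum.exists_combination 𝔪 A hA hWm (algebraMap _ ↥A) hTR φ hcT x
      refine ⟨∑ i, c i * a (d i) * ∏ j ∈ Finset.univ.erase i, b (d j), ∏ i, b (d i), ?_, ?_⟩
      · rw [map_prod]; exact Finset.prod_ne_zero_iff.2 fun i _ ↦ hb _
      · rw [hx, Finset.sum_mul, map_sum]
        refine Finset.sum_congr rfl fun i _ ↦ ?_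
        rw [← Finset.mul_prod_erase _ _ (Finset.mem_univ i), map_mul, map_mul, map_mul, ← hab (d i)]
        ring
  haveI : IsAdicComplete (maximalIdeal (EGA4.Cpl ↥A)) (EGA4.Cpl ↥A) := inferInstance
  have hφm : ∀ τ, τ ∈ maximalIdeal (EGA4.Cpl ↥(Subalgebra.comap (IsScalarTower.toAlgHom R M Ω) A)) ↔
      φ τ ∈ maximalIdeal (EGA4.Cpl ↥A) := by
    intro τ
    haveI : (maximalIdeal (EGA4.Cpl ↥A)).comap φ |>.IsMaximal := Ideal.comap_isMaximal_of_surjective φ hsurj
    rw [← IsLocalRing.eq_maximalIdeal this]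
    rfl
  have hmax : (maximalIdeal ↥(Subalgebra.comap (IsScalarTower.toAlgHom R M Ω) A)).map (algebraMap _ ↥A) = maximalIdeal ↥A := by
    refine le_antisymm (Ideal.map_le_iff_le_comap.2 fun t ht ↦ map_nonunit (algebraMap _ ↥A) t ht) fun y hy ↦ ?_
    rw [← Ideal.comap_map_eq_self_of_faithfullyFlat (B := EGA4.Cpl ↥A)
      ((maximalIdeal ↥(Subalgebra.comap (IsScalarTower.toAlgHom R M Ω) A)).map (algebraMap _ ↥A))]
    obtain ⟨τ, hτ⟩ := hsurj (e y)
    have hy' : e y ∈ maximalIdeal (EGA4.Cpl ↥A) := by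
      rw [AdicCompletion.maximalIdeal_eq_map]; exact Ideal.mem_map_of_mem _ hy
    rw [← hτ, ← hφm, AdicCompletion.maximalIdeal_eq_map] at hy'
    have h2 := Ideal.mem_map_of_mem φ hy'
    rw [Ideal.map_map, hτ] at h2
    rw [Ideal.mem_comap, Ideal.map_map]
    rwa [show φ.comp (algebraMap _ _) = e.comp (algebraMap _ ↥A) from RingHom.ext hcT] at h2
  have hsurj' : Function.Surjective (algebraMap (↥(Subalgebra.comap (IsScalarTower.toAlgHom R M Ω) A) ⧸ maximalIdeal ↥(Subalgebra.comap (IsScalarTower.toAlgHom R M Ω) A)) (↥A ⧸ maximalIdeal ↥A)) := by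
    intro y
    obtain ⟨y, rfl⟩ := Ideal.Quotient.mk_surjective y
    obtain ⟨τ, hτ⟩ := hsurj (e y)
    obtain ⟨t, ht⟩ := Groth.Agent.EGA4Lib.completion_exists_sub_mem_pow (maximalIdeal _) 1 τ
    rw [pow_one, ← AdicCompletion.maximalIdeal_eq_map, hφm, map_sub, hτ, hφ, hcT, ← map_sub] at ht
    refine ⟨Ideal.Quotient.mk _ t, ?_⟩
    rw [Ideal.Quotient.algebraMap_mk_of_liesOver, eq_comm, Ideal.Quotient.eq]
    intro hu
    exact ht (hu.map e)
  refine ⟨hmax, Module.Finite.of_surjective (Algebra.linearMap _ _) hsurj', ⟨fun y ↦ ?_⟩⟩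
  obtain ⟨y, rfl⟩ := hsurj' y
  letI := Ideal.Quotient.field (maximalIdeal ↥(Subalgebra.comap (IsScalarTower.toAlgHom R M Ω) A))
  exact isSeparable_algebraMap y

end Groth.Agent.S18537
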