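import Mathlib
import Groth.Statements.S18539
-- import your own Groth.Agent.* helpers here

set_option autoImplicit false
universe u v w
open CAlg

open scoped Pointwise

namespace Groth.Agent.S18539

/-- For a commutative ring R, R-modules M and N and elements r₁, r₂ of R such that r₁ is a
non-zero-divisor on N and r₂ is a non-zero-divisor on N/r₁N, the element r₁ is a non-zero-divisor on
the module Hom_R(M, N) and r₂ is a non-zero-divisor on Hom_R(M, N)/r₁Hom_R(M, N). (Weak regularity
on both sides: no condition that the quotient by (r₁, r₂) is nonzero, which would fail for M = 0.) -/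
theorem result
    (R : Type u) [CommRing R] (M : Type v) (N : Type w)
    [AddCommGroup M] [Module R M] [AddCommGroup N] [Module R N]
    (r₁ r₂ : R) (h : RingTheory.Sequence.IsWeaklyRegular N [r₁, r₂]) :
    RingTheory.Sequence.IsWeaklyRegular (M →ₗ[R] N) [r₁, r₂] := by
  rw [RingTheory.Sequence.isWeaklyRegular_cons_iff, RingTheory.Sequence.isWeaklyRegular_singleton_iff] at h ⊢
  obtain ⟨h1, h2⟩ := h
  have h1' : IsSMulRegular (M →ₗ[R] N) r₁ := fun f g hfg =>
    LinearMap.ext fun m => h1 (LinearMap.congr_fun hfg m)
  refine ⟨h1', isSMulRegular_iff_right_eq_zero_of_smul.mpr fun x hx => ?_⟩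
  obtain ⟨f, rfl⟩ := Submodule.Quotient.mk_surjective _ x
  rw [← Submodule.Quotient.mk_smul, Submodule.Quotient.mk_eq_zero,
    Submodule.mem_smul_pointwise_iff_exists] at hx
  obtain ⟨g, -, hg⟩ := hx
  have hm : ∀ m, ∃ n : N, r₁ • n = f m := by
    intro m
    have h0 : r₂ • (Submodule.Quotient.mk (p := (r₁ • ⊤ : Submodule R N)) (f m)) = 0 := by
      rw [← Submodule.Quotient.mk_smul, Submodule.Quotient.mk_eq_zero]
      have := LinearMap.congr_fun hg m
      rw [LinearMap.smul_apply, LinearMap.smul_apply] at this
      exact (Submodule.mem_smul_pointwise_iff_exists _ _ _).mpr ⟨g m, trivial, this⟩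
    have := isSMulRegular_iff_right_eq_zero_of_smul.mp h2 _ h0
    rw [Submodule.Quotient.mk_eq_zero, Submodule.mem_smul_pointwise_iff_exists] at this
    obtain ⟨n, -, hn⟩ := this
    exact ⟨n, hn⟩
  choose k hk using hm
  let K : M →ₗ[R] N :=
    { toFun := k
      map_add' := fun a b => h1 (show r₁ • k (a + b) = r₁ • (k a + k b) by
        rw [smul_add, hk, hk, hk, map_add])
      map_smul' := fun c a => h1 (show r₁ • k (c • a) = r₁ • ((RingHom.id R) c • k a) by
        rw [RingHom.id_apply, smul_comm, hk, hk, map_smul]) }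
  rw [Submodule.Quotient.mk_eq_zero]
  exact (Submodule.mem_smul_pointwise_iff_exists _ _ _).mpr ⟨K, trivial, LinearMap.ext hk⟩

end Groth.Agent.S18539
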