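import Groth.Statements.S1854
import Groth.Agent.CycDetLib.Concat
import Groth.Agent.CycDetLib.Dim
import Mathlib.LinearAlgebra.TensorProduct.Basic
-- import your own Groth.Agent.* helpers here

set_option autoImplicit false
universe u
open TensorProduct
open CycDet

namespace Groth.Agent.S1854

open Groth.Agent.CycDetLib IsLocalRing

/-- Existence and the defining rule; the compatibilities (1)–(3) of the source are not restated: let 0 →
K → L → M → 0 be a short exact sequence of finite length modules over a local ring with residue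
field κ. There is a κ-linear isomorphism γ : det_κ(K) ⊗ det_κ(M) → det_κ(L) such that whenever (e_i)
is an admissible tuple of K with nonzero symbol, (f̄_j) an admissible tuple of M, and (g) the
admissible tuple of L consisting of the images of the e_i followed by lifts of the f̄_j, one has
γ([e] ⊗ [f̄]) = [g]. -/
theorem result (R : Type u) [CommRing R] [IsLocalRing R] (K L M : Type u) [AddCommGroup K] [Module R K] [AddCommGroup L] [Module R L] [AddCommGroup M] [Module R M] (hK : IsFiniteLength R K) (hM : IsFiniteLength R M) (f : K →ₗ[R] L) (g : L →ₗ[R] M) (hf : Function.Injective f) (hg : Function.Surjective g) (hfg : LinearMap.range f = LinearMap.ker g) (hlen : (Module.length R K).toNat + (Module.length R M).toNat = (Module.length R L).toNat) : ∃ γ : (CycDet.Det R K ⊗[IsLocalRing.ResidueField R] CycDet.Det R M) ≃ₗ[IsLocalRing.ResidueField R] CycDet.Det R L, ∀ (eK : CycDet.Adm R K (Module.length R K).toNat) (eM : CycDet.Adm R M (Module.length R M).toNat) (eL : CycDet.Adm R L (Module.length R L).toNat), CycDet.symbol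 R K eK ≠ 0 → (∀ i : Fin (Module.length R K).toNat, eL.1 (Fin.cast hlen (Fin.castAdd (Module.length R M).toNat i)) = f (eK.1 i)) → (∀ j : Fin (Module.length R M).toNat, g (eL.1 (Fin.cast hlen (Fin.natAdd (Module.length R K).toNat j))) = eM.1 j) → γ (CycDet.symbol R K eK ⊗ₜ CycDet.symbol R M eM) = CycDet.symbol R L eL := by
  have hlK : Module.length R K = ((Module.length R K).toNat : ℕ∞) :=
    (ENat.natCast_toNat (Module.length_ne_top_iff.2 hK)).symm
  have hlM : Module.length R M = ((Module.length R M).toNat : ℕ∞) :=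
    (ENat.natCast_toNat (Module.length_ne_top_iff.2 hM)).symm
  have hlL : Module.length R L = ((Module.length R L).toNat : ℕ∞) := by
    have hL : Module.length R L ≠ ⊤ := by
      rw [Module.length_eq_add_of_exact f g hf hg (LinearMap.exact_iff.2 hfg.symm)]
      exact WithTop.add_ne_top.2
        ⟨Module.length_ne_top_iff.2 hK, Module.length_ne_top_iff.2 hM⟩
    exact (ENat.natCast_toNat hL).symm
  obtain ⟨σ, hσ⟩ := hg.hasRightInverse
  obtain ⟨k₀, hk₀, hnk⟩ := exists_nondeg hlK
  obtain ⟨m₀, hm₀, hnm⟩ := exists_nondeg hlM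
  let eK₀ : CycDet.Adm R K (Module.length R K).toNat := ⟨k₀, hk₀⟩
  let eM₀ : CycDet.Adm R M (Module.length R M).toNat := ⟨m₀, hm₀⟩
  let eL₀ : CycDet.Adm R L (Module.length R L).toNat :=
    ⟨join hlen (f ∘ k₀) (σ ∘ m₀), adm_join hlen hk₀
      (by rw [← Function.comp_assoc, show g ∘ σ = id from funext hσ]; exact hm₀)
      (hker_of_nondeg hlK hfg eK₀ hnk)⟩
  have hnL : Nondeg R eL₀.1 := by
    refine nondeg_of_span hlL eL₀.2 ?_
    rw [← before_of_ge (R := R) eL₀.1 hlen.ge]
    show CycDet.spanBefore R L (join hlen (f ∘ k₀) (σ ∘ m₀)) _ = ⊤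
    rw [before_right f g hlen k₀ (σ ∘ m₀) (hker_of_nondeg hlK hfg eK₀ hnk),
      ← Function.comp_assoc, show g ∘ σ = id from funext hσ, Function.id_comp,
      before_of_ge (R := R) m₀ le_rfl, span_eq_top_of_nondeg hlM hm₀ hnm, Submodule.comap_top]
  refine ⟨(TensorProduct.congr (coordEquiv hlK eK₀ hnk).symm (coordEquiv hlM eM₀ hnm).symm).trans
    ((TensorProduct.lid _ _).trans (coordEquiv hlL eL₀ hnL)), ?_⟩
  intro eK eM eL hne hleft hright
  have hnK : Nondeg R eK.1 := by
    by_contra hd
    obtain ⟨a, ha⟩ := not_forall.1 hd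
    exact hne (cls_deg eK a (not_not.1 ha))
  obtain ⟨lam, hlam⟩ := exists_smul_cls hlK eK₀ hnk (cls eK)
  obtain ⟨mu, hmu⟩ := exists_smul_cls hlM eM₀ hnm (cls eM)
  show _ = cls eL
  rw [show CycDet.symbol R K eK = cls eK from rfl, show CycDet.symbol R M eM = cls eM from rfl,
    LinearEquiv.trans_apply, LinearEquiv.trans_apply, TensorProduct.congr_tmul, ← hlam, ← hmu,
    coordEquiv_symm_smul, coordEquiv_symm_smul, TensorProduct.lid_tmul, coordEquiv_apply,
    smul_eq_mul]
  have hcL : cls eL = concat hlK hfg hlen σ hσ eK eM :=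
    (concat_eq hlK hfg hlen σ hσ hnK eM eL hleft hright).symm
  have hc0 : concat hlK hfg hlen σ hσ eK₀ eM₀ = cls eL₀ := dif_pos hnk
  obtain ⟨F, hF⟩ := exists_lift (respectsRel_concat_right (m := _) hlK hfg hlen σ hσ eK)
  obtain ⟨G, hG⟩ := exists_lift (respectsRel_concat_left (m := _) hlK hfg hlen σ hσ eM₀)
  rw [hcL, ← hF eM, ← hmu, map_smul, hF eM₀, ← hG eK, ← hlam, map_smul, hG eK₀, hc0, smul_smul,
    mul_comm]

end Groth.Agent.S1854
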