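import Mathlib
import Groth.Statements.S18544
-- import your own Groth.Agent.* helpers here

set_option autoImplicit false
universe u
open CAlg

namespace Groth.Agent.S18544

/-- Let F be an algebraically closed field of characteristic zero, n a natural number, and N a nonzero
polynomial over F in the n² matrix entries whose evaluation on n × n matrices is multiplicative,
N(xy) = N(x)·N(y) for all x, y (a norm form on the matrix algebra M_n(F) over F). Then N is a
natural power of the determinant: for some m, N(x) = det(x)^m for every matrix x. The published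
statement concerns norm forms of any central simple algebra over a subfield; this row is the case of
the full matrix algebra over an algebraically closed field, which is the case its proof treats. -/
theorem result (F : Type u) [Field F] [IsAlgClosed F]
    [CharZero F] (n : ℕ) (N : MvPolynomial (Fin n × Fin n) F) (hN : N ≠ 0)
    (hmul : ∀ x y : Matrix (Fin n) (Fin n) F,
      MvPolynomial.eval (fun ij : Fin n × Fin n => (x * y) ij.1 ij.2) N =
        MvPolynomial.eval (fun ij : Fin n × Fin n => x ij.1 ij.2) N * MvPolynomial.eval (fun ij : Fin n × Fin n => y ij.1 ij.2) N) :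
    ∃ m : ℕ, ∀ x : Matrix (Fin n) (Fin n) F,
      MvPolynomial.eval (fun ij : Fin n × Fin n => x ij.1 ij.2) N = x.det ^ m := by
  classical
  set Φ : Matrix (Fin n) (Fin n) F → F :=
    fun x => MvPolynomial.eval (fun ij : Fin n × Fin n => x ij.1 ij.2) N with hΦ
  have hΦm : ∀ x y, Φ (x * y) = Φ x * Φ y := hmul
  -- restriction to a line
  have line : ∀ A B : Matrix (Fin n) (Fin n) F, ∃ f : Polynomial F, ∀ t : F, f.eval t = Φ (A + t • B) := by
    intro A B
    refine ⟨MvPolynomial.aeval (fun ij : Fin n × Fin n =>
      Polynomial.C (A ij.1 ij.2) + Polynomial.X * Polynomial.C (B ij.1 ij.2)) N, fun t => ?_⟩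
    rw [← Polynomial.coe_aeval_eq_eval, ← AlgHom.comp_apply, MvPolynomial.comp_aeval,
      hΦ]
    show _ = MvPolynomial.eval (fun ij : Fin n × Fin n => (A + t • B) ij.1 ij.2) N
    rw [← MvPolynomial.aeval_eq_eval]
    congr 1
    ext ij
    simp only [map_add, map_mul, Polynomial.aeval_C, Polynomial.aeval_X, Algebra.algebraMap_self, RingHom.id_apply, Matrix.add_apply, Matrix.smul_apply, smul_eq_mul]
  have h1 : Φ 1 = 1 := by
    obtain ⟨x, hx⟩ : ∃ x, Φ x ≠ 0 := by
      by_contra h
      push Not at h
      apply hN
      refine MvPolynomial.funext fun v => ?_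
      rw [map_zero, ← h (Matrix.of fun i j => v (i, j))]
      rfl
    have := hΦm x 1
    rw [mul_one] at this
    exact (mul_left_cancel₀ hx (by rw [← this, mul_one])).symm
  -- transvections
  have htv : ∀ (i j : Fin n), i ≠ j → ∀ c : F, Φ (Matrix.transvection i j c) = 1 := by
    intro i j hij c
    obtain ⟨f, hf⟩ := line 1 (Matrix.single i j 1)
    have hft : ∀ t, f.eval t = Φ (Matrix.transvection i j t) := by
      intro t; rw [hf, Matrix.transvection, Matrix.smul_single, smul_eq_mul, mul_one]
    have hadd : f.comp (Polynomial.C 2 * Polynomial.X) = f * f := by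
      refine Polynomial.funext fun t => ?_
      rw [Polynomial.eval_comp, Polynomial.eval_mul, Polynomial.eval_mul, Polynomial.eval_C,
        Polynomial.eval_X, two_mul, hft, hft, ← hΦm, Matrix.transvection_mul_transvection_same _ _ hij]
    have h0 : f.eval 0 = 1 := by rw [hft, Matrix.transvection_zero, h1]
    have hfne : f ≠ 0 := by rintro rfl; simp at h0
    have hd : f.natDegree = 0 := by
      have h2 := congrArg Polynomial.natDegree hadd
      rw [Polynomial.natDegree_comp, Polynomial.natDegree_C_mul (two_ne_zero (α := F)),
        Polynomial.natDegree_X, mul_one, Polynomial.natDegree_mul hfne hfne] at h2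
      omega
    rw [Polynomial.eq_C_of_natDegree_eq_zero hd] at hft h0
    rw [← hft, Polynomial.eval_C]
    simpa using h0
  have htv' : ∀ L : List (Matrix.TransvectionStruct (Fin n) F),
      Φ (L.map Matrix.TransvectionStruct.toMatrix).prod = 1 := by
    intro L
    induction L with
    | nil => simpa using h1
    | cons t L ih => rw [List.map_cons, List.prod_cons, hΦm, ih, mul_one]; exact htv t.i t.j t.hij t.c
  -- diagonal matrices with one entry changed
  let δ : Fin n → F → Matrix (Fin n) (Fin n) F := fun i t => Matrix.diagonal (Function.update (fun _ => 1) i t)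
  have hδ : ∀ i, ∃ k : ℕ, ∀ t, Φ (δ i t) = t ^ k := by
    intro i
    obtain ⟨f, hf⟩ := line (δ i 0) (Matrix.single i i 1)
    have hft : ∀ t, f.eval t = Φ (δ i t) := by
      intro t
      rw [hf]
      congr 1
      ext a b
      simp only [δ, Matrix.add_apply, Matrix.smul_apply, Matrix.diagonal_apply, Matrix.single_apply,
        Function.update_apply]
      by_cases hab : a = b
      · subst hab
        by_cases hai : a = i
        · subst hai; simp
        · simp [hai, Ne.symm hai]
      · by_cases hai : i = a
        · subst hai; simp [hab]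
        · simp [hab, hai]
    have hm2 : ∀ s t, f.eval (s * t) = f.eval s * f.eval t := by
      intro s t
      rw [hft, hft, hft, ← hΦm, Matrix.diagonal_mul_diagonal]
      refine congrArg Φ (congrArg Matrix.diagonal (funext fun a => ?_))
      show _ = Function.update (fun _ => (1:F)) i s a * Function.update (fun _ => (1:F)) i t a
      by_cases hai : a = i
      · subst hai; simp
      · simp [hai]
    have hone : f.eval 1 = 1 := by rw [hft, show δ i 1 = 1 by simp [δ], h1]
    have hfne : f ≠ 0 := by rintro rfl; simp at hone
    refine ⟨f.natDegree, fun t => ?_⟩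
    rw [← hft]
    have he : f.comp (Polynomial.C t * Polynomial.X) = Polynomial.C (f.eval t) * f := by
      refine Polynomial.funext fun s => ?_
      rw [Polynomial.eval_comp, Polynomial.eval_mul, Polynomial.eval_mul, Polynomial.eval_C,
        Polynomial.eval_X, Polynomial.eval_C, hm2]
    have hc := congrArg (fun g : Polynomial F => g.coeff f.natDegree) he
    simp only [Polynomial.comp_C_mul_X_coeff, Polynomial.coeff_C_mul] at hc
    rw [mul_comm (f.coeff f.natDegree)] at hc
    exact (mul_right_cancel₀ (Polynomial.leadingCoeff_ne_zero.mpr hfne) hc).symm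
  choose k hk using hδ
  have hsym : ∀ i j, k i = k j := by
    intro i j
    let P : Matrix (Fin n) (Fin n) F := (Equiv.swap i j).toPEquiv.toMatrix
    have hPP : P * P = 1 := by
      simp only [P]
      rw [← PEquiv.toMatrix_trans, ← Equiv.toPEquiv_trans, ← Equiv.Perm.mul_def, Equiv.swap_mul_self]
      simp
    have hconj : ∀ t, δ j t = P * δ i t * P := by
      intro t
      ext a b
      simp only [P, δ, PEquiv.mul_toMatrix_toPEquiv, PEquiv.toMatrix_toPEquiv_mul, Matrix.submatrix_apply,
        id, Equiv.symm_swap, Matrix.diagonal_apply, (Equiv.swap i j).injective.eq_iff, Function.update_apply,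
        Equiv.apply_eq_iff_eq_symm_apply, Equiv.swap_apply_left, Equiv.swap_apply_self]
    have hall : ∀ t : F, t ^ k i = t ^ k j := by
      intro t
      rw [← hk, ← hk, hconj t, hΦm, hΦm, mul_comm (Φ P), mul_assoc, ← hΦm, hPP, h1, mul_one]
    have hp : (Polynomial.X : Polynomial F) ^ k i = Polynomial.X ^ k j :=
      Polynomial.funext fun t => by simpa using hall t
    simpa using congrArg Polynomial.natDegree hp
  obtain ⟨m, hm⟩ : ∃ m, ∀ i, k i = m := by
    rcases Nat.eq_zero_or_pos n with rfl | hn
    · exact ⟨0, fun i => i.elim0⟩
    · exact ⟨k ⟨0, hn⟩, fun i => hsym _ _⟩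
  have hdiag : ∀ (D : Fin n → F) (s : Finset (Fin n)),
      Φ (Matrix.diagonal fun a => if a ∈ s then D a else 1) = (∏ a ∈ s, D a) ^ m := by
    intro D s
    induction s using Finset.induction with
    | empty => simpa using h1
    | insert i s his ih =>
      rw [Finset.prod_insert his, mul_pow, ← ih, ← hm i, ← hk, ← hΦm, Matrix.diagonal_mul_diagonal]
      congr 2
      ext a
      by_cases hai : a = i
      · subst hai; simp [his]
      · simp [hai]
  refine ⟨m, fun x => ?_⟩
  show Φ x = x.det ^ m
  obtain ⟨L, L', D, rfl⟩ := Matrix.Pivot.exists_list_transvec_mul_diagonal_mul_list_transvec x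
  rw [hΦm, hΦm, htv', htv', one_mul, mul_one, Matrix.det_mul, Matrix.det_mul,
    Matrix.TransvectionStruct.det_toMatrix_prod, Matrix.TransvectionStruct.det_toMatrix_prod,
    one_mul, mul_one, Matrix.det_diagonal]
  simpa using hdiag D Finset.univ

end Groth.Agent.S18544
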