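import Groth.Statements.S18545
import Mathlib

set_option autoImplicit false
universe u
open AbVar

namespace Groth.Agent.S18545

/-- A step in the proof of Tate's isogeny result over finite fields, in linear-algebra form. Let K be a
field and V a K-vector space of finite dimension 2g carrying a nondegenerate alternating bilinear
form e. Let F be a K-subalgebra of End(V) which is isomorphic as a K-algebra to a finite product K ×
⋯ × K and which is spanned over K by a set S of similitudes of e (for each s in S there is a nonzero
scalar c with e(s x, s y) = c·e(x, y) for all x, y). Let D be a set of endomorphisms of V such that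
every F-stable isotropic subspace W of dimension g (a maximal isotropic subspace) is D-stable. Then
every F-stable isotropic subspace of V is D-stable. (In the application V is the rational ℓ-adic
Tate module of an abelian variety over a finite field with the Riemann form of a polarisation, F the
algebra generated by the Galois group, split for the chosen ℓ, and D the commutant of the image of
the endomorphism algebra; the hypothesis on maximal isotropic subspaces is the step obtained from
the finiteness of isomorphism classes.) -/
theorem result (K : Type u) [Field K]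
    (V : Type u) [AddCommGroup V] [Module K V] [FiniteDimensional K V] (g : ℕ) (hV : Module.finrank K V = 2 * g)
    (e : LinearMap.BilinForm K V) (he : e.IsAlt) (hnd : e.Nondegenerate)
    (F : Subalgebra K (Module.End K V)) (r : ℕ) (hF : Nonempty (F ≃ₐ[K] (Fin r → K)))
    (S : Set (Module.End K V)) (hS : Submodule.span K S = Subalgebra.toSubmodule F)
    (hsim : ∀ s ∈ S, ∃ c : K, c ≠ 0 ∧ ∀ x y : V, e (s x) (s y) = c * e x y)
    (D : Set (Module.End K V))
    (hmax : ∀ W : Submodule K V, (∀ f ∈ F, ∀ w ∈ W, f w ∈ W) → (∀ x ∈ W, ∀ y ∈ W, e x y = 0) →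
      Module.finrank K W = g → ∀ d ∈ D, ∀ w ∈ W, d w ∈ W)
    (W : Submodule K V) (hWF : ∀ f ∈ F, ∀ w ∈ W, f w ∈ W) (hWiso : ∀ x ∈ W, ∀ y ∈ W, e x y = 0) :
    ∀ d ∈ D, ∀ w ∈ W, d w ∈ W := by
  obtain ⟨φ⟩ := hF
  let p : Fin r → Module.End K V := fun i => ((φ.symm (Pi.single i 1) : F) : Module.End K V)
  have hp : ∀ i, p i ∈ F := fun i => (φ.symm (Pi.single i 1)).2
  have hsum : ∑ i, p i = 1 := by
    have h1 : φ.symm (∑ i, Pi.single i 1) = 1 := by
      rw [Finset.univ_sum_single (fun _ : Fin r => (1 : K))]
      exact map_one φ.symm
    rw [map_sum] at h1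
    simpa [p] using congrArg (Subalgebra.val F) h1
  have heig : ∀ i, ∀ f ∈ F, ∃ c : K, ∀ v : V, f (p i v) = c • p i v := by
    intro i f hf
    refine ⟨φ ⟨f, hf⟩ i, fun v => ?_⟩
    have h1 : (⟨f, hf⟩ : F) * φ.symm (Pi.single i 1) = (φ ⟨f, hf⟩ i) • φ.symm (Pi.single i 1) := by
      apply φ.injective
      rw [map_mul, map_smul, AlgEquiv.apply_symm_apply]
      ext j
      by_cases h : j = i
      · subst h; simp
      · simp [h]
    have h2 := congrArg (fun z : F => (z : Module.End K V) v) h1
    simpa [p] using h2
  have key : ∀ n : ℕ, ∀ W : Submodule K V, (∀ f ∈ F, ∀ w ∈ W, f w ∈ W) →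
      (∀ x ∈ W, ∀ y ∈ W, e x y = 0) → 2 * g - Module.finrank K W ≤ n →
      ∀ d ∈ D, ∀ w ∈ W, d w ∈ W := by
    intro n
    induction n with
    | zero =>
      intro W hWF hWiso hn
      have hle : W ≤ e.orthogonal W := fun x hx y hy => hWiso y hy x hx
      have h1 := Submodule.finrank_mono hle
      have h2 := LinearMap.BilinForm.finrank_orthogonal hnd W
      exact hmax W hWF hWiso (by omega)
    | succ n ih =>
      intro W hWF hWiso hn
      have hle : W ≤ e.orthogonal W := fun x hx y hy => hWiso y hy x hx
      have h1 := Submodule.finrank_mono hle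
      have h2 := LinearMap.BilinForm.finrank_orthogonal hnd W
      by_cases hg : Module.finrank K W = g
      · exact hmax W hWF hWiso hg
      -- the orthogonal is F-stable
      have horth : ∀ f ∈ F, ∀ x ∈ e.orthogonal W, f x ∈ e.orthogonal W := by
        intro f hf x hx
        have hf' : f ∈ Submodule.span K S := by rw [hS]; exact hf
        induction hf' using Submodule.span_induction with
        | mem s hs =>
          intro y hy
          obtain ⟨c, hc, hce⟩ := hsim s hs
          have hsF : s ∈ F := by
            have hh : s ∈ Submodule.span K S := Submodule.subset_span hs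
            rw [hS] at hh; exact hh
          let sW : W →ₗ[K] W := s.restrict (fun w hw => hWF s hsF w hw)
          have hinj : Function.Injective sW := by
            rw [← LinearMap.ker_eq_bot, LinearMap.ker_eq_bot']
            intro w hw
            have hw' : s w.1 = 0 := congrArg Subtype.val hw
            apply Subtype.ext
            refine hnd.1 w.1 (fun v => ?_)
            have h := hce w.1 v
            rw [hw', map_zero, LinearMap.zero_apply] at h
            exact (mul_eq_zero.mp h.symm).resolve_left hc
          obtain ⟨y', hy'⟩ := (LinearMap.injective_iff_surjective.mp hinj) ⟨y, hy⟩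
          have hy'' : s y'.1 = y := congrArg Subtype.val hy'
          show e y (s x) = 0
          rw [← hy'', hce, hx y'.1 y'.2, mul_zero]
        | zero => simp
        | add a b ha hb iha ihb =>
          rw [LinearMap.add_apply]
          exact add_mem (iha (by rw [← Subalgebra.mem_toSubmodule, ← hS]; exact ha))
            (ihb (by rw [← Subalgebra.mem_toSubmodule, ← hS]; exact hb))
        | smul a b hb ihb =>
          rw [LinearMap.smul_apply]
          exact Submodule.smul_mem _ _ (ihb (by rw [← Subalgebra.mem_toSubmodule, ← hS]; exact hb))
      have hex : ∀ U : Submodule K V, Module.finrank K U < Module.finrank K (e.orthogonal W) →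
          ∃ i, ∃ x ∈ e.orthogonal W, p i x ∉ U := by
        intro U hU
        by_contra hcon
        push Not at hcon
        have : e.orthogonal W ≤ U := by
          intro x hx
          have hx' : x = ∑ i, p i x := by rw [← LinearMap.sum_apply, hsum]; rfl
          rw [hx']
          exact Submodule.sum_mem _ (fun i _ => hcon i x hx)
        have := Submodule.finrank_mono this
        omega
      obtain ⟨i, x, hx, hxW⟩ := hex W (by omega)
      have hdimsup : ∀ z : V, z ∉ W → Module.finrank K ↥(W ⊔ K ∙ z) = Module.finrank K W + 1 := by
        intro z hz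
        have hz0 : z ≠ 0 := fun h => hz (h ▸ zero_mem W)
        have hinf : W ⊓ K ∙ z = ⊥ := (Submodule.disjoint_span_singleton_of_notMem hz).eq_bot
        have := Submodule.finrank_sup_add_finrank_inf_eq W (K ∙ z)
        rw [hinf, finrank_bot, finrank_span_singleton hz0] at this
        omega
      obtain ⟨j, y, hy, hyW1⟩ := hex (W ⊔ K ∙ p i x) (by rw [hdimsup _ hxW]; omega)
      have hyW : p j y ∉ W := fun h => hyW1 (Submodule.mem_sup_left h)
      have hstep : ∀ (l : Fin r) (z : V), z ∈ e.orthogonal W → p l z ∉ W →
          ∀ d ∈ D, ∀ w ∈ W ⊔ K ∙ p l z, d w ∈ W ⊔ K ∙ p l z := by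
        intro l z hz hzW
        refine ih _ ?_ ?_ (by rw [hdimsup _ hzW]; omega)
        · intro f hf w hw
          obtain ⟨a, ha, b, hb, rfl⟩ := Submodule.mem_sup.mp hw
          obtain ⟨c, rfl⟩ := Submodule.mem_span_singleton.mp hb
          obtain ⟨c', hc'⟩ := heig l f hf
          rw [map_add, map_smul, hc', smul_smul]
          exact add_mem (Submodule.mem_sup_left (hWF f hf a ha))
            (Submodule.mem_sup_right (Submodule.smul_mem _ _ (Submodule.mem_span_singleton_self _)))
        · intro u hu v hv
          obtain ⟨a, ha, b, hb, rfl⟩ := Submodule.mem_sup.mp hu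
          obtain ⟨a', ha', b', hb', rfl⟩ := Submodule.mem_sup.mp hv
          obtain ⟨c, rfl⟩ := Submodule.mem_span_singleton.mp hb
          obtain ⟨c', rfl⟩ := Submodule.mem_span_singleton.mp hb'
          have hz' := horth (p l) (hp l) z hz
          have e1 : e a (p l z) = 0 := hz' a ha
          have e2 : e (p l z) a' = 0 := by
            rw [← he.neg_eq a' (p l z), hz' a' ha', neg_zero]
          simp [hWiso a ha a' ha', e1, e2, he (p l z)]
      intro d hd w hw
      obtain ⟨a, ha, b, hb, hab⟩ := Submodule.mem_sup.mp (hstep i x hx hxW d hd w (Submodule.mem_sup_left hw))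
      obtain ⟨c, rfl⟩ := Submodule.mem_span_singleton.mp hb
      have h3 := hstep j y hy hyW d hd w (Submodule.mem_sup_left hw)
      obtain ⟨a', ha', b', hb', hab'⟩ := Submodule.mem_sup.mp h3
      obtain ⟨c', rfl⟩ := Submodule.mem_span_singleton.mp hb'
      by_cases hc' : c' = 0
      · rw [← hab', hc', zero_smul, add_zero]; exact ha'
      · exfalso
        apply hyW1
        have : p j y = c'⁻¹ • ((a - a') + c • p i x) := by
          rw [eq_inv_smul_iff₀ hc']
          have := hab'.trans hab.symm
          linear_combination (norm := module) this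
        rw [this]
        exact Submodule.smul_mem _ _ (add_mem (Submodule.mem_sup_left (sub_mem ha ha'))
          (Submodule.mem_sup_right (Submodule.smul_mem _ _ (Submodule.mem_span_singleton_self _))))
  exact key _ W hWF hWiso le_rfl

end Groth.Agent.S18545
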