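import Groth.Statements.S18550
import Groth.Agent.DTrunc.WayOut
import Mathlib.Algebra.Homology.DerivedCategory.FullyFaithful
-- import your own Groth.Agent.* helpers here

set_option autoImplicit false
open CategoryTheory Limits
universe w v u
open CohDer

namespace Groth.Agent.S18550

open Groth.Agent.DTrunc

variable {C : Type u} [Category.{v} C] [Abelian C] [HasDerivedCategory.{w} C]

lemma hom_single_eq_zero {Y : DerivedCategory C} (b : ℤ) [Y.IsGE b] [Y.IsLE b]
    (f : Y ⟶ Y) (hf : (DerivedCategory.homologyFunctor C b).map f = 0) : f = 0 := by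
  obtain ⟨Z, ⟨e⟩⟩ := DerivedCategory.exists_iso_singleFunctor_obj_of_isGE_of_isLE Y b
  obtain ⟨h, hh⟩ := (DerivedCategory.singleFunctor C b).map_surjective (e.inv ≫ f ≫ e.hom)
  have h0 : (DerivedCategory.singleFunctor C b ⋙ DerivedCategory.homologyFunctor C b).map h = 0 := by
    simp [hh, hf]
  have : h = 0 := by
    have hn := NatIso.naturality_1 (DerivedCategory.singleFunctorCompHomologyFunctorIso C b) h
    rw [h0] at hn
    simpa using hn.symm
  rw [this, Functor.map_zero] at hh
  rw [← cancel_epi e.inv, ← cancel_mono e.hom, Category.assoc, ← hh]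
  simp

lemma pow_eq_zero_of_homology (k : ℕ) : ∀ (X : DerivedCategory C) (a : ℤ), X.IsGE a → X.IsLE (a + k - 1) →
    ∀ f : CategoryTheory.End X, (∀ i : ℤ, (DerivedCategory.homologyFunctor C i).map f = 0) → f ^ k = 0 := by
  induction k with
  | zero =>
    intro X a h1 h2 f _
    have h2' : X.IsLE (a - 1) := by simpa using h2
    have hX : IsZero X := DerivedCategory.TStructure.t.isZero X (a - 1) a (by omega)
    exact hX.eq_of_src _ _
  | succ k ih =>
    intro X a h1 h2 f hf
    have hXb : X.IsLE (a + k) := by
      rwa [show a + ((k + 1 : ℕ) : ℤ) - 1 = a + k by push_cast; omega] at h2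
    let T := (DerivedCategory.TStructure.t.triangleLTGE (a + k)).obj X
    have hT : T ∈ Pretriangulated.distinguishedTriangles :=
      DerivedCategory.TStructure.t.triangleLTGE_distinguished (a + k) X
    have hT1 : T.obj₁.IsLE (a + k - 1) :=
      (inferInstance : DerivedCategory.TStructure.t.IsLE
        ((DerivedCategory.TStructure.t.triangleLTGE (a + k)).obj X).obj₁ _)
    have hT3 : T.obj₃.IsGE (a + k) :=
      (inferInstance : DerivedCategory.TStructure.t.IsGE
        ((DerivedCategory.TStructure.t.triangleLTGE (a + k)).obj X).obj₃ _)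
    have hT1' : T.obj₁.IsGE a := by
      rw [DerivedCategory.isGE_iff]
      intro j hj
      have h' := isIso_homology_mor₁ T hT (a + k) j (by omega)
      exact (DerivedCategory.isZero_of_isGE X a j hj).of_iso (@asIso _ _ _ _ _ h')
    have hT3' : T.obj₃.IsLE (a + k) := by
      rw [DerivedCategory.isLE_iff]
      intro j hj
      have h' := isIso_homology_mor₂ T hT (a + k - 1) j (by omega)
      exact (DerivedCategory.isZero_of_isLE X (a + k) j hj).of_iso (@asIso _ _ _ _ _ h').symm
    let φ : T.obj₃ ⟶ T.obj₃ := (DerivedCategory.TStructure.t.truncGE (a + k)).map f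
    have hnat : T.mor₂ ≫ φ = f ≫ T.mor₂ :=
      DerivedCategory.TStructure.t.truncGEπ_naturality (a + k) f
    have hφ : φ = 0 := by
      refine hom_single_eq_zero (a + k) φ ?_
      have h' : IsIso ((DerivedCategory.homologyFunctor C (a + k)).map T.mor₂) :=
        isIso_homology_mor₂ T hT (a + k - 1) (a + k) (by omega)
      rw [← cancel_epi ((DerivedCategory.homologyFunctor C (a + k)).map T.mor₂),
        ← Functor.map_comp, hnat, comp_zero]
      refine (Functor.map_comp _ _ _).trans ?_
      exact (congrArg (· ≫ (DerivedCategory.homologyFunctor C (a + k)).map T.mor₂)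
        (hf (a + k))).trans zero_comp
    rw [hφ, comp_zero] at hnat
    let ι : T.obj₁ ⟶ X := T.mor₁
    obtain ⟨g, hg⟩ : ∃ g : X ⟶ T.obj₁, (f : X ⟶ X) = g ≫ ι :=
      Pretriangulated.Triangle.coyoneda_exact₂ T hT f hnat.symm
    let f' : CategoryTheory.End T.obj₁ := ι ≫ g
    have hf' : ∀ i : ℤ, (DerivedCategory.homologyFunctor C i).map f' = 0 := by
      intro i
      by_cases hi : i < a + k
      · have h' : IsIso ((DerivedCategory.homologyFunctor C i).map ι) :=
          isIso_homology_mor₁ T hT (a + k) i hi
        rw [← cancel_mono ((DerivedCategory.homologyFunctor C i).map ι), zero_comp,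
          ← Functor.map_comp]
        show (DerivedCategory.homologyFunctor C i).map ((ι ≫ g) ≫ ι) = 0
        rw [Category.assoc, ← hg, Functor.map_comp, hf i, comp_zero]
      · exact (DerivedCategory.isZero_of_isLE T.obj₁ (a + k - 1) i (by omega)).eq_of_src _ _
    have hp := ih T.obj₁ a hT1' (by simpa using hT1) f' hf'
    have key : ∀ j : ℕ, (f ^ (j + 1) : CategoryTheory.End X) =
        g ≫ (f' ^ j : CategoryTheory.End T.obj₁) ≫ ι := by
      intro j
      induction j with
      | zero => simpa [End.one_def] using hg
      | succ j hj =>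
        rw [pow_succ' f (j + 1), hj, pow_succ' f' j, End.mul_def, End.mul_def]
        simp only [f', Category.assoc, hg]
    rw [key k, hp]
    simp


/-- Let A be an abelian category, X an object of its derived category whose cohomology objects H^i(X)
are zero for all integers i outside the interval [a, a + n], and f : X → X an endomorphism in the
derived category such that H^i(f) = 0 for every i. Then f^(n+1) = 0. (The source works in the
bounded derived category; the statement in D(A) for an object with cohomology bounded in this way is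
the same assertion, the bounded derived category being a full subcategory.) -/
theorem result (A : Type u) [Category.{v} A] [Abelian A]
    [HasDerivedCategory.{w} A] (X : DerivedCategory A) (a : ℤ) (n : ℕ)
    (hX : ∀ i : ℤ, i < a ∨ a + n < i → IsZero ((DerivedCategory.homologyFunctor A i).obj X))
    (f : CategoryTheory.End X) (hf : ∀ i : ℤ, (DerivedCategory.homologyFunctor A i).map f = 0) :
    f ^ (n + 1) = 0 := by
  have h1 : X.IsGE a := (DerivedCategory.isGE_iff X a).2 fun i hi => hX i (Or.inl hi)
  have h2 : X.IsLE (a + ((n + 1 : ℕ) : ℤ) - 1) :=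
    (DerivedCategory.isLE_iff X _).2 fun i hi => hX i (Or.inr (by push_cast at hi; omega))
  exact pow_eq_zero_of_homology (n + 1) X a h1 h2 f hf

end Groth.Agent.S18550
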