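import Groth.Statements.S18555
import Mathlib
import Groth.Agent.FrobSplit71.Nilp
-- import your own Groth.Agent.* helpers here

set_option autoImplicit false
universe u
open FrobSch

namespace Groth.Agent.S18555

open AlgebraicGeometry CategoryTheory in
/-- Let k be an algebraically closed field of characteristic p > 0 and X a connected proper k-scheme
with trivial étale fundamental group, in the sense that every finite étale cover of X is a finite
disjoint union of copies of X. Then the pull-back by the absolute Frobenius, i.e. the additive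
endomorphism of H^1(X, O_X) induced by the p-th power map of the structure sheaf, is nilpotent: some
positive power of it vanishes. (The published setting has X smooth and projective over k; the
argument given uses only that X is proper and connected.) -/
theorem result
    (p : ℕ) [Fact p.Prime] (k : Type u) [Field k] [IsAlgClosed k] [CharP k p]
    (X : Scheme.{u}) [X.Over (Spec (CommRingCat.of k))] [IsProper (X ↘ Spec (CommRingCat.of k))]
    [ConnectedSpace X] [FrobSch.IsCharP X p]
    (hπ : ∀ Y : FEt.Cat X, Pi1.IsSplit Y) :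
    ∃ b : ℕ, 0 < b ∧ ∀ x : Coh.HH X (Coh.structureModule X) 1,
      (W4c5isocrystsimpconn.frobH X p 1)^[b] x = 0 := by
  let f := X ↘ Spec (CommRingCat.of k)
  haveI : CompactSpace X := QuasiCompact.compactSpace_of_compactSpace f
  haveI : IsLocallyNoetherian X := LocallyOfFiniteType.isLocallyNoetherian f
  haveI : QuasiSeparatedSpace X := inferInstance
  have h0 := EtAS.Proper.natCast_eq_zero f p
  letI := EtAS.Proper.module f 1
  haveI := EtAS.Proper.finite f 1
  let φ : EtCoh.H X (EtCoh.Ga X) 1 →+ EtCoh.H X (EtCoh.Ga X) 1 :=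
    Sheaf.H.map (EtAS.Coherent.frob p (Fact.out : p.Prime) h0) 1
  have hφ : ∀ (c : k) x, φ (c • x) = c ^ p • φ x := fun c x => by
    change Sheaf.H.map (EtAS.Coherent.frob p Fact.out h0) 1
        (Sheaf.H.map (EtAS.Coherent.mulGa (Coh.toGlobal f c)) 1 x) =
      Sheaf.H.map (EtAS.Coherent.mulGa (Coh.toGlobal f (c ^ p))) 1
        (Sheaf.H.map (EtAS.Coherent.frob p Fact.out h0) 1 x)
    rw [← Sheaf.H.map_comp_apply, ← Sheaf.H.map_comp_apply, EtAS.Coherent.mulGa_frob, map_pow]
    rfl
  have hfix : ∀ v, φ v = v → v = 0 := fun v hv => by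
    have hS := EtaleSite.ArtinSchreierKer.shortExact (X := X) p h0
    have hAS : Sheaf.H.map (W4c5etcohweilstudent.artinSchreierEndo X p Fact.out h0) 1 v = 0 := by
      have h1 : φ v = Sheaf.H.map (W4c5etcohweilstudent.artinSchreierEndo X p Fact.out h0) 1 v + v :=
        (Sheaf.H.map_add_apply _ _ v).trans (congrArg (_ + ·) (Sheaf.H.map_id_apply v))
      rw [hv] at h1
      exact right_eq_add.1 h1
    rw [Sheaf.H.map_apply] at hAS
    obtain ⟨w, hw⟩ := Abelian.Ext.covariant_sequence_exact₂ _ hS v hAS
    have hw0 : w = 0 := FrobSplit71.eq_zero_of_isSplit hπ p w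
    rw [← hw, hw0]
    exact Abelian.Ext.zero_comp _ _ _ _ _
  obtain ⟨b, hb, hb0⟩ := FrobSplit71.exists_iterate_eq_zero φ hφ hfix
  obtain ⟨E, hE⟩ := FrobSplit71.exists_equiv_frob X p h0 1
  refine ⟨b, hb, fun x => ?_⟩
  obtain ⟨y, rfl⟩ := E.surjective x
  have hcomm : ∀ (m : ℕ) y, E (φ^[m] y) = (W4c5isocrystsimpconn.frobH X p 1)^[m] (E y) := by
    intro m
    induction m with
    | zero => exact fun y => rfl
    | succ m ih => intro y; rw [Function.iterate_succ_apply', Function.iterate_succ_apply', ← ih]; exact hE _
  rw [← hcomm, hb0, map_zero]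


end Groth.Agent.S18555
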