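import Groth.Statements.S18561
import Mathlib
-- import your own Groth.Agent.* helpers here

set_option autoImplicit false
universe u v
open PtQuiv

namespace Groth.Agent.S18561

/-- Let K be a field and s i ∈ K² (i in a finite index type) nonzero vectors, regarded as a
representation of the quiver with a central vertex carrying the plane and one vertex per i carrying
a line mapping to the plane by 1 ↦ s i. Then the representation is stable for some weight of the
hypersimplex (0 ≤ θ i ≤ 1, Σ θ i = 2, central weight -1) if and only if the s i fall into at least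
three proportionality classes, i.e. three of them are pairwise non-proportional. (The published
statement is over an algebraically closed field and assumes semistability for some interior weight
instead of s i ≠ 0; any field is allowed here. Its further assertions, that the set of semistability
weights is full-dimensional exactly in this case and is a wall otherwise, are not part of this row.) -/
theorem result (K : Type u) [Field K] (ι : Type v)
    [Fintype ι] (s : ι → (Fin 2 → K)) (hs : ∀ i, s i ≠ 0) :
    (∃ θ : ι → ℚ, (∀ i, 0 ≤ θ i) ∧ (∀ i, θ i ≤ 1) ∧ ∑ i, θ i = 2 ∧ PtQuiv.QStable (-1) θ s) ↔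
      ∃ i j k : ι, s i ∉ K ∙ s j ∧ s j ∉ K ∙ s k ∧ s i ∉ K ∙ s k := by
  classical
  constructor
  · rintro ⟨θ, h0, -, h2, hss, hst⟩
    by_contra hne
    push Not at hne
    have hline : ∀ v : Fin 2 → K, v ≠ 0 → ∀ I : Finset ι, (∀ i ∈ I, s i ∈ K ∙ v) → ∑ i ∈ I, θ i < 1 := by
      intro v hv I hI
      have hle := hss.2 (K ∙ v) I hI
      rcases lt_or_eq_of_le hle with h | h
      · unfold PtQuiv.QWt at h; rw [finrank_span_singleton hv] at h; push_cast at h; linarith
      · exfalso
        rcases hst _ I hI h with ⟨hb, -⟩ | ⟨ht, -⟩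
        · exact hv (Submodule.span_singleton_eq_bot.1 hb)
        · have := congrArg (fun L : Submodule K (Fin 2 → K) => Module.finrank K L) ht
          simp [finrank_span_singleton hv] at this
    rcases isEmpty_or_nonempty ι with hι | ⟨⟨i₀⟩⟩
    · simp at h2
    by_cases hall : ∀ i, s i ∈ K ∙ s i₀
    · have := hline (s i₀) (hs i₀) Finset.univ fun i _ => hall i
      linarith
    · push Not at hall
      obtain ⟨j, hj⟩ := hall
      have hcase : ∀ k, s k ∈ K ∙ s i₀ ∨ s k ∈ K ∙ s j := by
        intro k
        by_contra hk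
        push Not at hk
        exact hk.2 (by
          by_contra h
          exact absurd (hne k j i₀ h hj) (by simpa using hk.1))
      have ha := hline (s i₀) (hs i₀) (Finset.univ.filter fun i => s i ∈ K ∙ s i₀) (by simp)
      have hb := hline (s j) (hs j) (Finset.univ.filter fun i => ¬ s i ∈ K ∙ s i₀)
        (fun i hi => (hcase i).resolve_left (Finset.mem_filter.1 hi).2)
      rw [← Finset.sum_filter_add_sum_filter_not Finset.univ (fun i => s i ∈ K ∙ s i₀)] at h2
      linarith
  · rintro ⟨i, j, k, hij, hjk, hik⟩
    let ℓ : ι → Submodule K (Fin 2 → K) := fun i => K ∙ s i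
    let Λ := Finset.univ.image ℓ
    let cnt : ι → ℕ := fun i => (Finset.univ.filter fun a => ℓ a = ℓ i).card
    let n : ℚ := Λ.card
    have hℓ : ∀ a b, ℓ a = ℓ b → s a ∈ K ∙ s b := fun a b h =>
      (h ▸ (Submodule.mem_span_singleton_self (s a) : s a ∈ ℓ a) : s a ∈ ℓ b)
    have hmem : ∀ a (v : Fin 2 → K), s a ∈ K ∙ v → ℓ a = K ∙ v := by
      intro a v h
      obtain ⟨c, hc⟩ := Submodule.mem_span_singleton.1 h
      have hc0 : c ≠ 0 := fun h0 => hs a (by rw [← hc, h0, zero_smul])
      show K ∙ s a = _
      rw [← hc]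
      exact Submodule.span_singleton_smul_eq hc0.isUnit v
    have h3 : 3 ≤ Λ.card := by
      have hsub : ({ℓ i, ℓ j, ℓ k} : Finset _) ⊆ Λ := by simp [Finset.insert_subset_iff, Λ]
      have hc : ({ℓ i, ℓ j, ℓ k} : Finset _).card = 3 :=
        Finset.card_eq_three.2 ⟨_, _, _, fun h => hij (hℓ _ _ h), fun h => hik (hℓ _ _ h),
          fun h => hjk (hℓ _ _ h), rfl⟩
      exact hc ▸ Finset.card_le_card hsub
    have hn : (3 : ℚ) ≤ n := by simp only [n]; exact_mod_cast h3
    have hcnt : ∀ a, (1 : ℚ) ≤ cnt a := fun a => by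
      exact_mod_cast Finset.card_pos.2 ⟨a, by simp⟩
    let θ : ι → ℚ := fun a => 2 / (n * cnt a)
    have hpos : ∀ a, 0 < θ a := fun a => div_pos two_pos (mul_pos (by linarith) (by linarith [hcnt a]))
    have hfib : ∀ L ∈ Λ, ∑ a ∈ Finset.univ.filter (fun a => ℓ a = L), θ a = 2 / n := by
      intro L hL
      obtain ⟨b, -, rfl⟩ := Finset.mem_image.1 hL
      rw [Finset.sum_congr rfl (g := fun _ => 2 / (n * cnt b))]
      · rw [Finset.sum_const, nsmul_eq_mul]
        show (cnt b : ℚ) * _ = _
        have := hcnt b
        field_simp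
      · intro a ha
        have := (Finset.mem_filter.1 ha).2
        simp only [θ, cnt, this]
    have hsum : ∑ a, θ a = 2 := by
      rw [← Finset.sum_fiberwise_of_maps_to (g := ℓ) (t := Λ) (fun a _ => Finset.mem_image_of_mem ℓ (Finset.mem_univ a)),
        Finset.sum_congr rfl hfib, Finset.sum_const, nsmul_eq_mul]
      show n * (2 / n) = 2
      field_simp
    have hline : ∀ (v : Fin 2 → K) (I : Finset ι), (∀ a ∈ I, s a ∈ K ∙ v) → ∑ a ∈ I, θ a < 1 := by
      intro v I hI
      rcases I.eq_empty_or_nonempty with rfl | ⟨b, hb⟩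
      · simp
      · calc ∑ a ∈ I, θ a ≤ ∑ a ∈ Finset.univ.filter (fun a => ℓ a = ℓ b), θ a :=
              Finset.sum_le_sum_of_subset_of_nonneg (fun a ha => by
                simp [hmem a v (hI a ha), hmem b v (hI b hb)]) (fun a _ _ => (hpos a).le)
          _ = 2 / n := hfib _ (Finset.mem_image_of_mem ℓ (Finset.mem_univ b))
          _ < 1 := by rw [div_lt_one (by linarith)]; linarith
    have hcase : ∀ (L : Submodule K (Fin 2 → K)) (I : Finset ι), PtQuiv.QSubrep s L I →
        PtQuiv.QWt K (-1) θ L I ≤ 0 ∧ (PtQuiv.QWt K (-1) θ L I = 0 →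
          (L = ⊥ ∧ I = ∅) ∨ (L = ⊤ ∧ I = Finset.univ)) := by
      intro L I hI
      have hle : Module.finrank K L ≤ 2 := by simpa using L.finrank_le
      unfold PtQuiv.QWt
      interval_cases hd : Module.finrank K L
      · rw [Submodule.finrank_eq_zero] at hd
        have : I = ∅ := Finset.eq_empty_of_forall_notMem fun i hi => hs i (by simpa [hd] using hI i hi)
        exact ⟨by simp [this], fun _ => Or.inl ⟨hd, this⟩⟩
      · obtain ⟨v, hv, hspan⟩ := finrank_eq_one_iff'.1 hd
        have := hline v.1 I fun a ha => by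
          obtain ⟨c, hc⟩ := hspan ⟨s a, hI a ha⟩
          exact Submodule.mem_span_singleton.2 ⟨c, congrArg Subtype.val hc⟩
        push_cast
        exact ⟨by linarith, fun h => by linarith⟩
      · have hL : L = ⊤ := Submodule.eq_top_of_finrank_eq (by simpa using hd)
        have hb := Finset.sum_le_sum_of_subset_of_nonneg (f := θ) (Finset.subset_univ I) (fun a _ _ => (hpos a).le)
        push_cast
        refine ⟨by linarith, fun h => Or.inr ⟨hL, ?_⟩⟩
        by_contra hI'
        obtain ⟨a, ha⟩ : ∃ a, a ∉ I := by
          by_contra h'; push Not at h'; exact hI' (Finset.eq_univ_of_forall h')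
        have := Finset.sum_lt_sum_of_subset (f := θ) (Finset.subset_univ I) (Finset.mem_univ a) ha (hpos a)
          (fun a _ _ => (hpos a).le)
        linarith
    refine ⟨θ, fun a => (hpos a).le, fun a => ?_, hsum, ⟨by rw [hsum]; norm_num, fun L I h => (hcase L I h).1⟩,
      fun L I h => (hcase L I h).2⟩
    calc θ a ≤ 2 / (n * 1) := div_le_div_of_nonneg_left two_pos.le (by linarith) (by have := hcnt a; nlinarith)
      _ ≤ 1 := by rw [div_le_one (by linarith)]; linarith

end Groth.Agent.S18561
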