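import Groth.Statements.S18563
import Mathlib
-- import your own Groth.Agent.* helpers here

set_option autoImplicit false
universe u v
open PtQuiv

namespace Groth.Agent.S18563

lemma split_sum {κ : Type v} [Fintype κ] [DecidableEq κ] (a b : κ) (hab : a ≠ b) (θ : κ → ℚ) (J : Finset κ) :
    ∑ i ∈ J, θ i = (if a ∈ J then θ a else 0) + (if b ∈ J then θ b else 0) +
      ∑ i ∈ Finset.univ.filter (fun i : {i : κ // i ≠ a ∧ i ≠ b} => i.1 ∈ J), θ i.1 := by
  have h : ∑ i ∈ J, θ i = ∑ i ∈ J, (if i = a then θ a else 0) + ∑ i ∈ J, (if i = b then θ b else 0) +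
      ∑ i ∈ J, (if i ≠ a ∧ i ≠ b then θ i else 0) := by
    rw [← Finset.sum_add_distrib, ← Finset.sum_add_distrib]
    refine Finset.sum_congr rfl fun i _ => ?_
    by_cases ha : i = a
    · subst ha; simp [hab]
    · by_cases hb : i = b
      · subst hb; simp [hab.symm]
      · simp [ha, hb]
  rw [h, Finset.sum_ite_eq', Finset.sum_ite_eq', ← Finset.sum_filter]
  congr 1
  refine Finset.sum_bij' (fun i hi => ⟨i, (Finset.mem_filter.1 hi).2⟩) (fun i _ => i.1) ?_ ?_ ?_ ?_ ?_
  all_goals intro i hi
  · simp [(Finset.mem_filter.1 hi).1]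
  · simp [(Finset.mem_filter.1 hi).2, i.2]
  · rfl
  · rfl
  · rfl

lemma line_eq {K : Type u} [Field K] {L : Submodule K (Fin 2 → K)} (hd : Module.finrank K L = 1)
    {x : Fin 2 → K} (hx : x ∈ L) (hx0 : x ≠ 0) : L = K ∙ x :=
  (Submodule.eq_of_le_of_finrank_eq ((Submodule.span_singleton_le_iff_mem x L).2 hx)
    (by rw [finrank_span_singleton hx0, hd])).symm

lemma bot_ne_top' {K : Type u} [Field K] : (⊥ : Submodule K K) ≠ ⊤ := fun h => by
  have : (1 : K) ∈ (⊥ : Submodule K K) := h ▸ Submodule.mem_top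
  simp at this

lemma finrank_cases {K : Type u} [Field K] {W : Submodule K K} :
    (W = ⊥ → (Module.finrank K W : ℚ) = 0) ∧ (W = ⊤ → (Module.finrank K W : ℚ) = 1) :=
  ⟨fun h => by subst h; simp, fun h => by subst h; simp⟩

lemma p_cases {K : Type u} [Field K] (U : Fin 2 → Submodule K K) :
    (U 0 = ⊥ ∨ U 0 = ⊤) ∧ (U 1 = ⊥ ∨ U 1 = ⊤) :=
  ⟨Ideal.eq_bot_or_top _, Ideal.eq_bot_or_top _⟩


/-- Let K be a field, κ a finite index type with a ≠ b, and s i ∈ K² a representation of the quiver with
a central vertex carrying the plane and one vertex per i : κ carrying a line mapping to the plane by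
1 ↦ s i. Let θ be a weight of the hypersimplex (0 ≤ θ i ≤ 1, Σ θ i = 2, central weight -1) with 1 <
θ a + θ b < 2, and put c = 1 / (2 - θ a - θ b). Then s is θ-stable if and only if s a, s b are
linearly independent and, writing every other s i = t i 0 • s a + t i 1 • s b, the representation t
of the quiver with two one-dimensional sinks p₀, p₁ and one one-dimensional source per i ≠ a, b
(arrow to p_j given by t i j) is stable for the weight c (θ a - 1) at p₀, c (θ b - 1) at p₁ and c θ
i at the sources. (The published statement is about representations over a base scheme, with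
(semi)stability tested on geometric fibres, that is over algebraically closed fields; this row
states the fibrewise content over an arbitrary field.) -/
theorem result (K : Type u) [Field K]
    (κ : Type v) [Fintype κ] [DecidableEq κ] (a b : κ) (hab : a ≠ b) (s : κ → (Fin 2 → K))
    (θ : κ → ℚ) (h0 : ∀ i, 0 ≤ θ i) (h1 : ∀ i, θ i ≤ 1) (h2 : ∑ i, θ i = 2)
    (hθ : 1 < θ a + θ b) (hθ' : θ a + θ b < 2) :
    PtQuiv.QStable (-1) θ s ↔
      (LinearIndependent K ![s a, s b] ∧
        ∀ t : {i : κ // i ≠ a ∧ i ≠ b} → (Fin 2 → K),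
          (∀ i, s i.1 = t i 0 • s a + t i 1 • s b) →
            PtQuiv.PStable ![(2 - θ a - θ b)⁻¹ * (θ a - 1), (2 - θ a - θ b)⁻¹ * (θ b - 1)]
              (fun i : {i : κ // i ≠ a ∧ i ≠ b} => (2 - θ a - θ b)⁻¹ * θ i.1) t) := by
  classical
  have hθa : 0 < θ a := by linarith [h1 b]
  have hθb : 0 < θ b := by linarith [h1 a]
  set c : ℚ := (2 - θ a - θ b)⁻¹ with hc
  have hcpos : 0 < c := inv_pos.2 (by linarith)
  have hrest : ∑ i : {i : κ // i ≠ a ∧ i ≠ b}, θ i.1 = 2 - θ a - θ b := by
    have := split_sum a b hab θ Finset.univ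
    simp only [Finset.mem_univ, if_true, Finset.filter_true] at this
    linarith
  have htot : (∑ j, ![c * (θ a - 1), c * (θ b - 1)] j) + ∑ i : {i : κ // i ≠ a ∧ i ≠ b}, c * θ i.1 = 0 := by
    rw [Fin.sum_univ_two, ← Finset.mul_sum, hrest]
    simp only [Matrix.cons_val_zero, Matrix.cons_val_one]
    ring
  have hpw : ∀ (U : Fin 2 → Submodule K K) (I : Finset {i : κ // i ≠ a ∧ i ≠ b}),
      PtQuiv.PWt K ![c * (θ a - 1), c * (θ b - 1)] (fun i : {i : κ // i ≠ a ∧ i ≠ b} => c * θ i.1) U I =
        c * ((θ a - 1) * (Module.finrank K (U 0) : ℚ) + (θ b - 1) * (Module.finrank K (U 1) : ℚ) + ∑ i ∈ I, θ i.1) := by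
    intro U I
    simp only [PtQuiv.PWt, Fin.sum_univ_two, Matrix.cons_val_zero, Matrix.cons_val_one, ← Finset.mul_sum]
    ring
  have hdep : PtQuiv.QSemistable (-1) θ s → LinearIndependent K ![s a, s b] := by
    intro hss
    rw [linearIndependent_fin2]
    refine ⟨fun h0b => ?_, fun x hx => ?_⟩
    · simp only [Matrix.cons_val_one, Matrix.cons_val_zero] at h0b
      have := hss.2 ⊥ {b} (fun i hi => by simp [Finset.mem_singleton.1 hi, h0b])
      simp [PtQuiv.QWt] at this
      linarith
    · simp only [Matrix.cons_val_one, Matrix.cons_val_zero] at hx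
      have := hss.2 (K ∙ s b) {a, b} (fun i hi => by
        simp only [Finset.mem_insert, Finset.mem_singleton] at hi
        rcases hi with rfl | rfl
        · exact hx ▸ Submodule.smul_mem _ _ (Submodule.mem_span_singleton_self _)
        · exact Submodule.mem_span_singleton_self _)
      have hd : (Module.finrank K (K ∙ s b) : ℚ) ≤ 1 := by
        have := (finrank_span_le_card (R := K) ({s b} : Set (Fin 2 → K)))
        simp at this
        exact_mod_cast this
      simp [PtQuiv.QWt, hab] at this
      linarith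
  have hcoord : LinearIndependent K ![s a, s b] → ∃ t : {i : κ // i ≠ a ∧ i ≠ b} → (Fin 2 → K),
      ∀ i, s i.1 = t i 0 • s a + t i 1 • s b := by
    intro hli
    have hsp := hli.span_eq_top_of_card_eq_finrank' (by simp)
    have hh : ∀ x : Fin 2 → K, ∃ t : Fin 2 → K, x = t 0 • s a + t 1 • s b := by
      intro x
      have hx : x ∈ Submodule.span K (Set.range ![s a, s b]) := hsp ▸ Submodule.mem_top
      obtain ⟨t, ht⟩ := (Submodule.mem_span_range_iff_exists_fun K).1 hx
      exact ⟨t, by rw [← ht, Fin.sum_univ_two]; rfl⟩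
    choose t ht using fun i : {i : κ // i ≠ a ∧ i ≠ b} => hh (s i.1)
    exact ⟨t, ht⟩
  -- lifting a subrepresentation of the small quiver
  have lift : ∀ t : {i : κ // i ≠ a ∧ i ≠ b} → (Fin 2 → K), (∀ i, s i.1 = t i 0 • s a + t i 1 • s b) →
      LinearIndependent K ![s a, s b] → ∀ U I, PtQuiv.PSubrep t U I →
      ∃ L J, PtQuiv.QSubrep s L J ∧
        PtQuiv.PWt K ![c * (θ a - 1), c * (θ b - 1)] (fun i : {i : κ // i ≠ a ∧ i ≠ b} => c * θ i.1) U I =
          c * PtQuiv.QWt K (-1) θ L J ∧
        (L = ⊥ → U = ⊥) ∧ (L = ⊤ → U = ⊤) ∧ I = Finset.univ.filter (fun i : {i : κ // i ≠ a ∧ i ≠ b} => i.1 ∈ J) := by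
    intro t ht hli U I hUI
    have ha0 : s a ≠ 0 := by simpa using hli.ne_zero 0
    have hb0 : s b ≠ 0 := by simpa using hli.ne_zero 1
    let La : Submodule K (Fin 2 → K) := if U 0 = ⊤ then K ∙ s a else ⊥
    let Lb : Submodule K (Fin 2 → K) := if U 1 = ⊤ then K ∙ s b else ⊥
    let Ja : Finset κ := if U 0 = ⊤ then {a} else ∅
    let Jb : Finset κ := if U 1 = ⊤ then {b} else ∅
    let J : Finset κ := Ja ∪ Jb ∪ I.map ⟨Subtype.val, Subtype.val_injective⟩
    have La0 : U 0 = ⊥ → La = ⊥ := fun h => if_neg fun h' => bot_ne_top' (h.symm.trans h')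
    have Lb0 : U 1 = ⊥ → Lb = ⊥ := fun h => if_neg fun h' => bot_ne_top' (h.symm.trans h')
    have La1 : U 0 = ⊤ → La = K ∙ s a := fun h => if_pos h
    have Lb1 : U 1 = ⊤ → Lb = K ∙ s b := fun h => if_pos h
    refine ⟨La ⊔ Lb, J, ?_, ?_, ?_, ?_, ?_⟩
    · intro i hi
      simp only [J, Finset.mem_union, Finset.mem_map, Function.Embedding.coeFn_mk] at hi
      rcases hi with (hi | hi) | ⟨i, hi, rfl⟩
      · simp only [Ja] at hi
        split_ifs at hi with h
        · rw [Finset.mem_singleton] at hi; subst hi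
          exact Submodule.mem_sup_left (by simp [La, h])
        · simp at hi
      · simp only [Jb] at hi
        split_ifs at hi with h
        · rw [Finset.mem_singleton] at hi; subst hi
          exact Submodule.mem_sup_right (by simp [Lb, h])
        · simp at hi
      · rw [ht]
        refine Submodule.add_mem_sup ?_ ?_
        · rcases (p_cases U).1 with h | h
          · have := hUI i hi 0; rw [h, Submodule.mem_bot] at this; rw [this, zero_smul]; exact zero_mem _
          · simp only [La, h, if_true]; exact Submodule.smul_mem _ _ (Submodule.mem_span_singleton_self _)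
        · rcases (p_cases U).2 with h | h
          · have := hUI i hi 1; rw [h, Submodule.mem_bot] at this; rw [this, zero_smul]; exact zero_mem _
          · simp only [Lb, h, if_true]; exact Submodule.smul_mem _ _ (Submodule.mem_span_singleton_self _)
    · rw [hpw]
      congr 1
      have hJ : ∑ i ∈ J, θ i = (if U 0 = ⊤ then θ a else 0) + (if U 1 = ⊤ then θ b else 0) + ∑ i ∈ I, θ i.1 := by
        rw [split_sum a b hab θ J]
        congr 1
        · congr 1
          · by_cases h : U 0 = ⊤
            · rw [if_pos h, if_pos]; simp [J, Ja, h]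
            · rw [if_neg h, if_neg]; simp [J, Ja, Jb, h]; split_ifs <;> simp [hab]
          · by_cases h : U 1 = ⊤
            · rw [if_pos h, if_pos]; simp [J, Jb, h]
            · rw [if_neg h, if_neg]; simp [J, Ja, Jb, h]; split_ifs <;> simp [hab.symm]
        · refine Finset.sum_congr ?_ fun _ _ => rfl
          ext ⟨i, hia, hib⟩
          simp [J, Ja, Jb]
          split_ifs <;> simp [hia, hib]
      unfold PtQuiv.QWt
      rw [hJ]
      rcases (p_cases U).1 with u0 | u0 <;> rcases (p_cases U).2 with u1 | u1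
      · rw [finrank_cases.1 u0, finrank_cases.1 u1]
        rw [La0 u0, Lb0 u1, sup_bot_eq, finrank_bot, if_neg fun h => bot_ne_top' (u0.symm.trans h),
          if_neg fun h => bot_ne_top' (u1.symm.trans h)]
        push_cast; ring
      · rw [finrank_cases.1 u0, finrank_cases.2 u1]
        rw [La0 u0, Lb1 u1, bot_sup_eq, finrank_span_singleton hb0, if_neg fun h => bot_ne_top' (u0.symm.trans h),
          if_pos u1]
        push_cast; ring
      · rw [finrank_cases.2 u0, finrank_cases.1 u1]
        rw [La1 u0, Lb0 u1, sup_bot_eq, finrank_span_singleton ha0, if_pos u0,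
          if_neg fun h => bot_ne_top' (u1.symm.trans h)]
        push_cast; ring
      · have hT : (K ∙ s a) ⊔ (K ∙ s b) = ⊤ := by
          rw [← Submodule.span_union, ← hli.span_eq_top_of_card_eq_finrank' (by simp)]
          congr 1
          ext x; simp [or_comm]
        rw [finrank_cases.2 u0, finrank_cases.2 u1]
        rw [La1 u0, Lb1 u1, hT, finrank_top, Module.finrank_fin_fun, if_pos u0, if_pos u1]
        push_cast; ring
    · intro hL
      rw [sup_eq_bot_iff] at hL
      funext j
      fin_cases j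
      · rcases (p_cases U).1 with h | h
        · exact h
        · exact absurd hL.1 (by rw [La1 h, Submodule.span_singleton_eq_bot]; exact ha0)
      · rcases (p_cases U).2 with h | h
        · exact h
        · exact absurd hL.2 (by rw [Lb1 h, Submodule.span_singleton_eq_bot]; exact hb0)
    · intro hL
      funext j
      fin_cases j
      · rcases (p_cases U).1 with h | h
        · exfalso
          rw [La0 h, bot_sup_eq] at hL
          have h2 : Module.finrank K Lb ≤ 1 := by
            rcases (p_cases U).2 with q | q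
            · rw [Lb0 q, finrank_bot]; exact Nat.zero_le _
            · rw [Lb1 q, finrank_span_singleton hb0]
          rw [hL, finrank_top, Module.finrank_fin_fun] at h2
          omega
        · exact h
      · rcases (p_cases U).2 with h | h
        · exfalso
          rw [Lb0 h, sup_bot_eq] at hL
          have h2 : Module.finrank K La ≤ 1 := by
            rcases (p_cases U).1 with q | q
            · rw [La0 q, finrank_bot]; exact Nat.zero_le _
            · rw [La1 q, finrank_span_singleton ha0]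
          rw [hL, finrank_top, Module.finrank_fin_fun] at h2
          omega
        · exact h
    · ext ⟨i, hia, hib⟩
      simp [J, Ja, Jb]
      split_ifs <;> simp [hia, hib]
  -- lowering a subrepresentation of the big quiver
  have low : ∀ t : {i : κ // i ≠ a ∧ i ≠ b} → (Fin 2 → K), (∀ i, s i.1 = t i 0 • s a + t i 1 • s b) →
      LinearIndependent K ![s a, s b] → ∀ L J, PtQuiv.QSubrep s L J →
      PtQuiv.QWt K (-1) θ L J < 0 ∨ (L = ⊤ ∧ PtQuiv.QWt K (-1) θ L J ≤ 0 ∧ a ∈ J ∧ b ∈ J ∧
        PtQuiv.PSubrep t ⊤ (Finset.univ.filter (fun i : {i : κ // i ≠ a ∧ i ≠ b} => i.1 ∈ J)) ∧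
        PtQuiv.PWt K ![c * (θ a - 1), c * (θ b - 1)] (fun i : {i : κ // i ≠ a ∧ i ≠ b} => c * θ i.1) ⊤
          (Finset.univ.filter (fun i : {i : κ // i ≠ a ∧ i ≠ b} => i.1 ∈ J)) = c * PtQuiv.QWt K (-1) θ L J) ∨
      (∃ U : Fin 2 → Submodule K K, U ≠ ⊤ ∧ (U = ⊥ → L = ⊥ ∧ a ∉ J ∧ b ∉ J) ∧
        PtQuiv.PSubrep t U (Finset.univ.filter (fun i : {i : κ // i ≠ a ∧ i ≠ b} => i.1 ∈ J)) ∧
        PtQuiv.PWt K ![c * (θ a - 1), c * (θ b - 1)] (fun i : {i : κ // i ≠ a ∧ i ≠ b} => c * θ i.1) U
          (Finset.univ.filter (fun i : {i : κ // i ≠ a ∧ i ≠ b} => i.1 ∈ J)) = c * PtQuiv.QWt K (-1) θ L J) := by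
    intro t ht hli L J hLJ
    have ha0 : s a ≠ 0 := by simpa using hli.ne_zero 0
    have hb0 : s b ≠ 0 := by simpa using hli.ne_zero 1
    have huniq : ∀ x y : K, x • s a + y • s b = 0 → x = 0 ∧ y = 0 := LinearIndependent.pair_iff.1 hli
    set R := ∑ i ∈ Finset.univ.filter (fun i : {i : κ // i ≠ a ∧ i ≠ b} => i.1 ∈ J), θ i.1 with hR
    have hRle : R ≤ 2 - θ a - θ b :=
      hrest ▸ Finset.sum_le_sum_of_subset_of_nonneg (Finset.filter_subset _ _) (fun i _ _ => h0 i.1)
    have hqw : PtQuiv.QWt K (-1) θ L J = -(Module.finrank K L : ℚ) +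
        (if a ∈ J then θ a else 0) + (if b ∈ J then θ b else 0) + R := by
      unfold PtQuiv.QWt
      rw [split_sum a b hab θ J, hR]; ring
    have hle : Module.finrank K L ≤ 2 := by simpa using L.finrank_le
    interval_cases hd : Module.finrank K L
    · rw [Submodule.finrank_eq_zero] at hd
      have haJ : a ∉ J := fun h => ha0 (by simpa [hd] using hLJ a h)
      have hbJ : b ∉ J := fun h => hb0 (by simpa [hd] using hLJ b h)
      refine Or.inr (Or.inr ⟨⊥, bot_ne_top, fun _ => ⟨hd, haJ, hbJ⟩, ?_, ?_⟩)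
      · intro i hi j
        have h := hLJ i.1 (Finset.mem_filter.1 hi).2
        rw [hd, Submodule.mem_bot, ht] at h
        fin_cases j
        · exact (Submodule.mem_bot K).2 (huniq _ _ h).1
        · exact (Submodule.mem_bot K).2 (huniq _ _ h).2
      · rw [hpw, hqw]
        simp [haJ, hbJ, ← hR]
    · by_cases haJ : a ∈ J
      · have hL : L = K ∙ s a := line_eq hd (hLJ a haJ) ha0
        have hbJ : b ∉ J := fun h => by
          obtain ⟨x, hx⟩ := Submodule.mem_span_singleton.1 (hL ▸ hLJ b h : s b ∈ K ∙ s a)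
          have := (huniq x (-1) (by rw [hx]; simp)).2
          simp at this
        refine Or.inr (Or.inr ⟨![⊤, ⊥], ?_, ?_, ?_, ?_⟩)
        · exact fun h => bot_ne_top' (congrFun h 1)
        · exact fun h => absurd (congrFun h 0).symm bot_ne_top'
        · intro i hi j
          obtain ⟨x, hx⟩ := Submodule.mem_span_singleton.1
            (hL ▸ hLJ i.1 (Finset.mem_filter.1 hi).2 : s i.1 ∈ K ∙ s a)
          have hz := (huniq (t i 0 - x) (t i 1) (by rw [sub_smul, hx, ht]; abel)).2
          fin_cases j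
          · exact Submodule.mem_top
          · exact (Submodule.mem_bot K).2 hz
        · rw [hpw, hqw, if_pos haJ, if_neg hbJ, ← hR]
          rw [(finrank_cases (W := (![⊤, ⊥] : Fin 2 → Submodule K K) 0)).2 rfl,
            (finrank_cases (W := (![⊤, ⊥] : Fin 2 → Submodule K K) 1)).1 rfl]
          push_cast; ring
      · by_cases hbJ : b ∈ J
        · have hL : L = K ∙ s b := line_eq hd (hLJ b hbJ) hb0
          refine Or.inr (Or.inr ⟨![⊥, ⊤], ?_, ?_, ?_, ?_⟩)
          · exact fun h => bot_ne_top' (congrFun h 0)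
          · exact fun h => absurd (congrFun h 1).symm bot_ne_top'
          · intro i hi j
            obtain ⟨x, hx⟩ := Submodule.mem_span_singleton.1
              (hL ▸ hLJ i.1 (Finset.mem_filter.1 hi).2 : s i.1 ∈ K ∙ s b)
            have hz := (huniq (t i 0) (t i 1 - x) (by rw [sub_smul, hx, ht]; abel)).1
            fin_cases j
            · exact (Submodule.mem_bot K).2 hz
            · exact Submodule.mem_top
          · rw [hpw, hqw, if_neg haJ, if_pos hbJ, ← hR]
            rw [(finrank_cases (W := (![⊥, ⊤] : Fin 2 → Submodule K K) 0)).1 rfl,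
              (finrank_cases (W := (![⊥, ⊤] : Fin 2 → Submodule K K) 1)).2 rfl]
            push_cast; ring
        · left; rw [hqw, if_neg haJ, if_neg hbJ]; push_cast; linarith
    · by_cases hJ : a ∈ J ∧ b ∈ J
      · refine Or.inr (Or.inl ⟨Submodule.eq_top_of_finrank_eq (by simpa using hd), ?_, hJ.1, hJ.2,
          fun _ _ j => by simp, ?_⟩)
        · rw [hqw, if_pos hJ.1, if_pos hJ.2]; push_cast; linarith
        · rw [hpw, hqw, if_pos hJ.1, if_pos hJ.2]
          simp [← hR]; left; ring
      · left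
        rw [hqw]; push_cast
        split_ifs with p1 p2 p2
        · exact absurd ⟨p1, p2⟩ hJ
        all_goals linarith
  constructor
  · intro hst
    refine ⟨hdep hst.1, fun t ht => ⟨⟨htot, fun U I hUI => ?_⟩, fun U I hUI h0w => ?_⟩⟩
    · obtain ⟨L, J, hLJ, hw, -⟩ := lift t ht (hdep hst.1) U I hUI
      rw [hw]
      exact mul_nonpos_of_nonneg_of_nonpos hcpos.le (hst.1.2 L J hLJ)
    · obtain ⟨L, J, hLJ, hw, hb, htp, hI⟩ := lift t ht (hdep hst.1) U I hUI
      rw [hw, mul_eq_zero] at h0w
      rcases hst.2 L J hLJ (h0w.resolve_left hcpos.ne') with ⟨hL, hJ⟩ | ⟨hL, hJ⟩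
      · exact Or.inl ⟨hb hL, by simp [hI, hJ]⟩
      · exact Or.inr ⟨htp hL, by simp [hI, hJ]⟩
  · rintro ⟨hli, hP⟩
    obtain ⟨t, ht⟩ := hcoord hli
    obtain ⟨hPs, hPst⟩ := hP t ht
    refine ⟨⟨by rw [h2]; norm_num, fun L J hLJ => ?_⟩, fun L J hLJ hw0 => ?_⟩
    · rcases low t ht hli L J hLJ with h | ⟨-, h, -⟩ | ⟨U, -, -, hsub, hw⟩
      · exact h.le
      · exact h
      · have := hPs.2 U _ hsub
        rw [hw] at this
        exact nonpos_of_mul_nonpos_right this hcpos
    · rcases low t ht hli L J hLJ with h | ⟨hL, -, haJ, hbJ, hsub, hw⟩ | ⟨U, hne, hb, hsub, hw⟩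
      · linarith
      · rcases hPst ⊤ _ hsub (by rw [hw, hw0, mul_zero]) with ⟨h, -⟩ | ⟨-, h⟩
        · exact absurd h top_ne_bot
        · refine Or.inr ⟨hL, Finset.eq_univ_of_forall fun i => ?_⟩
          by_cases hia : i = a
          · exact hia ▸ haJ
          by_cases hib : i = b
          · exact hib ▸ hbJ
          exact Finset.filter_eq_self.1 h ⟨i, hia, hib⟩ (Finset.mem_univ _)
      · rcases hPst U _ hsub (by rw [hw, hw0, mul_zero]) with ⟨h, hI⟩ | ⟨h, -⟩
        · obtain ⟨hL, haJ, hbJ⟩ := hb h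
          refine Or.inl ⟨hL, Finset.eq_empty_of_forall_notMem fun i hi => ?_⟩
          exact (Finset.filter_eq_empty_iff.1 hI (x := ⟨i, fun e => haJ (e ▸ hi), fun e => hbJ (e ▸ hi)⟩) (Finset.mem_univ _)) hi
        · exact absurd h hne

end Groth.Agent.S18563
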