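import Groth.Statements.S18567
import Groth.Agent.GPLib.Hom
import Groth.Agent.VBLib.Simple
import Groth.Agent.S18566

set_option autoImplicit false
universe u
open CategoryTheory CategoryTheory.Limits AlgebraicGeometry
open ParSh

set_option linter.style.haveILetI false

namespace Groth.Agent.S18567

open Groth.Agent.PullStalk.Sky Groth.Agent.PullStalk.Exact

variable {k : Type u} [Field k] {X : Scheme.{u}} [X.Over (Spec (CommRingCat.of k))]

theorem stalkLin_smul_id (A : X.Modules) (c : k) (x : X) (t : A.presheaf.stalk x) :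
    stalkLin (c • 𝟙 A) x t =
      X.presheaf.germ ⊤ x trivial (Coh.toGlobal (X ↘ Spec (CommRingCat.of k)) c) • t := by
  have h := VBLib.stalkLin_sub_smul_apply (0 : A ⟶ A) c x t
  rw [Omega.Stalks.stalkLin_zero] at h
  obtain ⟨U, hx, m, rfl⟩ := exists_germM_eq A x t
  rw [stalkLin_germ]
  have h1 : (c • 𝟙 A).app U m =
      X.presheaf.map (homOfLE (le_top : U ≤ ⊤)).op (Coh.toGlobal (X ↘ Spec (CommRingCat.of k)) c) • m :=
    KLin.smul_app_apply c (𝟙 A) U m
  rw [h1]
  refine (germM_smul A U x hx _ _).trans ?_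
  exact congrArg (fun z => z • germM A U x hx m) (X.presheaf.germ_res_apply _ x hx _)

theorem resDMap_smul_id (I : X.IdealSheafData) (E : X.Modules) (c : k) :
    ParSh.resDMap I (c • 𝟙 E) = c • 𝟙 (ParSh.resD I E) := by
  refine Omega.Stalks.hom_ext_stalk fun x => LinearMap.ext fun t => ?_
  apply (KFlat.StalkTensor.stalkTensorEquiv E (ClSub.quotMod I) x).injective
  refine (LinearMap.congr_fun
    (KFlat.StalkTensor.stalkTensor_natural x (c • 𝟙 E) (𝟙 (ClSub.quotMod I))) t).trans ?_
  refine Eq.trans ?_ (congrArg (KFlat.StalkTensor.stalkTensorEquiv E (ClSub.quotMod I) x)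
    (stalkLin_smul_id (ParSh.resD I E) c x t)).symm
  refine Eq.trans ?_ ((KFlat.StalkTensor.stalkTensorEquiv E (ClSub.quotMod I) x).map_smul _ _).symm
  show TensorProduct.map (stalkLin (c • 𝟙 E) x) (stalkLin (𝟙 (ClSub.quotMod I)) x)
      ((KFlat.StalkTensor.stalkTensorEquiv E (ClSub.quotMod I) x) t) =
    _ • (KFlat.StalkTensor.stalkTensorEquiv E (ClSub.quotMod I) x) t
  generalize (KFlat.StalkTensor.stalkTensorEquiv E (ClSub.quotMod I) x) t = s
  induction s using TensorProduct.induction_on with
  | zero => rw [map_zero, smul_zero]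
  | add a b ha hb => rw [map_add, smul_add, ha, hb]
  | tmul a b =>
    rw [TensorProduct.map_tmul, stalkLin_smul_id, CohDev.stalkLin_id_apply, TensorProduct.smul_tmul']

theorem toSheaf_smul_id (A : X.Modules) (c : k) :
    (SheafOfModules.toSheaf X.ringCatSheaf).map (c • 𝟙 A) =
      Coh.smulAb A (Coh.toGlobal (X ↘ Spec (CommRingCat.of k)) c) := by
  ext U m
  exact KLin.smul_app_apply c (𝟙 A) U.unop m

theorem fibDMap_sub_smul (I : X.IdealSheafData) {E : X.Modules} (f : E ⟶ E) (c : k)
    (y : ParSh.fibD X I E) :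
    ParSh.fibDMap k X I (f - c • 𝟙 E) y = ParSh.fibDMap k X I f y - c • y := by
  let T := SheafOfModules.toSheaf X.ringCatSheaf
  have hadd : ParSh.resDMap I f = ParSh.resDMap I (f - c • 𝟙 E) + ParSh.resDMap I (c • 𝟙 E) := by
    have h1 := congrArg (fun t => ((DCoh.tensorBi (X := X)).map t).app (ClSub.quotMod I))
      (sub_add_cancel f (c • 𝟙 E)).symm
    simp only [Functor.map_add, NatTrans.app_add] at h1
    exact (KoszTw.tensorBi_map_app f _).symm.trans (h1.trans (congrArg₂ (· + ·)
      (KoszTw.tensorBi_map_app _ _) (KoszTw.tensorBi_map_app _ _)))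
  have h2 : Sheaf.H.map (T.map (ParSh.resDMap I f)) 0 y =
      Sheaf.H.map (T.map (ParSh.resDMap I (f - c • 𝟙 E))) 0 y + c • y := by
    rw [CurveCoh.smul_HH, ← toSheaf_smul_id, hadd, resDMap_smul_id]
    exact (congrArg (fun t => Sheaf.H.map t 0 y) ((CurveCoh.toAbF X).map_add)).trans
      (Sheaf.H.map_add_apply _ _ _)
  exact eq_sub_of_add_eq h2.symm


/-- Let Y be a smooth proper integral curve (integral, smooth and proper over k, of dimension one) over
an algebraically closed field k, D an effective Cartier divisor on Y with ideal I, and α a real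
weight with 0 ≤ α < 1. A generalised parabolic structure on a finite locally free O_Y-module E is a
k-linear subspace F₁ of H⁰(Y, E ⊗ O_D); its parabolic degree in rank n is deg E + α·dim_k F₁ (deg E
= χ(E) − n·χ(O_Y)); a homomorphism f : E → E' is parabolic when the induced k-linear map H⁰(E ⊗ O_D)
→ H⁰(E' ⊗ O_D) carries F₁ into F₁'; a submodule G → E gets the preimage structure and (E, F₁) is
semistable (stable) when deg(G, preimage) · n ≤ (<) deg(E, F₁) · r for every finite locally free
submodule G of rank r ≥ 1 (with r < n for stability). Let (E, F₁) be semistable and stable of rank n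
≥ 1. Then (E, F₁) is simple: every parabolic endomorphism f : E → E acts on the underlying abelian
sheaf as multiplication by some scalar c ∈ k. The published statement is set on the normalisation of
a singular curve with D lying over its singular points; neither is used. -/
theorem result (k : Type u) [Field k] [IsAlgClosed k] (X : Scheme.{u}) [X.Over (Spec (CommRingCat.of k))]
    [AlgebraicGeometry.IsIntegral X] [IsProper (X ↘ Spec (CommRingCat.of k))] [Smooth (X ↘ Spec (CommRingCat.of k))]
    (hdim : topologicalKrullDim X = 1)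
    (I : X.IdealSheafData) (hD : FGA.IsEffCartier I) (α : ℝ) (hα0 : 0 ≤ α) (hα1 : α < 1)
    {E : X.Modules} (n : ℕ) (hn : 0 < n) (hE : FlatMod.IsFinLocFreeOfRank n E)
    (F₁ : Submodule k (ParSh.fibD X I E))
    (hEss : ParSh.IsGPSemistable k X I α F₁ n) (hEst : ParSh.IsGPStable k X I α F₁ n)
    (f : E ⟶ E) (hf : ParSh.IsGPHom k X I F₁ F₁ f) :
    ∃ c : k, (SheafOfModules.toSheaf X.ringCatSheaf).map f =
      Coh.smulAb E (Coh.toGlobal (X ↘ Spec (CommRingCat.of k)) c) := by
  haveI := EulerChar.isNoetherian k (X := X)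
  obtain ⟨c, hc⟩ := VBLib.exists_not_isIso_sub_smul (k := k) hE hn f
  refine ⟨c, ?_⟩
  have hg : ParSh.IsGPHom k X I F₁ F₁ (f - c • 𝟙 E) := by
    rintro _ ⟨y, hy, rfl⟩
    show ParSh.fibDMap k X I (f - c • 𝟙 E) y ∈ F₁
    rw [fibDMap_sub_smul]
    exact sub_mem (hf ⟨y, hy, rfl⟩) (F₁.smul_mem c hy)
  rcases S18566.result k X hdim I hD α hα0 hα1 n n hn hn hE hE F₁ F₁ hEss hEst hEss hEst rfl
      (f - c • 𝟙 E) hg with h | ⟨h, -⟩
  · rw [sub_eq_zero] at h
    rw [h]
    exact toSheaf_smul_id E c
  · exact absurd h hc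

end Groth.Agent.S18567
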