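import Groth.Statements.S18572
import Mathlib
import Groth.Agent.REq71.Retract
-- import your own Groth.Agent.* helpers here

set_option autoImplicit false
universe u
open CategoryTheory AlgebraicGeometry
open REq

namespace Groth.Agent.S18572

/-- Let k be an infinite field and X an integral separated scheme of finite type over k which is retract
rational over k. Then X is almost R-trivial over k: there is a dense open subscheme U of X such
that, for every field K containing k (in the universe of k), U has a K-point and any two K-points of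
X lying in U are R-equivalent on X. -/
theorem result (k : Type u) [Field k] [Infinite k] (X : Scheme.{u})
    (f : X ⟶ Spec (CommRingCat.of k)) [IsIntegral X] [LocallyOfFiniteType f] [QuasiCompact f]
    [IsSeparated f] (hX : REq.IsRetractRational f) :
    REq.IsAlmostRTrivial f := by
  obtain ⟨U, n, V, a, b, hne, hab, ha, hb⟩ := hX
  refine ⟨U, U.2.dense hne, fun K _ _ => ⟨?_, fun A B hA hB => ?_⟩⟩
  · obtain ⟨x, hx⟩ := hne
    obtain ⟨v, hv⟩ := Groth.Agent.REq71.exists_ratPt V ⟨V.ι (a ⟨x, hx⟩), (a ⟨x, hx⟩).2⟩
    refine ⟨⟨REq.specMap k K ≫ v ≫ b ≫ U.ι, ?_⟩, ?_⟩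
    · rw [Category.assoc, Category.assoc, Category.assoc, hb, hv, Category.comp_id]
    · rintro _ ⟨z, rfl⟩
      simp only [Scheme.Hom.comp_base, TopCat.coe_comp, Function.comp_apply]
      exact (b (v (REq.specMap k K z))).2
  · have hl : ∀ P : REq.Pts f K, REq.InOpen f U P →
        ∃ Q : REq.Pts (U.ι ≫ f) K, Q.1 ≫ U.ι = P.1 := fun P hP => by
      have hr : Set.range P.1 ⊆ Set.range U.ι := by rw [Scheme.Opens.range_ι]; exact hP
      exact ⟨⟨IsOpenImmersion.lift U.ι P.1 hr, by rw [IsOpenImmersion.lift_fac_assoc]; exact P.2⟩,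
        IsOpenImmersion.lift_fac _ _ _⟩
    obtain ⟨A', hA'⟩ := hl A hA
    obtain ⟨B', hB'⟩ := hl B hB
    exact Relation.EqvGen.rel _ _ (Groth.Agent.REq71.elemLink_ι hA' hB'
      (Groth.Agent.REq71.elemLink_retract hab ha hb K A' B'))


end Groth.Agent.S18572
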