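import Groth.Statements.S18574
import Groth.Agent.REqPhi95.Basic
import Groth.Agent.S1535

set_option autoImplicit false
set_option backward.isDefEq.respectTransparency false
set_option synthInstance.maxHeartbeats 400000
set_option maxHeartbeats 1000000
set_option linter.style.haveILetI false
universe u v
open CategoryTheory AlgebraicGeometry
open REq

namespace Groth.Agent.S18574

open CategoryTheory.Limits REqPhi95

section

variable {k : Type u} [Field k] {R : Type u} [CommRing R] [IsDomain R] [Algebra k R]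
  (Φ : (Over (Spec (CommRingCat.of k)))ᵒᵖ ⥤ Type v) {X : Scheme.{u}} (f : X ⟶ Spec (CommRingCat.of k))

/-- An open of the base as a scheme over the field. -/
noncomputable abbrev obj (O : (Spec (CommRingCat.of R)).Opens) : Over (Spec (CommRingCat.of k)) := Over.mk (O.ι ≫ πR k R)

/-- A spreading of a point. -/
def Rep {O : (Spec (CommRingCat.of R)).Opens} (g : (O : Scheme.{u}) ⟶ X) (A : REq.Pts f (FractionRing R)) : Prop :=
  ∃ η : Spec (CommRingCat.of (FractionRing R)) ⟶ (O : Scheme.{u}), η ≫ O.ι = Neron.genPt R ∧ η ≫ g = A.1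

/-- Two points have the same classes over some open of the base. -/
def Agree (A B : REq.Pts f (FractionRing R)) : Prop :=
  ∃ (O : (Spec (CommRingCat.of R)).Opens) (ga gb : obj (k := k) O ⟶ Over.mk f),
    Rep f ga.left A ∧ Rep f gb.left B ∧ ∀ φ, Φ.map ga.op φ = Φ.map gb.op φ

theorem isDominant_gen {O : (Spec (CommRingCat.of R)).Opens} (η : Spec (CommRingCat.of (FractionRing R)) ⟶ (O : Scheme.{u}))
    (hη : η ≫ O.ι = Neron.genPt R) : IsDominant η := by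
  refine ⟨fun w => ?_⟩
  let c := η (IsLocalRing.closedPoint (FractionRing R))
  have hc : O.ι c = (⟨⊥, Ideal.isPrime_bot⟩ : PrimeSpectrum R) :=
    Set.mem_singleton_iff.1 ((WeilExt.range_genPt (R := R)).le ⟨IsLocalRing.closedPoint (FractionRing R), by
      rw [← hη]; rfl⟩)
  have h1 : c ⤳ w := O.ι.isOpenEmbedding.isInducing.specializes_iff.mp
    (hc ▸ (PrimeSpectrum.le_iff_specializes (⟨⊥, Ideal.isPrime_bot⟩ : PrimeSpectrum R) (O.ι w)).1 bot_le)
  exact closure_mono (show ({c} : Set _) ⊆ Set.range η from Set.singleton_subset_iff.mpr ⟨_, rfl⟩)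
    (specializes_iff_mem_closure.mp h1)

theorem ext_gen {O : (Spec (CommRingCat.of R)).Opens} {G : Scheme.{u}} (pG : G ⟶ Spec (CommRingCat.of k))
    [IsSeparated pG] {g g' : (O : Scheme.{u}) ⟶ G} (h : g ≫ pG = g' ≫ pG)
    (η : Spec (CommRingCat.of (FractionRing R)) ⟶ (O : Scheme.{u})) (hη : η ≫ O.ι = Neron.genPt R)
    (hgg : η ≫ g = η ≫ g') : g = g' := by
  haveI := isDominant_gen η hη
  haveI : IsReduced (O : Scheme.{u}) := isReduced_of_isOpenImmersion O.ι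
  exact ext_of_isDominant_of_isSeparated pG h η hgg

theorem exists_restrict {O O' : (Spec (CommRingCat.of R)).Opens}
    (η : Spec (CommRingCat.of (FractionRing R)) ⟶ (O : Scheme.{u})) (hη : η ≫ O.ι = Neron.genPt R)
    (η' : Spec (CommRingCat.of (FractionRing R)) ⟶ (O' : Scheme.{u})) (hη' : η' ≫ O'.ι = Neron.genPt R) :
    ∃ η'' : Spec (CommRingCat.of (FractionRing R)) ⟶ ((O ⊓ O' : (Spec (CommRingCat.of R)).Opens) : Scheme.{u}),
      η'' ≫ (O ⊓ O').ι = Neron.genPt R ∧ η'' ≫ Scheme.homOfLE _ (inf_le_left : O ⊓ O' ≤ O) = η ∧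
      η'' ≫ Scheme.homOfLE _ (inf_le_right : O ⊓ O' ≤ O') = η' := by
  have hr : Set.range (Neron.genPt R) ⊆ Set.range (O ⊓ O').ι := by
    rw [Scheme.Opens.range_ι]
    rintro _ ⟨z, rfl⟩
    refine ⟨?_, ?_⟩
    · rw [← hη]; exact (η z).2
    · rw [← hη']; exact (η' z).2
  refine ⟨IsOpenImmersion.lift _ _ hr, IsOpenImmersion.lift_fac _ _ _, ?_, ?_⟩
  · rw [← cancel_mono O.ι, Category.assoc, Scheme.homOfLE_ι, IsOpenImmersion.lift_fac, hη]
  · rw [← cancel_mono O'.ι, Category.assoc, Scheme.homOfLE_ι, IsOpenImmersion.lift_fac, hη']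

theorem Agree.trans [IsSeparated f] {A B C : REq.Pts f (FractionRing R)} (h : Agree Φ f A B) (h' : Agree Φ f B C) :
    Agree Φ f A C := by
  obtain ⟨O, ga, gb, ⟨η, hη, hA⟩, ⟨ηb, hηb, hB⟩, he⟩ := h
  obtain ⟨O', gb', gc, ⟨η', hη', hB'⟩, ⟨η'c, hη'c, hC⟩, he'⟩ := h'
  obtain rfl : ηb = η := (cancel_mono O.ι).1 (hηb.trans hη.symm)
  obtain rfl : η'c = η' := (cancel_mono O'.ι).1 (hη'c.trans hη'.symm)
  obtain ⟨η'', hη'', h1, h2⟩ := exists_restrict _ hη _ hη'
  let r₁ : obj (k := k) (O ⊓ O') ⟶ obj (k := k) O := Over.homMk (Scheme.homOfLE _ inf_le_left) (by simp)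
  let r₂ : obj (k := k) (O ⊓ O') ⟶ obj (k := k) O' := Over.homMk (Scheme.homOfLE _ inf_le_right) (by simp)
  have hmid : r₁ ≫ gb = r₂ ≫ gb' := by
    apply Over.OverMorphism.ext
    refine ext_gen f ((Over.w (r₁ ≫ gb)).trans (Over.w (r₂ ≫ gb')).symm) η'' hη'' ?_
    show η'' ≫ Scheme.homOfLE _ (inf_le_left : O ⊓ O' ≤ O) ≫ gb.left = η'' ≫ Scheme.homOfLE _ (inf_le_right : O ⊓ O' ≤ O') ≫ gb'.left
    rw [reassoc_of% h1, reassoc_of% h2, hB, hB']
  refine ⟨O ⊓ O', r₁ ≫ ga, r₂ ≫ gc, ⟨η'', hη'', ?_⟩, ⟨η'', hη'', ?_⟩, fun φ => ?_⟩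
  · show η'' ≫ Scheme.homOfLE _ (inf_le_left : O ⊓ O' ≤ O) ≫ ga.left = _
    rw [reassoc_of% h1, hA]
  · show η'' ≫ Scheme.homOfLE _ (inf_le_right : O ⊓ O' ≤ O') ≫ gc.left = _
    rw [reassoc_of% h2, hC]
  · have e1 : Φ.map (r₁ ≫ ga).op φ = Φ.map (r₁ ≫ gb).op φ := by
      simp only [op_comp, Functor.map_comp, CategoryTheory.comp_apply, he φ]
    have e2 : Φ.map (r₂ ≫ gb').op φ = Φ.map (r₂ ≫ gc).op φ := by
      simp only [op_comp, Functor.map_comp, CategoryTheory.comp_apply, he' φ]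
    rw [e1, hmid, e2]

theorem agree_of_elemLink [IsNoetherianRing R] [IsProper f] [Smooth (πR k R)]
    (hΦ : ∀ (Y : Scheme.{u}) (g : Y ⟶ Spec (CommRingCat.of k)) [IsIntegral Y] [Smooth g]
      [IsSeparated g] [QuasiCompact g],
      Function.Bijective (Φ.map (Over.homMk (CohB1.ProjSpaceOver.toBase 1 Y) rfl :
        Over.mk (CohB1.ProjSpaceOver.toBase 1 Y ≫ g) ⟶ Over.mk g).op))
    (hreg : ∀ y : ↥(Spec (CommRingCat.of R)), IsRegularLocalRing ((Spec (CommRingCat.of R)).presheaf.stalk y))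
    (hregP : ∀ y : ↥(CohB1.ProjSpaceOver 1 (Spec (CommRingCat.of R))),
      IsRegularLocalRing ((CohB1.ProjSpaceOver 1 (Spec (CommRingCat.of R))).presheaf.stalk y))
    {A B : REq.Pts f (FractionRing R)} (h : REq.ElemLink f (FractionRing R) A B) : Agree Φ f A B := by
  obtain ⟨H, a, b, hH, ha, hb, hA, hB⟩ := exists_link_hom h
  obtain ⟨aT, U, g, l, O, haT, hg, hlι, hlg, hOη, hOU⟩ := exists_spread_line hregP H hH
  let pY := CohB1.ProjSpaceOver.toBase 1 (Spec (CommRingCat.of R))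
  haveI : IsProper pY := ProjProper.Basic.isProper_toBase 1 _
  let pG := pY ≫ πR k R
  have hsec : ∀ c : Spec (CommRingCat.of (FractionRing R)) ⟶ REq.P1K (FractionRing R),
      c ≫ REq.P1K.toSpec _ = 𝟙 _ →
      ∃ (Oc : (Spec (CommRingCat.of R)).Opens) (ηc : Spec (CommRingCat.of (FractionRing R)) ⟶ (Oc : Scheme.{u}))
        (s : (Oc : Scheme.{u}) ⟶ CohB1.ProjSpaceOver 1 (Spec (CommRingCat.of R))),
        ηc ≫ Oc.ι = Neron.genPt R ∧ s ≫ pY = Oc.ι ∧ ηc ≫ s = c ≫ aT := by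
    intro c hc
    obtain ⟨Oc, ηc, s, hηc, hs, hηs⟩ := exists_spread_pt hreg pG (c ≫ aT) (by
      rw [Category.assoc, reassoc_of% haT, reassoc_of% hc, genPt_πR])
    refine ⟨Oc, ηc, s, hηc, ext_gen (πR k R) (by rw [Category.assoc, hs]) ηc hηc ?_, hηs⟩
    rw [reassoc_of% hηs, haT, reassoc_of% hc, hηc]
  obtain ⟨Oa, ηa, sa, hηa, hsa, hsa'⟩ := hsec a ha
  obtain ⟨Ob, ηb, sb, hηb, hsb, hsb'⟩ := hsec b hb
  let O' := O ⊓ (Oa ⊓ Ob)
  have hr : Set.range (Neron.genPt R) ⊆ Set.range O'.ι := by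
    rw [Scheme.Opens.range_ι]
    rintro _ ⟨z, rfl⟩
    refine ⟨hOη ⟨z, rfl⟩, ?_, ?_⟩
    · rw [← hηa]; exact (ηa z).2
    · rw [← hηb]; exact (ηb z).2
  let η' := IsOpenImmersion.lift O'.ι _ hr
  have hη' : η' ≫ O'.ι = Neron.genPt R := IsOpenImmersion.lift_fac _ _ _
  obtain ⟨m, hm⟩ := IntMult66.isPullback_projSpaceOver_comp O'.ι
  have hmU : Set.range m ⊆ Set.range U.ι := by
    rw [Scheme.Opens.range_ι]
    rintro _ ⟨z, rfl⟩
    refine hOU ?_
    show pY (m z) ∈ O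
    rw [← Scheme.Hom.comp_apply, hm.w]
    exact (CohB1.ProjSpaceOver.toBase 1 (O' : Scheme.{u}) z).2.1
  let m' := IsOpenImmersion.lift U.ι m hmU
  have hm' : m' ≫ U.ι = m := IsOpenImmersion.lift_fac _ _ _
  let q : Over.mk (CohB1.ProjSpaceOver.toBase 1 (O' : Scheme.{u}) ≫ O'.ι ≫ πR k R) ⟶ obj (k := k) O' :=
    Over.homMk (CohB1.ProjSpaceOver.toBase 1 (O' : Scheme.{u})) rfl
  let HH : Over.mk (CohB1.ProjSpaceOver.toBase 1 (O' : Scheme.{u}) ≫ O'.ι ≫ πR k R) ⟶ Over.mk f :=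
    Over.homMk (m' ≫ g) (by
      show (m' ≫ g) ≫ f = _
      rw [Category.assoc, hg, reassoc_of% hm', reassoc_of% hm.w]
      rfl)
  haveI : IsIntegral (O' : Scheme.{u}) := by
    haveI : Nonempty (O' : Scheme.{u}) := ⟨η' (IsLocalRing.closedPoint (FractionRing R))⟩
    exact isIntegral_of_isOpenImmersion O'.ι
  haveI : QuasiCompact (O'.ι ≫ πR k R) := inferInstance
  haveI : IsSeparated (O'.ι ≫ πR k R) := inferInstance
  haveI : Smooth (O'.ι ≫ πR k R) := inferInstance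
  have hbij := hΦ (O' : Scheme.{u}) (O'.ι ≫ πR k R)
  have hmk : ∀ (c : Spec (CommRingCat.of (FractionRing R)) ⟶ REq.P1K (FractionRing R))
      (P : REq.Pts f (FractionRing R)) (_ : c ≫ H = P.1) (Oc : (Spec (CommRingCat.of R)).Opens) (hle : O' ≤ Oc)
      (ηc : Spec (CommRingCat.of (FractionRing R)) ⟶ (Oc : Scheme.{u}))
      (s : (Oc : Scheme.{u}) ⟶ CohB1.ProjSpaceOver 1 (Spec (CommRingCat.of R)))
      (_ : ηc ≫ Oc.ι = Neron.genPt R) (_ : s ≫ pY = Oc.ι) (_ : ηc ≫ s = c ≫ aT),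
      ∃ σ : obj (k := k) O' ⟶ Over.mk (CohB1.ProjSpaceOver.toBase 1 (O' : Scheme.{u}) ≫ O'.ι ≫ πR k R),
        σ ≫ q = 𝟙 _ ∧ Rep f (σ ≫ HH).left P := by
    intro c P hP Oc hle ηc s hηc hs hηs
    let σ := hm.lift (Scheme.homOfLE _ hle ≫ s) (𝟙 _) (by rw [Category.assoc, hs, Scheme.homOfLE_ι, Category.id_comp])
    have hσ : σ ≫ CohB1.ProjSpaceOver.toBase 1 (O' : Scheme.{u}) = 𝟙 _ := hm.lift_snd _ _ _
    refine ⟨Over.homMk σ (by
      show σ ≫ CohB1.ProjSpaceOver.toBase 1 (O' : Scheme.{u}) ≫ O'.ι ≫ πR k R = _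
      rw [reassoc_of% hσ]
      rfl), Over.OverMorphism.ext hσ, η', hη', ?_⟩
    show η' ≫ σ ≫ m' ≫ g = P.1
    have e1 : η' ≫ σ ≫ m' = c ≫ l := by
      rw [← cancel_mono U.ι, Category.assoc, Category.assoc, hm', Category.assoc, hlι, hm.lift_fst,
        show η' ≫ Scheme.homOfLE _ hle ≫ s = (η' ≫ Scheme.homOfLE _ hle) ≫ s from (Category.assoc _ _ _).symm,
        show η' ≫ Scheme.homOfLE _ hle = ηc by
          rw [← cancel_mono Oc.ι, Category.assoc, Scheme.homOfLE_ι, hη', hηc], hηs]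
    rw [reassoc_of% e1, hlg, hP]
  obtain ⟨σa, hσa, hra⟩ := hmk a A hA Oa (inf_le_right.trans inf_le_left) ηa sa hηa hsa hsa'
  obtain ⟨σb, hσb, hrb⟩ := hmk b B hB Ob (inf_le_right.trans inf_le_right) ηb sb hηb hsb hsb'
  refine ⟨O', σa ≫ HH, σb ≫ HH, hra, hrb, fun φ => ?_⟩
  obtain ⟨ψ, hψ⟩ := hbij.2 (Φ.map HH.op φ)
  have key : ∀ σ : obj (k := k) O' ⟶ Over.mk (CohB1.ProjSpaceOver.toBase 1 (O' : Scheme.{u}) ≫ O'.ι ≫ πR k R),
      σ ≫ q = 𝟙 _ → Φ.map (σ ≫ HH).op φ = ψ := fun σ hσ => by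
    simp only [op_comp, Functor.map_comp, CategoryTheory.comp_apply]
    rw [← hψ]
    show Φ.map σ.op (Φ.map q.op ψ) = ψ
    rw [← CategoryTheory.comp_apply (Φ.map q.op) (Φ.map σ.op), ← Functor.map_comp, ← op_comp, hσ, op_id,
      CategoryTheory.Functor.map_id]
    rfl
  rw [key σa hσa, key σb hσb]

end


/-- Let k be a field and Φ a contravariant functor from the category of schemes over Spec k to sets.
Assume that for every integral scheme Y smooth, separated and quasi-compact over k, the map Φ(Y) →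
Φ(P^1_Y) induced by the projection P^1_Y → Y is bijective. Let X be a proper integral scheme over k
having a non-empty open subscheme smooth over k, and assume X is almost R-trivial over k. Then there
is a non-empty open subscheme U of X, smooth over k, such that the image of Φ(X) → Φ(U) (restriction
along the inclusion) equals the image of Φ(Spec k) → Φ(U) (along the structure morphism of U). The
functor takes values in an arbitrary universe. -/
theorem result (k : Type u) [Field k]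
    (Φ : (Over (Spec (CommRingCat.of k)))ᵒᵖ ⥤ Type v)
    (hΦ : ∀ (Y : Scheme.{u}) (g : Y ⟶ Spec (CommRingCat.of k)) [IsIntegral Y] [Smooth g]
      [IsSeparated g] [QuasiCompact g],
      Function.Bijective (Φ.map (Over.homMk (CohB1.ProjSpaceOver.toBase 1 Y) rfl :
        Over.mk (CohB1.ProjSpaceOver.toBase 1 Y ≫ g) ⟶ Over.mk g).op))
    (X : Scheme.{u}) (f : X ⟶ Spec (CommRingCat.of k)) [IsIntegral X] [IsProper f]
    (hsm : ∃ V : X.Opens, (V : Set X).Nonempty ∧ Smooth (V.ι ≫ f))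
    (hR : REq.IsAlmostRTrivial f) :
    ∃ U : X.Opens, (U : Set X).Nonempty ∧ Smooth (U.ι ≫ f) ∧
      Set.range (Φ.map (Over.homMk U.ι rfl : Over.mk (U.ι ≫ f) ⟶ Over.mk f).op) =
        Set.range (Φ.map (Over.homMk (U.ι ≫ f) (Category.comp_id _) :
          Over.mk (U.ι ≫ f) ⟶ Over.mk (𝟙 (Spec (CommRingCat.of k)))).op) := by
  obtain ⟨V, hV, hsmV⟩ := hsm
  obtain ⟨U₀, hU₀, hR⟩ := hR
  obtain ⟨⟨A₀, hA₀⟩, -⟩ := hR k
  obtain ⟨x, hxV, hxU⟩ := hU₀.inter_open_nonempty V V.2 hV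
  obtain ⟨_, ⟨W, hW, rfl⟩, hxW, hWsub⟩ :=
    X.isBasis_affineOpens.exists_subset_of_mem_open (show x ∈ ((V ⊓ U₀ : X.Opens) : Set X) from ⟨hxV, hxU⟩) (V ⊓ U₀).2
  haveI : Nonempty (W : Scheme.{u}) := ⟨⟨x, hxW⟩⟩
  let R := Γ(X, W)
  haveI : IsDomain R := inferInstanceAs (IsDomain Γ(X, W))
  let σ₀ := Spec.preimage (hW.fromSpec ≫ f)
  letI : Algebra k R := σ₀.hom.toAlgebra
  have hσ₀ : hW.fromSpec ≫ f = πR k R := (Spec.map_preimage _).symm
  have hrV : Set.range hW.fromSpec ⊆ Set.range V.ι := by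
    rw [hW.range_fromSpec, Scheme.Opens.range_ι]
    exact fun z hz => (hWsub hz).1
  haveI : Smooth (πR k R) := by
    rw [← hσ₀, ← IsOpenImmersion.lift_fac V.ι hW.fromSpec hrV, Category.assoc]
    haveI : IsOpenImmersion (IsOpenImmersion.lift V.ι hW.fromSpec hrV) :=
      haveI : IsOpenImmersion (IsOpenImmersion.lift V.ι hW.fromSpec hrV ≫ V.ι) := by
        rw [IsOpenImmersion.lift_fac]; infer_instance
      IsOpenImmersion.of_comp _ V.ι
    infer_instance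
  haveI : IsNoetherianRing R := by
    haveI : IsLocallyNoetherian (Spec (CommRingCat.of R)) := LocallyOfFiniteType.isLocallyNoetherian (πR k R)
    exact (isLocallyNoetherian_Spec (R := CommRingCat.of R)).mp inferInstance
  have hreg : ∀ y : ↥(Spec (CommRingCat.of R)), IsRegularLocalRing ((Spec (CommRingCat.of R)).presheaf.stalk y) :=
    fun y =>
      letI : (Spec (CommRingCat.of R)).Over (Spec (CommRingCat.of k)) := ⟨πR k R⟩
      haveI : Smooth ((Spec (CommRingCat.of R)) ↘ Spec (CommRingCat.of k)) := ‹Smooth (πR k R)›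
      S1535.result k _ y
  have hregP : ∀ y : ↥(CohB1.ProjSpaceOver 1 (Spec (CommRingCat.of R))),
      IsRegularLocalRing ((CohB1.ProjSpaceOver 1 (Spec (CommRingCat.of R))).presheaf.stalk y) := fun y => by
    haveI := CohOps.PnSmooth.smooth_toBase 1 (Spec (CommRingCat.of R))
    letI : (CohB1.ProjSpaceOver 1 (Spec (CommRingCat.of R))).Over (Spec (CommRingCat.of k)) :=
      ⟨CohB1.ProjSpaceOver.toBase 1 _ ≫ πR k R⟩
    haveI : Smooth ((CohB1.ProjSpaceOver 1 (Spec (CommRingCat.of R))) ↘ Spec (CommRingCat.of k)) :=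
      inferInstanceAs (Smooth (CohB1.ProjSpaceOver.toBase 1 _ ≫ πR k R))
    exact S1535.result k _ y
  let Pη : REq.Pts f (FractionRing R) := ⟨Neron.genPt R ≫ hW.fromSpec, by
    rw [Category.assoc, hσ₀, genPt_πR]⟩
  let Pc : REq.Pts f (FractionRing R) := ⟨REq.specMap k (FractionRing R) ≫ A₀.1, by
    rw [Category.assoc, A₀.2]
    show _ ≫ Spec.map (CommRingCat.ofHom (algebraMap k k)) = _
    rw [show CommRingCat.ofHom (algebraMap k k) = 𝟙 (CommRingCat.of k) from rfl, Spec.map_id, Category.comp_id]⟩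
  have hη0 : REq.InOpen f U₀ Pη := by
    rintro _ ⟨z, rfl⟩
    exact (hWsub (hW.range_fromSpec.le ⟨_, rfl⟩)).2
  have hc0 : REq.InOpen f U₀ Pc := by
    rintro _ ⟨z, rfl⟩
    exact hA₀ ⟨_, rfl⟩
  have hE := (hR (FractionRing R)).2 Pη Pc hη0 hc0
  have hAgree : ∀ A B : REq.Pts f (FractionRing R), REq.REquiv f (FractionRing R) A B → Agree Φ f A B := by
    intro A B hAB
    induction hAB with
    | rel A B hAB => exact agree_of_elemLink Φ f hΦ hreg hregP hAB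
    | refl A =>
      obtain ⟨O, η, g, hη, hg, hA⟩ := exists_spread_pt hreg f A.1 A.2
      exact ⟨O, Over.homMk g hg, Over.homMk g hg, ⟨η, hη, hA⟩, ⟨η, hη, hA⟩, fun _ => rfl⟩
    | symm A B _ ih =>
      obtain ⟨O, ga, gb, hA, hB, he⟩ := ih
      exact ⟨O, gb, ga, hB, hA, fun φ => (he φ).symm⟩
    | trans A B C _ _ ih ih' => exact Agree.trans Φ f ih ih'
  obtain ⟨O, ga, gb, ⟨η, hη, hA⟩, ⟨η₂, hη₂, hB⟩, he⟩ := hAgree _ _ hE
  obtain rfl : η₂ = η := (cancel_mono O.ι).1 (hη₂.trans hη.symm)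
  let ι' : (O : Scheme.{u}) ⟶ X := O.ι ≫ hW.fromSpec
  have hga : ga.left = ι' := by
    refine ext_gen f ?_ _ hη (hA.trans ?_)
    · rw [Category.assoc, hσ₀]; exact Over.w ga
    · show Neron.genPt R ≫ hW.fromSpec = _
      rw [← Category.assoc, hη]
  let A₀' : Over.mk (𝟙 (Spec (CommRingCat.of k))) ⟶ Over.mk f := Over.homMk A₀.1 (by
    show A₀.1 ≫ f = 𝟙 _
    rw [A₀.2]
    exact Spec.map_id _)
  let str : obj (k := k) O ⟶ Over.mk (𝟙 (Spec (CommRingCat.of k))) := Over.homMk (O.ι ≫ πR k R) (Category.comp_id _)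
  have hgb : gb = str ≫ A₀' := by
    apply Over.OverMorphism.ext
    refine ext_gen f ((Over.w gb).trans (Over.w (str ≫ A₀')).symm) _ hη (hB.trans ?_)
    show REq.specMap k (FractionRing R) ≫ A₀.1 = _ ≫ (O.ι ≫ πR k R) ≫ A₀.1
    rw [Category.assoc, reassoc_of% hη, ← genPt_πR, Category.assoc]
  let θ := ι'.isoOpensRange
  have hθ : θ.hom ≫ ι'.opensRange.ι = ι' := Scheme.Hom.isoOpensRange_hom_ι _
  have hUs : Smooth (ι'.opensRange.ι ≫ f) := by
    rw [← MorphismProperty.cancel_left_of_respectsIso (P := @Smooth.{u}) θ.hom, reassoc_of% hθ, Category.assoc, hσ₀]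
    infer_instance
  refine ⟨ι'.opensRange, ⟨ι' (η₂ (IsLocalRing.closedPoint (FractionRing R))), ⟨_, rfl⟩⟩, hUs, ?_⟩
  let θi : Over.mk (ι'.opensRange.ι ≫ f) ⟶ obj (k := k) O := Over.homMk θ.inv (by
    show θ.inv ≫ O.ι ≫ πR k R = ι'.opensRange.ι ≫ f
    rw [Iso.inv_comp_eq, reassoc_of% hθ, Category.assoc, hσ₀])
  have e1 : (Over.homMk ι'.opensRange.ι rfl : Over.mk (ι'.opensRange.ι ≫ f) ⟶ Over.mk f) = θi ≫ ga := by
    apply Over.OverMorphism.ext
    show ι'.opensRange.ι = θ.inv ≫ ga.left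
    rw [hga, Iso.eq_inv_comp, hθ]
  have e2 : θi ≫ gb = (Over.homMk (ι'.opensRange.ι ≫ f) (Category.comp_id _) :
      Over.mk (ι'.opensRange.ι ≫ f) ⟶ Over.mk (𝟙 (Spec (CommRingCat.of k)))) ≫ A₀' := by
    rw [hgb, ← Category.assoc]
    congr 1
    apply Over.OverMorphism.ext
    show θ.inv ≫ O.ι ≫ πR k R = ι'.opensRange.ι ≫ f
    rw [Iso.inv_comp_eq, reassoc_of% hθ, Category.assoc, hσ₀]
  let fs : Over.mk f ⟶ Over.mk (𝟙 (Spec (CommRingCat.of k))) := Over.homMk f (Category.comp_id _)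
  ext z
  constructor
  · rintro ⟨φ, rfl⟩
    refine ⟨Φ.map A₀'.op φ, ?_⟩
    rw [e1, ← CategoryTheory.comp_apply (Φ.map A₀'.op), ← Functor.map_comp, ← op_comp, ← e2]
    simp only [op_comp, Functor.map_comp, CategoryTheory.comp_apply, he φ]
  · rintro ⟨ψ, rfl⟩
    refine ⟨Φ.map fs.op ψ, ?_⟩
    rw [← CategoryTheory.comp_apply (Φ.map fs.op), ← Functor.map_comp, ← op_comp]
    rfl

end Groth.Agent.S18574
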