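import Groth.Statements.S18576
import Groth.Agent.REqArc95.Basic
import Groth.Agent.REq71.Retract

set_option autoImplicit false
set_option backward.isDefEq.respectTransparency false
set_option synthInstance.maxHeartbeats 400000
set_option maxHeartbeats 1000000
set_option linter.style.haveILetI false
universe u
open CategoryTheory AlgebraicGeometry
open REq

namespace Groth.Agent.S18576

open CategoryTheory.Limits REq71 REqArc95
open scoped LaurentSeries PowerSeries Polynomial RatFunc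

/-- Every point is linked to a point of the retract open. -/
theorem exists_link {k : Type u} [Field k] [Infinite k] {X : Scheme.{u}} [IsIntegral X]
    (f : X ⟶ Spec (CommRingCat.of k)) [Smooth f] {U : X.Opens} {n : ℕ}
    {V : (Spec (CommRingCat.of (MvPolynomial (Fin n) k))).Opens}
    (a : (U : Scheme.{u}) ⟶ (V : Scheme.{u})) (b : (V : Scheme.{u}) ⟶ (U : Scheme.{u}))
    (hne : (U : Set X).Nonempty) (hab : a ≫ b = 𝟙 _)
    (ha : a ≫ V.ι ≫ affStr k n = U.ι ≫ f) (hb : b ≫ U.ι ≫ f = V.ι ≫ affStr k n)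
    (K : Type u) [Field K] [Algebra k K] (A : REq.Pts f K) :
    ∃ A' : REq.Pts f K, REq.InOpen f U A' ∧ REq.REquiv f K A A' := by
  classical
  haveI : Infinite K := Infinite.of_injective _ (algebraMap k K).injective
  obtain ⟨U₀, hU₀, W, hW, hpW, e, hstd⟩ :=
    Smooth.exists_isStandardSmooth f (A.1 (IsLocalRing.closedPoint K))
  haveI : Unique ↥(Spec (CommRingCat.of k)) := inferInstanceAs (Unique (PrimeSpectrum k))
  obtain rfl : U₀ = ⊤ := by
    refine eq_top_iff.mpr fun z _ => ?_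
    have hp : f (A.1 (IsLocalRing.closedPoint K)) ∈ U₀ := e hpW
    rwa [Subsingleton.elim z (f (A.1 (IsLocalRing.closedPoint K)))]
  let σ₀ : CommRingCat.of k ⟶ Γ(X, W) :=
    (Scheme.ΓSpecIso (CommRingCat.of k)).inv ≫ f.appLE ⊤ W e
  letI : Algebra k Γ(X, W) := σ₀.hom.toAlgebra
  have hσ₀ : hW.fromSpec ≫ f = Spec.map (CommRingCat.ofHom (algebraMap k Γ(X, W))) := by
    show _ = Spec.map σ₀
    rw [Spec.map_comp, ← IsAffineOpen.SpecMap_appLE_fromSpec f (isAffineOpen_top _) hW e,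
      IsAffineOpen.fromSpec_top, Scheme.isoSpec_Spec_inv]
  have hstd' : (algebraMap k Γ(X, W)).IsStandardSmooth := by
    show σ₀.hom.IsStandardSmooth
    exact RingHom.isStandardSmooth_respectsIso.2 _
      (Scheme.ΓSpecIso (CommRingCat.of k)).symm.commRingCatIsoToRingEquiv hstd
  let B := Γ(X, W)
  haveI : Nonempty (W : Scheme.{u}) := ⟨⟨_, hpW⟩⟩
  haveI : IsDomain B := inferInstanceAs (IsDomain Γ(X, W))
  haveI : Algebra.FiniteType k B := by
    haveI : Algebra.IsStandardSmooth k B := RingHom.isStandardSmooth_algebraMap.mp hstd'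
    infer_instance
  -- the point
  have hrA : Set.range A.1 ⊆ Set.range hW.fromSpec := by
    rw [hW.range_fromSpec]
    rintro _ ⟨z, rfl⟩
    rwa [Subsingleton.elim (α := PrimeSpectrum K) z (IsLocalRing.closedPoint K)]
  let χS := IsOpenImmersion.lift hW.fromSpec A.1 hrA
  have hχS : χS ≫ hW.fromSpec = A.1 := IsOpenImmersion.lift_fac _ _ _
  let χ₀ := Spec.preimage χS
  have hχ₀ : Spec.map χ₀ = χS := Spec.map_preimage _
  let χ : B →ₐ[k] K := { χ₀.hom with
    commutes' := fun c => by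
      have h : CommRingCat.ofHom (algebraMap k B) ≫ χ₀ = CommRingCat.ofHom (algebraMap k K) :=
        Spec.map_injective (by
          rw [Spec.map_comp, hχ₀, ← hσ₀, reassoc_of% hχS]
          exact A.2)
      exact DFunLike.congr_fun (congrArg CommRingCat.Hom.hom h) c }
  -- the divisor
  let UB : TopologicalSpace.Opens (PrimeSpectrum B) := hW.fromSpec ⁻¹ᵁ U
  obtain ⟨ξ, hξ⟩ : (UB : Set (PrimeSpectrum B)).Nonempty := by
    obtain ⟨x, hxU, hxW⟩ := nonempty_preirreducible_inter U.2 W.2 hne ⟨_, hpW⟩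
    obtain ⟨z, rfl⟩ : x ∈ Set.range hW.fromSpec := by rw [hW.range_fromSpec]; exact hxW
    exact ⟨z, hxU⟩
  obtain ⟨_, ⟨f₁, rfl⟩, hf₁ξ, hf₁U⟩ :=
    PrimeSpectrum.isTopologicalBasis_basic_opens.exists_subset_of_mem_open hξ UB.2
  have hf₁0 : f₁ ≠ 0 := fun h => hf₁ξ (h ▸ zero_mem _)
  obtain ⟨φ, hφ, hφf⟩ := exists_arc hstd' χ f₁ hf₁0
  let Bf := Localization.Away f₁
  let jf : Spec (CommRingCat.of Bf) ⟶ Spec (CommRingCat.of B) :=
    Spec.map (CommRingCat.ofHom (algebraMap B Bf))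
  haveI : IsOpenImmersion jf := IsOpenImmersion.of_isLocalization f₁
  have hjf : Set.range jf = (PrimeSpectrum.basicOpen f₁ : Set (PrimeSpectrum B)) :=
    PrimeSpectrum.localization_away_comap_range _ _
  let iF := jf ≫ hW.fromSpec
  have hiF : iF ≫ f = Spec.map (CommRingCat.ofHom (algebraMap k Bf)) := by
    rw [Category.assoc, hσ₀, ← Spec.map_comp, ← CommRingCat.ofHom_comp, ← IsScalarTower.algebraMap_eq]
  have hrF : Set.range iF ⊆ Set.range U.ι := by
    rw [Scheme.Opens.range_ι]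
    rintro _ ⟨z, rfl⟩
    exact hf₁U (hjf.subset ⟨z, rfl⟩)
  let eF : Spec (CommRingCat.of Bf) ⟶ (U : Scheme.{u}) := IsOpenImmersion.lift U.ι iF hrF
  have heF : eF ≫ U.ι = iF := IsOpenImmersion.lift_fac _ _ _
  let γ₀ := Spec.preimage (eF ≫ a ≫ V.ι)
  let γ : MvPolynomial (Fin n) k →ₐ[k] Bf := { γ₀.hom with
    commutes' := fun c => by
      have h : CommRingCat.ofHom (algebraMap k (MvPolynomial (Fin n) k)) ≫ γ₀ =
          CommRingCat.ofHom (algebraMap k Bf) :=
        Spec.map_injective (by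
          rw [Spec.map_comp, Spec.map_preimage, Category.assoc, Category.assoc, ha, reassoc_of% heF, hiF])
      exact DFunLike.congr_fun (congrArg CommRingCat.Hom.hom h) c }
  have hφu : IsUnit (((φ f₁ : K⟦X⟧) : K⸨X⸩)) :=
    isUnit_iff_ne_zero.mpr fun h => hφf (HahnSeries.ofPowerSeries_injective (h.trans (map_zero _).symm))
  let φF : Bf →+* K⸨X⸩ :=
    IsLocalization.Away.lift f₁ (g := (HahnSeries.ofPowerSeries ℤ K).comp φ.toRingHom) hφu
  have hφF : ∀ z, φF (algebraMap B Bf z) = (φ z : K⸨X⸩) := fun z => IsLocalization.Away.lift_eq _ _ z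
  let y : Fin n → K⸨X⸩ := fun i => φF (γ (MvPolynomial.X i))
  have hy : (MvPolynomial.aeval y : MvPolynomial (Fin n) k →ₐ[k] K⸨X⸩).toRingHom = φF.comp γ.toRingHom := by
    refine MvPolynomial.ringHom_ext (fun r => ?_) fun i => ?_
    · show MvPolynomial.aeval y (MvPolynomial.C r) = φF (γ (MvPolynomial.C r))
      rw [← MvPolynomial.algebraMap_eq, AlgHom.commutes, AlgHom.commutes,
        IsScalarTower.algebraMap_apply k B Bf, hφF, AlgHom.commutes, HahnSeries.algebraMap_apply']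
    · show MvPolynomial.aeval y (MvPolynomial.X i) = _
      rw [MvPolynomial.aeval_X]
      rfl
  let pt : ↥(Spec (CommRingCat.of Bf)) := Spec.map (CommRingCat.ofHom φF) (IsLocalRing.closedPoint K⸨X⸩)
  let O : (U : Scheme.{u}).Opens := eF.opensRange
  haveI : IsOpenImmersion eF := IsOpenImmersion.of_comp (f := eF) (g := U.ι)
  let v := a (eF pt)
  have hv : V.ι v ∈ V.ι ''ᵁ (b ⁻¹ᵁ eF.opensRange) := by
    refine ⟨v, ?_, rfl⟩
    show b (a (eF pt)) ∈ eF.opensRange
    rw [← Scheme.Hom.comp_apply, hab]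
    exact ⟨pt, rfl⟩
  obtain ⟨_, ⟨g, rfl⟩, hgv, hgsub⟩ :=
    PrimeSpectrum.isTopologicalBasis_basic_opens.exists_subset_of_mem_open hv
      (V.ι ''ᵁ (b ⁻¹ᵁ eF.opensRange)).2
  have hg : MvPolynomial.aeval y g ≠ 0 := by
    intro h
    apply hgv
    have h1 : φF (γ g) = 0 := (RingHom.congr_fun hy g).symm.trans h
    have h2 : V.ι v = Spec.map γ₀ pt := by
      rw [Spec.map_preimage]
      rfl
    rw [h2]
    show γ₀.hom g ∈ Ideal.comap φF (IsLocalRing.maximalIdeal K⸨X⸩)
    rw [Ideal.mem_comap]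
    exact h1 ▸ zero_mem _
  let Pg := Localization.Away g
  let jg : Spec (CommRingCat.of Pg) ⟶ Spec (CommRingCat.of (MvPolynomial (Fin n) k)) :=
    Spec.map (CommRingCat.ofHom (algebraMap (MvPolynomial (Fin n) k) Pg))
  have hjg : Set.range jg = (PrimeSpectrum.basicOpen g : Set (PrimeSpectrum (MvPolynomial (Fin n) k))) :=
    PrimeSpectrum.localization_away_comap_range _ _
  have hsubV : Set.range jg ⊆ Set.range V.ι := by
    intro z hz
    obtain ⟨z', -, rfl⟩ := hgsub (hjg.subset hz)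
    exact ⟨z', rfl⟩
  let yV := IsOpenImmersion.lift V.ι jg hsubV
  have hyV : yV ≫ V.ι = jg := IsOpenImmersion.lift_fac _ _ _
  have hsubF : Set.range (yV ≫ b) ⊆ Set.range eF := by
    rintro _ ⟨z, rfl⟩
    obtain ⟨z', hz', hzz⟩ := hgsub (hjg.subset ⟨z, rfl⟩)
    have : yV z = z' := V.ι.isOpenEmbedding.injective (by
      show (yV ≫ V.ι) z = _
      rw [hyV]
      exact hzz.symm)
    show b (yV z) ∈ Set.range eF
    rw [this]
    exact hz'
  let βS := IsOpenImmersion.lift eF (yV ≫ b) hsubF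
  have hβS : βS ≫ eF = yV ≫ b := IsOpenImmersion.lift_fac _ _ _
  let β₀ := Spec.preimage βS
  have hβ₀ : Spec.map β₀ = βS := Spec.map_preimage _
  let βF : Bf →ₐ[k] Pg := { β₀.hom with
    commutes' := fun c => by
      have h : CommRingCat.ofHom (algebraMap k Bf) ≫ β₀ = CommRingCat.ofHom (algebraMap k Pg) :=
        Spec.map_injective (by
          rw [Spec.map_comp, hβ₀, ← hiF, ← heF, Category.assoc, reassoc_of% hβS, hb, reassoc_of% hyV,
            ← Spec.map_comp, ← CommRingCat.ofHom_comp, ← IsScalarTower.algebraMap_eq])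
      exact DFunLike.congr_fun (congrArg CommRingCat.Hom.hom h) c }
  let φg : Pg →+* K⸨X⸩ := IsLocalization.Away.lift g
    (g := (MvPolynomial.aeval y : MvPolynomial (Fin n) k →ₐ[k] K⸨X⸩).toRingHom) (isUnit_iff_ne_zero.mpr hg)
  have hφg : ∀ z, φg (algebraMap _ Pg z) = MvPolynomial.aeval y z := fun z =>
    IsLocalization.Away.lift_eq _ _ z
  have hcomp : φg.comp β₀.hom = φF := by
    suffices h0 : Spec.map (β₀ ≫ CommRingCat.ofHom φg) = Spec.map (CommRingCat.ofHom φF) from
      congrArg CommRingCat.Hom.hom (Spec.map_injective h0)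
    rw [← cancel_mono eF, Spec.map_comp, Category.assoc, hβ₀, hβS]
    have h1 : Spec.map (CommRingCat.ofHom φg) ≫ yV = Spec.map (CommRingCat.ofHom φF) ≫ eF ≫ a := by
      rw [← cancel_mono V.ι, Category.assoc, Category.assoc, Category.assoc, hyV,
        ← Spec.map_preimage (eF ≫ a ≫ V.ι), ← Spec.map_comp, ← Spec.map_comp]
      congr 1
      refine CommRingCat.hom_ext ?_
      refine RingHom.ext fun z => ?_
      exact (hφg z).trans (RingHom.congr_fun hy z)
    rw [reassoc_of% h1, hab, Category.comp_id]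
  let β : B →ₐ[k] Pg := βF.comp (IsScalarTower.toAlgHom k B Bf)
  obtain ⟨ψ, hψf, hψ⟩ := exists_approx g β y hg φ (fun z P m hzP => by
    have h1 := congrArg φg hzP
    rw [map_mul, hφg, hφg] at h1
    have h2 : φg (β z) = (φ z : K⸨X⸩) := (RingHom.congr_fun hcomp _).trans (hφF z)
    rwa [h2] at h1) f₁ ((IsLocalization.map_units Bf (⟨f₁, Submonoid.mem_powers f₁⟩ : Submonoid.powers f₁)).map βF)
  obtain ⟨h, ρ, h0, h1, hρ0, hρ1⟩ := exists_line_ring ψ χ f₁ hψf (fun z => by
    obtain ⟨w, hw, hw'⟩ := hψ z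
    exact ⟨w, hw, hw'.trans (hφ z)⟩)
  -- the line
  let L := Localization.Away h
  let jh : Spec (CommRingCat.of L) ⟶ Spec (CommRingCat.of K[X]) :=
    Spec.map (CommRingCat.ofHom (algebraMap K[X] L))
  haveI : IsOpenImmersion jh := IsOpenImmersion.of_isLocalization h
  let eh := jh.isoOpensRange
  have heh : eh.hom ≫ jh.opensRange.ι = jh := Scheme.Hom.isoOpensRange_hom_ι _
  let m : Spec (CommRingCat.of L) ⟶ X := Spec.map (CommRingCat.ofHom ρ.toRingHom) ≫ hW.fromSpec
  have hm : m ≫ f = jh ≫ Spec.map (CommRingCat.ofHom (algebraMap k K[X])) := by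
    rw [Category.assoc, hσ₀, ← Spec.map_comp, ← Spec.map_comp, ← CommRingCat.ofHom_comp,
      ← CommRingCat.ofHom_comp, ← IsScalarTower.algebraMap_eq]
    congr 2
    exact ρ.comp_algebraMap
  let pt' : ∀ (c : K), IsUnit (Polynomial.evalRingHom c h) → (Spec (CommRingCat.of K) ⟶ Spec (CommRingCat.of L)) :=
    fun c hc => Spec.map (CommRingCat.ofHom (IsLocalization.Away.lift h hc))
  have hpt : ∀ (c : K) (hc : IsUnit (Polynomial.evalRingHom c h)), pt' c hc ≫ jh = linePt K c := fun c hc => by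
    rw [← Spec.map_comp, ← CommRingCat.ofHom_comp]
    congr 2
    exact IsLocalization.Away.lift_comp _ hc
  have hA : pt' 0 h0 ≫ m = A.1 := by
    rw [← Category.assoc, ← Spec.map_comp, ← hχS, ← hχ₀]
    congr 2
    exact CommRingCat.hom_ext (RingHom.ext hρ0)
  have hB : (pt' 1 h1 ≫ m) ≫ f = REq.specMap k K := by
    rw [Category.assoc, hm, reassoc_of% (hpt 1 h1), ← Spec.map_comp, ← CommRingCat.ofHom_comp]
    congr 2
    refine RingHom.ext fun r => ?_
    simp [Polynomial.algebraMap_apply]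
  refine ⟨⟨pt' 1 h1 ≫ m, hB⟩, ?_, Relation.EqvGen.rel _ _ ?_⟩
  · rintro _ ⟨z, rfl⟩
    show hW.fromSpec (Spec.map (CommRingCat.ofHom ρ.toRingHom) (pt' 1 h1 z)) ∈ U
    refine hf₁U ?_
    show f₁ ∉ Ideal.comap ρ.toRingHom (Ideal.comap (IsLocalization.Away.lift h h1) z.asIdeal)
    rw [Ideal.mem_comap, Ideal.mem_comap]
    exact fun hz => z.isPrime.ne_top (z.asIdeal.eq_top_of_isUnit_mem hz (isUnit_iff_ne_zero.mpr hρ1))
  · refine elemLink_of_line A ⟨pt' 1 h1 ≫ m, hB⟩ jh.opensRange (eh.inv ≫ m) ?_ (pt' 0 h0 ≫ eh.hom)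
      (pt' 1 h1 ≫ eh.hom) ?_ ?_ ?_ ?_
    · rw [Category.assoc, Iso.inv_comp_eq, reassoc_of% heh, hm]
    · rw [Category.assoc, heh, hpt]
    · rw [Category.assoc, heh, hpt]
    · rw [Category.assoc, Iso.hom_inv_id_assoc, hA]
    · rw [Category.assoc, Iso.hom_inv_id_assoc]


/-- Let k be a field of characteristic zero and X a scheme that is smooth, projective and geometrically
integral over k. If X is retract rational over k, in particular if X is stably rational over k, then
X is R-trivial over k: for every field K containing k (in the universe of k), X(K) is non-empty and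
any two K-points are R-equivalent. -/
theorem result (k : Type u) [Field k] [CharZero k]
    (X : Scheme.{u}) (f : X ⟶ Spec (CommRingCat.of k)) [GeometricallyIntegral f] [Smooth f]
    (hproj : Neron.IsProjectiveOver k (Over.mk f)) (hX : REq.IsRetractRational f) :
    REq.IsRTrivial f := by
  obtain ⟨U, n, V, a, b, hne, hab, ha, hb⟩ := hX
  haveI : IsIntegral X := GeometricallyIntegral.isIntegral_of_subsingleton f
  intro K _ _
  haveI : Infinite K := Infinite.of_injective _ (algebraMap k K).injective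
  refine ⟨?_, fun A B => ?_⟩
  · obtain ⟨x, hx⟩ := hne
    obtain ⟨v, hv⟩ := Groth.Agent.REq71.exists_ratPt V ⟨V.ι (a ⟨x, hx⟩), (a ⟨x, hx⟩).2⟩
    exact ⟨⟨REq.specMap k K ≫ v ≫ b ≫ U.ι, by
      rw [Category.assoc, Category.assoc, Category.assoc, hb, hv, Category.comp_id]⟩⟩
  obtain ⟨A', hA', hAA'⟩ := exists_link f a b hne hab ha hb K A
  obtain ⟨B', hB', hBB'⟩ := exists_link f a b hne hab ha hb K B
  refine hAA'.trans _ _ _ (Relation.EqvGen.trans _ _ _ ?_ (hBB'.symm _ _))
  have hl : ∀ P : REq.Pts f K, REq.InOpen f U P →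
      ∃ Q : REq.Pts (U.ι ≫ f) K, Q.1 ≫ U.ι = P.1 := fun P hP => by
    have hr : Set.range P.1 ⊆ Set.range U.ι := by rw [Scheme.Opens.range_ι]; exact hP
    exact ⟨⟨IsOpenImmersion.lift U.ι P.1 hr, by rw [IsOpenImmersion.lift_fac_assoc]; exact P.2⟩,
      IsOpenImmersion.lift_fac _ _ _⟩
  obtain ⟨A'', hA''⟩ := hl A' hA'
  obtain ⟨B'', hB''⟩ := hl B' hB'
  exact Relation.EqvGen.rel _ _ (elemLink_ι hA'' hB'' (elemLink_retract hab ha hb K A'' B''))

end Groth.Agent.S18576
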