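import Groth.Statements.S18577
import Mathlib
import Groth.Agent.REq71.Proj
-- import your own Groth.Agent.* helpers here

set_option autoImplicit false
universe u
open CategoryTheory AlgebraicGeometry
open REq

namespace Groth.Agent.S18577

/-- Let k be a field, V an open subscheme of projective n-space over k and K a field containing k. Then
any two K-points of V are directly R-linked in V: there are an open subscheme of the projective line
over K, a morphism from it to V over k, and two K-rational points of that open mapping to the given
points. (The published remark concerns k-points; this row is stated for K-points, K any field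
containing k.) -/
theorem result (k : Type u) [Field k] (n : ℕ)
    (V : (CohB1.ProjSpaceOver n (Spec (CommRingCat.of k))).Opens) (K : Type u) [Field K] [Algebra k K]
    (A B : REq.Pts (V.ι ≫ CohB1.ProjSpaceOver.toBase n (Spec (CommRingCat.of k))) K) :
    REq.ElemLink (V.ι ≫ CohB1.ProjSpaceOver.toBase n (Spec (CommRingCat.of k))) K A B := by
  obtain ⟨e, he⟩ := Groth.Agent.ProperFin.exists_iso_projSpaceOver n k
  let V' : (CohB1.ProjSpace n k).Opens := e.inv ⁻¹ᵁ V
  let ev : (V' : Scheme.{u}) ≅ (V : Scheme.{u}) := asIso (e.inv ∣_ V)
  have hev : ev.symm.hom ≫ V'.ι ≫ Groth.Agent.Chow.str n k = V.ι ≫ CohB1.ProjSpaceOver.toBase n (Spec (CommRingCat.of k)) := by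
    rw [Iso.symm_hom, Iso.inv_comp_eq, asIso_hom, morphismRestrict_ι_assoc]
    congr 1
    exact (Iso.eq_inv_comp e).2 he
  refine Groth.Agent.REq71.elemLink_iso ev.symm _ _ hev A B
    ⟨A.1 ≫ ev.symm.hom, ?_⟩ ⟨B.1 ≫ ev.symm.hom, ?_⟩ rfl rfl
    (Groth.Agent.REq71.elemLink_opens V' K _ _)
  · rw [Category.assoc, hev]; exact A.2
  · rw [Category.assoc, hev]; exact B.2


end Groth.Agent.S18577
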