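import Groth.Statements.S18578
import Groth.Agent.Omega.RankDim
import Groth.Agent.RegLoc.UFD
import Mathlib.RingTheory.Localization.NumDen
import Mathlib.RingTheory.Smooth.Field
-- import your own Groth.Agent.* helpers here

set_option autoImplicit false
universe u
open LogDiff

namespace Groth.Agent.S18578

open TensorProduct KaehlerDifferential

/-- The logarithmic differential. -/
noncomputable def L (k : Type u) {K : Type u} [CommRing k] [Field K] [Algebra k K] (x : K) : Ω[K⁄k] :=
  x⁻¹ • D k K x

lemma L_mul {k K : Type u} [CommRing k] [Field K] [Algebra k K] {x y : K} (hx : x ≠ 0) (hy : y ≠ 0) :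
    L k (x * y) = L k x + L k y := by
  simp only [L, Derivation.leibniz, smul_add, smul_smul]
  rw [show (x * y)⁻¹ * x = y⁻¹ by field_simp, show (x * y)⁻¹ * y = x⁻¹ by field_simp, add_comm]

lemma L_one {k K : Type u} [CommRing k] [Field K] [Algebra k K] : L k (1 : K) = 0 := by simp [L]

lemma L_inv {k K : Type u} [CommRing k] [Field K] [Algebra k K] {x : K} (hx : x ≠ 0) :
    L k x⁻¹ = - L k x := by
  rw [eq_neg_iff_add_eq_zero, ← L_mul (inv_ne_zero hx) hx, inv_mul_cancel₀ hx, L_one]

lemma L_pow {k K : Type u} [CommRing k] [Field K] [Algebra k K] {x : K} (hx : x ≠ 0) (e : ℕ) :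
    L k (x ^ e) = e • L k x := by
  induction e with
  | zero => simp [L_one]
  | succ e ih => rw [pow_succ, L_mul (pow_ne_zero _ hx) hx, ih, succ_nsmul]

/-- A uniformiser has nonzero differential in the fibre, in characteristic zero. -/
lemma one_tmul_D_ne_zero (k : Type u) [Field k] [CharZero k] (R : Type u) [CommRing R] [IsDomain R]
    [Algebra k R] [Algebra.EssFiniteType k R] (π : R) (hπ : Prime π) :
    haveI := (Ideal.span_singleton_prime hπ.ne_zero).mpr hπ
    (1 : (Ideal.span {π}).ResidueField) ⊗ₜ[R] D k R π ≠ 0 := by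
  haveI hq := (Ideal.span_singleton_prime hπ.ne_zero).mpr hπ
  let q := Ideal.span {π}
  let S := Localization.AtPrime q
  let κ := q.ResidueField
  have : Algebra.EssFiniteType R S := Algebra.EssFiniteType.of_isLocalization _ q.primeCompl
  have : Algebra.EssFiniteType k S := Algebra.EssFiniteType.comp k R S
  have : Algebra.EssFiniteType k κ := Algebra.EssFiniteType.comp k S κ
  have hsurj : Function.Surjective (algebraMap S κ) := IsLocalRing.residue_surjective
  have : Algebra.FormallySmooth k κ := Algebra.FormallySmooth.of_perfectField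
  let f := IsScalarTower.toAlgHom k S κ
  have hs : Function.Surjective f.kerSquareLift :=
    Ideal.Quotient.lift_surjective_of_surjective _ _ hsurj
  have hn : IsNilpotent (RingHom.ker f.kerSquareLift.toRingHom) :=
    ⟨2, by rw [AlgHom.ker_kerSquareLift, Ideal.cotangentIdeal_square]; rfl⟩
  let g := Algebra.FormallySmooth.liftOfSurjective (AlgHom.id k κ) f.kerSquareLift hs hn
  obtain ⟨l, hl⟩ := (retractionKerCotangentToTensorEquivSection (R := k) hsurj).symm
    ⟨g, Algebra.FormallySmooth.comp_liftOfSurjective _ _ _ _⟩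
  intro h0
  let h : Ω[R⁄k] →ₗ[R] κ ⊗[S] Ω[S⁄k] :=
    (TensorProduct.mk S κ Ω[S⁄k] 1).restrictScalars R ∘ₗ KaehlerDifferential.map k k R S
  have h1 : (1 : κ) ⊗ₜ[S] D k S (algebraMap R S π) = 0 := by
    have := congrArg (LinearMap.liftBaseChange κ h) h0
    rw [LinearMap.liftBaseChange_tmul, one_smul, map_zero] at this
    simpa [h] using this
  have hmem : algebraMap R S π ∈ RingHom.ker (algebraMap S κ) := by
    rw [RingHom.mem_ker, ← IsScalarTower.algebraMap_apply R S κ, Ideal.algebraMap_residueField_eq_zero]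
    exact Ideal.mem_span_singleton_self π
  have h2 : (RingHom.ker (algebraMap S κ)).toCotangent ⟨_, hmem⟩ = 0 := by
    rw [← LinearMap.id_apply (R := S) ((RingHom.ker (algebraMap S κ)).toCotangent ⟨_, hmem⟩), ← hl,
      LinearMap.comp_apply, kerCotangentToTensor_toCotangent]
    exact (congrArg l h1).trans (map_zero _)
  replace h2 : algebraMap R S π ∈ RingHom.ker (algebraMap S κ) ^ 2 := (Ideal.toCotangent_eq_zero _ _).mp h2
  have hker : RingHom.ker (algebraMap S κ) = Ideal.span {algebraMap R S π} := by
    rw [← Set.image_singleton, ← Ideal.map_span]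
    exact (Ideal.mk_ker).trans (IsLocalization.AtPrime.map_eq_maximalIdeal q S).symm
  rw [hker, Ideal.span_singleton_pow, Ideal.mem_span_singleton'] at h2
  obtain ⟨c, hc⟩ := h2
  have hm : algebraMap R S π ∈ IsLocalRing.maximalIdeal S := by
    rw [← IsLocalization.AtPrime.map_eq_maximalIdeal q S]
    exact Ideal.mem_map_of_mem _ (Ideal.mem_span_singleton_self π)
  have hu : IsUnit (1 - c * algebraMap R S π) := IsLocalRing.isUnit_one_sub_self_of_mem_nonunits _
    (Ideal.mul_mem_left _ c hm)
  have hz : algebraMap R S π = 0 :=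
    hu.mul_left_eq_zero.mp (by linear_combination (-1 : S) * hc)
  exact hπ.ne_zero (IsLocalization.injective S q.primeCompl_le_nonZeroDivisors (hz.trans (map_zero _).symm))

section
variable {k R K : Type u} [Field k] [CharZero k] [CommRing R] [IsDomain R] [UniqueFactorizationMonoid R]
  [Algebra k R] [Algebra.EssFiniteType k R] [Algebra.FormallySmooth k R]
  [Field K] [Algebra R K] [IsFractionRing R K] [Algebra k K] [IsScalarTower k R K]
  {r : ℕ} (f : Fin r → R) (hf : ∀ i, Prime (f i))

include hf in
/-- Primes in the numerator are among the f_i. -/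
lemma exists_associated (a b : R) (ha : a ≠ 0) (hb : b ≠ 0) (hab : IsRelPrime a b)
    (η : Ω[R⁄k]) (c : Fin r → R)
    (h : L k (algebraMap R K a) - L k (algebraMap R K b) =
      KaehlerDifferential.map k k R K η + ∑ i, algebraMap R K (c i) • L k (algebraMap R K (f i)))
    (π : R) (hπ : Prime π) (hdvd : π ∣ a) : ∃ i, Associated π (f i) := by
  by_contra hne
  push Not at hne
  obtain ⟨e, a', ha', rfl⟩ := WfDvdMonoid.max_power_factor ha hπ.irreducible
  have he : e ≠ 0 := by rintro rfl; exact ha' (by simpa using hdvd)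
  have hπb : ¬ π ∣ b := fun hd => hπ.not_unit (hab hdvd hd)
  have ha'0 : a' ≠ 0 := fun h0 => ha' (h0 ▸ dvd_zero π)
  set F : R := a' * b * ∏ i, f i with hF
  have hπF : ¬ π ∣ F := by
    intro hd
    rcases hπ.dvd_or_dvd hd with hd | hd
    · rcases hπ.dvd_or_dvd hd with hd | hd
      · exact ha' hd
      · exact hπb hd
    · obtain ⟨i, -, hi⟩ := hπ.exists_mem_finset_dvd hd
      exact hne i (hπ.associated_of_dvd (hf i) hi)
  let ι := KaehlerDifferential.map k k R K
  have hinj0 : ∀ x : R, x ≠ 0 → algebraMap R K x ≠ 0 := fun x hx =>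
    (map_ne_zero_iff _ (IsFractionRing.injective R K)).mpr hx
  have hN : ∀ z : R, z ≠ 0 → z ∣ F → algebraMap R K F • L k (algebraMap R K z) ∈ LinearMap.range ι := by
    intro z hz ⟨w, hw⟩
    refine ⟨w • D k R z, ?_⟩
    rw [map_smul, KaehlerDifferential.map_D, L, smul_smul, hw, map_mul,
      mul_right_comm, mul_inv_cancel₀ (hinj0 z hz), one_mul, algebraMap_smul]
  have hη : algebraMap R K F • ι η ∈ LinearMap.range ι :=
    ⟨F • η, by rw [map_smul, algebraMap_smul]⟩
  have hsum : ∀ i, algebraMap R K F • (algebraMap R K (c i) • L k (algebraMap R K (f i))) ∈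
      LinearMap.range ι := fun i => by
    rw [smul_comm, algebraMap_smul]
    exact Submodule.smul_mem _ _ (hN _ (hf i).ne_zero
      (dvd_mul_of_dvd_right (Finset.dvd_prod_of_mem f (Finset.mem_univ i)) _))
  obtain ⟨ω, hω⟩ : ∃ ω, ι ω = algebraMap R K F • (e • L k (algebraMap R K π)) := by
    have h' : e • L k (algebraMap R K π) = ι η + ∑ i, algebraMap R K (c i) • L k (algebraMap R K (f i))
        - L k (algebraMap R K a') + L k (algebraMap R K b) := by
      rw [← h, map_mul, L_mul (hinj0 _ (pow_ne_zero _ hπ.ne_zero)) (hinj0 _ ha'0), map_pow,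
        L_pow (hinj0 _ hπ.ne_zero)]
      abel
    rw [h']
    refine LinearMap.mem_range.mp ?_
    rw [smul_add, smul_sub, smul_add, Finset.smul_sum]
    exact add_mem (sub_mem (add_mem hη (sum_mem fun i _ => hsum i))
      (hN _ ha'0 (dvd_mul_of_dvd_left (dvd_mul_right _ _) _)))
      (hN _ hb (dvd_mul_of_dvd_left (dvd_mul_left _ _) _))
  have hflat : Module.IsTorsionFree R Ω[R⁄k] := inferInstance
  have hιinj : Function.Injective ι := by
    intro x y hxy
    obtain ⟨s, hs⟩ := (IsLocalizedModule.eq_iff_exists (nonZeroDivisors R) ι).mp hxy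
    exact (isRegular_iff_ne_zero.mpr (mem_nonZeroDivisors_iff_ne_zero.mp s.2)).isSMulRegular (M := Ω[R⁄k]) hs
  have hkey : π • ω = ((e : R) * F) • D k R π := by
    refine hιinj ?_
    rw [map_smul, map_smul, hω, KaehlerDifferential.map_D, ← algebraMap_smul K π, L,
      ← Nat.cast_smul_eq_nsmul K, smul_smul, smul_smul, smul_smul,
      ← algebraMap_smul K ((e : R) * F) (D k K (algebraMap R K π)), map_mul (algebraMap R K) (e : R) F, map_natCast]
    congr 1
    have := hinj0 _ hπ.ne_zero
    field_simp
  haveI hq := (Ideal.span_singleton_prime hπ.ne_zero).mpr hπ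
  let κ := (Ideal.span {π}).ResidueField
  have : CharZero κ := charZero_of_injective_algebraMap (algebraMap k κ).injective
  apply one_tmul_D_ne_zero k R π hπ
  have := congrArg (fun x => (1 : κ) ⊗ₜ[R] x) hkey
  simp only [tmul_smul, ← algebraMap_smul κ π, ← algebraMap_smul κ ((e : R) * F)] at this
  rw [Ideal.algebraMap_residueField_eq_zero.mpr (Ideal.mem_span_singleton_self π), zero_smul,
    eq_comm, smul_eq_zero] at this
  refine this.resolve_left ?_
  rw [map_mul, map_natCast]
  exact mul_ne_zero (Nat.cast_ne_zero.mpr he)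
    fun h0 => hπF (Ideal.mem_span_singleton.mp (Ideal.algebraMap_residueField_eq_zero.mp h0))

/-- An element with all prime factors among the f_i. -/
lemma L_eq (a : R) (ha : a ≠ 0) (hprime : ∀ π : R, Prime π → π ∣ a → ∃ i, Associated π (f i)) :
    ∃ (v : Rˣ) (b : Fin r → ℤ), L k (algebraMap R K a) =
      L k (algebraMap R K (v : R)) + ∑ i, (b i : K) • L k (algebraMap R K (f i)) := by
  classical
  induction a using UniqueFactorizationMonoid.induction_on_prime with
  | h₁ => exact absurd rfl ha
  | h₂ x hx => exact ⟨hx.unit, 0, by simp⟩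
  | h₃ a π ha0 hπ ih =>
    obtain ⟨v, b, hvb⟩ := ih ha0 fun ρ hρ hd => hprime ρ hρ (hd.trans (dvd_mul_left _ _))
    obtain ⟨i, hi⟩ := hprime π hπ (dvd_mul_right _ _)
    obtain ⟨w, hw⟩ := hi.symm
    have hinj0 : ∀ x : R, x ≠ 0 → algebraMap R K x ≠ 0 := fun x hx =>
      (map_ne_zero_iff _ (IsFractionRing.injective R K)).mpr hx
    have hf0 : f i ≠ 0 := fun h0 => hπ.ne_zero (by rw [← hw, h0, zero_mul])
    refine ⟨w * v, b + Pi.single i 1, ?_⟩
    rw [map_mul, L_mul (hinj0 _ hπ.ne_zero) (hinj0 _ ha0), hvb, ← hw, map_mul,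
      L_mul (hinj0 _ hf0) (hinj0 _ w.ne_zero), Units.val_mul, map_mul,
      L_mul (hinj0 _ w.ne_zero) (hinj0 _ v.ne_zero)]
    simp only [Pi.add_apply, Int.cast_add, add_smul, Finset.sum_add_distrib]
    rw [Finset.sum_eq_single i (f := fun x => ((Pi.single i (1 : ℤ) : Fin r → ℤ) x : K) • L k (algebraMap R K (f x)))
      (fun j _ hj => by simp [Pi.single_eq_of_ne hj]) (by simp)]
    simp only [Pi.single_eq_same, Int.cast_one, one_smul]
    abel

end

/-- The degree-one case, stated at the local ring of a point. Let k be a field of characteristic zero, B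
a smooth k-algebra, R the localization of B at a prime ideal, K the fraction field of R and f_1, …,
f_r prime elements of R. If g is a unit of K whose logarithmic differential g⁻¹dg in Ω_{K/k} is the
image of a form η ∈ Ω_{R/k} plus an R-linear combination Σ c_i f_i⁻¹df_i, then g⁻¹dg = v⁻¹dv + Σ b_i
f_i⁻¹df_i for a unit v of R and integers b_i. (When the f_i are part of a regular system of
parameters the hypothesis says that g⁻¹dg has at worst logarithmic poles along the divisor f_1⋯f_r =
0 at this point, and the statement is the stalkwise injectivity of 1-forms with logarithmic poles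
modulo logarithmic differentials of functions invertible off the divisor into Ω¹_K modulo
logarithmic differentials; it is stated here for arbitrary prime elements f_i.) -/
theorem result
    {k B R K : Type u} [Field k] [CharZero k] [CommRing B] [Algebra k B] [Algebra.Smooth k B]
    (p : Ideal B) [p.IsPrime] [CommRing R] [Algebra B R] [IsLocalization.AtPrime R p]
    [Algebra k R] [IsScalarTower k B R]
    [Field K] [Algebra R K] [IsFractionRing R K] [Algebra k K] [IsScalarTower k R K]
    {r : ℕ} (f : Fin r → R) (hf : ∀ i, Prime (f i))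
    (g : Kˣ) (η : Ω[R⁄k]) (c : Fin r → R)
    (h : (g : K)⁻¹ • KaehlerDifferential.D k K (g : K) =
      KaehlerDifferential.map k k R K η +
        ∑ i, (algebraMap R K (c i) * (algebraMap R K (f i))⁻¹) •
          KaehlerDifferential.D k K (algebraMap R K (f i))) :
    ∃ (v : Rˣ) (b : Fin r → ℤ),
      (g : K)⁻¹ • KaehlerDifferential.D k K (g : K) =
        (algebraMap R K (v : R))⁻¹ • KaehlerDifferential.D k K (algebraMap R K (v : R)) +
          ∑ i, ((b i : K) * (algebraMap R K (f i))⁻¹) •
            KaehlerDifferential.D k K (algebraMap R K (f i)) := by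
  classical
  have : IsDomain R := (IsFractionRing.injective R K).isDomain (algebraMap R K)
  have : Algebra.FinitePresentation k B := inferInstance
  have : Algebra.EssFiniteType B R := Algebra.EssFiniteType.of_isLocalization R p.primeCompl
  have : Algebra.EssFiniteType k R := Algebra.EssFiniteType.comp k B R
  have : Algebra.FormallySmooth B R := Algebra.FormallySmooth.of_isLocalization p.primeCompl
  have : Algebra.FormallySmooth k R := Algebra.FormallySmooth.comp k B R
  have hreg : IsRegularLocalRing (Localization.AtPrime p) :=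
    Groth.Agent.Omega.RankDim.isRegularLocalRing_of_isSmoothAt k B p inferInstance
  have : IsRegularLocalRing R := IsRegularLocalRing.of_ringEquiv
    (IsLocalization.algEquiv p.primeCompl (Localization.AtPrime p) R).toRingEquiv
  have : UniqueFactorizationMonoid R := Groth.Agent.RegLoc.UFD.uniqueFactorizationMonoid R
  obtain ⟨a, b, hab, hg⟩ := IsFractionRing.exists_reduced_fraction R (g : K)
  have hb : (b : R) ≠ 0 := nonZeroDivisors.coe_ne_zero b
  have hinj0 : ∀ x : R, x ≠ 0 → algebraMap R K x ≠ 0 := fun x hx =>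
    (map_ne_zero_iff _ (IsFractionRing.injective R K)).mpr hx
  rw [IsFractionRing.mk'_eq_div] at hg
  have ha : a ≠ 0 := fun h0 => g.ne_zero (by rw [← hg, h0, map_zero, zero_div])
  have hLg : L k (g : K) = L k (algebraMap R K a) - L k (algebraMap R K (b : R)) := by
    rw [← hg, div_eq_mul_inv, L_mul (hinj0 _ ha) (inv_ne_zero (hinj0 _ hb)), L_inv (hinj0 _ hb),
      sub_eq_add_neg]
  have h1 : L k (algebraMap R K a) - L k (algebraMap R K (b : R)) =
      KaehlerDifferential.map k k R K η + ∑ i, algebraMap R K (c i) • L k (algebraMap R K (f i)) := by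
    rw [← hLg]
    simp only [L, smul_smul]
    exact h
  have h2 : L k (algebraMap R K (b : R)) - L k (algebraMap R K a) =
      KaehlerDifferential.map k k R K (-η) +
        ∑ i, algebraMap R K (-c i) • L k (algebraMap R K (f i)) := by
    rw [← neg_sub, h1]
    simp only [map_neg, neg_smul, Finset.sum_neg_distrib, neg_add_rev]
    abel
  obtain ⟨v, β, hv⟩ := L_eq (k := k) (K := K) f a ha
    (exists_associated f hf a b ha hb hab η c h1)
  obtain ⟨w, γ, hw⟩ := L_eq (k := k) (K := K) f (b : R) hb
    (exists_associated f hf (b : R) a hb ha hab.symm (-η) (fun i => -c i) h2)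
  refine ⟨v * w⁻¹, β - γ, ?_⟩
  have hwinv : algebraMap R K ((w⁻¹ : Rˣ) : R) = (algebraMap R K (w : R))⁻¹ :=
    eq_inv_of_mul_eq_one_left (by rw [← map_mul, Units.inv_mul, map_one])
  have : L k (g : K) = L k (algebraMap R K ((v * w⁻¹ : Rˣ) : R)) +
      ∑ i, (((β - γ) i : ℤ) : K) • L k (algebraMap R K (f i)) := by
    rw [hLg, hv, hw, Units.val_mul, map_mul, L_mul (hinj0 _ v.ne_zero) (hinj0 _ (Units.ne_zero _)),
      hwinv, L_inv (hinj0 _ w.ne_zero)]
    simp only [Pi.sub_apply, Int.cast_sub, sub_smul, Finset.sum_sub_distrib]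
    abel
  simpa only [L, smul_smul] using this

end Groth.Agent.S18578
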