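import Groth.Statements.S18579
import Mathlib.RingTheory.Localization.AsSubring


set_option autoImplicit false
universe u
open LogDiff

namespace Groth.Agent.S18579

/-- The exact sequence for units (first Milnor K-groups) when every component of the divisor is removed.
Let k be a field, B a smooth k-algebra, R the localization of B at a prime ideal, K the fraction
field of R and f_1, …, f_r pairwise non-associate prime elements of R. If w is a unit of K such that
w and w⁻¹ both lie in R[1/(f_1⋯f_r)], i.e. each becomes an element of R after multiplication by a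
power of f_1⋯f_r, then there is exactly one pair (v, b) consisting of a unit v of R and integers
b_1, …, b_r with w = v · ∏ f_i^{b_i} in K. (This is the exactness of 0 → Γ(Spec R, O^×) → Γ(Spec R ∖
V(f_1⋯f_r), O^×) → ℤ^r → 0, the last map being the orders along the f_i. The published statement
takes the f_i to be local equations of the components of a normal crossings divisor, over a field of
characteristic zero; this row allows arbitrary pairwise non-associate prime elements and any field.) -/
theorem result
    {k B R K : Type u} [Field k] [CommRing B] [Algebra k B] [Algebra.Smooth k B]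
    (p : Ideal B) [p.IsPrime] [CommRing R] [Algebra B R] [IsLocalization.AtPrime R p]
    [Field K] [Algebra R K] [IsFractionRing R K]
    {r : ℕ} (f : Fin r → R) (hf : ∀ i, Prime (f i)) (hfa : ∀ i j, Associated (f i) (f j) → i = j)
    (w : Kˣ)
    (hw : ∃ (a : R) (n : ℕ), (w : K) * algebraMap R K ((∏ i, f i) ^ n) = algebraMap R K a)
    (hw' : ∃ (a : R) (n : ℕ), (w⁻¹ : Kˣ) * algebraMap R K ((∏ i, f i) ^ n) = algebraMap R K a) :
    ∃! vb : Rˣ × (Fin r → ℤ),
      (w : K) = algebraMap R K (vb.1 : R) * ∏ i, (algebraMap R K (f i)) ^ (vb.2 i) := by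
  classical
  haveI : IsDomain R := (IsFractionRing.injective R K).isDomain _
  have hz : ∀ i, algebraMap R K (f i) ≠ 0 := fun i =>
    (map_ne_zero_iff _ (IsFractionRing.injective R K)).2 (hf i).ne_zero
  have main : ∀ (N : ℕ) (a b : R), a * b = ∏ i : Fin r, f i ^ N → ∃ (v : Rˣ) (e : Fin r → ℕ), a = v * ∏ i, f i ^ e i := by
    intro N a b hab
    suffices H : ∀ (s : Multiset (Fin r)) (a b : R), a * b = (s.map f).prod → ∃ (v : Rˣ) (t : Multiset (Fin r)), a = v * (t.map f).prod by
      obtain ⟨v, t, ht⟩ := H (N • Finset.univ.val) a b (by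
        rw [hab, Multiset.map_nsmul, Multiset.prod_nsmul, Finset.prod_pow]
        rfl)
      refine ⟨v, fun i => t.count i, ht.trans ?_⟩
      rw [Finset.prod_multiset_map_count]
      congr 1
      exact Finset.prod_subset (Finset.subset_univ _) fun i _ hi => by
        rw [Multiset.count_eq_zero.2 (fun h => hi (Multiset.mem_toFinset.2 h)), pow_zero]
    intro s
    induction s using Multiset.induction_on with
    | empty =>
      intro a b h
      exact ⟨(IsUnit.of_mul_eq_one b (by simpa using h)).unit, 0, by simp⟩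
    | cons i s ih =>
      intro a b h
      rw [Multiset.map_cons, Multiset.prod_cons] at h
      rcases (hf i).dvd_or_dvd (Dvd.intro _ h.symm) with ⟨a', rfl⟩ | ⟨b', rfl⟩
      · obtain ⟨v, t, rfl⟩ := ih a' b (mul_left_cancel₀ (hf i).ne_zero (by rw [← h, mul_assoc]))
        exact ⟨v, i ::ₘ t, by rw [Multiset.map_cons, Multiset.prod_cons]; ring⟩
      · exact ih a b' (mul_left_cancel₀ (hf i).ne_zero (by rw [← h]; ring))
  obtain ⟨a, n, ha⟩ := hw
  obtain ⟨a', n', ha'⟩ := hw'
  have hab : a * a' = ∏ i, f i ^ (n + n') := by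
    apply IsFractionRing.injective R K
    rw [Finset.prod_pow, pow_add, map_mul, ← ha, ← ha', map_mul, mul_mul_mul_comm, Units.mul_inv, one_mul]
  obtain ⟨v, e, hv⟩ := main _ a a' hab
  have hwv : (w : K) = algebraMap R K (v : R) * ∏ i, algebraMap R K (f i) ^ ((e i : ℤ) - n) := by
    have : ∏ i, algebraMap R K (f i) ^ ((e i : ℤ) - n) = (∏ i, algebraMap R K (f i) ^ e i) / (∏ i, algebraMap R K (f i)) ^ n := by
      rw [← Finset.prod_pow, ← Finset.prod_div_distrib]
      exact Finset.prod_congr rfl fun i _ => by rw [zpow_sub₀ (hz i), zpow_natCast, zpow_natCast]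
    rw [this, mul_div_assoc', eq_div_iff (pow_ne_zero _ (Finset.prod_ne_zero_iff.2 fun i _ => hz i))]
    calc (w : K) * (∏ i, algebraMap R K (f i)) ^ n = algebraMap R K a := by rw [← ha, map_pow, map_prod]
      _ = _ := by rw [hv, map_mul, map_prod]; simp only [map_pow]
  refine ⟨(v, fun i => (e i : ℤ) - n), hwv, ?_⟩
  rintro ⟨v', b⟩ hb
  simp only at hb
  have key : b = fun i => (e i : ℤ) - n := by
    funext i
    by_contra hne
    obtain ⟨M, hM⟩ : ∃ M : ℕ, ∀ j, 0 ≤ b j + M ∧ 0 ≤ (e j : ℤ) - n + M :=
      ⟨(∑ j, (b j).natAbs) + n, fun j => by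
        have := Finset.single_le_sum (f := fun j => (b j).natAbs) (fun _ _ => Nat.zero_le _) (Finset.mem_univ j)
        constructor <;> omega⟩
    let p : Fin r → ℕ := fun j => (b j + M).toNat
    let q : Fin r → ℕ := fun j => ((e j : ℤ) - n + M).toNat
    have heq : (v' : R) * ∏ j, f j ^ p j = (v : R) * ∏ j, f j ^ q j := by
      apply IsFractionRing.injective R K
      simp only [map_mul, map_prod, map_pow]
      have hsh : ∀ (c : Fin r → ℤ), (∀ j, 0 ≤ c j + M) → ∏ j, algebraMap R K (f j) ^ (c j + M).toNat = (∏ j, algebraMap R K (f j) ^ c j) * ∏ j, algebraMap R K (f j) ^ (M : ℤ) := fun c hc => by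
        rw [← Finset.prod_mul_distrib]
        exact Finset.prod_congr rfl fun j _ => by rw [← zpow_natCast, Int.toNat_of_nonneg (hc j), zpow_add₀ (hz j)]
      rw [hsh b fun j => (hM j).1, hsh (fun j => (e j : ℤ) - n) fun j => (hM j).2, ← mul_assoc, ← mul_assoc, ← hb, ← hwv]
    have hpq : p i ≠ q i := fun h => hne (by have := hM i; simp only [p, q] at h; omega)
    have half : ∀ (p q : Fin r → ℕ) (u u' : Rˣ), (u : R) * ∏ j, f j ^ p j = (u' : R) * ∏ j, f j ^ q j → ¬ p i < q i := by
      intro p q u u' h hlt
      obtain ⟨d, hd⟩ := Nat.exists_eq_add_of_lt hlt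
      rw [← Finset.mul_prod_erase Finset.univ (fun j => f j ^ p j) (Finset.mem_univ i),
        ← Finset.mul_prod_erase Finset.univ (fun j => f j ^ q j) (Finset.mem_univ i), hd] at h
      have h' : (u : R) * ∏ j ∈ Finset.univ.erase i, f j ^ p j = f i * ((u' : R) * f i ^ d * ∏ j ∈ Finset.univ.erase i, f j ^ q j) :=
        mul_left_cancel₀ (pow_ne_zero (p i) (hf i).ne_zero) (by
          calc f i ^ p i * ((u : R) * ∏ j ∈ Finset.univ.erase i, f j ^ p j) = _ := by ring
            _ = _ := h
            _ = _ := by ring)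
      rcases (hf i).dvd_or_dvd (Dvd.intro _ h'.symm) with hu | hprod
      · exact (hf i).not_unit (isUnit_of_dvd_unit hu u.isUnit)
      · obtain ⟨j, hj, hdvd⟩ := (hf i).exists_mem_finset_dvd hprod
        exact Finset.ne_of_mem_erase hj (hfa i j ((hf i).associated_of_dvd (hf j) ((hf i).dvd_of_dvd_pow hdvd))).symm
    rcases lt_or_gt_of_ne hpq with h | h
    · exact half p q v' v heq h
    · exact half q p v v' heq.symm h
  subst key
  refine Prod.ext (Units.ext (IsFractionRing.injective R K ?_)) rfl
  exact mul_right_cancel₀ (Finset.prod_ne_zero_iff.2 fun i _ => zpow_ne_zero _ (hz i)) (hb.symm.trans hwv)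

end Groth.Agent.S18579
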