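import Groth.Statements.S18580
import Mathlib.AlgebraicGeometry.Morphisms.FormallyUnramified
import Mathlib.AlgebraicGeometry.Morphisms.Separated
-- import your own Groth.Agent.* helpers here

set_option autoImplicit false
universe u
open EtBase

namespace Groth.Agent.S18580

open AlgebraicGeometry CategoryTheory in
/-- Let Y be a connected scheme and f : X ⟶ Y a separated morphism that is unramified (locally of finite
type and formally unramified). Then the sections of f correspond bijectively to the connected
components of X mapping isomorphically onto Y: there is a bijection from the set of sections s of f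
to the set of open subschemes U of X whose underlying set is a connected component of X and for
which U ⟶ X ⟶ Y is an isomorphism, sending s to its image. In particular every section is an
isomorphism onto a connected component of X and is determined by its image. (A connected component
mapping isomorphically onto Y is the image of a section, hence open, so restricting to open
components loses nothing. The published statement also assumes Y Noetherian; that hypothesis plays
no role and is omitted.) -/
theorem result {X Y : Scheme.{u}} (f : X ⟶ Y)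
    [FormallyUnramified f] [LocallyOfFiniteType f] [IsSeparated f] [ConnectedSpace Y] :
    ∃ e : {s : Y ⟶ X // s ≫ f = 𝟙 Y} ≃
        {U : X.Opens // (∃ x : X, (U : Set X) = connectedComponent x) ∧ IsIso (U.ι ≫ f)},
      ∀ s : {s : Y ⟶ X // s ≫ f = 𝟙 Y}, ((e s).1 : Set X) = Set.range s.1 := by
  have hsec : ∀ s : Y ⟶ X, s ≫ f = 𝟙 Y → IsOpenImmersion s ∧ IsClosedImmersion s := fun s hs => by
    haveI : IsOpenImmersion (s ≫ f) := by rw [hs]; infer_instance
    haveI : IsClosedImmersion (s ≫ f) := by rw [hs]; infer_instance
    refine ⟨?_, IsClosedImmersion.of_comp s f⟩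
    have hle : (MorphismProperty.diagonal (@IsOpenImmersion : MorphismProperty Scheme)) f :=
      inferInstanceAs (IsOpenImmersion (Limits.pullback.diagonal f))
    let W : MorphismProperty Scheme.{u} :=
      (@FormallyUnramified : MorphismProperty Scheme.{u}) ⊓ @LocallyOfFiniteType
    haveI : MorphismProperty.HasOfPostcompProperty (@IsOpenImmersion : MorphismProperty Scheme.{u}) W :=
      MorphismProperty.hasOfPostcompProperty_iff_le_diagonal.mpr fun _ _ g hg => by
        haveI := hg.1; haveI := hg.2
        exact inferInstanceAs (IsOpenImmersion (Limits.pullback.diagonal g))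
    exact MorphismProperty.of_postcomp (W := (@IsOpenImmersion : MorphismProperty Scheme.{u}))
      (W' := W) s f ⟨inferInstance, inferInstance⟩ ‹IsOpenImmersion (s ≫ f)›
  let toU : {s : Y ⟶ X // s ≫ f = 𝟙 Y} →
      {U : X.Opens // (∃ x : X, (U : Set X) = connectedComponent x) ∧ IsIso (U.ι ≫ f)} := fun s =>
    haveI := (hsec s.1 s.2).1
    ⟨s.1.opensRange, ⟨s.1 (Classical.arbitrary Y), by
      haveI := (hsec s.1 s.2).2
      refine subset_antisymm ?_ ?_
      · rw [Scheme.Hom.coe_opensRange]
        exact (isPreconnected_range s.1.continuous).subset_connectedComponent ⟨_, rfl⟩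
      · rw [Scheme.Hom.coe_opensRange]
        exact (IsClopen.connectedComponent_subset
          ⟨s.1.isClosedEmbedding.isClosed_range, s.1.isOpenEmbedding.isOpen_range⟩ ⟨_, rfl⟩)⟩, by
      have h1 : s.1.opensRange.ι ≫ f = s.1.isoOpensRange.inv := by
        rw [← cancel_epi s.1.isoOpensRange.hom, ← Category.assoc, Scheme.Hom.isoOpensRange_hom_ι,
          Iso.hom_inv_id, s.2]
      rw [h1]; infer_instance⟩
  have hinj : Function.Injective toU := fun s t h => by
    haveI := (hsec t.1 t.2).1
    have hr : Set.range s.1 ⊆ Set.range t.1 := by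
      haveI := (hsec s.1 s.2).1
      have := congrArg (fun U => ((U.1 : X.Opens) : Set X)) h
      exact this.le
    have hl := IsOpenImmersion.lift_fac t.1 s.1 hr
    have : IsOpenImmersion.lift t.1 s.1 hr = 𝟙 Y := by
      calc IsOpenImmersion.lift t.1 s.1 hr = IsOpenImmersion.lift t.1 s.1 hr ≫ (t.1 ≫ f) := by
            rw [t.2, Category.comp_id]
        _ = s.1 ≫ f := by rw [← Category.assoc, hl]
        _ = 𝟙 Y := s.2
    exact Subtype.ext (by rw [← hl, this, Category.id_comp])
  have hsurj : Function.Surjective toU := fun U => by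
    haveI := U.2.2
    have hs : (inv (U.1.ι ≫ f) ≫ U.1.ι) ≫ f = 𝟙 Y := by rw [Category.assoc, IsIso.inv_hom_id]
    haveI := (hsec _ hs).1
    refine ⟨⟨_, hs⟩, Subtype.ext (TopologicalSpace.Opens.ext ?_)⟩
    show Set.range (inv (U.1.ι ≫ f) ≫ U.1.ι).base = (U.1 : Set X)
    rw [← U.1.range_ι]
    ext z
    constructor
    · rintro ⟨y, rfl⟩; exact ⟨_, rfl⟩
    · rintro ⟨w, rfl⟩
      refine ⟨(U.1.ι ≫ f) w, ?_⟩
      show U.1.ι (inv (U.1.ι ≫ f) ((U.1.ι ≫ f) w)) = U.1.ι w
      exact congrArg U.1.ι (congrArg (fun k : (U.1 : Scheme.{u}) ⟶ (U.1 : Scheme.{u}) => k w)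
        (IsIso.hom_inv_id (U.1.ι ≫ f)))
  refine ⟨Equiv.ofBijective toU ⟨hinj, hsurj⟩, fun s => ?_⟩
  haveI := (hsec s.1 s.2).1
  rfl

end Groth.Agent.S18580
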