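import Groth.Statements.S18581
import Groth.Agent.FlatMor.CMFlat
import Mathlib.RingTheory.Etale.Basic
import Mathlib.RingTheory.Unramified.LocalRing

set_option autoImplicit false
universe u
open Desc

namespace Groth.Agent.S18581

/-- Let A → B be a local homomorphism of Noetherian local rings which is étale, in the sense that B is
(compatibly with the map from A) the localization of an étale A-algebra E at a prime ideal. Then A
is a Cohen–Macaulay ring exactly when B is one. -/
theorem result (A B : Type u) [CommRing A] [CommRing B]
    [IsLocalRing A] [IsLocalRing B] [IsNoetherianRing A] [IsNoetherianRing B]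
    [Algebra A B] [IsLocalHom (algebraMap A B)]
    (E : Type u) [CommRing E] [Algebra A E] [Algebra.Etale A E] (P : Ideal E) [P.IsPrime]
    [Algebra E B] [IsScalarTower A E B] [IsLocalization.AtPrime B P] :
    LocCoh.IsCohenMacaulayLocalRing A ↔ LocCoh.IsCohenMacaulayLocalRing B := by
  haveI : Module.Flat E B := IsLocalization.flat B P.primeCompl
  haveI : Module.Flat A B := Module.Flat.trans A E B
  haveI : Algebra.FormallyEtale E B := Algebra.FormallyEtale.of_isLocalization P.primeCompl
  haveI : Algebra.FormallyEtale A B := Algebra.FormallyEtale.comp A E B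
  haveI : Algebra.EssFiniteType E B := Algebra.EssFiniteType.of_isLocalization B P.primeCompl
  haveI : Algebra.EssFiniteType A B := Algebra.EssFiniteType.comp A E B
  have hm : (IsLocalRing.maximalIdeal A).map (algebraMap A B) = IsLocalRing.maximalIdeal B :=
    Algebra.FormallyUnramified.map_maximalIdeal
  rw [Groth.Agent.FlatMor.CMFlat.isCM_iff A B]
  refine ⟨fun h => ⟨h, ?_⟩, And.left⟩
  rw [hm]
  letI : Field (B ⧸ IsLocalRing.maximalIdeal B) := Ideal.Quotient.field _
  exact Groth.Agent.Depth.isCohenMacaulayLocalRing_of_isRegularLocalRing

end Groth.Agent.S18581
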