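import Groth.Statements.S18585
import Groth.Agent.TraceRed70.Main
-- import your own Groth.Agent.* helpers here

set_option autoImplicit false
universe u
open BranchVar

namespace Groth.Agent.S18585

open CategoryTheory CategoryTheory.Limits AlgebraicGeometry in
/-- Let k be a characteristic-zero algebraically closed field, C a smooth proper integral curve over k,
and g : Y ⟶ C a finite flat morphism with g_*O_Y locally free of rank d whose generic fibre (the
fibre over the generic point of C) is reduced. Then the degree of the rank-d locally free module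
g_*O_Y on C, computed as χ(C, g_*O_Y) − d·χ(C, O_C), is at most 0. (The published inequality is
stated for the degree of the determinant line bundle, deg det(g_*O_Y)^{-1} ≥ 0; the degree of a
locally free module on such a curve equals the degree of its determinant.) -/
theorem result (k : Type u) [Field k] [IsAlgClosed k] [CharZero k]
    (C : Scheme.{u}) [C.Over (Spec (CommRingCat.of k))] [IsIntegral C]
    (hC : Curve.IsSmoothProperCurve k C (C ↘ Spec (CommRingCat.of k)))
    (Y : Scheme.{u}) (g : Y ⟶ C) [IsFinite g] [Flat g] (d : ℕ)
    (hd : FlatMod.IsFinLocFreeOfRank d ((Coh.push g).obj (Coh.structureModule Y)))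
    (hred : AlgebraicGeometry.IsReduced (g.fiber (genericPoint C))) :
    Curv2.deg k C ((Coh.push g).obj (Coh.structureModule Y)) d ≤ 0 := by
  obtain ⟨hp, hs, -, hdim⟩ := hC
  haveI := hp
  haveI := hs
  have hY := VBLib.goodCurve_of_smooth (k := k) hdim
  haveI := hY.isLocallyNoetherian
  haveI : IsLocallyNoetherian Y := LocallyOfFiniteType.isLocallyNoetherian g
  haveI : CharZero (C.residueField (genericPoint C)) :=
    charZero_of_injective_ringHom
      ((C.presheaf.germ ⊤ (genericPoint C) trivial ≫ C.residue (genericPoint C)).hom.comp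
        (Coh.toGlobal (C ↘ Spec (CommRingCat.of k)))).injective
  have hr := RankLocus.isFinLocFreeOfRank_of_iso (VBLib.PushTrace.pushIso g).symm hd
  have hA := VBLib.isFinLocFree_of_ofRank hr
  haveI := TraceRed70.mono_phi g hA hred
  obtain ⟨hD, hrk⟩ := VBLib.DualDeg.isFinLocFree_dual hY.pid hA
  have hDc := VBLib.isCoh_of_isFinLocFree hD
  obtain ⟨h1, h2⟩ := hY.dg_mono_cokernel (VBLib.PushTrace.phi g hA) (VBLib.PushTrace.isCoh_pushO g) hDc
  have h0 := hY.dg_torsion
    (VBLib.isCoh_cokernel (VBLib.PushTrace.phi g hA) (VBLib.PushTrace.isCoh_pushO g) hDc) (by omega)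
  have h3 := hY.dg_dual hA
  have h4 : VBLib.dg k (VBLib.PushTrace.pushO g) ≤ 0 := by omega
  rw [← VBLib.dg_eq hr, Curv2.deg, EulerChar.euler_iso k (VBLib.PushTrace.pushIso g)] at h4
  exact h4

end Groth.Agent.S18585
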