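import Mathlib
import Groth.Agent.CAlg99.WittSum
import Groth.Agent.WittFil.Teich
import Groth.Statements.S18587
-- import your own Groth.Agent.* helpers here

set_option autoImplicit false
universe u
open CAlg

namespace Groth.Agent.S18587

/-- Affine form with D = 0: let p be a prime, ℓ ≥ 1 an integer not divisible by p and n ≥ 1. Let A → B
be an injective ring homomorphism of integral domains of characteristic p such that B is spanned as
an A-module by finitely many elements y with y ^ ℓ in the image of A (a weakly ℓ-cyclic extension).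
Then for every p-typical Witt vector ζ over B in the image of the n-fold Verschiebung there is a
nonzero a in A such that the product of the Teichmüller representative of (the image of) a with ζ
lies in the ideal of W(B) generated by the images of the n-fold Verschiebungs of Witt vectors over
A. (This is the case D = 0 of the published statement, written for the coordinate rings; the
published statement allows a twist by a real Weil divisor D and assumes the rings excellent and
normal, hypotheses which the case D = 0 does not use.) -/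
theorem result
    (p : ℕ) [Fact p.Prime] (ℓ n : ℕ) (hℓ : 0 < ℓ) (hpℓ : ¬ p ∣ ℓ) (hn : 0 < n)
    (A B : Type u) [CommRing A] [CommRing B] [IsDomain A] [IsDomain B] [Algebra A B]
    [CharP A p] [CharP B p] (hinj : Function.Injective (algebraMap A B))
    (y : Finset B) (hspan : Submodule.span A (y : Set B) = ⊤)
    (hpow : ∀ b ∈ y, b ^ ℓ ∈ Set.range (algebraMap A B))
    (ζ : WittVector p B)
    (hζ : ∃ η : WittVector p B, (⇑(WittVector.verschiebung : WittVector p B →+ WittVector p B))^[n] η = ζ) :
    ∃ a : A, a ≠ 0 ∧ WittVector.teichmuller p (algebraMap A B a) * ζ ∈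
      Ideal.span (Set.range (fun x : WittVector p A =>
        WittVector.map (algebraMap A B) ((⇑(WittVector.verschiebung : WittVector p A →+ WittVector p A))^[n] x))) := by
  classical
  obtain ⟨η, rfl⟩ := hζ
  let T := y.filter (· ≠ 0)
  have hTspan : Submodule.span A (Set.range fun i : T => (i : B)) = ⊤ := by
    rw [eq_top_iff, ← hspan, Submodule.span_le]
    intro b hb
    by_cases h0 : b = 0
    · subst h0; exact zero_mem _
    · exact Submodule.subset_span ⟨⟨b, Finset.mem_filter.mpr ⟨hb, h0⟩⟩, rfl⟩
  obtain ⟨α, hα⟩ := CAlg99.WittSum.exists_decomp (fun i : T => (i : B)) hTspan η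
  choose c hc using fun i : T => hpow i.1 (Finset.mem_filter.mp i.2).1
  have hc0 : ∀ i : T, c i ≠ 0 := fun i h => by
    apply pow_ne_zero ℓ (Finset.mem_filter.mp i.2).2
    rw [← hc i, h, map_zero]
  set a := ∏ i : T, c i with ha
  have : NeZero ℓ := ⟨hℓ.ne'⟩
  have hex : ∀ m : ℕ, ∃ e q, e ≤ ℓ ∧ q ≤ p ^ m ∧ e * p ^ m = 1 + ℓ * q := by
    intro m
    have hcop : IsUnit ((p ^ m : ℕ) : ZMod ℓ) := by
      rw [ZMod.isUnit_iff_coprime]
      exact Nat.Coprime.pow_left m ((Fact.out : p.Prime).coprime_iff_not_dvd.mpr hpℓ)
    obtain ⟨u, hu⟩ := hcop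
    set e := ((((u⁻¹ : (ZMod ℓ)ˣ) : ZMod ℓ)) - 1).val + 1 with he
    have he' : (e : ZMod ℓ) = ((u⁻¹ : (ZMod ℓ)ˣ) : ZMod ℓ) := by
      rw [he, Nat.cast_add, ZMod.natCast_zmod_val, Nat.cast_one, sub_add_cancel]
    have h1 : ((e * p ^ m : ℕ) : ZMod ℓ) = ((1 : ℕ) : ZMod ℓ) := by
      rw [Nat.cast_mul, he', ← hu, Units.inv_mul, Nat.cast_one]
    have hpos : 1 ≤ e * p ^ m := Nat.one_le_iff_ne_zero.mpr
      (Nat.mul_ne_zero (Nat.succ_ne_zero _) (pow_ne_zero m (Fact.out : p.Prime).ne_zero))
    obtain ⟨q, hq⟩ := (Nat.modEq_iff_dvd' hpos).mp ((ZMod.natCast_eq_natCast_iff' _ _ _).mp h1).symm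
    have hel : e ≤ ℓ := ZMod.val_lt _
    refine ⟨e, q, hel, ?_, by omega⟩
    have h2 : e * p ^ m ≤ ℓ * p ^ m := Nat.mul_le_mul_right _ hel
    have h3 : ℓ * q ≤ ℓ * p ^ m := by omega
    exact Nat.le_of_mul_le_mul_left h3 hℓ
  choose e q hel hqle heq using hex
  let β : ℕ → T → A := fun j i =>
    α j i * c i ^ (p ^ (n + j) - q (n + j)) * (∏ k ∈ Finset.univ.erase i, c k) ^ p ^ (n + j)
  have hkey : ∀ (j : ℕ) (i : T), algebraMap A B a ^ p ^ (n + j) * (α j i • (i : B)) =
      ((i : B) ^ e (n + j)) ^ p ^ (n + j) * algebraMap A B (β j i) := by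
    intro j i
    have hsplit : a = c i * ∏ k ∈ Finset.univ.erase i, c k :=
      (Finset.mul_prod_erase _ _ (Finset.mem_univ i)).symm
    rw [← pow_mul (i : B), heq, pow_add (i : B), pow_one, pow_mul (i : B), ← hc i, Algebra.smul_def, hsplit]
    simp only [β, map_mul, map_pow, mul_pow]
    conv_lhs => rw [← Nat.add_sub_cancel' (hqle (n + j)), pow_add]
    rw [Nat.add_sub_cancel' (hqle (n + j))]
    ring
  refine ⟨a, Finset.prod_ne_zero_iff.mpr fun i _ => hc0 i, ?_⟩
  set J := Ideal.span (Set.range (fun x : WittVector p A =>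
    WittVector.map (algebraMap A B) ((⇑(WittVector.verschiebung : WittVector p A →+ WittVector p A))^[n] x))) with hJ
  have hmapV : ∀ (k : ℕ) (x : WittVector p A), WittVector.map (algebraMap A B)
      ((⇑(WittVector.verschiebung : WittVector p A →+ WittVector p A))^[k] x) =
      (⇑(WittVector.verschiebung : WittVector p B →+ WittVector p B))^[k] (WittVector.map (algebraMap A B) x) := by
    intro k x
    induction k with
    | zero => rfl
    | succ k ih => rw [Function.iterate_succ_apply', Function.iterate_succ_apply', WittVector.map_verschiebung, ih]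
  rw [mul_comm, WittVector.iterate_verschiebung_mul_left, WittFil.Teich.iterate_frobenius_teichmuller]
  have hsum : η * WittVector.teichmuller p (algebraMap A B a ^ p ^ n) =
      ∑ i : T, ∑ d ∈ Finset.range (ℓ + 1),
        WittVector.teichmuller p (((i : B) ^ d) ^ p ^ n) *
          WittVector.map (algebraMap A B) (WittVector.mk p fun j => if e (n + j) = d then β j i else 0) := by
    rw [hα, Finset.sum_mul]
    refine Finset.sum_congr rfl fun i _ => ?_
    ext j
    rw [mul_comm, CAlg99.WittSum.coeff_sum_of_disjoint]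
    · rw [Finset.sum_eq_single (e (n + j))]
      · rw [WittFil.Teich.teichmuller_mul_coeff, WittFil.Teich.teichmuller_mul_coeff, WittVector.map_coeff,
          WittVector.coeff_mk, WittVector.coeff_mk, if_pos rfl, ← pow_mul, ← pow_mul, ← pow_add]
        rw [hkey j i, ← pow_mul]
      · intro d _ hd
        rw [WittFil.Teich.teichmuller_mul_coeff, WittVector.map_coeff, WittVector.coeff_mk,
          if_neg (Ne.symm hd), map_zero, mul_zero]
      · intro h
        exact absurd (Finset.mem_range.mpr (Nat.lt_succ_of_le (hel _))) h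
    · intro m d _ d' _ hdd'
      simp only [WittFil.Teich.teichmuller_mul_coeff, WittVector.map_coeff, WittVector.coeff_mk]
      by_cases hd : e (n + m) = d
      · right; rw [if_neg (hd ▸ hdd'), map_zero, mul_zero]
      · left; rw [if_neg hd, map_zero, mul_zero]
  have hadd : ∀ (k : ℕ) (s : Finset T) (u : T → WittVector p B),
      (⇑(WittVector.verschiebung : WittVector p B →+ WittVector p B))^[k] (∑ i ∈ s, u i) =
        ∑ i ∈ s, (⇑(WittVector.verschiebung : WittVector p B →+ WittVector p B))^[k] (u i) := fun k s u => by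
    induction k with
    | zero => rfl
    | succ k ih => simp only [Function.iterate_succ_apply', ih, map_sum]
  rw [hsum]
  have hVn : ∀ (k : ℕ) (s : Finset ℕ) (u : ℕ → WittVector p B),
      (⇑(WittVector.verschiebung : WittVector p B →+ WittVector p B))^[k] (∑ i ∈ s, u i) =
        ∑ i ∈ s, (⇑(WittVector.verschiebung : WittVector p B →+ WittVector p B))^[k] (u i) := fun k s u => by
    induction k with
    | zero => rfl
    | succ k ih => simp only [Function.iterate_succ_apply', ih, map_sum]
  rw [hadd]
  refine Ideal.sum_mem _ fun i _ => ?_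
  rw [hVn]
  refine Ideal.sum_mem _ fun d _ => ?_
  rw [← WittFil.Teich.iterate_frobenius_teichmuller, mul_comm, ← WittVector.iterate_verschiebung_mul_left, ← hmapV]
  exact Ideal.mul_mem_right _ _ (Ideal.subset_span ⟨_, rfl⟩)

end Groth.Agent.S18587
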