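import Mathlib
import Groth.Agent.CAlg99.WittHom
import Groth.Statements.S18590
-- import your own Groth.Agent.* helpers here

set_option autoImplicit false
universe u
open CAlg

namespace Groth.Agent.S18590

/-- Let p be a prime, A a commutative ring, K a commutative A-algebra of characteristic p and M_0, M_1,
M_2, … A-submodules of K with M_i · M_j ⊆ M_(i+j) for all i, j. Then the subset of the ring W(K) of
p-typical Witt vectors consisting of the vectors whose n-th coordinate lies in M_(p^n) for every n
is closed under addition and under multiplication by the image of W(A) under W of the structure map;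
in other words it is a W(A)-submodule of W(K). (The published statement is the case of an integral
normal noetherian scheme X of characteristic p with function field K, an affine open subset U with
coordinate ring A, and M_k the module of sections over U of the divisorial sheaf of k·D for a real
Weil divisor D on X; these form such a multiplicative family, and the subset is then the module of
sections over U of the Witt divisorial sheaf of D inside W(K). Only the two stated properties of
that family enter.) -/
theorem result
    (p : ℕ) [Fact p.Prime] (A K : Type u) [CommRing A] [CommRing K] [Algebra A K] [CharP K p]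
    (M : ℕ → Submodule A K)
    (hmul : ∀ (i j : ℕ) (a b : K), a ∈ M i → b ∈ M j → a * b ∈ M (i + j)) :
    (∀ φ ψ : WittVector p K, (∀ n : ℕ, φ.coeff n ∈ M (p ^ n)) → (∀ n : ℕ, ψ.coeff n ∈ M (p ^ n)) →
        ∀ n : ℕ, (φ + ψ).coeff n ∈ M (p ^ n)) ∧
      (∀ (x : WittVector p A) (φ : WittVector p K), (∀ n : ℕ, φ.coeff n ∈ M (p ^ n)) →
        ∀ n : ℕ, (WittVector.map (algebraMap A K) x * φ).coeff n ∈ M (p ^ n)) := by
  let M' : ℕ → Submodule A K := fun k => if k = 0 then (1 : Submodule A K) else M k
  have hM'1 : (1 : K) ∈ M' 0 := by simp only [M', if_true]; exact Submodule.one_le.mp le_rfl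
  have hM'pos : ∀ k, 0 < k → M' k = M k := fun k hk => by simp [M', hk.ne']
  have hM'mul : ∀ (i j : ℕ) (a b : K), a ∈ M' i → b ∈ M' j → a * b ∈ M' (i + j) := by
    intro i j a b ha hb
    rcases Nat.eq_zero_or_pos i with rfl | hi
    · simp only [M', if_true] at ha
      obtain ⟨r, rfl⟩ := Submodule.mem_one.mp ha
      rw [zero_add, ← Algebra.smul_def]
      exact Submodule.smul_mem _ _ hb
    rcases Nat.eq_zero_or_pos j with rfl | hj
    · simp only [M', if_true] at hb
      obtain ⟨r, rfl⟩ := Submodule.mem_one.mp hb
      rw [add_zero, mul_comm, ← Algebra.smul_def]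
      exact Submodule.smul_mem _ _ ha
    rw [hM'pos _ (Nat.add_pos_left hi j)]
    rw [hM'pos _ hi] at ha
    rw [hM'pos _ hj] at hb
    exact hmul _ _ _ _ ha hb
  have hp : ∀ n, 0 < p ^ n := fun n => pow_pos (Fact.out : p.Prime).pos n
  constructor
  · intro φ ψ hφ hψ n
    rw [← hM'pos _ (hp n), WittVector.add_coeff]
    have h := CAlg99.WittHom.wittStructureInt_isWeightedHomogeneous p
      (MvPolynomial.X 0 + MvPolynomial.X 1 : MvPolynomial (Fin 2) ℤ) (fun _ => 1) 1
      ((MvPolynomial.isWeightedHomogeneous_X ℤ (fun _ : Fin 2 => 1) 0).add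
        (MvPolynomial.isWeightedHomogeneous_X ℤ (fun _ : Fin 2 => 1) 1)) n
    rw [one_mul] at h
    refine CAlg99.WittHom.aeval_mem_of_isWeightedHomogeneous M' hM'1 hM'mul h _ ?_
    rintro ⟨b, i⟩
    rw [one_mul, hM'pos _ (hp i)]
    fin_cases b
    · exact hφ i
    · exact hψ i
  · intro x φ hφ n
    rw [← hM'pos _ (hp n), WittVector.mul_coeff]
    have h := CAlg99.WittHom.wittStructureInt_isWeightedHomogeneous p
      (MvPolynomial.X 0 * MvPolynomial.X 1 : MvPolynomial (Fin 2) ℤ) ![0, 1] 1
      ((MvPolynomial.isWeightedHomogeneous_X ℤ (![0, 1] : Fin 2 → ℕ) 0).mul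
        (MvPolynomial.isWeightedHomogeneous_X ℤ (![0, 1] : Fin 2 → ℕ) 1)) n
    rw [one_mul] at h
    refine CAlg99.WittHom.aeval_mem_of_isWeightedHomogeneous M' hM'1 hM'mul h _ ?_
    rintro ⟨b, i⟩
    fin_cases b
    · simp only [M', Fin.zero_eta, Matrix.cons_val_zero, zero_mul, if_true]
      exact Submodule.mem_one.mpr ⟨x.coeff i, (WittVector.map_coeff _ _ _).symm⟩
    · show φ.coeff i ∈ M' (1 * p ^ i)
      rw [one_mul, hM'pos _ (hp i)]
      exact hφ i

end Groth.Agent.S18590
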