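import Groth.Statements.S18595
import Groth.Agent.HorizMove88.Vert
import Groth.Agent.HorizMove88.Ord
import Groth.Agent.HorizMove88.Curve
import Groth.Agent.CycLib.PullFun

set_option autoImplicit false
universe u
open Cyc

namespace Groth.Agent.S18595

open AlgebraicGeometry CategoryTheory CategoryTheory.Limits in
theorem ordAt_zpow {P : Scheme.{u}} [IsLocallyNoetherian P] {δ : P → ℤ} (hd : Cyc.IsDimFun P δ)
    {x ξ : P} (h : ξ ⤳ x) (h1 : δ x + 1 = δ ξ) {g : P.residueField ξ} (hg : g ≠ 0) (n : ℤ) :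
    Cyc.ordAt x ξ h (g ^ n) = n * Cyc.ordAt x ξ h g := by
  induction n with
  | zero => rw [zpow_zero, CycLib.ordAt_one hd h h1, zero_mul]
  | succ n ih =>
    rw [zpow_add_one₀ hg, CycLib.ordAt_mul hd h h1 (zpow_ne_zero _ hg) hg, ih]
    ring
  | pred n ih =>
    have := CycLib.ordAt_mul hd h h1 (zpow_ne_zero (-(n : ℤ) - 1) hg) hg
    rw [← zpow_add_one₀ hg, sub_add_cancel, ih] at this
    linarith

open AlgebraicGeometry CategoryTheory CategoryTheory.Limits in
/-- Let k be a perfect field, X an integral smooth proper curve over k (proper standing for projective)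
and P = X ×_k A¹_k, presented by a pullback square with projections p₁ : P ⟶ X and p₂ : P ⟶ Spec
k[T]. Fix a dimension function δ on P (in the sense of Cyc.IsSetup) and the integer c with δ(z) + 1
= c at every closed point z of P, so that the c-cycles on P are its Weil divisors. Then every
c-cycle α on P is rationally equivalent, as a c-cycle, to a c-cycle β without vertical components:
every point z with β(z) ≠ 0 lies over the generic point of X, i.e. each prime component of β is
quasi-finite and dominant over X (equidimensional of relative dimension zero over X). (The published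
statement is for any smooth projective curve; its connected components are treated one at a time and
a smooth proper curve over a field is projective, so X is taken integral and proper here.) -/
theorem result
    (k : Type u) [Field k] [PerfectField k] {X P : Scheme.{u}} (f : X ⟶ Spec (CommRingCat.of k))
    [IsIntegral X] [IsProper f] [Smooth f] (hdim : topologicalKrullDim X = 1)
    (p₁ : P ⟶ X) (p₂ : P ⟶ Spec (CommRingCat.of (Polynomial k)))
    (hP : IsPullback p₁ p₂ f (Spec.map (CommRingCat.ofHom (Polynomial.C : k →+* Polynomial k))))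
    (δ : P → ℤ) (hδ : Cyc.IsSetup P δ) (c : ℤ)
    (hc : ∀ z : P, IsClosed ({z} : Set P) → δ z + 1 = c)
    (α : AlgebraicCycle P ℤ) (hα : α ∈ Cyc.Zk P δ c) :
    ∃ β ∈ Cyc.Zk P δ c, Cyc.RatEquiv δ c α β ∧ ∀ z : P, β z ≠ 0 → p₁ z = genericPoint X := by
  classical
  letI : X.Over (Spec (CommRingCat.of k)) := ⟨f⟩
  haveI : IsProper (X ↘ Spec (CommRingCat.of k)) := ‹IsProper f›
  haveI : Smooth (X ↘ Spec (CommRingCat.of k)) := ‹Smooth f›
  haveI := hδ.1
  have hd := hδ.2.2
  haveI : IsAffineHom (Spec.map (CommRingCat.ofHom (Polynomial.C : k →+* Polynomial k))) := inferInstance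
  haveI : QuasiCompact p₁ := MorphismProperty.of_isPullback hP.flip inferInstance
  haveI : CompactSpace X := QuasiCompact.compactSpace_of_compactSpace f
  haveI : CompactSpace P := QuasiCompact.compactSpace_of_compactSpace p₁
  have hgp : genericPoints X = {genericPoint X} := genericPoints_eq_singleton
  have hcl : ∀ x : X, x ≠ genericPoint X → IsClosed ({x} : Set X) := fun x hx =>
    Groth.Agent.DimOneAmple.isClosed_singleton_of_dim_le_one hdim.le
      (fun h => hx (Set.mem_singleton_iff.mp (hgp.le h)))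
  have hgen : ∀ x : X, x ≠ genericPoint X → ∀ x' : X, x' ⤳ x → x' = x ∨ x' = genericPoint X := fun x _ x' h => by
    by_cases hx' : x' = genericPoint X
    · exact Or.inr hx'
    · exact Or.inl (h.mem_closed (hcl x' hx') rfl).symm
  have hnc : ∀ z : P, δ z = c → ¬ IsClosed ({z} : Set P) := fun z hz h => by have := hc z h; omega
  let V := {z : P // δ z = c ∧ p₁ z ≠ genericPoint X}
  have hdvr : ∀ z : V, ∃ π : X.presheaf.stalk (p₁ z.1),
      IsLocalRing.maximalIdeal _ = Ideal.span {π} ∧ π ≠ 0 := fun z => by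
    haveI := Groth.Agent.CurveDVR.isDiscreteValuationRing_stalk f hdim (hcl _ z.2.2)
    obtain ⟨π, hπ⟩ := IsDiscreteValuationRing.exists_irreducible (X.presheaf.stalk (p₁ z.1))
    exact ⟨π, hπ.maximalIdeal_eq, hπ.ne_zero⟩
  choose π hπ hπ0 using hdvr
  have hvert := fun z : V => HorizMove88.vert hP (hcl _ z.2.2) z.2.2 (hgen _ z.2.2) (hπ z) (hπ0 z) z.1 rfl
    (hnc _ z.2.1)
  choose huniq hT hlin hmax ξ hξ hpξ himm using hvert
  have hξc : ∀ z : V, δ (ξ z) = c + 1 := fun z => by
    have h := (hd _ _ (hξ z) fun e => z.2.2 (by rw [← e]; exact hpξ z)).2 (himm z)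
    rw [h, z.2.1]
  choose a b hreg hpole using fun z : V =>
    HorizMove88.exists_pair k hdim (hcl _ z.2.2) z.2.2 (p₁ (ξ z)) (hpξ z)
  let g : (z : V) → P.residueField (ξ z) := fun z =>
    HorizMove88.lin p₁ p₂ (ξ z) (b z) / HorizMove88.lin p₁ p₂ (ξ z) (a z)
  have hval : ∀ (z : V) (w : V) (h : ξ z ⤳ w.1), g z ≠ 0 ∧
      Cyc.ordAt w.1 (ξ z) h (g z) = if w = z then 1 else 0 := by
    intro z w h
    have h1 : δ w.1 + 1 = δ (ξ z) := by rw [w.2.1, hξc]
    have hx : p₁ (ξ z) ⤳ p₁ w.1 := h.map p₁.continuous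
    by_cases hwx : p₁ w.1 = p₁ z.1
    · obtain rfl : w = z := Subtype.ext (huniq z w.1 hwx (hnc _ w.2.1))
      obtain ⟨ϖ, a', b', hϖ, hϖ0, ham, hbm, ha, hb, hab⟩ := hpole w hx
      obtain ⟨la, hane, hao⟩ := HorizMove88.lin_pole p₁ p₂ hd h h1 ha ham (hT w)
      obtain ⟨lb, hbne, hbo⟩ := HorizMove88.lin_pole p₁ p₂ hd h h1 hb hbm (hT w)
      refine ⟨div_ne_zero lb la, ?_⟩
      rw [if_pos rfl, HorizMove88.ordAt_quot p₁ p₂ hd h h1 la lb, hao, hbo, hab, map_mul, map_mul]
      rw [hab, map_mul, map_mul] at hane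
      obtain ⟨hne1, hne2⟩ := mul_ne_zero_iff.1 hane
      rw [Groth.Agent.CycLib.ordAt_mul hd h h1 hne1 hne2,
        HorizMove88.ordAt_uniformiser hd h h1 (by rw [hmax, hϖ, Ideal.map_span, Set.image_singleton]) hne1]
      ring
    · obtain ⟨⟨a₀, ha⟩, b₀, hb⟩ := hreg z (p₁ w.1) hx hwx
      obtain ⟨la, hao⟩ := HorizMove88.lin_regular p₁ p₂ hd h h1 ha (hlin w a₀)
      obtain ⟨lb, hbo⟩ := HorizMove88.lin_regular p₁ p₂ hd h h1 hb (hlin w b₀)
      refine ⟨div_ne_zero lb la, ?_⟩
      rw [if_neg (fun e => hwx (by rw [e])), HorizMove88.ordAt_quot p₁ p₂ hd h h1 la lb, hao, hbo, sub_zero]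
  have hg : ∀ z, g z ≠ 0 := fun z => (hval z z (hξ z)).1
  -- the vertical part of the support
  let S := {z : V // α z.1 ≠ 0}
  haveI : Finite {x : P // x ∈ Function.support ⇑α} :=
    (Groth.Agent.CycLib.finite_support_of_compact α).to_subtype
  haveI : Finite S := Finite.of_injective
    (fun z : S => (⟨z.1.1, z.2⟩ : {x : P // x ∈ Function.support ⇑α}))
    (fun z z' h => Subtype.ext (Subtype.ext (congrArg Subtype.val h :)))
  haveI := Fintype.ofFinite S
  have hG : ∀ i : S, g i.1 ^ α i.1.1 ≠ 0 := fun i => zpow_ne_zero _ (hg _)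
  obtain ⟨D, hD⟩ := Groth.Agent.CycLib.exists_cycle_finsum_divFun hd (fun i : S => ξ i.1)
    (fun i => g i.1 ^ α i.1.1) hG (fun x => ⟨Set.univ, isOpen_univ, trivial, Set.toFinite _⟩)
  refine ⟨α - D, fun x hx => ?_, ⟨S, fun i => ξ i.1, fun i => g i.1 ^ α i.1.1, fun i => hξc i.1, hG,
    fun x => ⟨Set.univ, isOpen_univ, trivial, Set.toFinite _⟩, fun x => ?_⟩, fun z hz => ?_⟩
  · show α x - D x = 0
    rw [hα x hx, hD, finsum_eq_zero_of_forall_eq_zero fun i => ?_, sub_zero]
    exact dif_neg fun h => hx (by have := h.2; have := hξc i.1; omega)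
  · rw [← hD]
    show α x - (α x - D x) = D x
    ring
  · by_contra hne
    refine hz ?_
    show α z - D z = 0
    by_cases hzc : δ z = c
    swap
    · rw [hα z hzc, hD, finsum_eq_zero_of_forall_eq_zero fun i => ?_, sub_zero]
      exact dif_neg fun h => hzc (by have := h.2; have := hξc i.1; omega)
    let w : V := ⟨z, hzc, hne⟩
    have hterm : ∀ i : S, Cyc.divFun δ (ξ i.1) (g i.1 ^ α i.1.1) z = if i.1 = w then α z else 0 := by
      intro i
      by_cases h : ξ i.1 ⤳ z
      · rw [Cyc.divFun, dif_pos ⟨h, by rw [hzc, hξc]⟩, ordAt_zpow hd h (by rw [hzc, hξc]) (hg _),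
          (hval i.1 w h).2]
        by_cases e : i.1 = w
        · rw [if_pos e.symm, if_pos e, mul_one, e]
        · rw [if_neg (Ne.symm e), if_neg e, mul_zero]
      · rw [Cyc.divFun, dif_neg fun hh => h hh.1, if_neg]
        rintro e
        apply h
        rw [e]
        exact hξ w
    rw [hD, finsum_congr hterm]
    by_cases h0 : α z = 0
    · rw [h0, finsum_eq_zero_of_forall_eq_zero fun i => by split_ifs <;> rfl, sub_zero]
    · rw [finsum_eq_single _ (⟨w, h0⟩ : S) fun i hi => if_neg fun e => hi (Subtype.ext e), if_pos rfl, sub_self]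

end Groth.Agent.S18595
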