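import Groth.Statements.S18596
import Mathlib
import Groth.Agent.EtRamLib.WildFixField
import Groth.Agent.EtStruct.Residue

set_option autoImplicit false
universe u
open EtRam CategoryTheory.Limits

namespace Groth.Agent.S18596

open AlgebraicGeometry CategoryTheory in
/-- Let k be a perfect field, X a k-scheme proper over k and f : Y ⟶ X finite étale. Curve-tameness of f
asks that the pullback of f to any regular k-curve mapping to X be tamely ramified at every place of
the curve's function field at infinity; proper targets make every finite étale cover curve-tame.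
Stated here unfolded at a single place, in the form the argument yields: for every point y of Y with
image x, and every discrete valuation ring A of the residue field κ(x) through which Spec κ(x) ⟶
Spec k factors, the finite separable extension κ(y) of κ(x) is tamely ramified with respect to A. -/
theorem result
    (k : Type u) [Field k] [PerfectField k] {X Y : Scheme.{u}} (s : X ⟶ Spec (CommRingCat.of k))
    [IsProper s] (f : Y ⟶ X) [IsFinite f] [Etale f] (y : Y)
    (A : ValuationSubring (X.residueField (f.base y))) [IsDiscreteValuationRing A]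
    (a : Spec (CommRingCat.of A) ⟶ Spec (CommRingCat.of k))
    (ha : Spec.map (CommRingCat.ofHom A.subtype) ≫ a = X.fromSpecResidueField (f.base y) ≫ s) :
    EtRam.IsTamelyRamified A ((f.residueFieldMap y).hom.comp A.subtype) := by
  classical
  let K := X.residueField (f.base y)
  let L := Y.residueField y
  letI : Algebra K L := (f.residueFieldMap y).hom.toAlgebra
  obtain ⟨-, hLfin, hLsep⟩ := (EtStruct.stalkMap_formallyUnramified_iff f y).1
    (AlgebraicGeometry.FormallyUnramified.stalkMap f y)
  haveI : FiniteDimensional K L := hLfin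
  haveI : Algebra.IsSeparable K L := hLsep
  let Ω := SeparableClosure K
  let i : L →ₐ[K] Ω := IsSepClosed.lift
  haveI : FiniteDimensional K i.fieldRange := Module.Finite.equiv (AlgEquiv.ofInjectiveField i).toLinearEquiv
  let N : IntermediateField K Ω := IntermediateField.normalClosure K i.fieldRange Ω
  haveI : IsGalois K N := { }
  let j : L →ₐ[K] N := AlgHom.codRestrict i N.toSubalgebra
    fun x ↦ (i.fieldRange).le_normalClosure ⟨x, rfl⟩
  letI : Algebra L N := j.toRingHom.toAlgebra
  haveI : IsScalarTower K L N := IsScalarTower.of_algebraMap_eq fun c ↦ (j.commutes c).symm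
  have hU : EtRam.IsUnramifiedExt A ((algebraMap K L).comp (algebraMap A K)) := by
    refine EtRamLib.WildFixField.isUnramifiedExt_of_fixed (N := N) L fun W hW σ hσ ↦ ?_
    -- the valuative criterion
    have hex : ValuativeCriterion.Existence s := by
      have h : UniversallyClosed s := inferInstance
      rw [UniversallyClosed.eq_valuativeCriterion] at h
      exact h.1
    let S : ValuativeCommSq s :=
      { R := A, K := K, i₁ := X.fromSpecResidueField (f.base y), i₂ := a, commSq := ⟨ha.symm⟩ }
    obtain ⟨⟨l, hl, -⟩⟩ := (hex S).exists_lift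
    replace hl : Spec.map (CommRingCat.ofHom A.subtype) ≫ l = X.fromSpecResidueField (f.base y) := hl
    let gN : A →+* N := (algebraMap K N).comp (algebraMap A K)
    let e : Spec (CommRingCat.of N) ⟶ Y :=
      Spec.map (CommRingCat.ofHom j.toRingHom) ≫ Y.fromSpecResidueField y
    have he : e ≫ f = Spec.map (CommRingCat.ofHom gN) ≫ l := by
      have h1 : CommRingCat.ofHom gN = CommRingCat.ofHom A.subtype ≫ f.residueFieldMap y ≫ CommRingCat.ofHom j.toRingHom :=
        CommRingCat.hom_ext (RingHom.ext fun c ↦ (j.commutes (c : K)).symm)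
      rw [h1, Spec.map_comp, Spec.map_comp, Category.assoc, Category.assoc, hl]
      simp only [e, Category.assoc]
      rw [← f.SpecMap_residueFieldMap_fromSpecResidueField y]
      rfl
    -- the affine model
    haveI : IsAffine (pullback f l) := isAffine_of_isAffineHom (pullback.snd f l)
    let P := pullback f l
    obtain ⟨φ, hφ⟩ := Spec.map_surjective (P.isoSpec.inv ≫ pullback.snd f l)
    haveI : IsFinite (Spec.map φ) := by rw [hφ]; infer_instance
    haveI : FormallyUnramified (Spec.map φ) := by rw [hφ]; infer_instance
    obtain ⟨ψ, hψ⟩ := Spec.map_surjective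
      (pullback.lift e (Spec.map (CommRingCat.ofHom gN)) he ≫ P.isoSpec.hom)
    let B := Γ(P, ⊤)
    letI : Algebra A B := φ.hom.toAlgebra
    haveI : Algebra.FormallyUnramified A B :=
      (HasRingHomProperty.Spec_iff (P := @FormallyUnramified)).1 ‹FormallyUnramified (Spec.map φ)›
    haveI : Module.Finite A B := (IsFinite.SpecMap_iff φ).1 ‹_›
    have hψφ : φ ≫ ψ = CommRingCat.ofHom gN := Spec.map_injective (by
      rw [Spec.map_comp, hψ, hφ, Category.assoc, Iso.hom_inv_id_assoc]
      exact pullback.lift_snd _ _ _)
    have hψA : ∀ c : A, ψ (algebraMap A B c) = gN c := fun c ↦ congr($hψφ c)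
    letI : Algebra A N := gN.toAlgebra
    have hmem : ∀ b : B, ψ b ∈ W := fun b ↦ by
      obtain ⟨q, hq, hqb⟩ := Algebra.IsIntegral.isIntegral (R := A) b
      refine EtRamLib.ValTower.mem_of_isIntegral W (fun c ↦ hW.1 c) ⟨q, hq, ?_⟩
      have h0 := congrArg ψ.hom hqb
      rw [Polynomial.hom_eval₂, map_zero] at h0
      rw [show ψ.hom.comp (algebraMap A B) = gN from RingHom.ext fun c ↦ hψA c] at h0
      exact h0
    letI : Algebra A W := (RingHom.codRestrict gN W hW.1).toAlgebra
    haveI : IsDiscreteValuationRing W :=
      EtRamLib.ValTower.isDiscreteValuationRing_of_dominates A K N W hW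
    let g₁ : B →ₐ[A] W :=
      { ψ.hom.codRestrict W hmem with commutes' := fun c ↦ Subtype.ext (hψA c) }
    let g₂ : B →ₐ[A] W :=
      { ((σ : N →+* N).comp ψ.hom).codRestrict W (fun b ↦ hσ.mem (hmem b)) with
        commutes' := fun c ↦ Subtype.ext (by
          change σ (ψ (algebraMap A B c)) = gN c
          rw [hψA]; exact σ.commutes (algebraMap A K c)) }
    have hg : g₂ = g₁ := Algebra.FormallyUnramified.ext_of_iInf (IsLocalRing.maximalIdeal W)
      (Ideal.iInf_pow_eq_bot_of_isLocalRing _ (IsLocalRing.maximalIdeal.isMaximal W).ne_top) fun b ↦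
      (Ideal.Quotient.eq (I := IsLocalRing.maximalIdeal W)).2 ((W.valuation_lt_one_iff _).2 (hσ _ (hmem b)))
    have hσψ : ψ ≫ CommRingCat.ofHom (σ : N →+* N) = ψ :=
      CommRingCat.hom_ext (RingHom.ext fun b ↦ congrArg Subtype.val (AlgHom.congr_fun hg b))
    have he2 : Spec.map (CommRingCat.ofHom (σ : N →+* N)) ≫ e = e := by
      have h0 : Spec.map ψ ≫ P.isoSpec.inv ≫ pullback.fst f l = e := by
        rw [hψ, Category.assoc, Iso.hom_inv_id_assoc]
        exact pullback.lift_fst _ _ _
      rw [← h0, ← Spec.map_comp_assoc, hσψ]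
    intro x
    have h2 : Spec.map (CommRingCat.ofHom j.toRingHom ≫ CommRingCat.ofHom (σ : N →+* N)) =
        Spec.map (CommRingCat.ofHom j.toRingHom) := by
      rw [← cancel_mono (Y.fromSpecResidueField y), Spec.map_comp, Category.assoc]
      exact he2
    exact congr($(Spec.map_injective h2) x)
  intro V hV
  intro _
  letI : Algebra A V := (RingHom.codRestrict ((algebraMap K L).comp (algebraMap A K)) V hV.1).toAlgebra
  haveI : IsLocalHom (algebraMap A V) := EtRamLib.ValTower.isLocalHom_of_dominates V hV
  obtain ⟨hwu, hsep⟩ := hU V hV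
  refine ⟨hsep, fun p hp _ hd ↦ hp.ne_one ?_⟩
  haveI : IsDiscreteValuationRing V :=
    EtRamLib.ValTower.isDiscreteValuationRing_of_dominates A K L V hV
  letI : Algebra A V := (RingHom.codRestrict ((algebraMap K L).comp (algebraMap A K)) V hV.1).toAlgebra
  haveI : IsLocalHom (algebraMap A V) := EtRamLib.ValTower.isLocalHom_of_dominates V hV
  have h1 := (EtRamLib.ValTower.isWeaklyUnramified_iff A V (EtRamLib.ValTower.algebraMap_injective_of_dominates V hV)).1 hwu
  exact Nat.dvd_one.1 (hd.trans (dvd_of_eq h1))

end Groth.Agent.S18596
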