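import Groth.Statements.S18597
import Mathlib
import Groth.Agent.EtRamLib.WildFixField
import Groth.Agent.EtStruct.Residue

set_option autoImplicit false
universe u
open EtRam

namespace Groth.Agent.S18597

open IsLocalRing in
/-- an automorphism moving everything by principal units, of order invertible in the ring, is trivial -/
lemma eq_of_pow_eq_one {W : Type u} [CommRing W] [IsDomain W] [IsDiscreteValuationRing W] (σ : W →+* W)
    (h1 : ∀ x, ∃ w ∈ maximalIdeal W, σ x = x * (1 + w)) {r : ℕ} (hσ : (σ : W → W)^[r] = id)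
    (hr : IsUnit (r : W)) (x : W) : σ x = x := by
  have main : ∀ n : ℕ, 1 ≤ n → ∀ x, ∃ w ∈ maximalIdeal W ^ n, σ x = x * (1 + w) := by
    intro n hn
    induction n, hn using Nat.le_induction with
    | base => simpa using h1
    | succ n hn ih =>
      intro x
      rcases eq_or_ne x 0 with rfl | hx
      · exact ⟨0, zero_mem _, by simp⟩
      obtain ⟨w, hw, hxw⟩ := ih x
      have key : ∀ i : ℕ, ∃ v ∈ maximalIdeal W ^ n, (σ : W → W)^[i] x = x * (1 + v) ∧
          v - (i : W) * w ∈ maximalIdeal W ^ (n + 1) := by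
        intro i
        induction i with
        | zero => exact ⟨0, zero_mem _, by simp, by simp⟩
        | succ i ihi =>
          obtain ⟨v, hv, hxv, hvw⟩ := ihi
          obtain ⟨v', hv', hσv⟩ := ih v
          have hvv : v * v' ∈ maximalIdeal W ^ (n + 1) := by
            rw [pow_succ]
            exact Ideal.mul_mem_mul hv (Ideal.pow_le_self (by omega) hv')
          have hwv : w * (v * (1 + v')) ∈ maximalIdeal W ^ (n + 1) := by
            rw [pow_succ]
            exact Ideal.mul_mem_mul hw (Ideal.mul_mem_right _ _ (Ideal.pow_le_self (by omega) hv))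
          refine ⟨w + v * (1 + v') + w * (v * (1 + v')), add_mem (add_mem hw (Ideal.mul_mem_right _ _ hv))
            (Ideal.pow_le_pow_right (Nat.le_succ n) hwv), ?_, ?_⟩
          · rw [Function.iterate_succ_apply', hxv, map_mul, map_add, map_one, hxw, hσv]
            ring
          · rw [show w + v * (1 + v') + w * (v * (1 + v')) - ((i + 1 : ℕ) : W) * w =
              (v - (i : W) * w) + v * v' + w * (v * (1 + v')) by push_cast; ring]
            exact add_mem (add_mem hvw hvv) hwv
      obtain ⟨v, -, hxv, hvw⟩ := key r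
      rw [hσ, id] at hxv
      have hv0 : v = 0 := by
        have := mul_left_cancel₀ hx (show x * 1 = x * (1 + v) by rw [mul_one]; exact hxv)
        simpa using this.symm
      rw [hv0, zero_sub, neg_mem_iff, Ideal.unit_mul_mem_iff_mem _ hr] at hvw
      exact ⟨w, hvw, hxw⟩
  rw [← sub_eq_zero, ← Ideal.mem_bot, ← Ideal.iInf_pow_eq_bot_of_isLocalRing (maximalIdeal W)
    (maximalIdeal.isMaximal W).ne_top, Ideal.mem_iInf]
  intro n
  obtain ⟨w, hw, hxw⟩ := main (max 1 n) (le_max_left _ _) x
  rw [hxw, mul_add, mul_one, add_sub_cancel_left]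
  exact Ideal.mul_mem_left _ _ (Ideal.pow_le_pow_right (le_max_right _ _) hw)

/-- a Galois extension of degree invertible in the residue field is tame -/
lemma tame_of_galois (A K L : Type u) [CommRing A] [IsDomain A] [IsDiscreteValuationRing A] [Field K]
    [Algebra A K] [IsFractionRing A K] [Field L] [Algebra K L] [FiniteDimensional K L] [IsGalois K L]
    (hn : IsUnit ((Module.finrank K L : ℕ) : A)) :
    EtRam.IsTamelyRamified A ((algebraMap K L).comp (algebraMap A K)) := by
  refine EtRamLib.WildFixField.isTamelyRamified_of_fixed (N := L) L fun W hW σ hσ x ↦ ?_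
  haveI : IsDiscreteValuationRing W :=
    EtRamLib.ValTower.isDiscreteValuationRing_of_dominates A K L W hW
  let σW : W →+* W :=
    { toFun := fun w ↦ ⟨σ w, hσ.inert.mem w.2⟩
      map_one' := Subtype.ext (map_one σ)
      map_mul' := fun a b ↦ Subtype.ext (map_mul σ _ _)
      map_zero' := Subtype.ext (map_zero σ)
      map_add' := fun a b ↦ Subtype.ext (map_add σ _ _) }
  have h1 : ∀ y : W, ∃ w ∈ IsLocalRing.maximalIdeal W, σW y = y * (1 + w) := by
    intro y
    rcases eq_or_ne (y : L) 0 with hy | hy
    · exact ⟨0, zero_mem _, Subtype.ext (by simp [σW, hy])⟩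
    · refine ⟨⟨_, (W.valuation_le_one_iff _).1 (hσ _ hy).le⟩, (W.valuation_lt_one_iff _).2 (hσ _ hy), Subtype.ext ?_⟩
      change σ y = (y : L) * (1 + (σ y / y - 1))
      rw [add_sub_cancel, mul_div_cancel₀ _ hy]
  have hpow : (σW : W → W)^[Module.finrank K L] = id := by
    funext y
    refine Subtype.ext ?_
    have h : ∀ i, (((σW : W → W)^[i] y : W) : L) = (σ ^ i) (y : L) := by
      intro i
      induction i with
      | zero => simp
      | succ i ih => rw [Function.iterate_succ_apply', pow_succ', AlgEquiv.mul_apply, ← ih]; rfl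
    rw [h, ← IsGalois.card_aut_eq_finrank K L, pow_card_eq_one']
    rfl
  have hr : IsUnit ((Module.finrank K L : ℕ) : W) := by
    have := hn.map (RingHom.codRestrict ((algebraMap K L).comp (algebraMap A K)) W hW.1)
    rwa [map_natCast] at this
  have key : ∀ y : W, σ (y : L) = y := fun y ↦ congrArg Subtype.val (eq_of_pow_eq_one σW h1 hpow hr y)
  change σ x = x
  rcases W.mem_or_inv_mem x with hx | hx
  · exact key ⟨x, hx⟩
  · exact inv_injective (by rw [← map_inv₀]; exact key ⟨x⁻¹, hx⟩)

open AlgebraicGeometry CategoryTheory in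
/-- the point of a field valued point through the residue field -/
lemma point_eq {Y : Scheme.{u}} (z : Y) {R : CommRingCat.{u}} (r : Y.residueField z ⟶ R) (p : Spec R) :
    (Spec.map r ≫ Y.fromSpecResidueField z) p = z := by
  rw [Scheme.Hom.comp_apply]
  exact Scheme.fromSpecResidueField_apply _ _

set_option maxHeartbeats 400000 in
open AlgebraicGeometry CategoryTheory in
/-- the residue extension under a transitive finite group action is Galois of degree dividing the order -/
lemma galois_residue {X Y : Scheme.{u}} (f : Y ⟶ X) [IsFinite f] [Etale f] (G : Type*) [Group G] [Finite G]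
    (ρ : G → (Y ⟶ Y)) (h1 : ρ 1 = 𝟙 Y) (hmul : ∀ a b, ρ (a * b) = ρ b ≫ ρ a) (hover : ∀ g, ρ g ≫ f = f)
    (htrans : ∀ (Ω : Type u) [Field Ω] [IsAlgClosed Ω] (s t : Spec (CommRingCat.of Ω) ⟶ Y),
      s ≫ f = t ≫ f → ∃ g, s ≫ ρ g = t) (z : Y) :
    letI : Algebra (X.residueField (f.base z)) (Y.residueField z) := (f.residueFieldMap z).hom.toAlgebra
    FiniteDimensional (X.residueField (f.base z)) (Y.residueField z) ∧
      IsGalois (X.residueField (f.base z)) (Y.residueField z) ∧
      Module.finrank (X.residueField (f.base z)) (Y.residueField z) ∣ Nat.card G := by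
  classical
  let K := X.residueField (f.base z)
  let L := Y.residueField z
  letI : Algebra K L := (f.residueFieldMap z).hom.toAlgebra
  obtain ⟨-, hLfin, hLsep⟩ := (EtStruct.stalkMap_formallyUnramified_iff f z).1
    (AlgebraicGeometry.FormallyUnramified.stalkMap f z)
  haveI : FiniteDimensional K L := hLfin
  haveI : Algebra.IsSeparable K L := hLsep
  let Ω := AlgebraicClosure K
  let ξ : Spec (CommRingCat.of Ω) ⟶ X :=
    Spec.map (CommRingCat.ofHom (algebraMap K Ω)) ≫ X.fromSpecResidueField (f.base z)
  let P := {s : Spec (CommRingCat.of Ω) ⟶ Y // s ≫ f = ξ}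
  have hpt : ∀ j : L →ₐ[K] Ω, (Spec.map (CommRingCat.ofHom j.toRingHom) ≫ Y.fromSpecResidueField z) ≫ f = ξ := by
    intro j
    rw [Category.assoc, ← f.SpecMap_residueFieldMap_fromSpecResidueField z, ← Spec.map_comp_assoc]
    exact congrArg (fun g ↦ Spec.map g ≫ X.fromSpecResidueField (f.base z))
      (CommRingCat.hom_ext (RingHom.ext fun c ↦ j.commutes c))
  let sj : (L →ₐ[K] Ω) → P := fun j ↦ ⟨_, hpt j⟩
  let pt : P → Y := fun s ↦ s.1 (IsLocalRing.closedPoint Ω)
  have hptc : ∀ (z' : Y) (r : Y.residueField z' ⟶ CommRingCat.of Ω),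
      (Spec.map r ≫ Y.fromSpecResidueField z') (IsLocalRing.closedPoint Ω) = z' := fun z' r ↦
    point_eq z' r _
  have hpj : ∀ j, pt (sj j) = z := fun j ↦ hptc z _
  have hinj : Function.Injective sj := fun j j' h ↦ AlgHom.ext fun c ↦ by
    have h' := Spec.map_injective ((cancel_mono (Y.fromSpecResidueField z)).1 (congrArg Subtype.val h))
    exact congr($h' c)
  have hsurj : ∀ s, pt s = z → ∃ j, sj j = s := by
    intro s hs
    obtain ⟨⟨z', r⟩, hr⟩ := (Scheme.SpecToEquivOfField Ω Y).symm.surjective s.1
    change Spec.map r ≫ Y.fromSpecResidueField z' = s.1 at hr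
    obtain rfl : z = z' := hs.symm.trans (by
      change s.1 (IsLocalRing.closedPoint Ω) = z'
      rw [← hr]
      exact hptc z' r)
    have h2 : f.residueFieldMap z ≫ r = CommRingCat.ofHom (algebraMap K Ω) := Spec.map_injective (by
      rw [← cancel_mono (X.fromSpecResidueField (f.base z))]
      rw [Spec.map_comp, Category.assoc, f.SpecMap_residueFieldMap_fromSpecResidueField z, ← Category.assoc, hr]
      exact s.2)
    exact ⟨{ r.hom with commutes' := fun c ↦ congr($h2 c) }, Subtype.ext hr⟩
  letI : MulAction G P :=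
    { smul := fun g s ↦ ⟨s.1 ≫ ρ g, by rw [Category.assoc, hover, s.2]⟩
      one_smul := fun s ↦ Subtype.ext (show s.1 ≫ ρ 1 = s.1 by rw [h1, Category.comp_id])
      mul_smul := fun a b s ↦ Subtype.ext (show s.1 ≫ ρ (a * b) = (s.1 ≫ ρ b) ≫ ρ a by rw [hmul, Category.assoc]) }
  have hptσ : ∀ (g : G) s, pt (g • s) = ρ g (pt s) := fun g s ↦ rfl
  let D : Subgroup G :=
    { carrier := {g | ρ g z = z}
      one_mem' := by show ρ 1 z = z; rw [h1]; rfl
      mul_mem' := fun {a b} ha hb ↦ by
        show ρ (a * b) z = z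
        rw [hmul]
        exact (congrArg (ρ a) hb).trans ha
      inv_mem' := fun {a} ha ↦ by
        show ρ a⁻¹ z = z
        calc ρ a⁻¹ z = ρ a⁻¹ (ρ a z) := congrArg (ρ a⁻¹) ha.symm
          _ = (ρ a ≫ ρ a⁻¹) z := rfl
          _ = z := by rw [← hmul, inv_mul_cancel, h1]; rfl }
  let T := {s : P // pt s = z}
  letI : MulAction D T :=
    { smul := fun σ s ↦ ⟨(σ : G) • s.1, (hptσ σ s.1).trans ((congrArg (ρ σ) s.2).trans σ.2)⟩
      one_smul := fun s ↦ Subtype.ext (one_smul G s.1)
      mul_smul := fun a b s ↦ Subtype.ext (mul_smul (a : G) (b : G) s.1) }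
  have e : (L →ₐ[K] Ω) ≃ T := Equiv.ofBijective (fun j ↦ ⟨sj j, hpj j⟩)
    ⟨fun a b h ↦ hinj (congrArg Subtype.val h), fun s ↦ by
      obtain ⟨j, hj⟩ := hsurj s.1 s.2
      exact ⟨j, Subtype.ext hj⟩⟩
  have hcard : Nat.card T = Module.finrank K L := by
    rw [← Nat.card_congr e, Nat.card_eq_fintype_card, AlgHom.card]
  haveI : MulAction.IsPretransitive D T := ⟨fun s t ↦ by
    obtain ⟨g, hg⟩ := htrans Ω s.1.1 t.1.1 (s.1.2.trans t.1.2.symm)
    have hg' : g • s.1 = t.1 := Subtype.ext hg
    have hσz : ρ g z = z := by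
      have h := hptσ g s.1
      rw [hg', t.2, s.2] at h
      exact h.symm
    exact ⟨⟨g, hσz⟩, Subtype.ext hg'⟩⟩
  let j₀ : L →ₐ[K] Ω := IsAlgClosed.lift
  refine ⟨inferInstance, ?_, ?_⟩
  · have hτ : ∀ j : L →ₐ[K] Ω, ∃ τ : L →ₐ[K] L, j₀.comp τ = j := by
      intro j
      obtain ⟨g, hg⟩ := htrans Ω (sj j₀).1 (sj j).1 ((sj j₀).2.trans (sj j).2.symm)
      obtain ⟨⟨z', r⟩, hr⟩ := (Scheme.SpecToEquivOfField L Y).symm.surjective (Y.fromSpecResidueField z ≫ ρ g)
      change Spec.map r ≫ Y.fromSpecResidueField z' = Y.fromSpecResidueField z ≫ ρ g at hr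
      change (Spec.map (CommRingCat.ofHom j₀.toRingHom) ≫ Y.fromSpecResidueField z) ≫ ρ g =
        Spec.map (CommRingCat.ofHom j.toRingHom) ≫ Y.fromSpecResidueField z at hg
      rw [Category.assoc, ← hr, ← Spec.map_comp_assoc] at hg
      have h := (Scheme.SpecToEquivOfField Ω Y).symm.injective
        (a₁ := ⟨z', r ≫ CommRingCat.ofHom j₀.toRingHom⟩) (a₂ := ⟨z, CommRingCat.ofHom j.toRingHom⟩) hg
      obtain ⟨rfl, h⟩ := Sigma.mk.inj_iff.1 h
      replace h := eq_of_heq h
      refine ⟨{ r.hom with commutes' := fun c ↦ j₀.toRingHom.injective ?_ }, AlgHom.ext fun c ↦ congr($h c)⟩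
      exact (congr($h (algebraMap K L c))).trans ((j.commutes c).trans (j₀.commutes c).symm)
    choose τ hτ using hτ
    have hτinj : Function.Injective fun j ↦ AlgEquiv.ofBijective (τ j) (Algebra.IsAlgebraic.algHom_bijective (τ j)) :=
      fun a b h ↦ by
        rw [← hτ a, ← hτ b]
        exact congrArg j₀.comp (congrArg AlgEquiv.toAlgHom h)
    refine IsGalois.of_card_aut_eq_finrank K L (le_antisymm ?_ ?_)
    · rw [Nat.card_eq_fintype_card]; exact AlgEquiv.card_le
    · rw [← hcard, ← Nat.card_congr e]
      exact Nat.card_le_card_of_injective _ hτinj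
  · obtain ⟨s⟩ : Nonempty T := ⟨e j₀⟩
    rw [← hcard, ← MulAction.index_stabilizer_of_transitive D s]
    exact (Subgroup.index_dvd_card _).trans (Subgroup.card_subgroup_dvd_card D)

open AlgebraicGeometry CategoryTheory in
/-- Let k be a perfect field and X a k-scheme. A finite étale cover of X by a torsor under a finite
group of order prime to the characteristic of k is curve-tame, i.e. tamely ramified at every place
at infinity of every regular k-curve mapping to X. Stated here unfolded at a single place and for a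
connected Galois cover Z ⟶ X (the X-automorphisms of Z act transitively on geometric fibres) whose
automorphism group has order invertible in k: for every point z of Z with image x and every discrete
valuation ring A of the residue field κ(x) through which Spec κ(x) ⟶ Spec k factors (so A contains k
and has the residue characteristic of k), the finite separable extension κ(z) of κ(x) is tamely
ramified with respect to A. Without the factorisation through Spec A the claim fails already for X =
Spec ℚ, Z = Spec ℚ(√2) and A = ℤ localised at 2. (The published statement is for torsors under a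
finite abelian group of order prime to the characteristic; a connected component of such a torsor is
a Galois cover of this kind.) -/
theorem result
    (k : Type u) [Field k] [PerfectField k] {X : Scheme.{u}} (s : X ⟶ Spec (CommRingCat.of k))
    (Z : FEt.Cat X) (hZ : PiSp.IsGaloisCover Z) (hn : (Nat.card (Aut Z) : k) ≠ 0) (z : Z.left)
    (A : ValuationSubring (X.residueField (Z.hom.base z))) [IsDiscreteValuationRing A]
    (a : Spec (CommRingCat.of A) ⟶ Spec (CommRingCat.of k))
    (ha : Spec.map (CommRingCat.ofHom A.subtype) ≫ a = X.fromSpecResidueField (Z.hom.base z) ≫ s) :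
    EtRam.IsTamelyRamified A ((Z.hom.residueFieldMap z).hom.comp A.subtype) := by
  have hfin : Finite (Aut Z) := Nat.finite_of_card_ne_zero fun h ↦ hn (by rw [h, Nat.cast_zero])
  letI : Algebra (X.residueField (Z.hom.base z)) (Z.left.residueField z) := (Z.hom.residueFieldMap z).hom.toAlgebra
  haveI : IsFinite Z.hom := Z.prop.1
  haveI : Etale Z.hom := Z.prop.2
  obtain ⟨h1, h2, h3⟩ := galois_residue (X := X) (Y := Z.left) Z.hom (Aut Z) (fun σ ↦ σ.hom.left)
    (by rfl) (fun a b ↦ by rfl) (fun σ ↦ Over.w σ.hom.hom) (fun Ω _ _ s t hst ↦ by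
      obtain ⟨σ, hσ⟩ := hZ.2 Ω (s ≫ Z.hom) ⟨s, rfl⟩ ⟨t, hst.symm⟩
      exact ⟨σ, congrArg Subtype.val hσ⟩) z
  haveI := h1
  haveI := h2
  obtain ⟨φ, -⟩ := Spec.map_surjective a
  have hu : IsUnit ((Nat.card (Aut Z) : ℕ) : A) := by
    have := (isUnit_iff_ne_zero.2 hn).map φ.hom
    rwa [map_natCast] at this
  refine tame_of_galois A (X.residueField (Z.hom.base z)) (Z.left.residueField z) ?_
  obtain ⟨c, hc⟩ := h3
  rw [hc, Nat.cast_mul] at hu
  exact isUnit_of_mul_isUnit_left hu

end Groth.Agent.S18597
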