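import Groth.Statements.S18598
import Mathlib.RingTheory.Polynomial.Cyclotomic.Eval
import Mathlib.RingTheory.RootsOfUnity.CyclotomicUnits
import Mathlib.Data.Nat.Factorization.Basic
import Mathlib.Tactic.IntervalCases
-- import your own Groth.Agent.* helpers here

set_option autoImplicit false
universe u
open SSRed

namespace Groth.Agent.S18598
open Polynomial

theorem prime_pow_case {O : Type*} [CommRing O] [IsDomain O] [CharZero O] (n : ℕ) (hn : 0 < n)
    (hO : ∀ p : ℕ, p.Prime → p ∣ n → ¬ IsUnit (p : O)) (β : O) (q b : ℕ) (hq : q.Prime)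
    (hβ : IsPrimitiveRoot β (q ^ (b + 1))) (h : (n : O) ∣ (β - 1) ^ 2) :
    ∃ k, n = q ^ k ∧ k * (q ^ b * (q - 1)) ≤ 2 := by
  haveI := Fact.mk hq
  have hass : Associated ((β - 1) ^ (q ^ b * (q - 1))) (q : O) := by
    have hcard : (primitiveRoots (q ^ (b + 1)) O).card = q ^ b * (q - 1) := by
      rw [hβ.card_primitiveRoots, Nat.totient_prime_pow_succ hq]
    rw [← hcard, ← eval_one_cyclotomic_prime_pow (R := O) (p := q) b,
      cyclotomic_eq_prod_X_sub_primitiveRoots hβ, eval_prod, ← Finset.prod_const]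
    simp only [eval_sub, eval_X, eval_C]
    refine Associated.prod _ _ _ fun μ hμ => ?_
    have hμ' := isPrimitiveRoot_of_mem_primitiveRoots hμ
    obtain ⟨j, -, hj, rfl⟩ := (hβ.isPrimitiveRoot_iff).1 hμ'
    rw [← neg_sub (β ^ j) 1]
    exact (hβ.associated_sub_one_pow_sub_one_of_coprime hj).trans (Associated.neg_right (Associated.refl _))
  have hpos : 0 < q ^ b * (q - 1) := Nat.mul_pos (pow_pos hq.pos b) (Nat.sub_pos_of_lt hq.one_lt)
  have hdq : (β - 1) ∣ (q : O) := (dvd_pow_self _ hpos.ne').trans hass.dvd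
  have honly : ∀ {p : ℕ}, p.Prime → p ∣ n → p = q := by
    intro p hp hpn
    by_contra hne
    obtain ⟨x, y, hxy⟩ := Int.isCoprime_iff_gcd_eq_one.2
      (show Int.gcd (p : ℤ) ((q ^ 2 : ℕ) : ℤ) = 1 from ((Nat.coprime_primes hp hq).2 hne).pow_right 2)
    have hd : (p : O) ∣ ((q ^ 2 : ℕ) : O) := by
      push_cast
      exact (((Nat.cast_dvd_cast hpn)).trans h).trans (pow_dvd_pow_of_dvd hdq 2)
    refine hO p hp hpn (isUnit_of_dvd_one ?_)
    have h1 := congrArg (Int.cast : ℤ → O) hxy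
    push_cast at h1
    rw [← h1]
    push_cast at hd
    exact dvd_add (Dvd.intro_left _ rfl) (dvd_mul_of_dvd_right hd _)
  refine ⟨_, Nat.eq_prime_pow_of_unique_prime_dvd hn.ne' honly, ?_⟩
  generalize hk : n.primeFactorsList.length = k
  have hnk : n = q ^ k := hk ▸ Nat.eq_prime_pow_of_unique_prime_dvd hn.ne' honly
  by_contra hgt
  have hq0 : (q : O) ≠ 0 := by exact_mod_cast hq.ne_zero
  have hk0 : k ≠ 0 := by rintro rfl; simp at hgt
  have hd : ((q : O)) ^ (k * (q ^ b * (q - 1))) ∣ (q : O) ^ 2 := by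
    have h1 := pow_dvd_pow_of_dvd h (q ^ b * (q - 1))
    rw [← pow_mul (β - 1), mul_comm 2, pow_mul (β - 1), hnk, Nat.cast_pow, ← pow_mul] at h1
    exact h1.trans (hass.pow_pow).dvd
  have h3 : (q : O) ^ 3 ∣ (q : O) ^ 2 := (pow_dvd_pow _ (by omega)).trans hd
  rw [pow_succ (q : O) 2] at h3
  have h4 : (q : O) ∣ 1 := (mul_dvd_mul_iff_left (pow_ne_zero 2 hq0)).1 (by rwa [mul_one])
  exact hO q hq (hnk ▸ dvd_pow_self q hk0) (isUnit_of_dvd_one h4)

theorem pow_eq_one_of {O : Type*} [CommRing O] [IsDomain O] [CharZero O] (n : ℕ) (hn : 0 < n)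
    (hO : ∀ p : ℕ, p.Prime → p ∣ n → ¬ IsUnit (p : O)) (α : O) (hα : IsOfFinOrder α)
    (h : (n : O) ∣ (α - 1) ^ 2) (t : ℕ)
    (ht : ∀ q b k : ℕ, q.Prime → n = q ^ k → k * (q ^ b * (q - 1)) ≤ 2 → q ^ (b + 1) ∣ t) :
    α ^ t = 1 := by
  rw [← orderOf_dvd_iff_pow_eq_one, Nat.dvd_iff_prime_pow_dvd_dvd]
  intro q a hq hqa
  cases a with
  | zero => simp
  | succ b =>
    obtain ⟨e, he⟩ := hqa
    have hord : orderOf α ≠ 0 := hα.orderOf_pos.ne'
    have hprim : IsPrimitiveRoot (α ^ e) (q ^ (b + 1)) := by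
      refine (IsPrimitiveRoot.orderOf α).pow (Nat.pos_of_ne_zero hord) ?_
      rw [he, mul_comm]
    have hdvd : (n : O) ∣ (α ^ e - 1) ^ 2 :=
      h.trans (pow_dvd_pow_of_dvd (sub_one_dvd_pow_sub_one α e) 2)
    obtain ⟨k, hk1, hk2⟩ := prime_pow_case n hn hO _ q b hq hprim hdvd
    exact ht q b k hq hk1 hk2

/-- Let O be a commutative integral domain of characteristic zero, n a positive integer such that no
prime number dividing n is a unit in O, and α an element of O of finite multiplicative order such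
that (α − 1)² is divisible by n in O. Then α = 1 if n ≥ 5, α² = 1 if n = 4, α³ = 1 if n = 3, and α⁴
= 1 if n = 2. -/
theorem result (O : Type u) [CommRing O] [IsDomain O] [CharZero O]
    (n : ℕ) (hn : 0 < n) (hO : ∀ p : ℕ, p.Prime → p ∣ n → ¬ IsUnit (p : O))
    (α : O) (hα : IsOfFinOrder α) (h : (n : O) ∣ (α - 1) ^ 2) :
    (5 ≤ n → α = 1) ∧ (n = 4 → α ^ 2 = 1) ∧ (n = 3 → α ^ 3 = 1) ∧ (n = 2 → α ^ 4 = 1) := by
  have key := pow_eq_one_of n hn hO α hα h
  have h1 : ∀ q b k : ℕ, q.Prime → k * (q ^ b * (q - 1)) ≤ 2 → k ≠ 0 →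
      (q = 2 ∧ b = 0 ∧ k ≤ 2) ∨ (q = 2 ∧ b = 1 ∧ k = 1) ∨ (q = 3 ∧ b = 0 ∧ k = 1) := by
    intro q b k hq hle hk
    have hk1 : 1 ≤ k := by omega
    have e1 : q ^ b * (q - 1) ≤ 2 := le_trans (Nat.le_mul_of_pos_left _ hk1) hle
    have hqb : 1 ≤ q ^ b := Nat.one_le_pow _ _ hq.pos
    have e2 : q - 1 ≤ 2 := le_trans (Nat.le_mul_of_pos_left _ hqb) e1
    have e3 : q ^ b ≤ 2 := le_trans (Nat.le_mul_of_pos_right _ (by have := hq.two_le; omega)) e1
    have hb : b ≤ 1 := by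
      by_contra hb
      have h4 := (Nat.pow_le_pow_left hq.two_le 2).trans (Nat.pow_le_pow_right hq.pos (show 2 ≤ b by omega))
      omega
    have := hq.two_le
    have hq3 : q ≤ 3 := by omega
    interval_cases q <;> interval_cases b <;> omega
  refine ⟨fun h5 => pow_one α ▸ key 1 ?_, fun h4 => key 2 ?_, fun h3 => key 3 ?_, fun h2 => key 4 ?_⟩
  all_goals
    intro q b k hq hk1 hk2
    have hk : k ≠ 0 := by rintro rfl; rw [pow_zero] at hk1; omega
    rcases h1 q b k hq hk2 hk with ⟨rfl, rfl, hk'⟩ | ⟨rfl, rfl, rfl⟩ | ⟨rfl, rfl, rfl⟩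
    · interval_cases k <;> first | omega | (norm_num)
    · norm_num at hk1 <;> first | omega | norm_num
    · norm_num at hk1 <;> first | omega | norm_num

end Groth.Agent.S18598
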