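import Groth.Statements.S18599
import Mathlib.NumberTheory.Padics.RingHoms
import Mathlib.LinearAlgebra.FreeModule.PID
import Mathlib.GroupTheory.Index
import Mathlib.Algebra.Module.Torsion.Basic
import Mathlib.Tactic.Module
import Mathlib.Tactic.LinearCombination
import Mathlib.RingTheory.OrzechProperty
import Mathlib.LinearAlgebra.Dimension.RankNullity
import Mathlib.LinearAlgebra.Dimension.Localization
-- import your own Groth.Agent.* helpers here

set_option autoImplicit false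
universe u
open SSRed

namespace Groth.Agent.S18599

section
variable {ℓ : ℕ} [Fact ℓ.Prime] {M : Type*} [AddCommGroup M] [Module ℤ_[ℓ] M]

theorem index_smul (E : Type*) [AddCommGroup E] [Module ℤ_[ℓ] E] [Module.Free ℤ_[ℓ] E]
    [Module.Finite ℤ_[ℓ] E] :
    (LinearMap.range ((ℓ : ℤ_[ℓ]) • (LinearMap.id : E →ₗ[ℤ_[ℓ]] E))).toAddSubgroup.index =
      ℓ ^ Module.finrank ℤ_[ℓ] E := by
  let bE := Module.finBasis ℤ_[ℓ] E
  let π : E →+ (Fin (Module.finrank ℤ_[ℓ] E) → ZMod ℓ) :=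
    AddMonoidHom.mk' (fun x i => PadicInt.toZMod (bE.equivFun x i)) fun x y => by ext i; simp
  have hker : π.ker = (LinearMap.range ((ℓ : ℤ_[ℓ]) • (LinearMap.id : E →ₗ[ℤ_[ℓ]] E))).toAddSubgroup := by
    ext x
    constructor
    · intro hx
      have h1 : ∀ i, ∃ c, bE.equivFun x i = (ℓ : ℤ_[ℓ]) * c := fun i => by
        have : bE.equivFun x i ∈ RingHom.ker (PadicInt.toZMod (p := ℓ)) := congr_fun hx i
        rw [PadicInt.ker_toZMod, PadicInt.maximalIdeal_eq_span_p, Ideal.mem_span_singleton] at this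
        exact this
      choose c hc using h1
      refine ⟨bE.equivFun.symm c, bE.equivFun.injective ?_⟩
      ext i
      simp only [LinearMap.smul_apply, LinearMap.id_apply, map_smul, LinearEquiv.apply_symm_apply, Pi.smul_apply, smul_eq_mul]
      exact (hc i).symm
    · rintro ⟨y, rfl⟩
      refine funext fun i => ?_
      simp [π]
  have hsurj : Function.Surjective π := fun v => by
    choose c hc using fun i => ZMod.ringHom_surjective (PadicInt.toZMod (p := ℓ)) (v i)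
    refine ⟨bE.equivFun.symm c, funext fun i => ?_⟩
    show PadicInt.toZMod (bE.equivFun (bE.equivFun.symm c) i) = v i
    rw [LinearEquiv.apply_symm_apply, hc i]
  rw [← hker, AddSubgroup.index_ker, AddMonoidHom.range_eq_top.2 hsurj, AddSubgroup.card_top]
  simp [Nat.card_fun, Nat.card_zmod]

variable [Module.Free ℤ_[ℓ] M] [Module.Finite ℤ_[ℓ] M]

theorem torsion_eq (f e g : Module.End ℤ_[ℓ] M) (he : e * e = e) (hef : e * f = f)
    (heg : (ℓ : ℤ_[ℓ]) • e = f * g) :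
    Submodule.torsion ℤ_[ℓ] (M ⧸ LinearMap.range f) = (LinearMap.range e).map (LinearMap.range f).mkQ := by
  have hℓ : (ℓ : ℤ_[ℓ]) ≠ 0 := Nat.cast_ne_zero.2 (Fact.out : ℓ.Prime).ne_zero
  ext z
  constructor
  · intro hz
    obtain ⟨x, rfl⟩ := Submodule.mkQ_surjective _ z
    obtain ⟨k, hk⟩ := (Submodule.mem_torsion_iff _).1 hz
    have hk' : (k : ℤ_[ℓ]) • x ∈ LinearMap.range f := by
      rw [← Submodule.Quotient.mk_eq_zero, Submodule.Quotient.mk_smul]
      exact hk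
    obtain ⟨y, hy⟩ := hk'
    refine ⟨e x, ⟨x, rfl⟩, congr_arg _ ?_⟩
    have h1 : (k : ℤ_[ℓ]) • e x = (k : ℤ_[ℓ]) • x := by
      rw [← map_smul, ← hy, ← Module.End.mul_apply, hef]
    exact smul_right_injective M (nonZeroDivisors.ne_zero k.2) h1
  · rintro ⟨x, ⟨y, rfl⟩, rfl⟩
    refine (Submodule.mem_torsion_iff _).2 ⟨⟨_, mem_nonZeroDivisors_of_ne_zero hℓ⟩, ?_⟩
    show (ℓ : ℤ_[ℓ]) • (LinearMap.range f).mkQ (e y) = 0
    rw [← map_smul, Submodule.mkQ_apply, Submodule.Quotient.mk_eq_zero, ← LinearMap.smul_apply, heg]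
    exact ⟨g y, rfl⟩

theorem main (f e g : Module.End ℤ_[ℓ] M) (he : e * e = e) (hef : e * f = f) (hfe : f * e = f)
    (heg : (ℓ : ℤ_[ℓ]) • e = f * g) (hge : (ℓ : ℤ_[ℓ]) • e = g * f) :
    (∀ x ∈ Submodule.torsion ℤ_[ℓ] (M ⧸ LinearMap.range f), (ℓ : ℤ_[ℓ]) • x = 0) ∧
    Nat.card (Submodule.torsion ℤ_[ℓ] (M ⧸ LinearMap.range f)) =
      ((LinearMap.range f).toAddSubgroup).relIndex (LinearMap.range e).toAddSubgroup ∧
    Module.finrank ℤ_[ℓ] M - Module.finrank ℤ_[ℓ] (LinearMap.ker f) =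
      Module.finrank ℤ_[ℓ] (LinearMap.range e) := by
  have hℓ : (ℓ : ℤ_[ℓ]) ≠ 0 := Nat.cast_ne_zero.2 (Fact.out : ℓ.Prime).ne_zero
  have htor := torsion_eq f e g he hef heg
  refine ⟨?_, ?_, ?_⟩
  · intro x hx
    rw [htor] at hx
    obtain ⟨_, ⟨y, rfl⟩, rfl⟩ := hx
    rw [← map_smul, Submodule.mkQ_apply, Submodule.Quotient.mk_eq_zero, ← LinearMap.smul_apply, heg]
    exact ⟨g y, rfl⟩
  · rw [htor]
    let φ : ↥(LinearMap.range e).toAddSubgroup →+ M ⧸ LinearMap.range f :=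
      (LinearMap.range f).mkQ.toAddMonoidHom.comp (LinearMap.range e).toAddSubgroup.subtype
    have hker : φ.ker = (LinearMap.range f).toAddSubgroup.addSubgroupOf (LinearMap.range e).toAddSubgroup := by
      ext x
      exact Submodule.Quotient.mk_eq_zero _
    rw [AddSubgroup.relIndex, ← hker, AddSubgroup.index_ker]
    refine Nat.card_congr (Equiv.setCongr ?_)
    ext z
    exact ⟨fun ⟨x, hx, h⟩ => ⟨⟨x, hx⟩, h⟩, fun ⟨x, h⟩ => ⟨x.1, x.2, h⟩⟩
  · have hkk : LinearMap.ker f = LinearMap.ker e := by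
      ext x
      constructor
      · intro hx
        refine smul_right_injective M hℓ ?_
        show (ℓ : ℤ_[ℓ]) • e x = (ℓ : ℤ_[ℓ]) • 0
        rw [← LinearMap.smul_apply, hge, Module.End.mul_apply, LinearMap.mem_ker.1 hx, map_zero, smul_zero]
      · intro hx
        rw [LinearMap.mem_ker, ← hfe, Module.End.mul_apply, LinearMap.mem_ker.1 hx, map_zero]
    rw [hkk, ← Submodule.finrank_quotient_add_finrank (LinearMap.ker e), Nat.add_sub_cancel,
      e.quotKerEquivRange.finrank_eq]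

/-- The index of `ℓE` in `E`. -/
theorem relIndex_smul (e : Module.End ℤ_[ℓ] M) :
    (LinearMap.range ((ℓ : ℤ_[ℓ]) • e)).toAddSubgroup.relIndex (LinearMap.range e).toAddSubgroup =
      ℓ ^ Module.finrank ℤ_[ℓ] (LinearMap.range e) := by
  haveI : Module.Free ℤ_[ℓ] (LinearMap.range e) := inferInstance
  rw [← index_smul (LinearMap.range e), AddSubgroup.relIndex]
  congr 1
  ext x
  constructor
  · rintro ⟨y, hy⟩
    exact ⟨⟨e y, y, rfl⟩, Subtype.ext hy⟩
  · rintro ⟨⟨_, y, rfl⟩, hy⟩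
    exact ⟨y, congr_arg Subtype.val hy⟩

end

/-- Let ℓ be a prime number, M a free ℤ_ℓ-module of finite rank, A an automorphism of M with A^ℓ = 1,
and c the rank of M minus the rank of the submodule of A-invariants. Assume that ℓ = 2 and A − 1 ∈
2·End(M), or that ℓ = 2 and (A − 1)² ∈ 4·End(M), or that ℓ = 3 and (A − 1)² ∈ 3·End(M). Then the
torsion submodule of M/(A − 1)M is a vector space over ℤ/ℓℤ of dimension c/(ℓ − 1): it is killed by
ℓ and has ℓ^r elements for some r with r(ℓ − 1) = c. -/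
theorem result (ℓ : ℕ) [Fact ℓ.Prime]
    (M : Type u) [AddCommGroup M] [Module ℤ_[ℓ] M] [Module.Free ℤ_[ℓ] M] [Module.Finite ℤ_[ℓ] M]
    (A : M ≃ₗ[ℤ_[ℓ]] M) (hA : A ^ ℓ = 1) (f : Module.End ℤ_[ℓ] M) (hf : f = (A : M →ₗ[ℤ_[ℓ]] M) - 1)
    (hcase : (ℓ = 2 ∧ ∃ B : Module.End ℤ_[ℓ] M, f = (2 : ℤ_[ℓ]) • B) ∨
      (ℓ = 2 ∧ ∃ B : Module.End ℤ_[ℓ] M, f ^ 2 = (4 : ℤ_[ℓ]) • B) ∨
      (ℓ = 3 ∧ ∃ B : Module.End ℤ_[ℓ] M, f ^ 2 = (3 : ℤ_[ℓ]) • B))
    (c : ℕ) (hc : c = Module.finrank ℤ_[ℓ] M - Module.finrank ℤ_[ℓ] (LinearMap.ker f)) :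
    (∀ x ∈ Submodule.torsion ℤ_[ℓ] (M ⧸ LinearMap.range f), (ℓ : ℤ_[ℓ]) • x = 0) ∧
      ∃ r : ℕ, r * (ℓ - 1) = c ∧
        Nat.card (Submodule.torsion ℤ_[ℓ] (M ⧸ LinearMap.range f)) = ℓ ^ r := by
  have hAe : ((A : M →ₗ[ℤ_[ℓ]] M)) ^ ℓ = 1 := by
    have h1 : ∀ k : ℕ, ((A ^ k : M ≃ₗ[ℤ_[ℓ]] M) : M →ₗ[ℤ_[ℓ]] M) = (A : M →ₗ[ℤ_[ℓ]] M) ^ k := fun k => by
      induction k with
      | zero => rfl
      | succ k ih => rw [pow_succ, pow_succ, ← ih]; rfl
    rw [← h1, hA]; rfl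
  have hAf : (A : M →ₗ[ℤ_[ℓ]] M) = f + 1 := by rw [hf, sub_add_cancel]
  rw [hAf] at hAe
  subst hc
  have two_case : ∀ B : Module.End ℤ_[ℓ] M, ℓ = 2 → f = (2 : ℤ_[ℓ]) • B →
      (∀ x ∈ Submodule.torsion ℤ_[ℓ] (M ⧸ LinearMap.range f), (ℓ : ℤ_[ℓ]) • x = 0) ∧
      ∃ r : ℕ, r * (ℓ - 1) = Module.finrank ℤ_[ℓ] M - Module.finrank ℤ_[ℓ] (LinearMap.ker f) ∧
        Nat.card (Submodule.torsion ℤ_[ℓ] (M ⧸ LinearMap.range f)) = ℓ ^ r := by
    intro B h2 hB
    subst h2
    have h4 : (4 : ℤ_[2]) ≠ 0 := by exact_mod_cast (by norm_num : (4 : ℕ) ≠ 0)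
    have hBB : B * B = -B := by
      have h1 : (4 : ℤ_[2]) • (B * B + B) = 0 := by
        have h3 : (f + 1) ^ 2 - 1 = 0 := by rw [hAe, sub_self]
        rw [← h3, hB]
        simp only [sq, mul_add, add_mul, mul_one, one_mul, smul_mul_assoc, mul_smul_comm, smul_smul, smul_add]
        module
      exact eq_neg_of_add_eq_zero_left ((smul_eq_zero.1 h1).resolve_left h4)
    obtain ⟨e, rfl⟩ : ∃ e, B = -e := ⟨-B, (neg_neg B).symm⟩
    rw [neg_mul_neg, neg_neg] at hBB
    have hf2 : f = -((2 : ℤ_[2]) • e) := by rw [hB, smul_neg]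
    obtain ⟨h5, h6, h7⟩ := main f e (-1) hBB (by rw [hf2, mul_neg, mul_smul_comm, hBB])
      (by rw [hf2, neg_mul, smul_mul_assoc, hBB]) (by rw [hf2]; simp) (by rw [hf2]; simp)
    refine ⟨h5, Module.finrank ℤ_[2] (LinearMap.range e), by rw [h7]; simp, h6.trans ?_⟩
    have hr : LinearMap.range f = LinearMap.range (((2 : ℕ) : ℤ_[2]) • e) := by
      rw [hf2, LinearMap.range_neg]; norm_num
    rw [hr, relIndex_smul]
  rcases hcase with ⟨h2, B, hB⟩ | ⟨h2, B, hB⟩ | ⟨h3, B, hB⟩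
  · exact two_case B h2 hB
  · subst h2
    refine two_case (-B) rfl ?_
    have h2' : (2 : ℤ_[2]) ≠ 0 := by exact_mod_cast (by norm_num : (2 : ℕ) ≠ 0)
    have h1 : (2 : ℤ_[2]) • (f + (2 : ℤ_[2]) • B) = 0 := by
      have h3 : (f + 1) ^ 2 - 1 = 0 := by rw [hAe, sub_self]
      rw [smul_add, smul_smul, show (2 : ℤ_[2]) * 2 = 4 by norm_num, ← hB, ← h3]
      simp only [sq, mul_add, add_mul, mul_one, one_mul]
      module
    rw [smul_neg]
    exact eq_neg_of_add_eq_zero_left ((smul_eq_zero.1 h1).resolve_left h2')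
  · subst h3
    have hone : (3 : ℤ_[3]) ≠ 0 := by exact_mod_cast (by norm_num : (3 : ℕ) ≠ 0)
    have cancel : ∀ {u v : Module.End ℤ_[3] M}, (3 : ℤ_[3]) • u = (3 : ℤ_[3]) • v → u = v :=
      fun h => smul_right_injective _ hone h
    have hcube : f * f * f + (3 : ℤ_[3]) • (f * f) + (3 : ℤ_[3]) • f = 0 := by
      have h1 : (f + 1) ^ 3 - 1 = 0 := by rw [hAe, sub_self]
      rw [← h1]
      simp only [pow_succ, pow_zero, one_mul, mul_add, add_mul, mul_one]
      module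
    rw [sq] at hB
    have hBf : B * f = f * B := cancel (by rw [← smul_mul_assoc, ← mul_smul_comm, ← hB, mul_assoc])
    let e : Module.End ℤ_[3] M := -(f + B)
    have h3B : (3 : ℤ_[3]) • (B * f) = f * f * f := by rw [← smul_mul_assoc, ← hB]
    have hef : e * f = f := cancel (by
      simp only [e, neg_mul, add_mul, smul_neg, smul_add, h3B]
      linear_combination (norm := module) -hcube)
    have hfe : f * e = f := by
      simp only [e, mul_neg, mul_add, ← hBf]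
      simpa only [e, neg_mul, add_mul] using hef
    have h3e : (3 : ℤ_[3]) • e = -((3 : ℤ_[3]) • f + f * f) := by
      simp only [e, smul_neg, smul_add, ← hB]
    have hee : e * e = e := cancel (by
      rw [← smul_mul_assoc, h3e, neg_mul, add_mul, smul_mul_assoc, hfe, mul_assoc, hfe])
    have hg1 : ((3 : ℕ) : ℤ_[3]) • e = f * (-((3 : ℤ_[3]) • 1 + f)) := by
      rw [Nat.cast_ofNat, h3e, mul_neg, mul_add, mul_smul_comm, mul_one]
    have hg2 : ((3 : ℕ) : ℤ_[3]) • e = (-((3 : ℤ_[3]) • 1 + f)) * f := by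
      rw [Nat.cast_ofNat, h3e, neg_mul, add_mul, smul_mul_assoc, one_mul]
    obtain ⟨h5, h6, h7⟩ := main f e _ hee hef hfe hg1 hg2
    refine ⟨h5, ?_⟩
    rw [h6, h7]
    let E := (LinearMap.range e).toAddSubgroup
    let F := (LinearMap.range f).toAddSubgroup
    let F2 := (LinearMap.range (f * f)).toAddSubgroup
    have hFE : F ≤ E := by
      rintro _ ⟨y, rfl⟩
      exact ⟨f y, by rw [← Module.End.mul_apply, hef]⟩
    have hF2F : F2 ≤ F := by
      rintro _ ⟨y, rfl⟩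
      exact ⟨f y, rfl⟩
    have hrr : LinearMap.range (f * f) = LinearMap.range (((3 : ℕ) : ℤ_[3]) • e) := by
      have hff : f * f = -((3 : ℤ_[3]) • e * (f + 1)) := by
        rw [smul_mul_assoc, mul_add, hef, mul_one, smul_add, h3e]
        abel
      rw [hff, LinearMap.range_neg, Nat.cast_ofNat, ← hAf, Module.End.mul_eq_comp, LinearMap.range_comp,
        LinearEquiv.range, Submodule.map_top]
    have hEF : F2.relIndex E = 3 ^ Module.finrank ℤ_[3] (LinearMap.range e) := by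
      show (LinearMap.range (f * f)).toAddSubgroup.relIndex E = _
      rw [hrr, relIndex_smul]
    have hFF : F2.relIndex F = F.relIndex E := by
      let φ : E →+ M := f.toAddMonoidHom.comp E.subtype
      have hinj : Function.Injective φ := by
        rw [injective_iff_map_eq_zero]
        rintro ⟨_, y, rfl⟩ hy
        apply Subtype.ext
        show e y = 0
        have hy' : f (e y) = 0 := hy
        have h3y : (3 : ℤ_[3]) • e (e y) = 0 := by
          have := congr_arg (fun q : Module.End ℤ_[3] M => q (e y)) hg2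
          simp only [Module.End.mul_apply, LinearMap.smul_apply, hy', map_zero, Nat.cast_ofNat] at this
          exact this
        rw [← Module.End.mul_apply, hee] at h3y
        exact (smul_eq_zero.1 h3y).resolve_left hone
      have h1 : F = (⊤ : AddSubgroup E).map φ := by
        ext z
        constructor
        · rintro ⟨y, rfl⟩
          exact ⟨⟨e y, y, rfl⟩, trivial, by show f (e y) = f y; rw [← Module.End.mul_apply, hfe]⟩
        · rintro ⟨y, -, rfl⟩
          exact ⟨y.1, rfl⟩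
      have h2 : F2 = (F.addSubgroupOf E).map φ := by
        ext z
        constructor
        · rintro ⟨y, rfl⟩
          exact ⟨⟨f y, hFE ⟨y, rfl⟩⟩, ⟨y, rfl⟩, rfl⟩
        · rintro ⟨y, ⟨w, hw⟩, rfl⟩
          exact ⟨w, congr_arg f hw⟩
      have h := AddSubgroup.relIndex_map_map_of_injective (F.addSubgroupOf E) ⊤ (f := φ) hinj
      rw [← h1, ← h2, AddSubgroup.relIndex_top_right] at h
      exact h
    obtain ⟨r, -, hr⟩ := (Nat.dvd_prime_pow (Fact.out : Nat.Prime 3)).1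
      (Dvd.intro_left _ ((AddSubgroup.relIndex_mul_relIndex _ _ _ hF2F hFE).trans hEF))
    refine ⟨r, ?_, hr⟩
    have h8 := (AddSubgroup.relIndex_mul_relIndex _ _ _ hF2F hFE).trans hEF
    rw [hFF, hr, ← pow_add] at h8
    have := Nat.pow_right_injective (le_refl 2 |>.trans (by norm_num : (2:ℕ) ≤ 3)) h8
    omega

end Groth.Agent.S18599
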