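import Groth.Statements.S1860
import Groth.Agent.CycLib.CurveDeg

set_option autoImplicit false
universe u
open CategoryTheory AlgebraicGeometry
open Cyc

namespace Groth.Agent.S1860

/-- Let X be an integral scheme of dimension 1 with a proper morphism c to Spec K, K a field, and f a
nonzero rational function on X. Then Σ_x [κ(x) : K] · ord_{O_{X,x}}(f) = 0, the sum over the closed
points x of X (a finite sum). -/
theorem result (K : Type u) [Field K] (X : Scheme.{u}) [IsIntegral X] (c : X ⟶ Spec (CommRingCat.of K)) [IsProper c] (hdim : topologicalKrullDim X = 1) (f : X.functionField) (hf : f ≠ 0) : ∑ᶠ (x : X) (_ : IsClosed ({x} : Set X)), (c.residueDegree x : ℤ) * CycAlg.ordFrac (X.presheaf.stalk x) X.functionField f = 0 := by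
  classical
  haveI := LocallyOfFiniteType.isLocallyNoetherian c
  have hd := CycLib.isDimFun_fdelta K c
  set η := genericPoint X
  have hη : CycLib.fdelta K c η = 1 := CycLib.fdelta_genericPoint K c hdim
  have hsp : ∀ x : X, η ⤳ x := genericPoint_specializes
  have hbij : Function.Bijective (X.residue η).hom :=
    ⟨(X.residue η).hom.injective (R := X.functionField), IsLocalRing.residue_surjective⟩
  let g : X.residueField η := X.residue η f
  have hg : g ≠ 0 := fun h => hf (hbij.1 (h.trans (map_zero (X.residue η).hom).symm))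
  obtain ⟨α, hα⟩ := CycLib.exists_cycle_finsum_divFun hd (fun _ : PUnit.{u + 1} => η) (fun _ => g)
    (fun _ => hg) (fun x => ⟨Set.univ, isOpen_univ, trivial, Set.toFinite _⟩)
  replace hα : ⇑α = Cyc.divFun (CycLib.fdelta K c) η g := funext fun x => (hα x).trans (finsum_unique _)
  have key := CycLib.map_divFun_eq_zero_of_field K c η hη hg α hα (default : PrimeSpectrum K)
  have hord : ∀ x : X, IsClosed ({x} : Set X) →
      Cyc.divFun (CycLib.fdelta K c) η g x = CycAlg.ordFrac (X.presheaf.stalk x) X.functionField f := by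
    intro x hx
    have h0 := (CycLib.fdelta_eq_zero_iff K c x).2 hx
    have h1 : CycLib.fdelta K c x + 1 = CycLib.fdelta K c η := by omega
    rw [Cyc.divFun, dif_pos ⟨hsp x, h1⟩]
    haveI := CycLib.locQuot_isDomain x η (hsp x)
    haveI := CycLib.locQuot_isFractionRing x η (hsp x)
    haveI := CycLib.locQuot_isNoetherianRing x η (hsp x)
    haveI := CycLib.locQuot_krullDimLE_one hd x η (hsp x) h1
    let π := Ideal.Quotient.mk (RingHom.ker (Cyc.specMap x η (hsp x)))
    have hπ : Function.Bijective π := by
      refine ⟨(injective_iff_map_eq_zero π).2 fun a ha => ?_, Ideal.Quotient.mk_surjective⟩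
      have h2 := RingHom.mem_ker.1 (Ideal.Quotient.eq_zero_iff_mem.1 ha)
      exact IsFractionRing.injective (X.presheaf.stalk x) X.functionField
        ((hbij.1 (h2.trans (map_zero (X.residue η).hom).symm)).trans (map_zero _).symm)
    haveI : Ring.KrullDimLE 1 (X.presheaf.stalk x) := Ring.krullDimLE_iff.2
      ((ringKrullDim_eq_of_ringEquiv (RingEquiv.ofBijective π hπ)).trans_le
        (Ring.krullDimLE_iff.1 ‹Ring.KrullDimLE 1 (Cyc.LocQuot x η (hsp x))›))
    exact (CycLib.ordFrac_congr (RingEquiv.ofBijective π hπ) (RingEquiv.ofBijective _ hbij)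
      (fun _ => rfl) hf).symm
  have hne : ∀ x, α x ≠ 0 → IsClosed ({x} : Set X) := fun x hx => by
    have hc : η ⤳ x ∧ CycLib.fdelta K c x + 1 = CycLib.fdelta K c η := by
      by_contra hn
      exact hx (by rw [hα]; exact dif_neg hn)
    exact (CycLib.fdelta_eq_zero_iff K c x).1 (by omega)
  let S := (CycLib.finite_fibre_support c α (default : PrimeSpectrum K)).toFinset
  rw [CycLib.map_apply_eq_sum c _ _ α _ S (fun x h1 h2 => (Set.Finite.mem_toFinset _).2 ⟨h1, h2⟩),
    Finset.filter_true_of_mem fun x hx => ((Set.Finite.mem_toFinset _).1 hx).1] at key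
  rw [← key]
  refine (finsum_eq_sum_of_support_subset _ (s := S) fun x hx => ?_).trans (Finset.sum_congr rfl fun x hx => ?_)
  · simp only [Function.mem_support] at hx
    by_cases hc : IsClosed ({x} : Set X)
    · rw [finsum_eq_if, if_pos hc] at hx
      refine (Set.Finite.mem_toFinset _).2 ⟨Subsingleton.elim (α := PrimeSpectrum K) _ _, ?_⟩
      rw [hα, hord x hc]
      exact right_ne_zero_of_mul hx
    · rw [finsum_eq_if, if_neg hc] at hx
      exact absurd rfl hx
  · have hc := hne x ((Set.Finite.mem_toFinset _).1 hx).2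
    rw [finsum_eq_if, if_pos hc, AlgebraicCycle.mapCoeff,
      if_pos (((CycLib.fdelta_eq_zero_iff K c x).2 hc).trans (CycLib.fdelta_id K _).symm), hα, hord x hc, mul_comm]

end Groth.Agent.S1860
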