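import Groth.Statements.S18600
import Mathlib.LinearAlgebra.Matrix.Charpoly.Coeff
import Mathlib.Algebra.Polynomial.Expand
import Mathlib.NumberTheory.Padics.PadicIntegers
import Mathlib.Data.Nat.Factorization.Basic
import Mathlib.RingTheory.IntegralClosure.IsIntegralClosure.Basic
import Mathlib.Tactic.LinearCombination
import Mathlib.Tactic.FieldSimp
-- import your own Groth.Agent.* helpers here

set_option autoImplicit false
universe v
open SSRed

namespace Groth.Agent.S18600
open Polynomial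

theorem charpoly_comp {R : Type*} [CommRing R] {g : ℕ} (M : Matrix (Fin g) (Fin g) R) (q : R[X]) :
    M.charpoly.comp q = (Matrix.scalar (Fin g) q - M.map C).det := by
  rw [← Matrix.eval_charpoly, Matrix.charpoly_map, eval_map]
  rfl

theorem charpoly_smul_comp {R : Type*} [CommRing R] {g : ℕ} (c : R) (B : Matrix (Fin g) (Fin g) R) :
    (c • B).charpoly.comp (C c * X) = C (c ^ Fintype.card (Fin g)) * B.charpoly := by
  have e : Matrix.scalar (Fin g) (C c * X) - (c • B).map C =
      C c • (Matrix.scalar (Fin g) X - B.map C) := by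
    ext i j
    by_cases h : i = j <;> simp [Matrix.scalar_apply, h, mul_sub]
  have h := charpoly_comp B X
  rw [comp_X] at h
  rw [charpoly_comp, e, Matrix.det_smul, map_pow, h]

theorem det_sq_sub {R : Type*} [CommRing R] {g : ℕ} (A : Matrix (Fin g) (Fin g) R) :
    (Matrix.scalar (Fin g) (X ^ 2 : R[X]) - ((A - 1) ^ 2).map C).det =
      C ((Int.castRingHom R) ((-1) ^ g)) * (Matrix.scalar (Fin g) (1 + X) - A.map C).det *
        (Matrix.scalar (Fin g) (1 - X) - A.map C).det := by
  let S : R[X] →+* Matrix (Fin g) (Fin g) R[X] := Matrix.scalar (Fin g)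
  let A' : Matrix (Fin g) (Fin g) R[X] := A.map C
  have hm : ((A - 1) ^ 2).map C = (A' - 1) ^ 2 := by
    show (C : R →+* R[X]).mapMatrix ((A - 1) ^ 2) = _
    rw [map_pow, map_sub, map_one]
    rfl
  have hc : S X * (A' - 1) = (A' - 1) * S X :=
    (Matrix.scalar_commute (X : R[X]) (fun r => Commute.all _ r) (A' - 1)).eq
  have e : S (X ^ 2) - ((A - 1) ^ 2).map C = (S (1 + X) - A') * (-(S (1 - X) - A')) := by
    rw [hm, map_pow, map_add, map_sub, map_one]
    calc S X ^ 2 - (A' - 1) ^ 2 = (S X - (A' - 1)) * (S X + (A' - 1)) := by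
          rw [sub_mul, mul_add, mul_add, hc, sq, sq]; abel
      _ = _ := by congr 1 <;> abel
  rw [e, Matrix.det_mul, Matrix.det_neg, Fintype.card_fin]
  simp only [map_pow, map_neg, map_one]
  ring

/-- Let n be a positive integer, g a natural number and f ∈ ℤ[x] a monic polynomial such that for every
prime ℓ dividing n there is a g × g matrix A_ℓ over ℤ_ℓ whose characteristic polynomial is f and
such that (A_ℓ − 1)² lies in n·M_g(ℤ_ℓ). Then for every root α of f in a field of characteristic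
zero and every square root s of n in that field, (α − 1)/s is integral over ℤ. (The published
statement is for matrices of size 2d and speaks of the eigenvalues of the A_ℓ, which are the roots
of their common characteristic polynomial f; the parity of the size plays no role.) -/
theorem result (n : ℕ) (hn : 0 < n) (g : ℕ) (f : Polynomial ℤ)
    (hf : f.Monic)
    (hA : ∀ (ℓ : ℕ) [Fact ℓ.Prime], ℓ ∣ n → ∃ A : Matrix (Fin g) (Fin g) ℤ_[ℓ],
      A.charpoly = f.map (Int.castRingHom ℤ_[ℓ]) ∧
        ∃ B : Matrix (Fin g) (Fin g) ℤ_[ℓ], (A - 1) ^ 2 = (n : ℤ_[ℓ]) • B)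
    (K : Type v) [Field K] [CharZero K] (α s : K) (hα : Polynomial.aeval α f = 0) (hs : s ^ 2 = (n : K)) :
    IsIntegral ℤ ((α - 1) / s) := by
  rcases Nat.lt_or_ge n 2 with hn2 | hn2
  · obtain rfl : n = 1 := by omega
    have hα' : IsIntegral ℤ α := ⟨f, hf, by rwa [aeval_def] at hα⟩
    rcases sq_eq_one_iff.1 (by rwa [Nat.cast_one] at hs : s ^ 2 = 1) with rfl | rfl
    · simpa using hα'.sub isIntegral_one
    · rw [div_neg, div_one]
      exact (hα'.sub isIntegral_one).neg
  let P : ℤ[X] := C ((-1 : ℤ) ^ g) * f.comp (1 + X) * f.comp (1 - X)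
  let H : ℤ[X] := contract 2 P
  have hPsymm : P.comp (C (-1) * X) = P := by
    simp only [P, mul_comp, C_comp, comp_assoc, add_comp, sub_comp, one_comp, X_comp]
    simp only [map_neg, map_one, neg_mul, one_mul, ← sub_eq_add_neg, sub_neg_eq_add]
    ring
  have hexp : expand ℤ 2 H = P := by
    ext i
    rw [coeff_expand two_pos]
    split_ifs with hi
    · rw [coeff_contract two_ne_zero, Nat.div_mul_cancel hi]
    · have h1 := congr_arg (fun q : ℤ[X] => q.coeff i) hPsymm
      simp only [comp_C_mul_X_coeff] at h1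
      rw [Odd.neg_one_pow (Nat.not_even_iff_odd.1 fun h => hi (even_iff_two_dvd.1 h))] at h1
      omega
  have hloc : ∀ (ℓ : ℕ) [Fact ℓ.Prime], ℓ ∣ n → (H.Monic ∧ H.natDegree = g) ∧
      ∀ i, ((n : ℤ_[ℓ]) ^ g) ∣ ((H.coeff i * (n : ℤ) ^ i : ℤ) : ℤ_[ℓ]) := by
    intro ℓ _ hℓ
    obtain ⟨A, hA1, B, hB⟩ := hA ℓ hℓ
    have hmap : H.map (Int.castRingHom ℤ_[ℓ]) = ((n : ℤ_[ℓ]) • B).charpoly := by
      apply expand_injective (R := ℤ_[ℓ]) two_pos
      rw [← map_expand, hexp, expand_eq_comp_X_pow, charpoly_comp, ← hB]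
      simp only [P, Polynomial.map_mul, Polynomial.map_C, map_comp, Polynomial.map_add,
        Polynomial.map_sub, Polynomial.map_one, Polynomial.map_X, ← hA1, charpoly_comp]
      exact (det_sq_sub A).symm
    have hinj : Function.Injective (Int.castRingHom ℤ_[ℓ]) := Int.cast_injective
    refine ⟨⟨monic_of_injective hinj (hmap ▸ Matrix.charpoly_monic _), ?_⟩, fun i => ?_⟩
    · rw [← natDegree_map_eq_of_injective hinj H, hmap, Matrix.charpoly_natDegree_eq_dim, Fintype.card_fin]
    · refine ⟨B.charpoly.coeff i, ?_⟩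
      have h1 := congr_arg (fun q : ℤ_[ℓ][X] => q.coeff i) (charpoly_smul_comp (n : ℤ_[ℓ]) B)
      simp only [comp_C_mul_X_coeff, coeff_C_mul, Fintype.card_fin] at h1
      rw [← hmap, coeff_map] at h1
      push_cast
      exact h1
  have hdiv : ∀ i, ((n : ℤ) ^ g) ∣ H.coeff i * (n : ℤ) ^ i := by
    intro i
    rw [← Int.natCast_pow, Int.natCast_dvd, Nat.dvd_iff_prime_pow_dvd_dvd]
    intro p k hp hpk
    rcases Nat.eq_zero_or_pos k with rfl | hk
    · simp
    haveI := Fact.mk hp
    have hpn : p ∣ n := hp.dvd_of_dvd_pow ((dvd_pow_self p hk.ne').trans hpk)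
    have h1 := (hloc p hpn).2 i
    have h2 : ((p : ℤ_[p]) ^ k) ∣ (n : ℤ_[p]) ^ g := by
      rw [← Nat.cast_pow, ← Nat.cast_pow]
      exact Nat.cast_dvd_cast (α := ℤ_[p]) hpk
    rw [← Int.natCast_dvd, Nat.cast_pow]
    exact (PadicInt.pow_p_dvd_int_iff _ _).1 (h2.trans h1)
  obtain ⟨ℓ, hℓp, hℓ⟩ := Nat.exists_prime_and_dvd (by omega : n ≠ 1)
  haveI := Fact.mk hℓp
  obtain ⟨hmon, hdeg⟩ := (hloc ℓ hℓ).1
  choose b hb using hdiv
  let G : ℤ[X] := ∑ i ∈ Finset.range (g + 1), monomial i (b i)
  have hnz : (n : ℤ) ≠ 0 := by omega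
  have hG : G.Monic := by
    refine monic_of_natDegree_le_of_coeff_eq_one g ?_ ?_
    · refine natDegree_sum_le_of_forall_le _ _ fun i hi => (natDegree_monomial_le _).trans ?_
      simp only [Finset.mem_range] at hi
      omega
    · simp only [G, finsetSum_coeff, coeff_monomial, Finset.sum_ite_eq', Finset.mem_range,
        Nat.lt_succ_self, if_true]
      have h1 := hb g
      rw [← hdeg, hmon.coeff_natDegree, hdeg, one_mul] at h1
      exact (mul_left_cancel₀ (pow_ne_zero g hnz) (h1.symm.trans (mul_one _).symm))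
  have hγ : IsIntegral ℤ ((α - 1) ^ 2 / (n : K)) := by
    refine ⟨G, hG, ?_⟩
    have hnK : (n : K) ≠ 0 := by exact_mod_cast (by omega : n ≠ 0)
    have h0 : aeval ((α - 1) ^ 2) H = 0 := by
      rw [← expand_aeval, hexp]
      simp [P, aeval_comp, hα]
    rw [← aeval_def]
    refine (mul_eq_zero.1 (?_ : (n : K) ^ g * aeval ((α - 1) ^ 2 / (n : K)) G = 0)).resolve_left
      (pow_ne_zero g hnK)
    rw [← h0, aeval_eq_sum_range' (p := H) (n := g + 1) (by omega)]
    simp only [G, map_sum, aeval_monomial, Finset.mul_sum, algebraMap_int_eq, eq_intCast,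
      zsmul_eq_mul]
    refine Finset.sum_congr rfl fun i _ => ?_
    have h1 : ((H.coeff i : K)) * (n : K) ^ i = (n : K) ^ g * (b i : K) := by exact_mod_cast hb i
    rw [div_pow _ _ i]
    field_simp
    linear_combination -((α - 1) ^ 2) ^ i * h1
  rw [← hs, ← div_pow] at hγ
  exact IsIntegral.of_pow two_pos hγ

end Groth.Agent.S18600
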