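import Groth.Statements.S18614
import Mathlib.LinearAlgebra.Dual.Lemmas
import Mathlib.Topology.LocallyConstant.Basic

set_option autoImplicit false
universe u v
open LinTop

namespace Groth.Agent.S18614

/-- Let k be a field carrying the discrete topology and M a separated topological k-module with a
k-linear topology (the open k-submodules form a basis of neighbourhoods of zero and M is a
topological additive group). For a closed submodule M₁, the perpendicular of the perpendicular of
M₁, both taken with respect to the pairing of M with its continuous dual (the continuous k-linear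
maps M → k), is M₁ itself: an element killed by every continuous functional vanishing on M₁ belongs
to M₁. -/
theorem result (k : Type u) (M : Type v) [Field k]
    [TopologicalSpace k] [DiscreteTopology k] [AddCommGroup M] [Module k M] [TopologicalSpace M]
    [IsTopologicalAddGroup M] [IsLinearTopology k M] [T2Space M]
    (M₁ : Submodule k M) (hM₁ : IsClosed (M₁ : Set M)) (x : M)
    (hx : ∀ φ : M →L[k] k, (∀ m ∈ M₁, φ m = 0) → φ x = 0) : x ∈ M₁ := by
  by_contra hxM
  obtain ⟨U, hU, hUs⟩ := (IsLinearTopology.hasBasis_open_submodule k).mem_iff.1
    ((Continuous.tendsto' (by fun_prop : Continuous fun y : M => x - y) (0 : M) x (sub_zero x))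
      (hM₁.isOpen_compl.mem_nhds hxM))
  have hx' : x ∉ M₁ ⊔ U := fun h => by
    obtain ⟨m, hm, u, hu, rfl⟩ := Submodule.mem_sup.1 h
    exact hUs hu (by simpa using hm)
  obtain ⟨f, hfx, hf'⟩ := Submodule.exists_dual_map_eq_bot_of_notMem hx' inferInstance
  have hf : M₁ ⊔ U ≤ LinearMap.ker f := LinearMap.le_ker_iff_map.2 hf'
  let φ : M →L[k] k := ⟨f, (IsLocallyConstant.iff_eventually_eq _).2 (fun y => by
    have hc : Filter.Tendsto (fun z : M => z - y) (nhds y) (nhds 0) :=
      Continuous.tendsto' (by fun_prop) _ _ (sub_self y)
    filter_upwards [hc (hU.mem_nhds U.zero_mem)] with z hz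
    exact sub_eq_zero.1 ((map_sub f z y).symm.trans (hf (Submodule.mem_sup_right hz)))) |>.continuous⟩
  exact hfx (hx φ fun m hm => hf (Submodule.mem_sup_left hm))

end Groth.Agent.S18614
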