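import Groth.Statements.S18615
import Mathlib.LinearAlgebra.Basis.VectorSpace
import Mathlib.LinearAlgebra.Isomorphisms
import Mathlib.Topology.LocallyConstant.Basic

set_option autoImplicit false
universe u v
open LinTop

namespace Groth.Agent.S18615

/-- Let k be a field carrying the discrete topology and M a separated topological k-module with a
k-linear topology (open k-submodules form a basis of neighbourhoods of zero, M a topological
additive group). For closed submodules M₁ ⊆ M₂ there is a short exact sequence 0 → M₂^⊥ → M₁^⊥ →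
(M₂/M₁)^* → 0 of plain k-modules, where ⊥ denotes the annihilator in the continuous dual of M and *
the continuous dual. Stated here as its one non-formal part, surjectivity on the right: every
continuous functional on M₂ (subspace topology) that vanishes on M₁ is the restriction of a
continuous functional on M vanishing on M₁ (continuous functionals on M₂/M₁ being the continuous
functionals on M₂ that kill M₁). -/
theorem result (k : Type u) (M : Type v) [Field k]
    [TopologicalSpace k] [DiscreteTopology k] [AddCommGroup M] [Module k M] [TopologicalSpace M]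
    [IsTopologicalAddGroup M] [IsLinearTopology k M] [T2Space M]
    (M₁ M₂ : Submodule k M) (h₁₂ : M₁ ≤ M₂) (hM₁ : IsClosed (M₁ : Set M))
    (hM₂ : IsClosed (M₂ : Set M)) (ψ : M₂ →L[k] k)
    (hψ : ∀ m : M₂, (m : M) ∈ M₁ → ψ m = 0) :
    ∃ φ : M →L[k] k, (∀ m ∈ M₁, φ m = 0) ∧ ∀ m : M₂, φ (m : M) = ψ m := by
  obtain ⟨V, hV, hVW⟩ := mem_nhds_subtype (M₂ : Set M) (0 : M₂) ((ψ : M₂ → k) ⁻¹' {0}) |>.1
    ((ψ.continuous.tendsto' 0 0 (map_zero ψ)) ((isOpen_discrete {(0 : k)}).mem_nhds rfl))
  obtain ⟨U, hU, hUV⟩ := (IsLinearTopology.hasBasis_open_submodule k).mem_iff.1 hV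
  let q := (M₁ ⊔ U).mkQ
  let g : M₂ →ₗ[k] M ⧸ (M₁ ⊔ U) := q.comp M₂.subtype
  have hg : g.ker ≤ (ψ : M₂ →ₗ[k] k).ker := by
    intro m hm
    obtain ⟨a, ha, u, hu, he⟩ := Submodule.mem_sup.1
      ((Submodule.Quotient.mk_eq_zero _).1 (hm : q (m : M) = 0))
    have hu2 : u ∈ M₂ := by
      have h := M₂.sub_mem m.2 (h₁₂ ha)
      have e : (m : M) - a = u := sub_eq_iff_eq_add'.2 (by simpa using he.symm)
      rwa [e] at h
    have hsplit : m = ⟨a, h₁₂ ha⟩ + ⟨u, hu2⟩ := Subtype.ext he.symm
    change ψ m = 0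
    rw [hsplit, map_add, hψ ⟨a, h₁₂ ha⟩ ha, zero_add]
    exact hVW (a := ⟨u, hu2⟩) (hUV hu)
  obtain ⟨h, hh⟩ := LinearMap.exists_extend
    (((Submodule.liftQ _ _ hg).comp g.quotKerEquivRange.symm.toLinearMap))
  have hval : ∀ m : M₂, h (q (m : M)) = ψ m := fun m => by
    have := LinearMap.congr_fun hh ⟨g m, LinearMap.mem_range_self g m⟩
    simp only [LinearMap.comp_apply, LinearEquiv.coe_coe] at this
    rw [show g.quotKerEquivRange.symm ⟨g m, _⟩ = Submodule.Quotient.mk m from
      g.quotKerEquivRange_symm_apply_image m _] at this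
    exact this
  have hker : ∀ z ∈ M₁ ⊔ U, h (q z) = 0 := fun z hz => by
    rw [show q z = 0 from (Submodule.Quotient.mk_eq_zero _).2 hz, map_zero]
  refine ⟨⟨h.comp q, ?_⟩, fun m hm => hker m (Submodule.mem_sup_left hm), hval⟩
  refine ((IsLocallyConstant.iff_eventually_eq _).2 (fun y => ?_)).continuous
  have hc : Filter.Tendsto (fun z : M => z - y) (nhds y) (nhds 0) :=
    Continuous.tendsto' (by fun_prop) _ _ (sub_self y)
  filter_upwards [hc (hU.mem_nhds U.zero_mem)] with z hz
  exact sub_eq_zero.1 ((map_sub (h.comp q) z y).symm.trans (hker _ (Submodule.mem_sup_right hz)))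

end Groth.Agent.S18615
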