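import Groth.Statements.S1862
import Groth.Agent.CycLib.Residue
-- import your own Groth.Agent.* helpers here

set_option autoImplicit false
universe u
open CategoryTheory AlgebraicGeometry
open Cyc

namespace Groth.Agent.S1862

/-- Let f : X → Y be a morphism locally of finite type of integral schemes with δX(η_X) = δY(η_Y). Then
either the image of f is not dense, or f maps the generic point to the generic point and the induced
extension of residue fields there (the function fields) is finite. Here a pair (X, δ) with
Cyc.IsSetup plays the role of a scheme locally of finite type over a fixed base with a dimension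
function (X locally Noetherian with universally catenary local rings, δ a dimension function), and
Cyc.DeltaCompat records that the dimension function upstairs is the induced one. -/
theorem result (X Y : Scheme.{u}) [IsIntegral X] [IsIntegral Y] (δX : X → ℤ) (δY : Y → ℤ) (hX : Cyc.IsSetup X δX) (hY : Cyc.IsSetup Y δY) (f : X ⟶ Y) [LocallyOfFiniteType f] (hδ : Cyc.DeltaCompat f δX δY) (heq : δX (genericPoint X) = δY (genericPoint Y)) : ¬ Dense (Set.range f) ∨ (f (genericPoint X) = genericPoint Y ∧ (f.residueFieldMap (genericPoint X)).hom.Finite) := by
  by_cases hd : Dense (Set.range f)
  · right
    have hgen : f (genericPoint X) = genericPoint Y := by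
      refine IsGenericPoint.eq ?_ (genericPoint_spec Y)
      rw [IsGenericPoint]
      refine Set.Subset.antisymm (Set.subset_univ _) ?_
      rw [← hd.closure_eq]
      refine closure_minimal ?_ isClosed_closure
      rintro _ ⟨x, rfl⟩
      exact specializes_iff_mem_closure.1 ((genericPoint_specializes x).map f.continuous)
    exact ⟨hgen, Groth.Agent.CycLib.residueFieldMap_finite_of_delta_eq f hδ _ (by rw [heq, hgen])⟩
  · exact Or.inl hd

end Groth.Agent.S1862
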