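import Groth.Statements.S18621
import Groth.Agent.BigVol.Basic
import Groth.Agent.S2348
import Groth.Agent.S3861
import Groth.Agent.S8852
import Groth.Agent.IdealSh.IdealMod
import Groth.Agent.BlowUpProper.Basic
import Groth.Agent.VBStable.Main
import Groth.Agent.FDesc.Stalk
import Groth.Agent.FormalFun.TowerVan
import Groth.Agent.FFCurve.Nondegenerate
import Groth.Agent.S14518
import Groth.Agent.S10829
import Groth.Agent.VBLib.RR
-- import your own Groth.Agent.* helpers here

set_option autoImplicit false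
set_option linter.style.haveILetI false
set_option backward.isDefEq.respectTransparency.types false
universe u
open VBPn

namespace Groth.Agent.S18621

open TopologicalSpace CategoryTheory CategoryTheory.Limits AlgebraicGeometry

/-- The reduced ideal of a disjoint union is the product of the reduced ideals. -/
theorem vanishingIdeal_mul {Y : Scheme.{u}} (A B C : TopologicalSpace.Closeds Y)
    (hU : (C : Set Y) = (A : Set Y) ∪ B) (hd : Disjoint (A : Set Y) B) :
    Scheme.IdealSheafData.vanishingIdeal C =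
      Scheme.IdealSheafData.vanishingIdeal A * Scheme.IdealSheafData.vanishingIdeal B := by
  refine Scheme.IdealSheafData.ext (funext fun U => ?_)
  rw [Scheme.IdealSheafData.ideal_mul, Pi.mul_apply]
  simp only [Scheme.IdealSheafData.vanishingIdeal_ideal]
  rw [hU, Set.preimage_union, PrimeSpectrum.vanishingIdeal_union, Ideal.mul_eq_inf_of_coprime]
  rw [← PrimeSpectrum.zeroLocus_empty_iff_eq_top, PrimeSpectrum.zeroLocus_sup,
    PrimeSpectrum.zeroLocus_vanishingIdeal_eq_closure, PrimeSpectrum.zeroLocus_vanishingIdeal_eq_closure]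
  refine (congrArg₂ (· ∩ ·) (A.isClosed.preimage U.2.fromSpec.continuous).closure_eq
    (B.isClosed.preimage U.2.fromSpec.continuous).closure_eq).trans ?_
  rw [← Set.preimage_inter, Set.disjoint_iff_inter_eq_empty.1 hd, Set.preimage_empty]
  rfl

theorem sub_tensorList {X : Scheme.{u}} : ∀ l : List X.Modules,
    (∀ M ∈ l, PicF.IsInvertible M ∧ BigVol.Sub M (Coh.structureModule X)) →
    PicF.IsInvertible (FGA.tensorList l) ∧ BigVol.Sub (FGA.tensorList l) (Coh.structureModule X)
  | [], _ => ⟨LFFrame.isInvertible_structureModule X, BigVol.Sub.of_iso (Iso.refl _)⟩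
  | M :: l, h => by
    obtain ⟨hM, hMs⟩ := h M (List.mem_cons_self ..)
    obtain ⟨hl, hls⟩ := sub_tensorList l fun N hN => h N (List.mem_cons_of_mem _ hN)
    exact ⟨AmpleLib.isInvertible_tensorMod hM hl,
      (hMs.tensor₂ hl (LFFrame.isInvertible_structureModule X) (LFFrame.isInvertible_structureModule X) hls).iso
        (ProjTwist.tensOne _)⟩

theorem sub_pow {X : Scheme.{u}} {M : X.Modules} (hM : PicF.IsInvertible M)
    (h : BigVol.Sub M (Coh.structureModule X)) : ∀ j : ℕ, BigVol.Sub (CohB1.tensorPow M j) (Coh.structureModule X)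
  | 0 => BigVol.Sub.of_iso (Iso.refl _)
  | j + 1 => ((sub_pow hM h j).tensor₂ hM (LFFrame.isInvertible_structureModule X)
      (LFFrame.isInvertible_structureModule X) h).iso (ProjTwist.tensOne _)

end Groth.Agent.S18621

namespace Groth.Agent.S18621

open CategoryTheory CategoryTheory.Limits AlgebraicGeometry TopologicalSpace in
/-- Let k be an algebraically closed field of characteristic zero, n ≥ 3, Z = {p_1, …, p_s} distinct
closed points of P^n_k and π : X → P^n_k a blow-up of P^n_k in the ideal of the reduced set Z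
(universal property). Write O_X(e₀) = π^*O(1), let e_t be the exceptional divisor over p_t, with
ideal sheaf the inverse image of the ideal of p_t, and for c ∈ ℤ and integers d_t ≥ 0 put O_X(c e₀ −
Σ d_t e_t) = π^*O(c) ⊗ ⨂_t (ideal of e_t)^{⊗ d_t}. If c < 0 then H^0(X, O_X(c e₀ − Σ d_t e_t)) = 0.
(Stated for d_t ≥ 0, the case in which the text identifies these groups with the cohomology of a
twisted ideal sheaf of a fat point scheme in P^n.) -/
theorem result (k : Type u) [Field k] [IsAlgClosed k] [CharZero k]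
    (n : ℕ) (hn : 3 ≤ n) (s : ℕ) (P : Fin s → ↥(CohB1.ProjSpace n k)) (hP : Function.Injective P)
    (hPc : ∀ i, IsClosed ({P i} : Set ↥(CohB1.ProjSpace n k))) (hZ : IsClosed (Set.range P))
    (X : Scheme.{u}) (π : X ⟶ CohB1.ProjSpace n k)
    (hπ : BlowUp.IsBlowUp π (Scheme.IdealSheafData.vanishingIdeal ⟨Set.range P, hZ⟩))
    (c : ℤ) (hc : c < 0) (d : Fin s → ℕ) :
    Subsingleton (Coh.HH X (CohB1.tensorMod ((Scheme.Modules.pullback π).obj (Twist.twistProjSpace n k c))
        (FGA.multiTwist (fun t : Fin s =>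
          ClSub.idealMod ((Scheme.IdealSheafData.vanishingIdeal ⟨{P t}, hPc t⟩).comap π)) d)) 0) := by
  let PN := CohB1.ProjSpace n k
  haveI : IsIntegral PN := Groth.Agent.VBStable.isIntegral_projSpace k n
  set IZ := Scheme.IdealSheafData.vanishingIdeal ⟨Set.range P, hZ⟩ with hIZ
  have hne : IZ ≠ ⊥ := by
    intro h
    have h1 : Set.range P = Set.univ := by
      have := congrArg (fun J : PN.IdealSheafData => (J.support : Set PN)) h
      simpa [hIZ] using this
    obtain ⟨t, ht⟩ : genericPoint PN ∈ Set.range P := h1 ▸ Set.mem_univ _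
    have h2 : closure ({genericPoint PN} : Set PN) = Set.univ := (genericPoint_spec PN).def
    rw [← ht, (hPc t).closure_eq] at h2
    haveI : Subsingleton PN := ⟨fun a b => by
      have ha : a ∈ ({P t} : Set PN) := h2 ▸ Set.mem_univ a
      have hb : b ∈ ({P t} : Set PN) := h2 ▸ Set.mem_univ b
      rw [Set.mem_singleton_iff.1 ha, Set.mem_singleton_iff.1 hb]⟩
    have h3 := Groth.Agent.S10829.result k n
    haveI : DiscreteTopology PN := inferInstance
    have h4 : topologicalKrullDim PN ≤ 0 := topologicalKrullDim_zero_of_discreteTopology _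
    rw [h3] at h4
    have : n ≤ 0 := by exact_mod_cast h4
    omega
  obtain ⟨hXi, hgen, -⟩ := Groth.Agent.S2348.result IZ hne π hπ
  haveI := hXi
  letI : PN.Over (Spec (CommRingCat.of k)) := ⟨CohB1.ProjSpace.toSpec n k⟩
  haveI hPp : IsProper (CohB1.ProjSpace.toSpec n k) := Groth.Agent.ProjProper.Basic.isProper_toSpec n k
  haveI : IsProper (PN ↘ Spec (CommRingCat.of k)) := hPp
  haveI := Groth.Agent.EulerChar.isNoetherian k (X := PN)
  haveI : IsProper π := Groth.Agent.BlowUpProper.Basic.isProper hπ (fun U => (haveI := IsLocallyNoetherian.component_noetherian U; IsNoetherian.noetherian _))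
  letI : X.Over (Spec (CommRingCat.of k)) := ⟨π ≫ CohB1.ProjSpace.toSpec n k⟩
  haveI : IsProper (X ↘ Spec (CommRingCat.of k)) := inferInstanceAs (IsProper (π ≫ CohB1.ProjSpace.toSpec n k))
  haveI := Groth.Agent.EulerChar.isNoetherian k (X := X)
  have hJ : ∀ t, BlowUp.IsEffCartierIdeal ((Scheme.IdealSheafData.vanishingIdeal ⟨{P t}, hPc t⟩).comap π) := by
    intro t
    have hR : IsClosed (P '' {i | i ≠ t}) := by
      rw [← Set.biUnion_of_singleton (P '' {i | i ≠ t})]
      exact ((Set.toFinite _).image P).isClosed_biUnion fun x hx => by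
        obtain ⟨i, -, rfl⟩ := hx; exact hPc i
    have hh := hπ.1
    rw [hIZ, vanishingIdeal_mul ⟨{P t}, hPc t⟩ ⟨_, hR⟩ ⟨Set.range P, hZ⟩ ?_ ?_, Groth.Agent.S3861.result] at hh
    · exact (Groth.Agent.S8852.result _ _ hh).1
    · ext x
      constructor
      · rintro ⟨i, rfl⟩
        by_cases h : i = t
        · exact Or.inl (h ▸ rfl)
        · exact Or.inr ⟨i, h, rfl⟩
      · rintro (h | ⟨i, -, rfl⟩)
        · exact ⟨t, h.symm⟩
        · exact ⟨i, rfl⟩
    · exact Set.disjoint_singleton_left.2 fun ⟨i, hi, he⟩ => hi (hP he)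
  let O := Coh.structureModule X
  have hO := Groth.Agent.LFFrame.isInvertible_structureModule X
  obtain ⟨hB, hBs⟩ := sub_tensorList ((List.finRange s).map fun t => CohB1.tensorPow
      (ClSub.idealMod ((Scheme.IdealSheafData.vanishingIdeal ⟨{P t}, hPc t⟩).comap π)) (d t)) (by
    intro M hM
    obtain ⟨t, -, rfl⟩ := List.mem_map.1 hM
    have hi := Groth.Agent.IdealSh.IdealMod.isInvertible_of_isEffCartierIdeal _ (hJ t)
    exact ⟨Groth.Agent.AmpleLib.isInvertible_tensorPow hi _, sub_pow hi ⟨ClSub.idealModι _, (equalizer.ι_mono : Mono (kernel.ι (ClSub.toSubscheme ((Scheme.IdealSheafData.vanishingIdeal ⟨{P t}, hPc t⟩).comap π))))⟩ _⟩)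
  let L := (Scheme.Modules.pullback π).obj (Twist.twistProjSpace n k c)
  let M1 := (Scheme.Modules.pullback π).obj (Twist.twistProjSpace n k 1)
  have hT := fun a : ℤ => Groth.Agent.ProjTwist.isInvertible_twistProjSpace n k a
  have hL : PicF.IsInvertible L := Groth.Agent.PicCl.isInvertible_pullback π (hT c)
  have hM1 : PicF.IsInvertible M1 := Groth.Agent.PicCl.isInvertible_pullback π (hT 1)
  haveI := Groth.Agent.EulerChar.finite_HH k M1 (Groth.Agent.BigVol.isCoh_of_isInvertible hM1) 0
  have h2 : n + 1 ≤ Module.finrank k (Coh.HH X M1 0) := by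
    refine Groth.Agent.FFCurve.succ_le_h0_pullback k π rfl fun σ hσ h0 => hσ ?_
    haveI : IsIntegral PN := inferInstance
    have hfl : FlatMod.IsFinLocFree (Twist.twistProjSpace n k 1) := fun x => by
      obtain ⟨U, hx, e⟩ := Groth.Agent.ProjTwist.isFinLocFreeOfRank_one (hT 1) x
      exact ⟨U, 1, hx, e⟩
    refine Groth.Agent.S14518.eq_zero_of_germ_generic hfl (U := ⊤) trivial σ ?_
    have hflat : ∀ z : PN, z = genericPoint PN → IsField (PN.presheaf.stalk z) := fun z hz => by
      subst hz; exact Field.toIsField PN.functionField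
    have hinj := Groth.Agent.FDesc.Stalk.unitStalkHom_injective π (Twist.twistProjSpace n k 1) (genericPoint X) (by
      letI := (hflat _ hgen).toField
      letI := (π.stalkMap (genericPoint X)).hom.toAlgebra
      exact (inferInstance : Module.Flat (PN.presheaf.stalk (π (genericPoint X))) (X.presheaf.stalk (genericPoint X))))
    have key : Groth.Agent.PullStalk.Sky.germM (Twist.twistProjSpace n k 1) ⊤ (π (genericPoint X)) trivial σ = 0 := by
      apply hinj
      rw [map_zero, Groth.Agent.PullStalk.Basic.unitStalkHom_germ]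
      change Groth.Agent.PullStalk.Sky.germM _ _ _ _ (OmegaSh.pullSect π (Twist.twistProjSpace n k 1) ⊤ σ) = 0
      rw [h0]
      exact map_zero _
    have aux : ∀ y z : PN, y = z → Groth.Agent.PullStalk.Sky.germM (Twist.twistProjSpace n k 1) ⊤ y trivial σ = 0 →
        Groth.Agent.PullStalk.Sky.germM (Twist.twistProjSpace n k 1) ⊤ z trivial σ = 0 := by
      rintro y z rfl h; exact h
    exact aux _ _ hgen key
  by_contra hnon
  haveI : Nontrivial (Coh.HH X (CohB1.tensorMod L (FGA.multiTwist (fun t : Fin s =>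
      ClSub.idealMod ((Scheme.IdealSheafData.vanishingIdeal ⟨{P t}, hPc t⟩).comap π)) d)) 0) :=
    not_subsingleton_iff_nontrivial.1 hnon
  haveI := Groth.Agent.EulerChar.finite_HH k (CohB1.tensorMod L (FGA.multiTwist (fun t : Fin s =>
      ClSub.idealMod ((Scheme.IdealSheafData.vanishingIdeal ⟨{P t}, hPc t⟩).comap π)) d))
      (Groth.Agent.BigVol.isCoh_of_isInvertible (Groth.Agent.AmpleLib.isInvertible_tensorMod hL hB)) 0
  unfold FGA.multiTwist at *
  have hLs : Groth.Agent.BigVol.Sub O L :=
    (Groth.Agent.BigVol.sub_of_h0_pos k (Groth.Agent.AmpleLib.isInvertible_tensorMod hL hB) Module.finrank_pos).trans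
      (((Groth.Agent.BigVol.Sub.of_iso (Iso.refl L)).tensor₂ hB hL hO hBs).iso (Groth.Agent.ProjTwist.tensOne L))
  obtain ⟨j, rfl⟩ : ∃ j : ℕ, c = -((j : ℤ) + 1) := ⟨(-c - 1).toNat, by omega⟩
  haveI : Nontrivial (Coh.HH X M1 0) := Module.nontrivial_of_finrank_pos (R := k) (by omega)
  have hM1s : Groth.Agent.BigVol.Sub O M1 := Groth.Agent.BigVol.sub_of_h0_pos k hM1 Module.finrank_pos
  have hMj : Groth.Agent.BigVol.Sub O (CohB1.tensorPow M1 j) := by
    have := Groth.Agent.BigVol.sub_pow_mul hM1 (a := 1)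
      (hM1s.iso ((Groth.Agent.BigVol.structure_tensor hM1).some.symm)) j
    rwa [one_mul] at this
  have hMj' := Groth.Agent.AmpleLib.isInvertible_tensorPow hM1 j
  have hsub : Groth.Agent.BigVol.Sub M1 (CohB1.tensorMod L (CohB1.tensorPow M1 (j + 1))) :=
    (Groth.Agent.BigVol.Sub.of_iso ((Groth.Agent.BigVol.structure_tensor hM1).some.symm ≪≫
        (Groth.Agent.BigVol.structure_tensor (Groth.Agent.AmpleLib.isInvertible_tensorMod hO hM1)).some.symm)).trans
      (hLs.tensor₂ (Groth.Agent.AmpleLib.isInvertible_tensorMod hO hM1) hL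
        (Groth.Agent.AmpleLib.isInvertible_tensorMod hMj' hM1) (hMj.tensor hM1))
  obtain ⟨e1⟩ := Groth.Agent.FormalFun.nonempty_pullback_tensorPow π (hT 1) (j + 1)
  obtain ⟨e2⟩ := Groth.Agent.ProjTwist.Pn.tensorPow_one_iso (n := n) (k := k) (j + 1)
  obtain ⟨e3⟩ := Groth.Agent.ProjTwist.nonempty_twistProjSpace_tensor n k (-((j : ℤ) + 1)) ((j + 1 : ℕ) : ℤ)
  obtain ⟨e4⟩ := Groth.Agent.PicLaw.pullback_tensor π (hT (-((j : ℤ) + 1))) (hT ((j + 1 : ℕ) : ℤ))
  have e : CohB1.tensorMod L (CohB1.tensorPow M1 (j + 1)) ≅ O :=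
    Groth.Agent.ProjTwist.tensCongr (Iso.refl L) (e1.symm ≪≫ (Scheme.Modules.pullback π).mapIso e2) ≪≫
      e4.symm ≪≫ (Scheme.Modules.pullback π).mapIso (e3 ≪≫ eqToIso (congrArg (Twist.twistProjSpace n k) (by push_cast; ring)) ≪≫
        (Groth.Agent.ProjTwist.twistZeroIso _).symm) ≪≫ Groth.Agent.QCoh.pullbackUnitIso π
  have hle := Groth.Agent.BigVol.h0_le_of_sub k (Groth.Agent.BigVol.isCoh_of_isInvertible hO) (hsub.iso e)
  rw [Groth.Agent.BigVol.h0, Groth.Agent.BigVol.h0,
    Groth.Agent.VBLib.finrank_H0_structure_eq_one Groth.Agent.VBLib.bijective_toGlobal_of_isAlgClosed] at hle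
  omega

end Groth.Agent.S18621
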