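import Groth.Statements.S18629
import Groth.Agent.QuadP1.Lines

set_option autoImplicit false
set_option linter.style.haveILetI false
set_option backward.isDefEq.respectTransparency false
set_option backward.isDefEq.respectTransparency.types false
set_option synthInstance.maxHeartbeats 400000
universe u
open VBPn

namespace Groth.Agent.S18629

section

open CategoryTheory CategoryTheory.Limits AlgebraicGeometry TopologicalSpace
open Groth.Agent Groth.Agent.QuadP1 Groth.Agent.VBPnJump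

variable {k : Type u} [Field k]

theorem zero_of_pencil (G : (CohB1.ProjSpace 1 k).Modules ⥤ (Quad k).Modules) [G.Additive]
    (hG : ∀ {A B C : (CohB1.ProjSpace 1 k).Modules} (a : A ⟶ B) (b : B ⟶ C) (w : a ≫ b = 0),
      (ShortComplex.mk a b w).ShortExact → FlatMod.IsFinLocFree C →
        ∃ w' : G.map a ≫ G.map b = 0, (ShortComplex.mk (G.map a) (G.map b) w').ShortExact)
    {c d : Fin 2 → k} (h : c 0 * d 1 - c 1 * d 0 ≠ 0) {Z : (Quad k).Modules}
    (q : G.obj (Twist.twistProjSpace 1 k 1) ⟶ Z) (hc : G.map (lh c) ≫ q = 0) (hd : G.map (lh d) ≫ q = 0) :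
    q = 0 := by
  let D := biprod.desc (lh c) (lh d)
  haveI : Epi D := Omega.Stalks.epi_of_stalk fun y => (surj_lh_or h y).elim (surj_left _ _) (surj_right _ _)
  obtain ⟨w', hS⟩ := hG (kernel.ι D) D (kernel.condition D) (shortExact_kernel' D) (finLocFree_twist 1)
  haveI : Epi (G.map D) := hS.epi_g
  have hD : G.map D = G.map biprod.fst ≫ G.map (lh c) + G.map biprod.snd ≫ G.map (lh d) := by
    rw [← G.map_comp, ← G.map_comp, ← G.map_add, ← biprod.desc_eq]
  refine (cancel_epi (G.map D)).mp ?_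
  rw [hD, Preadditive.add_comp, Category.assoc, Category.assoc, hc, hd, comp_zero, comp_zero, add_zero, comp_zero]

theorem hMap_add' {A B : (Quad k).Modules} (f g : A ⟶ B) (z : Coh.HH (Quad k) A 0) :
    CohLin.hMap (f + g) 0 z = CohLin.hMap f 0 z + CohLin.hMap g 0 z := by
  letI := quadOver k
  show CohLES.mapL k (f + g) 0 z = CohLES.mapL k f 0 z + CohLES.mapL k g 0 z
  rw [CohLES.mapL_add, LinearMap.add_apply]

theorem sum_π_ι {r : ℕ} (C : (Quad k).Modules) :
    ∑ j, Sigma.π (fun _ : Fin r => C) j ≫ Sigma.ι (fun _ : Fin r => C) j = 𝟙 _ := by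
  classical
  refine Sigma.hom_ext _ _ fun i => ?_
  rw [Preadditive.comp_sum, Category.comp_id, Finset.sum_eq_single i]
  · rw [Sigma.ι_π_eq_id_assoc]
  · intro j _ hj
    rw [Sigma.ι_π_of_ne_assoc _ (Ne.symm hj), zero_comp]
  · simp

theorem h0_decomp {r : ℕ} (C : (Quad k).Modules) (z : Coh.HH (Quad k) (∐ fun _ : Fin r => C) 0) :
    z = ∑ j, CohLin.hMap (Sigma.ι (fun _ : Fin r => C) j) 0 (CohLin.hMap (Sigma.π (fun _ : Fin r => C) j) 0 z) := by
  letI := quadOver k
  show z = ∑ j, CohLES.mapL k (Sigma.ι (fun _ : Fin r => C) j) 0 (CohLES.mapL k (Sigma.π (fun _ : Fin r => C) j) 0 z)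
  conv_lhs => rw [← LinearMap.id_apply (R := k) z, ← CohLES.mapL_id k (∐ fun _ : Fin r => C) 0,
    ← sum_π_ι, CohLES.mapL_sum, LinearMap.sum_apply]
  exact Finset.sum_congr rfl fun j _ => by rw [CohLES.mapL_comp]; rfl

theorem sq (f g : Twist.twistProjSpace 1 k 0 ⟶ Twist.twistProjSpace 1 k 1) {Z : (Quad k).Modules}
    (h : (slot₁ (k := k) 1).obj (Twist.twistProjSpace 1 k 1) ⟶ Z) :
    (slot₂ (k := k) 0).map g ≫ (slot₁ (k := k) 1).map f ≫ h =
      (slot₁ (k := k) 0).map f ≫ (slot₂ (k := k) 1).map g ≫ h :=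
  ((Category.assoc _ _ _).symm.trans (congrArg (· ≫ h) (interchange f g).symm)).trans (Category.assoc _ _ _)

theorem mem_sq {Z : (Quad k).Modules} (R : Submodule (Coh.Γtop (Quad k)) (Coh.HH (Quad k) Z 0))
    (f g : Twist.twistProjSpace 1 k 0 ⟶ Twist.twistProjSpace 1 k 1)
    (h : (slot₁ (k := k) 1).obj (Twist.twistProjSpace 1 k 1) ⟶ Z)
    (hR : ∀ t, CohLin.hMap ((slot₂ (k := k) 1).map g ≫ h) 0 t ∈ R)
    (u : Coh.HH (Quad k) ((slot₂ (k := k) 0).obj (Twist.twistProjSpace 1 k 0)) 0) :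
    CohLin.hMap ((slot₁ (k := k) 1).map f ≫ h) 0 (CohLin.hMap ((slot₂ (k := k) 0).map g) 0 u) ∈ R := by
  have e1 : CohLin.hMap ((slot₁ (k := k) 1).map f ≫ h) 0 (CohLin.hMap ((slot₂ (k := k) 0).map g) 0 u) =
      CohLin.hMap ((slot₂ (k := k) 1).map g ≫ h) 0 (CohLin.hMap ((slot₁ (k := k) 0).map f) 0 u) :=
    ((CohLin.hMap_comp _ _ 0 u).symm.trans (congrArg (fun t => CohLin.hMap t 0 u) (sq f g h))).trans
      (CohLin.hMap_comp _ _ 0 u)
  rw [e1]
  exact hR _

set_option maxHeartbeats 1600000 in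
/-- The block matrix. -/
theorem exists_matrix (r : ℕ) [NeZero r] (e : Fin r → (Fin 2 → k))
    (he : ∀ i : Fin r, e i 0 * e (i - 1) 1 - e i 1 * e (i - 1) 0 ≠ 0) :
    ∃ m : (∐ fun _ : Fin r => (slot₂ (k := k) 1).obj (Twist.twistProjSpace 1 k 0)) ⊞
        (∐ fun _ : Fin r => (slot₁ (k := k) 1).obj (Twist.twistProjSpace 1 k 0)) ⟶
        (∐ fun _ : Fin r => (slot₁ (k := k) 1).obj (Twist.twistProjSpace 1 k 1)),
      Epi m ∧ Function.Surjective (CohLin.hMap m 0) := by
  classical
  let x₀ : Fin 2 → k := ![1, 0]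
  let x₁ : Fin 2 → k := ![0, 1]
  have hx : x₀ 0 * x₁ 1 - x₀ 1 * x₁ 0 ≠ 0 := by simp [x₀, x₁]
  let ι : Fin r → ((slot₁ (k := k) 1).obj (Twist.twistProjSpace 1 k 1) ⟶
      ∐ fun _ : Fin r => (slot₁ (k := k) 1).obj (Twist.twistProjSpace 1 k 1)) := fun i =>
    Sigma.ι (fun _ : Fin r => (slot₁ (k := k) 1).obj (Twist.twistProjSpace 1 k 1)) i
  let a : Fin r → ((slot₂ (k := k) 1).obj (Twist.twistProjSpace 1 k 0) ⟶ _) :=
    fun i => (slot₂ (k := k) 1).map (lh (e i)) ≫ ι i
  let b : Fin r → ((slot₁ (k := k) 1).obj (Twist.twistProjSpace 1 k 0) ⟶ _) :=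
    fun i => (slot₁ (k := k) 1).map (lh x₀) ≫ ι i + (slot₁ (k := k) 1).map (lh x₁) ≫ ι (i - 1)
  let m := biprod.desc (Sigma.desc a) (Sigma.desc b)
  haveI : ((DCoh.tensorBi (X := Quad k)).obj (pO (p₁ k) 0)).Additive :=
    Functor.additive_of_preserves_binary_products _
  haveI : (slot₂ (k := k) 0).Additive := inferInstance
  refine ⟨m, Preadditive.epi_of_cancel_zero _ fun {Z} q hq => ?_, fun z => ?_⟩
  · have ha : ∀ i, (slot₂ (k := k) 1).map (lh (e i)) ≫ ι i ≫ q = 0 := fun i => by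
      have := congrArg (fun t => Sigma.ι (fun _ : Fin r => (slot₂ (k := k) 1).obj (Twist.twistProjSpace 1 k 0)) i ≫ biprod.inl ≫ t) hq
      simpa [m, a] using this
    have hb : ∀ i, (slot₁ (k := k) 1).map (lh x₀) ≫ ι i ≫ q +
        (slot₁ (k := k) 1).map (lh x₁) ≫ ι (i - 1) ≫ q = 0 := fun i => by
      have := congrArg (fun t => Sigma.ι (fun _ : Fin r => (slot₁ (k := k) 1).obj (Twist.twistProjSpace 1 k 0)) i ≫ biprod.inr ≫ t) hq
      simpa [m, b] using this
    have h1 : ∀ i, (slot₁ (k := k) 1).map (lh x₁) ≫ ι (i - 1) ≫ q = 0 := fun i => by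
      refine zero_of_pencil (slot₂ (k := k) 0) (slot₂_exact 0) (he i) _ ?_ ?_
      · have h := congrArg (fun t => (slot₂ (k := k) 0).map (lh (e i)) ≫ t) (hb i)
        simp only [Preadditive.comp_add, comp_zero] at h
        rw [sq (lh x₀) (lh (e i)) (ι i ≫ q), ha, comp_zero, zero_add] at h
        exact h
      · rw [sq (lh x₁) (lh (e (i - 1))) (ι (i - 1) ≫ q), ha, comp_zero]
    have h0 : ∀ i, (slot₁ (k := k) 1).map (lh x₀) ≫ ι i ≫ q = 0 := fun i => by
      have h := hb i
      rwa [h1 i, add_zero] at h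
    refine Sigma.hom_ext _ _ fun i => ?_
    rw [comp_zero]
    refine zero_of_pencil (slot₁ (k := k) 1) (slot₁_exact 1) hx _ (h0 i) ?_
    have h := h1 (i + 1)
    rwa [add_sub_cancel_right] at h
  · have hmem : ∀ {A : (Quad k).Modules} (v : A ⟶ _), (∃ w, w ≫ m = v) →
        ∀ t, CohLin.hMap v 0 t ∈ LinearMap.range (CohLin.hMap m 0) := by
      rintro A v ⟨w, rfl⟩ t
      exact ⟨CohLin.hMap w 0 t, (CohLin.hMap_comp w m 0 t).symm⟩
    have hA : ∀ i t, CohLin.hMap ((slot₂ (k := k) 1).map (lh (e i)) ≫ ι i) 0 t ∈ LinearMap.range (CohLin.hMap m 0) :=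
      fun i => hmem _ ⟨Sigma.ι (fun _ : Fin r => (slot₂ (k := k) 1).obj (Twist.twistProjSpace 1 k 0)) i ≫ biprod.inl, by simp [m, a]⟩
    have hB : ∀ i t, CohLin.hMap (b i) 0 t ∈ LinearMap.range (CohLin.hMap m 0) :=
      fun i => hmem _ ⟨Sigma.ι (fun _ : Fin r => (slot₁ (k := k) 1).obj (Twist.twistProjSpace 1 k 0)) i ≫ biprod.inr, by simp [m]⟩
    let R := LinearMap.range (CohLin.hMap m 0)
    have h1 : ∀ i t, CohLin.hMap ((slot₁ (k := k) 1).map (lh x₁) ≫ ι (i - 1)) 0 t ∈ R := fun i t => by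
      obtain ⟨u, v, rfl⟩ := h0_slot₂ (a := 0) (by norm_num) (he i) t
      rw [map_add]
      refine R.add_mem ?_ ?_
      · have e1 : CohLin.hMap (b i) 0 (CohLin.hMap ((slot₂ (k := k) 0).map (lh (e i))) 0 u) ∈ R := hB i _
        simp only [b, hMap_add'] at e1
        have e2 := mem_sq R (lh x₀) (lh (e i)) (ι i) (hA i) u
        exact (R.add_mem_iff_right e2).mp e1
      · exact mem_sq R (lh x₁) (lh (e (i - 1))) (ι (i - 1)) (hA (i - 1)) v
    have h0 : ∀ i t, CohLin.hMap ((slot₁ (k := k) 1).map (lh x₀) ≫ ι i) 0 t ∈ R := fun i t => by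
      have e1 : CohLin.hMap (b i) 0 t ∈ R := hB i _
      simp only [b, hMap_add'] at e1
      exact (R.add_mem_iff_left (h1 i t)).mp e1
    have hz := h0_decomp ((slot₁ (k := k) 1).obj (Twist.twistProjSpace 1 k 1)) z
    have : z ∈ R := by
      rw [hz]
      refine R.sum_mem fun j _ => ?_
      obtain ⟨u, v, huv⟩ := h0_slot₁ (b := 1) (by norm_num) hx
        (CohLin.hMap (Sigma.π (fun _ : Fin r => (slot₁ (k := k) 1).obj (Twist.twistProjSpace 1 k 1)) j) 0 z)
      rw [huv, map_add, ← CohLin.hMap_comp, ← CohLin.hMap_comp]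
      refine R.add_mem (h0 j u) ?_
      have h := h1 (j + 1) v
      rwa [add_sub_cancel_right] at h
    exact this

end

open CategoryTheory CategoryTheory.Limits AlgebraicGeometry TopologicalSpace in
/-- Let k be an algebraically closed field of characteristic zero and X = P¹_k ×_k P¹_k the smooth
quadric surface, O(a, b) = pr₁^*O(a) ⊗ pr₂^*O(b). For every r ≥ 2 there is an epimorphism of
O_X-modules m : O(1,0)^r ⊕ O(0,1)^r → O(1,1)^r (an r × 2r matrix of linear forms) whose induced map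
on global sections is surjective. (The published statement says moreover that such m form a dense
open subset of the space of all matrices; only the existence is stated here. The published proof
exhibits explicit block matrices; its 3 × 6 block for r = 3 as published is surjective at every
point but not on global sections, while a 3 × 6 block of the same shape with both properties exists,
so the block-sum construction from the 2 × 4 and 3 × 6 blocks covers every r ≥ 2.) -/
theorem result (k : Type u) [Field k] [IsAlgClosed k] [CharZero k]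
    (r : ℕ) (hr : 2 ≤ r) :
    ∃ m : (∐ fun _ : Fin r => CohB1.tensorMod
        ((Scheme.Modules.pullback (pullback.fst (CohB1.ProjSpace.toSpec 1 k) (CohB1.ProjSpace.toSpec 1 k))).obj
          (Twist.twistProjSpace 1 k (1)))
        ((Scheme.Modules.pullback (pullback.snd (CohB1.ProjSpace.toSpec 1 k) (CohB1.ProjSpace.toSpec 1 k))).obj
          (Twist.twistProjSpace 1 k (0)))) ⊞ (∐ fun _ : Fin r => CohB1.tensorMod
        ((Scheme.Modules.pullback (pullback.fst (CohB1.ProjSpace.toSpec 1 k) (CohB1.ProjSpace.toSpec 1 k))).obj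
          (Twist.twistProjSpace 1 k (0)))
        ((Scheme.Modules.pullback (pullback.snd (CohB1.ProjSpace.toSpec 1 k) (CohB1.ProjSpace.toSpec 1 k))).obj
          (Twist.twistProjSpace 1 k (1)))) ⟶ (∐ fun _ : Fin r => CohB1.tensorMod
        ((Scheme.Modules.pullback (pullback.fst (CohB1.ProjSpace.toSpec 1 k) (CohB1.ProjSpace.toSpec 1 k))).obj
          (Twist.twistProjSpace 1 k (1)))
        ((Scheme.Modules.pullback (pullback.snd (CohB1.ProjSpace.toSpec 1 k) (CohB1.ProjSpace.toSpec 1 k))).obj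
          (Twist.twistProjSpace 1 k (1)))),
      Epi m ∧ Function.Surjective (Sheaf.H.map ((SheafOfModules.toSheaf _).map m) 0) := by
  haveI : NeZero r := ⟨by omega⟩
  obtain ⟨m, hm, hm'⟩ := exists_matrix (k := k) r (fun i => ![1, ((i : ℕ) : k)]) (fun i => by
    have hne : ((i - 1 : Fin r) : ℕ) ≠ (i : ℕ) := fun h => by
      have h1 : (1 : Fin r) = 0 := by
        have := Fin.val_injective h
        simpa using congrArg (fun t => i - t) this
      have := congrArg Fin.val h1
      simp [Nat.mod_eq_of_lt (show 1 < r by omega)] at this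
    simpa [sub_ne_zero] using hne)
  exact ⟨m, hm, hm'⟩

end Groth.Agent.S18629
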