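import Groth.Statements.S18633
import Groth.Agent.HodgeIdx81.Fundamental
import Groth.Agent.VertInter.Section
import Groth.Agent.AbVarLib.GenNonempty
import Groth.Agent.NumTriv.Twist


set_option autoImplicit false
universe u
open CategoryTheory CategoryTheory.Limits AlgebraicGeometry TopologicalSpace
open Surf

namespace Groth.Agent.S18633

open Groth.Agent.HodgeIdx81 Groth.Agent.ProjTwist

set_option linter.style.haveILetI false
attribute [local irreducible] Curv2.euler

section
variable (k : Type u) [Field k] [IsAlgClosed k] {X : Scheme.{u}} [X.Over (Spec (CommRingCat.of k))]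
  [IsProper (X ↘ Spec (CommRingCat.of k))] [IsIntegral X]
  (hdim : topologicalKrullDim X = ((2 : ℕ) : WithBot ℕ∞))
  (hreg : ∀ x : X, IsRegularLocalRing (X.presheaf.stalk x))

include hdim hreg in
/-- A numerically connected divisor carries at most one section in nonpositive degree. -/
theorem h0_eq_zero {Z : X.IdealSheafData} (hZ : FGA.IsEffCartier Z) (hZ0 : Z ≠ ⊤)
    (hnc : ∀ Z₁ Z₂ : X.IdealSheafData, FGA.IsEffCartier Z₁ → FGA.IsEffCartier Z₂ → Z₁ ≠ ⊤ → Z₂ ≠ ⊤ →
      Z = Z₁ * Z₂ → 0 < pr k (ClSub.idealMod Z₁) (ClSub.idealMod Z₂))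
    {L : X.Modules} (hL : PicF.IsInvertible L)
    (hdeg : ∀ C : X.IdealSheafData, IsIntegral C.subscheme →
      topologicalKrullDim ↥(C.support : Set X) = ((1 : ℕ) : WithBot ℕ∞) → Z ≤ C →
      NumTriv.deg1 k (ClSub.quotMod C) L < 0) :
    Module.finrank k (Coh.HH X (CohB1.tensorMod L (ClSub.quotMod Z)) 0) = 0 := by
  haveI := EulerChar.isNoetherian k (X := X)
  obtain ⟨A, hA⟩ := exists_ample k hreg hdim
  have hmul : ∀ P Q : X.IdealSheafData, P * Q ≤ Q := fun P Q U => by
    rw [Scheme.IdealSheafData.ideal_mul, Pi.mul_apply]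
    exact Ideal.mul_le.2 fun a _ b hb => Ideal.mul_mem_left _ _ hb
  have hmem : ∀ {P : X.IdealSheafData} {ξ : X}, ξ ∈ ((IntMult.ptIdeal ξ).support : Set X) := fun {P ξ} => by
    rw [CohDev.coe_support_ptIdeal]
    exact subset_closure rfl
  have key : ∀ (n : ℕ) (W J : X.IdealSheafData), BlowUp.IsEffCartierIdeal W → BlowUp.IsEffCartierIdeal J →
      W ≠ ⊤ → Z = W * J → -pr k A (ClSub.idealMod J) ≤ n →
      Module.finrank k (Coh.HH X (CohB1.tensorMod L (ClSub.quotMod Z)) 0) ≤
        Module.finrank k (Coh.HH X (CohB1.tensorMod L (ClSub.quotMod W)) 0) := by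
    intro n
    induction n using Nat.strong_induction_on with
    | _ n ih =>
      intro W J hW hJ hW0 hZWJ hn
      by_cases hJ0 : J = ⊤
      · rw [hZWJ, hJ0, Scheme.IdealSheafData.mul_top]
      have hWi := IdealSh.IdealMod.isInvertible_of_isEffCartierIdeal W hW
      have hJi := IdealSh.IdealMod.isInvertible_of_isEffCartierIdeal J hJ
      have hpos := hnc W J hW hJ hW0 hJ0 hZWJ
      obtain ⟨s, m, hs, hp⟩ := Sub.pr_ideal_pieces k hdim hreg (I := J) hJ
      rw [hp _ hWi] at hpos
      obtain ⟨ξ, hξ, hξpos⟩ : ∃ ξ ∈ s, 0 < pr k (ClSub.idealMod W) (ClSub.idealMod (IntMult.ptIdeal ξ)) := by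
        by_contra h
        push Not at h
        exact hpos.not_ge (Finset.sum_nonpos fun ξ hξ =>
          mul_nonpos_of_nonneg_of_nonpos (Int.natCast_nonneg _) (h ξ hξ))
      obtain ⟨hξJ, hint, hd1, hCi⟩ := hs ξ hξ
      haveI := hint
      obtain ⟨J', hJ', hJJ'⟩ := Sub.exists_split k hdim hreg hJ hξJ hd1
      have hC := Sub.isEffCartier_curve k hdim hreg (IntMult.ptIdeal ξ) hd1
      have hJ'i := IdealSh.IdealMod.isInvertible_of_isEffCartierIdeal J' hJ'
      obtain ⟨eJ⟩ := VertInter.nonempty_idealMod_mul hJ' hC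
      rw [hJJ'] at eJ
      have hAC : pr k A (ClSub.idealMod (IntMult.ptIdeal ξ)) < 0 :=
        RealNakai.pr_ample_curve k hA _ hd1 hCi
      have hAJ : pr k A (ClSub.idealMod J) =
          pr k A (ClSub.idealMod J') + pr k A (ClSub.idealMod (IntMult.ptIdeal ξ)) := by
        rw [← pr_congr k (Iso.refl A) eJ, pr_comm, pr_add_left k hdim.le hJ'i hCi hA.1,
          pr_comm k (ClSub.idealMod J') A, pr_comm k _ A]
      have hJ'nn : pr k A (ClSub.idealMod J') ≤ 0 := by
        by_cases h : J' = ⊤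
        · obtain ⟨s', m', hs', hp'⟩ := Sub.pr_ideal_pieces k hdim hreg (I := J') hJ'
          rw [hp' A hA.1]
          refine Finset.sum_nonpos fun η hη => ?_
          haveI := (hs' η hη).2.1
          exact mul_nonpos_of_nonneg_of_nonpos (Int.natCast_nonneg _)
            (RealNakai.pr_ample_curve k hA _ (hs' η hη).2.2.1 (hs' η hη).2.2.2).le
        · exact (pr_ample_ideal_neg k hdim hreg hA hJ' h).le
      have hW'0 : W * IntMult.ptIdeal ξ ≠ ⊤ := fun h => by
        have h2 := eq_top_iff.2 (h ▸ hmul W (IntMult.ptIdeal ξ))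
        have h3 : ξ ∈ ((IntMult.ptIdeal ξ).support : Set X) := hmem (P := W)
        rw [h2, Scheme.IdealSheafData.support_top] at h3
        exact h3
      refine (ih (-pr k A (ClSub.idealMod J')).toNat (by omega) (W * IntMult.ptIdeal ξ) J'
        (IdealSh.EffCartier.mul hW hC) hJ' hW'0 (by rw [hZWJ, ← hJJ', mul_comm J', mul_assoc])
        (Int.self_le_toNat _)).trans ?_
      exact Sub.step k hdim hW hC hd1 hCi hWi hL (hdeg _ hint hd1 (by
        rw [hZWJ, ← hJJ', ← mul_assoc]
        exact hmul _ _)).le hξpos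
  obtain ⟨s, m, hs, hp⟩ := Sub.pr_ideal_pieces k hdim hreg (I := Z) hZ
  obtain ⟨ξ, hξ⟩ : s.Nonempty := by
    by_contra h
    have h1 := pr_ample_ideal_neg k hdim hreg hA hZ hZ0
    rw [hp A hA.1, Finset.not_nonempty_iff_eq_empty.1 h] at h1
    simp at h1
  obtain ⟨hξZ, hint, hd1, hCi⟩ := hs ξ hξ
  haveI := hint
  obtain ⟨J, hJ, hJZ⟩ := Sub.exists_split k hdim hreg hZ hξZ hd1
  have hC0 : IntMult.ptIdeal ξ ≠ ⊤ := fun h => by
    have h3 : ξ ∈ ((IntMult.ptIdeal ξ).support : Set X) := hmem (P := Z)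
    rw [h, Scheme.IdealSheafData.support_top] at h3
    exact h3
  refine Nat.le_zero.1 ((key (-pr k A (ClSub.idealMod J)).toNat (IntMult.ptIdeal ξ) J
    (Sub.isEffCartier_curve k hdim hreg _ hd1) hJ hC0 (by rw [← hJZ, mul_comm]) (Int.self_le_toNat _)).trans ?_)
  have hle : Z ≤ IntMult.ptIdeal ξ := by rw [← hJZ]; exact hmul _ _
  haveI := (Sub.curve_h0 k _ hd1 hL (hdeg _ hint hd1 hle).le).2 (hdeg _ hint hd1 hle)
  exact (RR.finrank_eq_zero_of_subsingleton k inferInstance).le
end

theorem nonempty_pow_inverse {X : Scheme.{u}} {D W : X.Modules}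
    (e : CohB1.tensorMod D W ≅ Coh.structureModule X) :
    ∀ m : ℕ, Nonempty (CohB1.tensorMod (CohB1.tensorPow D m) (CohB1.tensorPow W m) ≅ Coh.structureModule X)
  | 0 => ⟨oneTens _⟩
  | m + 1 => (nonempty_pow_inverse e m).map fun eAB =>
      (tensAssoc (CohB1.tensorPow D m) D (CohB1.tensorMod (CohB1.tensorPow W m) W) ≪≫
        tensCongr (Iso.refl _) ((tensAssoc D (CohB1.tensorPow W m) W).symm ≪≫
          tensCongr (tensComm D (CohB1.tensorPow W m)) (Iso.refl W) ≪≫ tensAssoc (CohB1.tensorPow W m) D W) ≪≫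
        (tensAssoc (CohB1.tensorPow D m) (CohB1.tensorPow W m) (CohB1.tensorMod D W)).symm ≪≫
        tensCongr eAB e ≪≫ oneTens _)

/-- Let k be an algebraically closed field of characteristic zero and X a strong del Pezzo surface over
k: an integral scheme, proper and smooth over k of dimension 2, with canonical module W (a second
exterior power of Ω_{X/k}) and a tensor inverse D of W which is very ample relative to k — there is
a closed immersion ι : X → P^N_k over k with ι^*O(1) ≅ D. Assume H¹(X, O_X) = 0. Then H¹(X, D^{⊗m})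
= 0 and H¹(X, W^{⊗m}) = 0 for every m ≥ 0; that is, H¹(X, O_X(m)) = 0 for all m ∈ ℤ in the
anticanonical embedding X ⊆ P^d. (The published statement is that the anticanonically embedded X is
arithmetically Cohen–Macaulay; its argument obtains H¹(X, O_X) = 0 from the rationality of del Pezzo
surfaces, quoted, and that vanishing is the hypothesis here; the part about H¹ of the twisted ideal
sheaves of X is not restated.) -/
theorem result (k : Type u) [Field k] [IsAlgClosed k] [CharZero k] (X : Scheme.{u})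
    [X.Over (Spec (CommRingCat.of k))] [IsIntegral X] [IsProper (X ↘ (Spec (CommRingCat.of k)))] [Smooth (X ↘ (Spec (CommRingCat.of k)))]
    (hdim : topologicalKrullDim X = 2)
    (W : X.Modules) (hW : ExtPow.IsExtPow 2 (Omega.sheaf (X ↘ (Spec (CommRingCat.of k)))) W)
    (D : X.Modules) (hD : ClSub.IsInverseOf D W)
    (hva : ∃ (N : ℕ) (ι : X ⟶ CohB1.ProjSpace N k), IsClosedImmersion ι ∧
      ι ≫ CohB1.ProjSpace.toSpec N k = X ↘ (Spec (CommRingCat.of k)) ∧
      Nonempty ((Scheme.Modules.pullback ι).obj (Twist.twistProjSpace N k 1) ≅ D))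
    (hq : Subsingleton (Coh.HH X (Coh.structureModule X) 1)) (m : ℕ) :
    Subsingleton (Coh.HH X (CohB1.tensorPow D m) 1) ∧ Subsingleton (Coh.HH X (CohB1.tensorPow W m) 1) := by
  have hd : topologicalKrullDim X = ((2 : ℕ) : WithBot ℕ∞) := by rw [hdim]; norm_num
  have hreg : ∀ x : X, IsRegularLocalRing (X.presheaf.stalk x) :=
    CurveDVR.isRegularLocalRing_stalk (X ↘ (Spec (CommRingCat.of k)))
  haveI := EulerChar.isNoetherian k (X := X)
  obtain ⟨eDW⟩ := hD
  obtain ⟨N, ι, hι, -, ⟨eι⟩⟩ := hva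
  haveI := hι
  have hDa : CohB1.IsAmple D := AmpleLib.isAmple_of_iso eι
    (Wt.AmpleThick.isAmple_pullback ι ProjTwist.Pn.isAmple_one)
  have hWi := RR.isInvertible_canonical k hd hreg hDa hW
  have hDB : ∀ B : X.Modules, PicF.IsInvertible B → pr k D B = -pr k W B := fun B hB =>
    pr_inv_left k hd.le hWi hDa.1 hB (tensComm _ _ ≪≫ eDW)
  have hDD := pr_self_pos k hd hDa
  have hDW : pr k D W = -pr k D D := by rw [hDB D hDa.1, pr_comm k W D, neg_neg]
  -- a member of the anticanonical system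
  have hO := PicLoc.isInvertible_structureModule X
  have hh2 : Module.finrank k (Coh.HH X D 2) = 0 := by
    rw [← RR.finrank_dual k hd hreg hDa hW hDa.1 eDW 2 le_rfl]
    refine RR.finrank_eq_zero_of_subsingleton k (not_nontrivial_iff_subsingleton.1 fun hn => ?_)
    obtain ⟨c, hc⟩ := @exists_ne _ hn 0
    have h := pr_nonneg_of_section k hd.le (AmpleLib.isInvertible_tensorMod hWi hWi) hDa
      ((ShStabLib.BC.secEquiv k _).symm c) fun h => hc ((LinearEquiv.map_eq_zero_iff _).1 h)
    rw [pr_add_left k hd.le hWi hWi hDa.1, pr_comm k W D, hDW] at h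
    linarith
  have hn : Nontrivial (Coh.HH X D 0) := by
    have hRR := RR.riemann_roch k hd hreg hDa hW hDa.1
    rw [hDW, RR.euler_structure k hd (RR.finrank_eq_zero_of_subsingleton k hq)] at hRR
    have hle := RR.euler_le k hd D
    refine Module.nontrivial_of_finrank_pos (R := k) ?_
    omega
  haveI : ∀ x : X, IsDomain (X.presheaf.stalk x) := fun x =>
    haveI := hreg x
    RegLoc.isDomain _
  obtain ⟨c, hc⟩ := @exists_ne _ hn 0
  have hσ : VBLib.GenusZero.toSec D c ≠ 0 := fun h => hc ((AddEquiv.map_eq_zero_iff _).1 h)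
  obtain ⟨z, hz⟩ := AbVarLib.GenNonempty.genLocus_nonempty hDa.1 hσ
  obtain ⟨Z, hZ, -, -, ⟨eDI⟩⟩ := VertInter.exists_divisor_of_section hDa.1
    (Props.GenLocus.homOfSec (VBLib.GenusZero.toSec D c)) fun x => ⟨genericPoint X, genericPoint_specializes x,
      (genericPoint_specializes z).mem_open
        (CohB1.genLocus D (Props.GenLocus.homOfSec (VBLib.GenusZero.toSec D c))).isOpen hz⟩
  have hZi := IdealSh.IdealMod.isInvertible_of_isEffCartierIdeal Z hZ
  let eI : ClSub.idealMod Z ≅ W :=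
    (oneTens _).symm ≪≫ tensCongr (tensComm W D ≪≫ eDW).symm (Iso.refl _) ≪≫
      tensAssoc W D (ClSub.idealMod Z) ≪≫ tensCongr (Iso.refl W) eDI ≪≫ tensOne W
  have hIB : ∀ B : X.Modules, PicF.IsInvertible B → pr k B (ClSub.idealMod Z) = -pr k D B := fun B hB => by
    rw [pr_congr k (Iso.refl B) eI, hDB B hB, neg_neg, pr_comm]
  have hZ0 : Z ≠ ⊤ := fun h => by
    have h1 := hIB D hDa.1
    have h2 := Fundamental.pr_mul k hd IdealSh.EffCartier.top IdealSh.EffCartier.top hDa.1
    rw [Scheme.IdealSheafData.top_mul] at h2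
    rw [h] at h1
    linarith
  have hnc : ∀ Z₁ Z₂ : X.IdealSheafData, FGA.IsEffCartier Z₁ → FGA.IsEffCartier Z₂ → Z₁ ≠ ⊤ → Z₂ ≠ ⊤ →
      Z = Z₁ * Z₂ → 0 < pr k (ClSub.idealMod Z₁) (ClSub.idealMod Z₂) := fun Z₁ Z₂ h₁ h₂ n₁ n₂ e => by
    have i₁ := IdealSh.IdealMod.isInvertible_of_isEffCartierIdeal Z₁ h₁
    have i₂ := IdealSh.IdealMod.isInvertible_of_isEffCartierIdeal Z₂ h₂
    have a1 := pr_ample_ideal_neg k hd hreg hDa h₁ n₁
    have a2 := pr_ample_ideal_neg k hd hreg hDa h₂ n₂
    have b1 := hIB _ i₁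
    have b2 := hIB _ i₂
    rw [e, Fundamental.pr_mul k hd h₁ h₂ i₁] at b1
    rw [e, Fundamental.pr_mul k hd h₁ h₂ i₂, pr_comm k (ClSub.idealMod Z₂) (ClSub.idealMod Z₁)] at b2
    by_contra hle
    push Not at hle
    obtain ⟨P, hP, hPC⟩ := exists_comb k hd.le i₁ i₂
      (-pr k D (ClSub.idealMod Z₂)) (pr k D (ClSub.idealMod Z₁))
    have h := pr_self_nonpos k hd hDa hP (by
      rw [hPC D hDa.1, pr_comm k (ClSub.idealMod Z₁) D, pr_comm k (ClSub.idealMod Z₂) D]; ring)
    rw [hPC P hP, pr_comm k _ P, pr_comm k _ P, hPC _ i₁, hPC _ i₂,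
      pr_comm k (ClSub.idealMod Z₂) (ClSub.idealMod Z₁)] at h
    generalize pr k (ClSub.idealMod Z₁) (ClSub.idealMod Z₂) = q at hle b1 b2 h
    generalize pr k (ClSub.idealMod Z₁) (ClSub.idealMod Z₁) = x at b1 h
    generalize pr k (ClSub.idealMod Z₂) (ClSub.idealMod Z₂) = y at b2 h
    generalize pr k D (ClSub.idealMod Z₁) = a at a1 b1 h
    generalize pr k D (ClSub.idealMod Z₂) = b at a2 b2 h
    nlinarith [mul_pos (mul_pos (neg_pos.2 a2) (neg_pos.2 a2)) (show 0 < x by linarith),
      mul_pos (mul_pos (neg_pos.2 a1) (neg_pos.2 a1)) (show 0 < y by linarith),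
      mul_nonneg (mul_pos (neg_pos.2 a1) (neg_pos.2 a2)).le (neg_nonneg.2 hle)]
  -- the negative powers
  have hneg : ∀ j : ℕ, Subsingleton (Coh.HH X (CohB1.tensorPow W j) 1) := by
    intro j
    induction j with
    | zero => exact hq
    | succ j ih =>
      by_cases hj : j = 0
      · subst hj
        haveI := EulerChar.finite_HH k (CohB1.tensorPow W (0 + 1))
          (VBLib.isCoh_of_ofRank (isFinLocFreeOfRank_one (AmpleLib.isInvertible_tensorPow hWi (0 + 1)))) 1
        refine (Module.finrank_eq_zero_iff_of_free k _).1 ?_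
        exact (RR.finrank_dual k hd hreg hDa hW hO (oneTens _) 1 one_le_two).trans
          (RR.finrank_eq_zero_of_subsingleton k hq)
      · have hV := AmpleLib.isInvertible_tensorPow hWi j
        have hz := h0_eq_zero k hd hreg hZ hZ0 hnc hV fun C hC hC1 _ => by
          haveI := hC
          have hCi := isInvertible_of_curve k hreg hd C hC1
          rw [deg1_quotMod k hCi hV, pr_pow_left k hd.le hWi hCi j,
            show pr k W (ClSub.idealMod C) = -pr k D (ClSub.idealMod C) by rw [hDB _ hCi, neg_neg]]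
          have hpos := RealNakai.pr_ample_curve k hDa C hC1 hCi
          have hj' : (0 : ℤ) < (j : ℤ) := by exact_mod_cast Nat.pos_of_ne_zero hj
          nlinarith [mul_pos hj' (neg_pos.2 hpos)]
        have hVr := isFinLocFreeOfRank_one hV
        have hS := CohDev.tens_shortExact hVr (EulerChar.shortExact_ideal Z)
        haveI : Module.Finite k (Coh.HH X (CohB1.tensorMod (CohB1.tensorPow W j) (ClSub.quotMod Z)) 0) :=
          EulerChar.finite_HH k _ (EulerChar.isCoh_tens k hVr (EulerChar.isCoh_quotMod k Z)) 0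
        haveI h0' : Subsingleton (Coh.HH X (CohB1.tensorMod (CohB1.tensorPow W j) (ClSub.quotMod Z)) 0) :=
          (Module.finrank_eq_zero_iff_of_free k _).1 hz
        haveI h0 : Subsingleton (Coh.HH X (CohDev.tens (CohB1.tensorPow W j) (ClSub.quotMod Z)) 0) := h0'
        haveI h1 : Subsingleton (Coh.HH X (CohDev.tens (CohB1.tensorPow W j) (Coh.structureModule X)) 1) :=
          AmpCrit.subsingleton_HH_of_iso (tensOne (CohB1.tensorPow W j)).symm 1
        haveI : Subsingleton (Coh.HH X (CohDev.tens (CohB1.tensorPow W j) (ClSub.idealMod Z)) 1) :=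
          subsingleton_of_forall_eq 0 fun y => by
            obtain ⟨u, hu⟩ := ((CurveCoh.exact_deltaL_mapL k hS 0 1 rfl) y).mp
              (Subsingleton.elim (α := Coh.HH X (CohDev.tens (CohB1.tensorPow W j) (Coh.structureModule X)) 1) _ _)
            rw [← hu]
            exact (congrArg _ (Subsingleton.elim (α := Coh.HH X (CohDev.tens (CohB1.tensorPow W j) (ClSub.quotMod Z)) 0) u 0)).trans (map_zero _)
        exact AmpCrit.subsingleton_HH_of_iso (show CohDev.tens (CohB1.tensorPow W j) (ClSub.idealMod Z) ≅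
          CohB1.tensorPow W (j + 1) from tensCongr (Iso.refl _) eI) 1
  refine ⟨?_, hneg m⟩
  obtain ⟨em⟩ := nonempty_pow_inverse eDW m
  haveI := hneg (m + 1)
  haveI := EulerChar.finite_HH k (CohB1.tensorPow D m)
    (VBLib.isCoh_of_ofRank (isFinLocFreeOfRank_one (AmpleLib.isInvertible_tensorPow hDa.1 m))) 1
  refine (Module.finrank_eq_zero_iff_of_free k _).1 ?_
  rw [← RR.finrank_dual k hd hreg hDa hW (AmpleLib.isInvertible_tensorPow hDa.1 m) em 1 one_le_two]
  exact RR.finrank_eq_zero_of_subsingleton k (hneg (m + 1))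

end Groth.Agent.S18633
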