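import Groth.Statements.S18636
import Groth.Agent.GrBass.Shift
import Groth.Agent.GrLC.Core

set_option autoImplicit false
universe u
open GrLC

namespace Groth.Agent.S18636

/-- Let R be a commutative Noetherian ℤ-graded ring, M a graded R-module (not necessarily finitely
generated) and p a prime ideal of R which is not graded; write p* for the largest graded ideal
contained in p (a graded prime). Then μ_0(p, M) = 0 and μ_{i+1}(p, M) = μ_i(p*, M) for every i ≥ 0.
(Bass numbers μ_i(q, M) are taken as the k(q)-dimension of Ext^i over R_q of k(q) into M_q, as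
extended natural numbers; the published text also recalls their description as multiplicities in a
minimal injective resolution, and the two agree over a Noetherian ring.) -/
theorem result (R : Type u) [CommRing R] [IsNoetherianRing R] (𝒜 : ℤ → AddSubgroup R) [GradedRing 𝒜] (M : Type u) [AddCommGroup M] [Module R M] (ℳ : ℤ → AddSubgroup M) [DirectSum.Decomposition ℳ] [SetLike.GradedSMul 𝒜 ℳ] (p : Ideal R) [p.IsPrime] (hp : ¬ Ideal.IsHomogeneous 𝒜 p) [(Ideal.homogeneousCore 𝒜 p).toIdeal.IsPrime] : GrLC.bassNum p M 0 = 0 ∧ ∀ i : ℕ, GrLC.bassNum p M (i + 1) = GrLC.bassNum (Ideal.homogeneousCore 𝒜 p).toIdeal M i := by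
  let P := (Ideal.homogeneousCore 𝒜 p).toIdeal
  have hlt : P < p := lt_of_le_of_ne (Ideal.toIdeal_homogeneousCore_le 𝒜 p) fun h =>
    hp (h ▸ (Ideal.homogeneousCore 𝒜 p).isHomogeneous)
  let qb : Ideal (R ⧸ P) := p.map (Ideal.Quotient.mk P)
  have hqp : qb.comap (Ideal.Quotient.mk P) = p := by
    rw [Ideal.comap_map_of_surjective _ Ideal.Quotient.mk_surjective, ← RingHom.ker_eq_comap_bot,
      Ideal.mk_ker, sup_eq_left.2 hlt.le]
  have : qb.IsPrime := Ideal.map_isPrime_of_surjective Ideal.Quotient.mk_surjective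
    (by rw [Ideal.mk_ker]; exact hlt.le)
  have hne : (⊥ : Ideal (R ⧸ P)) < qb := bot_lt_iff_ne_bot.2 fun h => hlt.ne' (by
    rw [← hqp, h, ← RingHom.ker_eq_comap_bot, Ideal.mk_ker])
  have hd : qb.height = 1 := by
    refine le_antisymm ?_ ?_
    · rw [PrimeSpectrum.height_eq_orderHeight (p := ⟨qb, inferInstance⟩),
        show (1 : ℕ∞) = ((1 : ℕ) : ℕ∞) from rfl, Order.height_le_coe_iff]
      intro Q hQ
      have hQ' : Q.asIdeal < qb := hQ
      have hQbot : Q.asIdeal = ⊥ := by
        have h1 : Q.asIdeal.comap (Ideal.Quotient.mk P) < p := by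
          rw [← hqp]
          exact lt_of_le_of_ne (Ideal.comap_mono hQ'.le) fun h =>
            hQ'.ne (Ideal.comap_injective_of_surjective _ Ideal.Quotient.mk_surjective h)
        have h2 := GrLC.eq_core_of_lt (𝒜 := 𝒜) h1 (by
          intro x hx
          rw [Ideal.mem_comap, Ideal.Quotient.eq_zero_iff_mem.2 hx]
          exact zero_mem _)
        rw [← Ideal.map_comap_of_surjective _ Ideal.Quotient.mk_surjective Q.asIdeal, h2]
        exact Ideal.map_quotient_self P
      rw [← PrimeSpectrum.height_eq_orderHeight, hQbot, Ideal.height_bot]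
      exact zero_lt_one
    · simpa using Ideal.height_add_one_le_of_lt_of_isPrime hne
  obtain ⟨h1, h2⟩ := GrBass.bassNum_shift 𝒜 M ℳ p 1 hd
  exact ⟨h1 0 one_pos, h2⟩

end Groth.Agent.S18636
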