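import Groth.Statements.S18638
import Groth.Agent.GrDual.GorCanon
-- import your own Groth.Agent.* helpers here

set_option autoImplicit false
universe u
open GrLC

namespace Groth.Agent.S18638

/-- Let R be a graded ring defined over a field which is Cohen–Macaulay, and K_R its canonical module.
Then R is Gorenstein exactly when K_R is isomorphic to a degree shift R(a) of R for some integer a,
that is, there is a bijective R-linear map R → K_R homogeneous of some fixed degree. Here 'graded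
ring defined over a field' means R = ⊕_{n ≥ 0} R_n is Noetherian with R_0 a field (so R is finitely
generated over R_0), m = R_+ is its unique graded maximal ideal and n = dim R; the canonical module
K_R (the graded dual of H^n_m(R)) is represented by a finitely generated graded module C together
with a homogeneous isomorphism from Hom_R(C, E) onto H^n_m(R), where E is a *injective envelope of
R/m and H^n_m(R) is computed from a *injective resolution of R in the graded category; by graded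
Matlis duality this says exactly that C ≅ K_R as graded modules. -/
theorem result (R : Type u) [CommRing R] [LocCoh.IsCohenMacaulayRing R] (𝒜 : ℤ → AddSubgroup R) [GradedRing 𝒜] (hpos : ∀ n : ℤ, n < 0 → 𝒜 n = ⊥) (h0 : IsField (GrLC.deg0 𝒜)) (m : HomogeneousIdeal 𝒜) (hm : GrLC.IsStarLocal 𝒜 m) (hmsp : m.toIdeal = Ideal.span (⋃ n ∈ Set.Ioi (0 : ℤ), (𝒜 n : Set R))) (n : ℕ) (hn : ringKrullDim R = n) (I : GrLC.StarInjRes 𝒜 𝒜) (E' : Type u) [AddCommGroup E'] [Module R E'] (𝓔 : ℤ → AddSubgroup E') [DirectSum.Decomposition 𝓔] [SetLike.GradedSMul 𝒜 𝓔] (e : (R ⧸ m.toIdeal) →ₗ[R] E') (he : GrLC.IsStarInjHull 𝒜 (GrLC.quotGr 𝒜 m) 𝓔 e) (C : Type u) [AddCommGroup C] [Module R C] (𝒞 : ℤ → AddSubgroup C) [DirectSum.Decomposition 𝒞] [SetLike.GradedSMul 𝒜 𝒞] (hC : GrLC.IsStarCanonical 𝒜 𝒞 𝓔 m n I) : LocCoh.IsGorensteinRing R ↔ ∃ (a : ℤ) (f : R →ₗ[R] C), Function.Bijective f ∧ GrLC.IsGrHomDeg 𝒜 𝒞 f a := by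
  have hpos' : ∀ n : ℤ, n < 0 → ∀ x ∈ 𝒜 n, x = 0 := fun n hn x hx => by rwa [hpos n hn, AddSubgroup.mem_bot] at hx
  haveI hp := Groth.Agent.GrDual.TorsLoc.isPrime hm
  have hht : m.toIdeal.height = n := by
    have h := Groth.Agent.GrLC.height_starLocal_eq_ringKrullDim hpos' m hm
    rw [hn] at h
    exact_mod_cast h
  letI := Groth.Agent.GrLC.Hdec I m n
  haveI := Groth.Agent.GrLC.Hgr_gradedSMul I m n
  constructor
  · intro hR
    haveI := hR.isGorensteinLocalRing_localization m.toIdeal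
    obtain ⟨g, φ, hφ⟩ := Groth.Agent.GrDual.GorTop.exists_equiv_starHull hm I hht he
    letI := Groth.Agent.GrDual.deg0Field h0
    have hB := Groth.Agent.GrDual.base_deg0 hpos' h0
    have hm0 := Groth.Agent.GrDual.irr_of_span hmsp
    have hm1 := Groth.Agent.GrDual.ne_top_of_starLocal hm
    obtain ⟨β, hβ⟩ := Groth.Agent.GrDual.exists_pairing (k := GrLC.deg0 𝒜) hB hm0 hm1 he hC
    obtain ⟨π, e₁, hπ⟩ := Groth.Agent.GrDual.exists_coord hB hm0 hm1 he
    obtain ⟨β', hβ'⟩ := Groth.Agent.GrDual.exists_gdual_ring hB hm0 hπ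
    obtain ⟨f, hf, hfd⟩ := Groth.Agent.GrDual.exists_shift_of_gdual hβ hβ' φ hφ
    exact ⟨g, f, hf, hfd⟩
  · rintro ⟨a, f, hf, -⟩
    obtain ⟨-, φ, -⟩ := hC
    haveI := LocCoh.IsCohenMacaulayRing.isCohenMacaulayLocalRing_localization (R := R) m.toIdeal
    let ψ : I.H m n ≃ₗ[R] E' := φ.symm.trans
      (((LinearEquiv.ofBijective f hf).symm.arrowCongr (LinearEquiv.refl R E')).trans
        (LinearMap.ringLmapEquivSelf R R E'))
    exact Groth.Agent.GrDual.Descent.isGorensteinRing 𝒜 hm
      (Groth.Agent.GrDual.GorTop.isGorensteinLocalRing I hht (X := GrLC.GMod.of 𝒜 E' 𝓔) ψ he.starInj)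

end Groth.Agent.S18638
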