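import Groth.Statements.S7489
import Groth.Agent.GrpScheme.ProfiniteProd
import Groth.Agent.GrpScheme.IdComponent

set_option autoImplicit false
universe u
open CategoryTheory MonoidalCategory CartesianMonoidalCategory MonObj GrpObj AlgebraicGeometry
open GrpSch

namespace Groth.Agent.S7489

open Groth.Agent.GrpScheme

section

variable {K : Type u} [Field K] {G : Over (Spec (CommRingCat.of K))} [GrpObj G]

/-- Right translation by a rational point. -/
noncomputable def rmul (x : 𝟙_ (Over (Spec (CommRingCat.of K))) ⟶ G) : G ⟶ G :=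
  𝟙 G * (toUnit G ≫ x)

/-- Left translation by a rational point. -/
noncomputable def lmul (x : 𝟙_ (Over (Spec (CommRingCat.of K))) ⟶ G) : G ⟶ G :=
  (toUnit G ≫ x) * 𝟙 G

instance (x : 𝟙_ (Over (Spec (CommRingCat.of K))) ⟶ G) : IsIso (lmul x) := by
  have htt : ∀ f : G ⟶ G, f ≫ toUnit G = toUnit G := fun f => toUnit_unique _ _
  exact ⟨lmul x⁻¹, by simp [lmul, MonObj.comp_mul, reassoc_of% htt, GrpObj.comp_inv],
    by simp [lmul, MonObj.comp_mul, reassoc_of% htt, GrpObj.comp_inv]⟩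

lemma comp_rmul (x y : 𝟙_ (Over (Spec (CommRingCat.of K))) ⟶ G) : y ≫ rmul x = y * x := by
  simp only [rmul, MonObj.comp_mul, Category.comp_id]
  rw [← Category.assoc, toUnit_unique (y ≫ toUnit G) (𝟙 _), Category.id_comp]

lemma comp_lmul (x y : 𝟙_ (Over (Spec (CommRingCat.of K))) ⟶ G) : y ≫ lmul x = x * y := by
  simp only [lmul, MonObj.comp_mul, Category.comp_id]
  rw [← Category.assoc, toUnit_unique (y ≫ toUnit G) (𝟙 _), Category.id_comp]

/-- The point of a rational point. -/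
noncomputable abbrev pt (x : 𝟙_ (Over (Spec (CommRingCat.of K))) ⟶ G) : G.left :=
  x.left (IsLocalRing.closedPoint K)

lemma pt_comp (x : 𝟙_ (Over (Spec (CommRingCat.of K))) ⟶ G) (f : G ⟶ G) :
    pt (x ≫ f) = f.left (pt x) :=
  Scheme.Hom.comp_apply _ _ _

/-- A generalisation of a rational point translates into the identity component. -/
lemma exists_mem_component {x : 𝟙_ (Over (Spec (CommRingCat.of K))) ⟶ G} {a : G.left}
    (h : a ⤳ pt x) :
    ∃ k ∈ irreducibleComponent (IdComponent.e₀ G), (rmul x).left k = a := by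
  refine ⟨(rmul x⁻¹).left a, ?_, ?_⟩
  · rw [← IdComponent.range_zι]
    refine IdComponent.mem_range_of_specializes G ?_
    have hh := h.map (rmul x⁻¹).left.continuous
    rwa [← pt_comp, comp_rmul, mul_inv_cancel, show pt (1 : 𝟙_ _ ⟶ G) = IdComponent.e₀ G by
      rw [Hom.one_def, toUnit_unit, Category.id_comp]] at hh
  · rw [← Points.comp_apply]
    have htt : ∀ f : G ⟶ G, f ≫ toUnit G = toUnit G := fun f => toUnit_unique _ _
    simp [rmul, MonObj.comp_mul, reassoc_of% htt, GrpObj.comp_inv]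

lemma isAffineOpen_inter_clopen {X : Scheme.{u}} {U : X.Opens} (hU : IsAffineOpen U) (S : X.Opens)
    (hS : IsClosed (S : Set X)) : IsAffineOpen (U ⊓ S) := by
  let ι' := X.homOfLE (inf_le_left : U ⊓ S ≤ U)
  have hr : Set.range ι' = U.ι ⁻¹' (S : Set X) := by
    ext z
    refine ⟨?_, fun hz => ⟨⟨z.1, z.2, hz⟩, Subtype.ext ?_⟩⟩
    · rintro ⟨w, rfl⟩
      show U.ι (ι' w) ∈ S
      rw [← Scheme.Hom.comp_apply, Scheme.homOfLE_ι]
      exact w.2.2
    · show U.ι (ι' _) = _
      refine (Scheme.Hom.comp_apply _ _ _).symm.trans ?_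
      rw [Scheme.homOfLE_ι]
      rfl
  have : IsClosedImmersion ι' :=
    .of_isPreimmersion _ (by rw [hr]; exact hS.preimage U.ι.continuous)
  have : IsAffine (U : Scheme.{u}) := hU
  exact isAffine_of_isAffineHom ι'

/-- A compact set has an affine open meeting every component through it. -/
lemma exists_affineOpen_meeting {C : Set G.left} (hC : IsCompact C) :
    ∃ W : G.left.Opens, IsAffineOpen W ∧ ∀ c ∈ C, ∃ a ∈ W, a ⤳ c := by
  classical
  have hcov : ∀ c : C, ∃ U : G.left.Opens, IsAffineOpen U ∧ c.1 ∈ U := fun c => by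
    obtain ⟨_, ⟨U, hU, rfl⟩, hcU, -⟩ := G.left.isBasis_affineOpens.exists_subset_of_mem_open
      (Set.mem_univ c.1) isOpen_univ
    exact ⟨U, hU, hcU⟩
  choose U hU hcU using hcov
  obtain ⟨t, ht⟩ := hC.elim_finite_subcover (fun c => IdComponent.saturation G (U c))
    (fun c => IdComponent.isOpen_saturation G _)
    (fun c hc => Set.mem_iUnion.mpr ⟨⟨c, hc⟩, IdComponent.subset_saturation G (hcU ⟨c, hc⟩)⟩)
  let e := t.equivFin.symm
  let S (i : Fin t.card) : Set G.left := IdComponent.saturation G (U (e i).1)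
  have hS : ∀ i, IsClopen (S i) := fun i =>
    ⟨IdComponent.isClosed_saturation G (hU _).isCompact, IdComponent.isOpen_saturation G _⟩
  let S' (i : Fin t.card) : Set G.left := S i ∩ ⋂ j ∈ Finset.univ.filter (· < i), (S j)ᶜ
  have hS' : ∀ i, IsClopen (S' i) := fun i =>
    (hS i).inter (isClopen_biInter_finset fun j _ => (hS j).compl)
  have hdis : ∀ i j, i < j → ∀ z ∈ S' i, z ∉ S' j := fun i j hij z hz hz' =>
    Set.mem_iInter₂.mp hz'.2 i (Finset.mem_filter.mpr ⟨Finset.mem_univ _, hij⟩) hz.1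
  refine ⟨⨆ i, U (e i).1 ⊓ ⟨S' i, (hS' i).2⟩,
    IsAffineOpen.iSup_of_disjoint (fun i => isAffineOpen_inter_clopen (hU _) _ (hS' i).1)
      (fun i j hij => ?_), fun c hc => ?_⟩
  · refine disjoint_iff_inf_le.mpr fun z hz => ?_
    exact (lt_or_gt_of_ne hij).elim (fun h => hdis i j h z hz.1.2 hz.2.2)
      (fun h => hdis j i h z hz.2.2 hz.1.2)
  · obtain ⟨c', hc't, hcc'⟩ := Set.mem_iUnion₂.mp (ht hc)
    have hne : (Finset.univ.filter fun i => c ∈ S i).Nonempty :=
      ⟨e.symm ⟨c', hc't⟩, Finset.mem_filter.mpr ⟨Finset.mem_univ _, by simpa [S] using hcc'⟩⟩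
    let i := (Finset.univ.filter fun i => c ∈ S i).min' hne
    have hci : c ∈ S' i := by
      refine ⟨(Finset.mem_filter.mp (Finset.min'_mem _ hne)).2, Set.mem_iInter₂.mpr fun j hj hcj => ?_⟩
      exact ((Finset.mem_filter.mp hj).2).not_ge
        (Finset.min'_le _ j (Finset.mem_filter.mpr ⟨Finset.mem_univ _, hcj⟩))
    obtain ⟨a, -, haU, hac, -⟩ := IdComponent.exists_gen_of_mem_saturation G hci.1
    exact ⟨a, TopologicalSpace.Opens.mem_iSup.mpr ⟨i, haU, hac.mem_open (hS' i).2 hci⟩, hac⟩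

end

/-- Let k be an algebraically closed field and G a group scheme over k such that the underlying space of
G is Jacobson and every closed point of G is k-rational (the image of a section of G -> Spec k). Let
A be a k-algebra such that every finite subset of A is contained in a k-subalgebra isomorphic to a
finite product of copies of k (A is a directed colimit of such algebras), and f : Spec A -> G a
morphism over k. Then there is an affine open U of G containing the image of f. -/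
theorem result (k : Type u) [Field k] [IsAlgClosed k] (G : Over (Spec (CommRingCat.of k))) [GrpObj G] [JacobsonSpace G.left] (hrat : ∀ g : G.left, IsClosed ({g} : Set G.left) → ∃ x : Spec (CommRingCat.of k) ⟶ G.left, x ≫ G.hom = 𝟙 _ ∧ x (IsLocalRing.closedPoint k) = g) (A : Type u) [CommRing A] [Algebra k A] (hA : ∀ s : Finset A, ∃ (B : Subalgebra k A) (n : ℕ), (↑s : Set A) ⊆ (B : Set A) ∧ Nonempty (B ≃ₐ[k] (Fin n → k))) (f : Spec (CommRingCat.of A) ⟶ G.left) (hf : f ≫ G.hom = Spec.map (CommRingCat.ofHom (algebraMap k A))) : ∃ U : G.left.Opens, IsAffineOpen U ∧ Set.range ⇑f ⊆ (U : Set G.left) := by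
  let P : Over (Spec (CommRingCat.of k)) := Over.mk (Spec.map (CommRingCat.ofHom (algebraMap k A)))
  let c₀ : P ⟶ G := Over.homMk f hf
  have hPaff : IsAffine P.left := inferInstanceAs (IsAffine (Spec (CommRingCat.of A)))
  have : CompactSpace (Spec (CommRingCat.of A)) := inferInstance
  obtain ⟨W, hW, hWC⟩ := exists_affineOpen_meeting (G := G) (isCompact_range f.continuous)
  -- rational points over the points of `Spec A`
  have hsec : ∀ p : PrimeSpectrum A, ∃ s : 𝟙_ (Over (Spec (CommRingCat.of k))) ⟶ P,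
      s.left (IsLocalRing.closedPoint k) = p := by
    intro p
    let e := RingEquiv.ofBijective (algebraMap k (A ⧸ p.asIdeal))
      ⟨(algebraMap k (A ⧸ p.asIdeal)).injective, ProfiniteProd.residue_surjective hA p.asIdeal⟩
    let χ : A →+* k := e.symm.toRingHom.comp (Ideal.Quotient.mk p.asIdeal)
    refine ⟨Over.homMk (Spec.map (CommRingCat.ofHom χ)) ?_, ?_⟩
    · show Spec.map _ ≫ Spec.map _ = 𝟙 _
      rw [← Spec.map_comp, ← Spec.map_id]
      congr 1
      ext c
      exact e.symm_apply_apply c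
    · refine PrimeSpectrum.ext (Ideal.ext fun a => ?_)
      show χ a ∈ IsLocalRing.maximalIdeal k ↔ a ∈ p.asIdeal
      rw [IsLocalRing.maximalIdeal_eq_bot, Ideal.mem_bot, ← Ideal.Quotient.eq_zero_iff_mem]
      exact e.symm.map_eq_zero_iff
  choose s hs using hsec
  let x (p : PrimeSpectrum A) : 𝟙_ (Over (Spec (CommRingCat.of k))) ⟶ G := s p ≫ c₀
  have hx : ∀ p, pt (x p) = f p := fun p =>
    (Scheme.Hom.comp_apply _ _ _).trans (congrArg f (hs p))
  let Ψ : P ⊗ G ⟶ G := snd P G * (fst P G ≫ c₀)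
  let π := ProfiniteProd.proj (A := A) G.hom
  have hπ := ProfiniteProd.isHomeomorph_proj (A := A) G.hom hA
  have hΨ : ∀ p g, ∀ q : (P ⊗ G).left, π q = (p, g) → Ψ.left q = (rmul (x p)).left g := by
    intro p g q hq
    let l : G ⟶ P ⊗ G := lift (toUnit G ≫ s p) (𝟙 G)
    have h1 : (fst P G).left (l.left g) = p := by
      rw [← Points.comp_apply, lift_fst, Points.comp_apply]
      exact (congrArg (s p).left (Subsingleton.elim (α := Spec (CommRingCat.of k)) _ _)).trans (hs p)
    have h2 : (snd P G).left (l.left g) = g := by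
      rw [← Points.comp_apply, lift_snd]; rfl
    have : q = l.left g := hπ.bijective.injective (hq.trans (Prod.ext h1 h2).symm)
    rw [this, ← Points.comp_apply, show l ≫ Ψ = rmul (x p) by
      simp [l, Ψ, rmul, x, MonObj.comp_mul]]
  let W'' : Set (PrimeSpectrum A × G.left) := π '' (Ψ.left ⁻¹' (W : Set G.left))
  have hW''o : IsOpen W'' := hπ.isOpenMap _ (W.2.preimage Ψ.left.continuous)
  -- the compact part over an affine neighbourhood of the unit
  obtain ⟨_, ⟨(V : G.left.Opens), hV, rfl⟩, heV, -⟩ := G.left.isBasis_affineOpens.exists_subset_of_mem_open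
    (Set.mem_univ (IdComponent.e₀ G)) isOpen_univ
  let Vo : Over (Spec (CommRingCat.of k)) := Over.mk (V.ι ≫ G.hom)
  let v : Vo ⟶ G := Over.homMk V.ι rfl
  have : IsAffine Vo.left := hV
  have : IsAffine (P ⊗ Vo).left := inferInstanceAs (IsAffine (Limits.pullback P.hom Vo.hom))
  let m : P ⊗ Vo ⟶ G := (P ◁ v) ≫ Ψ
  have : IsSeparated G.hom := IdComponent.isSeparated G
  have : QuasiCompact (m.left ≫ G.hom) := by
    rw [Over.w]
    have := isAffineHom_of_isAffine (P ⊗ Vo).hom
    infer_instance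
  have : QuasiCompact m.left := .of_comp _ G.hom
  let M : Set (PrimeSpectrum A × G.left) := (fun z => π ((P ◁ v).left z)) '' (m.left ⁻¹' (W : Set G.left))
  have hM : IsCompact M := (m.left.isCompact_preimage hW.isCompact).image
    (hπ.continuous.comp (P ◁ v).left.continuous)
  have hMW : M ⊆ W'' := by
    rintro _ ⟨z, hz, rfl⟩
    exact ⟨_, (by rw [Set.mem_preimage, ← Points.comp_apply]; exact hz), rfl⟩
  have hrect : ∀ w : W'', ∃ (D : Set (PrimeSpectrum A)) (O : Set G.left), IsOpen D ∧ IsOpen O ∧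
      w.1 ∈ D ×ˢ O ∧ D ×ˢ O ⊆ W'' := fun ⟨⟨p, g⟩, hw⟩ => by
    obtain ⟨D, O, hD, hO, hp, hg, hsub⟩ := isOpen_prod_iff.mp hW''o p g hw
    exact ⟨D, O, hD, hO, ⟨hp, hg⟩, hsub⟩
  choose D O hD hO hmem hsub using hrect
  obtain ⟨t, ht⟩ := hM.elim_finite_subcover (fun w => D w ×ˢ O w)
    (fun w => (hD w).prod (hO w)) (fun w hw => Set.mem_iUnion.mpr ⟨⟨w, hMW hw⟩, hmem _⟩)
  -- choose a rational point of the identity component
  let Z := irreducibleComponent (IdComponent.e₀ G)
  have hZ : IsIrreducible Z := isIrreducible_irreducibleComponent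
  classical
  let J := insert (V : Set G.left) ((t.image O).filter fun o => (Z ∩ (↑V ∩ o)).Nonempty)
  have hJo : ∀ o ∈ J, IsOpen o := fun o ho => by
    rcases Finset.mem_insert.mp ho with rfl | ho
    · exact V.2
    · obtain ⟨w, -, rfl⟩ := Finset.mem_image.mp (Finset.mem_filter.mp ho).1
      exact hO w
  obtain ⟨g₀, hg₀Z, hg₀J⟩ := isIrreducible_iff_sInter.mp hZ J hJo fun o ho => by
    rcases Finset.mem_insert.mp ho with rfl | ho
    · exact ⟨_, mem_irreducibleComponent, heV⟩
    · obtain ⟨z, hzZ, -, hzo⟩ := (Finset.mem_filter.mp ho).2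
      exact ⟨z, hzZ, hzo⟩
  obtain ⟨g, ⟨hgZ, hgJ⟩, hgc⟩ := nonempty_inter_closedPoints (Z := Z ∩ ⋂₀ (J : Set (Set G.left)))
    ⟨g₀, hg₀Z, hg₀J⟩ (isClosed_irreducibleComponent.isLocallyClosed.inter
      ((J.finite_toSet.isOpen_sInter hJo).isLocallyClosed))
  obtain ⟨y, hy, hyg⟩ := hrat g hgc
  let y' : 𝟙_ (Over (Spec (CommRingCat.of k))) ⟶ G := Over.homMk y hy
  have : IsIso (lmul y').left := Basic.isIso_left _
  refine ⟨(lmul y').left ⁻¹ᵁ W, hW.preimage _, ?_⟩
  rintro _ ⟨p, rfl⟩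
  show (lmul y').left (f p) ∈ W
  rw [← hx p, ← pt_comp, comp_lmul, ← comp_rmul, pt_comp]
  -- some point of the component is in the good set over `p`
  obtain ⟨a, haW, ha⟩ := hWC (f p) ⟨p, rfl⟩
  obtain ⟨k₀, hk₀, hk₀a⟩ := exists_mem_component (G := G) (x := x p) (a := a) (ha.trans (specializes_of_eq (hx p).symm))
  obtain ⟨k₁, hk₁Z, hk₁W, hk₁V⟩ := hZ.2 ((rmul (x p)).left ⁻¹' (W : Set G.left)) (V : Set G.left)
    (W.2.preimage (rmul (x p)).left.continuous) V.2
    ⟨k₀, hk₀, by rw [Set.mem_preimage, hk₀a]; exact haW⟩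
    ⟨_, mem_irreducibleComponent, heV⟩
  obtain ⟨z, hz₁, hz₂⟩ := Scheme.Pullback.exists_preimage_pullback (f := P.hom) (g := Vo.hom) p
    (⟨k₁, hk₁V⟩ : V) (Subsingleton.elim (α := Spec (CommRingCat.of k)) _ _)
  have hπz : π ((P ◁ v).left z) = (p, k₁) := by
    refine Prod.ext ?_ ?_
    · show (fst P G).left ((P ◁ v).left z) = p
      rw [← Points.comp_apply, whiskerLeft_fst]; exact hz₁
    · show (snd P G).left ((P ◁ v).left z) = k₁
      rw [← Points.comp_apply, whiskerLeft_snd, Points.comp_apply]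
      exact congrArg v.left hz₂
  have hzM : (p, k₁) ∈ M := ⟨z, by
    rw [Set.mem_preimage, Points.comp_apply, hΨ p k₁ _ hπz]; exact hk₁W, hπz⟩
  obtain ⟨w, hwt, hwp⟩ := Set.mem_iUnion₂.mp (ht hzM)
  have hgO : g ∈ O w := hgJ (O w) (Finset.mem_coe.mpr (Finset.mem_insert_of_mem
    (Finset.mem_filter.mpr ⟨Finset.mem_image_of_mem _ hwt, k₁, hk₁Z, hk₁V, hwp.2⟩)))
  obtain ⟨q, hq, hqe⟩ := hsub w (show (p, g) ∈ D w ×ˢ O w from ⟨hwp.1, hgO⟩)
  have hg' : pt y' = g := hyg
  rw [hg', ← hΨ p g q hqe]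
  exact hq

end Groth.Agent.S7489
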