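import Groth.Statements.S1864
import Groth.Agent.S7489
import Mathlib.AlgebraicGeometry.AlgClosed.Basic

set_option autoImplicit false
universe u v
open CategoryTheory MonoidalCategory CartesianMonoidalCategory MonObj GrpObj AlgebraicGeometry
open GrpSch

namespace Groth.Agent.S1864

/-- Let G be a group scheme locally of finite type over an algebraically closed field and g₁, …, g_n
finitely many closed points of G. Then some affine open of G contains all the g_i. -/
theorem result (K : Type u) [Field K] [IsAlgClosed K] (G : Over (Spec (CommRingCat.of K))) [GrpObj G] [LocallyOfFiniteType G.hom] (n : ℕ) (g : Fin n → G.left) (hg : ∀ i, IsClosed ({g i} : Set G.left)) : ∃ U : G.left.Opens, IsAffineOpen U ∧ ∀ i, g i ∈ U := by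
  have : JacobsonSpace G.left := LocallyOfFiniteType.jacobsonSpace G.hom
  have hrat : ∀ a : G.left, IsClosed ({a} : Set G.left) → ∃ x : Spec (CommRingCat.of K) ⟶ G.left,
      x ≫ G.hom = 𝟙 _ ∧ x (IsLocalRing.closedPoint K) = a := fun a ha =>
    ⟨_, ((pointEquivClosedPoint G.hom).symm ⟨a, ha⟩).2, pointOfClosedPoint_apply G.hom a ha _⟩
  choose x hx hxg using fun i => hrat (g i) (hg i)
  let c := sigmaSpec fun _ : ULift.{u} (Fin n) => CommRingCat.of K
  have : IsIso c := inferInstance
  let f : Spec (CommRingCat.of (ULift.{u} (Fin n) → K)) ⟶ G.left := inv c ≫ Limits.Sigma.desc fun i => x i.down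
  have hf : f ≫ G.hom = Spec.map (CommRingCat.ofHom (algebraMap K (ULift.{u} (Fin n) → K))) := by
    rw [Category.assoc, IsIso.inv_comp_eq]
    refine Limits.Sigma.hom_ext _ _ fun i => ?_
    rw [Limits.Sigma.ι_desc_assoc, hx, ← Category.assoc, ι_sigmaSpec, ← Spec.map_comp,
      ← Spec.map_id]
    rfl
  obtain ⟨U, hU, hsub⟩ := Groth.Agent.S7489.result K G hrat (ULift.{u} (Fin n) → K)
    (fun s => ⟨⊤, n, by simp, ⟨Subalgebra.topEquiv.trans (AlgEquiv.piCongrLeft' K (fun _ => K) Equiv.ulift)⟩⟩) f hf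
  refine ⟨U, hU, fun i => hsub ⟨c ((Limits.Sigma.ι (fun _ : ULift.{u} (Fin n) => Spec (CommRingCat.of K)) ⟨i⟩)
    (IsLocalRing.closedPoint K)), ?_⟩⟩
  rw [← hxg i, ← Scheme.Hom.comp_apply, IsIso.hom_inv_id_assoc]
  refine (Scheme.Hom.comp_apply _ _ _).symm.trans ?_
  rw [Limits.Sigma.ι_desc]


end Groth.Agent.S1864
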