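import Groth.Statements.S18641
import Groth.Agent.GrDual.Veronese
-- import your own Groth.Agent.* helpers here

set_option autoImplicit false
universe u
open GrLC

namespace Groth.Agent.S18641

/-- Let R be a graded ring defined over a field which is Gorenstein, and let q ≥ 1 be an integer
dividing the a-invariant a(R). Then the Veronese subring R^(q) is a Gorenstein ring. Here 'graded
ring defined over a field' means R = ⊕_{n ≥ 0} R_n is Noetherian with R_0 a field, and m = R_+ is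
its unique graded maximal ideal. The a-invariant a(R) is the largest degree in which the graded
local cohomology H^n_m(R) (n = dim R, m = R_+), computed from a *injective resolution of R in the
graded category, is nonzero. The Veronese subring R^(q) = ⊕_j R_{jq}, regraded by (R^(q))_j =
R_{jq}, is presented abstractly as a ℤ-graded ring R' with an injective ring homomorphism φ : R' → R
carrying R'_j onto R_{jq} for every j. -/
theorem result (R : Type u) [CommRing R] [LocCoh.IsGorensteinRing R] (𝒜 : ℤ → AddSubgroup R) [GradedRing 𝒜] (hpos : ∀ n : ℤ, n < 0 → 𝒜 n = ⊥) (h0 : IsField (GrLC.deg0 𝒜)) (m : HomogeneousIdeal 𝒜) (hm : GrLC.IsStarLocal 𝒜 m) (hmsp : m.toIdeal = Ideal.span (⋃ n ∈ Set.Ioi (0 : ℤ), (𝒜 n : Set R))) (n : ℕ) (hn : ringKrullDim R = n) (I : GrLC.StarInjRes 𝒜 𝒜) (a : ℤ) (ha : GrLC.endDeg (I.Hgr m n) = ((a : WithTop ℤ) : WithBot (WithTop ℤ))) (q : ℕ) (hq : 0 < q) (R' : Type u) [CommRing R'] (𝒜' : ℤ → AddSubgroup R') [GradedRing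 𝒜'] (φ : R' →+* R) (hφ : Function.Injective φ) (hdeg : ∀ j : ℤ, (𝒜' j).map (φ : R' →+ R) = 𝒜 (j * q)) (hdvd : (q : ℤ) ∣ a) : LocCoh.IsGorensteinRing R' := by
  haveI := Groth.Agent.GrDual.isCohenMacaulayRing_of_gorenstein R
  have hpA := Groth.Agent.GrDual.Veronese.pos hpos
  haveI := Groth.Agent.GrDual.Veronese.isNoetherianRing hq φ hφ hdeg
  have hpA' := Groth.Agent.GrDual.Veronese.pos' hpos hq φ hφ hdeg
  obtain ⟨ρ, hρ⟩ := Groth.Agent.GrDual.Veronese.exists_deg0_equiv φ hφ hdeg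
  have h0' : IsField (GrLC.deg0 𝒜') := ρ.toMulEquiv.isField h0
  have hm' := Groth.Agent.GrLC.isStarLocal_irrel hpA' h0'
  letI := Groth.Agent.GrDual.deg0Field h0
  letI := Groth.Agent.GrDual.deg0Field h0'
  have hB := Groth.Agent.GrDual.base_deg0 hpA h0
  have hB' := Groth.Agent.GrDual.base_deg0 hpA' h0'
  have hm0 := Groth.Agent.GrDual.irr_of_span hmsp
  have hm'sp := Groth.Agent.GrDual.Veronese.irrel_eq (ℬ := 𝒜')
  have hm0' := Groth.Agent.GrDual.irr_of_span hm'sp
  obtain ⟨I'⟩ := Groth.Agent.GrLC.exists_res (𝒜 := 𝒜') 𝒜'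
  letI := Groth.Agent.GrLC.Hdec I m n
  haveI := Groth.Agent.GrLC.Hgr_gradedSMul I m n
  letI := Groth.Agent.GrLC.Hdec I' (GrSyz.irrel 𝒜') n
  haveI := Groth.Agent.GrLC.Hgr_gradedSMul I' (GrSyz.irrel 𝒜') n
  obtain ⟨g, β, hβ⟩ :=
    Groth.Agent.GrDual.exists_shiftDual_of_gorenstein (k := GrLC.deg0 𝒜) hB hm hm0 I hn
  haveI : Nontrivial R := nontrivial_of_ne (0 : R) 1 fun h =>
    Groth.Agent.GrDual.ne_top_of_starLocal hm (Ideal.eq_top_of_isUnit_mem _
      (h ▸ m.toIdeal.zero_mem : (1 : R) ∈ m.toIdeal) isUnit_one)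
  have hag := (Groth.Agent.GrDual.endDeg_of_shiftDual hB hβ).symm.trans ha
  have hag' : -g = a := by exact_mod_cast hag
  obtain ⟨c, hc⟩ := hdvd
  obtain ⟨T, hT⟩ := Groth.Agent.GrDual.Veronese.exists_T hq φ hφ hdeg hmsp hm'sp I I' n
  obtain ⟨β', hβ'⟩ := Groth.Agent.GrDual.exists_shiftDual_part hB hB' φ hφ ρ hρ
    (Groth.Agent.GrDual.Veronese.θq q) (Groth.Agent.GrDual.Veronese.θq_injective hq)
    (Groth.Agent.GrDual.Veronese.mem_deg φ hdeg) (Groth.Agent.GrDual.Veronese.exists_deg φ hdeg) T hT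
    (g' := -c) (by rw [Groth.Agent.GrDual.Veronese.θq_apply, neg_mul, mul_comm, ← hc]; omega) hβ
  exact Groth.Agent.GrDual.isGorensteinRing_of_shiftDual hB' hm' hm0' I' (fun i hi =>
    Groth.Agent.GrDual.Veronese.subsingleton_H' hq φ hφ hdeg hmsp hm'sp I I'
      (Groth.Agent.GrDual.subsingleton_H_of_ne hB hm I hn hi)) hβ'

end Groth.Agent.S18641
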