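import Groth.Statements.S18642
import Groth.Agent.GrDual.GorAscent
-- import your own Groth.Agent.* helpers here

set_option autoImplicit false
universe u
open GrLC

namespace Groth.Agent.S18642

/-- Let R be a graded ring defined over a field which is Cohen–Macaulay and generated over R_0 by R_1,
with dim R ≥ 2, and let q ≥ 1. If the Veronese subring R^(q) is a Gorenstein ring, then R is a
Gorenstein ring and q divides the a-invariant a(R). Here 'graded ring defined over a field' means R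
= ⊕_{n ≥ 0} R_n is Noetherian with R_0 a field, and m = R_+ is its unique graded maximal ideal. The
a-invariant a(R) is the largest degree in which the graded local cohomology H^n_m(R) (n = dim R, m =
R_+), computed from a *injective resolution of R in the graded category, is nonzero. The Veronese
subring R^(q) = ⊕_j R_{jq}, regraded by (R^(q))_j = R_{jq}, is presented abstractly as a ℤ-graded
ring R' with an injective ring homomorphism φ : R' → R carrying R'_j onto R_{jq} for every j. -/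
theorem result (R : Type u) [CommRing R] [LocCoh.IsCohenMacaulayRing R] (𝒜 : ℤ → AddSubgroup R) [GradedRing 𝒜] (hpos : ∀ n : ℤ, n < 0 → 𝒜 n = ⊥) (h0 : IsField (GrLC.deg0 𝒜)) (m : HomogeneousIdeal 𝒜) (hm : GrLC.IsStarLocal 𝒜 m) (hmsp : m.toIdeal = Ideal.span (⋃ n ∈ Set.Ioi (0 : ℤ), (𝒜 n : Set R))) (hstd : Ideal.span (⋃ n ∈ Set.Ioi (0 : ℤ), (𝒜 n : Set R)) = Ideal.span ((𝒜 1 : AddSubgroup R) : Set R)) (n : ℕ) (hn : ringKrullDim R = n) (h2 : 2 ≤ n) (I : GrLC.StarInjRes 𝒜 𝒜) (q : ℕ) (hq : 0 < q) (R' : Type u) [CommRing R'] (𝒜' : ℤ → AddSubgroup R') [GradedRing 𝒜'] (φ : R' →+* R) (hφ : Function.Injective φ) (hdeg : ∀ j : ℤ, (𝒜' j).map (φ : R' →+ R) = 𝒜 (j * q)) [LocCoh.IsGorensteinRing R'] : LocCoh.IsGorensteinRing R ∧ ∃ a : ℤ, GrLC.endDeg (I.Hgr m n) = ((a : WithTop ℤ) : WithBot (WithTop ℤ)) ∧ (q : ℤ) ∣ a := by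
  have hpA := Groth.Agent.GrDual.Veronese.pos hpos
  haveI := Groth.Agent.GrDual.Veronese.isNoetherianRing hq φ hφ hdeg
  have hpA' := Groth.Agent.GrDual.Veronese.pos' hpos hq φ hφ hdeg
  obtain ⟨ρ, hρ⟩ := Groth.Agent.GrDual.Veronese.exists_deg0_equiv φ hφ hdeg
  have h0' : IsField (GrLC.deg0 𝒜') := ρ.toMulEquiv.isField h0
  have hm' := Groth.Agent.GrLC.isStarLocal_irrel hpA' h0'
  letI := Groth.Agent.GrDual.deg0Field h0
  letI := Groth.Agent.GrDual.deg0Field h0'
  have hB := Groth.Agent.GrDual.base_deg0 hpA h0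
  have hB' := Groth.Agent.GrDual.base_deg0 hpA' h0'
  have hm0 := Groth.Agent.GrDual.irr_of_span hmsp
  have hm'sp := Groth.Agent.GrDual.Veronese.irrel_eq (ℬ := 𝒜')
  have hm0' := Groth.Agent.GrDual.irr_of_span hm'sp
  haveI : Nontrivial R := nontrivial_of_ne (0 : R) 1 fun h =>
    Groth.Agent.GrDual.ne_top_of_starLocal hm (Ideal.eq_top_of_isUnit_mem _
      (h ▸ m.toIdeal.zero_mem : (1 : R) ∈ m.toIdeal) isUnit_one)
  haveI : Nontrivial R' := φ.domain_nontrivial
  obtain ⟨I'⟩ := Groth.Agent.GrLC.exists_res (𝒜 := 𝒜') 𝒜'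
  obtain ⟨n', hn'⟩ := Groth.Agent.GrLC.exists_dim_eq hpA' h0'
  letI := Groth.Agent.GrLC.Hdec I m n
  haveI := Groth.Agent.GrLC.Hgr_gradedSMul I m n
  letI := Groth.Agent.GrLC.Hdec I' (GrSyz.irrel 𝒜') n'
  haveI := Groth.Agent.GrLC.Hgr_gradedSMul I' (GrSyz.irrel 𝒜') n'
  obtain ⟨g', β', hβ'⟩ :=
    Groth.Agent.GrDual.exists_shiftDual_of_gorenstein (k := GrLC.deg0 𝒜') hB' hm' hm0' I' hn'
  have hnn : n' = n := by
    by_contra hne
    haveI := Groth.Agent.GrDual.Veronese.subsingleton_H' hq φ hφ hdeg hmsp hm'sp I I'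
      (Groth.Agent.GrDual.subsingleton_H_of_ne hB hm I hn hne)
    exact one_ne_zero (α := R') (hβ'.eq_zero g' 1 (Groth.Agent.GrDual.one_mem_shA g') fun x _ => by
      rw [Subsingleton.elim x 0, map_zero])
  subst hnn
  obtain ⟨T, hT⟩ := Groth.Agent.GrDual.Veronese.exists_T hq φ hφ hdeg hmsp hm'sp I I' n'
  obtain ⟨β, hβ⟩ := Groth.Agent.GrDual.exists_shiftDual_ascent hB hB' φ hφ ρ hρ hq
    (Groth.Agent.GrDual.Veronese.mem_deg φ hdeg) (Groth.Agent.GrDual.Veronese.exists_deg φ hdeg) T hT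
    (m := m.toIdeal) (hmsp.trans hstd) (fun i => by
      obtain ⟨x, hx, y, hy, h1, h3, h4⟩ := Groth.Agent.GrDual.exists_regular_pair (m := m.toIdeal) hn
        (by rw [Groth.Agent.GrLC.idealDepth_starLocal hpA m hm hn]; exact_mod_cast h2)
        (Groth.Agent.GrDual.ne_top_of_starLocal hm) i
      refine ⟨x, hx, y, hy, h1, h3, fun h => ?_⟩
      obtain ⟨h', hh'⟩ := h4 (Groth.Agent.GrLC.Hequiv I m n' h)
      refine ⟨(Groth.Agent.GrLC.Hequiv I m n').symm h', ?_⟩
      change x • (Groth.Agent.GrLC.Hequiv I m n').symm h' = h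
      rw [← map_smul, show x • h' = Groth.Agent.GrLC.Hequiv I m n' h from hh', LinearEquiv.symm_apply_apply])
    hβ'
  refine ⟨Groth.Agent.GrDual.isGorensteinRing_of_shiftDual hB hm hm0 I
    (fun i hi => Groth.Agent.GrDual.subsingleton_H_of_ne hB hm I hn hi) hβ, -(g' * q),
    Groth.Agent.GrDual.endDeg_of_shiftDual hB hβ, ?_⟩
  exact (dvd_mul_left (q : ℤ) g').neg_right

end Groth.Agent.S18642
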