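import Groth.Statements.S18643
import Groth.Agent.GrDual.VeroneseCount
import Groth.Agent.S18641
-- import your own Groth.Agent.* helpers here

set_option autoImplicit false
universe u
open GrLC

namespace Groth.Agent.S18643

/-- Let R be a graded ring defined over a field k = R_0 which is Gorenstein and generated over k by R_1,
with dim R ≥ 1 and dim_k R_1 ≥ 2, and let q ≥ 1. Then the Veronese subring R^(q) is a Gorenstein
ring if and only if q divides the a-invariant a(R). Here 'graded ring defined over a field' means R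
= ⊕_{n ≥ 0} R_n is Noetherian with R_0 a field, and m = R_+ is its unique graded maximal ideal. The
a-invariant a(R) is the largest degree in which the graded local cohomology H^n_m(R) (n = dim R, m =
R_+), computed from a *injective resolution of R in the graded category, is nonzero. The Veronese
subring R^(q) = ⊕_j R_{jq}, regraded by (R^(q))_j = R_{jq}, is presented abstractly as a ℤ-graded
ring R' with an injective ring homomorphism φ : R' → R carrying R'_j onto R_{jq} for every j. -/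
theorem result (R : Type u) [CommRing R] [LocCoh.IsGorensteinRing R] (𝒜 : ℤ → AddSubgroup R) [GradedRing 𝒜] (hpos : ∀ n : ℤ, n < 0 → 𝒜 n = ⊥) (h0 : IsField (GrLC.deg0 𝒜)) (m : HomogeneousIdeal 𝒜) (hm : GrLC.IsStarLocal 𝒜 m) (hmsp : m.toIdeal = Ideal.span (⋃ n ∈ Set.Ioi (0 : ℤ), (𝒜 n : Set R))) (hstd : Ideal.span (⋃ n ∈ Set.Ioi (0 : ℤ), (𝒜 n : Set R)) = Ideal.span ((𝒜 1 : AddSubgroup R) : Set R)) (hR1 : 2 ≤ Module.finrank (GrLC.deg0 𝒜) (GrLC.comp 𝒜 𝒜 1)) (n : ℕ) (hn : ringKrullDim R = n) (h1 : 1 ≤ n) (I : GrLC.StarInjRes 𝒜 𝒜) (a : ℤ) (ha : GrLC.endDeg (I.Hgr m n) = ((a : WithTop ℤ) : WithBot (WithTop ℤ))) (q : ℕ) (hq : 0 < q) (R' : Type u) [CommRing R'] (𝒜' : ℤ → AddSubgroup R') [GradedRing 𝒜'] (φ : R' →+* R) (hφ : Function.Injective φ) (hdeg : ∀ j : ℤ, (𝒜' j).map (φ : R' →+ R) = 𝒜 (j * q)) : LocCoh.IsGorensteinRing R' ↔ (q : ℤ) ∣ a := by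
  refine ⟨fun hR' => ?_,
    fun hdvd => Groth.Agent.S18641.result R 𝒜 hpos h0 m hm hmsp n hn I a ha q hq R' 𝒜' φ hφ hdeg hdvd⟩
  haveI := hR'
  haveI := Groth.Agent.GrDual.isCohenMacaulayRing_of_gorenstein R
  have hpA := Groth.Agent.GrDual.Veronese.pos hpos
  haveI := Groth.Agent.GrDual.Veronese.isNoetherianRing hq φ hφ hdeg
  have hpA' := Groth.Agent.GrDual.Veronese.pos' hpos hq φ hφ hdeg
  obtain ⟨ρ, hρ⟩ := Groth.Agent.GrDual.Veronese.exists_deg0_equiv φ hφ hdeg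
  have h0' : IsField (GrLC.deg0 𝒜') := ρ.toMulEquiv.isField h0
  have hm' := Groth.Agent.GrLC.isStarLocal_irrel hpA' h0'
  letI := Groth.Agent.GrDual.deg0Field h0
  letI := Groth.Agent.GrDual.deg0Field h0'
  have hB := Groth.Agent.GrDual.base_deg0 hpA h0
  have hB' := Groth.Agent.GrDual.base_deg0 hpA' h0'
  have hm0 := Groth.Agent.GrDual.irr_of_span hmsp
  have hm'sp := Groth.Agent.GrDual.Veronese.irrel_eq (ℬ := 𝒜')
  have hm0' := Groth.Agent.GrDual.irr_of_span hm'sp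
  haveI : Nontrivial R := nontrivial_of_ne (0 : R) 1 fun h =>
    Groth.Agent.GrDual.ne_top_of_starLocal hm (Ideal.eq_top_of_isUnit_mem _
      (h ▸ m.toIdeal.zero_mem : (1 : R) ∈ m.toIdeal) isUnit_one)
  haveI : Nontrivial R' := φ.domain_nontrivial
  obtain ⟨I'⟩ := Groth.Agent.GrLC.exists_res (𝒜 := 𝒜') 𝒜'
  obtain ⟨n', hn'⟩ := Groth.Agent.GrLC.exists_dim_eq hpA' h0'
  letI := Groth.Agent.GrLC.Hdec I m n
  haveI := Groth.Agent.GrLC.Hgr_gradedSMul I m n
  letI := Groth.Agent.GrLC.Hdec I' (GrSyz.irrel 𝒜') n'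
  haveI := Groth.Agent.GrLC.Hgr_gradedSMul I' (GrSyz.irrel 𝒜') n'
  obtain ⟨g', β', hβ'⟩ :=
    Groth.Agent.GrDual.exists_shiftDual_of_gorenstein (k := GrLC.deg0 𝒜') hB' hm' hm0' I' hn'
  have hnn : n' = n := by
    by_contra hne
    haveI := Groth.Agent.GrDual.Veronese.subsingleton_H' hq φ hφ hdeg hmsp hm'sp I I'
      (Groth.Agent.GrDual.subsingleton_H_of_ne hB hm I hn hne)
    exact one_ne_zero (α := R') (hβ'.eq_zero g' 1 (Groth.Agent.GrDual.one_mem_shA g') fun x _ => by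
      rw [Subsingleton.elim x 0, map_zero])
  subst hnn
  obtain ⟨g, β, hβ⟩ :=
    Groth.Agent.GrDual.exists_shiftDual_of_gorenstein (k := GrLC.deg0 𝒜) hB hm hm0 I hn
  have hag : -g = a := by exact_mod_cast (Groth.Agent.GrDual.endDeg_of_shiftDual hB hβ).symm.trans ha
  obtain ⟨T, hT⟩ := Groth.Agent.GrDual.Veronese.exists_T hq φ hφ hdeg hmsp hm'sp I I' n'
  have hD := Groth.Agent.GrDual.finrank_add_delta hB hB' φ hφ ρ hρ
    (Groth.Agent.GrDual.Veronese.mem_deg φ hdeg) (Groth.Agent.GrDual.Veronese.exists_deg φ hdeg)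
    T hT hβ hβ'
  set F : ℤ → ℕ := fun p => Module.finrank (GrLC.deg0 𝒜) (Groth.Agent.GrDual.pieceK hB 𝒜 p) with hF
  have hneg : ∀ p, p < 0 → F p = 0 := fun p hp => by
    have : Groth.Agent.GrDual.pieceK hB 𝒜 p = ⊥ := (Submodule.eq_bot_iff _).2 fun x hx => hpA p hp x hx
    simp only [hF]
    rw [this, finrank_bot]
  have hzero : F 0 = 1 := by
    refine finrank_eq_one (⟨(1 : R), (SetLike.GradedOne.one_mem : (1 : R) ∈ 𝒜 0)⟩ : Groth.Agent.GrDual.pieceK hB 𝒜 0)
      (fun h => one_ne_zero (α := R) (congrArg Subtype.val h)) fun x => ?_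
    exact ⟨⟨x.1, x.2⟩, Subtype.ext (mul_one x.1)⟩
  have hmono : ∀ p, F p ≤ F (p + 1) := fun p => by
    simp only [hF]
    rw [← Groth.Agent.GrDual.finrank_comp_eq hB 𝒜 p, ← Groth.Agent.GrDual.finrank_comp_eq hB 𝒜 (p + 1)]
    exact Groth.Agent.GrLC.finrank_le_finrank_succ hpA h0 ((Groth.Agent.GrDual.Veronese.irrel_eq (ℬ := 𝒜)).trans hstd)
      (by rw [hn]; exact_mod_cast h1) p
  have hge : ∀ (d : ℕ) (p : ℤ), F p ≤ F (p + d) := fun d p => by
    induction d with
    | zero => simp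
    | succ d ih =>
      refine ih.trans ?_
      have := hmono (p + d)
      rwa [show p + (d : ℤ) + 1 = p + ((d + 1 : ℕ) : ℤ) by push_cast; ring] at this
  set δ : ℤ := g' * q - g with hδ
  have e0 : F δ = 1 := by
    have h := hD 0
    rw [zero_mul, zero_add] at h
    exact h.trans hzero
  have hδ0 : δ = 0 := by
    by_contra hne
    have h1' : 1 ≤ δ := by
      by_contra hlt
      rw [hneg δ (by omega)] at e0
      omega
    have h2' : 2 ≤ F 1 := by
      simp only [hF]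
      rw [← Groth.Agent.GrDual.finrank_comp_eq hB 𝒜 1]
      exact hR1
    have h3 := hge (δ - 1).toNat 1
    rw [show (1 : ℤ) + ((δ - 1).toNat : ℤ) = δ by omega] at h3
    omega
  refine ⟨-g', ?_⟩
  rw [← hag, mul_neg, mul_comm (q : ℤ) g']
  omega

end Groth.Agent.S18643
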