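import Groth.Statements.S18644
import Groth.Agent.GrLC.PolyIso
import Groth.Agent.GrSyz.Regularity
-- import your own Groth.Agent.* helpers here

set_option autoImplicit false
set_option maxRecDepth 20000
universe u
open GrLC

namespace Groth.Agent.S18644

/-- Let R be a graded ring defined over a field k = R_0 which is Cohen–Macaulay and generated over k by
R_1, of dimension r. Then a(R) = −r holds exactly when R is isomorphic to the polynomial ring over k
in r variables. Here 'graded ring defined over a field' means R = ⊕_{n ≥ 0} R_n is Noetherian with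
R_0 a field, and m = R_+ is its unique graded maximal ideal. The a-invariant a(R) is the largest
degree in which the graded local cohomology H^n_m(R) (n = dim R, m = R_+), computed from a
*injective resolution of R in the graded category, is nonzero. (The inequality a(R) ≥ −r of the same
lemma is stated separately.) -/
theorem result (R : Type u) [CommRing R] [LocCoh.IsCohenMacaulayRing R] (𝒜 : ℤ → AddSubgroup R) [GradedRing 𝒜] (hpos : ∀ n : ℤ, n < 0 → 𝒜 n = ⊥) (h0 : IsField (GrLC.deg0 𝒜)) (m : HomogeneousIdeal 𝒜) (hm : GrLC.IsStarLocal 𝒜 m) (hmsp : m.toIdeal = Ideal.span (⋃ n ∈ Set.Ioi (0 : ℤ), (𝒜 n : Set R))) (hstd : Ideal.span (⋃ n ∈ Set.Ioi (0 : ℤ), (𝒜 n : Set R)) = Ideal.span ((𝒜 1 : AddSubgroup R) : Set R)) (r : ℕ) (hr : ringKrullDim R = r) (I : GrLC.StarInjRes 𝒜 𝒜) : GrLC.endDeg (I.Hgr m r) = (((-(r : ℤ) : ℤ) : WithTop ℤ) : WithBot (WithTop ℤ)) ↔ Nonempty (R ≃+* MvPolynomial (Fin r) (GrLC.deg0 𝒜)) := by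
  have hp : ∀ e : ℤ, e < 0 → ∀ y ∈ 𝒜 e, y = 0 := fun e he y hy => by rw [hpos e he] at hy; exact hy
  have hlin := Groth.Agent.GrLC.irrel_eq_span_one hstd
  haveI : IsArtinianRing (GrLC.deg0 𝒜) := by letI := h0.toField; infer_instance
  have hk0 : ∀ x, x ∈ 𝒜 0 ↔ ∃ c : GrLC.deg0 𝒜, (GrLC.deg0 𝒜).subtype c = x :=
    fun x => ⟨fun hx => ⟨⟨x, hx⟩, rfl⟩, by rintro ⟨c, rfl⟩; exact c.2⟩
  have hbr : ∀ e, I.Hgr m r e = ⊥ ↔ Groth.Agent.GrLC.LC.gr 𝒜 (_root_.GrSyz.irrel 𝒜) r e = ⊥ := fun e =>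
    ((Submodule.toAddSubgroup_inj (I.Hcomp m r e) ⊥).trans
      (Groth.Agent.GrLC.LC.Hcomp_eq_bot_iff m r I e)).trans
      (Groth.Agent.GrLC.gr_starLocal_iff hp m hm r e)
  obtain ⟨e, he, hne⟩ := Groth.Agent.GrLC.exists_top_ne_bot hp m hm hlin hr
  letI := h0.toField
  letI : Algebra (GrLC.deg0 𝒜) R := (GrLC.deg0 𝒜).subtype.toAlgebra
  rw [← Groth.Agent.GrLC.PolyChar.iff_ringEquiv hp hlin hr h0]
  constructor
  · intro h n hn
    exact (hbr n).1 ((Groth.Agent.GrSyz.endDeg_le_iff _ _).1 h.le n hn)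
  · intro h
    refine le_antisymm ((Groth.Agent.GrSyz.endDeg_le_iff _ _).2 fun n hn => (hbr n).2 (h n hn)) ?_
    have hne' : I.Hgr m r e ≠ ⊥ := fun hb =>
      hne ((Groth.Agent.GrLC.gr_starLocal_iff hp m hm r e).2 ((hbr e).1 hb))
    refine le_trans ?_ (le_iSup₂ (f := fun (n : ℤ) (_ : I.Hgr m r n ≠ ⊥) =>
      ((n : WithTop ℤ) : WithBot (WithTop ℤ))) e hne')
    rw [WithBot.coe_le_coe, WithTop.coe_le_coe]
    exact he

end Groth.Agent.S18644
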