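import Groth.Statements.S18647
import Groth.Agent.GrSegre.Dim
-- import your own Groth.Agent.* helpers here

set_option autoImplicit false
universe u
open scoped TensorProduct
open GrSegre

namespace Groth.Agent.S18647

/-- Let R and S be graded rings defined over a field k with dim R = r ≥ 1 and dim S = s ≥ 1. Then the
Segre product T = R # S has Krull dimension r + s − 1. Here a graded ring defined over k is a
commutative k-algebra of finite type, graded in nonnegative degrees by k-subspaces with degree-zero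
part k·1; the Segre product T = R # S = ⊕_n R_n ⊗_k S_n (graded by T_n = R_n ⊗_k S_n) is presented
abstractly as a graded k-algebra T with an injective k-algebra homomorphism ψ : T → R ⊗_k S carrying
T_n onto the k-span of the elementary tensors a ⊗ b with a ∈ R_n, b ∈ S_n, for every n. -/
theorem result (k : Type u) [Field k] (R : Type u) [CommRing R] [Algebra k R] (𝒜 : ℤ → Submodule k R) [GradedAlgebra 𝒜] (hposR : ∀ n : ℤ, n < 0 → 𝒜 n = ⊥) (h0R : 𝒜 0 = Submodule.span k {(1 : R)}) [Algebra.FiniteType k R] (S : Type u) [CommRing S] [Algebra k S] (ℬ : ℤ → Submodule k S) [GradedAlgebra ℬ] (hposS : ∀ n : ℤ, n < 0 → ℬ n = ⊥) (h0S : ℬ 0 = Submodule.span k {(1 : S)}) [Algebra.FiniteType k S] (T : Type u) [CommRing T] [Algebra k T] (𝒯 : ℤ → Submodule k T) [GradedAlgebra 𝒯] (ψ : T →ₐ[k] TensorProduct k R S) (hψ : Function.Injective ψ) (hdegT : ∀ n : ℤ, (𝒯 n).map ψ.toLinearMap = Submodule.span k {x : TensorProduct k R S | ∃ a ∈ 𝒜 n, ∃ b ∈ ℬ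 n, x = a ⊗ₜ[k] b}) (r s : ℕ) (hr : ringKrullDim R = r) (hs : ringKrullDim S = s) (h1r : 1 ≤ r) (h1s : 1 ≤ s) : ringKrullDim T = ((r + s - 1 : ℕ) : WithBot ℕ∞) := by
  classical
  have hT : GrSeg.IsSegreRing 𝒜 ℬ 𝒯 ψ := ⟨hψ, hdegT⟩
  obtain ⟨r', rfl⟩ : ∃ r', r = r' + 1 := ⟨r - 1, by omega⟩
  obtain ⟨s', rfl⟩ : ∃ s', s = s' + 1 := ⟨s - 1, by omega⟩
  obtain ⟨dR, hdR, hfR⟩ := GrSegre.exists_sop 𝒜 hposR h0R (M := R) 𝒜
    (r := r' + 1) (by rw [Module.supportDim_self_eq_ringKrullDim, hr])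
  obtain ⟨dS, hdS, hgS⟩ := GrSegre.exists_sop ℬ hposS h0S (M := S) ℬ
    (r := s' + 1) (by rw [Module.supportDim_self_eq_ringKrullDim, hs])
  obtain ⟨f, hf, hfM, hfa⟩ := hfR dS hdS
  obtain ⟨g, hg, hgN, hga⟩ := hgS dR hdR
  have h := GrSegre.supportDim_segre 𝒜 ℬ 𝒜 ℬ hT (GrSegre.isSegreMod_self 𝒜 ℬ 𝒯 ψ hT)
    (dR * dS) (Nat.mul_pos hdR hdS) f hf hfM g (fun j => by rw [mul_comm]; exact hg j) hgN
    (c := 0) (m := 1) SetLike.GradedOne.one_mem
    (fun p hp => hfa p fun x => by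
      rw [smul_eq_mul, mul_one] at hp
      rw [hp, zero_smul])
    (y := 1) SetLike.GradedOne.one_mem
    (fun p hp => hga p fun x => by
      rw [smul_eq_mul, mul_one] at hp
      rw [hp, zero_smul])
  rw [Module.supportDim_self_eq_ringKrullDim] at h
  rw [h, show r' + (s' + 1) = r' + 1 + (s' + 1) - 1 by omega]

end Groth.Agent.S18647
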