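import Groth.Statements.S18656
import Groth.Agent.GrLC.StandardCM
import Groth.Agent.GrSyz.Regularity
-- import your own Groth.Agent.* helpers here

set_option autoImplicit false
set_option maxRecDepth 20000
universe u
open GrLC

namespace Groth.Agent.S18656

/-- Let R be a graded ring defined over a field k = R_0, generated over k by R_1, of dimension r ≥ 1,
and let a(R) be its a-invariant. Then the homogeneous piece H^r_m(R)_n is nonzero for every n ≤
a(R). Here 'graded ring defined over a field' means R = ⊕_{n ≥ 0} R_n is Noetherian with R_0 a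
field, and m = R_+ is its unique graded maximal ideal. The a-invariant a(R) is the largest degree in
which the graded local cohomology H^n_m(R) (n = dim R, m = R_+), computed from a *injective
resolution of R in the graded category, is nonzero. -/
theorem result (R : Type u) [CommRing R] [IsNoetherianRing R] (𝒜 : ℤ → AddSubgroup R) [GradedRing 𝒜] (hpos : ∀ n : ℤ, n < 0 → 𝒜 n = ⊥) (h0 : IsField (GrLC.deg0 𝒜)) (m : HomogeneousIdeal 𝒜) (hm : GrLC.IsStarLocal 𝒜 m) (hmsp : m.toIdeal = Ideal.span (⋃ n ∈ Set.Ioi (0 : ℤ), (𝒜 n : Set R))) (hstd : Ideal.span (⋃ n ∈ Set.Ioi (0 : ℤ), (𝒜 n : Set R)) = Ideal.span ((𝒜 1 : AddSubgroup R) : Set R)) (r : ℕ) (hr : ringKrullDim R = r) (h1 : 1 ≤ r) (I : GrLC.StarInjRes 𝒜 𝒜) (a : ℤ) (ha : GrLC.endDeg (I.Hgr m r) = ((a : WithTop ℤ) : WithBot (WithTop ℤ))) (n : ℤ) (hn : n ≤ a) : I.Hcomp m r n ≠ ⊥ := by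
  have hp : ∀ n : ℤ, n < 0 → ∀ y ∈ 𝒜 n, y = 0 := fun n hn y hy => by rw [hpos n hn] at hy; exact hy
  haveI : IsArtinianRing (GrLC.deg0 𝒜) := @DivisionRing.instIsArtinianRing _ h0.toField.toDivisionRing
  intro hbot
  have hbot1 := (Groth.Agent.GrLC.LC.Hcomp_eq_bot_iff m r I n).1 hbot
  have hup : ∀ e : ℕ, Groth.Agent.GrLC.LC.gr 𝒜 m r (n + e) = ⊥ := by
    intro e
    induction e with
    | zero => simpa using hbot1
    | succ e ih =>
      rw [show n + ((e + 1 : ℕ) : ℤ) = n + e + 1 by push_cast; ring]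
      exact Groth.Agent.GrLC.gr_top_succ_eq_bot hp m hm (Groth.Agent.GrLC.irrel_eq_span_one hstd) hr ‹1 ≤ r› ih
  have hle : GrLC.endDeg (I.Hgr m r) ≤ (((n - 1 : ℤ) : WithTop ℤ) : WithBot (WithTop ℤ)) := by
    refine (Groth.Agent.GrSyz.endDeg_le_iff _ _).2 fun e he => ?_
    refine (Submodule.toAddSubgroup_inj (I.Hcomp m r e) ⊥).2 ((Groth.Agent.GrLC.LC.Hcomp_eq_bot_iff m r I e).2 ?_)
    obtain ⟨e', rfl⟩ : ∃ e' : ℕ, e = n + e' := ⟨(e - n).toNat, by omega⟩
    exact hup e'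
  rw [ha, WithBot.coe_le_coe, WithTop.coe_le_coe] at hle
  omega

end Groth.Agent.S18656
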