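import Groth.Statements.S18649
import Groth.Agent.GrSegre.SegreGorConv
import Groth.Agent.GrSegre.TopMap
import Groth.Agent.S18647
import Groth.Agent.S18648
import Groth.Agent.S18656

set_option autoImplicit false
universe u
open scoped TensorProduct
open GrSegre

namespace Groth.Agent.S18649
open Groth.Agent.GrSegre Groth.Agent.GrLC

/-- a piece below the a-invariant is nonzero -/
theorem exists_ne_zero_of_le {k R : Type u} [Field k] [CommRing R] [Algebra k R] [Nontrivial R] [IsNoetherianRing R]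
    {𝒜 : ℤ → Submodule k R} [GradedAlgebra 𝒜] (hpos : ∀ n : ℤ, n < 0 → 𝒜 n = ⊥)
    (h0 : 𝒜 0 = Submodule.span k {(1 : R)}) (m : HomogeneousIdeal 𝒜) (hm : m.toIdeal = irrI 𝒜)
    (hstd : Ideal.span (⋃ n ∈ Set.Ioi (0 : ℤ), (𝒜 n : Set R)) = Ideal.span ((𝒜 1 : Submodule k R) : Set R))
    (I : _root_.GrLC.StarInjRes 𝒜 𝒜) {r : ℕ} (hr : ringKrullDim R = r) (h1 : 1 ≤ r) {a : ℤ}
    (ha : _root_.GrLC.endDeg (I.Hgr m r) = ((a : WithTop ℤ) : WithBot (WithTop ℤ))) {d : ℤ} (hd : d ≤ a) :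
    ∃ z ∈ I.Hgr m r d, z ≠ 0 := by
  have hB := base_addGr (Groth.Agent.GrDual.base_of_span hpos h0)
  have hf : IsField (_root_.GrLC.deg0 (addGr 𝒜)) :=
    (RingEquiv.ofBijective _ (Groth.Agent.GrDual.toDeg0_bijective hB)).symm.toMulEquiv.isField
      (Field.toIsField k)
  have h := Groth.Agent.S18656.result R (addGr 𝒜)
    (fun n hn => (AddSubgroup.eq_bot_iff_forall _).2 fun x hx => hB.pos n hn x hx) hf (addIdeal 𝒜 m)
    (isStarLocal_addGr hpos h0 m hm) hm hstd r hr h1 (upRes I) a ha d hd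
  obtain ⟨z, hz, hne⟩ := Submodule.exists_mem_ne_zero_of_ne_bot h
  exact ⟨z, hz, hne⟩

set_option maxHeartbeats 2000000 in
/-- Let R and S be standard graded rings defined over a field k which are Cohen–Macaulay, of dimensions
r ≥ 2 and s ≥ 2. Whenever their Segre product T = R # S is Gorenstein, both R and S are Gorenstein,
and their a-invariants agree and are negative: a(R) = a(S) < 0. Here a graded ring defined over k is
a commutative k-algebra of finite type, graded in nonnegative degrees by k-subspaces with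
degree-zero part k·1, and it is standard graded when its irrelevant ideal is generated by the
degree-one piece; the a-invariant a(R) is the largest degree in which the graded local cohomology
H^{dim R}_{R_+}(R), computed from a *injective resolution of R in the graded category, is nonzero;
the Segre product T = R # S = ⊕_n R_n ⊗_k S_n is presented abstractly as a graded k-algebra T with
an injective k-algebra homomorphism ψ : T → R ⊗_k S carrying T_n onto the k-span of the elementary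
tensors a ⊗ b with a ∈ R_n, b ∈ S_n. -/
theorem result (k : Type u) [Field k] (R : Type u) [CommRing R] [Algebra k R] (𝒜 : ℤ → Submodule k R) [GradedAlgebra 𝒜] (hposR : ∀ n : ℤ, n < 0 → 𝒜 n = ⊥) (h0R : 𝒜 0 = Submodule.span k {(1 : R)}) [Algebra.FiniteType k R] (S : Type u) [CommRing S] [Algebra k S] (ℬ : ℤ → Submodule k S) [GradedAlgebra ℬ] (hposS : ∀ n : ℤ, n < 0 → ℬ n = ⊥) (h0S : ℬ 0 = Submodule.span k {(1 : S)}) [Algebra.FiniteType k S] (T : Type u) [CommRing T] [Algebra k T] (𝒯 : ℤ → Submodule k T) [GradedAlgebra 𝒯] (ψ : T →ₐ[k] TensorProduct k R S) (hψ : Function.Injective ψ) (hdegT : ∀ n : ℤ, (𝒯 n).map ψ.toLinearMap = Submodule.span k {x : TensorProduct k R S | ∃ a ∈ 𝒜 n, ∃ b ∈ ℬ n, x = a ⊗ₜ[k] b}) [LocCoh.IsCohenMacaulayRing R] [LocCoh.IsCohenMacaulayRing S] (mR : HomogeneousIdeal 𝒜) (hmR : mR.toIdeal = Ideal.span (⋃ n ∈ Set.Ioi (0 : ℤ), (𝒜 n : Set R))) (hstdR : Ideal.span (⋃ n ∈ Set.Ioi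 (0 : ℤ), (𝒜 n : Set R)) = Ideal.span ((𝒜 1 : Submodule k R) : Set R)) (I : GrLC.StarInjRes 𝒜 𝒜) (mS : HomogeneousIdeal ℬ) (hmS : mS.toIdeal = Ideal.span (⋃ n ∈ Set.Ioi (0 : ℤ), (ℬ n : Set S))) (hstdS : Ideal.span (⋃ n ∈ Set.Ioi (0 : ℤ), (ℬ n : Set S)) = Ideal.span ((ℬ 1 : Submodule k S) : Set S)) (J : GrLC.StarInjRes ℬ ℬ) (r s : ℕ) (hr : ringKrullDim R = r) (hs : ringKrullDim S = s) (h2r : 2 ≤ r) (h2s : 2 ≤ s) [LocCoh.IsGorensteinRing T] : LocCoh.IsGorensteinRing R ∧ LocCoh.IsGorensteinRing S ∧ GrLC.endDeg (I.Hgr mR r) = GrLC.endDeg (J.Hgr mS s) ∧ GrLC.endDeg (I.Hgr mR r) < 0 := by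
  haveI : Nontrivial R := not_subsingleton_iff_nontrivial.1 fun h => by
    simp [ringKrullDim_eq_bot_of_subsingleton] at hr
  haveI : Nontrivial S := not_subsingleton_iff_nontrivial.1 fun h => by
    simp [ringKrullDim_eq_bot_of_subsingleton] at hs
  haveI := Algebra.FiniteType.isNoetherianRing k R
  haveI := Algebra.FiniteType.isNoetherianRing k S
  haveI : IsNoetherianRing (R ⊗[k] S) := Algebra.FiniteType.isNoetherianRing R (R ⊗[k] S)
  have hT : _root_.GrSeg.IsSegreRing 𝒜 ℬ 𝒯 ψ := ⟨hψ, hdegT⟩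
  haveI : IsNoetherianRing T := isNoetherian_segre 𝒜 ℬ 𝒜 ℬ hT (isSegreMod_self 𝒜 ℬ 𝒯 ψ hT)
  haveI := nontrivial_segre ψ
  haveI : LocCoh.IsCohenMacaulayRing T := Groth.Agent.GrDual.isCohenMacaulayRing_of_gorenstein T
  haveI : Algebra.FiniteType k T := finiteType_of_isNoetherian 𝒯 (segre_hpos 𝒜 ℬ hT hposR)
    (segre_h0 𝒜 ℬ hT hposR h0R hposS h0S)
  have hposT := segre_hpos 𝒜 ℬ hT hposR
  have h0T := segre_h0 𝒜 ℬ hT hposR h0R hposS h0S
  have hBR := Groth.Agent.GrDual.base_of_span hposR h0R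
  have hBS := Groth.Agent.GrDual.base_of_span hposS h0S
  have hBT := Groth.Agent.GrDual.base_of_span hposT h0T
  obtain ⟨haneg, hbneg⟩ := (Groth.Agent.S18648.result k R 𝒜 hposR h0R S ℬ hposS h0S T 𝒯 ψ hψ hdegT
    mR hmR hstdR I mS hmS hstdS J r s hr hs h2r h2s).1 inferInstance
  obtain ⟨r', rfl⟩ : ∃ r', r = r' + 2 := ⟨r - 2, by omega⟩
  obtain ⟨s', rfl⟩ : ∃ s', s = s' + 2 := ⟨s - 2, by omega⟩
  have hn := Groth.Agent.S18647.result k R 𝒜 hposR h0R S ℬ hposS h0S T 𝒯 ψ hψ hdegT _ _ hr hs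
    (by omega) (by omega)
  rw [show r' + 2 + (s' + 2) - 1 = r' + s' + 3 by omega] at hn
  let mT : HomogeneousIdeal 𝒯 := ⟨irrI 𝒯, Ideal.homogeneous_span _ _ fun x hx => by
    obtain ⟨n, -, hn⟩ := Set.mem_iUnion₂.1 hx
    exact ⟨n, hn⟩⟩
  obtain ⟨IT⟩ := exists_res 𝒯 𝒯
  letI := Hdec I mR (r' + 2)
  letI := Hdec J mS (s' + 2)
  letI := Hdec IT mT (r' + s' + 3)
  haveI := Hgr_gradedSMul I mR (r' + 2)
  haveI := Hgr_gradedSMul J mS (s' + 2)
  haveI := Hgr_gradedSMul IT mT (r' + s' + 3)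
  obtain ⟨g, β, hβ, -⟩ := exists_shiftDual_ring hposT h0T mT rfl IT hn
  obtain ⟨φ, hφ⟩ := exists_segreMod_H_top hT (isSegreMod_self 𝒜 ℬ 𝒯 ψ hT) mR hmR mS hmS mT rfl I J IT r' s'
    (fun q d hq => hgr_eq_bot_above mR I hr.le hq d) (fun q d hq => hgr_eq_bot_above mS J hs.le hq d)
  haveI : SetLike.GradedSMul (addGr 𝒯) (IT.Hgr mT (r' + s' + 3)) :=
    ⟨fun _ _ _ _ hr hm => smul_mem_gr (𝒜 := 𝒯) (ℳ := IT.Hgr mT (r' + s' + 3)) hr hm⟩
  -- the top degree of `H_T` is `-g` and one-dimensional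
  obtain ⟨q, hq, hqne⟩ : ∃ q ∈ IT.Hgr mT (r' + s' + 3) (-g), q ≠ 0 := by
    by_contra hc
    push Not at hc
    refine one_ne_zero (α := T) (hβ.eq_zero g 1 (Groth.Agent.GrDual.one_mem_shA g) fun x hx => ?_)
    rw [hc x hx, map_zero]
  have hone : ∀ q' ∈ IT.Hgr mT (r' + s' + 3) (-g), β 1 q' = 0 → q' = 0 := fun q' hq' h =>
    Groth.Agent.GrDual.eq_zero_of_shiftDual (base_addGr hBT) hβ hq' fun t ht => by
      rw [show - -g + -g = (0 : ℤ) by ring] at ht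
      obtain ⟨c, rfl⟩ := hBT.exists_alg t ht
      rw [Algebra.algebraMap_eq_smul_one, map_smul, LinearMap.smul_apply, h, smul_zero]
  have hscal : ∀ q' ∈ IT.Hgr mT (r' + s' + 3) (-g), ∃ c : k, q' = c • q := fun q' hq' =>
    ⟨β 1 q' / β 1 q, sub_eq_zero.1 (hone _ (sub_mem hq' (ksmul_mem (𝒜 := 𝒯) _ _ hq)) (by
      rw [map_sub, map_smul, smul_eq_mul, div_mul_cancel₀ _ fun h => hqne (hone q hq h), sub_self]))⟩
  have habove : ∀ d, -g < d → ∀ q' ∈ IT.Hgr mT (r' + s' + 3) d, q' = 0 := fun d hd q' hq' =>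
    Groth.Agent.GrDual.eq_zero_of_shiftDual (base_addGr hBT) hβ hq' fun t ht => by
      rw [show t = 0 from hBT.pos _ (by omega) t ht, map_zero, LinearMap.zero_apply]
  obtain ⟨⟨z₀, hz₀, hz₀ne⟩, ⟨w₀, hw₀, hw₀ne⟩⟩ : (∃ z ∈ I.Hgr mR (r' + 2) (-g), z ≠ 0) ∧
      ∃ w ∈ J.Hgr mS (s' + 2) (-g), w ≠ 0 := by
    have hφq := (hφ.image_piece (-g)).le ⟨q, hq, rfl⟩
    constructor <;>
    · by_contra hc
      push Not at hc
      refine hqne (hφ.injective ?_)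
      rw [map_zero]
      suffices hle : _root_.GrSeg.segrePiece k (I.Hgr mR (r' + 2)) (J.Hgr mS (s' + 2)) (-g) ≤ ⊥ from
        (Submodule.mem_bot k).1 (hle hφq)
      refine Submodule.span_le.2 ?_
      rintro _ ⟨x, hx, y, hy, rfl⟩
      first
        | (rw [hc x hx, TensorProduct.zero_tmul]; exact zero_mem _)
        | (rw [hc y hy, TensorProduct.tmul_zero]; exact zero_mem _)
  obtain ⟨a, ha⟩ : ∃ a : ℤ, GrLC.endDeg (I.Hgr mR (r' + 2)) = ((a : WithTop ℤ) : WithBot (WithTop ℤ)) ∧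
      -g ≤ a := by
    have hle : (((-g : ℤ) : WithTop ℤ) : WithBot (WithTop ℤ)) ≤ GrLC.endDeg (I.Hgr mR (r' + 2)) :=
      le_iSup₂_of_le (-g) (fun hbot => hz₀ne (by rwa [hbot, AddSubgroup.mem_bot] at hz₀)) le_rfl
    generalize GrLC.endDeg (I.Hgr mR (r' + 2)) = e at hle haneg
    match e, hle, haneg with
    | ⊥, hle, _ => exact absurd hle (by simp)
    | ((⊤ : WithTop ℤ) : WithBot (WithTop ℤ)), _, haneg => exact absurd haneg (by simp)
    | (((a : ℤ) : WithTop ℤ) : WithBot (WithTop ℤ)), hle, _ =>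
      exact ⟨a, rfl, by simpa only [WithBot.coe_le_coe, WithTop.coe_le_coe] using hle⟩
  obtain ⟨b, hb⟩ : ∃ b : ℤ, GrLC.endDeg (J.Hgr mS (s' + 2)) = ((b : WithTop ℤ) : WithBot (WithTop ℤ)) ∧
      -g ≤ b := by
    have hle : (((-g : ℤ) : WithTop ℤ) : WithBot (WithTop ℤ)) ≤ GrLC.endDeg (J.Hgr mS (s' + 2)) :=
      le_iSup₂_of_le (-g) (fun hbot => hw₀ne (by rwa [hbot, AddSubgroup.mem_bot] at hw₀)) le_rfl
    generalize GrLC.endDeg (J.Hgr mS (s' + 2)) = e at hle hbneg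
    match e, hle, hbneg with
    | ⊥, hle, _ => exact absurd hle (by simp)
    | ((⊤ : WithTop ℤ) : WithBot (WithTop ℤ)), _, hbneg => exact absurd hbneg (by simp)
    | (((b : ℤ) : WithTop ℤ) : WithBot (WithTop ℤ)), hle, _ =>
      exact ⟨b, rfl, by simpa only [WithBot.coe_le_coe, WithTop.coe_le_coe] using hle⟩
  obtain ⟨ha, hga⟩ := ha
  obtain ⟨hb, hgb⟩ := hb
  obtain ⟨μR, hμR⟩ : ∃ μ : I.H mR (r' + 2) →ₗ[k] k, μ z₀ ≠ 0 := by
    by_contra hc
    push Not at hc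
    exact hz₀ne ((Module.forall_dual_apply_eq_zero_iff k z₀).1 hc)
  obtain ⟨μS, hμS⟩ : ∃ μ : J.H mS (s' + 2) →ₗ[k] k, μ w₀ ≠ 0 := by
    by_contra hc
    push Not at hc
    exact hw₀ne ((Module.forall_dual_apply_eq_zero_iff k w₀).1 hc)
  obtain ⟨q₀, hq₀, hq₀e⟩ := (hφ.image_piece (-g)).ge (Submodule.subset_span ⟨z₀, hz₀, w₀, hw₀, rfl⟩ :
    z₀ ⊗ₜ[k] w₀ ∈ _root_.GrSeg.segrePiece k (I.Hgr mR (r' + 2)) (J.Hgr mS (s' + 2)) (-g))
  have hscal' : ∀ z ∈ I.Hgr mR (r' + 2) (-g), ∀ w ∈ J.Hgr mS (s' + 2) (-g),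
      ∃ c : k, z ⊗ₜ[k] w = c • (z₀ ⊗ₜ[k] w₀) := by
    intro z hz w hw
    obtain ⟨q', hq', hq'e⟩ := (hφ.image_piece (-g)).ge (Submodule.subset_span ⟨z, hz, w, hw, rfl⟩ :
      z ⊗ₜ[k] w ∈ _root_.GrSeg.segrePiece k (I.Hgr mR (r' + 2)) (J.Hgr mS (s' + 2)) (-g))
    obtain ⟨c, rfl⟩ := hscal q' hq'
    obtain ⟨c₀, rfl⟩ := hscal q₀ hq₀
    have hc₀ : c₀ ≠ 0 := fun h => by
      have h1 := congrArg (fun u => TensorProduct.lid k k (TensorProduct.map μR μS u)) hq₀e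
      simp only [h, zero_smul, map_zero, TensorProduct.map_tmul, TensorProduct.lid_tmul, smul_eq_mul] at h1
      exact mul_ne_zero hμR hμS h1.symm
    exact ⟨c / c₀, by rw [← hq'e, ← hq₀e, map_smul, map_smul, smul_smul, div_mul_cancel₀ _ hc₀]⟩
  have hspanR : ∀ z ∈ I.Hgr mR (r' + 2) (-g), ∃ c : k, z = c • z₀ := fun z hz => by
    obtain ⟨c, hc⟩ := hscal' z hz w₀ hw₀
    have h1 := congrArg (fun u => TensorProduct.rid k _ (TensorProduct.map LinearMap.id μS u)) hc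
    simp only [map_smul, TensorProduct.map_tmul, LinearMap.id_apply, TensorProduct.rid_tmul] at h1
    rw [smul_comm] at h1
    exact ⟨c, smul_right_injective _ hμS h1⟩
  have hspanS : ∀ w ∈ J.Hgr mS (s' + 2) (-g), ∃ c : k, w = c • w₀ := fun w hw => by
    obtain ⟨c, hc⟩ := hscal' z₀ hz₀ w hw
    have h1 := congrArg (fun u => TensorProduct.lid k _ (TensorProduct.map μR LinearMap.id u)) hc
    simp only [map_smul, TensorProduct.map_tmul, LinearMap.id_apply, TensorProduct.lid_tmul] at h1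
    rw [smul_comm] at h1
    exact ⟨c, smul_right_injective _ hμR h1⟩
  have hneR : ∀ d ≤ a, ∃ z ∈ I.Hgr mR (r' + 2) d, z ≠ 0 := fun d hd =>
    exists_ne_zero_of_le hposR h0R mR hmR hstdR I hr (by omega) ha hd
  have hneS : ∀ d ≤ b, ∃ w ∈ J.Hgr mS (s' + 2) d, w ≠ 0 := fun d hd =>
    exists_ne_zero_of_le hposS h0S mS hmS hstdS J hs (by omega) hb hd
  -- both ends are `-g`
  have hag : a = -g := by
    rcases hga.eq_or_lt with h | h
    · exact h.symm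
    · obtain ⟨z, hz, hzne⟩ := hneR a le_rfl
      exact (top_not_one_dim_below hBR hstdR mR I hr h2r h hz hzne hspanR).elim
  have hbg : b = -g := by
    rcases hgb.eq_or_lt with h | h
    · exact h.symm
    · obtain ⟨w, hw, hwne⟩ := hneS b le_rfl
      exact (top_not_one_dim_below hBS hstdS mS J hs h2s h hw hwne hspanS).elim
  subst hag hbg
  have hSne : ∀ j : ℤ, 0 ≤ j → ∃ y ∈ ℬ j, y ≠ (0 : S) := fun j hj =>
    Submodule.exists_mem_ne_zero_of_ne_bot (ne_bot_of_std ℬ hposS h0S hstdS (by omega) hs hj)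
  have hRne : ∀ j : ℤ, 0 ≤ j → ∃ y ∈ 𝒜 j, y ≠ (0 : R) := fun j hj =>
    Submodule.exists_mem_ne_zero_of_ne_bot (ne_bot_of_std 𝒜 hposR h0R hstdR (by omega) hr hj)
  obtain ⟨βR, hβR⟩ := exists_shiftDual_factor hBR hBT hT hSne hφ hβ hz₀ hz₀ne hspanR
    (fun d hd z hz => by
      have := Groth.Agent.GrDual.eq_bot_of_endDeg_lt ha hd
      rwa [this, AddSubgroup.mem_bot] at hz) hneS
  obtain ⟨βS, hβS⟩ := exists_shiftDual_factor hBS hBT (isSegreRing_comm hT) hRne (isSegreMod_comm hφ) hβ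
    hw₀ hw₀ne hspanS
    (fun d hd z hz => by
      have := Groth.Agent.GrDual.eq_bot_of_endDeg_lt hb hd
      rwa [this, AddSubgroup.mem_bot] at hz) hneR
  refine ⟨gorenstein_of_shiftDual hposR h0R mR hmR I hr hβR,
    gorenstein_of_shiftDual hposS h0S mS hmS J hs hβS, ha.trans hb.symm, haneg⟩

end Groth.Agent.S18649
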