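import Groth.Statements.S1865
import Groth.Agent.GrpScheme.IdComponent

set_option autoImplicit false
universe u v
open CategoryTheory MonoidalCategory CartesianMonoidalCategory MonObj GrpObj AlgebraicGeometry
open GrpSch

namespace Groth.Agent.S1865

/-- A group scheme over a field contains an open and closed subset containing the identity point which
is a countable union of affine opens. (The source does not mention the identity point; its
construction contains it, and without it the empty set would do.) -/
theorem result (K : Type u) [Field K] (G : Over (Spec (CommRingCat.of K))) [GrpObj G] : ∃ U : G.left.Opens, IsClosed (U : Set G.left) ∧ η[G].left (IsLocalRing.closedPoint K) ∈ U ∧ ∃ V : ℕ → G.left.Opens, (∀ n, IsAffineOpen (V n)) ∧ (U : Set G.left) = ⋃ n, (V n : Set G.left) := by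
  obtain ⟨S, hS, hSc, heS⟩ := Groth.Agent.GrpScheme.IdComponent.exists_compact_clopen G
  obtain ⟨s, hs, hSeq⟩ := isCompact_and_isOpen_iff_finite_and_eq_biUnion_affineOpens.mp ⟨hSc, hS.2⟩
  have hne : s.Nonempty := by
    rw [hSeq] at heS
    simp only [Set.mem_iUnion] at heS
    obtain ⟨i, hi, -⟩ := heS
    exact ⟨i, hi⟩
  obtain ⟨g, hg⟩ := hs.countable.exists_eq_range hne
  refine ⟨⟨S, hS.2⟩, hS.1, heS, fun n => (g n).1, fun n => (g n).2, ?_⟩
  show S = _
  rw [hSeq, hg]
  simp

end Groth.Agent.S1865
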