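import Groth.Statements.S18653
import Groth.Agent.GrLC.Basic
import Groth.Agent.VarDim.Algebra
import Mathlib.Algebra.Polynomial.Basic
import Mathlib.Algebra.MonoidAlgebra.Basic
import Mathlib.GroupTheory.Archimedean
-- import your own Groth.Agent.* helpers here

set_option autoImplicit false
universe u
open GrLC

namespace Groth.Agent.S18653

open DirectSum Groth.Agent.GrLC

variable {k : Type u} [Field k] [IsAlgClosed k] {R : Type u} [CommRing R] [IsDomain R] [Algebra k R]
  (𝒜 : ℤ → Submodule k R) [GradedAlgebra 𝒜]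

/-- Two forms of the same positive degree are proportional. -/
theorem proportional [Algebra.FiniteType k R] (h1 : ringKrullDim R = 1) {n : ℤ} (hn : n ≠ 0)
    {a b : R} (ha : a ∈ 𝒜 n) (hb : b ∈ 𝒜 n) (ha0 : a ≠ 0) : ∃ c : k, b = c • a := by
  classical
  have htr : Algebra.trdeg k R = (1 : ℕ) :=
    VarDim.trdeg_eq_of_ringKrullDim_eq k R (by rw [h1]; norm_num)
  have hdep : ¬ AlgebraicIndependent k ![a, b] := fun h => by
    have := h.lift_cardinalMk_le_trdeg
    rw [htr, Cardinal.mk_fin] at this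
    simp at this
  rw [algebraicIndependent_iff] at hdep
  push Not at hdep
  obtain ⟨P, hP, hP0⟩ := hdep
  -- a homogeneous relation
  obtain ⟨j, hj⟩ : ∃ j, MvPolynomial.homogeneousComponent j P ≠ 0 := by
    by_contra! h
    apply hP0
    rw [← MvPolynomial.sum_homogeneousComponent P]
    exact Finset.sum_eq_zero fun i _ => h i
  have hQh := MvPolynomial.homogeneousComponent_isHomogeneous j P
  set Q := MvPolynomial.homogeneousComponent j P with hQdef
  have hmemhom : ∀ (i : ℕ) (Q' : MvPolynomial (Fin 2) k), Q'.IsHomogeneous i →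
      MvPolynomial.aeval ![a, b] Q' ∈ 𝒜 ((i : ℤ) * n) := by
    intro i Q' hQ'
    rw [Q'.as_sum, map_sum]
    refine Submodule.sum_mem _ fun d hd => ?_
    rw [MvPolynomial.aeval_monomial, Finsupp.prod_fintype _ _ (by simp), Fin.prod_univ_two,
      ← Algebra.smul_def]
    refine Submodule.smul_mem _ _ ?_
    have hdeg : d 0 + d 1 = i := by
      have := hQ' (MvPolynomial.mem_support_iff.mp hd)
      simpa [Finsupp.weight_apply, Finsupp.sum_fintype, Fin.sum_univ_two] using this
    rw [show (i : ℤ) * n = d 0 • n + d 1 • n by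
      rw [← hdeg, ← add_smul, nsmul_eq_mul]]
    exact SetLike.mul_mem_graded (SetLike.pow_mem_graded _ ha) (SetLike.pow_mem_graded _ hb)
  have hQz : MvPolynomial.aeval ![a, b] Q = 0 := by
    have h := congrArg (cpt 𝒜 ((j : ℤ) * n)) hP
    rw [map_zero] at h
    conv_lhs at h => rw [← MvPolynomial.sum_homogeneousComponent P, map_sum, map_sum]
    rw [Finset.sum_eq_single_of_mem j ?_ fun i _ hi => cpt_of_mem_ne 𝒜
        (hmemhom i _ (MvPolynomial.homogeneousComponent_isHomogeneous i P))
        (by simpa [hn] using hi)] at h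
    · rwa [cpt_of_mem 𝒜 (hmemhom j _ hQh)] at h
    · rw [Finset.mem_range]
      by_contra hlt
      exact hj (MvPolynomial.homogeneousComponent_eq_zero j P (by omega))
  -- dehomogenise in the fraction field
  let F := FractionRing R
  let t : F := algebraMap R F b / algebraMap R F a
  have hA : algebraMap R F a ≠ 0 := (map_ne_zero_iff _ (IsFractionRing.injective R F)).mpr ha0
  let q : Polynomial k := MvPolynomial.aeval ![1, Polynomial.X] Q
  have hdeg : ∀ d ∈ Q.support, d 0 + d 1 = j := fun d hd => by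
    have := hQh (MvPolynomial.mem_support_iff.mp hd)
    simpa [Finsupp.weight_apply, Finsupp.sum_fintype, Fin.sum_univ_two] using this
  have hqsum : q = ∑ d ∈ Q.support, Polynomial.monomial (d 1) (Q.coeff d) := by
    show MvPolynomial.aeval _ Q = _
    conv_lhs => rw [Q.as_sum]
    rw [map_sum]
    refine Finset.sum_congr rfl fun d _ => ?_
    rw [MvPolynomial.aeval_monomial, Finsupp.prod_fintype _ _ (by simp), Fin.prod_univ_two]
    simp [← Polynomial.C_mul_X_pow_eq_monomial]
  have hq0 : q ≠ 0 := by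
    obtain ⟨d, hd⟩ := MvPolynomial.support_nonempty.mpr hj
    intro h
    have h' := congrArg (Polynomial.coeff · (d 1)) h
    simp only [hqsum, Polynomial.finset_sum_coeff, Polynomial.coeff_monomial, Polynomial.coeff_zero] at h'
    rw [Finset.sum_eq_single_of_mem d hd fun e he hne => if_neg fun h1' => hne (Finsupp.ext fun i => by
      fin_cases i
      · have := hdeg e he; have := hdeg d hd; simp only [Fin.zero_eta]; omega
      · exact h1'), if_pos rfl] at h'
    exact MvPolynomial.mem_support_iff.mp hd h'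
  have hroot : Polynomial.aeval t q = 0 := by
    have h : algebraMap R F a ^ j * Polynomial.aeval t q =
        algebraMap R F (MvPolynomial.aeval ![a, b] Q) := by
      conv_rhs => rw [Q.as_sum]
      rw [hqsum, map_sum, map_sum, map_sum, Finset.mul_sum]
      refine Finset.sum_congr rfl fun d hd => ?_
      rw [Polynomial.aeval_monomial, MvPolynomial.aeval_monomial,
        Finsupp.prod_fintype _ _ (by simp), Fin.prod_univ_two, map_mul, map_mul, map_pow, map_pow,
        ← IsScalarTower.algebraMap_apply, ← hdeg d hd]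
      simp only [t, div_pow, Matrix.cons_val_zero, Matrix.cons_val_one]
      have hA' := pow_ne_zero (d 1) hA
      generalize algebraMap R F a = A, algebraMap R F b = B at hA' ⊢
      rw [pow_add, show ∀ (c Z : F), A ^ d 0 * A ^ d 1 * (c * Z) = c * (A ^ d 0 * (Z * A ^ d 1)) from
        fun c Z => by ring, div_mul_cancel₀ _ hA']
    rw [hQz, map_zero] at h
    exact (mul_eq_zero.mp h).resolve_left (pow_ne_zero _ hA)
  have halg : IsIntegral k t := isAlgebraic_iff_isIntegral.mp ⟨q, hq0, hroot⟩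
  obtain ⟨c, hc⟩ : ∃ c : k, algebraMap k F c = t := by
    haveI := Algebra.IsIntegral.adjoin (S := ({t} : Set F)) (by simpa using halg)
    obtain ⟨c, hc⟩ := (IsAlgClosed.algebraMap_bijective_of_isIntegral
      (k := k) (K := Algebra.adjoin k ({t} : Set F))).2 ⟨t, Algebra.self_mem_adjoin_singleton k t⟩
    exact ⟨c, congrArg Subtype.val hc⟩
  refine ⟨c, IsFractionRing.injective R F ?_⟩
  rw [Algebra.smul_def, map_mul, ← IsScalarTower.algebraMap_apply, hc, div_mul_cancel₀ _ hA]

variable (F : Type u) [Field F] [Algebra R F] [IsFractionRing R F] [Algebra k F] [IsScalarTower k R F]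

/-- `x` is a quotient of forms with degree difference `m`. -/
def HasDeg (m : ℤ) (x : F) : Prop :=
  ∃ (i j : ℤ) (a b : R), a ∈ 𝒜 i ∧ b ∈ 𝒜 j ∧ a ≠ 0 ∧ b ≠ 0 ∧ i = j + m ∧
    x = algebraMap R F a / algebraMap R F b

omit [IsAlgClosed k] in
theorem HasDeg.mul {m m' : ℤ} {x x' : F} (h : HasDeg 𝒜 F m x) (h' : HasDeg 𝒜 F m' x') :
    HasDeg 𝒜 F (m + m') (x * x') := by
  obtain ⟨i, j, a, b, ha, hb, ha0, hb0, hij, rfl⟩ := h
  obtain ⟨i', j', a', b', ha', hb', ha0', hb0', hij', rfl⟩ := h'
  exact ⟨i + i', j + j', a * a', b * b', SetLike.mul_mem_graded ha ha', SetLike.mul_mem_graded hb hb',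
    mul_ne_zero ha0 ha0', mul_ne_zero hb0 hb0', by omega, by rw [map_mul, map_mul, div_mul_div_comm]⟩

omit [IsAlgClosed k] in
theorem hasDeg_one : HasDeg 𝒜 F 0 1 :=
  ⟨0, 0, 1, 1, SetLike.GradedOne.one_mem, SetLike.GradedOne.one_mem, one_ne_zero, one_ne_zero,
    by simp, by simp⟩

omit [IsAlgClosed k] in
theorem exists_hasDeg {m : ℤ} (hm : m ∈ AddSubgroup.closure {n : ℤ | 𝒜 n ≠ ⊥}) :
    ∃ x, HasDeg 𝒜 F m x := by
  induction hm using AddSubgroup.closure_induction with
  | mem n hn =>
    obtain ⟨a, ha, ha0⟩ := Submodule.exists_mem_ne_zero_of_ne_bot hn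
    exact ⟨_, n, 0, a, 1, ha, SetLike.GradedOne.one_mem, ha0, one_ne_zero, by simp, rfl⟩
  | zero => exact ⟨1, hasDeg_one 𝒜 F⟩
  | add x y _ _ hx hy =>
    obtain ⟨x', hx⟩ := hx
    obtain ⟨y', hy⟩ := hy
    exact ⟨_, hx.mul 𝒜 F hy⟩
  | neg x _ hx =>
    obtain ⟨-, i, j, a, b, ha, hb, ha0, hb0, hij, -⟩ := hx
    exact ⟨_, j, i, b, a, hb, ha, hb0, ha0, by omega, rfl⟩

/-- A form of degree `n > 0` is a scalar multiple of any quotient of forms of degree `n`. -/
theorem exists_smul_of_hasDeg [Algebra.FiniteType k R] (h1 : ringKrullDim R = 1)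
    (hpos : ∀ n : ℤ, n < 0 → 𝒜 n = ⊥) {n : ℤ} (hn : 0 < n) {x : F} (hx : HasDeg 𝒜 F n x)
    {a : R} (ha : a ∈ 𝒜 n) : ∃ c : k, algebraMap R F a = c • x := by
  obtain ⟨i, j, p, q, hp, hq, hp0, hq0, hij, rfl⟩ := hx
  have hj : 0 ≤ j := by
    by_contra! h
    exact hq0 ((Submodule.eq_bot_iff _).mp (hpos j h) q hq)
  obtain ⟨c, hc⟩ := proportional 𝒜 h1 (n := i) (by omega) hp
    (b := a * q) (by rw [hij, add_comm j n]; exact SetLike.mul_mem_graded ha hq) hp0
  have hq' : algebraMap R F q ≠ 0 := (map_ne_zero_iff _ (IsFractionRing.injective R F)).mpr hq0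
  have h := congrArg (algebraMap R F) hc
  rw [map_mul, Algebra.smul_def, map_mul, ← IsScalarTower.algebraMap_apply] at h
  exact ⟨c, by rw [Algebra.smul_def, mul_div, eq_div_iff hq', h]⟩

/-- Let R be a graded ring defined over an algebraically closed field k which is an integral domain of
dimension one. Then R is isomorphic to a semigroup ring (the subring of k[T] spanned by the
monomials T^h, h in an additive submonoid H of ℕ); moreover, if R is generated over k by R_1, then R
is a polynomial ring k[T]. Here a graded ring defined over k is a commutative k-algebra of finite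
type graded in nonnegative degrees by k-subspaces with degree-zero part k·1; the isomorphisms
asserted are ring isomorphisms. -/
theorem result (k : Type u) [Field k] [IsAlgClosed k] (R : Type u) [CommRing R] [IsDomain R] [Algebra k R] (𝒜 : ℤ → Submodule k R) [GradedAlgebra 𝒜] (hpos : ∀ n : ℤ, n < 0 → 𝒜 n = ⊥) (h0 : 𝒜 0 = Submodule.span k {(1 : R)}) [Algebra.FiniteType k R] (h1 : ringKrullDim R = 1) : (∃ H : AddSubmonoid ℕ, Nonempty (R ≃+* AddMonoidAlgebra k H)) ∧ (Ideal.span (⋃ n ∈ Set.Ioi (0 : ℤ), (𝒜 n : Set R)) = Ideal.span ((𝒜 1 : Submodule k R) : Set R) → Nonempty (R ≃+* Polynomial k)) := by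
  classical
  let F := FractionRing R
  have h00 : ∀ x ∈ 𝒜 0, ∃ c : k, c • (1 : R) = x := fun x hx => by
    rwa [h0, Submodule.mem_span_singleton] at hx
  -- a form of positive degree
  obtain ⟨n₀, hn₀, hn₀ne⟩ : ∃ n : ℤ, 0 < n ∧ 𝒜 n ≠ ⊥ := by
    by_contra! h
    have hs : Function.Surjective (algebraMap k R) := fun r => by
      induction r using homogeneous_induction 𝒜 with
      | zero => exact ⟨0, map_zero _⟩
      | add a b ha hb =>
        obtain ⟨c, rfl⟩ := ha
        obtain ⟨d, rfl⟩ := hb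
        exact ⟨c + d, map_add _ _ _⟩
      | hom g x hx =>
        rcases lt_trichotomy g 0 with hg | rfl | hg
        · exact ⟨0, by rw [map_zero, (Submodule.eq_bot_iff _).mp (hpos g hg) x hx]⟩
        · obtain ⟨c, rfl⟩ := h00 x hx
          exact ⟨c, Algebra.algebraMap_eq_smul_one c⟩
        · exact ⟨0, by rw [map_zero, (Submodule.eq_bot_iff _).mp (h g hg) x hx]⟩
    have h' := ringKrullDim_le_of_surjective (algebraMap k R) hs
    rw [h1, ringKrullDim_eq_zero_of_field] at h'
    norm_cast at h'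
  obtain ⟨g₁, hg₁⟩ := Int.subgroup_cyclic (AddSubgroup.closure {n : ℤ | 𝒜 n ≠ ⊥})
  set g : ℕ := g₁.natAbs with hgdef
  have hG : ∀ n, 𝒜 n ≠ ⊥ → (g : ℤ) ∣ n := fun n hn => by
    have : n ∈ AddSubgroup.closure {n : ℤ | 𝒜 n ≠ ⊥} := AddSubgroup.subset_closure hn
    rw [hg₁, AddSubgroup.mem_closure_singleton] at this
    obtain ⟨c, rfl⟩ := this
    exact Int.natAbs_dvd.mpr ⟨c, by rw [zsmul_eq_mul, Int.cast_id, mul_comm]⟩
  have hgG : (g : ℤ) ∈ AddSubgroup.closure {n : ℤ | 𝒜 n ≠ ⊥} := by
    rcases Int.natAbs_eq g₁ with h | h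
    · rw [hgdef, ← h, hg₁]; exact AddSubgroup.subset_closure rfl
    · rw [hgdef, show (g₁.natAbs : ℤ) = -g₁ by omega, neg_mem_iff, hg₁]
      exact AddSubgroup.subset_closure rfl
  have hg0 : 0 < g := by
    rcases Nat.eq_zero_or_pos g with h | h
    · have := hG n₀ hn₀ne
      rw [h, Nat.cast_zero, zero_dvd_iff] at this
      omega
    · exact h
  obtain ⟨t, ht⟩ := exists_hasDeg 𝒜 F hgG
  have htp : ∀ h : ℕ, HasDeg 𝒜 F ((h : ℤ) * g) (t ^ h) := by
    intro h
    induction h with
    | zero => simpa using hasDeg_one 𝒜 F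
    | succ h ih =>
      rw [pow_succ, Nat.cast_succ, add_mul, one_mul]
      exact ih.mul 𝒜 F ht
  let ι : R →ₐ[k] F := IsScalarTower.toAlgHom k R F
  have hι : Function.Injective ι := IsFractionRing.injective R F
  -- every form is a scalar multiple of a power of `t`
  have hkey : ∀ (h : ℕ) (a : R), a ∈ 𝒜 ((h : ℤ) * g) → ∃ c : k, ι a = c • t ^ h := by
    intro h a ha
    rcases Nat.eq_zero_or_pos h with rfl | hh
    · rw [Nat.cast_zero, zero_mul] at ha
      obtain ⟨c, rfl⟩ := h00 a ha
      exact ⟨c, by rw [map_smul, map_one, pow_zero]⟩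
    · exact exists_smul_of_hasDeg 𝒜 F h1 hpos (by positivity) (htp h) ha
  let H : AddSubmonoid ℕ :=
    { carrier := {h : ℕ | 𝒜 ((h : ℤ) * g) ≠ ⊥}
      zero_mem' := by
        simp only [Set.mem_setOf_eq, Nat.cast_zero, zero_mul]
        exact fun h => one_ne_zero ((Submodule.eq_bot_iff _).mp h (1 : R) SetLike.GradedOne.one_mem)
      add_mem' := fun {a b} ha hb h => by
        obtain ⟨x, hx, hx0⟩ := Submodule.exists_mem_ne_zero_of_ne_bot ha
        obtain ⟨y, hy, hy0⟩ := Submodule.exists_mem_ne_zero_of_ne_bot hb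
        have := SetLike.mul_mem_graded hx hy
        rw [← add_mul, ← Nat.cast_add, h, Submodule.mem_bot] at this
        exact mul_ne_zero hx0 hy0 this }
  have hH : ∀ h ∈ H, t ^ h ∈ ι.range := by
    intro h hh
    obtain ⟨a, ha, ha0⟩ := Submodule.exists_mem_ne_zero_of_ne_bot hh
    obtain ⟨c, hc⟩ := hkey h a ha
    have hc0 : c ≠ 0 := fun h => ha0 (hι (by rw [hc, h, zero_smul, map_zero]))
    exact ⟨c⁻¹ • a, by
      show ι (c⁻¹ • a) = _
      rw [map_smul, hc, smul_smul, inv_mul_cancel₀ hc0, one_smul]⟩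
  let ψ : AddMonoidAlgebra k H →ₐ[k] Polynomial k :=
    (Polynomial.toFinsuppIsoAlg k).symm.toAlgHom.comp
      (AddMonoidAlgebra.mapDomainAlgHom k k H.subtype)
  let φ : AddMonoidAlgebra k H →ₐ[k] F := (Polynomial.aeval t).comp ψ
  have hφ : ∀ (h : H) (c : k), φ (AddMonoidAlgebra.single h c) = c • t ^ (h : ℕ) := by
    intro h c
    have e : ψ (AddMonoidAlgebra.single h c) = Polynomial.monomial (h : ℕ) c := by
      rw [← Polynomial.ofFinsupp_single]
      simp [ψ]
      rfl
    show Polynomial.aeval t (ψ _) = _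
    rw [e, Polynomial.aeval_monomial, Algebra.smul_def]
  have hhom : ∀ {S : Subalgebra k F}, (∀ h ∈ H, t ^ h ∈ S) → ι.range ≤ S := by
    rintro S hS _ ⟨r, rfl⟩
    show ι r ∈ S
    induction r using homogeneous_induction 𝒜 with
    | zero => rw [map_zero]; exact zero_mem _
    | add a b ha hb => rw [map_add]; exact add_mem ha hb
    | hom n a ha =>
      by_cases hne : 𝒜 n = ⊥
      · rw [(Submodule.eq_bot_iff _).mp hne a ha, map_zero]; exact zero_mem _
      obtain ⟨e, rfl⟩ := hG n hne
      have he : 0 ≤ e := by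
        by_contra! he
        exact hne (hpos _ (mul_neg_of_pos_of_neg (by exact_mod_cast hg0) he))
      lift e to ℕ using he
      rw [mul_comm] at ha hne
      obtain ⟨c, hc⟩ := hkey e a ha
      rw [hc]
      exact Subalgebra.smul_mem _ (hS e hne) c
  -- `t` is transcendental
  have htr : Function.Injective (Polynomial.aeval t : Polynomial k →ₐ[k] F) := by
    rw [← transcendental_iff_injective]
    intro halg
    haveI := Algebra.IsIntegral.adjoin (S := ({t} : Set F))
      (by simpa using isAlgebraic_iff_isIntegral.mp halg)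
    obtain ⟨c, hc⟩ := (IsAlgClosed.algebraMap_bijective_of_isIntegral
      (k := k) (K := Algebra.adjoin k ({t} : Set F))).2 ⟨t, Algebra.self_mem_adjoin_singleton k t⟩
    replace hc : algebraMap k F c = t := congrArg Subtype.val hc
    obtain ⟨a, ha, ha0⟩ := Submodule.exists_mem_ne_zero_of_ne_bot hn₀ne
    have hmem : ι a ∈ (⊥ : Subalgebra k F) := hhom (S := ⊥) (fun h _ => by
      rw [← hc, ← map_pow]; exact Subalgebra.algebraMap_mem _ _) ⟨a, rfl⟩
    obtain ⟨d, hd⟩ := Algebra.mem_bot.mp hmem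
    have had : a = d • (1 : R) := hι (by rw [map_smul, map_one, ← Algebra.algebraMap_eq_smul_one, hd])
    have h' := cpt_of_mem_ne 𝒜 (show a ∈ 𝒜 0 by
      rw [had]; exact Submodule.smul_mem _ _ SetLike.GradedOne.one_mem) hn₀.ne
    rw [cpt_of_mem 𝒜 ha] at h'
    exact ha0 h'
  have hψ : Function.Injective ψ :=
    (Polynomial.toFinsuppIsoAlg k).symm.injective.comp
      (AddMonoidAlgebra.mapDomain_injective Subtype.val_injective)
  refine ⟨⟨H, ?_⟩, fun hgen => ?_⟩
  · have hrange : ι.range = φ.range := by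
      refine le_antisymm (hhom fun h hh => ⟨AddMonoidAlgebra.single ⟨h, hh⟩ 1, by
        show φ _ = _; rw [hφ, one_smul]⟩) ?_
      rintro _ ⟨p, rfl⟩
      show φ p ∈ ι.range
      induction p using AddMonoidAlgebra.induction_linear with
      | zero => rw [map_zero]; exact zero_mem _
      | add a b ha hb => rw [map_add]; exact add_mem ha hb
      | single h c => rw [hφ]; exact Subalgebra.smul_mem _ (hH h h.2) c
    exact ⟨((AlgEquiv.ofInjective ι hι).trans ((Subalgebra.equivOfEq _ _ hrange).trans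
      (AlgEquiv.ofInjective φ (htr.comp hψ)).symm)).toRingEquiv⟩
  · have h1ne : 𝒜 1 ≠ ⊥ := by
      intro hbot
      obtain ⟨a, ha, ha0⟩ := Submodule.exists_mem_ne_zero_of_ne_bot hn₀ne
      have hz : Ideal.span ((𝒜 1 : Submodule k R) : Set R) = ⊥ := by
        rw [Ideal.span_eq_bot]
        intro x hx
        rwa [hbot] at hx
      have : a ∈ Ideal.span (⋃ n ∈ Set.Ioi (0 : ℤ), (𝒜 n : Set R)) :=
        Ideal.subset_span (Set.mem_biUnion (Set.mem_Ioi.mpr hn₀) ha)
      rw [hgen, hz, Ideal.mem_bot] at this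
      exact ha0 this
    have hg1 : g = 1 := by
      have := Int.le_of_dvd one_pos (hG 1 h1ne)
      omega
    have h1H : (1 : ℕ) ∈ H := by
      show 𝒜 _ ≠ ⊥
      rwa [hg1, Nat.cast_one, one_mul]
    have hrange : ι.range = (Polynomial.aeval t : Polynomial k →ₐ[k] F).range := by
      refine le_antisymm (hhom fun h _ => ⟨Polynomial.X ^ h, by simp⟩) ?_
      rw [← Algebra.adjoin_singleton_eq_range_aeval, Algebra.adjoin_le_iff, Set.singleton_subset_iff]
      simpa using hH 1 h1H
    exact ⟨((AlgEquiv.ofInjective ι hι).trans ((Subalgebra.equivOfEq _ _ hrange).trans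
      (AlgEquiv.ofInjective _ htr).symm)).toRingEquiv⟩

end Groth.Agent.S18653
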