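import Groth.Statements.S18655
import Groth.Agent.GrDual.VeroneseCount
import Groth.Agent.GrDual.TypeSocle
import Groth.Agent.GrDual.GorAscent
-- import your own Groth.Agent.* helpers here

set_option autoImplicit false
universe u
open GrLC

namespace Groth.Agent.S18655

set_option maxHeartbeats 1000000 in
/-- Let R be a graded ring defined over a field k = R_0 which is Gorenstein and generated over k by R_1,
of dimension n, and let q ≥ 1. Then the type r(R^(q)) of the Veronese subring equals H(j + a(R), R)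
= dim_k R_{j + a(R)}, where j is the smallest multiple of q with j + a(R) ≥ 0 (so j + a(R) is the
remainder ρ of a(R) modulo q, 0 ≤ ρ < q; the statement is written in terms of ρ). Here the type of
R^(q) is the Bass number μ_n(m', R^(q)), the dimension over the residue field of Ext^n over the
local ring of R^(q) at its graded maximal ideal m' = (R^(q))_+ (R^(q) has dimension n). Here 'graded
ring defined over a field' means R = ⊕_{n ≥ 0} R_n is Noetherian with R_0 a field, and m = R_+ is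
its unique graded maximal ideal. The a-invariant a(R) is the largest degree in which the graded
local cohomology H^n_m(R) (n = dim R, m = R_+), computed from a *injective resolution of R in the
graded category, is nonzero. The Veronese subring R^(q) = ⊕_j R_{jq}, regraded by (R^(q))_j =
R_{jq}, is presented abstractly as a ℤ-graded ring R' with an injective ring homomorphism φ : R' → R
carrying R'_j onto R_{jq} for every j. -/
theorem result (R : Type u) [CommRing R] [LocCoh.IsGorensteinRing R] (𝒜 : ℤ → AddSubgroup R) [GradedRing 𝒜] (hpos : ∀ n : ℤ, n < 0 → 𝒜 n = ⊥) (h0 : IsField (GrLC.deg0 𝒜)) (m : HomogeneousIdeal 𝒜) (hm : GrLC.IsStarLocal 𝒜 m) (hmsp : m.toIdeal = Ideal.span (⋃ n ∈ Set.Ioi (0 : ℤ), (𝒜 n : Set R))) (hstd : Ideal.span (⋃ n ∈ Set.Ioi (0 : ℤ), (𝒜 n : Set R)) = Ideal.span ((𝒜 1 : AddSubgroup R) : Set R)) (n : ℕ) (hn : ringKrullDim R = n) (I : GrLC.StarInjRes 𝒜 𝒜) (a : ℤ) (ha : GrLC.endDeg (I.Hgr m n) = ((a : WithTop ℤ) : WithBot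 (WithTop ℤ))) (q : ℕ) (hq : 0 < q) (R' : Type u) [CommRing R'] (𝒜' : ℤ → AddSubgroup R') [GradedRing 𝒜'] (φ : R' →+* R) (hφ : Function.Injective φ) (hdeg : ∀ j : ℤ, (𝒜' j).map (φ : R' →+ R) = 𝒜 (j * q)) (m' : HomogeneousIdeal 𝒜') [m'.toIdeal.IsMaximal] (hm'sp : m'.toIdeal = Ideal.span (⋃ j ∈ Set.Ioi (0 : ℤ), (𝒜' j : Set R'))) (ρ : ℤ) (hρ0 : 0 ≤ ρ) (hρq : ρ < q) (hρa : (q : ℤ) ∣ a - ρ) : GrLC.bassNum m'.toIdeal R' n = (Module.finrank (GrLC.deg0 𝒜) (GrLC.comp 𝒜 𝒜 ρ) : ℕ∞) := by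
  haveI := Groth.Agent.GrDual.isCohenMacaulayRing_of_gorenstein R
  have hpA := Groth.Agent.GrDual.Veronese.pos hpos
  haveI := Groth.Agent.GrDual.Veronese.isNoetherianRing hq φ hφ hdeg
  have hpA' := Groth.Agent.GrDual.Veronese.pos' hpos hq φ hφ hdeg
  obtain ⟨σ, hσ⟩ := Groth.Agent.GrDual.Veronese.exists_deg0_equiv φ hφ hdeg
  have h0' : IsField (GrLC.deg0 𝒜') := σ.toMulEquiv.isField h0
  letI := Groth.Agent.GrDual.deg0Field h0
  letI := Groth.Agent.GrDual.deg0Field h0'
  have hB := Groth.Agent.GrDual.base_deg0 hpA h0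
  have hB' := Groth.Agent.GrDual.base_deg0 hpA' h0'
  have hm0 := Groth.Agent.GrDual.irr_of_span hmsp
  have hm0' := Groth.Agent.GrDual.irr_of_span hm'sp
  haveI : Nontrivial R := nontrivial_of_ne (0 : R) 1 fun h =>
    Groth.Agent.GrDual.ne_top_of_starLocal hm (Ideal.eq_top_of_isUnit_mem _
      (h ▸ m.toIdeal.zero_mem : (1 : R) ∈ m.toIdeal) isUnit_one)
  obtain ⟨I'⟩ := Groth.Agent.GrLC.exists_res (𝒜 := 𝒜') 𝒜'
  letI := Groth.Agent.GrLC.Hdec I m n
  haveI := Groth.Agent.GrLC.Hgr_gradedSMul I m n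
  letI := Groth.Agent.GrLC.Hdec I' m' n
  haveI := Groth.Agent.GrLC.Hgr_gradedSMul I' m' n
  obtain ⟨g, β, hβ⟩ :=
    Groth.Agent.GrDual.exists_shiftDual_of_gorenstein (k := GrLC.deg0 𝒜) hB hm hm0 I hn
  have hag : -g = a := by exact_mod_cast (Groth.Agent.GrDual.endDeg_of_shiftDual hB hβ).symm.trans ha
  obtain ⟨T, hT⟩ := Groth.Agent.GrDual.Veronese.exists_T hq φ hφ hdeg hmsp hm'sp I I' n
  obtain ⟨j₀, hj₀⟩ := hρa
  have hφ1 := Groth.Agent.GrDual.Veronese.mem_deg φ hdeg
  have hθ : ∀ j : ℤ, Groth.Agent.GrDual.Veronese.θq q j = j * q :=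
    Groth.Agent.GrDual.Veronese.θq_apply q
  have hj : (j₀ : ℤ) * q = -(ρ + g) := by rw [mul_comm, ← hj₀]; omega
  set S := Groth.Agent.GrDual.pieceK hB' (I'.Hgr m' n) j₀ with hSdef
  have hS : ∀ x, x ∈ S ↔ ∀ b ∈ m'.toIdeal, b • x = 0 := by
    intro x
    constructor
    · intro hx b hb
      rw [hm'sp] at hb
      induction hb using Submodule.span_induction with
      | zero => exact zero_smul R' x
      | add u v _ _ hu hv => rw [add_smul, hu, hv, add_zero]
      | smul u v _ hv => rw [smul_eq_mul, mul_smul, hv, smul_zero]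
      | mem b hb =>
        obtain ⟨i, hi, hbi⟩ := Set.mem_iUnion₂.1 hb
        have hmem := Groth.Agent.GrLC.smul_mem_gr (ℳ := I'.Hgr m' n) (show b ∈ 𝒜' i from hbi) hx
        refine (hT _).2.1 _ hmem ?_
        refine Groth.Agent.GrDual.eq_zero_of_shiftDual hB hβ ((hT _).1 _ hmem) fun r hr => ?_
        have hi1 : (q : ℤ) ≤ i * q := le_mul_of_one_le_left (by positivity) (Set.mem_Ioi.1 hi)
        rw [hpA _ (by rw [hθ, add_mul, hj]; omega) r hr, map_zero, LinearMap.zero_apply]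
    · intro hx
      have hxj : ∀ j, j ≠ j₀ → Groth.Agent.GrLC.cpt (I'.Hgr m' n) j x = 0 := by
        intro j hne
        refine (hT j).2.1 _ (Groth.Agent.GrLC.cpt_mem _ j x) ?_
        refine Groth.Agent.GrDual.eq_zero_of_shiftDual hB hβ ((hT j).1 _ (Groth.Agent.GrLC.cpt_mem _ j x))
          fun r hr => ?_
        rw [hθ] at hr
        rcases lt_or_ge (-(j * (q : ℤ)) + -g) 0 with hneg | hnn
        · rw [hpA _ hneg r hr, map_zero, LinearMap.zero_apply]
        have hgeq : (q : ℤ) ≤ -(j * (q : ℤ)) + -g := by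
          by_contra hlt
          refine hne (mul_right_cancel₀ (show (q : ℤ) ≠ 0 by exact_mod_cast hq.ne') ?_)
          have h1 : |(j - j₀) * (q : ℤ)| < q := abs_lt.2 ⟨by rw [sub_mul, hj]; omega, by rw [sub_mul, hj]; omega⟩
          rw [abs_mul, Nat.abs_cast] at h1
          have h2 : |j - j₀| < 1 := lt_of_mul_lt_mul_right (by rwa [one_mul]) (by positivity)
          rw [abs_lt] at h2
          rw [show j = j₀ by omega]
        -- `R_p` lies in `R_q · R`
        have hspan : r ∈ Ideal.span ((𝒜 (q : ℤ) : AddSubgroup R) : Set R) := by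
          obtain ⟨p, hp⟩ := Int.eq_ofNat_of_zero_le hnn
          exact Groth.Agent.GrDual.pow_span_one_le q (Ideal.pow_le_pow_right (by omega)
            (Groth.Agent.GrDual.mem_pow_of_mem hstd p (hp ▸ hr)))
        suffices key : ∀ u : R, β (u * r) (T (Groth.Agent.GrLC.cpt (I'.Hgr m' n) j x)) = 0 by
          have := key 1
          rwa [one_mul] at this
        clear hr
        induction hspan using Submodule.span_induction with
        | zero => intro u; rw [mul_zero, map_zero, LinearMap.zero_apply]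
        | add u v _ _ hu hv => intro c; rw [mul_add, map_add, LinearMap.add_apply, hu c, hv c, add_zero]
        | smul e v _ hv => intro c; rw [smul_eq_mul, ← mul_assoc]; exact hv _
        | mem s hs =>
          intro u
          obtain ⟨b, hb, rfl⟩ := Groth.Agent.GrDual.Veronese.exists_deg (q := q) φ hdeg 1 s
            (by rw [hθ, one_mul]; exact hs)
          rw [mul_comm, ← smul_eq_mul, hβ.map_smul, ← T.map_smulₛₗ,
            ← Groth.Agent.GrLC.cpt_smul_left (𝒜 := 𝒜') (I'.Hgr m' n) hb,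
            hx b (hm0' 1 one_pos b hb), map_zero, map_zero, map_zero]
      have hx0 : x = Groth.Agent.GrLC.cpt (I'.Hgr m' n) j₀ x :=
        Groth.Agent.GrLC.ext_cpt (I'.Hgr m' n) fun j => by
          rw [Groth.Agent.GrLC.cpt_cpt]
          split_ifs with h
          · rw [h]
          · exact hxj j (Ne.symm h)
      rw [hx0]
      exact Groth.Agent.GrLC.cpt_mem (I'.Hgr m' n) j₀ x
  obtain ⟨hfinH, -⟩ :=
    Groth.Agent.GrDual.finrank_eq hB (I.Hgr m n) (Groth.Agent.GrDual.shA 𝒜 g) hβ (ρ + g)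
  have e₀ : Groth.Agent.GrDual.Veronese.θq q j₀ = -(ρ + g) := (hθ j₀).trans hj
  have hrank : Module.rank (GrLC.deg0 𝒜') S =
      Module.rank (GrLC.deg0 𝒜) (Groth.Agent.GrDual.pieceK hB (I.Hgr m n) (-(ρ + g))) :=
    Groth.Agent.GrDual.rank_pieceK_eq (i := -(ρ + g)) (j := j₀) hB hB' (I.Hgr m n) (I'.Hgr m' n) φ σ hσ T
      (e₀ ▸ (hT j₀).1) (hT j₀).2.1 (e₀ ▸ (hT j₀).2.2)
  have hdim : Module.finrank (GrLC.deg0 𝒜') S = Module.finrank (GrLC.deg0 𝒜) (GrLC.comp 𝒜 𝒜 ρ) :=
    ((congrArg Cardinal.toNat hrank).trans (Groth.Agent.GrDual.finrank_shiftDual hB hβ ρ).symm).trans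
      (Groth.Agent.GrDual.finrank_comp_eq hB 𝒜 ρ).symm
  haveI : Module.Finite (GrLC.deg0 𝒜') S := by
    haveI := hfinH
    rw [← Module.rank_lt_aleph0_iff, hrank]
    exact Module.rank_lt_aleph0 _ _
  have hk : ∀ r : R', ∃ c : GrLC.deg0 𝒜', r - algebraMap (GrLC.deg0 𝒜') R' c ∈ m'.toIdeal := fun r => by
    refine ⟨⟨Groth.Agent.GrLC.cpt 𝒜' 0 r, Groth.Agent.GrLC.cpt_mem 𝒜' 0 r⟩, ?_⟩
    refine (Groth.Agent.GrDual.mem_of_forall_cpt (C := m'.toIdeal) m'.isHomogeneous).2 fun i => ?_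
    change Groth.Agent.GrLC.cpt 𝒜' i (r - Groth.Agent.GrLC.cpt 𝒜' 0 r) ∈ m'.toIdeal
    rw [map_sub, Groth.Agent.GrLC.cpt_cpt]
    rcases lt_trichotomy i 0 with hi | rfl | hi
    · rw [if_neg (Ne.symm hi.ne), hpA' i hi _ (Groth.Agent.GrLC.cpt_mem 𝒜' i r), sub_zero]; exact zero_mem _
    · rw [if_pos rfl, sub_self]; exact zero_mem _
    · rw [if_neg hi.ne, sub_zero]; exact hm0' i hi _ (Groth.Agent.GrLC.cpt_mem 𝒜' i r)
  rw [Groth.Agent.GrDual.TypeSocle.bassNum_eq_finrank_socle m'.toIdeal hk (fun i hi => ?_)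
    (Groth.Agent.GrLC.Hequiv I' m' n) S hS, hdim]
  haveI := Groth.Agent.GrDual.Veronese.subsingleton_H' hq φ hφ hdeg hmsp hm'sp I I'
    (Groth.Agent.GrDual.subsingleton_H_of_ne hB hm I hn hi.ne)
  exact (Groth.Agent.GrLC.Hequiv I' m' i).symm.toEquiv.subsingleton

end Groth.Agent.S18655
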