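import Groth.Statements.S18657
import Groth.Agent.GrDual.Canonical
import Groth.Agent.GrDual.TopCoh
import Groth.Agent.GrDual.Growth
import Groth.Agent.GrLC.GrCoh

set_option autoImplicit false
universe u
open GrLC

namespace Groth.Agent.S18657

/-- Let R be a graded ring defined over a field k = R_0 which is Cohen–Macaulay and generated over k by
R_1, of dimension r ≥ 2, with canonical module K_R and a-invariant a(R). Then dim_k (K_R)_n ≥ 2 for
every n > −a(R). Here 'graded ring defined over a field' means R = ⊕_{n ≥ 0} R_n is Noetherian with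
R_0 a field (so R is finitely generated over R_0), m = R_+ is its unique graded maximal ideal and n
= dim R; the canonical module K_R (the graded dual of H^n_m(R)) is represented by a finitely
generated graded module C together with a homogeneous isomorphism from Hom_R(C, E) onto H^n_m(R),
where E is a *injective envelope of R/m and H^n_m(R) is computed from a *injective resolution of R
in the graded category; by graded Matlis duality this says exactly that C ≅ K_R as graded modules.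
The a-invariant a(R) is the largest degree in which the graded local cohomology H^n_m(R) (n = dim R,
m = R_+), computed from a *injective resolution of R in the graded category, is nonzero. -/
theorem result (R : Type u) [CommRing R] [LocCoh.IsCohenMacaulayRing R] (𝒜 : ℤ → AddSubgroup R) [GradedRing 𝒜] (hpos : ∀ n : ℤ, n < 0 → 𝒜 n = ⊥) (h0 : IsField (GrLC.deg0 𝒜)) (m : HomogeneousIdeal 𝒜) (hm : GrLC.IsStarLocal 𝒜 m) (hmsp : m.toIdeal = Ideal.span (⋃ n ∈ Set.Ioi (0 : ℤ), (𝒜 n : Set R))) (hstd : Ideal.span (⋃ n ∈ Set.Ioi (0 : ℤ), (𝒜 n : Set R)) = Ideal.span ((𝒜 1 : AddSubgroup R) : Set R)) (n : ℕ) (hn : ringKrullDim R = n) (h2 : 2 ≤ n) (I : GrLC.StarInjRes 𝒜 𝒜) (a : ℤ) (ha : GrLC.endDeg (I.Hgr m n) = ((a : WithTop ℤ) : WithBot (WithTop ℤ))) (E' : Type u) [AddCommGroup E'] [Module R E'] (𝓔 : ℤ → AddSubgroup E') [DirectSum.Decomposition 𝓔] [SetLike.GradedSMul 𝒜 𝓔] (e : (R ⧸ m.toIdeal) →ₗ[R] E') (he : GrLC.IsStarInjHull 𝒜 (GrLC.quotGr 𝒜 m) 𝓔 e)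 (C : Type u) [AddCommGroup C] [Module R C] (𝒞 : ℤ → AddSubgroup C) [DirectSum.Decomposition 𝒞] [SetLike.GradedSMul 𝒜 𝒞] (hC : GrLC.IsStarCanonical 𝒜 𝒞 𝓔 m n I) (j : ℤ) (hj : -a < j) : 2 ≤ Module.finrank (GrLC.deg0 𝒜) (GrLC.comp 𝒜 𝒞 j) := by
  classical
  have hm0 := GrDual.irr_of_span hmsp
  have hm1 := GrDual.ne_top_of_starLocal hm
  letI := GrDual.deg0Field h0
  have hB : GrDual.Base (GrLC.deg0 𝒜) 𝒜 :=
    GrDual.base_deg0 (fun i hi x hx => by rw [hpos i hi] at hx; exact hx) h0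
  haveI : Nontrivial R := nontrivial_of_ne (0 : R) 1 fun h => hm1 (Ideal.eq_top_of_isUnit_mem _
    (h ▸ m.toIdeal.zero_mem) isUnit_one)
  letI := Groth.Agent.GrLC.Hdec I m n
  haveI := Groth.Agent.GrLC.Hgr_gradedSMul I m n
  obtain ⟨β, hβ⟩ := GrDual.exists_pairing (k := GrLC.deg0 𝒜) hB hm0 hm1 he hC
  haveI := hC.1
  have hflip := GrDual.flip_isGDual hB (I.Hgr m n) 𝒞 hβ fun i => by
    have := (GrDual.finrank_eq hB (I.Hgr m n) 𝒞 hβ (-i)).1
    rwa [neg_neg] at this
  obtain ⟨h, hh, hh0⟩ : ∃ h ∈ I.Hgr m n a, h ≠ 0 := by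
    by_contra hc
    push Not at hc
    exact GrDual.ne_bot_of_endDeg_eq ha ((AddSubgroup.eq_bot_iff_forall _).2 hc)
  obtain ⟨c, hc, hc0⟩ : ∃ c ∈ 𝒞 (-a), c ≠ 0 := by
    by_contra hc
    push Not at hc
    exact hh0 (hflip.eq_zero a h hh fun x hx => by
      rw [LinearMap.flip_apply, hc x hx, map_zero, LinearMap.zero_apply])
  by_contra hlt
  push Not at hlt
  obtain ⟨i, hi, rfl⟩ : ∃ i : ℤ, 0 ≤ i ∧ j = i + 1 + -a := ⟨j + a - 1, by omega, by ring⟩
  haveI : Module.Finite (GrLC.deg0 𝒜) (GrLC.comp 𝒜 𝒞 (i + 1 + -a)) :=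
    Groth.Agent.GrLC.finite_comp (fun i hi x hx => by rw [hpos i hi] at hx; exact hx) 𝒞 _
  have hmem : ∀ x ∈ 𝒜 (i + 1), x • c ∈ GrLC.comp 𝒜 𝒞 (i + 1 + -a) := fun x hx =>
    Groth.Agent.GrLC.smul_mem_gr (𝒜 := 𝒜) (ℳ := 𝒞) hx hc
  obtain ⟨v, hv⟩ := finrank_le_one_iff.1 (Nat.lt_succ_iff.1 hlt)
  obtain ⟨y, hy, hyspan⟩ : ∃ y ∈ 𝒜 (i + 1), ∀ x ∈ 𝒜 (i + 1),
      ∃ t : GrLC.deg0 𝒜, (x - (t : R) * y) • c = 0 := by
    by_cases hz : ∀ x ∈ 𝒜 (i + 1), x • c = 0
    · exact ⟨0, zero_mem _, fun x hx => ⟨0, by simpa using hz x hx⟩⟩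
    push Not at hz
    obtain ⟨y, hy, hy0⟩ := hz
    refine ⟨y, hy, fun x hx => ?_⟩
    obtain ⟨t, ht⟩ := hv ⟨_, hmem x hx⟩
    obtain ⟨s, hs⟩ := hv ⟨_, hmem y hy⟩
    have hs0 : s ≠ 0 := fun h' => hy0 (by
      rw [h', zero_smul] at hs
      exact (congrArg Subtype.val hs).symm)
    refine ⟨t * s⁻¹, ?_⟩
    have e1 : (t • v : GrLC.comp 𝒜 𝒞 (i + 1 + -a)) = (t * s⁻¹) • (s • v) := by
      rw [smul_smul, mul_assoc, inv_mul_cancel₀ hs0, mul_one]
    rw [ht, hs] at e1
    rw [sub_smul, sub_eq_zero, mul_smul]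
    exact congrArg Subtype.val e1
  let J : Ideal R := (R ∙ c).annihilator
  have hJ : ∀ x, x ∈ J ↔ x • c = 0 := fun x => Submodule.mem_annihilator_span_singleton c x
  have hdim : ringKrullDim (R ⧸ J) ≤ 1 :=
    GrDual.ringKrullDim_quotient_le_one hB hstd J hi hy fun x hx => by
      obtain ⟨t, ht⟩ := hyspan x hx
      exact ⟨t, (hJ _).2 ht⟩
  haveI : Subsingleton (LocCoh.H m.toIdeal n (R ⧸ J)) := by
    refine Groth.Agent.LocCoh.subsingleton_H_of_supportDim_lt m.toIdeal n _ ?_ n le_rfl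
    rw [Module.supportDim_quotient_eq_ringKrullDim]
    exact hdim.trans_lt (by exact_mod_cast (by omega : 1 < n))
  obtain ⟨t, r, hr⟩ := Submodule.fg_iff_exists_fin_generating_family.1 (IsNoetherian.noetherian J)
  refine hc0 (hβ.eq_zero (-a) c hc fun z hz => ?_)
  obtain ⟨h', hh'⟩ := GrDual.exists_relations m.toIdeal (fun _ : Fin 1 => Ideal.Quotient.mk J 1) hn
    (fun q => by
      obtain ⟨x, rfl⟩ := Ideal.Quotient.mk_surjective q
      exact ⟨fun _ => x, by simp [Fintype.linearCombination_apply, Algebra.smul_def]⟩)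
    (fun b _ => r b) (fun v => by
      constructor
      · intro hv0
        have : v 0 ∈ J := by
          refine Ideal.Quotient.eq_zero_iff_mem.1 ?_
          simpa [Fintype.linearCombination_apply, Algebra.smul_def] using hv0
        rw [← hr, Submodule.mem_span_range_iff_exists_fun] at this
        obtain ⟨w, hw⟩ := this
        refine ⟨w, funext fun z => ?_⟩
        rw [Subsingleton.elim z 0, Fintype.linearCombination_apply, ← hw]
        simp [Finset.sum_apply]
      · rintro ⟨w, rfl⟩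
        rw [Fintype.linearCombination_apply, Fintype.linearCombination_apply]
        simp only [Finset.univ_unique, Finset.sum_singleton, Finset.sum_apply, Pi.smul_apply,
          smul_eq_mul]
        rw [Algebra.smul_def, Ideal.Quotient.algebraMap_eq, ← map_mul, mul_one,
          Ideal.Quotient.eq_zero_iff_mem]
        exact sum_mem fun b _ => Ideal.mul_mem_left _ _ (hr ▸ Submodule.subset_span ⟨b, rfl⟩))
    (fun _ => Groth.Agent.GrLC.Hequiv I m n z) (Subsingleton.elim _ _)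
  have hz' : z = ∑ b, r b • (Groth.Agent.GrLC.Hequiv I m n).symm (h' b) := by
    refine (Groth.Agent.GrLC.Hequiv I m n).injective ((hh' 0).trans ?_)
    rw [map_sum]
    exact Finset.sum_congr rfl fun b _ => by rw [map_smul, LinearEquiv.apply_symm_apply]
  rw [hz', map_sum]
  refine Finset.sum_eq_zero fun b _ => ?_
  rw [← hβ.map_smul, (hJ _).1 (hr ▸ Submodule.subset_span ⟨b, rfl⟩), map_zero, LinearMap.zero_apply]

end Groth.Agent.S18657
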