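import Groth.Statements.S18658
import Groth.Agent.GrDual.Canonical
import Groth.Agent.GrDual.Semilinear
import Groth.Agent.GrTransfer.Global
import Groth.Agent.GrTransfer.Noeth

set_option autoImplicit false
universe u
open GrLC

namespace Groth.Agent.S18658

/-- Let R be a graded ring defined over a field, q ≥ 1, and R' = R^(q) its Veronese subring. Then K_{R'}
= (K_R)^(q): the canonical module of R' is the Veronese submodule ⊕_j (K_R)_{jq} of the canonical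
module of R. Stated here as: for canonical modules C of R and C' of R' there is an injective
additive map g : C' → C, semilinear over the inclusion φ : R' → R, carrying C'_j onto C_{jq} for
every j. Here 'graded ring defined over a field' means R = ⊕_{n ≥ 0} R_n is Noetherian with R_0 a
field, and m = R_+ is its unique graded maximal ideal. Both R and R' have dimension n = dim R; the
canonical module of each is represented by a finitely generated graded module together with a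
homogeneous isomorphism from its Hom into a *injective envelope of the residue field onto the top
graded local cohomology H^n of the ring with support in its irrelevant ideal, computed from a
*injective resolution in the graded category (by graded Matlis duality this pins the module up to
graded isomorphism). The Veronese subring R^(q) = ⊕_j R_{jq}, regraded by (R^(q))_j = R_{jq}, is
presented abstractly as a ℤ-graded ring R' with an injective ring homomorphism φ : R' → R carrying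
R'_j onto R_{jq} for every j. -/
theorem result (R : Type u) [CommRing R] [IsNoetherianRing R] (𝒜 : ℤ → AddSubgroup R) [GradedRing 𝒜] (hpos : ∀ n : ℤ, n < 0 → 𝒜 n = ⊥) (h0 : IsField (GrLC.deg0 𝒜)) (m : HomogeneousIdeal 𝒜) (hm : GrLC.IsStarLocal 𝒜 m) (hmsp : m.toIdeal = Ideal.span (⋃ n ∈ Set.Ioi (0 : ℤ), (𝒜 n : Set R))) (n : ℕ) (hn : ringKrullDim R = n) (I : GrLC.StarInjRes 𝒜 𝒜) (E' : Type u) [AddCommGroup E'] [Module R E'] (𝓔 : ℤ → AddSubgroup E') [DirectSum.Decomposition 𝓔] [SetLike.GradedSMul 𝒜 𝓔] (e : (R ⧸ m.toIdeal) →ₗ[R] E') (he : GrLC.IsStarInjHull 𝒜 (GrLC.quotGr 𝒜 m) 𝓔 e) (C : Type u) [AddCommGroup C] [Module R C] (𝒞 : ℤ → AddSubgroup C) [DirectSum.Decomposition 𝒞] [SetLike.GradedSMul 𝒜 𝒞] (hC : GrLC.IsStarCanonical 𝒜 𝒞 𝓔 m n I) (q : ℕ) (hq : 0 < q) (R' : Type u) [CommRing R'] (𝒜' : ℤ → AddSubgroup R') [GradedRing 𝒜'] (φ : R' →+* R) (hφ : Function.Injective φ) (hdeg : ∀ j : ℤ, (𝒜' j).map (φ : R' →+ R) =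 𝒜 (j * q)) (m' : HomogeneousIdeal 𝒜') (hm' : GrLC.IsStarLocal 𝒜' m') (hm'sp : m'.toIdeal = Ideal.span (⋃ j ∈ Set.Ioi (0 : ℤ), (𝒜' j : Set R'))) (I' : GrLC.StarInjRes 𝒜' 𝒜') (E'' : Type u) [AddCommGroup E''] [Module R' E''] (𝓔'' : ℤ → AddSubgroup E'') [DirectSum.Decomposition 𝓔''] [SetLike.GradedSMul 𝒜' 𝓔''] (e' : (R' ⧸ m'.toIdeal) →ₗ[R'] E'') (he' : GrLC.IsStarInjHull 𝒜' (GrLC.quotGr 𝒜' m') 𝓔'' e') (C' : Type u) [AddCommGroup C'] [Module R' C'] (𝒞' : ℤ → AddSubgroup C') [DirectSum.Decomposition 𝒞'] [SetLike.GradedSMul 𝒜' 𝒞'] (hC' : GrLC.IsStarCanonical 𝒜' 𝒞' 𝓔'' m' n I') : ∃ g : C' →ₛₗ[φ] C, Function.Injective g ∧ ∀ j : ℤ, (𝒞' j).map (g : C' →+ C) = 𝒞 (j * q) := by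
  classical
  let θ : ℤ →+ ℤ := AddMonoidHom.mulRight (q : ℤ)
  have hθe : ∀ j : ℤ, θ j = j * q := fun j => rfl
  have hθ : Function.Injective θ := fun a b h => by
    rw [hθe, hθe] at h
    exact mul_right_cancel₀ (by exact_mod_cast hq.ne') h
  have hφ' : ∀ (i : ℤ) (r : R'), r ∈ 𝒜' i → φ r ∈ 𝒜 (θ i) := fun i r hr => by
    rw [hθe, ← hdeg i]; exact ⟨r, hr, rfl⟩
  have hex : ∀ (i : ℤ) (x : R), x ∈ 𝒜 (θ i) → ∃ r ∈ 𝒜' i, φ r = x := fun i x hx => by
    rw [hθe, ← hdeg i] at hx; exact hx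
  haveI : IsNoetherianRing R' := GrTransfer.isNoetherianRing_of_part 𝒜 𝒜' φ hφ θ hθ hφ' hex
  have hposA : ∀ i : ℤ, i < 0 → ∀ x ∈ 𝒜 i, x = 0 := fun i hi x hx => by rw [hpos i hi] at hx; exact hx
  have hposA' : ∀ i : ℤ, i < 0 → ∀ x ∈ 𝒜' i, x = 0 := fun i hi x hx => hφ (by
    rw [map_zero]
    refine hposA (θ i) ?_ _ (hφ' i x hx)
    rw [hθe]
    exact mul_neg_of_neg_of_pos hi (by exact_mod_cast hq))
  -- the degree-zero subrings
  let ρ₀ : GrLC.deg0 𝒜' →+* GrLC.deg0 𝒜 :=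
    (φ.comp (GrLC.deg0 𝒜').subtype).codRestrict (GrLC.deg0 𝒜) fun c => by
      have := hφ' 0 c.1 c.2
      rwa [map_zero] at this
  have hρ₀ : Function.Bijective ρ₀ := ⟨fun a b h => Subtype.ext (hφ (congrArg Subtype.val h)), fun x => by
    obtain ⟨r, hr, hrx⟩ := hex 0 x.1 (by rw [map_zero]; exact x.2)
    exact ⟨⟨r, hr⟩, Subtype.ext hrx⟩⟩
  let ρ : GrLC.deg0 𝒜' ≃+* GrLC.deg0 𝒜 := RingEquiv.ofBijective ρ₀ hρ₀
  have h0' : IsField (GrLC.deg0 𝒜') := ρ.toMulEquiv.isField h0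
  letI := GrDual.deg0Field h0
  letI := GrDual.deg0Field h0'
  have hB : GrDual.Base (GrLC.deg0 𝒜) 𝒜 := GrDual.base_deg0 hposA h0
  have hB' : GrDual.Base (GrLC.deg0 𝒜') 𝒜' := GrDual.base_deg0 hposA' h0'
  have hm0 := GrDual.irr_of_span hmsp
  have hm1 := GrDual.ne_top_of_starLocal hm
  have hm0' := GrDual.irr_of_span hm'sp
  have hm1' := GrDual.ne_top_of_starLocal hm'
  letI := Groth.Agent.GrLC.Hdec I m n
  haveI := Groth.Agent.GrLC.Hgr_gradedSMul I m n
  letI := Groth.Agent.GrLC.Hdec I' m' n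
  haveI := Groth.Agent.GrLC.Hgr_gradedSMul I' m' n
  obtain ⟨β, hβ⟩ := GrDual.exists_pairing (k := GrLC.deg0 𝒜) hB hm0 hm1 he hC
  obtain ⟨β', hβ'⟩ := GrDual.exists_pairing (k := GrLC.deg0 𝒜') hB' hm0' hm1' he' hC'
  have hrad : (m'.toIdeal.map φ).radical = m.toIdeal.radical := by
    refine le_antisymm (Ideal.radical_mono ?_) (Ideal.radical_le_radical_iff.2 ?_)
    · rw [hm'sp, Ideal.map_span, Ideal.span_le]
      rintro _ ⟨x, hx, rfl⟩
      obtain ⟨j, hj, hxj⟩ := Set.mem_iUnion₂.1 hx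
      refine hm0 (θ j) ?_ _ (hφ' j x hxj)
      rw [hθe]
      exact mul_pos (Set.mem_Ioi.1 hj) (by exact_mod_cast hq)
    · rw [hmsp, Ideal.span_le]
      intro x hx
      obtain ⟨j, hj, hxj⟩ := Set.mem_iUnion₂.1 hx
      refine ⟨q, ?_⟩
      have hp := SetLike.pow_mem_graded q hxj
      rw [nsmul_eq_mul, mul_comm, ← hθe] at hp
      obtain ⟨r, hr, hrx⟩ := hex j _ hp
      rw [← hrx]
      exact Ideal.mem_map_of_mem _ (hm0' j (Set.mem_Ioi.1 hj) r hr)
  have hpart : GrTransfer.IsPart φ θ 0 𝒜 𝒜' (φ.toSemilinearMap) :=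
    { injective := hφ
      mem := fun j x hx => by rw [zero_add]; exact hφ' j x hx
      exists_eq := fun j y hy => hex j y (by rwa [zero_add] at hy) }
  obtain ⟨T, hT⟩ := GrTransfer.transfer_res φ θ hθ hφ' m m' hrad hpart I I' n
  obtain ⟨g, hg, hgd⟩ := GrDual.exists_semilinear (I.Hgr m n) 𝒞 (I'.Hgr m' n) 𝒞' hB hB' φ ρ
    (fun c => rfl) θ hθ hφ' hβ hβ' T (fun j => by
      obtain ⟨h1, h2, h3⟩ := hT j
      exact ⟨fun x hx => by simpa using h1 x hx, h2, fun y hy => h3 y (by simpa using hy)⟩)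
  refine ⟨g, hg, fun j => AddSubgroup.ext fun c => ⟨?_, fun hc => ?_⟩⟩
  · rintro ⟨c', hc', rfl⟩
    exact (hgd j).1 c' hc'
  · obtain ⟨c', hc', hcc⟩ := (hgd j).2 c hc
    exact ⟨c', hc', hcc⟩

end Groth.Agent.S18658
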