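import Groth.Statements.S18659
import Groth.Agent.GrSegre.SegreGor
import Groth.Agent.S18647

set_option autoImplicit false
universe u
open scoped TensorProduct
open GrSegre

namespace Groth.Agent.S18659
open Groth.Agent.GrSegre Groth.Agent.GrLC

/-- Let R and S be graded rings defined over a field k which are Gorenstein, of dimensions r ≥ 2 and s ≥
2, with a(R) = a(S). If the Segre product T = R # S is a Cohen–Macaulay ring, then T is a Gorenstein
ring. (No generation in degree one is assumed here.) Here a graded ring defined over k is a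
commutative k-algebra of finite type, graded in nonnegative degrees by k-subspaces with degree-zero
part k·1; the a-invariant a(R) is the largest degree in which the graded local cohomology H^{dim
R}_{R_+}(R), computed from a *injective resolution of R in the graded category, is nonzero; the
Segre product T = ⊕_n R_n ⊗_k S_n is presented abstractly as a graded k-algebra T with an injective
k-algebra homomorphism ψ : T → R ⊗_k S carrying T_n onto the k-span of the elementary tensors a ⊗ b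
with a ∈ R_n, b ∈ S_n. -/
theorem result (k : Type u) [Field k] (R : Type u) [CommRing R] [Algebra k R] (𝒜 : ℤ → Submodule k R) [GradedAlgebra 𝒜] (hposR : ∀ n : ℤ, n < 0 → 𝒜 n = ⊥) (h0R : 𝒜 0 = Submodule.span k {(1 : R)}) [Algebra.FiniteType k R] (S : Type u) [CommRing S] [Algebra k S] (ℬ : ℤ → Submodule k S) [GradedAlgebra ℬ] (hposS : ∀ n : ℤ, n < 0 → ℬ n = ⊥) (h0S : ℬ 0 = Submodule.span k {(1 : S)}) [Algebra.FiniteType k S] (T : Type u) [CommRing T] [Algebra k T] (𝒯 : ℤ → Submodule k T) [GradedAlgebra 𝒯] (ψ : T →ₐ[k] TensorProduct k R S) (hψ : Function.Injective ψ) (hdegT : ∀ n : ℤ, (𝒯 n).map ψ.toLinearMap = Submodule.span k {x : TensorProduct k R S | ∃ a ∈ 𝒜 n, ∃ b ∈ ℬ n, x = a ⊗ₜ[k] b}) [LocCoh.IsGorensteinRing R] [LocCoh.IsGorensteinRing S] (mR : HomogeneousIdeal 𝒜) (hmR : mR.toIdeal = Ideal.span (⋃ n ∈ Set.Ioi (0 : ℤ), (𝒜 n : Set R))) (I : GrLC.StarInjRes 𝒜 𝒜) (mS : HomogeneousIdeal ℬ) (hmS : mS.toIdeal = Ideal.span (⋃ n ∈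 Set.Ioi (0 : ℤ), (ℬ n : Set S))) (J : GrLC.StarInjRes ℬ ℬ) (r s : ℕ) (hr : ringKrullDim R = r) (hs : ringKrullDim S = s) (h2r : 2 ≤ r) (h2s : 2 ≤ s) (haeq : GrLC.endDeg (I.Hgr mR r) = GrLC.endDeg (J.Hgr mS s)) [LocCoh.IsCohenMacaulayRing T] : LocCoh.IsGorensteinRing T := by
  haveI : Nontrivial R := not_subsingleton_iff_nontrivial.1 fun h => by
    simp [ringKrullDim_eq_bot_of_subsingleton] at hr
  haveI : Nontrivial S := not_subsingleton_iff_nontrivial.1 fun h => by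
    simp [ringKrullDim_eq_bot_of_subsingleton] at hs
  haveI := Algebra.FiniteType.isNoetherianRing k R
  haveI := Algebra.FiniteType.isNoetherianRing k S
  haveI : IsNoetherianRing (R ⊗[k] S) := Algebra.FiniteType.isNoetherianRing R (R ⊗[k] S)
  have hT : _root_.GrSeg.IsSegreRing 𝒜 ℬ 𝒯 ψ := ⟨hψ, hdegT⟩
  haveI : IsNoetherianRing T := isNoetherian_segre 𝒜 ℬ 𝒜 ℬ hT (isSegreMod_self 𝒜 ℬ 𝒯 ψ hT)
  haveI := nontrivial_segre ψ
  have hposT := segre_hpos 𝒜 ℬ hT hposR
  have h0T := segre_h0 𝒜 ℬ hT hposR h0R hposS h0S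
  have hBR := Groth.Agent.GrDual.base_of_span hposR h0R
  have hBS := Groth.Agent.GrDual.base_of_span hposS h0S
  have hBT := base_addGr (Groth.Agent.GrDual.base_of_span hposT h0T)
  obtain ⟨a, rfl⟩ : ∃ a, r = a + 2 := ⟨r - 2, by omega⟩
  obtain ⟨b, rfl⟩ : ∃ b, s = b + 2 := ⟨s - 2, by omega⟩
  have hn := Groth.Agent.S18647.result k R 𝒜 hposR h0R S ℬ hposS h0S T 𝒯 ψ hψ hdegT _ _ hr hs
    (by omega) (by omega)
  rw [show a + 2 + (b + 2) - 1 = a + b + 3 by omega] at hn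
  let mT : HomogeneousIdeal 𝒯 := ⟨irrI 𝒯, Ideal.homogeneous_span _ _ fun x hx => by
    obtain ⟨n, -, hn⟩ := Set.mem_iUnion₂.1 hx
    exact ⟨n, hn⟩⟩
  obtain ⟨IT⟩ := exists_res 𝒯 𝒯
  letI := Hdec I mR (a + 2)
  letI := Hdec J mS (b + 2)
  letI := Hdec IT mT (a + b + 3)
  haveI := Hgr_gradedSMul I mR (a + 2)
  haveI := Hgr_gradedSMul J mS (b + 2)
  obtain ⟨gR, βR, hβR, haR⟩ := exists_shiftDual_ring hposR h0R mR hmR I hr
  obtain ⟨gS, βS, hβS, haS⟩ := exists_shiftDual_ring hposS h0S mS hmS J hs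
  obtain rfl : gR = gS := by
    rw [haR, haS, WithBot.coe_inj, WithTop.coe_inj, neg_inj] at haeq
    exact haeq
  obtain ⟨φ', hφ'⟩ := exists_segreMod_H_top hT (isSegreMod_self 𝒜 ℬ 𝒯 ψ hT) mR hmR mS hmS mT rfl I J IT a b
    (fun q d hq => hgr_eq_bot_above mR I hr.le hq d) (fun q d hq => hgr_eq_bot_above mS J hs.le hq d)
  obtain ⟨β, hβ⟩ := exists_gdual_segre 𝒜 ℬ hβR hβS (isSegreMod_shift hT gR) hφ'
    (finite_shA hBR gR) (finite_shA hBS gR)
  exact gorenstein_of_shiftDual hposT h0T mT rfl IT hn hβ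

end Groth.Agent.S18659
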