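import Groth.Statements.S18660
import Groth.Agent.GrSegre.DimOneGor
import Groth.Agent.GrSegre.Crit
import Groth.Agent.Gor.Ring
import Groth.Agent.S18647

set_option autoImplicit false
universe u
open scoped TensorProduct
open GrSegre

namespace Groth.Agent.S18660
open Groth.Agent.GrSegre Groth.Agent.GrLC

/-- Let R and S be standard graded rings defined over a field k which are Cohen–Macaulay of dimension 1,
and assume R is not a polynomial ring over k. If the Segre product T = R # S is a Gorenstein ring,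
then S is a polynomial ring k[T] and R is a Gorenstein ring. Here a graded ring defined over k is a
commutative k-algebra of finite type, graded in nonnegative degrees by k-subspaces with degree-zero
part k·1, standard graded when its irrelevant ideal is generated by the degree-one piece;
'polynomial ring' means k-algebra isomorphic to k[T]; the Segre product T = ⊕_n R_n ⊗_k S_n is
presented abstractly as a graded k-algebra T with an injective k-algebra homomorphism ψ : T → R ⊗_k
S carrying T_n onto the k-span of the elementary tensors a ⊗ b with a ∈ R_n, b ∈ S_n. -/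
theorem result (k : Type u) [Field k] (R : Type u) [CommRing R] [Algebra k R] (𝒜 : ℤ → Submodule k R) [GradedAlgebra 𝒜] (hposR : ∀ n : ℤ, n < 0 → 𝒜 n = ⊥) (h0R : 𝒜 0 = Submodule.span k {(1 : R)}) [Algebra.FiniteType k R] (S : Type u) [CommRing S] [Algebra k S] (ℬ : ℤ → Submodule k S) [GradedAlgebra ℬ] (hposS : ∀ n : ℤ, n < 0 → ℬ n = ⊥) (h0S : ℬ 0 = Submodule.span k {(1 : S)}) [Algebra.FiniteType k S] (T : Type u) [CommRing T] [Algebra k T] (𝒯 : ℤ → Submodule k T) [GradedAlgebra 𝒯] (ψ : T →ₐ[k] TensorProduct k R S) (hψ : Function.Injective ψ) (hdegT : ∀ n : ℤ, (𝒯 n).map ψ.toLinearMap = Submodule.span k {x : TensorProduct k R S | ∃ a ∈ 𝒜 n, ∃ b ∈ ℬ n, x = a ⊗ₜ[k] b}) [LocCoh.IsCohenMacaulayRing R] [LocCoh.IsCohenMacaulayRing S] (hstdR : Ideal.span (⋃ n ∈ Set.Ioi (0 : ℤ), (𝒜 n : Set R)) = Ideal.span ((𝒜 1 : Submodule k R) : Set R)) (hstdS : Ideal.span (⋃ n ∈ Set.Ioi (0 : ℤ), (ℬ n : Set S)) = Ideal.span ((ℬ 1 : Submodule k S) : Set S)) (hr : ringKrullDim R = 1) (hs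 : ringKrullDim S = 1) (hR : IsEmpty (R ≃ₐ[k] Polynomial k)) [LocCoh.IsGorensteinRing T] : Nonempty (S ≃ₐ[k] Polynomial k) ∧ LocCoh.IsGorensteinRing R := by
  haveI : Nontrivial R := not_subsingleton_iff_nontrivial.1 fun h => by
    simp [ringKrullDim_eq_bot_of_subsingleton] at hr
  haveI : Nontrivial S := not_subsingleton_iff_nontrivial.1 fun h => by
    simp [ringKrullDim_eq_bot_of_subsingleton] at hs
  haveI := Algebra.FiniteType.isNoetherianRing k R
  haveI := Algebra.FiniteType.isNoetherianRing k S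
  haveI : IsNoetherianRing (R ⊗[k] S) := Algebra.FiniteType.isNoetherianRing R (R ⊗[k] S)
  have hT : _root_.GrSeg.IsSegreRing 𝒜 ℬ 𝒯 ψ := ⟨hψ, hdegT⟩
  haveI : IsNoetherianRing T := isNoetherian_segre 𝒜 ℬ 𝒜 ℬ hT (isSegreMod_self 𝒜 ℬ 𝒯 ψ hT)
  haveI := nontrivial_segre ψ
  have hposT := segre_hpos 𝒜 ℬ hT hposR
  have h0T := segre_h0 𝒜 ℬ hT hposR h0R hposS h0S
  haveI : Algebra.FiniteType k T := finiteType_of_isNoetherian 𝒯 hposT h0T
  have ht : ringKrullDim T = 1 := by
    rw [Groth.Agent.S18647.result k R 𝒜 hposR h0R S ℬ hposS h0S T 𝒯 ψ hψ hdegT 1 1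
      (by rw [hr]; rfl) (by rw [hs]; rfl) le_rfl le_rfl]
    rfl
  obtain ⟨N, hN | hN⟩ := exists_finrank_eq_one hT hposR h0R hposS h0S hposT h0T hstdR hstdS hr hs ht
  · obtain ⟨g, hg, hgr, hspan⟩ := exists_linear_of_finrank_eq_one 𝒜 hposR h0R hstdR hr hN
    exact (hR.false (AlgEquiv.ofBijective _ (aeval_bijective 𝒜 hposR h0R hg hgr hspan)).symm).elim
  · obtain ⟨g, hg, hgr, hspan⟩ := exists_linear_of_finrank_eq_one ℬ hposS h0S hstdS hs hN
    refine ⟨⟨(AlgEquiv.ofBijective _ (aeval_bijective ℬ hposS h0S hg hgr hspan)).symm⟩, ?_⟩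
    obtain ⟨e⟩ := nonempty_ringEquiv_left hT hposR hposS h0S hg hgr hspan
    exact Groth.Agent.Gor.Ring.isGorensteinRing_of_ringEquiv e inferInstance

end Groth.Agent.S18660
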