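import Groth.Statements.S18663
import Groth.Agent.GrSegre.CritRing
-- import your own Groth.Agent.* helpers here

set_option autoImplicit false
universe u
open scoped TensorProduct
open GrSegre

namespace Groth.Agent.S18663

/-- Let R and S be graded rings defined over a field k which are Cohen–Macaulay, with dim R = 1 and dim
S = s ≥ 1, and let T = R # S be their Segre product. (iii) If s ≥ 2, then T is a Cohen–Macaulay ring
if and only if H^1_{R_+}(R) # S = 0, that is, for every degree n, H^1_{R_+}(R)_n = 0 or S_n = 0.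
(iv) If s = 1, then T is a Cohen–Macaulay ring. Here a graded ring defined over k is a commutative
k-algebra of finite type, graded in nonnegative degrees by k-subspaces with degree-zero part k·1;
the graded local cohomology pieces are computed from a *injective resolution of R in the graded
category; the Segre product T = ⊕_n R_n ⊗_k S_n is presented abstractly as a graded k-algebra T with
an injective k-algebra homomorphism ψ : T → R ⊗_k S carrying T_n onto the k-span of the elementary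
tensors a ⊗ b with a ∈ R_n, b ∈ S_n. -/
theorem result (k : Type u) [Field k] (R : Type u) [CommRing R] [Algebra k R] (𝒜 : ℤ → Submodule k R) [GradedAlgebra 𝒜] (hposR : ∀ n : ℤ, n < 0 → 𝒜 n = ⊥) (h0R : 𝒜 0 = Submodule.span k {(1 : R)}) [Algebra.FiniteType k R] (S : Type u) [CommRing S] [Algebra k S] (ℬ : ℤ → Submodule k S) [GradedAlgebra ℬ] (hposS : ∀ n : ℤ, n < 0 → ℬ n = ⊥) (h0S : ℬ 0 = Submodule.span k {(1 : S)}) [Algebra.FiniteType k S] (T : Type u) [CommRing T] [Algebra k T] (𝒯 : ℤ → Submodule k T) [GradedAlgebra 𝒯] (ψ : T →ₐ[k] TensorProduct k R S) (hψ : Function.Injective ψ) (hdegT : ∀ n : ℤ, (𝒯 n).map ψ.toLinearMap = Submodule.span k {x : TensorProduct k R S | ∃ a ∈ 𝒜 n, ∃ b ∈ ℬ n, x = a ⊗ₜ[k] b}) [LocCoh.IsCohenMacaulayRing R] [LocCoh.IsCohenMacaulayRing S] (mR : HomogeneousIdeal 𝒜) (hmR : mR.toIdeal = Ideal.span (⋃ n ∈ Set.Ioi (0 : ℤ), (𝒜 n : Set R))) (I : GrLC.StarInjRes 𝒜 𝒜) (hr : ringKrullDim R = 1) (s : ℕ) (hs : ringKrullDim S = s) (h1s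 : 1 ≤ s) : (2 ≤ s → (LocCoh.IsCohenMacaulayRing T ↔ ∀ n : ℤ, I.Hcomp mR 1 n = ⊥ ∨ ℬ n = ⊥)) ∧ (s = 1 → LocCoh.IsCohenMacaulayRing T) := by
  classical
  have hT : GrSeg.IsSegreRing 𝒜 ℬ 𝒯 ψ := ⟨hψ, hdegT⟩
  haveI : IsNoetherianRing (TensorProduct k R S) := Algebra.FiniteType.isNoetherianRing R _
  haveI : IsNoetherianRing T :=
    GrSegre.isNoetherian_segre 𝒜 ℬ 𝒜 ℬ hT (GrSegre.isSegreMod_self 𝒜 ℬ 𝒯 ψ hT)
  haveI : Nontrivial R := (Module.supportDim_ne_bot_iff_nontrivial R R).1
    (by rw [Module.supportDim_self_eq_ringKrullDim, hr]; simp)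
  haveI : Nontrivial S := (Module.supportDim_ne_bot_iff_nontrivial S S).1
    (by rw [Module.supportDim_self_eq_ringKrullDim, hs]; simp)
  haveI : Nontrivial (TensorProduct k R S) :=
    Algebra.TensorProduct.nontrivial_of_algebraMap_injective_of_flat_left k R S
      (algebraMap k S).injective
  haveI : Nontrivial T := ψ.toRingHom.domain_nontrivial
  let mS : HomogeneousIdeal ℬ := ⟨GrSegre.irrI ℬ, Ideal.homogeneous_span _ _ fun x hx => by
    obtain ⟨n, -, hn⟩ := Set.mem_iUnion₂.1 hx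
    exact ⟨n, hn⟩⟩
  have h := GrSegre.cm_segre_iff 𝒜 ℬ 𝒜 ℬ hT (GrSegre.isSegreMod_self 𝒜 ℬ 𝒯 ψ hT) hposR h0R hposS h0S
    mR hmR mS rfl (r := 1) (s := s) le_rfl h1s
    (by rw [Module.supportDim_self_eq_ringKrullDim, hr]; rfl)
    (by rw [Module.supportDim_self_eq_ringKrullDim, hs])
    (fun q _ => GrSegre.cm_module_self q) (fun q _ => GrSegre.cm_module_self q)
  refine ⟨fun h2s => ⟨fun hcm n => ?_, fun hc => GrSegre.cmRing_of_module fun q hq => ?_⟩,
    fun hs1 => GrSegre.cmRing_of_module fun q hq => ?_⟩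
  · rw [GrLC.LC.Hcomp_eq_bot_iff, Submodule.eq_bot_iff]
    exact ((h.1 fun q _ => GrSegre.cm_module_self q).1 h2s n).symm
  · refine h.2 ⟨fun _ n => ?_, fun h2 => absurd h2 (by omega)⟩ q
    have := hc n
    rw [GrLC.LC.Hcomp_eq_bot_iff, Submodule.eq_bot_iff] at this
    exact this.symm
  · exact h.2 ⟨fun h2 => absurd h2 (by omega), fun h2 => absurd h2 (by omega)⟩ q


end Groth.Agent.S18663
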