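import Groth.Statements.S18664
import Groth.Agent.GrSegre.DimOne
-- import your own Groth.Agent.* helpers here

set_option autoImplicit false
universe u
open scoped TensorProduct
open GrSegre

namespace Groth.Agent.S18664

/-- Let R and S be standard graded rings defined over a field k which are Cohen–Macaulay, with dim R = 1
and dim S ≥ 2. Then the Segre product T = R # S is a Cohen–Macaulay ring if and only if R is a
polynomial ring over k (in one variable). Here a graded ring defined over k is a commutative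
k-algebra of finite type, graded in nonnegative degrees by k-subspaces with degree-zero part k·1,
standard graded when its irrelevant ideal is generated by the degree-one piece; the Segre product T
= ⊕_n R_n ⊗_k S_n is presented abstractly as a graded k-algebra T with an injective k-algebra
homomorphism ψ : T → R ⊗_k S carrying T_n onto the k-span of the elementary tensors a ⊗ b with a ∈
R_n, b ∈ S_n. -/
theorem result (k : Type u) [Field k] (R : Type u) [CommRing R] [Algebra k R] (𝒜 : ℤ → Submodule k R) [GradedAlgebra 𝒜] (hposR : ∀ n : ℤ, n < 0 → 𝒜 n = ⊥) (h0R : 𝒜 0 = Submodule.span k {(1 : R)}) [Algebra.FiniteType k R] (S : Type u) [CommRing S] [Algebra k S] (ℬ : ℤ → Submodule k S) [GradedAlgebra ℬ] (hposS : ∀ n : ℤ, n < 0 → ℬ n = ⊥) (h0S : ℬ 0 = Submodule.span k {(1 : S)}) [Algebra.FiniteType k S] (T : Type u) [CommRing T] [Algebra k T] (𝒯 : ℤ → Submodule k T) [GradedAlgebra 𝒯] (ψ : T →ₐ[k] TensorProduct k R S) (hψ : Function.Injective ψ) (hdegT : ∀ n : ℤ, (𝒯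 n).map ψ.toLinearMap = Submodule.span k {x : TensorProduct k R S | ∃ a ∈ 𝒜 n, ∃ b ∈ ℬ n, x = a ⊗ₜ[k] b}) [LocCoh.IsCohenMacaulayRing R] [LocCoh.IsCohenMacaulayRing S] (hstdR : Ideal.span (⋃ n ∈ Set.Ioi (0 : ℤ), (𝒜 n : Set R)) = Ideal.span ((𝒜 1 : Submodule k R) : Set R)) (hstdS : Ideal.span (⋃ n ∈ Set.Ioi (0 : ℤ), (ℬ n : Set S)) = Ideal.span ((ℬ 1 : Submodule k S) : Set S)) (hr : ringKrullDim R = 1) (hs : 2 ≤ ringKrullDim S) : LocCoh.IsCohenMacaulayRing T ↔ Nonempty (R ≃ₐ[k] Polynomial k) := by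
  classical
  haveI := Algebra.FiniteType.isNoetherianRing k R
  haveI := Algebra.FiniteType.isNoetherianRing k S
  have hT : GrSeg.IsSegreRing 𝒜 ℬ 𝒯 ψ := ⟨hψ, hdegT⟩
  haveI : IsNoetherianRing (TensorProduct k R S) := Algebra.FiniteType.isNoetherianRing R _
  haveI : IsNoetherianRing T :=
    GrSegre.isNoetherian_segre 𝒜 ℬ 𝒜 ℬ hT (GrSegre.isSegreMod_self 𝒜 ℬ 𝒯 ψ hT)
  obtain ⟨s, hs'⟩ : ∃ s : ℕ, ringKrullDim S = s := by
    obtain ⟨n, f, hf⟩ := Algebra.FiniteType.iff_quotient_mvPolynomial''.1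
      (inferInstance : Algebra.FiniteType k S)
    have hle : ringKrullDim S ≤ (n : WithBot ℕ∞) := by
      refine (ringKrullDim_le_of_surjective f.toRingHom hf).trans (le_of_eq ?_)
      rw [MvPolynomial.ringKrullDim_of_isNoetherianRing, ringKrullDim_eq_zero_of_field]
      simp
    cases hd : ringKrullDim S with
    | bot => rw [hd] at hs; exact absurd hs (by simp)
    | coe a =>
      rw [hd] at hle
      have ha : a ≤ (n : ℕ∞) := by exact_mod_cast hle
      obtain ⟨a', rfl⟩ := ENat.ne_top_iff_exists.1 (ne_top_of_le_ne_top (ENat.natCast_ne_top n) ha)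
      exact ⟨a', rfl⟩
  rw [hs'] at hs
  have h2s : 2 ≤ s := by exact_mod_cast hs
  haveI : Nontrivial R := (Module.supportDim_ne_bot_iff_nontrivial R R).1
    (by rw [Module.supportDim_self_eq_ringKrullDim, hr]; simp)
  haveI : Nontrivial S := (Module.supportDim_ne_bot_iff_nontrivial S S).1
    (by rw [Module.supportDim_self_eq_ringKrullDim, hs']; simp)
  haveI : Nontrivial (TensorProduct k R S) :=
    Algebra.TensorProduct.nontrivial_of_algebraMap_injective_of_flat_left k R S
      (algebraMap k S).injective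
  haveI : Nontrivial T := ψ.toRingHom.domain_nontrivial
  let mR : HomogeneousIdeal 𝒜 := ⟨GrSegre.irrI 𝒜, Ideal.homogeneous_span _ _ fun x hx => by
    obtain ⟨n, -, hn⟩ := Set.mem_iUnion₂.1 hx
    exact ⟨n, hn⟩⟩
  let mS : HomogeneousIdeal ℬ := ⟨GrSegre.irrI ℬ, Ideal.homogeneous_span _ _ fun x hx => by
    obtain ⟨n, -, hn⟩ := Set.mem_iUnion₂.1 hx
    exact ⟨n, hn⟩⟩
  have h := GrSegre.cm_segre_iff 𝒜 ℬ 𝒜 ℬ hT (GrSegre.isSegreMod_self 𝒜 ℬ 𝒯 ψ hT) hposR h0R hposS h0S
    mR rfl mS rfl (r := 1) (s := s) le_rfl (by omega)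
    (by rw [Module.supportDim_self_eq_ringKrullDim, hr]; rfl)
    (by rw [Module.supportDim_self_eq_ringKrullDim, hs'])
    (fun q _ => GrSegre.cm_module_self q) (fun q _ => GrSegre.cm_module_self q)
  rw [← GrSegre.gr_one_iff_polynomial 𝒜 hposR h0R hstdR hr mR rfl]
  refine ⟨fun hcm e he => ?_, fun hc => GrSegre.cmRing_of_module fun q hq => ?_⟩
  · refine ((h.1 fun q _ => GrSegre.cm_module_self q).1 h2s e).resolve_left fun hz => ?_
    exact GrSegre.ne_bot_of_std ℬ hposS h0S hstdS (by omega) hs' he ((Submodule.eq_bot_iff _).2 hz)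
  · refine h.2 ⟨fun _ n => ?_, fun h2 => absurd h2 (by omega)⟩ q
    rcases lt_or_ge n 0 with hn | hn
    · exact Or.inl fun z hz => GrSegre.eq_zero_of_neg ℬ hposS hn hz
    · exact Or.inr (hc n hn)


end Groth.Agent.S18664
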