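import Groth.Statements.S18666
import Groth.Agent.FiltRees.ProjStalk
import Groth.Agent.Gor.PureDescent
import Groth.Agent.Gor.FlatLocal

set_option autoImplicit false
universe u
open GrProj

namespace Groth.Agent.S18666

open IsLocalRing DirectSum Pointwise Groth.Agent.FiltRees

variable {A : Type u} [CommRing A] {𝒜 : ℕ → AddSubgroup A} [GradedRing 𝒜]

/-- In every large degree some element lies outside a relevant prime. -/
theorem exists_notMem_deg {P : Ideal A} [P.IsPrime] {d₀ : ℕ}
    (hsharp : ∀ d : ℕ, d₀ ≤ d → ∀ n : ℕ, 1 ≤ n →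
      𝒜 ((n + 1) * d) = AddSubgroup.closure ((𝒜 d : Set A) * (𝒜 (n * d) : Set A)))
    {e : ℕ} {f : A} (he : 0 < e) (hf : f ∈ 𝒜 e) (hfP : f ∉ P) {D : ℕ} (hD : d₀ ≤ D) :
    ∃ g ∈ 𝒜 D, g ∉ P := by
  by_contra hc
  push Not at hc
  have hpow : f ^ D ∈ 𝒜 (e * D) := by
    have := SetLike.pow_mem_graded D hf
    rwa [smul_eq_mul, mul_comm] at this
  refine hfP (‹P.IsPrime›.mem_of_pow_mem D ?_)
  obtain ⟨n, rfl⟩ : ∃ n, e = n + 1 := ⟨e - 1, by omega⟩
  rcases Nat.eq_zero_or_pos n with rfl | hn
  · exact hc _ (by rwa [zero_add, one_mul] at hpow)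
  · rw [hsharp D hD n hn] at hpow
    generalize f ^ D = t at hpow ⊢
    induction hpow using AddSubgroup.closure_induction with
    | mem z hz =>
      obtain ⟨a, ha, b, -, rfl⟩ := Set.mem_mul.1 hz
      exact P.mul_mem_right _ (hc a ha)
    | zero => exact P.zero_mem
    | add u v _ _ hu hv => exact P.add_mem hu hv
    | neg u _ hu => exact P.neg_mem hu

/-- With a unit of degree one the maximal ideal of `A_P` comes from degree zero. -/
theorem map_maximalIdeal {P : Ideal A} [P.IsPrime] (hP : P.IsHomogeneous 𝒜) {D : ℕ} {g h : A}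
    (hg : g ∈ 𝒜 D) (hgP : g ∉ P) (hh : h ∈ 𝒜 (D + 1)) (hhP : h ∉ P) :
    (maximalIdeal (HomogeneousLocalization.AtPrime 𝒜 P)).map
      (algebraMap (HomogeneousLocalization.AtPrime 𝒜 P) (Localization.AtPrime P)) =
      maximalIdeal (Localization.AtPrime P) := by
  have hcomap : (maximalIdeal (Localization.AtPrime P)).comap
      (algebraMap (HomogeneousLocalization.AtPrime 𝒜 P) (Localization.AtPrime P)) ≤
      maximalIdeal (HomogeneousLocalization.AtPrime 𝒜 P) :=
    IsLocalRing.le_maximalIdeal (Ideal.IsPrime.ne_top inferInstance)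
  refine le_antisymm (Ideal.map_le_iff_le_comap.2 fun z hz => ?_) ?_
  · rw [Ideal.mem_comap]
    by_contra hu
    obtain ⟨e, a, s, ha, hs, hsP, hz'⟩ := exists_frac (𝒜 := 𝒜) z
    have haP : a ∉ P := fun h => hu (by
      rw [← Ideal.mul_unit_mem_iff_mem _ (IsLocalization.map_units (Localization.AtPrime P)
        (⟨s, hsP⟩ : P.primeCompl))]
      change z.val * algebraMap A _ s ∈ _
      rw [hz', IsLocalization.AtPrime.to_map_mem_maximal_iff (Localization.AtPrime P) P]
      exact h)
    refine hz (IsUnit.of_mul_eq_one (frac s a hs ha haP) (HomogeneousLocalization.val_injective _ ?_))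
    rw [HomogeneousLocalization.val_mul, HomogeneousLocalization.val_one]
    have hua := IsLocalization.map_units (Localization.AtPrime P) (⟨a, haP⟩ : P.primeCompl)
    refine hua.mul_right_cancel ?_
    rw [one_mul, mul_assoc, val_frac, hz']
  · rw [← Localization.AtPrime.map_eq_maximalIdeal, Ideal.map_le_iff_le_comap]
    intro x hx
    refine mem_of_component (𝒜 := 𝒜) fun e => ?_
    have hxe : (decompose 𝒜 x e : A) ∈ P := hP e hx
    have hnum : (decompose 𝒜 x e : A) * g ^ e ∈ 𝒜 (e * (D + 1)) := by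
      have h1 := SetLike.mul_mem_graded (SetLike.coe_mem (decompose 𝒜 x e)) (SetLike.pow_mem_graded e hg)
      rwa [show e + e • D = e * (D + 1) by rw [smul_eq_mul]; ring] at h1
    have hden : h ^ e ∈ 𝒜 (e * (D + 1)) := by
      have := SetLike.pow_mem_graded e hh
      rwa [smul_eq_mul] at this
    have hdenP : h ^ e ∉ P := fun hm => hhP (‹P.IsPrime›.mem_of_pow_mem _ hm)
    have hzv := val_frac (P := P) _ _ hnum hden hdenP
    set z := frac (P := P) _ _ hnum hden hdenP
    have hu := IsLocalization.map_units (Localization.AtPrime P) (⟨h ^ e, hdenP⟩ : P.primeCompl)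
    have hu' := IsLocalization.map_units (Localization.AtPrime P)
      (⟨g ^ e, fun hm => hgP (‹P.IsPrime›.mem_of_pow_mem _ hm)⟩ : P.primeCompl)
    have hzm : z ∈ maximalIdeal _ := hcomap (by
      rw [Ideal.mem_comap, ← Ideal.mul_unit_mem_iff_mem _ hu]
      change z.val * algebraMap A _ (h ^ e) ∈ _
      rw [hzv, IsLocalization.AtPrime.to_map_mem_maximal_iff (Localization.AtPrime P) P]
      exact P.mul_mem_right _ hxe)
    rw [Ideal.mem_comap, ← Ideal.mul_unit_mem_iff_mem _ hu', ← map_mul, ← hzv]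
    exact Ideal.mul_mem_right _ _ (Ideal.mem_map_of_mem _ hzm)

open AlgebraicGeometry Pointwise in
/-- Let A = ⊕_{n ≥ 0} A_n be a commutative Noetherian graded ring satisfying condition (#) — there is an
integer d_0 such that for every d ≥ d_0 the Veronese subring A^(d) is generated by A_d over A_0,
equivalently A_{(n+1)d} is additively generated by the products A_d A_{nd} for every n ≥ 1 — and
assume A is a Gorenstein ring. Then X = Proj A is a Gorenstein scheme: all of its local rings are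
Gorenstein local rings. (The Cohen–Macaulay case of the same lemma is stated separately.) -/
theorem result (A : Type u) [CommRing A] (𝒜 : ℕ → AddSubgroup A) [GradedRing 𝒜] [LocCoh.IsGorensteinRing A] (hsharp : ∃ d₀ : ℕ, ∀ d : ℕ, d₀ ≤ d → ∀ n : ℕ, 1 ≤ n → 𝒜 ((n + 1) * d) = AddSubgroup.closure ((𝒜 d : Set A) * (𝒜 (n * d) : Set A))) (x : Proj 𝒜) : LocCoh.IsGorensteinLocalRing ((Proj 𝒜).presheaf.stalk x) := by
  obtain ⟨d₀, hd₀⟩ := hsharp
  haveI : x.asHomogeneousIdeal.toIdeal.IsPrime := x.isPrime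
  obtain ⟨e, f, he, hf, hfP⟩ := Groth.Agent.FiltRees.exists_relevant x
  haveI : IsNoetherianRing A := ‹LocCoh.IsGorensteinRing A›.toIsNoetherian
  haveI := Groth.Agent.FiltRees.isNoetherianRing_deg0 (𝒜 := 𝒜) x.asHomogeneousIdeal.isHomogeneous
  haveI := LocCoh.IsGorensteinRing.isGorensteinLocalRing_localization (A := A) x.asHomogeneousIdeal.toIdeal
  obtain ⟨g, hg, hgP⟩ := exists_notMem_deg hd₀ he hf hfP (le_refl d₀)
  obtain ⟨h, hh, hhP⟩ := exists_notMem_deg hd₀ he hf hfP (Nat.le_succ d₀)
  let e' := (AlgebraicGeometry.Proj.stalkIso 𝒜 x).commRingCatIsoToRingEquiv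
  haveI := Groth.Agent.Gor.PureDescent.gorenstein
    (A := HomogeneousLocalization.AtPrime 𝒜 x.asHomogeneousIdeal.toIdeal)
    (B := Localization.AtPrime x.asHomogeneousIdeal.toIdeal)
    (fun I a => Groth.Agent.FiltRees.mem_of_mem_map x.asHomogeneousIdeal.isHomogeneous I)
    (map_maximalIdeal x.asHomogeneousIdeal.isHomogeneous hg hgP hh hhP)
  exact Groth.Agent.Gor.FlatLocal.gorenstein_of_ringEquiv e'.symm

end Groth.Agent.S18666
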