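import Groth.Statements.S18667
import Groth.Agent.GrDual.LocalDuality
import Groth.Agent.GrDual.Canonical
import Groth.Agent.GrTransfer.Global
import Groth.Agent.GrLC.StarCM
import Mathlib.RingTheory.Ideal.GoingUp

set_option autoImplicit false
universe u
open GrLC

namespace Groth.Agent.S18667
open Groth.Agent.GrLC Groth.Agent.GrDual

set_option maxRecDepth 20000

/-- a pairing transported along an isomorphism preserving the pieces -/
theorem isGDual_comp {k : Type u} [Field k] {R : Type u} [CommRing R] [Algebra k R]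
    {H : Type u} [AddCommGroup H] [Module R H] [Module k H] [IsScalarTower k R H]
    {σ : Type u} [SetLike σ H] [AddSubgroupClass σ H] {ℋ : ℤ → σ} [DirectSum.Decomposition ℋ]
    {H' : Type u} [AddCommGroup H'] [Module R H'] [Module k H'] [IsScalarTower k R H']
    {σ' : Type u} [SetLike σ' H'] [AddSubgroupClass σ' H'] {ℋ' : ℤ → σ'} [DirectSum.Decomposition ℋ']
    {D : Type u} [AddCommGroup D] [Module R D] [Module k D] [IsScalarTower k R D]
    {σD : Type u} [SetLike σD D] [AddSubgroupClass σD D] {𝒟 : ℤ → σD} [DirectSum.Decomposition 𝒟]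
    (e : H' ≃ₗ[R] H) (he : ∀ (j : ℤ) (x : H'), x ∈ ℋ' j ↔ e x ∈ ℋ j)
    {β : D →ₗ[k] H →ₗ[k] k} (hβ : _root_.GrSeg.IsGDual R ℋ 𝒟 β) :
    _root_.GrSeg.IsGDual R ℋ' 𝒟 (β.compl₂ (e.restrictScalars k).toLinearMap) where
  map_smul r d x := by
    change β (r • d) (e x) = β d (e (r • x))
    rw [hβ.map_smul, e.map_smul]
  vanish p d hd j hj x hx := hβ.vanish p d hd j hj _ ((he j x).1 hx)
  eq_zero p d hd h := hβ.eq_zero p d hd fun x hx => by
    have h1 := h (e.symm x) ((he _ _).2 (by rwa [e.apply_symm_apply]))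
    change β d (e (e.symm x)) = 0 at h1
    rwa [e.apply_symm_apply] at h1
  exists_eq p l := by
    obtain ⟨d, hd, hdx⟩ := hβ.exists_eq p (l ∘ₗ (e.symm.restrictScalars k).toLinearMap)
    refine ⟨d, hd, fun x hx => ?_⟩
    change β d (e x) = l x
    rw [hdx _ ((he _ x).1 hx)]
    exact congrArg l (e.symm_apply_apply x)

/-- a degree preserving map bijective on pieces is bijective -/
theorem bijective_of_pieces {A B : Type u} [AddCommGroup A] [AddCommGroup B] {σ : Type u} [SetLike σ A]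
    [AddSubgroupClass σ A] {𝒳 : ℤ → σ} [DirectSum.Decomposition 𝒳] {σ' : Type u} [SetLike σ' B]
    [AddSubgroupClass σ' B] {𝒴 : ℤ → σ'} [DirectSum.Decomposition 𝒴] (f : A →+ B)
    (h1 : ∀ j, ∀ x ∈ 𝒳 j, f x ∈ 𝒴 j) (h2 : ∀ j, ∀ x ∈ 𝒳 j, f x = 0 → x = 0)
    (h3 : ∀ j, ∀ y ∈ 𝒴 j, ∃ x ∈ 𝒳 j, f x = y) :
    Function.Bijective f ∧ ∀ j x, x ∈ 𝒳 j ↔ f x ∈ 𝒴 j := by
  classical
  have hc : ∀ j x, cpt 𝒴 j (f x) = f (cpt 𝒳 j x) := by
    intro j x
    induction x using homogeneous_induction 𝒳 with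
    | zero => simp
    | add a b ha hb => simp only [map_add, ha, hb]
    | hom i x hx =>
      by_cases e : i = j
      · subst e; rw [cpt_of_mem 𝒳 hx, cpt_of_mem 𝒴 (h1 _ x hx)]
      · rw [cpt_of_mem_ne 𝒳 hx e, cpt_of_mem_ne 𝒴 (h1 _ x hx) e, map_zero]
  have hinj : Function.Injective f := (injective_iff_map_eq_zero f).2 fun x hx =>
    eq_zero_of_cpt 𝒳 fun j => h2 j _ (cpt_mem 𝒳 j x) (by rw [← hc, hx, map_zero])
  refine ⟨⟨hinj, fun y => ?_⟩, fun j x => ⟨h1 j x, fun hx => ?_⟩⟩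
  · induction y using homogeneous_induction 𝒴 with
    | zero => exact ⟨0, map_zero f⟩
    | add a b ha hb =>
      obtain ⟨x, rfl⟩ := ha; obtain ⟨y, rfl⟩ := hb; exact ⟨x + y, map_add f x y⟩
    | hom j y hy => obtain ⟨x, -, hx⟩ := h3 j y hy; exact ⟨x, hx⟩
  · have h := hc j x
    rw [cpt_of_mem 𝒴 hx] at h
    rw [hinj h]
    exact cpt_mem 𝒳 j x

/-- Let R and S be graded rings defined over the same field k and f : R → S a degree-preserving k-linear
ring map (not necessarily injective), with R Cohen–Macaulay and S a finite R-module through f, and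
put t = dim R − dim S. Then K_S = Ext^t_R(S, K_R). Stated here as the existence of an R-linear
isomorphism between the canonical module of S (an S-module, viewed over R) and the R-module
Ext^t_R(S, K_R); the published isomorphism is natural and respects gradings. Here a graded ring
defined over a field is Noetherian, positively ℤ-graded with degree-zero part a field; that R and S
are defined over the same field and f is k-linear is expressed by asking f to carry R_0 onto S_0;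
and the canonical module is represented by a finitely generated graded module together with a
homogeneous isomorphism from its Hom into a *injective envelope of the residue field onto the top
graded local cohomology of the ring with support in its irrelevant ideal, computed from a *injective
resolution in the graded category (by graded Matlis duality this pins the module up to graded
isomorphism). -/
theorem result (R : Type u) [CommRing R] [LocCoh.IsCohenMacaulayRing R] (𝒜 : ℤ → AddSubgroup R) [GradedRing 𝒜] (hpos : ∀ n : ℤ, n < 0 → 𝒜 n = ⊥) (h0 : IsField (GrLC.deg0 𝒜)) (m : HomogeneousIdeal 𝒜) (hm : GrLC.IsStarLocal 𝒜 m) (hmsp : m.toIdeal = Ideal.span (⋃ n ∈ Set.Ioi (0 : ℤ), (𝒜 n : Set R))) (n : ℕ) (hn : ringKrullDim R = n) (I : GrLC.StarInjRes 𝒜 𝒜) (E' : Type u) [AddCommGroup E'] [Module R E'] (𝓔 : ℤ → AddSubgroup E') [DirectSum.Decomposition 𝓔] [SetLike.GradedSMul 𝒜 𝓔] (e : (R ⧸ m.toIdeal) →ₗ[R] E') (he : GrLC.IsStarInjHull 𝒜 (GrLC.quotGr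 𝒜 m) 𝓔 e) (C : Type u) [AddCommGroup C] [Module R C] (𝒞 : ℤ → AddSubgroup C) [DirectSum.Decomposition 𝒞] [SetLike.GradedSMul 𝒜 𝒞] (hC : GrLC.IsStarCanonical 𝒜 𝒞 𝓔 m n I) (S : Type u) [CommRing S] [IsNoetherianRing S] [Algebra R S] [Module.Finite R S] (𝒜' : ℤ → AddSubgroup S) [GradedRing 𝒜'] (hf : ∀ j : ℤ, (𝒜 j).map (algebraMap R S : R →+ S) ≤ 𝒜' j) (hf0 : (𝒜 0).map (algebraMap R S : R →+ S) = 𝒜' 0) (hpos' : ∀ j : ℤ, j < 0 → 𝒜' j = ⊥) (h0' : IsField (GrLC.deg0 𝒜')) (m' : HomogeneousIdeal 𝒜') (hm' : GrLC.IsStarLocal 𝒜' m') (hm'sp : m'.toIdeal = Ideal.span (⋃ j ∈ Set.Ioi (0 : ℤ), (𝒜' j : Set S))) (n' : ℕ) (hn' : ringKrullDim S = n') (I' : GrLC.StarInjRes 𝒜' 𝒜') (E'' : Type u) [AddCommGroup E''] [Module S E''] (𝓔'' : ℤ → AddSubgroup E'') [DirectSum.Decomposition 𝓔''] [SetLike.GradedSMul 𝒜' 𝓔''] (e' : (S ⧸ m'.toIdeal) →ₗ[S] E'') (he' : GrLC.IsStarInjHull 𝒜' (GrLC.quotGr 𝒜' m') 𝓔'' e') (C' : Type u) [AddCommGroup C'] [Module S C'] [Module R C']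 [IsScalarTower R S C'] (𝒞' : ℤ → AddSubgroup C') [DirectSum.Decomposition 𝒞'] [SetLike.GradedSMul 𝒜' 𝒞'] (hC' : GrLC.IsStarCanonical 𝒜' 𝒞' 𝓔'' m' n' I') : Nonempty (C' ≃ₗ[R] CategoryTheory.Abelian.Ext.{u} (ModuleCat.of R S) (ModuleCat.of R C) (n - n')) := by
  classical
  have hpos1 : ∀ i, i < 0 → ∀ x ∈ 𝒜 i, x = 0 := fun i hi x hx => by rw [hpos i hi] at hx; exact hx
  have hm0 := irr_of_span hmsp
  have hm1 := ne_top_of_starLocal hm
  have hm0' := irr_of_span hm'sp
  have hm1' := ne_top_of_starLocal hm'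
  letI := deg0Field h0
  have hB : Base (GrLC.deg0 𝒜) 𝒜 := base_deg0 hpos1 h0
  set φ := algebraMap R S with hφdef
  have hφ : ∀ (i : ℤ) (r : R), r ∈ 𝒜 i → φ r ∈ 𝒜' i := fun i r hr => hf i ⟨r, hr, rfl⟩
  haveI : SetLike.GradedSMul 𝒜 𝒜' := ⟨fun i j r x hr hx => by
    rw [Algebra.smul_def]; exact SetLike.GradedMul.mul_mem (hφ i r hr) hx⟩
  letI : Algebra (GrLC.deg0 𝒜) S := (φ.comp (algebraMap (GrLC.deg0 𝒜) R)).toAlgebra
  have hB' : Base (GrLC.deg0 𝒜) 𝒜' :=
    { pos := fun i hi x hx => by rw [hpos' i hi] at hx; exact hx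
      alg_mem := fun c => hφ 0 _ (hB.alg_mem c)
      exists_alg := fun x hx => by
        rw [← hf0] at hx
        obtain ⟨r, hr, rfl⟩ := hx
        obtain ⟨c, rfl⟩ := hB.exists_alg r hr
        exact ⟨c, rfl⟩ }
  -- the pairings
  letI := Hdec I m n
  haveI := Hgr_gradedSMul I m n
  obtain ⟨β, hβ⟩ := exists_pairing (k := GrLC.deg0 𝒜) hB hm0 hm1 he hC
  haveI : IsScalarTower (GrLC.deg0 𝒜) S C' :=
    IsScalarTower.of_algebraMap_smul fun c x => algebraMap_smul S (algebraMap (GrLC.deg0 𝒜) R c) x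
  letI : Module R (I'.H m' n') := Module.compHom _ φ
  haveI : IsScalarTower (GrLC.deg0 𝒜) S (I'.H m' n') := IsScalarTower.of_algebraMap_smul fun _ _ => rfl
  letI := Hdec I' m' n'
  haveI := Hgr_gradedSMul I' m' n'
  obtain ⟨β', hβ'⟩ := exists_pairing (k := GrLC.deg0 𝒜) hB' hm0' hm1' he' hC'
  have hβ'R : _root_.GrSeg.IsGDual R (I'.Hgr m' n') 𝒞' β' :=
    { map_smul := fun r d x => by
        rw [← algebraMap_smul S r d, hβ'.map_smul]; rfl
      vanish := hβ'.vanish
      eq_zero := hβ'.eq_zero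
      exists_eq := hβ'.exists_eq }
  -- radicals
  haveI := starLocal_isMaximal hpos1 m hm
  haveI : m'.toIdeal.IsMaximal :=
    starLocal_isMaximal (fun i hi x hx => by rw [hpos' i hi] at hx; exact hx) m' hm'
  have hle : m.toIdeal.map φ ≤ m'.toIdeal := Ideal.map_le_iff_le_comap.2 <| by
    rw [hmsp, Ideal.span_le]
    intro x hx
    obtain ⟨i, hi, hxi⟩ := Set.mem_iUnion₂.1 hx
    exact hm0' i hi _ (hφ i x hxi)
  have hrad : (m.toIdeal.map φ).radical = m'.toIdeal.radical := by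
    refine le_antisymm (Ideal.radical_mono hle) ?_
    rw [(inferInstance : m'.toIdeal.IsPrime).radical, Ideal.radical_eq_sInf]
    refine le_sInf fun P ⟨hP, hPp⟩ => ?_
    haveI := hPp
    have hPmax : P.IsMaximal := Ideal.isMaximal_of_isIntegral_of_isMaximal_comap P (by
      rw [← ‹m.toIdeal.IsMaximal›.eq_of_le (Ideal.comap_ne_top _ hPp.ne_top)
        (Ideal.map_le_iff_le_comap.1 hP)]
      infer_instance)
    have hQp : (Ideal.homogeneousCore 𝒜' P).toIdeal.IsPrime := hPp.homogeneousCore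
    haveI := hQp
    have hQm : m.toIdeal ≤ (Ideal.homogeneousCore 𝒜' P).toIdeal.comap φ := by
      rw [hmsp, Ideal.span_le]
      intro x hx
      obtain ⟨i, hi, hxi⟩ := Set.mem_iUnion₂.1 hx
      exact Ideal.mem_homogeneousCore_of_homogeneous_of_mem ⟨i, hφ i x hxi⟩
        (hP (Ideal.mem_map_of_mem φ (hm0 i hi x hxi)))
    have hQmax : (Ideal.homogeneousCore 𝒜' P).toIdeal.IsMaximal :=
      Ideal.isMaximal_of_isIntegral_of_isMaximal_comap _ (by
        rw [← ‹m.toIdeal.IsMaximal›.eq_of_le (Ideal.comap_ne_top _ hQp.ne_top) hQm]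
        infer_instance)
    have hQm' : (Ideal.homogeneousCore 𝒜' P).toIdeal ≤ m'.toIdeal :=
      Groth.Agent.GrLC.starLocal_le m' hm' (Ideal.homogeneousCore 𝒜' P) hQp.ne_top
    rw [← hQmax.eq_of_le hm1' hQm']
    exact Ideal.toIdeal_homogeneousCore_le 𝒜' P
  -- transfer
  letI := LC.dec (ℳ := 𝒜') (a := m) (i := n')
  letI := LC.dec (ℳ := 𝒜) (a := m) (i := n)
  let g : S →ₛₗ[φ] S :=
    { toFun := id, map_add' := fun _ _ => rfl, map_smul' := fun r s => Algebra.smul_def r s }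
  have hg : GrTransfer.IsPart φ (AddMonoidHom.id ℤ) 0 𝒜' 𝒜' g :=
    { injective := fun _ _ h => h
      mem := fun j x hx => by
        change x ∈ 𝒜' (0 + j)
        rwa [zero_add]
      exists_eq := fun j y hy => ⟨y, by
        change y ∈ 𝒜' (0 + j) at hy
        rwa [zero_add] at hy, rfl⟩ }
  obtain ⟨T, hT⟩ := GrTransfer.transferL (R := S) (𝒜 := 𝒜') (R' := R) (𝒜' := 𝒜) φ (AddMonoidHom.id ℤ)
    Function.injective_id hφ m' m hrad n' hg
  let f : LocCoh.H m.toIdeal n' S →ₗ[R] I'.H m' n' :=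
    { toFun := fun x => (Hequiv I' m' n').symm (T x)
      map_add' := fun x y => by rw [map_add, map_add]
      map_smul' := fun r x => by
        rw [T.map_smulₛₗ, LinearEquiv.map_smul]; rfl }
  have hout : ∀ (j : ℤ) (y : LocCoh.H m'.toIdeal n' S), y ∈ LC.gr 𝒜' m' n' j →
      (Hequiv I' m' n').symm y ∈ I'.Hgr m' n' j := fun j y hy => by
    rw [LC.gr_eq m' n' I'] at hy
    obtain ⟨x, hx, rfl⟩ := hy
    change (Hequiv I' m' n').symm (Hequiv I' m' n' x) ∈ _
    rwa [LinearEquiv.symm_apply_apply]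
  have hbij := bijective_of_pieces (𝒳 := LC.gr 𝒜' m n') (𝒴 := I'.Hgr m' n') f.toAddMonoidHom
    (fun j x hx => by
      have h := hout (0 + j) _ ((hT j).1 x hx)
      rwa [zero_add] at h)
    (fun j x hx h => (hT j).2.1 x hx ((Hequiv I' m' n').symm.map_eq_zero_iff.1 h))
    (fun j y hy => by
      obtain ⟨x, hx, hxy⟩ := (hT j).2.2 (Hequiv I' m' n' y) (by
        change Hequiv I' m' n' y ∈ LC.gr 𝒜' m' n' (0 + j)
        rw [zero_add, LC.gr_eq m' n' I']; exact ⟨y, hy, rfl⟩)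
      refine ⟨x, hx, ?_⟩
      change (Hequiv I' m' n').symm (T x) = y
      rw [hxy, LinearEquiv.symm_apply_apply])
  open scoped Groth.Agent.GrDual.LocalDuality in
  have hD := isGDual_comp (ℋ := I'.Hgr m' n') (ℋ' := LC.gr 𝒜' m n') (LinearEquiv.ofBijective f hbij.1)
    hbij.2 hβ'R
  open scoped Groth.Agent.GrDual.LocalDuality in
  have hK := isGDual_comp (ℋ := I.Hgr m n) (ℋ' := LC.gr 𝒜 m n) (Hequiv I m n).symm (fun j x => by
    rw [LC.gr_eq m n I]
    constructor
    · rintro ⟨z, hz, rfl⟩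
      change (Hequiv I m n).symm (Hequiv I m n z) ∈ _
      rwa [LinearEquiv.symm_apply_apply]
    · exact fun h => ⟨_, h, (Hequiv I m n).apply_symm_apply x⟩) hβ
  have hn'n : n' ≤ n := by
    have h : ringKrullDim S ≤ ringKrullDim R :=
      Order.krullDim_le_of_strictMono (PrimeSpectrum.comap φ) fun p q hpq =>
        Ideal.IsIntegral.comap_lt_comap hpq
    rw [hn, hn'] at h
    exact_mod_cast h
  let X : _root_.GrLC.GMod.{u} 𝒜 := { carrier := S, gr := 𝒜' }
  haveI : Module.Finite R X.carrier := ‹Module.Finite R S›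
  exact LocalDuality.exists_equiv_ext hB hn 𝒞 hK
    (fun j hj => subsingleton_H_of_ne_dim hpos1 m hm hn hj.ne) (n - n') X n' (by omega)
    C' 𝒞' _ hD

end Groth.Agent.S18667
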