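import Groth.Statements.S1867
import Groth.Agent.CycLib.CodimOneFibre

set_option autoImplicit false
universe u
open CategoryTheory AlgebraicGeometry
open Cyc

namespace Groth.Agent.S1867

/-- Let f : X → Y be a proper morphism of integral schemes with Y locally Noetherian, mapping the
generic point to the generic point with finite extension of function fields, and let ξ be a point of
Y whose local ring has dimension 1. Then f is finite over some open neighbourhood of ξ. -/
theorem result (X Y : Scheme.{u}) [IsIntegral X] [IsIntegral Y] [IsLocallyNoetherian Y] (f : X ⟶ Y) [IsProper f] (hgen : f (genericPoint X) = genericPoint Y) (hfin : (f.residueFieldMap (genericPoint X)).hom.Finite) (ξ : Y) (hξ : ringKrullDim (Y.presheaf.stalk ξ) = 1) : ∃ V : Y.Opens, ξ ∈ V ∧ IsFinite (f ∣_ V) := by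
  obtain ⟨V, -, hξV, hV⟩ := CycLib.exists_affine_isFinite_of_finite_fibre f ξ
    (CycLib.finite_fibre_of_dim_one f hgen hfin ξ hξ)
  exact ⟨V, hξV, hV⟩

end Groth.Agent.S1867
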