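import Groth.Statements.S18671
import Groth.Agent.GrTransfer.Main
import Groth.Agent.GrTransfer.Noeth
import Mathlib.LinearAlgebra.Dimension.Basic
import Mathlib.LinearAlgebra.Dimension.Finrank
-- import your own Groth.Agent.* helpers here

set_option autoImplicit false
universe u
open GrLC

namespace Groth.Agent.S18671

/-- Let R be a graded ring defined over a field, q ≥ 1, R' = R^(q) its Veronese subring with m' = R'_+,
and M a graded R-module with Veronese submodule M^(q) = ⊕_j M_{jq}, a graded R'-module. Then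
H^p_{m'}(M^(q)) ≅ (H^p_m(M))^(q) for every p. Stated here, for M finitely generated, as the equality
of dimensions dim H^p_{m'}(M^(q))_j = dim H^p_m(M)_{jq} over the degree-zero fields R'_0 ≅ R_0, for
all p and j (the published isomorphism is one of graded R'-modules; all these pieces are
finite-dimensional). Here 'graded ring defined over a field' means R = ⊕_{n ≥ 0} R_n is Noetherian
with R_0 a field, and m = R_+ is its unique graded maximal ideal. The graded local cohomologies are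
computed from *injective resolutions in the respective graded categories; the Veronese subring R^(q)
= ⊕_j R_{jq}, regraded by (R^(q))_j = R_{jq}, is presented abstractly as a ℤ-graded ring R' with an
injective ring homomorphism φ : R' → R carrying R'_j onto R_{jq} for every j. The module M^(q) is
presented as a graded R'-module M' with an injective additive map g : M' → M, semilinear over φ,
carrying M'_j onto M_{jq} for every j. -/
theorem result (R : Type u) [CommRing R] [IsNoetherianRing R] (𝒜 : ℤ → AddSubgroup R) [GradedRing 𝒜] (hpos : ∀ n : ℤ, n < 0 → 𝒜 n = ⊥) (h0 : IsField (GrLC.deg0 𝒜)) (m : HomogeneousIdeal 𝒜) (hm : GrLC.IsStarLocal 𝒜 m) (hmsp : m.toIdeal = Ideal.span (⋃ n ∈ Set.Ioi (0 : ℤ), (𝒜 n : Set R))) (M : Type u) [AddCommGroup M] [Module R M] (ℳ : ℤ → AddSubgroup M) [DirectSum.Decomposition ℳ] [SetLike.GradedSMul 𝒜 ℳ] [Module.Finite R M] (E : GrLC.StarInjRes 𝒜 ℳ) (q : ℕ) (hq : 0 < q) (R' : Type u) [CommRing R'] (𝒜' : ℤ → AddSubgroup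 R') [GradedRing 𝒜'] (φ : R' →+* R) (hφ : Function.Injective φ) (hdeg : ∀ j : ℤ, (𝒜' j).map (φ : R' →+ R) = 𝒜 (j * q)) (m' : HomogeneousIdeal 𝒜') (hm' : GrLC.IsStarLocal 𝒜' m') (hm'sp : m'.toIdeal = Ideal.span (⋃ j ∈ Set.Ioi (0 : ℤ), (𝒜' j : Set R'))) (M' : Type u) [AddCommGroup M'] [Module R' M'] (ℳ' : ℤ → AddSubgroup M') [DirectSum.Decomposition ℳ'] [SetLike.GradedSMul 𝒜' ℳ'] (g : M' →ₛₗ[φ] M) (hg : Function.Injective g) (hgdeg : ∀ j : ℤ, (ℳ' j).map (g : M' →+ M) = ℳ (j * q)) (F : GrLC.StarInjRes 𝒜' ℳ') (p : ℕ) (j : ℤ) : Module.finrank (GrLC.deg0 𝒜') (F.Hcomp m' p j) = Module.finrank (GrLC.deg0 𝒜) (E.Hcomp m p (j * q)) := by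
  classical
  let θ : ℤ →+ ℤ := AddMonoidHom.mulRight (q : ℤ)
  have hθv : ∀ i, θ i = i * q := fun i => rfl
  have hθ : Function.Injective θ := mul_left_injective₀ (by exact_mod_cast hq.ne')
  have hφm : ∀ (i : ℤ) (r : R'), r ∈ 𝒜' i → φ r ∈ 𝒜 (θ i) := fun i r hr => by
    rw [hθv, ← hdeg]; exact ⟨r, hr, rfl⟩
  have hφs : ∀ (i : ℤ) (x : R), x ∈ 𝒜 (θ i) → ∃ r ∈ 𝒜' i, φ r = x := fun i x hx => by
    rw [hθv, ← hdeg] at hx; exact hx
  haveI := GrTransfer.isNoetherianRing_of_part 𝒜 𝒜' φ hφ θ hθ hφm hφs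
  have hpart : GrTransfer.IsPart φ θ 0 ℳ ℳ' g := by
    refine ⟨hg, fun i x hx => ?_, fun i y hy => ?_⟩
    · rw [zero_add, hθv, ← hgdeg]; exact ⟨x, hx, rfl⟩
    · rw [zero_add, hθv, ← hgdeg] at hy; exact hy
  have hrad : (m'.toIdeal.map φ).radical = m.toIdeal.radical := by
    refine le_antisymm (Ideal.radical_mono ?_) (Ideal.radical_le_radical_iff.2 ?_)
    · rw [hm'sp, Ideal.map_span, Ideal.span_le, hmsp]
      rintro _ ⟨x, hx, rfl⟩
      obtain ⟨i, hi, hxi⟩ := Set.mem_iUnion₂.1 hx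
      exact Ideal.subset_span (Set.mem_biUnion (x := θ i)
        (Set.mem_Ioi.2 (by rw [hθv]; exact mul_pos (Set.mem_Ioi.1 hi) (by exact_mod_cast hq)))
        (hφm i x hxi))
    · rw [hmsp, Ideal.span_le]
      intro x hx
      obtain ⟨i, hi, hxi⟩ := Set.mem_iUnion₂.1 hx
      have hpow : x ^ q ∈ 𝒜 (θ i) := by
        have := SetLike.pow_mem_graded q hxi
        convert this using 2
        rw [hθv, nsmul_eq_mul, mul_comm]
      obtain ⟨r, hr, hrx⟩ := hφs i _ hpow
      exact ⟨q, hrx ▸ Ideal.mem_map_of_mem φ (hm'sp ▸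
        Ideal.subset_span (Set.mem_biUnion hi hr))⟩
  obtain ⟨e, he⟩ := GrTransfer.transfer φ θ hθ hφm m m' hrad p hpart j
  let i0 : GrLC.deg0 𝒜' →+* GrLC.deg0 𝒜 :=
    RingHom.codRestrict (φ.comp (GrLC.deg0 𝒜').subtype) _ fun r => by
      have := hφm 0 _ r.2
      rwa [map_zero] at this
  have hi0 : Function.Bijective i0 :=
    ⟨fun a b h => Subtype.ext (hφ (congrArg Subtype.val h)), fun b => by
      obtain ⟨r, hr, hrb⟩ := hφs 0 b.1 (by rw [map_zero]; exact b.2)
      exact ⟨⟨r, hr⟩, Subtype.ext hrb⟩⟩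
  rw [LinearEquiv.finrank_eq (GrLC.LC.compEquiv m' p F j),
    LinearEquiv.finrank_eq (GrLC.LC.compEquiv m p E (j * q))]
  have hd : 0 + θ j = j * q := by rw [zero_add, hθv]
  rw [← hd]
  exact congrArg Cardinal.toNat (rank_eq_of_equiv_equiv i0
    (e : GrLC.LC.comp m' p ℳ' j ≃+ GrLC.LC.comp m p ℳ (0 + θ j)) hi0
    (fun r x => Subtype.ext (he r.1 r.2 x (r • x) rfl)))

end Groth.Agent.S18671
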