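import Groth.Statements.S18672
import Groth.Agent.GrLC.Basic

set_option autoImplicit false
universe u
open GrLC

namespace Groth.Agent.S18672
open Groth.Agent.GrLC

/-- in a standard algebra `R_{u+v}` is spanned by products -/
theorem mem_closure_mul {R : Type u} [CommRing R] (𝒜 : ℤ → AddSubgroup R) [GradedRing 𝒜]
    (hstd : Ideal.span (⋃ n ∈ Set.Ioi (0 : ℤ), (𝒜 n : Set R)) = Ideal.span ((𝒜 1 : AddSubgroup R) : Set R))
    (u : ℤ) (hu : 0 ≤ u) : ∀ (v : ℕ) (c : R), c ∈ 𝒜 (u + v) →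
      c ∈ AddSubgroup.closure {z : R | ∃ b ∈ 𝒜 u, ∃ d ∈ 𝒜 (v : ℤ), z = b * d} := by
  intro v
  induction v with
  | zero =>
    intro c hc
    rw [Nat.cast_zero, add_zero] at hc
    exact AddSubgroup.subset_closure ⟨c, hc, 1, by rw [Nat.cast_zero]; exact SetLike.GradedOne.one_mem, (mul_one c).symm⟩
  | succ v ih =>
    intro c hc
    have hc1 : c ∈ Ideal.span ((𝒜 1 : AddSubgroup R) : Set R) := by
      rw [← hstd]
      exact Ideal.subset_span (Set.mem_biUnion (x := u + ((v + 1 : ℕ) : ℤ))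
        (Set.mem_Ioi.2 (by push_cast; omega)) hc)
    obtain ⟨l, co, g, hg⟩ := Submodule.mem_span_set'.1 hc1
    rw [← cpt_of_mem 𝒜 hc, ← hg, map_sum]
    refine sum_mem fun i _ => ?_
    rw [cpt_smul_right' (𝒜 := 𝒜) 𝒜 (g i).2, smul_eq_mul]
    have h := ih (cpt 𝒜 (u + v) (co i)) (cpt_mem 𝒜 _ _)
    rw [show u + ((v + 1 : ℕ) : ℤ) - 1 = u + v by push_cast; ring]
    refine AddSubgroup.closure_induction (p := fun z _ => z * (g i).1 ∈ AddSubgroup.closure
      {z : R | ∃ b ∈ 𝒜 u, ∃ d ∈ 𝒜 ((v + 1 : ℕ) : ℤ), z = b * d}) ?_ ?_ ?_ ?_ h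
    · rintro _ ⟨b, hb, d, hd, rfl⟩
      exact AddSubgroup.subset_closure ⟨b, hb, d * (g i).1, by
        rw [Nat.cast_succ]; exact SetLike.GradedMul.mul_mem hd (g i).2, mul_assoc _ _ _⟩
    · rw [zero_mul]; exact zero_mem _
    · intro x y _ _ hx hy; rw [add_mul]; exact add_mem hx hy
    · intro x _ hx; rw [neg_mul]; exact neg_mem hx

/-- Let R be a graded ring defined over a field k = R_0 which is Cohen–Macaulay and generated over k by
R_1 (the standing hypotheses of this section; only generation in degree one is used), q ≥ 1, R' =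
R^(q), and a an integer. Then the Veronese submodule [R(a)]^(q) = ⊕_j R_{a+jq} is generated over R'
by its piece R(a)_n = R_{a+n}, where n is the smallest multiple of q with n + a ≥ 0. Here 'graded
ring defined over a field' means R = ⊕_{n ≥ 0} R_n is Noetherian with R_0 a field, and m = R_+ is
its unique graded maximal ideal. The Veronese subring R^(q) = ⊕_j R_{jq}, regraded by (R^(q))_j =
R_{jq}, is presented abstractly as a ℤ-graded ring R' with an injective ring homomorphism φ : R' → R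
carrying R'_j onto R_{jq} for every j. The module [R(a)]^(q) is presented as a graded R'-module M'
with an injective additive map g : M' → R, semilinear over φ, carrying M'_j onto R_{a+jq} for every
j; with n = j₀q, the conclusion is that the R'-span of M'_{j₀} is all of M'. -/
theorem result (R : Type u) [CommRing R] [LocCoh.IsCohenMacaulayRing R] (𝒜 : ℤ → AddSubgroup R) [GradedRing 𝒜] (hpos : ∀ n : ℤ, n < 0 → 𝒜 n = ⊥) (h0 : IsField (GrLC.deg0 𝒜)) (hstd : Ideal.span (⋃ n ∈ Set.Ioi (0 : ℤ), (𝒜 n : Set R)) = Ideal.span ((𝒜 1 : AddSubgroup R) : Set R)) (q : ℕ) (hq : 0 < q) (R' : Type u) [CommRing R'] (𝒜' : ℤ → AddSubgroup R') [GradedRing 𝒜'] (φ : R' →+* R) (hφ : Function.Injective φ) (hdeg : ∀ j : ℤ, (𝒜' j).map (φ : R' →+ R) = 𝒜 (j * q)) (a : ℤ) (M' : Type u) [AddCommGroup M'] [Module R' M'] (ℳ' : ℤ → AddSubgroup M') [DirectSum.Decomposition ℳ'] [SetLike.GradedSMul 𝒜' ℳ'] (g : M' →ₛₗ[φ] R) (hg : Function.Injective g) (hgdeg : ∀ j : ℤ, (ℳ' j).map (g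 : M' →+ R) = 𝒜 (a + j * q)) (j₀ : ℤ) (hj₀ : 0 ≤ a + j₀ * q) (hj₀' : a + (j₀ - 1) * q < 0) : Submodule.span R' ((ℳ' j₀ : AddSubgroup M') : Set M') = ⊤ := by
  classical
  rw [eq_top_iff]
  intro x hx0
  clear hx0
  induction x using homogeneous_induction ℳ' with
  | zero => exact zero_mem _
  | add p r hp hr => exact add_mem hp hr
  | hom j x hx =>
    have hgx : g x ∈ 𝒜 (a + j * q) := (hgdeg j).le ⟨x, hx, rfl⟩
    by_cases hj : j < j₀
    · have hneg : a + j * (q : ℤ) < 0 := by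
        have : j * (q : ℤ) ≤ (j₀ - 1) * q := mul_le_mul_of_nonneg_right (by omega) (by positivity)
        omega
      rw [hpos _ hneg] at hgx
      rw [show x = 0 from hg (hgx.trans (map_zero g).symm)]
      exact zero_mem _
    · obtain ⟨v, hv⟩ : ∃ v : ℕ, (v : ℤ) = (j - j₀) * q :=
        ⟨((j - j₀) * q).toNat, Int.toNat_of_nonneg (mul_nonneg (by omega) (by positivity))⟩
      have h := mem_closure_mul 𝒜 hstd (a + j₀ * q) hj₀ v (g x)
        (by rw [hv]; rwa [show a + j₀ * (q : ℤ) + (j - j₀) * q = a + j * q by ring])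
      suffices hs : ∀ z ∈ AddSubgroup.closure {z : R | ∃ b ∈ 𝒜 (a + j₀ * q), ∃ d ∈ 𝒜 (v : ℤ), z = b * d},
          ∃ y ∈ Submodule.span R' ((ℳ' j₀ : AddSubgroup M') : Set M'), g y = z by
        obtain ⟨y, hy, hyx⟩ := hs _ h
        rwa [← hg hyx]
      intro z hz
      induction hz using AddSubgroup.closure_induction with
      | mem z hz =>
        obtain ⟨b, hb, d, hd, rfl⟩ := hz
        obtain ⟨y, hy, hyb⟩ := (hgdeg j₀).ge hb
        rw [hv] at hd
        obtain ⟨r, -, hrd⟩ := (hdeg (j - j₀)).ge hd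
        refine ⟨r • y, Submodule.smul_mem _ _ (Submodule.subset_span hy), ?_⟩
        rw [g.map_smulₛₗ, smul_eq_mul, mul_comm b d]
        exact congrArg₂ (· * ·) hrd hyb
      | zero => exact ⟨0, zero_mem _, map_zero g⟩
      | add p r _ _ hp hr =>
        obtain ⟨y, hy, rfl⟩ := hp; obtain ⟨w, hw, rfl⟩ := hr
        exact ⟨y + w, add_mem hy hw, map_add g y w⟩
      | neg p _ hp =>
        obtain ⟨y, hy, rfl⟩ := hp
        exact ⟨-y, neg_mem hy, map_neg g y⟩

end Groth.Agent.S18672
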