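import Groth.Statements.S18674
import Groth.Agent.GrSegre.Kunneth
import Groth.Agent.GrSegre.Crit
import Groth.Agent.GrDual.Canonical

set_option autoImplicit false
universe u
open scoped TensorProduct
open GrSegre

namespace Groth.Agent.S18674
open Groth.Agent.GrSegre Groth.Agent.GrLC

theorem hgr_eq_bot_of_dim_lt {R : Type u} [CommRing R] [IsNoetherianRing R] {σ : Type u} [SetLike σ R]
    [AddSubgroupClass σ R] {𝒜 : ℤ → σ} [GradedRing 𝒜] (m : HomogeneousIdeal 𝒜) (I : _root_.GrLC.StarInjRes 𝒜 𝒜)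
    {r q : ℕ} (hr : ringKrullDim R ≤ r) (hq : r < q) (d : ℤ) : I.Hgr m q d = ⊥ := by
  haveI : Subsingleton (LocCoh.H m.toIdeal q R) :=
    LocCoh.subsingleton_H_of_supportDim_lt _ (r + 1) R (by
      rw [Module.supportDim_self_eq_ringKrullDim]
      exact hr.trans_lt (by exact_mod_cast Nat.lt_succ_self r)) q hq
  haveI : Subsingleton (I.H m q) := (Hequiv I m q).injective.subsingleton
  exact AddSubgroup.eq_bot_of_subsingleton _


/-- Let R and S be graded rings defined over a field k of dimensions r ≥ 2 and s ≥ 2, and T = R # S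
their Segre product (of dimension r + s − 1). Then K_T ≅ K_R # K_S. Stated here degree by degree as
dim (K_T)_n = dim (K_R)_n · dim (K_S)_n for every n (the published statement is the isomorphism of
graded T-modules). Here a graded ring defined over k is a commutative k-algebra of finite type,
graded in nonnegative degrees by k-subspaces with degree-zero part k·1; the canonical module of each
of R, S, T is represented by a finitely generated graded module together with a homogeneous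
isomorphism from its Hom into a *injective envelope of the residue field onto the top graded local
cohomology of the ring with support in its irrelevant ideal (indices r, s, r + s − 1), computed from
a *injective resolution in the graded category; dimensions of pieces are over the respective
degree-zero fields (all k); the Segre product T = ⊕_n R_n ⊗_k S_n is presented abstractly as a
graded k-algebra T with an injective k-algebra homomorphism ψ : T → R ⊗_k S carrying T_n onto the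
k-span of the elementary tensors a ⊗ b with a ∈ R_n, b ∈ S_n. -/
theorem result (k : Type u) [Field k] (R : Type u) [CommRing R] [Algebra k R] (𝒜 : ℤ → Submodule k R) [GradedAlgebra 𝒜] (hposR : ∀ n : ℤ, n < 0 → 𝒜 n = ⊥) (h0R : 𝒜 0 = Submodule.span k {(1 : R)}) [Algebra.FiniteType k R] (S : Type u) [CommRing S] [Algebra k S] (ℬ : ℤ → Submodule k S) [GradedAlgebra ℬ] (hposS : ∀ n : ℤ, n < 0 → ℬ n = ⊥) (h0S : ℬ 0 = Submodule.span k {(1 : S)}) [Algebra.FiniteType k S] (T : Type u) [CommRing T] [Algebra k T] (𝒯 : ℤ → Submodule k T) [GradedAlgebra 𝒯] (ψ : T →ₐ[k] TensorProduct k R S) (hψ : Function.Injective ψ) (hdegT : ∀ n : ℤ, (𝒯 n).map ψ.toLinearMap = Submodule.span k {x : TensorProduct k R S | ∃ a ∈ 𝒜 n, ∃ b ∈ ℬ n, x = a ⊗ₜ[k] b}) (mR : HomogeneousIdeal 𝒜) (hmR : mR.toIdeal = Ideal.span (⋃ n ∈ Set.Ioi (0 : ℤ), (𝒜 n : Set R))) (I : GrLC.StarInjRes 𝒜 𝒜) (mS : HomogeneousIdeal ℬ) (hmS : mS.toIdeal = Ideal.span (⋃ n ∈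 Set.Ioi (0 : ℤ), (ℬ n : Set S))) (J : GrLC.StarInjRes ℬ ℬ) (mT : HomogeneousIdeal 𝒯) (hmT : mT.toIdeal = Ideal.span (⋃ n ∈ Set.Ioi (0 : ℤ), (𝒯 n : Set T))) (IT : GrLC.StarInjRes 𝒯 𝒯) (r s : ℕ) (hr : ringKrullDim R = r) (hs : ringKrullDim S = s) (h2r : 2 ≤ r) (h2s : 2 ≤ s) (ER : Type u) [AddCommGroup ER] [Module R ER] (𝓔R : ℤ → AddSubgroup ER) [DirectSum.Decomposition 𝓔R] [SetLike.GradedSMul 𝒜 𝓔R] (eR : (R ⧸ mR.toIdeal) →ₗ[R] ER) (heR : GrLC.IsStarInjHull 𝒜 (GrLC.quotGr 𝒜 mR) 𝓔R eR) (CR : Type u) [AddCommGroup CR] [Module R CR] (𝒞R : ℤ → AddSubgroup CR) [DirectSum.Decomposition 𝒞R] [SetLike.GradedSMul 𝒜 𝒞R] (hCR : GrLC.IsStarCanonical 𝒜 𝒞R 𝓔R mR r I) (ES : Type u) [AddCommGroup ES] [Module S ES] (𝓔S : ℤ → AddSubgroup ES) [DirectSum.Decomposition 𝓔S] [SetLike.GradedSMul ℬ 𝓔S] (eS : (S ⧸ mS.toIdeal) →ₗ[S] ES) (heS : GrLC.IsStarInjHull ℬ (GrLC.quotGr ℬ mS) 𝓔S eS) (CS : Type u) [AddCommGroup CS] [Module S CS] (𝒞S : ℤ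 → AddSubgroup CS) [DirectSum.Decomposition 𝒞S] [SetLike.GradedSMul ℬ 𝒞S] (hCS : GrLC.IsStarCanonical ℬ 𝒞S 𝓔S mS s J) (ET : Type u) [AddCommGroup ET] [Module T ET] (𝓔T : ℤ → AddSubgroup ET) [DirectSum.Decomposition 𝓔T] [SetLike.GradedSMul 𝒯 𝓔T] (eT : (T ⧸ mT.toIdeal) →ₗ[T] ET) (heT : GrLC.IsStarInjHull 𝒯 (GrLC.quotGr 𝒯 mT) 𝓔T eT) (CT : Type u) [AddCommGroup CT] [Module T CT] (𝒞T : ℤ → AddSubgroup CT) [DirectSum.Decomposition 𝒞T] [SetLike.GradedSMul 𝒯 𝒞T] (hCT : GrLC.IsStarCanonical 𝒯 𝒞T 𝓔T mT (r + s - 1) IT) (n : ℤ) : Module.finrank (GrLC.deg0 𝒯) (GrLC.comp 𝒯 𝒞T n) = Module.finrank (GrLC.deg0 𝒜) (GrLC.comp 𝒜 𝒞R n) * Module.finrank (GrLC.deg0 ℬ) (GrLC.comp ℬ 𝒞S n) := by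
  haveI : Nontrivial R := not_subsingleton_iff_nontrivial.1 fun h => by
    simp [ringKrullDim_eq_bot_of_subsingleton] at hr
  haveI : Nontrivial S := not_subsingleton_iff_nontrivial.1 fun h => by
    simp [ringKrullDim_eq_bot_of_subsingleton] at hs
  haveI := Algebra.FiniteType.isNoetherianRing k R
  haveI := Algebra.FiniteType.isNoetherianRing k S
  haveI : IsNoetherianRing (R ⊗[k] S) := Algebra.FiniteType.isNoetherianRing R (R ⊗[k] S)
  have hT : _root_.GrSeg.IsSegreRing 𝒜 ℬ 𝒯 ψ := ⟨hψ, hdegT⟩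
  haveI : IsNoetherianRing T := isNoetherian_segre 𝒜 ℬ 𝒜 ℬ hT (isSegreMod_self 𝒜 ℬ 𝒯 ψ hT)
  haveI := nontrivial_segre ψ
  have hposT := segre_hpos 𝒜 ℬ hT hposR
  have h0T := segre_h0 𝒜 ℬ hT hposR h0R hposS h0S
  rw [(Groth.Agent.GrDual.finrank_canonical (Groth.Agent.GrDual.base_of_span hposR h0R)
      (Groth.Agent.GrDual.irr_of_span hmR) (hmR ▸ (irrI_isMaximal 𝒜 hposR h0R).ne_top) heR hCR n).2,
    (Groth.Agent.GrDual.finrank_canonical (Groth.Agent.GrDual.base_of_span hposS h0S)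
      (Groth.Agent.GrDual.irr_of_span hmS) (hmS ▸ (irrI_isMaximal ℬ hposS h0S).ne_top) heS hCS n).2,
    (Groth.Agent.GrDual.finrank_canonical (Groth.Agent.GrDual.base_of_span hposT h0T)
      (Groth.Agent.GrDual.irr_of_span hmT) (hmT ▸ (irrI_isMaximal 𝒯 hposT h0T).ne_top) heT hCT n).2]
  refine finrank_H_segre_top hT hposR h0R hposS h0S (isSegreMod_self 𝒜 ℬ 𝒯 ψ hT) mR hmR mS hmS mT hmT
    I J IT h2r h2s (fun q d hq => ?_) (fun q d hq => ?_) (-n)
  · exact hgr_eq_bot_of_dim_lt mR I hr.le hq d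
  · exact hgr_eq_bot_of_dim_lt mS J hs.le hq d

end Groth.Agent.S18674
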