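import Groth.Statements.S18676
import Groth.Agent.ValTors.RegMain
import Groth.Agent.ValTors.RegSplit
import Groth.Agent.ValTors.Desc
import Groth.Agent.DiagRig.MultProp

set_option autoImplicit false
set_option linter.style.haveILetI false
set_option maxSynthPendingDepth 5
open CategoryTheory MonoidalCategory CartesianMonoidalCategory MonObj GrpObj AlgebraicGeometry
universe u
open MultTori NonAbH1
open scoped TensorProduct

namespace Groth.Agent.S18676

/-- Equality of classes gives an equivariant isomorphism. -/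
theorem equivIso_of_eq {S : Scheme.{u}} {G : Over S} [GrpObj G] {K : Precoverage Scheme.{u}}
    {P Q : TorsorSch G K} (h : (Quot.mk _ P : H1Sch G K) = Quot.mk _ Q) : Nonempty (EquivIso P.act Q.act) := by
  have hr : Equivalence fun P Q : TorsorSch G K => Nonempty (EquivIso P.act Q.act) :=
    ⟨fun P => ⟨⟨Iso.refl P.X, by rw [Iso.refl_hom, Category.comp_id, MonoidalCategory.whiskerLeft_id, Category.id_comp]⟩⟩,
      fun {P Q} ⟨i⟩ => ⟨⟨i.iso.symm, by
        rw [Iso.symm_hom, Iso.comp_inv_eq, Category.assoc, i.comm, ← MonoidalCategory.whiskerLeft_comp_assoc,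
          Iso.inv_hom_id, MonoidalCategory.whiskerLeft_id, Category.id_comp]⟩⟩,
      fun {P Q R} ⟨i⟩ ⟨j⟩ => ⟨⟨i.iso ≪≫ j.iso, by
        rw [Iso.trans_hom, MonoidalCategory.whiskerLeft_comp, Category.assoc, ← j.comm, ← Category.assoc, i.comm,
          Category.assoc]⟩⟩⟩
  exact hr.eqvGen_iff.1 (Quot.eqvGen_exact h)

/-- Let A be a regular Noetherian integral domain with finitely many maximal ideals (a regular semilocal
domain), K its field of fractions, and M an isotrivial group of multiplicative type of finite type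
over it (a group scheme M which, after one finite étale surjective base change, becomes isomorphic
as a group scheme to the diagonalizable group of a finitely generated commutative group). Then the
restriction map H¹_fppf(A, M) → H¹_fppf(K, M_K) on classes of torsors is injective. (The source
assumes, more generally, A semilocal Noetherian integral with factorial strict henselisations;
regularity is its named sufficient condition and is what is assumed here.) -/
theorem result
    (A : Type u) [CommRing A] [IsDomain A] [IsRegularRing A] [Finite (MaximalSpectrum A)]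
    (M : Over (Spec (CommRingCat.of A))) [GrpObj M]
    (hM : ∃ (Λ : Type) (_ : AddCommGroup Λ), AddGroup.FG Λ ∧
      TwC.Locally (Spec (CommRingCat.of A)) .finiteEtale
        (fun S' g => Nonempty (Grp.mk (Red.bc g M) ≅ Grp.mk (Red.DS S' Λ)))) :
    Function.Injective
      (NonAbH1.H1Sch.bcMap (Spec.map (CommRingCat.ofHom (algebraMap A (FractionRing A)))) M
        Scheme.fppfPrecoverage) := by
  classical
  intro x y hxy
  induction x using Quot.ind with
  | _ P₁ =>
  induction y using Quot.ind with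
  | _ P₂ =>
  refine Quot.sound ?_
  let K := FractionRing A
  obtain ⟨i⟩ := equivIso_of_eq (P := P₁.bc (Spec.map (CommRingCat.ofHom (algebraMap A K))))
    (Q := P₂.bc (Spec.map (CommRingCat.ofHom (algebraMap A K)))) hxy
  obtain ⟨Λ, _, hΛ, hloc⟩ := hM
  haveI : Module.Finite ℤ Λ := Module.Finite.iff_addGroup_fg.mpr hΛ
  haveI := Groth.Agent.DiagRig.multType_isAffineHom M (by
    obtain ⟨S', g, hf, he, hs, hl⟩ := hloc
    exact ⟨S', g, inferInstance, hs, fun U hU => ⟨g ⁻¹ᵁ U, g.isCompact_preimage hU.isCompact,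
      Set.image_preimage_eq _ g.surjective⟩, fun s' =>
        let ⟨U, hmem, _, hiso⟩ := hl s'; ⟨U, hmem, Λ, inferInstance, hΛ, hiso⟩⟩)
  haveI : IsAffine M.left := isAffine_of_isAffineHom M.hom
  obtain ⟨C, _, _, _, hfin, het, hfs, hff, haut, hmax, hufd, hfix, ⟨eG⟩⟩ :=
    Groth.Agent.ValTors.Reg.exists_galois_split A K M hloc
  let e : Red.bc (Spec.map (CommRingCat.ofHom (algebraMap A C))) M ≅ Red.DS (Spec (CommRingCat.of C)) Λ :=
    (Grp.forget _).mapIso eG
  haveI : IsMonHom e.hom := eG.hom.hom.isMonHom_hom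
  have hle : ∀ P : TorsorSch M Scheme.fppfPrecoverage, IsTorsorFor Scheme.fpqcPrecoverage P.act := fun P => by
    obtain ⟨R, hR, hs⟩ := P.isTorsor.2
    exact ⟨P.isTorsor.1, R, Groth.Agent.GITLib.fppfPrecoverage_le_fpqc' _ hR, hs⟩
  have ht₁ := hle P₁
  have ht₂ := hle P₂
  let L := FractionRing C
  haveI : FaithfulSMul A L := (faithfulSMul_iff_algebraMap_injective A L).2 (by
    rw [IsScalarTower.algebraMap_eq A C L]
    exact (IsFractionRing.injective C L).comp (FaithfulSMul.algebraMap_injective A C))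
  letI : Algebra K L := FractionRing.liftAlgebra A L
  haveI : IsScalarTower A K L := FractionRing.isScalarTower_liftAlgebra A L
  obtain ⟨B₁, _, _, _, ⟨z₁⟩⟩ := Groth.Agent.ValTors.exists_point_ff ht₁.2
  obtain ⟨B₂, _, _, _, ⟨z₂⟩⟩ := Groth.Agent.ValTors.exists_point_ff ht₂.2
  let B := B₁ ⊗[A] B₂
  haveI : Module.FaithfullyFlat A B := Module.FaithfullyFlat.trans A B₁ B
  let y₁ := Groth.Agent.ValTors.am (Algebra.TensorProduct.includeLeft : B₁ →ₐ[A] B) ≫ z₁
  let y₂ := Groth.Agent.ValTors.am (Algebra.TensorProduct.includeRight : B₂ →ₐ[A] B) ≫ z₂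
  let lB : B →ₐ[A] B ⊗[A] B := Algebra.TensorProduct.includeLeft
  let rB : B →ₐ[A] B ⊗[A] B := Algebra.TensorProduct.includeRight
  let iB : B →ₐ[A] K ⊗[A] B := Algebra.TensorProduct.includeRight
  let iB2 : B ⊗[A] B →ₐ[A] K ⊗[A] (B ⊗[A] B) := Algebra.TensorProduct.includeRight
  let lK : K ⊗[A] B →ₐ[K] K ⊗[A] (B ⊗[A] B) := Algebra.TensorProduct.map (AlgHom.id K K) lB
  let rK : K ⊗[A] B →ₐ[K] K ⊗[A] (B ⊗[A] B) := Algebra.TensorProduct.map (AlgHom.id K K) rB
  obtain ⟨c₁, hc₁, -⟩ := Groth.Agent.GITLib.existsUnique_diff P₁.isTorsor.1 (Groth.Agent.ValTors.am lB ≫ y₁)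
    (Groth.Agent.ValTors.am rB ≫ y₁)
  obtain ⟨c₂, hc₂, -⟩ := Groth.Agent.GITLib.existsUnique_diff P₂.isTorsor.1 (Groth.Agent.ValTors.am lB ≫ y₂)
    (Groth.Agent.ValTors.am rB ≫ y₂)
  obtain ⟨τ, hτ, -⟩ := Groth.Agent.GITLib.existsUnique_diff P₂.isTorsor.1 (Groth.Agent.ValTors.am iB ≫ y₂)
    (Groth.Agent.ValTors.trans i (K ⊗[A] B) (Groth.Agent.ValTors.am iB ≫ y₁))
  have el : (lK.restrictScalars A).comp iB = iB2.comp lB := AlgHom.ext fun b => by simp [lK, iB, iB2, lB]
  have er : (rK.restrictScalars A).comp iB = iB2.comp rB := AlgHom.ext fun b => by simp [rK, iB, iB2, rB]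
  obtain ⟨τ', hτ'⟩ := Groth.Agent.ValTors.Reg.exists_pt_base K e L hfix c₁ c₂ τ (by
    refine (Groth.Agent.GITLib.existsUnique_diff P₂.isTorsor.1 (Groth.Agent.ValTors.am iB2 ≫ Groth.Agent.ValTors.am lB ≫ y₂)
      (Groth.Agent.ValTors.trans i (K ⊗[A] (B ⊗[A] B)) (Groth.Agent.ValTors.am iB2 ≫ Groth.Agent.ValTors.am rB ≫ y₁))).unique ?_ ?_
    · show lift ((Groth.Agent.ValTors.am iB2 ≫ c₁) * (Groth.Agent.ValTors.am (lK.restrictScalars A) ≫ τ)) _ ≫ _ = _
      rw [P₂.act.lift_mul_act, Groth.Agent.ValTors.am_comp, ← el, ← Groth.Agent.ValTors.am_comp,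
        ← Groth.Agent.GITLib.comp_lift_act, hτ, Groth.Agent.ValTors.trans_am, Groth.Agent.ValTors.am_comp, el,
        ← Groth.Agent.ValTors.trans_smul, ← Groth.Agent.ValTors.am_comp, ← Groth.Agent.GITLib.comp_lift_act, hc₁]
    · show lift ((Groth.Agent.ValTors.am (rK.restrictScalars A) ≫ τ) * (Groth.Agent.ValTors.am iB2 ≫ c₂)) _ ≫ _ = _
      rw [P₂.act.lift_mul_act, ← Groth.Agent.GITLib.comp_lift_act, hc₂, Groth.Agent.ValTors.am_comp, ← er,
        ← Groth.Agent.ValTors.am_comp, ← Groth.Agent.GITLib.comp_lift_act, hτ, Groth.Agent.ValTors.trans_am,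
        Groth.Agent.ValTors.am_comp, er, Groth.Agent.ValTors.am_comp]
      simp only [y₁, Groth.Agent.ValTors.am_comp, AlgHom.comp_assoc])
  exact Groth.Agent.ValTors.equivIso_of_pt ht₁ ht₂ y₁ y₂ c₁ c₂ hc₁ hc₂ τ' hτ'


end Groth.Agent.S18676
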