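import Groth.Statements.S18677
import Groth.Agent.PolyTors.Main
import Groth.Agent.ValTors.Desc
import Groth.Agent.ValTors.RegSplit
import Groth.Agent.Fibres16.WENormal.Ring
-- import your own Groth.Agent.* helpers here

set_option autoImplicit false
set_option linter.style.haveILetI false
set_option maxSynthPendingDepth 5
open CategoryTheory MonoidalCategory CartesianMonoidalCategory MonObj GrpObj AlgebraicGeometry
universe u
open MultTori

namespace Groth.Agent.S18677

section Helpers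

open scoped TensorProduct

attribute [local instance 50] Polynomial.algebra

variable {S : Scheme.{u}} {G H : Over S} [GrpObj G] [GrpObj H] {K : Precoverage Scheme.{u}}

/-- Restriction along a homomorphism of an equivariant isomorphism. -/
noncomputable def restrictIso {X Y : Over S} {a : AlgGrp.Action G X} {b : AlgGrp.Action G Y} (φ : H ⟶ G) [IsMonHom φ]
    (i : NonAbH1.EquivIso a b) : NonAbH1.EquivIso (a.restrict φ) (b.restrict φ) :=
  ⟨i.iso, by
    rw [AlgGrp.Action.restrict_act, AlgGrp.Action.restrict_act, Category.assoc, i.comm, whisker_exchange_assoc]⟩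

/-- Equivariant isomorphisms after restriction along an isomorphism. -/
noncomputable def unrestrictIso {X Y : Over S} {a : AlgGrp.Action G X} {b : AlgGrp.Action G Y} (φ : H ⟶ G) [IsMonHom φ] [IsIso φ]
    (i : NonAbH1.EquivIso (a.restrict φ) (b.restrict φ)) : NonAbH1.EquivIso a b :=
  ⟨i.iso, by
    have h := i.comm
    rw [AlgGrp.Action.restrict_act, AlgGrp.Action.restrict_act, Category.assoc, whisker_exchange_assoc] at h
    exact (cancel_epi (φ ▷ X)).1 h⟩

noncomputable def symmIso {X Y : Over S} {a : AlgGrp.Action G X} {b : AlgGrp.Action G Y}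
    (i : NonAbH1.EquivIso a b) : NonAbH1.EquivIso b a :=
  ⟨i.iso.symm, by
    rw [Iso.symm_hom, Iso.comp_inv_eq, Category.assoc, i.comm, ← MonoidalCategory.whiskerLeft_comp_assoc,
      Iso.inv_hom_id, MonoidalCategory.whiskerLeft_id, Category.id_comp]⟩

noncomputable def transIso {X Y Z : Over S} {a : AlgGrp.Action G X} {b : AlgGrp.Action G Y} {c : AlgGrp.Action G Z}
    (i : NonAbH1.EquivIso a b) (j : NonAbH1.EquivIso b c) : NonAbH1.EquivIso a c :=
  ⟨i.iso ≪≫ j.iso, by
    rw [Iso.trans_hom, MonoidalCategory.whiskerLeft_comp, Category.assoc, ← j.comm, ← Category.assoc, i.comm,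
      Category.assoc]⟩

theorem equivIso_of_eq {P Q : NonAbH1.TorsorSch G K} (h : (Quot.mk _ P : NonAbH1.H1Sch G K) = Quot.mk _ Q) :
    Nonempty (NonAbH1.EquivIso P.act Q.act) := by
  have hr : Equivalence fun P Q : NonAbH1.TorsorSch G K => Nonempty (NonAbH1.EquivIso P.act Q.act) :=
    ⟨fun P => ⟨⟨Iso.refl P.X, by rw [Iso.refl_hom, Category.comp_id, MonoidalCategory.whiskerLeft_id, Category.id_comp]⟩⟩,
      fun {P Q} ⟨i⟩ => ⟨symmIso i⟩, fun {P Q R} ⟨i⟩ ⟨j⟩ => ⟨transIso i j⟩⟩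
  exact hr.eqvGen_iff.1 (Quot.eqvGen_exact h)

/-- Base change along the identity. -/
noncomputable def ν (X : Over S) : Red.bc (𝟙 S) X ≅ X := Over.pullbackId.app X

theorem ν_natural {X Y : Over S} (f : X ⟶ Y) : (Over.pullback (𝟙 S)).map f ≫ (ν Y).hom = (ν X).hom ≫ f :=
  Over.pullbackId.hom.naturality f

theorem μ_ν (X Y : Over S) :
    Functor.LaxMonoidal.μ (Over.pullback (𝟙 S)) X Y ≫ (ν (X ⊗ Y)).hom = ((ν X).hom ⊗ₘ (ν Y).hom) := by
  apply CartesianMonoidalCategory.hom_ext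
  · rw [Category.assoc, ← ν_natural, tensorHom_fst, ← Category.assoc]
    congr 1
    exact Functor.Monoidal.μ_fst (Over.pullback (𝟙 S)) X Y
  · rw [Category.assoc, ← ν_natural, tensorHom_snd, ← Category.assoc]
    congr 1
    exact Functor.Monoidal.μ_snd (Over.pullback (𝟙 S)) X Y

instance ν_isMonHom : IsMonHom (ν G).hom where
  one_hom := by
    rw [Functor.obj.η_def, Category.assoc, ν_natural, ← Category.assoc,
      show Functor.LaxMonoidal.ε (Over.pullback (𝟙 S)) ≫ (ν (𝟙_ (Over S))).hom = 𝟙 _ from toUnit_unique _ _,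
      Category.id_comp]
  mul_hom := by
    rw [Functor.obj.μ_def, Category.assoc, ν_natural, ← Category.assoc, μ_ν]

/-- Base change along the identity is restriction along the identification. -/
noncomputable def bcIdIso {X : Over S} (a : AlgGrp.Action G X) :
    NonAbH1.EquivIso (a.bc (𝟙 S)) (a.restrict (ν G).hom) :=
  ⟨ν X, by
    rw [AlgGrp.Action.bc_act, AlgGrp.Action.restrict_act, Category.assoc, ν_natural, ← Category.assoc, μ_ν,
      tensorHom_def', Category.assoc]⟩

/-- The restriction of a torsor along an isomorphism of groups. -/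
noncomputable def restrictTors (φ : H ⟶ G) [IsMonHom φ] [IsIso φ] (P : NonAbH1.TorsorSch G K) :
    NonAbH1.TorsorSch H K :=
  ⟨P.X, P.act.restrict φ, by
    have h := P.isTorsor.1
    refine ⟨?_, P.isTorsor.2⟩
    show IsIso _
    have e : lift (P.act.restrict φ).act (snd H P.X) = (φ ▷ P.X) ≫ lift P.act.act (snd G P.X) := by
      rw [comp_lift, AlgGrp.Action.restrict_act, whiskerRight_snd]
    rw [e]
    haveI : IsIso (lift P.act.act (snd G P.X)) := h
    infer_instance⟩

/-- The difference of two trivialisations is a cocycle. -/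
theorem diff_cocycle {V : Type u} [CommRing V] {B : Type u} [CommRing B] [Algebra V B]
    {N X : Over (Spec (CommRingCat.of V))} [GrpObj N] {a : AlgGrp.Action N X} (ha : NonAbH1.IsPseudoTorsorSch a)
    (y : ValTors.sA (V := V) B ⟶ X) (c : ValTors.sA (V := V) (B ⊗[V] B) ⟶ N)
    (hc : lift c (ValTors.am (Algebra.TensorProduct.includeLeft : B →ₐ[V] B ⊗[V] B) ≫ y) ≫ a.act =
      ValTors.am (Algebra.TensorProduct.includeRight : B →ₐ[V] B ⊗[V] B) ≫ y) :
    ValTors.am (SGA1Torsor.a13 (A := V) (B := B)) ≫ c =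
      (ValTors.am (SGA1Torsor.a23 (A := V) (B := B)) ≫ c) * (ValTors.am (SGA1Torsor.a12 (A := V) (B := B)) ≫ c) := by
  let l : B →ₐ[V] B ⊗[V] B := Algebra.TensorProduct.includeLeft
  let r : B →ₐ[V] B ⊗[V] B := Algebra.TensorProduct.includeRight
  have key : ∀ f : B ⊗[V] B →ₐ[V] B ⊗[V] (B ⊗[V] B),
      lift (ValTors.am f ≫ c) (ValTors.am (f.comp l) ≫ y) ≫ a.act = ValTors.am (f.comp r) ≫ y := fun f => by
    rw [← ValTors.am_comp, ← GITLib.comp_lift_act, hc, ValTors.am_comp]
  have e₁ : (SGA1Torsor.a13 (A := V) (B := B)).comp l = (SGA1Torsor.a12 (A := V) (B := B)).comp l :=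
    AlgHom.ext fun b => by simp [SGA1Torsor.a13, SGA1Torsor.a12, l]
  have e₂ : (SGA1Torsor.a12 (A := V) (B := B)).comp r = (SGA1Torsor.a23 (A := V) (B := B)).comp l :=
    AlgHom.ext fun b => by simp [SGA1Torsor.a23, SGA1Torsor.a12, l, r]
  have e₃ : (SGA1Torsor.a23 (A := V) (B := B)).comp r = (SGA1Torsor.a13 (A := V) (B := B)).comp r :=
    AlgHom.ext fun b => by simp [SGA1Torsor.a23, SGA1Torsor.a13, r]
  refine (GITLib.existsUnique_diff ha (ValTors.am ((SGA1Torsor.a12 (A := V) (B := B)).comp l) ≫ y)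
    (ValTors.am ((SGA1Torsor.a13 (A := V) (B := B)).comp r) ≫ y)).unique ?_ ?_
  · rw [← e₁, key]
  · rw [a.lift_mul_act, key, e₂, key, e₃]

theorem isReduced_sq (A C : Type u) [CommRing A] [CommRing C] [IsDomain C] [Algebra A C] [Algebra.Etale A C] :
    _root_.IsReduced (C ⊗[A] C) := by
  haveI : _root_.IsReduced (FractionRing C ⊗[C] (C ⊗[A] C)) :=
    Algebra.FormallyUnramified.isReduced_of_field (FractionRing C) _
  exact isReduced_of_injective (Algebra.TensorProduct.includeRight : C ⊗[A] C →ₐ[C] FractionRing C ⊗[C] (C ⊗[A] C))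
    (Algebra.TensorProduct.includeRight_injective (IsFractionRing.injective C (FractionRing C)))

/-- A split finite étale normal domain over a normal domain. -/
theorem exists_split (A : Type u) [CommRing A] [IsDomain A] [IsIntegrallyClosed A]
    (M : Over (Spec (CommRingCat.of A))) [GrpObj M] {Λ : Type} [AddCommGroup Λ]
    (hM : TwC.Locally (Spec (CommRingCat.of A)) .finiteEtale
      (fun S' g => Nonempty (Grp.mk (Red.bc g M) ≅ Grp.mk (Red.DS S' Λ)))) :
    ∃ (C : Type u) (_ : CommRing C) (_ : IsDomain C) (_ : Algebra A C),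
      IsIntegrallyClosed C ∧ Module.FaithfullyFlat A C ∧ _root_.IsReduced (C ⊗[A] C) ∧
        Nonempty (Grp.mk (Red.bc (Spec.map (CommRingCat.ofHom (algebraMap A C))) M) ≅
          Grp.mk (Red.DS (Spec (CommRingCat.of C)) Λ)) := by
  classical
  let K := FractionRing A
  obtain ⟨U, g, ⟨eU⟩, hgf, hge, x, hx⟩ := GITLib.TorusApprox.exists_piece hM
  haveI : IsAffine U := isAffine_of_isAffineHom g
  obtain ⟨φ, hφ⟩ := Spec.map_surjective (U.isoSpec.inv ≫ g)
  letI : Algebra A Γ(U, ⊤) := φ.hom.toAlgebra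
  haveI : IsFinite (Spec.map φ) := by rw [hφ]; infer_instance
  haveI : Etale (Spec.map φ) := by rw [hφ]; infer_instance
  haveI : Module.Finite A Γ(U, ⊤) := RingHom.finite_algebraMap.1 ((IsFinite.SpecMap_iff φ).1 inferInstance)
  haveI : Algebra.Etale A Γ(U, ⊤) := RingHom.etale_algebraMap.1 (HasRingHomProperty.Spec_iff.1 ‹Etale (Spec.map φ)›)
  let q : PrimeSpectrum Γ(U, ⊤) := U.isoSpec.hom.base x
  have hq : q.asIdeal.comap (algebraMap A Γ(U, ⊤)) = ⊥ := by
    have h : (Spec.map φ).base q = (⟨⊥, Ideal.isPrime_bot⟩ : PrimeSpectrum A) := by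
      rw [hφ, ← hx, ← Scheme.Hom.comp_apply, Iso.hom_inv_id_assoc]
    exact congrArg PrimeSpectrum.asIdeal h
  let Ω := SeparableClosure K
  letI : Algebra A Ω := ((algebraMap K Ω).comp (algebraMap A K)).toAlgebra
  haveI : IsScalarTower A K Ω := IsScalarTower.of_algebraMap_eq fun _ => rfl
  obtain ⟨C, hCfin, hCet, ⟨j⟩, -⟩ := ValTors.Reg.exists_stable_etale (A := A) K Ω Γ(U, ⊤) q.asIdeal hq
  haveI := hCfin; haveI := hCet
  haveI : IsDomain C := inferInstance
  have hinj : Function.Injective (algebraMap A C) := fun a b h => IsFractionRing.injective A K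
    ((algebraMap K Ω).injective (congrArg Subtype.val h))
  haveI : Algebra.IsIntegral A C := inferInstance
  haveI : Module.FaithfullyFlat A C := Module.FaithfullyFlat.of_comap_surjective fun p => by
    obtain ⟨Q, hQ, hQp⟩ := Ideal.exists_ideal_over_prime_of_isIntegral p.asIdeal (⊥ : Ideal C)
      (by rw [← RingHom.ker_eq_comap_bot, (RingHom.injective_iff_ker_eq_bot _).1 hinj]; exact bot_le)
    exact ⟨⟨Q, hQp.1⟩, PrimeSpectrum.ext hQp.2⟩
  have hnA : EGA4.IsNormalRing A := fun p _ =>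
    ⟨inferInstance, isIntegrallyClosed_of_isLocalization _ p.primeCompl p.primeCompl_le_nonZeroDivisors⟩
  have hnC : EGA4.IsNormalRing C := Fibres16.WENormal.isNormalRing_of_weaklyEtale A C hnA
  haveI : IsIntegrallyClosed C := IsIntegrallyClosed.of_localization_maximal fun P _ _ => (hnC P).2
  haveI : _root_.IsReduced (C ⊗[A] C) := isReduced_sq A C
  refine ⟨C, inferInstance, inferInstance, inferInstance, inferInstance, inferInstance, inferInstance, ?_⟩
  refine GITLib.TorusApprox.exists_split_bc (Spec.map (CommRingCat.ofHom j.toRingHom) ≫ U.isoSpec.inv) g _ ?_ M Λ eU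
  rw [Category.assoc, ← hφ]
  show Spec.map _ ≫ Spec.map _ = Spec.map _
  rw [← Spec.map_comp]
  congr 1
  exact CommRingCat.hom_ext j.comp_algebraMap

open ValTors in
/-- The comparison point of two trivialisations over a base change. -/
theorem exists_tau {V K : Type u} [CommRing V] [CommRing K] [Algebra V K] {N X Y : Over (Spec (CommRingCat.of V))}
    [GrpObj N] {a : AlgGrp.Action N X} {b : AlgGrp.Action N Y} (hb₂ : NonAbH1.IsPseudoTorsorSch b)
    (i : NonAbH1.EquivIso (a.bc (gen V K)) (b.bc (gen V K))) {B : Type u} [CommRing B] [Algebra V B]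
    (y₁ : sA (V := V) B ⟶ X) (y₂ : sA (V := V) B ⟶ Y) (c₁ c₂ : sA (V := V) (B ⊗[V] B) ⟶ N)
    (hc₁ : lift c₁ (am (Algebra.TensorProduct.includeLeft : B →ₐ[V] B ⊗[V] B) ≫ y₁) ≫ a.act =
      am (Algebra.TensorProduct.includeRight : B →ₐ[V] B ⊗[V] B) ≫ y₁)
    (hc₂ : lift c₂ (am (Algebra.TensorProduct.includeLeft : B →ₐ[V] B ⊗[V] B) ≫ y₂) ≫ b.act =
      am (Algebra.TensorProduct.includeRight : B →ₐ[V] B ⊗[V] B) ≫ y₂) :
    ∃ τ : sA (V := V) (K ⊗[V] B) ⟶ N,
      (am (Algebra.TensorProduct.includeRight : B ⊗[V] B →ₐ[V] K ⊗[V] (B ⊗[V] B)) ≫ c₁) *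
        (am ((Algebra.TensorProduct.map (AlgHom.id K K) (Algebra.TensorProduct.includeLeft : B →ₐ[V] B ⊗[V] B)).restrictScalars V) ≫ τ) =
      (am ((Algebra.TensorProduct.map (AlgHom.id K K) (Algebra.TensorProduct.includeRight : B →ₐ[V] B ⊗[V] B)).restrictScalars V) ≫ τ) *
        (am (Algebra.TensorProduct.includeRight : B ⊗[V] B →ₐ[V] K ⊗[V] (B ⊗[V] B)) ≫ c₂) := by
  let lB : B →ₐ[V] B ⊗[V] B := Algebra.TensorProduct.includeLeft
  let rB : B →ₐ[V] B ⊗[V] B := Algebra.TensorProduct.includeRight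
  let iB : B →ₐ[V] K ⊗[V] B := Algebra.TensorProduct.includeRight
  let iB2 : B ⊗[V] B →ₐ[V] K ⊗[V] (B ⊗[V] B) := Algebra.TensorProduct.includeRight
  let lK : K ⊗[V] B →ₐ[K] K ⊗[V] (B ⊗[V] B) := Algebra.TensorProduct.map (AlgHom.id K K) lB
  let rK : K ⊗[V] B →ₐ[K] K ⊗[V] (B ⊗[V] B) := Algebra.TensorProduct.map (AlgHom.id K K) rB
  obtain ⟨τ, hτ, -⟩ := GITLib.existsUnique_diff hb₂ (am iB ≫ y₂) (trans i (K ⊗[V] B) (am iB ≫ y₁))
  have el : (lK.restrictScalars V).comp iB = iB2.comp lB := AlgHom.ext fun b => by simp [lK, iB, iB2, lB]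
  have er : (rK.restrictScalars V).comp iB = iB2.comp rB := AlgHom.ext fun b => by simp [rK, iB, iB2, rB]
  have h0 : (am iB2 ≫ c₁) * (am (lK.restrictScalars V) ≫ τ) = (am (rK.restrictScalars V) ≫ τ) * (am iB2 ≫ c₂) := by
    refine (GITLib.existsUnique_diff hb₂ (am iB2 ≫ am lB ≫ y₂)
      (trans i (K ⊗[V] (B ⊗[V] B)) (am iB2 ≫ am rB ≫ y₁))).unique ?_ ?_
    · show lift ((am iB2 ≫ c₁) * (am (lK.restrictScalars V) ≫ τ)) _ ≫ _ = _
      rw [b.lift_mul_act, am_comp, ← el, ← am_comp, ← GITLib.comp_lift_act, hτ, trans_am, am_comp, el,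
        ← trans_smul, ← am_comp, ← GITLib.comp_lift_act, hc₁]
    · show lift ((am (rK.restrictScalars V) ≫ τ) * (am iB2 ≫ c₂)) _ ≫ _ = _
      rw [b.lift_mul_act, ← GITLib.comp_lift_act, hc₂, am_comp, ← er, ← am_comp, ← GITLib.comp_lift_act, hτ,
        trans_am, am_comp, er, am_comp]
      all_goals simp only [am_comp, AlgHom.comp_assoc]
  exact ⟨τ, h0⟩

open ValTors in
/-- Torsors over the line which agree at zero are isomorphic. -/
theorem equivIso_of_zero (A : Type u) [CommRing A] [IsDomain A] [IsIntegrallyClosed A]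
    (M : Over (Spec (CommRingCat.of A))) [GrpObj M]
    (hM : ∃ (Λ : Type) (_ : AddCommGroup Λ), AddGroup.FG Λ ∧
      TwC.Locally (Spec (CommRingCat.of A)) .finiteEtale
        (fun S' g => Nonempty (Grp.mk (Red.bc g M) ≅ Grp.mk (Red.DS S' Λ))))
    (P₁ P₂ : NonAbH1.TorsorSch (Red.bc (Spec.map (CommRingCat.ofHom (Polynomial.C : A →+* Polynomial A))) M) Scheme.fppfPrecoverage)
    (i : NonAbH1.EquivIso (P₁.act.bc (gen (Polynomial A) (PolyTors.AtZero A)))
      (P₂.act.bc (gen (Polynomial A) (PolyTors.AtZero A)))) :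
    Nonempty (NonAbH1.EquivIso P₁.act P₂.act) := by
  classical
  obtain ⟨Λ, _, hΛ, hloc⟩ := hM
  haveI := Groth.Agent.DiagRig.multType_isAffineHom M (by
    obtain ⟨S', g, hf, he, hs, hl⟩ := hloc
    exact ⟨S', g, inferInstance, hs, fun U hU => ⟨g ⁻¹ᵁ U, g.isCompact_preimage hU.isCompact,
      Set.image_preimage_eq _ g.surjective⟩, fun s' =>
        let ⟨U, hmem, _, hiso⟩ := hl s'; ⟨U, hmem, Λ, inferInstance, hΛ, hiso⟩⟩)
  let V := Polynomial A
  let f : Spec (CommRingCat.of V) ⟶ Spec (CommRingCat.of A) :=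
    Spec.map (CommRingCat.ofHom (Polynomial.C : A →+* Polynomial A))
  let N := Red.bc f M
  haveI : IsAffineHom N.hom := MorphismProperty.pullback_snd _ _ inferInstance
  haveI : IsAffine N.left := isAffine_of_isAffineHom N.hom
  obtain ⟨C, _, _, _, hic, hff, hred, ⟨eC⟩⟩ := exists_split A M hloc
  let p : Spec (CommRingCat.of (Polynomial C)) ⟶ Spec (CommRingCat.of C) :=
    Spec.map (CommRingCat.ofHom (Polynomial.C : C →+* Polynomial C))
  let pC : Spec (CommRingCat.of (Polynomial C)) ⟶ Spec (CommRingCat.of V) :=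
    Spec.map (CommRingCat.ofHom (algebraMap V (Polynomial C)))
  have hsq : pC ≫ f = p ≫ Spec.map (CommRingCat.ofHom (algebraMap A C)) := by
    simp only [pC, f, p, ← Spec.map_comp]
    congr 1
    exact CommRingCat.hom_ext (Polynomial.mapRingHom_comp_C (algebraMap A C))
  obtain ⟨e₁⟩ := GITLib.TorusApprox.exists_split_bc p (Spec.map (CommRingCat.ofHom (algebraMap A C))) (pC ≫ f) hsq.symm
    M Λ eC
  let eG : Grp.mk (Red.bc pC N) ≅ Grp.mk (Red.DS (Spec (CommRingCat.of (Polynomial C))) Λ) :=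
    Grp.mkIso' (ActBC.bcCompIso pC f M rfl) ≪≫ e₁
  let e : Red.bc pC N ≅ Red.DS (Spec (CommRingCat.of (Polynomial C))) Λ := (Grp.forget _).mapIso eG
  haveI : IsMonHom e.hom := eG.hom.hom.isMonHom_hom
  have hle : ∀ P : NonAbH1.TorsorSch N Scheme.fppfPrecoverage, NonAbH1.IsTorsorFor Scheme.fpqcPrecoverage P.act :=
    fun P => by
      obtain ⟨R, hR, hs⟩ := P.isTorsor.2
      exact ⟨P.isTorsor.1, R, Groth.Agent.GITLib.fppfPrecoverage_le_fpqc' _ hR, hs⟩
  have ht₁ := hle P₁
  have ht₂ := hle P₂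
  obtain ⟨B₁, _, _, _, ⟨z₁⟩⟩ := exists_point_ff ht₁.2
  obtain ⟨B₂, _, _, _, ⟨z₂⟩⟩ := exists_point_ff ht₂.2
  let B := B₁ ⊗[V] B₂
  haveI : Module.FaithfullyFlat V B := Module.FaithfullyFlat.trans V B₁ B
  let K := PolyTors.AtZero A
  let y₁ := am (Algebra.TensorProduct.includeLeft : B₁ →ₐ[V] B) ≫ z₁
  let y₂ := am (Algebra.TensorProduct.includeRight : B₂ →ₐ[V] B) ≫ z₂
  let lB : B →ₐ[V] B ⊗[V] B := Algebra.TensorProduct.includeLeft
  let rB : B →ₐ[V] B ⊗[V] B := Algebra.TensorProduct.includeRight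
  let iB : B →ₐ[V] K ⊗[V] B := Algebra.TensorProduct.includeRight
  let iB2 : B ⊗[V] B →ₐ[V] K ⊗[V] (B ⊗[V] B) := Algebra.TensorProduct.includeRight
  let lK : K ⊗[V] B →ₐ[K] K ⊗[V] (B ⊗[V] B) := Algebra.TensorProduct.map (AlgHom.id K K) lB
  let rK : K ⊗[V] B →ₐ[K] K ⊗[V] (B ⊗[V] B) := Algebra.TensorProduct.map (AlgHom.id K K) rB
  obtain ⟨c₁, hc₁, -⟩ := GITLib.existsUnique_diff P₁.isTorsor.1 (am lB ≫ y₁) (am rB ≫ y₁)
  obtain ⟨c₂, hc₂, -⟩ := GITLib.existsUnique_diff P₂.isTorsor.1 (am lB ≫ y₂) (am rB ≫ y₂)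
  obtain ⟨τ, h0⟩ := exists_tau P₂.isTorsor.1 i y₁ y₂ c₁ c₂ hc₁ hc₂
  haveI := PolyTors.ff_poly (A := A) C
  have comm : ∀ {R : Type u} [CommRing R] [Algebra V R] (x y : sA (V := V) R ⟶ N), x * y = y * x :=
    fun x y => pt_comm e x y
  have hδ : am (SGA1Torsor.a13 (A := V) (B := B)) ≫ (c₁ * c₂⁻¹) =
      (am (SGA1Torsor.a23 (A := V) (B := B)) ≫ (c₁ * c₂⁻¹)) * (am (SGA1Torsor.a12 (A := V) (B := B)) ≫ (c₁ * c₂⁻¹)) := by
    simp only [MonObj.comp_mul, GrpObj.comp_inv]
    rw [diff_cocycle P₁.isTorsor.1 y₁ c₁ hc₁, diff_cocycle P₂.isTorsor.1 y₂ c₂ hc₂, _root_.mul_inv_rev,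
      comm ((am (SGA1Torsor.a12 (A := V) (B := B)) ≫ c₂)⁻¹)]
    simp only [_root_.mul_assoc]
    congr 1
    rw [← _root_.mul_assoc, comm (am (SGA1Torsor.a12 (A := V) (B := B)) ≫ c₁), _root_.mul_assoc]
  obtain ⟨τ', hτ'⟩ := PolyTors.exists_pt C e (c₁ * c₂⁻¹) hδ τ (by
    show (am iB2 ≫ (c₁ * c₂⁻¹)) * (am (lK.restrictScalars V) ≫ τ) = am (rK.restrictScalars V) ≫ τ
    rw [MonObj.comp_mul, GrpObj.comp_inv, comm (am iB2 ≫ c₁), _root_.mul_assoc, h0,
      comm (am (rK.restrictScalars V) ≫ τ), ← _root_.mul_assoc, inv_mul_cancel, _root_.one_mul])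
  refine equivIso_of_pt ht₁ ht₂ y₁ y₂ c₁ c₂ hc₁ hc₂ τ' ?_
  rw [← hτ', comm _ c₂, ← _root_.mul_assoc, comm c₂, _root_.mul_assoc c₁, inv_mul_cancel, _root_.mul_one]

/-- Base change along a map with a section is bijective on torsors determined along the section. -/
theorem bijective_bcMap {S T : Scheme.{u}} (f : T ⟶ S) (g : S ⟶ T) (hgf : g ≫ f = 𝟙 S) (M : Over S) [GrpObj M]
    (K : Precoverage Scheme.{u}) [K.IsStableUnderBaseChange]
    (key : ∀ P₁ P₂ : NonAbH1.TorsorSch (Red.bc f M) K, NonAbH1.EquivIso (P₁.act.bc g) (P₂.act.bc g) →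
      Nonempty (NonAbH1.EquivIso P₁.act P₂.act)) :
    Function.Bijective (NonAbH1.H1Sch.bcMap f M K) := by
  let β := (ActBC.bcCompIso g f M hgf).hom
  haveI hβ : IsMonHom β := ActBC.bcCompIso_isMonHom g f hgf
  refine ⟨fun x y hxy => ?_, fun z => ?_⟩
  · induction x using Quot.ind with
    | _ P =>
    induction y using Quot.ind with
    | _ Q =>
    obtain ⟨i⟩ := equivIso_of_eq (P := P.bc f) (Q := Q.bc f) hxy
    have i₂ := unrestrictIso β (transIso (symmIso (ActBC.equivIsoBcComp g f hgf P.act))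
      (transIso (i.bc g) (ActBC.equivIsoBcComp g f hgf Q.act)))
    exact Quot.sound ⟨unrestrictIso (ν M).hom (transIso (symmIso (bcIdIso P.act)) (transIso i₂ (bcIdIso Q.act)))⟩
  · induction z using Quot.ind with
    | _ P =>
    let θ : M ⟶ Red.bc g (Red.bc f M) := (ν M).inv ≫ inv β
    haveI : IsMonHom θ := by
      haveI : IsMonHom (asIso β).hom := hβ
      haveI : IsMonHom (inv β) := (inferInstance : IsMonHom (asIso β).inv)
      exact inferInstanceAs (IsMonHom ((ν M).inv ≫ inv β))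
    haveI : IsIso θ := inferInstanceAs (IsIso ((ν M).inv ≫ inv β))
    let Q := restrictTors θ (P.bc g)
    refine ⟨Quot.mk _ Q, Quot.sound ?_⟩
    have i₁ : NonAbH1.EquivIso ((Q.act.bc f).bc g) ((Q.act.bc (𝟙 _)).restrict β) :=
      ActBC.equivIsoBcComp g f hgf Q.act
    have i₂ := restrictIso β (bcIdIso Q.act)
    have e : ((Q.act.restrict (ν M).hom).restrict β) = (P.act.bc g) := AlgGrp.Action.ext' (by
      simp only [Q, restrictTors, AlgGrp.Action.restrict_act, θ, ← comp_whiskerRight_assoc]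
      simp only [Iso.hom_inv_id_assoc, IsIso.hom_inv_id, id_whiskerRight, Category.id_comp]
      rfl)
    rw [e] at i₂
    exact key (Q.bc f) P (transIso i₁ i₂)

theorem evalZero_comp_C (A : Type u) [CommRing A] :
    Spec.map (CommRingCat.ofHom (Polynomial.evalRingHom (0 : A))) ≫
      Spec.map (CommRingCat.ofHom (Polynomial.C : A →+* Polynomial A)) = 𝟙 _ := by
  rw [← Spec.map_comp, ← Spec.map_id]
  congr 1
  exact CommRingCat.hom_ext (RingHom.ext fun a => Polynomial.eval_C)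

end Helpers

/-- Let A be a normal (integrally closed) Noetherian integral domain and S an isotrivial group of
multiplicative type of finite type over it (a group scheme M which, after one finite étale
surjective base change, becomes isomorphic as a group scheme to the diagonalizable group of a
finitely generated commutative group). Then the restriction map H¹_fppf(A, S) → H¹_fppf(A[t],
S_{A[t]}) along the inclusion of A into the polynomial ring in one variable is bijective on classes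
of torsors. -/
theorem result
    (A : Type u) [CommRing A] [IsDomain A] [IsNoetherianRing A] [IsIntegrallyClosed A]
    (M : Over (Spec (CommRingCat.of A))) [GrpObj M]
    (hM : ∃ (Λ : Type) (_ : AddCommGroup Λ), AddGroup.FG Λ ∧
      TwC.Locally (Spec (CommRingCat.of A)) .finiteEtale
        (fun S' g => Nonempty (Grp.mk (Red.bc g M) ≅ Grp.mk (Red.DS S' Λ)))) :
    Function.Bijective
      (NonAbH1.H1Sch.bcMap (Spec.map (CommRingCat.ofHom (Polynomial.C : A →+* Polynomial A))) M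
        Scheme.fppfPrecoverage) := by
  exact @bijective_bcMap (Spec (CommRingCat.of A)) (Spec (CommRingCat.of (Polynomial A))) _ (ValTors.gen (Polynomial A) (PolyTors.AtZero A)) (evalZero_comp_C A) M _ Scheme.fppfPrecoverage _
    fun P₁ P₂ i => equivIso_of_zero A M hM P₁ P₂ i

end Groth.Agent.S18677
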