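import Groth.Statements.S1868
import Groth.Agent.CycLib.MapLib
import Groth.Agent.CycLib.NormMap
import Groth.Agent.BddFibLib.Points
import Groth.Agent.FlatMor.FibreStalk
import Groth.Agent.EtStruct.QFinPts

set_option autoImplicit false
universe u
open CategoryTheory AlgebraicGeometry
open Cyc

namespace Groth.Agent.S1868

open CategoryTheory.Limits IsLocalRing BddFib

theorem finrank_eq_length_mul (K L : Type u) [Field K] [CommRing L] [IsLocalRing L] [Algebra K L]
    [Module.Finite K L] :
    Module.finrank K L = (Module.length L L).toNat * Module.finrank K (ResidueField L) := by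
  have : IsLocalHom (algebraMap K L) := ⟨fun a ha => isUnit_iff_ne_zero.mpr fun h0 => by
    rw [h0, map_zero] at ha; exact not_isUnit_zero ha⟩
  have : Module.Finite K (ResidueField L) :=
    Module.Finite.of_surjective (IsScalarTower.toAlgHom K L (ResidueField L)).toLinearMap residue_surjective
  have h := IsLocalRing.length_restrictScalars K L L
  have e : Module.length (ResidueField K) (ResidueField L) = Module.length K (ResidueField L) :=
    (Module.length_eq_of_surjective (S := K) (R := ResidueField K) (M := ResidueField L) residue_surjective).symm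
  rw [e, Module.length_eq_finrank, Module.length_eq_finrank] at h
  have h' := congrArg ENat.toNat h
  rwa [ENat.toNat_natCast, ENat.toNat_mul, ENat.toNat_natCast] at h'

theorem finrank_sections {K : Type u} [Field K] {T : Scheme.{u}} (p : T ⟶ Spec (CommRingCat.of K))
    [IsFinite p] [Flat p] (v : Spec (CommRingCat.of K)) :
    letI := secAlgebra (CommRingCat.of K) p
    Module.Finite K (Γ(T, ⊤) : Type u) ∧ p.finrank v = Module.finrank K (Γ(T, ⊤) : Type u) := by
  let φ := (Scheme.ΓSpecIso (CommRingCat.of K)).inv ≫ p.appTop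
  have hT : IsAffine T := isAffine_of_isAffineHom p
  have hfin : φ.hom.Finite := RingHom.Finite.comp (f := (Scheme.ΓSpecIso _).inv.hom) p.finite_appTop
    (RingHom.Finite.of_surjective _ (ConcreteCategory.bijective_of_isIso _).surjective)
  refine ⟨hfin, ?_⟩
  have hπ : T.isoSpec.inv ≫ p = Spec.map φ := by
    rw [Spec.map_comp, Iso.inv_comp_eq, Scheme.isoSpec_hom_naturality_assoc]
    simp [Scheme.isoSpec_Spec_hom, ← Spec.map_comp]
  letI := φ.hom.toAlgebra
  have : IsFinite (Spec.map φ) := (IsFinite.SpecMap_iff φ).mpr hfin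
  rw [← Scheme.Hom.finrank_comp_left_of_isIso T.isoSpec.inv p, hπ,
    Scheme.Hom.finrank_SpecMap_eq_finrank hfin (inferInstanceAs (Module.Flat K Γ(T, ⊤))),
    ← RingHom.algebraMap_toAlgebra φ.hom, RingHom.finrank_algebraMap,
    Module.rankAtStalk_eq_finrank_of_free]
  rfl

theorem sum_length_mul_residueDegree {K : Type u} [Field K] {T : Scheme.{u}}
    (p : T ⟶ Spec (CommRingCat.of K)) [IsFinite p] [Fintype T] :
    letI := secAlgebra (CommRingCat.of K) p
    Module.finrank K (Γ(T, ⊤) : Type u) =
      ∑ t : T, (Module.length (T.presheaf.stalk t) (T.presheaf.stalk t)).toNat * p.residueDegree t := by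
  have hT : IsAffine T := isAffine_of_isAffineHom p
  let C : Type u := Γ(T, ⊤)
  letI : Algebra K C := secAlgebra (CommRingCat.of K) p
  haveI : Module.Finite K C := RingHom.Finite.comp (f := (Scheme.ΓSpecIso _).inv.hom) p.finite_appTop
    (RingHom.Finite.of_surjective _ (ConcreteCategory.bijective_of_isIso _).surjective)
  haveI : IsArtinianRing C := IsArtinianRing.of_finite K C
  haveI : Fintype (PrimeSpectrum C) := Fintype.ofFinite _
  haveI : ∀ P : PrimeSpectrum C, Module.Finite K (Localization P.asIdeal.primeCompl) := fun P =>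
    Module.Finite.of_surjective (IsScalarTower.toAlgHom K C (Localization P.asIdeal.primeCompl)).toLinearMap
      (IsArtinianRing.localization_surjective P.asIdeal.primeCompl _)
  have h1 : Module.finrank K C = ∑ P : PrimeSpectrum C, Module.finrank K (Localization P.asIdeal.primeCompl) :=
    ((PrimeSpectrum.toPiLocalizationEquiv (R := C)).toLinearEquiv.restrictScalars K).finrank_eq.trans
      (Module.finrank_pi_fintype K)
  refine h1.trans ?_
  let hU := isAffineOpen_top T
  let e : T ≃ PrimeSpectrum C := Equiv.ofBijective (fun t => hU.primeIdealOf ⟨t, trivial⟩) ⟨fun a b h => by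
    have := congrArg hU.fromSpec h
    simp only [IsAffineOpen.fromSpec_primeIdealOf] at this
    exact this, fun P => ⟨hU.fromSpec P, hU.fromSpec.isOpenEmbedding.injective
      (by simp only [IsAffineOpen.fromSpec_primeIdealOf])⟩⟩
  rw [← Equiv.sum_comp e]
  refine Finset.sum_congr rfl fun t _ => ?_
  let L : Type u := T.presheaf.stalk t
  letI : Algebra C L := (T.presheaf.germ ⊤ t trivial).hom.toAlgebra
  haveI : IsLocalization.AtPrime L (hU.primeIdealOf ⟨t, trivial⟩).asIdeal := hU.isLocalization_stalk ⟨t, trivial⟩
  letI : Algebra K L := ((algebraMap C L).comp (algebraMap K C)).toAlgebra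
  haveI : IsScalarTower K C L := IsScalarTower.of_algebraMap_eq' rfl
  let eL : Localization (e t).asIdeal.primeCompl ≃ₐ[K] L :=
    (IsLocalization.algEquiv (hU.primeIdealOf ⟨t, trivial⟩).asIdeal.primeCompl
      (Localization (hU.primeIdealOf ⟨t, trivial⟩).asIdeal.primeCompl) L).restrictScalars K
  haveI : Module.Finite K L := Module.Finite.equiv eL.toLinearEquiv
  refine eL.toLinearEquiv.finrank_eq.trans ?_
  rw [finrank_eq_length_mul K L, BddFibLib.residueDegree_eq p t]
  rfl

theorem length_stalk_eq {A L : Type u} [CommRing A] [CommRing L] (φ : A →+* L) (hs : Function.Surjective φ)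
    (I : Ideal A) (hI : RingHom.ker φ = I) : Module.length A (A ⧸ I) = Module.length L L := by
  subst hI
  letI := φ.toAlgebra
  rw [← Module.length_eq_of_surjective (S := A) (R := L) (M := L) hs]
  exact (Ideal.quotientKerAlgEquivOfSurjective (f := Algebra.ofId A L) hs).toLinearEquiv.length_eq

theorem delta_eq {X Y : Scheme.{u}} (f : X ⟶ Y) [IsFinite f] {δX : X → ℤ} {δY : Y → ℤ}
    (hδ : Cyc.DeltaCompat f δX δY) (x : X) : δX x = δY (f x) := by
  obtain ⟨n, hn, he⟩ := hδ x
  letI := (f.residueFieldMap x).hom.toAlgebra
  let c : f.fiber (f x) ⟶ Spec (CommRingCat.of (Y.residueField (f x))) := f.fiberToSpecResidueField (f x)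
  haveI : IsFinite c := inferInstanceAs (IsFinite (pullback.snd f (Y.fromSpecResidueField (f x))))
  haveI : Module.Finite (Y.residueField (f x)) (X.residueField x) :=
    (EtStruct.isClosed_asFiber_iff_finite f x).mp
      (BddFibLib.isClosed_singleton c _)
  rw [trdeg_eq_zero (R := Y.residueField (f x)) (A := X.residueField x)] at hn
  rw [he, show n = 0 from by exact_mod_cast hn.symm]
  simp

theorem main (X Y : Scheme.{u}) (δX : X → ℤ) (δY : Y → ℤ) (f : X ⟶ Y) [IsFinite f] [Flat f] (d : ℕ)
    (hd : ∀ y : Y, f.finrank y = d) (hδ : Cyc.DeltaCompat f δX δY) (α : AlgebraicCycle Y ℤ)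
    (α' : AlgebraicCycle X ℤ) (hα : ⇑α' = Cyc.pullFun f δX δY 0 ⇑α) (y : Y) :
    AlgebraicCycle.map f δX δY α' y = d * α y := by
  classical
  let η : Spec (CommRingCat.of (Y.residueField y)) ⟶ Y := Y.fromSpecResidueField y
  let c : f.fiber y ⟶ Spec (CommRingCat.of (Y.residueField y)) := f.fiberToSpecResidueField y
  have hη : ∀ z, η z = y := Scheme.fromSpecResidueField_apply y
  have hsq : f.fiberι y ≫ f = c ≫ η := f.fiber_fac y
  haveI : IsFinite c := inferInstanceAs (IsFinite (pullback.snd f (Y.fromSpecResidueField y)))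
  haveI : Flat c := BddFibLib.flat_of_isFinite c
  haveI := BddFibLib.finite_points c
  haveI := Fintype.ofFinite (f.fiber y)
  have hdeg : ∀ x, f.residueDegree (f.fiberι y x) = c.residueDegree x := fun x => by
    have h1 := CycLib.residueDegree_comp (f.fiberι y) f x
    have h2 := CycLib.residueDegree_comp c η x
    rw [CycLib.residueDegree_closedImmersion (f.fiberι y) x, one_mul] at h1
    rw [CycLib.residueDegree_closedImmersion η (c x), mul_one] at h2
    rw [← h1, ← h2, hsq]
  have hfy : ∀ x, f (f.fiberι y x) = y := fun x => by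
    rw [← Scheme.Hom.comp_apply, hsq]; exact hη _
  have hlen : ∀ z, Module.length (X.presheaf.stalk (f.fiberι y z))
      (X.presheaf.stalk (f.fiberι y z) ⧸ Ideal.map (f.stalkMap (f.fiberι y z)).hom
        (maximalIdeal (Y.presheaf.stalk (f (f.fiberι y z))))) =
      Module.length ((f.fiber y).presheaf.stalk z) ((f.fiber y).presheaf.stalk z) := fun z =>
    length_stalk_eq ((f.fiberι y).stalkMap z).hom ((f.fiberι y).stalkMap_surjective z) _
      (FlatMor.FibreStalk.ker_stalkMap_fiberι f y z)
  rw [CycLib.map_apply_eq_sum f δX δY α' y (Finset.univ.image (f.fiberι y)) (fun x hx _ => by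
      obtain ⟨z, rfl⟩ : x ∈ Set.range (f.fiberι y) := by rw [f.range_fiberι]; exact hx
      exact Finset.mem_image.2 ⟨z, Finset.mem_univ _, rfl⟩),
    Finset.filter_true_of_mem (fun x hx => by
      obtain ⟨z, -, rfl⟩ := Finset.mem_image.1 hx; exact hfy z),
    Finset.sum_image fun a _ b _ e => (f.fiberι y).isEmbedding.injective e]
  have hsum : (d : ℤ) = ∑ z : f.fiber y,
      ((Module.length ((f.fiber y).presheaf.stalk z) ((f.fiber y).presheaf.stalk z)).toNat * c.residueDegree z : ℤ) := by
    let v : Spec (CommRingCat.of (Y.residueField y)) := (default : PrimeSpectrum (Y.residueField y))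
    have h1 : c.finrank v = d := (Scheme.Hom.finrank_pullback_snd f η v).trans (hd _)
    rw [← h1, (finrank_sections c v).2, sum_length_mul_residueDegree c]
    push_cast
    rfl
  rw [hsum, Finset.sum_mul]
  refine Finset.sum_congr rfl fun z _ => ?_
  rw [hα, AlgebraicCycle.mapCoeff, if_pos (delta_eq f hδ _), Cyc.pullFun,
    if_pos (by rw [delta_eq f hδ, add_zero]), hlen, hdeg, hfy]
  ring



/-- Let f : X → Y be finite locally free of constant degree d (finite, flat, rank function constantly
d). Then f has relative dimension 0 and for every k-cycle α on Y, f_*(f^*α) = d·α (for any cycle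
f^*α on X with the flat-pullback coefficients). Here a pair (X, δ) with Cyc.IsSetup plays the role
of a scheme locally of finite type over a fixed base with a dimension function (X locally Noetherian
with universally catenary local rings, δ a dimension function), and Cyc.DeltaCompat records that the
dimension function upstairs is the induced one. -/
theorem result (X Y : Scheme.{u}) (δX : X → ℤ) (δY : Y → ℤ) (hX : Cyc.IsSetup X δX) (hY : Cyc.IsSetup Y δY) (f : X ⟶ Y) [IsFinite f] [Flat f] (d : ℕ) (hd : ∀ y : Y, f.finrank y = d) (hδ : Cyc.DeltaCompat f δX δY) (k : ℤ) : Cyc.HasRelDim f 0 ∧ ∀ (α : AlgebraicCycle Y ℤ), α ∈ Cyc.Zk Y δY k → ∀ α' : AlgebraicCycle X ℤ, ⇑α' = Cyc.pullFun f δX δY 0 ⇑α → AlgebraicCycle.map f δX δY α' = d • α := by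
  refine ⟨fun y T hT => ?_, fun α _ α' hα => ?_⟩
  · let c : f.fiber y ⟶ Spec (CommRingCat.of (Y.residueField y)) := f.fiberToSpecResidueField y
    haveI : IsFinite c :=
      inferInstanceAs (IsFinite (Limits.pullback.snd f (Y.fromSpecResidueField y)))
    haveI : IsLocallyArtinian (f.fiber y) := .of_locallyQuasiFinite c
    haveI : Nonempty T := hT.1.nonempty.to_subtype
    haveI : DiscreteTopology (f.fiber y) := inferInstance
    haveI := BddFibLib.finite_points c
    refine le_antisymm (topologicalKrullDim_zero_of_discreteTopology T) ?_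
    haveI : Nonempty (TopologicalSpace.IrreducibleCloseds T) :=
      ⟨⟨closure {Classical.arbitrary T}, isIrreducible_singleton.closure, isClosed_closure⟩⟩
    exact Order.krullDim_nonneg
  · ext y
    rw [main X Y δX δY f d hd hδ α α' hα y]
    simp [nsmul_eq_mul]

end Groth.Agent.S1868
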