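import Groth.Statements.S18685
import Groth.Agent.GLatLib.Basic
-- import your own Groth.Agent.* helpers here

set_option autoImplicit false
open GLat

namespace Groth.Agent.S18685

/-- For a finite group G and a finitely generated G-module A there is an exact sequence 0 → P → F → A →
0 of finitely generated G-modules with P a permutation lattice and F a flasque lattice; rendered by
equivariant ℤ-linear maps i : P → F injective, π : F → A surjective, with range i = ker π. -/
theorem result (G : Type) [Group G] [Finite G]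
    (A : Type) [AddCommGroup A] [Module.Finite ℤ A] (ρ : Representation ℤ G A) :
    ∃ (P : Type) (_ : AddCommGroup P) (F : Type) (_ : AddCommGroup F)
      (_ : Module.Finite ℤ P) (_ : Module.Free ℤ P) (_ : Module.Finite ℤ F) (_ : Module.Free ℤ F)
      (σ : Representation ℤ G P) (τ : Representation ℤ G F) (i : P →ₗ[ℤ] F) (π : F →ₗ[ℤ] A),
      GLat.IsEquivariant σ τ i ∧ GLat.IsEquivariant τ ρ π ∧ Function.Injective i ∧ Function.Surjective π ∧
      LinearMap.range i = LinearMap.ker π ∧ GLat.IsPermutation σ ∧ GLat.IsFlasque τ := by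
  open Groth.Agent.GLatLib in
  obtain ⟨X, _, _, π, heq, hsurj, hS, -⟩ := exists_cover G A ρ
  obtain ⟨Y, _, _, j, hjeq, hjinj, hfree, hS', hfl⟩ :=
    exists_embedding G (LinearMap.ker π) (subRep (permRep G X) (LinearMap.ker π) hS)
  let e : LinearMap.ker π →ₗ[ℤ] (Y → ℤ) × (X → ℤ) := j.prod (-(LinearMap.ker π).subtype)
  have hR : ∀ g, ∀ x ∈ LinearMap.range e,
      prodRep (permRep G Y) (permRep G X) g x ∈ LinearMap.range e := by
    rintro g _ ⟨q, rfl⟩
    refine ⟨subRep _ _ hS g q, Prod.ext (hjeq g q) ?_⟩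
    show -(permRep G X g (q : X → ℤ)) = permRep G X g (-(q : X → ℤ))
    rw [map_neg]
  let πF : ((Y → ℤ) × (X → ℤ)) ⧸ LinearMap.range e →ₗ[ℤ] A :=
    (LinearMap.range e).liftQ (π.comp (LinearMap.snd ℤ _ _)) (by
      rintro _ ⟨q, rfl⟩
      show π (-(q : X → ℤ)) = 0
      rw [map_neg, LinearMap.mem_ker.1 q.2, neg_zero])
  let iF : (Y → ℤ) →ₗ[ℤ] ((Y → ℤ) × (X → ℤ)) ⧸ LinearMap.range e :=
    (LinearMap.range e).mkQ.comp (LinearMap.inl ℤ _ _)
  let iX : (X → ℤ) →ₗ[ℤ] ((Y → ℤ) × (X → ℤ)) ⧸ LinearMap.range e :=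
    (LinearMap.range e).mkQ.comp (LinearMap.inr ℤ _ _)
  let pY : ((Y → ℤ) × (X → ℤ)) ⧸ LinearMap.range e →ₗ[ℤ] (Y → ℤ) ⧸ LinearMap.range j :=
    (LinearMap.range e).liftQ ((LinearMap.range j).mkQ.comp (LinearMap.fst ℤ _ _)) (by
      rintro _ ⟨q, rfl⟩
      exact (Submodule.Quotient.mk_eq_zero _).2 ⟨q, rfl⟩)
  have hiFinj : Function.Injective iF := by
    rw [injective_iff_map_eq_zero]
    intro p hp
    obtain ⟨q, hq⟩ := (Submodule.Quotient.mk_eq_zero _).1 hp
    have h1 : j q = p := congrArg Prod.fst hq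
    have h2 : -(q : X → ℤ) = 0 := congrArg Prod.snd hq
    rw [neg_eq_zero] at h2
    rw [← h1, show q = 0 from Subtype.ext h2, map_zero]
  have hiXinj : Function.Injective iX := by
    rw [injective_iff_map_eq_zero]
    intro p hp
    obtain ⟨q, hq⟩ := (Submodule.Quotient.mk_eq_zero _).1 hp
    have h1 : j q = 0 := congrArg Prod.fst hq
    have h2 : -(q : X → ℤ) = p := congrArg Prod.snd hq
    rw [← h2, show q = 0 from hjinj (by rw [h1, map_zero])]
    simp
  have hπF : Function.Surjective πF := by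
    intro a
    obtain ⟨p, rfl⟩ := hsurj a
    exact ⟨iX p, rfl⟩
  have hpY : Function.Surjective pY := by
    intro y
    obtain ⟨p, rfl⟩ := Submodule.mkQ_surjective _ y
    exact ⟨iF p, rfl⟩
  have hex : LinearMap.range iF = LinearMap.ker πF := by
    apply le_antisymm
    · rintro _ ⟨p, rfl⟩
      exact map_zero π
    · intro z hz
      obtain ⟨⟨p, x⟩, rfl⟩ := Submodule.mkQ_surjective _ z
      have hx : x ∈ LinearMap.ker π := hz
      refine ⟨p + j ⟨x, hx⟩, (Submodule.Quotient.eq _).2 ⟨⟨x, hx⟩, ?_⟩⟩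
      refine Prod.ext ?_ ?_
      · show j ⟨x, hx⟩ = p + j ⟨x, hx⟩ - p
        abel
      · show -x = 0 - x
        abel
  have hex' : LinearMap.range iX = LinearMap.ker pY := by
    apply le_antisymm
    · rintro _ ⟨p, rfl⟩
      exact map_zero (LinearMap.range j).mkQ
    · intro z hz
      obtain ⟨⟨p, x⟩, rfl⟩ := Submodule.mkQ_surjective _ z
      obtain ⟨q, rfl⟩ := (Submodule.Quotient.mk_eq_zero _).1 (LinearMap.mem_ker.1 hz)
      refine ⟨x + (q : X → ℤ), (Submodule.Quotient.eq _).2 ⟨-q, ?_⟩⟩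
      refine Prod.ext ?_ ?_
      · show j (-q) = 0 - j q
        rw [map_neg]; abel
      · show -((-q : LinearMap.ker π) : X → ℤ) = x + (q : X → ℤ) - x
        simp
  have : Module.Free ℤ (((Y → ℤ) × (X → ℤ)) ⧸ LinearMap.range e) :=
    free_of_extension iX pY hiXinj hpY hex'
  exact ⟨Y → ℤ, inferInstance, ((Y → ℤ) × (X → ℤ)) ⧸ LinearMap.range e, inferInstance,
    inferInstance, inferInstance, inferInstance, inferInstance, permRep G Y,
    quotRep (prodRep (permRep G Y) (permRep G X)) (LinearMap.range e) hR, iF, πF,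
    fun g m => by
      show (LinearMap.range e).mkQ (permRep G Y g m, (0 : X → ℤ)) =
        (LinearMap.range e).mkQ (permRep G Y g m, permRep G X g 0)
      rw [map_zero],
    fun g m => by
      obtain ⟨⟨p, x⟩, rfl⟩ := Submodule.mkQ_surjective _ m
      exact heq g x,
    hiFinj, hπF, hex, isPermutation_permRep Y,
    isFlasque_of_extension (permRep G X) _ (quotRep (permRep G Y) (LinearMap.range j) hS') iX pY
      (fun g m => by
        show (LinearMap.range e).mkQ ((0 : Y → ℤ), permRep G X g m) =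
          (LinearMap.range e).mkQ (permRep G Y g 0, permRep G X g m)
        rw [map_zero])
      (fun g m => by
        obtain ⟨⟨p, x⟩, rfl⟩ := Submodule.mkQ_surjective _ m
        rfl)
      hiXinj hpY hex' (isFlasque_permRep X) hfl⟩

end Groth.Agent.S18685
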