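import Groth.Statements.S18687
import Groth.Agent.GLatLib.Basic
-- import your own Groth.Agent.* helpers here

set_option autoImplicit false
open GLat

namespace Groth.Agent.S18687

/-- For a finite group G and a G-lattice A (finitely generated and free over ℤ) there is an exact
sequence 0 → A → Q → P → 0 of G-lattices with Q coflasque and P a permutation lattice (a coflasque
resolution of A); rendered by equivariant ℤ-linear maps i : A → Q injective, π : Q → P surjective,
with range i = ker π. -/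
theorem result (G : Type) [Group G] [Finite G]
    (A : Type) [AddCommGroup A] [Module.Finite ℤ A] [Module.Free ℤ A] (ρ : Representation ℤ G A) :
    ∃ (Q : Type) (_ : AddCommGroup Q) (P : Type) (_ : AddCommGroup P)
      (_ : Module.Finite ℤ Q) (_ : Module.Free ℤ Q) (_ : Module.Finite ℤ P) (_ : Module.Free ℤ P)
      (σ : Representation ℤ G Q) (τ : Representation ℤ G P) (i : A →ₗ[ℤ] Q) (π : Q →ₗ[ℤ] P),
      GLat.IsEquivariant ρ σ i ∧ GLat.IsEquivariant σ τ π ∧ Function.Injective i ∧ Function.Surjective π ∧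
      LinearMap.range i = LinearMap.ker π ∧ GLat.IsCoflasque σ ∧ GLat.IsPermutation τ := by
  open Groth.Agent.GLatLib in
  obtain ⟨X, _, _, i, hieq, hinj, hfree, hS, -⟩ := exists_embedding G A ρ
  obtain ⟨Y, _, _, π, hπeq, hπ, hS', hco⟩ :=
    exists_cover G ((X → ℤ) ⧸ LinearMap.range i) (quotRep (permRep G X) (LinearMap.range i) hS)
  let T : Submodule ℤ ((X → ℤ) × (Y → ℤ)) :=
    LinearMap.ker ((LinearMap.range i).mkQ.comp (LinearMap.fst ℤ _ _) -
      π.comp (LinearMap.snd ℤ _ _))
  have hT : ∀ g, ∀ x ∈ T, prodRep (permRep G X) (permRep G Y) g x ∈ T := by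
    rintro g ⟨p, y⟩ h
    have h' : (LinearMap.range i).mkQ p - π y = 0 := h
    show (LinearMap.range i).mkQ (permRep G X g p) - π (permRep G Y g y) = 0
    rw [hπeq, ← sub_eq_zero.1 h']
    exact sub_self _
  let iA : A →ₗ[ℤ] T := LinearMap.codRestrict T ((LinearMap.inl ℤ _ _).comp i) (fun a => by
    show (LinearMap.range i).mkQ (i a) - π 0 = 0
    rw [map_zero, sub_zero]
    exact (Submodule.Quotient.mk_eq_zero _).2 ⟨a, rfl⟩)
  let πY : T →ₗ[ℤ] (Y → ℤ) := (LinearMap.snd ℤ _ _).comp T.subtype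
  let πX : T →ₗ[ℤ] (X → ℤ) := (LinearMap.fst ℤ _ _).comp T.subtype
  let iK : LinearMap.ker π →ₗ[ℤ] T :=
    LinearMap.codRestrict T ((LinearMap.inr ℤ _ _).comp (LinearMap.ker π).subtype) (fun k => by
      show (LinearMap.range i).mkQ 0 - π (k : Y → ℤ) = 0
      rw [map_zero, LinearMap.mem_ker.1 k.2, sub_zero])
  refine ⟨T, inferInstance, Y → ℤ, inferInstance, inferInstance, inferInstance, inferInstance,
    inferInstance, subRep _ T hT, permRep G Y, iA, πY, ?_, fun g m => rfl, ?_, ?_, ?_, ?_,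
    isPermutation_permRep Y⟩
  · intro g a
    apply Subtype.ext
    show (i (ρ g a), (0 : Y → ℤ)) = (permRep G X g (i a), permRep G Y g 0)
    rw [hieq, map_zero]
  · intro a b h
    exact hinj (congrArg (fun z : T => z.1.1) h)
  · intro y
    obtain ⟨p, hp⟩ := Submodule.mkQ_surjective (LinearMap.range i) (π y)
    exact ⟨⟨(p, y), by show (LinearMap.range i).mkQ p - π y = 0; rw [hp, sub_self]⟩, rfl⟩
  · apply le_antisymm
    · rintro _ ⟨a, rfl⟩
      rfl
    · rintro ⟨⟨p, y⟩, h⟩ hy
      obtain rfl : y = 0 := hy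
      have h' : (LinearMap.range i).mkQ p - π 0 = 0 := h
      rw [map_zero, sub_zero] at h'
      obtain ⟨a, ha⟩ := (Submodule.Quotient.mk_eq_zero _).1 h'
      exact ⟨a, Subtype.ext (Prod.ext ha rfl)⟩
  · refine isCoflasque_of_extension (subRep (permRep G Y) (LinearMap.ker π) hS') _ (permRep G X)
      iK πX (fun g k => Subtype.ext ?_) (fun g m => rfl) (fun a b h => ?_) ?_ ?_ hco
      (isCoflasque_permRep X)
    · show ((0 : X → ℤ), permRep G Y g (k : Y → ℤ)) = (permRep G X g 0, permRep G Y g (k : Y → ℤ))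
      rw [map_zero]
    · exact Subtype.ext (congrArg (fun z : T => z.1.2) h)
    · intro p
      obtain ⟨y, hy⟩ := hπ ((LinearMap.range i).mkQ p)
      exact ⟨⟨(p, y), by show (LinearMap.range i).mkQ p - π y = 0; rw [hy, sub_self]⟩, rfl⟩
    · apply le_antisymm
      · rintro _ ⟨k, rfl⟩
        rfl
      · rintro ⟨⟨p, y⟩, h⟩ hp
        obtain rfl : p = 0 := hp
        have h' : (LinearMap.range i).mkQ 0 - π y = 0 := h
        rw [map_zero, zero_sub, neg_eq_zero] at h'
        exact ⟨⟨y, h'⟩, rfl⟩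

end Groth.Agent.S18687
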