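import Groth.Statements.S18693
import Groth.Agent.GITLib.TorusApprox.Main
import Groth.Agent.FpqcDesc.Props
import Mathlib.FieldTheory.IsSepClosed
-- import your own Groth.Agent.* helpers here

set_option autoImplicit false
open CategoryTheory MonoidalCategory CartesianMonoidalCategory MonObj GrpObj AlgebraicGeometry
universe u
open MultTori

set_option backward.isDefEq.respectTransparency false
set_option synthInstance.maxHeartbeats 400000

namespace Groth.Agent.S18693

open CategoryTheory.Limits GITLib.TorusApprox

/-- Affineness of a scheme over an affine base can be checked after a finite faithful extension. -/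
theorem isAffine_of_split {A C : Type u} [CommRing A] [CommRing C] [Algebra A C] [Module.Finite A C]
    [Module.Flat A C] [FaithfulSMul A C] (T : Over (Spec (CommRingCat.of A))) [GrpObj T] {M : Type} [AddCommGroup M]
    (e : Grp.mk (Red.bc (Spec.map (CommRingCat.ofHom (algebraMap A C))) T) ≅
      Grp.mk (Red.DS (Spec (CommRingCat.of C)) M)) : IsAffine T.left := by
  let f := Spec.map (CommRingCat.ofHom (algebraMap A C))
  let e' : Red.bc f T ≅ Red.DS (Spec (CommRingCat.of C)) M := (Grp.forget _).mapIso e
  haveI : IsAffine (Red.diag (ULift.{u} ℤ) M).left := inferInstanceAs (IsAffine (Spec _))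
  haveI hd : IsAffineHom (Red.DS (Spec (CommRingCat.of C)) M).hom := by
    show IsAffineHom (pullback.snd _ _)
    infer_instance
  haveI : IsIso e'.hom.left := inferInstanceAs (IsIso ((Over.forget _).map e'.hom))
  have hs : IsAffineHom (pullback.snd T.hom f) := by
    show IsAffineHom (Red.bc f T).hom
    rw [← Over.w e'.hom]
    infer_instance
  haveI : Flat f := (HasRingHomProperty.Spec_iff (P := @Flat)).2 (by
    exact RingHom.flat_algebraMap_iff.2 inferInstance)
  haveI : Surjective f := ⟨fun x => by
    obtain ⟨Q, -, hQp, hQ⟩ := Ideal.exists_ideal_over_prime_of_isIntegral x.asIdeal (⊥ : Ideal C) (by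
      rw [← RingHom.ker_eq_comap_bot, (RingHom.injective_iff_ker_eq_bot _).1 (FaithfulSMul.algebraMap_injective A C)]
      exact bot_le)
    exact ⟨⟨Q, hQp⟩, PrimeSpectrum.ext hQ⟩⟩
  have := FpqcDesc.descendsAlong_isAffineHom.{u}
  haveI : IsAffineHom T.hom := MorphismProperty.of_pullback_snd_of_descendsAlong
    (P := @IsAffineHom) (Q := FpqcDesc.FPQC) (g := f) ⟨⟨inferInstance, inferInstance⟩, inferInstance⟩ hs
  exact isAffine_of_isAffineHom T.hom


/-- Let A be a discrete valuation ring whose fraction field is K, let K̂ be the completion of K at the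
valuation of A (the adic completion at the height-one prime v of A) and Â ⊂ K̂ its ring of integers,
and let T be an isotrivial A-torus (isomorphic, after one finite étale surjective base change, to a
split torus of some rank). Then T(K̂) = T(Â)·T(K): every point of T over Spec K̂ (as an A-scheme) is
the product, for the group law on points, of the restriction of a point over Spec Â and the
restriction of a point over Spec K. The restrictions are taken along given A-morphisms Spec K̂ →
Spec Â and Spec K̂ → Spec K whose underlying maps are the canonical ones. (In the printed copy the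
completion signs of this formula are lost; the reading T(Â)·T(K) = T(K̂) is the one its proof
establishes.) -/
theorem result
    (A : Type u) [CommRing A] [IsDomain A] [IsDiscreteValuationRing A]
    (v : IsDedekindDomain.HeightOneSpectrum A)
    (T : Over (Spec (CommRingCat.of A))) [GrpObj T]
    (hT : ∃ r : ℕ, TwC.Locally (Spec (CommRingCat.of A)) .finiteEtale
        (fun S' g => Red.IsSplitTorusWith (Fin r → ℤ) (Red.bc g T)))
    (ιA : Over.mk (Spec.map (CommRingCat.ofHom (algebraMap A (v.adicCompletion (FractionRing A))))) ⟶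
      Over.mk (Spec.map (CommRingCat.ofHom (algebraMap A (v.adicCompletionIntegers (FractionRing A))))))
    (hιA : ιA.left = Spec.map (CommRingCat.ofHom (algebraMap (v.adicCompletionIntegers (FractionRing A)) (v.adicCompletion (FractionRing A)))))
    (ιK : Over.mk (Spec.map (CommRingCat.ofHom (algebraMap A (v.adicCompletion (FractionRing A))))) ⟶
      Over.mk (Spec.map (CommRingCat.ofHom (algebraMap A (FractionRing A)))))
    (hιK : ιK.left = Spec.map (CommRingCat.ofHom (algebraMap (FractionRing A) (v.adicCompletion (FractionRing A)))))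
    (x : Over.mk (Spec.map (CommRingCat.ofHom (algebraMap A (v.adicCompletion (FractionRing A))))) ⟶ T) :
    ∃ (a : Over.mk (Spec.map (CommRingCat.ofHom (algebraMap A (v.adicCompletionIntegers (FractionRing A))))) ⟶ T)
      (b : Over.mk (Spec.map (CommRingCat.ofHom (algebraMap A (FractionRing A)))) ⟶ T),
      x = (ιA ≫ a) * (ιK ≫ b) := by
  obtain ⟨r, hT⟩ := hT
  obtain ⟨U, g, hP, hfin, het, y, hy⟩ := exists_piece hT
  obtain ⟨e₀⟩ := hP
  haveI : IsAffine U := isAffine_of_isAffineHom g
  let ρ : CommRingCat.of A ⟶ Γ(U, ⊤) := Spec.preimage (U.isoSpec.inv ≫ g)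
  have hρ : Spec.map ρ = U.isoSpec.inv ≫ g := Spec.map_preimage _
  letI : Algebra A Γ(U, ⊤) := ρ.hom.toAlgebra
  haveI : Module.Finite A Γ(U, ⊤) := by
    have : IsFinite (Spec.map ρ) := hρ ▸ inferInstance
    exact (IsFinite.SpecMap_iff ρ).mp this
  haveI : Algebra.Etale A Γ(U, ⊤) := by
    have h1 : Etale (Spec.map ρ) := hρ ▸ inferInstance
    exact RingHom.etale_algebraMap.mp ((HasRingHomProperty.Spec_iff (P := @Etale)).mp h1)
  let q : PrimeSpectrum Γ(U, ⊤) := U.isoSpec.hom y
  have hq : q.asIdeal.comap (algebraMap A Γ(U, ⊤)) = ⊥ := by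
    have h1 : Spec.map ρ q = g y := by
      rw [hρ]
      show (U.isoSpec.hom ≫ U.isoSpec.inv ≫ g) y = g y
      rw [Iso.hom_inv_id_assoc]
    exact congrArg PrimeSpectrum.asIdeal (h1.trans hy)
  let K := FractionRing A
  let Ω := SeparableClosure K
  obtain ⟨C, hC, ⟨f₀⟩, hst⟩ := exists_stable K Ω Γ(U, ⊤) q.asIdeal hq
  obtain ⟨e⟩ := exists_split_bc (Spec.map (CommRingCat.ofHom f₀.toRingHom) ≫ U.isoSpec.inv) g
    (Spec.map (CommRingCat.ofHom (algebraMap A C))) (by
      rw [Category.assoc, ← hρ, ← Spec.map_comp]
      congr 1
      exact CommRingCat.hom_ext f₀.comp_algebraMap) T _ e₀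
  haveI := hC.1
  haveI := hC.2
  have hAΩ : Function.Injective (algebraMap A Ω) := by
    rw [IsScalarTower.algebraMap_eq A K Ω]
    exact (algebraMap K Ω).injective.comp (IsFractionRing.injective A K)
  haveI : FaithfulSMul A C := (faithfulSMul_iff_algebraMap_injective A C).2 fun a a' h =>
    hAΩ (congrArg Subtype.val h)
  haveI : Module.IsTorsionFree A C := Module.IsTorsionFree.of_smul_eq_zero fun a c h => by
    rw [Algebra.smul_def, mul_eq_zero] at h
    exact h.imp_left fun h0 => FaithfulSMul.algebraMap_injective A C (h0.trans (map_zero _).symm)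
  haveI : Module.Free A C := Module.free_of_finite_type_torsion_free'
  haveI : IsAffine T.left := isAffine_of_split T e
  obtain ⟨a, b, h⟩ := exists_decomp v T C hC hst (finite_hom K Ω C) e x
  refine ⟨a, b, h.trans ?_⟩
  rw [mapPt_apply, mapPt_apply,
    show ιA = spMap (IsScalarTower.toAlgHom A (v.adicCompletionIntegers K) (v.adicCompletion K)) from
      Over.OverMorphism.ext hιA,
    show ιK = spMap (IsScalarTower.toAlgHom A K (v.adicCompletion K)) from Over.OverMorphism.ext hιK]

end Groth.Agent.S18693
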