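import Groth.Statements.S18694
import Groth.Prelude.Def_GmPts
import Mathlib.RingTheory.Ideal.GoingUp
import Mathlib.RingTheory.Ideal.Quotient.Operations
import Mathlib.AlgebraicGeometry.Morphisms.ClosedImmersion
-- import your own Groth.Agent.* helpers here

set_option autoImplicit false
open CategoryTheory MonoidalCategory CartesianMonoidalCategory MonObj GrpObj AlgebraicGeometry
universe u
open MultTori

namespace Groth.Agent.S18694

open CategoryTheory.Limits

/-- In the case of the quasitrivial torus R_{B/A}(G_m), let A be a semilocal ring (finitely many maximal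
ideals m, residue fields κ_m = A/m), B a finite étale A-algebra, and (P, q) a Weil restriction along
Spec B → Spec A of the multiplicative group over B (P an A-scheme with q : P ×_A B → G_{m,B}
universal). Then the reduction map P(A) → ∏_m P(κ_m) is surjective: every family (u_m) of κ_m-points
of P over the closed points of Spec A is the family of restrictions of one section of P over A. (The
source states this for every invertible A-torus and reduces it to this case; the
invertible/quasitrivial notions are not available here, so only this case is stated.) -/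
theorem result
    (A : Type u) [CommRing A] [Finite (MaximalSpectrum A)]
    (B : Type u) [CommRing B] [Algebra A B] [Module.Finite A B] [Algebra.Etale A B]
    (P : Over (Spec (CommRingCat.of A))) (q : Red.bc (Spec.map (CommRingCat.ofHom (algebraMap A B))) P ⟶ Red.Gm (Spec (CommRingCat.of B)))
    (hP : WeilRes.IsWeilRes (Spec.map (CommRingCat.ofHom (algebraMap A B))) (Red.Gm (Spec (CommRingCat.of B))) P q)
    (u : ∀ m : MaximalSpectrum A, Spec (CommRingCat.of (A ⧸ m.asIdeal)) ⟶ P.left)
    (hu : ∀ m : MaximalSpectrum A, u m ≫ P.hom = (Spec.map (CommRingCat.ofHom (Ideal.Quotient.mk m.asIdeal)))) :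
    ∃ s : Spec (CommRingCat.of A) ⟶ P.left, s ≫ P.hom = 𝟙 (Spec (CommRingCat.of A)) ∧
      ∀ m : MaximalSpectrum A, (Spec.map (CommRingCat.ofHom (Ideal.Quotient.mk m.asIdeal))) ≫ s = u m := by
  classical
  have := Fintype.ofFinite (MaximalSpectrum A)
  let f := Spec.map (CommRingCat.ofHom (algebraMap A B))
  let T : Over (Spec (CommRingCat.of A)) := Over.mk (𝟙 _)
  let TB : Over (Spec (CommRingCat.of B)) := Over.mk (𝟙 _)
  let Tm : ∀ m : MaximalSpectrum A, Over (Spec (CommRingCat.of A)) := fun m =>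
    Over.mk (Spec.map (CommRingCat.ofHom (Ideal.Quotient.mk m.asIdeal)))
  let k : ∀ m, Tm m ⟶ T := fun m =>
    Over.homMk (Spec.map (CommRingCat.ofHom (Ideal.Quotient.mk m.asIdeal))) (Category.comp_id _)
  let um : ∀ m, Tm m ⟶ P := fun m => Over.homMk (u m) (hu m)
  let vm : ∀ m, Γ((Red.bc f (Tm m)).left, ⊤)ˣ := fun m => GmPts.unitOfPt (WeilRes.restr f q (Tm m) (um m))
  let χ : ∀ m, B →+* Γ((Red.bc f (Tm m)).left, ⊤) := fun m =>
    ((Scheme.ΓSpecIso (CommRingCat.of B)).inv ≫ (Red.bc f (Tm m)).hom.appTop).hom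
  have hχ : ∀ m, Function.Surjective (χ m) := fun m => by
    haveI : IsClosedImmersion (Tm m).hom :=
      IsClosedImmersion.spec_of_surjective (CommRingCat.ofHom (Ideal.Quotient.mk m.asIdeal)) Ideal.Quotient.mk_surjective
    haveI : IsClosedImmersion (Red.bc f (Tm m)).hom :=
      MorphismProperty.pullback_snd (P := @IsClosedImmersion) _ _ inferInstance
    intro y
    obtain ⟨b, hb⟩ := (IsClosedImmersion.isAffine_surjective_of_isAffine (Red.bc f (Tm m)).hom).2 y
    refine ⟨(Scheme.ΓSpecIso (CommRingCat.of B)).hom b, ?_⟩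
    show (Red.bc f (Tm m)).hom.appTop.hom ((Scheme.ΓSpecIso (CommRingCat.of B)).inv.hom
      ((Scheme.ΓSpecIso (CommRingCat.of B)).hom.hom b)) = y
    rw [← CommRingCat.comp_apply (Scheme.ΓSpecIso (CommRingCat.of B)).hom, Iso.hom_inv_id]
    exact hb
  let I : MaximalSpectrum A → Ideal B := fun m => m.asIdeal.map (algebraMap A B)
  have hker : ∀ m b, χ m b = 0 → b ∈ I m := by
    intro m b hb
    let s : Spec (CommRingCat.of (B ⧸ I m)) ⟶ (Red.bc f (Tm m)).left :=
      pullback.lift (Spec.map (CommRingCat.ofHom (Ideal.quotientMap (I m) (algebraMap A B) Ideal.le_comap_map)))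
        (Spec.map (CommRingCat.ofHom (Ideal.Quotient.mk (I m)))) (by
          show Spec.map _ ≫ Spec.map _ = Spec.map _ ≫ Spec.map _
          rw [← Spec.map_comp, ← Spec.map_comp]
          rfl)
    have e : (Spec.map (CommRingCat.ofHom (Ideal.Quotient.mk (I m)))).appTop.hom
        ((Scheme.ΓSpecIso (CommRingCat.of B)).inv.hom b) = 0 := by
      rw [show Spec.map (CommRingCat.ofHom (Ideal.Quotient.mk (I m))) = s ≫ (Red.bc f (Tm m)).hom from
        (pullback.lift_snd _ _ _).symm, Scheme.Hom.comp_appTop]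
      show s.appTop.hom (χ m b) = 0
      rw [hb, map_zero]
    refine Ideal.Quotient.eq_zero_iff_mem.1 ?_
    rw [← CommRingCat.comp_apply, ← Scheme.ΓSpecIso_inv_naturality] at e
    exact (ConcreteCategory.bijective_of_isIso (Scheme.ΓSpecIso (CommRingCat.of (B ⧸ I m))).inv).1
      (e.trans (map_zero _).symm)
  have hI : Pairwise (Function.onFun IsCoprime I) := fun m m' hmm' => by
    show IsCoprime (I m) (I m')
    rw [Ideal.isCoprime_iff_sup_eq, ← Ideal.map_sup,
      m.isMaximal.coprime_of_ne m'.isMaximal (fun e => hmm' (MaximalSpectrum.ext e)), Ideal.map_top]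
  choose bm hbm using fun m => hχ m (vm m : Γ((Red.bc f (Tm m)).left, ⊤))
  choose cm hcm using fun m => hχ m ((vm m)⁻¹ : Γ((Red.bc f (Tm m)).left, ⊤)ˣ)
  obtain ⟨b, hb⟩ := Ideal.exists_forall_sub_mem_ideal hI bm
  have hsame : ∀ m b', b' ∈ I m → χ m b' = 0 := by
    intro m b' hb'
    refine (Ideal.map_le_iff_le_comap.2 ?_ : I m ≤ RingHom.ker (χ m)) hb'
    intro a ha
    show ((Scheme.ΓSpecIso (CommRingCat.of B)).inv ≫ (Red.bc f (Tm m)).hom.appTop).hom (algebraMap A B a) = 0
    have e : (Red.bc f (Tm m)).hom ≫ f =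
        pullback.fst (Tm m).hom f ≫ Spec.map (CommRingCat.ofHom (Ideal.Quotient.mk m.asIdeal)) :=
      pullback.condition.symm
    show (CommRingCat.ofHom (algebraMap A B) ≫ (Scheme.ΓSpecIso (CommRingCat.of B)).inv ≫
      (Red.bc f (Tm m)).hom.appTop).hom a = 0
    rw [Scheme.ΓSpecIso_inv_naturality_assoc, ← Scheme.Hom.comp_appTop, e, Scheme.Hom.comp_appTop,
      ← Scheme.ΓSpecIso_inv_naturality_assoc]
    show (pullback.fst (Tm m).hom f).appTop.hom ((Scheme.ΓSpecIso _).inv.hom (Ideal.Quotient.mk m.asIdeal a)) = 0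
    rw [Ideal.Quotient.eq_zero_iff_mem.2 ha, map_zero, map_zero]
  have hbv : ∀ m, χ m b = (vm m : Γ((Red.bc f (Tm m)).left, ⊤)) := fun m => by
    rw [← hbm m, ← sub_eq_zero, ← map_sub]
    exact hsame m _ (hb m)
  have hunit : IsUnit b := by
    by_contra hnu
    obtain ⟨M, hM, hbM⟩ := exists_max_ideal_of_mem_nonunits hnu
    let m : MaximalSpectrum A := ⟨M.comap (algebraMap A B), Ideal.isMaximal_comap_of_isIntegral_of_isMaximal M⟩
    have hle : I m ≤ M := Ideal.map_comap_le
    have h1 : b * cm m - 1 ∈ I m := hker m _ (by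
      rw [map_sub, map_mul, map_one, hbv, hcm, Units.mul_inv, sub_self])
    refine (Ideal.ne_top_iff_one M).1 hM.ne_top ?_
    have := M.sub_mem (M.mul_mem_right (cm m) hbM) (hle h1)
    rwa [sub_sub_cancel] at this
  let w : Γ(TB.left, ⊤)ˣ := Units.map (Scheme.ΓSpecIso (CommRingCat.of B)).inv.hom.toMonoidHom hunit.unit
  let toTB : Red.bc f T ⟶ TB := Over.homMk (Red.bc f T).hom (Category.comp_id _)
  obtain ⟨g, hg⟩ := (hP T).2 (toTB ≫ GmPts.ptOfUnit w)
  refine ⟨g.left, Over.w g, fun m => ?_⟩
  have e : k m ≫ g = um m := by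
    refine (hP (Tm m)).1 ?_
    show WeilRes.restr f q (Tm m) (k m ≫ g) = WeilRes.restr f q (Tm m) (um m)
    rw [WeilRes.restr_comp, hg, ← GmPts.ptOfUnit_unitOfPt (WeilRes.restr f q (Tm m) (um m)),
      ← Category.assoc, ← GmPts.ptOfUnit_unitOfPt (_ ≫ GmPts.ptOfUnit w)]
    refine congrArg GmPts.ptOfUnit (Units.ext ?_)
    rw [GmPts.unitOfPt_comp, GmPts.unitOfPt_ptOfUnit]
    refine Eq.trans ?_ (hbv m)
    show (((Over.pullback f).map (k m)) ≫ toTB).left.appTop.hom ((Scheme.ΓSpecIso _).inv.hom b) = _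
    rw [show (((Over.pullback f).map (k m)) ≫ toTB).left = (Red.bc f (Tm m)).hom from
      Over.w ((Over.pullback f).map (k m))]
    rfl
  exact congrArg (fun x => CommaMorphism.left x) e

end Groth.Agent.S18694
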