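import Groth.Statements.S18696
import Groth.Agent.S18693
import Groth.Agent.GITLib.TorusApprox.AffPts
import Groth.Agent.RetractRat95.Basic
import Groth.Agent.FBase.Point

set_option autoImplicit false
set_option backward.isDefEq.respectTransparency false
set_option synthInstance.maxHeartbeats 400000
set_option linter.style.haveILetI false
open CategoryTheory MonoidalCategory CartesianMonoidalCategory MonObj GrpObj AlgebraicGeometry
universe u
open MultTori

namespace Groth.Agent.S18696

open CategoryTheory.Limits GITLib.TorusApprox RetractRat95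
open scoped TensorProduct

/-- The functions of a split group scheme are a quotient of the group algebra. -/
theorem exists_surjective_monoidAlgebra {k C H : Type u} [CommRing k] [CommRing C] [Algebra k C]
    [CommRing H] [Algebra k H] (T : Over (Spec (CommRingCat.of k))) [IsAffine T.left] [GrpObj T]
    {M : Type} [AddCommGroup M]
    (e : Grp.mk (Red.bc (Spec.map (CommRingCat.ofHom (algebraMap k C))) T) ≅
      Grp.mk (Red.DS (Spec (CommRingCat.of C)) M)) (p : sp k H ⟶ T)
    (huniv : ∀ {R : Type u} [CommRing R] [Algebra k R] (x : sp k R ⟶ T), ∃! f : H →ₐ[k] R, mapPt T f p = x) :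
    ∃ Q : MonoidAlgebra C (Multiplicative M) →ₐ[C] C ⊗[k] H, Function.Surjective Q := by
  let N := MonoidAlgebra C (Multiplicative M)
  let x : sp k N ⟶ T := chPt T e (MonoidAlgebra.of C (Multiplicative M))
  obtain ⟨f, hf, -⟩ := huniv x
  let iH : H →ₐ[k] C ⊗[k] H := Algebra.TensorProduct.includeRight
  obtain ⟨t, ht⟩ := chPt_surjective T e (R := C ⊗[k] H) (mapPt T iH p)
  let Q : N →ₐ[C] C ⊗[k] H := MonoidAlgebra.lift C (C ⊗[k] H) (Multiplicative M) t
  refine ⟨Q, fun z => ?_⟩
  have hQf : (Q.restrictScalars k).comp f = iH := by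
    apply (huniv (mapPt T iH p)).unique _ rfl
    rw [← mapPt_mapPt, hf, ← chPt_comp, ← ht]
    congr 1
    exact MonoidHom.ext fun m => MonoidAlgebra.lift_of t m
  induction z using TensorProduct.induction_on with
  | zero => exact ⟨0, map_zero Q⟩
  | tmul c h =>
    refine ⟨algebraMap C N c * f h, ?_⟩
    rw [map_mul, AlgHom.commutes, show Q (f h) = (1 : C) ⊗ₜ[k] h from DFunLike.congr_fun hQf h,
      Algebra.TensorProduct.algebraMap_apply, Algebra.TensorProduct.tmul_mul_tmul]
    simp
  | add a b ha hb =>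
    obtain ⟨a', rfl⟩ := ha
    obtain ⟨b', rfl⟩ := hb
    exact ⟨a' + b', map_add Q _ _⟩

/-- The group algebra over a separable extension is geometrically reduced. -/
theorem isGeometricallyReduced_monoidAlgebra (k C : Type u) [Field k] [Field C] [Algebra k C]
    [Module.Finite k C] [Algebra.FormallyUnramified k C] (M : Type) [CommMonoid M] [IsCancelMul M]
    [UniqueProds M] : Algebra.IsGeometricallyReduced k (MonoidAlgebra C M) := by
  rw [Algebra.isGeometricallyReduced_field_iff]
  haveI : IsReduced (AlgebraicClosure k ⊗[k] C) :=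
    Algebra.FormallyUnramified.isReduced_of_field (AlgebraicClosure k) _
  haveI : IsReduced (MonoidAlgebra (AlgebraicClosure k ⊗[k] C) M) := isReduced_monoidAlgebra
  exact isReduced_of_injective _
    (MonoidAlgebra.rTensorEquivAlgEquiv k k (AlgebraicClosure k) C (M := M)).injective


/-- (v) ⇒ (viii): let k be a field and T an isotrivial k-torus (isomorphic to a split torus of some rank
after one finite étale surjective base change). If for every discrete valuation ring A containing k
(a k-algebra), with residue field κ, the reduction map T(A) → T(κ) is surjective, then T is retract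
rational over k: there are a nonempty open subscheme U of T, an open subscheme Y of an affine space
over k and k-morphisms U → Y → U whose composite is the identity of U. -/
theorem result
    (k : Type u) [Field k] (T : Over (Spec (CommRingCat.of k))) [GrpObj T]
    (hT : ∃ r : ℕ, TwC.Locally (Spec (CommRingCat.of k)) .finiteEtale
        (fun S' g => Red.IsSplitTorusWith (Fin r → ℤ) (Red.bc g T)))
    (h : ∀ (A : Type u) [CommRing A] [IsDomain A] [IsDiscreteValuationRing A] [Algebra k A]
        (u : Spec (CommRingCat.of (IsLocalRing.ResidueField A)) ⟶ T.left),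
        u ≫ T.hom = Spec.map (CommRingCat.ofHom ((IsLocalRing.residue A).comp (algebraMap k A))) →
        ∃ s : Spec (CommRingCat.of A) ⟶ T.left, s ≫ T.hom = Spec.map (CommRingCat.ofHom (algebraMap k A)) ∧
          Spec.map (CommRingCat.ofHom (IsLocalRing.residue A)) ≫ s = u) :
    ∃ (U : T.left.Opens) (n : ℕ) (Y : (Spec (CommRingCat.of (MvPolynomial (Fin n) k))).Opens)
        (a : (U : Scheme.{u}) ⟶ (Y : Scheme.{u})) (b : (Y : Scheme.{u}) ⟶ (U : Scheme.{u})),
        (U : Set T.left).Nonempty ∧ a ≫ b = 𝟙 (U : Scheme.{u}) ∧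
        a ≫ Y.ι ≫ Spec.map (CommRingCat.ofHom (algebraMap k (MvPolynomial (Fin n) k))) = U.ι ≫ T.hom ∧
        b ≫ U.ι ≫ T.hom = Y.ι ≫ Spec.map (CommRingCat.ofHom (algebraMap k (MvPolynomial (Fin n) k))) := by
  classical
  obtain ⟨r, hT⟩ := hT
  obtain ⟨U, g, hP, hfin, het, y, hy⟩ := exists_piece hT
  obtain ⟨e₀⟩ := hP
  haveI : IsAffine U := isAffine_of_isAffineHom g
  let ρ : CommRingCat.of k ⟶ Γ(U, ⊤) := Spec.preimage (U.isoSpec.inv ≫ g)
  have hρ : Spec.map ρ = U.isoSpec.inv ≫ g := Spec.map_preimage _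
  letI : Algebra k Γ(U, ⊤) := ρ.hom.toAlgebra
  haveI : Module.Finite k Γ(U, ⊤) := by
    have : IsFinite (Spec.map ρ) := hρ ▸ inferInstance
    exact (IsFinite.SpecMap_iff ρ).mp this
  haveI : Algebra.Etale k Γ(U, ⊤) := by
    have h1 : Etale (Spec.map ρ) := hρ ▸ inferInstance
    exact RingHom.etale_algebraMap.mp ((HasRingHomProperty.Spec_iff (P := @Etale)).mp h1)
  let q₀ : PrimeSpectrum Γ(U, ⊤) := U.isoSpec.hom y
  haveI : Nontrivial Γ(U, ⊤) := PrimeSpectrum.nontrivial q₀
  obtain ⟨Q, hQ⟩ := Ideal.exists_maximal Γ(U, ⊤)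
  let C := Γ(U, ⊤) ⧸ Q
  letI : Field C := Ideal.Quotient.field Q
  haveI : Algebra.FormallyUnramified k C :=
    Algebra.FormallyUnramified.of_surjective (Ideal.Quotient.mkₐ k Q) Ideal.Quotient.mk_surjective
  obtain ⟨e⟩ := exists_split_bc (Spec.map (CommRingCat.ofHom (Ideal.Quotient.mk Q)) ≫ U.isoSpec.inv) g
    (Spec.map (CommRingCat.ofHom (algebraMap k C))) (by
      rw [Category.assoc, ← hρ, ← Spec.map_comp]
      rfl) T _ e₀
  haveI : IsAffine T.left := S18693.isAffine_of_split T e
  obtain ⟨H, _, _, p, ε, hp, huniv⟩ := exists_universal T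
  obtain ⟨P₀, hP₀⟩ := exists_injective_monoidAlgebra T e p huniv
  let ιN : H →ₐ[k] MonoidAlgebra C (Multiplicative (Fin r → ℤ)) :=
    (P₀.restrictScalars k).comp Algebra.TensorProduct.includeRight
  have hιN : Function.Injective ιN :=
    hP₀.comp (Algebra.TensorProduct.includeRight_injective (algebraMap k C).injective)
  haveI : IsDomain H := Function.Injective.isDomain ιN.toRingHom hιN
  haveI := isGeometricallyReduced_monoidAlgebra k C (Multiplicative (Fin r → ℤ))
  haveI : Algebra.IsGeometricallyReduced k H :=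
    Algebra.IsGeometricallyReduced.of_injective ιN hιN
  haveI : Algebra.FiniteType k H := by
    obtain ⟨Q', hQ'⟩ := exists_surjective_monoidAlgebra T e p huniv
    haveI : Monoid.FG (Multiplicative (Fin r → ℤ)) :=
      inferInstance
    haveI : Algebra.FiniteType C (C ⊗[k] H) := Algebra.FiniteType.of_surjective Q' hQ'
    exact Algebra.FiniteType.of_finiteType_tensorProduct_of_faithfullyFlat C
  haveI : IsIso p.left := by
    have h : Spec.preimage (p.left ≫ T.left.isoSpec.hom) = (ε.symm.toCommRingCatIso).hom :=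
      CommRingCat.hom_ext (RingHom.ext hp)
    have h' : p.left = Spec.map (ε.symm.toCommRingCatIso).hom ≫ T.left.isoSpec.inv := by
      rw [← h, Spec.map_preimage, Category.assoc, Iso.hom_inv_id, Category.comp_id]
    rw [h']
    infer_instance
  let L := FractionRing H
  haveI : Algebra.IsGeometricallyReduced k L :=
    FBase.Point.isGeometricallyReduced_of_isLocalization (A := H) (nonZeroDivisors H) (B := L)
  haveI : Algebra.EssFiniteType H L := Algebra.EssFiniteType.of_isLocalization L (nonZeroDivisors H)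
  haveI : Algebra.EssFiniteType k L := Algebra.EssFiniteType.comp k H L
  obtain ⟨n, θ, ⟨q, hq0, hθq, hgen⟩, hfrac⟩ := exists_eval k L
  let B := MvPolynomial (Fin n) k
  let 𝔭 : Ideal B := RingHom.ker θ
  haveI : 𝔭.IsPrime := RingHom.ker_isPrime _
  let A := Localization.AtPrime 𝔭
  have hM : 𝔭.primeCompl ≤ nonZeroDivisors B := Ideal.primeCompl_le_nonZeroDivisors 𝔭
  haveI : IsDomain A := IsLocalization.isDomain_localization hM
  haveI : IsNoetherianRing A := IsLocalization.isNoetherianRing 𝔭.primeCompl A inferInstance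
  have hmax : IsLocalRing.maximalIdeal A = Ideal.span {algebraMap B A q} := by
    rw [← Localization.AtPrime.map_eq_maximalIdeal]
    refine le_antisymm (Ideal.map_le_iff_le_comap.mpr fun g hg => ?_) ?_
    · obtain ⟨c, hc, hdvd⟩ := hgen g hg
      refine Ideal.mem_comap.mpr (Ideal.mem_span_singleton.mpr ?_)
      have h1 := map_dvd (algebraMap B A) hdvd
      rw [map_mul] at h1
      exact ((IsLocalization.map_units A (⟨c, hc⟩ : 𝔭.primeCompl)).dvd_mul_left).mp h1
    · rw [Ideal.span_le, Set.singleton_subset_iff]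
      exact Ideal.mem_map_of_mem _ hθq
  haveI : IsDiscreteValuationRing A := by
    have hnf : ¬ IsField A := by
      rw [IsLocalRing.isField_iff_maximalIdeal_eq, hmax, Ideal.span_singleton_eq_bot]
      exact fun h0 => hq0 ((injective_iff_map_eq_zero _).mp (IsLocalization.injective A hM) _ h0)
    have hpr : (IsLocalRing.maximalIdeal A).IsPrincipal := ⟨⟨_, hmax⟩⟩
    exact ((IsDiscreteValuationRing.TFAE A hnf).out 4 0).mp hpr
  let θA : A →ₐ[k] L := IsLocalization.liftAlgHom (M := 𝔭.primeCompl) (f := θ) fun z =>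
    isUnit_iff_ne_zero.mpr z.2
  have hθA : ∀ z, θA (algebraMap B A z) = θ z := fun z => IsLocalization.lift_eq _ _
  have hθAs : Function.Surjective θA := fun z => by
    obtain ⟨a, b, hb, rfl⟩ := hfrac z
    refine ⟨IsLocalization.mk' A a (⟨b, hb⟩ : 𝔭.primeCompl), ?_⟩
    rw [eq_div_iff hb, ← hθA b, ← map_mul, IsLocalization.mk'_spec A a (⟨b, hb⟩ : 𝔭.primeCompl), hθA]
  haveI : IsLocalHom θA.toRingHom := IsLocalHom.of_surjective θA.toRingHom hθAs
  let σ : IsLocalRing.ResidueField A →ₐ[k] L :=
    { IsLocalRing.ResidueField.lift θA.toRingHom with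
      commutes' := fun c => θA.commutes c }
  have hσ : ∀ z, σ (IsLocalRing.residue A z) = θA z := fun z => rfl
  have hσb : Function.Bijective σ := ⟨RingHom.injective σ.toRingHom, fun z => by
    obtain ⟨w, rfl⟩ := hθAs z
    exact ⟨IsLocalRing.residue A w, hσ w⟩⟩
  let τ : H →ₐ[k] IsLocalRing.ResidueField A :=
    (AlgEquiv.ofBijective σ hσb).symm.toAlgHom.comp (IsScalarTower.toAlgHom k H L)
  let x₀ : sp k (IsLocalRing.ResidueField A) ⟶ T := mapPt T τ p
  obtain ⟨s, hs1, hs2⟩ := h A x₀.left (Over.w x₀)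
  let x : sp k A ⟶ T := Over.homMk s hs1
  obtain ⟨f, hf, -⟩ := huniv x
  let π : A →ₐ[k] IsLocalRing.ResidueField A := IsScalarTower.toAlgHom k A _
  have hfτ : π.comp f = τ := by
    apply (huniv x₀).unique _ rfl
    rw [← mapPt_mapPt, hf]
    exact Over.OverMorphism.ext hs2
  have hfθ : ∀ a, θA (f a) = algebraMap H L a := fun a => by
    have h1 := DFunLike.congr_fun hfτ a
    change IsLocalRing.residue A (f a) = _ at h1
    rw [← hσ, h1]
    exact (AlgEquiv.ofBijective σ hσb).apply_symm_apply _
  -- spread out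
  obtain ⟨b, hb, f', hf'⟩ := exists_factor hM f
  let Pb := Localization.Away b
  haveI : Algebra.FiniteType B Pb := IsLocalization.finiteType_of_monoid_fg (Submonoid.powers b) Pb
  haveI : Algebra.FiniteType k Pb := Algebra.FiniteType.trans (R := k) (S := B) (A := Pb) inferInstance inferInstance
  let ψ : Pb →ₐ[k] L := θA.comp (awayTo (k := k) (K := A) b hb)
  obtain ⟨g₁, hg₁, α₀, hα₀⟩ := exists_factor (le_refl (nonZeroDivisors H)) ψ
  let Hg := Localization.Away g₁
  let jH : Hg →ₐ[k] L := awayTo (k := k) (K := L) g₁ hg₁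
  have hjH : Function.Injective jH := awayTo_injective (le_refl _) g₁ hg₁
  have hαf : ∀ a, α₀ (f' a) = algebraMap H Hg a := fun a => hjH (by
    have h1 : jH (α₀ (f' a)) = ψ (f' a) := DFunLike.congr_fun hα₀ _
    have h2 : awayTo (k := k) (K := A) b hb (f' a) = f a := DFunLike.congr_fun hf' a
    rw [h1, awayTo_algebraMap]
    show θA _ = _
    exact (congrArg θA h2).trans (hfθ a))
  let c := f' g₁
  let B2 := Localization.Away c
  let α : B2 →ₐ[k] Hg := IsLocalization.liftAlgHom (M := Submonoid.powers c) (f := α₀) (by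
    rintro ⟨_, m, rfl⟩
    rw [map_pow, hαf]
    exact (IsLocalization.map_units Hg (⟨g₁, Submonoid.mem_powers g₁⟩ : Submonoid.powers g₁)).pow m)
  let β : Hg →ₐ[k] B2 := IsLocalization.liftAlgHom (M := Submonoid.powers g₁)
    (f := (IsScalarTower.toAlgHom k Pb B2).comp f') (by
    rintro ⟨_, m, rfl⟩
    rw [map_pow]
    exact (IsLocalization.map_units B2 (⟨c, Submonoid.mem_powers c⟩ : Submonoid.powers c)).pow m)
  have hαβ : α.comp β = AlgHom.id k Hg := by
    refine IsLocalization.algHom_ext (Submonoid.powers g₁) ?_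
    refine AlgHom.ext fun a => ?_
    show α (β (algebraMap H Hg a)) = algebraMap H Hg a
    rw [show β (algebraMap H Hg a) = algebraMap Pb B2 (f' a) from IsLocalization.lift_eq _ _,
      show α (algebraMap Pb B2 (f' a)) = α₀ (f' a) from IsLocalization.lift_eq _ _, hαf]
  let iH : sp k Hg ⟶ T := mapPt T (IsScalarTower.toAlgHom k H Hg) p
  haveI : IsOpenImmersion iH.left := by
    haveI : IsOpenImmersion (Spec.map (CommRingCat.ofHom (algebraMap H Hg))) :=
      IsOpenImmersion.of_isLocalization g₁
    show IsOpenImmersion (Spec.map (CommRingCat.ofHom (algebraMap H Hg)) ≫ p.left)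
    infer_instance
  let iB : Spec (CommRingCat.of B2) ⟶ Spec (CommRingCat.of B) :=
    Spec.map (CommRingCat.ofHom (algebraMap Pb B2)) ≫ Spec.map (CommRingCat.ofHom (algebraMap B Pb))
  haveI : IsOpenImmersion iB := by
    haveI : IsOpenImmersion (Spec.map (CommRingCat.ofHom (algebraMap Pb B2))) :=
      IsOpenImmersion.of_isLocalization c
    haveI : IsOpenImmersion (Spec.map (CommRingCat.ofHom (algebraMap B Pb))) :=
      IsOpenImmersion.of_isLocalization b
    infer_instance
  have hB : iB ≫ Spec.map (CommRingCat.ofHom (algebraMap k B)) =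
      Spec.map (CommRingCat.ofHom (algebraMap k B2)) := by
    rw [Category.assoc, ← Spec.map_comp, ← Spec.map_comp, ← CommRingCat.ofHom_comp,
      ← CommRingCat.ofHom_comp, ← IsScalarTower.algebraMap_eq, ← IsScalarTower.algebraMap_eq]
  let eU := iH.left.isoOpensRange
  let eY := iB.isoOpensRange
  have hU : eU.hom ≫ iH.left.opensRange.ι = iH.left := Scheme.Hom.isoOpensRange_hom_ι _
  have hY : eY.hom ≫ iB.opensRange.ι = iB := Scheme.Hom.isoOpensRange_hom_ι _
  refine ⟨iH.left.opensRange, n, iB.opensRange,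
    eU.inv ≫ (spMap α).left ≫ eY.hom, eY.inv ≫ (spMap β).left ≫ eU.hom, ?_, ?_, ?_, ?_⟩
  · haveI : Nontrivial Hg := jH.toRingHom.domain_nontrivial
    exact ⟨iH.left (Nonempty.some (inferInstanceAs (Nonempty (PrimeSpectrum Hg)))), ⟨_, rfl⟩⟩
  · have h1 : (spMap α).left ≫ (spMap β).left = 𝟙 _ := by
      rw [← Over.comp_left, spMap_comp, hαβ, spMap_id]
      rfl
    simp only [Category.assoc, Iso.hom_inv_id_assoc]
    rw [reassoc_of% h1, Iso.inv_hom_id]
  · simp only [Category.assoc]
    rw [reassoc_of% hY, hB, Iso.inv_comp_eq, reassoc_of% hU]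
    exact (Over.w (spMap α)).trans (Over.w iH).symm
  · simp only [Category.assoc]
    rw [reassoc_of% hU, Iso.inv_comp_eq, reassoc_of% hY, hB]
    rw [show iH.left ≫ T.hom = _ from Over.w iH]
    exact Over.w (spMap β)

end Groth.Agent.S18696
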