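import Groth.Statements.S18697
import Groth.Agent.S18693
import Groth.Agent.GITLib.TorusApprox.RetractFinite
-- import your own Groth.Agent.* helpers here

set_option autoImplicit false
open CategoryTheory MonoidalCategory CartesianMonoidalCategory MonObj GrpObj AlgebraicGeometry
universe u
open MultTori

set_option backward.isDefEq.respectTransparency false
set_option synthInstance.maxHeartbeats 400000

namespace Groth.Agent.S18697

open CategoryTheory.Limits GITLib.TorusApprox
open scoped TensorProduct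

/-- Retract rationality expressed on functions. -/
theorem exists_retractData {k : Type u} [Field k] (T : Over (Spec (CommRingCat.of k))) [IsAffine T.left] [GrpObj T]
    {H : Type u} [CommRing H] [Algebra k H] [IsDomain H] (p : sp k H ⟶ T) [IsIso p.left]
    (huniv : ∀ {R : Type u} [CommRing R] [Algebra k R] (x : sp k R ⟶ T), ∃! f : H →ₐ[k] R, mapPt T f p = x)
    (hret : ∃ (U : T.left.Opens) (n : ℕ) (Y : (Spec (CommRingCat.of (MvPolynomial (Fin n) k))).Opens)
        (a : (U : Scheme.{u}) ⟶ (Y : Scheme.{u})) (b : (Y : Scheme.{u}) ⟶ (U : Scheme.{u})),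
        (U : Set T.left).Nonempty ∧ a ≫ b = 𝟙 (U : Scheme.{u}) ∧
        a ≫ Y.ι ≫ Spec.map (CommRingCat.ofHom (algebraMap k (MvPolynomial (Fin n) k))) = U.ι ≫ T.hom ∧
        b ≫ U.ι ≫ T.hom = Y.ι ≫ Spec.map (CommRingCat.ofHom (algebraMap k (MvPolynomial (Fin n) k)))) :
    Nonempty (RetractData (k := k) H) := by
  obtain ⟨U, n, Y, a, b, ⟨ξ, hξ⟩, hab, ha, hb⟩ := hret
  let Q := MvPolynomial (Fin n) k
  let η' : (U : Scheme.{u}) := ⟨ξ, hξ⟩
  obtain ⟨_, ⟨f, rfl⟩, hfmem, hfY⟩ :=
    TopologicalSpace.Opens.isBasis_iff_nbhd.1 (PrimeSpectrum.isBasis_basic_opens (R := Q))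
      (U := Y) (x := (a ≫ Y.ι) η') (a η').2
  have hf0 : f ≠ 0 := fun h => hfmem (h ▸ zero_mem _)
  let jf : Spec (CommRingCat.of (Localization.Away f)) ⟶ Spec (CommRingCat.of Q) :=
    Spec.map (CommRingCat.ofHom (algebraMap Q (Localization.Away f)))
  haveI : IsOpenImmersion jf := IsOpenImmersion.of_isLocalization f
  have hjf : Set.range jf = ((PrimeSpectrum.basicOpen f : TopologicalSpace.Opens (PrimeSpectrum Q)) : Set (PrimeSpectrum Q)) := PrimeSpectrum.localization_away_comap_range _ _
  let y : Spec (CommRingCat.of (Localization.Away f)) ⟶ (Y : Scheme.{u}) :=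
    IsOpenImmersion.lift Y.ι jf (by rw [hjf, Scheme.Opens.range_ι]; exact hfY)
  have hy : y ≫ Y.ι = jf := IsOpenImmersion.lift_fac _ _ _
  let xb : sp k (Localization.Away f) ⟶ T := Over.homMk (y ≫ b ≫ U.ι) (by
    show (y ≫ b ≫ U.ι) ≫ T.hom = Spec.map _
    rw [Category.assoc, Category.assoc, hb, ← Category.assoc y, hy, ← Spec.map_comp, ← CommRingCat.ofHom_comp,
      ← IsScalarTower.algebraMap_eq])
  obtain ⟨β, hβ, -⟩ := huniv xb
  -- the open of the group
  let W : T.left.Opens := U.ι ''ᵁ ((a ≫ Y.ι) ⁻¹ᵁ PrimeSpectrum.basicOpen f)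
  have hηW : ξ ∈ W := ⟨η', hfmem, rfl⟩
  let V : (Spec (CommRingCat.of H)).Opens := p.left ⁻¹ᵁ W
  obtain ⟨_, ⟨g, rfl⟩, hgmem, hgV⟩ :=
    TopologicalSpace.Opens.isBasis_iff_nbhd.1 (PrimeSpectrum.isBasis_basic_opens (R := H))
      (U := V) (x := (inv p.left) ξ) (by
        show p.left ((inv p.left) ξ) ∈ W
        rw [← Scheme.Hom.comp_apply, IsIso.inv_hom_id]
        exact hηW)
  have hg0 : g ≠ 0 := fun h => hgmem (h ▸ zero_mem _)
  let jg : Spec (CommRingCat.of (Localization.Away g)) ⟶ Spec (CommRingCat.of H) :=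
    Spec.map (CommRingCat.ofHom (algebraMap H (Localization.Away g)))
  have hjg : Set.range jg = ((PrimeSpectrum.basicOpen g : TopologicalSpace.Opens (PrimeSpectrum H)) : Set (PrimeSpectrum H)) := PrimeSpectrum.localization_away_comap_range _ _
  have hmemW : ∀ t, (jg ≫ p.left) t ∈ W := fun t => hgV (hjg.subset ⟨t, rfl⟩)
  let x : Spec (CommRingCat.of (Localization.Away g)) ⟶ (U : Scheme.{u}) :=
    IsOpenImmersion.lift U.ι (jg ≫ p.left) (by
      rintro _ ⟨t, rfl⟩
      obtain ⟨z, -, hz⟩ := hmemW t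
      exact ⟨z, hz⟩)
  have hx : x ≫ U.ι = jg ≫ p.left := IsOpenImmersion.lift_fac _ _ _
  let w : Spec (CommRingCat.of (Localization.Away g)) ⟶ Spec (CommRingCat.of (Localization.Away f)) :=
    IsOpenImmersion.lift jf (x ≫ a ≫ Y.ι) (by
      rw [hjf]
      rintro _ ⟨t, rfl⟩
      obtain ⟨z, hz, hzt⟩ := hmemW t
      have : x t = z := U.ι.isOpenEmbedding.injective (by
        show (x ≫ U.ι) t = _
        rw [hx]
        exact hzt.symm)
      show (a ≫ Y.ι) (x t) ∈ PrimeSpectrum.basicOpen f
      rw [this]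
      exact hz)
  have hw : w ≫ jf = x ≫ a ≫ Y.ι := IsOpenImmersion.lift_fac _ _ _
  have hwk : w ≫ Spec.map (CommRingCat.ofHom (algebraMap k (Localization.Away f))) =
      Spec.map (CommRingCat.ofHom (algebraMap k (Localization.Away g))) := by
    rw [IsScalarTower.algebraMap_eq k Q (Localization.Away f), CommRingCat.ofHom_comp, Spec.map_comp,
      ← Category.assoc, show w ≫ Spec.map (CommRingCat.ofHom (algebraMap Q (Localization.Away f))) = _ from hw,
      Category.assoc, Category.assoc, ha, ← Category.assoc, hx, Category.assoc, Over.w p,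
      IsScalarTower.algebraMap_eq k H (Localization.Away g), CommRingCat.ofHom_comp, Spec.map_comp]
    rfl
  let α₀ := Spec.preimage w
  have hα₀ : Spec.map α₀ = w := Spec.map_preimage _
  let α : Localization.Away f →ₐ[k] Localization.Away g := { α₀.hom with
    commutes' := fun c => by
      have h : CommRingCat.ofHom (algebraMap k (Localization.Away f)) ≫ α₀ =
          CommRingCat.ofHom (algebraMap k (Localization.Away g)) :=
        Spec.map_injective (by rw [Spec.map_comp, hα₀, hwk])
      exact DFunLike.congr_fun (congrArg CommRingCat.Hom.hom h) c }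
  refine ⟨⟨n, f, g, hf0, hg0, β, α, ?_⟩⟩
  refine (huniv (mapPt T (IsScalarTower.toAlgHom k H (Localization.Away g)) p)).unique ?_ rfl
  rw [← mapPt_mapPt, hβ]
  apply Over.OverMorphism.ext
  show Spec.map α₀ ≫ y ≫ b ≫ U.ι = jg ≫ p.left
  have hwy : w ≫ y = x ≫ a := (cancel_mono Y.ι).1 (by rw [Category.assoc, Category.assoc, hy, hw])
  rw [hα₀, reassoc_of% hwy, reassoc_of% hab, hx]


/-- (viii) ⇒ (iii): let k be a field and T an isotrivial k-torus (isomorphic to a split torus of some
rank after one finite étale surjective base change) which is retract rational over k: there are a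
nonempty open subscheme U of T, an open subscheme Y of an affine space over k and k-morphisms U → Y
→ U whose composite is the identity of U. Then for every local k-algebra A with residue field κ the
reduction map T(A) → T(κ) is surjective: every k-morphism Spec κ → T factors through an A-point of
T. -/
theorem result
    (k : Type u) [Field k] (T : Over (Spec (CommRingCat.of k))) [GrpObj T]
    (hT : ∃ r : ℕ, TwC.Locally (Spec (CommRingCat.of k)) .finiteEtale
        (fun S' g => Red.IsSplitTorusWith (Fin r → ℤ) (Red.bc g T)))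
    (hret : ∃ (U : T.left.Opens) (n : ℕ) (Y : (Spec (CommRingCat.of (MvPolynomial (Fin n) k))).Opens)
        (a : (U : Scheme.{u}) ⟶ (Y : Scheme.{u})) (b : (Y : Scheme.{u}) ⟶ (U : Scheme.{u})),
        (U : Set T.left).Nonempty ∧ a ≫ b = 𝟙 (U : Scheme.{u}) ∧
        a ≫ Y.ι ≫ Spec.map (CommRingCat.ofHom (algebraMap k (MvPolynomial (Fin n) k))) = U.ι ≫ T.hom ∧
        b ≫ U.ι ≫ T.hom = Y.ι ≫ Spec.map (CommRingCat.ofHom (algebraMap k (MvPolynomial (Fin n) k)))) :
    ∀ (A : Type u) [CommRing A] [IsLocalRing A] [Algebra k A]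
        (u : Spec (CommRingCat.of (IsLocalRing.ResidueField A)) ⟶ T.left),
        u ≫ T.hom = Spec.map (CommRingCat.ofHom ((IsLocalRing.residue A).comp (algebraMap k A))) →
        ∃ s : Spec (CommRingCat.of A) ⟶ T.left, s ≫ T.hom = Spec.map (CommRingCat.ofHom (algebraMap k A)) ∧
          Spec.map (CommRingCat.ofHom (IsLocalRing.residue A)) ≫ s = u := by
  intro A _ _ _ u hu
  obtain ⟨r, hT⟩ := hT
  obtain ⟨U, g, hP, hfin, het, y, hy⟩ := exists_piece hT
  obtain ⟨e₀⟩ := hP
  haveI : IsAffine U := isAffine_of_isAffineHom g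
  let ρ : CommRingCat.of k ⟶ Γ(U, ⊤) := Spec.preimage (U.isoSpec.inv ≫ g)
  have hρ : Spec.map ρ = U.isoSpec.inv ≫ g := Spec.map_preimage _
  letI : Algebra k Γ(U, ⊤) := ρ.hom.toAlgebra
  haveI : Module.Finite k Γ(U, ⊤) := by
    have : IsFinite (Spec.map ρ) := hρ ▸ inferInstance
    exact (IsFinite.SpecMap_iff ρ).mp this
  let q : PrimeSpectrum Γ(U, ⊤) := U.isoSpec.hom y
  haveI : Nontrivial Γ(U, ⊤) := PrimeSpectrum.nontrivial q
  obtain ⟨Q, hQ⟩ := Ideal.exists_maximal Γ(U, ⊤)
  let C := Γ(U, ⊤) ⧸ Q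
  obtain ⟨e⟩ := exists_split_bc (Spec.map (CommRingCat.ofHom (Ideal.Quotient.mk Q)) ≫ U.isoSpec.inv) g
    (Spec.map (CommRingCat.ofHom (algebraMap k C))) (by
      rw [Category.assoc, ← hρ, ← Spec.map_comp]
      rfl) T _ e₀
  haveI : IsAffine T.left := S18693.isAffine_of_split T e
  have hcomm : ∀ (R : Type u) [CommRing R] [Algebra k R] (x y : sp k R ⟶ T), x * y = y * x := fun R _ _ x y => by
    apply mapPt_injective T (Algebra.TensorProduct.includeLeft : R →ₐ[k] R ⊗[k] C)
      (Algebra.TensorProduct.includeLeft_injective (S := k) (algebraMap k C).injective)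
    rw [map_mul, map_mul]
    exact mul_comm_hom T e Algebra.TensorProduct.includeRight _ _
  obtain ⟨H, _, _, p, ε, hp, huniv⟩ := exists_universal T
  obtain ⟨P, hP⟩ := exists_injective_monoidAlgebra T e p huniv
  haveI : IsDomain C := Ideal.Quotient.isDomain Q
  haveI : IsDomain H := Function.Injective.isDomain
    (P.toRingHom.comp (Algebra.TensorProduct.includeRight : H →ₐ[k] C ⊗[k] H).toRingHom)
    (hP.comp (Algebra.TensorProduct.includeRight_injective (algebraMap k C).injective))
  haveI : IsIso p.left := by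
    have h : Spec.preimage (p.left ≫ T.left.isoSpec.hom) = (ε.symm.toCommRingCatIso).hom :=
      CommRingCat.hom_ext (RingHom.ext hp)
    have h' : p.left = Spec.map (ε.symm.toCommRingCatIso).hom ≫ T.left.isoSpec.inv := by
      rw [← h, Spec.map_preimage, Category.assoc, Iso.hom_inv_id, Category.comp_id]
    rw [h']
    infer_instance
  obtain ⟨D⟩ := exists_retractData T p huniv hret
  let π : A →ₐ[k] IsLocalRing.ResidueField A := IsScalarTower.toAlgHom k A _
  obtain ⟨s, hs⟩ := exists_lift T p huniv D hcomm π IsLocalRing.residue_surjective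
    (Over.homMk u hu : sp k (IsLocalRing.ResidueField A) ⟶ T)
  exact ⟨s.left, Over.w s, congrArg CommaMorphism.left hs⟩

end Groth.Agent.S18697
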