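import Groth.Statements.S1870
import Groth.Agent.CycHerb.Basic
-- import your own Groth.Agent.* helpers here

set_option autoImplicit false
universe u v
open CycAlg

namespace Groth.Agent.S1870

open LinearMap

/-- A morphism of (2,1)-periodic complexes, both with finite-length cohomology, whose kernel and
cokernel have finite length does not change the additive Herbrand quotient: e_R(M, φ, ψ) = e_R(M',
φ', ψ'). -/
theorem result {R : Type u} [CommRing R] {M M' : Type v} [AddCommGroup M] [Module R M] [AddCommGroup M'] [Module R M'] (φ ψ : M →ₗ[R] M) (φ' ψ' : M' →ₗ[R] M') (h : CycAlg.IsPeriodic φ ψ) (h' : CycAlg.IsPeriodic φ' ψ') (f : M →ₗ[R] M') (cφ : φ' ∘ₗ f = f ∘ₗ φ) (cψ : ψ' ∘ₗ f = f ∘ₗ ψ) (hfin : CycAlg.FinCoh R φ ψ) (hfin' : CycAlg.FinCoh R φ' ψ') (hker : Module.length R (LinearMap.ker f) < ⊤) (hcoker : Module.length R (M' ⧸ LinearMap.range f) < ⊤) : CycAlg.herbrand R φ ψ = CycAlg.herbrand R φ' ψ' := by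
  obtain ⟨hKf, hK⟩ := Groth.Agent.CycHerb.finCoh_herbrand_of_finite
    (φ := φ.restrict (p := ker f) (q := ker f) fun x hx => by
      rw [mem_ker] at hx ⊢
      have := DFunLike.congr_fun cφ x
      simp only [LinearMap.comp_apply] at this
      rw [← this, hx, map_zero])
    (ψ := ψ.restrict (p := ker f) (q := ker f) fun x hx => by
      rw [mem_ker] at hx ⊢
      have := DFunLike.congr_fun cψ x
      simp only [LinearMap.comp_apply] at this
      rw [← this, hx, map_zero])
    ⟨by ext x; exact DFunLike.congr_fun h.1 x.1, by ext x; exact DFunLike.congr_fun h.2 x.1⟩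
    hker.ne hker.ne
  let φI : range f →ₗ[R] range f := φ'.restrict (p := range f) (q := range f) (by
    rintro _ ⟨z, rfl⟩; exact ⟨φ z, (DFunLike.congr_fun cφ z).symm⟩)
  let ψI : range f →ₗ[R] range f := ψ'.restrict (p := range f) (q := range f) (by
    rintro _ ⟨z, rfl⟩; exact ⟨ψ z, (DFunLike.congr_fun cψ z).symm⟩)
  let φQ : (M' ⧸ range f) →ₗ[R] (M' ⧸ range f) := (range f).mapQ (range f) φ' (by
    rintro _ ⟨z, rfl⟩; exact ⟨φ z, (DFunLike.congr_fun cφ z).symm⟩)
  let ψQ : (M' ⧸ range f) →ₗ[R] (M' ⧸ range f) := (range f).mapQ (range f) ψ' (by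
    rintro _ ⟨z, rfl⟩; exact ⟨ψ z, (DFunLike.congr_fun cψ z).symm⟩)
  obtain ⟨hQf, hQ⟩ := Groth.Agent.CycHerb.finCoh_herbrand_of_finite (φ := φQ) (ψ := ψQ)
    ⟨Submodule.linearMap_qext _ (LinearMap.ext fun x =>
        congr_arg Submodule.Quotient.mk (DFunLike.congr_fun h'.1 x)),
      Submodule.linearMap_qext _ (LinearMap.ext fun x =>
        congr_arg Submodule.Quotient.mk (DFunLike.congr_fun h'.2 x))⟩
    hcoker.ne hcoker.ne
  obtain ⟨-, -, hIf, e1⟩ := Groth.Agent.CycHerb.herbrand_shortExact (φ₃ := φI) (ψ₃ := ψI)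
    (f₁ := (ker f).subtype) (g₁ := (ker f).subtype) (f₂ := f.rangeRestrict) (g₂ := f.rangeRestrict)
    h (by ext x; rfl) (by ext x; rfl) (by ext x; exact DFunLike.congr_fun cφ x)
    (by ext x; exact DFunLike.congr_fun cψ x)
    (Submodule.injective_subtype _) (Submodule.injective_subtype _)
    f.surjective_rangeRestrict f.surjective_rangeRestrict
    (by rw [LinearMap.exact_iff, ker_rangeRestrict, Submodule.range_subtype])
    (by rw [LinearMap.exact_iff, ker_rangeRestrict, Submodule.range_subtype])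
    (Or.inl ⟨hKf, hfin⟩)
  obtain ⟨-, -, -, e2⟩ := Groth.Agent.CycHerb.herbrand_shortExact (φ₁ := φI) (ψ₁ := ψI)
    (φ₃ := φQ) (ψ₃ := ψQ)
    (f₁ := (range f).subtype) (g₁ := (range f).subtype) (f₂ := (range f).mkQ) (g₂ := (range f).mkQ)
    h' (by ext x; rfl) (by ext x; rfl) (by ext x; rfl) (by ext x; rfl)
    (Submodule.injective_subtype _) (Submodule.injective_subtype _)
    (Submodule.mkQ_surjective _) (Submodule.mkQ_surjective _)
    (exact_subtype_mkQ _) (exact_subtype_mkQ _)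
    (Or.inl ⟨hIf, hfin'⟩)
  rw [e1, e2, hK, hQ]
  ring

end Groth.Agent.S1870
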