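import Groth.Statements.S18704
import Groth.Agent.QGorLib.ReflOff
import Groth.Agent.S18699
import Groth.Agent.S18724
import Mathlib.RingTheory.Ideal.Height
-- import your own Groth.Agent.* helpers here

set_option autoImplicit false
universe u
open QGor

namespace Groth.Agent.S18704

/-- Affine form. Let A be a Noetherian ring with Serre's condition (S_2), I an ideal with ht I ≥ 2
(every prime containing I has height ≥ 2), and G a finite A-module with G_p reflexive for every
prime p not containing I. Then the following are equivalent: (i) G has (S_2) and dim Supp(G_p) ≥ 2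
for every prime p ⊇ I in Supp G; (ii) depth_I G ≥ 2; (iii) G is reflexive. -/
theorem result (A : Type u) [CommRing A] [IsNoetherianRing A]
    (hA : LocCoh.HasSk 2 A A) (I : Ideal A) (hI : 2 ≤ I.height)
    (G : Type u) [AddCommGroup G] [Module A G] [Module.Finite A G]
    (hU : ∀ p : PrimeSpectrum A, ¬ I ≤ p.asIdeal →
      Module.IsReflexive (Localization.AtPrime p.asIdeal) (LocalizedModule p.asIdeal.primeCompl G)) :
    ((LocCoh.HasSk 2 A G ∧ ∀ p : PrimeSpectrum A, I ≤ p.asIdeal → p ∈ Module.support A G →
        (2 : WithBot ℕ∞) ≤ Module.supportDim (Localization.AtPrime p.asIdeal) (LocalizedModule p.asIdeal.primeCompl G)) ↔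
      2 ≤ LocCoh.idealDepth I G) ∧
    (2 ≤ LocCoh.idealDepth I G ↔ Module.IsReflexive A G) := by
  have key : ∀ (k : ℕ) (M : Type u) [AddCommGroup M] [Module A M] [Module.Finite A M],
      LocCoh.HasSk k A M → (∀ q : PrimeSpectrum A, I ≤ q.asIdeal → q ∈ Module.support A M →
        (k : WithBot ℕ∞) ≤ Module.supportDim (Localization.AtPrime q.asIdeal)
          (LocalizedModule q.asIdeal.primeCompl M)) → (k : ℕ∞) ≤ LocCoh.idealDepth I M :=
    fun k M _ _ _ => S18699.result k A M I
  have hA2 : 2 ≤ LocCoh.idealDepth I A := key 2 A hA fun q hq _ => by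
    rw [Module.supportDim_eq_of_equiv ((IsLocalizedModule.linearEquiv q.asIdeal.primeCompl
      (LocalizedModule.mkLinearMap q.asIdeal.primeCompl A)
      (Algebra.linearMap A (Localization.AtPrime q.asIdeal))).extendScalarsOfIsLocalization
        q.asIdeal.primeCompl (Localization.AtPrime q.asIdeal)),
      Module.supportDim_self_eq_ringKrullDim,
      IsLocalization.AtPrime.ringKrullDim_eq_height q.asIdeal (Localization.AtPrime q.asIdeal)]
    exact WithBot.coe_le_coe.mpr (hI.trans (Ideal.height_mono hq))
  have hiii : 2 ≤ LocCoh.idealDepth I G → Module.IsReflexive A G := fun h =>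
    QGorLib.ReflOff.isReflexive_of_depth G I (one_le_two.trans hA2) hU h
  refine ⟨⟨fun h => key 2 G h.1 h.2, fun h => ⟨?_, fun q hq hs => ?_⟩⟩, ⟨hiii, fun h => ?_⟩⟩
  · haveI := hiii h
    exact QGorLib.Refl.hasSk G le_rfl hA
  · exact le_trans (WithBot.coe_le_coe.mpr h) (S18724.result A G I q hq hs)
  · exact QGorLib.Refl.le_idealDepth I G (k := 2) le_rfl hA2

end Groth.Agent.S18704
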