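import Groth.Statements.S18706
import Groth.Agent.QGorLib.FibInj
-- import your own Groth.Agent.* helpers here

set_option autoImplicit false
universe u
open QGor

namespace Groth.Agent.S18706

/-- Affine-local form. Let A → B be a local homomorphism of Noetherian local rings, m the maximal ideal
of A, J an ideal of B and M a finite B-module with M_q flat over A for every prime q not containing
J. If depth_J (M/mM) ≥ 2 (the restriction map of the closed fibre of M to the complement of V(J) is
bijective), then depth_J (M/m^(n+1)M) ≥ 2 for every n ≥ 0 (the same holds for every infinitesimal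
neighbourhood of the closed fibre). -/
theorem result (A B : Type u) [CommRing A] [CommRing B]
    [IsNoetherianRing A] [IsNoetherianRing B] [IsLocalRing A] [IsLocalRing B] [Algebra A B]
    [IsLocalHom (algebraMap A B)] (J : Ideal B)
    (M : Type u) [AddCommGroup M] [Module B M] [Module A M] [IsScalarTower A B M] [Module.Finite B M]
    (hU : ∀ q : PrimeSpectrum B, ¬ J ≤ q.asIdeal → FlatCA.FlatAt A q.asIdeal M)
    (h2 : 2 ≤ LocCoh.idealDepth J (EGA4.FibMod A B M)) (n : ℕ) :
    2 ≤ LocCoh.idealDepth J (M ⧸ ((EGA4.mB A B) ^ (n + 1) • (⊤ : Submodule B M))) := by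
  obtain ⟨r, hrJ, hr⟩ := Depth.exists_isSMulRegular_of_one_le_idealDepth (le_trans one_le_two h2)
  haveI : Module.Flat A M :=
    QGorLib.FibInj.flat (B := B) (r := r) (fun q _ hq => hU ⟨q, ‹_›⟩ fun hle => hq (hle hrJ)) hr
  obtain ⟨e⟩ := QGorLib.FibInj.exists_tensorQuotEquiv (A := A) (B := B) (M := M)
    (IsLocalRing.maximalIdeal A ^ (n + 1))
  have h := QGorLib.FibInj.two_le_depth_tensor (A := A) (B := B) (M := M) J h2 (n + 1)
    (A ⧸ IsLocalRing.maximalIdeal A ^ (n + 1)) (by
      rw [eq_bot_iff, Submodule.smul_le]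
      rintro a ha x -
      obtain ⟨c, rfl⟩ := Ideal.Quotient.mk_surjective x
      exact Ideal.Quotient.eq_zero_iff_mem.mpr (Ideal.mul_mem_right _ _ ha))
  rw [Depth.idealDepth_congr e, Ideal.map_pow] at h
  exact h

end Groth.Agent.S18706
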