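import Groth.Statements.S18710
import Groth.Agent.QGorLib.FibDepth
import Mathlib.RingTheory.Ideal.GoingDown
import Mathlib.RingTheory.Ideal.KrullsHeightTheorem
-- import your own Groth.Agent.* helpers here

set_option autoImplicit false
universe u
open QGor

namespace Groth.Agent.S18710

open TensorProduct in
/-- Affine form. Let A → B be a flat homomorphism of Noetherian rings and I an ideal of A with V(I)
contained in the image of Spec B → Spec A (every prime containing I is a contraction of a prime of
B). Then ht(IB) = ht(I) (codimension of the preimage equals codimension), and for every finite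
A-module G one has depth_{IB} (B ⊗_A G) = depth_I G. -/
theorem result (A B : Type u) [CommRing A] [CommRing B]
    [IsNoetherianRing A] [IsNoetherianRing B] [Algebra A B] [Module.Flat A B] (I : Ideal A)
    (hI : ∀ p : PrimeSpectrum A, I ≤ p.asIdeal → ∃ q : PrimeSpectrum B, q.asIdeal.comap (algebraMap A B) = p.asIdeal)
    (G : Type u) [AddCommGroup G] [Module A G] [Module.Finite A G] :
    (I.map (algebraMap A B)).height = I.height ∧
    LocCoh.idealDepth (I.map (algebraMap A B)) (B ⊗[A] G) = LocCoh.idealDepth I G := by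
  have hmin : ∀ p : Ideal A, p.IsPrime → I ≤ p → ∃ q : Ideal B, q.IsPrime ∧
      q ∈ (p.map (algebraMap A B)).minimalPrimes ∧ q.comap (algebraMap A B) = p := fun p hp hIp => by
    obtain ⟨q0, hq0⟩ := hI ⟨p, hp⟩ hIp
    obtain ⟨q, hq, hqq0⟩ := Ideal.exists_minimalPrimes_le (J := q0.asIdeal)
      (Ideal.map_le_iff_le_comap.mpr hq0.ge)
    exact ⟨q, hq.1.1, hq, le_antisymm ((Ideal.comap_mono hqq0).trans hq0.le)
      (Ideal.map_le_iff_le_comap.mp hq.1.2)⟩
  refine ⟨le_antisymm ?_ ?_, le_antisymm ?_ ?_⟩
  · rw [Ideal.height_eq_inf_minimalPrimes (I := I)]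
    refine le_iInf₂ fun p hp => ?_
    haveI : p.IsPrime := hp.1.1
    obtain ⟨q, hq, hqmin, hqp⟩ := hmin p ‹_› hp.1.2
    haveI := hq
    haveI : q.LiesOver p := ⟨hqp.symm⟩
    refine (Ideal.height_mono ((Ideal.map_mono hp.1.2).trans hqmin.1.2)).trans ?_
    rw [Ideal.height_eq_height_add_of_liesOver_of_hasGoingDown p q]
    have h0 : (q.map (Ideal.Quotient.mk (p.map (algebraMap A B)))).height = 0 := by
      haveI := Ideal.map_isPrime_of_surjective Ideal.Quotient.mk_surjective
        (I := q) (f := Ideal.Quotient.mk (p.map (algebraMap A B))) (by rw [Ideal.mk_ker]; exact hqmin.1.2)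
      rw [Ideal.height_eq_zero_iff]
      refine ⟨⟨‹_›, bot_le⟩, fun P hP hPle => ?_⟩
      haveI := hP.1
      have h1 : P.comap (Ideal.Quotient.mk _) ≤ q := by
        refine (Ideal.comap_mono hPle).trans ?_
        rw [Ideal.comap_map_of_surjective _ Ideal.Quotient.mk_surjective, ← RingHom.ker_eq_comap_bot,
          Ideal.mk_ker, sup_eq_left.mpr hqmin.1.2]
      have h2 : p.map (algebraMap A B) ≤ P.comap (Ideal.Quotient.mk _) :=
        Ideal.mk_ker.ge.trans (Ideal.comap_mono bot_le)
      rw [← Ideal.map_comap_of_surjective _ Ideal.Quotient.mk_surjective P]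
      exact Ideal.map_mono (hqmin.2 ⟨inferInstance, h2⟩ h1)
    rw [h0, add_zero]
  · rw [Ideal.height_eq_inf_minimalPrimes (I := I.map (algebraMap A B))]
    refine le_iInf₂ fun q hq => ?_
    haveI : q.IsPrime := hq.1.1
    haveI : q.LiesOver (q.comap (algebraMap A B)) := ⟨rfl⟩
    rw [Ideal.height_eq_height_add_of_liesOver_of_hasGoingDown (q.comap (algebraMap A B)) q]
    exact le_add_right (Ideal.height_mono (Ideal.map_le_iff_le_comap.mp hq.1.2))
  · rw [Depth.idealDepth_eq_iInf_depth (M := G)]
    refine le_iInf₂ fun p hp => ?_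
    obtain ⟨q, hq, hqmin, hqp⟩ := hmin p.asIdeal p.isPrime hp
    haveI := hq
    refine (Depth.idealDepth_le_depth_localizedModule q ((Ideal.map_mono hp).trans hqmin.1.2)).trans ?_
    rw [(EGA4Lib.depth_supportDim_stalk A q G B).1]
    have h0 : LocCoh.depth (Localization.AtPrime q) (EGA4Lib.stalkFib A q B) = 0 := by
      haveI : Nontrivial (EGA4Lib.stalkFib A q B) := by
        rw [← not_subsingleton_iff_nontrivial, Submodule.Quotient.subsingleton_iff]
        haveI : Nontrivial (LocalizedModule q.primeCompl B) :=
          (IsLocalizedModule.linearEquiv q.primeCompl (LocalizedModule.mkLinearMap q.primeCompl B)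
            (Algebra.linearMap B (Localization.AtPrime q))).toEquiv.nontrivial
        refine Depth.smul_top_ne_top_of_le_maximalIdeal ?_
        rw [IsScalarTower.algebraMap_eq A B (Localization.AtPrime q), ← Ideal.map_map,
          ← Localization.AtPrime.map_eq_maximalIdeal]
        exact Ideal.map_mono Ideal.map_comap_le
      obtain ⟨P, hP⟩ := associatedPrimes.nonempty (Localization.AtPrime q) (EGA4Lib.stalkFib A q B)
      rw [Depth.depth_eq_idealDepth, Depth.idealDepth_eq_zero_iff]
      refine ⟨P, hP, ?_⟩
      haveI := Depth.isPrime_of_mem_associatedPrimes hP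
      have hann : (q.comap (algebraMap A B)).map (algebraMap A (Localization.AtPrime q)) ≤ P := by
        refine le_trans (fun a ha => Module.mem_annihilator.mpr fun x => ?_)
          (Depth.annihilator_le_associatedPrime hP)
        obtain ⟨y, rfl⟩ := Submodule.Quotient.mk_surjective _ x
        rw [← Submodule.Quotient.mk_smul, Submodule.Quotient.mk_eq_zero]
        exact Submodule.smul_mem_smul ha Submodule.mem_top
      have h1 : P.comap (algebraMap B (Localization.AtPrime q)) ≤ q := by
        conv_rhs => rw [← IsLocalization.AtPrime.comap_maximalIdeal (Localization.AtPrime q) q]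
        exact Ideal.comap_mono (IsLocalRing.le_maximalIdeal (Ideal.IsPrime.ne_top ‹_›))
      have h2 : p.asIdeal.map (algebraMap A B) ≤ P.comap (algebraMap B (Localization.AtPrime q)) := by
        rw [← hqp, ← Ideal.map_le_iff_le_comap, Ideal.map_map, ← IsScalarTower.algebraMap_eq]
        exact hann
      rw [← Localization.AtPrime.map_eq_maximalIdeal, Ideal.map_le_iff_le_comap]
      exact hqmin.2 ⟨inferInstance, h2⟩ h1
    rw [h0, add_zero]
    obtain ⟨p, hpp⟩ := p
    dsimp only at hqp ⊢
    subst hqp
    rfl
  · rw [Depth.idealDepth_eq_iInf_depth (M := B ⊗[A] G)]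
    refine le_iInf₂ fun q hq => ?_
    rw [(EGA4Lib.depth_supportDim_stalk A q.asIdeal G B).1]
    exact le_add_right (Depth.idealDepth_le_depth_localizedModule _ (Ideal.map_le_iff_le_comap.mp hq))

end Groth.Agent.S18710
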