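import Groth.Statements.S18711
import Groth.Agent.ExtOff6.More
import Groth.Agent.QGorLib.FourTermFlat
import Groth.Agent.QGorLib.FibDepth
import Groth.Agent.FlatMor.FlatAtBC
import Mathlib.RingTheory.Flat.Localization
import Mathlib.RingTheory.Flat.Stability
import Mathlib.LinearAlgebra.TensorProduct.Quotient

set_option autoImplicit false
set_option maxHeartbeats 1600000
set_option synthInstance.maxHeartbeats 200000
universe u
open QGor

namespace Groth.Agent.S18711

open TensorProduct IsLocalRing ExtOff6

/-- A homotopy from a factorisation on the cokernel. -/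
lemma exists_rho {B : Type u} [CommRing B] {F E0 E1 G : Type u} [AddCommGroup F] [Module B F]
    [AddCommGroup E0] [Module B E0] [Module.Projective B E0] [AddCommGroup E1] [Module B E1]
    [Module.Projective B E1] [AddCommGroup G] [Module B G] (f : F →ₗ[B] E0) (u : E0 →ₗ[B] E1) (v : E1 →ₗ[B] G)
    (hf : Function.Injective f) (hfu : Function.Exact f u) (huv : Function.Exact u v) (hv : Function.Surjective v)
    {t : B} (ht : Factors G t) :
    ∃ (ρ : E0 →ₗ[B] F) (σ : E1 →ₗ[B] E0), ∀ x, f (ρ x) = t • x - σ (u x) := by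
  obtain ⟨k, a, b, hab⟩ := ht
  obtain ⟨s, hs⟩ := Module.projective_lifting_property v b hv
  let π : E1 →ₗ[B] E1 := t • LinearMap.id - s ∘ₗ a ∘ₗ v
  have hπ : ∀ x, π x ∈ LinearMap.range u := fun x => by
    rw [← (LinearMap.exact_iff.mp huv), LinearMap.mem_ker]
    have := LinearMap.congr_fun hs (a (v x))
    simp only [LinearMap.coe_comp, Function.comp_apply] at this
    simp [π, this, hab]
  obtain ⟨σ, hσ⟩ := Module.projective_lifting_property u.rangeRestrict (π.codRestrict _ hπ) u.surjective_rangeRestrict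
  have hσ' : ∀ x, u (σ x) = π x := fun x => congrArg Subtype.val (LinearMap.congr_fun hσ x)
  have hker : ∀ x, t • x - σ (u x) ∈ LinearMap.range f := fun x => by
    rw [← LinearMap.exact_iff.mp hfu, LinearMap.mem_ker, map_sub, map_smul, hσ']
    simp [π, huv.apply_apply_eq_zero]
  let e := LinearEquiv.ofInjective f hf
  refine ⟨e.symm.toLinearMap ∘ₗ (t • LinearMap.id - σ ∘ₗ u).codRestrict _ hker, σ, fun x => ?_⟩
  exact congrArg Subtype.val (e.apply_symm_apply ⟨t • x - σ (u x), hker x⟩)

/-- A map to a projective module with a left quasi-inverse gives a factorisation through a free module. -/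
lemma factors_of_rho {B : Type u} [CommRing B] {F E : Type u} [AddCommGroup F] [Module B F]
    [AddCommGroup E] [Module B E] [Module.Finite B E] [Module.Projective B E]
    (f : F →ₗ[B] E) (ρ : E →ₗ[B] F) {t : B} (h : ∀ x, ρ (f x) = t • x) : Factors F t := by
  obtain ⟨k, π, hπ⟩ := Module.Finite.exists_fin' B E
  obtain ⟨σ, hσ⟩ := Module.projective_lifting_property π LinearMap.id hπ
  refine ⟨k, σ ∘ₗ f, ρ ∘ₗ π, fun x => ?_⟩
  simp only [LinearMap.coe_comp, Function.comp_apply]
  rw [show π (σ (f x)) = f x from LinearMap.congr_fun hσ _, h]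

/-- The key equivalence at one prime. -/
lemma at_prime (R S : Type u) [CommRing R] [CommRing S] [IsNoetherianRing R] [IsNoetherianRing S] [Algebra R S]
    (K E0 E1 G : Type u) [AddCommGroup K] [Module S K] [Module R K] [IsScalarTower R S K] [Module.Finite S K]
    [AddCommGroup E0] [Module S E0] [Module R E0] [IsScalarTower R S E0] [Module.Finite S E0] [Module.Flat R E0]
    [Module.Projective S E0]
    [AddCommGroup E1] [Module S E1] [Module R E1] [IsScalarTower R S E1] [Module.Finite S E1] [Module.Flat R E1]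
    [Module.Projective S E1]
    [AddCommGroup G] [Module S G] [Module R G] [IsScalarTower R S G] [Module.Finite S G]
    (f : K →ₗ[S] E0) (u : E0 →ₗ[S] E1) (v : E1 →ₗ[S] G)
    (hf : Function.Injective f) (hfu : Function.Exact f u) (huv : Function.Exact u v) (hv : Function.Surjective v)
    (J : Ideal S) (n : ℕ) (hG : J ^ (n + 1) ≤ factorIdeal G) [Module.Flat R S]
    (q : Ideal S) [q.IsPrime]
    (hT : NoTors (J ^ (n + 1)) (S ⧸ (q.comap (algebraMap R S)).map (algebraMap R S)) ∧
      Ext1 (J ^ (n + 1)) (S ⧸ (q.comap (algebraMap R S)).map (algebraMap R S))) :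
    (FlatCA.FlatAt R q G → FlatCA.FlatAt R q K ∧
      2 ≤ LocCoh.idealDepth (J.map (algebraMap S (EGA4.FibLocRing R S q))) (EGA4.FibLocMod R S q K)) ∧
    (2 ≤ LocCoh.idealDepth (J.map (algebraMap S (EGA4.FibLocRing R S q))) (EGA4.FibLocMod R S q K) →
      FlatCA.FlatAt R q G) := by
  let p := q.comap (algebraMap R S)
  let Rp := Localization.AtPrime p
  let Sq := Localization.AtPrime q
  letI : Algebra Rp Sq := (Localization.localRingHom p q (algebraMap R S) rfl).toAlgebra
  haveI : IsScalarTower R Rp Sq := IsScalarTower.of_algebraMap_eq fun x => by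
    rw [RingHom.algebraMap_toAlgebra, Localization.localRingHom_to_map]
    exact IsScalarTower.algebraMap_apply R S Sq x
  haveI : IsLocalHom (algebraMap Rp Sq) := Localization.isLocalHom_localRingHom p q _ rfl
  letI iK : Module Rp (LocalizedModule q.primeCompl K) := Module.compHom _ (algebraMap Rp Sq)
  letI i0 : Module Rp (LocalizedModule q.primeCompl E0) := Module.compHom _ (algebraMap Rp Sq)
  letI i1 : Module Rp (LocalizedModule q.primeCompl E1) := Module.compHom _ (algebraMap Rp Sq)
  letI iG : Module Rp (LocalizedModule q.primeCompl G) := Module.compHom _ (algebraMap Rp Sq)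
  haveI : IsScalarTower Rp Sq (LocalizedModule q.primeCompl K) := IsScalarTower.of_algebraMap_smul fun _ _ => rfl
  haveI : IsScalarTower Rp Sq (LocalizedModule q.primeCompl E0) := IsScalarTower.of_algebraMap_smul fun _ _ => rfl
  haveI : IsScalarTower Rp Sq (LocalizedModule q.primeCompl E1) := IsScalarTower.of_algebraMap_smul fun _ _ => rfl
  haveI : IsScalarTower Rp Sq (LocalizedModule q.primeCompl G) := IsScalarTower.of_algebraMap_smul fun _ _ => rfl
  have tw : ∀ (X : Type u) [AddCommGroup X] [Module Sq X] [Module R X] [IsScalarTower R Sq X] [Module Rp X]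
      [IsScalarTower Rp Sq X], IsScalarTower R Rp X := fun X _ _ _ _ _ _ =>
    IsScalarTower.of_algebraMap_smul fun a x => by
      rw [← algebraMap_smul Sq (algebraMap R Rp a) x, ← IsScalarTower.algebraMap_apply, algebraMap_smul]
  haveI := tw (LocalizedModule q.primeCompl K)
  haveI := tw (LocalizedModule q.primeCompl E0)
  haveI := tw (LocalizedModule q.primeCompl E1)
  haveI := tw (LocalizedModule q.primeCompl G)
  haveI : Module.Flat R (LocalizedModule q.primeCompl E0) := FlatMor.FlatAtBC.flat_localizedModule R _ E0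
  haveI : Module.Flat R (LocalizedModule q.primeCompl E1) := FlatMor.FlatAtBC.flat_localizedModule R _ E1
  haveI : Module.Flat Rp (LocalizedModule q.primeCompl E0) :=
    (Module.flat_iff_of_isLocalization Rp p.primeCompl _).2 inferInstance
  haveI : Module.Flat Rp (LocalizedModule q.primeCompl E1) :=
    (Module.flat_iff_of_isLocalization Rp p.primeCompl _).2 inferInstance
  let f' := LocalizedModule.map q.primeCompl f
  let u' := LocalizedModule.map q.primeCompl u
  let v' := LocalizedModule.map q.primeCompl v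
  have hf' : Function.Injective f' := LocalizedModule.map_injective _ _ hf
  have hfu' : Function.Exact f' u' := LocalizedModule.map_exact _ _ _ hfu
  have huv' : Function.Exact u' v' := LocalizedModule.map_exact _ _ _ huv
  have hv' : Function.Surjective v' := LocalizedModule.map_surjective _ _ hv
  have hJ : (maximalIdeal Rp).map (algebraMap Rp Sq) = p.map (algebraMap R Sq) := by
    rw [← Localization.AtPrime.map_eq_maximalIdeal, Ideal.map_map, ← IsScalarTower.algebraMap_eq]
  set Jq := J.map (algebraMap S Sq)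
  have hdep : ∀ (X : Type u) [AddCommGroup X] [Module S X],
      LocCoh.idealDepth (J.map (algebraMap S (EGA4.FibLocRing R S q))) (EGA4.FibLocMod R S q X) =
        LocCoh.idealDepth Jq (EGA4.FibMod Rp Sq (LocalizedModule q.primeCompl X)) := by
    intro X _ _
    rw [IsScalarTower.algebraMap_eq S Sq (EGA4.FibLocRing R S q), ← Ideal.map_map,
      Depth.idealDepth_map_of_surjective Ideal.Quotient.mk_surjective]
    exact Depth.idealDepth_congr (Submodule.quotEquivOfEq _ _ (by
      show _ = EGA4.mB Rp Sq • _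
      rw [EGA4.mB, hJ]))
  set Iq := (J ^ (n + 1)).map (algebraMap S Sq)
  have hle : Iq ≤ Jq := Ideal.map_mono (Ideal.pow_le_self (by omega))
  obtain ⟨hT1, hT2⟩ : NoTors Iq (Sq ⧸ EGA4.mB Rp Sq) ∧ Ext1 Iq (Sq ⧸ EGA4.mB Rp Sq) := by
    obtain ⟨h1, h2⟩ := ExtOff6.localized q.primeCompl
      (LocalizedModule.mkLinearMap q.primeCompl (S ⧸ p.map (algebraMap R S))) hT.1 hT.2
    have hmap : (p.map (algebraMap R S)).map (algebraMap S Sq) = EGA4.mB Rp Sq := by
      rw [EGA4.mB, hJ, Ideal.map_map, ← IsScalarTower.algebraMap_eq]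
    let e : LocalizedModule q.primeCompl (S ⧸ p.map (algebraMap R S)) ≃ₗ[S] (Sq ⧸ EGA4.mB Rp Sq) :=
      (((LocalizedModule.equivTensorProduct q.primeCompl (S ⧸ p.map (algebraMap R S))).trans
        (Algebra.TensorProduct.quotIdealMapEquivTensorQuot Sq (p.map (algebraMap R S))).symm.toLinearEquiv).trans
          (Submodule.quotEquivOfEq _ _ hmap)).restrictScalars S
    exact ⟨noTors_map (noTors_of_equiv e h1), ext1_map (ext1_of_equiv e h2)⟩
  have hproj : ∀ (X : Type u) [AddCommGroup X] [Module S X] [Module.Finite S X] [Module.Projective S X],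
      2 ≤ LocCoh.idealDepth Jq (EGA4.FibMod Rp Sq (LocalizedModule q.primeCompl X)) := by
    intro X _ _ _ _
    haveI : Module.Flat Sq (LocalizedModule q.primeCompl X) :=
      Module.Flat.of_linearEquiv (LocalizedModule.equivTensorProduct q.primeCompl X)
    haveI : Module.Free Sq (LocalizedModule q.primeCompl X) := Module.free_of_flat_of_isLocalRing
    let b := (Module.finBasis Sq (LocalizedModule q.primeCompl X)).equivFun
    let e : (Fin (Module.finrank Sq (LocalizedModule q.primeCompl X)) → Sq ⧸ EGA4.mB Rp Sq) ≃ₗ[Sq]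
        EGA4.FibMod Rp Sq (LocalizedModule q.primeCompl X) :=
      ((TensorProduct.piScalarRight Sq Sq (Sq ⧸ EGA4.mB Rp Sq) _).symm.trans
        (TensorProduct.congr (LinearEquiv.refl Sq _) b.symm)).trans
          (TensorProduct.quotTensorEquivQuotSMul _ (EGA4.mB Rp Sq))
    obtain ⟨h1, h2⟩ := ExtOff6.pi hT1 hT2 (Module.finrank Sq (LocalizedModule q.primeCompl X))
    exact (ExtOff6.two_le_idealDepth (noTors_of_equiv e h1) (ext1_of_equiv e h2)).trans
      (Depth.idealDepth_mono hle)
  refine ⟨fun hGq => ?_, fun hK => ?_⟩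
  · haveI : Module.Flat R (LocalizedModule q.primeCompl G) := hGq
    haveI : Module.Flat Rp (LocalizedModule q.primeCompl G) :=
      (Module.flat_iff_of_isLocalization Rp p.primeCompl _).2 inferInstance
    refine ⟨(Module.flat_iff_of_isLocalization Rp p.primeCompl _).1
      (QGorLib.FourTermFlat.flat_left hf' hfu' huv' hv').1, ?_⟩
    rw [hdep]
    exact QGorLib.FourTermFlat.two_le_fib hf' hfu' huv' hv' (hproj E0) (one_le_two.trans (hproj E1))
  · rw [hdep] at hK
    refine (Module.flat_iff_of_isLocalization Rp p.primeCompl _).1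
      (QGorLib.FourTermFlat.flat_right hf' hfu' huv' hv' (fun Q hQ => ?_) (one_le_two.trans (hproj E0)) hK)
    have hQ' : ¬ (J ^ (n + 1)).map (algebraMap S Sq) ≤ Q.asIdeal := by
      rw [Ideal.map_pow]
      exact fun h => hQ (Ideal.IsPrime.le_of_pow_le h)
    obtain ⟨t, htJ, htQ⟩ : ∃ t ∈ J ^ (n + 1), algebraMap S Sq t ∉ Q.asIdeal := by
      by_contra hcon
      push Not at hcon
      exact hQ' (Ideal.map_le_iff_le_comap.mpr hcon)
    obtain ⟨k, a, b, hab⟩ := hG htJ
    let T := Q.asIdeal.primeCompl
    let X := LocalizedModule T (LocalizedModule q.primeCompl (Fin k → S))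
    let a' := LocalizedModule.map T (LocalizedModule.map q.primeCompl a)
    let b' := LocalizedModule.map T (LocalizedModule.map q.primeCompl b)
    obtain ⟨w, hw⟩ := (IsLocalization.map_units (Localization.AtPrime Q.asIdeal)
      (⟨algebraMap S Sq t, htQ⟩ : T)).exists_left_inv
    letI : Module Rp (LocalizedModule q.primeCompl (Fin k → S)) := Module.compHom _ (algebraMap Rp Sq)
    haveI : IsScalarTower Rp Sq (LocalizedModule q.primeCompl (Fin k → S)) :=
      IsScalarTower.of_algebraMap_smul fun _ _ => rfl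
    haveI := tw (LocalizedModule q.primeCompl (Fin k → S))
    haveI : Module.Flat R (LocalizedModule q.primeCompl (Fin k → S)) :=
      haveI : Module.Flat R (Fin k → S) := Module.Flat.trans R S (Fin k → S)
      FlatMor.FlatAtBC.flat_localizedModule R _ _
    haveI : Module.Flat Rp (LocalizedModule q.primeCompl (Fin k → S)) :=
      (Module.flat_iff_of_isLocalization Rp p.primeCompl _).2 inferInstance
    haveI : Module.Flat Rp X := FlatMor.FlatAtBC.flat_localizedModule Rp _ _
    have hba : ∀ z, b' (a' z) = algebraMap Sq (Localization.AtPrime Q.asIdeal) (algebraMap S Sq t) • z := fun z => by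
      induction z using LocalizedModule.induction_on with
      | h m s =>
        simp only [a', b', LocalizedModule.map_mk, algebraMap_smul, LocalizedModule.smul'_mk]
        congr 1
        induction m using LocalizedModule.induction_on with
        | h m' s' => simp [hab, LocalizedModule.smul'_mk]
    refine Module.Flat.of_retract (R := Rp) (M := X) (a'.restrictScalars Rp) ((w • b').restrictScalars Rp)
      (LinearMap.ext fun z => ?_)
    show w • b' (a' z) = z
    rw [hba, smul_smul, hw, one_smul]

/-- Affine form. Let A → B be a flat homomorphism of Noetherian rings, J an ideal of B such that for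
every prime q ⊇ J with contraction p the fibre local ring B_q/pB_q has depth ≥ 2, A → A′ a
homomorphism of Noetherian rings and B′ = A′ ⊗_A B the (Noetherian) pushout. Let 0 → F → E⁰ → E¹ → G
→ 0 be an exact sequence of finite B-modules with E⁰, E¹ projective and F_q, G_q free for every
prime q not containing J. Then F is reflexive; the kernel K′ of B′ ⊗_B E⁰ → B′ ⊗_B E¹ is a reflexive
B′-module with depth_{JB′} K′ ≥ 2 (so it is the module of sections of the pull-back of F off
V(JB′)); and K′ is flat over A′ with depth ≥ 2 along JB′ on every fibre stalk K′_{q′}/p′K′_{q′} if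
and only if B′ ⊗_B G is flat over A′. (The published statement phrases the last left-hand condition
as the relative S₂ condition of K′ over A′; the two agree when the fibres of Spec B′ → Spec A′
satisfy S₂ off V(JB′), and without that the relative S₂ form fails already for A = A′ a field, J =
B, F = E⁰ = B not S₂ and E¹ = G = 0, so the fibrewise-depth form, which is what the proof
establishes, is stated.) -/
theorem result (A B : Type u) [CommRing A] [CommRing B] [IsNoetherianRing A] [IsNoetherianRing B] [Algebra A B]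
    (A' B' : Type u) [CommRing A'] [CommRing B'] [IsNoetherianRing A'] [IsNoetherianRing B']
    [Algebra A A'] [Algebra B B'] [Algebra A' B'] [Algebra A B'] [IsScalarTower A B B'] [IsScalarTower A A' B']
    [Algebra.IsPushout A B A' B'] [Module.Flat A B] (J : Ideal B)
    (hZ : ∀ q : PrimeSpectrum B, J ≤ q.asIdeal →
      2 ≤ LocCoh.idealDepth (q.asIdeal.map (algebraMap B (EGA4.FibLocRing A B q.asIdeal))) (EGA4.FibLocRing A B q.asIdeal))
    (F E0 E1 G : Type u) [AddCommGroup F] [Module B F] [Module.Finite B F]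
    [AddCommGroup E0] [Module B E0] [Module.Finite B E0] [Module.Projective B E0]
    [AddCommGroup E1] [Module B E1] [Module.Finite B E1] [Module.Projective B E1]
    [AddCommGroup G] [Module B G] [Module.Finite B G]
    (f : F →ₗ[B] E0) (u : E0 →ₗ[B] E1) (v : E1 →ₗ[B] G)
    (hf : Function.Injective f) (hfu : Function.Exact f u) (huv : Function.Exact u v) (hv : Function.Surjective v)
    (hFU : ∀ q : PrimeSpectrum B, ¬ J ≤ q.asIdeal → Module.Free (Localization.AtPrime q.asIdeal) (LocalizedModule q.asIdeal.primeCompl F))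
    (hGU : ∀ q : PrimeSpectrum B, ¬ J ≤ q.asIdeal → Module.Free (Localization.AtPrime q.asIdeal) (LocalizedModule q.asIdeal.primeCompl G)) :
    Module.IsReflexive B F ∧
    Module.IsReflexive B' (LinearMap.ker (u.baseChange B')) ∧
    2 ≤ LocCoh.idealDepth (J.map (algebraMap B B')) (LinearMap.ker (u.baseChange B')) ∧
    ((∀ q' : PrimeSpectrum B', FlatCA.FlatAt A' q'.asIdeal (LinearMap.ker (u.baseChange B')) ∧
        2 ≤ LocCoh.idealDepth ((J.map (algebraMap B B')).map (algebraMap B' (EGA4.FibLocRing A' B' q'.asIdeal)))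
          (EGA4.FibLocMod A' B' q'.asIdeal (LinearMap.ker (u.baseChange B')))) ↔
      Module.Flat A' (B' ⊗[B] G)) := by
  obtain ⟨n, hn0⟩ := exists_pow_le J hGU
  have hn : J ^ (n + 1) ≤ factorIdeal G := (Ideal.pow_le_pow_right (Nat.le_succ n)).trans hn0
  set I' := (J ^ (n + 1)).map (algebraMap B B')
  have hfib : ∀ q : PrimeSpectrum B, J ≤ q.asIdeal →
      2 ≤ LocCoh.idealDepth (q.asIdeal.map (algebraMap B (EGA4.FibLocRing A B q.asIdeal))) (EGA4.FibLocMod A B q.asIdeal B) :=
    fun q hq => (hZ q hq).trans_eq (QGorLib.FibDepth.idealDepth_fibLocMod_self _ _).symm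
  have hten : ∀ (N : Type u) [AddCommGroup N] [Module A N],
      NoTors (J ^ (n + 1)) (B ⊗[A] N) ∧ Ext1 (J ^ (n + 1)) (B ⊗[A] N) := fun N _ _ =>
    ExtOff6.tensor B J (n + 1) hfib N
  obtain ⟨hB1, hB2⟩ : NoTors (J ^ (n + 1)) B ∧ Ext1 (J ^ (n + 1)) B := by
    obtain ⟨h1, h2⟩ := hten A
    exact ⟨noTors_of_equiv (AlgebraTensorModule.rid A B B) h1, ext1_of_equiv (AlgebraTensorModule.rid A B B) h2⟩
  let eB : (B ⊗[A] A') ≃ₗ[B] B' := (Algebra.IsPushout.equiv A B A' B').toLinearEquiv
  obtain ⟨hB'1, hB'2⟩ : NoTors I' B' ∧ Ext1 I' B' := by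
    obtain ⟨h1, h2⟩ := hten A'
    exact ⟨noTors_map (noTors_of_equiv eB h1), ext1_map (ext1_of_equiv eB h2)⟩
  have hρ : ∀ t ∈ J ^ (n + 1), ∃ (ρ : E0 →ₗ[B] F) (σ : E1 →ₗ[B] E0), ∀ x, f (ρ x) = t • x - σ (u x) :=
    fun t ht => exists_rho f u v hf hfu huv hv (hn ht)
  set u' := u.baseChange B'
  set K := LinearMap.ker u'
  have hKfac : I' ≤ factorIdeal K := by
    refine Ideal.map_le_iff_le_comap.mpr fun t ht => ?_
    obtain ⟨ρ, σ, h⟩ := hρ t ht
    have hmem : ∀ x, (f ∘ₗ ρ).baseChange B' x ∈ K := fun x => by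
      rw [LinearMap.mem_ker, ← LinearMap.comp_apply u', ← LinearMap.baseChange_comp,
        ← LinearMap.comp_assoc, hfu.linearMap_comp_eq_zero, LinearMap.zero_comp]
      simp
    haveI : Module.Finite B' (B' ⊗[B] E0) := Module.Finite.base_change B B' E0
    refine factors_of_rho (B := B') (F := K) (E := B' ⊗[B] E0) (t := algebraMap B B' t) K.subtype
      (((f ∘ₗ ρ).baseChange B').codRestrict K hmem) fun x => Subtype.ext ?_
    show (f ∘ₗ ρ).baseChange B' (x : B' ⊗[B] E0) = algebraMap B B' t • (x : B' ⊗[B] E0)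
    rw [show f ∘ₗ ρ = t • LinearMap.id - σ ∘ₗ u from LinearMap.ext h, LinearMap.baseChange_sub,
      LinearMap.baseChange_smul, LinearMap.baseChange_id, LinearMap.sub_apply, LinearMap.baseChange_comp,
      LinearMap.comp_apply, show u.baseChange B' (x : B' ⊗[B] E0) = 0 from x.2, map_zero, sub_zero,
      LinearMap.smul_apply, LinearMap.id_apply, algebraMap_smul]
  obtain ⟨hF1, hF2⟩ : NoTors (J ^ (n + 1)) F ∧ Ext1 (J ^ (n + 1)) F := by
    obtain ⟨a1, a2⟩ := of_projective hB1 hB2 E0
    obtain ⟨c1, -⟩ := of_projective hB1 hB2 E1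
    obtain ⟨k1, k2⟩ := ExtOff6.kernel u a1 a2 c1
    let e : LinearMap.ker u ≃ₗ[B] F :=
      (LinearEquiv.ofEq _ _ (LinearMap.exact_iff.mp hfu)).trans (LinearEquiv.ofInjective f hf).symm
    exact ⟨noTors_of_equiv e k1, ext1_of_equiv e k2⟩
  obtain ⟨hK1, hK2⟩ : NoTors I' K ∧ Ext1 I' K := by
    obtain ⟨a1, a2⟩ := of_projective hB'1 hB'2 (B' ⊗[B] E0)
    obtain ⟨c1, -⟩ := of_projective hB'1 hB'2 (B' ⊗[B] E1)
    exact ExtOff6.kernel u' a1 a2 c1
  have hI'J : I' ≤ J.map (algebraMap B B') := Ideal.map_mono (Ideal.pow_le_self (by omega))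
  haveI : Module.Finite B' K := Module.Finite.iff_fg.mpr (IsNoetherian.noetherian _)
  refine ⟨⟨ExtOff6.bijective (I := J ^ (n + 1)) _ (fun t ht => ?_) hF1 hF2 (noTors_hom hB1)⟩,
    ⟨ExtOff6.bijective (I := I') _ (fun t ht => eval_quasiInverse (show Factors K t from hKfac ht)) hK1 hK2 (noTors_hom hB'1)⟩,
    (ExtOff6.two_le_idealDepth hK1 hK2).trans (Depth.idealDepth_mono hI'J), ?_⟩
  · obtain ⟨ρ, σ, h⟩ := hρ t ht
    refine eval_quasiInverse (factors_of_rho f ρ fun x => hf ?_)
    rw [h, hfu.apply_apply_eq_zero, map_zero, sub_zero, map_smul]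
  let v' := v.baseChange B'
  haveI : Module.Flat A' B' :=
    Module.Flat.isBaseChange A A' B B' (Algebra.IsPushout.symm (inferInstance : Algebra.IsPushout A B A' B')).out
  haveI : Module.Flat A' (B' ⊗[B] E0) := Module.Flat.trans A' B' _
  haveI : Module.Flat A' (B' ⊗[B] E1) := Module.Flat.trans A' B' _
  have hK' : Function.Exact K.subtype u' := LinearMap.exact_iff.mpr (Submodule.range_subtype K).symm
  have hex : Function.Exact u' v' := by
    have := lTensor_exact B' huv hv
    exact fun z => this z
  have hsur : Function.Surjective v' := LinearMap.lTensor_surjective B' hv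
  have hG' : (J.map (algebraMap B B')) ^ (n + 1) ≤ factorIdeal (B' ⊗[B] G) := by
    rw [← Ideal.map_pow]
    exact Ideal.map_le_iff_le_comap.mpr fun s hs => factors_baseChange B' (hn hs)
  have hat : ∀ q' : PrimeSpectrum B', _ := fun q' =>
    at_prime A' B' K (B' ⊗[B] E0) (B' ⊗[B] E1) (B' ⊗[B] G) K.subtype u' v' K.injective_subtype hK' hex hsur
      (J.map (algebraMap B B')) n hG' q'.asIdeal (by
        let p' := q'.asIdeal.comap (algebraMap A' B')
        obtain ⟨h1, h2⟩ := hten (A' ⧸ p')
        let e : (B ⊗[A] (A' ⧸ p')) ≃ₗ[B] (B' ⧸ p'.map (algebraMap A' B')) :=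
          (Algebra.IsPushout.cancelBaseChange A B A' B' (A' ⧸ p')).symm.trans
            ((Algebra.TensorProduct.quotIdealMapEquivTensorQuot B' p').symm.toLinearEquiv.restrictScalars B)
        rw [← Ideal.map_pow]
        exact ⟨noTors_map (noTors_of_equiv e h1), ext1_map (ext1_of_equiv e h2)⟩)
  constructor
  · intro h
    exact Module.flat_of_isLocalized_maximal B' _ (fun Q _ => LocalizedModule Q.primeCompl (B' ⊗[B] G))
      (fun Q _ => LocalizedModule.mkLinearMap Q.primeCompl _)
      fun Q hQ => (hat ⟨Q, hQ.isPrime⟩).2 (h ⟨Q, hQ.isPrime⟩).2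
  · intro h q'
    exact (hat q').1 (FlatMor.FlatAtBC.flat_localizedModule A' _ _)

end Groth.Agent.S18711
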