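import Groth.Statements.S18712
import Groth.Agent.S2Crit6.Core
import Groth.Agent.FlatDVR.Test
import Mathlib.RingTheory.FiniteType

set_option autoImplicit false
universe u
open QGor

namespace Groth.Agent.S18712

open TensorProduct in
/-- Infinitesimal criterion, affine-local form. Let R be a Noetherian local ring with maximal ideal m, C
a finitely generated flat R-algebra, y = n a prime of C over m at which the fibre C_n/mC_n satisfies
S₂ (the structure morphism satisfies relative S₂ at y), and F a finite reflexive C-module which is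
free at every prime not containing an ideal J such that every fibre local ring C_q/pC_q at primes q
⊇ J has dimension ≥ 2 (F is locally free in codimension one on each fibre). Suppose that for every
surjective homomorphism R → A′ onto an Artinian local ring and the Noetherian pushout C′ = A′ ⊗_R C,
at every prime q′ of C′ lying over n the double dual (C′ ⊗_C F)^∨∨ is flat over A′ at q′ and its
fibre stalk satisfies S₂. Then F is flat over R at n and the fibre stalk F_n/mF_n satisfies S₂ (F
satisfies relative S₂ at y). Test rings A′ range over the universe of R. -/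
theorem result (R C : Type u) [CommRing R] [CommRing C] [IsNoetherianRing R] [IsLocalRing R] [IsNoetherianRing C]
    [Algebra R C] [Module.Flat R C] (hft : Algebra.FiniteType R C)
    (n : PrimeSpectrum C) (hn : (IsLocalRing.maximalIdeal R).map (algebraMap R C) ≤ n.asIdeal)
    (hS2 : LocCoh.HasSk 2 (EGA4.FibLocRing R C n.asIdeal) (EGA4.FibLocRing R C n.asIdeal))
    (F : Type u) [AddCommGroup F] [Module C F] [Module R F] [IsScalarTower R C F] [Module.Finite C F]
    [Module.IsReflexive C F] (J : Ideal C)
    (hFU : ∀ q : PrimeSpectrum C, ¬ J ≤ q.asIdeal → Module.Free (Localization.AtPrime q.asIdeal) (LocalizedModule q.asIdeal.primeCompl F))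
    (hcodim : ∀ q : PrimeSpectrum C, J ≤ q.asIdeal → (2 : WithBot ℕ∞) ≤ ringKrullDim (EGA4.FibLocRing R C q.asIdeal))
    (hI : ∀ (A' : Type u) [CommRing A'] [IsArtinianRing A'] [IsLocalRing A'] [Algebra R A'],
      Function.Surjective (algebraMap R A') →
      ∀ (C' : Type u) [CommRing C'] [IsNoetherianRing C'] [Algebra C C'] [Algebra A' C'] [Algebra R C']
        [IsScalarTower R C C'] [IsScalarTower R A' C'], Algebra.IsPushout R C A' C' →
        ∀ q' : PrimeSpectrum C', q'.asIdeal.comap (algebraMap C C') = n.asIdeal →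
          FlatCA.FlatAt A' q'.asIdeal (Module.Dual C' (Module.Dual C' (C' ⊗[C] F))) ∧
          LocCoh.HasSk 2 (EGA4.FibLocRing A' C' q'.asIdeal)
            (EGA4.FibLocMod A' C' q'.asIdeal (Module.Dual C' (Module.Dual C' (C' ⊗[C] F))))) :
    FlatCA.FlatAt R n.asIdeal F ∧ LocCoh.HasSk 2 (EGA4.FibLocRing R C n.asIdeal) (EGA4.FibLocMod R C n.asIdeal F) := by
  classical
  haveI := hft
  have hn' : n.asIdeal.comap (algebraMap R C) = IsLocalRing.maximalIdeal R :=
    le_antisymm (IsLocalRing.le_maximalIdeal (Ideal.IsPrime.comap _).ne_top) (Ideal.map_le_iff_le_comap.mp hn)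
  obtain ⟨a, b, f, u, N, hf, hfu, -, hNG⟩ := S2Crit6.exists_resolution F J hFU
  refine S2Crit6.forward n.asIdeal f u hn' hS2 hf hfu ?_
  have h2 := S2Crit6.two_le_fibRing n.asIdeal J hn' hS2 hcodim
  let G := (Fin b → C) ⧸ LinearMap.range u
  let Cn := Localization.AtPrime n.asIdeal
  haveI : IsLocalHom (algebraMap R Cn) := ⟨fun x hx => by
    by_contra hxu
    have hxm : algebraMap R C x ∈ n.asIdeal := by
      show x ∈ n.asIdeal.comap (algebraMap R C)
      rw [hn']; exact hxu
    rw [IsScalarTower.algebraMap_apply R C Cn] at hx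
    exact (IsLocalization.AtPrime.isUnit_to_map_iff Cn n.asIdeal _).mp hx hxm⟩
  haveI : Module.Finite Cn (LocalizedModule n.asIdeal.primeCompl G) :=
    Module.Finite.of_isLocalizedModule n.asIdeal.primeCompl (LocalizedModule.mkLinearMap n.asIdeal.primeCompl G)
  show Module.Flat R (LocalizedModule n.asIdeal.primeCompl G)
  refine FlatDVR.flat_of_killed (S := Cn) _ fun k => ?_
  let A' := R ⧸ IsLocalRing.maximalIdeal R ^ k
  rcases subsingleton_or_nontrivial A' with hA | hA
  · haveI : Subsingleton (A' ⊗[R] LocalizedModule n.asIdeal.primeCompl G) := Module.subsingleton A' _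
    infer_instance
  haveI : IsLocalRing A' := IsLocalRing.of_surjective' (Ideal.Quotient.mk _) Ideal.Quotient.mk_surjective
  haveI : IsLocalHom (algebraMap R A') := .of_surjective _ Ideal.Quotient.mk_surjective
  haveI : IsArtinianRing A' := by
    rw [isArtinianRing_iff_isNilpotent_maximalIdeal]
    refine ⟨k, ?_⟩
    rw [← IsLocalRing.map_maximalIdeal_of_surjective (algebraMap R A') Ideal.Quotient.mk_surjective, ← Ideal.map_pow]
    exact Ideal.map_quotient_self _
  letI : Algebra C (A' ⊗[R] C) := Algebra.TensorProduct.rightAlgebra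
  let C' := A' ⊗[R] C
  haveI : Algebra.IsPushout R C A' C' := TensorProduct.isPushout'
  haveI : IsNoetherianRing C' := Algebra.FiniteType.isNoetherianRing A' C'
  have hsurj : Function.Surjective (algebraMap C C') := fun z => by
    induction z using TensorProduct.induction_on with
    | zero => exact ⟨0, map_zero _⟩
    | tmul r c =>
      obtain ⟨r, rfl⟩ := Ideal.Quotient.mk_surjective r
      refine ⟨r • c, ?_⟩
      show (1 : A') ⊗ₜ[R] (r • c) = _
      rw [← TensorProduct.smul_tmul, Algebra.smul_def, mul_one]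
      rfl
    | add x y hx hy =>
      obtain ⟨c, rfl⟩ := hx
      obtain ⟨d, rfl⟩ := hy
      exact ⟨c + d, map_add _ c d⟩
  have key : Module.Flat (A' ⧸ (⊥ : Ideal A')) ((A' ⧸ (⊥ : Ideal A')) ⊗[R] LocalizedModule n.asIdeal.primeCompl G) := by
    refine S2Crit6.descend (C' := C') n.asIdeal G ⊥ fun Q hQ _ hQn => ?_
    obtain ⟨q, hq, hqn, hqA⟩ := FlatMor.FlatAtBC.exists_prime_of_pushout (R := R) (S := C) (R' := A') (S' := C')
      (IsLocalRing.maximalIdeal R) n.asIdeal (IsLocalRing.maximalIdeal A') hn'
      (((IsLocalRing.local_hom_TFAE (algebraMap R A')).out 0 4).mp ‹IsLocalHom (algebraMap R A')›)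
    refine ⟨⟨q, hq⟩, ?_, ?_⟩
    · show Q ≤ q
      rw [← Ideal.map_comap_of_surjective _ hsurj Q, ← Ideal.map_comap_of_surjective _ hsurj q, hqn]
      exact Ideal.map_mono hQn
    obtain ⟨hD1, hD2⟩ := hI A' Ideal.Quotient.mk_surjective C' inferInstance ⟨q, hq⟩ hqn
    exact S2Crit6.core n.asIdeal J f u hn' h2 N hf hfu hNG q hqn hqA hD1 hD2
  letI : Algebra (A' ⧸ (⊥ : Ideal A')) A' := (RingEquiv.quotientBot A').toRingHom.toAlgebra
  haveI : IsScalarTower R (A' ⧸ (⊥ : Ideal A')) A' := IsScalarTower.of_algebraMap_eq (R := R) (S := A' ⧸ (⊥ : Ideal A')) (A := A') fun _ => rfl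
  exact FlatNilp.flat_baseChange_of_tower (R := R) (A' ⧸ (⊥ : Ideal A')) A' _

end Groth.Agent.S18712
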