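import Groth.Statements.S18713
import Groth.Agent.S2Crit6.Core
import Groth.Agent.FlatDVR.Main
import Mathlib.RingTheory.FiniteType
import Mathlib.RingTheory.Ideal.GoingUp

set_option autoImplicit false
universe u
open QGor

namespace Groth.Agent.S18713

open TensorProduct in
/-- Valuative criterion, affine-local form. Let R be a Noetherian local ring with maximal ideal m, C a
finitely generated flat R-algebra, y = n a prime of C over m at which the fibre C_n/mC_n satisfies
S₂ (the structure morphism satisfies relative S₂ at y), and F a finite reflexive C-module which is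
free at every prime not containing an ideal J such that every fibre local ring C_q/pC_q at primes q
⊇ J has dimension ≥ 2 (F is locally free in codimension one on each fibre). Assume R is reduced, and
that for every local homomorphism R → D to a discrete valuation ring and the Noetherian pushout C′ =
D ⊗_R C, at every prime q′ of C′ lying over n and over the closed point of D the double dual (C′ ⊗_C
F)^∨∨ is flat over D at q′ and its fibre stalk satisfies S₂. Then F is flat over R at n and F_n/mF_n
satisfies S₂ (F satisfies relative S₂ at y). Test rings D range over the universe of R. -/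
theorem result (R C : Type u) [CommRing R] [CommRing C] [IsNoetherianRing R] [IsLocalRing R] [IsNoetherianRing C]
    [Algebra R C] [Module.Flat R C] (hft : Algebra.FiniteType R C)
    (n : PrimeSpectrum C) (hn : (IsLocalRing.maximalIdeal R).map (algebraMap R C) ≤ n.asIdeal)
    (hS2 : LocCoh.HasSk 2 (EGA4.FibLocRing R C n.asIdeal) (EGA4.FibLocRing R C n.asIdeal))
    (F : Type u) [AddCommGroup F] [Module C F] [Module R F] [IsScalarTower R C F] [Module.Finite C F]
    [Module.IsReflexive C F] (J : Ideal C)
    (hFU : ∀ q : PrimeSpectrum C, ¬ J ≤ q.asIdeal → Module.Free (Localization.AtPrime q.asIdeal) (LocalizedModule q.asIdeal.primeCompl F))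
    (hcodim : ∀ q : PrimeSpectrum C, J ≤ q.asIdeal → (2 : WithBot ℕ∞) ≤ ringKrullDim (EGA4.FibLocRing R C q.asIdeal)) [IsReduced R]
    (hII : ∀ (D : Type u) [CommRing D] [IsDomain D] [IsDiscreteValuationRing D] [Algebra R D],
      IsLocalHom (algebraMap R D) →
      ∀ (C' : Type u) [CommRing C'] [IsNoetherianRing C'] [Algebra C C'] [Algebra D C'] [Algebra R C']
        [IsScalarTower R C C'] [IsScalarTower R D C'], Algebra.IsPushout R C D C' →
        ∀ q' : PrimeSpectrum C', q'.asIdeal.comap (algebraMap C C') = n.asIdeal →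
          (IsLocalRing.maximalIdeal D).map (algebraMap D C') ≤ q'.asIdeal →
          FlatCA.FlatAt D q'.asIdeal (Module.Dual C' (Module.Dual C' (C' ⊗[C] F))) ∧
          LocCoh.HasSk 2 (EGA4.FibLocRing D C' q'.asIdeal)
            (EGA4.FibLocMod D C' q'.asIdeal (Module.Dual C' (Module.Dual C' (C' ⊗[C] F))))) :
    FlatCA.FlatAt R n.asIdeal F ∧ LocCoh.HasSk 2 (EGA4.FibLocRing R C n.asIdeal) (EGA4.FibLocMod R C n.asIdeal F) := by
  classical
  haveI := hft
  have hn' : n.asIdeal.comap (algebraMap R C) = IsLocalRing.maximalIdeal R :=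
    le_antisymm (IsLocalRing.le_maximalIdeal (Ideal.IsPrime.comap _).ne_top) (Ideal.map_le_iff_le_comap.mp hn)
  obtain ⟨a, b, f, u, N, hf, hfu, -, hNG⟩ := S2Crit6.exists_resolution F J hFU
  refine S2Crit6.forward n.asIdeal f u hn' hS2 hf hfu ?_
  have h2 := S2Crit6.two_le_fibRing n.asIdeal J hn' hS2 hcodim
  let G := (Fin b → C) ⧸ LinearMap.range u
  let Cn := Localization.AtPrime n.asIdeal
  haveI : IsLocalHom (algebraMap R Cn) := ⟨fun x hx => by
    by_contra hxu
    have hxm : algebraMap R C x ∈ n.asIdeal := by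
      show x ∈ n.asIdeal.comap (algebraMap R C)
      rw [hn']; exact hxu
    rw [IsScalarTower.algebraMap_apply R C Cn] at hx
    exact (IsLocalization.AtPrime.isUnit_to_map_iff Cn n.asIdeal _).mp hx hxm⟩
  haveI : Module.Finite Cn (LocalizedModule n.asIdeal.primeCompl G) :=
    Module.Finite.of_isLocalizedModule n.asIdeal.primeCompl (LocalizedModule.mkLinearMap n.asIdeal.primeCompl G)
  haveI : Algebra.EssFiniteType C Cn := Algebra.EssFiniteType.of_isLocalization Cn n.asIdeal.primeCompl
  haveI : Algebra.EssFiniteType R Cn := Algebra.EssFiniteType.comp R C Cn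
  show Module.Flat R (LocalizedModule n.asIdeal.primeCompl G)
  refine FlatDVR.flat_of_artinTest (B := Cn) _ fun V _ _ _ _ hloc hfin k => ?_
  letI : Algebra C (V ⊗[R] C) := Algebra.TensorProduct.rightAlgebra
  let C' := V ⊗[R] C
  haveI : Algebra.IsPushout R C V C' := TensorProduct.isPushout'
  haveI : IsNoetherianRing C' := Algebra.FiniteType.isNoetherianRing V C'
  refine S2Crit6.descend (C' := C') n.asIdeal G (IsLocalRing.maximalIdeal V ^ k) fun Q hQ hI hQn => ?_
  haveI := hQ
  have hmQ : IsLocalRing.maximalIdeal V ≤ Q.comap (algebraMap V C') := fun r hr =>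
    hQ.mem_of_pow_mem k (by
      rw [← map_pow]; exact hI (Ideal.mem_map_of_mem _ (Ideal.pow_mem_pow hr k)))
  let πQ := Ideal.Quotient.mk Q
  let ψ : C →+* C' ⧸ Q := πQ.comp (algebraMap C C')
  have hint : ψ.IsIntegral := by
    intro z
    obtain ⟨z, rfl⟩ := Ideal.Quotient.mk_surjective z
    induction z using TensorProduct.induction_on with
    | zero => rw [map_zero]; exact ψ.isIntegralElem_zero
    | add c d hc hd => rw [map_add]; exact hc.add _ hd
    | tmul v c =>
      have e : (v ⊗ₜ c : C') = algebraMap V C' v * algebraMap C C' c := by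
        show _ = (v ⊗ₜ[R] (1 : C)) * ((1 : V) ⊗ₜ[R] c)
        rw [Algebra.TensorProduct.tmul_mul_tmul, mul_one, one_mul]
      rw [e, map_mul]
      refine RingHom.IsIntegralElem.mul _ ?_ (ψ.isIntegralElem_map (x := c))
      obtain ⟨p, hp, hpz⟩ := (RingHom.Finite.to_isIntegral hfin) (IsLocalRing.residue V v)
      refine ⟨p.map (algebraMap R C), hp.map _, ?_⟩
      let ρ : IsLocalRing.ResidueField V →+* C' ⧸ Q :=
        Ideal.Quotient.lift _ (πQ.comp (algebraMap V C')) fun r hr =>
          Ideal.Quotient.eq_zero_iff_mem.mpr (hmQ hr)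
      have hcomp : ψ.comp (algebraMap R C) = ρ.comp ((IsLocalRing.residue V).comp (algebraMap R V)) := by
        ext r
        show πQ (algebraMap C C' (algebraMap R C r)) = πQ (algebraMap V C' (algebraMap R V r))
        rw [← IsScalarTower.algebraMap_apply R C C', ← IsScalarTower.algebraMap_apply R V C']
      rw [Polynomial.eval₂_map, hcomp, show πQ (algebraMap V C' v) = ρ (IsLocalRing.residue V v) from rfl,
        ← Polynomial.hom_eval₂]
      exact (congrArg ρ hpz).trans (map_zero ρ)
  letI := ψ.toAlgebra
  haveI : Algebra.IsIntegral C (C' ⧸ Q) := ⟨hint⟩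
  obtain ⟨P, -, hP, hPn⟩ := Ideal.exists_ideal_over_prime_of_isIntegral (S := C' ⧸ Q) n.asIdeal ⊥ (by
    show RingHom.ker ψ ≤ n.asIdeal
    rw [← RingHom.comap_ker, Ideal.mk_ker]
    exact hQn)
  haveI := hP
  let q : PrimeSpectrum C' := ⟨P.comap πQ, Ideal.IsPrime.comap _⟩
  have hQq : Q ≤ q.asIdeal := fun x hx => by
    show πQ x ∈ P
    rw [Ideal.Quotient.eq_zero_iff_mem.mpr hx]
    exact zero_mem _
  have hqn : q.asIdeal.comap (algebraMap C C') = n.asIdeal := by
    rw [← hPn]; rfl
  have hqV : IsLocalRing.maximalIdeal V ≤ q.asIdeal.comap (algebraMap V C') := hmQ.trans (Ideal.comap_mono hQq)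
  refine ⟨q, hQq, ?_⟩
  obtain ⟨hD1, hD2⟩ := hII V hloc C' inferInstance q hqn (Ideal.map_le_iff_le_comap.mpr hqV)
  exact S2Crit6.core n.asIdeal J f u hn' h2 N hf hfu hNG q.asIdeal hqn
    (le_antisymm (IsLocalRing.le_maximalIdeal (Ideal.IsPrime.comap _).ne_top) hqV) hD1 hD2

end Groth.Agent.S18713
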