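import Groth.Statements.S18714
import Groth.Agent.S2Crit6.Core
import Groth.Agent.S2Crit6.FibreS2
import Groth.Agent.S1229
import Groth.Agent.FlatMor.EssStage.Transfer
import Mathlib.RingTheory.EssentialFiniteness
import Mathlib.RingTheory.Localization.BaseChange

set_option autoImplicit false
universe u
open QGor

namespace Groth.Agent.S18714

open TensorProduct in
/-- Affine form. Let R be a Henselian Noetherian local ring with maximal ideal m, C a finitely generated
flat R-algebra all of whose fibre local rings C_q/pC_q satisfy S₂ (an S₂-morphism), F a finite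
reflexive C-module free at every prime not containing an ideal J such that every fibre local ring at
primes q ⊇ J has dimension ≥ 2 (locally free in codimension one on each fibre), and y = n a prime of
C over m. Then there is an ideal 𝔞 of R (a closed subscheme S of Spec R) with the universal
property: for every local homomorphism R → R′ to a Noetherian local ring and the Noetherian pushout
C′ = R′ ⊗_R C, the double dual (C′ ⊗_C F)^∨∨ is flat over R′ with S₂ fibre stalk at every prime q′
of C′ lying over n and over the closed point of R′ (it satisfies relative S₂ there) if and only if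
𝔞R′ = 0 (Spec R′ → Spec R factors through S). Test rings R′ range over the universe of R. -/
theorem result (R C : Type u) [CommRing R] [CommRing C]
    [IsNoetherianRing R] [HenselianLocalRing R] [IsNoetherianRing C] [Algebra R C] [Module.Flat R C]
    (hft : Algebra.FiniteType R C)
    (hS2 : ∀ q : PrimeSpectrum C, LocCoh.HasSk 2 (EGA4.FibLocRing R C q.asIdeal) (EGA4.FibLocRing R C q.asIdeal))
    (F : Type u) [AddCommGroup F] [Module C F] [Module.Finite C F] [Module.IsReflexive C F] (J : Ideal C)
    (hFU : ∀ q : PrimeSpectrum C, ¬ J ≤ q.asIdeal → Module.Free (Localization.AtPrime q.asIdeal) (LocalizedModule q.asIdeal.primeCompl F))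
    (hcodim : ∀ q : PrimeSpectrum C, J ≤ q.asIdeal → (2 : WithBot ℕ∞) ≤ ringKrullDim (EGA4.FibLocRing R C q.asIdeal))
    (n : PrimeSpectrum C) (hn : (IsLocalRing.maximalIdeal R).map (algebraMap R C) ≤ n.asIdeal) :
    ∃ 𝔞 : Ideal R, ∀ (R' : Type u) [CommRing R'] [IsNoetherianRing R'] [IsLocalRing R'] [Algebra R R'],
      IsLocalHom (algebraMap R R') →
      ∀ (C' : Type u) [CommRing C'] [IsNoetherianRing C'] [Algebra C C'] [Algebra R' C'] [Algebra R C']
        [IsScalarTower R C C'] [IsScalarTower R R' C'], Algebra.IsPushout R C R' C' →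
        ((∀ q' : PrimeSpectrum C', q'.asIdeal.comap (algebraMap C C') = n.asIdeal →
            (IsLocalRing.maximalIdeal R').map (algebraMap R' C') ≤ q'.asIdeal →
            FlatCA.FlatAt R' q'.asIdeal (Module.Dual C' (Module.Dual C' (C' ⊗[C] F))) ∧
            LocCoh.HasSk 2 (EGA4.FibLocRing R' C' q'.asIdeal)
              (EGA4.FibLocMod R' C' q'.asIdeal (Module.Dual C' (Module.Dual C' (C' ⊗[C] F))))) ↔
          𝔞.map (algebraMap R R') = ⊥) := by
  classical
  haveI := hft
  have hn' : n.asIdeal.comap (algebraMap R C) = IsLocalRing.maximalIdeal R :=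
    le_antisymm (IsLocalRing.le_maximalIdeal (Ideal.IsPrime.comap _).ne_top) (Ideal.map_le_iff_le_comap.mp hn)
  obtain ⟨a, b, f, u, N, hf, hfu, -, hNG⟩ := S2Crit6.exists_resolution F J hFU
  have h2 := S2Crit6.two_le_fibRing n.asIdeal J hn' (hS2 n) hcodim
  let G := (Fin b → C) ⧸ LinearMap.range u
  let T0 := n.asIdeal.primeCompl
  let Cn := Localization.AtPrime n.asIdeal
  let Gn := LocalizedModule T0 G
  haveI : IsLocalHom (algebraMap R Cn) := ⟨fun x hx => by
    by_contra hxu
    have hxm : algebraMap R C x ∈ n.asIdeal := by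
      show x ∈ n.asIdeal.comap (algebraMap R C)
      rw [hn']; exact hxu
    rw [IsScalarTower.algebraMap_apply R C Cn] at hx
    exact (IsLocalization.AtPrime.isUnit_to_map_iff Cn n.asIdeal _).mp hx hxm⟩
  haveI : Module.Finite Cn Gn :=
    Module.Finite.of_isLocalizedModule T0 (LocalizedModule.mkLinearMap T0 G)
  haveI : Algebra.EssFiniteType C Cn := Algebra.EssFiniteType.of_isLocalization Cn T0
  haveI : Algebra.EssFiniteType R Cn := Algebra.EssFiniteType.comp R C Cn
  obtain ⟨I, hI, -⟩ := S1229.result (A := R) (B := Cn) Gn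
  refine ⟨I, fun R' _ _ _ _ hloc C' _ _ _ _ _ _ _ hpush => ?_⟩
  haveI := hloc
  haveI := hpush
  -- the localisation of the base change
  let T := Algebra.algebraMapSubmonoid C' T0
  let B' := Localization T
  have hunit : ∀ y : T0, IsUnit (algebraMap C B' y) := fun y => by
    rw [IsScalarTower.algebraMap_apply C C' B']
    exact IsLocalization.map_units B' (⟨_, y, y.2, rfl⟩ : T)
  letI : Algebra Cn B' := (IsLocalization.lift hunit : Cn →+* B').toAlgebra
  haveI : IsScalarTower C Cn B' := IsScalarTower.of_algebraMap_eq fun x => (IsLocalization.lift_eq hunit x).symm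
  haveI : IsScalarTower R Cn B' := IsScalarTower.of_algebraMap_eq fun x => by
    rw [IsScalarTower.algebraMap_apply R C Cn, ← IsScalarTower.algebraMap_apply C Cn B',
      IsScalarTower.algebraMap_apply C C' B', ← IsScalarTower.algebraMap_apply R C C',
      ← IsScalarTower.algebraMap_apply R C' B']
  haveI : Algebra.IsPushout C Cn C' B' :=
    Algebra.IsPushout.symm (Algebra.isPushout_of_isLocalization T0 Cn C' B')
  haveI : Algebra.IsPushout R Cn R' B' :=
    (Algebra.IsPushout.comp_iff R C R' C').mpr inferInstance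
  let M' := B' ⊗[Cn] Gn
  let f1 : Gn →ₗ[Cn] M' := TensorProduct.mk Cn B' Gn 1
  have hf1 : IsBaseChange B' f1 := TensorProduct.isBaseChange Cn Gn B'
  have hm : IsBaseChange Cn (LocalizedModule.mkLinearMap T0 G) :=
    (isLocalizedModule_iff_isBaseChange T0 Cn _).mp inferInstance
  let h := (TensorProduct.isBaseChange C G C').lift ((f1.restrictScalars C) ∘ₗ LocalizedModule.mkLinearMap T0 G)
  have hh : IsBaseChange B' h := by
    refine IsBaseChange.of_comp (TensorProduct.isBaseChange C G C') ?_
    rw [IsBaseChange.lift_comp]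
    exact hm.comp hf1
  haveI : IsLocalizedModule T h := (isLocalizedModule_iff_isBaseChange T B' h).mpr hh
  have key : ∀ (q : Ideal B') [q.IsPrime],
      FlatCA.FlatAt R' (q.comap (algebraMap C' B')) (C' ⊗[C] G) ↔ FlatCA.FlatAt R' q M' :=
    fun q _ => FlatMor.EssStage.flatAt_iff_of_localized T (fun t ht => IsLocalization.map_units B' (⟨t, ht⟩ : T))
      (fun s => by
        obtain ⟨⟨p, t⟩, hp⟩ := IsLocalization.surj T s
        exact ⟨t, t.2, p, by rw [mul_comm]; exact hp⟩) h q
  rw [← hI R' B' M' f1 hf1]
  constructor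
  · intro H q _ hq
    let Q : PrimeSpectrum C' := ⟨q.comap (algebraMap C' B'), Ideal.IsPrime.comap _⟩
    have hQn : Q.asIdeal.comap (algebraMap C C') = n.asIdeal := by
      refine le_antisymm (fun x hx => by_contra fun hxn => ?_) fun x hx => ?_
      · exact Ideal.IsPrime.ne_top inferInstance
          (q.eq_top_of_isUnit_mem hx (IsLocalization.map_units B' (⟨_, x, hxn, rfl⟩ : T)))
      · show algebraMap C' B' (algebraMap C C' x) ∈ q
        rw [← IsScalarTower.algebraMap_apply, IsScalarTower.algebraMap_apply C Cn B']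
        refine hq (Ideal.mem_sup_right (Ideal.mem_map_of_mem _ ?_))
        exact (IsLocalization.AtPrime.to_map_mem_maximal_iff Cn n.asIdeal x _).mpr hx
    have hQR : (IsLocalRing.maximalIdeal R').map (algebraMap R' C') ≤ Q.asIdeal :=
      Ideal.map_le_iff_le_comap.mpr fun x hx => by
        show algebraMap C' B' (algebraMap R' C' x) ∈ q
        rw [← IsScalarTower.algebraMap_apply]
        exact hq (Ideal.mem_sup_left (Ideal.mem_map_of_mem _ hx))
    obtain ⟨h1, h2'⟩ := H Q hQn hQR
    have hQR' : Q.asIdeal.comap (algebraMap R' C') = IsLocalRing.maximalIdeal R' :=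
      le_antisymm (IsLocalRing.le_maximalIdeal (Ideal.IsPrime.comap _).ne_top) (Ideal.map_le_iff_le_comap.mp hQR)
    exact (key q).mp (S2Crit6.core n.asIdeal J f u hn' h2 N hf hfu hNG Q.asIdeal hQn hQR' h1 h2')
  · intro H q' hq'n hq'R
    have hdis : Disjoint (T : Set C') q'.asIdeal := Set.disjoint_left.mpr fun x hxT hxq => by
      obtain ⟨c, hc, rfl⟩ := hxT
      exact hc (show c ∈ n.asIdeal by rw [← hq'n]; exact hxq)
    let q := q'.asIdeal.map (algebraMap C' B')
    haveI : q.IsPrime := IsLocalization.isPrime_of_isPrime_disjoint T B' _ q'.2 hdis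
    have hc : q.comap (algebraMap C' B') = q'.asIdeal := IsLocalization.under_map_of_isPrime_disjoint T B' q'.2 hdis
    have hR' : q'.asIdeal.comap (algebraMap R' C') = IsLocalRing.maximalIdeal R' :=
      le_antisymm (IsLocalRing.le_maximalIdeal (Ideal.IsPrime.comap _).ne_top) (Ideal.map_le_iff_le_comap.mp hq'R)
    have hle : (IsLocalRing.maximalIdeal R').map (algebraMap R' B') ⊔
        (IsLocalRing.maximalIdeal Cn).map (algebraMap Cn B') ≤ q := by
      refine sup_le ?_ ?_
      · rw [IsScalarTower.algebraMap_eq R' C' B', ← Ideal.map_map]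
        exact Ideal.map_mono hq'R
      · rw [← Localization.AtPrime.map_eq_maximalIdeal, Ideal.map_map, ← IsScalarTower.algebraMap_eq,
          IsScalarTower.algebraMap_eq C C' B', ← Ideal.map_map]
        exact Ideal.map_mono (Ideal.map_le_iff_le_comap.mpr hq'n.ge)
    have hfl := (key q).mpr (H q hle)
    have hfl' : FlatCA.FlatAt R' q'.asIdeal (C' ⊗[C] G) := by
      have : ∀ (Q1 Q2 : Ideal C') [Q1.IsPrime] [Q2.IsPrime], Q1 = Q2 →
          FlatCA.FlatAt R' Q1 (C' ⊗[C] G) → FlatCA.FlatAt R' Q2 (C' ⊗[C] G) := by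
        intro Q1 Q2 _ _ e; subst e; exact id
      exact this _ _ hc hfl
    exact S2Crit6.core_converse n.asIdeal J f u hn' h2 N hf hfu hNG q'.asIdeal hq'n hR'
      (S2Crit6.hasSk_fib_baseChange 2 (by omega) hS2 q'.asIdeal hR') hfl'

end Groth.Agent.S18714
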