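import Groth.Statements.S18718
import Groth.Agent.ExtOff6.Basic
import Groth.Agent.QGorLib.ReflOff
import Mathlib.RingTheory.IsTensorProduct

set_option autoImplicit false
set_option maxHeartbeats 1000000
universe u
open QGor

namespace Groth.Agent.S18718

open TensorProduct ExtOff6

/-- Affine form. Let A → B be a flat homomorphism of Noetherian rings, J an ideal of B such that the
fibre local ring B_q/pB_q has depth ≥ 2 at every prime q ⊇ J (p its contraction), A → A′ a
homomorphism of Noetherian rings with Noetherian pushout B′ = A′ ⊗_A B, and F a finite B-module with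
F_q free for every prime q not containing J. Then depth_J (F^∨∨) ≥ 2 (the double dual is the module
of sections of F off V(J)); the natural map (B′ ⊗_B F)^∨∨ → (B′ ⊗_B F^∨∨)^∨∨ obtained by dualising
twice the base change of F → F^∨∨ is bijective; and if moreover F is flat over A and the fibre
stalks F_q/pF_q have depth ≥ 2 at all primes q ⊇ J, then F and B′ ⊗_B F are reflexive. -/
theorem result (A B : Type u) [CommRing A] [CommRing B] [IsNoetherianRing A] [IsNoetherianRing B] [Algebra A B]
    (A' B' : Type u) [CommRing A'] [CommRing B'] [IsNoetherianRing A'] [IsNoetherianRing B']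
    [Algebra A A'] [Algebra B B'] [Algebra A' B'] [Algebra A B'] [IsScalarTower A B B'] [IsScalarTower A A' B']
    [Algebra.IsPushout A B A' B'] [Module.Flat A B] (J : Ideal B)
    (hZ : ∀ q : PrimeSpectrum B, J ≤ q.asIdeal →
      2 ≤ LocCoh.idealDepth (q.asIdeal.map (algebraMap B (EGA4.FibLocRing A B q.asIdeal))) (EGA4.FibLocRing A B q.asIdeal))
    (F : Type u) [AddCommGroup F] [Module B F] [Module A F] [IsScalarTower A B F] [Module.Finite B F]
    (hFU : ∀ q : PrimeSpectrum B, ¬ J ≤ q.asIdeal → Module.Free (Localization.AtPrime q.asIdeal) (LocalizedModule q.asIdeal.primeCompl F)) :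
    2 ≤ LocCoh.idealDepth J (Module.Dual B (Module.Dual B F)) ∧
    Function.Bijective (((Module.Dual.eval B F).baseChange B').dualMap.dualMap) ∧
    (Module.Flat A F →
      (∀ q : PrimeSpectrum B, J ≤ q.asIdeal →
        2 ≤ LocCoh.idealDepth (q.asIdeal.map (algebraMap B (EGA4.FibLocRing A B q.asIdeal))) (EGA4.FibLocMod A B q.asIdeal F)) →
      Module.IsReflexive B F ∧ Module.IsReflexive B' (B' ⊗[B] F)) := by
  obtain ⟨n, hn⟩ := exists_pow_le J hFU
  have hB2 := QGorLib.FibDepth.le_idealDepth_self (A := A) J 2 hZ
  haveI := QGorLib.Refl.finite_dual (A := B) F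
  let I' := (J ^ n).map (algebraMap B B')
  let eB : (B ⊗[A] A') ≃ₗ[B] B' := (Algebra.IsPushout.equiv A B A' B').toLinearEquiv
  obtain ⟨hB'1, hB'2⟩ : NoTors I' B' ∧ Ext1 I' B' := by
    obtain ⟨h1, h2⟩ := ExtOff6.tensor B J n
      (fun q hq => (hZ q hq).trans_eq (QGorLib.FibDepth.idealDepth_fibLocMod_self _ _).symm) A'
    exact ⟨noTors_map (noTors_of_equiv eB h1), ext1_map (ext1_of_equiv eB h2)⟩
  refine ⟨DomMod.HomDepth.le_idealDepth_hom (Module.Dual B F) B le_rfl hB2, ?_, fun hflat hdep => ?_⟩
  · suffices h : Function.Bijective ((Module.Dual.eval B F).baseChange B').dualMap from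
      (LinearEquiv.ofBijective _ h).dualMap.bijective
    refine ExtOff6.bijective (I := I') _ ?_ (noTors_hom hB'1) (ext1_hom hB'1 hB'2) (noTors_hom hB'1)
    intro t ht
    induction ht using Submodule.span_induction with
    | mem x hx =>
      obtain ⟨s, hs, rfl⟩ := hx
      obtain ⟨g, hg1, hg2⟩ := eval_quasiInverse (hn hs)
      refine ⟨(g.baseChange B').dualMap, fun φ => ?_, fun φ => ?_⟩
      · refine LinearMap.ext fun z => ?_
        show φ ((Module.Dual.eval B F).baseChange B' (g.baseChange B' z)) = _
        rw [← LinearMap.comp_apply ((Module.Dual.eval B F).baseChange B'), ← LinearMap.baseChange_comp,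
          show Module.Dual.eval B F ∘ₗ g = s • LinearMap.id from LinearMap.ext hg2,
          LinearMap.baseChange_smul, LinearMap.baseChange_id, LinearMap.smul_apply, LinearMap.id_apply,
          ← algebraMap_smul B' s z, map_smul]
        rfl
      · refine LinearMap.ext fun z => ?_
        show φ (g.baseChange B' ((Module.Dual.eval B F).baseChange B' z)) = _
        rw [← LinearMap.comp_apply (g.baseChange B'), ← LinearMap.baseChange_comp,
          show g ∘ₗ Module.Dual.eval B F = s • LinearMap.id from LinearMap.ext hg1,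
          LinearMap.baseChange_smul, LinearMap.baseChange_id, LinearMap.smul_apply, LinearMap.id_apply,
          ← algebraMap_smul B' s z, map_smul]
        rfl
    | zero => exact ⟨0, fun x => by simp, fun y => by simp⟩
    | add x y _ _ hx hy =>
      obtain ⟨g1, a1, b1⟩ := hx
      obtain ⟨g2, a2, b2⟩ := hy
      exact ⟨g1 + g2, fun z => by simp [a1, a2, add_smul], fun z => by simp [b1, b2, add_smul]⟩
    | smul c x _ hx =>
      obtain ⟨g1, a1, b1⟩ := hx
      exact ⟨c • g1, fun z => by simp [a1, mul_smul], fun z => by simp [b1, mul_smul]⟩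
  haveI := hflat
  refine ⟨?_, ?_⟩
  · refine QGorLib.ReflOff.isReflexive_of_depth F J (le_trans one_le_two hB2) (fun q hq => ?_)
      (QGorLib.FibDepth.le_idealDepth (A := A) J F 2 hdep)
    haveI := hFU q hq
    infer_instance
  let eF : (F ⊗[A] A') ≃ₗ[B] (B' ⊗[B] F) :=
    (((TensorProduct.congr eB.symm (LinearEquiv.refl B F)).trans (TensorProduct.comm B _ F)).trans
      ((AlgebraTensorModule.assoc A B B F B A').symm.trans
        (AlgebraTensorModule.congr (TensorProduct.rid B F) (LinearEquiv.refl A A')))).symm
  obtain ⟨h1, h2⟩ := ExtOff6.tensor F J n hdep A'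
  refine ⟨ExtOff6.bijective (I := I') _ ?_ (noTors_map (noTors_of_equiv eF h1))
    (ext1_map (ext1_of_equiv eF h2)) (noTors_hom hB'1)⟩
  intro t ht
  have hle : I' ≤ factorIdeal (B' ⊗[B] F) :=
    Ideal.map_le_iff_le_comap.mpr fun s hs => factors_baseChange B' (hn hs)
  exact eval_quasiInverse (hle ht)

end Groth.Agent.S18718
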