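import Groth.Statements.S18723
import Groth.Agent.DualCx.DualSheaf
import Groth.Agent.QGorLib.Refl
import Groth.Agent.QGorLib.ReflOff
import Mathlib.LinearAlgebra.PiTensorProduct.Finite
import Mathlib.LinearAlgebra.Dual.Lemmas

set_option autoImplicit false
universe u
open CategoryTheory
attribute [local instance] HasDerivedCategory.standard
open QGor

namespace Groth.Agent.S18723

/-- Affine-local form, with (2) for tensor powers m ≥ 0. Let A be a Noetherian local ring of Krull
dimension n with a dualizing complex ω, L = H⁰(ω), and J an ideal with ht J ≥ 2 (the closed set V(J)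
has codimension ≥ 2) such that off V(J) the complex ω is the invertible module L in degree 0: for
every prime p not containing J, H^i(ω)_p = 0 for i ≠ 0 and L_p is free of rank 1. (1) If A satisfies
(S₁), then ω is ordinary (A is equidimensional and ω[n] is normalized) and L is reflexive and
satisfies (S₂). (2) If A satisfies (S₂), then for every m ≥ 0 the double dual L^[m] of the m-th
tensor power of L satisfies (S₂) and depth_J L^[m] ≥ 2 (it is the module of sections of L^⊗m off
V(J)). -/
theorem result (A : Type u) [CommRing A] [IsNoetherianRing A]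
    [IsLocalRing A] (ω : Dual.D A) (hω : Dual.IsDualizing A ω) (n : ℕ) (hd : ringKrullDim A = n)
    (J : Ideal A) (hJ : 2 ≤ J.height)
    (hoff : ∀ p : PrimeSpectrum A, ¬ J ≤ p.asIdeal →
      (∀ i : ℤ, i ≠ 0 → p ∉ Module.support A (Dual.HD A ω i)) ∧
      Module.Free (Localization.AtPrime p.asIdeal) (LocalizedModule p.asIdeal.primeCompl (Dual.HD A ω 0)) ∧
      Module.finrank (Localization.AtPrime p.asIdeal) (LocalizedModule p.asIdeal.primeCompl (Dual.HD A ω 0)) = 1) :
    (LocCoh.HasSk 1 A A →
      (EGA4.IsEquidim A ∧ Dual.IsNormalized A (ω⟦(n : ℤ)⟧)) ∧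
      Module.IsReflexive A (Dual.HD A ω 0) ∧ LocCoh.HasSk 2 A (Dual.HD A ω 0)) ∧
    (LocCoh.HasSk 2 A A → ∀ m : ℕ,
      LocCoh.HasSk 2 A (Module.Dual A (Module.Dual A (TensorPower A m (Dual.HD A ω 0)))) ∧
      2 ≤ LocCoh.idealDepth J (Module.Dual A (Module.Dual A (TensorPower A m (Dual.HD A ω 0))))) := by
  have hJ1 : 1 ≤ J.height := le_trans one_le_two hJ
  have hoff' := fun p hp => (hoff p hp).1
  have := hω.finite_cohomology 0
  refine ⟨fun hS1 => ⟨⟨DualCx.DualSheaf.isEquidim hω n hd J hJ1 hoff',
    DualCx.DualSheaf.isNormalized hω n hd J hJ1 hoff'⟩, ?_,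
    DualCx.DualSheaf.hasSk_two hω n hd J hJ1 hoff'⟩, fun hS2 m => ?_⟩
  · refine QGorLib.ReflOff.isReflexive_of_depth (Dual.HD A ω 0) J
      (DualCx.DualSheaf.le_idealDepth_of_hasSk (k := 1) J hJ1 hS1) (fun p hp => ?_)
      (DualCx.DualSheaf.le_idealDepth hω n hd J hJ1 hoff' hJ)
    have := (hoff p hp).2.1
    have := DualCx.Normalized.finite_localized p (Dual.HD A ω 0)
    exact Module.IsReflexive.of_finite_of_free _ _
  · let G := TensorPower A m (Dual.HD A ω 0)
    have hG : Module.Finite A G := inferInstance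
    have h1 := QGorLib.Refl.finite_dual (A := A) G
    have h2 := QGorLib.Refl.finite_dual (A := A) (Module.Dual A G)
    refine ⟨?_, DomMod.HomDepth.le_idealDepth_hom (Module.Dual A G) A (n := 2) le_rfl
      (DualCx.DualSheaf.le_idealDepth_of_hasSk (k := 2) J hJ hS2)⟩
    obtain ⟨a, b, f, g, hf, hfg⟩ := DomMod.HomDepth.exists_hom_exact (R := A) (Module.Dual A G) A
    exact DomMod.HomDepth.hasSk_kernel f g hf hfg le_rfl hS2

end Groth.Agent.S18723
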