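import Groth.Statements.S18725
import Groth.Agent.QGorLib.FourTermFlat
import Groth.Agent.QGorLib.FibDepth
import Groth.Agent.FlatMor.FlatAtBC
import Groth.Agent.FlatMor.EssStage.Transfer
import Groth.Agent.FlatOpen.API
import Mathlib.RingTheory.Ideal.Height

set_option autoImplicit false
set_option maxHeartbeats 1000000
universe u
open QGor

namespace Groth.Agent.S18725

open IsLocalRing

/-- The statement after localising at a prime `q` containing `J`. -/
lemma at_prime (A B : Type u) [CommRing A] [CommRing B]
    [IsNoetherianRing A] [IsNoetherianRing B] [Algebra A B]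
    (F E0 E1 G : Type u) [AddCommGroup F] [Module B F] [Module A F] [IsScalarTower A B F] [Module.Finite B F]
    [AddCommGroup E0] [Module B E0] [Module A E0] [IsScalarTower A B E0] [Module.Finite B E0] [Module.Flat A E0]
    [AddCommGroup E1] [Module B E1] [Module A E1] [IsScalarTower A B E1] [Module.Finite B E1] [Module.Flat A E1]
    [AddCommGroup G] [Module B G] [Module A G] [IsScalarTower A B G] [Module.Finite B G]
    (f : F →ₗ[B] E0) (u : E0 →ₗ[B] E1) (v : E1 →ₗ[B] G)
    (hf : Function.Injective f) (hfu : Function.Exact f u) (huv : Function.Exact u v) (hv : Function.Surjective v)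
    (q : Ideal B) [q.IsPrime] :
    (FlatCA.FlatAt A q G → FlatCA.FlatAt A q F ∧
      (2 ≤ LocCoh.idealDepth (q.map (algebraMap B (EGA4.FibLocRing A B q))) (EGA4.FibLocMod A B q E0) →
        1 ≤ LocCoh.idealDepth (q.map (algebraMap B (EGA4.FibLocRing A B q))) (EGA4.FibLocMod A B q E1) →
        2 ≤ LocCoh.idealDepth (q.map (algebraMap B (EGA4.FibLocRing A B q))) (EGA4.FibLocMod A B q F))) ∧
    ((∀ q' : PrimeSpectrum B, q'.asIdeal < q → FlatCA.FlatAt A q'.asIdeal G) →
      2 ≤ LocCoh.idealDepth (q.map (algebraMap B (EGA4.FibLocRing A B q))) (EGA4.FibLocMod A B q E0) →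
      2 ≤ LocCoh.idealDepth (q.map (algebraMap B (EGA4.FibLocRing A B q))) (EGA4.FibLocMod A B q F) →
      FlatCA.FlatAt A q G) := by
  let p := q.comap (algebraMap A B)
  let Ap := Localization.AtPrime p
  let Bq := Localization.AtPrime q
  letI : Algebra Ap Bq := (Localization.localRingHom p q (algebraMap A B) rfl).toAlgebra
  haveI : IsScalarTower A Ap Bq := IsScalarTower.of_algebraMap_eq fun x => by
    rw [RingHom.algebraMap_toAlgebra, Localization.localRingHom_to_map]
    exact IsScalarTower.algebraMap_apply A B Bq x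
  haveI : IsLocalHom (algebraMap Ap Bq) := Localization.isLocalHom_localRingHom p q _ rfl
  letI iF : Module Ap (LocalizedModule q.primeCompl F) := Module.compHom _ (algebraMap Ap Bq)
  letI i0 : Module Ap (LocalizedModule q.primeCompl E0) := Module.compHom _ (algebraMap Ap Bq)
  letI i1 : Module Ap (LocalizedModule q.primeCompl E1) := Module.compHom _ (algebraMap Ap Bq)
  letI iG : Module Ap (LocalizedModule q.primeCompl G) := Module.compHom _ (algebraMap Ap Bq)
  haveI : IsScalarTower Ap Bq (LocalizedModule q.primeCompl F) := IsScalarTower.of_algebraMap_smul fun _ _ => rfl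
  haveI : IsScalarTower Ap Bq (LocalizedModule q.primeCompl E0) := IsScalarTower.of_algebraMap_smul fun _ _ => rfl
  haveI : IsScalarTower Ap Bq (LocalizedModule q.primeCompl E1) := IsScalarTower.of_algebraMap_smul fun _ _ => rfl
  haveI : IsScalarTower Ap Bq (LocalizedModule q.primeCompl G) := IsScalarTower.of_algebraMap_smul fun _ _ => rfl
  have tw : ∀ (X : Type u) [AddCommGroup X] [Module Bq X] [Module A X] [IsScalarTower A Bq X] [Module Ap X]
      [IsScalarTower Ap Bq X], IsScalarTower A Ap X := fun X _ _ _ _ _ _ =>
    IsScalarTower.of_algebraMap_smul fun a x => by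
      rw [← algebraMap_smul Bq (algebraMap A Ap a) x, ← IsScalarTower.algebraMap_apply, algebraMap_smul]
  haveI : IsScalarTower A Bq (LocalizedModule q.primeCompl F) := inferInstance
  haveI := tw (LocalizedModule q.primeCompl F)
  haveI := tw (LocalizedModule q.primeCompl E0)
  haveI := tw (LocalizedModule q.primeCompl E1)
  haveI := tw (LocalizedModule q.primeCompl G)
  haveI : Module.Flat A (LocalizedModule q.primeCompl E0) := FlatMor.FlatAtBC.flat_localizedModule A _ E0
  haveI : Module.Flat A (LocalizedModule q.primeCompl E1) := FlatMor.FlatAtBC.flat_localizedModule A _ E1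
  haveI : Module.Flat Ap (LocalizedModule q.primeCompl E0) :=
    (Module.flat_iff_of_isLocalization Ap p.primeCompl _).2 inferInstance
  haveI : Module.Flat Ap (LocalizedModule q.primeCompl E1) :=
    (Module.flat_iff_of_isLocalization Ap p.primeCompl _).2 inferInstance
  let f' := LocalizedModule.map q.primeCompl f
  let u' := LocalizedModule.map q.primeCompl u
  let v' := LocalizedModule.map q.primeCompl v
  have hf' : Function.Injective f' := LocalizedModule.map_injective _ _ hf
  have hfu' : Function.Exact f' u' := LocalizedModule.map_exact _ _ _ hfu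
  have huv' : Function.Exact u' v' := LocalizedModule.map_exact _ _ _ huv
  have hv' : Function.Surjective v' := LocalizedModule.map_surjective _ _ hv
  have hJ : (maximalIdeal Ap).map (algebraMap Ap Bq) = p.map (algebraMap A Bq) := by
    rw [← Localization.AtPrime.map_eq_maximalIdeal, Ideal.map_map, ← IsScalarTower.algebraMap_eq]
  have hdep : ∀ (X : Type u) [AddCommGroup X] [Module B X],
      LocCoh.idealDepth (q.map (algebraMap B (EGA4.FibLocRing A B q))) (EGA4.FibLocMod A B q X) =
        LocCoh.idealDepth (maximalIdeal Bq) (EGA4.FibMod Ap Bq (LocalizedModule q.primeCompl X)) := by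
    intro X _ _
    rw [QGorLib.FibDepth.idealDepth_fib]
    exact Depth.idealDepth_congr (Submodule.quotEquivOfEq _ _ (by
      show _ = EGA4.mB Ap Bq • _
      rw [EGA4.mB, hJ]))
  refine ⟨fun hG => ?_, fun hlow h0 hF => ?_⟩
  · haveI : Module.Flat A (LocalizedModule q.primeCompl G) := hG
    haveI : Module.Flat Ap (LocalizedModule q.primeCompl G) :=
      (Module.flat_iff_of_isLocalization Ap p.primeCompl _).2 inferInstance
    refine ⟨(Module.flat_iff_of_isLocalization Ap p.primeCompl _).1
      (QGorLib.FourTermFlat.flat_left hf' hfu' huv' hv').1, fun h0 h1 => ?_⟩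
    rw [hdep] at h0 h1 ⊢
    exact QGorLib.FourTermFlat.two_le_fib hf' hfu' huv' hv' h0 h1
  · rw [hdep] at h0 hF
    refine (Module.flat_iff_of_isLocalization Ap p.primeCompl _).1
      (QGorLib.FourTermFlat.flat_right hf' hfu' huv' hv' (fun Q hQ => ?_) (one_le_two.trans h0) hF)
    have hlt : Q.asIdeal.comap (algebraMap B Bq) < q := by
      refine lt_of_le_of_ne ?_ fun he => ?_
      · intro x hx
        by_contra hxq
        exact Q.2.ne_top (Q.asIdeal.eq_top_of_isUnit_mem hx (IsLocalization.map_units Bq (⟨x, hxq⟩ : q.primeCompl)))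
      · apply hQ
        rw [← Localization.AtPrime.map_eq_maximalIdeal, Ideal.map_le_iff_le_comap]
        exact he.ge
    have h1 : FlatCA.FlatAt A Q.asIdeal (LocalizedModule q.primeCompl G) :=
      (FlatMor.EssStage.flatAt_iff_of_localized q.primeCompl
        (fun t ht => IsLocalization.map_units Bq (⟨t, ht⟩ : q.primeCompl))
        (fun s => by
          obtain ⟨⟨x, t⟩, hxt⟩ := IsLocalization.surj q.primeCompl s
          exact ⟨t, t.2, x, by rw [mul_comm]; exact hxt⟩)
        (LocalizedModule.mkLinearMap q.primeCompl G) Q.asIdeal).1 (hlow ⟨Q.asIdeal.comap (algebraMap B Bq), Ideal.IsPrime.comap _⟩ hlt)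
    haveI : IsScalarTower A Ap (LocalizedModule Q.asIdeal.primeCompl (LocalizedModule q.primeCompl G)) :=
      IsScalarTower.of_algebraMap_smul fun a x => by
        induction x using LocalizedModule.induction_on with
        | h m s => rw [LocalizedModule.smul'_mk, LocalizedModule.smul'_mk, algebraMap_smul]
    haveI : Module.Flat A (LocalizedModule Q.asIdeal.primeCompl (LocalizedModule q.primeCompl G)) := h1
    exact (Module.flat_iff_of_isLocalization Ap p.primeCompl _).2 inferInstance

/-- Affine form of the equivalence (c) ⇔ (d). Let A → B be a homomorphism of finite type between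
Noetherian rings, J an ideal of B and 0 → F → E⁰ → E¹ → G → 0 an exact sequence of finite B-modules
such that E⁰, E¹ are flat over A, G_q is flat over A for every prime q not containing J, and for
every prime q ⊇ J with contraction p the fibre stalk E⁰_q/pE⁰_q has depth ≥ 2 and E¹_q/pE¹_q has
depth ≥ 1. Then for a prime n of B the following are equivalent: G is flat over A at n; there is a
basic open neighbourhood D(s) of n such that at every prime q ∈ D(s) the module F is flat over A at
q and, if q ⊇ J, the fibre stalk F_q/pF_q has depth ≥ 2 (the restriction maps of the fibres of F off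
V(J) are bijective on D(s)). -/
theorem result (A B : Type u) [CommRing A] [CommRing B]
    [IsNoetherianRing A] [IsNoetherianRing B] [Algebra A B] (hft : Algebra.FiniteType A B) (J : Ideal B)
    (F E0 E1 G : Type u) [AddCommGroup F] [Module B F] [Module A F] [IsScalarTower A B F] [Module.Finite B F]
    [AddCommGroup E0] [Module B E0] [Module A E0] [IsScalarTower A B E0] [Module.Finite B E0] [Module.Flat A E0]
    [AddCommGroup E1] [Module B E1] [Module A E1] [IsScalarTower A B E1] [Module.Finite B E1] [Module.Flat A E1]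
    [AddCommGroup G] [Module B G] [Module A G] [IsScalarTower A B G] [Module.Finite B G]
    (f : F →ₗ[B] E0) (u : E0 →ₗ[B] E1) (v : E1 →ₗ[B] G)
    (hf : Function.Injective f) (hfu : Function.Exact f u) (huv : Function.Exact u v) (hv : Function.Surjective v)
    (hGU : ∀ q : PrimeSpectrum B, ¬ J ≤ q.asIdeal → FlatCA.FlatAt A q.asIdeal G)
    (h0 : ∀ q : PrimeSpectrum B, J ≤ q.asIdeal →
      2 ≤ LocCoh.idealDepth (q.asIdeal.map (algebraMap B (EGA4.FibLocRing A B q.asIdeal))) (EGA4.FibLocMod A B q.asIdeal E0))
    (h1 : ∀ q : PrimeSpectrum B, J ≤ q.asIdeal →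
      1 ≤ LocCoh.idealDepth (q.asIdeal.map (algebraMap B (EGA4.FibLocRing A B q.asIdeal))) (EGA4.FibLocMod A B q.asIdeal E1))
    (n : PrimeSpectrum B) :
    FlatCA.FlatAt A n.asIdeal G ↔
      ∃ s : B, s ∉ n.asIdeal ∧ ∀ q : PrimeSpectrum B, s ∉ q.asIdeal →
        FlatCA.FlatAt A q.asIdeal F ∧
        (J ≤ q.asIdeal →
          2 ≤ LocCoh.idealDepth (q.asIdeal.map (algebraMap B (EGA4.FibLocRing A B q.asIdeal))) (EGA4.FibLocMod A B q.asIdeal F)) := by
  constructor
  · intro hn
    haveI := hft
    haveI : Algebra.FinitePresentation A B := Algebra.FinitePresentation.of_finiteType.mp hft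
    haveI : Module.FinitePresentation B G := Module.finitePresentation_of_finite B G
    obtain ⟨U, ⟨s, rfl⟩, hns, hsub⟩ := PrimeSpectrum.isTopologicalBasis_basic_opens.exists_subset_of_mem_open
      (show n ∈ {q : PrimeSpectrum B | FlatCA.FlatAt A q.asIdeal G} from hn)
      (Groth.Agent.FlatOpen.isOpen_flatLocus A B G)
    refine ⟨s, hns, fun q hq => ?_⟩
    have := (at_prime A B F E0 E1 G f u v hf hfu huv hv q.asIdeal).1 (hsub hq)
    exact ⟨this.1, fun hJ => this.2 (h0 q hJ) (h1 q hJ)⟩
  · rintro ⟨s, hns, hs⟩
    suffices ∀ (d : ℕ∞) (q : PrimeSpectrum B), q.asIdeal.height = d → s ∉ q.asIdeal → FlatCA.FlatAt A q.asIdeal G from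
      this _ n rfl hns
    intro d
    induction d using WellFoundedLT.induction with
    | ind d ih =>
      intro q hd hq
      by_cases hJ : J ≤ q.asIdeal
      · refine (at_prime A B F E0 E1 G f u v hf hfu huv hv q.asIdeal).2 (fun q' hq' => ?_) (h0 q hJ) ((hs q hq).2 hJ)
        exact ih _ (hd ▸ Ideal.height_strict_mono_of_isPrime hq') q' rfl fun h => hq (hq'.le h)
      · exact hGU q hJ

end Groth.Agent.S18725
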