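import Groth.Statements.S18726
import Groth.Agent.QGorLib.FourTermFlat
import Groth.Agent.GrLC.LocCohTors
import Groth.Agent.LocCoh.Connected
-- import your own Groth.Agent.* helpers here

set_option autoImplicit false
universe u
open QGor

namespace Groth.Agent.S18726

set_option linter.style.haveILetI false
set_option maxHeartbeats 1000000

open TensorProduct IsLocalRing Groth.Agent.QGorLib Groth.Agent.GrLC

/-- Affine-local form at a point. Let A → B be a local homomorphism of Noetherian local rings, m the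
maximal ideal of A, J an ideal of B, and 0 → F → E⁰ → E¹ → G → 0 an exact sequence of finite
B-modules with E⁰, E¹ flat over A, G_q flat over A for every prime q not containing J, depth_J
(E⁰/mE⁰) ≥ 2 and depth_J (E¹/mE¹) ≥ 1. Assume H²_J(F/mF) = 0; since under these hypotheses the
module of sections of F/mF off V(J) is finite and its J-depth is ≥ 3 exactly when H²_J(F/mF)
vanishes, this is the condition that that module of sections has J-depth ≥ 3. Then F and G are flat
over A, and depth_J (F/mF) ≥ 2 (the restriction map of the closed fibre of F off V(J) is bijective). -/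
theorem result (A B : Type u) [CommRing A] [CommRing B]
    [IsNoetherianRing A] [IsNoetherianRing B] [IsLocalRing A] [IsLocalRing B] [Algebra A B]
    [IsLocalHom (algebraMap A B)] (J : Ideal B)
    (F E0 E1 G : Type u) [AddCommGroup F] [Module B F] [Module A F] [IsScalarTower A B F] [Module.Finite B F]
    [AddCommGroup E0] [Module B E0] [Module A E0] [IsScalarTower A B E0] [Module.Finite B E0] [Module.Flat A E0]
    [AddCommGroup E1] [Module B E1] [Module A E1] [IsScalarTower A B E1] [Module.Finite B E1] [Module.Flat A E1]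
    [AddCommGroup G] [Module B G] [Module A G] [IsScalarTower A B G] [Module.Finite B G]
    (f : F →ₗ[B] E0) (u : E0 →ₗ[B] E1) (v : E1 →ₗ[B] G)
    (hf : Function.Injective f) (hfu : Function.Exact f u) (huv : Function.Exact u v) (hv : Function.Surjective v)
    (hGU : ∀ q : PrimeSpectrum B, ¬ J ≤ q.asIdeal → FlatCA.FlatAt A q.asIdeal G)
    (h0 : 2 ≤ LocCoh.idealDepth J (EGA4.FibMod A B E0)) (h1 : 1 ≤ LocCoh.idealDepth J (EGA4.FibMod A B E1))
    (hH2 : Subsingleton (LocCoh.H J 2 (EGA4.FibMod A B F))) :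
    Module.Flat A F ∧ Module.Flat A G ∧ 2 ≤ LocCoh.idealDepth J (EGA4.FibMod A B F) := by
  haveI : Module.Finite B (F ⊗[A] (A ⧸ maximalIdeal A)) := LocFlat.finite_tensor F _
  haveI : Module.Finite B (E0 ⊗[A] (A ⧸ maximalIdeal A)) := LocFlat.finite_tensor E0 _
  haveI : Module.Finite B (E1 ⊗[A] (A ⧸ maximalIdeal A)) := LocFlat.finite_tensor E1 _
  haveI : Module.Finite B (G ⊗[A] (A ⧸ maximalIdeal A)) := LocFlat.finite_tensor G _
  haveI : Module.Finite B (LinearMap.range u) := Module.Finite.range u
  haveI : Module.Finite B ((LinearMap.range u) ⊗[A] (A ⧸ maximalIdeal A)) := LocFlat.finite_tensor _ _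
  let k := A ⧸ maximalIdeal A
  set ι := (LinearMap.range u).subtype with hι
  set ρ := u.rangeRestrict with hρdef
  have hιinj : Function.Injective ι := Submodule.injective_subtype _
  have h1' : Function.Exact ι v :=
    LinearMap.exact_iff.mpr (by rw [hι, Submodule.range_subtype]; exact LinearMap.exact_iff.mp huv)
  have hρ : Function.Surjective ρ := u.surjective_rangeRestrict
  have h2' : Function.Exact f ρ :=
    LinearMap.exact_iff.mpr (by rw [hρdef, LinearMap.ker_rangeRestrict]; exact LinearMap.exact_iff.mp hfu)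
  have hIU : ∀ q : PrimeSpectrum B, ¬ J ≤ q.asIdeal → FlatCA.FlatAt A q.asIdeal (LinearMap.range u) :=
    fun q hq => FourTermFlat.flatAt_of_flatAt hιinj h1' hv q.asIdeal (hGU q hq)
  set ak := AlgebraTensorModule.rTensor A k f with hak
  set uk := AlgebraTensorModule.rTensor A k u with huk
  set vk := AlgebraTensorModule.rTensor A k v with hvk
  have hcomp : ∀ z, uk z = AlgebraTensorModule.rTensor A k ι (AlgebraTensorModule.rTensor A k ρ z) := fun z => by
    induction z using TensorProduct.induction_on with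
    | zero => simp
    | tmul k x => simp [huk, hι, hρdef]
    | add a b ha hb => simp only [map_add, ha, hb]
  have hexI : Function.Exact (AlgebraTensorModule.rTensor A k f) (AlgebraTensorModule.rTensor A k ρ) :=
    FourTermFlat.rTensor_exact' (A := A) h2' hρ k
  have hexV : Function.Exact (AlgebraTensorModule.rTensor A k ι) vk := FourTermFlat.rTensor_exact' (A := A) h1' hv k
  have hexuv : Function.Exact uk vk := fun z => by
    rw [hexV z]
    constructor
    · rintro ⟨y, rfl⟩
      obtain ⟨x, rfl⟩ := FourTermFlat.rTensor_surjective' (A := A) hρ k y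
      exact ⟨x, hcomp x⟩
    · rintro ⟨x, rfl⟩
      exact ⟨_, (hcomp x).symm⟩
  have huva : ∀ z, uk (ak z) = 0 := fun z => by rw [hcomp, hexI.apply_apply_eq_zero, map_zero]
  -- torsion
  have tors : ∀ {M : Type u} [AddCommGroup M] [Module B M] (x : M), (∀ r ∈ J, ∃ n : ℕ, r ^ n • x = 0) →
      ∃ n : ℕ, ∀ r ∈ J ^ n, r • x = 0 := fun x hx => by
    have hle : J ≤ Ideal.radical (LinearMap.ker (LinearMap.toSpanSingleton B _ x)) := fun r hr => hx r hr
    obtain ⟨n, hn⟩ := Ideal.exists_pow_le_of_le_radical_of_fg hle (IsNoetherian.noetherian J)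
    exact ⟨n, fun r hr => hn hr⟩
  let c : F ⊗[A] k →ₗ[B] LinearMap.ker uk := ak.codRestrict _ huva
  have hker : ∀ x : LinearMap.ker c, ∃ n : ℕ, ∀ r ∈ J ^ n, r • x = 0 := fun x => by
    obtain ⟨n, hn⟩ := tors x.1 fun r hr => FourTermFlat.exists_pow_smul_eq_zero (r := r)
      (fun q _ hq => hIU ⟨q, ‹_›⟩ fun hle => hq (hle hr)) hf h2' hρ x.1 (congrArg Subtype.val x.2)
    exact ⟨n, fun r hr => Subtype.ext (hn r hr)⟩
  have hcok : ∀ x : LinearMap.ker uk ⧸ LinearMap.range c, ∃ n : ℕ, ∀ r ∈ J ^ n, r • x = 0 := fun x => by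
    refine tors x fun r hr => ?_
    obtain ⟨y, rfl⟩ := Submodule.Quotient.mk_surjective _ x
    obtain ⟨n, hn⟩ := FourTermFlat.exists_pow_smul_eq_zero (r := r)
      (fun q _ hq => hGU ⟨q, ‹_›⟩ fun hle => hq (hle hr)) hιinj h1' hv (AlgebraTensorModule.rTensor A k ρ y.1)
      ((hcomp y.1).symm.trans y.2)
    rw [← map_smul, hexI] at hn
    obtain ⟨z, hz⟩ := hn
    refine ⟨n, ?_⟩
    rw [← Submodule.Quotient.mk_smul, Submodule.Quotient.mk_eq_zero]
    exact ⟨z, Subtype.ext hz⟩
  -- the second cohomology of the sections off `V(J)`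
  have hM : Subsingleton (LocCoh.H J 2 (F ⊗[A] k)) := by
    obtain ⟨e⟩ := FibInj.exists_tensorQuotEquiv (A := A) (B := B) (M := F) (maximalIdeal A)
    haveI := hH2
    refine Function.Injective.subsingleton (f := LocCohElt.map J 2 e.toLinearMap) (β := LocCoh.H J 2 (EGA4.FibMod A B F))
      fun x y h => ?_
    have h2 := congrArg (LocCohElt.map J 2 e.symm.toLinearMap) h
    rwa [LocCohElt.map_comp, LocCohElt.map_comp, LinearEquiv.comp_coe, LinearEquiv.self_trans_symm,
      LinearEquiv.refl_toLinearMap, LocCohElt.map_id, LocCohElt.map_id] at h2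
  have hrange : Subsingleton (LocCoh.H J 2 (LinearMap.range c)) := by
    haveI := hM
    haveI := LocCohElt.subsingleton_of_powerTorsion J 2 (LinearMap.ker c) hker
    refine subsingleton_of_forall_eq 0 fun x => ?_
    obtain ⟨y, rfl⟩ := (LocCohElt.exact_map_δ J 2 (f := (LinearMap.ker c).subtype) (g := c.rangeRestrict)
      (Submodule.injective_subtype _)
      (LinearMap.exact_iff.mpr (by rw [LinearMap.ker_rangeRestrict, Submodule.range_subtype]))
      c.surjective_rangeRestrict x).1 (Subsingleton.elim _ _)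
    rw [Subsingleton.elim y 0, map_zero]
  have hK : Subsingleton (LocCoh.H J 2 (LinearMap.ker uk)) := by
    haveI := hrange
    haveI := LocCohElt.subsingleton_of_powerTorsion J 1 (LinearMap.ker uk ⧸ LinearMap.range c) hcok
    refine subsingleton_of_forall_eq 0 fun x => ?_
    have he := LocCohElt.exact_map_map (M := LinearMap.range c) (N := LinearMap.ker uk)
      (P := LinearMap.ker uk ⧸ LinearMap.range c) J 2
      (Submodule.injective_subtype (LinearMap.range c)) (LinearMap.exact_subtype_mkQ (LinearMap.range c))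
      (Submodule.mkQ_surjective (LinearMap.range c))
    obtain ⟨y, rfl⟩ := (he x).1 (Subsingleton.elim _ _)
    rw [Subsingleton.elim y 0, map_zero]
  rw [← FourTermFlat.depth_tensor_residue] at h0 h1
  have hI : Subsingleton (LocCoh.H J 1 (LinearMap.range uk)) := by
    haveI : Subsingleton (LocCoh.H J 1 (E0 ⊗[A] k)) :=
      (LocCoh.le_idealDepth_iff_H J (E0 ⊗[A] k) 2).mp h0 1 one_lt_two
    haveI := hK
    refine subsingleton_of_forall_eq 0 fun x => ?_
    obtain ⟨y, rfl⟩ := (LocCohElt.exact_map_δ J 1 (f := (LinearMap.ker uk).subtype) (g := uk.rangeRestrict)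
      (Submodule.injective_subtype _)
      (LinearMap.exact_iff.mpr (by rw [LinearMap.ker_rangeRestrict, Submodule.range_subtype]))
      uk.surjective_rangeRestrict x).1 (Subsingleton.elim _ _)
    rw [Subsingleton.elim y 0, map_zero]
  have hG0 : 1 ≤ LocCoh.idealDepth J (G ⊗[A] k) := by
    refine (LocCoh.le_idealDepth_iff_H J (G ⊗[A] k) 1).mpr fun i hi => ?_
    obtain rfl : i = 0 := by omega
    haveI : Subsingleton (LocCoh.H J 0 (E1 ⊗[A] k)) :=
      (LocCoh.le_idealDepth_iff_H J (E1 ⊗[A] k) 1).mp h1 0 one_pos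
    haveI := hI
    refine subsingleton_of_forall_eq (α := LocCoh.H J 0 (G ⊗[A] k)) 0 fun x => ?_
    obtain ⟨y, rfl⟩ := (LocCohElt.exact_map_δ J 0 (f := (LinearMap.range uk).subtype) (g := vk)
      (Submodule.injective_subtype _)
      (LinearMap.exact_iff.mpr (by rw [Submodule.range_subtype]; exact LinearMap.exact_iff.mp hexuv))
      (FourTermFlat.rTensor_surjective' (A := A) hv k) x).1 (Subsingleton.elim _ _)
    rw [Subsingleton.elim y 0, map_zero]
  obtain ⟨r, hrJ, hr⟩ := Depth.exists_isSMulRegular_of_one_le_idealDepth hG0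
  obtain ⟨eG⟩ := FibInj.exists_tensorQuotEquiv (A := A) (B := B) (M := G) (maximalIdeal A)
  haveI hG : Module.Flat A G := FibInj.flat (r := r) (fun q _ hq => hGU ⟨q, ‹_›⟩ fun hle => hq (hle hrJ))
    ((eG.isSMulRegular_congr r).mp hr)
  rw [FourTermFlat.depth_tensor_residue] at h0 h1
  exact ⟨(FourTermFlat.flat_left hf hfu huv hv).1, hG, FourTermFlat.two_le_fib hf hfu huv hv h0 h1⟩

end Groth.Agent.S18726
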