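import Groth.Statements.S1873
import Groth.Agent.IntMult88.Main

set_option autoImplicit false
universe u
open CategoryTheory AlgebraicGeometry
attribute [local instance] HasDerivedCategory.standard
open IntMult

namespace Groth.Agent.S1873

/-- If the multiplicity of Z in the closed subscheme V ∩ W is 1, i.e. length_{O_{X,ξ}}(O_{V∩W,ξ}) = 1,
then e(X, V·W, Z) = 1 and the local rings O_{V,ξ}, O_{W,ξ} are regular (V and W are smooth at a
general point of Z). Here X is a nonsingular variety over an algebraically closed field K (smooth,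
separated, of finite type, integral), V and W are closed subvarieties given by quasi-coherent ideal
sheaves with integral subschemes, of dimensions r and s with dim X = n, intersecting properly, and ξ
is the generic point of an irreducible component Z of V ∩ W; e(X, V·W, Z) is the alternating sum of
lengths of Tor over O_{X,ξ}. -/
theorem result (K : Type u) [Field K] [IsAlgClosed K] (X : Scheme.{u}) (f : X ⟶ Spec (CommRingCat.of K)) [Smooth f] [IsSeparated f] [QuasiCompact f] [IsIntegral X] (IV IW : X.IdealSheafData) [IsIntegral IV.subscheme] [IsIntegral IW.subscheme] (n r s : ℕ) (hn : topologicalKrullDim X = n) (hr : topologicalKrullDim IV.support = r) (hs : topologicalKrullDim IW.support = s) (hprop : IntMult.ProperInt (IV.support : Set X) (IW.support : Set X) n r s) (ξ : X) (hξV : ξ ∈ IV.support) (hξW : ξ ∈ IW.support) (hmax : ∀ ξ' : X, ξ' ∈ IV.support → ξ' ∈ IW.support → ξ' ⤳ ξ → ξ' = ξ) (h1 : Module.length (X.presheaf.stalk ξ) (↑(X.presheaf.stalk ξ) ⧸ (IntMult.stalkIdeal IV ξ ⊔ IntMult.stalkIdeal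 IW ξ)) = 1) : IntMult.mult IV IW ξ = 1 ∧ IsRegularLocalRing (↑(X.presheaf.stalk ξ) ⧸ IntMult.stalkIdeal IV ξ) ∧ IsRegularLocalRing (↑(X.presheaf.stalk ξ) ⧸ IntMult.stalkIdeal IW ξ) := by
  obtain ⟨hreg, hPQ, d, a, b, hd, ha, hb, hab⟩ :=
    Groth.Agent.IntMult88.setup f IV IW hn hr hs hprop ξ hξV hξW hmax
  haveI := hreg
  have hmx : (IntMult.stalkIdeal IV ξ ⊔ IntMult.stalkIdeal IW ξ).IsMaximal := by
    rw [Ideal.isMaximal_def, ← isSimpleModule_iff_isCoatom]
    exact Module.length_eq_one_iff.1 h1
  obtain ⟨hP, hQ⟩ := Groth.Agent.IntMult88.regular_of_sup_eq_maximalIdeal hd _ _ ha hb hab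
    (IsLocalRing.eq_maximalIdeal hmx)
  refine ⟨?_, hP, hQ⟩
  haveI := hP
  haveI := hQ
  have h := Groth.Agent.IntMult88.chi_eq_length_of_CM hd _ _ ha hb hab hPQ
    (Groth.Agent.Depth.isCohenMacaulayLocalRing_of_isRegularLocalRing
      (R := ↑(X.presheaf.stalk ξ) ⧸ IntMult.stalkIdeal IV ξ))
    (Groth.Agent.Depth.isCohenMacaulayLocalRing_of_isRegularLocalRing
      (R := ↑(X.presheaf.stalk ξ) ⧸ IntMult.stalkIdeal IW ξ))
  rw [h1] at h
  simpa [IntMult.mult] using h

end Groth.Agent.S1873
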