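import Groth.Statements.S18734
import Mathlib.AlgebraicGeometry.ZariskisMainTheorem
import Mathlib.RingTheory.Flat.Basic
import Mathlib.RingTheory.Localization.Integral
import Mathlib.AlgebraicGeometry.Pullbacks
-- import your own Groth.Agent.* helpers here

set_option autoImplicit false
universe u
open CategoryTheory CategoryTheory.Limits AlgebraicGeometry TopologicalSpace
open ModPair

namespace Groth.Agent.S18734

open scoped TensorProduct in
/-- Generically finite, flat and of finite type over a valuation ring implies quasi-finite. -/
lemma quasiFinite_of_generic {R B : Type u} [CommRing R] [IsDomain R] [ValuationRing R] [CommRing B]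
    [Algebra R B] [Module.Flat R B] [Algebra.FiniteType R B]
    (h : (Algebra.TensorProduct.includeRight :
      FractionRing R →ₐ[R] B ⊗[R] FractionRing R).toRingHom.QuasiFinite) :
    Algebra.QuasiFinite R B := by
  classical
  set K := FractionRing R
  set ρ : K →+* B ⊗[R] K := (Algebra.TensorProduct.includeRight : K →ₐ[R] B ⊗[R] K).toRingHom
  have hint : ∀ y : B ⊗[R] K, ρ.IsIntegralElem y := by
    intro y
    letI := ρ.toAlgebra
    have : Algebra.QuasiFinite K (B ⊗[R] K) := h
    have : Module.Finite K (B ⊗[R] K) := Module.Finite.of_quasiFinite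
    exact Algebra.IsIntegral.isIntegral (R := K) y
  have key : ∀ b : B, ∃ (p : Polynomial R) (i : ℕ), p.coeff i = 1 ∧ Polynomial.aeval b p = 0 := by
    intro b
    obtain ⟨q, hq, hqe⟩ := hint (b ⊗ₜ 1)
    set p := IsLocalization.integerNormalization (nonZeroDivisors R) q with hp
    have hp0 : p ≠ 0 := fun hh =>
      hq.ne_zero ((IsFractionRing.integerNormalization_eq_zero_iff).1 hh)
    have hcomp : ρ.comp (algebraMap R K) =
        (Algebra.TensorProduct.includeLeft : B →ₐ[R] B ⊗[R] K).toRingHom.comp (algebraMap R B) := by
      refine RingHom.ext fun r => ?_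
      show (Algebra.TensorProduct.includeRight : K →ₐ[R] B ⊗[R] K) (algebraMap R K r) =
        (Algebra.TensorProduct.includeLeft : B →ₐ[R] B ⊗[R] K) (algebraMap R B r)
      rw [AlgHom.commutes, AlgHom.commutes]
    have h0 : Polynomial.aeval b p = 0 := by
      refine Algebra.TensorProduct.includeLeft_injective (R := R) (S := R) (B := K)
        (IsFractionRing.injective R K) ?_
      rw [map_zero, Polynomial.aeval_def]
      show (Algebra.TensorProduct.includeLeft : B →ₐ[R] B ⊗[R] K).toRingHom
        (Polynomial.eval₂ (algebraMap R B) b p) = 0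
      rw [Polynomial.hom_eval₂, ← hcomp]
      exact IsLocalization.integerNormalization_eval₂_eq_zero (nonZeroDivisors R) ρ q hqe
    -- the content of `p`
    have hmin : ∀ s : Finset ℕ, s.Nonempty → ∃ j ∈ s, ∀ i ∈ s, p.coeff j ∣ p.coeff i := by
      intro s hs
      induction hs using Finset.Nonempty.cons_induction with
      | singleton a => exact ⟨a, by simp, by simp⟩
      | cons a s ha hs ih =>
        obtain ⟨j, hj, hdvd⟩ := ih
        rcases ValuationRing.dvd_total (p.coeff j) (p.coeff a) with hd | hd
        · refine ⟨j, by simp [hj], fun i hi => ?_⟩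
          rcases Finset.mem_cons.1 hi with rfl | hi
          · exact hd
          · exact hdvd i hi
        · refine ⟨a, by simp, fun i hi => ?_⟩
          rcases Finset.mem_cons.1 hi with rfl | hi
          · exact dvd_rfl
          · exact hd.trans (hdvd i hi)
    obtain ⟨j, hj, hdvd⟩ := hmin p.support (Polynomial.support_nonempty.2 hp0)
    have hcj : p.coeff j ≠ 0 := Polynomial.mem_support_iff.1 hj
    have hC : Polynomial.C (p.coeff j) ∣ p := by
      rw [Polynomial.C_dvd_iff_dvd_coeff]
      intro i
      by_cases hi : i ∈ p.support
      · exact hdvd i hi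
      · rw [Polynomial.notMem_support_iff.1 hi]; exact dvd_zero _
    obtain ⟨p', hp'⟩ := hC
    refine ⟨p', j, ?_, ?_⟩
    · have e := congrArg (fun r => Polynomial.coeff r j) hp'
      simp only [Polynomial.coeff_C_mul] at e
      exact (mul_eq_left₀ hcj).1 e.symm
    · have h1 : IsSMulRegular R (p.coeff j) := fun a b hab => mul_left_cancel₀ hcj hab
      have h2 : IsSMulRegular B (algebraMap R B (p.coeff j)) := h1.of_flat
      have hreg : IsSMulRegular B (p.coeff j) := fun x y hxy =>
        h2 (by simpa only [algebraMap_smul] using hxy)
      refine hreg ?_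
      simp only [smul_zero]
      rw [hp', map_mul, Polynomial.aeval_C, ← Algebra.smul_def] at h0
      exact h0
  refine ⟨fun P _ => ?_⟩
  have : Algebra.FiniteType P.ResidueField (P.Fiber B) := inferInstance
  have : Algebra.IsIntegral P.ResidueField (P.Fiber B) := by
    refine ⟨fun x => ?_⟩
    induction x using TensorProduct.induction_on with
    | zero => exact isIntegral_zero
    | add x y hx hy => exact hx.add hy
    | tmul k b =>
      obtain ⟨p, i, hi, he⟩ := key b
      have hne : p.map (algebraMap R P.ResidueField) ≠ 0 := fun hh => by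
        have := congrArg (fun r => Polynomial.coeff r i) hh
        simp [hi] at this
      have halg : IsAlgebraic P.ResidueField
          ((Algebra.TensorProduct.includeRight : B →ₐ[R] P.ResidueField ⊗[R] B) b) := by
        refine ⟨_, hne, ?_⟩
        rw [Polynomial.aeval_map_algebraMap, Polynomial.aeval_algHom_apply, he, map_zero]
      have := halg.isIntegral.smul k
      rwa [Algebra.TensorProduct.includeRight_apply, TensorProduct.smul_tmul', smul_eq_mul,
        mul_one] at this
  exact Algebra.IsIntegral.finite


/-- Let R be a valuation ring with fraction field K and f : Y ⟶ Spec R a morphism of schemes which is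
flat, proper and generically finite (the generic fibre Y ×_{Spec R} Spec K ⟶ Spec K is a finite
morphism). Then f is finite. No finite-presentation hypothesis is assumed. -/
theorem result {R : Type u} [CommRing R]
    [IsDomain R] [ValuationRing R] {Y : Scheme.{u}} (f : Y ⟶ Spec (CommRingCat.of R)) [Flat f] [IsProper f]
    (hgen : IsFinite (pullback.snd f
      (Spec.map (CommRingCat.ofHom (algebraMap R (FractionRing R)))))) :
    IsFinite f := by
  have : IsZariskiLocalAtSource @LocallyQuasiFinite :=
    HasRingHomProperty.instIsZariskiLocalAtSource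
  suffices LocallyQuasiFinite f from IsFinite.of_isProper_of_locallyQuasiFinite f
  suffices key : ∀ (B : CommRingCat.{u}) (j : Spec B ⟶ Y) [IsOpenImmersion j],
      LocallyQuasiFinite (j ≫ f) from
    IsZariskiLocalAtSource.of_openCover (P := @LocallyQuasiFinite) Y.affineOpenCover.openCover
      fun i => @key _ (Y.affineOpenCover.f i) (Y.affineOpenCover.openCover.map_prop i)
  intro B j _
  set g := Spec.map (CommRingCat.ofHom (algebraMap R (FractionRing R)))
  have hqf : LocallyQuasiFinite (pullback.snd (j ≫ f) g) := by
    rw [← Iso.inv_hom_id_assoc (pullbackRightPullbackFstIso f g j) (pullback.snd (j ≫ f) g),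
      pullbackRightPullbackFstIso_hom_snd]
    infer_instance
  obtain ⟨φ, hφ⟩ : ∃ φ : CommRingCat.of R ⟶ B, Spec.map φ = j ≫ f :=
    ⟨Spec.preimage (j ≫ f), Spec.map_preimage _⟩
  have hflat : Flat (Spec.map φ) := by rw [hφ]; infer_instance
  have hft : LocallyOfFiniteType (Spec.map φ) := by rw [hφ]; infer_instance
  rw [HasRingHomProperty.Spec_iff (P := @Flat)] at hflat
  rw [HasRingHomProperty.Spec_iff (P := @LocallyOfFiniteType)] at hft
  rw [← hφ] at hqf ⊢
  algebraize [φ.hom]
  rw [HasRingHomProperty.Spec_iff (P := @LocallyQuasiFinite)]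
  refine RingHom.quasiFinite_algebraMap.2 (quasiFinite_of_generic ?_)
  have h2 : LocallyQuasiFinite ((pullbackSpecIso R B (FractionRing R)).inv ≫
      pullback.snd (Spec.map φ) g) := by
    have := hqf
    infer_instance
  erw [pullbackSpecIso_inv_snd] at h2
  rw [HasRingHomProperty.Spec_iff (P := @LocallyQuasiFinite)] at h2
  exact h2

end Groth.Agent.S18734
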