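import Groth.Statements.S18735
import Groth.Agent.ModPairLib.Product
-- import your own Groth.Agent.* helpers here

set_option autoImplicit false
universe u
open CategoryTheory CategoryTheory.Limits AlgebraicGeometry TopologicalSpace
open ModPair

namespace Groth.Agent.S18735

open Groth.Agent.ModPairLib
/-- Let (S, I_S), (T, I_T), (X, I_X) be schemes equipped with quasi-coherent ideal sheaves of effective
Cartier divisors, g : T ⟶ S a morphism satisfying the modulus condition I_T ≤ I_S.comap g, and s : X
⟶ S an abstract admissible blow-up (I_X = I_S.comap s, s proper and an isomorphism over the open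
complement of the support of I_S). Let Y be the scheme-theoretic image in X ×_S T of the open
pr₁⁻¹(X°) ∩ pr₂⁻¹(T°), where X°, T° are the open complements of the supports of I_X, I_T, with
projections q : Y ⟶ T and r : Y ⟶ X. Then I_T.comap q is the ideal sheaf of an effective Cartier
divisor on Y, q is an abstract admissible blow-up from (Y, I_T.comap q) to (T, I_T), and r satisfies
the modulus condition from (Y, I_T.comap q) to (X, I_X). -/
theorem result {S T X : Scheme.{u}} (IS : S.IdealSheafData)
    (IT : T.IdealSheafData) (IX : X.IdealSheafData) (hS : BlowUp.IsEffCartierIdeal IS)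
    (hT : BlowUp.IsEffCartierIdeal IT) (hX : BlowUp.IsEffCartierIdeal IX)
    (g : T ⟶ S) (hg : ModPair.IsAmbient IT IS g) (s : X ⟶ S) (hs : ModPair.IsAdmBlowup IX IS s) :
    BlowUp.IsEffCartierIdeal (IT.comap (ModPair.mprodι s g IX IT ≫ pullback.snd s g)) ∧
      ModPair.IsAdmBlowup (IT.comap (ModPair.mprodι s g IX IT ≫ pullback.snd s g)) IT
        (ModPair.mprodι s g IX IT ≫ pullback.snd s g) ∧
      ModPair.IsAmbient (IT.comap (ModPair.mprodι s g IX IT ≫ pullback.snd s g)) IX
        (ModPair.mprodι s g IX IT ≫ pullback.fst s g) := by
  obtain ⟨hs₁, hs₂, hs₃⟩ := hs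
  have hw := ModPair.mprodι s g IX IT
  refine ⟨Product.isEffCartier_snd hX hT, ⟨rfl, ?_, ?_⟩, ?_⟩
  · have : IsProper (pullback.snd s g) := inferInstance
    infer_instance
  · have e : pullback.snd s g ⁻¹ᵁ ModPair.interior IT = ModPair.prodInterior s g IX IT := by
      refine le_antisymm (fun x hx => ⟨?_, hx⟩) inf_le_right
      show pullback.fst s g x ∈ ModPair.interior IX
      rw [show IX = IS.comap s from hs₁, Dense.interior_comap]
      show s (pullback.fst s g x) ∈ ModPair.interior IS
      rw [← Scheme.Hom.comp_apply, pullback.condition, Scheme.Hom.comp_apply]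
      exact Dense.interior_le hg hx
    have := Product.isAffineHom_prodInterior (f := s) (g := g) hX hT
    have h₁ : IsIso (ModPair.mprodι s g IX IT ∣_ pullback.snd s g ⁻¹ᵁ ModPair.interior IT) := by
      rw [e]; exact Image.isIso_imageι_restrict _
    have h₂ : IsIso (pullback.snd s g ∣_ ModPair.interior IT) := by
      let b := T.homOfLE (Dense.interior_le hg) ≫ (g ∣_ ModPair.interior IS)
      have hj : (ModPair.interior IT).ι ≫ g = b ≫ (ModPair.interior IS).ι := by
        simp only [b, Category.assoc, morphismRestrict_ι, Scheme.homOfLE_ι_assoc]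
      have H := (isPullback_morphismRestrict (pullback.snd s g) (ModPair.interior IT)).flip.paste_horiz
        (IsPullback.of_hasPullback s g)
      rw [hj] at H
      have H' := IsPullback.of_right' H (isPullback_morphismRestrict s (ModPair.interior IS)).flip
      exact MorphismProperty.of_isPullback (P := MorphismProperty.isomorphisms Scheme.{u}) H' hs₃
    rw [morphismRestrict_comp]
    exact IsIso.comp_isIso' h₁ h₂
  · show IT.comap _ ≤ IX.comap _
    refine (Scheme.IdealSheafData.comap_mono _ hg).trans (le_of_eq ?_)
    beta_reduce
    rw [show IX = IS.comap s from hs₁, ← Scheme.IdealSheafData.comap_comp,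
      ← Scheme.IdealSheafData.comap_comp, Category.assoc, Category.assoc, pullback.condition]

end Groth.Agent.S18735
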