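import Groth.Statements.S18737
import Groth.Agent.ModPairLib.Image
-- import your own Groth.Agent.* helpers here

set_option autoImplicit false
universe u
open CategoryTheory CategoryTheory.Limits AlgebraicGeometry TopologicalSpace
open ModPair

namespace Groth.Agent.S18737

open Groth.Agent.ModPairLib Groth.Agent.IdealSh
/-- Let X be a scheme and I the quasi-coherent ideal sheaf of an effective Cartier divisor on X, with
open complement U, and suppose U is the disjoint union of two opens U₀, U₁ of X. Let X₀, X₁ ⊆ X be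
the scheme-theoretic images of U₀ and U₁ in X and p : X₀ ⨿ X₁ ⟶ X the morphism induced by the two
closed immersions. Then the pulled-back ideal I.comap p is the ideal sheaf of an effective Cartier
divisor, and p is an abstract admissible blow-up from (X₀ ⨿ X₁, I.comap p) to (X, I): proper, with
the pulled-back modulus, and an isomorphism over U. -/
theorem result {X : Scheme.{u}}
    (I : X.IdealSheafData) (hI : BlowUp.IsEffCartierIdeal I) (U₀ U₁ : X.Opens)
    (hU : U₀ ⊔ U₁ = ModPair.interior I) (hd : Disjoint U₀ U₁) :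
    BlowUp.IsEffCartierIdeal (I.comap (coprod.desc U₀.ι.imageι U₁.ι.imageι)) ∧
      ModPair.IsAdmBlowup (I.comap (coprod.desc U₀.ι.imageι U₁.ι.imageι)) I
        (coprod.desc U₀.ι.imageι U₁.ι.imageι) := by
  set p := coprod.desc U₀.ι.imageι U₁.ι.imageι
  have hqc : ∀ V V' : X.Opens, V ⊔ V' = ModPair.interior I → Disjoint V V' → QuasiCompact V.ι ∧
      (∀ x : V.ι.image, x ∈ V.ι.imageι ⁻¹ᵁ V' → False) := by
    intro V V' hV hVd
    have hle : V ≤ ModPair.interior I := hV ▸ le_sup_left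
    have hmem : ∀ x : X, x ∈ ModPair.interior I → x ∈ V ∨ x ∈ V' := fun x hx => by
      rw [← hV] at hx; exact hx
    have : IsClosedImmersion (X.homOfLE hle) := by
      refine IsClosedImmersion.of_isPreimmersion _ ?_
      rw [← isOpen_compl_iff]
      have e : (Set.range (X.homOfLE hle))ᶜ = (ModPair.interior I).ι ⁻¹' (V' : Set X) := by
        ext x
        constructor
        · intro hx
          exact (hmem _ x.2).resolve_left fun h => hx ⟨⟨x.1, h⟩, Subtype.ext (by simp)⟩
        · rintro hx ⟨v, rfl⟩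
          rw [Set.mem_preimage, ← Scheme.Hom.comp_apply, Scheme.homOfLE_ι] at hx
          exact hVd.le_bot (show v.1 ∈ V ⊓ V' from ⟨v.2, hx⟩)
      rw [e]
      exact V'.isOpen.preimage (Scheme.Hom.continuous _)
    have := Dense.isAffineHom_interior hI
    have hq : QuasiCompact V.ι := by
      rw [← Scheme.homOfLE_ι X hle]; infer_instance
    refine ⟨hq, fun x hx => ?_⟩
    have hx' : V.ι.imageι x ∈ closure (V : Set X) := by
      rw [← V.range_ι, ← Scheme.Hom.support_ker, ← Scheme.IdealSheafData.range_subschemeι]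
      exact ⟨x, rfl⟩
    obtain ⟨y, hy, hyV⟩ := mem_closure_iff.1 hx' _ V'.isOpen hx
    exact hVd.le_bot (show y ∈ V ⊓ V' from ⟨hyV, hy⟩)
  obtain ⟨hq₀, hd₀⟩ := hqc U₀ U₁ hU hd
  obtain ⟨hq₁, hd₁⟩ := hqc U₁ U₀ (by rwa [sup_comm]) hd.symm
  have hcart : BlowUp.IsEffCartierIdeal (I.comap p) := by
    refine EffCartier.of_openCover fun z => ?_
    rcases (isCompl_range_inl_inr _ _).codisjoint.top_le (Set.mem_univ z) with hz | hz
    · refine ⟨_, hz, (EffCartier.comap_iso_iff (coprod.inl : U₀.ι.image ⟶ _).isoOpensRange.hom _).1 ?_⟩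
      rw [← Scheme.IdealSheafData.comap_comp, ← Scheme.IdealSheafData.comap_comp,
        Scheme.Hom.isoOpensRange_hom_ι, coprod.inl_desc]
      have := Image.isEffCartierIdeal_comap_image hI (𝟙 X) U₀.ι (fun v => (hU ▸ le_sup_left : U₀ ≤ _) v.2)
      rwa [Category.comp_id] at this
    · refine ⟨_, hz, (EffCartier.comap_iso_iff (coprod.inr : U₁.ι.image ⟶ _).isoOpensRange.hom _).1 ?_⟩
      rw [← Scheme.IdealSheafData.comap_comp, ← Scheme.IdealSheafData.comap_comp,
        Scheme.Hom.isoOpensRange_hom_ι, coprod.inr_desc]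
      have := Image.isEffCartierIdeal_comap_image hI (𝟙 X) U₁.ι (fun v => (hU ▸ le_sup_right : U₁ ≤ _) v.2)
      rwa [Category.comp_id] at this
  have hres : ∀ {Z Z' : Scheme.{u}} (j : Z ⟶ Z') [IsOpenImmersion j] (q : Z' ⟶ X) (V : X.Opens),
      (q ⁻¹ᵁ V : Set Z') ⊆ Set.range j → IsIso ((j ≫ q) ∣_ V) → IsIso (q ∣_ V) := by
    intro Z Z' j _ q V hr h
    have : Surjective (j ∣_ q ⁻¹ᵁ V) := ⟨fun z => by
      obtain ⟨y, hy⟩ := hr z.2
      let y' : (j ⁻¹ᵁ (q ⁻¹ᵁ V) : Z.Opens).toScheme :=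
        ⟨y, by show j y ∈ q ⁻¹ᵁ V; rw [hy]; exact z.2⟩
      refine ⟨y', (q ⁻¹ᵁ V).ι.isEmbedding.injective ?_⟩
      have e := congrArg (fun φ : (j ⁻¹ᵁ (q ⁻¹ᵁ V) : Z.Opens).toScheme ⟶ Z' => φ y')
        (morphismRestrict_ι j (q ⁻¹ᵁ V))
      exact e.trans hy⟩
    have : Epi (j ∣_ q ⁻¹ᵁ V).base := ConcreteCategory.epi_of_surjective _ (Scheme.Hom.surjective _)
    have : IsIso (j ∣_ q ⁻¹ᵁ V) := IsOpenImmersion.isIso _
    rw [morphismRestrict_comp] at h
    exact @IsIso.of_isIso_comp_left _ _ _ _ _ (j ∣_ q ⁻¹ᵁ V) (q ∣_ V) _ h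
  have hp₀ : IsIso (p ∣_ U₀) := by
    refine hres (coprod.inl : U₀.ι.image ⟶ _) p U₀ (fun z hz => ?_) ?_
    · refine ((isCompl_range_inl_inr _ _).codisjoint.top_le (Set.mem_univ z)).resolve_right ?_
      rintro ⟨x, rfl⟩
      refine hd₁ x ?_
      show U₁.ι.imageι x ∈ U₀
      have : p ((coprod.inr : U₁.ι.image ⟶ _) x) = U₁.ι.imageι x := by
        rw [← Scheme.Hom.comp_apply, coprod.inr_desc]
      rw [← this]; exact hz
    · rw [coprod.inl_desc]; exact Image.isIso_imageι_restrict U₀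
  have hp₁ : IsIso (p ∣_ U₁) := by
    refine hres (coprod.inr : U₁.ι.image ⟶ _) p U₁ (fun z hz => ?_) ?_
    · refine ((isCompl_range_inl_inr _ _).codisjoint.top_le (Set.mem_univ z)).resolve_left ?_
      rintro ⟨x, rfl⟩
      refine hd₀ x ?_
      show U₀.ι.imageι x ∈ U₁
      have : p ((coprod.inl : U₀.ι.image ⟶ _) x) = U₀.ι.imageι x := by
        rw [← Scheme.Hom.comp_apply, coprod.inl_desc]
      rw [← this]; exact hz
    · rw [coprod.inr_desc]; exact Image.isIso_imageι_restrict U₁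
  refine ⟨hcart, rfl, inferInstance, ?_⟩
  let W : Bool → (ModPair.interior I).toScheme.Opens := fun b =>
    (ModPair.interior I).ι ⁻¹ᵁ (if b then U₀ else U₁)
  have hW : ⨆ b, W b = ⊤ := by
    refine top_unique fun x _ => Opens.mem_iSup.2 ?_
    rcases (hU.ge x.2 : x.1 ∈ U₀ ⊔ U₁) with h | h
    · exact ⟨true, h⟩
    · exact ⟨false, h⟩
  refine (IsZariskiLocalAtTarget.iff_of_iSup_eq_top (P := MorphismProperty.isomorphisms Scheme.{u}) _ hW).2 fun b => ?_
  refine ((MorphismProperty.isomorphisms Scheme.{u}).arrow_mk_iso_iff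
    (morphismRestrictRestrict p (ModPair.interior I) (W b))).2 ?_
  have e : (ModPair.interior I).ι ''ᵁ W b = (if b then U₀ else U₁) := by
    simp only [W, Scheme.Hom.image_preimage_eq_opensRange_inf, Scheme.Opens.opensRange_ι]
    cases b <;> simp [← hU]
  rw [e]
  cases b
  · exact hp₁
  · exact hp₀

end Groth.Agent.S18737
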