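import Groth.Statements.S18739
import Groth.Agent.ModPairLib.PairPullback
import Mathlib.CategoryTheory.Limits.Constructions.FiniteProductsOfBinaryProducts
import Mathlib.CategoryTheory.Limits.Constructions.LimitsOfProductsAndEqualizers
import Mathlib.AlgebraicGeometry.Limits
-- import your own Groth.Agent.* helpers here

set_option autoImplicit false
universe u
open CategoryTheory CategoryTheory.Limits AlgebraicGeometry TopologicalSpace
open ModPair

namespace Groth.Agent.S18739

/-- The localization of the category of modulus pairs and ambient morphisms at the class of abstract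
admissible blow-ups has all finite limits. -/
theorem result :
    HasFiniteLimits (ModPair.Pair.admBlowup.{u}).Localization := by
  have := Groth.Agent.S18738.result.{u}
  set W := ModPair.Pair.admBlowup.{u}
  have : HasPullbacks W.Localization :=
    ModPairLib.LocPullback.hasPullbacks W.Q W fun X T Z f g =>
      ModPairLib.PairPullback.exists_isPullback W.Q f g
  let pt : ModPair.Pair.{u} :=
    ⟨Spec (CommRingCat.of (ULift.{u} ℤ)), ⊤, Groth.Agent.IdealSh.EffCartier.top⟩
  have hpt : ∀ (X : ModPair.Pair.{u}) (a b : X ⟶ pt), a = b := fun X a b =>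
    ModPair.Pair.Hom.ext (specULiftZIsTerminal.hom_ext a.hom b.hom)
  have hmap : ∀ X : ModPair.Pair.{u}, ∃ a : X ⟶ pt, True := fun X =>
    ⟨⟨specULiftZIsTerminal.from X.total, by
      show X.mod ≤ (⊤ : pt.total.IdealSheafData).comap _
      rw [Scheme.IdealSheafData.comap_top]
      exact le_top⟩, trivial⟩
  have hes := Localization.essSurj W.Q W
  have hterm : HasTerminal W.Localization := by
    choose a _ using hmap
    refine IsTerminal.hasTerminal (X := W.Q.obj pt) (IsTerminal.ofUniqueHom
      (fun Y => (W.Q.objObjPreimageIso Y).inv ≫ W.Q.map (a (W.Q.objPreimage Y))) fun Y m => ?_)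
    rw [Iso.eq_inv_comp]
    obtain ⟨φ, hφ⟩ := Localization.exists_rightFraction W.Q W ((W.Q.objObjPreimageIso Y).hom ≫ m)
    have : IsIso (W.Q.map φ.s) := Localization.inverts W.Q W _ φ.hs
    rw [← cancel_epi (W.Q.map φ.s), hφ, MorphismProperty.RightFraction.map_s_comp_map,
      ← W.Q.map_comp, hpt _ (φ.s ≫ a _) φ.f]
  exact hasFiniteLimits_of_hasTerminal_and_pullbacks

end Groth.Agent.S18739
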