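import Groth.Statements.S1914
import Groth.Agent.KosTor.Basic

set_option autoImplicit false
universe u
open CategoryTheory
attribute [local instance] HasDerivedCategory.standard
open IntMult

namespace Groth.Agent.S1914

/-- Let A be a Noetherian local ring, I = (g₁, …, g_c) an ideal generated by a regular sequence and M a
finite A-module with Supp(M/IM) of dimension ≤ 0. Then c! · length_A(M/I^t M)/t^c tends, as t → ∞,
to Σ_i (−1)^i length_A Tor_i^A(A/I, M); that is, e_I(M, c) equals this alternating sum. -/
theorem result (A : Type u) [CommRing A] [IsNoetherianRing A] [IsLocalRing A] (c : ℕ) (g : Fin c → A) (hreg : RingTheory.Sequence.IsRegular A (List.ofFn g)) (M : Type u) [AddCommGroup M] [Module A M] [Module.Finite A M] (h0 : Module.supportDim A (M ⧸ (Ideal.span (Set.range g) • (⊤ : Submodule A M))) ≤ 0) : Filter.Tendsto (fun t : ℕ => (c.factorial : ℝ) * ((Module.length A (M ⧸ (Ideal.span (Set.range g) ^ t • (⊤ : Submodule A M)))).toNat : ℝ) / (t : ℝ) ^ c) Filter.atTop (nhds (IntMult.chi A (A ⧸ Ideal.span (Set.range g)) M : ℝ)) :=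 by
  have hI : Ideal.ofList (List.ofFn g).reverse = Ideal.span (Set.range g) := by
    rw [← Agent.KosEuler.ofList_ofFn g]
    simp [Ideal.ofList, List.mem_reverse]
  have hw : RingTheory.Sequence.IsWeaklyRegular A (List.ofFn g).reverse.reverse := by
    rw [List.reverse_reverse]
    exact hreg.toIsWeaklyRegular
  have hprim : Agent.KosEuler.Prim (List.ofFn g) M := by
    intro x hx
    have h1 : PrimeSpectrum.zeroLocus
        ((Ideal.ofList (List.ofFn g) ⊔ Module.annihilator A M : Ideal A) : Set A) =
        PrimeSpectrum.zeroLocus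
          ((Module.annihilator A (M ⧸ (Ideal.span (Set.range g) • (⊤ : Submodule A M))) : Ideal A) : Set A) := by
      rw [Agent.KosEuler.ofList_ofFn, PrimeSpectrum.zeroLocus_sup, ← Module.support_eq_zeroLocus,
        ← Module.support_eq_zeroLocus, Module.support_quotient, Set.inter_comm]
    rw [PrimeSpectrum.zeroLocus_eq_iff.1 h1, Ideal.radical_eq_sInf, Submodule.mem_sInf]
    rintro P ⟨hle, hP⟩
    rw [Module.supportDim_eq_ringKrullDim_quotient_annihilator] at h0
    haveI : Ring.KrullDimLE 0
        (A ⧸ Module.annihilator A (M ⧸ (Ideal.span (Set.range g) • (⊤ : Submodule A M)))) :=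
      Ring.krullDimLE_iff.mpr h0
    haveI := hP
    have hmax : (Ideal.map (Ideal.Quotient.mk
        (Module.annihilator A (M ⧸ (Ideal.span (Set.range g) • (⊤ : Submodule A M))))) P).IsMaximal :=
      Ring.krullDimLE_zero_iff.mp inferInstance _
        (Ideal.map_isPrime_of_surjective Ideal.Quotient.mk_surjective (by rwa [Ideal.mk_ker]))
    have h2 := Ideal.comap_isMaximal_of_surjective (Ideal.Quotient.mk
        (Module.annihilator A (M ⧸ (Ideal.span (Set.range g) • (⊤ : Submodule A M))))) Ideal.Quotient.mk_surjective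
      (K := Ideal.map (Ideal.Quotient.mk
        (Module.annihilator A (M ⧸ (Ideal.span (Set.range g) • (⊤ : Submodule A M))))) P)
    rw [Ideal.comap_map_of_surjective _ Ideal.Quotient.mk_surjective, ← RingHom.ker_eq_comap_bot,
      Ideal.mk_ker, sup_eq_left.mpr hle] at h2
    rw [IsLocalRing.eq_maximalIdeal h2]
    exact hx
  have e := Agent.KosTor.chi_eq (List.ofFn g).reverse hw M
  rw [hI, Agent.KosEuler.χ_perm (List.reverse_perm (List.ofFn g))] at e
  have h := (Agent.KosEuler.tendsto_samuel (l := List.ofFn g) hprim).const_mul (c.factorial : ℝ)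
  rw [List.length_ofFn, mul_div_cancel₀ _ (Nat.cast_ne_zero.2 (Nat.factorial_ne_zero c)),
    Agent.KosEuler.ofList_ofFn g] at h
  rw [e]
  simpa only [mul_div_assoc] using h

end Groth.Agent.S1914
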