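import Groth.Statements.S1874
import Groth.Agent.IntMult88.Main
import Groth.Agent.IntMult88.Symm
import Groth.Agent.IntMult88.Samuel
import Groth.Agent.S1914

set_option autoImplicit false
universe u
open CategoryTheory AlgebraicGeometry
attribute [local instance] HasDerivedCategory.standard
open IntMult

namespace Groth.Agent.S1874

section
open IsLocalRing

namespace Groth.Agent.IntMult88

theorem samuel_main {A : Type u} [CommRing A] [IsRegularLocalRing A] {d a b : ℕ} (P Q : Ideal A)
    (hd : ringKrullDim A = d) (ha : ringKrullDim (A ⧸ P) = a) (hb : ringKrullDim (A ⧸ Q) = b)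
    (hab : d ≤ a + b) (hPQ : maximalIdeal A ≤ (P ⊔ Q).radical) (hPm : P ≤ maximalIdeal A)
    (hQm : Q ≤ maximalIdeal A) (c : ℕ) (g : Fin c → A) (hg : P = Ideal.span (Set.range g))
    (hreg : RingTheory.Sequence.IsRegular A (List.ofFn g)) :
    Filter.Tendsto (fun t : ℕ => (c.factorial : ℝ) *
        ((Module.length A (A ⧸ (Q ⊔ P ^ t))).toNat : ℝ) / (t : ℝ) ^ c)
      Filter.atTop (nhds (IntMult.chi A (A ⧸ Q) (A ⧸ P) : ℝ)) ∧
      0 < IntMult.chi A (A ⧸ Q) (A ⧸ P) := by
  classical
  obtain ⟨hcd, -, hdim⟩ := Groth.Agent.IntMult88.depth_quotient_regularSeq hd g hreg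
  rw [← hg, ha] at hdim
  have hac : a + c = d := by exact_mod_cast hdim
  haveI : Nontrivial (A ⧸ Q) := Ideal.Quotient.nontrivial_iff.2
    (fun h => (IsLocalRing.maximalIdeal.isMaximal A).ne_top (top_le_iff.1 (h ▸ hQm)))
  have hzero : ringKrullDim (A ⧸ (Q ⊔ P)) ≤ 0 := by
    suffices h : Ring.KrullDimLE 0 (A ⧸ (Q ⊔ P)) from Ring.krullDimLE_iff.1 h
    rw [Ring.krullDimLE_zero_iff]
    intro J hJ
    have h2 : IsLocalRing.maximalIdeal A ≤ J.comap (Ideal.Quotient.mk (Q ⊔ P)) := by
      refine hPQ.trans ?_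
      refine (Ideal.radical_mono ?_).trans (Ideal.IsPrime.radical (Ideal.comap_isPrime _ J)).le
      rw [sup_comm]
      exact le_of_eq_of_le Ideal.mk_ker.symm (Ideal.comap_mono bot_le)
    have h3 : (J.comap (Ideal.Quotient.mk (Q ⊔ P))).IsMaximal := by
      rw [← le_antisymm h2 (IsLocalRing.le_maximalIdeal (Ideal.comap_isPrime _ J).ne_top)]
      exact IsLocalRing.maximalIdeal.isMaximal A
    have h4 : Ideal.map (Ideal.Quotient.mk (Q ⊔ P)) (J.comap (Ideal.Quotient.mk (Q ⊔ P))) = J :=
      Ideal.map_comap_of_surjective _ Ideal.Quotient.mk_surjective J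
    rw [← h4]
    exact (Ideal.map_eq_top_or_isMaximal_of_surjective _ Ideal.Quotient.mk_surjective h3).resolve_left
      (by rw [h4]; exact hJ.ne_top)
  have hbc : b ≤ c := by
    haveI := Groth.Agent.RegLoc.isLocalRing_quotient hQm
    have h5 : P.map (Ideal.Quotient.mk Q) ≤ IsLocalRing.maximalIdeal (A ⧸ Q) := by
      rw [Groth.Agent.RegLoc.maximalIdeal_quotient_eq_map]; exact Ideal.map_mono hPm
    have h6 := ringKrullDim_le_ringKrullDim_quotient_add_spanFinrank (P.map (Ideal.Quotient.mk Q))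
      (h5.trans (IsLocalRing.ringJacobson_eq_maximalIdeal _).ge)
    rw [hb, ringKrullDim_eq_of_ringEquiv (DoubleQuot.quotQuotEquivQuotSup Q P)] at h6
    have h7 : (P.map (Ideal.Quotient.mk Q)).spanFinrank ≤ c := by
      rw [hg, Ideal.map_span, ← Set.range_comp]
      refine (Submodule.spanFinrank_span_le_ncard_of_finite (Set.finite_range _)).trans ?_
      have hcard := Finite.card_range_le (Ideal.Quotient.mk Q ∘ g)
      rw [Nat.card_coe_set_eq, Nat.card_eq_fintype_card, Fintype.card_fin] at hcard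
      exact hcard
    have h8 := h6.trans (add_le_add hzero (Nat.cast_le.2 h7))
    rw [zero_add] at h8
    exact_mod_cast h8
  have hbc' : b = c := le_antisymm hbc (by omega)
  subst hbc'
  have hsupp : Module.supportDim A
      ((A ⧸ Q) ⧸ (Ideal.span (Set.range g) • (⊤ : Submodule A (A ⧸ Q)))) ≤ 0 := by
    rw [← hg]
    have h : P • (⊤ : Submodule A (A ⧸ Q)) = Submodule.map (Submodule.mkQ Q) (Q ⊔ P) := by
      rw [Submodule.map_sup, Submodule.mkQ_map_self, bot_sup_eq,
        ← Submodule.range_mkQ Q, ← Submodule.map_top, ← Submodule.map_smul'', Ideal.smul_eq_mul,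
        Ideal.mul_top]
    rw [Module.supportDim_eq_of_equiv ((Submodule.quotEquivOfEq _ _ h).trans
      (Submodule.quotientQuotientEquivQuotient Q (Q ⊔ P) le_sup_left)),
      Module.supportDim_quotient_eq_ringKrullDim]
    exact hzero
  have hlim := Groth.Agent.S1914.result A b g hreg (A ⧸ Q) hsupp
  rw [← hg, Groth.Agent.IntMult88.chi_comm] at hlim
  refine ⟨?_, ?_⟩
  · refine hlim.congr fun t => ?_
    rw [Groth.Agent.IntMult88.length_quot_smul]
  · have hpos := Groth.Agent.IntMult88.limit_pos P hPm (A ⧸ Q) b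
      (by rw [Module.supportDim_quotient_eq_ringKrullDim, hb]) (fun t => by
        obtain ⟨k, hk⟩ := Groth.Agent.IntMult88.exists_pow_le_sup hPQ t
        refine ⟨k, (Submodule.smul_mono_left hk).trans ?_⟩
        rw [Submodule.sup_smul]
        refine sup_le ?_ le_rfl
        rw [Submodule.smul_le]
        intro q hq m _
        obtain ⟨x, rfl⟩ := Submodule.Quotient.mk_surjective Q m
        rw [← Submodule.Quotient.mk_smul, (Submodule.Quotient.mk_eq_zero Q).2 (show q • x ∈ Q from Q.mul_mem_right x hq)]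
        exact zero_mem _) _ hlim
    exact_mod_cast hpos

end Groth.Agent.IntMult88

end

/-- Suppose the ideal of V in O_{X,ξ} is generated by a regular sequence g₁, …, g_c. Then c! ·
length(O_{W,ξ}/(g₁, …, g_c)^t O_{W,ξ}) / t^c tends to e(X, V·W, Z) as t → ∞ (so e is c! times the
leading coefficient of that Hilbert polynomial), and e(X, V·W, Z) > 0. Here X is a nonsingular
variety over an algebraically closed field K (smooth, separated, of finite type, integral), V and W
are closed subvarieties given by quasi-coherent ideal sheaves with integral subschemes, of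
dimensions r and s with dim X = n, intersecting properly, and ξ is the generic point of an
irreducible component Z of V ∩ W; e(X, V·W, Z) is the alternating sum of lengths of Tor over
O_{X,ξ}. -/
theorem result (K : Type u) [Field K] [IsAlgClosed K] (X : Scheme.{u}) (f : X ⟶ Spec (CommRingCat.of K)) [Smooth f] [IsSeparated f] [QuasiCompact f] [IsIntegral X] (IV IW : X.IdealSheafData) [IsIntegral IV.subscheme] [IsIntegral IW.subscheme] (n r s : ℕ) (hn : topologicalKrullDim X = n) (hr : topologicalKrullDim IV.support = r) (hs : topologicalKrullDim IW.support = s) (hprop : IntMult.ProperInt (IV.support : Set X) (IW.support : Set X) n r s) (ξ : X) (hξV : ξ ∈ IV.support) (hξW : ξ ∈ IW.support) (hmax : ∀ ξ' : X, ξ' ∈ IV.support → ξ' ∈ IW.support → ξ' ⤳ ξ → ξ' = ξ) (c : ℕ) (g : Fin c → ↑(X.presheaf.stalk ξ)) (hg : IntMult.stalkIdeal IV ξ = Ideal.span (Set.range g)) (hreg : RingTheory.Sequence.IsRegular (↑(X.presheaf.stalk ξ)) (List.ofFn g)) : Filter.Tendsto (fun t : ℕ => (c.factorial : ℝ) * ((Module.length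 (X.presheaf.stalk ξ) (↑(X.presheaf.stalk ξ) ⧸ (IntMult.stalkIdeal IW ξ ⊔ IntMult.stalkIdeal IV ξ ^ t))).toNat : ℝ) / (t : ℝ) ^ c) Filter.atTop (nhds (IntMult.mult IV IW ξ : ℝ)) ∧ 0 < IntMult.mult IV IW ξ := by
  obtain ⟨hR, hPQ, d, a, b, hd, ha, hb, hab⟩ :=
    Groth.Agent.IntMult88.setup f IV IW hn hr hs hprop ξ hξV hξW hmax
  haveI := hR
  exact Groth.Agent.IntMult88.samuel_main _ _ hd ha hb hab hPQ
    (Groth.Agent.IntMult88.stalkIdeal_le_maximalIdeal IV ξ hξV)
    (Groth.Agent.IntMult88.stalkIdeal_le_maximalIdeal IW ξ hξW) c g hg hreg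

end Groth.Agent.S1874
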