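import Groth.Statements.S19332
import Groth.Agent.RG.FTStrict
import Groth.Agent.HTopFlat.Strict
import Groth.Agent.BlowUp.Basic
import Groth.Agent.BlowUpProper.Basic
import Groth.Agent.ModPairLib.Dense
import Groth.Agent.ModPairLib.LimitBlowup
-- import your own Groth.Agent.* helpers here

set_option autoImplicit false
set_option linter.style.haveILetI false
universe u
open CategoryTheory CategoryTheory.Limits AlgebraicGeometry TopologicalSpace
open ModPair

namespace Groth.Agent.S19332

open CategoryTheory CategoryTheory.Limits AlgebraicGeometry TopologicalSpace Opposite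

/-- A locally principal ideal without sections supported on it is effective Cartier. -/
theorem isEffCartier_of_supportedOn_eq_bot {X : Scheme.{u}} {I : X.IdealSheafData} (hI : HTop.IsLocPrincipal I)
    (h : HTop.supportedOn I = ⊥) : BlowUp.IsEffCartierIdeal I := by
  intro x
  obtain ⟨U, hxU, a, ha⟩ := hI x
  refine ⟨U, hxU, a, mem_nonZeroDivisors_iff_right.2 fun b hb => ?_, ha⟩
  have hmem : b ∈ (HTop.supportedOn I).ideal U := by
    rw [HTopSq.mem_supportedOn hI ha]
    have := congrArg (X.presheaf.map (homOfLE (X.basicOpen_le a)).op).hom hb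
    rw [map_mul, map_zero] at this
    exact (IsUnit.mul_left_eq_zero (RingedSpace.isUnit_res_basicOpen X.toLocallyRingedSpace.toRingedSpace a)).1 this
  rw [h, Scheme.IdealSheafData.ideal_bot, Pi.bot_apply] at hmem
  exact Ideal.mem_bot.1 hmem

/-- A locally principal ideal with support inside that of an effective Cartier ideal is effective Cartier. -/
theorem isEffCartier_of_support_le {X : Scheme.{u}} {I H : X.IdealSheafData} (hI : HTop.IsLocPrincipal I)
    (hH : BlowUp.IsEffCartierIdeal H) (hle : (I.support : Set X) ⊆ H.support) : BlowUp.IsEffCartierIdeal I := by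
  refine isEffCartier_of_supportedOn_eq_bot hI (le_bot_iff.1 ?_)
  have hO : HTop.awayFrom H ≤ HTop.awayFrom I := fun x hx hxI => hx (hle hxI)
  rw [← HTopSq.supportedOn_eq_bot hH, HTop.supportedOn, HTop.supportedOn, ← X.homOfLE_ι hO]
  exact Scheme.Hom.le_ker_comp _ _

theorem isLocPrincipal_of_effCartier {X : Scheme.{u}} {I : X.IdealSheafData} (hI : BlowUp.IsEffCartierIdeal I) :
    HTop.IsLocPrincipal I := fun x => by
  obtain ⟨U, hxU, f, -, hf⟩ := hI x
  exact ⟨U, hxU, f, hf⟩

/-- The sections supported on `J` cut out a closed subscheme containing the complement of `J`. -/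
theorem isIso_supportedOn_restrict {X : Scheme.{u}} (J : X.IdealSheafData) :
    IsIso ((HTop.supportedOn J).subschemeι ∣_ HTop.awayFrom J) := by
  let σ := (HTop.supportedOn J).subschemeι
  let O := HTop.awayFrom J
  let l : (O : Scheme.{u}) ⟶ _ := IsClosedImmersion.lift σ O.ι (by
    rw [Scheme.IdealSheafData.ker_subschemeι]; rfl)
  have hl : l ≫ σ = O.ι := IsClosedImmersion.lift_fac _ _ _
  have hr : Set.range l ⊆ Set.range (σ ⁻¹ᵁ O).ι := by
    rw [Scheme.Opens.range_ι]
    rintro _ ⟨x, rfl⟩
    show σ (l x) ∈ O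
    rw [← Scheme.Hom.comp_apply, hl]
    exact x.2
  let t := IsOpenImmersion.lift (σ ⁻¹ᵁ O).ι l hr
  have ht : t ≫ (σ ∣_ O) = 𝟙 _ := by
    rw [← cancel_mono O.ι, Category.assoc, morphismRestrict_ι, IsOpenImmersion.lift_fac_assoc, hl,
      Category.id_comp]
  haveI : Mono (σ ∣_ O) := mono_of_mono_fac (morphismRestrict_ι σ O)
  haveI : IsSplitEpi (σ ∣_ O) := IsSplitEpi.mk' ⟨t, ht⟩
  exact isIso_of_mono_of_isSplitEpi _

end Groth.Agent.S19332

namespace Groth.Agent.S19332

/-- Let (S, I_S) and (X, I_X) be modulus pairs, i.e. schemes with quasi-coherent ideal sheaves of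
effective Cartier divisors, with S and X quasi-compact and quasi-separated, and let f : X ⟶ S be a
minimal morphism (I_X = I_S.comap f) which is locally of finite type and whose restriction to the
interiors f⁻¹(S°) ⟶ S° is flat and locally of finite presentation. Then there are abstract
admissible blow-ups t : T ⟶ S of (S, I_S) and y : Y ⟶ X of (X, I_X) (minimal, proper, and
isomorphisms over the interiors) and a morphism g : Y ⟶ T with y ≫ f = g ≫ t which is flat, locally
of finite presentation, quasi-compact and quasi-separated; g is then minimal for the pulled-back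
moduli. The published statement assumes f only of finite type; this row also assumes X
quasi-separated. -/
theorem result {X S : Scheme.{u}}
    [CompactSpace S] [QuasiSeparatedSpace S] [CompactSpace X] [QuasiSeparatedSpace X]
    (IS : S.IdealSheafData) (IX : X.IdealSheafData) (hS : BlowUp.IsEffCartierIdeal IS)
    (hX : BlowUp.IsEffCartierIdeal IX) (f : X ⟶ S) (hf : ModPair.IsMinimal IX IS f)
    [LocallyOfFiniteType f] [Flat (f ∣_ ModPair.interior IS)]
    [LocallyOfFinitePresentation (f ∣_ ModPair.interior IS)] :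
    ∃ (T : Scheme.{u}) (t : T ⟶ S) (Y : Scheme.{u}) (y : Y ⟶ X) (g : Y ⟶ T),
      BlowUp.IsEffCartierIdeal (IS.comap t) ∧ ModPair.IsAdmBlowup (IS.comap t) IS t ∧
        BlowUp.IsEffCartierIdeal (IX.comap y) ∧ ModPair.IsAdmBlowup (IX.comap y) IX y ∧
        y ≫ f = g ≫ t ∧ Flat g ∧ LocallyOfFinitePresentation g ∧ QuasiCompact g ∧
        QuasiSeparated g := by
  classical
  haveI : QuasiCompact f := inferInstance
  haveI : QuasiSeparated f := inferInstance
  haveI := ModPairLib.Dense.isAffineHom_interior hS
  have hU : IsCompact ((ModPair.interior IS : S.Opens) : Set S) := by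
    haveI : CompactSpace (ModPair.interior IS).toScheme :=
      QuasiCompact.compactSpace_of_compactSpace (ModPair.interior IS).ι
    exact isCompact_iff_compactSpace.2 ‹_›
  obtain ⟨𝓘, T, t, ht, hadm, hsupp, hstrict⟩ := RG.FTStrict.exists_strict f (ModPair.interior IS) hU
  haveI : IsProper t := BlowUpProper.Basic.isProper ht hadm.1
  let hpb : IsPullback (pullback.fst f t) (pullback.snd f t) f t := .of_hasPullback f t
  let p₁ := pullback.fst f t
  let p₂ := pullback.snd f t
  let J := (𝓘.comap f).comap p₁
  have hJ : HTop.IsLocPrincipal J := RG.StrictSub.isLocPrincipal_exceptional ht hpb.w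
  let K := HTop.supportedOn J
  obtain ⟨hKflat, hKfp, hKqc, hKqs⟩ :=
    hstrict _ p₁ p₂ hpb K (fun V a => HTopFlat.mem_supportedOn_iff_killed hJ V a)
  have hsupp' : (𝓘.support : Set S) = IS.support := by
    rw [hsupp]
    show ((IS.support.compl : S.Opens) : Set S)ᶜ = _
    exact compl_compl _
  have hT : BlowUp.IsEffCartierIdeal (IS.comap t) :=
    isEffCartier_of_support_le (HTopSq.isLocPrincipal_comap t (isLocPrincipal_of_effCartier hS)) ht.1
      (by rw [Scheme.IdealSheafData.support_comap, Scheme.IdealSheafData.support_comap]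
          exact fun z hz => hsupp'.ge hz)
  let y := K.subschemeι ≫ p₁
  have hsq : y ≫ f = (K.subschemeι ≫ p₂) ≫ t := by
    simp only [y, p₁, p₂, Category.assoc, pullback.condition]
  have hY : BlowUp.IsEffCartierIdeal (IX.comap y) := by
    refine isEffCartier_of_support_le (HTopSq.isLocPrincipal_comap y (isLocPrincipal_of_effCartier hX))
      (HTopSq.isEffCartierIdeal_comap_supportedOn hJ) ?_
    rw [show IX = IS.comap f from hf]
    simp only [J, Scheme.IdealSheafData.support_comap]
    intro z hz
    exact hsupp'.ge hz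
  haveI : IsIso (t ∣_ ModPair.interior IS) := BlowUp.Basic.isIso_restrict ht _ (by
    rw [hsupp']; exact disjoint_compl_left)
  haveI : IsProper p₁ := MorphismProperty.pullback_fst _ _ ‹_›
  haveI : IsProper y := inferInstance
  have hint : f ⁻¹ᵁ ModPair.interior IS = ModPair.interior IX := by
    rw [show IX = IS.comap f from hf, ModPairLib.Dense.interior_comap]
  haveI h₁ : IsIso (p₁ ∣_ ModPair.interior IX) :=
    ModPairLib.LimitBlowup.isIso_restrict_of_isPullback hpb.flip (ModPair.interior IS) _ hint ‹_›
  have haway : p₁ ⁻¹ᵁ ModPair.interior IX = HTop.awayFrom J := by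
    rw [← hint]
    ext z
    show f (p₁ z) ∉ (IS.support : Set S) ↔ z ∉ (J.support : Set _)
    simp only [J, Scheme.IdealSheafData.support_comap]
    rw [← hsupp']
    rfl
  haveI h₂ : IsIso (K.subschemeι ∣_ (p₁ ⁻¹ᵁ ModPair.interior IX)) := by
    rw [haway]; exact isIso_supportedOn_restrict J
  haveI h₃ : IsIso (y ∣_ ModPair.interior IX) := by
    show IsIso ((K.subschemeι ≫ p₁) ∣_ _)
    rw [morphismRestrict_comp]
    exact @IsIso.comp_isIso _ _ _ _ _ _ _ h₂ h₁
  exact ⟨T, t, K.subscheme, y, K.subschemeι ≫ p₂, hT, ⟨rfl, ‹_›, ‹_›⟩, hY, ⟨rfl, ‹_›, h₃⟩, hsq,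
    hKflat, hKfp, hKqc, hKqs⟩

end Groth.Agent.S19332
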