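import Groth.Statements.S18740
import Groth.Agent.S19332
import Groth.Agent.IdealSh.EffCartier
-- import your own Groth.Agent.* helpers here

set_option autoImplicit false
set_option linter.style.haveILetI false
universe u
open CategoryTheory CategoryTheory.Limits AlgebraicGeometry TopologicalSpace
open ModPair

namespace Groth.Agent.S18740

/-- Let (X, I_X) be a modulus pair (a scheme with the quasi-coherent ideal sheaf of an effective Cartier
divisor) with X quasi-compact and quasi-separated, u : Y ⟶ X a minimal morphism of modulus pairs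
(I_Y = I_X.comap u) which is flat and of finite presentation (flat, locally of finite presentation,
quasi-compact, quasi-separated), and b : Y' ⟶ Y an abstract admissible blow-up of modulus pairs.
Then there exist an abstract admissible blow-up a : X' ⟶ X of modulus pairs, a minimal morphism v :
V ⟶ X' of modulus pairs which is again flat and of finite presentation, and an abstract admissible
blow-up w : V ⟶ Y', such that w ≫ b ≫ u = v ≫ a. If u is in addition surjective (an fppf covering),
then v can be chosen surjective as well. -/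
theorem result {X Y Y' : Scheme.{u}} [CompactSpace X]
    [QuasiSeparatedSpace X] (IX : X.IdealSheafData) (IY : Y.IdealSheafData) (IY' : Y'.IdealSheafData)
    (hX : BlowUp.IsEffCartierIdeal IX) (hY : BlowUp.IsEffCartierIdeal IY)
    (hY' : BlowUp.IsEffCartierIdeal IY') (u : Y ⟶ X) (hu : ModPair.IsMinimal IY IX u) [Flat u]
    [LocallyOfFinitePresentation u] [QuasiCompact u] [QuasiSeparated u]
    (b : Y' ⟶ Y) (hb : ModPair.IsAdmBlowup IY' IY b) :
    ∃ (X' : Scheme.{u}) (IX' : X'.IdealSheafData) (a : X' ⟶ X) (V : Scheme.{u})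
      (IV : V.IdealSheafData) (v : V ⟶ X') (w : V ⟶ Y'),
      BlowUp.IsEffCartierIdeal IX' ∧ ModPair.IsAdmBlowup IX' IX a ∧
        BlowUp.IsEffCartierIdeal IV ∧ ModPair.IsMinimal IV IX' v ∧ Flat v ∧
        LocallyOfFinitePresentation v ∧ QuasiCompact v ∧ QuasiSeparated v ∧
        ModPair.IsAdmBlowup IV IY' w ∧ w ≫ b ≫ u = v ≫ a ∧
        (Surjective u → Surjective v) := by
  classical
  obtain ⟨hbmin, hbp, hbiso⟩ := hb
  haveI := hbp
  have hIY : IY = IX.comap u := hu
  have hpre : u ⁻¹ᵁ ModPair.interior IX = ModPair.interior IY := by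
    rw [hIY, ModPairLib.Dense.interior_comap]
  haveI hbiso' : IsIso (b ∣_ (u ⁻¹ᵁ ModPair.interior IX)) := by rw [hpre]; exact hbiso
  haveI : CompactSpace Y := QuasiCompact.compactSpace_of_compactSpace u
  haveI : QuasiSeparatedSpace Y := quasiSeparatedSpace_of_quasiSeparated u
  haveI : CompactSpace Y' := QuasiCompact.compactSpace_of_compactSpace b
  haveI : QuasiSeparatedSpace Y' := quasiSeparatedSpace_of_quasiSeparated b
  let f := b ≫ u
  haveI : LocallyOfFiniteType f := inferInstance
  have hres : f ∣_ ModPair.interior IX = (b ∣_ (u ⁻¹ᵁ ModPair.interior IX)) ≫ (u ∣_ ModPair.interior IX) :=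
    morphismRestrict_comp b u (ModPair.interior IX)
  haveI : Flat (f ∣_ ModPair.interior IX) := by
    rw [hres]
    haveI : Flat (u ∣_ ModPair.interior IX) :=
      MorphismProperty.of_isPullback (isPullback_morphismRestrict u _).flip ‹_›
    exact MorphismProperty.comp_mem _ _ _ inferInstance inferInstance
  haveI : LocallyOfFinitePresentation (f ∣_ ModPair.interior IX) := by
    rw [hres]
    haveI : LocallyOfFinitePresentation (u ∣_ ModPair.interior IX) :=
      MorphismProperty.of_isPullback (isPullback_morphismRestrict u _).flip ‹_›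
    exact MorphismProperty.comp_mem _ _ _ inferInstance inferInstance
  have hf : ModPair.IsMinimal IY' IX f := by
    show IY' = IX.comap (b ≫ u)
    rw [Scheme.IdealSheafData.comap_comp, ← hIY]
    exact hbmin
  obtain ⟨T, a, V, w, v, hT, ha, hV, hw, hsq, hvfl, hvfp, hvqc, hvqs⟩ := S19332.result IX IY' hX hY' f hf
  have hsq' : w ≫ b ≫ u = v ≫ a := hsq
  refine ⟨T, IX.comap a, a, V, IY'.comap w, v, w, hT, ha, hV, ?_, hvfl, hvfp, hvqc, hvqs, hw, hsq',
    fun hus => ?_⟩
  · show IY'.comap w = (IX.comap a).comap v
    rw [show IY' = IX.comap f from hf, ← Scheme.IdealSheafData.comap_comp, hsq, Scheme.IdealSheafData.comap_comp]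
  -- `V` maps properly onto the base change of `Y`, as it contains its interior
  haveI := hus
  obtain ⟨-, hap, haiso⟩ := ha
  haveI := hap
  obtain ⟨-, hwp, hwiso⟩ := hw
  haveI := hwp
  let p := pullback.fst u a
  let q := pullback.snd u a
  let m : V ⟶ pullback u a := pullback.lift (w ≫ b) v (by rw [Category.assoc]; exact hsq')
  have hmp : m ≫ p = w ≫ b := pullback.lift_fst _ _ _
  have hmq : m ≫ q = v := pullback.lift_snd _ _ _
  haveI : IsProper p := MorphismProperty.pullback_fst _ _ ‹_›
  haveI : Flat q := MorphismProperty.pullback_snd _ _ ‹_›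
  haveI : IsProper m := by
    haveI : IsProper (m ≫ p) := by rw [hmp]; infer_instance
    exact IsProper.of_comp m p
  let J := IY.comap p
  have hJ : BlowUp.IsEffCartierIdeal J := by
    have : J = (IX.comap a).comap q := by
      show IY.comap p = _
      rw [hIY, ← Scheme.IdealSheafData.comap_comp, ← Scheme.IdealSheafData.comap_comp, pullback.condition]
    rw [this]
    exact IdealSh.EffCartier.comap_of_flat q hT
  haveI : IsIso (p ∣_ ModPair.interior IY) :=
    ModPairLib.LimitBlowup.isIso_restrict_of_isPullback (IsPullback.of_hasPullback u a).flip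
      (ModPair.interior IX) _ hpre haiso
  have hsub : ((ModPair.interior J : (pullback u a).Opens) : Set ↑(pullback u a)) ⊆ Set.range m := by
    intro z hz
    have hz' : p z ∈ ModPair.interior IY := by
      rw [ModPairLib.Dense.interior_comap] at hz
      exact hz
    obtain ⟨y', hy'⟩ := (b ∣_ ModPair.interior IY).homeomorph.surjective ⟨p z, hz'⟩
    have hy'I : (b ⁻¹ᵁ ModPair.interior IY).ι y' ∈ ModPair.interior IY' := by
      rw [show IY' = IY.comap b from hbmin, ModPairLib.Dense.interior_comap]
      exact y'.2
    obtain ⟨v₀, hv₀⟩ := (w ∣_ ModPair.interior IY').homeomorph.surjective ⟨_, hy'I⟩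
    refine ⟨(w ⁻¹ᵁ ModPair.interior IY').ι v₀, ?_⟩
    have hpz : p (m ((w ⁻¹ᵁ ModPair.interior IY').ι v₀)) = p z := by
      rw [← Scheme.Hom.comp_apply, hmp, Scheme.Hom.comp_apply]
      have h1 : (w ∣_ ModPair.interior IY') v₀ = ⟨_, hy'I⟩ := hv₀
      have h2 : (b ∣_ ModPair.interior IY) y' = ⟨p z, hz'⟩ := hy'
      have e1 := morphismRestrict_base_coe w (ModPair.interior IY') v₀
      have e2 := morphismRestrict_base_coe b (ModPair.interior IY) y'
      rw [h1] at e1
      rw [h2] at e2
      exact (congrArg b e1.symm).trans e2.symm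
    have hmem : m ((w ⁻¹ᵁ ModPair.interior IY').ι v₀) ∈ p ⁻¹ᵁ ModPair.interior IY := by
      show p _ ∈ ModPair.interior IY
      rw [hpz]; exact hz'
    have hinj := (p ∣_ ModPair.interior IY).homeomorph.injective
      (a₁ := ⟨_, hmem⟩) (a₂ := ⟨z, hz'⟩) (Subtype.ext (by
        refine (morphismRestrict_base_coe p (ModPair.interior IY) ⟨_, hmem⟩).trans (hpz.trans ?_)
        exact (morphismRestrict_base_coe p (ModPair.interior IY) ⟨z, hz'⟩).symm))
    exact congrArg Subtype.val hinj
  haveI := ModPairLib.Dense.isSchemeTheoreticallyDominant_interior hJ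
  haveI := ModPairLib.Dense.isAffineHom_interior hJ
  haveI : IsDominant (ModPair.interior J).ι := inferInstance
  haveI : Surjective m := ⟨fun z => by
    have hd : closure ((ModPair.interior J : (pullback u a).Opens) : Set ↑(pullback u a)) = Set.univ := by
      rw [← Scheme.Opens.range_ι (ModPair.interior J)]
      exact (ModPair.interior J).ι.denseRange.closure_eq
    exact (m.isClosedMap.isClosed_range.closure_subset_iff.2 hsub) (hd.ge trivial)⟩
  haveI : Surjective q := MorphismProperty.pullback_snd _ _ ‹_›
  rw [← hmq]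
  infer_instance

end Groth.Agent.S18740
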