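import Groth.Statements.S18741
import Mathlib.CategoryTheory.Comma.Over.Basic
import Mathlib.CategoryTheory.Localization.CalculusOfFractions
-- import your own Groth.Agent.* helpers here

set_option autoImplicit false
universe v₁ v₂ v₃ u₁ u₂ u₃
open CategoryTheory
open ModPair

namespace Groth.Agent.S18741

/-- Let C be a category, W a class of morphisms of C admitting a calculus of right fractions, and S an
object of C; let W_S be the class of morphisms of the slice category over S whose underlying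
morphism lies in W. Then the canonical functor from the localization of the slice category C/S at
W_S to the slice category over S of the localization of C at W is an equivalence: for every
localization functor L : C ⥤ D at W, every localization functor L' : C/S ⥤ E at W_S, and every
functor Φ : E ⥤ D/L(S) through which the functor C/S ⥤ D/L(S) induced by L factors up to
isomorphism, Φ is an equivalence of categories. -/
theorem result {C : Type u₁}
    [Category.{v₁} C] (W : MorphismProperty C) [W.HasRightCalculusOfFractions] (S : C)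
    {D : Type u₂} [Category.{v₂} D] (L : C ⥤ D) [L.IsLocalization W]
    {E : Type u₃} [Category.{v₃} E] (L' : Over S ⥤ E)
    [L'.IsLocalization (W.inverseImage (Over.forget S))]
    (Φ : E ⥤ Over (L.obj S)) (e : L' ⋙ Φ ≅ Over.post L) : Φ.IsEquivalence := by
  let WS : MorphismProperty (Over S) := W.inverseImage (Over.forget S)
  have : WS.HasRightCalculusOfFractions :=
    { id_mem := fun A => W.id_mem _
      comp_mem := fun f g hf hg => W.comp_mem _ _ hf hg
      exists_rightFraction := by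
        intro A B φ
        obtain ⟨ψ, hψ⟩ := (MorphismProperty.LeftFraction.mk φ.f.left φ.s.left φ.hs).exists_rightFraction
        simp only at hψ
        refine ⟨MorphismProperty.RightFraction.mk (X' := Over.mk (ψ.s ≫ A.hom))
          (Over.homMk ψ.s rfl) ψ.hs (Over.homMk ψ.f ?_), Over.OverMorphism.ext hψ⟩
        show ψ.f ≫ B.hom = ψ.s ≫ A.hom
        rw [← Over.w φ.f, ← Over.w φ.s, ← Category.assoc, ← Category.assoc, hψ]
      ext := by
        intro A B B' f₁ f₂ s hs h
        obtain ⟨X', t, ht, h'⟩ := MorphismProperty.HasRightCalculusOfFractions.ext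
          (W := W) f₁.left f₂.left s.left hs (congrArg CommaMorphism.left h)
        exact ⟨Over.mk (t ≫ A.hom), Over.homMk t rfl, ht, Over.OverMorphism.ext h'⟩ }
  have hes := Localization.essSurj L' WS
  -- `Φ` on fractions
  let α : ∀ A : Over S, (Φ.obj (L'.obj A)).left ≅ L.obj A.left :=
    fun A => (Over.forget _).mapIso (e.app A)
  have hw : ∀ A : Over S, (α A).hom ≫ L.map A.hom = (Φ.obj (L'.obj A)).hom :=
    fun A => Over.w (e.hom.app A)
  have hw' : ∀ A : Over S, (α A).inv ≫ (Φ.obj (L'.obj A)).hom = L.map A.hom :=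
    fun A => Over.w (e.inv.app A)
  have hnat : ∀ {A B : Over S} (h : A ⟶ B),
      (Φ.map (L'.map h)).left = (α A).hom ≫ L.map h.left ≫ (α B).inv := by
    intro A B h
    rw [← Category.assoc, Iso.eq_comp_inv]
    exact congrArg CommaMorphism.left (e.hom.naturality h)
  have hfull : ∀ (A B : Over S) (g : Φ.obj (L'.obj A) ⟶ Φ.obj (L'.obj B)),
      ∃ k : L'.obj A ⟶ L'.obj B, Φ.map k = g := by
    intro A B g
    obtain ⟨φ, hφ⟩ := Localization.exists_rightFraction L W
      ((α A).inv ≫ g.left ≫ (α B).hom)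
    have hsg : L.map φ.f = L.map φ.s ≫ (α A).inv ≫ g.left ≫ (α B).hom := by
      rw [hφ, MorphismProperty.RightFraction.map_s_comp_map]
    obtain ⟨X', t, ht, hteq⟩ := (MorphismProperty.map_eq_iff_precomp L W (φ.s ≫ A.hom)
      (φ.f ≫ B.hom)).1 (by
      rw [Functor.map_comp, Functor.map_comp, hsg]
      simp only [Category.assoc]
      rw [hw B, Over.w g, hw' A])
    let a : Over.mk ((t ≫ φ.s) ≫ A.hom) ⟶ A := Over.homMk (t ≫ φ.s) rfl
    let b : Over.mk ((t ≫ φ.s) ≫ A.hom) ⟶ B := Over.homMk (t ≫ φ.f) (by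
      show (t ≫ φ.f) ≫ B.hom = (t ≫ φ.s) ≫ A.hom
      simp only [Category.assoc, hteq])
    have haS : WS a := W.comp_mem _ _ ht φ.hs
    have : IsIso (L'.map a) := Localization.inverts L' WS _ haS
    refine ⟨inv (L'.map a) ≫ L'.map b, ?_⟩
    rw [Functor.map_comp, Functor.map_inv, IsIso.inv_comp_eq]
    ext
    rw [Over.comp_left, hnat, hnat]
    simp only [a, b, Over.homMk_left, Functor.map_comp, hsg, Category.assoc, Iso.hom_inv_id,
      Category.comp_id, Iso.inv_hom_id_assoc]
  have hfaith : ∀ (A B : Over S) (k₁ k₂ : L'.obj A ⟶ L'.obj B),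
      Φ.map k₁ = Φ.map k₂ → k₁ = k₂ := by
    intro A B k₁ k₂ hk
    obtain ⟨φ₁, hφ₁⟩ := Localization.exists_rightFraction L' WS k₁
    obtain ⟨φ₂, hφ₂⟩ := Localization.exists_rightFraction L' WS k₂
    obtain ⟨ψ, hψ⟩ := (MorphismProperty.LeftFraction.mk φ₁.s φ₂.s φ₂.hs).exists_rightFraction
    simp only at hψ
    have hiso : IsIso (L'.map (ψ.s ≫ φ₁.s)) :=
      Localization.inverts L' WS _ (WS.comp_mem _ _ ψ.hs φ₁.hs)
    have h₁ : L'.map (ψ.s ≫ φ₁.s) ≫ k₁ = L'.map (ψ.s ≫ φ₁.f) := by
      rw [hφ₁, Functor.map_comp, Functor.map_comp, Category.assoc,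
        MorphismProperty.RightFraction.map_s_comp_map]
    have h₂ : L'.map (ψ.s ≫ φ₁.s) ≫ k₂ = L'.map (ψ.f ≫ φ₂.f) := by
      rw [hψ, hφ₂, Functor.map_comp, Functor.map_comp, Category.assoc,
        MorphismProperty.RightFraction.map_s_comp_map]
    have h₃ : Φ.map (L'.map (ψ.s ≫ φ₁.f)) = Φ.map (L'.map (ψ.f ≫ φ₂.f)) := by
      rw [← h₁, ← h₂, Φ.map_comp, Φ.map_comp, hk]
    have h₄ : L.map (ψ.s ≫ φ₁.f).left = L.map (ψ.f ≫ φ₂.f).left := by
      have h5 := congrArg (fun q => Over.Hom.left q) h₃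
      simp only [hnat] at h5
      rwa [cancel_epi, cancel_mono] at h5
    obtain ⟨Z, t, ht, heq⟩ := (MorphismProperty.map_eq_iff_precomp L W _ _).1 h₄
    let r : Over.mk (t ≫ ψ.X'.hom) ⟶ ψ.X' := Over.homMk t rfl
    have : IsIso (L'.map r) := Localization.inverts L' WS _ ht
    have heq' : r ≫ ψ.s ≫ φ₁.f = r ≫ ψ.f ≫ φ₂.f := Over.OverMorphism.ext heq
    rw [← cancel_epi (L'.map (ψ.s ≫ φ₁.s)), h₁, h₂, ← cancel_epi (L'.map r),
      ← Functor.map_comp, ← Functor.map_comp, heq']
  have : Φ.Full := ⟨fun {A B} g => by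
    let α := L'.objObjPreimageIso A
    let β := L'.objObjPreimageIso B
    obtain ⟨k, hk⟩ := hfull _ _ (Φ.map α.hom ≫ g ≫ Φ.map β.inv)
    exact ⟨α.inv ≫ k ≫ β.hom, by simp [hk]⟩⟩
  have : Φ.Faithful := ⟨fun {A B} k₁ k₂ hk => by
    let α := L'.objObjPreimageIso A
    let β := L'.objObjPreimageIso B
    have := hfaith _ _ (α.hom ≫ k₁ ≫ β.inv) (α.hom ≫ k₂ ≫ β.inv) (by simp [hk])
    rwa [cancel_epi, cancel_mono] at this⟩
  have : Φ.EssSurj := ⟨fun Y => by
    obtain ⟨Z, ⟨γ⟩⟩ : ∃ Z, Nonempty (L.obj Z ≅ Y.left) :=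
      ⟨_, ⟨(Localization.essSurj L W).mem_essImage Y.left |>.getIso⟩⟩
    obtain ⟨φ, hφ⟩ := Localization.exists_rightFraction L W (γ.hom ≫ Y.hom)
    have : IsIso (L.map φ.s) := Localization.inverts L W _ φ.hs
    refine ⟨L'.obj (Over.mk φ.f), ⟨e.app _ ≪≫
      Over.isoMk (@asIso _ _ _ _ (L.map φ.s) this ≪≫ γ) ?_⟩⟩
    show (L.map φ.s ≫ γ.hom) ≫ Y.hom = L.map φ.f
    rw [Category.assoc, hφ, MorphismProperty.RightFraction.map_s_comp_map]⟩
  exact {}

end Groth.Agent.S18741
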