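import Groth.Statements.S18748
import Groth.Agent.ModPairLib.Coprod
import Groth.Agent.S18738
import Mathlib.CategoryTheory.Localization.FiniteProducts
import Mathlib.CategoryTheory.Localization.Opposite
-- import your own Groth.Agent.* helpers here

set_option autoImplicit false
universe u
open CategoryTheory CategoryTheory.Limits AlgebraicGeometry TopologicalSpace
open ModPair

namespace Groth.Agent.S18748

open Groth.Agent.ModPairLib in
lemma admBlowup_of_isIso {X Y : ModPair.Pair.{u}} (e : X ≅ Y) : ModPair.Pair.admBlowup e.hom := by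
  have : IsIso e.hom.hom := inferInstanceAs (IsIso (ModPair.Pair.forget.map e.hom))
  refine ⟨le_antisymm e.hom.cond ?_, inferInstance, inferInstance⟩
  have h : e.hom.hom ≫ e.inv.hom = 𝟙 X.total := congrArg ModPair.Pair.Hom.hom e.hom_inv_id
  have := Scheme.IdealSheafData.comap_mono e.hom.hom e.inv.cond
  beta_reduce at this
  rw [← Scheme.IdealSheafData.comap_comp, h, Scheme.IdealSheafData.comap_id] at this
  exact this

open Groth.Agent.ModPairLib Opposite in
/-- The cone given by a disjoint union. -/
noncomputable def opCone (X : Discrete WalkingPair ⥤ ModPair.Pair.{u}ᵒᵖ) : Cone X where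
  pt := op (Coprod.sigma fun i : ULift.{u} WalkingPair => (X.obj ⟨i.down⟩).unop)
  π := Discrete.natTrans fun j =>
    (Coprod.sigmaι (fun i : ULift.{u} WalkingPair => (X.obj ⟨i.down⟩).unop) ⟨j.as⟩).op

open Groth.Agent.ModPairLib Opposite in
/-- It is a limit cone. -/
noncomputable def isLimitOpCone (X : Discrete WalkingPair ⥤ ModPair.Pair.{u}ᵒᵖ) :
    IsLimit (opCone X) where
  lift s := ((Coprod.isColimit fun i : ULift.{u} WalkingPair => (X.obj ⟨i.down⟩).unop).desc
    (Cofan.mk s.pt.unop fun i => (s.π.app ⟨i.down⟩).unop)).op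
  fac s j := Quiver.Hom.unop_inj
    ((Coprod.isColimit fun i : ULift.{u} WalkingPair => (X.obj ⟨i.down⟩).unop).fac
      (Cofan.mk s.pt.unop fun i => (s.π.app ⟨i.down⟩).unop) ⟨⟨j.as⟩⟩)
  uniq s m hm := Quiver.Hom.unop_inj
    ((Coprod.isColimit fun i : ULift.{u} WalkingPair => (X.obj ⟨i.down⟩).unop).uniq
      (Cofan.mk s.pt.unop fun i => (s.π.app ⟨i.down⟩).unop) m.unop
      fun i => congrArg Quiver.Hom.unop (hm ⟨i.as.down⟩))


/-- The localization of the category of modulus pairs and ambient morphisms at the class of abstract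
admissible blow-ups has binary coproducts, and the localization functor carries the coproduct of two
modulus pairs (the disjoint union of the total spaces with the disjoint union of the moduli) to a
coproduct. (The source also states that the interior functor detects these coproducts; that part is
not included.) -/
theorem result :
    HasBinaryCoproducts (ModPair.Pair.admBlowup.{u}).Localization ∧
      PreservesColimitsOfShape (Discrete WalkingPair) (ModPair.Pair.admBlowup.{u}).Q := by
  have := Groth.Agent.S18738.result.{u}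
  set W := ModPair.Pair.admBlowup.{u}
  have : HasColimitsOfShape (Discrete (ULift.{u} WalkingPair)) ModPair.Pair.{u} :=
    Groth.Agent.ModPairLib.Coprod.hasColimitsOfShape _
  have : HasBinaryCoproducts ModPair.Pair.{u} :=
    hasColimitsOfShape_of_equivalence (Discrete.equivalence (Equiv.ulift.{u} (α := WalkingPair)))
  have : W.op.IsStableUnderProductsOfShape WalkingPair := by
    refine ⟨fun X₁ X₂ c₁ c₂ hc₁ hc₂ f hf φ hφ => ?_⟩
    let P₁ := fun i : ULift.{u} WalkingPair => (X₁.obj ⟨i.down⟩).unop
    let P₂ := fun i : ULift.{u} WalkingPair => (X₂.obj ⟨i.down⟩).unop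
    let F : ∀ i, P₂ i ⟶ P₁ i := fun i => (f.app ⟨i.down⟩).unop
    let α : Groth.Agent.ModPairLib.Coprod.sigma P₂ ⟶ Groth.Agent.ModPairLib.Coprod.sigma P₁ :=
      (Groth.Agent.ModPairLib.Coprod.isColimit P₂).desc
      (Cofan.mk _ fun i => F i ≫ Groth.Agent.ModPairLib.Coprod.sigmaι P₁ i)
    have hα : W α := Groth.Agent.ModPairLib.Coprod.admBlowup_of_components F
      (fun i => hf ⟨i.down⟩) α fun i =>
        (Groth.Agent.ModPairLib.Coprod.isColimit P₂).fac _ ⟨i⟩
    let e₁ := hc₁.conePointUniqueUpToIso (isLimitOpCone X₁)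
    let e₂ := hc₂.conePointUniqueUpToIso (isLimitOpCone X₂)
    let β : (opCone X₁).pt ⟶ (opCone X₂).pt := α.op
    have h1 : ∀ j, β ≫ (opCone X₂).π.app j = (opCone X₁).π.app j ≫ f.app j := fun j =>
      Quiver.Hom.unop_inj ((Groth.Agent.ModPairLib.Coprod.isColimit P₂).fac
        (Cofan.mk _ fun i => F i ≫ Groth.Agent.ModPairLib.Coprod.sigmaι P₁ i) ⟨⟨j.as⟩⟩)
    have key : φ = e₁.hom ≫ β ≫ e₂.inv := hc₂.hom_ext fun j => by
      rw [hφ j, Category.assoc, Category.assoc, IsLimit.conePointUniqueUpToIso_inv_comp, h1,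
        ← Category.assoc, IsLimit.conePointUniqueUpToIso_hom_comp]
    rw [key]
    show W ((e₂.inv.unop ≫ α) ≫ e₁.hom.unop)
    exact W.comp_mem _ _ (W.comp_mem _ _ (admBlowup_of_isIso e₂.symm.unop) hα)
      (admBlowup_of_isIso e₁.unop)
  have h₁ : HasProductsOfShape WalkingPair (W.Localization)ᵒᵖ :=
    Localization.hasProductsOfShape W.Q.op W.op WalkingPair
  have h₂ : PreservesLimitsOfShape (Discrete WalkingPair) W.Q.op :=
    Localization.preservesProductsOfShape W.Q.op W.op WalkingPair
  have h₃ : PreservesLimitsOfShape (Discrete WalkingPair)ᵒᵖ W.Q.op :=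
    preservesLimitsOfShape_of_equiv (Discrete.opposite WalkingPair).symm W.Q.op
  exact ⟨hasCoproductsOfShape_of_opposite WalkingPair, preservesColimitsOfShape_of_op _ W.Q⟩

end Groth.Agent.S18748
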