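import Groth.Statements.S18753
import Groth.Agent.ModPairLib.SemiVal.FiniteFibres
import Groth.Agent.ModPairLib.Dense
import Groth.Agent.IdealSh.Comap
-- import your own Groth.Agent.* helpers here

set_option autoImplicit false
universe u
open CategoryTheory CategoryTheory.Limits AlgebraicGeometry TopologicalSpace
open ModPair

namespace Groth.Agent.S18753

open Groth.Agent.IdealSh
/-- Let O be a local ring with residue field κ, R a valuation ring of κ, A ⊆ O the subring of elements
whose residue class lies in R (the fibre product ring R ×_κ O, a semi-valuation ring), and f an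
element of A such that O is the localization of A obtained by inverting f. Equip P = Spec A with the
modulus V(f), the closed subscheme cut out by f (an effective Cartier divisor: f is a unit of O, so
a nonzerodivisor of A), whose interior is Spec O. Let q : Q ⟶ P be a proper, minimal morphism of
modulus pairs (the modulus of Q is the pull-back of V(f) and is an effective Cartier divisor) whose
restriction over the interior of P is a finite morphism. Then q is finite. -/
theorem result {O : Type u} [CommRing O]
    [IsLocalRing O] (R : ValuationSubring (IsLocalRing.ResidueField O))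
    (f : ↥((R.toSubring).comap (IsLocalRing.residue O)))
    [IsLocalization.Away f O] {Q : Scheme.{u}} (IQ : Q.IdealSheafData)
    (hQ : BlowUp.IsEffCartierIdeal IQ)
    (q : Q ⟶ Spec (CommRingCat.of ↥((R.toSubring).comap (IsLocalRing.residue O))))
    (hq : ModPair.IsMinimal IQ
      (Spec.map (CommRingCat.ofHom (Ideal.Quotient.mk (Ideal.span {f})))).ker q)
    [IsProper q]
    (hfin : IsFinite (q ∣_ ModPair.interior
      (Spec.map (CommRingCat.ofHom (Ideal.Quotient.mk (Ideal.span {f})))).ker)) :
    IsFinite q := by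
  let A := (R.toSubring).comap (IsLocalRing.residue O)
  let π : A →+* R := (IsLocalRing.residue O).restrict A R.toSubring fun x hx => hx
  have hπval : ∀ x : A, ((π x : R) : IsLocalRing.ResidueField O) = IsLocalRing.residue O x :=
    fun x => rfl
  have hπ : Function.Surjective π := fun r => by
    obtain ⟨x, hx⟩ := IsLocalRing.residue_surjective (r : IsLocalRing.ResidueField O)
    exact ⟨⟨x, show IsLocalRing.residue O x ∈ R.toSubring from hx ▸ r.2⟩, Subtype.ext hx⟩
  have hu : IsUnit (algebraMap A O f) := IsLocalization.Away.algebraMap_isUnit f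
  have hinj : Function.Injective (algebraMap A O) := fun x y e => Subtype.ext e
  have hf : π f ≠ 0 := fun e => (hu.map (IsLocalRing.residue O)).ne_zero (congrArg Subtype.val e)
  have hdiv : ∀ x, π x = 0 → f ∣ x := fun x hx => by
    obtain ⟨v, hv⟩ := hu.exists_right_inv
    have hy : IsLocalRing.residue O (v * algebraMap A O x) = 0 := by
      rw [map_mul, show IsLocalRing.residue O (algebraMap A O x) = 0 from congrArg Subtype.val hx,
        mul_zero]
    refine ⟨⟨v * algebraMap A O x, show IsLocalRing.residue O (v * algebraMap A O x) ∈ R.toSubring by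
      rw [hy]; exact R.toSubring.zero_mem⟩, hinj ?_⟩
    rw [map_mul]
    show algebraMap A O x = algebraMap A O f * (v * algebraMap A O x)
    rw [← mul_assoc, hv, one_mul]
  have hgenV : ∀ r, π r ≠ 0 → ∃ (n : ℕ) (y : A), π r * π y = π f ^ n := fun r hr => by
    have hru : IsUnit (algebraMap A O r) := by
      rw [← IsLocalRing.residue_ne_zero_iff_isUnit]
      exact fun e => hr (Subtype.ext e)
    obtain ⟨n, y, hy⟩ := (IsLocalization.Away.algebraMap_isUnit_iff f).1 hru
    exact ⟨n, y, by rw [← map_mul, ← map_pow, ← hy]⟩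
  set J := (Spec.map (CommRingCat.ofHom (Ideal.Quotient.mk (Ideal.span {f})))).ker
  have hint : (ModPair.interior J : Set (Spec (CommRingCat.of A))) =
      (PrimeSpectrum.zeroLocus {f})ᶜ := by
    have hr : Set.range (Spec.map (CommRingCat.ofHom (Ideal.Quotient.mk (Ideal.span {f})))) =
        PrimeSpectrum.zeroLocus {f} := by
      refine (range_comap_of_surjective _ _ Ideal.Quotient.mk_surjective).trans ?_
      rw [Ideal.mk_ker, PrimeSpectrum.zeroLocus_span]
    show (J.support : Set (Spec (CommRingCat.of A)))ᶜ = _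
    rw [Scheme.Hom.support_ker, ← hr]
    simp only [hr, TopologicalSpace.Closeds.coe_closure]
    exact congrArg (fun s => sᶜ) (PrimeSpectrum.isClosed_zeroLocus _).closure_eq
  have := Groth.Agent.ModPairLib.Dense.isSchemeTheoreticallyDominant_interior hQ
  have hW : ModPair.interior IQ = q ⁻¹ᵁ ModPair.interior J := by
    rw [show IQ = J.comap q from hq, Groth.Agent.ModPairLib.Dense.interior_comap]
  suffices LocallyQuasiFinite q from IsFinite.of_isProper_of_locallyQuasiFinite q
  refine LocallyQuasiFinite.of_finite_preimage_singleton q fun p => ?_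
  -- fibres over the interior
  have hfib : ∀ p ∈ ModPair.interior J, (q ⁻¹' {p}).Finite := fun p hp => by
    have h2 := (q ∣_ ModPair.interior J).finite_preimage_singleton ⟨p, hp⟩
    refine (h2.image (q ⁻¹ᵁ ModPair.interior J).ι).subset fun x hx => ?_
    have hxp : q x = p := hx
    have hxU : q x ∈ ModPair.interior J := hxp ▸ hp
    refine ⟨⟨x, hxU⟩, ?_, rfl⟩
    show (q ∣_ ModPair.interior J) ⟨x, hxU⟩ = ⟨p, hp⟩
    apply Subtype.ext
    exact ((Scheme.Hom.comp_apply _ (ModPair.interior J).ι _).symm.trans
      (by rw [morphismRestrict_ι]; rfl)).trans hxp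
  by_cases hp : p ∈ ModPair.interior J
  · exact hfib p hp
  have hfp : f ∈ p.asIdeal := by
    have : p ∉ ((PrimeSpectrum.zeroLocus {f})ᶜ : Set (PrimeSpectrum A)) :=
      fun h => hp (show p ∈ (ModPair.interior J : Set (Spec (CommRingCat.of A))) from hint.ge h)
    exact Set.singleton_subset_iff.1 ((PrimeSpectrum.mem_zeroLocus _ _).1 (not_not.1 this))
  have : CompactSpace Q := QuasiCompact.compactSpace_of_compactSpace q
  obtain ⟨t, ht⟩ := isCompact_univ.elim_finite_subcover (fun V : Q.affineOpens => (V.1 : Set Q))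
    (fun V => V.1.2) (fun x _ => by
      obtain ⟨V, hV, -⟩ := Groth.Agent.IdealSh.Comap.exists_affine_le x ⊤ trivial
      exact Set.mem_iUnion.2 ⟨V, hV⟩)
  refine (t.finite_toSet.biUnion fun V _ => ?_ : (⋃ V ∈ (t : Set Q.affineOpens),
    (V.1 : Set Q) ∩ q ⁻¹' {p}).Finite).subset fun x hx => ?_
  swap
  · obtain ⟨V, hVt, hxV⟩ := Set.mem_iUnion₂.1 (ht (Set.mem_univ x))
    exact Set.mem_iUnion₂.2 ⟨V, hVt, hxV, hx⟩
  obtain ⟨φ, hφ⟩ : ∃ φ : CommRingCat.of A ⟶ Γ(Q, V.1), Spec.map φ = V.2.fromSpec ≫ q :=
    ⟨Spec.preimage _, Spec.map_preimage _⟩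
  have hft : φ.hom.FiniteType := by
    have h1 : LocallyOfFiniteType (Spec.map φ) := by
      rw [hφ]
      have := V.2.isOpenImmersion_fromSpec
      infer_instance
    rwa [HasRingHomProperty.Spec_iff (P := @LocallyOfFiniteType)] at h1
  algebraize [φ.hom]
  have hmem : ∀ z : PrimeSpectrum Γ(Q, V.1), q (V.2.fromSpec z) = z.comap φ.hom := fun z => by
    rw [← Scheme.Hom.comp_apply, ← hφ]
    rfl
  have hnzd : algebraMap A Γ(Q, V.1) f ∈ nonZeroDivisors Γ(Q, V.1) := by
    refine mem_nonZeroDivisors_iff_right.2 fun s hs => ?_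
    have := Groth.Agent.ModPairLib.Dense.isAffineHom_interior hQ
    refine (ModPair.interior IQ).ι.app_injective V.1 ?_
    rw [map_zero]
    have hunit : IsUnit (((ModPair.interior IQ).ι.app V.1).hom (algebraMap A Γ(Q, V.1) f)) := by
      rw [Scheme.Opens.ι_app]
      have hle : (ModPair.interior IQ).ι ''ᵁ ((ModPair.interior IQ).ι ⁻¹ᵁ V.1) ≤
          Q.basicOpen (algebraMap A Γ(Q, V.1) f) := by
        rw [Scheme.Hom.image_preimage_eq_opensRange_inf, Scheme.Opens.opensRange_ι]
        rintro y ⟨hy₁, hy₂⟩
        obtain ⟨z, rfl⟩ : ∃ z, V.2.fromSpec z = y := by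
          have : y ∈ Set.range V.2.fromSpec := by rw [V.2.range_fromSpec]; exact hy₂
          exact this
        rw [hW] at hy₁
        have h3 : q (V.2.fromSpec z) ∈ ((PrimeSpectrum.zeroLocus {f})ᶜ : Set (PrimeSpectrum A)) :=
          hint.le hy₁
        have h4 : z ∈ V.2.fromSpec ⁻¹ᵁ Q.basicOpen (algebraMap A Γ(Q, V.1) f) := by
          rw [V.2.fromSpec_preimage_basicOpen]
          intro hz
          refine h3 ((PrimeSpectrum.mem_zeroLocus _ _).2 (Set.singleton_subset_iff.2 ?_))
          rw [hmem]
          exact hz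
        exact h4
      have h1 : IsUnit (Q.presheaf.map (homOfLE (Q.basicOpen_le _)).op
          (algebraMap A Γ(Q, V.1) f)) := RingedSpace.isUnit_res_basicOpen _ _
      have h2 := h1.map (Q.presheaf.map (homOfLE hle).op).hom
      rw [← RingHom.comp_apply, ← CommRingCat.hom_comp, ← Functor.map_comp] at h2
      exact h2
    refine (hunit.mul_left_eq_zero).1 ?_
    rw [← map_mul, hs, map_zero]
  have := V.2.isOpenImmersion_fromSpec
  have hinjV : Function.Injective V.2.fromSpec := V.2.fromSpec.isOpenEmbedding.injective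
  let p₀ : PrimeSpectrum A := ⟨RingHom.ker π, RingHom.ker_isPrime π⟩
  have hgen : {g : PrimeSpectrum Γ(Q, V.1) |
      g.asIdeal.comap (algebraMap A Γ(Q, V.1)) = RingHom.ker π}.Finite := by
    have hp₀ : p₀ ∈ ModPair.interior J := by
      show p₀ ∈ (ModPair.interior J : Set (Spec (CommRingCat.of A)))
      rw [hint]
      exact fun h => hf (RingHom.mem_ker.1 (Set.singleton_subset_iff.1 ((PrimeSpectrum.mem_zeroLocus _ _).1 h)))
    refine ((hfib p₀ hp₀).preimage hinjV.injOn).subset fun z hz => ?_
    exact (hmem z).trans (PrimeSpectrum.ext hz)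
  refine ((Groth.Agent.ModPairLib.SemiVal.FiniteFibres.finite_fibre π hπ f hf hdiv hgenV hnzd hgen p
    hfp).image V.2.fromSpec).subset ?_
  rintro x ⟨hxV, hxp⟩
  obtain ⟨z, rfl⟩ : ∃ z, V.2.fromSpec z = x := by
    have : x ∈ Set.range V.2.fromSpec := by rw [V.2.range_fromSpec]; exact hxV
    exact this
  exact ⟨z, (hmem z).symm.trans hxp, rfl⟩

end Groth.Agent.S18753
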