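import Groth.Statements.S18754
import Groth.Agent.LimLib.Immersion
import Groth.Agent.ModPairLib.Dense
-- import your own Groth.Agent.* helpers here

set_option autoImplicit false
universe u
open CategoryTheory CategoryTheory.Limits AlgebraicGeometry TopologicalSpace
open ModPair

namespace Groth.Agent.S18754

/-- Let (Y, I_Y) be a modulus pair with Y quasi-compact and quasi-separated, and let (X_i ⟶ Y) be a
cofiltered system of Y-schemes with affine transition morphisms such that every X_i is quasi-compact
and quasi-separated, the pulled-back ideal I_Y.comap (X_i ⟶ Y) is the ideal of an effective Cartier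
divisor, and X_i ⟶ Y is an abstract admissible blow-up of modulus pairs which is locally of finite
presentation. Let X be the limit of the system over Y and suppose that X ⟶ Y, with the pulled-back
modulus (assumed effective Cartier), is also an abstract admissible blow-up. Then X ⟶ Y is locally
of finite presentation: an abstract admissible blow-up of quasi-compact quasi-separated modulus
pairs which is not of finite presentation is never a limit of finitely presented ones. -/
theorem result {Y : Scheme.{u}}
    [CompactSpace Y] [QuasiSeparatedSpace Y] (IY : Y.IdealSheafData) (hY : BlowUp.IsEffCartierIdeal IY)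
    {I : Type u} [SmallCategory I] [IsCofiltered I] (D : I ⥤ Over Y) (c : Cone D) (hc : IsLimit c)
    [∀ (i j : I) (t : i ⟶ j), IsAffineHom (D.map t).left]
    [∀ i, CompactSpace (D.obj i).left] [∀ i, QuasiSeparatedSpace (D.obj i).left]
    (hI : ∀ i, BlowUp.IsEffCartierIdeal (IY.comap (D.obj i).hom))
    (hadm : ∀ i, ModPair.IsAdmBlowup (IY.comap (D.obj i).hom) IY (D.obj i).hom)
    [∀ i, LocallyOfFinitePresentation (D.obj i).hom]
    (hX : BlowUp.IsEffCartierIdeal (IY.comap c.pt.hom))
    (hXadm : ModPair.IsAdmBlowup (IY.comap c.pt.hom) IY c.pt.hom) :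
    LocallyOfFinitePresentation c.pt.hom := by
  obtain ⟨-, hproper, hXiso⟩ := hXadm
  have : IsProper c.pt.hom := hproper
  have : LocallyOfFiniteType (𝟙 c.pt.left ≫ c.pt.hom) := inferInstance
  obtain ⟨i, hi⟩ := Groth.Agent.LimLib.exists_isClosedImmersion_π D c hc (𝟙 c.pt.left)
  have hci : IsClosedImmersion (c.π.app i).left := by simpa using hi
  let π : c.pt.left ⟶ (D.obj i).left := (c.π.app i).left
  let p : (D.obj i).left ⟶ Y := (D.obj i).hom
  have hw : π ≫ p = c.pt.hom := Over.w (c.π.app i)
  let W := p ⁻¹ᵁ ModPair.interior IY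
  have hiso : IsIso (π ∣_ W) := by
    have h1 : IsIso (p ∣_ ModPair.interior IY) := (hadm i).2.2
    have h2 : IsIso ((π ≫ p) ∣_ ModPair.interior IY) := hw ▸ hXiso
    rw [morphismRestrict_comp] at h2
    exact @IsIso.of_isIso_comp_right _ _ _ _ _ _ (p ∣_ ModPair.interior IY) h1 h2
  have hker : π.ker = ⊥ := by
    have hd := Groth.Agent.ModPairLib.Dense.isSchemeTheoreticallyDominant_interior (hI i)
    rw [Groth.Agent.ModPairLib.Dense.interior_comap] at hd
    have e : W.ι = (inv (π ∣_ W) ≫ (π ⁻¹ᵁ W).ι) ≫ π := by
      rw [Category.assoc, ← morphismRestrict_ι, IsIso.inv_hom_id_assoc]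
    refine le_bot_iff.1 ?_
    calc π.ker ≤ ((inv (π ∣_ W) ≫ (π ⁻¹ᵁ W).ι) ≫ π).ker := Scheme.Hom.le_ker_comp _ _
      _ = W.ι.ker := congrArg Scheme.Hom.ker e.symm
      _ = ⊥ := hd.ker_eq_bot
  have : IsIso π := IsClosedImmersion.isIso_of_ker_eq π (𝟙 _) π (Category.comp_id _)
    (hker.trans (Scheme.Hom.ker_eq_bot (𝟙 _)).symm)
  rw [← hw]
  infer_instance

end Groth.Agent.S18754
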