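import Groth.Statements.S18755
import Groth.Agent.ModPairLib.Product
-- import your own Groth.Agent.* helpers here

set_option autoImplicit false
universe u
open CategoryTheory CategoryTheory.Limits AlgebraicGeometry TopologicalSpace
open ModPair

namespace Groth.Agent.S18755

open Groth.Agent.ModPairLib
/-- Let (S₀, I₀), (S₁, I₁), (T, J), (X, I) be schemes with quasi-coherent ideal sheaves of effective
Cartier divisors, f : X ⟶ S₁, g : T ⟶ S₁ and σ : S₁ ⟶ S₀ morphisms satisfying the modulus condition,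
and let (Y₁, K₁) with π₁ and (Y₀, K₀) with π₀ be ambient products of (X, I) and (T, J) over S₁ and
over S₀ (the latter for f ≫ σ and g ≫ σ): blow-ups of the scheme-theoretic image of the product of
the interiors inside X ×_{S₁} T, resp. X ×_{S₀} T, in the intersection of the pulled-back moduli,
with K·E = D_X·D_T. Then the ambient product is functorial in the base: there is a unique morphism φ
: Y₁ ⟶ Y₀ compatible with the maps to X ×_{S₀} T (through the canonical X ×_{S₁} T ⟶ X ×_{S₀} T),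
and every such φ is minimal, K₁ = K₀.comap φ. -/
theorem result {S₀ S₁ T X Y₁ Y₀ : Scheme.{u}} (I₀ : S₀.IdealSheafData)
    (I₁ : S₁.IdealSheafData) (J : T.IdealSheafData) (I : X.IdealSheafData)
    (h₀ : BlowUp.IsEffCartierIdeal I₀) (h₁ : BlowUp.IsEffCartierIdeal I₁)
    (hT : BlowUp.IsEffCartierIdeal J) (hX : BlowUp.IsEffCartierIdeal I)
    (f : X ⟶ S₁) (hf : ModPair.IsAmbient I I₁ f) (g : T ⟶ S₁) (hg : ModPair.IsAmbient J I₁ g)
    (σ : S₁ ⟶ S₀) (hσ : ModPair.IsAmbient I₁ I₀ σ)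
    (π₁ : Y₁ ⟶ ModPair.mprod f g I J) (K₁ : Y₁.IdealSheafData) (hY₁ : ModPair.IsAmbProd f g I J π₁ K₁)
    (π₀ : Y₀ ⟶ ModPair.mprod (f ≫ σ) (g ≫ σ) I J) (K₀ : Y₀.IdealSheafData)
    (hY₀ : ModPair.IsAmbProd (f ≫ σ) (g ≫ σ) I J π₀ K₀) :
    (∃! φ : Y₁ ⟶ Y₀, φ ≫ π₀ ≫ ModPair.mprodι (f ≫ σ) (g ≫ σ) I J =
        π₁ ≫ ModPair.mprodι f g I J ≫ pullback.mapDesc f g σ) ∧
      ∀ φ : Y₁ ⟶ Y₀, φ ≫ π₀ ≫ ModPair.mprodι (f ≫ σ) (g ≫ σ) I J =
          π₁ ≫ ModPair.mprodι f g I J ≫ pullback.mapDesc f g σ →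
        ModPair.IsMinimal K₁ K₀ φ := by
  let a := π₁ ≫ ModPair.mprodι f g I J ≫ pullback.fst f g
  let b := π₁ ≫ ModPair.mprodι f g I J ≫ pullback.snd f g
  obtain ⟨hmul₁, hE₁⟩ := Product.mul_eq hY₁
  have hK₁ := Product.isEffCartier_mul hX hT hY₁
  have hK₀ := Product.isEffCartier_mul hX hT hY₀
  obtain ⟨hmul₀, hE₀⟩ := Product.mul_eq hY₀
  have key : ∀ φ : Y₁ ⟶ Y₀, φ ≫ π₀ ≫ ModPair.mprodι (f ≫ σ) (g ≫ σ) I J =
      π₁ ≫ ModPair.mprodι f g I J ≫ pullback.mapDesc f g σ → ModPair.IsMinimal K₁ K₀ φ := by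
    intro φ hφ
    have ea : φ ≫ π₀ ≫ ModPair.mprodι (f ≫ σ) (g ≫ σ) I J ≫ pullback.fst (f ≫ σ) (g ≫ σ) = a := by
      rw [reassoc_of% hφ, pullback.lift_fst, Category.comp_id]
    have eb : φ ≫ π₀ ≫ ModPair.mprodι (f ≫ σ) (g ≫ σ) I J ≫ pullback.snd (f ≫ σ) (g ≫ σ) = b := by
      rw [reassoc_of% hφ, pullback.lift_snd, Category.comp_id]
    have e := congrArg (fun Z : Y₀.IdealSheafData => Z.comap φ) hmul₀
    simp only [Groth.Agent.IdealSh.Comap.comap_mul, (Scheme.IdealSheafData.map_gc φ).l_sup,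
      ← Scheme.IdealSheafData.comap_comp, ea, eb] at e
    exact Divide.eq_of_mul_eq_mul hE₁ (hmul₁.trans e.symm)
  refine ⟨?_, key⟩
  obtain ⟨c₁, hc₁⟩ := Product.exists_lift_mprod (f := f ≫ σ) (g := g ≫ σ) (I := I) (J := J) hK₁
    (π₁ ≫ ModPair.mprodι f g I J ≫ pullback.mapDesc f g σ) fun x hx => by
      rw [Product.mem_prodInterior]
      rw [Product.interior_eq hY₁] at hx
      refine ⟨?_, ?_⟩
      · rw [← Scheme.Hom.comp_apply, Category.assoc, Category.assoc, pullback.lift_fst, Category.comp_id]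
        exact hx.1
      · rw [← Scheme.Hom.comp_apply, Category.assoc, Category.assoc, pullback.lift_snd, Category.comp_id]
        exact hx.2
  have hC : BlowUp.IsEffCartierIdeal ((ModPair.prodCentre (f ≫ σ) (g ≫ σ) I J).comap c₁) := by
    have ea : c₁ ≫ ModPair.mprodι (f ≫ σ) (g ≫ σ) I J ≫ pullback.fst (f ≫ σ) (g ≫ σ) = a := by
      rw [reassoc_of% hc₁, pullback.lift_fst, Category.comp_id]
    have eb : c₁ ≫ ModPair.mprodι (f ≫ σ) (g ≫ σ) I J ≫ pullback.snd (f ≫ σ) (g ≫ σ) = b := by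
      rw [reassoc_of% hc₁, pullback.lift_snd, Category.comp_id]
    rw [ModPair.prodCentre, (Scheme.IdealSheafData.map_gc c₁).l_sup,
      ← Scheme.IdealSheafData.comap_comp, ← Scheme.IdealSheafData.comap_comp, ea, eb]
    exact hE₁
  obtain ⟨φ, hφ, huniq⟩ := hY₀.1.2 Y₁ c₁ hC
  refine ⟨φ, by show φ ≫ π₀ ≫ _ = _; rw [reassoc_of% hφ, hc₁], fun ψ hψ => huniq ψ ?_⟩
  show ψ ≫ π₀ = c₁
  rw [← cancel_mono (ModPair.mprodι (f ≫ σ) (g ≫ σ) I J), hc₁, Category.assoc]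
  exact hψ

end Groth.Agent.S18755
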