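import Groth.Statements.S18756
import Groth.Agent.ModPairLib.LimitFppf
-- import your own Groth.Agent.* helpers here

set_option autoImplicit false
universe u
open CategoryTheory CategoryTheory.Limits AlgebraicGeometry TopologicalSpace
open ModPair

namespace Groth.Agent.S18756

/-- Let (X_i) be a cofiltered system of schemes with affine transition morphisms such that X_{i₀} is
quasi-compact and quasi-separated for some index i₀, let X be its limit, and let {U_a ⟶ X} be an
fppf covering: a jointly surjective family of morphisms which are flat and of finite presentation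
(flat, locally of finite presentation, quasi-compact and quasi-separated). Then the covering
descends: for some index i there is a finite fppf covering {V_j ⟶ X_i}_{j < n} such that every V_j
×_{X_i} X is one of the U_a, i.e. for each j some U_{a_j} ⟶ X is the base change of V_j ⟶ X_i along
X ⟶ X_i. (The source states the same for Zariski, Nisnevich and étale coverings; only the fppf case
is given here.) -/
theorem result {I : Type u} [SmallCategory I] [IsCofiltered I]
    (D : I ⥤ Scheme.{u}) (c : Cone D) (hc : IsLimit c)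
    [∀ (i j : I) (t : i ⟶ j), IsAffineHom (D.map t)] (i₀ : I) [CompactSpace (D.obj i₀)]
    [QuasiSeparatedSpace (D.obj i₀)] {ι : Type u} (U : ι → Scheme.{u}) (u : ∀ a, U a ⟶ c.pt)
    [∀ a, Flat (u a)] [∀ a, LocallyOfFinitePresentation (u a)] [∀ a, QuasiCompact (u a)]
    [∀ a, QuasiSeparated (u a)] (hcov : ∀ x : c.pt, ∃ (a : ι) (y : U a), (u a).base y = x) :
    ∃ (i : I) (n : ℕ) (V : Fin n → Scheme.{u}) (v : ∀ j, V j ⟶ D.obj i) (a : Fin n → ι)
      (e : ∀ j, U (a j) ⟶ V j),
      (∀ j, Flat (v j) ∧ LocallyOfFinitePresentation (v j) ∧ QuasiCompact (v j) ∧ QuasiSeparated (v j)) ∧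
      (∀ x : D.obj i, ∃ (j : Fin n) (y : V j), (v j).base y = x) ∧
      ∀ j, IsPullback (e j) (u (a j)) (v j) (c.π.app i) := by
  classical
  have hc' : IsLimit (c.whisker (Over.forget i₀)) :=
    (Functor.Initial.isLimitWhiskerEquiv (Over.forget i₀) c).symm hc
  have : ∀ j : Over i₀, CompactSpace ((Over.forget i₀ ⋙ D).obj j) := fun j =>
    QuasiCompact.compactSpace_of_compactSpace (D.map j.hom)
  have : ∀ j : Over i₀, QuasiSeparatedSpace ((Over.forget i₀ ⋙ D).obj j) := fun j =>
    quasiSeparatedSpace_of_quasiSeparated (D.map j.hom)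
  have : ∀ (j k : Over i₀) (t : j ⟶ k), IsAffineHom ((Over.forget i₀ ⋙ D).map t) := fun j k t =>
    inferInstanceAs (IsAffineHom (D.map t.left))
  have : CompactSpace c.pt :=
    Scheme.compactSpace_of_isLimit (Over.forget i₀ ⋙ D) (c.whisker (Over.forget i₀)) hc'
  have hπ : IsAffineHom (c.π.app i₀) := isAffineHom_π_app D c hc i₀
  have : QuasiSeparatedSpace c.pt := quasiSeparatedSpace_of_quasiSeparated (c.π.app i₀)
  obtain ⟨s, hs⟩ := isCompact_univ.elim_finite_subcover (fun a => Set.range (u a))
    (fun a => (u a).isOpenMap.isOpen_range) (fun x _ => by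
      obtain ⟨a, y, hy⟩ := hcov x
      exact Set.mem_iUnion.2 ⟨a, y, hy⟩)
  let b : Fin s.card → ι := fun j => (s.equivFin.symm j).1
  obtain ⟨i, V, v, e, hv, hcv, hpb⟩ : ∃ (i : Over i₀) (V : Fin s.card → Scheme.{u})
      (v : ∀ j, V j ⟶ D.obj i.left) (e : ∀ j, U (b j) ⟶ V j),
      (∀ j, (Flat (v j) ∧ LocallyOfFinitePresentation (v j)) ∧ CompactSpace (V j) ∧ QuasiSeparatedSpace (V j)) ∧
      (∀ x : D.obj i.left, ∃ j, x ∈ Set.range (v j)) ∧
      ∀ j, IsPullback (e j) (u (b j)) (v j) (c.π.app i.left) :=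
    Groth.Agent.ModPairLib.LimitFppf.exists_cover (Over.forget i₀ ⋙ D) (c.whisker (Over.forget i₀))
      hc' (fun j => U (b j)) (fun j => u (b j)) (fun j => inferInstance) (fun j => inferInstance)
      (fun j => QuasiCompact.compactSpace_of_compactSpace (u (b j)))
      (fun j => quasiSeparatedSpace_of_quasiSeparated (u (b j)))
      (fun x => by
        obtain ⟨a, ha, hx⟩ := Set.mem_iUnion₂.1 (hs (Set.mem_univ x))
        refine ⟨s.equivFin ⟨a, ha⟩, ?_⟩
        show x ∈ Set.range (u ((s.equivFin.symm (s.equivFin ⟨a, ha⟩)).1))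
        rw [Equiv.symm_apply_apply]
        exact hx)
  have : QuasiSeparatedSpace (D.obj i.left) := quasiSeparatedSpace_of_quasiSeparated (D.map i.hom)
  refine ⟨i.left, s.card, V, v, b, e, fun j => ?_, fun x => ?_, hpb⟩
  · obtain ⟨h1, h2, h3⟩ := hv j
    exact ⟨h1.1, h1.2, quasiCompact_of_compactSpace (v j),
      QuasiSeparated.of_quasiSeparatedSpace (v j)⟩
  · obtain ⟨j, y, hy⟩ := hcv x
    exact ⟨j, y, hy⟩

end Groth.Agent.S18756
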