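import Groth.Statements.S18758
import Groth.Agent.S18738
import Mathlib.CategoryTheory.Comma.Over.Basic
-- import your own Groth.Agent.* helpers here

set_option autoImplicit false
universe w v u
open CategoryTheory CategoryTheory.Limits AlgebraicGeometry TopologicalSpace
open ModPair

namespace Groth.Agent.S18758

open CategoryTheory in
lemma full_faithful {C : Type*} [Category C] (W : MorphismProperty C)
    [W.HasRightCalculusOfFractions] (S : C) (P : ObjectProperty (Over S))
    (hP : ∀ (A : Over S) {Z : C} (s : Z ⟶ A.left), W s → P A → P (Over.mk (s ≫ A.hom)))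
    {D : Type*} [Category D] (L : C ⥤ D) [L.IsLocalization W]
    {E : Type*} [Category E] (L' : P.FullSubcategory ⥤ E)
    [L'.IsLocalization ((W.inverseImage (Over.forget S)).inverseImage P.ι)]
    (Φ : E ⥤ Over (L.obj S)) (e : L' ⋙ Φ ≅ P.ι ⋙ Over.post L) : Φ.Full ∧ Φ.Faithful := by
  let WS : MorphismProperty P.FullSubcategory :=
    (W.inverseImage (Over.forget S)).inverseImage P.ι
  have : WS.HasRightCalculusOfFractions :=
    { id_mem := fun A => W.id_mem _
      comp_mem := fun f g hf hg => W.comp_mem _ _ hf hg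
      exists_rightFraction := by
        intro A B φ
        obtain ⟨ψ, hψ⟩ :=
          (MorphismProperty.LeftFraction.mk φ.f.hom.left φ.s.hom.left φ.hs).exists_rightFraction
        simp only at hψ
        refine ⟨MorphismProperty.RightFraction.mk (W := WS)
          (X' := ⟨Over.mk (ψ.s ≫ A.obj.hom), hP _ _ ψ.hs A.property⟩)
          (ObjectProperty.homMk (Over.homMk ψ.s rfl)) ψ.hs
          (ObjectProperty.homMk (Over.homMk ψ.f ?_)),
          ObjectProperty.hom_ext _ (Over.OverMorphism.ext hψ)⟩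
        show ψ.f ≫ B.obj.hom = ψ.s ≫ A.obj.hom
        rw [← Over.w φ.f.hom, ← Over.w φ.s.hom, ← Category.assoc, ← Category.assoc, hψ]
      ext := by
        intro A B B' f₁ f₂ s hs h
        obtain ⟨X', t, ht, h'⟩ := MorphismProperty.HasRightCalculusOfFractions.ext
          (W := W) f₁.hom.left f₂.hom.left s.hom.left hs
          (congrArg (fun q : A ⟶ B' => q.hom.left) h)
        exact ⟨⟨Over.mk (t ≫ A.obj.hom), hP _ _ ht A.property⟩,
          ObjectProperty.homMk (Over.homMk t rfl), ht,
          ObjectProperty.hom_ext _ (Over.OverMorphism.ext h')⟩ }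
  have hes := Localization.essSurj L' WS
  let α : ∀ A : P.FullSubcategory, (Φ.obj (L'.obj A)).left ≅ L.obj A.obj.left :=
    fun A => (Over.forget _).mapIso (e.app A)
  have hw : ∀ A, (α A).hom ≫ L.map A.obj.hom = (Φ.obj (L'.obj A)).hom :=
    fun A => Over.w (e.hom.app A)
  have hw' : ∀ A, (α A).inv ≫ (Φ.obj (L'.obj A)).hom = L.map A.obj.hom :=
    fun A => Over.w (e.inv.app A)
  have hnat : ∀ {A B : P.FullSubcategory} (h : A ⟶ B),
      (Φ.map (L'.map h)).left = (α A).hom ≫ L.map h.hom.left ≫ (α B).inv := by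
    intro A B h
    rw [← Category.assoc, Iso.eq_comp_inv]
    exact congrArg CommaMorphism.left (e.hom.naturality h)
  have hfull : ∀ (A B : P.FullSubcategory) (g : Φ.obj (L'.obj A) ⟶ Φ.obj (L'.obj B)),
      ∃ k : L'.obj A ⟶ L'.obj B, Φ.map k = g := by
    intro A B g
    obtain ⟨φ, hφ⟩ := Localization.exists_rightFraction L W ((α A).inv ≫ g.left ≫ (α B).hom)
    have hsg : L.map φ.f = L.map φ.s ≫ (α A).inv ≫ g.left ≫ (α B).hom := by
      rw [hφ, MorphismProperty.RightFraction.map_s_comp_map]
    obtain ⟨X', t, ht, hteq⟩ := (MorphismProperty.map_eq_iff_precomp L W (φ.s ≫ A.obj.hom)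
      (φ.f ≫ B.obj.hom)).1 (by
      rw [Functor.map_comp, Functor.map_comp, hsg]
      simp only [Category.assoc]
      rw [hw B, Over.w g, hw' A])
    have hts : W (t ≫ φ.s) := W.comp_mem _ _ ht φ.hs
    let A' : P.FullSubcategory := ⟨Over.mk ((t ≫ φ.s) ≫ A.obj.hom), hP _ _ hts A.property⟩
    let a : A' ⟶ A := ObjectProperty.homMk (Over.homMk (t ≫ φ.s) rfl)
    let b : A' ⟶ B := ObjectProperty.homMk (Over.homMk (t ≫ φ.f) (by
      show (t ≫ φ.f) ≫ B.obj.hom = (t ≫ φ.s) ≫ A.obj.hom
      simp only [Category.assoc, hteq]))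
    have : IsIso (L'.map a) := Localization.inverts L' WS _ hts
    refine ⟨inv (L'.map a) ≫ L'.map b, ?_⟩
    rw [Functor.map_comp, Functor.map_inv, IsIso.inv_comp_eq]
    ext
    rw [Over.comp_left, hnat, hnat]
    simp only [a, b, ObjectProperty.homMk_hom, Over.homMk_left, Functor.map_comp, hsg,
      Category.assoc, Iso.hom_inv_id, Category.comp_id, Iso.inv_hom_id_assoc]
  have hfaith : ∀ (A B : P.FullSubcategory) (k₁ k₂ : L'.obj A ⟶ L'.obj B),
      Φ.map k₁ = Φ.map k₂ → k₁ = k₂ := by
    intro A B k₁ k₂ hk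
    obtain ⟨φ₁, hφ₁⟩ := Localization.exists_rightFraction L' WS k₁
    obtain ⟨φ₂, hφ₂⟩ := Localization.exists_rightFraction L' WS k₂
    obtain ⟨ψ, hψ⟩ := (MorphismProperty.LeftFraction.mk φ₁.s φ₂.s φ₂.hs).exists_rightFraction
    simp only at hψ
    have hiso : IsIso (L'.map (ψ.s ≫ φ₁.s)) :=
      Localization.inverts L' WS _ (WS.comp_mem _ _ ψ.hs φ₁.hs)
    have h₁ : L'.map (ψ.s ≫ φ₁.s) ≫ k₁ = L'.map (ψ.s ≫ φ₁.f) := by
      rw [hφ₁, Functor.map_comp, Functor.map_comp, Category.assoc,
        MorphismProperty.RightFraction.map_s_comp_map]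
    have h₂ : L'.map (ψ.s ≫ φ₁.s) ≫ k₂ = L'.map (ψ.f ≫ φ₂.f) := by
      rw [hψ, hφ₂, Functor.map_comp, Functor.map_comp, Category.assoc,
        MorphismProperty.RightFraction.map_s_comp_map]
    have h₃ : Φ.map (L'.map (ψ.s ≫ φ₁.f)) = Φ.map (L'.map (ψ.f ≫ φ₂.f)) := by
      rw [← h₁, ← h₂, Φ.map_comp, Φ.map_comp, hk]
    have h₄ : L.map (ψ.s ≫ φ₁.f).hom.left = L.map (ψ.f ≫ φ₂.f).hom.left := by
      have h5 := congrArg (fun q => Over.Hom.left q) h₃
      simp only [hnat] at h5
      rwa [cancel_epi, cancel_mono] at h5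
    obtain ⟨Z, t, ht, heq⟩ := (MorphismProperty.map_eq_iff_precomp L W _ _).1 h₄
    let Z' : P.FullSubcategory := ⟨Over.mk (t ≫ ψ.X'.obj.hom), hP _ _ ht ψ.X'.property⟩
    let r : Z' ⟶ ψ.X' := ObjectProperty.homMk (Over.homMk t rfl)
    have : IsIso (L'.map r) := Localization.inverts L' WS _ ht
    have heq' : r ≫ ψ.s ≫ φ₁.f = r ≫ ψ.f ≫ φ₂.f :=
      ObjectProperty.hom_ext _ (Over.OverMorphism.ext heq)
    rw [← cancel_epi (L'.map (ψ.s ≫ φ₁.s)), h₁, h₂, ← cancel_epi (L'.map r),
      ← Functor.map_comp, ← Functor.map_comp, heq']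
  refine ⟨⟨fun {A B} g => ?_⟩, ⟨fun {A B} k₁ k₂ hk => ?_⟩⟩
  · obtain ⟨k, hk⟩ := hfull _ _
      (Φ.map (L'.objObjPreimageIso A).hom ≫ g ≫ Φ.map (L'.objObjPreimageIso B).inv)
    exact ⟨(L'.objObjPreimageIso A).inv ≫ k ≫ (L'.objObjPreimageIso B).hom, by simp [hk]⟩
  · have := hfaith _ _ ((L'.objObjPreimageIso A).hom ≫ k₁ ≫ (L'.objObjPreimageIso B).inv)
      ((L'.objObjPreimageIso A).hom ≫ k₂ ≫ (L'.objObjPreimageIso B).inv) (by simp [hk])
    rwa [cancel_epi, cancel_mono] at this


/-- Let S be a modulus pair and PSch_S the full subcategory of the slice category of modulus pairs over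
S on the objects whose structure morphism is of finite type (locally of finite type and
quasi-compact); let Σ_ft be the class of morphisms of PSch_S whose underlying morphism of modulus
pairs is an abstract admissible blow-up, and Q the localization functor of modulus pairs at all
abstract admissible blow-ups. Then the canonical functor from the localization of PSch_S at Σ_ft to
the slice category over Q S is fully faithful, so that it identifies the localization with the full
subcategory MSch_S of objects isomorphic to finite type ones: for every localization functor L' of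
PSch_S at Σ_ft and every functor Φ to the slice over Q S through which the inclusion followed by Q
on slices factors up to isomorphism, Φ is full and faithful. -/
theorem result (S : ModPair.Pair.{u})
    {E : Type v} [Category.{w} E]
    (L' : (ObjectProperty.FullSubcategory
        ((fun X : Over S => LocallyOfFiniteType X.hom.hom ∧ QuasiCompact X.hom.hom) :
          ObjectProperty (Over S))) ⥤ E)
    [L'.IsLocalization ((((ModPair.Pair.admBlowup.{u}).inverseImage (Over.forget S)).inverseImage
      (ObjectProperty.ι ((fun X : Over S => LocallyOfFiniteType X.hom.hom ∧ QuasiCompact X.hom.hom) :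
          ObjectProperty (Over S)))))]
    (Φ : E ⥤ Over ((ModPair.Pair.admBlowup.{u}).Q.obj S))
    (e : L' ⋙ Φ ≅ ObjectProperty.ι ((fun X : Over S => LocallyOfFiniteType X.hom.hom ∧ QuasiCompact X.hom.hom) :
          ObjectProperty (Over S)) ⋙ Over.post (ModPair.Pair.admBlowup.{u}).Q) :
    Φ.Full ∧ Φ.Faithful := by
  have := Groth.Agent.S18738.result.{u}
  refine full_faithful (ModPair.Pair.admBlowup.{u}) S _ ?_ _ L' Φ e
  rintro A Z s ⟨_, hs, _⟩ ⟨h₁, h₂⟩
  refine ⟨?_, ?_⟩
  · show LocallyOfFiniteType (s.hom ≫ A.hom.hom)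
    infer_instance
  · show QuasiCompact (s.hom ≫ A.hom.hom)
    infer_instance

end Groth.Agent.S18758
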