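import Groth.Statements.S18759
import Groth.Agent.LimLib.Immersion
import Groth.Agent.LimLib.FPSystem
import Groth.Agent.LimLib.FGIdeal
import Groth.Agent.LimLib.Proper
import Groth.Agent.ModPairLib.LimitIdealLe
import Groth.Agent.ModPairLib.LimitLocPrin
import Groth.Agent.ModPairLib.LimitIsoOpen
import Groth.Agent.ModPairLib.Divide
import Groth.Agent.ModPairLib.Dense
-- import your own Groth.Agent.* helpers here

set_option autoImplicit false
universe u
open CategoryTheory CategoryTheory.Limits AlgebraicGeometry TopologicalSpace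
open ModPair

namespace Groth.Agent.S18759

/-- Let (X, I_X) and (Y, I_Y) be modulus pairs with X, Y quasi-compact and quasi-separated, and f : X ⟶
Y an ambient morphism (modulus condition I_X ≤ I_Y.comap f) which is locally of finite type. Then X
⟶ Y is a cofiltered limit of Y-schemes X_i such that: (1) every X_i ⟶ Y is of finite presentation
and all transition maps X_i ⟶ X_j and projections X ⟶ X_i are closed immersions; (2) every X_i
carries a locally principal quasi-coherent ideal sheaf J_i whose pull-back to X is I_X and whose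
pull-back along each transition map X_i ⟶ X_j of J_j is J_i; (3) every X_i ⟶ Y satisfies the modulus
condition for J_i, and if f is minimal all X_i ⟶ Y are minimal; (4) if f is proper all X_i ⟶ Y are
proper; (5) if f is minimal and an isomorphism over the interior of Y, every X_i ⟶ Y is an
isomorphism over the interior of Y. (Part (5) is given here in the minimal case, where the interior
of (X_i, J_i) is the preimage of the interior of Y.) -/
theorem result {X Y : Scheme.{u}}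
    [CompactSpace X] [QuasiSeparatedSpace X] [CompactSpace Y] [QuasiSeparatedSpace Y]
    (IX : X.IdealSheafData) (IY : Y.IdealSheafData) (hX : BlowUp.IsEffCartierIdeal IX)
    (hY : BlowUp.IsEffCartierIdeal IY) (f : X ⟶ Y) (hf : ModPair.IsAmbient IX IY f)
    [LocallyOfFiniteType f] :
    ∃ (I : Type u) (_ : SmallCategory I) (_ : IsCofiltered I) (D : I ⥤ Over Y) (c : Cone D)
      (_ : IsLimit c) (e : c.pt ≅ Over.mk f) (J : ∀ i, (D.obj i).left.IdealSheafData),
      (∀ i, LocallyOfFinitePresentation (D.obj i).hom ∧ QuasiCompact (D.obj i).hom ∧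
          QuasiSeparated (D.obj i).hom) ∧
        (∀ (i j : I) (t : i ⟶ j), IsClosedImmersion (D.map t).left) ∧
        (∀ i, IsClosedImmersion (c.π.app i).left) ∧
        (∀ i, Curv2.IsLocPrincipal (J i)) ∧
        (∀ i, IX = (J i).comap (e.inv.left ≫ (c.π.app i).left)) ∧
        (∀ (i j : I) (t : i ⟶ j), J i = (J j).comap (D.map t).left) ∧
        (∀ i, ModPair.IsAmbient (J i) IY (D.obj i).hom) ∧
        (ModPair.IsMinimal IX IY f → ∀ i, ModPair.IsMinimal (J i) IY (D.obj i).hom) ∧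
        (IsProper f → ∀ i, IsProper (D.obj i).hom) ∧
        (ModPair.IsMinimal IX IY f → IsIso (f ∣_ ModPair.interior IY) →
          ∀ i, IsIso ((D.obj i).hom ∣_ ModPair.interior IY)) := by
  classical
  obtain ⟨P, hcl, hclπ⟩ := Groth.Agent.LimLib.exists_closedFPSystem f
  let G := P.sch
  let c := P.cone
  obtain ⟨hl⟩ := P.isLimit_cone
  have : ∀ (i j : P.Jᵒᵖ) (a : i ⟶ j), IsClosedImmersion (G.map a) := fun i j a => hcl a
  have : ∀ i, IsClosedImmersion (c.π.app i) := hclπ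
  have : ∀ i, CompactSpace (G.obj i) := fun i => P.compactSpace i
  have : ∀ i, QuasiSeparatedSpace (G.obj i) := fun i => P.quasiSeparatedSpace i
  have : ∀ i, QuasiCompact (P.str.app i) := fun i => P.quasiCompact i
  have hstr : ∀ i, c.π.app i ≫ P.str.app i = f := P.π_str
  have htr : ∀ {i j : P.Jᵒᵖ} (a : i ⟶ j), G.map a ≫ P.str.app j = P.str.app i := fun a =>
    Groth.Agent.LimLib.map_comp_app P.str a
  have : ∀ (i j : P.Jᵒᵖ) (a : i ⟶ j), IsAffineHom (G.map a) := fun i j a => P.isAffineHom a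
  -- the ideal at a stage
  obtain ⟨i₀, J₀, hJ₀, hJ₀c⟩ := Groth.Agent.LimLib.exists_fg_descend (c := c) hl IX
    (Groth.Agent.ModPairLib.Divide.isFiniteTypeIdeal_of_effCartier hX)
  have hfg : ∀ {i : P.Jᵒᵖ} (a : i ⟶ i₀), ∀ U, ((J₀.comap (G.map a)).ideal U).FG := fun a =>
    Groth.Agent.LimLib.fg_comap hJ₀ _
  have hcomap : ∀ {i : P.Jᵒᵖ} (a : i ⟶ i₀), (J₀.comap (G.map a)).comap (c.π.app i) = IX := by
    intro i a
    rw [← Scheme.IdealSheafData.comap_comp, ← hJ₀c]
    exact congrArg J₀.comap (c.w a)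
  -- local principality
  obtain ⟨i₁, t₁, h₁⟩ := Groth.Agent.ModPairLib.LimitLocPrin.exists_stage_locPrincipal G c hl J₀ hJ₀
    (i := i₀) (fun x => by
      obtain ⟨U, hxU, a, -, ha⟩ := hX x
      exact ⟨U, hxU, a, hJ₀c ▸ ha⟩)
  -- the modulus condition
  obtain ⟨i₂, t₂, h₂⟩ := Groth.Agent.ModPairLib.LimitIdealLe.exists_comap_le G c hl i₁
    (J₀.comap (G.map t₁)) (IY.comap (P.str.app i₁)) (hfg t₁) (by
      rw [hcomap, ← Scheme.IdealSheafData.comap_comp, hstr]
      exact hf)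
  -- minimality
  obtain ⟨i₃, t₃, h₃⟩ : ∃ (i₃ : P.Jᵒᵖ) (t₃ : i₃ ⟶ i₂), ModPair.IsMinimal IX IY f →
      IY.comap (P.str.app i₃) ≤ J₀.comap (G.map (t₃ ≫ t₂ ≫ t₁)) := by
    by_cases hm : ModPair.IsMinimal IX IY f
    · obtain ⟨i₃, t₃, h₃⟩ := Groth.Agent.ModPairLib.LimitIdealLe.exists_comap_le G c hl i₂
        (IY.comap (P.str.app i₂)) (J₀.comap (G.map (t₂ ≫ t₁)))
        (Groth.Agent.LimLib.fg_comap
          (Groth.Agent.ModPairLib.Divide.isFiniteTypeIdeal_of_effCartier hY) _) (by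
          rw [hcomap, ← Scheme.IdealSheafData.comap_comp, hstr]
          exact le_of_eq hm.symm)
      refine ⟨i₃, t₃, fun _ => ?_⟩
      rw [← htr t₃, Scheme.IdealSheafData.comap_comp, Functor.map_comp,
        Scheme.IdealSheafData.comap_comp]
      exact h₃
    · exact ⟨i₂, 𝟙 _, fun h => absurd h hm⟩
  -- properness
  obtain ⟨i₄, t₄, h₄⟩ : ∃ (i₄ : P.Jᵒᵖ) (_ : i₄ ⟶ i₃),
      IsProper f → ∀ i, (i ⟶ i₄) → IsProper (P.str.app i) := by
    by_cases hp : IsProper f
    · have : UniversallyClosed f := hp.toUniversallyClosed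
      obtain ⟨a, ha⟩ := P.eventually_isSeparated
      have : UniversallyClosed (c.π.app i₃ ≫ P.str.app i₃) := by rw [hstr]; assumption
      obtain ⟨b, tb, hb⟩ :=
        Groth.Agent.LimLib.exists_universallyClosed_stage_of_isClosedImmersion G P.str c hl i₃
      obtain ⟨k, p, q, -⟩ := IsCofilteredOrEmpty.cone_objs a b
      refine ⟨k, q ≫ tb, fun _ i r => ?_⟩
      have h1 : IsSeparated (P.str.app i) := ha i (r ≫ p)
      have h2 : UniversallyClosed (P.str.app i) := by
        rw [← htr (r ≫ q)]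
        infer_instance
      exact { }
    · exact ⟨i₃, 𝟙 _, fun h => absurd h hp⟩
  -- the interior
  obtain ⟨i₅, t₅, h₅⟩ : ∃ (i₅ : P.Jᵒᵖ) (_ : i₅ ⟶ i₄), IsIso (f ∣_ ModPair.interior IY) →
      ∀ i, (i ⟶ i₅) → IsIso (P.str.app i ∣_ ModPair.interior IY) := by
    by_cases hi : IsIso (f ∣_ ModPair.interior IY)
    · have := Groth.Agent.ModPairLib.Dense.isAffineHom_interior hY
      have hc : IsCompact (ModPair.interior IY : Set Y) :=
        isCompact_iff_compactSpace.mpr
          (QuasiCompact.compactSpace_of_compactSpace (ModPair.interior IY).ι)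
      obtain ⟨i₅, t₅, h₅⟩ := Groth.Agent.ModPairLib.LimitIsoOpen.exists_isIso_restrict G P.str c hl
        (ModPair.interior IY) hc i₄ (by rw [hstr]; exact hi)
      exact ⟨i₅, t₅, fun _ => h₅⟩
    · exact ⟨i₄, 𝟙 _, fun h => absurd h hi⟩
  have hcc : ∀ {a b : P.Jᵒᵖ} (r : a ⟶ b) (s : b ⟶ i₀),
      (J₀.comap (G.map s)).comap (G.map r) = J₀.comap (G.map (r ≫ s)) := fun r s => by
    rw [← Scheme.IdealSheafData.comap_comp, ← Functor.map_comp]
  have hsc : ∀ {a b : P.Jᵒᵖ} (r : a ⟶ b),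
      (IY.comap (P.str.app b)).comap (G.map r) = IY.comap (P.str.app a) := fun r => by
    rw [← Scheme.IdealSheafData.comap_comp, htr]
  let t : i₅ ⟶ i₀ := t₅ ≫ t₄ ≫ t₃ ≫ t₂ ≫ t₁
  let J : ∀ i : Over i₅, (G.obj i.left).IdealSheafData := fun i =>
    J₀.comap (G.map (i.hom ≫ t))
  have hJamb : ∀ i : Over i₅, J i ≤ IY.comap (P.str.app i.left) := fun i => by
    have r : (i.hom ≫ t) = (i.hom ≫ t₅ ≫ t₄ ≫ t₃) ≫ t₂ ≫ t₁ := by simp [t]
    have e : (((J₀.comap (G.map t₁)).comap (G.map t₂))).comap (G.map (i.hom ≫ t₅ ≫ t₄ ≫ t₃)) ≤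
        ((IY.comap (P.str.app i₁)).comap (G.map t₂)).comap (G.map (i.hom ≫ t₅ ≫ t₄ ≫ t₃)) :=
      Scheme.IdealSheafData.comap_mono _ h₂
    rw [hcc, hcc, hsc, hsc, ← r] at e
    exact e
  refine ⟨Over i₅, inferInstance, inferInstance, Over.forget i₅ ⋙ P.D,
    (Cone.mk (Over.mk f) P.π).whisker (Over.forget i₅),
    (Functor.Initial.isLimitWhiskerEquiv (Over.forget i₅) _).symm P.isLimit.some,
    Iso.refl _, J,
    fun i => ⟨P.lfp i.left, P.quasiCompact i.left, P.quasiSeparated i.left⟩,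
    fun i j a => hcl a.left, fun i => hclπ i.left, fun i x _ => ?_, fun i => ?_, fun i j a => ?_,
    hJamb, fun hm i => ?_, fun hp i => h₄ hp i.left (i.hom ≫ t₅), fun _ hi i => h₅ hi i.left i.hom⟩
  · let r : i.left ⟶ i₁ := i.hom ≫ t₅ ≫ t₄ ≫ t₃ ≫ t₂
    have : IsAffineHom (G.map r) := P.isAffineHom r
    obtain ⟨U, hxU, hU⟩ := h₁ (G.map r x)
    refine ⟨⟨G.map r ⁻¹ᵁ U.1, U.2.preimage (G.map r)⟩, hxU, ?_⟩
    have e : J i = (J₀.comap (G.map t₁)).comap (G.map r) := by
      rw [hcc]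
      have e0 : i.hom ≫ t = r ≫ t₁ := by simp [t, r]
      exact congrArg (fun s => J₀.comap (G.map s)) e0
    rw [e]
    exact Groth.Agent.ModPairLib.LimitLocPrin.principal_preimage (G.map r) hU
  · show IX = (J i).comap (𝟙 _ ≫ c.π.app i.left)
    rw [Category.id_comp]
    exact (hcomap (i.hom ≫ t)).symm
  · show J i = (J j).comap (G.map a.left)
    show J₀.comap (G.map (i.hom ≫ t)) = (J₀.comap (G.map (j.hom ≫ t))).comap (G.map a.left)
    have e : G.map (i.hom ≫ t) = G.map a.left ≫ G.map (j.hom ≫ t) := by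
      rw [← Functor.map_comp, ← Category.assoc]
      exact congrArg (fun s => G.map (s ≫ t)) (Over.w a).symm
    rw [e]
    exact Scheme.IdealSheafData.comap_comp _ _ _
  · refine le_antisymm (hJamb i) ?_
    have r : (i.hom ≫ t) = (i.hom ≫ t₅ ≫ t₄) ≫ t₃ ≫ t₂ ≫ t₁ := by simp [t]
    have e : (IY.comap (P.str.app i₃)).comap (G.map (i.hom ≫ t₅ ≫ t₄)) ≤
        (J₀.comap (G.map (t₃ ≫ t₂ ≫ t₁))).comap (G.map (i.hom ≫ t₅ ≫ t₄)) :=
      Scheme.IdealSheafData.comap_mono _ (h₃ hm)
    rw [hcc, hsc, ← r] at e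
    exact e

end Groth.Agent.S18759
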