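import Groth.Statements.S18760
import Groth.Agent.NoriLib.SubTorsor
import Groth.Agent.NoriLib.Reduced
import Groth.Agent.NoriLib.GammaAct
import Groth.Agent.NoriLib.Stable
import Groth.Agent.PrincFP.Basic

set_option autoImplicit false
universe u
open CategoryTheory MonoidalCategory CartesianMonoidalCategory MonObj GrpObj AlgebraicGeometry
open NonAbH1

namespace Groth.Agent.S18760

open CategoryTheory.Limits Groth.Agent.GITLib Groth.Agent.NoriLib

set_option linter.style.haveILetI false

variable {k : Type u} [Field k] {X : Scheme.{u}} [X.Over (Spec (CommRingCat.of k))]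

local notation "pX" => (X ↘ Spec (CommRingCat.of k))

theorem range_fst_sq {P A B C : Scheme.{u}} {fs : P ⟶ A} {sn : P ⟶ B} {f : A ⟶ C} {g : B ⟶ C}
    (h : IsPullback fs sn f g) : Set.range fs.base = f.base ⁻¹' Set.range g.base := by
  rw [← h.isoPullback_hom_fst, Scheme.Hom.comp_base, TopCat.coe_comp,
    h.isoPullback.hom.surjective.range_comp]
  exact Scheme.Pullback.range_fst _ _

/-- If all functions are constant there is no proper sub-torsor. -/
theorem isIso_of_bijective (x : Spec (CommRingCat.of k) ⟶ X) (hx : x ≫ pX = 𝟙 _)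
    [IsProper pX]
    {G : Over (Spec (CommRingCat.of k))} [GrpObj G] [IsFinite G.hom] {T : Over X}
    {a : AlgGrp.Action (Red.bc pX G) T} (hT : NonAbH1.IsTorsorFor Scheme.fppfPrecoverage a)
    (hΓ : Function.Bijective (T.hom ≫ pX).appTop.hom)
    {H : Over (Spec (CommRingCat.of k))} [GrpObj H] (i : H ⟶ G) [IsMonHom i] [IsClosedImmersion i.left]
    {V : Over X} (j : V ⟶ T) [IsClosedImmersion j.left] (b : AlgGrp.Action (Red.bc pX H) V)
    (hb : NonAbH1.IsTorsorFor Scheme.fppfPrecoverage b)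
    (hj : AlgGrp.Action.IsEquivariant b (a.restrict ((Over.pullback pX).map i)) j) : IsIso j := by
  haveI : IsFinite H.hom := by rw [← Over.w i]; infer_instance
  haveI : IsAffine G.left := isAffine_of_isAffineHom G.hom
  haveI : Mono i := Over.mono_of_mono_left i
  have hTq := isTorsorFor_mono Scheme.fppfPrecoverage_le_fpqcPrecoverage hT
  have hbq := isTorsorFor_mono Scheme.fppfPrecoverage_le_fpqcPrecoverage hb
  haveI hVs : Surjective V.hom := surjective_of_isLocallyTrivialFor hbq.2
  obtain ⟨hTfin, hTfl, hTlfp⟩ := PrincFP.torsor_props pX hT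
  obtain ⟨Q, pq, aQ, horb, hQlft, hQqc, hpqflat, hpqsurj, hsq⟩ :=
    GrpdLib.AffHomogeneous.exists_quotient G H i
  haveI hQfin : Finite Q.left := by
    haveI : IsArtinianScheme G.left := by
      haveI : IsLocallyArtinian G.left := IsLocallyArtinian.of_locallyQuasiFinite G.hom
      exact { toIsLocallyArtinian := inferInstance
              toCompactSpace := inferInstance }
    haveI : Finite G.left := inferInstance
    exact Finite.of_surjective _ pq.left.surjective
  haveI : JacobsonSpace Q.left := LocallyOfFiniteType.jacobsonSpace Q.hom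
  haveI : DiscreteTopology Q.left := inferInstance
  haveI : IsAffine Q.left := inferInstance
  have hmul : (G ◁ i) ≫ μ[G] = fst G H * (snd G H ≫ i) := by
    rw [MonObj.mul_eq_mul, MonObj.comp_mul, whiskerLeft_fst, whiskerLeft_snd]
  have hqk : ∀ {U : Over (Spec (CommRingCat.of k))} (g : U ⟶ G) (h : U ⟶ H),
      (g * (h ≫ i)) ≫ pq = g ≫ pq := by
    intro U g h
    have := congrArg (lift g h ≫ ·) hsq.w
    simp only [hmul, lift_fst_assoc] at this
    rw [this, ← Category.assoc, MonObj.comp_mul, lift_fst, lift_snd_assoc]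
  have hqk' : ∀ {U : Over (Spec (CommRingCat.of k))} (g g' : U ⟶ G), g ≫ pq = g' ≫ pq →
      ∃ h : U ⟶ H, g * (h ≫ i) = g' := by
    intro U g g' e
    refine ⟨hsq.lift g g' e ≫ snd G H, ?_⟩
    have h1 := hsq.lift_fst g g' e
    have h2 := hsq.lift_snd g g' e
    have h3 := (congrArg (hsq.lift g g' e ≫ ·) hmul).symm.trans h2
    simp only [MonObj.comp_mul, h1] at h3
    rw [Category.assoc]
    exact h3
  let o : 𝟙_ (Over (Spec (CommRingCat.of k))) ⟶ Q := η[G] ≫ pq
  have horb' : ∀ {U : Over (Spec (CommRingCat.of k))} (g : U ⟶ G),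
      g ≫ pq = lift g (toUnit U ≫ o) ≫ aQ.act := by
    intro U g
    conv_lhs => rw [← horb]
    show g ≫ lift (𝟙 G) (toUnit G ≫ o) ≫ aQ.act = _
    rw [comp_lift_assoc, Category.comp_id, comp_toUnit_assoc]
  have hequivk : ∀ {U : Over (Spec (CommRingCat.of k))} (g g' : U ⟶ G),
      (g * g') ≫ pq = lift g (g' ≫ pq) ≫ aQ.act := by
    intro U g g'
    rw [horb', horb', aQ.lift_mul_act]
  have hq' : ∀ {U : Over X} (g : U ⟶ Red.bc pX G) (h : U ⟶ Red.bc pX H),
      (g * (h ≫ (Over.pullback pX).map i)) ≫ (Over.pullback pX).map pq =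
        g ≫ (Over.pullback pX).map pq := by
    intro U g h
    obtain ⟨g₀, rfl⟩ := (he pX U G).surjective g
    obtain ⟨h₀, rfl⟩ := (he pX U H).surjective h
    rw [← he_naturality_right, ← AlgGrp.Action.homEquiv_mul, ← he_naturality_right,
      ← he_naturality_right, hqk]
  have hequiv' : ∀ {U : Over X} (g g' : U ⟶ Red.bc pX G),
      (g * g') ≫ (Over.pullback pX).map pq =
        lift g (g' ≫ (Over.pullback pX).map pq) ≫ (aQ.bc pX).act := by
    intro U g g'
    obtain ⟨g₀, rfl⟩ := (he pX U G).surjective g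
    obtain ⟨g₁, rfl⟩ := (he pX U G).surjective g'
    rw [← AlgGrp.Action.homEquiv_mul, ← he_naturality_right, ← he_naturality_right,
      AlgGrp.Action.lift_homEquiv_bc_act, hequivk]
  obtain ⟨Φ, hΦ₁, hΦ₂⟩ := exists_quot_map ((Over.pullback pX).map i) ((Over.pullback pX).map pq)
    (aQ.bc pX) hq' hequiv' a hT.1 b hbq j (fun h v => equiv_pt hj h v)
  -- a map to an affine scheme is constant
  haveI : IsIso (T.hom ≫ pX).appTop := (ConcreteCategory.isIso_iff_bijective _).2 hΓ
  obtain ⟨σ, hσ⟩ := GITLib.Rigid.exists_factor (T.hom ≫ pX) ((he pX T Q).symm Φ).left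
  have hσw : σ ≫ Q.hom = 𝟙 _ := by
    apply ext_of_isAffine
    rw [← cancel_mono (T.hom ≫ pX).appTop, ← Scheme.Hom.comp_appTop, ← Scheme.Hom.comp_appTop,
      ← Category.assoc, ← hσ, Over.w, Category.comp_id]
    rfl
  let q₀ : 𝟙_ (Over (Spec (CommRingCat.of k))) ⟶ Q := Over.homMk σ hσw
  have hΦc : Φ = cst pX q₀ T := by
    apply (he pX T Q).symm.injective
    rw [cst, Equiv.symm_apply_apply]
    apply Over.OverMorphism.ext
    rw [Over.comp_left, Over.toUnit_left]
    exact hσ
  -- `q₀` is the base point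
  have hoq : o = q₀ := by
    have hcov : UnipLib.Cover (toUnit ((Over.map pX).obj V)) := by
      haveI : IsClosedImmersion j.left := ‹_›
      haveI : QuasiCompact V.hom := by rw [← Over.w j]; infer_instance
      refine ⟨?_, ?_, ?_⟩ <;> rw [Over.toUnit_left]
      · infer_instance
      · show Surjective (V.hom ≫ pX)
        haveI : Surjective pX := ⟨fun y => ⟨x y, by rw [← Scheme.Hom.comp_apply, hx]; rfl⟩⟩
        infer_instance
      · show QuasiCompact (V.hom ≫ pX)
        infer_instance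
    haveI := hcov.epi
    have h := hΦ₁ (1 : V ⟶ Red.bc pX G) (𝟙 V)
    rw [a.lift_one_act, Category.id_comp, hΦc, comp_cst, ← cst_one pX V, cst_comp] at h
    rw [← cancel_epi (toUnit ((Over.map pX).obj V))]
    have h2 := (he pX V Q).injective h
    rw [h2, Hom.one_def, toUnit_unique (toUnit (𝟙_ _)) (𝟙 _), Category.id_comp]
  -- the base point is fixed
  have hallfix : ∀ {U : Over (Spec (CommRingCat.of k))} (g : U ⟶ G),
      lift g (toUnit U ≫ q₀) ≫ aQ.act = toUnit U ≫ q₀ := by
    intro U g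
    obtain ⟨m, -⟩ := exists_eq_pt pX x hx U
    let U₁ : Over X := Over.mk (U.hom ≫ x)
    let g₁ := he pX U₁ G (m.inv ≫ g)
    have h : lift g₁ (cst pX q₀ U₁) ≫ (aQ.bc pX).act = cst pX q₀ U₁ := by
      refine hom_ext_q (pointSieve_mem hTq.2 U₁) fun U' f hf => ?_
      obtain ⟨v⟩ := hf
      rw [comp_lift_assoc, comp_cst]
      have := hΦ₂ (f ≫ g₁) v
      rw [hΦc, comp_cst, comp_cst] at this
      exact this.symm
    rw [cst, AlgGrp.Action.lift_homEquiv_bc_act, (he pX U₁ Q).injective.eq_iff] at h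
    rw [← cancel_epi m.inv, ← Category.assoc, comp_lift, ← Category.assoc, comp_toUnit]
    exact h
  obtain ⟨z, hz⟩ := hqk' (1 : G ⟶ G) (𝟙 G) (by
    rw [horb', horb', hoq, hallfix, hallfix])
  rw [_root_.one_mul] at hz
  haveI : IsIso i :=
    ⟨z, by rw [← cancel_mono i, Category.assoc, hz, Category.comp_id, Category.id_comp], hz⟩
  haveI : Mono j := Over.mono_of_mono_left j
  refine isIso_of_mono_of_lifts_q j (pointSieve_mem hbq.2 T) fun U l hl => ?_
  obtain ⟨v⟩ := hl
  obtain ⟨g, hg, -⟩ := existsUnique_diff hT.1 (v ≫ j) l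
  refine ⟨lift (g ≫ inv ((Over.pullback pX).map i)) v ≫ b.act, ?_⟩
  rw [equiv_pt hj, Category.assoc, IsIso.inv_hom_id, Category.comp_id, hg]

set_option maxHeartbeats 800000 in
/-- If there is no proper sub-torsor all functions are constant. -/
theorem bijective_of_forall (x : Spec (CommRingCat.of k) ⟶ X) (hx : x ≫ pX = 𝟙 _)
    [IsProper pX] [AlgebraicGeometry.IsReduced X] [ConnectedSpace X]
    {G : Over (Spec (CommRingCat.of k))} [GrpObj G] [IsFinite G.hom] {T : Over X}
    {a : AlgGrp.Action (Red.bc pX G) T} (hT : NonAbH1.IsTorsorFor Scheme.fppfPrecoverage a)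
    {t : Spec (CommRingCat.of k) ⟶ T.left} (ht : t ≫ T.hom = x)
    (hred : ∀ (H : Over (Spec (CommRingCat.of k))) [GrpObj H] (i : H ⟶ G) [IsMonHom i]
      [IsClosedImmersion i.left] (V : Over X) (j : V ⟶ T) [IsClosedImmersion j.left]
      (b : AlgGrp.Action (Red.bc pX H) V), NonAbH1.IsTorsorFor Scheme.fppfPrecoverage b →
      AlgGrp.Action.IsEquivariant b (a.restrict ((Over.pullback pX).map i)) j → IsIso j) :
    Function.Bijective (T.hom ≫ pX).appTop.hom := by
  obtain ⟨hTfin, hTfl, hTlfp⟩ := PrincFP.torsor_props pX hT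
  haveI : IsAffine G.left := isAffine_of_isAffineHom G.hom
  haveI hTproper : IsProper (T.hom ≫ pX) := inferInstance
  haveI : CompactSpace T.left := QuasiCompact.compactSpace_of_compactSpace (T.hom ≫ pX)
  haveI : QuasiSeparatedSpace T.left := quasiSeparatedSpace_of_quasiSeparated (T.hom ≫ pX)
  haveI : IsLocallyNoetherian T.left := LocallyOfFiniteType.isLocallyNoetherian (T.hom ≫ pX)
  haveI : IsNoetherian T.left := {}
  obtain ⟨Z, τ, hZaff, hτ⟩ := exists_affinization ((Over.map pX).obj T)
  obtain ⟨aZ, haZ⟩ := exists_act_affinization pX τ a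
  haveI : IsSeparated Z.hom := inferInstance
  have hZint : IsIntegralHom Z.hom := by
    rw [HasAffineProperty.iff_of_isAffine (P := @IsIntegralHom)]
    refine ⟨inferInstance, ?_⟩
    have h1 := isIntegral_appTop_of_universallyClosed (T.hom ≫ pX)
    have h2 : τ.left ≫ Z.hom = T.hom ≫ pX := Over.w τ
    rw [← h2, Scheme.Hom.comp_appTop] at h1
    exact RingHom.IsIntegral.tower_bot _ _ (ConcreteCategory.bijective_of_isIso τ.left.appTop).1 h1
  let t' : Over.mk x ⟶ T := Over.homMk t ht
  obtain ⟨m₀, -⟩ := exists_eq_pt pX x hx (𝟙_ (Over (Spec (CommRingCat.of k))))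
  obtain ⟨z₀, hz₀⟩ := exists_eq_cst pX x hx (t' ≫ he pX T Z τ)
  obtain ⟨N, _, iN, _, _, hN⟩ := exists_stab_grp aZ z₀
  haveI : IsFinite N.hom := by rw [← Over.w iN]; infer_instance
  haveI : Mono iN := Over.mono_of_mono_left iN
  obtain ⟨Q, pq, aQ, horb, hQlft, hQqc, hpqflat, hpqsurj, hsq⟩ :=
    GrpdLib.AffHomogeneous.exists_quotient G N iN
  haveI hQfin : Finite Q.left := by
    haveI : IsArtinianScheme G.left := by
      haveI : IsLocallyArtinian G.left := IsLocallyArtinian.of_locallyQuasiFinite G.hom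
      exact { toIsLocallyArtinian := inferInstance
              toCompactSpace := inferInstance }
    haveI : Finite G.left := inferInstance
    exact Finite.of_surjective _ pq.left.surjective
  haveI : JacobsonSpace Q.left := LocallyOfFiniteType.jacobsonSpace Q.hom
  haveI : DiscreteTopology Q.left := inferInstance
  haveI : IsAffine Q.left := inferInstance
  haveI : IsLocallyNoetherian Q.left := LocallyOfFiniteType.isLocallyNoetherian Q.hom
  haveI : QuasiCompact pq.left :=
    haveI : QuasiCompact (pq.left ≫ Q.hom) := by rw [Over.w]; infer_instance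
    QuasiCompact.of_comp pq.left Q.hom
  have hcov : UnipLib.Cover pq := ⟨hpqflat, hpqsurj, inferInstance⟩
  have hmul : (G ◁ iN) ≫ μ[G] = fst G N * (snd G N ≫ iN) := by
    rw [MonObj.mul_eq_mul, MonObj.comp_mul, whiskerLeft_fst, whiskerLeft_snd]
  have hqk' : ∀ {U : Over (Spec (CommRingCat.of k))} (g g' : U ⟶ G), g ≫ pq = g' ≫ pq →
      ∃ h : U ⟶ N, g * (h ≫ iN) = g' := by
    intro U g g' e
    refine ⟨hsq.lift g g' e ≫ snd G N, ?_⟩
    have h1 := hsq.lift_fst g g' e
    have h2 := hsq.lift_snd g g' e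
    have h3 := (congrArg (hsq.lift g g' e ≫ ·) hmul).symm.trans h2
    simp only [MonObj.comp_mul, h1] at h3
    rw [Category.assoc]
    exact h3
  have hequivk : ∀ {U : Over (Spec (CommRingCat.of k))} (g g' : U ⟶ G),
      (g * g') ≫ pq = lift g (g' ≫ pq) ≫ aQ.act := by
    intro U g g'
    have h : ∀ (g : U ⟶ G), g ≫ pq = lift g (toUnit U ≫ (η[G] ≫ pq)) ≫ aQ.act := fun g => by
      conv_lhs => rw [← horb]
      show g ≫ lift (𝟙 G) (toUnit G ≫ (η[G] ≫ pq)) ≫ aQ.act = _
      rw [comp_lift_assoc, Category.comp_id, comp_toUnit_assoc]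
    rw [h, h, aQ.lift_mul_act]
  -- the orbit of `z₀`
  let orb : G ⟶ Z := lift (𝟙 G) (toUnit G ≫ z₀) ≫ aZ.act
  have horb₀ : ∀ {U : Over (Spec (CommRingCat.of k))} (g : U ⟶ G),
      g ≫ orb = lift g (toUnit U ≫ z₀) ≫ aZ.act := by
    intro U g
    rw [← Category.assoc, comp_lift, Category.comp_id, comp_toUnit_assoc]
  obtain ⟨ω, hω⟩ := hcov.exists_desc orb (fun {U} g g' e => by
    obtain ⟨h, rfl⟩ := hqk' g g' e
    rw [horb₀, horb₀, aZ.lift_mul_act, (hN (h ≫ iN)).mpr ⟨h, rfl⟩])
  haveI : Mono ω := ⟨fun {U} q₁ q₂ e => by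
    obtain ⟨U₁, r₁, g₁, hr₁, hg₁⟩ := hcov.exists_cover q₁
    obtain ⟨U₂, r₂, g₂, hr₂, hg₂⟩ := hcov.exists_cover (r₁ ≫ q₂)
    haveI := (hr₂.comp hr₁).epi
    rw [← cancel_epi (r₂ ≫ r₁), Category.assoc, Category.assoc, ← hg₁, ← hg₂]
    have e' : (r₂ ≫ g₁) ≫ orb = g₂ ≫ orb := by
      rw [← hω, Category.assoc, reassoc_of% hg₁, reassoc_of% hg₂, e]
    rw [horb₀, horb₀] at e'
    obtain ⟨h, hh⟩ := (hN ((r₂ ≫ g₁)⁻¹ * g₂)).mp (by
      rw [aZ.lift_mul_act, ← e', ← aZ.lift_mul_act, inv_mul_cancel, aZ.lift_one_act])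
    have := congrArg (lift (r₂ ≫ g₁) h ≫ ·) hsq.w
    simp only [hmul, lift_fst_assoc] at this
    rw [← Category.assoc (lift _ _), MonObj.comp_mul, lift_fst, lift_snd_assoc, hh,
      mul_inv_cancel_left] at this
    rw [← Category.assoc]
    exact this⟩
  haveI : IsClosedImmersion ω.left := by
    haveI : UniversallyClosed (pq.left ≫ Q.hom) := by rw [Over.w]; infer_instance
    haveI : UniversallyClosed Q.hom := UniversallyClosed.of_comp_surjective pq.left Q.hom
    haveI : IsProper Q.hom := {}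
    haveI : IsFinite Q.hom := IsFinite.iff_isProper_and_isAffineHom.mpr ⟨inferInstance, inferInstance⟩
    haveI : IsFinite (ω.left ≫ Z.hom) := by rw [Over.w]; infer_instance
    haveI : IsFinite ω.left := IsFinite.of_comp ω.left Z.hom
    exact (IsClosedImmersion.iff_isFinite_and_mono _).mpr
      ⟨inferInstance, inferInstanceAs (Mono ((Over.forget _).map ω))⟩
  -- the part of the torsor lying over the orbit
  let Φ' : T ⟶ Red.bc pX Z := he pX T Z τ
  have hΦ' : ∀ {U : Over X} (g : U ⟶ Red.bc pX G) (v : U ⟶ T),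
      (lift g v ≫ a.act) ≫ Φ' = lift g (v ≫ Φ') ≫ (aZ.bc pX).act := by
    intro U g v
    obtain ⟨g₀, rfl⟩ := (he pX U G).surjective g
    rw [← Adjunction.homEquiv_naturality_left, ← Adjunction.homEquiv_naturality_left,
      AlgGrp.Action.lift_homEquiv_bc_act, ← haZ, Equiv.symm_apply_apply]
  let ωX := (Over.pullback pX).map ω
  have hsqω : IsPullback ωX.left (pullback.fst Q.hom pX) (pullback.fst Z.hom pX) ω.left := by
    refine IsPullback.of_right (h₁₂ := pullback.snd Z.hom pX) (h₂₂ := Z.hom) (v₁₃ := pX) ?_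
      (pullback.lift_fst _ _ _) (IsPullback.of_hasPullback Z.hom pX).flip
    rw [show ωX.left ≫ pullback.snd Z.hom pX = pullback.snd Q.hom pX from Over.w ωX, Over.w ω]
    exact (IsPullback.of_hasPullback Q.hom pX).flip
  haveI : IsClosedImmersion ωX.left :=
    MorphismProperty.of_isPullback hsqω.flip ‹IsClosedImmersion ω.left›
  let W : Over X := pullback Φ' ωX
  let jW : W ⟶ T := pullback.fst Φ' ωX
  have hsqW := (IsPullback.of_hasPullback Φ' ωX).map (Over.forget X)
  haveI : IsClosedImmersion jW.left :=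
    MorphismProperty.of_isPullback hsqW.flip ‹IsClosedImmersion ωX.left›
  have hequivω : ∀ {U : Over X} (g : U ⟶ Red.bc pX G) (q : U ⟶ Red.bc pX Q),
      ∃ q', q' ≫ ωX = lift g (q ≫ ωX) ≫ (aZ.bc pX).act := by
    intro U g q
    obtain ⟨g₀, rfl⟩ := (he pX U G).surjective g
    obtain ⟨q₀, rfl⟩ := (he pX U Q).surjective q
    refine ⟨he pX U Q (lift g₀ q₀ ≫ aQ.act), ?_⟩
    rw [← he_naturality_right, ← he_naturality_right, AlgGrp.Action.lift_homEquiv_bc_act]
    congr 1
    obtain ⟨U₁, r₁, g₁, hr₁, hg₁⟩ := hcov.exists_cover q₀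
    haveI := hr₁.epi
    rw [← cancel_epi r₁]
    simp only [← Category.assoc, comp_lift]
    rw [← hg₁, ← hequivk, Category.assoc, hω, horb₀, aZ.lift_mul_act, ← horb₀, Category.assoc, hω]
  have hmemW : ∀ {U : Over X} (v : U ⟶ T) (q : U ⟶ Red.bc pX Q), v ≫ Φ' = q ≫ ωX →
      ∃ w : U ⟶ W, w ≫ jW = v := fun v q e =>
    ⟨pullback.lift v q e, pullback.lift_fst _ _ _⟩
  have hstW : ∀ {U : Over X} (g : U ⟶ Red.bc pX G) (w : U ⟶ W),
      ∃ w' : U ⟶ W, w' ≫ jW = lift g (w ≫ jW) ≫ a.act := by
    intro U g w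
    obtain ⟨q', hq'⟩ := hequivω g (w ≫ pullback.snd Φ' ωX)
    refine hmemW _ q' ?_
    rw [hΦ', hq', Category.assoc, Category.assoc, pullback.condition]
  obtain ⟨wt, hwt⟩ := hmemW t' (cst pX (η[G] ≫ pq) _) (by
    rw [cst_comp, Category.assoc, hω, horb₀,
      show η[G] = (1 : 𝟙_ (Over (Spec (CommRingCat.of k))) ⟶ G) by
        rw [Hom.one_def, toUnit_unique (toUnit (𝟙_ _)) (𝟙 _), Category.id_comp],
      aZ.lift_one_act, toUnit_unique (toUnit (𝟙_ _)) (𝟙 _), Category.id_comp, hz₀])
  -- it surjects onto the base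
  haveI : Surjective W.hom := by
    have hjr : Set.range jW.left.base = Φ'.left.base ⁻¹' Set.range ωX.left.base :=
      range_fst_sq hsqW
    have hωr : Set.range ωX.left.base =
        (pullback.fst Z.hom pX).base ⁻¹' Set.range ω.left.base :=
      range_fst_sq hsqω
    have hopen : IsOpen (Set.range jW.left.base) := by
      rw [hjr, hωr, ← Set.preimage_comp, ← TopCat.coe_comp, ← Scheme.Hom.comp_base]
      haveI := hZint
      exact isOpen_preimage_of_noetherianSpace
        (Φ'.left ≫ pullback.fst Z.hom pX) Z.hom _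
    have h1 : IsClopen (Set.range W.hom.base) := by
      rw [← Over.w jW, Scheme.Hom.comp_base, TopCat.coe_comp, Set.range_comp]
      exact ⟨T.hom.isClosedMap _ jW.left.isClosedEmbedding.isClosed_range,
        T.hom.isOpenMap _ hopen⟩
    refine ⟨Set.range_eq_univ.mp (h1.eq_univ ?_)⟩
    exact ⟨_, ⟨wt.left.base (default : Spec (CommRingCat.of k)), rfl⟩⟩
  haveI : Mono jW := Over.mono_of_mono_left jW
  haveI : IsIso jW := isIso_of_stable_surjective hT.1 jW hstW
  let Φ : T ⟶ Red.bc pX Q := inv jW ≫ pullback.snd Φ' ωX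
  have hΦω : Φ ≫ ωX = Φ' := by
    rw [Category.assoc, ← pullback.condition, IsIso.inv_hom_id_assoc]
  -- the fibre over `z₀`
  let J : Over X := pullback Φ' (cst pX z₀ (𝟙_ (Over X)))
  let jJ : J ⟶ T := pullback.fst Φ' (cst pX z₀ (𝟙_ (Over X)))
  have hsqJ := (IsPullback.of_hasPullback Φ' (cst pX z₀ (𝟙_ (Over X)))).map (Over.forget X)
  haveI : IsSeparated (Red.bc pX Z).hom := MorphismProperty.pullback_snd _ _ inferInstance
  haveI : IsClosedImmersion (cst pX z₀ (𝟙_ (Over X))).left := by
    haveI : IsClosedImmersion ((cst pX z₀ (𝟙_ (Over X))).left ≫ (Red.bc pX Z).hom) := by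
      rw [Over.w]
      exact inferInstanceAs (IsClosedImmersion (𝟙 X))
    exact IsClosedImmersion.of_comp (cst pX z₀ (𝟙_ (Over X))).left (Red.bc pX Z).hom
  haveI : IsClosedImmersion jJ.left :=
    MorphismProperty.of_isPullback hsqJ.flip ‹IsClosedImmersion (cst pX z₀ (𝟙_ (Over X))).left›
  haveI : Mono (cst pX z₀ (𝟙_ (Over X))) := ⟨fun _ _ _ => toUnit_unique _ _⟩
  haveI : Mono jJ := inferInstance
  have hmemJ : ∀ {U : Over X} (v : U ⟶ T), v ≫ Φ' = cst pX z₀ U → ∃ w : U ⟶ J, w ≫ jJ = v := by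
    intro U v hv
    exact ⟨pullback.lift v (toUnit U) (by rw [hv, comp_cst]), pullback.lift_fst _ _ _⟩
  have hjJ : ∀ {U : Over X} (w : U ⟶ J), (w ≫ jJ) ≫ Φ' = cst pX z₀ U := by
    intro U w
    rw [Category.assoc, pullback.condition, comp_cst, comp_cst]
  have hfix : ∀ {U : Over X} (g : U ⟶ Red.bc pX G),
      lift g (cst pX z₀ U) ≫ (aZ.bc pX).act = cst pX z₀ U ↔
        ∃ z : U ⟶ Red.bc pX N, z ≫ (Over.pullback pX).map iN = g := by
    intro U g
    obtain ⟨g₀, rfl⟩ := (he pX U G).surjective g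
    rw [cst, AlgGrp.Action.lift_homEquiv_bc_act, (he pX U Z).injective.eq_iff, hN]
    constructor
    · rintro ⟨z, hz⟩
      exact ⟨he pX U N z, by rw [← he_naturality_right, hz]⟩
    · rintro ⟨z, hz⟩
      refine ⟨(he pX U N).symm z, ?_⟩
      rw [← he_symm_naturality_right, hz, Equiv.symm_apply_apply]
  obtain ⟨bJ, hbJ⟩ := exists_action_of_mono a ((Over.pullback pX).map iN) jJ (fun {U} h w => by
    refine hmemJ _ ?_
    rw [hΦ', hjJ]
    exact (hfix _).mpr ⟨h, rfl⟩)
  have hpseudoJ : NonAbH1.IsPseudoTorsorSch bJ := by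
    refine LimTors.isPseudoTorsor_of_existsUnique bJ fun {U} v w => ?_
    obtain ⟨g, hg, hu⟩ := existsUnique_diff hT.1 (v ≫ jJ) (w ≫ jJ)
    obtain ⟨z, hz⟩ := (hfix g).mp (by
      have := congrArg (· ≫ Φ') hg
      rwa [hΦ', hjJ, hjJ] at this)
    refine ⟨z, ?_, fun z' hz' => ?_⟩
    · show lift z v ≫ bJ.act = w
      rw [← cancel_mono jJ, hbJ, hz, hg]
    · haveI : Mono ((Over.pullback pX).map iN) := inferInstance
      rw [← cancel_mono ((Over.pullback pX).map iN), hz]
      exact hu _ (by show lift _ _ ≫ a.act = _; rw [← hbJ, hz'])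
  have hJloc : NonAbH1.IsLocallyTrivialFor Scheme.fppfPrecoverage J := by
    let pqX := (Over.pullback pX).map pq
    have hsqp : IsPullback pqX.left (pullback.fst G.hom pX) (pullback.fst Q.hom pX) pq.left := by
      refine IsPullback.of_right (h₁₂ := pullback.snd Q.hom pX) (h₂₂ := Q.hom) (v₁₃ := pX) ?_
        (pullback.lift_fst _ _ _) (IsPullback.of_hasPullback Q.hom pX).flip
      rw [show pqX.left ≫ pullback.snd Q.hom pX = pullback.snd G.hom pX from Over.w pqX, Over.w pq]
      exact (IsPullback.of_hasPullback G.hom pX).flip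
    haveI : LocallyOfFiniteType pq.left :=
      haveI : LocallyOfFiniteType (pq.left ≫ Q.hom) := by rw [Over.w]; infer_instance
      locallyOfFiniteType_of_comp pq.left Q.hom
    haveI : LocallyOfFinitePresentation pq.left := inferInstance
    let U : Over X := pullback Φ pqX
    let v : U ⟶ T := pullback.fst Φ pqX
    let g : U ⟶ Red.bc pX G := pullback.snd Φ pqX
    have hsqU := (IsPullback.of_hasPullback Φ pqX).map (Over.forget X)
    haveI : Flat v.left :=
      MorphismProperty.of_isPullback hsqU.flip (MorphismProperty.of_isPullback hsqp.flip hpqflat)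
    haveI : Surjective v.left :=
      MorphismProperty.of_isPullback hsqU.flip (MorphismProperty.of_isPullback hsqp.flip hpqsurj)
    haveI : LocallyOfFinitePresentation v.left :=
      MorphismProperty.of_isPullback hsqU.flip
        (MorphismProperty.of_isPullback (P := @LocallyOfFinitePresentation) hsqp.flip inferInstance)
    haveI : Surjective T.hom :=
      surjective_of_isLocallyTrivialFor (isTorsorFor_mono Scheme.fppfPrecoverage_le_fpqcPrecoverage hT).2
    haveI : Flat U.hom := by rw [← Over.w v]; infer_instance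
    haveI : Surjective U.hom := by rw [← Over.w v]; infer_instance
    haveI : LocallyOfFinitePresentation U.hom := by rw [← Over.w v]; infer_instance
    obtain ⟨w, -⟩ := hmemJ (lift g⁻¹ v ≫ a.act) (by
      rw [hΦ', ← hΦω, reassoc_of% (pullback.condition : v ≫ Φ = g ≫ pqX),
        ← Functor.map_comp, hω]
      obtain ⟨g₀, hg₀⟩ := (he pX U G).surjective g
      have e : g ≫ (Over.pullback pX).map orb = lift g (cst pX z₀ U) ≫ (aZ.bc pX).act := by
        rw [← hg₀, ← he_naturality_right, horb₀, cst, AlgGrp.Action.lift_homEquiv_bc_act]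
      rw [e, ← AlgGrp.Action.lift_mul_act, inv_mul_cancel, AlgGrp.Action.lift_one_act])
    refine ⟨Presieve.singleton U.hom, U.hom.singleton_mem_fppfPrecoverage, ?_⟩
    rintro _ _ ⟨⟩
    exact ⟨w.left, Over.w w⟩
  haveI : IsIso jJ := hred N iN J jJ bJ ⟨hpseudoJ, hJloc⟩ (equivariant_of_pt fun U g v => hbJ g v)
  have hconst : Φ' = cst pX z₀ T := by
    have := hjJ (inv jJ)
    rwa [IsIso.inv_hom_id, Category.id_comp] at this
  have hτ' : τ.left = (T.hom ≫ pX) ≫ z₀.left := by
    have := congrArg CommaMorphism.left ((he pX T Z).injective hconst)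
    exact this.trans rfl
  rw [hτ', Scheme.Hom.comp_appTop] at hτ
  have hsurj : Function.Surjective (T.hom ≫ pX).appTop.hom := by
    intro y
    obtain ⟨z, hz⟩ := (ConcreteCategory.bijective_of_isIso
      (z₀.left.appTop ≫ (T.hom ≫ pX).appTop)).2 y
    exact ⟨_, hz⟩
  haveI : Nonempty T.left := ⟨t.base default⟩
  haveI : Nonempty (⊤ : T.left.Opens) := ⟨⟨t.base default, trivial⟩⟩
  haveI : Nontrivial Γ(T.left, ⊤) := Scheme.component_nontrivial _ _
  let F := Scheme.ΓSpecIso (CommRingCat.of k)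
  refine ⟨?_, hsurj⟩
  have hinj : Function.Injective (F.inv ≫ (T.hom ≫ pX).appTop).hom := RingHom.injective _
  intro u v e
  obtain ⟨u', rfl⟩ := (ConcreteCategory.bijective_of_isIso F.inv).2 u
  obtain ⟨v', rfl⟩ := (ConcreteCategory.bijective_of_isIso F.inv).2 v
  exact congrArg _ (hinj e)

/-- Let k be a field and X a proper k-scheme, connected and reduced, having a k-point x, G a finite
group scheme over k, and T → X a torsor (fppf-locally trivial) under the base change of G to X,
pointed by a k-point t lying over x. Then T is Nori-reduced, meaning that for every closed subgroup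
scheme H of G and every closed subscheme V of T stable under H (the inclusion intertwining the
actions) which is itself a torsor under the base change of H, the inclusion V → T is an isomorphism,
if and only if Γ(T, O_T) = k, in the sense that the ring map Γ(Spec k, O) → Γ(T, O_T) induced by the
structure morphism is bijective. (The intermediate equivalent condition on the functor of invariant
bundles is not included.) -/
theorem result
    (k : Type u) [Field k] (X : Scheme.{u}) [X.Over (Spec (CommRingCat.of k))]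
    [IsProper (X ↘ Spec (CommRingCat.of k))] [AlgebraicGeometry.IsReduced X] [ConnectedSpace X]
    (x : Spec (CommRingCat.of k) ⟶ X) (hx : x ≫ (X ↘ Spec (CommRingCat.of k)) = 𝟙 _)
    (G : Over (Spec (CommRingCat.of k))) [GrpObj G] [IsFinite G.hom]
    (T : Over X) (a : AlgGrp.Action (Red.bc (X ↘ Spec (CommRingCat.of k)) G) T)
    (hT : NonAbH1.IsTorsorFor Scheme.fppfPrecoverage a)
    (t : Spec (CommRingCat.of k) ⟶ T.left) (ht : t ≫ T.hom = x) :
    (∀ (H : Over (Spec (CommRingCat.of k))) [GrpObj H] (i : H ⟶ G) [IsMonHom i] [IsClosedImmersion i.left]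
        (V : Over X) (j : V ⟶ T) [IsClosedImmersion j.left]
        (b : AlgGrp.Action (Red.bc (X ↘ Spec (CommRingCat.of k)) H) V),
        NonAbH1.IsTorsorFor Scheme.fppfPrecoverage b →
        AlgGrp.Action.IsEquivariant b (a.restrict ((Over.pullback (X ↘ Spec (CommRingCat.of k))).map i)) j →
        IsIso j) ↔
      Function.Bijective (T.hom ≫ (X ↘ Spec (CommRingCat.of k))).appTop.hom := by
  constructor
  · intro h
    exact bijective_of_forall x hx hT ht h
  · intro h H _ i _ _ V j _ b hb hj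
    exact isIso_of_bijective x hx hT h i j b hb hj

end Groth.Agent.S18760
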