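import Groth.Statements.S18761
import Groth.Agent.AlgSp.FTPoints
import Groth.Agent.FEtCat.Rank
import Groth.Agent.GrpScheme.Basic
import Mathlib.RingTheory.Flat.LocallyFree
import Mathlib.AlgebraicGeometry.Morphisms.FlatRank
import Mathlib.RingTheory.Spectrum.Prime.FreeLocus
-- import your own Groth.Agent.* helpers here

set_option autoImplicit false
universe u
open CategoryTheory MonoidalCategory CartesianMonoidalCategory MonObj GrpObj AlgebraicGeometry
open AlgGrp

namespace Groth.Agent.S18761

set_option backward.isDefEq.respectTransparency false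
set_option backward.isDefEq.respectTransparency.types false
set_option maxHeartbeats 1000000

/-- The fibre at a section of a base change is the group one started with. -/
noncomputable def fibreHom {B S : Scheme.{u}} (f : S ⟶ B) (s : B ⟶ S) (hs : s ≫ f = 𝟙 B) (G : Over B) :
    Red.bc s (Red.bc f G) ⟶ G :=
  Over.homMk (Limits.pullback.fst (Red.bc f G).hom s ≫ Limits.pullback.fst G.hom f) (by
    show _ ≫ G.hom = Limits.pullback.snd _ _
    rw [Category.assoc, Limits.pullback.condition, ← Category.assoc]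
    show (Limits.pullback.fst (Limits.pullback.snd G.hom f) s ≫ Limits.pullback.snd G.hom f) ≫ f = _
    rw [Limits.pullback.condition, Category.assoc, hs, Category.comp_id]
    rfl)

lemma isMonHom_fibreHom {B S : Scheme.{u}} (f : S ⟶ B) (s : B ⟶ S) (hs : s ≫ f = 𝟙 B) (G : Over B) [GrpObj G] :
    IsMonHom (fibreHom f s hs G) := by
  unfold fibreHom
  constructor
  · ext
    simp [reassoc_of% hs]
  · ext
    simp
    simp only [← Category.assoc]
    congr 1
    apply Limits.pullback.hom_ext
    · simp
      erw [Over.μ_pullback_left_fst_fst (f := f) G G, reassoc_of% (Over.μ_pullback_left_fst_fst (f := s) (Red.bc f G) (Red.bc f G))]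
      rfl
    · simp
      erw [Over.μ_pullback_left_fst_snd (f := f) G G, reassoc_of% (Over.μ_pullback_left_fst_snd (f := s) (Red.bc f G) (Red.bc f G))]
      rfl

/-- A closed immersion of finite flat schemes of the same rank is an isomorphism. -/
lemma isIso_of_finrank_eq {S H H' : Scheme.{u}} (c : H ⟶ H') (h' : H' ⟶ S) [IsClosedImmersion c]
    [IsFinite h'] [Flat h'] [IsFinite (c ≫ h')] [Flat (c ≫ h')]
    (hr : ∀ x, Scheme.Hom.finrank (c ≫ h') x = Scheme.Hom.finrank h' x) : IsIso c := by
  classical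
  have hrank : ∀ {V : S.Opens} (hV : IsAffineOpen V) {Y : Scheme.{u}} (g : Y ⟶ S) [IsFinite g] [Flat g],
      letI := (g.app V).hom.toAlgebra
      Module.Finite Γ(S, V) Γ(Y, g ⁻¹ᵁ V) ∧ Module.Flat Γ(S, V) Γ(Y, g ⁻¹ᵁ V) ∧
        ∀ v : PrimeSpectrum Γ(S, V),
          Module.rankAtStalk Γ(Y, g ⁻¹ᵁ V) v = Scheme.Hom.finrank g (hV.fromSpec v) := by
    intro V hV Y g _ _
    letI := (g.app V).hom.toAlgebra
    have hV' : IsAffineOpen (g ⁻¹ᵁ V) := hV.preimage g
    have h1 : Module.Finite Γ(S, V) Γ(Y, g ⁻¹ᵁ V) := RingHom.finite_algebraMap.mp (IsFinite.finite_app g V hV)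
    have h2 : Module.Flat Γ(S, V) Γ(Y, g ⁻¹ᵁ V) := RingHom.flat_algebraMap_iff.mp (by
      have := g.flat_appLE hV hV' le_rfl
      rwa [← Scheme.Hom.app_eq_appLE] at this)
    refine ⟨h1, h2, fun v => ?_⟩
    let ψ := g.appLE V (g ⁻¹ᵁ V) le_rfl
    have hsq := hV.SpecMap_appLE_fromSpec g hV' le_rfl
    have hpb : IsPullback hV'.fromSpec (Spec.map ψ) g hV.fromSpec := by
      refine (IsOpenImmersion.isPullback (Spec.map ψ) hV'.fromSpec hV.fromSpec g hsq.symm ?_).flip
      ext w
      simp
    rw [← Scheme.Hom.finrank_of_isPullback _ _ _ _ hpb v, show ψ = g.app V from (Scheme.Hom.app_eq_appLE _).symm,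
      show g.app V = CommRingCat.ofHom (algebraMap Γ(S, V) Γ(Y, g ⁻¹ᵁ V)) from rfl]
    exact (Scheme.Hom.finrank_SpecMap_algebraMap _ _ v).symm
  rw [IsClosedImmersion.isIso_iff_ker_eq_bot]
  refine Scheme.IdealSheafData.ext_of_iSup_eq_top (fun V : S.affineOpens => ⟨h' ⁻¹ᵁ V.1, IsAffineOpen.preimage V.2 h'⟩)
    ?_ (fun V => ?_)
  · rw [← h'.preimage_iSup, iSup_affineOpens_eq_top, h'.preimage_top]
  · have hV : IsAffineOpen V.1 := V.2
    letI := (h'.app V.1).hom.toAlgebra
    letI := ((c ≫ h').app V.1).hom.toAlgebra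
    obtain ⟨_, _, e'⟩ := hrank hV h'
    obtain ⟨_, _, e⟩ := hrank hV (c ≫ h')
    rw [c.ker_apply, Scheme.IdealSheafData.ideal_bot]
    let φ : Γ(H', h' ⁻¹ᵁ V.1) →ₗ[Γ(S, V.1)] Γ(H, (c ≫ h') ⁻¹ᵁ V.1) :=
      { toFun := fun x => c.app (h' ⁻¹ᵁ V.1) x
        map_add' := map_add _
        map_smul' := fun a x => map_mul (c.app (h' ⁻¹ᵁ V.1)).hom _ _ }
    have hs : Function.Surjective φ := c.app_surjective _ (hV.preimage h')
    have hb := Module.bijective_of_surjective_of_rankAtStalk_eq hs fun m _ => by rw [e', e, hr]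
    exact (RingHom.injective_iff_ker_eq_bot _).1 hb.1

lemma equiv₀_smul {k : Type u} [CommRing k] {X : Scheme.{u}} [X.Over (Spec (CommRingCat.of k))] (M : X.Modules)
    (a : k) (x : Coh.HH X M 0) :
    Sheaf.H.equiv₀ (Coh.toAb M) CategoryTheory.Limits.isTerminalTop (a • x) =
      (show Γ(M, ⊤) from (show Γ(X, ⊤) from Coh.toGlobal (X ↘ Spec (CommRingCat.of k)) a) •
        (show Γ(M, ⊤) from Sheaf.H.equiv₀ (Coh.toAb M) CategoryTheory.Limits.isTerminalTop x)) := by
  show Sheaf.H.equiv₀ (Coh.toAb M) CategoryTheory.Limits.isTerminalTop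
    (Sheaf.H.map (Coh.smulAb M (Coh.toGlobal (X ↘ Spec (CommRingCat.of k)) a)) 0 x) = _
  rw [← Sheaf.H.equiv₀_naturality, Coh.smulAb_app]
  congr 1
  exact congrArg (fun q : X.ringCatSheaf.obj.obj (Opposite.op ⊤) ⟶ _ => q.hom _)
    (X.ringCatSheaf.obj.map_id (Opposite.op ⊤))

lemma isoSpec_inv_appTop' (X : Scheme.{u}) [IsAffine X] :
    X.isoSpec.inv.appTop = (Scheme.ΓSpecIso Γ(X, ⊤)).inv := by
  have h := congrArg Scheme.Hom.appTop (Scheme.isoSpec_inv_toSpecΓ X)
  rw [Scheme.Hom.comp_appTop, Scheme.toSpecΓ_appTop, Scheme.Hom.id_appTop] at h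
  rw [← cancel_epi (Scheme.ΓSpecIso Γ(X, ⊤)).hom, h, Iso.hom_inv_id]

/-- Let k be an algebraically closed field, S a smooth, proper and integral curve over k (integral,
smooth and proper over k of dimension one), G a finite group scheme over k, and H a closed subgroup
scheme of the base change G_S = G ×_k S whose structure morphism H → S is faithfully flat, such that
the direct image of O_H on S is locally free of rank m and its space of global sections, that is
Γ(H, O_H), has dimension exactly m over k. Then H descends to k: there are a group scheme H' over k,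
a homomorphism H' → G which is a closed immersion, and an isomorphism of S-group schemes H ≅ H' ×_k
S carrying the inclusion of H into G_S to the base change of H' → G; moreover the induced ring map
Γ(H', O) → Γ(H, O_H) is bijective, so that H' is the spectrum of Γ(H, O_H). -/
theorem result
    (k : Type u) [Field k] [IsAlgClosed k] (S : Scheme.{u}) [S.Over (Spec (CommRingCat.of k))]
    [IsIntegral S] [IsProper (S ↘ Spec (CommRingCat.of k))] [Smooth (S ↘ Spec (CommRingCat.of k))]
    (hdim : topologicalKrullDim S = 1)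
    (G : Over (Spec (CommRingCat.of k))) [GrpObj G] [IsFinite G.hom]
    (H : Over S) [GrpObj H] (i : H ⟶ Red.bc (S ↘ Spec (CommRingCat.of k)) G) [IsMonHom i]
    [IsClosedImmersion i.left] [Flat H.hom] [Surjective H.hom] (m : ℕ)
    (hE : FlatMod.IsFinLocFreeOfRank m ((Coh.push H.hom).obj (Coh.structureModule H.left)))
    (hh0 : Module.finrank k (Coh.HH S ((Coh.push H.hom).obj (Coh.structureModule H.left)) 0) = m) :
    ∃ (H' : Grp (Over (Spec (CommRingCat.of k)))) (j : H'.X ⟶ G), IsMonHom j ∧ IsClosedImmersion j.left ∧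
      ∃ e : H ≅ Red.bc (S ↘ Spec (CommRingCat.of k)) H'.X, IsMonHom e.hom ∧
        e.hom ≫ (Over.pullback (S ↘ Spec (CommRingCat.of k))).map j = i ∧
        Function.Bijective (e.hom.left ≫ Limits.pullback.fst H'.X.hom (S ↘ Spec (CommRingCat.of k))).appTop.hom := by
  classical
  let f := S ↘ Spec (CommRingCat.of k)
  haveI : IsFinite (Red.bc f G).hom := inferInstanceAs (IsFinite (Limits.pullback.snd G.hom f))
  haveI hHfin : IsFinite H.hom := by
    rw [← Over.w i]
    haveI : IsFinite i.left := inferInstance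
    exact MorphismProperty.comp_mem @IsFinite i.left _ inferInstance (inferInstanceAs (IsFinite (Red.bc f G).hom))
  have hrk : ∀ x, Scheme.Hom.finrank H.hom x = m := fun x =>
    FEtCat.Rank.finrank_eq_of_isFinLocFreeOfRank H.hom m hE x
  have hm : 0 < m := by
    have h1 := (Scheme.Hom.one_le_finrank_iff_surjective (f := H.hom)).2 inferInstance
    exact hrk (Classical.arbitrary _) ▸ h1 (Classical.arbitrary _)
  obtain ⟨s₀, hs₀⟩ := AlgSp.FTPoints.exists_section_of_isAlgClosed f
  let F := Over.pullback s₀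
  haveI := isMonHom_fibreHom f s₀ hs₀ G
  let H' : Over (Spec (CommRingCat.of k)) := Red.bc s₀ H
  let j : H' ⟶ G := F.map i ≫ fibreHom f s₀ hs₀ G
  let b : H.left ⟶ G.left := i.left ≫ Limits.pullback.fst G.hom f
  let π : H'.left ⟶ H.left := Limits.pullback.fst H.hom s₀
  have hjl : j.left = π ≫ b := by
    show (F.map i).left ≫ Limits.pullback.fst (Red.bc f G).hom s₀ ≫ Limits.pullback.fst G.hom f =
      π ≫ i.left ≫ Limits.pullback.fst G.hom f
    rw [← Category.assoc, ← Category.assoc π]
    congr 1
    exact Limits.pullback.lift_fst _ _ _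
  haveI : IsFinite H'.hom := inferInstanceAs (IsFinite (Limits.pullback.snd H.hom s₀))
  haveI : IsAffine G.left := isAffine_of_isAffineHom G.hom
  haveI : IsAffine H'.left := isAffine_of_isAffineHom H'.hom
  haveI : IsClosedImmersion j.left := by
    haveI : IsClosedImmersion (F.map i).left := by
      refine MorphismProperty.of_isPullback (P := @IsClosedImmersion) (g := i.left) (f := Limits.pullback.fst (Red.bc f G).hom s₀)
        (f' := Limits.pullback.fst H.hom s₀) (g' := (F.map i).left) ?_ inferInstance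
      refine (IsPullback.of_right (h₁₁ := (F.map i).left) (h₂₁ := i.left) (h₁₂ := Limits.pullback.snd (Red.bc f G).hom s₀)
        (h₂₂ := (Red.bc f G).hom) (v₁₃ := s₀) ?_ (Limits.pullback.lift_fst _ _ _)
        (IsPullback.of_hasPullback (Red.bc f G).hom s₀).flip).flip
      rw [show (F.map i).left ≫ Limits.pullback.snd (Red.bc f G).hom s₀ = Limits.pullback.snd H.hom s₀ from
        Limits.pullback.lift_snd _ _ _, Over.w i]
      exact (IsPullback.of_hasPullback H.hom s₀).flip
    haveI : IsIso (fibreHom f s₀ hs₀ G).left := by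
      show IsIso (Limits.pullback.fst (Limits.pullback.snd G.hom f) s₀ ≫ Limits.pullback.fst G.hom f)
      rw [← Limits.pullbackLeftPullbackSndIso_hom_fst]
      haveI : IsIso (s₀ ≫ f) := by rw [hs₀]; infer_instance
      infer_instance
    show IsClosedImmersion ((F.map i).left ≫ (fibreHom f s₀ hs₀ G).left)
    infer_instance
  -- algebras of functions
  letI : Algebra k Γ(H.left, ⊤) := (Coh.toGlobal (H.hom ≫ f)).toAlgebra
  letI : Algebra k Γ(H'.left, ⊤) := (Coh.toGlobal H'.hom).toAlgebra
  let E : Coh.HH S ((Coh.push H.hom).obj (Coh.structureModule H.left)) 0 ≃ₗ[k] Γ(H.left, ⊤) :=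
    { Sheaf.H.equiv₀ (Coh.toAb ((Coh.push H.hom).obj (Coh.structureModule H.left))) CategoryTheory.Limits.isTerminalTop with
      map_smul' := fun a x => (equiv₀_smul ((Coh.push H.hom).obj (Coh.structureModule H.left)) a x).trans rfl }
  have hdH : Module.finrank k Γ(H.left, ⊤) = m := E.finrank_eq.symm.trans hh0
  haveI : Module.Finite k Γ(H.left, ⊤) := Module.finite_of_finrank_pos (hdH.symm ▸ hm)
  have hdH' : Module.finrank k Γ(H'.left, ⊤) = m ∧ Module.Finite k Γ(H'.left, ⊤) := by
    have h1 : ∀ y, Scheme.Hom.finrank H'.hom y = m := fun y =>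
      (Scheme.Hom.finrank_pullback_snd H.hom s₀ y).trans (hrk _)
    let φ : CommRingCat.of k ⟶ Γ(H'.left, ⊤) := CommRingCat.ofHom (algebraMap k Γ(H'.left, ⊤))
    have hφ : H'.left.isoSpec.inv ≫ H'.hom = Spec.map φ := by
      refine ext_of_isAffine ?_
      rw [Scheme.Hom.comp_appTop, isoSpec_inv_appTop', ← cancel_mono (Scheme.ΓSpecIso _).hom,
        Scheme.ΓSpecIso_naturality, Category.assoc, Iso.inv_hom_id, Category.comp_id]
      ext x
      show _ = H'.hom.appTop ((Scheme.ΓSpecIso (CommRingCat.of k)).inv ((Scheme.ΓSpecIso (CommRingCat.of k)).hom x))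
      exact (congrArg H'.hom.appTop (congr($((Scheme.ΓSpecIso (CommRingCat.of k)).hom_inv_id) x))).symm
    haveI hfin : Module.Finite k Γ(H'.left, ⊤) := by
      have h2 : IsFinite (Spec.map φ) := by rw [← hφ]; infer_instance
      rw [IsFinite.SpecMap_iff] at h2
      exact RingHom.finite_algebraMap.1 h2
    refine ⟨?_, hfin⟩
    let y : Spec (CommRingCat.of k) := IsLocalRing.closedPoint k
    have h3 := h1 y
    rw [← Scheme.Hom.finrank_comp_left_of_isIso H'.left.isoSpec.inv H'.hom, hφ] at h3
    rw [← h3]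
    refine ((Scheme.Hom.finrank_SpecMap_algebraMap _ _ y).trans ?_).symm
    rw [Module.rankAtStalk_eq_finrank_of_free]
    rfl
  obtain ⟨hdH', _⟩ := hdH'
  let σ : Γ(H.left, ⊤) →ₐ[k] Γ(H'.left, ⊤) :=
    { π.appTop.hom with
      commutes' := fun a => by
        show π.appTop ((H.hom ≫ f).appTop _) = H'.hom.appTop _
        rw [← CommRingCat.comp_apply, ← Scheme.Hom.comp_appTop]
        congr 3
        show π ≫ H.hom ≫ f = H'.hom
        rw [← Category.assoc, Limits.pullback.condition, Category.assoc, hs₀]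
        exact Category.comp_id _ }
  have hsurj : Function.Surjective j.left.appTop := j.left.app_surjective ⊤ (isAffineOpen_top _)
  have hσs : Function.Surjective σ := fun y => by
    obtain ⟨a, ha⟩ := hsurj y
    refine ⟨b.appTop a, ?_⟩
    rw [← ha, hjl]; rfl
  have hσ : Function.Bijective σ :=
    ⟨(LinearMap.injective_iff_surjective_of_finrank_eq_finrank (f := σ.toLinearMap) (hdH.trans hdH'.symm)).2 hσs, hσs⟩
  let σe := RingEquiv.ofBijective π.appTop.hom hσ
  let t : H.left ⟶ H'.left :=
    H.left.toSpecΓ ≫ Spec.map (CommRingCat.ofHom σe.symm.toRingHom) ≫ H'.left.isoSpec.inv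
  have htt : t.appTop = CommRingCat.ofHom σe.symm.toRingHom := by
    simp only [t, Scheme.Hom.comp_appTop, isoSpec_inv_appTop', Scheme.toSpecΓ_appTop, Category.assoc,
      Scheme.ΓSpecIso_naturality, Iso.inv_hom_id_assoc]
    exact Iso.inv_hom_id_assoc _ _
  have htj : t ≫ j.left = b := by
    refine ext_of_isAffine ?_
    rw [Scheme.Hom.comp_appTop, htt, hjl, Scheme.Hom.comp_appTop]
    ext a
    exact σe.symm_apply_apply (b.appTop a)
  have hb : b ≫ G.hom = H.hom ≫ f := by
    show (i.left ≫ Limits.pullback.fst G.hom f) ≫ G.hom = _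
    rw [Category.assoc, Limits.pullback.condition, ← Category.assoc]
    congr 1
    exact Over.w i
  have htw : t ≫ H'.hom = H.hom ≫ f := by rw [← Over.w j, ← Category.assoc, htj, hb]
  let e₀ : H ⟶ Red.bc f H' := Over.homMk (Limits.pullback.lift t H.hom htw) (Limits.pullback.lift_snd _ _ _)
  have hei : e₀ ≫ (Over.pullback f).map j = i := by
    refine Over.OverMorphism.ext (Limits.pullback.hom_ext ?_ ?_)
    · show (_ ≫ _) ≫ _ = b
      rw [Category.assoc]
      erw [Limits.pullback.lift_fst, ← Category.assoc, Limits.pullback.lift_fst, htj]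
    · exact (Over.w (e₀ ≫ (Over.pullback f).map j)).trans (Over.w i).symm
  haveI : IsSeparated ((Over.pullback f).map j).left := by
    have h : IsSeparated (((Over.pullback f).map j).left ≫ (Red.bc f G).hom) := by
      rw [Over.w]
      exact inferInstanceAs (IsSeparated (Limits.pullback.snd H'.hom f))
    exact IsSeparated.of_comp _ (Red.bc f G).hom
  haveI : IsClosedImmersion e₀.left := by
    have h : IsClosedImmersion (e₀.left ≫ ((Over.pullback f).map j).left) := by
      rw [← Over.comp_left, hei]; infer_instance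
    exact IsClosedImmersion.of_comp e₀.left ((Over.pullback f).map j).left
  haveI : Flat H'.hom := inferInstanceAs (Flat (Limits.pullback.snd H.hom s₀))
  haveI : IsFinite (Red.bc f H').hom := inferInstanceAs (IsFinite (Limits.pullback.snd H'.hom f))
  haveI : Flat (Red.bc f H').hom := inferInstanceAs (Flat (Limits.pullback.snd H'.hom f))
  haveI : IsFinite (e₀.left ≫ (Red.bc f H').hom) := by rw [Over.w]; infer_instance
  haveI : Flat (e₀.left ≫ (Red.bc f H').hom) := by rw [Over.w]; infer_instance
  haveI : IsIso e₀.left := isIso_of_finrank_eq e₀.left (Red.bc f H').hom fun x => by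
    rw [show Scheme.Hom.finrank (e₀.left ≫ (Red.bc f H').hom) x = Scheme.Hom.finrank H.hom x by
      simp only [Over.w], hrk]
    exact (((Scheme.Hom.finrank_pullback_snd H'.hom f x).trans (Scheme.Hom.finrank_pullback_snd H.hom s₀ _)).trans (hrk _)).symm
  haveI : IsIso ((Over.forget S).map e₀) := ‹IsIso e₀.left›
  haveI : IsIso e₀ := CategoryTheory.Functor.ReflectsIsomorphisms.reflects (Over.forget S) e₀
  have : IsMonHom ((Over.pullback f).map j) := inferInstance
  haveI : Mono j := by
    haveI : Mono j.left := inferInstance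
    exact Over.mono_of_mono_left j
  haveI := Functor.preservesMonomorphisms_of_isRightAdjoint (Over.pullback f)
  refine ⟨Grp.mk H', j, inferInstance, inferInstance, asIso e₀, ?_, hei, ?_⟩
  · constructor
    · rw [← cancel_mono ((Over.pullback f).map j), Category.assoc, asIso_hom, hei, IsMonHom.one_hom i, IsMonHom.one_hom]
    · rw [← cancel_mono ((Over.pullback f).map j), Category.assoc, asIso_hom, hei, IsMonHom.mul_hom i, Category.assoc,
        IsMonHom.mul_hom ((Over.pullback f).map j), ← Category.assoc, tensorHom_comp_tensorHom, hei]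
  · show Function.Bijective (e₀.left ≫ Limits.pullback.fst H'.hom f).appTop.hom
    rw [show e₀.left ≫ Limits.pullback.fst H'.hom f = t from Limits.pullback.lift_fst _ _ _, htt]
    exact σe.symm.bijective

end Groth.Agent.S18761
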