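import Groth.Statements.S18763
import Groth.Agent.GITLib.TorsorSchMore
-- import your own Groth.Agent.* helpers here

set_option autoImplicit false
universe u
open CategoryTheory CategoryTheory.Limits MonoidalCategory CartesianMonoidalCategory MonObj GrpObj AlgebraicGeometry
open AlgGrp

namespace Groth.Agent.S18763

lemma hom_ext_of_orbit {S : Scheme.{u}} {G Q : Over S} [GrpObj G] (aQ : AlgGrp.Action G Q)
    (q₀ : 𝟙_ (Over S) ⟶ Q)
    (h : NonAbH1.IsLocallyTrivialFor Scheme.fppfPrecoverage (Over.mk (aQ.orbitMap q₀).left : Over Q.left))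
    {T : Over S} (q : T ⟶ Q) (x : T ⟶ Q)
    (hx : ∀ (T' : Over S) (f : T' ⟶ T) (s : T' ⟶ G), s ≫ aQ.orbitMap q₀ = f ≫ q → f ≫ x = f ≫ q) :
    x = q := by
  have hS := Groth.Agent.GITLib.pointSieve_mem
    (Groth.Agent.GITLib.isLocallyTrivialFor_mono Scheme.fppfPrecoverage_le_fpqcPrecoverage h) (Over.mk q.left)
  refine Over.OverMorphism.ext ?_
  refine ((GrothendieckTopology.Subcanonical.isSheaf_of_isRepresentable (J := Scheme.fpqcTopology)
    (yoneda.obj Q.left)).isSeparated _ hS).ext fun W k hk => ?_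
  rw [Sieve.overEquiv_iff] at hk
  obtain ⟨s⟩ := hk
  let T' : Over S := Over.mk (k ≫ T.hom)
  let f : T' ⟶ T := Over.homMk k rfl
  have hs : s.left ≫ (aQ.orbitMap q₀).left = k ≫ q.left := Over.w s
  let σ : T' ⟶ G := Over.homMk s.left (by
    rw [← Over.w (aQ.orbitMap q₀), ← Category.assoc, hs, Category.assoc, Over.w q]; rfl)
  exact congrArg Over.Hom.left (hx T' f σ (Over.OverMorphism.ext hs))

/-- Let G be a finite group scheme over a field k and H a closed subgroup scheme of G, and let (Q, q₀)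
with its G-action be the homogeneous space G/H for the fppf topology (the orbit map of q₀ is an fppf
H-torsor onto Q). Let N be a closed subgroup scheme of G which is the kernel of the action of G on
Q: a point g of G with values in a k-scheme T factors through N exactly when g acts as the identity
on all points of Q with values in T-schemes. Then N (the core of H in G) is normal in G, is
contained in H, and contains every closed normal subgroup scheme of G which is contained in H. (The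
published definition takes the core to be the kernel of the linear representation of G on the
coordinate ring of G/H; this is the same subgroup as the kernel of the action on G/H used here.) -/
theorem result
    (k : Type u) [Field k]
    (G : Over (Spec (CommRingCat.of k))) [GrpObj G] [IsFinite G.hom]
    (H : Over (Spec (CommRingCat.of k))) [GrpObj H] (i : H ⟶ G) [IsMonHom i] [IsClosedImmersion i.left]
    (Q : Over (Spec (CommRingCat.of k))) (aQ : AlgGrp.Action G Q) (q₀ : 𝟙_ (Over (Spec (CommRingCat.of k))) ⟶ Q)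
    (hQ : ChGrp.IsHomog Scheme.fppfPrecoverage i aQ q₀)
    (N : Over (Spec (CommRingCat.of k))) [GrpObj N] (n : N ⟶ G) [IsMonHom n] [IsClosedImmersion n.left]
    (hN : ∀ (T : Over (Spec (CommRingCat.of k))) (g : T ⟶ G),
      (∃ g' : T ⟶ N, g' ≫ n = g) ↔
        ∀ (T' : Over (Spec (CommRingCat.of k))) (v : T' ⟶ T) (q : T' ⟶ Q), lift (v ≫ g) q ≫ aQ.act = q) :
    AlgGrp.IsNormalHom n ∧ (∃ m : N ⟶ H, m ≫ i = n) ∧
      ∀ (N' : Over (Spec (CommRingCat.of k))) [GrpObj N'] (n' : N' ⟶ G) [IsMonHom n'] [IsClosedImmersion n'.left],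
        AlgGrp.IsNormalHom n' → (∃ m' : N' ⟶ H, m' ≫ i = n') → ∃ r : N' ⟶ N, r ≫ n = n' := by
  obtain ⟨hi, hpb, htriv⟩ := hQ
  refine ⟨?_, ?_, ?_⟩
  · intro T g m
    obtain ⟨m', hm'⟩ := (hN T (g * (m ≫ n) * g⁻¹)).2 fun T' v q => by
      have hm := (hN T (m ≫ n)).1 ⟨m, rfl⟩ T' v (lift (v ≫ g⁻¹) q ≫ aQ.act)
      rw [MonObj.comp_mul, MonObj.comp_mul, aQ.lift_mul_act, aQ.lift_mul_act, hm, ← aQ.lift_mul_act,
        ← MonObj.comp_mul, mul_inv_cancel, MonObj.comp_one, aQ.lift_one_act]
    exact ⟨m', hm'.symm⟩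
  · have hn := (hN N n).1 ⟨𝟙 N, Category.id_comp n⟩ N (𝟙 N) (toUnit N ≫ q₀)
    rw [Category.id_comp] at hn
    have horb : ∀ {T : Over (Spec (CommRingCat.of k))} (g : T ⟶ G),
        g ≫ aQ.orbitMap q₀ = lift g (toUnit T ≫ q₀) ≫ aQ.act := fun {T} g => by
      rw [AlgGrp.Action.orbitMap, comp_lift_assoc, Category.comp_id, ← Category.assoc g (toUnit G),
        toUnit_unique (g ≫ toUnit G) (toUnit T)]
    obtain ⟨l, hl1, hl2⟩ := hpb.exists_lift (1 : N ⟶ G) n (by rw [horb, horb, hn, aQ.lift_one_act])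
    refine ⟨l ≫ snd G H, ?_⟩
    have e : l = lift (1 : N ⟶ G) (l ≫ snd G H) :=
      CartesianMonoidalCategory.hom_ext _ _ (by rw [lift_fst, hl1]) (by rw [lift_snd])
    rw [e, lift_whiskerLeft_assoc, ← Hom.mul_def, _root_.one_mul] at hl2
    exact hl2
  · intro N' _ n' _ _ hnor ⟨m', hm'⟩
    refine (hN N' n').2 fun T' v q => hom_ext_of_orbit aQ q₀ htriv q _ fun T'' f s hs => ?_
    rw [comp_lift_assoc, ← hs]
    have horb : ∀ {T : Over (Spec (CommRingCat.of k))} (g : T ⟶ G),
        g ≫ aQ.orbitMap q₀ = lift g (toUnit T ≫ q₀) ≫ aQ.act := fun {T} g => by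
      rw [AlgGrp.Action.orbitMap, comp_lift_assoc, Category.comp_id, ← Category.assoc g (toUnit G),
        toUnit_unique (g ≫ toUnit G) (toUnit T)]
    obtain ⟨b, hb⟩ := hnor T'' s⁻¹ (f ≫ v)
    rw [horb, ← aQ.lift_mul_act]
    have hprod : (f ≫ v ≫ n') * s = s * ((b ≫ m') ≫ i) := by
      rw [Category.assoc, hm', ← hb, _root_.inv_inv, Category.assoc]
      group
    rw [hprod, aQ.lift_mul_act]
    congr 2
    have h1 : lift (1 : T'' ⟶ G) (b ≫ m') ≫ fst G H ≫ aQ.orbitMap q₀ =
        lift (1 : T'' ⟶ G) (b ≫ m') ≫ ((G ◁ i) ≫ μ[G]) ≫ aQ.orbitMap q₀ := by rw [hpb.w]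
    rw [Category.assoc (G ◁ i), lift_whiskerLeft_assoc, ← Category.assoc (lift _ _) μ[G], ← Hom.mul_def,
      _root_.one_mul, lift_fst_assoc, horb, horb, aQ.lift_one_act] at h1
    exact h1.symm

end Groth.Agent.S18763
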