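import Groth.Statements.S18764
import Groth.Agent.PrincFP.Basic
import Groth.Agent.GITLib.FibreProdTorsor
import Groth.Agent.FinRankFlat.Basic
-- import your own Groth.Agent.* helpers here

set_option autoImplicit false
universe u
open CategoryTheory CategoryTheory.Limits MonoidalCategory CartesianMonoidalCategory MonObj GrpObj AlgebraicGeometry
open NonAbH1

namespace Groth.Agent.S18764

open Groth.Agent.GITLib

/-- A surjective finite pseudo-torsor under a finite group over a field, on a reduced base, is a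
torsor. -/
theorem isTorsorFor_of_surjective {k : Type u} [Field k] {X : Scheme.{u}}
    (p : X ⟶ Spec (CommRingCat.of k)) [AlgebraicGeometry.IsReduced X]
    (P : Over (Spec (CommRingCat.of k))) [GrpObj P] [IsFinite P.hom]
    {W : Over X} (c : AlgGrp.Action (Red.bc p P) W) (hc : NonAbH1.IsPseudoTorsorSch c)
    [IsFinite W.hom] [Surjective W.hom] : NonAbH1.IsTorsorFor Scheme.fppfPrecoverage c := by
  have key : ∀ (F : Type u) [Field F] (y : Spec (CommRingCat.of F) ⟶ X) (Q : Scheme.{u})
      (q' : Q ⟶ W.left) (q : Q ⟶ Spec (CommRingCat.of F)), IsPullback q' q W.hom y →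
      ∀ t, q.finrank t = P.hom.finrank (default : Spec (CommRingCat.of k)) := by
    intro F _ y Q q' q hQ t
    haveI hsurj : Surjective q := MorphismProperty.of_isPullback (P := @Surjective) hQ ‹_›
    haveI hfinq : IsFinite q := MorphismProperty.of_isPullback (P := @IsFinite) hQ ‹_›
    obtain ⟨w, -⟩ := q.surjective t
    let L := Q.residueField w
    let l : Spec L ⟶ Spec (CommRingCat.of F) := Q.fromSpecResidueField w ≫ q
    let T : Over X := Over.mk (l ≫ y)
    let σ : T ⟶ W := Over.homMk (Q.fromSpecResidueField w ≫ q') (by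
      show (Q.fromSpecResidueField w ≫ q') ≫ W.hom = l ≫ y
      simp only [l, Category.assoc, hQ.w])
    haveI hρ : IsIso (lift ((Red.bc p P ◁ σ) ≫ c.act) (snd _ T)) := isIso_trivialisation hc σ
    let ψ : pullback (pullback.snd P.hom p) (l ≫ y) ⟶ pullback W.hom (l ≫ y) :=
      (lift ((Red.bc p P ◁ σ) ≫ c.act) (snd _ T)).left
    haveI hψi : IsIso ψ := inferInstanceAs
      (IsIso ((Over.forget X).map (lift ((Red.bc p P ◁ σ) ≫ c.act) (snd _ T))))
    have hψ : ψ ≫ pullback.snd W.hom (l ≫ y) = pullback.snd (pullback.snd P.hom p) (l ≫ y) :=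
      congrArg CommaMorphism.left (lift_snd ((Red.bc p P ◁ σ) ≫ c.act) (snd _ T))
    let t' : Spec L := default
    have ht : l t' = t := Subsingleton.elim _ _
    haveI hflq : Flat q := inferInstance
    have e1 : (pullback.snd q l).finrank t' = q.finrank t := by
      rw [Scheme.Hom.finrank_pullback_snd, ht]
    have e2 : (pullback.snd W.hom (l ≫ y)).finrank t' = (pullback.snd q l).finrank t' := by
      have hsq := (IsPullback.of_hasPullback q l).paste_horiz hQ
      rw [← hsq.isoPullback_hom_snd, Scheme.Hom.finrank_comp_left_of_isIso]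
    have e3 : (pullback.snd W.hom (l ≫ y)).finrank t' =
        P.hom.finrank (default : Spec (CommRingCat.of k)) := by
      haveI : Flat (pullback.snd P.hom p) := MorphismProperty.pullback_snd _ _ inferInstance
      haveI : IsFinite (pullback.snd P.hom p) := MorphismProperty.pullback_snd _ _ inferInstance
      have h4 : (pullback.snd (pullback.snd P.hom p) (l ≫ y)).finrank t' =
          P.hom.finrank (default : Spec (CommRingCat.of k)) := by
        rw [Scheme.Hom.finrank_pullback_snd, Scheme.Hom.finrank_pullback_snd]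
        exact congrArg _ (Subsingleton.elim _ _)
      rw [← h4, ← hψ, Scheme.Hom.finrank_comp_left_of_isIso]
    rw [← e1, ← e2, e3]
  obtain ⟨hfl, hlfp⟩ := FinRankFlat.flat_lfp_of_fibre_finrank W.hom _ key
  refine ⟨hc, Presieve.singleton W.hom, W.hom.singleton_mem_fppfPrecoverage, ?_⟩
  rintro S' f ⟨⟩
  exact ⟨𝟙 _, Category.id_comp _⟩

/-- Let k be a field and X a quasi-compact k-scheme, connected and reduced, having a k-point x; let G,
G₁, G₂ be finite group schemes over k with homomorphisms φ₁ : G₁ → G and φ₂ : G₂ → G, and let T, T₁,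
T₂ be torsors over X (fppf-locally trivial) under the base changes to X of G, G₁, G₂ respectively,
each pointed by a k-point lying over x. Let f₁ : T₁ → T and f₂ : T₂ → T be morphisms of pointed
torsors: X-morphisms which intertwine the actions along φ₁, φ₂ and send the marked points of T₁, T₂
to that of T. Let P be the fibre product group scheme G₁ ×_G G₂ with its projections π₁, π₂. Then
the fibre product T₁ ×_T T₂ carries an action of the base change of P for which both projections to
T₁ and T₂ are equivariant (along π₁, π₂) and which makes it a torsor over X (fppf-locally trivial).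
(The published statement says that such an X has a fundamental group scheme; this row states the
closure of finite pointed torsors under fibre products to which it is reduced.) -/
theorem result
    (k : Type u) [Field k] (X : Scheme.{u}) [X.Over (Spec (CommRingCat.of k))] [ConnectedSpace X]
    [CompactSpace X] [AlgebraicGeometry.IsReduced X]
    (x : Spec (CommRingCat.of k) ⟶ X) (hx : x ≫ (X ↘ Spec (CommRingCat.of k)) = 𝟙 _)
    (G G₁ G₂ : Over (Spec (CommRingCat.of k))) [GrpObj G] [GrpObj G₁] [GrpObj G₂]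
    [IsFinite G.hom] [IsFinite G₁.hom] [IsFinite G₂.hom]
    (φ₁ : G₁ ⟶ G) (φ₂ : G₂ ⟶ G) [IsMonHom φ₁] [IsMonHom φ₂]
    (T T₁ T₂ : Over X)
    (a : AlgGrp.Action (Red.bc (X ↘ Spec (CommRingCat.of k)) G) T)
    (a₁ : AlgGrp.Action (Red.bc (X ↘ Spec (CommRingCat.of k)) G₁) T₁)
    (a₂ : AlgGrp.Action (Red.bc (X ↘ Spec (CommRingCat.of k)) G₂) T₂)
    (hT : NonAbH1.IsTorsorFor Scheme.fppfPrecoverage a)
    (hT₁ : NonAbH1.IsTorsorFor Scheme.fppfPrecoverage a₁)
    (hT₂ : NonAbH1.IsTorsorFor Scheme.fppfPrecoverage a₂)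
    (t : Spec (CommRingCat.of k) ⟶ T.left) (t₁ : Spec (CommRingCat.of k) ⟶ T₁.left)
    (t₂ : Spec (CommRingCat.of k) ⟶ T₂.left)
    (ht : t ≫ T.hom = x) (ht₁ : t₁ ≫ T₁.hom = x) (ht₂ : t₂ ≫ T₂.hom = x)
    (f₁ : T₁ ⟶ T) (f₂ : T₂ ⟶ T)
    (hf₁ : AlgGrp.Action.IsEquivariant a₁ (a.restrict ((Over.pullback (X ↘ Spec (CommRingCat.of k))).map φ₁)) f₁)
    (hf₂ : AlgGrp.Action.IsEquivariant a₂ (a.restrict ((Over.pullback (X ↘ Spec (CommRingCat.of k))).map φ₂)) f₂)
    (hft₁ : t₁ ≫ f₁.left = t) (hft₂ : t₂ ≫ f₂.left = t)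
    (P : Over (Spec (CommRingCat.of k))) [GrpObj P] (π₁ : P ⟶ G₁) (π₂ : P ⟶ G₂) [IsMonHom π₁] [IsMonHom π₂]
    (hP : IsPullback π₁ π₂ φ₁ φ₂) :
    ∃ c : AlgGrp.Action (Red.bc (X ↘ Spec (CommRingCat.of k)) P) (pullback f₁ f₂),
      AlgGrp.Action.IsEquivariant c (a₁.restrict ((Over.pullback (X ↘ Spec (CommRingCat.of k))).map π₁)) (pullback.fst f₁ f₂) ∧
      AlgGrp.Action.IsEquivariant c (a₂.restrict ((Over.pullback (X ↘ Spec (CommRingCat.of k))).map π₂)) (pullback.snd f₁ f₂) ∧
      NonAbH1.IsTorsorFor Scheme.fppfPrecoverage c := by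
  let p := X ↘ Spec (CommRingCat.of k)
  obtain ⟨c, hc₁, hc₂, hpseudo⟩ := exists_action_fibreProd ((Over.pullback p).map φ₁)
    ((Over.pullback p).map φ₂) ((Over.pullback p).map π₁) ((Over.pullback p).map π₂)
    (hP.map (Over.pullback p)) f₁ f₂ hf₁ hf₂
  haveI hne : Nonempty (Over.mk x).left := inferInstanceAs (Nonempty (PrimeSpectrum k))
  haveI hsurj : Surjective (pullback f₁ f₂).hom :=
    PrincFP.surjective_pullback p φ₁ φ₂ hT hT₁ hT₂ hf₁ hf₂
      (K := Over.mk x) (Over.homMk t₁ ht₁) (Over.homMk t₂ ht₂) (Over.OverMorphism.ext (hft₁.trans hft₂.symm))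
  obtain ⟨hT1f, -, -⟩ := PrincFP.torsor_props p hT₁
  obtain ⟨hT2f, -, -⟩ := PrincFP.torsor_props p hT₂
  obtain ⟨hTf, -, -⟩ := PrincFP.torsor_props p hT
  haveI hfinf : IsFinite f₁.left := by
    haveI : IsFinite (f₁.left ≫ T.hom) := by rw [Over.w f₁]; infer_instance
    exact IsFinite.of_comp f₁.left T.hom
  haveI hfinW : IsFinite (pullback f₁ f₂).hom := by
    rw [← Over.w (pullback.snd f₁ f₂)]
    haveI : IsFinite (pullback.snd f₁ f₂).left :=
      MorphismProperty.of_isPullback (P := @IsFinite)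
        ((IsPullback.of_hasPullback f₁ f₂).map (Over.forget X)) ‹IsFinite f₁.left›
    infer_instance
  haveI hfinP : IsFinite P.hom := by
    haveI hfinφ : IsFinite φ₁.left := by
      haveI : IsFinite (φ₁.left ≫ G.hom) := by rw [Over.w φ₁]; infer_instance
      exact IsFinite.of_comp φ₁.left G.hom
    rw [← Over.w π₂]
    haveI : IsFinite π₂.left :=
      MorphismProperty.of_isPullback (P := @IsFinite) (hP.map (Over.forget _)) hfinφ
    infer_instance
  exact ⟨c, hc₁, hc₂, isTorsorFor_of_surjective p P c (hpseudo hT.1 hT₁.1 hT₂.1)⟩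

end Groth.Agent.S18764
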