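import Groth.Statements.S18765
import Groth.Agent.CurveReach27.Basic
import Groth.Agent.VBLib.Slope
import Groth.Agent.RankLocus.Basic
import Groth.Agent.PerfTri.Betti
import Groth.Agent.CycLib.ProjBdl.BundleBC

set_option autoImplicit false
universe u
open CategoryTheory CategoryTheory.Limits AlgebraicGeometry
open VBCurve

namespace Groth.Agent.S18765

open Groth.Agent Groth.Agent.VBLib
open Groth.Agent.Props.QRank (fibreRank)

set_option linter.style.haveILetI false
set_option backward.isDefEq.respectTransparency.types false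

/-- A map of semistable bundles of degree zero has locally free cokernel. -/
theorem isFinLocFree_cokernel_curve {k : Type u} [Field k] {C : Scheme.{u}} [C.Over (Spec (CommRingCat.of k))]
    [IsIntegral C] (hC : GoodCurve k C) {E F : C.Modules} (hE : FlatMod.IsFinLocFree E)
    (hF : FlatMod.IsFinLocFree F) (hEs : SS k E) (hFs : SS k F) (hEd : dg k E = 0) (hFd : dg k F = 0)
    (φ : E ⟶ F) : FlatMod.IsFinLocFree (cokernel φ) := by
  haveI := hC.isLocallyNoetherian
  have hEc := isCoh_of_isFinLocFree hE
  have hI := isFinLocFree_image hC.pid φ hEc hF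
  by_cases h0 : rk (Abelian.image φ) = 0
  · have hz : φ = 0 := eq_zero_of_rk_image φ hI h0
    subst hz
    exact KFlat.LocFree.isFinLocFree_of_iso cokernelZeroIsoTarget.symm hF
  have hIpos := Nat.pos_of_ne_zero h0
  obtain ⟨G, j, i, hji, hj, hi, hG, hQ, hGr, hGd⟩ :=
    hC.exists_saturation (Abelian.image.ι φ) (isCoh_of_isFinLocFree hI) hF
  have hrE : 0 < rk E := by
    have := (hC.dg_kernel_image φ hEc (isCoh_of_isFinLocFree hF)).2
    omega
  have a1 := hC.slope_image φ hE (isCoh_of_isFinLocFree hF) hEs
  rw [hEd, zero_mul] at a1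
  have a1' : 0 ≤ dg k (Abelian.image φ) := nonneg_of_mul_nonneg_left a1 (by exact_mod_cast hrE)
  have hrF : 0 < rk F := by
    have := rk_le_of_mono (Abelian.image.ι φ) (isCoh_of_isFinLocFree hF)
    omega
  have a2 := hFs G i hi hG (by omega)
  rw [hFd, zero_mul] at a2
  have a2' : dg k G ≤ 0 := nonpos_of_mul_nonpos_left a2 (by exact_mod_cast hrF)
  haveI := (hC.dg_le_of_mono j (isCoh_of_isFinLocFree hI) (isCoh_of_isFinLocFree hG) hGr.symm).2 (by omega)
  let e : cokernel φ ≅ cokernel i :=
    cokernelIsoOfEq (show φ = (Abelian.factorThruImage φ ≫ j) ≫ i by rw [Category.assoc, hji, Abelian.image.fac]) ≪≫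
      cokernelEpiComp _ i
  exact KFlat.LocFree.isFinLocFree_of_iso e.symm hQ

/-- Slope semistability in the library's form. -/
theorem ss_of_isSlopeSemistable {k : Type u} [Field k] {C : Scheme.{u}} [C.Over (Spec (CommRingCat.of k))]
    [IsIntegral C] {E : C.Modules} {r : ℕ} (hE : FlatMod.IsFinLocFreeOfRank r E)
    (h : ModFun.IsSlopeSemistable k C E r ∧ Curv2.deg k C E r = 0) : SS k E ∧ dg k E = 0 := by
  refine ⟨fun G i hi hG hpos => ?_, (dg_eq hE).symm.trans h.2⟩
  have := h.1 G (rk G) i hi hpos (ofRank_rk hG)
  rw [dg_eq (ofRank_rk hG), dg_eq hE] at this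
  rwa [rk_eq hE]

/-- Let k be a perfect field and X a finite-type k-scheme, connected and reduced, having a k-point,
which is connected by chains of proper curves: for any two closed points of X there are finitely
many k-morphisms γ_i : C_i → X from smooth, proper, integral curves over k whose images have
connected union containing both points. Let E and F be finite locally free O_X-modules, of ranks r
and r', which are Nori-semistable: the pull-back along every non-constant k-morphism from a smooth
proper integral curve over k is slope-semistable of degree 0 (degree = χ − rank·χ(O)). Then every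
O_X-linear map f : E → F is a morphism of vector bundles, i.e. has constant rank: its cokernel is a
finite locally free O_X-module. (The published definition of connectedness by chains of proper
curves joins any two points by a chain; this row asks it for closed points. Curves of the chains are
taken smooth, which over a perfect field is the same as allowing proper irreducible curves and
passing to normalisations; the further assertion that these bundles form a neutral Tannakian
category is not included.) -/
theorem result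
    (k : Type u) [Field k] [PerfectField k] (X : Scheme.{u}) [X.Over (Spec (CommRingCat.of k))]
    [LocallyOfFiniteType (X ↘ Spec (CommRingCat.of k))] [CompactSpace X]
    [AlgebraicGeometry.IsReduced X] [ConnectedSpace X]
    (x : Spec (CommRingCat.of k) ⟶ X) (hx : x ≫ (X ↘ Spec (CommRingCat.of k)) = 𝟙 _)
    (hchain : ∀ y z : X, IsClosed ({y} : Set X) → IsClosed ({z} : Set X) → ∃ (n : ℕ) (C : Fin n → Scheme.{u}) (γ : ∀ i, C i ⟶ X),
      (∀ i, AlgebraicGeometry.IsIntegral (C i) ∧ IsProper (γ i ≫ (X ↘ Spec (CommRingCat.of k))) ∧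
        Smooth (γ i ≫ (X ↘ Spec (CommRingCat.of k))) ∧ topologicalKrullDim (C i) = 1) ∧
      _root_.IsConnected (⋃ i, Set.range (γ i).base) ∧ y ∈ ⋃ i, Set.range (γ i).base ∧ z ∈ ⋃ i, Set.range (γ i).base)
    (r r' : ℕ) (E F : X.Modules) (hE : FlatMod.IsFinLocFreeOfRank r E) (hF : FlatMod.IsFinLocFreeOfRank r' F)
    (hEss : ∀ (C : Scheme.{u}) [C.Over (Spec (CommRingCat.of k))], AlgebraicGeometry.IsIntegral C →
      IsProper (C ↘ Spec (CommRingCat.of k)) → Smooth (C ↘ Spec (CommRingCat.of k)) → topologicalKrullDim C = 1 →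
      ∀ (γ : C ⟶ X), γ ≫ (X ↘ Spec (CommRingCat.of k)) = C ↘ Spec (CommRingCat.of k) →
      (Set.range γ.base).Nontrivial →
      ModFun.IsSlopeSemistable k C ((Scheme.Modules.pullback γ).obj E) r ∧
        Curv2.deg k C ((Scheme.Modules.pullback γ).obj E) r = 0)
    (hFss : ∀ (C : Scheme.{u}) [C.Over (Spec (CommRingCat.of k))], AlgebraicGeometry.IsIntegral C →
      IsProper (C ↘ Spec (CommRingCat.of k)) → Smooth (C ↘ Spec (CommRingCat.of k)) → topologicalKrullDim C = 1 →
      ∀ (γ : C ⟶ X), γ ≫ (X ↘ Spec (CommRingCat.of k)) = C ↘ Spec (CommRingCat.of k) →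
      (Set.range γ.base).Nontrivial →
      ModFun.IsSlopeSemistable k C ((Scheme.Modules.pullback γ).obj F) r' ∧
        Curv2.deg k C ((Scheme.Modules.pullback γ).obj F) r' = 0)
    (f : E ⟶ F) :
    FlatMod.IsFinLocFree (cokernel f) := by
  haveI : IsLocallyNoetherian X := LocallyOfFiniteType.isLocallyNoetherian (X ↘ Spec (CommRingCat.of k))
  haveI : JacobsonSpace X := LocallyOfFiniteType.jacobsonSpace (X ↘ Spec (CommRingCat.of k))
  have hEc := VBLib.isCoh_of_isFinLocFree (isFinLocFree_of_ofRank hE)
  have hFc := VBLib.isCoh_of_isFinLocFree (isFinLocFree_of_ofRank hF)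
  have hQ := CohDev.isCoh_cokernel f hEc.1 hFc
  let Q := cokernel f
  haveI : Q.IsQuasicoherent := hQ.1
  let h : X → ℕ := fibreRank Q
  have husc : ∀ x, ∀ᶠ y in nhds x, h y ≤ h x := fun x =>
    PerfTri.Betti.eventually_fibreRank_le Q (fun W hW => by
      haveI := hQ.2
      exact QCoh.finite_sections_of_isFiniteType Q hW) x
  -- constant along each curve
  have hcurve : ∀ (C : Scheme.{u}) [C.Over (Spec (CommRingCat.of k))] [AlgebraicGeometry.IsIntegral C],
      IsProper (C ↘ Spec (CommRingCat.of k)) → Smooth (C ↘ Spec (CommRingCat.of k)) → topologicalKrullDim C = 1 →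
      ∀ (γ : C ⟶ X), γ ≫ (X ↘ Spec (CommRingCat.of k)) = C ↘ Spec (CommRingCat.of k) →
      ∀ c : C, h (γ c) = h (γ (genericPoint C)) := by
    intro C _ _ hP hS hd γ hγ c
    by_cases hnt : (Set.range γ.base).Nontrivial
    · haveI := hP
      haveI := hS
      have hC := goodCurve_of_smooth (k := k) (X := C) hd
      have hE' := CycLib.ProjBdl.isFinLocFreeOfRank_pullback γ hE
      have hF' := CycLib.ProjBdl.isFinLocFreeOfRank_pullback γ hF
      obtain ⟨e1, e2⟩ := ss_of_isSlopeSemistable hE' (hEss C inferInstance hP hS hd γ hγ hnt)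
      obtain ⟨f1, f2⟩ := ss_of_isSlopeSemistable hF' (hFss C inferInstance hP hS hd γ hγ hnt)
      have hl := isFinLocFree_cokernel_curve hC (isFinLocFree_of_ofRank hE') (isFinLocFree_of_ofRank hF')
        e1 f1 e2 f2 ((Scheme.Modules.pullback γ).map f)
      have hl' : FlatMod.IsFinLocFree ((Scheme.Modules.pullback γ).obj Q) :=
        KFlat.LocFree.isFinLocFree_of_iso (PreservesCokernel.iso (Scheme.Modules.pullback γ) f).symm hl
      haveI := (VBLib.isCoh_of_isFinLocFree hl').1
      have := (Props.QRank.isLocallyConstant_fibreRank _ hl').apply_eq_of_preconnectedSpace c (genericPoint C)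
      simp only [RankLocus.fibreRank_pullback] at this
      exact this
    · rw [Set.not_nontrivial_iff] at hnt
      exact congrArg h (hnt ⟨c, rfl⟩ ⟨_, rfl⟩)
  -- constant on closed points
  have hclosed : ∀ y z : X, IsClosed ({y} : Set X) → IsClosed ({z} : Set X) → h y = h z := by
    intro y z hy hz
    obtain ⟨n, C, γ, hC, hconn, hyS, hzS⟩ := hchain y z hy hz
    haveI : ∀ i, AlgebraicGeometry.IsIntegral (C i) := fun i => (hC i).1
    let a : Fin n → ℕ := fun i => h (γ i (genericPoint (C i)))
    have hcl : ∀ i, ∀ b ∈ closure (Set.range (γ i)), h b = a i := by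
      intro i b hb
      letI : (C i).Over (Spec (CommRingCat.of k)) := ⟨γ i ≫ (X ↘ Spec (CommRingCat.of k))⟩
      haveI : IsProper ((C i) ↘ Spec (CommRingCat.of k)) := (hC i).2.1
      haveI : Smooth ((C i) ↘ Spec (CommRingCat.of k)) := (hC i).2.2.1
      have hd := (hC i).2.2.2
      have hsp : γ i (genericPoint (C i)) ⤳ b := by
        rw [specializes_iff_mem_closure]
        refine closure_minimal ?_ isClosed_closure hb
        rintro _ ⟨c, rfl⟩
        exact specializes_iff_mem_closure.1 ((genericPoint_specializes c).map (γ i).continuous)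
      obtain ⟨γ', hγ', hη, c, hc⟩ := CurveReach27.exists_reach hd
        (CurveCoh.valuationRing_stalk k (C i) hd) (γ i) (show γ i ≫ (X ↘ Spec (CommRingCat.of k)) = C i ↘ Spec (CommRingCat.of k) from rfl) b hsp
      rw [← hc, hcurve (C i) inferInstance inferInstance hd γ' hγ' c, hη]
    let S : Set X := ⋃ i, Set.range (γ i).base
    have hcont : ContinuousOn h S := by
      intro b hb
      rw [ContinuousWithinAt, nhds_discrete, Filter.tendsto_pure, Filter.eventually_iff_exists_mem]
      refine ⟨S \ ⋃ i ∈ {i | a i ≠ h b}, closure (Set.range (γ i)), ?_, ?_⟩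
      · refine Filter.inter_mem self_mem_nhdsWithin (mem_nhdsWithin_of_mem_nhds ?_)
        refine ((Set.toFinite _).isClosed_biUnion fun i _ => isClosed_closure).isOpen_compl.mem_nhds ?_
        simp only [Set.mem_compl_iff, Set.mem_iUnion, not_exists]
        exact fun i hi hbi => hi (hcl i b hbi).symm
      · rintro c ⟨hc, hc'⟩
        obtain ⟨i, hi⟩ := Set.mem_iUnion.1 hc
        have := hcl i c (subset_closure hi)
        by_contra hne
        exact hc' (Set.mem_biUnion (show i ∈ {i | a i ≠ h b} from fun e => hne (this.trans e)) (subset_closure hi))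
    exact hconn.isPreconnected.constant hcont hyS hzS
  -- constant on all points of a connected Jacobson space
  have hconst : ∀ y z : X, h y = h z := by
    have hup : ∀ n, IsOpen {y | h y ≤ n} := fun n => isOpen_iff_eventually.2 fun y hy =>
      (husc y).mono fun z hz => hz.trans hy
    suffices H : ∀ y, ∃ c, IsClosed ({c} : Set X) ∧ h c = h y by
      intro y z
      obtain ⟨c, hc, e⟩ := H y
      obtain ⟨d, hd, e'⟩ := H z
      exact e.symm.trans ((hclosed c d hc hd).trans e')
    intro y
    have hZ : IsLocallyClosed ({x | h x ≤ h y} ∩ {x | h y ≤ h x}) := by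
      refine ⟨_, _, hup (h y), ?_, rfl⟩
      rcases Nat.eq_zero_or_pos (h y) with h0 | hpos
      · simp [h0]
      · rw [← isOpen_compl_iff, show {x | h y ≤ h x}ᶜ = {x | h x ≤ h y - 1} by ext x; simp; omega]
        exact hup _
    obtain ⟨c, ⟨h1, h2⟩, hc⟩ := nonempty_inter_closedPoints
      (⟨y, le_refl (h y), le_refl (h y)⟩ : Set.Nonempty ({x | h x ≤ h y} ∩ {x | h y ≤ h x})) hZ
    exact ⟨c, hc, le_antisymm h1 h2⟩
  exact Props.QRank.isFinLocFree_of_isReduced Q hQ.2
    ((IsLocallyConstant.iff_exists_open _).2 fun y => ⟨Set.univ, isOpen_univ, trivial, fun z _ => hconst z y⟩)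

end Groth.Agent.S18765
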