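import Groth.Statements.S18768
import Groth.Agent.NodalLib.NodeTensor

set_option autoImplicit false
universe u
open CategoryTheory CategoryTheory.Limits AlgebraicGeometry
open TFNodal

namespace Groth.Agent.S18768

open Groth.Agent.PullStalk.Sky Groth.Agent.PullStalk.Exact TopologicalSpace

/-- Let k be algebraically closed of characteristic zero, X a connected proper curve over k (dimension
one) whose closed points are smooth points or nodes, and π : Y → X its normalization, given here as
a finite morphism from a smooth k-scheme that is an isomorphism over the complement U of the nodes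
with dense preimage of U. Let F be a coherent O_X-module that is torsion free of rank r with type
a(x) at each node x: its stalk is free of rank r at every point that is not a node and isomorphic to
O_x^{a(x)} ⊕ m_x^{r − a(x)} at each node x. Then the unit F → π_*π^*F is a monomorphism, its
cokernel has stalk of length 2r − a(x) at every node x, and zero stalk at every other point (so the
cokernel is a torsion module of total length Σ (2r − a(x)) over the nodes). The published statement
gives only the total length Σ (2r − a(x)) over the nodes; the statement here gives the length at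
each node, which is what the published proof computes. -/
theorem result (k : Type u) [Field k] [IsAlgClosed k] [CharZero k]
    (X : Scheme.{u}) [X.Over (Spec (CommRingCat.of k))] [IsProper (X ↘ Spec (CommRingCat.of k))]
    [ConnectedSpace X] (hdim : topologicalKrullDim X = 1) (hnod : Curv2.AtWorstNodal k X)
    (Y : Scheme.{u}) (π : Y ⟶ X) [IsFinite π] [Smooth (π ≫ (X ↘ Spec (CommRingCat.of k)))]
    (U : X.Opens) (hU : ∀ x : X, x ∈ U ↔ ¬ Curv2.IsNode k X x) (hUiso : IsIso (π ∣_ U))
    (hUd : Dense ((π ⁻¹ᵁ U : Y.Opens) : Set Y))
    (r : ℕ) (F : X.Modules) (hF : Coh.IsCoh F) (a : X → ℕ)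
    (hfree : ∀ x : X, ¬ Curv2.IsNode k X x →
      Nonempty (F.presheaf.stalk x ≃ₗ[X.presheaf.stalk x] (Fin r → X.presheaf.stalk x)))
    (htype : ∀ x : X, Curv2.IsNode k X x → a x ≤ r ∧
      Nonempty (F.presheaf.stalk x ≃ₗ[X.presheaf.stalk x]
        ((Fin (a x) → X.presheaf.stalk x) × (Fin (r - a x) → IsLocalRing.maximalIdeal (X.presheaf.stalk x))))) :
    Mono ((Scheme.Modules.pullbackPushforwardAdjunction π).unit.app F) ∧
    (∀ x : X, Curv2.IsNode k X x →
      Module.length (X.presheaf.stalk x)
        ((cokernel ((Scheme.Modules.pullbackPushforwardAdjunction π).unit.app F)).presheaf.stalk x) = ((2 * r - a x : ℕ) : ℕ∞)) ∧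
    (∀ x : X, ¬ Curv2.IsNode k X x →
      Subsingleton ((cokernel ((Scheme.Modules.pullbackPushforwardAdjunction π).unit.app F)).presheaf.stalk x)) := by
  haveI := hUiso
  let β : F ⟶ (Scheme.Modules.pushforward π).obj ((Scheme.Modules.pullback π).obj F) :=
    (Scheme.Modules.pullbackPushforwardAdjunction π).unit.app F
  have key : ∀ x, (Curv2.IsNode k X x → Function.Injective (stalkLin β x) ∧
      Module.length (X.presheaf.stalk x) (((Scheme.Modules.pushforward π).obj ((Scheme.Modules.pullback π).obj F)).presheaf.stalk x ⧸ LinearMap.range (stalkLin β x)) = ((2 * r - a x : ℕ) : ℕ∞)) ∧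
      (¬ Curv2.IsNode k X x → Function.Bijective (stalkLin β x)) := by
    letI : Y.Over (Spec (CommRingCat.of k)) := ⟨π ≫ (X ↘ (Spec (CommRingCat.of k)))⟩
    haveI : IsProper (Y ↘ Spec (CommRingCat.of k)) :=
      inferInstanceAs (IsProper (π ≫ (X ↘ (Spec (CommRingCat.of k)))))
    haveI := EulerChar.isNoetherian k (X := X)
    haveI := EulerChar.isNoetherian k (X := Y)
    have hY : Pi1.IsNormalScheme Y := fun y => by
      haveI := CurveDVR.isRegularLocalRing_stalk (π ≫ X ↘ Spec (CommRingCat.of k)) y
      haveI := RegLoc.isDomain (Y.presheaf.stalk y)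
      exact ⟨inferInstance, S9829.result (Y.presheaf.stalk y)⟩
    haveI : IsReduced Y := @isReduced_of_isReduced_stalk Y fun y => by
      haveI := (hY y).1
      infer_instance
    have hdimZ : ∀ Z ∈ irreducibleComponents (X : Type u), topologicalKrullDim Z ≤ 1 :=
      fun Z _ => (topologicalKrullDim_subspace_le X Z).trans hdim.le
    haveI := S15926.isReduced_of_atWorstNodal k X hdimZ hnod
    have hg : genericPoints (X : Type u) ⊆ (U : Set X) := fun η hη => (hU η).2 fun hn => by
      obtain ⟨alg, hloc, hflat, hm⟩ := S15924.exists_formalNode k X η hn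
      letI := alg
      haveI : Ring.KrullDimLE 0 (X.presheaf.stalk η) := krullDimLE_of_coheight_le (z := η) (n := 0)
        (le_of_eq (Order.coheight_eq_zero.2 fun w hw =>
          (show η ⤳ w from (FlatMor.GenericPts.closure_mem_irreducibleComponents_iff η).mp hη w hw)))
      refine NodalLib.node_not_principal (K := AlgebraicClosure k) 0 ?_
      rw [← hm, IsLocalRing.isField_iff_maximalIdeal_eq.1 Ring.KrullDimLE.isField_of_isReduced, Ideal.map_bot,
        Ideal.span_singleton_zero]
    have hg' : genericPoints (Y : Type u) ⊆ ((π ⁻¹ᵁ U : Y.Opens) : Set Y) := fun η hη =>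
      FlatMor.GenericPts.mem_of_dense_of_finite NoetherianSpace.finite_irreducibleComponents (π ⁻¹ᵁ U).2 hUd hη
    haveI := hF.1
    have hns : ∀ x, ¬ Curv2.IsNode k X x → Function.Bijective (stalkLin β x) := fun x hx =>
      NodalLib.bijective_unit_of_mem π U ((hU x).2 hx)
    refine fun x => ⟨fun hx => ?_, hns x⟩
    obtain ⟨hi, hl⟩ := NodalLib.node_unit π U hg hg' k hY hdim.le (fun y hy => (hns y hy).1) hx (htype x hx).2.some
    obtain ⟨alg, hloc, hflat, hm⟩ := S15924.exists_formalNode k X x hx
    letI := alg
    haveI := hloc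
    haveI := hflat
    refine ⟨hi, hl.trans ((NodalLib.length_fibre_type (htype x hx).2.some (NodalLib.length_cotangent hm)).trans ?_)⟩
    exact congrArg Nat.cast (show a x + 2 * (r - a x) = 2 * r - a x by have := (htype x hx).1; omega)
  haveI : Mono β := Omega.Stalks.mono_of_stalk fun x =>
    (em (Curv2.IsNode k X x)).elim (fun h => ((key x).1 h).1) fun h => ((key x).2 h).1
  have hS := ShortComplex.ShortExact.mk' (ShortComplex.exact_of_g_is_cokernel
    (ShortComplex.mk β (cokernel.π β) (cokernel.condition β)) (cokernelIsCokernel β)) inferInstance inferInstance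
  refine ⟨inferInstanceAs (Mono β), fun x hx => ?_, fun x hx => ?_⟩
  · obtain ⟨-, hex, hπ⟩ := stalk_exact hS x
    exact (hex.linearEquivOfSurjective hπ).length_eq.symm.trans ((key x).1 hx).2
  · obtain ⟨-, hex, hπ⟩ := stalk_exact hS x
    exact subsingleton_of_forall_eq 0 fun t => by
      obtain ⟨t, rfl⟩ := hπ t
      exact (hex t).2 (((key x).2 hx).2 t)

end Groth.Agent.S18768
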