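import Groth.Statements.S18771
import Groth.Agent.NodalLib.NodeEnlarge

set_option autoImplicit false
universe u
open CategoryTheory CategoryTheory.Limits AlgebraicGeometry
open TFNodal

namespace Groth.Agent.S18771

open Groth.Agent.PullStalk.Sky Groth.Agent.PullStalk.Exact TopologicalSpace

/-- Let k be algebraically closed of characteristic zero, X a connected proper curve over k (dimension
one) whose closed points are smooth points or nodes, and π : Y → X its normalization, given as a
finite morphism from a smooth k-scheme that is an isomorphism over the complement U of the nodes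
with dense preimage of U; let F be a coherent O_X-module, torsion free of rank r with type a(x) at
each node x (stalk free of rank r off the nodes, isomorphic to O_x^{a(x)} ⊕ m_x^{r − a(x)} at a node
x). Then there are a locally free O_X-module G of rank r and a monomorphism j : F → G whose cokernel
has zero stalk off the nodes and, at each node x, stalk annihilated by the maximal ideal m_x and of
length r − a(x) (so G/F is the direct sum over the nodes of k(x)^{r − a(x)}). -/
theorem result (k : Type u) [Field k] [IsAlgClosed k] [CharZero k]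
    (X : Scheme.{u}) [X.Over (Spec (CommRingCat.of k))] [IsProper (X ↘ Spec (CommRingCat.of k))]
    [ConnectedSpace X] (hdim : topologicalKrullDim X = 1) (hnod : Curv2.AtWorstNodal k X)
    (Y : Scheme.{u}) (π : Y ⟶ X) [IsFinite π] [Smooth (π ≫ (X ↘ Spec (CommRingCat.of k)))]
    (U : X.Opens) (hU : ∀ x : X, x ∈ U ↔ ¬ Curv2.IsNode k X x) (hUiso : IsIso (π ∣_ U))
    (hUd : Dense ((π ⁻¹ᵁ U : Y.Opens) : Set Y))
    (r : ℕ) (F : X.Modules) (hF : Coh.IsCoh F) (a : X → ℕ)
    (hfree : ∀ x : X, ¬ Curv2.IsNode k X x →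
      Nonempty (F.presheaf.stalk x ≃ₗ[X.presheaf.stalk x] (Fin r → X.presheaf.stalk x)))
    (htype : ∀ x : X, Curv2.IsNode k X x → a x ≤ r ∧
      Nonempty (F.presheaf.stalk x ≃ₗ[X.presheaf.stalk x]
        ((Fin (a x) → X.presheaf.stalk x) × (Fin (r - a x) → IsLocalRing.maximalIdeal (X.presheaf.stalk x))))) :
    ∃ (G : X.Modules) (j : F ⟶ G), FlatMod.IsFinLocFreeOfRank r G ∧ Mono j ∧
      (∀ x : X, ¬ Curv2.IsNode k X x → Subsingleton ((cokernel j).presheaf.stalk x)) ∧
      (∀ x : X, Curv2.IsNode k X x →
        IsLocalRing.maximalIdeal (X.presheaf.stalk x) • (⊤ : Submodule (X.presheaf.stalk x) ((cokernel j).presheaf.stalk x)) = ⊥ ∧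
        Module.length (X.presheaf.stalk x) ((cokernel j).presheaf.stalk x) = ((r - a x : ℕ) : ℕ∞)) := by
  haveI := hUiso
  letI : Y.Over (Spec (CommRingCat.of k)) := ⟨π ≫ (X ↘ (Spec (CommRingCat.of k)))⟩
  haveI : IsProper (Y ↘ Spec (CommRingCat.of k)) :=
    inferInstanceAs (IsProper (π ≫ (X ↘ (Spec (CommRingCat.of k)))))
  haveI := EulerChar.isNoetherian k (X := X)
  haveI := EulerChar.isNoetherian k (X := Y)
  have hY : Pi1.IsNormalScheme Y := fun y => by
    haveI := CurveDVR.isRegularLocalRing_stalk (π ≫ X ↘ Spec (CommRingCat.of k)) y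
    haveI := RegLoc.isDomain (Y.presheaf.stalk y)
    exact ⟨inferInstance, S9829.result (Y.presheaf.stalk y)⟩
  haveI : IsReduced Y := @isReduced_of_isReduced_stalk Y fun y => by
    haveI := (hY y).1
    infer_instance
  have hdimZ : ∀ Z ∈ irreducibleComponents (X : Type u), topologicalKrullDim Z ≤ 1 :=
    fun Z _ => (topologicalKrullDim_subspace_le X Z).trans hdim.le
  haveI := S15926.isReduced_of_atWorstNodal k X hdimZ hnod
  have hg : genericPoints (X : Type u) ⊆ (U : Set X) := fun η hη => (hU η).2 fun hn => by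
    obtain ⟨alg, hloc, hflat, hm⟩ := S15924.exists_formalNode k X η hn
    letI := alg
    haveI : Ring.KrullDimLE 0 (X.presheaf.stalk η) := krullDimLE_of_coheight_le (z := η) (n := 0)
      (le_of_eq (Order.coheight_eq_zero.2 fun w hw =>
        (show η ⤳ w from (FlatMor.GenericPts.closure_mem_irreducibleComponents_iff η).mp hη w hw)))
    refine NodalLib.node_not_principal (K := AlgebraicClosure k) 0 ?_
    rw [← hm, IsLocalRing.isField_iff_maximalIdeal_eq.1 Ring.KrullDimLE.isField_of_isReduced, Ideal.map_bot,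
      Ideal.span_singleton_zero]
  have hg' : genericPoints (Y : Type u) ⊆ ((π ⁻¹ᵁ U : Y.Opens) : Set Y) := fun η hη =>
    FlatMor.GenericPts.mem_of_dense_of_finite NoetherianSpace.finite_irreducibleComponents (π ⁻¹ᵁ U).2 hUd hη
  have hZ : {x : X | Curv2.IsNode k X x}.Finite :=
    (DimOneAmple.finite_compl_and_dim hdim.le hg).1.subset fun x hx hxU => (hU x).1 hxU hx
  obtain ⟨G, j, hG, hinj, hsurj, hnode⟩ := NodalLib.exists_enlarge hF hZ (fun x hx => hx.1) (fun x hx => by
    obtain ⟨A, hA, hxA, s, c, b, -, -, hns, hsreg, -⟩ :=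
      NodalLib.node_sections π U hg hg' k hY hdim.le hx (Opens.mem_top x)
    exact ⟨X.presheaf.germ A x hxA s, fun hu => hns x hx ((X.mem_basicOpen s x hxA).2 hu), hsreg⟩)
    a (fun x hx => hfree x hx) (fun x hx => htype x hx)
  haveI : Mono j := Omega.Stalks.mono_of_stalk hinj
  have hS := ShortComplex.ShortExact.mk' (ShortComplex.exact_of_g_is_cokernel
    (ShortComplex.mk j (cokernel.π j) (cokernel.condition j)) (cokernelIsCokernel j)) inferInstance inferInstance
  refine ⟨G, j, hG, inferInstance, fun x hx => ?_, fun x hx => ?_⟩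
  · obtain ⟨-, hex, hπ⟩ := stalk_exact hS x
    exact subsingleton_of_forall_eq 0 fun t => by
      obtain ⟨t, rfl⟩ := hπ t
      exact (hex t).2 (hsurj x hx t)
  · obtain ⟨-, hex, hπ⟩ := stalk_exact hS x
    obtain ⟨hk, hlen⟩ := hnode x hx
    let e := hex.linearEquivOfSurjective hπ
    refine ⟨eq_bot_iff.2 (Submodule.smul_le.2 fun c hc q _ => ?_), e.length_eq.symm.trans hlen⟩
    rw [Submodule.mem_bot]
    refine e.symm.injective ?_
    rw [map_smul, map_zero, ← Submodule.mem_bot (X.presheaf.stalk x), ← hk]
    exact Submodule.smul_mem_smul hc Submodule.mem_top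

end Groth.Agent.S18771
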