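import Groth.Statements.S18769
import Groth.Agent.NodalLib.NodePresent
import Groth.Agent.S18771
import Groth.Agent.CycLib.ProjBdl.BundleBC
import Groth.Agent.DirImgAff.Basic

set_option autoImplicit false
universe u
open CategoryTheory CategoryTheory.Limits AlgebraicGeometry
open TFNodal

namespace Groth.Agent.S18769

open Groth.Agent.PullStalk.Sky Groth.Agent.PullStalk.Exact Groth.Agent.NodalLib TopologicalSpace IsLocalRing
open Groth.Agent.Props.SubMod Groth.Agent.Props.SubSheaf

set_option backward.isDefEq.respectTransparency false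
set_option backward.isDefEq.respectTransparency.types false
set_option maxHeartbeats 1000000

/-- Let k be algebraically closed of characteristic zero, X a connected proper curve over k (dimension
one) whose closed points are smooth points or nodes, and π : Y → X its normalization, given as a
finite morphism from a smooth k-scheme that is an isomorphism over the complement U of the nodes
with dense preimage of U; let F be a coherent O_X-module, torsion free of rank r with type a(x) at
each node x (stalk free of rank r off the nodes, isomorphic to O_x^{a(x)} ⊕ m_x^{r − a(x)} at a node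
x). Write D ⊂ Y for the reduced closed subscheme on the preimage of the nodes. Then there are a
locally free O_Y-module E of rank r and a quotient q : π_*(E ⊗ O_D) → Q, with Q having zero stalks
off the nodes and total length r · (number of nodes) over the nodes, such that F is isomorphic to
the kernel of the composite π_*E → π_*(E ⊗ O_D) → Q (existence of such an isomorphism). -/
theorem result (k : Type u) [Field k] [IsAlgClosed k] [CharZero k]
    (X : Scheme.{u}) [X.Over (Spec (CommRingCat.of k))] [IsProper (X ↘ Spec (CommRingCat.of k))]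
    [ConnectedSpace X] (hdim : topologicalKrullDim X = 1) (hnod : Curv2.AtWorstNodal k X)
    (Y : Scheme.{u}) (π : Y ⟶ X) [IsFinite π] [Smooth (π ≫ (X ↘ Spec (CommRingCat.of k)))]
    (U : X.Opens) (hU : ∀ x : X, x ∈ U ↔ ¬ Curv2.IsNode k X x) (hUiso : IsIso (π ∣_ U))
    (hUd : Dense ((π ⁻¹ᵁ U : Y.Opens) : Set Y))
    (r : ℕ) (F : X.Modules) (hF : Coh.IsCoh F) (a : X → ℕ)
    (hfree : ∀ x : X, ¬ Curv2.IsNode k X x →
      Nonempty (F.presheaf.stalk x ≃ₗ[X.presheaf.stalk x] (Fin r → X.presheaf.stalk x)))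
    (htype : ∀ x : X, Curv2.IsNode k X x → a x ≤ r ∧
      Nonempty (F.presheaf.stalk x ≃ₗ[X.presheaf.stalk x]
        ((Fin (a x) → X.presheaf.stalk x) × (Fin (r - a x) → IsLocalRing.maximalIdeal (X.presheaf.stalk x))))) :
    ∃ (E : Y.Modules), FlatMod.IsFinLocFreeOfRank r E ∧
      ∃ (Q : X.Modules) (q : (Scheme.Modules.pushforward π).obj
          (ParSh.resD (Scheme.IdealSheafData.vanishingIdeal
            ⟨closure (π.base ⁻¹' {x : X | Curv2.IsNode k X x}), isClosed_closure⟩) E) ⟶ Q),
        Epi q ∧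
        (∀ x : X, ¬ Curv2.IsNode k X x → Subsingleton (Q.presheaf.stalk x)) ∧
        (∑ᶠ x ∈ {x : X | Curv2.IsNode k X x},
            (Module.length (X.presheaf.stalk x) (Q.presheaf.stalk x)).toNat) = r * Nat.card {x : X // Curv2.IsNode k X x} ∧
        Nonempty (F ≅ kernel ((Scheme.Modules.pushforward π).map
            ((SecTwist.unitorR E).inv ≫ KoszTw.tensorMap (𝟙 E) (ClSub.toSubscheme
              (Scheme.IdealSheafData.vanishingIdeal
                ⟨closure (π.base ⁻¹' {x : X | Curv2.IsNode k X x}), isClosed_closure⟩))) ≫ q)) := by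
  classical
  haveI := hUiso
  letI : Y.Over (Spec (CommRingCat.of k)) := ⟨π ≫ (X ↘ (Spec (CommRingCat.of k)))⟩
  haveI : IsProper (Y ↘ Spec (CommRingCat.of k)) :=
    inferInstanceAs (IsProper (π ≫ (X ↘ (Spec (CommRingCat.of k)))))
  haveI := EulerChar.isNoetherian k (X := X)
  haveI := EulerChar.isNoetherian k (X := Y)
  have hY : Pi1.IsNormalScheme Y := fun y => by
    haveI := CurveDVR.isRegularLocalRing_stalk (π ≫ X ↘ Spec (CommRingCat.of k)) y
    haveI := RegLoc.isDomain (Y.presheaf.stalk y)
    exact ⟨inferInstance, S9829.result (Y.presheaf.stalk y)⟩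
  haveI : IsReduced Y := @isReduced_of_isReduced_stalk Y fun y => by
    haveI := (hY y).1
    infer_instance
  have hdimY : topologicalKrullDim Y ≤ 1 := (AlgSpCov.IntegralDim.topologicalKrullDim_le_of_strictMono π
    (AlgSpCov.IntegralDim.strictMono_of_isIntegralHom π)).trans hdim.le
  have hPID : ∀ y : Y, IsPrincipalIdealRing (Y.presheaf.stalk y) := by
    intro y
    obtain ⟨hd, hic⟩ := hY y
    haveI := hd
    haveI := hic
    haveI : Ring.KrullDimLE 1 (Y.presheaf.stalk y) := Ring.krullDimLE_iff.mpr (by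
      rw [DimIneq.topologicalKrullDim_eq_iSup_stalk] at hdimY
      exact_mod_cast (le_iSup (fun z : Y => ringKrullDim (Y.presheaf.stalk z)) y).trans hdimY)
    have hmax : ∀ P : Ideal (Y.presheaf.stalk y), P ≠ ⊥ → P.IsPrime → P = IsLocalRing.maximalIdeal (Y.presheaf.stalk y) :=
      fun P hP hP' => IsLocalRing.eq_maximalIdeal (Ring.krullDimLE_one_iff_of_noZeroDivisors.mp ‹_› P hP hP')
    have hiff : (IsIntegrallyClosed (Y.presheaf.stalk y) ∧ ∀ P : Ideal (Y.presheaf.stalk y), P ≠ ⊥ → P.IsPrime → P = IsLocalRing.maximalIdeal (Y.presheaf.stalk y)) ↔ IsPrincipalIdealRing (Y.presheaf.stalk y) :=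
      (tfae_of_isNoetherianRing_of_isLocalRing_of_isDomain (R := Y.presheaf.stalk y)).out 3 0
    exact hiff.1 ⟨inferInstance, hmax⟩
  have hdimZ : ∀ Z ∈ irreducibleComponents (X : Type u), topologicalKrullDim Z ≤ 1 :=
    fun Z _ => (topologicalKrullDim_subspace_le X Z).trans hdim.le
  haveI := S15926.isReduced_of_atWorstNodal k X hdimZ hnod
  have hg : genericPoints (X : Type u) ⊆ (U : Set X) := fun η hη => (hU η).2 fun hn => by
    obtain ⟨alg, hloc, hflat, hm⟩ := S15924.exists_formalNode k X η hn
    letI := alg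
    haveI : Ring.KrullDimLE 0 (X.presheaf.stalk η) := krullDimLE_of_coheight_le (z := η) (n := 0)
      (le_of_eq (Order.coheight_eq_zero.2 fun w hw =>
        (show η ⤳ w from (FlatMor.GenericPts.closure_mem_irreducibleComponents_iff η).mp hη w hw)))
    refine NodalLib.node_not_principal (K := AlgebraicClosure k) 0 ?_
    rw [← hm, IsLocalRing.isField_iff_maximalIdeal_eq.1 Ring.KrullDimLE.isField_of_isReduced, Ideal.map_bot,
      Ideal.span_singleton_zero]
  have hg' : genericPoints (Y : Type u) ⊆ ((π ⁻¹ᵁ U : Y.Opens) : Set Y) := fun η hη =>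
    FlatMor.GenericPts.mem_of_dense_of_finite NoetherianSpace.finite_irreducibleComponents (π ⁻¹ᵁ U).2 hUd hη
  have hZ : {x : X | Curv2.IsNode k X x}.Finite :=
    (DimOneAmple.finite_compl_and_dim hdim.le hg).1.subset fun x hx hxU => (hU x).1 hxU hx
  obtain ⟨G, j, hG, hinj, hsurj, hnode⟩ := NodalLib.exists_enlarge hF hZ (fun x hx => hx.1) (fun x hx => by
    obtain ⟨A, hA, hxA, s, c, b, -, -, hns, hsreg, -⟩ :=
      NodalLib.node_sections π U hg hg' k hY hdim.le hx (Opens.mem_top x)
    exact ⟨X.presheaf.germ A x hxA s, fun hu => hns x hx ((X.mem_basicOpen s x hxA).2 hu), hsreg⟩)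
    a (fun x hx => hfree x hx) (fun x hx => htype x hx)
  let P := (Scheme.Modules.pullback π).obj G
  let η : G ⟶ (Scheme.Modules.pushforward π).obj P := (Scheme.Modules.pullbackPushforwardAdjunction π).unit.app G
  have hP : FlatMod.IsFinLocFreeOfRank r P := CycLib.ProjBdl.isFinLocFreeOfRank_pullback π hG
  have hGc : Coh.IsCoh G := VBLib.isCoh_of_isFinLocFree fun x => (hG x).imp fun V h => ⟨r, h.1, h.2⟩
  have hPc : Coh.IsCoh P := VBLib.isCoh_of_isFinLocFree fun x => (hP x).imp fun V h => ⟨r, h.1, h.2⟩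
  haveI : G.IsQuasicoherent := hGc.1
  haveI : P.IsQuasicoherent := hPc.1
  choose ysel hysel using fun x : X => NodalLib.exists_over π U hg x
  let T : Set Y := ysel '' {x | Curv2.IsNode k X x}
  have hTn : ∀ y ∈ T, Curv2.IsNode k X (π y) := by
    rintro _ ⟨x, hx, rfl⟩
    rw [hysel]
    exact hx
  have hTc : ∀ y ∈ T, IsClosed ({y} : Set Y) := fun y hy => isClosed_of_over π (hTn y hy).1
  let θ := fun y => (ev π P y).comp (stalkLin η (π y))
  let S : StalkSub P := fun y => if y ∈ T then
      Submodule.span (Y.presheaf.stalk y) (θ y '' (LinearMap.range (stalkLin j (π y)) : Set (G.presheaf.stalk (π y)))) ⊔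
        maximalIdeal (Y.presheaf.stalk y) • ⊤
    else ⊤
  have hST : ∀ y ∈ T, S y = Submodule.span (Y.presheaf.stalk y) (θ y '' (LinearMap.range (stalkLin j (π y)) : Set (G.presheaf.stalk (π y)))) ⊔
        maximalIdeal (Y.presheaf.stalk y) • ⊤ := fun y hy => if_pos hy
  have hSoff : ∀ y ∉ T, S y = ⊤ := fun y hy => if_neg hy
  have hSm : ∀ y ∈ T, ∀ c ∈ maximalIdeal (Y.presheaf.stalk y), ∀ t : P.presheaf.stalk y, c • t ∈ S y := fun y hy c hc t => by
    rw [hST y hy]
    exact Submodule.mem_sup_right (Submodule.smul_mem_smul hc Submodule.mem_top)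
  have hS : FTOn S ⊤ := ftOn_of_finite hPc S (hZ.image ysel) hTc hSoff hSm
  have hEc : Coh.IsCoh (sub S) := ⟨isQuasicoherent_sub hS, isFiniteType_sub hS⟩
  have hfr : ∀ y, Module.Free (Y.presheaf.stalk y) (P.presheaf.stalk y) ∧
      Module.finrank (Y.presheaf.stalk y) (P.presheaf.stalk y) = r := fun y => by
    obtain ⟨V, hV, ⟨φ⟩⟩ := hP y
    obtain ⟨e, he⟩ := VBLib.exists_isFrame_of_iso φ
    let b := frameBasis P he y hV
    haveI := (hY y).1
    exact ⟨Module.Free.of_basis b, (Module.finrank_eq_card_basis b).trans (Fintype.card_fin r)⟩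
  have hE : FlatMod.IsFinLocFreeOfRank r (sub S) := by
    refine ofRank_of_stalk hEc fun y => ?_
    haveI := (hY y).1
    haveI := hPID y
    haveI := (hfr y).1
    haveI : Module.Finite (Y.presheaf.stalk y) (P.presheaf.stalk y) := HomShQC.finite_stalk P hPc.2 y
    let e := inclEquiv hS y
    suffices h : Module.Free (Y.presheaf.stalk y) (S y) ∧ Module.finrank (Y.presheaf.stalk y) (S y) = r by
      haveI := h.1
      exact ⟨Module.Free.of_equiv e.symm, e.finrank_eq.trans h.2⟩
    by_cases hy : y ∈ T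
    · obtain ⟨A, hA, hxA, s, c, b, -, -, hns, -, hsne, -⟩ :=
        NodalLib.node_sections π U hg hg' k hY hdim.le (hTn y hy) (Opens.mem_top (π y))
      have hnu : ¬ IsUnit (Y.presheaf.germ (π ⁻¹ᵁ A) y hxA (π.app A s)) := fun hu =>
        hns _ (hTn y hy) ((X.mem_basicOpen s _ hxA).2 (germ_app_comp π y rfl hxA s hu))
      obtain ⟨h1, h2⟩ := free_of_smul_mem (S y) (hsne y hxA) fun p => hSm y hy _ hnu p
      exact ⟨h1, h2.trans (hfr y).2⟩
    · rw [hSoff y hy]
      exact ⟨Module.Free.of_equiv Submodule.topEquiv.symm, Submodule.topEquiv.finrank_eq.trans (hfr y).2⟩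
  refine ⟨sub S, hE, ?_⟩
  let jE := (Scheme.Modules.pushforward π).map (incl S)
  haveI : Mono jE := inferInstance
  have hfac : (j ≫ η) ≫ cokernel.π jE = 0 := by
    ext W m
    let e : Γ(P, π ⁻¹ᵁ W) := η.app W (j.app W m)
    obtain ⟨e', he'⟩ := (mem_range_incl S e).2 fun y hy => by
      by_cases hyT : y ∈ T
      · rw [hST y hyT]
        refine Submodule.mem_sup_left (Submodule.subset_span ⟨germM G W (π y) hy (j.app W m), ⟨germM F W (π y) hy m, stalkLin_germ j W (π y) hy m⟩, ?_⟩)
        exact ev_unit_germ π G y hy (j.app W m)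
      · rw [hSoff y hyT]
        trivial
    show (cokernel.π jE).app W (η.app W (j.app W m)) = 0
    have h1 : jE.app W e' = η.app W (j.app W m) := he'
    rw [← h1, ← ConcreteCategory.comp_apply, ← Scheme.Modules.Hom.comp_app, cokernel.condition]
    rfl
  let ι : F ⟶ (Scheme.Modules.pushforward π).obj (sub S) := Abelian.monoLift jE (j ≫ η) hfac
  have hι : ∀ x f, stalkLin jE x (stalkLin ι x f) = stalkLin η x (stalkLin j x f) := fun x f => by
    rw [← LimTop.stalkLin_comp, ← LimTop.stalkLin_comp, Abelian.monoLift_comp]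
  have hηU : ∀ x, ¬ Curv2.IsNode k X x → Function.Bijective (stalkLin η x) := fun x hx =>
    bijective_unit_of_mem π U ((hU x).2 hx)
  have hGbasis : ∀ y, ∃ (b : Module.Basis (Fin r) (X.presheaf.stalk (π y)) (G.presheaf.stalk (π y)))
      (p : Module.Basis (Fin r) (Y.presheaf.stalk y) (P.presheaf.stalk y)), ∀ i, θ y (b i) = p i := fun y => by
    obtain ⟨V, hV, ⟨φ⟩⟩ := hG (π y)
    obtain ⟨e, he⟩ := VBLib.exists_isFrame_of_iso φ
    refine ⟨frameBasis G he (π y) hV, frameBasis P (he.pullback π) y hV, fun i => ?_⟩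
    rw [frameBasis_apply, frameBasis_apply]
    exact ev_unit_germ π G y hV (e i)
  have hηN : ∀ x, Curv2.IsNode k X x → Function.Injective (stalkLin η x) ∧
      Module.length (X.presheaf.stalk x) (((Scheme.Modules.pushforward π).obj P).presheaf.stalk x ⧸
        LinearMap.range (stalkLin η x)) = (r : ℕ∞) := fun x hx => by
    obtain ⟨y, rfl⟩ := NodalLib.exists_over π U hg x
    obtain ⟨b, -, -⟩ := hGbasis y
    haveI : Unique (Fin 0 → maximalIdeal (X.presheaf.stalk (π y))) := Pi.uniqueOfIsEmpty _
    let φ : G.presheaf.stalk (π y) ≃ₗ[X.presheaf.stalk (π y)]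
        (Fin r → X.presheaf.stalk (π y)) × (Fin 0 → maximalIdeal (X.presheaf.stalk (π y))) :=
      b.equivFun.trans LinearEquiv.prodUnique.symm
    obtain ⟨hi, hl⟩ := NodalLib.node_unit π U hg hg' k hY hdim.le (fun z hz => (hηU z hz).1) hx φ
    obtain ⟨alg, hloc, hflat, hm⟩ := S15924.exists_formalNode k X (π y) hx
    letI := alg
    haveI := hloc
    haveI := hflat
    exact ⟨hi, hl.trans ((NodalLib.length_fibre_type φ (NodalLib.length_cotangent hm)).trans (by simp))⟩
  have hηinj : ∀ x, Function.Injective (stalkLin η x) := fun x => by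
    by_cases hx : Curv2.IsNode k X x
    · exact (hηN x hx).1
    · exact (hηU x hx).1
  have hιinj : ∀ x, Function.Injective (stalkLin ι x) := fun x f g h =>
    hinj x (hηinj x (by rw [← hι, ← hι, h]))
  haveI : Mono ι := Omega.Stalks.mono_of_stalk hιinj
  have hjEinj : ∀ x, Function.Injective (stalkLin jE x) := fun x => VBLib.stalkLin_injective jE x
  -- the stalk at a node
  have hlen : ∀ x, Curv2.IsNode k X x →
      Module.length (X.presheaf.stalk x) (((Scheme.Modules.pushforward π).obj (sub S)).presheaf.stalk x ⧸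
        LinearMap.range (stalkLin ι x)) = (r : ℕ∞) := by
    intro x₀ hx₀
    obtain ⟨y, hyT, rfl⟩ : ∃ y ∈ T, π y = x₀ := ⟨ysel x₀, ⟨x₀, hx₀, rfl⟩, hysel x₀⟩
    obtain ⟨b, p, hbp⟩ := hGbasis y
    haveI : IsLocalHom (π.stalkMap y).hom := inferInstance
    have hres := residue_over π (k := k) (X ↘ Spec (CommRingCat.of k)) (hTc y hyT)
    have hmN : maximalIdeal (X.presheaf.stalk (π y)) • (⊤ : Submodule _ (G.presheaf.stalk (π y))) ≤
        LinearMap.range (stalkLin j (π y)) := Submodule.smul_le.2 fun c hc g _ => by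
      rw [← Submodule.Quotient.mk_eq_zero, Submodule.Quotient.mk_smul, ← Submodule.mem_bot (X.presheaf.stalk (π y)), ← (hnode _ hx₀).1]
      exact Submodule.smul_mem_smul hc Submodule.mem_top
    have hL : ∀ t, t ∈ LinearMap.range (stalkLin jE (π y)) ↔ ev π P y t ∈ S y := by
      intro t
      constructor
      · rintro ⟨t', rfl⟩
        rw [ev_natural, ← range_stalkLin_incl hS y]
        exact ⟨_, rfl⟩
      · intro ht
        obtain ⟨W, hW, e, rfl⟩ := exists_germM_eq ((Scheme.Modules.pushforward π).obj P) (π y) t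
        rw [ev_germ] at ht
        let Z' : Set X := {x | Curv2.IsNode k X x} \ {π y}
        have hZ' : IsClosed Z' := by
          rw [← Set.biUnion_of_singleton Z']
          exact (hZ.subset Set.diff_subset).isClosed_biUnion fun z hz => hz.1.1
        let W' : X.Opens := W ⊓ ⟨Z'ᶜ, hZ'.isOpen_compl⟩
        have hW' : π y ∈ W' := ⟨hW, fun h => h.2 rfl⟩
        let e' : Γ(P, π ⁻¹ᵁ W') := QCoh.res P (π.preimage_mono (inf_le_left : W' ≤ W)) e
        obtain ⟨d, hd⟩ := (mem_range_incl S e').2 fun z hz => by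
          by_cases hzT : z ∈ T
          · have hzy : z = y := by
              have h1 : π z = π y := by_contra fun h => hz.2 ⟨hTn z hzT, h⟩
              obtain ⟨x₁, -, rfl⟩ := hzT
              obtain ⟨x₂, -, rfl⟩ := hyT
              rw [hysel, hysel] at h1
              rw [h1]
            subst hzy
            have h2 : germM P (π ⁻¹ᵁ W') z hz e' = germM P (π ⁻¹ᵁ W) z hW e :=
              GGDesc.germM_res_eq P (π.preimage_mono inf_le_left) z hz e
            exact h2.symm ▸ ht
          · rw [hSoff z hzT]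
            trivial
        refine ⟨germM ((Scheme.Modules.pushforward π).obj (sub S)) W' (π y) hW' d, ?_⟩
        rw [stalkLin_germ]
        refine (congrArg (germM ((Scheme.Modules.pushforward π).obj P) W' (π y) hW') hd).trans ?_
        exact GGDesc.germM_res_eq ((Scheme.Modules.pushforward π).obj P) inf_le_left (π y) hW' e
    let Mx := ((Scheme.Modules.pushforward π).obj P).presheaf.stalk (π y)
    let J := LinearMap.range (stalkLin jE (π y))
    let N := LinearMap.range ((stalkLin η (π y)).comp (stalkLin j (π y)))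
    -- the quotient by the modification
    let Ξ : G.presheaf.stalk (π y) →ₗ[X.presheaf.stalk (π y)] Mx ⧸ J := J.mkQ.comp (stalkLin η (π y))
    have hΞker : LinearMap.ker Ξ = LinearMap.range (stalkLin j (π y)) := by
      ext g
      rw [LinearMap.mem_ker, LinearMap.comp_apply, Submodule.mkQ_apply, Submodule.Quotient.mk_eq_zero, hL, hST y hyT]
      constructor
      · exact mem_of_mem_span _ hres (θ y) b p hbp _ hmN
      · rintro ⟨f, rfl⟩
        exact Submodule.mem_sup_left (Submodule.subset_span ⟨_, ⟨f, rfl⟩, rfl⟩)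
    have hΞ : Function.Surjective Ξ := fun q => by
      obtain ⟨t, rfl⟩ := Submodule.Quotient.mk_surjective _ q
      obtain ⟨g, hg⟩ := exists_sub_mem _ hres (θ y) b p hbp (ev π P y t)
      refine ⟨g, ((Submodule.Quotient.eq J).2 ((hL _).2 ?_)).symm⟩
      rw [map_sub, hST y hyT]
      exact Submodule.mem_sup_right hg
    have hb : Module.length (X.presheaf.stalk (π y)) (Mx ⧸ J) = ((r - a (π y) : ℕ) : ℕ∞) := by
      rw [← ((Submodule.quotEquivOfEq _ _ hΞker.symm).trans (LinearMap.quotKerEquivOfSurjective Ξ hΞ)).length_eq]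
      exact (hnode _ hx₀).2
    -- the two ways of computing the colength
    let R := X.presheaf.stalk (π y)
    have hNrange : N ≤ LinearMap.range (stalkLin η (π y)) := by
      rintro _ ⟨f, rfl⟩
      exact ⟨_, rfl⟩
    have e1 : Module.length R (Mx ⧸ N) = ((r - a (π y) : ℕ) : ℕ∞) + (r : ℕ∞) := by
      have hc : LinearMap.range (stalkLin j (π y)) ≤ N.comap (stalkLin η (π y)) := by
        rintro _ ⟨f, rfl⟩
        exact ⟨f, rfl⟩
      have h := Module.length_eq_add_of_exact ((LinearMap.range (stalkLin j (π y))).mapQ N (stalkLin η (π y)) hc)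
        (N.mapQ (LinearMap.range (stalkLin η (π y))) LinearMap.id hNrange) ?_ ?_ ?_
      · rw [h, (hnode _ hx₀).2, (hηN _ hx₀).2]
      · refine (injective_iff_map_eq_zero _).2 fun q hq => ?_
        obtain ⟨g, rfl⟩ := Submodule.Quotient.mk_surjective _ q
        rw [Submodule.mapQ_apply, Submodule.Quotient.mk_eq_zero] at hq
        obtain ⟨f, hf⟩ := hq
        exact (Submodule.Quotient.mk_eq_zero _).2 ⟨f, hηinj _ hf⟩
      · intro q
        obtain ⟨m, rfl⟩ := Submodule.Quotient.mk_surjective _ q
        exact ⟨Submodule.Quotient.mk m, rfl⟩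
      · intro q
        obtain ⟨m, rfl⟩ := Submodule.Quotient.mk_surjective _ q
        rw [Submodule.mapQ_apply, Submodule.Quotient.mk_eq_zero]
        constructor
        · rintro ⟨g, hg⟩
          exact ⟨Submodule.Quotient.mk g, by rw [Submodule.mapQ_apply]; exact congrArg _ hg⟩
        · rintro ⟨q, hq⟩
          obtain ⟨g, rfl⟩ := Submodule.Quotient.mk_surjective _ q
          rw [Submodule.mapQ_apply, Submodule.Quotient.eq] at hq
          obtain ⟨f, hf⟩ := hq
          exact ⟨g - stalkLin j (π y) f, by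
            rw [map_sub, show stalkLin η (π y) (stalkLin j (π y) f) = _ from hf, sub_sub_cancel]; rfl⟩
    have hc' : LinearMap.range (stalkLin ι (π y)) ≤ N.comap (stalkLin jE (π y)) := by
      rintro _ ⟨f, rfl⟩
      exact ⟨f, (hι _ f).symm⟩
    have hNJ : N ≤ J := by
      rintro _ ⟨f, rfl⟩
      exact ⟨_, hι _ f⟩
    have e2 : Module.length R (Mx ⧸ N) =
        Module.length R (((Scheme.Modules.pushforward π).obj (sub S)).presheaf.stalk (π y) ⧸ LinearMap.range (stalkLin ι (π y))) +
          Module.length R (Mx ⧸ J) := by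
      refine Module.length_eq_add_of_exact ((LinearMap.range (stalkLin ι (π y))).mapQ N (stalkLin jE (π y)) hc')
        (N.mapQ J LinearMap.id hNJ) ?_ ?_ ?_
      · refine (injective_iff_map_eq_zero _).2 fun q hq => ?_
        obtain ⟨g, rfl⟩ := Submodule.Quotient.mk_surjective _ q
        rw [Submodule.mapQ_apply, Submodule.Quotient.mk_eq_zero] at hq
        obtain ⟨f, hf⟩ := hq
        exact (Submodule.Quotient.mk_eq_zero _).2 ⟨f, hjEinj _ ((hι _ f).trans hf)⟩
      · intro q
        obtain ⟨m, rfl⟩ := Submodule.Quotient.mk_surjective _ q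
        exact ⟨Submodule.Quotient.mk m, rfl⟩
      · intro q
        obtain ⟨m, rfl⟩ := Submodule.Quotient.mk_surjective _ q
        rw [Submodule.mapQ_apply, Submodule.Quotient.mk_eq_zero]
        constructor
        · rintro ⟨g, hg⟩
          exact ⟨Submodule.Quotient.mk g, by rw [Submodule.mapQ_apply]; exact congrArg _ hg⟩
        · rintro ⟨q, hq⟩
          obtain ⟨g, rfl⟩ := Submodule.Quotient.mk_surjective _ q
          rw [Submodule.mapQ_apply, Submodule.Quotient.eq] at hq
          obtain ⟨f, hf⟩ := hq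
          exact ⟨g - stalkLin ι (π y) f, by
            rw [map_sub, hι, show stalkLin η (π y) (stalkLin j (π y) f) = _ from hf, sub_sub_cancel]; rfl⟩
    rw [e1, hb, add_comm] at e2
    exact (WithTop.add_right_inj (ENat.coe_ne_top _)).1 e2.symm
  -- the restriction to the nodes
  let I := Scheme.IdealSheafData.vanishingIdeal
    ⟨closure (π.base ⁻¹' {x : X | Curv2.IsNode k X x}), isClosed_closure⟩
  let ρ : sub S ⟶ ParSh.resD I (sub S) :=
    (SecTwist.unitorR (sub S)).inv ≫ KoszTw.tensorMap (𝟙 (sub S)) (ClSub.toSubscheme I)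
  haveI : Epi ρ := GPLib.epi_toRes I hE
  haveI : (ParSh.resD I (sub S)).IsQuasicoherent := (GPLib.isCoh_resD I k hE).1
  haveI : (sub S).IsQuasicoherent := hEc.1
  let p := (Scheme.Modules.pushforward π).map ρ
  haveI : Epi p := DirImgAff.epi_pushforward π ρ
  have hmem : ∀ x t, stalkLin p x t = 0 → ∃ f, stalkLin ι x f = t := by
    intro x t ht
    by_cases hx : Curv2.IsNode k X x
    · have h := mem_smul_range_of_ev π U hg hg' k hY hdim.le hG hx (stalkLin jE x t) fun y hy => by
        subst hy
        have hyI : y ∈ I.support := by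
          rw [← SetLike.mem_coe, Scheme.IdealSheafData.coe_support_vanishingIdeal]
          exact subset_closure hx
        have h0 : stalkLin (GPLib.toRes I (sub S)) y (ev π (sub S) y t) = 0 := by
          refine (ev_natural π ρ y t).symm.trans ?_
          rw [show stalkLin ((Scheme.Modules.pushforward π).map ρ) (π y) t = 0 from ht, map_zero]
        have h1 := Submodule.mem_map_of_mem (f := stalkLin (incl S) y) (mem_smul_of_toRes I hyI hE h0)
        rw [Submodule.map_smul''] at h1
        exact (ev_natural π (incl S) y t).symm ▸ Submodule.smul_mono le_rfl le_top h1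
      obtain ⟨g, hg1, hg2⟩ := h
      have hgN : g ∈ LinearMap.range (stalkLin j x) := by
        refine Submodule.smul_le.2 (fun c hc g _ => ?_) hg1
        rw [← Submodule.Quotient.mk_eq_zero, Submodule.Quotient.mk_smul, ← Submodule.mem_bot (X.presheaf.stalk x), ← (hnode x hx).1]
        exact Submodule.smul_mem_smul hc Submodule.mem_top
      obtain ⟨f, rfl⟩ := hgN
      exact ⟨f, hjEinj x ((hι x f).trans hg2)⟩
    · obtain ⟨g, hg⟩ := (hηU x hx).2 (stalkLin jE x t)
      obtain ⟨f, rfl⟩ := hsurj x hx g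
      exact ⟨f, hjEinj x ((hι x f).trans hg)⟩
  have hSι := ShortComplex.ShortExact.mk' (ShortComplex.exact_of_g_is_cokernel
    (ShortComplex.mk ι (cokernel.π ι) (cokernel.condition ι)) (cokernelIsCokernel ι)) inferInstance inferInstance
  have hker : kernel.ι p ≫ cokernel.π ι = 0 := by
    ext W m
    show (kernel.ι p ≫ cokernel.π ι).app W m = 0
    refine HomShQC.sec_ext (cokernel ι) fun x hx => ?_
    refine (stalkLin_germ (kernel.ι p ≫ cokernel.π ι) W x hx m).symm.trans (Eq.trans ?_ (map_zero _).symm)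
    rw [LimTop.stalkLin_comp]
    obtain ⟨f, hf⟩ := hmem x (stalkLin (kernel.ι p) x (germM _ W x hx m)) (by
      rw [← LimTop.stalkLin_comp, stalkLin_germ, kernel.condition]
      exact map_zero _)
    obtain ⟨-, hex, -⟩ := stalk_exact hSι x
    rw [← hf]
    exact (hex _).2 ⟨f, rfl⟩
  let q := Abelian.epiDesc p (cokernel.π ι) hker
  have hpq : p ≫ q = cokernel.π ι := Abelian.comp_epiDesc _ _ _
  haveI : Epi (p ≫ q) := by rw [hpq]; infer_instance
  refine ⟨cokernel ι, q, epi_of_epi p q, fun x hx => ?_, ?_, ?_⟩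
  · obtain ⟨-, hex, hπ⟩ := stalk_exact hSι x
    refine subsingleton_of_forall_eq 0 fun t => ?_
    obtain ⟨t, rfl⟩ := hπ t
    obtain ⟨g, hg⟩ := (hηU x hx).2 (stalkLin jE x t)
    obtain ⟨f, rfl⟩ := hsurj x hx g
    exact (hex t).2 ⟨f, hjEinj x ((hι x f).trans hg)⟩
  · have hterm : ∀ x, Curv2.IsNode k X x →
        (Module.length (X.presheaf.stalk x) ((cokernel ι).presheaf.stalk x)).toNat = r := fun x hx => by
      obtain ⟨-, hex, hπ⟩ := stalk_exact hSι x
      rw [← (hex.linearEquivOfSurjective hπ).length_eq, hlen x hx, ENat.toNat_coe]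
    refine (finsum_mem_congr (s := {x : X | Curv2.IsNode k X x}) rfl (fun x hx => hterm x hx)).trans ?_
    rw [finsum_mem_eq_finite_toFinset_sum _ hZ, Finset.sum_const, smul_eq_mul, mul_comm]
    congr 1
    exact (Nat.card_eq_card_finite_toFinset hZ).symm
  · exact ⟨((Abelian.monoIsKernelOfCokernel (CokernelCofork.ofπ (cokernel.π ι) (cokernel.condition ι))
        (cokernelIsCokernel ι)).conePointUniqueUpToIso (kernelIsKernel (cokernel.π ι))) ≪≫ kernelIsoOfEq hpq.symm⟩

end Groth.Agent.S18769
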