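import Groth.Statements.S18772
import Groth.Agent.S18770

set_option autoImplicit false
universe u
open CategoryTheory CategoryTheory.Limits AlgebraicGeometry
open TFNodal

namespace Groth.Agent.S18772

open Groth.Agent.PullStalk.Sky Groth.Agent.PullStalk.Exact TopologicalSpace

/-- Let k be algebraically closed of characteristic zero, X a connected proper curve over k (dimension
one) whose closed points are smooth points or nodes, and π : Y → X its normalization, given as a
finite morphism from a smooth k-scheme that is an isomorphism over the complement U of the nodes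
with dense preimage of U; let F be a coherent O_X-module, torsion free of rank r with type a(x) at
each node x (stalk free of rank r off the nodes, isomorphic to O_x^{a(x)} ⊕ m_x^{r − a(x)} at a node
x). Let p : π^*F → E₀ be an epimorphism onto a locally free O_Y-module of rank r and β : F → π_*E₀
the composite of the unit with π_*p. Then every monomorphism f : F → π_*E into the direct image of a
locally free O_Y-module E of rank r factors as β followed by π_*λ for exactly one λ : E₀ → E. -/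
theorem result (k : Type u) [Field k] [IsAlgClosed k] [CharZero k]
    (X : Scheme.{u}) [X.Over (Spec (CommRingCat.of k))] [IsProper (X ↘ Spec (CommRingCat.of k))]
    [ConnectedSpace X] (hdim : topologicalKrullDim X = 1) (hnod : Curv2.AtWorstNodal k X)
    (Y : Scheme.{u}) (π : Y ⟶ X) [IsFinite π] [Smooth (π ≫ (X ↘ Spec (CommRingCat.of k)))]
    (U : X.Opens) (hU : ∀ x : X, x ∈ U ↔ ¬ Curv2.IsNode k X x) (hUiso : IsIso (π ∣_ U))
    (hUd : Dense ((π ⁻¹ᵁ U : Y.Opens) : Set Y))
    (r : ℕ) (F : X.Modules) (hF : Coh.IsCoh F) (a : X → ℕ)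
    (hfree : ∀ x : X, ¬ Curv2.IsNode k X x →
      Nonempty (F.presheaf.stalk x ≃ₗ[X.presheaf.stalk x] (Fin r → X.presheaf.stalk x)))
    (htype : ∀ x : X, Curv2.IsNode k X x → a x ≤ r ∧
      Nonempty (F.presheaf.stalk x ≃ₗ[X.presheaf.stalk x]
        ((Fin (a x) → X.presheaf.stalk x) × (Fin (r - a x) → IsLocalRing.maximalIdeal (X.presheaf.stalk x)))))
    (E₀ : Y.Modules) (hE₀ : FlatMod.IsFinLocFreeOfRank r E₀)
    (p : (Scheme.Modules.pullback π).obj F ⟶ E₀) [Epi p]
    (E : Y.Modules) (hE : FlatMod.IsFinLocFreeOfRank r E)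
    (f : F ⟶ (Scheme.Modules.pushforward π).obj E) [Mono f] :
    ∃! lam : E₀ ⟶ E, (Scheme.Modules.pullbackPushforwardAdjunction π).unit.app F ≫
      (Scheme.Modules.pushforward π).map p ≫ (Scheme.Modules.pushforward π).map lam = f := by
  haveI := hUiso
  let adj := Scheme.Modules.pullbackPushforwardAdjunction π
  let P := (Scheme.Modules.pullback π).obj F
  let β : F ⟶ (Scheme.Modules.pushforward π).obj E₀ := adj.unit.app F ≫ (Scheme.Modules.pushforward π).map p
  obtain ⟨hβ, -, -⟩ := S18770.result k X hdim hnod Y π U hU hUiso hUd r F hF a hfree htype E₀ hE₀ p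
  haveI : Mono β := hβ
  haveI : IsReduced Y := @isReduced_of_isReduced_stalk Y fun y => by
    haveI := CurveDVR.isRegularLocalRing_stalk (π ≫ X ↘ Spec (CommRingCat.of k)) y
    haveI := RegLoc.isDomain (Y.presheaf.stalk y)
    infer_instance
  letI : Y.Over (Spec (CommRingCat.of k)) := ⟨π ≫ (X ↘ (Spec (CommRingCat.of k)))⟩
  haveI : IsProper (Y ↘ Spec (CommRingCat.of k)) :=
    inferInstanceAs (IsProper (π ≫ (X ↘ (Spec (CommRingCat.of k)))))
  haveI := EulerChar.isNoetherian k (X := Y)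
  haveI := hF.1
  let f' : P ⟶ E := (adj.homEquiv F E).symm f
  have hP : ∀ (A : X.Opens), IsAffineOpen A → A ≤ U → ∀ e : Γ(P, π ⁻¹ᵁ A), p.app (π ⁻¹ᵁ A) e = 0 → e = 0 := by
    intro A hA hAU e he
    obtain ⟨m, rfl⟩ := (TFCurvLib.bijective_eta π F hA (NodalLib.app_bijective π U hAU)).2 e
    have h1 : β.app A m = 0 := (NodalLib.unit_push_app π p A m).trans he
    rw [QCoh.app_injective_of_mono β A (h1.trans (map_zero _).symm), TFCurvLib.eta_eq]
    exact map_zero _
  have hK : kernel.ι p ≫ f' = 0 := by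
    ext V e
    show (kernel.ι p ≫ f').app V e = 0
    have hU0 : ∀ y ∈ V, y ∈ π ⁻¹ᵁ U → ∃ V' : Y.Opens, y ∈ V' ∧ ∃ h : V' ≤ V, QCoh.res (kernel p) h e = 0 := by
      intro y hy hyU
      let W : X.Opens := U ⊓ ⟨(π '' ((V : Set Y)ᶜ))ᶜ, (π.isClosedMap _ V.2.isClosed_compl).isOpen_compl⟩
      have hWV : π ⁻¹ᵁ W ≤ V := fun z hz => by_contra fun h => hz.2 ⟨z, h, rfl⟩
      have hyW : π y ∈ W := by
        refine ⟨hyU, ?_⟩
        rintro ⟨z, hz, hzx⟩
        have hzU : z ∈ π ⁻¹ᵁ U := by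
          show π z ∈ U
          rw [hzx]; exact hyU
        have h2 : (π ∣_ U) ⟨z, hzU⟩ = (π ∣_ U) ⟨y, hyU⟩ :=
          Subtype.ext ((morphismRestrict_base_coe π U ⟨z, hzU⟩).trans (hzx.trans (morphismRestrict_base_coe π U ⟨y, hyU⟩).symm))
        have h3 := congrArg (inv (π ∣_ U)) h2
        rw [← Scheme.Hom.comp_apply, ← Scheme.Hom.comp_apply, IsIso.hom_inv_id] at h3
        have hzy : z = y := congrArg Subtype.val h3
        exact hz (show z ∈ (V : Set Y) by rw [hzy]; exact hy)
      obtain ⟨A, hA, hyA, hAW⟩ := exists_isAffineOpen_mem_and_subset hyW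
      have hAV : π ⁻¹ᵁ A ≤ V := (π.preimage_mono hAW).trans hWV
      refine ⟨π ⁻¹ᵁ A, hyA, hAV, QCoh.app_injective_of_mono (kernel.ι p) _ ?_⟩
      rw [map_zero]
      refine hP A hA (hAW.trans Set.inter_subset_left) _ ?_
      rw [← ConcreteCategory.comp_apply, ← Scheme.Modules.Hom.comp_app, kernel.condition]
      rfl
    have h1 : ∀ y (hy : y ∈ V), y ∈ π ⁻¹ᵁ U → germM E V y hy ((kernel.ι p ≫ f').app V e) = 0 := by
      intro y hy hyU
      obtain ⟨V', hyV', h, h0⟩ := hU0 y hy hyU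
      rw [← GGDesc.germM_res_eq E h y hyV', ← QCoh.app_res (kernel.ι p ≫ f') h e, h0, map_zero]
      exact map_zero _
    generalize hs : (kernel.ι p ≫ f').app V e = s at h1 ⊢
    have h2 : QCoh.res E (inf_le_left : V ⊓ π ⁻¹ᵁ U ≤ V) s = 0 := HomShQC.sec_ext E fun y hy => by
      rw [GGDesc.germM_res_eq E inf_le_left y hy, h1 y hy.1 hy.2]
      exact (map_zero _).symm
    refine HomShQC.sec_ext E fun y hy => ?_
    obtain ⟨G, hyG, ⟨ψ⟩⟩ := hE y
    obtain ⟨b, hb⟩ := VBLib.exists_isFrame_of_iso ψ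
    let V₁ : Y.Opens := V ⊓ G
    obtain ⟨c, hc⟩ := (hb V₁ inf_le_right).2 (QCoh.res E (inf_le_left : V₁ ≤ V) s)
    let V' : Y.Opens := V₁ ⊓ (V ⊓ π ⁻¹ᵁ U)
    have hV' : V' ≤ V₁ := inf_le_left
    have h2' : QCoh.res E hV' (QCoh.res E (inf_le_left : V₁ ≤ V) s) = 0 := by
      rw [QCoh.res_res, ← QCoh.res_res E (inf_le_left : V ⊓ π ⁻¹ᵁ U ≤ V) (inf_le_right : V' ≤ V ⊓ π ⁻¹ᵁ U), h2, map_zero]
    have h3 : (fun j => QCoh.rres hV' (c j)) = 0 := (hb V' (hV'.trans inf_le_right)).1 (by
      refine (LFFrame.res_comb E b inf_le_right hV' c).symm.trans ?_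
      refine (congrArg (QCoh.res E hV') hc).trans ?_
      rw [h2']
      simp [LFFrame.comb])
    have h4 : c = 0 := funext fun j => NodalLib.zero_of_generic hV' (c j) (congrFun h3 j) fun η hη hηV =>
      ⟨hηV, hηV.1, FlatMor.GenericPts.mem_of_dense_of_finite NoetherianSpace.finite_irreducibleComponents (π ⁻¹ᵁ U).2 hUd hη⟩
    have h5 : QCoh.res E (inf_le_left : V₁ ≤ V) s = 0 := by
      rw [← hc, h4]
      simp [LFFrame.comb]
    rw [← GGDesc.germM_res_eq E (inf_le_left : V₁ ≤ V) y ⟨hy, hyG⟩ s, h5]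
    exact (map_zero _).trans (map_zero _).symm
  have hc := Abelian.epiIsCokernelOfKernel _ (kernelIsKernel p)
  let lam : E₀ ⟶ E := hc.desc (CokernelCofork.ofπ f' hK)
  have hlam : p ≫ lam = f' := hc.fac (CokernelCofork.ofπ f' hK) WalkingParallelPair.one
  have heq : ∀ l : E₀ ⟶ E, adj.unit.app F ≫ (Scheme.Modules.pushforward π).map p ≫ (Scheme.Modules.pushforward π).map l =
      adj.homEquiv F E (p ≫ l) := fun l => by
    rw [adj.homEquiv_unit, Functor.map_comp]
  refine ⟨lam, ?_, fun l hl => ?_⟩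
  · exact (heq lam).trans (by rw [hlam]; exact (adj.homEquiv F E).apply_symm_apply f)
  · rw [← cancel_epi p, hlam]
    exact (adj.homEquiv F E).eq_symm_apply.2 ((heq l).symm.trans hl)

end Groth.Agent.S18772
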