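import Groth.Statements.S18773
import Groth.Agent.DecCurve.Smooth
import Groth.Agent.DecCurve.ParTwisted
-- import your own Groth.Agent.* helpers here

set_option autoImplicit false
universe u
open CategoryTheory CategoryTheory.Limits AlgebraicGeometry
open VBCurve

namespace Groth.Agent.S18773

/-- Let k be algebraically closed of characteristic zero, Y a smooth proper k-scheme of dimension one,
possibly disconnected, L an ample invertible O_Y-module, r a natural number and d an integer, and S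
a family of locally free O_Y-modules of rank r and degree d (degree χ(E) − r·χ(O_Y)). For a module M
write χ for the Euler characteristic, M(n) = M ⊗ L^{⊗n} and α(M) = χ(M(1)) − χ(M) (the multiplicity:
leading coefficient of the Hilbert polynomial). Then S is bounded in the sense that for some n₀,
every E in S and every n ≥ n₀ have H¹(Y, E(n)) = 0 and E(n) globally generated, if and only if there
is a constant C such that for every E in S and every locally free quotient E → Q with α(Q) > 0 one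
has χ(Q)/α(Q) − χ(E)/α(E) ≥ C (the minimal slope of a locally free quotient is at least the slope of
E plus C; slopes deg/α differ from χ/α by the constant χ(O_Y)/deg L). -/
theorem result
    (k : Type u) [Field k] [IsAlgClosed k] [CharZero k]
    (Y : Scheme.{u}) [Y.Over (Spec (CommRingCat.of k))] [IsProper (Y ↘ Spec (CommRingCat.of k))]
    [Smooth (Y ↘ Spec (CommRingCat.of k))] (hdim : topologicalKrullDim Y = 1)
    (L : Y.Modules) (hL : CohB1.IsAmple L)
    (r : ℕ) (d : ℤ) (S : Set Y.Modules)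
    (hS : ∀ E ∈ S, FlatMod.IsFinLocFreeOfRank r E ∧ Curv2.deg k Y E r = d) :
    (∃ n₀ : ℕ, ∀ n : ℕ, n₀ ≤ n → ∀ E ∈ S,
        Subsingleton (Coh.HH Y (CohB1.tensorMod E (CohB1.tensorPow L n)) 1) ∧
        Curv2.IsGloballyGenerated (CohB1.tensorMod E (CohB1.tensorPow L n))) ↔
    (∃ C : ℤ, ∀ E ∈ S, ∀ (Q : Y.Modules) (p : E ⟶ Q), Epi p → FlatMod.IsFinLocFree Q →
        0 < Curv2.euler k Y (CohB1.tensorMod Q L) - Curv2.euler k Y Q →
        (C : ℚ) ≤ (Curv2.euler k Y Q : ℚ) / ((Curv2.euler k Y (CohB1.tensorMod Q L) - Curv2.euler k Y Q : ℤ) : ℚ)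
          - (Curv2.euler k Y E : ℚ) / ((Curv2.euler k Y (CohB1.tensorMod E L) - Curv2.euler k Y E : ℤ) : ℚ)) := by
  haveI := Groth.Agent.EulerChar.isNoetherian k (X := Y)
  let α : ℤ := (r : ℤ) * Curv2.deg k Y L 1
  let e : ℤ := d + r * Curv2.euler k Y (Coh.structureModule Y)
  have hfacts : ∀ E ∈ S, Coh.IsCoh E ∧ DecSh.mult k Y L E = α ∧ Curv2.euler k Y E = e := fun E hE => by
    obtain ⟨hr, hd⟩ := hS E hE
    refine ⟨Groth.Agent.VBLib.isCoh_of_ofRank hr, Groth.Agent.DecCurve.mult_ofRank k hL hdim.le hr, ?_⟩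
    simp only [Curv2.deg] at hd
    simp only [e]
    omega
  constructor
  · rintro ⟨n₀, h⟩
    refine ⟨⌊-(n₀ : ℚ) - (e : ℚ) / (α : ℚ)⌋, fun E hE Q p hp hQ hpos => ?_⟩
    obtain ⟨hEc, hα, he⟩ := hfacts E hE
    have hQc : Coh.IsCoh Q := Groth.Agent.VBLib.isCoh_of_isFinLocFree hQ
    haveI := hp
    have hv : Subsingleton (Coh.HH Y (ShStab.twist Y L Q n₀) 1) :=
      Groth.Agent.BoundSS.subsingleton_right (Groth.Agent.DecCurve.shortExact_twist k hL
        (Groth.Agent.BoundSS.shortExact_epi p) n₀)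
        (Groth.Agent.DecCurve.subsingleton_two k hdim.le _ le_rfl) (h n₀ le_rfl E hE).1
    have h1 := Groth.Agent.DecCurve.h0_eq_euler k hdim.le _ hv
    have h2 := Groth.Agent.DecCurve.euler_twist k hL hdim.le hQc n₀
    have h3 : 0 ≤ Curv2.euler k Y Q + n₀ * DecSh.mult k Y L Q := by omega
    have h3q : (0 : ℚ) ≤ (Curv2.euler k Y Q : ℚ) + n₀ * (DecSh.mult k Y L Q : ℚ) := by exact_mod_cast h3
    show _ ≤ (Curv2.euler k Y Q : ℚ) / ((DecSh.mult k Y L Q : ℤ) : ℚ) -
      (Curv2.euler k Y E : ℚ) / ((DecSh.mult k Y L E : ℤ) : ℚ)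
    have hposq : (0 : ℚ) < (DecSh.mult k Y L Q : ℚ) := by exact_mod_cast hpos
    rw [hα, he]
    refine (Int.floor_le _).trans (sub_le_sub_right ?_ _)
    rw [le_div_iff₀ hposq]
    linarith
  · rintro ⟨C, h⟩
    let D : ℤ := ⌊-((α.natAbs : ℚ) * |(C : ℚ) + (e : ℚ) / (α : ℚ)|)⌋
    have hD : D ≤ 0 := by
      have h0 : (0 : ℚ) ≤ (α.natAbs : ℚ) * |(C : ℚ) + (e : ℚ) / (α : ℚ)| := by positivity
      have : (D : ℚ) ≤ 0 := (Int.floor_le _).trans (by linarith)
      exact_mod_cast this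
    obtain ⟨n₀, hn₀⟩ := Groth.Agent.DecCurve.exists_uniform k hL hdim.le D
    refine ⟨n₀, fun n hn E hE => ?_⟩
    obtain ⟨hEc, hα, he⟩ := hfacts E hE
    suffices hq : Groth.Agent.DecCurve.QuotBound k D E by
      obtain ⟨h1, h2⟩ := hn₀ E hEc hq n hn
      exact ⟨h1, h2.isGloballyGenerated⟩
    refine Groth.Agent.DecCurve.quotBound_of_bundle k hL hdim.le hD fun Q p hp hQ hQc hpos => ?_
    haveI := hp
    have h1 : (C : ℚ) ≤ (Curv2.euler k Y Q : ℚ) / ((DecSh.mult k Y L Q : ℤ) : ℚ) -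
        (Curv2.euler k Y E : ℚ) / ((DecSh.mult k Y L E : ℤ) : ℚ) := h E hE Q p hp hQ hpos
    rw [hα, he] at h1
    have hposq : (0 : ℚ) < (DecSh.mult k Y L Q : ℚ) := by exact_mod_cast hpos
    have hle : DecSh.mult k Y L Q ≤ ((α.natAbs : ℕ) : ℤ) := by
      have := Groth.Agent.DecCurve.mult_epi k hL hdim.le p hEc hQc
      have := Groth.Agent.DecCurve.mult_nonneg k hL hdim.le (Groth.Agent.HilbPolyX.isCoh_of_kernel k p hEc hQc)
      omega
    have hleq : (DecSh.mult k Y L Q : ℚ) ≤ (α.natAbs : ℚ) :=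
      (Int.cast_le.2 hle).trans (le_of_eq (Int.cast_natCast _))
    rw [le_sub_iff_add_le, le_div_iff₀ hposq] at h1
    have h2 : (D : ℚ) ≤ Curv2.euler k Y Q := by
      refine (Int.floor_le _).trans (le_trans ?_ h1)
      nlinarith [neg_abs_le ((C : ℚ) + (e : ℚ) / (α : ℚ)), abs_nonneg ((C : ℚ) + (e : ℚ) / (α : ℚ))]
    exact_mod_cast h2

end Groth.Agent.S18773
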