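import Groth.Statements.S18775
import Groth.Agent.VBLib.IntoCopies
import Groth.Agent.VBLib.RRGeom
import Groth.Agent.CurveCoh.Integral
import Groth.Agent.FBase.BC

set_option autoImplicit false
universe u
open CategoryTheory CategoryTheory.Limits AlgebraicGeometry
open VBCurve

namespace Groth.Agent.S18775

/-- Let k be a finite field and C a smooth proper geometrically integral curve over k (proper, smooth
and geometrically integral over k, of dimension one) of genus one, i.e. dim_k H^1(C, O_C) = 1, with
a k-rational point O (an elliptic curve over k). Let F be a finite locally free O_C-module of rank r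
≥ 1 such that F is semistable in the sense that deg G · rk F ≤ deg F · rk G for every finite locally
free submodule G of F of positive rank (the degree of a rank-n locally free module being χ −
n·χ(O_C)), and let L be an invertible O_C-module with deg L ≥ ⌊μ(F)⌋ + 2, equivalently deg F < (deg
L − 1) · r. Then there are an integer M ≥ 1 and a monomorphism from F into the direct sum of M
copies of L. -/
theorem result (k : Type u) [Field k] [Finite k] (X : Scheme.{u}) [X.Over (Spec (CommRingCat.of k))]
    [IsProper (X ↘ Spec (CommRingCat.of k))] [Smooth (X ↘ Spec (CommRingCat.of k))]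
    [GeometricallyIntegral (X ↘ Spec (CommRingCat.of k))] (hdim : topologicalKrullDim ↥X = 1)
    (hg : Curv2.genus k X = 1) (O : Spec (CommRingCat.of k) ⟶ X) (hO : O ≫ (X ↘ Spec (CommRingCat.of k)) = 𝟙 _)
    (F : X.Modules) (r : ℕ) (hr : 0 < r) (hF : FlatMod.IsFinLocFreeOfRank r F)
    (hFss : (∀ (G : X.Modules) (r' : ℕ) (i : G ⟶ F), Mono i → 0 < r' → FlatMod.IsFinLocFreeOfRank r' G →
      Curv2.deg k X G r' * (r : ℤ) ≤ Curv2.deg k X F r * (r' : ℤ)))
    (L : X.Modules) (hL : PicF.IsInvertible L)
    (hdeg : Curv2.deg k X F r < (Curv2.deg k X L 1 - 1) * (r : ℤ)) :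
    ∃ (M : ℕ), 0 < M ∧ ∃ (j : F ⟶ ∐ fun _ : Fin M => L), Mono j := by
  haveI : GeometricallyConnected (X ↘ Spec (CommRingCat.of k)) :=
    FBase.BC.geometricallyConnected_of_geometricallyIrreducible _
  haveI : IsIntegral X := CurveCoh.isIntegral_of_smooth k X
  have hX := VBLib.goodCurve_of_smooth (k := k) hdim
  haveI : GeometricallyReduced (X ↘ Spec (CommRingCat.of k)) := inferInstance
  refine hX.exists_mono_copies (VBLib.bijective_toGlobal_of_geometrically k X) hg
    (VBLib.isFinLocFree_of_ofRank hF) (VBLib.ss_of hF hFss) (by rw [VBLib.rk_eq hF]; exact hr) hL ?_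
  rw [VBLib.rk_eq hF, ← VBLib.dg_eq hF, ← VBLib.dg_eq (VBLib.ofRank_one_of_invertible hL)]
  exact hdeg

end Groth.Agent.S18775
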