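import Groth.Statements.S18776
import Groth.Agent.VBLib.IntoCopies
import Groth.Agent.CurveCoh.Integral
import Groth.Agent.FBase.BC
import Groth.Agent.FFCurve.RatPoint
import Groth.Agent.FFCurve.Pic
import Groth.Agent.VBLib.HomOne
import Groth.Agent.VBLib.SplitOne
import Groth.Agent.VBLib.H0Bound
import Groth.Agent.VBLib.RRGeom

set_option autoImplicit false
universe u
open CategoryTheory CategoryTheory.Limits AlgebraicGeometry
open VBCurve

set_option linter.style.haveILetI false
namespace Groth.Agent.S18776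

open Groth.Agent.VBLib Groth.Agent.PullStalk.Exact Groth.Agent.PullStalk.Sky

lemma stalkLin_sum {X : Scheme.{u}} {M N : X.Modules} {ι : Type} (S : Finset ι) (f : ι → (M ⟶ N)) (x : X)
    (t : M.presheaf.stalk x) (h : ∀ i ∈ S, stalkLin (f i) x t = 0) : stalkLin (∑ i ∈ S, f i) x t = 0 := by
  classical
  induction S using Finset.induction with
  | empty =>
    obtain ⟨U, hx, m, rfl⟩ := exists_germM_eq M x t
    rw [Finset.sum_empty, stalkLin_germ]
    exact map_zero (N.presheaf.germ U x hx).hom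
  | insert a S ha ih =>
    rw [Finset.sum_insert ha, GenusZero.stalkLin_add_apply, h a (Finset.mem_insert_self _ _),
      ih fun i hi => h i (Finset.mem_insert_of_mem hi), add_zero]

/-- Subsheaves of `F ⊗ F'` have slope at most `μ(F) + m` when `F'` lies in copies of a line bundle of degree `m`. -/
lemma slope_tensor_le {k : Type u} [Field k] {X : Scheme.{u}} [X.Over (Spec (CommRingCat.of k))] [IsIntegral X]
    (hX : GoodCurve k X) {F F' L : X.Modules} (hF : FlatMod.IsFinLocFree F) (hFss : SS k F) (hFr : 0 < rk F)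
    (hL : PicF.IsInvertible L) {M : ℕ} (j : F' ⟶ ∐ fun _ : Fin M => L) [Mono j]
    {G : X.Modules} (hG : FlatMod.IsFinLocFree G) (hGr : 0 < rk G) (g : G ⟶ CohB1.tensorMod F F') [Mono g] :
    dg k G * (rk F : ℤ) ≤ (rk G : ℤ) * (dg k F + rk F * dg k L) := by
  classical
  haveI := hX.isLocallyNoetherian
  obtain ⟨G₁, i₁, hi₁, hG₁, hG₁r, hmax⟩ := hX.exists_max_slope hG hGr
  have hG₁ss : SS k G₁ := fun A a ha hA hAr => by
    haveI := hi₁
    haveI := ha
    have := (hmax A (a ≫ i₁) inferInstance hA hAr).1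
    linarith
  by_contra hlt
  push Not at hlt
  have hFc := isCoh_of_isFinLocFree hF
  obtain ⟨hD, hDr⟩ := DualDeg.isFinLocFree_dual hX.pid hF
  have hDc := isCoh_of_isFinLocFree hD
  haveI := hX.isIso_bidual hF
  obtain ⟨e⟩ := SerreGen.nonempty_iso (RefHull.dual F) F' hD
  obtain ⟨e'⟩ := SerreGen.nonempty_iso (RefHull.dual F) L hD
  obtain ⟨hT, hTr, hTd⟩ := hX.dg_tensor_line hF hL
  let a : CohB1.tensorMod F F' ≅ RefHull.homSh (RefHull.dual F) F' :=
    ProjTwist.tensCongr (asIso (RefHull.bidualMap F)) (Iso.refl F') ≪≫ e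
  let a' : CohB1.tensorMod F L ≅ RefHull.homSh (RefHull.dual F) L :=
    ProjTwist.tensCongr (asIso (RefHull.bidualMap F)) (Iso.refl L) ≪≫ e'
  let π : Fin M → ((∐ fun _ : Fin M => L) ⟶ L) := fun b => Sigma.desc fun c => if c = b then 𝟙 L else 0
  let g₁ := i₁ ≫ g ≫ a.hom
  haveI := hi₁
  haveI : Mono g₁ := inferInstance
  have hz : ∀ b, g₁ ≫ HomOne.postMap (RefHull.dual F) (j ≫ π b) = 0 := fun b => by
    rw [← cancel_mono a'.inv, zero_comp]
    refine hX.hom_eq_zero hG₁ hT hG₁ss (fun A i hi hA hAr => ?_) _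
    have hb := (hX.ss_tensor hF hL).1 hFss A i hi hA hAr
    rw [hTr, hTd] at hb
    have hmG := (hmax G (𝟙 G) inferInstance hG hGr).1
    by_contra hle
    push Not at hle
    have p1 : (0 : ℤ) < rk A := by exact_mod_cast hAr
    have p2 : (0 : ℤ) ≤ rk F := Int.natCast_nonneg _
    have p3 : (0 : ℤ) < rk G₁ := by exact_mod_cast hG₁r
    have p4 : (0 : ℤ) ≤ rk G := Int.natCast_nonneg _
    have h1 := mul_le_mul_of_nonneg_right hle p2
    have h2 := mul_le_mul_of_nonneg_right hb p3.le
    have h3 : dg k G₁ * (rk F : ℤ) ≤ (dg k F + rk F * dg k L) * rk G₁ :=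
      le_of_mul_le_mul_right (by linarith) p1
    have h4 := mul_le_mul_of_nonneg_right hmG p2
    have h5 := mul_le_mul_of_nonneg_right h3 p4
    have h6 := mul_lt_mul_of_pos_right hlt p3
    linarith
  have h0 : g₁ = 0 := Omega.Stalks.hom_ext_stalk fun y => LinearMap.ext fun v => by
    have hfp := HomShQC.isFP_of_isCoh (RefHull.dual F) hDc
    rw [Omega.Stalks.stalkLin_zero]
    apply (HomShQC.evalStalk_bijective (RefHull.dual F) F' hfp y).1
    rw [map_zero]
    refine LinearMap.ext fun w => stalkLin_injective j y ?_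
    rw [LinearMap.zero_apply, map_zero]
    have htot : (∑ b, π b ≫ Sigma.ι (fun _ : Fin M => L) b) = 𝟙 _ := by
      refine Sigma.hom_ext _ _ fun c => ?_
      simp [π, Preadditive.comp_sum, Finset.sum_ite_eq, ite_comp]
    have hid : ∀ z, stalkLin (𝟙 (∐ fun _ : Fin M => L)) y z = z := fun z => by
      obtain ⟨U, hy, m, rfl⟩ := exists_germM_eq _ y z
      rw [stalkLin_germ]
      rfl
    rw [← hid (stalkLin j y _), ← htot]
    refine stalkLin_sum _ _ _ _ fun b _ => ?_
    rw [Omega.Stalks.stalkLin_comp, ← Omega.Stalks.stalkLin_comp j]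
    have h1 := congrArg (fun t => RefHull.evalStalk (RefHull.dual F) L y (stalkLin t y v)) (hz b)
    simp only [Omega.Stalks.stalkLin_comp, Omega.Stalks.stalkLin_zero, map_zero, HomOne.evalStalk_postMap] at h1
    have h2 := LinearMap.congr_fun h1 w
    rw [LinearMap.comp_apply, LinearMap.zero_apply] at h2
    rw [h2, map_zero]
  have := rk_eq_zero_of_isZero (IsZero.of_mono_eq_zero g₁ h0)
  omega


/-- Let k be a finite field and C a smooth proper geometrically integral curve over k (proper, smooth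
and geometrically integral over k, of dimension one) of genus one, i.e. dim_k H^1(C, O_C) = 1, with
a k-rational point O (an elliptic curve over k). Let F and F' be finite locally free O_C-modules of
ranks r ≥ 1 and s ≥ 1 such that F is semistable in the sense that deg G · rk F ≤ deg F · rk G for
every finite locally free submodule G of F of positive rank (the degree of a rank-n locally free
module being χ − n·χ(O_C)), and likewise for F'. Then for every finite locally free submodule G of F
⊗ F' of rank t ≥ 1 one has μ(G) − μ(F) − μ(F') ≤ 4, that is deg G · r · s ≤ t · (4 r s + deg F · s +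
deg F' · r). (The published statement takes F and F' arbitrary; that form fails for F the direct sum
of invertible modules of degrees 5 and −5 and F' = O_C, so both are taken semistable here, as the
published argument requires.) -/
theorem result (k : Type u) [Field k] [Finite k] (X : Scheme.{u}) [X.Over (Spec (CommRingCat.of k))]
    [IsProper (X ↘ Spec (CommRingCat.of k))] [Smooth (X ↘ Spec (CommRingCat.of k))]
    [GeometricallyIntegral (X ↘ Spec (CommRingCat.of k))] (hdim : topologicalKrullDim ↥X = 1)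
    (hg : Curv2.genus k X = 1) (O : Spec (CommRingCat.of k) ⟶ X) (hO : O ≫ (X ↘ Spec (CommRingCat.of k)) = 𝟙 _)
    (F F' : X.Modules) (r s : ℕ) (hr : 0 < r) (hs : 0 < s)
    (hF : FlatMod.IsFinLocFreeOfRank r F) (hF' : FlatMod.IsFinLocFreeOfRank s F')
    (hFss : (∀ (G : X.Modules) (r' : ℕ) (i : G ⟶ F), Mono i → 0 < r' → FlatMod.IsFinLocFreeOfRank r' G →
      Curv2.deg k X G r' * (r : ℤ) ≤ Curv2.deg k X F r * (r' : ℤ)))
    (hF'ss : (∀ (G : X.Modules) (r' : ℕ) (i : G ⟶ F'), Mono i → 0 < r' → FlatMod.IsFinLocFreeOfRank r' G →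
      Curv2.deg k X G r' * (s : ℤ) ≤ Curv2.deg k X F' s * (r' : ℤ)))
    (G : X.Modules) (t : ℕ) (ht : 0 < t) (hG : FlatMod.IsFinLocFreeOfRank t G)
    (i : G ⟶ CohB1.tensorMod F F') [Mono i] :
    Curv2.deg k X G t * (r : ℤ) * (s : ℤ) ≤
      (t : ℤ) * (4 * (r : ℤ) * (s : ℤ) + Curv2.deg k X F r * (s : ℤ) + Curv2.deg k X F' s * (r : ℤ)) := by
  haveI : GeometricallyConnected (X ↘ Spec (CommRingCat.of k)) :=
    FBase.BC.geometricallyConnected_of_geometricallyIrreducible _
  haveI : IsIntegral X := CurveCoh.isIntegral_of_smooth k X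
  haveI := FFCurve.regCurve_of_smooth k (X := X) hdim
  have hX := VBLib.goodCurve_of_smooth (k := k) hdim
  haveI : GeometricallyReduced (X ↘ Spec (CommRingCat.of k)) := inferInstance
  have hb := VBLib.bijective_toGlobal_of_geometrically k X
  obtain ⟨x, hxd, -⟩ := FFCurve.exists_place_of_point hdim O hO
  have hK := FFCurve.isFunctionField_of_place_deg_one (FFCurve.isFF (X := X) k hdim) hxd
  let m : ℤ := VBLib.dg k F' / (s : ℤ) + 2
  obtain ⟨L, hL, a, ha, hD⟩ := FFCurve.exists_divOf_eq k hdim (Finsupp.single (FFCurve.toPlace k hdim x) m)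
  have hLd : VBLib.dg k L = m := by
    rw [← VBLib.dg_eq (VBLib.ofRank_one_of_invertible hL), FFCurve.deg_eq k hdim hK hL, hD, FF.deg_sub,
      FF.deg_div hK.1, sub_zero, FF.deg_single, hxd]
    push_cast
    ring
  have hs' : (0 : ℤ) < (s : ℤ) := by exact_mod_cast hs
  have hdm := Int.mul_ediv_add_emod (VBLib.dg k F') (s : ℤ)
  have hm0 := Int.emod_nonneg (VBLib.dg k F') hs'.ne'
  have hm1 := Int.emod_lt_of_pos (VBLib.dg k F') hs'
  obtain ⟨M, -, j, hj⟩ := hX.exists_mono_copies hb hg (VBLib.isFinLocFree_of_ofRank hF')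
    (VBLib.ss_of hF' hF'ss) (by rw [VBLib.rk_eq hF']; exact hs) hL (by
      rw [hLd, VBLib.rk_eq hF']
      simp only [m]
      linarith)
  haveI := hj
  have h := slope_tensor_le hX (VBLib.isFinLocFree_of_ofRank hF) (VBLib.ss_of hF hFss)
    (by rw [VBLib.rk_eq hF]; exact hr) hL j (VBLib.isFinLocFree_of_ofRank hG) (by rw [VBLib.rk_eq hG]; exact ht) i
  rw [hLd, VBLib.rk_eq hF, VBLib.rk_eq hG] at h
  rw [VBLib.dg_eq hG, VBLib.dg_eq hF, VBLib.dg_eq hF']
  have h' := mul_le_mul_of_nonneg_right h hs'.le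
  have h2 : (s : ℤ) * m ≤ VBLib.dg k F' + 4 * s := by simp only [m]; linarith
  have h3 := mul_le_mul_of_nonneg_left h2 (mul_nonneg (Int.natCast_nonneg t) (Int.natCast_nonneg r))
  linarith

end Groth.Agent.S18776
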