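import Groth.Statements.S18782
import Groth.Agent.AutCount27.Descent
import Groth.Agent.KSMod.KrullSchmidt
import Groth.Agent.VBLib.RR

set_option autoImplicit false
universe u
open CategoryTheory CategoryTheory.Limits AlgebraicGeometry
open VBCurve

namespace Groth.Agent.S18782

open Groth.Agent

/-- A retraction into an indecomposable object from a nonzero one is an isomorphism. -/
theorem nonempty_iso_of_retract {X : Scheme.{u}} {G G' : X.Modules} (hG : ¬ IsZero G)
    (hG' : KSMod.Indec G') (b : G ⟶ G') (b' : G' ⟶ G) (h : b ≫ b' = 𝟙 G) : Nonempty (G ≅ G') := by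
  rcases hG'.idem (b' ≫ b) (by rw [Category.assoc, reassoc_of% h]) with h0 | h1
  · refine absurd ((IsZero.iff_id_eq_zero G).2 ?_) hG
    have := congrArg (fun t => b ≫ t ≫ b') h0
    simpa [reassoc_of% h, h] using this
  · exact ⟨⟨b, b', h, h1⟩⟩

/-- Let k be a finite field and C a smooth proper geometrically integral curve over k (proper, smooth
and geometrically integral over k, of dimension one) of genus one, i.e. dim_k H^1(C, O_C) = 1, with
a k-rational point O (an elliptic curve over k); finiteness of k matters. Let G and G' be finite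
locally free O_C-modules of rank 2 such that G is indecomposable (nonzero, no isomorphism with a
direct sum of two nonzero modules) but not geometrically indecomposable (its pull-back to C_K splits
into two nonzero summands for some field extension K of k, taken in the universe of k), and likewise
G'. Let k₂ be a degree-2 field extension of k and π : C_{k₂} → C the projection. Then G ≅ G' if and
only if π^*G ≅ π^*G'. (The published setting takes k of characteristic at least 5; the argument does
not use this and the row allows every finite field.) -/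
theorem result (k : Type u) [Field k] [Finite k] (X : Scheme.{u}) [X.Over (Spec (CommRingCat.of k))]
    [IsProper (X ↘ Spec (CommRingCat.of k))] [Smooth (X ↘ Spec (CommRingCat.of k))]
    [GeometricallyIntegral (X ↘ Spec (CommRingCat.of k))] (hdim : topologicalKrullDim ↥X = 1)
    (hg : Curv2.genus k X = 1) (O : Spec (CommRingCat.of k) ⟶ X) (hO : O ≫ (X ↘ Spec (CommRingCat.of k)) = 𝟙 _)
    (G G' : X.Modules) (hG : FlatMod.IsFinLocFreeOfRank 2 G) (hG' : FlatMod.IsFinLocFreeOfRank 2 G')
    (hGi : (¬ IsZero G ∧ ∀ (E₁ E₂ : X.Modules), Nonempty (G ≅ E₁ ⊞ E₂) → IsZero E₁ ∨ IsZero E₂)) (hGng : (∃ (K : Type u) (_ : Field K) (_ : Algebra k K) (E₁ E₂ : (Curv2.bc k X K).Modules),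
      ¬ IsZero E₁ ∧ ¬ IsZero E₂ ∧ Nonempty ((Scheme.Modules.pullback (Curv2.bcFst k X K)).obj G ≅ E₁ ⊞ E₂)))
    (hG'i : (¬ IsZero G' ∧ ∀ (E₁ E₂ : X.Modules), Nonempty (G' ≅ E₁ ⊞ E₂) → IsZero E₁ ∨ IsZero E₂)) (hG'ng : (∃ (K : Type u) (_ : Field K) (_ : Algebra k K) (E₁ E₂ : (Curv2.bc k X K).Modules),
      ¬ IsZero E₁ ∧ ¬ IsZero E₂ ∧ Nonempty ((Scheme.Modules.pullback (Curv2.bcFst k X K)).obj G' ≅ E₁ ⊞ E₂)))
    (k₂ : Type u) [Field k₂] [Algebra k k₂] (hk₂ : Module.finrank k k₂ = 2) :
    Nonempty (G ≅ G') ↔ Nonempty ((Scheme.Modules.pullback (Curv2.bcFst k X k₂)).obj G ≅ (Scheme.Modules.pullback (Curv2.bcFst k X k₂)).obj G') := by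
  refine ⟨fun ⟨e⟩ => ⟨(Scheme.Modules.pullback (Curv2.bcFst k X k₂)).mapIso e⟩, fun ⟨e⟩ => ?_⟩
  obtain ⟨b, b', h⟩ := AutCount27.exists_retract k k₂ (VBLib.isCoh_of_ofRank hG) (VBLib.isCoh_of_ofRank hG')
    hGi e.hom e.inv e.hom_inv_id
  exact nonempty_iso_of_retract hGi.1 hG'i b b' h

end Groth.Agent.S18782
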