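import Groth.Statements.S18786
import Groth.Agent.AutCount27.SelfExt
import Groth.Agent.VBLib.SplitOne
import Groth.Agent.VBLib.Simple
import Groth.Agent.VBLib.LineCalc
import Groth.Agent.ShStabLib.BC.HomBC
import Groth.Agent.KSMod.EndFinite
import Groth.Agent.KSMod.Isotypic
import Groth.Agent.CycLib.ProjBdl.BundleBC
import Groth.Agent.S4642
import Mathlib.RingTheory.LittleWedderburn

set_option autoImplicit false
universe u
open CategoryTheory CategoryTheory.Limits AlgebraicGeometry
open VBCurve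

namespace Groth.Agent.S18786

open Groth.Agent Groth.Agent.VBLib

set_option linter.style.haveILetI false
set_option backward.isDefEq.respectTransparency.types false

section Cat

variable {C : Type*} [Category C] [Preadditive C] [HasBinaryBiproducts C]

/-- A commutative endomorphism ring of a sum forbids maps between the summands. -/
theorem hom_eq_zero_of_comm {A B : C} (hc : ∀ x y : A ⊞ B ⟶ A ⊞ B, x ≫ y = y ≫ x) (f : A ⟶ B) :
    f = 0 := by
  have h := congrArg (fun t => biprod.inl ≫ t ≫ biprod.snd)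
    (hc (biprod.fst ≫ biprod.inl) (biprod.fst ≫ f ≫ biprod.inr))
  simpa using h

variable {K : Type*} [Field K] [Linear K C]

/-- Endomorphisms of a sum of two simple objects without maps between them. -/
theorem finrank_end_biprod {A B : C} (hA : ∀ φ : A ⟶ A, ∃ c : K, φ = c • 𝟙 A)
    (hB : ∀ φ : B ⟶ B, ∃ c : K, φ = c • 𝟙 B) (hA0 : 𝟙 A ≠ (0 : A ⟶ A)) (hB0 : 𝟙 B ≠ (0 : B ⟶ B))
    (h₁ : ∀ f : A ⟶ B, f = 0) (h₂ : ∀ f : B ⟶ A, f = 0) :
    Module.finrank K (A ⊞ B ⟶ A ⊞ B) = 2 := by
  let Φ : (K × K) →ₗ[K] (A ⊞ B ⟶ A ⊞ B) :=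
    (LinearMap.toSpanSingleton K _ (biprod.fst ≫ biprod.inl)).coprod
      (LinearMap.toSpanSingleton K _ (biprod.snd ≫ biprod.inr))
  have hΦ : ∀ x : K × K, Φ x = x.1 • (biprod.fst ≫ biprod.inl) + x.2 • (biprod.snd ≫ biprod.inr) :=
    fun x => rfl
  have hbij : Function.Bijective Φ := by
    refine ⟨(injective_iff_map_eq_zero Φ).2 fun x hx => ?_, fun φ => ?_⟩
    · rw [hΦ] at hx
      have h1 := congrArg (fun t => biprod.inl ≫ t ≫ biprod.fst) hx
      have h2 := congrArg (fun t => biprod.inr ≫ t ≫ biprod.snd) hx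
      simp [hA0, hB0] at h1 h2
      exact Prod.ext h1 h2
    · obtain ⟨a, ha⟩ := hA (biprod.inl ≫ φ ≫ biprod.fst)
      obtain ⟨b, hb⟩ := hB (biprod.inr ≫ φ ≫ biprod.snd)
      refine ⟨(a, b), ?_⟩
      rw [hΦ]
      refine biprod.hom_ext' _ _ (biprod.hom_ext _ _ ?_ ?_) (biprod.hom_ext _ _ ?_ ?_)
      · simp [ha]
      · simp [h₁]
      · simp [h₂]
      · simp [hb]
  rw [← (LinearEquiv.ofBijective Φ hbij).finrank_eq, Module.finrank_prod, Module.finrank_self]

end Cat

section Ab

/-- The sequence of a decomposition. -/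
theorem exists_shortExact {C : Type*} [Category C] [Abelian C] {E A B : C} (e : E ≅ A ⊞ B) :
    ∃ h, (ShortComplex.mk (biprod.inl ≫ e.inv) (e.hom ≫ biprod.snd) h).ShortExact :=
  ⟨by simp, ShortComplex.Splitting.shortExact
    { r := e.hom ≫ biprod.fst
      s := biprod.inr ≫ e.inv
      f_r := by simp
      s_g := by simp
      id := by
        simp only [Category.assoc]
        rw [← Preadditive.comp_add, ← Category.assoc biprod.fst, ← Category.assoc biprod.snd,
          ← Preadditive.add_comp, biprod.total, Category.id_comp, e.hom_inv_id] }⟩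

end Ab

section Geom

variable {k : Type u} [Field k] {X : Scheme.{u}} [X.Over (Spec (CommRingCat.of k))]
  [IsProper (X ↘ Spec (CommRingCat.of k))] [Smooth (X ↘ Spec (CommRingCat.of k))]
  [GeometricallyIntegral (X ↘ Spec (CommRingCat.of k))] [IsIntegral X]

variable (k) in
include k in
set_option maxHeartbeats 800000 in
/-- Summands of a rank two bundle on a curve. -/
theorem invertible_summands (hdim : topologicalKrullDim X = 1) {E E₁ E₂ : X.Modules}
    (hE : FlatMod.IsFinLocFreeOfRank 2 E) (e : E ≅ E₁ ⊞ E₂) (h1 : ¬ IsZero E₁) (h2 : ¬ IsZero E₂) :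
    PicF.IsInvertible E₁ ∧ PicF.IsInvertible E₂ := by
  have hX := goodCurve_of_smooth (k := k) (X := X) hdim
  haveI := hX.isLocallyNoetherian
  have hEl := isFinLocFree_of_ofRank hE
  have hEc := isCoh_of_isFinLocFree hEl
  let i₁ : E₁ ⟶ E := biprod.inl ≫ e.inv
  let p₂ : E ⟶ E₂ := e.hom ≫ biprod.snd
  let i₂ : E₂ ⟶ E := biprod.inr ≫ e.inv
  let p₁ : E ⟶ E₁ := e.hom ≫ biprod.fst
  haveI : Mono i₁ := mono_comp _ _
  haveI : Mono i₂ := mono_comp _ _
  have hl₁ := KSMod.isFinLocFree_of_retract i₁ p₁ (by simp [i₁, p₁]) hEl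
  have hl₂ := KSMod.isFinLocFree_of_retract i₂ p₂ (by simp [i₂, p₂]) hEl
  obtain ⟨h0, hS⟩ := exists_shortExact e
  have hr := rk_add hS (show Coh.IsCoh (ShortComplex.mk (biprod.inl ≫ e.inv) (e.hom ≫ biprod.snd) h0).X₂ from hEc)
  dsimp only at hr
  rw [rk_eq hE] at hr
  have h₁ : rk E₁ ≠ 0 := fun h => h1 (isZero_of_rk_eq_zero hl₁ h)
  have h₂ : rk E₂ ≠ 0 := fun h => h2 (isZero_of_rk_eq_zero hl₂ h)
  exact ⟨LineCalc.isInvertible_of_rk_one hl₁ (by omega), LineCalc.isInvertible_of_rk_one hl₂ (by omega)⟩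

end Geom

/-- Let k be a finite field and C a smooth proper geometrically integral curve over k (proper, smooth
and geometrically integral over k, of dimension one) of genus one, i.e. dim_k H^1(C, O_C) = 1, with
a k-rational point O (an elliptic curve over k); k is finite with q elements. Let G be a finite
locally free O_C-module of rank 2 and degree 0 (the degree of a rank-n locally free module being χ −
n·χ(O_C)) which is indecomposable (nonzero, no isomorphism with a direct sum of two nonzero modules)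
but not geometrically indecomposable (its pull-back to C_K splits into two nonzero summands for some
field extension K of k, taken in the universe of k), and put E = O_C ⊕ G. Then Aut(E) has exactly (q
− 1)(q² − 1) elements. (The accompanying bound on the number of isomorphism classes of such E is not
restated.) (The published setting takes k of characteristic at least 5; the argument does not use
this and the row allows every finite field.) -/
theorem result (k : Type u) [Field k] [Finite k] (X : Scheme.{u}) [X.Over (Spec (CommRingCat.of k))]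
    [IsProper (X ↘ Spec (CommRingCat.of k))] [Smooth (X ↘ Spec (CommRingCat.of k))]
    [GeometricallyIntegral (X ↘ Spec (CommRingCat.of k))] (hdim : topologicalKrullDim ↥X = 1)
    (hg : Curv2.genus k X = 1) (O : Spec (CommRingCat.of k) ⟶ X) (hO : O ≫ (X ↘ Spec (CommRingCat.of k)) = 𝟙 _)
    (G : X.Modules) (hG : FlatMod.IsFinLocFreeOfRank 2 G) (hdeg : Curv2.deg k X G 2 = 0)
    (hGi : (¬ IsZero G ∧ ∀ (E₁ E₂ : X.Modules), Nonempty (G ≅ E₁ ⊞ E₂) → IsZero E₁ ∨ IsZero E₂)) (hGng : (∃ (K : Type u) (_ : Field K) (_ : Algebra k K) (E₁ E₂ : (Curv2.bc k X K).Modules),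
      ¬ IsZero E₁ ∧ ¬ IsZero E₂ ∧ Nonempty ((Scheme.Modules.pullback (Curv2.bcFst k X K)).obj G ≅ E₁ ⊞ E₂))) :
    Nat.card (Aut (Coh.structureModule X ⊞ G)) = (Nat.card k - 1) * (Nat.card k ^ 2 - 1) := by
  haveI : GeometricallyConnected (X ↘ Spec (CommRingCat.of k)) :=
    FBase.BC.geometricallyConnected_of_geometricallyIrreducible _
  haveI : IsIntegral X := CurveCoh.isIntegral_of_smooth k X
  have hX := goodCurve_of_smooth (k := k) (X := X) hdim
  haveI := hX.isLocallyNoetherian
  have hh := bijective_toGlobal_of_geometrically k X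
  obtain ⟨-, hind⟩ := hGi
  have hGl := isFinLocFree_of_ofRank hG
  have hGc := isCoh_of_isFinLocFree hGl
  have hGr : rk G = 2 := rk_eq hG
  have hGd : dg k G = 0 := (dg_eq hG).symm.trans hdeg
  have hss : SS k G := hX.ss_of_indecomposable hh hg hGl (by omega) hind
  obtain ⟨K, _, _, E₁, E₂, hE₁, hE₂, ⟨e⟩⟩ := hGng
  let P := Scheme.Modules.pullback (Curv2.bcFst k X K)
  haveI : Module.Finite k (G ⟶ G) := by
    letI := KSMod.endAlgebra k (X ↘ Spec (CommRingCat.of k)) G
    haveI : Finite (End G) := @Module.finite_of_finite k (End G) _ _ Algebra.toModule _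
      (KSMod.finite_end k (X ↘ Spec (CommRingCat.of k)) G hGc)
    haveI : Finite (G ⟶ G) := ‹Finite (End G)›
    exact Module.Finite.of_finite
  let b := Module.finBasis k (G ⟶ G)
  obtain ⟨bK, hbK⟩ := ShStabLib.BC.exists_basis_pullHom k K G G hGc hGc b
  by_cases hst : Stable k G
  swap
  · exfalso
    simp only [Stable, not_forall, not_lt] at hst
    obtain ⟨N, g, hg', hN, hNpos, hNlt, hNd⟩ := hst
    obtain ⟨M, j, i, -, hj, hi, hM, hQ, hMr, hMd⟩ := hX.exists_saturation g (isCoh_of_isFinLocFree hN) hGl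
    have hMc := isCoh_of_isFinLocFree hM
    obtain ⟨hd, hr⟩ := hX.dg_mono_cokernel i hMc hGc
    have hM1 : rk M = 1 := by omega
    have hN1 : rk N = 1 := by omega
    have h3 := hss M i hi hM (by omega)
    rw [hM1, hGr, hGd] at h3
    rw [hN1, hGr, hGd] at hNd
    push_cast at h3 hNd
    have hQd : dg k (cokernel i) = dg k M := by omega
    have hQr : rk (cokernel i) = 1 := by omega
    let S := ShortComplex.mk i (cokernel.π i) (cokernel.condition i)
    have hS : S.ShortExact := { exact := S.exact_of_g_is_cokernel (cokernelIsCokernel i) }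
    have hnz : ∀ {W : X.Modules}, rk W = 1 → ¬ IsZero W := fun h1 hz => by
      have := rk_eq_zero_of_isZero hz
      omega
    have hsplit : ¬ IsSplitEpi S.g := fun h => by
      rcases hind M (cokernel i) (nonempty_iso_biprod hS) with hz | hz
      · exact hnz hM1 hz
      · exact hnz hQr hz
    obtain ⟨φ, hφ⟩ : ∃ φ : M ⟶ cokernel i, φ ≠ 0 := by
      by_contra hz
      push Not at hz
      exact hsplit (hX.isSplitEpi_one hh hg hS hM hQ hz)
    haveI := (hX.line_hom hM hQ hM1 hQr φ hφ).2.2 (by omega)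
    let a : cokernel i ⟶ M := inv φ
    have hMi := LineCalc.isInvertible_of_rk_one hM hM1
    have H : AutCount27.SelfExtData (k := k) i (cokernel.π i ≫ a) := by
      refine ⟨by simp, fun f => ?_, fun h => hnz hM1 ((IsZero.iff_id_eq_zero M).2 h), fun g hg => ?_,
        fun s hs => ?_, fun f hf => ?_, fun f hf => ?_, hi, epi_comp _ _⟩
      · obtain ⟨c, hc⟩ := (AutCount27.scalHom_bijective (k := k) hMi).2 f
        exact ⟨c, hc.symm⟩
      · exact hsplit (ShortComplex.Splitting.ofExactOfRetraction S hS.exact g hg hS.epi_g).isSplitEpi_g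
      · exact hsplit ⟨⟨a ≫ s, by
          rw [← cancel_mono a, Category.assoc, Category.assoc]
          change a ≫ s ≫ cokernel.π i ≫ a = _
          rw [hs, Category.comp_id, Category.id_comp]⟩⟩
      · have hf' : f ≫ cokernel.π i = 0 := by
          rw [← cancel_mono a, Category.assoc, hf, zero_comp]
        exact ⟨hS.exact.lift f hf', hS.exact.lift_f f hf'⟩
      · exact ⟨φ ≫ cokernel.desc i f hf, by simp [a]⟩
    let ε : G ⟶ G := (cokernel.π i ≫ a) ≫ i
    let ε' : P.obj G ⟶ P.obj G := ShStabLib.BC.pullHom k K G G ε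
    have hεε : ε' ≫ ε' = 0 := by
      change ShStabLib.BC.pullHom k K G G ε ≫ ShStabLib.BC.pullHom k K G G ε = 0
      rw [← ShStabLib.BC.pullHom_comp]
      simp [ε]
    have hli : LinearIndependent k ![𝟙 G, ε] := by
      rw [LinearIndependent.pair_iff]
      intro d e' he
      exact H.mid_inj (d' := 0) (e' := 0) (by simpa only [zero_smul, add_zero] using he)
    have hsp : ⊤ ≤ Submodule.span k (Set.range ![𝟙 G, ε]) := fun φ _ => by
      obtain ⟨d, e', rfl⟩ := H.end_mid φ
      exact add_mem (Submodule.smul_mem _ _ (Submodule.subset_span ⟨0, rfl⟩))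
        (Submodule.smul_mem _ _ (Submodule.subset_span ⟨1, rfl⟩))
    obtain ⟨cK, hcK⟩ := ShStabLib.BC.exists_basis_pullHom k K G G hGc hGc (Module.Basis.mk hli hsp)
    have hc0 : cK 0 = 𝟙 (P.obj G) := by
      rw [hcK, Module.Basis.mk_apply]
      exact (ShStabLib.BC.pullHom_apply k K _).trans (P.map_id G)
    have hc1 : cK 1 = ε' := by
      rw [hcK, Module.Basis.mk_apply]
      rfl
    let π : P.obj G ⟶ P.obj G := e.hom ≫ biprod.fst ≫ biprod.inl ≫ e.inv
    have hπ : π ≫ π = π := by simp [π]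
    obtain ⟨x, y, hxy⟩ : ∃ x y : K, π = x • 𝟙 (P.obj G) + y • ε' :=
      ⟨_, _, ((cK.sum_repr π).symm.trans (Fin.sum_univ_two _)).trans (by rw [hc0, hc1])⟩
    have hπ2 : π ≫ π = (x * x) • 𝟙 (P.obj G) + (2 * (x * y)) • ε' := by
      rw [hxy]
      simp only [Preadditive.comp_add, Preadditive.add_comp, Linear.smul_comp, Linear.comp_smul,
        Category.id_comp, Category.comp_id, hεε, smul_zero, smul_smul, add_zero]
      module
    have hind' : ∀ u v : K, u • 𝟙 (P.obj G) + v • ε' = 0 → u = 0 ∧ v = 0 := fun u v huv => by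
      have hh' := cK.linearIndependent
      rw [Fintype.linearIndependent_iff] at hh'
      have := hh' ![u, v] (by simpa [Fin.sum_univ_two, hc0, hc1] using huv)
      exact ⟨this 0, this 1⟩
    obtain ⟨hx, hy⟩ := hind' (x * x - x) (2 * (x * y) - y) (by
      rw [sub_smul, sub_smul, ← sub_eq_zero.2 (hπ.trans hxy), hπ2]
      abel)
    have hx01 : x = 0 ∨ x = 1 := by
      rcases mul_eq_zero.1 (show x * (x - 1) = 0 by rw [mul_sub, mul_one]; exact hx) with h | h
      · exact Or.inl h
      · exact Or.inr (sub_eq_zero.1 h)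
    have hy0 : y = 0 := by
      rcases hx01 with rfl | rfl
      · linear_combination -hy
      · linear_combination hy
    rw [hy0, zero_smul, add_zero] at hxy
    rcases hx01 with rfl | rfl
    · refine hE₁ ((IsZero.iff_id_eq_zero _).2 ?_)
      have h := congrArg (fun t => biprod.inl ≫ e.inv ≫ t ≫ e.hom ≫ biprod.fst) hxy
      simpa [π, P] using h
    · refine hE₂ ((IsZero.iff_id_eq_zero _).2 ?_)
      have h := congrArg (fun t => biprod.inr ≫ e.inv ≫ t ≫ e.hom ≫ biprod.snd) hxy
      simpa [π, P] using h.symm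
  -- the stable case
  let O' := Coh.structureModule X
  have hOi : PicF.IsInvertible O' := PicLoc.isInvertible_structureModule X
  have hO1 := ofRank_one_of_invertible hOi
  have hOl := isFinLocFree_of_ofRank hO1
  have hOr : rk O' = 1 := rk_eq hO1
  have hOd : dg k O' = 0 := (dg_eq hO1).symm.trans AutCount27.deg_structure
  have hOst : Stable k O' := fun W w hw hW hpos hlt => by omega
  have hOss := hX.ss_of_stable hOl hOst
  have hne : ∀ {A B : X.Modules} (f : A ⟶ B), IsIso f → Coh.IsCoh A → Coh.IsCoh B → rk A = rk B :=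
    fun f hf hA hB => haveI := hf; (hX.dg_iso (asIso f) hA hB).2
  have h₁ : ∀ f : O' ⟶ G, f = 0 := fun f => by
    by_contra hf
    have := hne f (hX.isIso_of_stable hOl hGl hOss hss (Or.inl ⟨hOst, hst⟩) (by simp [hOd, hGd]) f hf)
      (isCoh_of_isFinLocFree hOl) hGc
    omega
  have h₂ : ∀ f : G ⟶ O', f = 0 := fun f => by
    by_contra hf
    have := hne f (hX.isIso_of_stable hGl hOl hss hOss (Or.inl ⟨hst, hOst⟩) (by simp [hOd, hGd]) f hf)
      hGc (isCoh_of_isFinLocFree hOl)
    omega
  have hunit : ∀ a : End G, IsUnit a ∨ a = 0 := fun a => by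
    by_cases ha : a = 0
    · exact Or.inr ha
    · exact Or.inl ((isUnit_iff_isIso a).2
        (hX.isIso_of_stable hGl hGl hss hss (Or.inr ⟨Or.inl hst, rfl⟩) rfl a ha))
  haveI : Finite (G ⟶ G) := Module.finite_of_finite k
  haveI : Finite (End G) := ‹Finite (G ⟶ G)›
  haveI : Nontrivial (End G) := nontrivial_of_ne 1 0 fun h => by
    have := rk_eq_zero_of_isZero ((IsZero.iff_id_eq_zero G).2 h)
    omega
  letI : DivisionRing (End G) := DivisionRing.ofIsUnitOrEqZero hunit
  have hcomm : ∀ f g : End G, f * g = g * f := (littleWedderburn (End G)).mul_comm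
  -- pass to `K`
  letI : (Curv2.bc k X K).Over (Spec (CommRingCat.of K)) := ⟨Curv2.bcSnd k X K⟩
  haveI : IsProper ((Curv2.bc k X K) ↘ Spec (CommRingCat.of K)) :=
    (inferInstance : IsProper (pullback.snd (X ↘ Spec (CommRingCat.of k))
      (Spec.map (CommRingCat.ofHom (algebraMap k K)))))
  haveI : Smooth ((Curv2.bc k X K) ↘ Spec (CommRingCat.of K)) :=
    (inferInstance : Smooth (pullback.snd (X ↘ Spec (CommRingCat.of k))
      (Spec.map (CommRingCat.ofHom (algebraMap k K)))))
  haveI : GeometricallyIntegral ((Curv2.bc k X K) ↘ Spec (CommRingCat.of K)) :=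
    (inferInstance : GeometricallyIntegral (pullback.snd (X ↘ Spec (CommRingCat.of k))
      (Spec.map (CommRingCat.ofHom (algebraMap k K)))))
  haveI : IsIntegral (Curv2.bc k X K) := inferInstance
  have hdK : topologicalKrullDim (Curv2.bc k X K) = 1 :=
    (S4642.result (K := K) (X ↘ Spec (CommRingCat.of k))).trans hdim
  have hPG : FlatMod.IsFinLocFreeOfRank 2 (P.obj G) :=
    CycLib.ProjBdl.isFinLocFreeOfRank_pullback _ hG
  obtain ⟨hi₁, hi₂⟩ := invertible_summands K hdK hPG e hE₁ hE₂
  have hPc : ∀ x y : P.obj G ⟶ P.obj G, x ≫ y = y ≫ x := by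
    have h0 : ∀ i j, bK i ≫ bK j = bK j ≫ bK i := fun i j => by
      rw [hbK, hbK, ← ShStabLib.BC.pullHom_comp, ← ShStabLib.BC.pullHom_comp]
      exact congrArg _ (hcomm (End.of (b j)) (End.of (b i)))
    have h1 : ∀ (x : P.obj G ⟶ P.obj G) i, x ≫ bK i = bK i ≫ x := fun x i =>
      LinearMap.congr_fun (bK.ext (f₁ := Linear.rightComp K _ (bK i)) (f₂ := Linear.leftComp K _ (bK i))
        fun j => h0 j i) x
    exact fun x y => LinearMap.congr_fun (bK.ext (f₁ := Linear.rightComp K _ y) (f₂ := Linear.leftComp K _ y)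
      fun j => (h1 y j).symm) x
  have hEc : ∀ x y : E₁ ⊞ E₂ ⟶ E₁ ⊞ E₂, x ≫ y = y ≫ x := fun x y => by
    have := hPc (e.hom ≫ x ≫ e.inv) (e.hom ≫ y ≫ e.inv)
    rw [← cancel_epi e.hom, ← cancel_mono e.inv]
    simpa using this
  have hEc' : ∀ x y : E₂ ⊞ E₁ ⟶ E₂ ⊞ E₁, x ≫ y = y ≫ x := fun x y => by
    let s := biprod.braiding E₁ E₂
    have := hEc (s.hom ≫ x ≫ s.inv) (s.hom ≫ y ≫ s.inv)
    rw [← cancel_epi s.hom, ← cancel_mono s.inv]
    simpa using this
  have hm : Module.finrank k (G ⟶ G) = 2 := by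
    have h2 : Module.finrank K (E₁ ⊞ E₂ ⟶ E₁ ⊞ E₂) = 2 := finrank_end_biprod
      (fun φ => (AutCount27.scalHom_bijective (k := K) hi₁).2 φ |>.imp fun c hc => hc.symm)
      (fun φ => (AutCount27.scalHom_bijective (k := K) hi₂).2 φ |>.imp fun c hc => hc.symm)
      (fun h => hE₁ ((IsZero.iff_id_eq_zero _).2 h)) (fun h => hE₂ ((IsZero.iff_id_eq_zero _).2 h))
      (hom_eq_zero_of_comm hEc) (hom_eq_zero_of_comm hEc')
    rw [← (Linear.homCongr K e e).finrank_eq, Module.finrank_eq_card_basis bK, Fintype.card_fin] at h2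
    exact h2
  have hcard : Nat.card (End G) = Nat.card k ^ 2 := by
    rw [← hm]
    exact Module.natCard_eq_pow_finrank (K := k) (V := (G ⟶ G))
  rw [AutCount27.card_aut, AutCount27.card_units_congr (AutCount27.endProd h₁ h₂),
    AutCount27.card_units_prod, ← AutCount27.card_units_congr (AutCount27.endLine (k := k) hOi),
    Nat.card_units, Nat.card_units, hcard]

end Groth.Agent.S18786
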