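import Groth.Statements.S18781
import Groth.Agent.S18786
import Groth.Agent.S18782
import Groth.Agent.VBLib.RankTwoOne
import Groth.Agent.AutCount27.Descent
import Groth.Agent.AutCount27.FinLocal

set_option autoImplicit false
universe u
open CategoryTheory CategoryTheory.Limits AlgebraicGeometry
open VBCurve

namespace Groth.Agent.S18781

open Groth.Agent Groth.Agent.VBLib
open scoped Polynomial

set_option linter.style.haveILetI false
set_option backward.isDefEq.respectTransparency.types false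

section Cat

variable {C : Type*} [Category C] [Preadditive C] {K : Type*} [Field K] [Linear K C]

theorem eq_zero_of_sq {A B : C} (hA : ∀ φ : A ⟶ A, ∃ c : K, φ = c • 𝟙 A) (hA0 : 𝟙 A ≠ (0 : A ⟶ A))
    (ψ : A ≅ B) (h : A ⟶ B) (hh : h ≫ ψ.inv ≫ h = 0) : h = 0 := by
  obtain ⟨c, hc⟩ := hA (h ≫ ψ.inv)
  have h' : h = c • ψ.hom := by
    rw [← Category.comp_id h, ← ψ.inv_hom_id, ← Category.assoc, hc, Linear.smul_comp, Category.id_comp]
  have h2 : (c * c) • 𝟙 A = 0 := by
    rw [← smul_smul, ← cancel_mono ψ.hom, zero_comp]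
    simpa [h', smul_smul] using hh
  rw [h', mul_self_eq_zero.1 ((smul_eq_zero.1 h2).resolve_right hA0), zero_smul]

variable [HasBinaryBiproducts C]

/-- The quadratic equation of an endomorphism of a sum of two simple objects. -/
theorem quadratic {A B : C} (hA : ∀ φ : A ⟶ A, ∃ c : K, φ = c • 𝟙 A)
    (hB : ∀ φ : B ⟶ B, ∃ c : K, φ = c • 𝟙 B) (hAB : ∀ (f : A ⟶ B) (g : B ⟶ A), f ≫ g = 0)
    (hBA : ∀ (f : A ⟶ B) (g : B ⟶ A), g ≫ f = 0) (F : A ⊞ B ⟶ A ⊞ B) :
    ∃ s t : K, F ≫ F + s • F + t • 𝟙 (A ⊞ B) = 0 := by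
  obtain ⟨a, ha⟩ := hA (biprod.inl ≫ F ≫ biprod.fst)
  obtain ⟨d, hd⟩ := hB (biprod.inr ≫ F ≫ biprod.snd)
  refine ⟨-(a + d), a * d, ?_⟩
  have hF : F = a • (biprod.fst ≫ biprod.inl) + biprod.fst ≫ (biprod.inl ≫ F ≫ biprod.snd) ≫ biprod.inr +
      biprod.snd ≫ (biprod.inr ≫ F ≫ biprod.fst) ≫ biprod.inl + d • (biprod.snd ≫ biprod.inr) := by
    refine biprod.hom_ext' _ _ (biprod.hom_ext _ _ ?_ ?_) (biprod.hom_ext _ _ ?_ ?_)
    · simp [ha]
    · simp
    · simp
    · simp [hd]
  generalize biprod.inl ≫ F ≫ biprod.snd = b at hF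
  generalize biprod.inr ≫ F ≫ biprod.fst = c at hF
  subst hF
  refine biprod.hom_ext' _ _ (biprod.hom_ext _ _ ?_ ?_) (biprod.hom_ext _ _ ?_ ?_) <;>
    simp [hAB, hBA, smul_smul, add_smul, mul_comm] <;> module

/-- Finite coproduct of two objects. -/
theorem nonempty_sigma_iso {P Q : C} [HasFiniteCoproducts C] (M : Fin 2 → C) (e₀ : M 0 ≅ P) (e₁ : M 1 ≅ Q) :
    Nonempty (P ⊞ Q ≅ ∐ M) := by
  let g : ∀ i, M i ⟶ P ⊞ Q := Fin.cases (e₀.hom ≫ biprod.inl) fun i =>
    Fin.cases (motive := fun i => M i.succ ⟶ P ⊞ Q) (e₁.hom ≫ biprod.inr) (fun j => j.elim0) i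
  have h0 : g 0 = e₀.hom ≫ biprod.inl := rfl
  have h1 : g 1 = e₁.hom ≫ biprod.inr := rfl
  refine ⟨⟨biprod.desc (e₀.inv ≫ Sigma.ι M 0) (e₁.inv ≫ Sigma.ι M 1), Sigma.desc g, ?_, ?_⟩⟩
  · refine biprod.hom_ext' _ _ ?_ ?_ <;> simp [h0, h1]
  · refine Sigma.hom_ext _ _ fun i => ?_
    fin_cases i
    · simp [h0]
    · simp [h1]

end Cat

section BC

variable {k : Type u} [Field k] {X : Scheme.{u}} [X.Over (Spec (CommRingCat.of k))]
  [IsProper (X ↘ Spec (CommRingCat.of k))] (K : Type u) [Field K] [Algebra k K]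
  {E : X.Modules}

/-- The pullback. -/
noncomputable abbrev PE (E : X.Modules) : (Curv2.bc k X K).Modules :=
  (Scheme.Modules.pullback (Curv2.bcFst k X K)).obj E

variable (k) in
/-- Pullback of endomorphisms. -/
noncomputable def Φ : End E →+* End (PE (k := k) K E) where
  toFun f := (Scheme.Modules.pullback (Curv2.bcFst k X K)).map f
  map_one' := (Scheme.Modules.pullback (Curv2.bcFst k X K)).map_id E
  map_mul' f g := (Scheme.Modules.pullback (Curv2.bcFst k X K)).map_comp g f
  map_zero' := (Scheme.Modules.pullback (Curv2.bcFst k X K)).map_zero E E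
  map_add' _ _ := (Scheme.Modules.pullback (Curv2.bcFst k X K)).map_add

theorem Φ_algebraMap (c : k) : Φ k K (E := E) (algebraMap k (End E) c) = algebraMap K (End (PE (k := k) K E)) (algebraMap k K c) := by
  rw [Algebra.algebraMap_eq_smul_one, Algebra.algebraMap_eq_smul_one]
  exact (ShStabLib.BC.map_smulk k K c (𝟙 E)).trans (congrArg _ ((Φ k K (E := E)).map_one))

variable (k) [Finite k] (hE : Coh.IsCoh E)
include hE

include k in
theorem finite_end : Finite (End E) := AutCount27.finite_hom k (CohDev.isCoh_biprod hE hE)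

theorem eq_zero_of_sum {n : ℕ} (v : Fin n → End E) (hv : LinearIndependent k v) (a : Fin n → K)
    (h : ∑ i, a i • Φ k K (v i) = 0) : a = 0 := by
  haveI := finite_end k hE
  haveI : Module.Finite k (E ⟶ E) := haveI : Finite (E ⟶ E) := finite_end k hE; Module.Finite.of_finite
  let b := Module.finBasis k (E ⟶ E)
  obtain ⟨bK, hbK⟩ := ShStabLib.BC.exists_basis_pullHom k K E E hE hE b
  obtain ⟨L, hL⟩ := (Fintype.linearCombination k v).exists_leftInverse_of_injective
    (LinearMap.ker_eq_bot'.2 fun c hc => funext (Fintype.linearIndependent_iff.1 hv c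
      (by simpa [Fintype.linearCombination_apply] using hc))) 
  funext j
  let ψ := bK.constr K fun i => algebraMap k K (L (b i) j)
  have hψ : ∀ x : E ⟶ E, ψ (ShStabLib.BC.pullHom k K E E x) = algebraMap k K (L x j) := fun x => by
    rw [← b.sum_repr x]
    simp only [map_sum, map_smulₛₗ, Finset.sum_apply, Pi.smul_apply, RingHom.id_apply, smul_eq_mul, map_mul,
      ← hbK]
    exact Finset.sum_congr rfl fun i _ => by rw [bK.constr_basis]
  have hv' : ∀ i, L (v i) = Pi.single i 1 := fun i => by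
    have h := LinearMap.congr_fun hL (Pi.single i 1)
    simp only [LinearMap.comp_apply, Fintype.linearCombination_apply_single, one_smul, LinearMap.id_apply] at h
    exact h
  have := congrArg ψ h
  rw [map_sum, map_zero, Finset.sum_eq_single j] at this
  · simpa [map_smul, show ψ (Φ k K (v j)) = _ from hψ (v j), hv'] using this
  · intro i _ hi
    rw [map_smul, show ψ (Φ k K (v i)) = _ from hψ (v i), hv']
    simp [Pi.single_eq_of_ne (Ne.symm hi)]
  · simp

theorem mem_span_Φ (Y : End (PE (k := k) K E)) : Y ∈ Submodule.span K (Set.range (Φ k K (E := E))) := by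
  haveI : Module.Finite k (E ⟶ E) := haveI : Finite (E ⟶ E) := finite_end k hE; Module.Finite.of_finite
  obtain ⟨bK, hbK⟩ := ShStabLib.BC.exists_basis_pullHom k K E E hE hE (Module.finBasis k (E ⟶ E))
  rw [← bK.sum_repr Y]
  exact Submodule.sum_mem _ fun i _ => Submodule.smul_mem _ _ (Submodule.subset_span ⟨_, (hbK i).symm⟩)

variable [IsLocalRing (End E)]

/-- Idempotents over the extension are trivial when the residue field is the base field. -/
theorem idem_trivial (hsc : ∀ u : End E, ∃ c : k, ¬ IsUnit (u - algebraMap k (End E) c)) (π : End (PE (k := k) K E))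
    (hπ : π * π = π) : π = 0 ∨ π = 1 := by
  haveI := finite_end k hE
  let S : Submodule K (End (PE (k := k) K E)) := Submodule.span K (Φ k K '' nonunits (End E))
  have hdec : π ∈ Submodule.span K {(1 : End (PE (k := k) K E))} ⊔ S := by
    refine Submodule.span_le.2 ?_ (mem_span_Φ k K hE π)
    rintro _ ⟨u, rfl⟩
    obtain ⟨c, hc⟩ := hsc u
    refine Submodule.mem_sup.2 ⟨algebraMap K _ (algebraMap k K c), ?_, Φ k K (u - algebraMap k (End E) c),
      Submodule.subset_span ⟨_, hc, rfl⟩, ?_⟩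
    · rw [Algebra.algebraMap_eq_smul_one]
      exact Submodule.smul_mem _ _ (Submodule.mem_span_singleton_self _)
    · rw [map_sub, Φ_algebraMap, add_sub_cancel]
  obtain ⟨y, hy, N, hN, hyN⟩ := Submodule.mem_sup.1 hdec
  obtain ⟨a, rfl⟩ := Submodule.mem_span_singleton.1 hy
  obtain ⟨n, hn⟩ := AutCount27.nonunits_pow_eq_zero (A := End E)
  have hNn : N ^ (n + 1) = 0 := by
    have h1 : N ^ (n + 1) ∈ S ^ (n + 1) := Submodule.pow_mem_pow _ hN _
    rw [Submodule.span_pow, ← Set.image_pow] at h1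
    refine (Submodule.mem_bot K).1 (Submodule.span_le.2 ?_ h1)
    rintro _ ⟨m, hm, rfl⟩
    rw [Set.mem_singleton_iff.1 (hn hm), map_zero]
    exact Submodule.zero_mem _
  have hN' : N = π - a • 1 := eq_sub_of_add_eq' hyN
  have h1 : ∀ j : ℕ, π * (π - a • 1) ^ j = (1 - a) ^ j • π := by
    intro j
    induction j with
    | zero => simp
    | succ j ih =>
      rw [pow_succ (π - a • 1), ← mul_assoc, ih, smul_mul_assoc, mul_sub, hπ, mul_smul_comm, mul_one,
        pow_succ, ← smul_smul, sub_smul, one_smul]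
  have h2 : ∀ j : ℕ, (1 - π) * (π - a • 1) ^ j = (-a) ^ j • (1 - π) := by
    intro j
    induction j with
    | zero => simp
    | succ j ih =>
      rw [pow_succ (π - a • 1), ← mul_assoc, ih, smul_mul_assoc, pow_succ, ← smul_smul]
      congr 1
      rw [sub_mul, one_mul, mul_sub, hπ, mul_smul_comm, mul_one, neg_smul, smul_sub]
      abel
  have e1 := h1 (n + 1)
  have e2 := h2 (n + 1)
  rw [← hN', hNn, mul_zero] at e1 e2
  rcases smul_eq_zero.1 e1.symm with h | h
  · rcases smul_eq_zero.1 e2.symm with h' | h'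
    · exfalso
      rw [sub_eq_zero.1 (eq_zero_of_pow_eq_zero h) |>.symm] at h'
      exact one_ne_zero (neg_eq_zero.1 (eq_zero_of_pow_eq_zero h'))
    · exact Or.inr (sub_eq_zero.1 h').symm
  · exact Or.inl h

end BC

section Geom

variable {k : Type u} [Field k] [Finite k] {X : Scheme.{u}} [X.Over (Spec (CommRingCat.of k))]
  [IsProper (X ↘ Spec (CommRingCat.of k))] [Smooth (X ↘ Spec (CommRingCat.of k))]
  [GeometricallyIntegral (X ↘ Spec (CommRingCat.of k))]

/-- The splitting over an extension. -/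
theorem split_props (hdim : topologicalKrullDim X = 1) {E : X.Modules} (hE : FlatMod.IsFinLocFreeOfRank 2 E)
    [IsLocalRing (End E)] (K : Type u) [Field K] [Algebra k K] (E₁ E₂ : (Curv2.bc k X K).Modules)
    (hE₁ : ¬ IsZero E₁) (hE₂ : ¬ IsZero E₂)
    (e : (Scheme.Modules.pullback (Curv2.bcFst k X K)).obj E ≅ E₁ ⊞ E₂) :
    PicF.IsInvertible E₁ ∧ PicF.IsInvertible E₂ ∧ ¬ Nonempty (E₁ ≅ E₂) ∧
      ∀ α : End E, ∀ p : k[X], p.Monic → Irreducible p → Polynomial.aeval α p = 0 → p.natDegree ≤ 2 := by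
  letI : (Curv2.bc k X K).Over (Spec (CommRingCat.of K)) := ⟨Curv2.bcSnd k X K⟩
  haveI : IsProper ((Curv2.bc k X K) ↘ Spec (CommRingCat.of K)) :=
    (inferInstance : IsProper (pullback.snd (X ↘ Spec (CommRingCat.of k))
      (Spec.map (CommRingCat.ofHom (algebraMap k K)))))
  haveI : Smooth ((Curv2.bc k X K) ↘ Spec (CommRingCat.of K)) :=
    (inferInstance : Smooth (pullback.snd (X ↘ Spec (CommRingCat.of k))
      (Spec.map (CommRingCat.ofHom (algebraMap k K)))))
  haveI : GeometricallyIntegral ((Curv2.bc k X K) ↘ Spec (CommRingCat.of K)) :=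
    (inferInstance : GeometricallyIntegral (pullback.snd (X ↘ Spec (CommRingCat.of k))
      (Spec.map (CommRingCat.ofHom (algebraMap k K)))))
  haveI : GeometricallyConnected (X ↘ Spec (CommRingCat.of k)) :=
    FBase.BC.geometricallyConnected_of_geometricallyIrreducible _
  haveI : IsIntegral X := CurveCoh.isIntegral_of_smooth k X
  haveI : IsIntegral (Curv2.bc k X K) := inferInstance
  have hdK : topologicalKrullDim (Curv2.bc k X K) = 1 :=
    (S4642.result (K := K) (X ↘ Spec (CommRingCat.of k))).trans hdim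
  obtain ⟨hi₁, hi₂⟩ := S18786.invertible_summands K hdK
    (CycLib.ProjBdl.isFinLocFreeOfRank_pullback _ hE) e hE₁ hE₂
  have hEc := isCoh_of_ofRank hE
  haveI := finite_end k hEc
  have s₁ : ∀ φ : E₁ ⟶ E₁, ∃ c : K, φ = c • 𝟙 E₁ :=
    fun φ => (AutCount27.scalHom_bijective (k := K) hi₁).2 φ |>.imp fun c hc => hc.symm
  have s₂ : ∀ φ : E₂ ⟶ E₂, ∃ c : K, φ = c • 𝟙 E₂ :=
    fun φ => (AutCount27.scalHom_bijective (k := K) hi₂).2 φ |>.imp fun c hc => hc.symm
  have n₁ : 𝟙 E₁ ≠ (0 : E₁ ⟶ E₁) := fun h => hE₁ ((IsZero.iff_id_eq_zero _).2 h)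
  have n₂ : 𝟙 E₂ ≠ (0 : E₂ ⟶ E₂) := fun h => hE₂ ((IsZero.iff_id_eq_zero _).2 h)
  have hnon : ¬ Nonempty (E₁ ≅ E₂) := by
    rintro ⟨φ⟩
    by_cases h : ∃ x : End E, x ≠ 0 ∧ ¬ IsUnit x
    · obtain ⟨x, hx, hxx⟩ := AutCount27.exists_annihilated h
      have hY : ∀ Y : End ((Scheme.Modules.pullback (Curv2.bcFst k X K)).obj E), Φ k K x * Y * Φ k K x = 0 := by
        intro Y
        refine Submodule.span_induction (p := fun Y _ => Φ k K x * Y * Φ k K x = 0) ?_ ?_ ?_ ?_ (mem_span_Φ k K hEc Y)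
        · rintro _ ⟨a, rfl⟩
          rw [← map_mul, ← map_mul, hxx, map_zero]
        · rw [mul_zero, zero_mul]
        · intro a b _ _ ha hb
          rw [mul_add, add_mul, ha, hb, add_zero]
        · intro c a _ ha
          rw [mul_smul_comm, smul_mul_assoc, ha, smul_zero]
      let F : E₁ ⊞ E₂ ⟶ E₁ ⊞ E₂ := e.inv ≫ Φ k K x ≫ e.hom
      have hF : ∀ Y : E₁ ⊞ E₂ ⟶ E₁ ⊞ E₂, F ≫ Y ≫ F = 0 := fun Y => by
        have h : Φ k K x ≫ (e.hom ≫ Y ≫ e.inv) ≫ Φ k K x = 0 := hY (End.of (e.hom ≫ Y ≫ e.inv))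
        simpa [F] using congrArg (fun t => e.inv ≫ t ≫ e.hom) h
      have key : ∀ {A B : (Curv2.bc k X K).Modules} (ψ : A ≅ B) (i : A ⟶ E₁ ⊞ E₂) (p : E₁ ⊞ E₂ ⟶ B),
          (∀ f : A ⟶ A, ∃ c : K, f = c • 𝟙 A) → 𝟙 A ≠ (0 : A ⟶ A) → i ≫ F ≫ p = 0 := fun ψ i p hA hA0 => by
        refine eq_zero_of_sq hA hA0 ψ _ ?_
        simpa using congrArg (fun t => i ≫ t ≫ p) (hF (p ≫ ψ.inv ≫ i))
      have hF0 : F = 0 := by
        refine biprod.hom_ext' _ _ (biprod.hom_ext _ _ ?_ ?_) (biprod.hom_ext _ _ ?_ ?_)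
        · simpa using key (Iso.refl E₁) biprod.inl biprod.fst s₁ n₁
        · simpa using key φ biprod.inl biprod.snd s₁ n₁
        · simpa using key φ.symm biprod.inr biprod.fst s₂ n₂
        · simpa using key (Iso.refl E₂) biprod.inr biprod.snd s₂ n₂
      have hx0 : Φ k K x = 0 := by
        have := congrArg (fun t => e.hom ≫ t ≫ e.inv) hF0
        simpa [F] using this
      exact one_ne_zero (congrFun (eq_zero_of_sum k K hEc ![x] (Fintype.linearIndependent_iff.2 fun c hc i => by
          fin_cases i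
          simpa [hx] using hc) ![1]
        (by simp [hx0])) 0)
    · push Not at h
      letI : DivisionRing (End E) := DivisionRing.ofIsUnitOrEqZero
        fun a => or_iff_not_imp_right.2 (h a)
      have hcomm : ∀ a b : End E, a * b = b * a := (littleWedderburn (End E)).mul_comm
      have hc : ∀ x y : End ((Scheme.Modules.pullback (Curv2.bcFst k X K)).obj E), x * y = y * x := by
        have h0 : ∀ (a : End E) (y : End ((Scheme.Modules.pullback (Curv2.bcFst k X K)).obj E)),
            Φ k K a * y = y * Φ k K a := fun a y => by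
          refine Submodule.span_induction (p := fun y _ => Φ k K a * y = y * Φ k K a) ?_ ?_ ?_ ?_ (mem_span_Φ k K hEc y)
          · rintro _ ⟨b, rfl⟩
            rw [← map_mul, ← map_mul, hcomm]
          · rw [mul_zero, zero_mul]
          · intro u v _ _ hu hv
            rw [mul_add, add_mul, hu, hv]
          · intro c u _ hu
            rw [mul_smul_comm, smul_mul_assoc, hu]
        intro x y
        refine Submodule.span_induction (p := fun x _ => x * y = y * x) ?_ ?_ ?_ ?_ (mem_span_Φ k K hEc x)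
        · rintro _ ⟨b, rfl⟩
          exact h0 b y
        · rw [mul_zero, zero_mul]
        · intro u v _ _ hu hv
          rw [mul_add, add_mul, hu, hv]
        · intro c u _ hu
          rw [mul_smul_comm, smul_mul_assoc, hu]
      refine n₁ ?_
      rw [← φ.hom_inv_id, S18786.hom_eq_zero_of_comm (fun u v => ?_) φ.hom, zero_comp]
      have h' : (e.hom ≫ u ≫ e.inv) ≫ (e.hom ≫ v ≫ e.inv) = (e.hom ≫ v ≫ e.inv) ≫ (e.hom ≫ u ≫ e.inv) :=
        hc (End.of (e.hom ≫ v ≫ e.inv)) (End.of (e.hom ≫ u ≫ e.inv))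
      rw [← cancel_epi e.hom, ← cancel_mono e.inv]
      simpa using h'
  refine ⟨hi₁, hi₂, hnon, fun α p hpm hp hα => ?_⟩
  have hXK := goodCurve_of_smooth (k := K) (X := Curv2.bc k X K) hdK
  have hl₁ := isFinLocFree_of_ofRank (ofRank_one_of_invertible hi₁)
  have hl₂ := isFinLocFree_of_ofRank (ofRank_one_of_invertible hi₂)
  have hr₁ := rk_eq (ofRank_one_of_invertible hi₁)
  have hr₂ := rk_eq (ofRank_one_of_invertible hi₂)
  have hzero : ∀ (f : E₁ ⟶ E₂) (g : E₂ ⟶ E₁), f = 0 ∨ g = 0 := fun f g => by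
    refine or_iff_not_imp_left.2 fun hf => by_contra fun hg => hnon ?_
    obtain ⟨-, hd, hiso⟩ := hXK.line_hom hl₁ hl₂ hr₁ hr₂ f hf
    obtain ⟨-, hd', -⟩ := hXK.line_hom hl₂ hl₁ hr₂ hr₁ g hg
    haveI := hiso (le_antisymm hd hd')
    exact ⟨asIso f⟩
  obtain ⟨s, t, hst⟩ := quadratic s₁ s₂ (fun f g => by rcases hzero f g with h | h <;> simp [h])
    (fun f g => by rcases hzero f g with h | h <;> simp [h]) (e.inv ≫ Φ k K α ≫ e.hom)
  have hq : Φ k K α * Φ k K α + s • Φ k K α + t • 1 = 0 := by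
    have h := congrArg (fun z => e.hom ≫ z ≫ e.inv) hst
    simp only [Preadditive.comp_add, Preadditive.add_comp, Linear.comp_smul, Linear.smul_comp, Category.assoc,
      e.hom_inv_id, e.hom_inv_id_assoc, Category.comp_id, Category.id_comp, comp_zero, zero_comp] at h
    exact h
  by_contra hlt
  have hli : LinearIndependent k ![1, α, α * α] := by
    rw [Fintype.linearIndependent_iff]
    intro c hc
    have hdvd : p ∣ Polynomial.C (c 0) + Polynomial.C (c 1) * Polynomial.X + Polynomial.C (c 2) * Polynomial.X ^ 2 := by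
      refine AutCount27.dvd_of_aeval_eq_zero hp hα ?_
      simpa [Fin.sum_univ_three, Algebra.smul_def, pow_two] using hc
    have h0 := Polynomial.eq_zero_of_dvd_of_natDegree_lt hdvd (by
      refine lt_of_le_of_lt ?_ (not_le.1 hlt)
      compute_degree)
    intro i
    fin_cases i
    · simpa using congrArg (Polynomial.coeff · 0) h0
    · simpa using congrArg (Polynomial.coeff · 1) h0
    · simpa using congrArg (Polynomial.coeff · 2) h0
  refine one_ne_zero (congrFun (eq_zero_of_sum k K hEc _ hli ![t, s, 1] ?_) 2)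
  simp only [Fin.sum_univ_three, Matrix.cons_val_zero, Matrix.cons_val_one, Matrix.cons_val, map_one, map_mul,
    one_smul]
  rw [← hq]
  abel

end Geom

/-- Let k be a finite field and C a smooth proper geometrically integral curve over k (proper, smooth
and geometrically integral over k, of dimension one) of genus one, i.e. dim_k H^1(C, O_C) = 1, with
a k-rational point O (an elliptic curve over k); here finiteness of k matters. Let E be a finite
locally free O_C-module of rank 2 which is indecomposable (nonzero, and in any isomorphism E ≅ E₁ ⊕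
E₂ one summand is zero) but not geometrically indecomposable: for some field extension K of k the
pull-back of E to C_K = C ×_k Spec K is isomorphic to a direct sum of two nonzero modules. Let k_2
be a degree-2 field extension of k and π : C_{k_2} → C the projection. Then π^*E is isomorphic to a
direct sum of 2 invertible modules on C_{k_2} that are pairwise non-isomorphic and none of which is
isomorphic to π^*L for an invertible O_C-module L. (Field extensions are taken in the universe of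
k.) (The published setting takes k of characteristic at least 5; the argument does not use this and
the row allows every finite field.) -/
theorem result (k : Type u) [Field k] [Finite k] (X : Scheme.{u}) [X.Over (Spec (CommRingCat.of k))]
    [IsProper (X ↘ Spec (CommRingCat.of k))] [Smooth (X ↘ Spec (CommRingCat.of k))]
    [GeometricallyIntegral (X ↘ Spec (CommRingCat.of k))] (hdim : topologicalKrullDim ↥X = 1)
    (hg : Curv2.genus k X = 1) (O : Spec (CommRingCat.of k) ⟶ X) (hO : O ≫ (X ↘ Spec (CommRingCat.of k)) = 𝟙 _)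
    (E : X.Modules) (hE : FlatMod.IsFinLocFreeOfRank 2 E)
    (hind : (¬ IsZero E ∧ ∀ (E₁ E₂ : X.Modules), Nonempty (E ≅ E₁ ⊞ E₂) → IsZero E₁ ∨ IsZero E₂))
    (K : Type u) [Field K] [Algebra k K] (E₁ E₂ : (Curv2.bc k X K).Modules) (hE₁ : ¬ IsZero E₁) (hE₂ : ¬ IsZero E₂)
    (e : (Scheme.Modules.pullback (Curv2.bcFst k X K)).obj E ≅ E₁ ⊞ E₂)
    (k₂ : Type u) [Field k₂] [Algebra k k₂] (hk₂ : Module.finrank k k₂ = 2) :
    ∃ (M : Fin 2 → (Curv2.bc k X k₂).Modules), (∀ i, PicF.IsInvertible (M i)) ∧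
      Nonempty ((Scheme.Modules.pullback (Curv2.bcFst k X k₂)).obj E ≅ ∐ M) ∧
      (∀ i j, i ≠ j → ¬ Nonempty (M i ≅ M j)) ∧
      (∀ (i : Fin 2) (L : X.Modules), PicF.IsInvertible L →
        ¬ Nonempty (M i ≅ (Scheme.Modules.pullback (Curv2.bcFst k X k₂)).obj L)) := by
  haveI : GeometricallyConnected (X ↘ Spec (CommRingCat.of k)) :=
    FBase.BC.geometricallyConnected_of_geometricallyIrreducible _
  haveI : IsIntegral X := CurveCoh.isIntegral_of_smooth k X
  have hEc := isCoh_of_ofRank hE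
  haveI := KSMod.isArtinianRing_end k (X ↘ Spec (CommRingCat.of k)) E hEc
  haveI : IsLocalRing (End E) := KSMod.Indec.isLocalRing hind
  haveI := finite_end k hEc
  let π : (Scheme.Modules.pullback (Curv2.bcFst k X K)).obj E ⟶ (Scheme.Modules.pullback (Curv2.bcFst k X K)).obj E :=
    e.hom ≫ biprod.fst ≫ biprod.inl ≫ e.inv
  obtain hsc | ⟨p, α, hpm, hp, hp2, hα⟩ := AutCount27.scalar_or_exists_root (A := End E) (k := k)
  · exfalso
    rcases idem_trivial k K hEc hsc (End.of π) (show π ≫ π = π by simp [π]) with h | h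
    · refine hE₁ ((IsZero.iff_id_eq_zero _).2 ?_)
      have h' := congrArg (fun t => biprod.inl ≫ e.inv ≫ t ≫ e.hom ≫ biprod.fst) (show π = 0 from h)
      simpa [π] using h'
    · refine hE₂ ((IsZero.iff_id_eq_zero _).2 ?_)
      have h' := congrArg (fun t => biprod.inr ≫ e.inv ≫ t ≫ e.hom ≫ biprod.snd) (show π = 𝟙 _ from h)
      simpa [π] using h'.symm
  have hdeg : p.natDegree = 2 := le_antisymm ((split_props hdim hE K E₁ E₂ hE₁ hE₂ e).2.2.2 α p hpm hp hα) hp2
  obtain ⟨l, m, hlm, hfac⟩ := AutCount27.exists_root_quadratic hp hdeg k₂ hk₂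
  have hlc : (p.map (algebraMap k k₂)).leadingCoeff = 1 := (hpm.map _).leadingCoeff
  rw [hlc, map_one, one_mul] at hfac
  let P := Scheme.Modules.pullback (Curv2.bcFst k X k₂)
  let a : End (P.obj E) := Φ k k₂ α
  have hcomp : (Φ k k₂ (E := E)).comp (algebraMap k (End E)) =
      (algebraMap k₂ (End (P.obj E))).comp (algebraMap k k₂) := RingHom.ext fun c => Φ_algebraMap k₂ c
  have hq : (a - algebraMap k₂ _ l) * (a - algebraMap k₂ _ m) = 0 := by
    have h1 : Polynomial.aeval a ((Polynomial.X - Polynomial.C l) * (Polynomial.X - Polynomial.C m)) = 0 := by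
      rw [← hfac, Polynomial.aeval_def, Polynomial.eval₂_map, ← hcomp, ← Polynomial.hom_eval₂, ← Polynomial.aeval_def, hα, map_zero]
    simpa using h1
  let idem : End (P.obj E) := (l - m)⁻¹ • (a - algebraMap k₂ _ m)
  have hidem : idem * idem = idem := by
    have h2 : (a - algebraMap k₂ _ m) * (a - algebraMap k₂ _ m) = (l - m) • (a - algebraMap k₂ _ m) := by
      calc (a - algebraMap k₂ _ m) * (a - algebraMap k₂ _ m)
          = (a - algebraMap k₂ _ l + (algebraMap k₂ _ l - algebraMap k₂ _ m)) * (a - algebraMap k₂ _ m) := by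
            rw [sub_add_sub_cancel]
        _ = _ := by rw [add_mul, hq, zero_add, ← map_sub, Algebra.smul_def]
    simp only [idem]
    rw [smul_mul_smul_comm, h2, smul_smul, mul_assoc, inv_mul_cancel₀ (sub_ne_zero.2 hlm), mul_one]
  have hli : LinearIndependent k ![1, α] := by
    rw [LinearIndependent.pair_iff]
    intro c d hcd
    have hdvd : p ∣ Polynomial.C c + Polynomial.C d * Polynomial.X :=
      AutCount27.dvd_of_aeval_eq_zero hp hα (by simpa [Algebra.smul_def] using hcd)
    have h0 := Polynomial.eq_zero_of_dvd_of_natDegree_lt hdvd (by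
      refine lt_of_le_of_lt (b := 1) ?_ (by omega)
      compute_degree)
    exact ⟨by simpa using congrArg (Polynomial.coeff · 0) h0, by simpa using congrArg (Polynomial.coeff · 1) h0⟩
  have hne : ∀ c : k₂, idem ≠ algebraMap k₂ _ c := fun c hc => by
    have h1 := congrFun (eq_zero_of_sum k k₂ hEc _ hli ![-(l - m)⁻¹ * m - c, (l - m)⁻¹] (by
      simp only [idem, smul_sub, Algebra.algebraMap_eq_smul_one, smul_smul] at hc
      simp only [Fin.sum_univ_two, Matrix.cons_val_zero, Matrix.cons_val_one, map_one]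
      rw [sub_smul, neg_mul, neg_smul, ← hc]
      abel)) 1
    exact inv_ne_zero (sub_ne_zero.2 hlm) h1
  obtain ⟨P', Q', i, q, i', q', -, hpi, -, hpi', ⟨e₂⟩⟩ :=
    KSMod.exists_split (End.asHom idem) (show End.asHom idem ≫ End.asHom idem = End.asHom idem from hidem)
  have hP' : ¬ IsZero P' := fun h => hne 0 (by
    rw [map_zero]
    exact hpi.symm.trans (by rw [h.eq_of_tgt q 0, zero_comp]))
  have hQ' : ¬ IsZero Q' := fun h => hne 1 (by
    rw [map_one]
    rw [h.eq_of_tgt q' 0, zero_comp] at hpi'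
    exact (sub_eq_zero.1 hpi'.symm).symm)
  obtain ⟨hP'i, hQ'i, hnon, -⟩ := split_props hdim hE k₂ P' Q' hP' hQ' e₂
  let M : Fin 2 → (Curv2.bc k X k₂).Modules := Fin.cases P' fun _ => Q'
  obtain ⟨u⟩ := nonempty_sigma_iso M (Iso.refl P') (Iso.refl Q')
  have hnotfrom : ∀ (L : X.Modules), PicF.IsInvertible L → ∀ (M' : (Curv2.bc k X k₂).Modules)
      (f : M' ⟶ P.obj E) (g : P.obj E ⟶ M'), f ≫ g = 𝟙 M' → ¬ Nonempty (M' ≅ P.obj L) := by
    rintro L hL M' f g hfg ⟨w⟩
    have hL1 := ofRank_one_of_invertible hL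
    have hLind : KSMod.Indec L := by
      haveI : GeometricallyConnected (X ↘ Spec (CommRingCat.of k)) :=
        FBase.BC.geometricallyConnected_of_geometricallyIrreducible _
      refine ⟨fun h => ?_, fun A B ⟨φ⟩ => indecomposable_of_isSimple (k := k)
        (fun ψ => (AutCount27.scalHom_bijective (k := k) hL).2 ψ |>.imp fun c hc => hc.symm) A B ⟨φ⟩⟩
      have := rk_eq_zero_of_isZero h
      rw [rk_eq hL1] at this
      omega
    obtain ⟨b, b', hb⟩ := AutCount27.exists_retract k k₂ (isCoh_of_ofRank hL1) hEc hLind (w.inv ≫ f) (g ≫ w.hom)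
      (by rw [Category.assoc, reassoc_of% hfg, w.inv_hom_id])
    obtain ⟨v⟩ := S18782.nonempty_iso_of_retract hLind.1 hind b b' hb
    have := ((goodCurve_of_smooth (k := k) (X := X) hdim).dg_iso v (isCoh_of_ofRank hL1) hEc).2
    rw [rk_eq hL1, rk_eq hE] at this
    omega
  refine ⟨M, fun i => ?_, ⟨e₂ ≪≫ u⟩, fun i j hij => ?_, fun i L hL => ?_⟩
  · fin_cases i
    exacts [hP'i, hQ'i]
  · fin_cases i <;> fin_cases j
    · exact absurd rfl hij
    · exact hnon
    · exact fun ⟨w⟩ => hnon ⟨w.symm⟩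
    · exact absurd rfl hij
  · fin_cases i
    · exact hnotfrom L hL P' (biprod.inl ≫ e₂.inv) (e₂.hom ≫ biprod.fst) (by simp)
    · exact hnotfrom L hL Q' (biprod.inr ≫ e₂.inv) (e₂.hom ≫ biprod.snd) (by simp)

end Groth.Agent.S18781
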