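import Groth.Statements.S18783
import Groth.Agent.S18782
import Groth.Agent.AutCount27.Basic
import Groth.Agent.VBLib.Line

set_option autoImplicit false
universe u
open CategoryTheory CategoryTheory.Limits AlgebraicGeometry
open VBCurve

namespace Groth.Agent.S18783

/-- Let k be a finite field and C a smooth proper geometrically integral curve over k (proper, smooth
and geometrically integral over k, of dimension one) of genus one, i.e. dim_k H^1(C, O_C) = 1, with
a k-rational point O (an elliptic curve over k); finiteness of k matters. Let G and G' be finite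
locally free O_C-modules of rank 2 such that G is indecomposable (nonzero, no isomorphism with a
direct sum of two nonzero modules) but not geometrically indecomposable (its pull-back to C_K splits
into two nonzero summands for some field extension K of k, taken in the universe of k), and likewise
G'; put E = O_C ⊕ G and E' = O_C ⊕ G' (rank 3). Let k₂ be a degree-2 field extension of k and π :
C_{k₂} → C the projection. Then E ≅ E' if and only if π^*E ≅ π^*E'. (The published setting takes k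
of characteristic at least 5; the argument does not use this and the row allows every finite field.) -/
theorem result (k : Type u) [Field k] [Finite k] (X : Scheme.{u}) [X.Over (Spec (CommRingCat.of k))]
    [IsProper (X ↘ Spec (CommRingCat.of k))] [Smooth (X ↘ Spec (CommRingCat.of k))]
    [GeometricallyIntegral (X ↘ Spec (CommRingCat.of k))] (hdim : topologicalKrullDim ↥X = 1)
    (hg : Curv2.genus k X = 1) (O : Spec (CommRingCat.of k) ⟶ X) (hO : O ≫ (X ↘ Spec (CommRingCat.of k)) = 𝟙 _)
    (G G' : X.Modules) (hG : FlatMod.IsFinLocFreeOfRank 2 G) (hG' : FlatMod.IsFinLocFreeOfRank 2 G')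
    (hGi : (¬ IsZero G ∧ ∀ (E₁ E₂ : X.Modules), Nonempty (G ≅ E₁ ⊞ E₂) → IsZero E₁ ∨ IsZero E₂)) (hGng : (∃ (K : Type u) (_ : Field K) (_ : Algebra k K) (E₁ E₂ : (Curv2.bc k X K).Modules),
      ¬ IsZero E₁ ∧ ¬ IsZero E₂ ∧ Nonempty ((Scheme.Modules.pullback (Curv2.bcFst k X K)).obj G ≅ E₁ ⊞ E₂)))
    (hG'i : (¬ IsZero G' ∧ ∀ (E₁ E₂ : X.Modules), Nonempty (G' ≅ E₁ ⊞ E₂) → IsZero E₁ ∨ IsZero E₂)) (hG'ng : (∃ (K : Type u) (_ : Field K) (_ : Algebra k K) (E₁ E₂ : (Curv2.bc k X K).Modules),
      ¬ IsZero E₁ ∧ ¬ IsZero E₂ ∧ Nonempty ((Scheme.Modules.pullback (Curv2.bcFst k X K)).obj G' ≅ E₁ ⊞ E₂)))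
    (k₂ : Type u) [Field k₂] [Algebra k k₂] (hk₂ : Module.finrank k k₂ = 2) :
    Nonempty ((Coh.structureModule X ⊞ G) ≅ (Coh.structureModule X ⊞ G')) ↔
      Nonempty ((Scheme.Modules.pullback (Curv2.bcFst k X k₂)).obj (Coh.structureModule X ⊞ G) ≅ (Scheme.Modules.pullback (Curv2.bcFst k X k₂)).obj (Coh.structureModule X ⊞ G')) := by
  refine ⟨fun ⟨e⟩ => ⟨(Scheme.Modules.pullback (Curv2.bcFst k X k₂)).mapIso e⟩, fun ⟨e⟩ => ?_⟩
  let P := Scheme.Modules.pullback (Curv2.bcFst k X k₂)
  haveI : GeometricallyConnected (X ↘ Spec (CommRingCat.of k)) :=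
    Groth.Agent.FBase.BC.geometricallyConnected_of_geometricallyIrreducible _
  haveI : IsIntegral X := Groth.Agent.CurveCoh.isIntegral_of_smooth k X
  have hGc := Groth.Agent.VBLib.isCoh_of_ofRank hG
  have hO1 := Groth.Agent.VBLib.ofRank_one_of_invertible (PicLoc.isInvertible_structureModule X)
  have hOc := Groth.Agent.VBLib.isCoh_of_ofRank hO1
  obtain ⟨b, b', h⟩ := Groth.Agent.AutCount27.exists_retract k k₂ hGc
    (Groth.Agent.CohDev.isCoh_biprod hOc (Groth.Agent.VBLib.isCoh_of_ofRank hG')) hGi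
    (P.map (biprod.inr : G ⟶ Coh.structureModule X ⊞ G) ≫ e.hom) (e.inv ≫ P.map biprod.snd) (by
      rw [Category.assoc, e.hom_inv_id_assoc, ← P.map_comp, biprod.inr_snd, P.map_id])
  haveI := Groth.Agent.KSMod.isArtinianRing_end k (X ↘ Spec (CommRingCat.of k)) G hGc
  haveI : IsLocalRing (End G) := Groth.Agent.KSMod.Indec.isLocalRing hGi
  have hsum : (b ≫ biprod.fst) ≫ (biprod.inl ≫ b') + (b ≫ biprod.snd) ≫ (biprod.inr ≫ b') = 𝟙 G := by
    rw [Category.assoc, Category.assoc, ← Preadditive.comp_add, ← Category.assoc biprod.fst,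
      ← Category.assoc biprod.snd, ← Preadditive.add_comp, biprod.total, Category.id_comp, h]
  rcases IsLocalRing.isUnit_or_isUnit_of_isUnit_add (a := (End.of ((b ≫ biprod.fst) ≫ (biprod.inl ≫ b')) : End G))
      (b := End.of ((b ≫ biprod.snd) ≫ (biprod.inr ≫ b'))) (show IsUnit (_ + _ : End G) from
        (congrArg IsUnit (show (End.of _ + End.of _ : End G) = 1 from hsum)).mpr isUnit_one) with hu | hu
  · exfalso
    haveI : IsIso ((b ≫ biprod.fst) ≫ (biprod.inl ≫ b')) := (isUnit_iff_isIso _).1 hu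
    haveI : Mono (b ≫ biprod.fst) := mono_of_mono (b ≫ biprod.fst) (biprod.inl ≫ b')
    have := Groth.Agent.VBLib.rk_le_of_mono (b ≫ biprod.fst) hOc
    rw [Groth.Agent.VBLib.rk_eq hG, Groth.Agent.VBLib.rk_eq hO1] at this
    omega
  · haveI : IsIso ((b ≫ biprod.snd) ≫ (biprod.inr ≫ b')) := (isUnit_iff_isIso _).1 hu
    obtain ⟨u⟩ := Groth.Agent.S18782.nonempty_iso_of_retract hGi.1 hG'i (b ≫ biprod.snd)
      ((biprod.inr ≫ b') ≫ inv ((b ≫ biprod.snd) ≫ (biprod.inr ≫ b')))
      (by rw [← Category.assoc, IsIso.hom_inv_id])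
    exact ⟨biprod.mapIso (Iso.refl _) u⟩

end Groth.Agent.S18783
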