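import Groth.Statements.S18785
import Groth.Agent.AutCount27.Cubic

set_option autoImplicit false
universe u
open CategoryTheory CategoryTheory.Limits AlgebraicGeometry
open VBCurve

namespace Groth.Agent.S18785

/-- Let k be a finite field and C a smooth proper geometrically integral curve over k (proper, smooth
and geometrically integral over k, of dimension one) of genus one, i.e. dim_k H^1(C, O_C) = 1, with
a k-rational point O (an elliptic curve over k); finiteness of k matters. Let E be a finite locally
free O_C-module of rank 3 which is indecomposable (nonzero, no isomorphism with a direct sum of two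
nonzero modules) but not geometrically indecomposable (its pull-back to C_K splits into two nonzero
summands for some field extension K of k, taken in the universe of k), and let k₃ be a degree-3
field extension of k. Then the group of O_C-linear automorphisms of E is isomorphic to the unit
group k₃ˣ, the k-points of the Weil restriction of the multiplicative group from k₃ to k. (The
source states this for E semistable of slope 1; that restriction plays no role in the assertion or
its argument and is dropped here. The accompanying count of isomorphism classes is not restated.)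
(The published setting takes k of characteristic at least 5; the argument does not use this and the
row allows every finite field.) -/
theorem result (k : Type u) [Field k] [Finite k] (X : Scheme.{u}) [X.Over (Spec (CommRingCat.of k))]
    [IsProper (X ↘ Spec (CommRingCat.of k))] [Smooth (X ↘ Spec (CommRingCat.of k))]
    [GeometricallyIntegral (X ↘ Spec (CommRingCat.of k))] (hdim : topologicalKrullDim ↥X = 1)
    (hg : Curv2.genus k X = 1) (O : Spec (CommRingCat.of k) ⟶ X) (hO : O ≫ (X ↘ Spec (CommRingCat.of k)) = 𝟙 _)
    (E : X.Modules) (hE : FlatMod.IsFinLocFreeOfRank 3 E)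
    (hEi : (¬ IsZero E ∧ ∀ (E₁ E₂ : X.Modules), Nonempty (E ≅ E₁ ⊞ E₂) → IsZero E₁ ∨ IsZero E₂)) (hEng : (∃ (K : Type u) (_ : Field K) (_ : Algebra k K) (E₁ E₂ : (Curv2.bc k X K).Modules),
      ¬ IsZero E₁ ∧ ¬ IsZero E₂ ∧ Nonempty ((Scheme.Modules.pullback (Curv2.bcFst k X K)).obj E ≅ E₁ ⊞ E₂)))
    (k₃ : Type u) [Field k₃] [Algebra k k₃] (hk₃ : Module.finrank k k₃ = 3) :
    Nonempty (Aut E ≃* k₃ˣ) := by
  obtain ⟨K, _, _, E₁, E₂, hE₁, hE₂, ⟨e⟩⟩ := hEng
  obtain ⟨-, p, ψ, -, hp, h3, hψ⟩ :=
    Groth.Agent.AutCount27.cubic_main hdim hE hEi K E₁ E₂ hE₁ hE₂ e k₃ hk₃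
  haveI := Fact.mk hp
  haveI : Module.Finite k (AdjoinRoot p) := (AdjoinRoot.powerBasis hp.ne_zero).finite
  haveI : Finite (AdjoinRoot p) := Module.finite_of_finite k
  haveI : Module.Finite k k₃ := Module.finite_of_finrank_eq_succ hk₃
  haveI : Finite k₃ := Module.finite_of_finite k
  obtain ⟨f⟩ := FiniteField.nonempty_algHom_of_finrank_dvd (F := k) (K := AdjoinRoot p) (L := k₃)
    (by rw [hk₃, (AdjoinRoot.powerBasis hp.ne_zero).finrank, AdjoinRoot.powerBasis_dim, h3])
  have hfb : Function.Bijective f := by
    refine ⟨f.injective, ?_⟩
    refine (LinearMap.injective_iff_surjective_of_finrank_eq_finrank ?_ (f := f.toLinearMap)).1 f.injective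
    rw [hk₃, (AdjoinRoot.powerBasis hp.ne_zero).finrank, AdjoinRoot.powerBasis_dim, h3]
  exact ⟨(Aut.unitsEndEquivAut E).symm.trans (Units.mapEquiv
    ((RingEquiv.ofBijective ψ hψ).symm.trans (RingEquiv.ofBijective f.toRingHom hfb)).toMulEquiv)⟩

end Groth.Agent.S18785
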