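import Groth.Statements.S18787
import Groth.Agent.AutCount27.Basic
-- import your own Groth.Agent.* helpers here

set_option autoImplicit false
universe u
open CategoryTheory CategoryTheory.Limits AlgebraicGeometry
open VBCurve

namespace Groth.Agent.S18787

open AutCount27

variable {C : Type*} [Category C] [Preadditive C] [HasBinaryBiproducts C]

/-- The two copies in `A ⊞ A`. -/
noncomputable def copies₂ (A : C) : Copies (A ⊞ A) A 2 where
  inj := ![biprod.inl, biprod.inr]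
  prj := ![biprod.fst, biprod.snd]
  inj_prj i j := by fin_cases i <;> fin_cases j <;> simp
  total := by simp [Fin.sum_univ_two]

/-- The three copies in `A ⊞ (A ⊞ A)`. -/
noncomputable def copies₃ (A : C) : Copies (A ⊞ (A ⊞ A)) A 3 where
  inj := ![biprod.inl, biprod.inl ≫ biprod.inr, biprod.inr ≫ biprod.inr]
  prj := ![biprod.fst, biprod.snd ≫ biprod.fst, biprod.snd ≫ biprod.snd]
  inj_prj i j := by fin_cases i <;> fin_cases j <;> simp
  total := by
    rw [Fin.sum_univ_three]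
    simp only [Matrix.cons_val_zero, Matrix.cons_val_one, Matrix.cons_val]
    refine biprod.hom_ext' _ _ ?_ (biprod.hom_ext' _ _ ?_ ?_) <;> simp

/-- `A ⊞ (B ⊞ D) ≅ B ⊞ (A ⊞ D)`. -/
noncomputable def swapIso (A B D : C) : A ⊞ (B ⊞ D) ≅ B ⊞ (A ⊞ D) :=
  (biprod.associator A B D).symm ≪≫ biprod.mapIso (biprod.braiding A B) (Iso.refl D) ≪≫
    biprod.associator B A D

theorem hom_biprod_zero {A B D : C} (h₁ : ∀ f : A ⟶ B, f = 0) (h₂ : ∀ f : A ⟶ D, f = 0)
    (f : A ⟶ B ⊞ D) : f = 0 :=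
  biprod.hom_ext _ _ ((h₁ _).trans zero_comp.symm) ((h₂ _).trans zero_comp.symm)

theorem biprod_hom_zero {A B D : C} (h₁ : ∀ f : B ⟶ A, f = 0) (h₂ : ∀ f : D ⟶ A, f = 0)
    (f : B ⊞ D ⟶ A) : f = 0 :=
  biprod.hom_ext' _ _ ((h₁ _).trans comp_zero.symm) ((h₂ _).trans comp_zero.symm)


/-- Let k be a finite field and C a smooth proper geometrically integral curve over k (proper, smooth
and geometrically integral over k, of dimension one) of genus one, i.e. dim_k H^1(C, O_C) = 1, with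
a k-rational point O (an elliptic curve over k); k is finite with q elements. Let L₁ and L₂ be
invertible O_C-modules of degree 0 (χ(L) − χ(O_C) = 0) and E = O_C ⊕ L₁ ⊕ L₂. Then the number of
automorphisms of E is: (q³ − 1)(q³ − q)(q³ − q²) if L₁ ≅ L₂ ≅ O_C; (q − 1)³ (q + 1) q if L₁ ≅ L₂ and
L₁ ≇ O_C; (q − 1)³ (q + 1) q if L₁ ≇ L₂ and L₂ ≅ O_C; and (q − 1)³ if O_C, L₁, L₂ are pairwise
non-isomorphic. (In the third case the published value is (q − 1)² q³, and the published computation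
gives (q − 1)³ q²; but there E ≅ O_C ⊕ O_C ⊕ L₁ with L₁ of degree 0 and non-trivial, whose
endomorphism ring is M₂(k) × k, so Aut(E) ≅ GL₂(k) × kˣ has (q − 1)³ (q + 1) q elements, the same
count as in the second case; the row states this corrected value.) (The published setting takes k of
characteristic at least 5; the argument does not use this and the row allows every finite field.) -/
theorem result (k : Type u) [Field k] [Finite k] (X : Scheme.{u}) [X.Over (Spec (CommRingCat.of k))]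
    [IsProper (X ↘ Spec (CommRingCat.of k))] [Smooth (X ↘ Spec (CommRingCat.of k))]
    [GeometricallyIntegral (X ↘ Spec (CommRingCat.of k))] (hdim : topologicalKrullDim ↥X = 1)
    (hg : Curv2.genus k X = 1) (O : Spec (CommRingCat.of k) ⟶ X) (hO : O ≫ (X ↘ Spec (CommRingCat.of k)) = 𝟙 _)
    (L₁ L₂ : X.Modules) (hL₁ : PicF.IsInvertible L₁) (hL₂ : PicF.IsInvertible L₂)
    (hd₁ : Curv2.deg k X L₁ 1 = 0) (hd₂ : Curv2.deg k X L₂ 1 = 0) :
    (Nonempty (L₁ ≅ Coh.structureModule X) → Nonempty (L₂ ≅ Coh.structureModule X) →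
      Nat.card (Aut (Coh.structureModule X ⊞ L₁ ⊞ L₂)) =
        (Nat.card k ^ 3 - 1) * (Nat.card k ^ 3 - Nat.card k) * (Nat.card k ^ 3 - Nat.card k ^ 2)) ∧
    (Nonempty (L₁ ≅ L₂) → ¬ Nonempty (L₁ ≅ Coh.structureModule X) →
      Nat.card (Aut (Coh.structureModule X ⊞ L₁ ⊞ L₂)) = (Nat.card k - 1) ^ 3 * (Nat.card k + 1) * Nat.card k) ∧
    (¬ Nonempty (L₁ ≅ L₂) → Nonempty (L₂ ≅ Coh.structureModule X) →
      Nat.card (Aut (Coh.structureModule X ⊞ L₁ ⊞ L₂)) = (Nat.card k - 1) ^ 3 * (Nat.card k + 1) * Nat.card k) ∧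
    (¬ Nonempty (L₁ ≅ Coh.structureModule X) → ¬ Nonempty (L₂ ≅ Coh.structureModule X) → ¬ Nonempty (L₁ ≅ L₂) →
      Nat.card (Aut (Coh.structureModule X ⊞ L₁ ⊞ L₂)) = (Nat.card k - 1) ^ 3) := by
  haveI : GeometricallyConnected (X ↘ Spec (CommRingCat.of k)) :=
    FBase.BC.geometricallyConnected_of_geometricallyIrreducible _
  haveI : IsIntegral X := CurveCoh.isIntegral_of_smooth k X
  let O' := Coh.structureModule X
  have hOi : PicF.IsInvertible O' := PicLoc.isInvertible_structureModule X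
  have hd0 : Curv2.deg k X O' 1 = 0 := deg_structure
  have hz : ∀ {A B : X.Modules}, PicF.IsInvertible A → PicF.IsInvertible B →
      Curv2.deg k X A 1 = 0 → Curv2.deg k X B 1 = 0 → ¬ Nonempty (A ≅ B) → ∀ f : A ⟶ B, f = 0 :=
    fun hA hB a b h f => eq_zero_of_not_iso (k := k) hdim hA hB (a.trans b.symm) h f
  have hline : ∀ {A : X.Modules}, PicF.IsInvertible A → Nat.card (End A)ˣ = Nat.card k - 1 := fun hA => by
    rw [← card_units_congr (endLine (k := k) hA), Nat.card_units]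
  have hmat : ∀ {A : X.Modules}, PicF.IsInvertible A → ∀ n : ℕ,
      Nat.card (Matrix (Fin n) (Fin n) (End A))ˣ =
        ∏ i : Fin n, (Nat.card k ^ n - Nat.card k ^ (i : ℕ)) := fun hA n => by
    rw [← card_units_congr (endLine (k := k) hA).mapMatrix, card_units_matrix]
  set q := Nat.card k
  have hq : 1 < q := Finite.one_lt_card
  have e2 : (q ^ 2 - 1) * (q ^ 2 - q) * (q - 1) = (q - 1) ^ 3 * (q + 1) * q := by
    have h1 : q ^ 2 - 1 = (q + 1) * (q - 1) := by simpa using Nat.sq_sub_sq q 1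
    have h2 : q ^ 2 - q = q * (q - 1) := by rw [Nat.mul_sub, mul_one, sq]
    rw [h1, h2]
    ring
  have pair : ∀ (A B : X.Modules), PicF.IsInvertible A → PicF.IsInvertible B →
      Curv2.deg k X A 1 = 0 → Curv2.deg k X B 1 = 0 → ¬ Nonempty (A ≅ B) →
      Nat.card (End (A ⊞ (B ⊞ B)))ˣ = (q - 1) ^ 3 * (q + 1) * q := by
    intro A B hA hB a b h
    rw [card_units_congr (endProd (hom_biprod_zero (hz hA hB a b h) (hz hA hB a b h))
        (biprod_hom_zero (hz hB hA b a fun ⟨e⟩ => h ⟨e.symm⟩) (hz hB hA b a fun ⟨e⟩ => h ⟨e.symm⟩))),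
      card_units_prod, hline hA, card_units_congr (copies₂ B).endEquiv, hmat hB, Fin.prod_univ_two,
      ← e2]
    simp only [Fin.val_zero, Fin.val_one, pow_zero, pow_one]
    ring
  simp only [card_aut]
  refine ⟨fun ⟨e₁⟩ ⟨e₂⟩ => ?_, fun ⟨e⟩ hn => ?_, fun hn ⟨e⟩ => ?_, fun h₁ h₂ h₁₂ => ?_⟩
  · rw [card_units_congr (endCongr (biprod.mapIso (Iso.refl O') (biprod.mapIso e₁ e₂))),
      card_units_congr (copies₃ O').endEquiv, hmat hOi, Fin.prod_univ_three]
    simp only [Fin.val_zero, Fin.val_one, Fin.val_two, pow_zero, pow_one]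
  · rw [card_units_congr (endCongr (biprod.mapIso (Iso.refl O') (biprod.mapIso (Iso.refl L₁) e.symm)))]
    exact pair O' L₁ hOi hL₁ hd0 hd₁ fun ⟨f⟩ => hn ⟨f.symm⟩
  · rw [card_units_congr (endCongr (swapIso O' L₁ L₂ ≪≫
      biprod.mapIso (Iso.refl L₁) (biprod.mapIso (Iso.refl O') e)))]
    exact pair L₁ O' hL₁ hOi hd₁ hd0 fun ⟨f⟩ => hn ⟨f ≪≫ e.symm⟩
  · have a := hz hOi hL₁ hd0 hd₁ fun ⟨f⟩ => h₁ ⟨f.symm⟩
    have b := hz hOi hL₂ hd0 hd₂ fun ⟨f⟩ => h₂ ⟨f.symm⟩
    rw [card_units_congr (endProd (hom_biprod_zero a b)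
        (biprod_hom_zero (hz hL₁ hOi hd₁ hd0 h₁) (hz hL₂ hOi hd₂ hd0 h₂))),
      card_units_prod, card_units_congr (endProd (hz hL₁ hL₂ hd₁ hd₂ h₁₂)
        (hz hL₂ hL₁ hd₂ hd₁ fun ⟨f⟩ => h₁₂ ⟨f.symm⟩)),
      card_units_prod, hline hOi, hline hL₁, hline hL₂]
    ring

end Groth.Agent.S18787
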