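import Groth.Statements.S18788
import Groth.Agent.AutCount27.SelfExt
-- import your own Groth.Agent.* helpers here

set_option autoImplicit false
universe u
open CategoryTheory CategoryTheory.Limits AlgebraicGeometry
open VBCurve

namespace Groth.Agent.S18788

/-- Let k be a finite field and C a smooth proper geometrically integral curve over k (proper, smooth
and geometrically integral over k, of dimension one) of genus one, i.e. dim_k H^1(C, O_C) = 1, with
a k-rational point O (an elliptic curve over k); k is finite with q elements. Let F be an O_C-module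
with a short exact sequence 0 → O_C → F → O_C → 0 that does not split, and L an invertible
O_C-module of degree 0 (χ(L) − χ(O_C) = 0). Then Aut(O_C ⊕ F) has (q − 1)² q³ elements, and if L ≇
O_C then Aut(O_C ⊕ (L ⊗ F)) has (q − 1)² q elements. (The source states this for E = O_C ⊕ G with G
a geometrically indecomposable rank-2 bundle of degree 0, which it writes as L ⊗ F with F the
non-split self-extension of O_C by a classification it quotes; the row takes G in that form
directly. The accompanying count of isomorphism classes is not restated.) (The published setting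
takes k of characteristic at least 5; the argument does not use this and the row allows every finite
field.) -/
theorem result (k : Type u) [Field k] [Finite k] (X : Scheme.{u}) [X.Over (Spec (CommRingCat.of k))]
    [IsProper (X ↘ Spec (CommRingCat.of k))] [Smooth (X ↘ Spec (CommRingCat.of k))]
    [GeometricallyIntegral (X ↘ Spec (CommRingCat.of k))] (hdim : topologicalKrullDim ↥X = 1)
    (hg : Curv2.genus k X = 1) (O : Spec (CommRingCat.of k) ⟶ X) (hO : O ≫ (X ↘ Spec (CommRingCat.of k)) = 𝟙 _)
    (T : ShortComplex X.Modules) (hT : T.ShortExact)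
    (e₁ : T.X₁ ≅ Coh.structureModule X) (e₃ : T.X₃ ≅ Coh.structureModule X) (hns : ¬ IsSplitEpi T.g)
    (L : X.Modules) (hL : PicF.IsInvertible L) (hdeg : Curv2.deg k X L 1 = 0) :
    Nat.card (Aut (Coh.structureModule X ⊞ T.X₂)) = (Nat.card k - 1) ^ 2 * Nat.card k ^ 3 ∧
    (¬ Nonempty (L ≅ Coh.structureModule X) →
      Nat.card (Aut (Coh.structureModule X ⊞ CohB1.tensorMod L T.X₂)) = (Nat.card k - 1) ^ 2 * Nat.card k) := by
  haveI : GeometricallyConnected (X ↘ Spec (CommRingCat.of k)) :=
    FBase.BC.geometricallyConnected_of_geometricallyIrreducible _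
  haveI : IsIntegral X := CurveCoh.isIntegral_of_smooth k X
  let O' := Coh.structureModule X
  have hOi : PicF.IsInvertible O' := PicLoc.isInvertible_structureModule X
  haveI := hT.mono_f
  haveI := hT.epi_g
  have H : AutCount27.SelfExtData (k := k) (e₁.inv ≫ T.f) (T.g ≫ e₃.hom) := by
    refine ⟨by simp, fun f => ?_, fun h => ?_, fun g hg => ?_, fun s hs => ?_, fun f hf => ?_,
      fun f hf => ?_, inferInstance, inferInstance⟩
    · obtain ⟨c, hc⟩ := (AutCount27.scalHom_bijective (k := k) hOi).2 f
      exact ⟨c, hc.symm⟩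
    · exact one_ne_zero ((AutCount27.scalHom_bijective (k := k) hOi).1
        (show AutCount27.scalHom (k := k) O' 1 = AutCount27.scalHom (k := k) O' 0 by
          rw [map_one, map_zero]; exact h))
    · refine hns (ShortComplex.Splitting.ofExactOfRetraction T hT.exact (g ≫ e₁.inv) ?_
        hT.epi_g).isSplitEpi_g
      rw [← cancel_epi e₁.inv, ← Category.assoc T.f, ← Category.assoc e₁.inv, ← Category.assoc e₁.inv]
      simp [Category.assoc] at hg
      simp [reassoc_of% hg]
    · exact hns ⟨⟨e₃.hom ≫ s, by
        rw [← cancel_mono e₃.hom, Category.assoc, Category.assoc, hs, Category.comp_id, Category.id_comp]⟩⟩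
    · have hf' : f ≫ T.g = 0 := by
        rw [← cancel_mono e₃.hom, Category.assoc, hf, zero_comp]
      exact ⟨hT.exact.lift f hf' ≫ e₁.hom, by
        rw [Category.assoc, e₁.hom_inv_id_assoc, ShortComplex.Exact.lift_f]⟩
    · have hf' : T.f ≫ f = 0 := by
        rw [← cancel_epi e₁.inv, ← Category.assoc, hf, comp_zero]
      exact ⟨e₃.inv ≫ hT.exact.desc f hf', by
        rw [Category.assoc, e₃.hom_inv_id_assoc, ShortComplex.Exact.g_desc]⟩
  simp only [AutCount27.card_aut]
  refine ⟨H.card_units_end_sum, fun hn => ?_⟩
  obtain ⟨M, hM, ⟨e⟩⟩ := PicLaw.exists_inverse hL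
  let E := VBStable.tensorEquiv L M e (ProjTwist.tensComm _ _ ≪≫ e)
  have hd0 : Curv2.deg k X O' 1 = 0 := AutCount27.deg_structure
  have hz : ∀ f : O' ⟶ L, f = 0 := AutCount27.eq_zero_of_not_iso (k := k) hdim hOi hL
    (hd0.trans hdeg.symm) fun ⟨f⟩ => hn ⟨f.symm⟩
  have hz' : ∀ f : L ⟶ O', f = 0 := AutCount27.eq_zero_of_not_iso (k := k) hdim hL hOi
    (hdeg.trans hd0.symm) hn
  let u : L ≅ E.functor.obj O' := (ProjTwist.tensOne L).symm
  haveI : E.functor.Additive := Functor.additive_of_preserves_binary_products _
  have h₁ : ∀ f : O' ⟶ CohB1.tensorMod L T.X₂, f = 0 := by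
    intro f
    let A := E.inverse.obj O'
    let w : E.functor.obj A ≅ O' := E.counitIso.app O'
    obtain ⟨g, hg⟩ := E.functor.map_surjective (w.hom ≫ (show O' ⟶ E.functor.obj T.X₂ from f))
    have hA : ∀ r : A ⟶ O', r = 0 := fun r => E.functor.map_injective (by
      rw [Functor.map_zero, ← cancel_epi w.inv, ← cancel_mono u.inv, comp_zero, zero_comp]
      exact hz _)
    obtain ⟨h, hh⟩ := H.ker g (hA _)
    rw [hA h, zero_comp] at hh
    rw [← hh, Functor.map_zero] at hg
    exact (cancel_epi w.hom).1 (hg.symm.trans comp_zero.symm)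
  have h₂ : ∀ f : CohB1.tensorMod L T.X₂ ⟶ O', f = 0 := by
    intro f
    let A := E.inverse.obj O'
    let w : E.functor.obj A ≅ O' := E.counitIso.app O'
    obtain ⟨g, hg⟩ := E.functor.map_surjective ((show E.functor.obj T.X₂ ⟶ O' from f) ≫ w.inv)
    have hA : ∀ r : O' ⟶ A, r = 0 := fun r => E.functor.map_injective (by
      rw [Functor.map_zero, ← cancel_mono w.hom, ← cancel_epi u.hom, zero_comp, comp_zero]
      exact hz' _)
    obtain ⟨h, hh⟩ := H.coker g (hA _)
    rw [hA h, comp_zero] at hh
    rw [← hh, Functor.map_zero] at hg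
    exact (cancel_mono w.inv).1 (hg.symm.trans zero_comp.symm)
  have hend : Nat.card (End (CohB1.tensorMod L T.X₂))ˣ = Nat.card (End T.X₂)ˣ :=
    (Nat.card_congr (Units.mapEquiv
      ((Functor.FullyFaithful.ofFullyFaithful E.functor).mulEquivEnd T.X₂)).toEquiv).symm
  rw [AutCount27.card_units_congr (AutCount27.endProd h₁ h₂), AutCount27.card_units_prod, hend,
    H.card_units_end, ← AutCount27.card_units_congr (AutCount27.endLine (k := k) hOi), Nat.card_units]
  ring

end Groth.Agent.S18788
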