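import Groth.Statements.S18789
import Mathlib.RingTheory.Nakayama
import Mathlib.LinearAlgebra.Matrix.ToLin
import Mathlib.LinearAlgebra.Matrix.NonsingularInverse
import Mathlib.Algebra.Module.Projective

set_option autoImplicit false
universe u v w x
open TorusGr

namespace Groth.Agent.S18789

open DirectSum

variable {k : Type u} [Field k] {M : Type v} [AddCommGroup M] [DecidableEq M]
  {A : Type w} [CommRing A] [Algebra k A] (𝒜 : M → Submodule k A) [GradedAlgebra 𝒜]
  {P : Type x} [AddCommGroup P] [Module A P] [Module k P]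
  (ℳ : M → Submodule k P) [Decomposition ℳ] [SetLike.GradedSMul 𝒜 ℳ]

theorem decompose_smul_mem {g : M} (a : A) {p : P} (hp : p ∈ ℳ g) (h : M) :
    (decompose ℳ (a • p) h : P) = (decompose 𝒜 a (h - g) : A) • p := by
  classical
  conv_lhs => rw [← sum_support_decompose 𝒜 a, Finset.sum_smul, decompose_sum, DFinsupp.finsetSum_apply,
    AddSubmonoidClass.coe_finsetSum]
  have hsm : ∀ j, ((decompose 𝒜 a j : A) • p) ∈ ℳ (j + g) := fun j =>
    SetLike.GradedSMul.smul_mem (decompose 𝒜 a j).2 hp
  rw [Finset.sum_eq_single (h - g)]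
  · exact decompose_of_mem_same ℳ (by simpa using hsm (h - g))
  · intro j _ hj
    exact decompose_of_mem_ne ℳ (hsm j) fun e => hj (by rw [← e, add_sub_cancel_right])
  · intro hn
    rw [DFinsupp.notMem_support_iff.1 hn]
    simp

theorem decompose_combination {n : ℕ} {wt : Fin n → M} {f : Fin n → P} (hf : ∀ i, f i ∈ ℳ (wt i))
    (c : Fin n → A) (h : M) :
    (decompose ℳ (∑ i, c i • f i) h : P) = ∑ i, (decompose 𝒜 (c i) (h - wt i) : A) • f i := by
  rw [decompose_sum, DFinsupp.finsetSum_apply, AddSubmonoidClass.coe_finsetSum]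
  exact Finset.sum_congr rfl fun i _ => decompose_smul_mem 𝒜 ℳ (c i) (hf i) h

open DirectSum in
/-- Let `A` be a commutative algebra over a field `k`, graded by an additive commutative group `M` (for
`M` the character group of a split torus `T` this is a `T`-action on `Spec A`, and an `M`-graded
`A`-module is a `T`-equivariant quasi-coherent sheaf), let `P` be a finitely generated projective
`A`-module with a compatible `M`-grading (a locally free `T`-sheaf of finite rank), and let `m` be a
homogeneous maximal ideal with residue field `k` (a `T`-fixed rational point). If homogeneous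
elements `f i` of `P` reduce to a basis of `P/mP`, then there is a homogeneous `s ∉ m` such that
after inverting `s` the `f i` generate `P` and every relation among them is killed by a power of
`s`: on the invariant open `D(s)` the module is free on the homogeneous sections `f i`, with the
weights of the fibre `P/mP`. (The published statement has `M ≅ ℤ^r`, a split torus; here `M` is any
additive commutative group, i.e. any diagonalizable group.) -/
theorem result
    {k : Type u} [Field k] {M : Type v} [AddCommGroup M] [DecidableEq M]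
    {A : Type w} [CommRing A] [Algebra k A] (𝒜 : M → Submodule k A) [GradedAlgebra 𝒜]
    {P : Type x} [AddCommGroup P] [Module A P] [Module k P] [IsScalarTower k A P]
    (ℳ : M → Submodule k P) [Decomposition ℳ] [SetLike.GradedSMul 𝒜 ℳ]
    [Module.Finite A P] [Module.Projective A P]
    (m : Ideal A) [m.IsMaximal] (hm : m.IsHomogeneous 𝒜)
    (hrat : Function.Surjective (algebraMap k (A ⧸ m)))
    {n : ℕ} (wt : Fin n → M) (f : Fin n → P) (hf : ∀ i, f i ∈ ℳ (wt i))
    (hli : LinearIndependent (A ⧸ m)
      (fun i => (Submodule.Quotient.mk (f i) : P ⧸ (m • (⊤ : Submodule A P)))))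
    (hsp : Submodule.span A (Set.range f) ⊔ m • (⊤ : Submodule A P) = ⊤) :
    ∃ s : A, SetLike.IsHomogeneousElem 𝒜 s ∧ s ∉ m ∧
      (∀ p : P, ∃ (N : ℕ) (c : Fin n → A), s ^ N • p = ∑ i, c i • f i) ∧
      (∀ c : Fin n → A, ∑ i, c i • f i = 0 → ∃ N : ℕ, ∀ i, s ^ N * c i = 0) := by
  classical
  let S : Submodule A P := Submodule.span A (Set.range f)
  have hS : ∀ q ∈ S, ∀ h, (decompose ℳ q h : P) ∈ S := fun q hq h => by
    obtain ⟨c, rfl⟩ := (Submodule.mem_span_range_iff_exists_fun A).1 hq
    rw [decompose_combination 𝒜 ℳ hf]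
    exact Submodule.sum_mem _ fun i _ => Submodule.smul_mem _ _ (Submodule.subset_span ⟨i, rfl⟩)
  let π : (Fin n → A) →ₗ[A] P := Fintype.linearCombination A f
  have hπ : ∀ c, π c = ∑ i, c i • f i := fun c => Fintype.linearCombination_apply A f c
  -- generation after inverting one element
  obtain ⟨a, ham, ha⟩ : ∃ a : A, a ∉ m ∧ ∀ p, a • p ∈ S := by
    have htop : (⊤ : Submodule A (P ⧸ S)) ≤ m • ⊤ := fun z _ => by
      obtain ⟨z, rfl⟩ := S.mkQ_surjective z
      obtain ⟨u, hu, w, hw, rfl⟩ := Submodule.mem_sup.1 (hsp.ge (Submodule.mem_top (x := z)))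
      rw [map_add, show S.mkQ u = 0 from (Submodule.Quotient.mk_eq_zero S).2 hu, zero_add]
      exact Submodule.smul_mono le_rfl le_top (Submodule.map_smul'' m ⊤ S.mkQ ▸ Submodule.mem_map_of_mem hw)
    obtain ⟨a, ha1, ha⟩ :=
      Submodule.exists_sub_one_mem_and_smul_eq_zero_of_fg_of_le_smul m _ Module.Finite.fg_top htop
    refine ⟨a, fun h => ‹m.IsMaximal›.ne_top ((Ideal.eq_top_iff_one _).2 ?_), fun p => ?_⟩
    · simpa using m.sub_mem h ha1
    · rw [← Submodule.Quotient.mk_eq_zero S, Submodule.Quotient.mk_smul]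
      exact ha _ trivial
  -- relations have coefficients in `m`
  have hrel : ∀ c : Fin n → A, π c = 0 → ∀ i, c i ∈ m := fun c hc i => by
    have h0 := congrArg (Submodule.mkQ (m • (⊤ : Submodule A P))) hc
    rw [hπ, map_sum, map_zero] at h0
    refine Ideal.Quotient.eq_zero_iff_mem.1 (Fintype.linearIndependent_iff.1 hli (fun i => Ideal.Quotient.mk m (c i)) ?_ i)
    refine Eq.trans (Finset.sum_congr rfl fun i _ => ?_) h0
    rw [map_smul]
    rfl
  -- relations are killed by one element outside `m`
  obtain ⟨d, hdm, hd⟩ : ∃ d : A, d ∉ m ∧ ∀ c, π c = 0 → d • c = 0 := by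
    let π' : (Fin n → A) →ₗ[A] S := LinearMap.codRestrict S π fun c => by
      rw [hπ]; exact Submodule.sum_mem _ fun i _ => Submodule.smul_mem _ _ (Submodule.subset_span ⟨i, rfl⟩)
    have hπ' : Function.Surjective π' := fun z => by
      obtain ⟨c, hc⟩ := (Submodule.mem_span_range_iff_exists_fun A).1 z.2
      exact ⟨c, Subtype.ext ((hπ c).trans hc)⟩
    obtain ⟨L, hL⟩ := Module.projective_lifting_property π' (LinearMap.codRestrict S (a • LinearMap.id) ha) hπ'
    have hL' : ∀ p, π (L p) = a • p := fun p => congrArg Subtype.val (LinearMap.congr_fun hL p)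
    let E : (Fin n → A) →ₗ[A] (Fin n → A) := a • LinearMap.id - L ∘ₗ π
    have hE0 : ∀ c, π (E c) = 0 := fun c => by
      change π (a • c - L (π c)) = 0
      rw [map_sub, map_smul, hL', sub_self]
    have hEK : ∀ c, π c = 0 → E c = a • c := fun c hc => by
      change a • c - L (π c) = a • c
      rw [hc, map_zero, sub_zero]
    let X : Matrix (Fin n) (Fin n) A := LinearMap.toMatrix' (a • LinearMap.id - E)
    refine ⟨X.det * a, fun h => ?_, fun c hc => ?_⟩
    · refine ((inferInstance : m.IsPrime).mem_or_mem h).elim (fun hX => ?_) ham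
      have hmap : X.map (Ideal.Quotient.mk m) = Ideal.Quotient.mk m a • (1 : Matrix (Fin n) (Fin n) (A ⧸ m)) := by
        ext i j
        have hij : (E (Pi.single j 1)) i ∈ m := hrel _ (hE0 _) i
        rw [Matrix.map_apply, show X i j = (a • (Pi.single j (1 : A) : Fin n → A)) i - (E (Pi.single j 1)) i from
          LinearMap.toMatrix'_apply _ i j, map_sub, Pi.smul_apply, smul_eq_mul]
        rw [Ideal.Quotient.eq_zero_iff_mem.2 hij, sub_zero]
        by_cases e : i = j
        · subst e; simp
        · simp [Matrix.one_apply_ne e, e]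
      have hdet : Ideal.Quotient.mk m X.det = (Ideal.Quotient.mk m a) ^ n := by
        rw [RingHom.map_det]
        change (X.map (Ideal.Quotient.mk m)).det = _
        rw [hmap, Matrix.det_smul, Matrix.det_one, mul_one, Fintype.card_fin]
      rw [Ideal.Quotient.eq_zero_iff_mem.2 hX] at hdet
      rw [eq_comm, ← map_pow, Ideal.Quotient.eq_zero_iff_mem] at hdet
      exact ham ((inferInstance : m.IsPrime).mem_of_pow_mem n hdet)
    · have h1 : X.mulVecLin (a • c) = 0 := by
        rw [show X.mulVecLin = a • LinearMap.id - E from Matrix.toLin'_toMatrix' _]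
        rw [← hEK c hc]
        change a • E c - E (E c) = 0
        rw [hEK _ (hE0 c), sub_self]
      have h2 := congrArg X.adjugate.mulVec h1
      rw [Matrix.mulVecLin_apply, Matrix.mulVec_mulVec, Matrix.adjugate_mul, Matrix.smul_mulVec,
        Matrix.one_mulVec, Matrix.mulVec_zero] at h2
      rwa [mul_smul]
  -- pass to a homogeneous component
  have hb : a * d ∉ m := fun h => ((inferInstance : m.IsPrime).mem_or_mem h).elim ham hdm
  obtain ⟨j, hj⟩ : ∃ j, (decompose 𝒜 (a * d) j : A) ∉ m := by
    by_contra! hall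
    exact hb ((sum_support_decompose 𝒜 (a * d)).subst (motive := (· ∈ m)) (m.sum_mem fun j _ => hall j))
  refine ⟨decompose 𝒜 (a * d) j, ⟨j, (decompose 𝒜 (a * d) j).2⟩, hj, fun p => ⟨1, ?_⟩, fun c hc => ⟨1, fun i => ?_⟩⟩
  · have hmem : (decompose 𝒜 (a * d) j : A) • p ∈ S := by
      rw [← sum_support_decompose ℳ p, Finset.smul_sum]
      refine Submodule.sum_mem _ fun g _ => ?_
      have h3 := hS ((a * d) • (decompose ℳ p g : P)) (by rw [mul_smul]; exact ha _) (j + g)
      rwa [decompose_smul_mem 𝒜 ℳ _ (decompose ℳ p g).2, add_sub_cancel_right] at h3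
    obtain ⟨e, he⟩ := (Submodule.mem_span_range_iff_exists_fun A).1 hmem
    exact ⟨e, by rw [pow_one, he]⟩
  · rw [pow_one, ← sum_support_decompose 𝒜 (c i), Finset.mul_sum]
    refine Finset.sum_eq_zero fun g _ => ?_
    have hcg : π (fun l => (decompose 𝒜 (c l) (g + wt i - wt l) : A)) = 0 := by
      rw [hπ, ← decompose_combination 𝒜 ℳ hf, hc]
      simp
    have h4 := congrFun (hd _ hcg) i
    simp only [Pi.smul_apply, smul_eq_mul, Pi.zero_apply] at h4
    rw [add_sub_cancel_right] at h4
    have h5 : (a * d) • (decompose 𝒜 (c i) g : A) = 0 := by rw [smul_eq_mul, mul_assoc, h4, mul_zero]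
    have h6 := decompose_smul_mem 𝒜 𝒜 (a * d) (decompose 𝒜 (c i) g).2 (j + g)
    rw [h5, add_sub_cancel_right] at h6
    simpa using h6.symm

end Groth.Agent.S18789
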