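import Groth.Statements.S18790
import Mathlib

set_option autoImplicit false
universe u v w
open TorusGr

namespace Groth.Agent.S18790

/-- Let `A` be a commutative algebra over a field `k`, graded by an additive commutative group `M` (for
`M` the character group of a split torus `T`, a `T`-action on `Spec A`), let `J` be the ideal
generated by the homogeneous elements of non-zero degree (its zero locus is the fixed-point
subscheme) and let `m ⊇ J` be a maximal ideal with residue field `k` (a fixed rational point) at
which the fixed-point subscheme is the reduced point: `J` and `m` agree after localizing at `m`.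
Then the cotangent space `m/m²` has no part of weight zero: every degree-zero element of `m` lies in
`m²`. (The published statement has `M ≅ ℤ^r`, a split torus, and phrases the conclusion as the
non-vanishing of the weights of a semi-invariant basis of `m/m²`; here `M` is any additive
commutative group, i.e. any diagonalizable group.) -/
theorem result
    {k : Type u} [Field k] {M : Type v} [AddCommGroup M] [DecidableEq M]
    {A : Type w} [CommRing A] [Algebra k A] (𝒜 : M → Submodule k A) [GradedAlgebra 𝒜]
    (m : Ideal A) [m.IsMaximal] (hrat : Function.Surjective (algebraMap k (A ⧸ m)))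
    (hfix : ∀ i : M, i ≠ 0 → ∀ a ∈ 𝒜 i, a ∈ m)
    (hred : ∀ a ∈ m, ∃ s ∉ m, s * a ∈ Ideal.span {b : A | ∃ i : M, i ≠ 0 ∧ b ∈ 𝒜 i})
    {f : A} (hf0 : f ∈ 𝒜 0) (hfm : f ∈ m) : f ∈ m ^ 2 := by
  classical
  let pr : A → A := fun x => (DirectSum.decompose 𝒜 x 0 : A)
  have hadd : ∀ x y, pr (x + y) = pr x + pr y := fun x y => by simp [pr, DirectSum.decompose_add]
  have hleft : ∀ {i : M} {a : A}, a ∈ 𝒜 i → ∀ x : A, pr (a * x) = a * (DirectSum.decompose 𝒜 x (-i) : A) := by
    intro i a ha x
    have := DirectSum.coe_decompose_mul_add_of_left_mem (𝒜 := 𝒜) (a := a) (b := x) (i := i) (j := -i) ha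
    rwa [add_neg_cancel] at this
  have hJ : ∀ x ∈ Ideal.span {b : A | ∃ i : M, i ≠ 0 ∧ b ∈ 𝒜 i}, pr x ∈ m ^ 2 := by
    intro x hx
    induction hx using Submodule.span_induction with
    | mem b hb =>
      obtain ⟨i, hi, hb⟩ := hb
      simp only [pr, DirectSum.decompose_of_mem_ne 𝒜 hb hi, zero_mem]
    | zero => simp [pr]
    | add x y _ _ hx hy => rw [hadd]; exact add_mem hx hy
    | smul a x _ hx =>
      rw [smul_eq_mul]
      induction a using DirectSum.Decomposition.inductionOn 𝒜 with
      | zero => simp [pr]
      | homogeneous a =>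
        rename_i i
        rw [hleft a.2]
        rcases eq_or_ne i 0 with rfl | hi
        · rw [neg_zero]; exact Ideal.mul_mem_left _ _ hx
        · rw [pow_two]
          exact Ideal.mul_mem_mul (hfix i hi _ a.2) (hfix _ (neg_ne_zero.mpr hi) _ (SetLike.coe_mem _))
      | add a b ha hb => rw [add_mul, hadd]; exact add_mem ha hb
  obtain ⟨s, hs, hsf⟩ := hred f hfm
  have h0 : pr s * f ∈ m ^ 2 := by
    have := hJ _ hsf
    rw [mul_comm, hleft hf0, neg_zero] at this
    rwa [mul_comm]
  have hs0 : pr s ∉ m := by
    intro h
    refine hs ?_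
    rw [← DirectSum.sum_support_decompose 𝒜 s]
    refine sum_mem fun i _ => ?_
    rcases eq_or_ne i 0 with rfl | hi
    · exact h
    · exact hfix i hi _ (SetLike.coe_mem _)
  obtain ⟨c, hc⟩ := Ideal.IsMaximal.exists_inv (I := m) ‹_› hs0
  obtain ⟨e, he, he'⟩ := hc
  have : f = c * (pr s * f) + e * f := by linear_combination -f * he'
  rw [this]
  refine add_mem (Ideal.mul_mem_left _ _ h0) ?_
  rw [pow_two]
  exact Ideal.mul_mem_mul he hfm

end Groth.Agent.S18790
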