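import Groth.Statements.S18791
import Mathlib

set_option autoImplicit false
universe u v w x
open TorusGr

namespace Groth.Agent.S18791

/-- Let `φ : B → A` be a degree-preserving homomorphism of commutative algebras over a field `k` graded
by an additive commutative group `M` (for `M` the character group of a split torus, an equivariant
morphism `Spec A → Spec B`), and let `m` be a maximal ideal of `A` containing all homogeneous
elements of non-zero degree (a fixed point). Then the ideal of those `b` whose image is zero in the
local ring `A_m` is homogeneous: the homogeneous (weight) components of such a `b` again die in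
`A_m`. Since `A_m` embeds in its completion when `A` is Noetherian, these are the elements of `B`
that die in the completed local ring. (The published lemma asserts moreover that, for `B = k[Y_1, …,
Y_d]` mapping the `Y_i` to semi-invariant lifts of a basis of `m/m²`, the kernel of the induced
surjection of completions `k[[Y]] → Â_m` is generated by semi-invariant polynomials; generation of
that kernel by polynomials can fail, so only the statement about polynomial elements of the kernel
is recorded here. The published statement has `M ≅ ℤ^r` (a split torus) and `B` the polynomial ring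
on the lifts; here `M` is any additive commutative group and `B` any `M`-graded `k`-algebra.) -/
theorem result
    {k : Type u} [Field k] {M : Type v} [AddCommGroup M] [DecidableEq M]
    {A : Type w} [CommRing A] [Algebra k A] (𝒜 : M → Submodule k A) [GradedAlgebra 𝒜]
    {B : Type x} [CommRing B] [Algebra k B] (ℬ : M → Submodule k B) [GradedAlgebra ℬ]
    (φ : B →ₐ[k] A) (hφ : ∀ i : M, ∀ b ∈ ℬ i, φ b ∈ 𝒜 i)
    (m : Ideal A) [m.IsMaximal] (hfix : ∀ i : M, i ≠ 0 → ∀ a ∈ 𝒜 i, a ∈ m) :
    (RingHom.ker ((algebraMap A (Localization.AtPrime m)).comp (φ : B →+* A))).IsHomogeneous ℬ := by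
  classical
  intro i b hb
  let ψ := algebraMap A (Localization.AtPrime m)
  have hb' : ψ (φ b) = 0 := hb
  obtain ⟨⟨s, hs⟩, hsb⟩ := (IsLocalization.map_eq_zero_iff m.primeCompl _ (φ b)).mp hb'
  change ψ (φ (DirectSum.decompose ℬ b i : B)) = 0
  have hφi : ∀ j, φ (DirectSum.decompose ℬ b j : B) = (DirectSum.decompose 𝒜 (φ b) j : A) := by
    intro j
    conv_rhs => rw [← DirectSum.sum_support_decompose ℬ b, map_sum, DirectSum.decompose_sum, DFinsupp.finsetSum_apply,
      AddSubmonoidClass.coe_finsetSum]
    rw [Finset.sum_eq_single j]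
    · rw [DirectSum.decompose_of_mem_same 𝒜 (hφ j _ (SetLike.coe_mem _))]
    · intro l _ hl
      exact DirectSum.decompose_of_mem_ne 𝒜 (hφ l _ (SetLike.coe_mem _)) hl
    · intro hj
      rw [DFinsupp.notMem_support_iff.mp hj, ZeroMemClass.coe_zero, map_zero, DirectSum.decompose_zero]
      simp
  rw [hφi]
  let c : M → Localization.AtPrime m := fun j => ψ (DirectSum.decompose 𝒜 (φ b) j : A)
  let P : Submodule (Localization.AtPrime m) (Localization.AtPrime m) := Submodule.span _ (Set.range c)
  have hfg : P.FG := by
    refine ⟨(insert 0 ((DirectSum.decompose 𝒜 (φ b)).support.image c)), le_antisymm (Submodule.span_le.mpr ?_) (Submodule.span_le.mpr ?_)⟩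
    · intro x hx
      rcases Finset.mem_insert.mp hx with rfl | hx
      · exact P.zero_mem
      · obtain ⟨j, -, rfl⟩ := Finset.mem_image.mp hx
        exact Submodule.subset_span ⟨j, rfl⟩
    · rintro _ ⟨j, rfl⟩
      refine Submodule.subset_span ?_
      by_cases h0 : DirectSum.decompose 𝒜 (φ b) j = 0
      · simp [c, h0, ψ]
      · exact Finset.mem_insert_of_mem (Finset.mem_image_of_mem _ (DFinsupp.mem_support_iff.mpr h0))
  have hs0 : (DirectSum.decompose 𝒜 s 0 : A) ∉ m := by
    intro h
    refine hs ?_
    rw [← DirectSum.sum_support_decompose 𝒜 s]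
    refine sum_mem fun l _ => ?_
    rcases eq_or_ne l 0 with rfl | hl
    · exact h
    · exact hfix l hl _ (SetLike.coe_mem _)
  have hle : P ≤ IsLocalRing.maximalIdeal (Localization.AtPrime m) • P := by
    refine Submodule.span_le.mpr ?_
    rintro _ ⟨j, rfl⟩
    have h0 : (DirectSum.decompose 𝒜 (s * φ b) j : A) = 0 := by rw [hsb, DirectSum.decompose_zero]; rfl
    rw [← DirectSum.sum_support_decompose 𝒜 s, Finset.sum_mul, DirectSum.decompose_sum, DFinsupp.finsetSum_apply,
      AddSubmonoidClass.coe_finsetSum] at h0
    have hterm : ∀ l, (DirectSum.decompose 𝒜 ((DirectSum.decompose 𝒜 s l : A) * φ b) j : A) =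
        (DirectSum.decompose 𝒜 s l : A) * (DirectSum.decompose 𝒜 (φ b) (j - l) : A) := fun l => by
      have := DirectSum.coe_decompose_mul_add_of_left_mem (𝒜 := 𝒜) (b := φ b) (i := l) (j := j - l)
        (SetLike.coe_mem (DirectSum.decompose 𝒜 s l))
      rwa [add_sub_cancel] at this
    simp only [hterm] at h0
    rw [← Finset.sum_erase_add _ _ (DFinsupp.mem_support_iff.mpr fun h => hs0 (by rw [h]; exact m.zero_mem) : (0 : M) ∈ _),
      sub_zero] at h0
    have h1 := congrArg ψ h0
    rw [map_add, map_sum, map_mul, map_zero] at h1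
    have hu : IsUnit (ψ (DirectSum.decompose 𝒜 s 0 : A)) :=
      IsLocalization.map_units (Localization.AtPrime m) (⟨_, hs0⟩ : m.primeCompl)
    change c j ∈ IsLocalRing.maximalIdeal (Localization.AtPrime m) • P
    rw [← Submodule.smul_mem_iff_of_isUnit _ hu, show ψ (DirectSum.decompose 𝒜 s 0 : A) • c j = ψ (DirectSum.decompose 𝒜 s 0 : A) * c j from rfl, eq_neg_of_add_eq_zero_right h1]
    refine neg_mem (Submodule.sum_mem _ fun l hl => ?_)
    rw [map_mul]
    refine Submodule.smul_mem_smul ?_ (Submodule.subset_span ⟨j - l, rfl⟩)
    rw [← Localization.AtPrime.map_eq_maximalIdeal]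
    exact Ideal.mem_map_of_mem _ (hfix l (Finset.mem_erase.mp hl).1 _ (SetLike.coe_mem _))
  have hbot := Submodule.eq_bot_of_le_smul_of_le_jacobson_bot _ P hfg hle (IsLocalRing.maximalIdeal_le_jacobson _)
  exact (Submodule.eq_bot_iff P).mp hbot _ (Submodule.subset_span ⟨i, rfl⟩)

end Groth.Agent.S18791
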