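import Groth.Statements.S18792


set_option autoImplicit false
universe u
open DefMod

namespace Groth.Agent.S18792

/-- Let A be an associative unital algebra over ℚ, let a ∈ A be nilpotent and let b ∈ A. Then the
commutator map x ↦ a x − x a is a nilpotent ℚ-linear endomorphism of A, and exp(a) b exp(−a) =
exp(ad a)(b), where exp is the finite exponential series of a nilpotent element and ad a is the
commutator map. (The published statement takes A an algebra over an arbitrary commutative ring; the
factorials in the exponential series require the rationals to act, so A is taken to be a ℚ-algebra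
here. The intermediate double-sum expansion printed between the two sides is not restated.) -/
theorem result {A : Type u} [Ring A] [Algebra ℚ A] (a b : A)
    (ha : IsNilpotent a) :
    IsNilpotent (LinearMap.mulLeft ℚ a - LinearMap.mulRight ℚ a) ∧
      IsNilpotent.exp a * b * IsNilpotent.exp (-a) =
        IsNilpotent.exp (LinearMap.mulLeft ℚ a - LinearMap.mulRight ℚ a) b := by
  have hL : IsNilpotent (LinearMap.mulLeft ℚ a) := by
    obtain ⟨k, hk⟩ := ha; exact ⟨k, by simp [LinearMap.pow_mulLeft, hk]⟩
  have hR : IsNilpotent (LinearMap.mulRight ℚ a) := by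
    obtain ⟨k, hk⟩ := ha; exact ⟨k, by simp [LinearMap.pow_mulRight, hk]⟩
  have hc : Commute (LinearMap.mulLeft ℚ a) (LinearMap.mulRight ℚ a) :=
    LinearMap.commute_mulLeft_right a a
  refine ⟨Commute.isNilpotent_sub hc hL hR, ?_⟩
  rw [sub_eq_add_neg, IsNilpotent.exp_add_of_commute hc.neg_right hL hR.neg]
  obtain ⟨k, hk⟩ := ha
  have hk' : (-a) ^ k = 0 := by rw [neg_pow, hk, mul_zero]
  have e : -LinearMap.mulRight ℚ a = LinearMap.mulRight ℚ (-a) := by ext y; simp
  rw [e, IsNilpotent.exp_eq_sum hk, IsNilpotent.exp_eq_sum hk',
    IsNilpotent.exp_eq_sum (a := LinearMap.mulLeft ℚ a) (k := k) (by simp [LinearMap.pow_mulLeft, hk]),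
    IsNilpotent.exp_eq_sum (a := LinearMap.mulRight ℚ (-a)) (k := k) (by simp [LinearMap.pow_mulRight, hk'])]
  simp only [Module.End.mul_apply, LinearMap.sum_apply, LinearMap.smul_apply, LinearMap.pow_mulLeft,
    LinearMap.pow_mulRight, LinearMap.mulLeft_apply, LinearMap.mulRight_apply]
  simp only [mul_assoc, Finset.sum_mul, Finset.mul_sum, smul_mul_assoc, mul_smul_comm, Finset.smul_sum]
  rw [Finset.sum_comm]
  exact Finset.sum_congr rfl fun i _ => Finset.sum_congr rfl fun j _ => smul_comm _ _ _

end Groth.Agent.S18792
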