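import Groth.Statements.S18794
import Mathlib.FieldTheory.IsAlgClosed.Basic
import Mathlib.RingTheory.Flat.Basic
import Mathlib.RingTheory.TensorProduct.Free
import Mathlib.LinearAlgebra.Basis.VectorSpace
import Mathlib.LinearAlgebra.TensorProduct.Basis
import Mathlib.FieldTheory.IntermediateField.Adjoin.Basic

set_option autoImplicit false
universe u v w
open scoped TensorProduct
open DefMod

namespace Groth.Agent.S18794

/-- Let E be a left module over an associative algebra D over a field K of characteristic zero. For a
field extension L of K, the base change L ⊗_K E is a module over L ⊗_K D, i.e. an L-vector space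
with a commuting action of D; call it irreducible when it is nonzero and its only L-subspaces stable
under every element of D are 0 and the whole space. Then E is absolutely irreducible (its base
change to an algebraic closure of K is irreducible) if and only if L ⊗_K E is irreducible for every
finite extension L of K. (Finite extensions are taken in the universe of K.) -/
theorem result
    {K : Type u} [Field K] [CharZero K]
    {D : Type v} [Ring D] [Algebra K D]
    {E : Type w} [AddCommGroup E] [Module K E] [Module D E] [IsScalarTower K D E] :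
    (Nontrivial (AlgebraicClosure K ⊗[K] E) ∧ ∀ N : Submodule (AlgebraicClosure K) (AlgebraicClosure K ⊗[K] E), (∀ (d : D) (x : AlgebraicClosure K ⊗[K] E), x ∈ N → (DistribSMul.toLinearMap K E d).baseChange (AlgebraicClosure K) x ∈ N) → N = ⊥ ∨ N = ⊤) ↔
      ∀ (L : Type u) [Field L] [Algebra K L] [FiniteDimensional K L],
        (Nontrivial (L ⊗[K] E) ∧ ∀ N : Submodule (L) (L ⊗[K] E), (∀ (d : D) (x : L ⊗[K] E), x ∈ N → (DistribSMul.toLinearMap K E d).baseChange (L) x ∈ N) → N = ⊥ ∨ N = ⊤) := by
  classical
  let K' := AlgebraicClosure K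
  have hnat : ∀ {L : Type u} [Field L] [Algebra K L] (σ : L →ₐ[K] K') (d : D) (z : L ⊗[K] E),
      TensorProduct.map σ.toLinearMap LinearMap.id ((DistribSMul.toLinearMap K E d).baseChange L z) =
        (DistribSMul.toLinearMap K E d).baseChange K' (TensorProduct.map σ.toLinearMap LinearMap.id z) := by
    intro L _ _ σ d z
    induction z using TensorProduct.induction_on with
    | zero => simp
    | tmul a e => simp
    | add a b ha hb => simp [ha, hb]
  have hsemi : ∀ {L : Type u} [Field L] [Algebra K L] (σ : L →ₐ[K] K') (l : L) (z : L ⊗[K] E),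
      TensorProduct.map σ.toLinearMap LinearMap.id (l • z) =
        σ l • TensorProduct.map σ.toLinearMap LinearMap.id z := by
    intro L _ _ σ l z
    induction z using TensorProduct.induction_on with
    | zero => simp
    | tmul a e => simp [TensorProduct.smul_tmul']
    | add a b ha hb => simp [smul_add, ha, hb]
  have hinj : ∀ {L : Type u} [Field L] [Algebra K L] (σ : L →ₐ[K] K'),
      Function.Injective (TensorProduct.map σ.toLinearMap (LinearMap.id : E →ₗ[K] E)) := fun σ =>
    Module.Flat.rTensor_preserves_injective_linearMap (M := E) σ.toLinearMap σ.toRingHom.injective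
  have hnt' : ∀ (L : Type u) [Field L] [Algebra K L] [Nontrivial E], Nontrivial (L ⊗[K] E) := fun L _ _ _ =>
    ((Module.Flat.rTensor_preserves_injective_linearMap (M := E) (Algebra.linearMap K L)
      (algebraMap K L).injective).comp (TensorProduct.lid K E).symm.injective).nontrivial
  constructor
  · rintro ⟨hnt, hN⟩ L _ _ _
    have : Nontrivial E := by
      by_contra h
      rw [not_nontrivial_iff_subsingleton] at h
      exact not_nontrivial (K' ⊗[K] E) hnt
    refine ⟨hnt' L, fun N hst => ?_⟩
    let σ : L →ₐ[K] K' := IsAlgClosed.lift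
    let ι := TensorProduct.map σ.toLinearMap (LinearMap.id : E →ₗ[K] E)
    let N' : Submodule K' (K' ⊗[K] E) := Submodule.span K' (ι '' N)
    have hst' : ∀ (d : D) (x : K' ⊗[K] E), x ∈ N' → (DistribSMul.toLinearMap K E d).baseChange K' x ∈ N' := by
      intro d x hx
      induction hx using Submodule.span_induction with
      | mem x hx =>
        obtain ⟨y, hy, rfl⟩ := hx
        exact Submodule.subset_span ⟨_, hst d y hy, hnat σ d y⟩
      | zero => simp
      | add a b _ _ ha hb => rw [map_add]; exact add_mem ha hb
      | smul c a _ ha => rw [map_smul]; exact Submodule.smul_mem _ _ ha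
    rcases hN N' hst' with h | h
    · refine Or.inl ((Submodule.eq_bot_iff _).2 fun x hx => hinj σ ?_)
      have h1 : ι x ∈ N' := Submodule.subset_span ⟨x, hx, rfl⟩
      rw [h, Submodule.mem_bot] at h1
      simpa [ι] using h1
    · refine Or.inr ?_
      by_contra hne
      obtain ⟨ℓ, hℓ, hle⟩ := N.exists_le_ker_of_lt_top (lt_top_iff_ne_top.2 hne)
      let _ : Algebra L K' := σ.toRingHom.toAlgebra
      have : IsScalarTower K L K' := IsScalarTower.of_algebraMap_eq fun c => (σ.commutes c).symm
      let ℓ' : K' ⊗[K] E →ₗ[K'] K' := LinearMap.liftBaseChange K'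
        ((σ.toLinearMap ∘ₗ ℓ.restrictScalars K) ∘ₗ TensorProduct.mk K L E 1)
      have hℓ' : ∀ z, ℓ' (ι z) = σ (ℓ z) := by
        intro z
        induction z using TensorProduct.induction_on with
        | zero => simp
        | tmul a e =>
          rw [show a ⊗ₜ[K] e = a • ((1 : L) ⊗ₜ[K] e) by rw [TensorProduct.smul_tmul', smul_eq_mul, mul_one]]
          show ℓ' (TensorProduct.map σ.toLinearMap LinearMap.id (a • _)) = _
          rw [hsemi, map_smul, map_smul, smul_eq_mul, smul_eq_mul, map_mul]
          simp [ℓ']
        | add a b ha hb => simp [ha, hb]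
      have hz : N' ≤ LinearMap.ker ℓ' := Submodule.span_le.2 fun x hx => by
        obtain ⟨y, hy, rfl⟩ := hx
        show ℓ' (ι y) = 0
        rw [hℓ', show ℓ y = 0 from hle hy, map_zero]
      rw [h] at hz
      refine hℓ (LinearMap.ext fun z => σ.toRingHom.injective ?_)
      show σ (ℓ z) = σ 0
      rw [← hℓ', map_zero]
      exact hz (Submodule.mem_top (x := ι z))
  · intro H
    have : Nontrivial E := by
      by_contra h
      rw [not_nontrivial_iff_subsingleton] at h
      exact not_nontrivial (K ⊗[K] E) (H K).1
    refine ⟨hnt' K', fun N hst => ?_⟩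
    refine or_iff_not_imp_left.2 fun hne => ?_
    obtain ⟨x, hx, hx0⟩ := N.exists_mem_ne_zero_of_ne_bot hne
    let bE := Module.Basis.ofVectorSpace K E
    let co := TensorProduct.equivFinsuppOfBasisRight (M := K') bE x
    let L : IntermediateField K K' := IntermediateField.adjoin K (co.frange : Set K')
    have : FiniteDimensional K L :=
      IntermediateField.finiteDimensional_adjoin fun a _ => Algebra.IsIntegral.isIntegral a
    let ι := TensorProduct.map (L.val).toLinearMap (LinearMap.id : E →ₗ[K] E)
    let NL : Submodule L (↥L ⊗[K] E) :=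
      { carrier := {z | ι z ∈ N}
        zero_mem' := by simp
        add_mem' := fun {a b} ha hb => by simpa using add_mem ha hb
        smul_mem' := fun l z hz => by
          show ι (l • z) ∈ N
          rw [show ι (l • z) = L.val l • ι z from hsemi L.val l z]
          exact N.smul_mem _ hz }
    have hNL : ∀ (d : D) (z : ↥L ⊗[K] E), z ∈ NL → (DistribSMul.toLinearMap K E d).baseChange (↥L) z ∈ NL := by
      intro d z hz
      show ι _ ∈ N
      rw [show ι _ = _ from hnat L.val d z]
      exact hst d _ hz
    have hmem : ∀ i ∈ co.support, co i ∈ L := fun i hi => by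
      refine IntermediateField.subset_adjoin K _ ?_
      simp only [Finset.mem_coe, Finsupp.mem_frange]
      exact ⟨Finsupp.mem_support_iff.1 hi, i, rfl⟩
    obtain ⟨z, hz⟩ : ∃ z, ι z = x := by
      refine ⟨∑ i ∈ co.support.attach, (⟨co i, hmem i i.2⟩ : L) ⊗ₜ bE i, ?_⟩
      rw [map_sum]
      conv_rhs => rw [← (TensorProduct.equivFinsuppOfBasisRight (M := K') bE).symm_apply_apply x,
        TensorProduct.equivFinsuppOfBasisRight_symm_apply, Finsupp.sum, ← Finset.sum_attach]
      exact Finset.sum_congr rfl fun i _ => by simp [ι, co]
    have hzN : z ∈ NL := by show ι z ∈ N; rw [hz]; exact hx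
    have htop : NL = ⊤ := ((H L).2 NL hNL).resolve_left fun h => hx0 (by
      rw [h, Submodule.mem_bot] at hzN
      rw [← hz, hzN, map_zero])
    rw [eq_top_iff]
    rintro y -
    induction y using TensorProduct.induction_on with
    | zero => simp
    | tmul a e =>
      have h1 : ((1 : L) ⊗ₜ[K] e) ∈ NL := by rw [htop]; trivial
      have h2 : (1 : K') ⊗ₜ[K] e ∈ N := by
        have : ι ((1 : L) ⊗ₜ[K] e) ∈ N := h1
        simpa [ι] using this
      rw [show a ⊗ₜ[K] e = a • ((1 : K') ⊗ₜ[K] e) by rw [TensorProduct.smul_tmul', smul_eq_mul, mul_one]]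
      exact N.smul_mem _ h2
    | add a b ha hb => exact add_mem ha hb

end Groth.Agent.S18794
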