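import Groth.Statements.S18795
import Mathlib.FieldTheory.Minpoly.Field
import Mathlib.RingTheory.TensorProduct.Free
import Mathlib.RingTheory.Flat.Basic
import Mathlib.FieldTheory.IsAlgClosed.Basic
import Mathlib.LinearAlgebra.Basis.VectorSpace

set_option autoImplicit false
universe u v w
open scoped TensorProduct
open DefMod

namespace Groth.Agent.S18795
universe uL uV

theorem exists_eigen {L : Type uL} {V : Type uV} [Field L] [IsAlgClosed L] [AddCommGroup V] [Module L V]
    [Nontrivial V] (f : Module.End L V) (hf : IsIntegral L f) :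
    ∃ (μ : L) (v : V), v ≠ 0 ∧ f v = μ • v := by
  obtain ⟨μ, hμ⟩ := IsAlgClosed.exists_root (minpoly L f) (minpoly.degree_pos hf).ne'
  obtain ⟨q, hq⟩ := Polynomial.dvd_iff_isRoot.2 hμ
  have hne : q ≠ 0 := fun h => minpoly.ne_zero hf (by rw [hq, h, mul_zero])
  have hq0 : Polynomial.aeval f q ≠ 0 := fun h => by
    have hle := Polynomial.natDegree_le_of_dvd (minpoly.dvd L f h) hne
    rw [hq, Polynomial.natDegree_mul (Polynomial.X_sub_C_ne_zero μ) hne, Polynomial.natDegree_X_sub_C] at hle
    omega
  obtain ⟨x, hx⟩ : ∃ x, Polynomial.aeval f q x ≠ 0 := by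
    by_contra h
    exact hq0 (LinearMap.ext fun x => not_not.1 fun hx => h ⟨x, hx⟩)
  refine ⟨μ, _, hx, ?_⟩
  have h0 := minpoly.aeval L f
  rw [hq, map_mul, map_sub, Polynomial.aeval_X, Polynomial.aeval_C] at h0
  have := LinearMap.congr_fun h0 x
  simpa [sub_eq_zero, Module.algebraMap_end_apply] using this

open TensorProduct

/-- Let E be a left module over an associative algebra D over a field K of characteristic zero. Assume
that the D-linear endomorphisms of E form a finite-dimensional K-vector space, that E has a finite
presentation over D, and that E is absolutely irreducible: its base change K̄ ⊗_K E to an algebraic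
closure K̄ of K is nonzero and its only K̄-subspaces stable under every element of D are 0 and the
whole space. Then End_D(E) = K: every D-linear endomorphism of E is multiplication by a scalar from
K. -/
theorem result
    {K : Type u} [Field K] [CharZero K]
    {D : Type v} [Ring D] [Algebra K D]
    {E : Type w} [AddCommGroup E] [Module K E] [Module D E] [IsScalarTower K D E]
    [Module.Finite K (E →ₗ[D] E)] [Module.FinitePresentation D E]
    (habs : (Nontrivial (AlgebraicClosure K ⊗[K] E) ∧ ∀ N : Submodule (AlgebraicClosure K) (AlgebraicClosure K ⊗[K] E), (∀ (d : D) (x : AlgebraicClosure K ⊗[K] E), x ∈ N → (DistribSMul.toLinearMap K E d).baseChange (AlgebraicClosure K) x ∈ N) → N = ⊥ ∨ N = ⊤))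
    (φ : E →ₗ[D] E) : ∃ c : K, ∀ x : E, φ x = c • x := by
  classical
  obtain ⟨hnt, hN⟩ := habs
  let φ' : Module.End D E := φ
  let F : Module.End D E →ₐ[K] Module.End (AlgebraicClosure K) (AlgebraicClosure K ⊗[K] E) :=
    { toFun := fun f => (f.restrictScalars K).baseChange (AlgebraicClosure K)
      map_one' := by ext; simp
      map_mul' := fun f g => by ext; simp
      map_zero' := by ext; simp
      map_add' := fun f g => by ext; simp
      commutes' := fun c => by
        ext e
        simp [Module.algebraMap_end_apply, TensorProduct.tmul_smul] }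
  have hint : IsIntegral (AlgebraicClosure K) (F φ') := by
    obtain ⟨p, hp, hp0⟩ := Algebra.IsIntegral.isIntegral (R := K) φ'
    rw [← Polynomial.aeval_def] at hp0
    exact ⟨p.map (algebraMap K (AlgebraicClosure K)), hp.map _, by
      rw [← Polynomial.aeval_def, Polynomial.aeval_map_algebraMap, Polynomial.aeval_algHom_apply, hp0, map_zero]⟩
  obtain ⟨μ, v, hv0, hv⟩ := exists_eigen (F φ') hint
  have hcommD : ∀ (d : D) (x : (AlgebraicClosure K ⊗[K] E)), F φ' ((DistribSMul.toLinearMap K E d).baseChange (AlgebraicClosure K) x) =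
      (DistribSMul.toLinearMap K E d).baseChange (AlgebraicClosure K) (F φ' x) := by
    intro d x
    induction x using TensorProduct.induction_on with
    | zero => simp
    | tmul a e => simp [F, φ']
    | add a b ha hb => rw [map_add, map_add, map_add, map_add, ha, hb]
  have htop : LinearMap.ker (F φ' - μ • LinearMap.id) = ⊤ := by
    refine (hN _ fun d x hx => ?_).resolve_left fun hbot => ?_
    · rw [LinearMap.mem_ker] at hx ⊢
      simp only [LinearMap.sub_apply, LinearMap.smul_apply, LinearMap.id_apply, sub_eq_zero] at hx ⊢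
      rw [hcommD, hx, map_smul]
    · refine hv0 ?_
      rw [← Submodule.mem_bot (R := AlgebraicClosure K), ← hbot, LinearMap.mem_ker, LinearMap.sub_apply,
        LinearMap.smul_apply, LinearMap.id_apply, hv, sub_self]
  have heq : ∀ x : (AlgebraicClosure K ⊗[K] E), F φ' x = μ • x := fun x => by
    have h : x ∈ LinearMap.ker (F φ' - μ • LinearMap.id) := by rw [htop]; trivial
    simpa [LinearMap.mem_ker, sub_eq_zero] using h
  let bE := Module.Basis.ofVectorSpace K E
  let b' := Algebra.TensorProduct.basis (AlgebraicClosure K) bE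
  obtain ⟨i⟩ : Nonempty (Module.Basis.ofVectorSpaceIndex K E) := b'.index_nonempty
  have h := congrArg (fun x => b'.repr x i) (heq ((1 : (AlgebraicClosure K)) ⊗ₜ bE i))
  refine ⟨bE.repr (φ (bE i)) i, fun x => ?_⟩
  have hμc : algebraMap K (AlgebraicClosure K) (bE.repr (φ (bE i)) i) = μ := by
    have h1 : F φ' ((1 : (AlgebraicClosure K)) ⊗ₜ bE i) = (1 : (AlgebraicClosure K)) ⊗ₜ φ (bE i) := LinearMap.baseChange_tmul _ _ _
    simp only [b', h1, map_smul, Finsupp.smul_apply, Algebra.TensorProduct.basis_repr_tmul] at h
    simpa [Finsupp.mapRange_apply, Algebra.smul_def] using h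
  have hx := heq ((1 : (AlgebraicClosure K)) ⊗ₜ x)
  rw [← hμc, algebraMap_smul, ← TensorProduct.tmul_smul] at hx
  exact Module.Flat.rTensor_preserves_injective_linearMap (M := E) (Algebra.linearMap K (AlgebraicClosure K))
    (algebraMap K (AlgebraicClosure K)).injective |> fun hinj => (TensorProduct.lid K E).symm.injective (hinj (by
      simpa [F, φ'] using hx))

end Groth.Agent.S18795
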