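import Groth.Statements.S18796
import Mathlib.LinearAlgebra.Basis.VectorSpace
import Mathlib.LinearAlgebra.TensorProduct.Basis

set_option autoImplicit false
universe u v w w' u'
open scoped TensorProduct
open DefMod

namespace Groth.Agent.S18796

/-- Let K be a field of characteristic zero, D an associative K-algebra, E a left D-module that is
finitely presented over D, F a left D-module and P a commutative K-algebra. The canonical P-linear
map Φ : P ⊗_K Hom_D(E, F) → Hom_P(P ⊗_K E, P ⊗_K F), determined by p ⊗ f ↦ p · (1_P ⊗ f), is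
injective, and its image consists exactly of the P-linear maps that commute with the action of every
element of D; in other words Φ identifies P ⊗_K Hom_D(E, F) with the module of homomorphisms P ⊗_K E
→ P ⊗_K F over P ⊗_K D. The map Φ is pinned here by its values on pure tensors. -/
theorem result
    {K : Type u} [Field K] [CharZero K]
    {D : Type v} [Ring D] [Algebra K D]
    {E : Type w} [AddCommGroup E] [Module K E] [Module D E] [IsScalarTower K D E]
    [Module.FinitePresentation D E]
    {F : Type w'} [AddCommGroup F] [Module K F] [Module D F] [IsScalarTower K D F]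
    (P : Type u') [CommRing P] [Algebra K P]
    (Φ : P ⊗[K] (E →ₗ[D] F) →ₗ[P] (P ⊗[K] E →ₗ[P] P ⊗[K] F))
    (hΦ : ∀ (p : P) (f : E →ₗ[D] F), Φ (p ⊗ₜ[K] f) = p • (f.restrictScalars K).baseChange P) :
    Function.Injective Φ ∧
      ∀ g : P ⊗[K] E →ₗ[P] P ⊗[K] F,
        g ∈ LinearMap.range Φ ↔
          ∀ d : D, g ∘ₗ (DistribSMul.toLinearMap K E d).baseChange P =
            (DistribSMul.toLinearMap K F d).baseChange P ∘ₗ g := by
  classical
  let b := Module.Basis.ofVectorSpace K P
  have hΦeval : ∀ (z : P ⊗[K] (E →ₗ[D] F)) (e : E) (i : Module.Basis.ofVectorSpaceIndex K P),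
      TensorProduct.equivFinsuppOfBasisLeft b (Φ z (1 ⊗ₜ e)) i =
        TensorProduct.equivFinsuppOfBasisLeft b z i e := by
    intro z e i
    induction z using TensorProduct.induction_on with
    | zero => simp
    | tmul p f => simp [hΦ, TensorProduct.smul_tmul']
    | add x y hx hy => simp [hx, hy]
  refine ⟨?_, fun g => ⟨?_, fun hg => ?_⟩⟩
  · rw [injective_iff_map_eq_zero]
    intro z hz
    apply (TensorProduct.equivFinsuppOfBasisLeft b).injective
    ext i e
    rw [← hΦeval, hz]
    simp
  · rintro ⟨z, rfl⟩ d
    refine TensorProduct.AlgebraTensorModule.ext fun p e => ?_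
    induction z using TensorProduct.induction_on with
    | zero => simp
    | tmul q f => simp [hΦ, TensorProduct.smul_tmul']
    | add x y hx hy =>
      simp only [LinearMap.comp_apply, map_add, LinearMap.add_apply] at hx hy ⊢
      rw [hx, hy]
  have hc : ∀ (d : D) (w : P ⊗[K] F) (i : Module.Basis.ofVectorSpaceIndex K P),
      TensorProduct.equivFinsuppOfBasisLeft b ((DistribSMul.toLinearMap K F d).baseChange P w) i =
        d • TensorProduct.equivFinsuppOfBasisLeft b w i := by
    intro d w i
    induction w using TensorProduct.induction_on with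
    | zero => simp
    | tmul p x =>
      simp only [LinearMap.baseChange_tmul, DistribSMul.toLinearMap_apply,
        TensorProduct.equivFinsuppOfBasisLeft_apply_tmul_apply]
      exact smul_comm _ _ _
    | add x y hx hy => simp [hx, hy, smul_add]
  let gi : Module.Basis.ofVectorSpaceIndex K P → (E →ₗ[D] F) := fun i =>
    { toFun := fun e => TensorProduct.equivFinsuppOfBasisLeft b (g (1 ⊗ₜ e)) i
      map_add' := fun e e' => by simp [TensorProduct.tmul_add]
      map_smul' := fun d e => by
        have h := LinearMap.congr_fun (hg d) (1 ⊗ₜ e)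
        simp only [LinearMap.comp_apply, LinearMap.baseChange_tmul, DistribSMul.toLinearMap_apply] at h
        rw [h, hc, RingHom.id_apply] }
  obtain ⟨s, hs⟩ := (Module.Finite.fg_top : (⊤ : Submodule D E).FG)
  let S := s.biUnion fun e => (TensorProduct.equivFinsuppOfBasisLeft b (g (1 ⊗ₜ e))).support
  have hzero : ∀ i ∉ S, gi i = 0 := by
    intro i hi
    refine LinearMap.ext_on hs fun e he => ?_
    show TensorProduct.equivFinsuppOfBasisLeft b (g (1 ⊗ₜ e)) i = 0
    simp only [S, Finset.mem_biUnion, not_exists, not_and] at hi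
    exact Finsupp.notMem_support_iff.1 (hi e he)
  refine ⟨∑ i ∈ S, b i ⊗ₜ gi i, TensorProduct.AlgebraTensorModule.ext fun p e => ?_⟩
  rw [show p ⊗ₜ[K] e = p • ((1 : P) ⊗ₜ[K] e) by rw [TensorProduct.smul_tmul', smul_eq_mul, mul_one],
    map_smul, map_smul]
  congr 1
  apply (TensorProduct.equivFinsuppOfBasisLeft b).injective
  ext i
  rw [hΦeval]
  simp only [map_sum, Finsupp.coe_finsetSum, Finset.sum_apply, LinearMap.coe_sum]
  rw [Finset.sum_eq_single i]
  · simp [gi]
  · intro j _ hj; simp [Finsupp.single_apply, hj]
  · intro hi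
    rw [hzero i hi]; simp

end Groth.Agent.S18796
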