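import Groth.Statements.S18802
import Mathlib.Algebra.Module.Projective
import Mathlib.LinearAlgebra.Basis.VectorSpace
import Mathlib.Tactic.Abel

set_option autoImplicit false
universe u v w w' w''
open DefMod

namespace Groth.Agent.S18802

/-- Let K be a field of characteristic zero, D an associative K-algebra and E, F left D-modules. A
K-linear map s : D → Hom_K(E, F) with s(ab)(e) = a s(b)(e) + s(a)(b e) (a derivation into the
bimodule Hom_K(E, F), i.e. a Hochschild 1-cocycle) defines the twisted sum F ⊕_s E = F × E with a ·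
(f, e) = (a f + s(a) e, a e), an extension of E by F. Every extension of left D-modules 0 → F → Q →
E → 0 arises this way: there are such an s and a D-linear isomorphism Q ≅ F ⊕_s E carrying the given
map F → Q to the inclusion f ↦ (f, 0) and compatible with the two projections onto E. (Together with
the splitting criterion this identifies derivations modulo principal derivations with Ext¹_D(E, F);
the compatibility of that identification with addition and scalars is not restated.) -/
theorem result
    {K : Type u} [Field K] [CharZero K]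
    {D : Type v} [Ring D] [Algebra K D]
    {E : Type w} [AddCommGroup E] [Module K E] [Module D E] [IsScalarTower K D E]
    {F : Type w'} [AddCommGroup F] [Module K F] [Module D F] [IsScalarTower K D F]
    {Q : Type w''} [AddCommGroup Q] [Module D Q]
    (i : F →ₗ[D] Q) (p : Q →ₗ[D] E) (hi : Function.Injective i) (hp : Function.Surjective p)
    (hex : Function.Exact i p) :
    ∃ (s : D →ₗ[K] E →ₗ[K] F) (hs : W4c6defoisocp1.IsHomDerivation s) (Φ : Q ≃ₗ[D] W4c6defoisocp1.TwistExt s hs),
      (∀ f : F, Φ (i f) = W4c6defoisocp1.TwistExt.inl f) ∧ ∀ q : Q, W4c6defoisocp1.TwistExt.snd (Φ q) = p q := by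
  let _ : Module K Q := Module.compHom Q (algebraMap K D)
  have _ : IsScalarTower K D Q := ⟨fun k d x => by
    show (k • d) • x = algebraMap K D k • d • x
    rw [Algebra.smul_def, mul_smul]⟩
  let pK : Q →ₗ[K] E := p.restrictScalars K
  obtain ⟨σ, hσ⟩ := LinearMap.exists_rightInverse_of_surjective (f := pK) (LinearMap.range_eq_top.2 hp)
  have hσ' : ∀ e, p (σ e) = e := fun e => LinearMap.congr_fun hσ e
  have hpi : ∀ x, p (i x) = 0 := hex.apply_apply_eq_zero
  have hex0 : ∀ (d : D) (e : E), d • σ e - σ (d • e) ∈ LinearMap.range (i.restrictScalars K) := by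
    intro d e
    exact (hex _).1 (by rw [map_sub, map_smul, hσ', hσ', sub_self])
  let ie : F ≃ₗ[K] LinearMap.range (i.restrictScalars K) := LinearEquiv.ofInjective _ hi
  have hie : ∀ z, i (ie.symm z) = (z : Q) := fun z =>
    congrArg Subtype.val (ie.apply_symm_apply z)
  let s : D →ₗ[K] E →ₗ[K] F := LinearMap.mk₂ K (fun d e => ie.symm ⟨_, hex0 d e⟩)
    (fun d₁ d₂ e => hi (by simp only [map_add, hie, add_smul]; abel))
    (fun k d e => hi (by
      simp only [map_smul, hie, smul_sub, smul_assoc, LinearMap.map_smul_of_tower]))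
    (fun d e₁ e₂ => hi (by simp only [map_add, hie, smul_add]; abel))
    (fun k d e => hi (by
      simp only [hie, LinearMap.map_smul_of_tower, map_smul, smul_sub, smul_comm d k]))
  have his : ∀ d e, i (s d e) = d • σ e - σ (d • e) := fun d e => hie _
  have hs : W4c6defoisocp1.IsHomDerivation s := fun a b e => hi (by
    simp only [map_add, map_smul, his, mul_smul, smul_sub]; abel)
  let Ψ : W4c6defoisocp1.TwistExt s hs →ₗ[D] Q :=
    { toFun := fun x => i (W4c6defoisocp1.TwistExt.val x).1 + σ (W4c6defoisocp1.TwistExt.val x).2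
      map_add' := fun x y => by simp; abel
      map_smul' := fun d x => by simp [his, smul_add]; abel }
  have hp2 : ∀ x, p (Ψ x) = (W4c6defoisocp1.TwistExt.val x).2 := fun x => by simp [Ψ, hpi, hσ']
  have hΨ : Function.Bijective Ψ := by
    refine ⟨(injective_iff_map_eq_zero Ψ).2 fun x hx => ?_, fun q => ?_⟩
    · have h2 : (W4c6defoisocp1.TwistExt.val x).2 = 0 := by rw [← hp2, hx, map_zero]
      refine W4c6defoisocp1.TwistExt.ext (hi ?_) h2
      simpa [Ψ, h2] using hx
    · obtain ⟨f, hf⟩ := (hex _).1 (show p (q - σ (p q)) = 0 by rw [map_sub, hσ', sub_self])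
      exact ⟨W4c6defoisocp1.TwistExt.mk (f, p q), by simp [Ψ, hf]⟩
  refine ⟨s, hs, (LinearEquiv.ofBijective Ψ hΨ).symm, fun f => ?_, fun q => ?_⟩
  · rw [LinearEquiv.symm_apply_eq]
    simp [Ψ]
  · obtain ⟨x, rfl⟩ := hΨ.2 q
    rw [show (LinearEquiv.ofBijective Ψ hΨ).symm (Ψ x) = x from
      (LinearEquiv.ofBijective Ψ hΨ).symm_apply_apply x, hp2]
    simp

end Groth.Agent.S18802
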