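import Groth.Statements.S18803


set_option autoImplicit false
universe u v w w'
open DefMod

namespace Groth.Agent.S18803

/-- Let K be a field of characteristic zero, D an associative K-algebra, E and F left D-modules, and s :
D → Hom_K(E, F) a K-linear map with s(ab)(e) = a s(b)(e) + s(a)(b e). The twisted sum F ⊕_s E (that
is F × E with a · (f, e) = (a f + s(a) e, a e)) is a trivial extension of E by F — there is a
D-linear isomorphism F ⊕_s E ≅ F × E with the direct-sum module structure, carrying the inclusion f
↦ (f, 0) to itself and compatible with the second projections — if and only if s is principal: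
s(a)(e) = a σ(e) − σ(a e) for some K-linear σ : E → F (a Hochschild 1-coboundary). -/
theorem result
    {K : Type u} [Field K] [CharZero K]
    {D : Type v} [Ring D] [Algebra K D]
    {E : Type w} [AddCommGroup E] [Module K E] [Module D E] [IsScalarTower K D E]
    {F : Type w'} [AddCommGroup F] [Module K F] [Module D F] [IsScalarTower K D F]
    (s : D →ₗ[K] E →ₗ[K] F) (hs : W4c6defoisocp1.IsHomDerivation s) :
    (∃ Ψ : W4c6defoisocp1.TwistExt s hs ≃ₗ[D] F × E,
        (∀ f : F, Ψ (W4c6defoisocp1.TwistExt.inl f) = (f, 0)) ∧ ∀ x : W4c6defoisocp1.TwistExt s hs, (Ψ x).2 = W4c6defoisocp1.TwistExt.snd x) ↔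
      W4c6defoisocp1.IsPrincipal s := by
  constructor
  · rintro ⟨Ψ, h1, h2⟩
    have key : ∀ x : W4c6defoisocp1.TwistExt s hs,
        (Ψ x).1 = (W4c6defoisocp1.TwistExt.val x).1 +
          (Ψ (W4c6defoisocp1.TwistExt.mk (0, (W4c6defoisocp1.TwistExt.val x).2))).1 := by
      intro x
      have hx : x = W4c6defoisocp1.TwistExt.inl (W4c6defoisocp1.TwistExt.val x).1 +
          W4c6defoisocp1.TwistExt.mk (0, (W4c6defoisocp1.TwistExt.val x).2) :=
        W4c6defoisocp1.TwistExt.ext (by simp) (by simp)
      conv_lhs => rw [hx, map_add, h1]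
      rfl
    let σ : E →ₗ[K] F :=
      { toFun := fun e => (Ψ (W4c6defoisocp1.TwistExt.mk (0, e))).1
        map_add' := fun e e' => by
          rw [← Prod.fst_add, ← map_add]
          congr 2
          exact W4c6defoisocp1.TwistExt.ext (by simp) (by simp)
        map_smul' := fun k e => by
          rw [RingHom.id_apply, ← algebraMap_smul D k (Ψ _).1, ← Prod.smul_fst, ← map_smul]
          congr 2
          refine W4c6defoisocp1.TwistExt.ext ?_ (by simp)
          simp [Algebra.algebraMap_eq_smul_one, W4c6defoisocp1.TwistExt.map_one_eq_zero hs] }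
    refine ⟨σ, fun a e => ?_⟩
    have h := key (a • W4c6defoisocp1.TwistExt.mk (0, e))
    rw [map_smul, Prod.smul_fst] at h
    simp at h
    exact eq_sub_of_add_eq h.symm
  · rintro ⟨σ, hσ⟩
    refine ⟨
      { toFun := fun x => ((W4c6defoisocp1.TwistExt.val x).1 + σ (W4c6defoisocp1.TwistExt.val x).2,
          (W4c6defoisocp1.TwistExt.val x).2)
        invFun := fun x => W4c6defoisocp1.TwistExt.mk (x.1 - σ x.2, x.2)
        map_add' := fun x y => by simp; abel
        map_smul' := fun a x => by simp [hσ, smul_add]; abel
        left_inv := fun x => W4c6defoisocp1.TwistExt.ext (by simp) (by simp)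
        right_inv := fun x => by simp }, fun f => by simp, fun x => by simp⟩

end Groth.Agent.S18803
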