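import Groth.Statements.S18804
import Groth.Agent.JacPts.CurveDiv

set_option autoImplicit false
universe u
open CategoryTheory CategoryTheory.Limits AlgebraicGeometry
open Curves
set_option backward.isDefEq.respectTransparency false
set_option backward.isDefEq.respectTransparency.types false
set_option maxHeartbeats 800000
open FunFld Groth.Agent Groth.Agent.FFCurve Groth.Agent.JacPts

namespace Groth.Agent.S18804

/-- Let k be an algebraically closed field of characteristic zero, X a smooth proper integral curve over
k (integral, proper and smooth over k, of dimension one) of genus g, and L an invertible O_X-module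
of degree deg L = χ(L) − χ(O_X) at least 2g + 3. Then L is 3-very ample: every closed subscheme Z of
X of length 4 imposes independent conditions on H^0(X, L), stated as dim_k H^0(X, L ⊗ I) + 4 = dim_k
H^0(X, L) for every quasi-coherent ideal I of O_X with dim_k H^0(X, O_X/I) = 4. -/
theorem result
    (k : Type u) [Field k] [IsAlgClosed k] [CharZero k]
    (X : Scheme.{u}) [X.Over (Spec (CommRingCat.of k))] [IsIntegral X]
    [IsProper (X ↘ Spec (CommRingCat.of k))] [Smooth (X ↘ Spec (CommRingCat.of k))]
    (hdim : topologicalKrullDim X = 1)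
    (L : X.Modules) (hL : PicF.IsInvertible L)
    (hdeg : 2 * (Curv2.genus k X : ℤ) + 3 ≤ Curv2.deg k X L 1)
    (I : X.IdealSheafData) (hI : Module.finrank k (Coh.HH X (ClSub.quotMod I) 0) = 4) :
    Module.finrank k (Coh.HH X (CohB1.tensorMod L (ClSub.idealMod I)) 0) + 4 =
      Module.finrank k (Coh.HH X L 0) := by
  haveI := regCurve_of_smooth (X := X) k hdim
  have hK := isFF' (X := X) k hdim
  obtain ⟨hIi, hdI⟩ := CurveDiv.deg_idealMod k hdim (CurveDiv.ne_bot_of_finrank k hdim (by rw [hI]; decide))
  rw [hI] at hdI
  have hLI := AmpleLib.isInvertible_tensorMod hL hIi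
  rw [deg_eq k hdim hK hIi] at hdI
  rw [deg_eq k hdim hK hL, genus_eq_genus k hdim hK] at hdeg
  rw [finrank_zero k hdim hK hLI, finrank_zero k hdim hK hL, DivEq.ell_eq k hdim (divEq_tensor k hdim hL hIi)]
  have h1 := FF.ell_eq_of_deg_ge hK (D := divOf k hdim hL + divOf k hdim hIi) (by rw [FF.deg_add]; omega)
  have h2 := FF.ell_eq_of_deg_ge hK (D := divOf k hdim hL) (by omega)
  rw [FF.deg_add] at h1
  omega

end Groth.Agent.S18804
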