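import Groth.Statements.S18805
import Groth.Agent.JacPts.CurveDiv
import Groth.Agent.PicLaw.Swap

set_option autoImplicit false
universe u
open CategoryTheory CategoryTheory.Limits AlgebraicGeometry
open Curves
set_option backward.isDefEq.respectTransparency false
set_option backward.isDefEq.respectTransparency.types false
set_option maxHeartbeats 800000
open FunFld Groth.Agent Groth.Agent.FFCurve Groth.Agent.JacPts

namespace Groth.Agent.S18805

/-- Let k be an algebraically closed field of characteristic zero and X a smooth proper integral curve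
over k (integral, proper and smooth over k, of dimension one), with sheaf of differentials ω =
Ω_(X/k). Then ω is 3-very ample, meaning dim_k H^0(X, ω ⊗ I) + 4 = dim_k H^0(X, ω) for every
quasi-coherent ideal I of O_X with dim_k H^0(X, O_X/I) = 4, if and only if X carries no g^1_4,
meaning that for every such I (the ideal of an effective divisor D of degree 4) every module M with
I ⊗ M ≅ O_X (so M plays the role of O_X(D)) has dim_k H^0(X, M) = 1. -/
theorem result
    (k : Type u) [Field k] [IsAlgClosed k] [CharZero k]
    (X : Scheme.{u}) [X.Over (Spec (CommRingCat.of k))] [IsIntegral X]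
    [IsProper (X ↘ Spec (CommRingCat.of k))] [Smooth (X ↘ Spec (CommRingCat.of k))]
    (hdim : topologicalKrullDim X = 1) :
    (∀ (I : X.IdealSheafData), Module.finrank k (Coh.HH X (ClSub.quotMod I) 0) = 4 →
      Module.finrank k (Coh.HH X (CohB1.tensorMod (Omega.sheaf (X ↘ Spec (CommRingCat.of k))) (ClSub.idealMod I)) 0) + 4 =
        Module.finrank k (Coh.HH X (Omega.sheaf (X ↘ Spec (CommRingCat.of k))) 0)) ↔
    (∀ (I : X.IdealSheafData), Module.finrank k (Coh.HH X (ClSub.quotMod I) 0) = 4 →
      ∀ (M : X.Modules), ClSub.IsInverseOf (ClSub.idealMod I) M →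
        Module.finrank k (Coh.HH X M 0) = 1) := by
  haveI := regCurve_of_smooth (X := X) k hdim
  have hK := isFF' (X := X) k hdim
  have hW := isCanonical_omega (X := X) k hdim
  refine forall_congr' fun I => imp_congr_right fun hI => ?_
  obtain ⟨hIi, hdI⟩ := CurveDiv.deg_idealMod k hdim (CurveDiv.ne_bot_of_finrank k hdim (by rw [hI]; decide))
  rw [hI, deg_eq k hdim hK hIi] at hdI
  have hΩ := isInvertible_omega (X := X) k hdim
  rw [finrank_zero k hdim hK (AmpleLib.isInvertible_tensorMod hΩ hIi), finrank_zero k hdim hK hΩ,
    DivEq.ell_eq k hdim (divEq_tensor k hdim hΩ hIi), FF.ell_canonical hK hW]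
  have h1 := rr k hdim hW (-divOf k hdim hIi)
  rw [sub_neg_eq_add, FF.deg_neg, hdI] at h1
  have hM : ∀ (M : X.Modules) (hM : ClSub.IsInverseOf (ClSub.idealMod I) M),
      Module.finrank k (Coh.HH X M 0) = ell (-divOf k hdim hIi) := fun M ⟨e⟩ => by
    have hMi : PicF.IsInvertible M :=
      PicLaw.isInvertible_of_tensor_left hIi (PicCl.isInvertible_of_iso e.symm (isInvertible_structureModule (X := X)))
    rw [finrank_zero k hdim hK hMi]
    refine DivEq.ell_eq k hdim ?_
    obtain ⟨z, hz, hze⟩ := DivEq.trans' k hdim (DivEq.symm' k hdim (divEq_structureModule k hdim))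
      (DivEq.trans' k hdim (divEq_iso k hdim (AmpleLib.isInvertible_tensorMod hIi hMi) isInvertible_structureModule e)
        (divEq_tensor k hdim hIi hMi))
    refine DivEq.symm' k hdim ⟨z, hz, ?_⟩
    rw [← sub_eq_zero, ← neg_eq_zero]
    refine Eq.trans ?_ hze.symm
    abel
  constructor
  · intro h M hMe
    rw [hM M hMe]
    push_cast at h1
    omega
  · intro h
    obtain ⟨M, -, e⟩ := PicLaw.exists_inverse hIi
    have := h M e
    rw [hM M e] at this
    push_cast at h1
    omega

end Groth.Agent.S18805
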