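import Groth.Statements.S18806
import Groth.Prelude.Def_HopfRep
import Mathlib.RingTheory.Coalgebra.Hom
import Mathlib.RingTheory.Flat.Basic

set_option autoImplicit false
universe u v v' w w' x
open TensorProduct
open HopfRep

namespace Groth.Agent.S18806

/-- Let k be a field, i : C → D an injective morphism of k-coalgebras and V a right D-comodule with
coaction ρ : V → V ⊗ D. If ρ(v) lies in the image of V ⊗ C → V ⊗ D (induced by i) for every v, then
V comes from a C-comodule: there is a C-comodule structure on V whose coaction, followed by V ⊗ C →
V ⊗ D, is ρ. (The source states this for left comodules over the coordinate bialgebras of an affine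
monoid scheme over k and of its group of units, assumed open and schematically dense, and uses that
assumption only through the injectivity of the restriction map of coordinate rings; the row is the
right-comodule mirror image for any injective coalgebra map. The converse direction is immediate.) -/
theorem result (k : Type u) [Field k]
    (C : Type v) [AddCommGroup C] [Module k C] [Coalgebra k C]
    (D : Type v') [AddCommGroup D] [Module k D] [Coalgebra k D]
    (i : C →ₗc[k] D) (hi : Function.Injective i)
    (V : Type w) [AddCommGroup V] [Module k V] [HopfRep.Comod k D V]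
    (h : ∀ v : V, HopfRep.Comod.coact (k := k) (A := D) v ∈ LinearMap.range ((i : C →ₗ[k] D).lTensor V)) :
    ∃ c : HopfRep.Comod k C V,
      (i : C →ₗ[k] D).lTensor V ∘ₗ c.coact = HopfRep.Comod.coact (k := k) (A := D) := by
  have hinj : ∀ (X : Type w) [AddCommGroup X] [Module k X], Function.Injective ((i : C →ₗ[k] D).lTensor X) :=
    fun X _ _ => Module.Flat.lTensor_preserves_injective_linearMap _ hi
  let e := LinearEquiv.ofInjective ((i : C →ₗ[k] D).lTensor V) (hinj V)
  let ρ : V →ₗ[k] V ⊗[k] C := e.symm.toLinearMap ∘ₗ
    (HopfRep.Comod.coact (k := k) (A := D) (V := V)).codRestrict _ h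
  have hρ : (i : C →ₗ[k] D).lTensor V ∘ₗ ρ = HopfRep.Comod.coact (k := k) (A := D) := by
    refine LinearMap.ext fun v => ?_
    exact congrArg Subtype.val (e.apply_symm_apply ⟨_, h v⟩)
  refine ⟨{ coact := ρ, coassoc := LinearMap.ext fun v => ?_, counit_comp := LinearMap.ext fun v => ?_ }, hρ⟩
  · have h1 := LinearMap.congr_fun (HopfRep.Comod.coassoc (k := k) (A := D) (V := V)) v
    simp only [LinearMap.comp_apply, LinearEquiv.coe_coe, ← hρ] at h1
    simp only [LinearMap.comp_apply, LinearEquiv.coe_coe]
    refine (Module.Flat.lTensor_preserves_injective_linearMap (M := V)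
      (TensorProduct.map (i : C →ₗ[k] D) (i : C →ₗ[k] D)) ?_ :) ?_
    · rw [← LinearMap.lTensor_comp_rTensor]
      exact (Module.Flat.lTensor_preserves_injective_linearMap _ hi).comp
        (Module.Flat.rTensor_preserves_injective_linearMap _ hi)
    refine Eq.trans ?_ (h1.trans ?_)
    · induction ρ v using TensorProduct.induction_on with
      | zero => simp
      | add y z hy hz => simp only [map_add, hy, hz]
      | tmul y z =>
        simp only [LinearMap.rTensor_tmul, LinearMap.lTensor_tmul, LinearMap.comp_apply]
        induction ρ y using TensorProduct.induction_on with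
        | zero => simp
        | add b c hb hc => simp only [map_add, TensorProduct.add_tmul, hb, hc]
        | tmul b c => simp
    · induction ρ v using TensorProduct.induction_on with
      | zero => simp
      | add y z hy hz => simp only [map_add, hy, hz]
      | tmul y z =>
        simp only [LinearMap.lTensor_tmul]
        congr 1
        exact (CoalgHomClass.map_comp_comul_apply i z).symm
  · have h1 := LinearMap.congr_fun (HopfRep.Comod.counit_comp (k := k) (A := D) (V := V)) v
    simp only [LinearMap.comp_apply, ← hρ, ← LinearMap.lTensor_comp_apply] at h1
    rwa [CoalgHomClass.counit_comp] at h1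

end Groth.Agent.S18806
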