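import Groth.Statements.S18809
import Groth.Agent.S18807
import Mathlib.RingTheory.Coalgebra.Hom

set_option autoImplicit false
universe u v v' w w' x
open TensorProduct
open HopfRep

namespace Groth.Agent.S18809

/-- Let k be a field and i : C → D an injective morphism of k-coalgebras. If every right D-comodule is
semisimple (every subcomodule has a complementary subcomodule), then every right C-comodule is
semisimple. (The source states this for the coordinate bialgebras of an affine monoid scheme over k
and of its open schematically dense group of units, through the injectivity of the restriction map,
with semisimple meaning that every representation is a sum of irreducible subrepresentations;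
D-comodules are quantified in the universe of the given C-comodule.) -/
theorem result (k : Type u) [Field k]
    (C : Type v) [AddCommGroup C] [Module k C] [Coalgebra k C]
    (D : Type v') [AddCommGroup D] [Module k D] [Coalgebra k D]
    (i : C →ₗc[k] D) (hi : Function.Injective i)
    (hD : ∀ (W : Type w) [AddCommGroup W] [Module k W] [HopfRep.Comod k D W], HopfRep.IsSemisimpleComod k D W)
    (V : Type w) [AddCommGroup V] [Module k V] [HopfRep.Comod k C V] :
    HopfRep.IsSemisimpleComod k C V := by
  intro W hW
  letI cD : HopfRep.Comod k D V :=
    { coact := (i : C →ₗ[k] D).lTensor V ∘ₗ HopfRep.Comod.coact (k := k) (A := C)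
      coassoc := LinearMap.ext fun v => by
        have h1 := congrArg (fun z => (TensorProduct.map (i : C →ₗ[k] D) (i : C →ₗ[k] D)).lTensor V z)
          (LinearMap.congr_fun (HopfRep.Comod.coassoc (k := k) (A := C) (V := V)) v)
        simp only [LinearMap.comp_apply, LinearEquiv.coe_coe] at h1 ⊢
        refine Eq.trans ?_ (h1.trans ?_)
        · induction HopfRep.Comod.coact (k := k) (A := C) v using TensorProduct.induction_on with
          | zero => simp
          | add y z hy hz => simp only [map_add, hy, hz]
          | tmul y z =>
            simp only [LinearMap.rTensor_tmul, LinearMap.lTensor_tmul, LinearMap.comp_apply]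
            induction HopfRep.Comod.coact (k := k) (A := C) y using TensorProduct.induction_on with
            | zero => simp
            | add b c hb hc => simp only [map_add, TensorProduct.add_tmul, hb, hc]
            | tmul b c => simp
        · induction HopfRep.Comod.coact (k := k) (A := C) v using TensorProduct.induction_on with
          | zero => simp
          | add y z hy hz => simp only [map_add, hy, hz]
          | tmul y z =>
            simp only [LinearMap.lTensor_tmul]
            congr 1
            exact (CoalgHomClass.map_comp_comul_apply i z)
      counit_comp := LinearMap.ext fun v => by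
        have h1 := LinearMap.congr_fun (HopfRep.Comod.counit_comp (k := k) (A := C) (V := V)) v
        simp only [LinearMap.comp_apply, ← LinearMap.lTensor_comp_apply] at h1 ⊢
        rwa [CoalgHomClass.counit_comp] }
  have hWD : HopfRep.IsSubcomod (k := k) (A := D) W := fun w hw => by
    obtain ⟨u, hu⟩ := hW w hw
    refine ⟨(i : C →ₗ[k] D).lTensor W u, ?_⟩
    rw [← LinearMap.comp_apply, LinearMap.rTensor_comp_lTensor, ← LinearMap.lTensor_comp_rTensor, LinearMap.comp_apply, hu]
    rfl
  obtain ⟨W', hW', hc⟩ := hD V W hWD
  exact ⟨W', S18807.result k C D i hi V rfl W' hW', hc⟩

end Groth.Agent.S18809
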