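import Groth.Statements.S18810
import Groth.Agent.Comod.Cosemisimple

set_option autoImplicit false
universe u v v' w w' x
open TensorProduct
open HopfRep

namespace Groth.Agent.S18810

/-- Let k be a field, C a k-coalgebra, V a right C-comodule and (S_j) a family of simple C-comodules
which are pairwise non-isomorphic (for j ≠ j' no k-linear isomorphism S_j ≃ S_j' commutes with the
coactions). For each j let V[j] be the isotypic component of type S_j: the sum of the images of all
comodule maps S_j → V (equivalently of all simple subcomodules of V isomorphic to S_j, a nonzero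
such map being injective). Then the family j ↦ V[j] is independent, so that the socle of V is the
direct sum of its isotypic components. (The source states this for representations of an affine
monoid scheme over k, i.e. left comodules over its coordinate bialgebra; the row is the
right-comodule form over any coalgebra.) -/
theorem result (k : Type u) [Field k]
    (C : Type v) [AddCommGroup C] [Module k C] [Coalgebra k C]
    (V : Type w) [AddCommGroup V] [Module k V] [HopfRep.Comod k C V]
    {ι : Type x} (S : ι → Type w') [∀ j, AddCommGroup (S j)] [∀ j, Module k (S j)]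
    [∀ j, HopfRep.Comod k C (S j)] (hS : ∀ j, HopfRep.IsSimpleComod k C (S j))
    (hne : ∀ j j', j ≠ j' → ∀ e : S j ≃ₗ[k] S j', ¬ Hoch.IsComodHom C (e : S j →ₗ[k] S j')) :
    iSupIndep (fun j => ⨆ f : {f : S j →ₗ[k] V // Hoch.IsComodHom C f}, LinearMap.range f.1) := by
  have hs : ∀ j, IsSimpleModule (Comod.Dual k C) (S j) := fun j => (Comod.isSimpleComod_iff k C (S j)).1 (hS j)
  let M : ι → Submodule (Comod.Dual k C) V := fun j => ⨆ f : {f : S j →ₗ[k] V // Hoch.IsComodHom C f},
    LinearMap.range (Comod.homToDual (A := C) f.1 f.2)
  have hM : ∀ j, IsSemisimpleModule (Comod.Dual k C) (M j) := fun j => by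
    have := isSemisimpleModule_biSup_of_isSemisimpleModule_submodule
      (s := (Set.univ : Set {f : S j →ₗ[k] V // Hoch.IsComodHom C f}))
      (p := fun f => LinearMap.range (Comod.homToDual (A := C) f.1 f.2))
      fun f _ => IsSemisimpleModule.range _
    rw [show M j = _ from (iSup_univ).symm]
    exact this
  have hiso : ∀ j (m : Submodule (Comod.Dual k C) V), IsSimpleModule (Comod.Dual k C) m → m ≤ M j →
      Nonempty (m ≃ₗ[Comod.Dual k C] S j) := by
    intro j m hm hle
    let s := {N : Submodule (Comod.Dual k C) V | Nonempty (N ≃ₗ[Comod.Dual k C] S j)}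
    have hle' : m ≤ sSup s := hle.trans (iSup_le fun f => by
      rcases LinearMap.injective_or_eq_zero (Comod.homToDual (A := C) f.1 f.2) with hi | h0
      · exact le_sSup (show _ ∈ s from ⟨(LinearEquiv.ofInjective _ hi).symm⟩)
      · rw [h0, LinearMap.range_zero]; exact bot_le)
    have : ∀ N : s, IsSimpleModule (Comod.Dual k C) N.1 := fun N => IsSimpleModule.congr (N := S j) N.2.some
    obtain ⟨T, hT, ⟨e⟩⟩ := Submodule.linearEquiv_of_le_sSup (N := m) s hle'
    exact ⟨e.trans hT.some⟩
  have hind := Comod.isotypic_indep hM fun i j hij m m' hm hm' hi hj => ⟨fun e => by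
    let e' := ((hiso i m hm hi).some.symm.trans e).trans (hiso j m' hm' hj).some
    exact hne i j hij (e'.restrictScalars k) (Comod.isComodHom_restrictScalars e'.toLinearMap)⟩
  have heq : (fun j => ⨆ f : {f : S j →ₗ[k] V // Hoch.IsComodHom C f}, LinearMap.range f.1) =
      fun j => (M j).restrictScalars k := by
    funext j
    refine le_antisymm (iSup_le fun f x hx => Submodule.mem_iSup_of_mem f hx) fun x hx => ?_
    rw [Submodule.restrictScalars_mem] at hx
    induction hx using Submodule.iSup_induction' with
    | mem f y hy => exact Submodule.mem_iSup_of_mem f hy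
    | zero => simp
    | add y z _ _ hy hz => exact add_mem hy hz
  rw [heq, iSupIndep_iff_finset_sum_eq_zero_imp_eq_zero]
  exact (iSupIndep_iff_finset_sum_eq_zero_imp_eq_zero M).1 hind

end Groth.Agent.S18810
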