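import Groth.Statements.S18813
import Groth.Agent.Comod.LinRed

set_option autoImplicit false
universe u
open scoped TensorProduct
open HopfRep

namespace Groth.Agent.S18813

/-- Let k be a field, K a field extension of k and A a commutative Hopf algebra over k, the coordinate
ring of an affine group scheme G (no finiteness assumed). Then G is linearly reductive (every
finite-dimensional A-comodule is semisimple) if and only if the base change G_K is (every
finite-dimensional comodule over the K-Hopf algebra K ⊗_k A is semisimple). (The source phrases both
sides as semisimplicity of all representations, which over a field is equivalent to semisimplicity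
of the finite-dimensional ones since every comodule is the union of its finite-dimensional
subcomodules.) -/
theorem result (k K A : Type u) [Field k] [Field K]
    [Algebra k K] [CommRing A] [HopfAlgebra k A] :
    HopfRep.IsLinearlyReductive k A ↔ HopfRep.IsLinearlyReductive K (K ⊗[k] A) := by
  rw [Comod.linRed_iff_exists_integral, Comod.linRed_iff_exists_integral]
  have hcomul : ∀ a : A, Coalgebra.comul (R := K) ((1 : K) ⊗ₜ[k] a) =
      TensorProduct.mapOfCompatibleSMul K k k (K ⊗[k] A) (K ⊗[k] A)
        (TensorProduct.map ((TensorProduct.mk k K A) 1) ((TensorProduct.mk k K A) 1) (Coalgebra.comul (R := k) a)) := by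
    intro a
    rw [TensorProduct.comul_tmul]
    induction Coalgebra.comul (R := k) a using TensorProduct.induction_on with
    | zero => simp
    | add y z hy hz => simp only [map_add, TensorProduct.tmul_add, hy, hz]
    | tmul y z => simp
  constructor
  · rintro ⟨α, hα, h1⟩
    let β : K ⊗[k] A →ₗ[K] K := (TensorProduct.AlgebraTensorModule.rid k K K).toLinearMap ∘ₗ α.baseChange K
    refine ⟨β, fun z => ?_, by simp [β, Algebra.TensorProduct.one_def, h1]⟩
    induction z using TensorProduct.induction_on with
    | zero => simp
    | add y z hy hz => simp only [map_add, TensorProduct.add_tmul, hy, hz]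
    | tmul c a =>
      have hc : c ⊗ₜ[k] a = c • ((1 : K) ⊗ₜ[k] a) := by simp [TensorProduct.smul_tmul']
      rw [hc, LinearMap.map_smul, LinearMap.map_smul, LinearMap.map_smul, ← TensorProduct.smul_tmul', hcomul]
      congr 1
      have h := hα a
      have e : ∀ w : A ⊗[k] A, β.rTensor (K ⊗[k] A) (TensorProduct.mapOfCompatibleSMul K k k (K ⊗[k] A) (K ⊗[k] A)
          (TensorProduct.map ((TensorProduct.mk k K A) 1) ((TensorProduct.mk k K A) 1) w)) =
          TensorProduct.mapOfCompatibleSMul K k k K (K ⊗[k] A)
            (TensorProduct.map (Algebra.linearMap k K) ((TensorProduct.mk k K A) 1) (α.rTensor A w)) := by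
        intro w
        induction w using TensorProduct.induction_on with
        | zero => simp
        | add y z hy hz => simp only [map_add, hy, hz]
        | tmul y z => simp [β, Algebra.algebraMap_eq_smul_one]
      rw [e, h]
      simp [β, Algebra.TensorProduct.one_def, Algebra.algebraMap_eq_smul_one]
  · rintro ⟨β, hβ, h1⟩
    obtain ⟨f, hf⟩ := LinearMap.exists_leftInverse_of_injective (Algebra.linearMap k K)
      (LinearMap.ker_eq_bot.2 (algebraMap k K).injective)
    have hf1 : f 1 = 1 := by simpa using LinearMap.congr_fun hf 1
    refine ⟨f ∘ₗ β.restrictScalars k ∘ₗ (TensorProduct.mk k K A) 1, fun a => ?_,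
      by simpa [Algebra.TensorProduct.one_def] using (congrArg f h1).trans hf1⟩
    have h := congrArg (fun z => f.rTensor A (TensorProduct.lid K (K ⊗[k] A) z)) (hβ ((1 : K) ⊗ₜ[k] a))
    simp only [hcomul] at h
    have e : ∀ w : A ⊗[k] A, f.rTensor A (TensorProduct.lid K (K ⊗[k] A) (β.rTensor (K ⊗[k] A)
        (TensorProduct.mapOfCompatibleSMul K k k (K ⊗[k] A) (K ⊗[k] A)
          (TensorProduct.map ((TensorProduct.mk k K A) 1) ((TensorProduct.mk k K A) 1) w)))) =
        (f ∘ₗ β.restrictScalars k ∘ₗ (TensorProduct.mk k K A) 1).rTensor A w := by
      intro w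
      induction w using TensorProduct.induction_on with
      | zero => simp
      | add y z hy hz => simp only [map_add, hy, hz]
      | tmul y z => simp [TensorProduct.smul_tmul']
    rw [e] at h
    rw [h]
    simp [Algebra.TensorProduct.one_def, TensorProduct.smul_tmul']

end Groth.Agent.S18813
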