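import Groth.Statements.S18814
import Groth.Agent.Comod.Cosemisimple
import Groth.Agent.Comod.Integral

set_option autoImplicit false
universe u v v' w w'
open TensorProduct
open HopfRep

namespace Groth.Agent.S18814

/-- Let k be a field, C and D commutative bialgebras over k (coordinate rings of affine monoid schemes M
and N) and V a k-vector space carrying a right C-comodule structure with coaction ρ_C : V → V ⊗ C
and a right D-comodule structure with coaction ρ_D : V → V ⊗ D which commute: (ρ_C ⊗ id_D) ∘ ρ_D and
(ρ_D ⊗ id_C) ∘ ρ_C agree in V ⊗ C ⊗ D after reassociating and swapping the last two factors (the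
actions of M and N on V commute). Assume V is semisimple as a D-comodule. Then for every simple
D-comodule S the isotypic component of V of type S, the sum of the images of all D-comodule maps S →
V, is a C-subcomodule of V. (The source works with left comodules; this is the right-comodule form.) -/
theorem result (k : Type u) [Field k]
    (C : Type v) [CommRing C] [Bialgebra k C] (D : Type v') [CommRing D] [Bialgebra k D]
    (V : Type w) [AddCommGroup V] [Module k V] [HopfRep.Comod k C V] [HopfRep.Comod k D V]
    (hcomm : (TensorProduct.assoc k V C D).toLinearMap ∘ₗ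
        (HopfRep.Comod.coact (k := k) (A := C) (V := V)).rTensor D ∘ₗ HopfRep.Comod.coact (k := k) (A := D) =
      (TensorProduct.comm k D C).toLinearMap.lTensor V ∘ₗ (TensorProduct.assoc k V D C).toLinearMap ∘ₗ
        (HopfRep.Comod.coact (k := k) (A := D) (V := V)).rTensor C ∘ₗ HopfRep.Comod.coact (k := k) (A := C))
    (hV : HopfRep.IsSemisimpleComod k D V)
    (S : Type w') [AddCommGroup S] [Module k S] [HopfRep.Comod k D S] (hS : HopfRep.IsSimpleComod k D S) :
    HopfRep.IsSubcomod (k := k) (A := C)
      (⨆ f : {f : S →ₗ[k] V // Hoch.IsComodHom D f}, LinearMap.range f.1) := by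
  have hcm : ∀ φ : C →ₗ[k] k, Hoch.IsComodHom D (Comod.contract (V := V) φ) := by
    intro φ
    refine Comod.isComodHom_iff.2 fun ψ v => ?_
    have h := congrArg (fun F : V →ₗ[k] TensorProduct k V (TensorProduct k C D) =>
      Comod.slice (LinearMap.mul' k k ∘ₗ TensorProduct.map φ ψ) (F v)) hcomm
    have e1 : ∀ w : TensorProduct k V D, Comod.slice (LinearMap.mul' k k ∘ₗ TensorProduct.map φ ψ)
        ((TensorProduct.assoc k V C D) ((HopfRep.Comod.coact (k := k) (A := C) (V := V)).rTensor D w)) =
        Comod.contract φ (Comod.slice ψ w) := by
      intro w
      induction w using TensorProduct.induction_on with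
      | zero => simp
      | add p q hp hq => simp only [map_add, hp, hq]
      | tmul p q =>
        simp only [LinearMap.rTensor_tmul, Comod.slice_tmul, Comod.contract_apply, map_smul]
        induction HopfRep.Comod.coact (k := k) (A := C) p using TensorProduct.induction_on with
        | zero => simp
        | add p q hp hq => simp only [TensorProduct.add_tmul, map_add, smul_add, hp, hq]
        | tmul a b => simp [smul_smul, mul_comm]
    have e2 : ∀ w : TensorProduct k V C, Comod.slice (LinearMap.mul' k k ∘ₗ TensorProduct.map φ ψ)
        ((TensorProduct.comm k D C).toLinearMap.lTensor V ((TensorProduct.assoc k V D C)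
          ((HopfRep.Comod.coact (k := k) (A := D) (V := V)).rTensor C w))) =
        Comod.contract ψ (Comod.slice φ w) := by
      intro w
      induction w using TensorProduct.induction_on with
      | zero => simp
      | add p q hp hq => simp only [map_add, hp, hq]
      | tmul p q =>
        simp only [LinearMap.rTensor_tmul, Comod.slice_tmul, Comod.contract_apply, map_smul]
        induction HopfRep.Comod.coact (k := k) (A := D) p using TensorProduct.induction_on with
        | zero => simp
        | add p q hp hq => simp only [TensorProduct.add_tmul, map_add, smul_add, hp, hq]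
        | tmul a b => simp [smul_smul, mul_comm]
    simp only [LinearMap.comp_apply, LinearEquiv.coe_coe] at h
    rw [e1, e2] at h
    exact h
  refine Comod.isSubcomod_iff.2 fun φ v hv => ?_
  induction hv using Submodule.iSup_induction' with
  | mem f x hx =>
    obtain ⟨s, rfl⟩ := hx
    refine Submodule.mem_iSup_of_mem ⟨Comod.contract φ ∘ₗ f.1, ?_⟩ ⟨s, rfl⟩
    exact Comod.isComodHom_comp (hcm φ) f.2
  | zero => simp
  | add y z _ _ hy hz => rw [map_add]; exact add_mem hy hz

end Groth.Agent.S18814
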