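import Groth.Statements.S18816
import Groth.Agent.GrpScheme.ClosedRepProd

set_option autoImplicit false
universe u
open CategoryTheory MonoidalCategory CartesianMonoidalCategory AlgebraicGeometry
open AlgGrp

namespace Groth.Agent.S18816

/-- Let k be a field, X a separated k-scheme, Y an arbitrary k-scheme and a : Y ×_k X → X an arbitrary
k-morphism. Consider the subfunctor X^a of X whose T-valued points, for a k-scheme T, are the
k-morphisms x : T → X with a ∘ (id_Y × x) = x ∘ pr_T as morphisms Y ×_k T → X. Then X^a is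
represented by a closed subscheme of X: there is a closed immersion j : Z → X over k lying in X^a(Z)
through which every element of X^a(T) factors. In particular, when Y = G is a k-group scheme and a
is an action of G on the separated k-scheme X, the functor X^G of G-fixed points is representable by
some closed subscheme of X. No finiteness condition is imposed on X, Y or G. -/
theorem result (k : Type u) [Field k]
    (X Y : Over (Spec (CommRingCat.of k))) [IsSeparated X.hom] (a : Y ⊗ X ⟶ X) :
    ∃ (Z : Over (Spec (CommRingCat.of k))) (j : Z ⟶ X), IsClosedImmersion j.left ∧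
      (Y ◁ j) ≫ a = CartesianMonoidalCategory.snd Y Z ≫ j ∧
      ∀ (T : Over (Spec (CommRingCat.of k))) (x : T ⟶ X),
        (Y ◁ x) ≫ a = CartesianMonoidalCategory.snd Y T ≫ x → ∃ z : T ⟶ Z, z ≫ j = x := by
  obtain ⟨Z, i, hi, hZ⟩ := GrpScheme.ClosedRepProd.exists_equalizer_rep (X := X) (Y := Y)
    ((β_ X Y).hom ≫ a) (fst X Y) (GrpScheme.ClosedRepProd.locallyFree_of_field _)
  have key : ∀ (T : Over (Spec (CommRingCat.of k))) (x : T ⟶ X),
      (Y ◁ x) ≫ a = snd Y T ≫ x ↔ ∃ z : T ⟶ Z, z ≫ i = x := by
    intro T x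
    rw [← hZ T x]
    have e : (x ▷ Y) ≫ (β_ X Y).hom ≫ a = (β_ T Y).hom ≫ (Y ◁ x) ≫ a :=
      BraidedCategory.braiding_naturality_left_assoc x Y a
    rw [e, whiskerRight_fst]
    have e2 : fst T Y ≫ x = (β_ T Y).hom ≫ snd Y T ≫ x := by simp
    rw [e2, cancel_epi]
  exact ⟨Z, i, hi, (key Z i).mpr ⟨𝟙 _, Category.id_comp _⟩, fun T x hx => (key T x).mp hx⟩

end Groth.Agent.S18816
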