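import Groth.Statements.S18817
import Groth.Agent.Wt.FinOrdThick
import Groth.Agent.AlgSp.InfScheme
import Groth.Agent.Omega.Thick
-- import your own Groth.Agent.* helpers here

set_option autoImplicit false
universe u
open CategoryTheory MonoidalCategory CartesianMonoidalCategory MonObj AlgebraicGeometry
open AlgGrp

namespace Groth.Agent.S18817

open Limits

variable {S : Scheme.{u}} {M G T T₀ : Over S} [MonObj M]

/-- Left multiplication by a point, as an endomorphism of `T ⊗ M`. -/
noncomputable def lmul (m : T ⟶ M) : T ⊗ M ⟶ T ⊗ M :=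
  lift (fst T M) ((fst T M ≫ m) * snd T M)

lemma lift_lmul {T' : Over S} (m : T ⟶ M) (a : T' ⟶ T) (x : T' ⟶ M) :
    lift a x ≫ lmul m = lift a ((a ≫ m) * x) := by
  rw [lmul, comp_lift, MonObj.comp_mul, lift_fst_assoc, lift_fst, lift_snd]

lemma isIso_lmul {m : T ⟶ M} (h : IsUnit m) : IsIso (lmul m) := by
  obtain ⟨v, rfl⟩ := h
  refine ⟨lmul (↑v⁻¹ : T ⟶ M), ?_, ?_⟩
  · conv_lhs => arg 1; rw [lmul]
    rw [lift_lmul, ← _root_.mul_assoc, ← MonObj.comp_mul, Units.inv_mul, MonObj.comp_one,
      _root_.one_mul, lift_fst_snd]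
  · conv_lhs => arg 1; rw [lmul]
    rw [lift_lmul, ← _root_.mul_assoc, ← MonObj.comp_mul, Units.mul_inv, MonObj.comp_one,
      _root_.one_mul, lift_fst_snd]

lemma isUnit_of_isIso_lmul (m : T ⟶ M) [IsIso (lmul m)] : IsUnit m := by
  let n : T ⟶ M := lift (𝟙 T) 1 ≫ inv (lmul m) ≫ snd T M
  have hf : inv (lmul m) ≫ fst T M = fst T M := by
    rw [IsIso.inv_comp_eq, lmul, lift_fst]
  have hn : lift (𝟙 T) n = lift (𝟙 T) 1 ≫ inv (lmul m) := by
    refine CartesianMonoidalCategory.hom_ext _ _ ?_ ?_
    · rw [lift_fst, Category.assoc, hf, lift_fst]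
    · rw [lift_snd, Category.assoc]
  have h1 : m * n = 1 := by
    have := hn =≫ lmul m
    rw [lift_lmul, Category.id_comp, Category.assoc, IsIso.inv_hom_id, Category.comp_id] at this
    simpa using this =≫ snd T M
  have h2 : n * m = 1 := by
    have : lift (𝟙 T) (n * m) ≫ lmul m = lift (𝟙 T) 1 ≫ lmul m := by
      rw [lift_lmul, lift_lmul, Category.id_comp, ← _root_.mul_assoc, h1, _root_.one_mul,
        _root_.mul_one]
    simpa using ((cancel_mono (lmul m)).1 this) =≫ snd T M
  exact ⟨⟨m, n, h1, h2⟩, rfl⟩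

lemma lmul_comp (j : T₀ ⟶ T) (m : T ⟶ M) :
    (j ▷ M) ≫ lmul m = lmul (j ≫ m) ≫ (j ▷ M) := by
  refine CartesianMonoidalCategory.hom_ext _ _ ?_ ?_
  · simp [lmul]
  · simp only [lmul, Category.assoc, lift_snd, whiskerRight_snd, MonObj.comp_mul,
      whiskerRight_fst_assoc]

lemma isPullback_whisker (j : T₀ ⟶ T) :
    IsPullback (j ▷ M).left (fst T₀ M).left (fst T M).left j.left := by
  have h : IsPullback (j ▷ M) (fst T₀ M) (fst T M) j :=
    { w := by simp
      isLimit' := ⟨PullbackCone.IsLimit.mk _
        (fun s => lift s.snd (s.fst ≫ snd T M))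
        (fun s => by
          refine CartesianMonoidalCategory.hom_ext _ _ ?_ ?_
          · simp [s.condition]
          · simp)
        (fun s => by simp)
        (fun s n hn₁ hn₂ => by
          refine CartesianMonoidalCategory.hom_ext _ _ ?_ ?_
          · rw [lift_fst]; exact hn₂
          · rw [lift_snd, ← hn₁]; simp)⟩ }
  exact h.map (Over.forget S)

/-- Units of a flat monoid scheme lift along nilpotent thickenings. -/
lemma isUnit_of_thickening [Flat M.hom] (j : T₀ ⟶ T) (hj : MoreMor.IsFiniteOrderThickening j.left)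
    (m : T ⟶ M) (h : IsUnit (j ≫ m)) : IsUnit m := by
  have hfl : Flat (fst T M).left := inferInstanceAs (Flat (pullback.fst T.hom M.hom))
  have : IsIso (lmul (j ≫ m)) := isIso_lmul h
  have : IsIso (lmul (j ≫ m)).left :=
    inferInstanceAs (IsIso ((Over.forget S).map (lmul (j ≫ m))))
  have e₀ : (lmul (j ≫ m)).left ≫ (fst T₀ M).left = (fst T₀ M).left := by
    rw [← Over.comp_left, lmul, lift_fst]
  have e : (lmul m).left ≫ (fst T M).left = (fst T M).left := by
    rw [← Over.comp_left, lmul, lift_fst]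
  have hc := isPullback_whisker (M := M) j
  have : Flat ((lmul m).left ≫ (fst T M).left) := by rw [e]; exact hfl
  have : IsIso (lmul m).left :=
    (Wt.FinOrdThick.isIso_iff (j ▷ M).left (j ▷ M).left j.left (lmul (j ≫ m)).left (lmul m).left
      (fst T₀ M).left (fst T M).left hj (by rw [e₀, e]; exact hc) hc
      (by rw [← Over.comp_left, ← Over.comp_left, lmul_comp])).1 inferInstance
  have : IsIso ((Over.forget S).map (lmul m)) := this
  have : IsIso (lmul m) := isIso_of_reflects_iso _ (Over.forget S)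
  exact isUnit_of_isIso_lmul m

lemma thickening_spec {A : Type u} [CommRing A] (I : Ideal A) (hI : I ^ 2 = ⊥) :
    MoreMor.IsFiniteOrderThickening (Spec.map (CommRingCat.ofHom (Ideal.Quotient.mk I))) := by
  have h := Omega.Thick.isFOT_spec (CommRingCat.ofHom (Ideal.Quotient.mk I))
    Ideal.Quotient.mk_surjective (by simpa using hI)
  exact ⟨h.1, 2, by rw [pow_two]; exact h.2⟩

variable (i : G ⟶ M) [Mono i]
  (hi : ∀ (T : Over S) (m : T ⟶ M), (∃ g : T ⟶ G, g ≫ i = m) ↔ IsUnit m)

include hi in
lemma formallyEtale [Flat M.hom] : MoreMor.IsFormallyEtaleHom i.left := by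
  intro A _ I hI a b hab
  let c := Spec.map (CommRingCat.ofHom (Ideal.Quotient.mk I))
  let T : Over S := Over.mk (b ≫ M.hom)
  let T₀ : Over S := Over.mk (a ≫ G.hom)
  let j : T₀ ⟶ T := Over.homMk c (by
    show c ≫ b ≫ M.hom = a ≫ G.hom
    rw [← Category.assoc, hab, Category.assoc, Over.w i])
  let m : T ⟶ M := Over.homMk b rfl
  let a' : T₀ ⟶ G := Over.homMk a rfl
  have hjm : j ≫ m = a' ≫ i := Over.OverMorphism.ext hab
  obtain ⟨g, hg⟩ := (hi T m).2 (isUnit_of_thickening j (thickening_spec I hI) m
    ((hi T₀ _).1 ⟨a', hjm.symm⟩))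
  refine ⟨g.left, ⟨?_, congrArg CommaMorphism.left hg⟩, fun l hl => ?_⟩
  · have : j ≫ g = a' := by rw [← cancel_mono i, Category.assoc, hg, hjm]
    exact congrArg CommaMorphism.left this
  · let l' : T ⟶ G := Over.homMk l (by
      show l ≫ G.hom = b ≫ M.hom
      rw [← hl.2, Category.assoc, Over.w i])
    have : l' ≫ i = g ≫ i := by rw [hg]; exact Over.OverMorphism.ext hl.2
    exact congrArg CommaMorphism.left ((cancel_mono i).1 this)

include hi in
lemma locallyOfFiniteType [LocallyOfFiniteType M.hom] : LocallyOfFiniteType i.left := by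
  obtain ⟨v, hv⟩ := (hi G i).1 ⟨𝟙 G, Category.id_comp i⟩
  let j : G ⟶ M ⊗ M := lift i (↑v⁻¹ : G ⟶ M)
  let f : M ⊗ M ⟶ M ⊗ M := lift (fst M M * snd M M) (snd M M * fst M M)
  let e : 𝟙_ (Over S) ⟶ M ⊗ M := lift 1 1
  have hsq : IsPullback j (toUnit G) f e := by
    have hw : j ≫ f = toUnit G ≫ e := by
      simp only [j, f, e, comp_lift, MonObj.comp_mul, lift_fst, lift_snd, MonObj.comp_one]
      rw [← hv, Units.mul_inv, Units.inv_mul]
    have key : ∀ s : PullbackCone f e, (s.fst ≫ fst M M) * (s.fst ≫ snd M M) = 1 ∧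
        (s.fst ≫ snd M M) * (s.fst ≫ fst M M) = 1 := fun s => by
      have h := s.condition
      constructor
      · simpa [f, e, MonObj.comp_mul, MonObj.comp_one] using h =≫ fst M M
      · simpa [f, e, MonObj.comp_mul, MonObj.comp_one] using h =≫ snd M M
    choose l hl using fun s : PullbackCone f e =>
      (hi s.pt (s.fst ≫ fst M M)).2 ⟨⟨_, _, (key s).1, (key s).2⟩, rfl⟩
    refine { w := hw, isLimit' := ⟨PullbackCone.IsLimit.mk _ l (fun s => ?_) (fun s => toUnit_unique _ _)
      (fun s n hn _ => ?_)⟩ }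
    · refine CartesianMonoidalCategory.hom_ext _ _ (by simp [j, hl]) ?_
      simp only [j, Category.assoc, lift_snd]
      refine left_inv_eq_right_inv (a := s.fst ≫ fst M M) ?_ (key s).1
      rw [← hl s, ← MonObj.comp_mul, ← hv, Units.inv_mul, MonObj.comp_one]
    · rw [← cancel_mono i, hl, ← hn]
      simp [j]
  have he : LocallyOfFiniteType e.left := by
    have : LocallyOfFiniteType (e.left ≫ (M ⊗ M).hom) := by
      rw [Over.w e]; exact inferInstanceAs (LocallyOfFiniteType (𝟙 _))
    exact locallyOfFiniteType_of_comp e.left (M ⊗ M).hom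
  have hjl : LocallyOfFiniteType j.left :=
    MorphismProperty.of_isPullback (hsq.map (Over.forget S)).flip he
  have h1 : LocallyOfFiniteType (fst M M).left :=
    inferInstanceAs (LocallyOfFiniteType (pullback.fst M.hom M.hom))
  rw [show i = j ≫ fst M M by simp [j], Over.comp_left]
  infer_instance


/-- Let k be a field and M an algebraic monoid over k, i.e. a monoid object in k-schemes whose
underlying scheme is of finite type over k, and assume M is geometrically integral. Let i : G → M be
the group of units of M: a monomorphism of k-schemes such that, for every k-scheme T, a T-valued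
point of M factors through i if and only if it is invertible in the monoid M(T). Then i is an open
immersion. -/
theorem result (k : Type u) [Field k]
    (M G : Over (Spec (CommRingCat.of k))) [MonObj M] [LocallyOfFiniteType M.hom] [QuasiCompact M.hom]
    [GeometricallyIntegral M.hom] (i : G ⟶ M) [Mono i]
    (hi : ∀ (T : Over (Spec (CommRingCat.of k))) (m : T ⟶ M), (∃ g : T ⟶ G, g ≫ i = m) ↔ IsUnit m) :
    IsOpenImmersion i.left := by
  have := locallyOfFiniteType i hi
  have : IsLocallyNoetherian M.left := LocallyOfFiniteType.isLocallyNoetherian M.hom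
  have : LocallyOfFinitePresentation i.left :=
    LocallyOfFinitePresentation.iff_locallyOfFiniteType.mpr inferInstance
  have : Etale i.left := AlgSp.InfScheme.etale_of_formallyEtale _ (formallyEtale i hi)
  have : Mono i.left := inferInstanceAs (Mono ((Over.forget _).map i))
  exact IsOpenImmersion.of_flat_of_mono i.left

end Groth.Agent.S18817
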