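import Groth.Statements.S18818
import Groth.Agent.Comod.Basic

set_option autoImplicit false
universe u v w
open TensorProduct
open HopfRep

namespace Groth.Agent.S18818

/-- Let k be a field, C a k-coalgebra and V a right C-comodule which is semisimple in the sense that
every subcomodule has a complementary subcomodule (equivalently every injective comodule map into V
splits). Then V is completely reducible: V is the sum of its simple subcomodules, the nonzero
subcomodules W whose only subcomodules are 0 and W. (The source states this for representations of
an affine monoid scheme over k, i.e. left comodules over its coordinate bialgebra; the converse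
implication and the stability of the class under subobjects and quotients are not part of this row.) -/
theorem result (k : Type u) [Field k]
    (C : Type v) [AddCommGroup C] [Module k C] [Coalgebra k C]
    (V : Type w) [AddCommGroup V] [Module k V] [HopfRep.Comod k C V] (hV : HopfRep.IsSemisimpleComod k C V) :
    (⨆ W : {W : Submodule k V // HopfRep.IsSubcomod (k := k) (A := C) W ∧ W ≠ ⊥ ∧
        ∀ W' : Submodule k V, HopfRep.IsSubcomod (k := k) (A := C) W' → W' ≤ W → W' = ⊥ ∨ W' = W},
      (W.1 : Submodule k V)) = ⊤ := by
  have := (Comod.isSemisimpleComod_iff k C V).1 hV
  refine eq_top_iff.2 fun v hv0 => ?_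
  clear hv0
  have hv : v ∈ (sSup {m : Submodule (Comod.Dual k C) V | IsSimpleModule (Comod.Dual k C) m}) := by
    rw [IsSemisimpleModule.sSup_simples_eq_top]; trivial
  rw [sSup_eq_iSup'] at hv
  induction hv using Submodule.iSup_induction' with
  | mem m x hx =>
    have hm : IsAtom m.1 := isSimpleModule_iff_isAtom.1 m.2
    refine Submodule.mem_iSup_of_mem ⟨m.1.restrictScalars k, Comod.isSubcomod_restrictScalars m.1,
      fun h => hm.1 (by simpa using h), fun W' hW' hle => ?_⟩ hx
    rcases (hm.le_iff).1 (show Comod.toSub W' hW' ≤ m.1 from hle) with h | h
    · left; rw [← Comod.restrictScalars_toSub W' hW', h, Submodule.restrictScalars_bot]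
    · right; rw [← Comod.restrictScalars_toSub W' hW', h]
  | zero => simp
  | add x y _ _ hx hy => exact add_mem hx hy

end Groth.Agent.S18818
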