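import Groth.Statements.S18821


set_option autoImplicit false
universe u
open CategoryTheory MonoidalCategory CartesianMonoidalCategory MonObj AlgebraicGeometry
open AlgGrp

namespace Groth.Agent.S18821

/-- Let k be a commutative ring and M a monoid k-scheme (a monoid object in k-schemes). Then the group
k-functor of units T ↦ M(T)^× is representable by a k-scheme: there are a k-scheme G and a
monomorphism i : G → M such that, for every k-scheme T, a T-valued point of M factors through i if
and only if it is invertible in the monoid M(T). If moreover M is affine then G is affine. -/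
theorem result (k : Type u) [CommRing k]
    (M : Over (Spec (CommRingCat.of k))) [MonObj M] :
    ∃ (G : Over (Spec (CommRingCat.of k))) (i : G ⟶ M), Mono i ∧
      (∀ (T : Over (Spec (CommRingCat.of k))) (m : T ⟶ M), (∃ g : T ⟶ G, g ≫ i = m) ↔ IsUnit m) ∧
      (IsAffine M.left → IsAffine G.left) := by
  let P : Over (Spec (CommRingCat.of k)) :=
    Over.mk (Limits.pullback.fst (CartesianMonoidalCategory.lift μ[M] (lift (snd M M) (fst M M) ≫ μ[M])).left
      (lift η[M] η[M]).left ≫ (M ⊗ M).hom)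
  let j : P ⟶ M ⊗ M := Over.homMk (Limits.pullback.fst _ _) rfl
  let j₀ : P ⟶ 𝟙_ _ := Over.homMk (Limits.pullback.snd _ _) (by
    have := Limits.pullback.condition (f := (CartesianMonoidalCategory.lift μ[M] (lift (snd M M) (fst M M) ≫ μ[M])).left) (g := (lift η[M] η[M]).left) =≫ (M ⊗ M).hom
    rw [Category.assoc, Category.assoc, Over.w, Over.w] at this
    exact this.symm)
  have hj : j ≫ lift μ[M] (lift (snd M M) (fst M M) ≫ μ[M]) = j₀ ≫ lift η[M] η[M] :=
    Over.OverMorphism.ext Limits.pullback.condition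
  have h₁ : (j ≫ fst M M) * (j ≫ snd M M) = 1 := by
    have := hj =≫ fst M M
    simpa [Hom.mul_def, Hom.one_def, Subsingleton.elim (toUnit P) j₀] using this
  have h₂ : (j ≫ snd M M) * (j ≫ fst M M) = 1 := by
    have := hj =≫ snd M M
    simpa [Hom.mul_def, Hom.one_def, Subsingleton.elim (toUnit P) j₀, comp_lift_assoc] using this
  refine ⟨P, j ≫ fst M M, ⟨fun {T} g g' e => ?_⟩, fun T m => ⟨?_, ?_⟩, fun hM => ?_⟩
  · have ha : ((g ≫ j) ≫ fst M M) * ((g ≫ j) ≫ snd M M) = 1 := by
      simpa [MonObj.comp_mul, MonObj.comp_one] using g ≫= h₁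
    have hb : ((g' ≫ j) ≫ snd M M) * ((g' ≫ j) ≫ fst M M) = 1 := by
      simpa [MonObj.comp_mul, MonObj.comp_one] using g' ≫= h₂
    have e' : g ≫ j = g' ≫ j := by
      refine CartesianMonoidalCategory.hom_ext _ _ (by simpa using e) ?_
      rw [show (g ≫ j) ≫ fst M M = (g' ≫ j) ≫ fst M M by simpa using e] at ha
      calc (g ≫ j) ≫ snd M M
          = ((g' ≫ j) ≫ snd M M * (g' ≫ j) ≫ fst M M) * (g ≫ j) ≫ snd M M := by
            rw [hb, _root_.one_mul]
        _ = (g' ≫ j) ≫ snd M M := by rw [_root_.mul_assoc, ha, _root_.mul_one]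
    exact Over.OverMorphism.ext
      (Limits.pullback.hom_ext congr($(e').left) congr($(toUnit_unique (g ≫ j₀) (g' ≫ j₀)).left))
  · rintro ⟨g, rfl⟩
    refine ⟨⟨g ≫ j ≫ fst M M, g ≫ j ≫ snd M M, ?_, ?_⟩, rfl⟩
    · rw [← MonObj.comp_mul, h₁, MonObj.comp_one]
    · rw [← MonObj.comp_mul, h₂, MonObj.comp_one]
  · rintro ⟨u, rfl⟩
    have hu : lift (u : T ⟶ M) ((u⁻¹ : (T ⟶ M)ˣ) : T ⟶ M) ≫ lift μ[M] (lift (snd M M) (fst M M) ≫ μ[M]) =
        toUnit T ≫ lift η[M] η[M] := by
      apply CartesianMonoidalCategory.hom_ext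
      · simp [← Hom.one_def, ← Hom.mul_def]
      · simp only [Category.assoc, lift_snd, comp_lift_assoc, lift_fst]
        simp [← Hom.one_def, ← Hom.mul_def]
    refine ⟨Over.homMk (Limits.pullback.lift _ _ congr($(hu).left)) ?_, ?_⟩
    · exact (Limits.pullback.lift_fst_assoc _ _ _ _).trans (Over.w _)
    · refine (Category.assoc _ _ _).symm.trans ((congrArg (fun t => t ≫ fst M M) ?_).trans (lift_fst (u : T ⟶ M) ((u⁻¹ : (T ⟶ M)ˣ) : T ⟶ M)))
      exact Over.OverMorphism.ext (Limits.pullback.lift_fst _ _ congr($(hu).left))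
  · have : IsAffine (M ⊗ M).left := inferInstanceAs (IsAffine (Limits.pullback M.hom M.hom))
    have : IsAffine (𝟙_ (Over (Spec (CommRingCat.of k)))).left :=
      inferInstanceAs (IsAffine (Spec (CommRingCat.of k)))
    exact inferInstanceAs (IsAffine (Limits.pullback _ _))

end Groth.Agent.S18821
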