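import Groth.Statements.S18824
import Groth.Agent.GrpScheme.Basic

set_option autoImplicit false
universe u
open CategoryTheory MonoidalCategory CartesianMonoidalCategory MonObj AlgebraicGeometry
open AlgGrp

namespace Groth.Agent.S18824

/-- Let k be a field, G a locally algebraic group over k (a group k-scheme locally of finite type)
acting on a k-scheme X through a : G ×_k X → X, and U an open subset of X. Let G·U ⊆ X be the image
under a of G ×_k U (the preimage of U under the projection). Then G·U is open in X, contains U, is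
G-stable in the sense that a maps G ×_k (G·U) into G·U, and is the smallest such set: every G-stable
open subset of X containing U contains G·U. -/
theorem result (k : Type u) [Field k]
    (G X : Over (Spec (CommRingCat.of k))) [GrpObj G] [LocallyOfFiniteType G.hom] (a : AlgGrp.Action G X)
    (U : Set ↥X.left) (hU : IsOpen U) :
    IsOpen (a.act.left.base '' ((CartesianMonoidalCategory.snd G X).left.base ⁻¹' U)) ∧
      U ⊆ a.act.left.base '' ((CartesianMonoidalCategory.snd G X).left.base ⁻¹' U) ∧
      a.act.left.base '' ((CartesianMonoidalCategory.snd G X).left.base ⁻¹'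
          (a.act.left.base '' ((CartesianMonoidalCategory.snd G X).left.base ⁻¹' U))) ⊆
        a.act.left.base '' ((CartesianMonoidalCategory.snd G X).left.base ⁻¹' U) ∧
      ∀ W : Set ↥X.left, IsOpen W → U ⊆ W →
        a.act.left.base '' ((CartesianMonoidalCategory.snd G X).left.base ⁻¹' W) ⊆ W →
          a.act.left.base '' ((CartesianMonoidalCategory.snd G X).left.base ⁻¹' U) ⊆ W := by
  have : UniversallyOpen a.act.left :=
    Groth.Agent.GrpScheme.Basic.act_mem @UniversallyOpen a inferInstance
  refine ⟨a.act.left.isOpenMap _ (hU.preimage (snd G X).left.continuous), fun x hx => ?_, ?_, ?_⟩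
  · refine ⟨((λ_ X).inv ≫ η[G] ▷ X).left x, ?_, ?_⟩
    · show (snd G X).left (((λ_ X).inv ≫ η[G] ▷ X).left x) ∈ U
      rw [← Scheme.Hom.comp_apply, ← Over.comp_left, show ((λ_ X).inv ≫ η[G] ▷ X) ≫ snd G X = 𝟙 X by
        simp]
      simpa using hx
    · rw [← Scheme.Hom.comp_apply, ← Over.comp_left, Category.assoc, a.one_act, Iso.inv_hom_id]
      simp
  · rintro _ ⟨q, ⟨p, hp, hpq⟩, rfl⟩
    have hb := (Groth.Agent.GrpScheme.Basic.isPullback_whiskerLeft (R := G) a.act).map (Over.forget _)
    obtain ⟨r, hr₁, hr₂⟩ := Scheme.exists_preimage_of_isPullback hb q p hpq.symm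
    let r' : (G ⊗ (G ⊗ X)).left := r
    have happ : ∀ {A B C : Over (Spec (CommRingCat.of k))} (u : A ⟶ B) (v : B ⟶ C) (z : A.left),
        v.left (u.left z) = (u ≫ v).left z := fun u v z => (Scheme.Hom.comp_apply _ _ _).symm
    have hr₁' : (G ◁ a.act).left r' = q := hr₁
    have hr₂' : (snd G (G ⊗ X)).left r' = p := hr₂
    refine ⟨(μ[G] ▷ X).left ((α_ G G X).inv.left r'), ?_, ?_⟩
    · show (snd G X).left _ ∈ U
      rw [happ, happ, show (α_ G G X).inv ≫ μ[G] ▷ X ≫ snd G X = snd G (G ⊗ X) ≫ snd G X by simp,
        ← happ, hr₂']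
      exact hp
    · rw [happ, happ, show (α_ G G X).inv ≫ μ[G] ▷ X ≫ a.act = (G ◁ a.act) ≫ a.act by simp [a.mul_act],
        ← happ, hr₁']
  · exact fun W hW hUW hWs => (Set.image_mono (Set.preimage_mono hUW)).trans hWs

end Groth.Agent.S18824
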