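import Groth.Statements.S18825
import Groth.Agent.GrpScheme.ClosedImage
import Mathlib.AlgebraicGeometry.Morphisms.SchemeTheoreticallyDominant

set_option autoImplicit false
universe u
open CategoryTheory MonoidalCategory CartesianMonoidalCategory MonObj AlgebraicGeometry
open AlgGrp

namespace Groth.Agent.S18825

/-- Let k be a field and f : H → G a homomorphism of locally algebraic groups over k (group k-schemes
locally of finite type) which is of finite type (equivalently quasi-compact). Let H → K → G be the
factorization of f through its scheme-theoretic image: i : K → G a closed immersion and g : H → K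
with g followed by i equal to f and O_K → g_*O_H injective. Then (1) K is a closed subgroup scheme
of G: the unit section of G factors through i and, for every k-scheme T and T-valued points k₁, k₂
of K, the T-valued point (i k₁)⁻¹ · (i k₂) of G factors through i; and (2) g : H → K is surjective.
(The source also records that g is a homomorphism for the group structure induced on K; this row
does not state it.) -/
theorem result (k : Type u) [Field k]
    (H G K : Over (Spec (CommRingCat.of k))) [GrpObj H] [GrpObj G]
    [LocallyOfFiniteType H.hom] [LocallyOfFiniteType G.hom]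
    (f : H ⟶ G) [IsMonHom f] [QuasiCompact f.left]
    (i : K ⟶ G) [IsClosedImmersion i.left] (g : H ⟶ K) (hgi : g ≫ i = f)
    [IsSchemeTheoreticallyDominant g.left] :
    ((∃ e : 𝟙_ (Over (Spec (CommRingCat.of k))) ⟶ K, e ≫ i = η[G]) ∧
      ∀ (T : Over (Spec (CommRingCat.of k))) (k₁ k₂ : T ⟶ K),
        ∃ k₃ : T ⟶ K, k₃ ≫ i = (k₁ ≫ i)⁻¹ * (k₂ ≫ i)) ∧
    Surjective g.left := by
  have : QuasiCompact g.left :=
    have : QuasiCompact (g.left ≫ i.left) := by rw [← Over.comp_left, hgi]; infer_instance
    QuasiCompact.of_comp g.left i.left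
  refine ⟨⟨⟨η[H] ≫ g, by rw [Category.assoc, hgi, IsMonHom.one_hom]⟩, ?_⟩, ?_⟩
  · -- the difference map factors through `i`
    let D : K ⊗ K ⟶ G := (fst K K ≫ i)⁻¹ * (snd K K ≫ i)
    let gg : H ⊗ H ⟶ K ⊗ K := g ⊗ₘ g
    have hD : gg ≫ D = ((fst H H)⁻¹ * snd H H) ≫ g ≫ i := by
      simp only [D, gg, MonObj.comp_mul, GrpObj.comp_inv, tensorHom_fst_assoc, tensorHom_snd_assoc,
        hgi, MonObj.mul_comp, GrpObj.inv_comp]
    have hgg : IsSchemeTheoreticallyDominant gg.left := by
      have hf : Flat (fst K H).left :=
        inferInstanceAs (Flat (Limits.pullback.fst K.hom H.hom))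
      have hs : Flat (snd K K).left :=
        inferInstanceAs (Flat (Limits.pullback.snd K.hom K.hom))
      have h₁ : IsSchemeTheoreticallyDominant (g ▷ H).left := .of_isPullback (f := g.left)
        (g := (fst K H).left) ((Groth.Agent.GrpScheme.Basic.isPullback_whiskerRight (R := H) g).map (Over.forget _)).flip
      have h₂ : IsSchemeTheoreticallyDominant (K ◁ g).left := .of_isPullback (f := g.left)
        (g := (snd K K).left) ((Groth.Agent.GrpScheme.Basic.isPullback_whiskerLeft (R := K) g).map (Over.forget _)).flip
      simp only [gg, MonoidalCategory.tensorHom_def, Over.comp_left]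
      infer_instance
    have hle : i.left.ker ≤ D.left.ker := by
      have h := (Scheme.Hom.le_ker_comp (((fst H H)⁻¹ * snd H H) ≫ g).left i.left)
      rw [← Over.comp_left, Category.assoc, ← hD, Over.comp_left, Scheme.Hom.ker_comp gg.left,
        gg.left.ker_eq_bot, Scheme.IdealSheafData.map_bot] at h
      exact h
    have hl : IsClosedImmersion.lift i.left D.left hle ≫ i.left = D.left :=
      IsClosedImmersion.lift_fac _ _ hle
    let l : K ⊗ K ⟶ K := Over.homMk (IsClosedImmersion.lift i.left D.left hle)
      (by rw [← Over.w i, reassoc_of% hl]; exact Over.w D)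
    intro T k₁ k₂
    refine ⟨lift k₁ k₂ ≫ l, ?_⟩
    have : l ≫ i = D := Over.OverMorphism.ext hl
    rw [Category.assoc, this]
    simp only [D, MonObj.comp_mul, GrpObj.comp_inv, lift_fst_assoc, lift_snd_assoc]
  · have hcl : IsClosed (Set.range f.left) := Groth.Agent.GrpScheme.ClosedImage.isClosed_range f
    have h : IsClosed (Set.range g.left) := by
      have : Set.range g.left = i.left ⁻¹' Set.range f.left := by
        rw [← hgi, Over.comp_left]
        ext z
        refine ⟨fun ⟨y, hy⟩ => ⟨y, ?_⟩, fun ⟨y, hy⟩ => ⟨y, ?_⟩⟩
        · rw [Scheme.Hom.comp_apply, hy]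
        · rw [Scheme.Hom.comp_apply] at hy
          exact i.left.isClosedEmbedding.injective hy
      rw [this]
      exact hcl.preimage i.left.continuous
    exact ⟨Set.range_eq_univ.mp (h.closure_eq ▸ g.left.denseRange.closure_eq)⟩

end Groth.Agent.S18825
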