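import Groth.Statements.S18826
import Groth.Agent.GrpScheme.Basic

set_option autoImplicit false
universe u
open CategoryTheory MonoidalCategory CartesianMonoidalCategory MonObj AlgebraicGeometry
open AlgGrp

namespace Groth.Agent.S18826

open Groth.Agent.GrpScheme

/-- Restricting a cartesian square to opens. -/
lemma isPullback_restrict {X Y X' Y' : Scheme.{u}} {a' : X' ⟶ X} {π : X' ⟶ Y'} {f : X ⟶ Y}
    {a : Y' ⟶ Y} (sq : IsPullback a' π f a) (O : Y'.Opens) (U : Y.Opens) (h : O ≤ a ⁻¹ᵁ U) :
    IsPullback (a'.resLE (f ⁻¹ᵁ U) (π ⁻¹ᵁ O) (by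
        intro z hz
        show f (a' z) ∈ U
        rw [← Scheme.Hom.comp_apply, sq.w, Scheme.Hom.comp_apply]
        exact h hz))
      (π ∣_ O) (f ∣_ U) (a.resLE U O h) := by
  refine IsPullback.of_right (h₁₂ := (f ⁻¹ᵁ U).ι) (v₁₃ := f) (h₂₂ := U.ι) ?_ ?_
    (isPullback_morphismRestrict f U).flip
  · rw [Scheme.Hom.resLE_comp_ι, Scheme.Hom.resLE_comp_ι]
    exact (isPullback_morphismRestrict π O).flip.paste_horiz sq
  · rw [← cancel_mono U.ι, Category.assoc, Category.assoc, morphismRestrict_ι,
      Scheme.Hom.resLE_comp_ι_assoc, Scheme.Hom.resLE_comp_ι, morphismRestrict_ι_assoc, sq.w]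

/-- Restriction of a property on a cover by opens. -/
lemma restrict_of_cover {X Y : Scheme.{u}} (f : X ⟶ Y) (P : MorphismProperty Scheme.{u})
    [IsZariskiLocalAtTarget P] {J : Type (u + 1)} (U : J → Y.Opens) (hU : ∀ i, P (f ∣_ U i)) :
    P (f ∣_ ⨆ i, U i) := by
  let V := ⨆ i, U i
  refine IsZariskiLocalAtTarget.of_iSup_eq_top (fun i => V.ι ⁻¹ᵁ U i) ?_ fun i => ?_
  · refine eq_top_iff.mpr fun z _ => ?_
    obtain ⟨i, hi⟩ := TopologicalSpace.Opens.mem_iSup.mp z.2
    exact TopologicalSpace.Opens.mem_iSup.mpr ⟨i, hi⟩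
  · refine (P.arrow_mk_iso_iff (morphismRestrictRestrict f V (V.ι ⁻¹ᵁ U i))).mpr ?_
    have : V.ι ''ᵁ (V.ι ⁻¹ᵁ U i) = U i := by
      rw [Scheme.Hom.image_preimage_eq_opensRange_inf, Scheme.Opens.opensRange_ι]
      exact inf_eq_right.mpr (le_iSup U i)
    rw [this]
    exact hU i

/-- Let k be a field, G a locally algebraic group over k (a group k-scheme locally of finite type)
acting on k-schemes X and Y, and f : X → Y a G-equivariant k-morphism. Let P be a property of
morphisms of schemes which is local on the target for the Zariski topology, stable under base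
change, and descends along flat surjective universally open morphisms (the published hypothesis is
descent along fpqc morphisms; the printed argument descends only along the restriction G ×_k U → G·U
of the action, which is flat, surjective and universally open). Then there is a largest open subset
V of Y such that the restriction f⁻¹(V) → V of f has P, and this V is G-stable: the action G ×_k Y →
Y maps G ×_k V into V. -/
theorem result (k : Type u) [Field k]
    (G X Y : Over (Spec (CommRingCat.of k))) [GrpObj G] [LocallyOfFiniteType G.hom]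
    (aX : AlgGrp.Action G X) (aY : AlgGrp.Action G Y) (f : X ⟶ Y) (hf : (G ◁ f) ≫ aY.act = aX.act ≫ f)
    (P : MorphismProperty Scheme.{u}) [IsZariskiLocalAtTarget P] [P.IsStableUnderBaseChange]
    [P.DescendsAlong (@Flat ⊓ @Surjective ⊓ @UniversallyOpen)] :
    ∃ V : Y.left.Opens, P (f.left ∣_ V) ∧ (∀ V' : Y.left.Opens, P (f.left ∣_ V') → V' ≤ V) ∧
      (CartesianMonoidalCategory.snd G Y).left ⁻¹ᵁ V ≤ aY.act.left ⁻¹ᵁ V := by
  let 𝒱 := {V : Y.left.Opens // P (f.left ∣_ V)}
  let V := ⨆ i : ULift.{u + 1} 𝒱, i.down.1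
  have hV : P (f.left ∣_ V) := restrict_of_cover f.left P _ fun i => i.down.2
  have hmax : ∀ V' : Y.left.Opens, P (f.left ∣_ V') → V' ≤ V := fun V' h =>
    le_iSup (fun i : ULift.{u + 1} 𝒱 => i.down.1) ⟨⟨V', h⟩⟩
  refine ⟨V, hV, hmax, ?_⟩
  let O := (snd G Y).left ⁻¹ᵁ V
  -- the two cartesian squares
  have sq₁ : IsPullback (snd G X).left (G ◁ f).left f.left (snd G Y).left :=
    ((Basic.isPullback_whiskerLeft (R := G) f).map (Over.forget _)).flip
  let σX := lift (fst G X) aX.act
  let σY := lift (fst G Y) aY.act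
  have inv_act : ∀ {Z : Over (Spec (CommRingCat.of k))} (a : AlgGrp.Action G Z),
      IsIso (lift (fst G Z) a.act) := by
    intro Z a
    refine ⟨lift (fst G Z) (lift (fst G Z)⁻¹ (snd G Z) ≫ a.act), ?_, ?_⟩
    · refine CartesianMonoidalCategory.hom_ext _ _ (by simp) ?_
      have h2 := congr(lift (lift (fst G Z)⁻¹ (fst G Z)) (snd G Z) ≫ $(a.mul_act))
      rw [← Category.assoc, lift_whiskerRight, ← Hom.mul_def, lift_lift_associator_hom_assoc,
        lift_whiskerLeft_assoc, inv_mul_cancel, Hom.one_def] at h2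
      have h1 := congr(lift (toUnit (G ⊗ Z)) (snd G Z) ≫ $(a.one_act))
      rw [← Category.assoc, lift_whiskerRight, lift_leftUnitor_hom] at h1
      simp [GrpObj.comp_inv, comp_lift_assoc]
      rw [lift_fst_snd, Category.id_comp] at h2
      exact h2.symm.trans h1
    · refine CartesianMonoidalCategory.hom_ext _ _ (by simp) ?_
      have h2 := congr(lift (lift (fst G Z) (fst G Z)⁻¹) (snd G Z) ≫ $(a.mul_act))
      rw [← Category.assoc, lift_whiskerRight, ← Hom.mul_def, lift_lift_associator_hom_assoc,
        lift_whiskerLeft_assoc, mul_inv_cancel, Hom.one_def] at h2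
      have h1 := congr(lift (toUnit (G ⊗ Z)) (snd G Z) ≫ $(a.one_act))
      rw [← Category.assoc, lift_whiskerRight, lift_leftUnitor_hom] at h1
      simp [GrpObj.comp_inv, comp_lift_assoc]
      exact h2.symm.trans h1
  have : IsIso σX := inv_act aX
  have : IsIso σY := inv_act aY
  have sq₂ : IsPullback aX.act.left (G ◁ f).left f.left aY.act.left := by
    have : IsPullback σX (G ◁ f) (G ◁ f) σY := by
      refine IsPullback.of_horiz_isIso ⟨?_⟩
      ext
      · simp [σX, σY]
      · simp [σX, σY, hf]
    have h := this.paste_horiz (Basic.isPullback_whiskerLeft (R := G) f).flip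
    rw [lift_snd, lift_snd] at h
    exact h.map (Over.forget _)
  -- the action is flat and universally open
  have hflat : Flat aY.act.left := by
    rw [← lift_snd (fst G Y) aY.act, Over.comp_left]
    have : IsIso σY.left := Basic.isIso_left σY
    have : Flat (snd G Y).left := Basic.snd_left_mem @Flat inferInstance
    exact MorphismProperty.comp_mem @Flat _ _ inferInstance inferInstance
  have hopen : UniversallyOpen aY.act.left := by
    rw [← lift_snd (fst G Y) aY.act, Over.comp_left]
    have : IsIso σY.left := Basic.isIso_left σY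
    have : UniversallyOpen (snd G Y).left := Basic.snd_left_mem @UniversallyOpen inferInstance
    exact MorphismProperty.comp_mem @UniversallyOpen _ _ inferInstance inferInstance
  let W : Y.left.Opens := ⟨aY.act.left '' O, aY.act.left.isOpenMap _ O.2⟩
  have hOW : O ≤ aY.act.left ⁻¹ᵁ W := fun z hz => ⟨z, hz, rfl⟩
  have hρ : Surjective (aY.act.left.resLE W O hOW) := by
    refine ⟨fun ⟨y, z, hz, hzy⟩ => ⟨⟨z, hz⟩, Subtype.ext ?_⟩⟩
    exact (congr($(Scheme.Hom.resLE_comp_ι (f := aY.act.left) (e := hOW)) ⟨z, hz⟩)).trans hzy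
  have h₁ : P ((G ◁ f).left ∣_ O) :=
    P.of_isPullback (isPullback_restrict sq₁ O V le_rfl) hV
  have hW : P (f.left ∣_ W) := by
    have : UniversallyOpen (aY.act.left.resLE W O hOW) := by
      rw [Scheme.Hom.resLE]
      have : UniversallyOpen (aY.act.left ∣_ W) :=
        IsZariskiLocalAtTarget.restrict hopen W
      exact MorphismProperty.comp_mem @UniversallyOpen _ _ inferInstance this
    exact MorphismProperty.of_isPullback_of_descendsAlong
      (Q := @Flat ⊓ @Surjective ⊓ @UniversallyOpen) (isPullback_restrict sq₂ O W hOW).flip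
      ⟨⟨inferInstance, hρ⟩, this⟩ h₁
  exact fun z hz => hmax W hW ⟨z, hz, rfl⟩

end Groth.Agent.S18826
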