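import Groth.Statements.S18829
import Groth.Agent.Comod.LinRed
import Groth.Agent.S18813
import Mathlib.RingTheory.Bialgebra.MonoidAlgebra

set_option autoImplicit false
universe u
open scoped TensorProduct
open HopfRep

namespace Groth.Agent.S18829

/-- Let k be a field and A a finitely generated commutative Hopf algebra over k, the coordinate ring of
an affine algebraic group T. Suppose T is a torus: for some algebraically closed field extension K
of k the base change K ⊗_k A is isomorphic as a K-bialgebra to the group algebra over K of a free
abelian group ℤ^n (T_K is a split torus of rank n). Then T is linearly reductive in the sense that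
every finite-dimensional A-comodule is semisimple. (The source's definition of a torus asks for such
an isomorphism over every algebraically closed extension; one suffices for the printed argument. The
source's notion of a linearly reductive algebraic group also includes smoothness of T over k, which
this row does not assert.) -/
theorem result (k K A : Type u) [Field k] [Field K]
    [Algebra k K] [IsAlgClosed K] [CommRing A] [HopfAlgebra k A] [Algebra.FiniteType k A] (n : ℕ)
    (e : (K ⊗[k] A) ≃ₐc[K] MonoidAlgebra K (Multiplicative (Fin n → ℤ))) :
    HopfRep.IsLinearlyReductive k A := by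
  refine (S18813.result k K A).2 ((Comod.linRed_iff_exists_integral).2 ?_)
  let G := Multiplicative (Fin n → ℤ)
  let η : MonoidAlgebra K G →ₗ[K] K := Finsupp.lapply (1 : G) ∘ₗ (MonoidAlgebra.coeffLinearEquiv K).toLinearMap
  refine ⟨η ∘ₗ (e.toLinearEquiv : K ⊗[k] A →ₗ[K] MonoidAlgebra K G), fun a => ?_, ?_⟩
  · have hη : ∀ x : MonoidAlgebra K G, η.rTensor (MonoidAlgebra K G) (Coalgebra.comul (R := K) x) = η x ⊗ₜ[K] 1 := by
      intro x
      induction x using MonoidAlgebra.induction_linear with
      | zero => simp
      | add y z hy hz => simp only [map_add, TensorProduct.add_tmul, hy, hz]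
      | single g r =>
        simp only [MonoidAlgebra.comul_single, CommSemiring.comul_apply, TensorProduct.map_tmul, LinearMap.rTensor_tmul]
        rcases eq_or_ne g 1 with rfl | hg
        · have hs : MonoidAlgebra.single (1 : G) r = r • MonoidAlgebra.single (1 : G) (1 : K) := by simp
          simp [η, MonoidAlgebra.one_def]
          rw [hs, ← TensorProduct.smul_tmul, smul_eq_mul, mul_one]
        · simp [η, hg]
    have hc := CoalgHomClass.map_comp_comul_apply e a
    refine (TensorProduct.map_bijective (R := K) (f := (LinearMap.id : K →ₗ[K] K))
      (g := (e.toLinearEquiv : K ⊗[k] A →ₗ[K] MonoidAlgebra K G)) Function.bijective_id e.toLinearEquiv.bijective).1 ?_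
    have e1 : ∀ w, TensorProduct.map LinearMap.id (e.toLinearEquiv : K ⊗[k] A →ₗ[K] MonoidAlgebra K G)
        ((η ∘ₗ (e.toLinearEquiv : K ⊗[k] A →ₗ[K] MonoidAlgebra K G)).rTensor (K ⊗[k] A) w) =
        η.rTensor (MonoidAlgebra K G) (TensorProduct.map (e : K ⊗[k] A →ₗ[K] MonoidAlgebra K G) e w) := by
      intro w
      induction w using TensorProduct.induction_on with
      | zero => simp
      | add y z hy hz => simp only [map_add, hy, hz]
      | tmul y z => simp; rfl
    rw [e1]
    refine (congrArg _ hc).trans ((hη (e a)).trans ?_)
    simp
    exact congrArg₂ (· ⊗ₜ[K] ·) rfl (map_one e).symm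
  · have : e.toLinearEquiv (1 : K ⊗[k] A) = (1 : MonoidAlgebra K G) := map_one e
    simp [η]
    change (e (1 : K ⊗[k] A)).coeff 1 = 1
    simp [map_one e, MonoidAlgebra.one_def]

end Groth.Agent.S18829
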