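import Groth.Statements.S18830
-- import your own Groth.Agent.* helpers here

set_option autoImplicit false
universe u
open CategoryTheory MonoidalCategory CartesianMonoidalCategory MonObj AlgebraicGeometry
open AlgGrp

namespace Groth.Agent.S18830

/-- Let k be a field and M an algebraic monoid over k (a monoid k-scheme of finite type). Let i : G → M
be its group of units: a monomorphism of k-schemes through which a T-valued point of M factors if
and only if it is invertible in the monoid M(T). Then G is of finite type over k, i.e. the unit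
group is an algebraic group. -/
theorem result (k : Type u) [Field k]
    (M G : Over (Spec (CommRingCat.of k))) [MonObj M] [LocallyOfFiniteType M.hom] [QuasiCompact M.hom]
    (i : G ⟶ M) [Mono i]
    (hi : ∀ (T : Over (Spec (CommRingCat.of k))) (m : T ⟶ M), (∃ g : T ⟶ G, g ≫ i = m) ↔ IsUnit m) :
    LocallyOfFiniteType G.hom ∧ QuasiCompact G.hom := by
  have hJ : JacobsonSpace ↥M.left := LocallyOfFiniteType.jacobsonSpace M.hom
  have hη : IsClosedImmersion η[M].left := by
    have : IsImmersion (η[M].left ≫ M.hom) := by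
      rw [Over.w η[M]]; exact inferInstanceAs (IsImmersion (𝟙 _))
    have : IsImmersion η[M].left := IsImmersion.of_comp _ M.hom
    have : Subsingleton ↥(𝟙_ (Over (Spec (CommRingCat.of k)))).left :=
      inferInstanceAs (Subsingleton (PrimeSpectrum k))
    obtain ⟨x, hx⟩ : ∃ x, Set.range η[M].left = {x} :=
      ⟨η[M].left (IsLocalRing.closedPoint k), Set.ext fun y => ⟨fun ⟨z, hz⟩ => by
        rw [← hz, Subsingleton.elim z (IsLocalRing.closedPoint k)]
        rfl, fun h => ⟨_, h.symm⟩⟩⟩
    refine IsClosedImmersion.of_isPreimmersion _ ?_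
    · have hlc := η[M].left.isLocallyClosed_range
      rw [hx] at hlc ⊢
      exact isClosed_singleton_of_isLocallyClosed_singleton hlc
  let m₁ : M ⊗ M ⟶ M := fst M M * snd M M
  let m₂ : M ⊗ M ⟶ M := snd M M * fst M M
  let P := Limits.pullback m₁ η[M]
  let j : P ⟶ M ⊗ M := Limits.pullback.fst _ _
  have hP : IsClosedImmersion j.left :=
    MorphismProperty.of_isPullback
      ((IsPullback.of_hasPullback m₁ η[M]).map (Over.forget _)).flip hη
  let W := Limits.pullback (j ≫ m₂) η[M]
  let l : W ⟶ P := Limits.pullback.fst _ _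
  have hW : IsClosedImmersion l.left :=
    MorphismProperty.of_isPullback
      ((IsPullback.of_hasPullback (j ≫ m₂) η[M]).map (Over.forget _)).flip hη
  let a : W ⟶ M := l ≫ j ≫ fst M M
  let b : W ⟶ M := l ≫ j ≫ snd M M
  have hab : a * b = 1 := by
    change (l ≫ j ≫ fst M M) * (l ≫ j ≫ snd M M) = 1
    rw [← MonObj.comp_mul, ← MonObj.comp_mul, Limits.pullback.condition, ← Category.assoc,
      toUnit_unique (l ≫ Limits.pullback.snd _ _) (toUnit W), ← Hom.one_def]
  have hba : b * a = 1 := by
    change (l ≫ j ≫ snd M M) * (l ≫ j ≫ fst M M) = 1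
    rw [← MonObj.comp_mul, ← MonObj.comp_mul]
    change l ≫ (j ≫ m₂) = 1
    rw [Limits.pullback.condition, toUnit_unique (Limits.pullback.snd _ _) (toUnit W), ← Hom.one_def]
  obtain ⟨α, hα⟩ := (hi W a).2 ⟨⟨a, b, hab, hba⟩, rfl⟩
  obtain ⟨un, hun⟩ := (hi G i).1 ⟨𝟙 G, Category.id_comp i⟩
  have hp : lift (↑un) (↑un⁻¹) ≫ m₁ = toUnit G ≫ η[M] := by
    rw [MonObj.comp_mul, lift_fst, lift_snd, Units.mul_inv, Hom.one_def]
  let β₁ : G ⟶ P := Limits.pullback.lift _ _ hp
  have hq : β₁ ≫ (j ≫ m₂) = toUnit G ≫ η[M] := by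
    rw [Limits.pullback.lift_fst_assoc, MonObj.comp_mul, lift_snd, lift_fst, Units.inv_mul,
      Hom.one_def]
  let β : G ⟶ W := Limits.pullback.lift β₁ (toUnit G) hq
  have hβ : β ≫ a = i := by
    simp only [β, β₁, a, l, j, Limits.pullback.lift_fst_assoc]
    rw [lift_fst, hun]
  have h₁ : β ≫ α = 𝟙 G := by
    rw [← cancel_mono i, Category.assoc, hα, hβ, Category.id_comp]
  have hmono : Mono a := ⟨fun {Z} u v huv => by
    have hb : u ≫ b = v ≫ b := left_inv_eq_right_inv (a := u ≫ a)
      (by rw [← MonObj.comp_mul, hba, MonObj.comp_one])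
      (by rw [huv, ← MonObj.comp_mul, hab, MonObj.comp_one])
    refine Limits.pullback.hom_ext (Limits.pullback.hom_ext ?_ (toUnit_unique _ _)) (toUnit_unique _ _)
    refine CartesianMonoidalCategory.hom_ext _ _ ?_ ?_
    · simpa [a, Category.assoc] using huv
    · simpa [b, Category.assoc] using hb⟩
  have h₂ : α ≫ β = 𝟙 W := by
    rw [← cancel_mono a, Category.assoc, hβ, hα, Category.id_comp]
  let e : G ≅ W := ⟨β, α, h₁, h₂⟩
  have : IsIso e.hom.left := ((Over.forget _).mapIso e).isIso_hom
  have hG : G.hom = (e.hom.left ≫ l.left ≫ j.left) ≫ (M ⊗ M).hom := by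
    simp only [Category.assoc, Over.w]
  have : LocallyOfFiniteType (M ⊗ M).hom :=
    MorphismProperty.comp_mem _ (Limits.pullback.fst M.hom M.hom) M.hom inferInstance inferInstance
  have : QuasiCompact (M ⊗ M).hom :=
    MorphismProperty.comp_mem _ (Limits.pullback.fst M.hom M.hom) M.hom inferInstance inferInstance
  rw [hG]
  exact ⟨inferInstance, inferInstance⟩

end Groth.Agent.S18830
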