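import Groth.Statements.S18831
import Groth.Agent.VBLib.H0Bound

set_option autoImplicit false
universe u
open CategoryTheory CategoryTheory.Limits AlgebraicGeometry
open VBCurve

namespace Groth.Agent.S18831

/-- Let X be a smooth projective integral curve over an algebraically closed field k of characteristic
zero, and G a finite locally free O_X-module of rank r ≥ 1 which is slope-semistable, of slope μ =
deg G / r (deg G = χ(G) − r χ(O_X)). Then dim_k H^0(X, G) ≤ r · max(⌊μ⌋ + 1, 0); in particular a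
slope-semistable bundle of negative slope has no nonzero global section. -/
theorem result (k : Type u) [Field k] [IsAlgClosed k] [CharZero k]
    (X : Scheme.{u}) [X.Over (Spec (CommRingCat.of k))]
    [IsIntegral X] [IsProper (X ↘ Spec (CommRingCat.of k))] [Smooth (X ↘ Spec (CommRingCat.of k))]
    (hdim : topologicalKrullDim X = 1)
    (r : ℕ) (hr : 0 < r) (G : X.Modules) (hG : FlatMod.IsFinLocFreeOfRank r G)
    (hss : ModFun.IsSlopeSemistable k X G r) :
    (Module.finrank k (Coh.HH X G 0) : ℤ) ≤
      (r : ℤ) * max (⌊(Curv2.deg k X G r : ℚ) / (r : ℚ)⌋ + 1) 0 := by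
  have hX := VBLib.goodCurve_of_smooth (k := k) hdim
  have hGf := VBLib.isFinLocFree_of_ofRank hG
  haveI : CompactSpace X := QuasiCompact.compactSpace_of_compactSpace (X ↘ Spec (CommRingCat.of k))
  obtain ⟨x₀, -, hx₀⟩ := IsClosed.exists_closed_singleton (isClosed_univ (X := X)) Set.univ_nonempty
  let m : ℕ := (⌊(Curv2.deg k X G r : ℚ) / (r : ℚ)⌋ + 1).toNat
  have h := hX.finrank_H0_le_mul (pointOfClosedPoint (X ↘ Spec (CommRingCat.of k)) x₀ hx₀)
    (pointOfClosedPoint_comp _ x₀ hx₀) m hGf fun L i hi hL h1 => by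
      have hL1 : FlatMod.IsFinLocFreeOfRank 1 L := h1 ▸ VBLib.ofRank_rk hL
      have h2 := hss L 1 i hi one_pos hL1
      rw [VBLib.dg_eq hL1] at h2
      have h3 : VBLib.dg k L ≤ ⌊(Curv2.deg k X G r : ℚ) / (r : ℚ)⌋ := by
        rw [Int.le_floor, le_div_iff₀ (by exact_mod_cast hr)]
        have : VBLib.dg k L * (r : ℤ) ≤ Curv2.deg k X G r := by simpa using h2
        exact_mod_cast this
      omega
  rw [VBLib.rk_eq hG] at h
  have h' : (Module.finrank k (Coh.HH X G 0) : ℤ) ≤ (r : ℤ) * (m : ℤ) := by exact_mod_cast h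
  rw [Int.toNat_eq_max] at h'
  exact h'


end Groth.Agent.S18831
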