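import Groth.Statements.S18832
import Mathlib
import Groth.Agent.Omega.RegularSmooth
import Groth.Agent.TrdegDim.Basic

set_option autoImplicit false
universe u
open Polynomial
open DefT

namespace Groth.Agent.S18832

open scoped Polynomial

variable {k : Type u} [Field k] {A : Type u} [CommRing A] [Algebra k A]

/-- Every first order jet extends to all orders. -/
theorem exists_jets {m : Ideal A}
    (H : ∀ (l : ℕ), 1 ≤ l →
      ∀ (φ : A →ₐ[k] (k[X] ⧸ Ideal.span {(Polynomial.X : k[X]) ^ l})),
        (∀ a ∈ m, IsNilpotent (φ a)) →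
        ∃ ψ : A →ₐ[k] (k[X] ⧸ Ideal.span {(Polynomial.X : k[X]) ^ (l + 1)}),
          (Ideal.Quotient.factorₐ k
              (Ideal.span_singleton_le_span_singleton.mpr (pow_dvd_pow (Polynomial.X : k[X]) (Nat.le_succ l)))).comp ψ = φ)
    {n : ℕ} (x : Fin n → A) (v : Fin n → k)
    (φ : A →ₐ[k] (k[X] ⧸ Ideal.span {(Polynomial.X : k[X]) ^ 2}))
    (hφm : ∀ a ∈ m, ∃ q : k[X], φ a = Ideal.Quotient.mk _ (Polynomial.X * q))
    (hφx : ∀ i, ∃ q : k[X], φ (x i) = Ideal.Quotient.mk _ (Polynomial.C (v i) * Polynomial.X + Polynomial.X ^ 2 * q)) :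
    ∀ j : ℕ, ∃ ψ : A →ₐ[k] (k[X] ⧸ Ideal.span {(Polynomial.X : k[X]) ^ (j + 2)}),
      (∀ a ∈ m, ∃ q : k[X], ψ a = Ideal.Quotient.mk _ (Polynomial.X * q)) ∧
      ∀ i, ∃ q : k[X], ψ (x i) = Ideal.Quotient.mk _ (Polynomial.C (v i) * Polynomial.X + Polynomial.X ^ 2 * q)
  | 0 => ⟨φ, hφm, hφx⟩
  | j + 1 => by
    obtain ⟨ψ, hm, hx⟩ := exists_jets H x v φ hφm hφx j
    obtain ⟨ψ', hψ'⟩ := H (j + 2) (by omega) ψ fun a ha => by
      obtain ⟨q, hq⟩ := hm a ha
      refine ⟨j + 2, ?_⟩
      rw [hq, ← map_pow, mul_pow, Ideal.Quotient.eq_zero_iff_mem]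
      exact Ideal.mul_mem_right _ _ (Ideal.mem_span_singleton_self _)
    have key : ∀ (a : A) (P : k[X]), ψ a = Ideal.Quotient.mk _ P →
        ∃ q : k[X], ψ' a = Ideal.Quotient.mk _ (P + Polynomial.X ^ (j + 2) * q) := by
      intro a P hP
      obtain ⟨P', hP'⟩ := Ideal.Quotient.mk_surjective (ψ' a)
      have h1 : Ideal.Quotient.factorₐ k
          (Ideal.span_singleton_le_span_singleton.mpr (pow_dvd_pow (Polynomial.X : k[X]) (Nat.le_succ (j + 2))))
          (ψ' a) = ψ a := DFunLike.congr_fun hψ' a
      rw [← hP', hP] at h1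
      obtain ⟨q, hq⟩ := Ideal.mem_span_singleton'.1 (Ideal.Quotient.eq.1 h1)
      refine ⟨q, ?_⟩
      rw [← hP']
      congr 1
      rw [mul_comm, hq]
      ring
    refine ⟨ψ', fun a ha => ?_, fun i => ?_⟩
    · obtain ⟨q, hq⟩ := hm a ha
      obtain ⟨q', hq'⟩ := key a _ hq
      exact ⟨q + Polynomial.X ^ (j + 1) * q', hq'.trans (congrArg _ (by ring))⟩
    · obtain ⟨q, hq⟩ := hx i
      obtain ⟨q', hq'⟩ := key (x i) _ hq
      exact ⟨q + Polynomial.X ^ j * q', hq'.trans (congrArg _ (by ring))⟩

/-- The coefficient of `X ^ d` along a line through the origin. -/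
theorem dvd_component {n : ℕ} (v : Fin n → k) (q : Fin n → k[X]) (f : MvPolynomial (Fin n) k) (d : ℕ)
    (hlow : ∀ i < d, MvPolynomial.homogeneousComponent i f = 0) :
    (Polynomial.X : k[X]) ^ (d + 1) ∣
      MvPolynomial.aeval (fun i => Polynomial.C (v i) * Polynomial.X + Polynomial.X ^ 2 * q i) f -
        Polynomial.X ^ d * Polynomial.C (MvPolynomial.eval v (MvPolynomial.homogeneousComponent d f)) := by
  classical
  set w : Fin n → k[X] := fun i => Polynomial.C (v i) + Polynomial.X * q i with hw
  have hwx : (fun i => Polynomial.C (v i) * Polynomial.X + Polynomial.X ^ 2 * q i) = fun i => Polynomial.X * w i :=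
    funext fun i => by simp [hw]; ring
  have hhom : ∀ (e : ℕ) (F : MvPolynomial (Fin n) k), F.IsHomogeneous e →
      MvPolynomial.aeval (fun i => Polynomial.X * w i) F = Polynomial.X ^ e * MvPolynomial.aeval w F := by
    intro e F hF
    conv_lhs => rw [F.as_sum, map_sum]
    conv_rhs => rw [F.as_sum, map_sum, Finset.mul_sum]
    refine Finset.sum_congr rfl fun s hs => ?_
    have hse : ∑ i, s i = e := by
      have := hF (MvPolynomial.mem_support_iff.1 hs)
      simpa [Finsupp.weight_apply, Finsupp.sum_fintype] using this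
    rw [MvPolynomial.aeval_monomial, MvPolynomial.aeval_monomial, Finsupp.prod_fintype _ _ (fun i => pow_zero _),
      Finsupp.prod_fintype _ _ (fun i => pow_zero _), Finset.prod_congr rfl (fun i _ => mul_pow _ _ _),
      Finset.prod_mul_distrib, Finset.prod_pow_eq_pow_sum, hse]
    ring
  have hd : (Polynomial.X : k[X]) ∣ MvPolynomial.aeval w (MvPolynomial.homogeneousComponent d f) -
      Polynomial.C (MvPolynomial.eval v (MvPolynomial.homogeneousComponent d f)) := by
    rw [Polynomial.X_dvd_iff, Polynomial.coeff_sub, Polynomial.coeff_C_zero, sub_eq_zero]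
    generalize MvPolynomial.homogeneousComponent d f = F
    rw [Polynomial.coeff_zero_eq_eval_zero, ← Polynomial.coe_evalRingHom]
    induction F using MvPolynomial.induction_on with
    | C a => simp
    | add a b ha hb => rw [map_add, map_add, ha, hb, map_add]
    | mul_X a i ha => rw [map_mul, map_mul, ha, map_mul]; simp [hw]
  rw [hwx]
  conv => arg 2; arg 1; rw [← MvPolynomial.sum_homogeneousComponent f, map_sum]
  rw [Finset.sum_congr rfl (fun e _ => hhom e _ (MvPolynomial.homogeneousComponent_isHomogeneous e f))]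
  rcases lt_or_ge f.totalDegree d with hlt | hge
  · rw [MvPolynomial.homogeneousComponent_eq_zero d f hlt]
    simp only [map_zero, mul_zero, sub_zero]
    refine Finset.dvd_sum fun e he => ?_
    rw [hlow e (lt_of_lt_of_le (Finset.mem_range.1 he) hlt), map_zero, mul_zero]
    exact dvd_zero _
  rw [← Finset.add_sum_erase _ _ (Finset.mem_range.2 (Nat.lt_succ_of_le hge) : d ∈ Finset.range (f.totalDegree + 1)),
    add_sub_right_comm, ← mul_sub]
  refine dvd_add ?_ (Finset.dvd_sum fun e he => ?_)
  · rw [pow_succ]; exact mul_dvd_mul_left _ hd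
  · obtain ⟨hne, -⟩ := Finset.mem_erase.1 he
    rcases lt_or_gt_of_ne hne with h | h
    · rw [hlow e h, map_zero, mul_zero]; exact dvd_zero _
    · exact Dvd.dvd.mul_right (pow_dvd_pow _ h) _

/-- Polynomial functions killed by all jets vanish. -/
theorem eq_zero_of_jets [Infinite k] {n : ℕ} (f : MvPolynomial (Fin n) k) (x : Fin n → A)
    (hψ : ∀ (v : Fin n → k) (d : ℕ), ∃ ψ : A →ₐ[k] (k[X] ⧸ Ideal.span {(Polynomial.X : k[X]) ^ (d + 2)}),
      ψ (MvPolynomial.aeval x f) = 0 ∧
      ∀ i, ∃ q : k[X], ψ (x i) = Ideal.Quotient.mk _ (Polynomial.C (v i) * Polynomial.X + Polynomial.X ^ 2 * q)) :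
    f = 0 := by
  classical
  have h : ∀ d, MvPolynomial.homogeneousComponent d f = 0 := by
    intro d
    induction d using Nat.strong_induction_on with
    | _ d ih =>
      refine MvPolynomial.funext fun v => ?_
      obtain ⟨ψ, h0, hq⟩ := hψ v d
      choose q hq using hq
      have h1 : Ideal.Quotient.mk (Ideal.span {(Polynomial.X : k[X]) ^ (d + 2)})
          (MvPolynomial.aeval (fun i => Polynomial.C (v i) * Polynomial.X + Polynomial.X ^ 2 * q i) f) = 0 := by
        have hc : ψ.comp (MvPolynomial.aeval x) = (Ideal.Quotient.mkₐ k (Ideal.span {(Polynomial.X : k[X]) ^ (d + 2)})).comp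
            (MvPolynomial.aeval (R := k) fun i => Polynomial.C (v i) * Polynomial.X + Polynomial.X ^ 2 * q i) :=
          MvPolynomial.algHom_ext fun i => by
            simp only [AlgHom.comp_apply, MvPolynomial.aeval_X, Ideal.Quotient.mkₐ_eq_mk, hq]
        exact (DFunLike.congr_fun hc f).symm.trans h0
      rw [Ideal.Quotient.eq_zero_iff_mem, Ideal.mem_span_singleton] at h1
      have h2 := dvd_sub ((pow_dvd_pow (Polynomial.X : k[X]) (by omega : d + 1 ≤ d + 2)).trans h1)
        (dvd_component v q f d ih)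
      rw [sub_sub_cancel, Polynomial.X_pow_dvd_iff] at h2
      simpa using h2 d (Nat.lt_succ_self d)
  rw [← MvPolynomial.sum_homogeneousComponent f]
  exact Finset.sum_eq_zero fun d _ => h d

/-- Let k be an algebraically closed field of characteristic zero, A a finitely generated k-algebra and
m a maximal ideal of A. Then A_m is a regular local ring (the pointed scheme (Spec A, m) is smooth
at m) if and only if, for every l ≥ 1, every k-algebra homomorphism φ : A → k[X]/(X^l) mapping m
into the nilpotent elements extends to a k-algebra homomorphism ψ : A → k[X]/(X^(l+1)) reducing to φ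
modulo X^l. Only jets along Spec k[X]/(X^l) are tested, not all local Artinian algebras. -/
theorem result (k : Type u) [Field k] [IsAlgClosed k] [CharZero k]
    (A : Type u) [CommRing A] [Algebra k A] [Algebra.FiniteType k A]
    (m : Ideal A) [m.IsMaximal] :
    IsRegularLocalRing (Localization.AtPrime m) ↔
      ∀ (l : ℕ), 1 ≤ l →
        ∀ (φ : A →ₐ[k] (k[X] ⧸ Ideal.span {(X : k[X]) ^ l})),
          (∀ a ∈ m, IsNilpotent (φ a)) →
          ∃ ψ : A →ₐ[k] (k[X] ⧸ Ideal.span {(X : k[X]) ^ (l + 1)}),
            (Ideal.Quotient.factorₐ k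
                (Ideal.span_singleton_le_span_singleton.mpr (pow_dvd_pow (X : k[X]) (Nat.le_succ l)))).comp ψ = φ := by
  classical
  haveI : IsNoetherianRing A := Algebra.FiniteType.isNoetherianRing k A
  haveI : Algebra.FinitePresentation k A := Algebra.FinitePresentation.of_finiteType.mp inferInstance
  letI := Ideal.Quotient.field m
  haveI : Module.Finite k (A ⧸ m) := finite_of_finite_type_of_isJacobsonRing k (A ⧸ m)
  let e : k ≃ₐ[k] A ⧸ m := AlgEquiv.ofBijective (Algebra.ofId k (A ⧸ m))
    IsAlgClosed.algebraMap_bijective_of_isIntegral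
  let χ : A →ₐ[k] k := e.symm.toAlgHom.comp (Ideal.Quotient.mkₐ k m)
  have hχ : ∀ a, a ∈ m ↔ χ a = 0 := fun a => by
    show _ ↔ e.symm (Ideal.Quotient.mk m a) = 0
    rw [map_eq_zero_iff _ e.symm.injective, Ideal.Quotient.eq_zero_iff_mem]
  have hunit : ∀ {D : Type u} [CommRing D] [Algebra k D] (φ : A →ₐ[k] D),
      (∀ a ∈ m, IsNilpotent (φ a)) → ∀ s : m.primeCompl, IsUnit (φ s) := by
    intro D _ _ φ hφ s
    have h1 : ((s : A) - algebraMap k A (χ s)) ∈ m := (hχ _).2 (by simp)
    have h2 : IsUnit (φ (algebraMap k A (χ s))) := by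
      rw [AlgHom.commutes]
      exact (isUnit_iff_ne_zero.2 fun h => s.2 ((hχ _).2 h)).map _
    have h3 := (hφ _ h1).isUnit_add_left_of_commute h2 (Commute.all _ _)
    rwa [← map_add, add_sub_cancel] at h3
  constructor
  · intro hreg l hl φ hφ
    haveI : Algebra.IsSmoothAt k m := by
      haveI : Algebra.IsGeometricallyReduced k m.ResidueField :=
        (FieldSep.MacLane.formallySmooth_iff k _).mp (FieldSep.Cartier.formallySmooth_of_perfectField k _)
      exact (S9442.result k A m).mpr hreg
    haveI : Algebra.FormallySmooth k (Localization.AtPrime m) := ‹Algebra.IsSmoothAt k m›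
    let φ' : Localization.AtPrime m →ₐ[k] (k[X] ⧸ Ideal.span {(Polynomial.X : k[X]) ^ l}) :=
      IsLocalization.liftAlgHom (M := m.primeCompl) (f := φ) (hunit φ hφ)
    let g := Ideal.Quotient.factorₐ k
      (Ideal.span_singleton_le_span_singleton.mpr (pow_dvd_pow (Polynomial.X : k[X]) (Nat.le_succ l)))
    have hg : Function.Surjective g := fun y => by
      obtain ⟨P, rfl⟩ := Ideal.Quotient.mk_surjective y
      exact ⟨Ideal.Quotient.mk _ P, rfl⟩
    have hn : IsNilpotent (RingHom.ker g) := by
      refine ⟨2, ?_⟩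
      rw [Ideal.zero_eq_bot, show RingHom.ker g ^ 2 = RingHom.ker g * RingHom.ker g from sq _, eq_bot_iff, Ideal.mul_le]
      intro a ha b hb
      obtain ⟨P, rfl⟩ := Ideal.Quotient.mk_surjective a
      obtain ⟨P', rfl⟩ := Ideal.Quotient.mk_surjective b
      have h1 : P ∈ Ideal.span {(Polynomial.X : k[X]) ^ l} := Ideal.Quotient.eq_zero_iff_mem.1 ha
      have h2 : P' ∈ Ideal.span {(Polynomial.X : k[X]) ^ l} := Ideal.Quotient.eq_zero_iff_mem.1 hb
      rw [Ideal.mem_bot, ← map_mul, Ideal.Quotient.eq_zero_iff_mem, Ideal.mem_span_singleton]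
      rw [Ideal.mem_span_singleton] at h1 h2
      exact (pow_dvd_pow _ (by omega : l + 1 ≤ l + l)).trans (pow_add (Polynomial.X : k[X]) l l ▸ mul_dvd_mul h1 h2)
    refine ⟨(Algebra.FormallySmooth.liftOfSurjective φ' g hg hn).comp
      (IsScalarTower.toAlgHom k A (Localization.AtPrime m)), AlgHom.ext fun a => ?_⟩
    show g (Algebra.FormallySmooth.liftOfSurjective φ' g hg hn _) = φ a
    rw [Algebra.FormallySmooth.liftOfSurjective_apply φ' g hg hn]
    exact IsLocalization.lift_eq _ a
  intro H
  -- a basis of the cotangent space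
  haveI : Module.Finite A m := Module.Finite.iff_fg.2 (IsNoetherian.noetherian m)
  haveI : Module.Finite A m.Cotangent := Module.Finite.of_surjective m.toCotangent m.toCotangent_surjective
  haveI : IsScalarTower k (A ⧸ m) m.Cotangent := ⟨fun c r y => by
    obtain ⟨a, rfl⟩ := Ideal.Quotient.mk_surjective r
    rw [Algebra.smul_def, IsScalarTower.algebraMap_apply k A (A ⧸ m), Ideal.Quotient.algebraMap_eq, ← map_mul,
      ← IsScalarTower.algebraMap_smul A c]
    exact mul_smul (algebraMap k A c) a y⟩
  haveI : Module.Finite (A ⧸ m) m.Cotangent := Module.Finite.of_restrictScalars_finite A _ _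
  haveI : Module.Finite k m.Cotangent := Module.Finite.trans (A ⧸ m) _
  let n := Module.finrank k m.Cotangent
  let b := Module.finBasis k m.Cotangent
  choose x₀ hx₀ using fun i => m.toCotangent_surjective (b i)
  let x : Fin n → A := fun i => x₀ i
  let L := Localization.AtPrime m
  -- the cotangent space is spanned
  have hspan : m ≤ Ideal.span (Set.range x) ⊔ m ^ 2 := fun a ha => by
    have h1 := b.sum_repr (m.toCotangent ⟨a, ha⟩)
    have h2 : m.toCotangent (∑ i, algebraMap k A (b.repr (m.toCotangent ⟨a, ha⟩) i) • x₀ i) =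
        m.toCotangent ⟨a, ha⟩ := by
      rw [map_sum]
      refine (Finset.sum_congr rfl fun i _ => ?_).trans h1
      rw [map_smul, hx₀, IsScalarTower.algebraMap_smul]
    rw [Ideal.toCotangent_eq] at h2
    rw [show a = (∑ i, algebraMap k A (b.repr (m.toCotangent ⟨a, ha⟩) i) • x₀ i : m) -
      (((∑ i, algebraMap k A (b.repr (m.toCotangent ⟨a, ha⟩) i) • x₀ i : m) : A) - a) by ring]
    refine Submodule.sub_mem _ (Ideal.mem_sup_left ?_) (Ideal.mem_sup_right h2)
    rw [Submodule.coe_sum]
    exact Submodule.sum_mem _ fun i _ => Ideal.mul_mem_left _ _ (Ideal.subset_span ⟨i, rfl⟩)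
  have hgen : (IsLocalRing.maximalIdeal L).spanFinrank ≤ n := by
    have hle : IsLocalRing.maximalIdeal L ≤ Ideal.span (Set.range (algebraMap A L ∘ x)) := by
      rw [← Localization.AtPrime.map_eq_maximalIdeal]
      refine Submodule.le_of_le_smul_of_le_jacobson_bot (I := IsLocalRing.maximalIdeal L)
        (IsNoetherian.noetherian _) (IsLocalRing.maximalIdeal_le_jacobson _) ?_
      refine (Ideal.map_mono hspan).trans ?_
      rw [Ideal.map_sup, Ideal.map_span, ← Set.range_comp, Ideal.map_pow, smul_eq_mul,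
        Localization.AtPrime.map_eq_maximalIdeal, pow_two]
    have heq : IsLocalRing.maximalIdeal L = Ideal.span (Set.range (algebraMap A L ∘ x)) := by
      refine le_antisymm hle (Ideal.span_le.2 ?_)
      rintro _ ⟨i, rfl⟩
      exact (IsLocalization.AtPrime.to_map_mem_maximal_iff L m _).2 (x₀ i).2
    rw [heq]
    calc _ ≤ (Set.range (algebraMap A L ∘ x)).ncard :=
          Submodule.spanFinrank_span_le_ncard_of_finite (Set.finite_range _)
      _ ≤ n := by
          rw [← Set.image_univ]
          exact (Set.ncard_image_le (Set.finite_univ)).trans (by simp [Set.ncard_univ])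
  -- injectivity
  let ι : MvPolynomial (Fin n) k →ₐ[k] L := (IsScalarTower.toAlgHom k A L).comp (MvPolynomial.aeval x)
  have hinj : Function.Injective ι := by
    rw [injective_iff_map_eq_zero]
    intro f hf
    obtain ⟨s, hs⟩ := (IsLocalization.map_eq_zero_iff m.primeCompl L _).1 hf
    refine eq_zero_of_jets f x fun v d => ?_
    let ℓ : m.Cotangent →ₗ[k] k := b.constr k v
    let D : A →ₗ[k] k :=
      ℓ.comp ((m.toCotangent.restrictScalars k).comp
        ((LinearMap.id - (Algebra.linearMap k A).comp χ.toLinearMap).codRestrict (m.restrictScalars k)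
          fun a => (hχ _).2 (by simp)))
    have hD : ∀ a, D a = ℓ (m.toCotangent ⟨a - algebraMap k A (χ a), (hχ _).2 (by simp)⟩) := fun a => rfl
    have hDmul : ∀ a c, D (a * c) = χ a * D c + χ c * D a := fun a c => by
      simp only [hD]
      rw [← smul_eq_mul (χ a), ← smul_eq_mul (χ c), ← map_smul ℓ, ← map_smul ℓ, ← map_add ℓ]
      congr 1
      rw [← IsScalarTower.algebraMap_smul A (χ a), ← IsScalarTower.algebraMap_smul A (χ c), ← map_smul,
        ← map_smul, ← map_add, Ideal.toCotangent_eq]
      show (a * c - algebraMap k A (χ (a * c))) - (algebraMap k A (χ a) * (c - algebraMap k A (χ c)) +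
        algebraMap k A (χ c) * (a - algebraMap k A (χ a))) ∈ m ^ 2
      rw [map_mul, map_mul, show a * c - algebraMap k A (χ a) * algebraMap k A (χ c) -
        (algebraMap k A (χ a) * (c - algebraMap k A (χ c)) + algebraMap k A (χ c) * (a - algebraMap k A (χ a))) =
        (a - algebraMap k A (χ a)) * (c - algebraMap k A (χ c)) by ring, pow_two]
      exact Ideal.mul_mem_mul ((hχ _).2 (by simp)) ((hχ _).2 (by simp))
    let φ₂ : A →ₐ[k] (k[X] ⧸ Ideal.span {(Polynomial.X : k[X]) ^ 2}) :=
      AlgHom.ofLinearMap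
        ((Ideal.Quotient.mkₐ k _).toLinearMap.comp
          ((Algebra.linearMap k k[X]).comp χ.toLinearMap +
            (LinearMap.mulRight k (Polynomial.X : k[X])).comp ((Algebra.linearMap k k[X]).comp D)))
        (by
          have h0 : D 1 = 0 := by simpa using hDmul 1 1
          simp [h0])
        (fun a c => by
          simp only [LinearMap.comp_apply, LinearMap.add_apply, AlgHom.toLinearMap_apply,
            Algebra.linearMap_apply, LinearMap.mulRight_apply, Ideal.Quotient.mkₐ_eq_mk]
          rw [← map_mul (Ideal.Quotient.mk _), Ideal.Quotient.eq, Ideal.mem_span_singleton]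
          refine ⟨-(Polynomial.C (D a) * Polynomial.C (D c)), ?_⟩
          simp only [Polynomial.algebraMap_eq, hDmul, map_add, map_mul]
          ring)
    have hφ₂ : ∀ a, φ₂ a = Ideal.Quotient.mk _ (Polynomial.C (χ a) + Polynomial.C (D a) * Polynomial.X) := fun a => rfl
    have hjets := exists_jets H x v φ₂ (fun a ha => ⟨Polynomial.C (D a), by
        rw [hφ₂, (hχ a).1 ha, map_zero, zero_add, mul_comm]⟩)
      (fun i => ⟨0, by
        rw [hφ₂, (hχ (x i)).1 (x₀ i).2, map_zero, zero_add, mul_zero, add_zero, hD]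
        congr 3
        have h1 : (⟨x i - algebraMap k A (χ (x i)), (hχ _).2 (by simp)⟩ : m) = x₀ i :=
          Subtype.ext (by simp [(hχ (x i)).1 (x₀ i).2, x])
        rw [h1, hx₀]
        exact b.constr_basis k v i⟩)
    obtain ⟨ψ, hm', hx'⟩ := hjets d
    refine ⟨ψ, ?_, hx'⟩
    have hu := hunit ψ (fun a ha => by
      obtain ⟨q, hq⟩ := hm' a ha
      refine ⟨d + 2, ?_⟩
      rw [hq, ← map_pow, mul_pow, Ideal.Quotient.eq_zero_iff_mem]
      exact Ideal.mul_mem_right _ _ (Ideal.mem_span_singleton_self _)) s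
    have h5 := congrArg ψ hs
    rw [map_mul, map_zero] at h5
    exact hu.mul_right_eq_zero.1 h5
  -- a component of dimension at least `n`
  obtain ⟨p, hp, hpm, hpinj⟩ : ∃ p ∈ minimalPrimes A, p ≤ m ∧
      Function.Injective ((Ideal.Quotient.mkₐ k p).comp (MvPolynomial.aeval (R := k) x)) := by
    by_contra hcon
    push Not at hcon
    have hz : ∀ p ∈ (minimalPrimes.finite_of_isNoetherianRing A).toFinset.filter (fun p => p ≤ m),
        ∃ f : MvPolynomial (Fin n) k, MvPolynomial.aeval x f ∈ p ∧ f ≠ 0 := by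
      intro p hp
      rw [Finset.mem_filter, Set.Finite.mem_toFinset] at hp
      have h1 := hcon p hp.1 hp.2
      rw [injective_iff_map_eq_zero] at h1
      push Not at h1
      obtain ⟨f, hf, hf0⟩ := h1
      exact ⟨f, Ideal.Quotient.eq_zero_iff_mem.1 hf, hf0⟩
    choose! f hf hf0 using hz
    set g := ∏ p ∈ (minimalPrimes.finite_of_isNoetherianRing A).toFinset.filter (fun p => p ≤ m), f p with hg
    have hg0 : g ≠ 0 := Finset.prod_ne_zero_iff.2 hf0
    have hnil : IsNilpotent (ι g) := by
      rw [nilpotent_iff_mem_prime]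
      intro Q hQ
      obtain ⟨p, hp, hpQ⟩ := Ideal.exists_minimalPrimes_le (bot_le : (⊥ : Ideal A) ≤ Q.comap (algebraMap A L))
      have hpm : p ≤ m := hpQ.trans (fun a ha => by
        by_contra h
        exact hQ.ne_top (Ideal.eq_top_of_isUnit_mem _ ha (IsLocalization.map_units L (⟨a, h⟩ : m.primeCompl))))
      have hmem : p ∈ (minimalPrimes.finite_of_isNoetherianRing A).toFinset.filter (fun p => p ≤ m) := by
        rw [Finset.mem_filter, Set.Finite.mem_toFinset]; exact ⟨hp, hpm⟩
      haveI := hp.1.1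
      refine hpQ ?_
      show MvPolynomial.aeval x g ∈ p
      rw [hg, map_prod]
      exact p.mem_of_dvd (Finset.dvd_prod_of_mem _ hmem) (hf p hmem)
    obtain ⟨N, hN⟩ := hnil
    rw [← map_pow] at hN
    exact pow_ne_zero N hg0 (hinj (hN.trans (map_zero ι).symm))
  haveI : p.IsPrime := hp.1.1
  haveI : Algebra.FiniteType k (A ⧸ p) := VarDim.finiteType_quotient k A p
  have hr : Algebra.trdeg k m.ResidueField = (0 : ℕ) := by
    haveI : Algebra.IsAlgebraic k m.ResidueField := by
      haveI : Module.Finite k m.ResidueField :=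
        Module.Finite.of_surjective (IsScalarTower.toAlgHom k (A ⧸ m) m.ResidueField).toLinearMap
          (Ideal.bijective_algebraMap_quotient_residueField m).2
      infer_instance
    rw [trdeg_eq_zero (R := k) (A := m.ResidueField), Nat.cast_zero]
  obtain ⟨r, hr1, hr2, -⟩ := VarDim.exists_ringKrullDim_eq_trdeg k (A ⧸ p)
  have hnr : n ≤ r := by
    have h1 : AlgebraicIndependent k fun i => Ideal.Quotient.mkₐ k p (x i) := by
      rw [algebraicIndependent_iff_injective_aeval]
      refine Eq.mpr ?_ hpinj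
      congr 1
      rw [MvPolynomial.comp_aeval]
    have h2 := h1.lift_cardinalMk_le_trdeg
    rw [hr2] at h2
    simpa using h2
  have hdim : ((n : ℕ) : WithBot ℕ∞) ≤ ringKrullDim L := by
    rw [IsLocalization.AtPrime.ringKrullDim_eq_height m L]
    have := TrdegDim.ringKrullDim_quotient_le (k := k) m p hpm 0 hr
    rw [hr1, Nat.cast_zero, add_zero] at this
    exact le_trans (by exact_mod_cast hnr) this
  exact IsRegularLocalRing.of_spanFinrank_maximalIdeal_le _ (le_trans (by exact_mod_cast hgen) hdim)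


end Groth.Agent.S18832
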