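import Groth.Statements.S18833
import Groth.Agent.ShStabLib.Ell.Apps
-- import your own Groth.Agent.* helpers here

set_option autoImplicit false
open CategoryTheory CategoryTheory.Limits AlgebraicGeometry Polynomial
universe u
open ShStab

namespace Groth.Agent.S18833

/-- Let k be an algebraically closed field of characteristic zero, X a smooth projective integral
variety of dimension n ≥ 1 over k with an ample invertible sheaf L, and F a nonzero torsion-free
coherent O_X-module (pure of dimension n). Then F has exactly one increasing filtration by saturated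
subsheaves 0 ⊂ F_0 ⊂ ⋯ ⊂ F_s = F whose graded pieces are torsion-free and slope-semistable with
strictly decreasing slopes. Slopes are compared through the quantity α_(n−1)/α_n of the Hilbert
polynomials with respect to L, an increasing affine function of the slope det · L^(n−1)/rank used in
the source; the source takes L very ample, its argument using only that high twists of coherent
sheaves are globally generated, so L is taken ample here. -/
theorem result (k : Type u) [Field k] [IsAlgClosed k] [CharZero k]
    (X : Scheme.{u}) [X.Over (Spec (CommRingCat.of k))] [IsIntegral X]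
    [IsProper (X ↘ Spec (CommRingCat.of k))] [Smooth (X ↘ Spec (CommRingCat.of k))]
    (n : ℕ) (hn : 1 ≤ n) (hX : topologicalKrullDim X = (n : WithBot ℕ∞))
    (L : X.Modules) (hLi : PicF.IsInvertible L) (hL : CohB1.IsAmple L)
    (F : X.Modules) (hF : Coh.IsCoh F) (h0 : ¬ IsZero F) (htf : ShStab.IsPure X F n) :
    ∃! s : LTSeries (Subobject F),
      s.head = ⊥ ∧ s.last = ⊤ ∧
      (∀ i : Fin s.length,
        ShStab.IsPure X (StabCat.factor s i) n ∧ ShStab.IsMuSemistable k X L (StabCat.factor s i) n) ∧
      ∀ (i j : Fin s.length), i.val + 1 = j.val →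
        ∀ (p q : ℚ[X]), ShStab.IsHilbPoly k X L (StabCat.factor s i) p →
          ShStab.IsHilbPoly k X L (StabCat.factor s j) q →
          StabCat.hatSlope n q < StabCat.hatSlope n p := by
  open Groth.Agent.ShStabLib Groth.Agent.HilbPolyX in
  obtain ⟨s, hs0, hsl, hchain, hc, -⟩ := Ell.exists_hnChain k hL (ℓ := 1) hF (⊥ : Subobject F)
    isCohSub_bot (isPure_quo_bot htf)
  refine ⟨s, ⟨hs0, hsl, fun i => ?_, fun i j hij p q hp hq => ?_⟩, fun t ht => ?_⟩
  · have h := hchain.1 i (s.step i).le
    exact ⟨h.2.2.1, (Ell.isMuSemistable_iff_isEll k hn h.2.2.1).2 h⟩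
  · have hi := hchain.1 i (s.step i).le
    have hj := hchain.1 j (s.step j).le
    rw [eq_hilb k hL hi.1 hp, eq_hilb k hL hj.1 hq]
    refine (Ell.redLT_one_iff hn (alpha_pos_of_isPure k hL hj.1 hj.2.1 hj.2.2.1)
      (alpha_pos_of_isPure k hL hi.1 hi.2.1 hi.2.2.1)).1 ?_
    show StabCat.RedLT n (Ell.tl k L n 1 (quo (s.step j).le)) (Ell.tl k L n 1 (quo (s.step i).le))
    rw [Ell.tl_quo k hL (s.step j).le (hc _) (hc _), Ell.tl_quo k hL (s.step i).le (hc _) (hc _)]
    exact hchain.2 i j hij
  · obtain ⟨ht0, htl, htf', hdec⟩ := ht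
    haveI := Groth.Agent.EulerChar.isNoetherian k (X := X)
    have htc := isCohSub_of_steps t (ht0 ▸ isCohSub_bot) fun i => (htf' i).2.1
    have htchain : Ell.IsHNChain k L n 1 t := by
      refine ⟨fun i _ => (Ell.isMuSemistable_iff_isEll k hn (htf' i).1).1 (htf' i).2,
        fun i j hij => ?_⟩
      obtain ⟨hiP, hiS⟩ := htf' i
      obtain ⟨hjP, hjS⟩ := htf' j
      have h := (Ell.redLT_one_iff hn (alpha_pos_of_isPure k hL hjS.1 hjS.2.1 hjP)
        (alpha_pos_of_isPure k hL hiS.1 hiS.2.1 hiP)).2
        (hdec i j hij _ _ (isHilbPoly_hilb k hL hiS.1) (isHilbPoly_hilb k hL hjS.1))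
      change StabCat.RedLT n (Ell.tl k L n 1 (quo (t.step j).le)) (Ell.tl k L n 1 (quo (t.step i).le)) at h
      rwa [Ell.tl_quo k hL (t.step j).le (htc _) (htc _),
        Ell.tl_quo k hL (t.step i).le (htc _) (htc _)] at h
    refine series_ext t s (ht0.trans hs0.symm) htl hsl fun i j e => ?_
    have h1 := Ell.maxAt_step k hL hF t htchain htc htl i
    have h2 := Ell.maxAt_step k hL hF s hchain hc hsl j
    rw [e] at h1
    exact h1.unique k h2

end Groth.Agent.S18833
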