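import Groth.Statements.S18834
import Groth.Agent.Comod.Reynolds

set_option autoImplicit false
universe u
open TensorProduct
open GIT

namespace Groth.Agent.S18834

/-- Let k be an algebraically closed field of characteristic zero, G = Spec A a linearly reductive
affine group over k (A a commutative Hopf algebra whose finite-dimensional comodules are semisimple)
acting on an affine k-scheme Spec R of finite type (a multiplicative coaction of A on R), and R^G
the ring of invariants. Then for every ideal I of R^G the ideal I·R of R generated by I satisfies
(I·R) ∩ R^G = I. (The section also assumes Spec R irreducible; that hypothesis plays no role here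
and is not carried.) -/
theorem result (k : Type u) [Field k] [IsAlgClosed k] [CharZero k]
    (A : Type u) [CommRing A] [HopfAlgebra k A] (hG : HopfRep.IsLinearlyReductive k A)
    (R : Type u) [CommRing R] [Algebra k R] [Algebra.FiniteType k R]
    [HopfRep.Comod k A R] [GLin.IsCoactAlg k A R]
    (I : Ideal (GLin.invariants k A R)) :
    Ideal.comap (GLin.invariants k A R).val.toRingHom
        (Ideal.map (GLin.invariants k A R).val.toRingHom I) = I := by
  haveI := Groth.Agent.Comod.Reynolds.isSemisimpleModule hG R
  obtain ⟨E, h₁, h₂, h₃⟩ := Groth.Agent.Comod.Reynolds.exists_reynolds (k := k) (A := A) (V := R)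
  refine le_antisymm (fun x hx => ?_) Ideal.le_comap_map
  have hfix : ∀ z : R, E z ∈ GLin.invariants k A R := fun z => (h₃ _).1 (LinearMap.congr_fun h₂ z)
  have key : ∀ r ∈ Ideal.map (GLin.invariants k A R).val.toRingHom I, ∀ z : R,
      (⟨E (z * r), hfix _⟩ : GLin.invariants k A R) ∈ I := by
    intro r hr
    induction hr using Submodule.span_induction with
    | mem _ h =>
      obtain ⟨i, hi, rfl⟩ := h
      intro z
      have : (⟨E (z * (i : R)), hfix _⟩ : GLin.invariants k A R) = ⟨E z, hfix z⟩ * i :=
        Subtype.ext (Groth.Agent.Comod.Reynolds.mul_invariant h₁ h₂ h₃ z i.2)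
      exact this ▸ I.mul_mem_left _ hi
    | zero => intro z; convert I.zero_mem using 1; exact Subtype.ext (by simp)
    | add a b _ _ ha hb =>
      intro z
      convert I.add_mem (ha z) (hb z) using 1
      exact Subtype.ext (by simp [mul_add])
    | smul c a _ ha =>
      intro z
      convert ha (z * c) using 1
      exact Subtype.ext (by simp [mul_assoc])
  have h := key _ hx 1
  convert h using 1
  exact Subtype.ext (by simp [(h₃ (x : R)).2 x.2])

end Groth.Agent.S18834
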