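import Groth.Statements.S18837
import Mathlib.RingTheory.Smooth.Fiber
import Mathlib.RingTheory.Kaehler.JacobiZariski
import Mathlib.RingTheory.TensorProduct.Quotient
import Mathlib.RingTheory.LocalRing.ResidueField.Fiber
-- import your own Groth.Agent.* helpers here

set_option autoImplicit false
universe u
open Polynomial TensorProduct
open Deform

namespace Groth.Agent.S18837

/-- Let k be an algebraically closed field of characteristic zero, n ≥ 1, D = k[X]/(X^(n+1)) (given with
a k-algebra isomorphism e identifying the class of X with τ ∈ D), and B a finitely generated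
k-algebra which is a flat D-algebra such that B/tB is smooth over k, where t is the image of τ in B
(an affine open of a flat deformation of a smooth k-scheme over Spec D); put B' = B/t^nB. Then
Ω_(B/D) is a projective B-module, B' ⊗_B Ω_(B/k) is a projective B'-module, and the sequence 0 → B'
→ B' ⊗_B Ω_(B/k) → B' ⊗_B Ω_(B/D) → 0 is exact, the first map being b ↦ b · (1 ⊗ dt) and the second
the base change of the canonical surjection Ω_(B/k) → Ω_(B/D). The source states this for a flat
proper family over Spec D with smooth central fibre; the statement is local and is given here on an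
affine open. -/
theorem result (k : Type u) [Field k] [IsAlgClosed k] [CharZero k] (n : ℕ) (hn : 1 ≤ n)
    (D : Type u) [CommRing D] [Algebra k D] (τ : D)
    (e : (k[X] ⧸ Ideal.span {(X : k[X]) ^ (n + 1)}) ≃ₐ[k] D)
    (he : e (Ideal.Quotient.mk (Ideal.span {(X : k[X]) ^ (n + 1)}) X) = τ)
    (B : Type u) [CommRing B] [Algebra k B] [Algebra D B] [IsScalarTower k D B]
    [Algebra.FiniteType k B] [Module.Flat D B]
    (t : B) (ht : t = algebraMap D B τ) (hsm : Algebra.Smooth k (B ⧸ Ideal.span {t})) :
    Module.Projective B (Ω[B⁄D]) ∧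
    Module.Projective (B ⧸ Ideal.span {t ^ n}) ((B ⧸ Ideal.span {t ^ n}) ⊗[B] Ω[B⁄k]) ∧
    Function.Injective
      (LinearMap.toSpanSingleton (B ⧸ Ideal.span {t ^ n}) ((B ⧸ Ideal.span {t ^ n}) ⊗[B] Ω[B⁄k])
        ((1 : (B ⧸ Ideal.span {t ^ n})) ⊗ₜ[B] KaehlerDifferential.D k B t)) ∧
    Function.Exact
      (LinearMap.toSpanSingleton (B ⧸ Ideal.span {t ^ n}) ((B ⧸ Ideal.span {t ^ n}) ⊗[B] Ω[B⁄k])
        ((1 : (B ⧸ Ideal.span {t ^ n})) ⊗ₜ[B] KaehlerDifferential.D k B t))
      (LinearMap.baseChange (B ⧸ Ideal.span {t ^ n}) (KaehlerDifferential.map k D B B)) ∧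
    Function.Surjective (LinearMap.baseChange (B ⧸ Ideal.span {t ^ n}) (KaehlerDifferential.map k D B B)) := by
  classical
  -- basics on D
  let π : k[X] →ₐ[k] D := e.toAlgHom.comp (Ideal.Quotient.mkₐ k _)
  have hπs : Function.Surjective π := e.surjective.comp Ideal.Quotient.mk_surjective
  have hπX : π X = τ := he
  have hπa : π = aeval τ := Polynomial.algHom_ext (by rw [aeval_X, hπX])
  have hτ : τ ^ (n + 1) = 0 := by
    rw [← hπX, ← map_pow]
    show e (Ideal.Quotient.mk _ ((X : k[X]) ^ (n + 1))) = 0
    rw [Ideal.Quotient.eq_zero_iff_mem.mpr (Ideal.mem_span_singleton_self _), map_zero]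
  have : IsNoetherianRing D := isNoetherianRing_of_surjective k[X] D π.toRingHom hπs
  have : Algebra.FiniteType D B := Algebra.FiniteType.of_restrictScalars_finiteType k D B
  have : Algebra.FinitePresentation D B := Algebra.FinitePresentation.of_finiteType.mp inferInstance
  have hpolyB : ∀ P : k[X], algebraMap D B (π P) = aeval t P := fun P => by
    rw [hπa, ht, aeval_algebraMap_apply]
  -- B is smooth over D
  have hsmooth : Algebra.Smooth D B := by
    refine Algebra.Smooth.of_formallySmooth_fiber fun I _ => ?_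
    have hτI : τ ∈ I := Ideal.IsPrime.mem_of_pow_mem inferInstance (n + 1) (hτ ▸ I.zero_mem)
    have hdec : ∀ d : D, ∃ (c : k) (q : D), d = algebraMap k D c + τ * q := by
      intro d
      obtain ⟨P, rfl⟩ := hπs d
      obtain ⟨Q, hQ⟩ : X ∣ P - C (P.coeff 0) := by rw [X_dvd_iff]; simp
      refine ⟨P.coeff 0, π Q, ?_⟩
      rw [← hπX, ← map_mul, ← hQ, map_sub, ← π.commutes, Polynomial.algebraMap_eq]
      ring
    have hI : ∀ J : Ideal D, J.IsPrime → J = Ideal.span {τ} := by
      intro J hJ
      have hτJ : τ ∈ J := Ideal.IsPrime.mem_of_pow_mem hJ (n + 1) (hτ ▸ J.zero_mem)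
      refine le_antisymm (fun d hd => ?_) ((Ideal.span_singleton_le_iff_mem J).mpr hτJ)
      obtain ⟨c, q, rfl⟩ := hdec d
      rcases eq_or_ne c 0 with rfl | hc
      · rw [map_zero, zero_add]
        exact Ideal.mul_mem_right _ _ (Ideal.mem_span_singleton_self τ)
      · exact absurd (Ideal.eq_top_of_isUnit_mem J
          ((Ideal.add_mem_iff_left J (J.mul_mem_right q hτJ)).mp hd)
          ((Ne.isUnit hc).map (algebraMap k D))) hJ.ne_top
    have : I.IsMaximal := by
      obtain ⟨M, hM, hIM⟩ := I.exists_le_maximal Ideal.IsPrime.ne_top'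
      rw [hI I inferInstance, ← hI M hM.isPrime]
      exact hM
    let κ := I.ResidueField
    have hsurjκ : Function.Surjective (algebraMap k κ) := by
      intro x
      obtain ⟨d, rfl⟩ := I.algebraMap_residueField_surjective x
      obtain ⟨c, q, rfl⟩ := hdec d
      refine ⟨c, ?_⟩
      rw [map_add, map_mul, Ideal.algebraMap_residueField_eq_zero.mpr hτI, zero_mul, add_zero,
        ← IsScalarTower.algebraMap_apply]
    have : Algebra.FormallyUnramified k κ :=
      Algebra.FormallyUnramified.of_surjective (Algebra.ofId k κ) hsurjκ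
    have hmap : Ideal.span {t} = I.map (algebraMap D B) := by
      rw [hI I inferInstance, Ideal.map_span, Set.image_singleton, ht]
    let e1 : (B ⧸ Ideal.span {t}) ≃ₐ[D] κ ⊗[D] B :=
      (Ideal.quotientEquivAlgOfEq D hmap).trans
        (((Algebra.TensorProduct.quotIdealMapEquivTensorQuot B I).restrictScalars D).trans
          ((Algebra.TensorProduct.comm D B (D ⧸ I)).trans
            (Algebra.TensorProduct.congr
              (AlgEquiv.ofBijective (IsScalarTower.toAlgHom D (D ⧸ I) κ)
                I.bijective_algebraMap_quotient_residueField) AlgEquiv.refl)))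
    have : Algebra.FormallySmooth k (κ ⊗[D] B) :=
      Algebra.FormallySmooth.of_equiv (e1.restrictScalars k)
    exact Algebra.FormallySmooth.of_restrictScalars k κ (κ ⊗[D] B)
  -- the split exact sequence over B
  have hproj : Module.Projective B (Ω[B⁄D]) := inferInstance
  have hinj : Function.Injective (KaehlerDifferential.mapBaseChange k D B) := by
    rw [injective_iff_map_eq_zero]
    intro z hz
    obtain ⟨y, rfl⟩ := (Algebra.H1Cotangent.exact_δ_mapBaseChange k D B z).mp hz
    rw [Subsingleton.elim y 0, map_zero]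
  obtain ⟨sec, hsec⟩ := Module.projective_lifting_property (KaehlerDifferential.map k D B B)
    LinearMap.id (KaehlerDifferential.map_surjective k D B)
  have htfae := ((KaehlerDifferential.exact_mapBaseChange_map k D B).split_tfae hinj
    (KaehlerDifferential.map_surjective k D B)).out 0 1
  obtain ⟨l, hl⟩ := htfae.mp ⟨sec, hsec⟩
  -- the derivative on D
  let B' := B ⧸ Ideal.span {t ^ n}
  let h : k[X] →ₐ[k] B' := (Ideal.Quotient.mkₐ k _).comp (aeval t)
  have hh0 : h ((X : k[X]) ^ n) = 0 := by
    show Ideal.Quotient.mk _ (aeval t ((X : k[X]) ^ n)) = 0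
    rw [map_pow, aeval_X, Ideal.Quotient.eq_zero_iff_mem]
    exact Ideal.mem_span_singleton_self _
  let δ₀ : (k[X] ⧸ Ideal.span {(X : k[X]) ^ (n + 1)}) →ₗ[k] B' :=
    Submodule.liftQ ((Ideal.span {(X : k[X]) ^ (n + 1)}).restrictScalars k)
      (h.toLinearMap ∘ₗ derivative) (by
        intro P hP
        obtain ⟨Q, rfl⟩ := Ideal.mem_span_singleton.mp hP
        simp only [LinearMap.mem_ker, LinearMap.comp_apply, AlgHom.toLinearMap_apply, derivative_mul,
          derivative_X_pow, map_add, map_mul, Nat.add_sub_cancel]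
        rw [hh0, mul_zero, zero_mul, zero_add, pow_succ, map_mul, hh0, zero_mul, zero_mul])
  let δ₁ : D →ₗ[k] B' := δ₀ ∘ₗ e.symm.toLinearMap
  have hδ₁ : ∀ P, δ₁ (π P) = h (derivative P) := fun P => by
    show δ₀ (e.symm (e (Ideal.Quotient.mk _ P))) = _
    rw [AlgEquiv.symm_apply_apply]
    rfl
  have hsm' : ∀ (P : k[X]) (y : B'), π P • y = h P * y := fun P y => by
    rw [← algebraMap_smul B (π P) y, hpolyB, Algebra.smul_def]
    rfl
  let δ : Derivation k D B' := Derivation.mk' δ₁ (fun a b => by
    obtain ⟨P, rfl⟩ := hπs a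
    obtain ⟨Q, rfl⟩ := hπs b
    rw [← map_mul, hδ₁, hδ₁, hδ₁, hsm', hsm', derivative_mul, map_add, map_mul, map_mul]
    ring)
  have hδτ : δ τ = 1 := by
    show δ₁ τ = 1
    rw [← hπX, hδ₁, derivative_X, map_one]
  let L : B ⊗[D] Ω[D⁄k] →ₗ[B] B' := LinearMap.liftBaseChange B δ.liftKaehlerDifferential
  let ψ : Ω[B⁄k] →ₗ[B] B' := L ∘ₗ l
  have hψ : ψ (KaehlerDifferential.D k B t) = 1 := by
    have h1 : KaehlerDifferential.D k B t =
        KaehlerDifferential.mapBaseChange k D B (1 ⊗ₜ KaehlerDifferential.D k D τ) := by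
      rw [KaehlerDifferential.mapBaseChange_tmul, one_smul, KaehlerDifferential.map_D, ht]
    have h2 : ∀ z, l (KaehlerDifferential.mapBaseChange k D B z) = z := LinearMap.congr_fun hl
    rw [h1, LinearMap.comp_apply, h2, LinearMap.liftBaseChange_tmul, one_smul,
      Derivation.liftKaehlerDifferential_comp_D, hδτ]
  -- exactness over B
  have hrange : ∀ z, KaehlerDifferential.mapBaseChange k D B z ∈
      Submodule.span B {KaehlerDifferential.D k B t} := by
    intro z
    induction z using TensorProduct.induction_on with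
    | zero => rw [map_zero]; exact zero_mem _
    | add a b ha hb => rw [map_add]; exact add_mem ha hb
    | tmul b ω =>
      rw [KaehlerDifferential.mapBaseChange_tmul]
      refine Submodule.smul_mem _ _ ?_
      have hω : ω ∈ Submodule.span D (Set.range (KaehlerDifferential.D k D)) := by
        rw [KaehlerDifferential.span_range_derivation]; trivial
      induction hω using Submodule.span_induction with
      | mem x hx =>
        obtain ⟨d, rfl⟩ := hx
        obtain ⟨P, rfl⟩ := hπs d
        rw [KaehlerDifferential.map_D, hpolyB, Derivation.map_aeval]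
        exact Submodule.smul_mem _ _ (Submodule.subset_span rfl)
      | zero => rw [map_zero]; exact zero_mem _
      | add x y _ _ hx hy => rw [map_add]; exact add_mem hx hy
      | smul r x _ hx =>
        rw [map_smul, ← algebraMap_smul B r]
        exact Submodule.smul_mem _ _ hx
  have hDt : KaehlerDifferential.D D B t = 0 := by rw [ht, Derivation.map_algebraMap]
  have hexB : Function.Exact (LinearMap.toSpanSingleton B _ (KaehlerDifferential.D k B t))
      (KaehlerDifferential.map k D B B) := by
    intro y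
    constructor
    · intro hy
      obtain ⟨z, rfl⟩ := (KaehlerDifferential.exact_mapBaseChange_map k D B y).mp hy
      obtain ⟨b, hb⟩ := Submodule.mem_span_singleton.mp (hrange z)
      exact ⟨b, hb⟩
    · rintro ⟨b, rfl⟩
      rw [LinearMap.toSpanSingleton_apply, map_smul, KaehlerDifferential.map_D,
        Algebra.algebraMap_self_apply, hDt, smul_zero]
  let ψ' : B' ⊗[B] Ω[B⁄k] →ₗ[B'] B' := LinearMap.liftBaseChange B' ψ
  let q : B' ⊗[B] Ω[B⁄k] →ₗ[B'] B' ⊗[B] Ω[B⁄D] :=
    LinearMap.baseChange B' (KaehlerDifferential.map k D B B)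
  let dt' : B' ⊗[B] Ω[B⁄k] := (1 : B') ⊗ₜ[B] KaehlerDifferential.D k B t
  have hψ' : ∀ b : B', ψ' (b • dt') = b := fun b => by
    rw [map_smul, LinearMap.liftBaseChange_tmul, hψ, one_smul, smul_eq_mul, mul_one]
  have hinj' : Function.Injective (LinearMap.toSpanSingleton B' (B' ⊗[B] Ω[B⁄k]) dt') :=
    Function.LeftInverse.injective (g := ψ') hψ'
  have hqs : Function.Surjective q :=
    LinearMap.lTensor_surjective B' (KaehlerDifferential.map_surjective k D B)
  have hexT := lTensor_exact B' hexB (KaehlerDifferential.map_surjective k D B)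
  have hex' : Function.Exact (LinearMap.toSpanSingleton B' (B' ⊗[B] Ω[B⁄k]) dt') q := by
    intro y
    constructor
    · intro hy
      obtain ⟨z, rfl⟩ := (hexT y).mp hy
      obtain ⟨c, rfl⟩ := (TensorProduct.rid B B').symm.surjective z
      refine ⟨c, ?_⟩
      simp [dt', TensorProduct.smul_tmul']
    · rintro ⟨b, rfl⟩
      rw [LinearMap.toSpanSingleton_apply, map_smul, LinearMap.baseChange_tmul, KaehlerDifferential.map_D,
        Algebra.algebraMap_self_apply, hDt, tmul_zero, smul_zero]
  refine ⟨hproj, ?_, hinj', hex', hqs⟩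
  have hbij : Function.Bijective (ψ'.prod q) := by
    refine ⟨?_, fun ⟨b, y⟩ => ?_⟩
    · rw [injective_iff_map_eq_zero]
      intro x hx
      obtain ⟨h1, h2⟩ := Prod.ext_iff.mp hx
      obtain ⟨b, rfl⟩ := (hex' x).mp h2
      have : b = 0 := (hψ' b).symm.trans h1
      simp [this]
    · obtain ⟨x, rfl⟩ := hqs y
      refine ⟨x + (b - ψ' x) • dt', ?_⟩
      have hq0 : q ((b - ψ' x) • dt') = 0 := (hex' _).mpr ⟨_, rfl⟩
      refine Prod.ext ?_ ?_
      · show ψ' (x + (b - ψ' x) • dt') = b
        rw [map_add, hψ']; ring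
      · show q (x + (b - ψ' x) • dt') = q x
        rw [map_add, hq0, add_zero]
  exact Module.Projective.of_equiv (LinearEquiv.ofBijective _ hbij).symm

end Groth.Agent.S18837
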