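import Groth.Statements.S18838
import Groth.Agent.Helper63.TruncFlat

set_option autoImplicit false
universe u
open Polynomial TensorProduct
open Deform

namespace Groth.Agent.S18838

open Groth.Agent.Helper63.TruncFlat

/-- Let k be an algebraically closed field of characteristic zero, n ≥ 1, D = k[X]/(X^(n+1)) (given with
a k-algebra isomorphism e identifying the class of X with τ ∈ D), and B a finitely generated
k-algebra which is a flat D-algebra such that B/tB is smooth over k, where t is the image of τ in B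
(an affine open of a flat deformation of a smooth k-scheme over Spec D); put B' = B/t^nB. The map μ
: B → B' × (B' ⊗_B Ω_(B/k)) sending f to (f mod t^n, 1 ⊗ df) is injective, and its image consists
exactly of the pairs (g, α) with dg = r(α) in Ω_(B'/k), r being the canonical map B' ⊗_B Ω_(B/k) →
Ω_(B'/k). Injectivity uses that n is invertible in k. The source works with a flat proper family
over Spec D with smooth central fibre; the statement is local and is given here on an affine open. -/
theorem result (k : Type u) [Field k] [IsAlgClosed k] [CharZero k] (n : ℕ) (hn : 1 ≤ n)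
    (D : Type u) [CommRing D] [Algebra k D] (τ : D)
    (e : (k[X] ⧸ Ideal.span {(X : k[X]) ^ (n + 1)}) ≃ₐ[k] D)
    (he : e (Ideal.Quotient.mk (Ideal.span {(X : k[X]) ^ (n + 1)}) X) = τ)
    (B : Type u) [CommRing B] [Algebra k B] [Algebra D B] [IsScalarTower k D B]
    [Algebra.FiniteType k B] [Module.Flat D B]
    (t : B) (ht : t = algebraMap D B τ) (hsm : Algebra.Smooth k (B ⧸ Ideal.span {t})) :
    Function.Injective (fun f : B =>
      ((Ideal.Quotient.mk (Ideal.span {t ^ n}) f,
        (1 : (B ⧸ Ideal.span {t ^ n})) ⊗ₜ[B] KaehlerDifferential.D k B f) : (B ⧸ Ideal.span {t ^ n}) × ((B ⧸ Ideal.span {t ^ n}) ⊗[B] Ω[B⁄k]))) ∧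
    Set.range (fun f : B =>
      ((Ideal.Quotient.mk (Ideal.span {t ^ n}) f,
        (1 : (B ⧸ Ideal.span {t ^ n})) ⊗ₜ[B] KaehlerDifferential.D k B f) : (B ⧸ Ideal.span {t ^ n}) × ((B ⧸ Ideal.span {t ^ n}) ⊗[B] Ω[B⁄k]))) =
      {p | KaehlerDifferential.D k (B ⧸ Ideal.span {t ^ n}) p.1 = KaehlerDifferential.mapBaseChange k B (B ⧸ Ideal.span {t ^ n}) p.2} := by
  subst ht
  obtain ⟨c, hc⟩ := exists_contraction e he B hsm
  let B' := B ⧸ Ideal.span {algebraMap D B τ ^ n}
  have hsurj : Function.Surjective (algebraMap B B') := Ideal.Quotient.mk_surjective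
  have hzero : (Ideal.Quotient.mk (Ideal.span {algebraMap D B τ ^ n})) (algebraMap D B τ ^ n) = 0 :=
    Ideal.Quotient.eq_zero_iff_mem.2 (Ideal.mem_span_singleton_self _)
  constructor
  · intro f g hfg
    obtain ⟨h1, h2⟩ := Prod.mk.inj hfg
    rw [← sub_eq_zero, ← tmul_sub, ← map_sub] at h2
    rw [← sub_eq_zero]
    obtain ⟨b, hb⟩ := Ideal.mem_span_singleton.1 (Ideal.Quotient.eq.1 h1)
    have h3 := congrArg (LinearMap.liftBaseChange B' c) h2
    rw [LinearMap.liftBaseChange_tmul, one_smul, map_zero, hb, Derivation.leibniz, map_add,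
      map_smul, map_smul, Derivation.leibniz_pow, map_nsmul, map_smul, hc] at h3
    simp only [Algebra.smul_def, Ideal.Quotient.algebraMap_eq, hzero, zero_mul, zero_add, mul_one,
      nsmul_eq_mul] at h3
    rw [mul_left_comm, ← map_mul, eq_natCast, ← map_natCast (algebraMap k B'), ← Algebra.smul_def,
      smul_eq_zero] at h3
    have h4 := h3.resolve_left (Nat.cast_ne_zero.2 (by omega))
    obtain ⟨d, hd⟩ := Ideal.mem_span_singleton.1 (Ideal.Quotient.eq_zero_iff_mem.1 h4)
    have ht : algebraMap D B τ ^ (n + 1) = 0 := by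
      rw [← map_pow, pow_succ_eq_zero e he, map_zero]
    calc f - g = algebraMap D B τ * (b * algebraMap D B τ ^ (n - 1)) := by
          rw [hb, mul_left_comm, ← pow_succ', Nat.sub_add_cancel hn, mul_comm]
      _ = algebraMap D B τ ^ (n + 1) * d := by rw [hd, pow_succ', mul_assoc]
      _ = 0 := by rw [ht, zero_mul]
  · refine Set.ext fun p => ⟨?_, ?_⟩
    · rintro ⟨f, rfl⟩
      show KaehlerDifferential.D k B' (algebraMap B B' f) =
        KaehlerDifferential.mapBaseChange k B B' (1 ⊗ₜ KaehlerDifferential.D k B f)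
      rw [KaehlerDifferential.mapBaseChange_tmul, one_smul, KaehlerDifferential.map_D]
    · intro hp
      obtain ⟨g, α⟩ := p
      obtain ⟨g₀, rfl⟩ := hsurj g
      have h1 : KaehlerDifferential.mapBaseChange k B B'
          (α - 1 ⊗ₜ KaehlerDifferential.D k B g₀) = 0 := by
        rw [map_sub, KaehlerDifferential.mapBaseChange_tmul, one_smul, KaehlerDifferential.map_D,
          sub_eq_zero]
        exact hp.symm
      obtain ⟨w, hw⟩ :=
        (KaehlerDifferential.exact_kerCotangentToTensor_mapBaseChange k B B' hsurj _).1 h1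
      obtain ⟨x, rfl⟩ := Ideal.toCotangent_surjective _ w
      rw [KaehlerDifferential.kerCotangentToTensor_toCotangent] at hw
      refine ⟨g₀ + x, Prod.ext ?_ ?_⟩
      · show algebraMap B B' (g₀ + x) = algebraMap B B' g₀
        rw [map_add, RingHom.mem_ker.1 x.2, add_zero]
      · show (1 : B') ⊗ₜ[B] KaehlerDifferential.D k B (g₀ + x) = α
        rw [map_add, tmul_add, hw, add_sub_cancel]

end Groth.Agent.S18838
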