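import Groth.Statements.S18839
import Groth.Agent.Helper63.TruncFlat

set_option autoImplicit false
universe u
open Polynomial TensorProduct
open Deform

namespace Groth.Agent.S18839

open Groth.Agent.Helper63.TruncFlat

/-- Let k be an algebraically closed field of characteristic zero, n ≥ 1, D = k[X]/(X^(n+1)) (given with
a k-algebra isomorphism e identifying the class of X with τ ∈ D), and B a finitely generated
k-algebra which is a flat D-algebra such that B/tB is smooth over k, where t is the image of τ in B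
(an affine open of a flat deformation of a smooth k-scheme over Spec D); put B' = B/t^nB. The map ν
: Ω_(B/k) → Ω_(B/D) × (B' ⊗_B Ω_(B/k)), η ↦ (η relative to D, 1 ⊗ η), is injective, and its image
consists exactly of the pairs (α, β) with the same image in Ω_(B'/D) under the canonical maps
Ω_(B/D) → Ω_(B'/D) and B' ⊗_B Ω_(B/k) → Ω_(B'/k) → Ω_(B'/D). Injectivity uses that n + 1 is
invertible in k (so that t^n dt = 0 in Ω_(B/k)). The source works with a flat proper family over
Spec D with smooth central fibre; the statement is local and is given here on an affine open. -/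
theorem result (k : Type u) [Field k] [IsAlgClosed k] [CharZero k] (n : ℕ) (hn : 1 ≤ n)
    (D : Type u) [CommRing D] [Algebra k D] (τ : D)
    (e : (k[X] ⧸ Ideal.span {(X : k[X]) ^ (n + 1)}) ≃ₐ[k] D)
    (he : e (Ideal.Quotient.mk (Ideal.span {(X : k[X]) ^ (n + 1)}) X) = τ)
    (B : Type u) [CommRing B] [Algebra k B] [Algebra D B] [IsScalarTower k D B]
    [Algebra.FiniteType k B] [Module.Flat D B]
    (t : B) (ht : t = algebraMap D B τ) (hsm : Algebra.Smooth k (B ⧸ Ideal.span {t})) :
    Function.Injective (fun η : Ω[B⁄k] =>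
      ((KaehlerDifferential.map k D B B η, (1 : (B ⧸ Ideal.span {t ^ n})) ⊗ₜ[B] η) : Ω[B⁄D] × ((B ⧸ Ideal.span {t ^ n}) ⊗[B] Ω[B⁄k]))) ∧
    Set.range (fun η : Ω[B⁄k] =>
      ((KaehlerDifferential.map k D B B η, (1 : (B ⧸ Ideal.span {t ^ n})) ⊗ₜ[B] η) : Ω[B⁄D] × ((B ⧸ Ideal.span {t ^ n}) ⊗[B] Ω[B⁄k]))) =
      {p | KaehlerDifferential.map D D B (B ⧸ Ideal.span {t ^ n}) p.1 =
        KaehlerDifferential.map k D (B ⧸ Ideal.span {t ^ n}) (B ⧸ Ideal.span {t ^ n}) (KaehlerDifferential.mapBaseChange k B (B ⧸ Ideal.span {t ^ n}) p.2)} := by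
  subst ht
  obtain ⟨r, hr⟩ := exists_retraction e he B hsm
  let B' := B ⧸ Ideal.span {algebraMap D B τ ^ n}
  have hsurj : Function.Surjective (algebraMap B B') := Ideal.Quotient.mk_surjective
  have comm : ∀ η : Ω[B⁄k], KaehlerDifferential.map D D B B' (KaehlerDifferential.map k D B B η) =
      KaehlerDifferential.map k D B' B' (KaehlerDifferential.mapBaseChange k B B' (1 ⊗ₜ η)) := by
    intro η
    rw [KaehlerDifferential.mapBaseChange_tmul, one_smul]
    have hη : η ∈ Submodule.span B (Set.range (KaehlerDifferential.D k B)) := by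
      rw [KaehlerDifferential.span_range_derivation]; trivial
    induction hη using Submodule.span_induction with
    | mem x hx =>
      obtain ⟨b, rfl⟩ := hx
      simp
    | zero => simp
    | add a b _ _ ha hb => simp only [map_add, ha, hb]
    | smul c a _ ha => simp only [map_smul, LinearMap.map_smul_of_tower, ha]
  constructor
  · intro a b hab
    obtain ⟨h1, h2⟩ := Prod.mk.inj hab
    rw [← sub_eq_zero, ← map_sub] at h1
    rw [← sub_eq_zero, ← tmul_sub] at h2
    rw [← sub_eq_zero]
    obtain ⟨z, hz⟩ := (KaehlerDifferential.exact_mapBaseChange_map k D B _).1 h1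
    obtain ⟨η, hη⟩ := exists_eq_smul_of_one_tmul_eq_zero _ h2
    have hrz : r (a - b) = z := by
      rw [← hz]; exact LinearMap.congr_fun hr z
    have : z = 0 := by rw [← hrz, hη, map_smul, pow_smul_baseChange_kaehler e he]
    rw [← hz, this, map_zero]
  · refine Set.ext fun p => ⟨?_, ?_⟩
    · rintro ⟨η, rfl⟩
      exact comm η
    · intro hp
      obtain ⟨α, β⟩ := p
      obtain ⟨η₀, rfl⟩ := TensorProduct.mk_surjective B (Ω[B⁄k]) B' hsurj β
      have hδ : KaehlerDifferential.map D D B B' (α - KaehlerDifferential.map k D B B η₀) = 0 := by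
        rw [map_sub, comm, sub_eq_zero]
        exact hp
      have h1 : KaehlerDifferential.mapBaseChange D B B'
          (1 ⊗ₜ (α - KaehlerDifferential.map k D B B η₀)) = 0 := by
        rw [KaehlerDifferential.mapBaseChange_tmul, one_smul, hδ]
      obtain ⟨w, hw⟩ :=
        (KaehlerDifferential.exact_kerCotangentToTensor_mapBaseChange D B B' hsurj _).1 h1
      obtain ⟨x, rfl⟩ := Ideal.toCotangent_surjective _ w
      rw [KaehlerDifferential.kerCotangentToTensor_toCotangent] at hw
      have hx : (x : B) ∈ Ideal.span {algebraMap D B τ ^ n} :=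
        Ideal.Quotient.eq_zero_iff_mem.1 x.2
      obtain ⟨c, hc⟩ := Ideal.mem_span_singleton.1 hx
      have hdt : KaehlerDifferential.D D B (algebraMap D B τ ^ n) = 0 := by
        rw [← map_pow, Derivation.map_algebraMap]
      rw [hc, Derivation.leibniz, hdt, smul_zero, add_zero, pow_smul_tmul_eq_zero] at hw
      obtain ⟨δ, hδ'⟩ := exists_eq_smul_of_one_tmul_eq_zero _ hw.symm
      obtain ⟨ζ, rfl⟩ := KaehlerDifferential.map_surjective k D B δ
      refine ⟨η₀ + algebraMap D B τ ^ n • ζ, Prod.ext ?_ ?_⟩
      · show KaehlerDifferential.map k D B B (η₀ + algebraMap D B τ ^ n • ζ) = α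
        rw [map_add, map_smul, ← hδ', add_sub_cancel]
      · show (1 : B') ⊗ₜ[B] (η₀ + algebraMap D B τ ^ n • ζ) = 1 ⊗ₜ η₀
        rw [tmul_add, pow_smul_tmul_eq_zero, add_zero]

end Groth.Agent.S18839
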