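import Groth.Statements.S18840
import Groth.Agent.VBLib.H0Large
import Groth.Agent.VBLib.TwistLine
import Groth.Agent.EulerChar.CurveVanish
import Groth.Agent.KFlat.LocFree

set_option autoImplicit false
universe u
open CategoryTheory CategoryTheory.Limits AlgebraicGeometry Polynomial
open VBCurve

namespace Groth.Agent.S18840


lemma VBLib.surjective_mapL_one_of_shortExact {k : Type u} [Field k] {X : Scheme.{u}}
    [X.Over (Spec (CommRingCat.of k))] [IsIntegral X] (hX : Groth.Agent.VBLib.GoodCurve k X)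
    {S : ShortComplex X.Modules} (hS : S.ShortExact) [S.X₁.IsQuasicoherent] :
    Function.Surjective (Groth.Agent.CurveCoh.mapL k S.g 1) := by
  haveI := hX.proper
  intro y
  have := (Groth.Agent.CurveCoh.exact_mapL_deltaL k hS 1 2 rfl y).mp
    (@Subsingleton.elim _ (Groth.Agent.CurveCoh.subsingleton_HH k (M := S.X₁) hX.val hX.dim 2 le_rfl) _ _)
  exact this


/-- Let k be an algebraically closed field of characteristic zero, X a smooth projective integral curve
over k with an ample invertible sheaf L, N ≥ 0 and P a rational polynomial. There is an integer l,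
depending only on X, L, N and P, such that for every vector bundle F of rank r ≥ 1 on X which is a
quotient of O_X^N with Hilbert polynomial P (with respect to L), F is slope-semistable if and only
if dim H^0(X, F'(l)) / r' ≤ dim H^0(X, F(l)) / r for every sub-bundle (finite locally free
submodule) F' ⊂ F of rank r' ≥ 1; here G(l) = G ⊗ L^(⊗l). The source polarises X by a very ample
O_X(1); only the positivity of its degree enters, so an ample L is taken. -/
theorem result (k : Type u) [Field k] [IsAlgClosed k] [CharZero k]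
    (X : Scheme.{u}) [X.Over (Spec (CommRingCat.of k))]
    [IsIntegral X] [IsProper (X ↘ Spec (CommRingCat.of k))] [Smooth (X ↘ Spec (CommRingCat.of k))]
    (hdim : topologicalKrullDim X = 1)
    (L : X.Modules) (hLi : PicF.IsInvertible L) (hL : CohB1.IsAmple L)
    (N : ℕ) (P : ℚ[X]) :
    ∃ l : ℕ, ∀ (r : ℕ) (F : X.Modules) (q : FlatMod.freeMod X N ⟶ F),
      0 < r → FlatMod.IsFinLocFreeOfRank r F → Epi q → ShStab.IsHilbPoly k X L F P →
        (ModFun.IsSlopeSemistable k X F r ↔
          ∀ (F' : X.Modules) (r' : ℕ) (i : F' ⟶ F), Mono i → 0 < r' → FlatMod.IsFinLocFreeOfRank r' F' →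
            (Module.finrank k (Coh.HH X (ShStab.twist X L F' l) 0) : ℚ) / (r' : ℚ) ≤
              (Module.finrank k (Coh.HH X (ShStab.twist X L F l) 0) : ℚ) / (r : ℚ)) := by
  open Groth.Agent.VBLib in
  have hX : GoodCurve k X := goodCurve_of_smooth hdim
  haveI := hX.isLocallyNoetherian
  haveI : CompactSpace X := QuasiCompact.compactSpace_of_compactSpace (X ↘ Spec (CommRingCat.of k))
  obtain ⟨x₀, -, hx₀⟩ := IsClosed.exists_closed_singleton (isClosed_univ (X := X)) Set.univ_nonempty
  let p := pointOfClosedPoint (X ↘ Spec (CommRingCat.of k)) x₀ hx₀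
  have hp : p ≫ (X ↘ Spec (CommRingCat.of k)) = 𝟙 _ := pointOfClosedPoint_comp _ x₀ hx₀
  have hlam := EulerChar.deg_pos_of_isAmple k hdim hL
  have hON : FlatMod.IsFinLocFreeOfRank N (FlatMod.freeMod X N) := fun _ =>
    ⟨⊤, trivial, ⟨(Scheme.Modules.restrictFunctorIsoPullback _).app _ ≪≫
      Groth.Agent.KFlat.LocFree.pullFreeIso _ N⟩⟩
  obtain ⟨n₀, hn₀⟩ := EulerChar.exists_h1_vanish k hdim hLi hlam (VBLib.isCoh_of_ofRank hON)
  set g : ℕ := Curv2.genus k X with hg
  obtain ⟨C, hC0⟩ : ∃ C : ℕ, C = ⌈|P.eval (0 : ℚ)|⌉₊ + N * (Curv2.euler k X (Coh.structureModule X)).natAbs := ⟨_, rfl⟩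
  let B : ℕ := C + 2 * g * N * N + 2 * g + g * N + 1
  refine ⟨n₀ + B, fun r F q hr hF hq hP => ?_⟩
  haveI := hq
  set l : ℕ := n₀ + B with hl
  set lam : ℤ := Curv2.deg k X L 1 with hlam'
  have hFf := VBLib.isFinLocFree_of_ofRank hF
  have hFc := VBLib.isCoh_of_ofRank hF
  have hONc := VBLib.isCoh_of_ofRank hON
  have hrN : r ≤ N := by
    obtain ⟨h1, h2⟩ := hX.dg_kernel_image q hONc hFc
    have h3 : VBLib.rk (Abelian.image q) = r := by
      haveI : IsIso (Abelian.image.ι q) := by
        haveI : Epi (Abelian.image.ι q) :=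
          epi_of_epi_fac (Abelian.image.fac q)
        exact isIso_of_mono_of_epi _
      rw [(hX.dg_iso (asIso (Abelian.image.ι q)) (VBLib.isCoh_image q hONc hFc) hFc).2, VBLib.rk_eq hF]
    rw [VBLib.rk_eq hON] at h2
    omega
  have hLl : PicF.IsInvertible (CohB1.tensorPow L l) := AmpleLib.isInvertible_tensorPow hLi l
  have hdL : VBLib.dg k (CohB1.tensorPow L l) = l * lam := by
    rw [← VBLib.dg_eq (VBLib.ofRank_one_of_invertible hLl)]
    exact EulerChar.deg_tensorPow k hdim hLi l
  -- twists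
  obtain ⟨hFl, hFlr, hFld⟩ := hX.dg_tensor_line hFf hLl
  rw [VBLib.rk_eq hF, hdL] at hFld
  rw [VBLib.rk_eq hF] at hFlr
  have hrr := hX.riemannRoch VBLib.bijective_toGlobal_of_isAlgClosed (VBLib.isCoh_of_isFinLocFree hFl)
  have hvan : Subsingleton (Coh.HH X (CohB1.tensorMod F (CohB1.tensorPow L l)) 1) := by
    obtain ⟨q', hq'⟩ := VBLib.exists_epi_tensor hLl q
    haveI := hq'
    have hsubA : Subsingleton (Coh.HH X (CohB1.tensorMod (FlatMod.freeMod X N) (CohB1.tensorPow L l)) 1) := by
      haveI := hn₀ l (by omega)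
      let e := ProjTwist.tensComm (CohB1.tensorPow L l) (FlatMod.freeMod X N)
      exact (CohLin.hIso e 1).symm.injective.subsingleton
    let S := ShortComplex.mk (kernel.ι q') q' (kernel.condition q')
    have hS : S.ShortExact := { exact := S.exact_of_f_is_kernel (kernelIsKernel q') }
    have hAc : Coh.IsCoh (CohB1.tensorMod (FlatMod.freeMod X N) (CohB1.tensorPow L l)) :=
      VBLib.isCoh_of_isFinLocFree (hX.dg_tensor_line (VBLib.isFinLocFree_of_ofRank hON) hLl).1
    haveI := (VBLib.isCoh_kernel q' hAc (VBLib.isCoh_of_isFinLocFree hFl)).1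
    haveI := hX.proper
    refine ⟨fun a b => ?_⟩
    obtain ⟨a', rfl⟩ := VBLib.surjective_mapL_one_of_shortExact (k := k) hX hS a
    obtain ⟨b', rfl⟩ := VBLib.surjective_mapL_one_of_shortExact (k := k) hX hS b
    exact congrArg _ (@Subsingleton.elim _ hsubA a' b')
  haveI := hvan
  rw [Module.finrank_zero_of_subsingleton (R := k) (M := Coh.HH X (CohB1.tensorMod F (CohB1.tensorPow L l)) 1),
    hFlr, hFld, ← hg] at hrr
  -- the degree of `F` is bounded
  have hdF : |VBLib.dg k F| ≤ (C : ℤ) := by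
    suffices hh : |VBLib.dg k F| ≤ (⌈|P.eval (0 : ℚ)|⌉₊ : ℤ) + N * (Curv2.euler k X (Coh.structureModule X)).natAbs by
      rw [hC0]; exact_mod_cast hh
    have h0 := hP 0
    haveI := hX.proper
    have hiso : Curv2.euler k X (ShStab.twist X L F 0) = Curv2.euler k X F :=
      EulerChar.euler_iso k (ProjTwist.tensOne F)
    rw [hiso, Nat.cast_zero] at h0
    have hc : |Curv2.euler k X F| ≤ (⌈|P.eval (0 : ℚ)|⌉₊ : ℤ) := by
      have : ((|Curv2.euler k X F| : ℤ) : ℚ) ≤ ((⌈|P.eval (0 : ℚ)|⌉₊ : ℤ) : ℚ) := by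
        push_cast
        rw [h0]
        exact Nat.le_ceil _
      exact_mod_cast this
    rw [← VBLib.dg_eq hF, Curv2.deg]
    refine (abs_sub _ _).trans (add_le_add hc ?_)
    rw [abs_mul, Nat.abs_cast, Int.abs_eq_natAbs]
    exact mul_le_mul_of_nonneg_right (by exact_mod_cast hrN) (Int.natCast_nonneg _)
  have hlB : (B : ℤ) ≤ (l : ℤ) * lam := by
    have h1 : (B : ℤ) ≤ (l : ℤ) := by exact_mod_cast (by omega : B ≤ l)
    nlinarith
  have hr' : (0 : ℤ) < r := by exact_mod_cast hr
  constructor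
  · intro hss F' r' i hi hr1 hF'
    haveI := hi
    obtain ⟨s, rfl⟩ : ∃ s, r' = s + 1 := ⟨r' - 1, by omega⟩
    have hF'f := VBLib.isFinLocFree_of_ofRank hF'
    obtain ⟨hGf, hGr, hGd⟩ := hX.dg_tensor_line hF'f hLl
    rw [VBLib.rk_eq hF', hdL] at hGd
    rw [VBLib.rk_eq hF'] at hGr
    have hsr : s + 1 ≤ r := by
      have := VBLib.rk_le_of_mono i hFc
      rwa [VBLib.rk_eq hF', VBLib.rk_eq hF] at this
    set A : ℤ := ⌊(VBLib.dg k F : ℚ) / (r : ℚ)⌋ with hA
    have hAr : A * r ≤ VBLib.dg k F := by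
      have h := Int.floor_le ((VBLib.dg k F : ℚ) / (r : ℚ))
      rw [← hA, le_div_iff₀ (by exact_mod_cast hr)] at h
      exact_mod_cast h
    have hlines : ∀ (M : X.Modules) (j : M ⟶ F), Mono j → FlatMod.IsFinLocFree M → VBLib.rk M = 1 →
        VBLib.dg k M ≤ A := fun M j hj hM h1 => by
      have hM1 : FlatMod.IsFinLocFreeOfRank 1 M := h1 ▸ VBLib.ofRank_rk hM
      have h2 := hss M 1 j hj one_pos hM1
      rw [VBLib.dg_eq hM1, VBLib.dg_eq hF] at h2
      rw [hA, Int.le_floor, le_div_iff₀ (by exact_mod_cast hr)]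
      have : VBLib.dg k M * (r : ℤ) ≤ VBLib.dg k F := by simpa using h2
      exact_mod_cast this
    have hA0 : 0 ≤ A + l * lam := by
      have h1 : -(C : ℤ) ≤ A := by
        rw [hA, Int.le_floor, le_div_iff₀ (by exact_mod_cast hr)]
        have h2 := (abs_le.mp hdF).1
        have hc0 : (0 : ℤ) ≤ (C : ℤ) := by
          positivity
        have h3 : -(C : ℤ) * (r : ℤ) ≤
            VBLib.dg k F := by nlinarith
        exact_mod_cast h3
      simp only [B] at hlB
      push_cast at hlB
      have hg0 : (0 : ℤ) ≤ g := Int.natCast_nonneg g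
      have hN0 : (0 : ℤ) ≤ N := Int.natCast_nonneg N
      linarith [mul_nonneg hg0 hN0, mul_nonneg (mul_nonneg hg0 hN0) hN0]
    have ha : ((A + l * lam).toNat : ℤ) = A + l * lam := Int.toNat_of_nonneg hA0
    have hlinesG : ∀ (M : X.Modules) (j : M ⟶ CohB1.tensorMod F' (CohB1.tensorPow L l)), Mono j →
        FlatMod.IsFinLocFree M → VBLib.rk M = 1 → VBLib.dg k M ≤ ((A + l * lam).toNat : ℤ) :=
      fun M j hj hM h1 => by
        have := hX.lines_tensor hLl A (fun M' j' hj' hM' h1' =>
          hlines M' (j' ≫ i) (mono_comp j' i) hM' h1') M j hj hM h1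
        rwa [hdL, ← ha] at this
    have hd := hX.H0_dichotomy p hp s _ hGf hGr _ hlinesG
    rw [← hg, hGd, ha] at hd
    have hF's := hss F' (s + 1) i hi hr1 hF'
    rw [VBLib.dg_eq hF', VBLib.dg_eq hF] at hF's
    push_cast at hF's hd
    rw [div_le_div_iff₀ (by exact_mod_cast hr1) (by exact_mod_cast hr)]
    have hgoal : (Module.finrank k (Coh.HH X (ShStab.twist X L F' l) 0) : ℤ) * (r : ℤ) ≤
        (Module.finrank k (Coh.HH X (ShStab.twist X L F l) 0) : ℤ) * ((s : ℤ) + 1) := by
      have hd' : (Module.finrank k (Coh.HH X (ShStab.twist X L F' l) 0) : ℤ) ≤ _ := hd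
      have hFh : (Module.finrank k (Coh.HH X (ShStab.twist X L F l) 0) : ℤ) =
          VBLib.dg k F + r * (l * lam) + r * (1 - (g : ℤ)) := by
        show (Module.finrank k (Coh.HH X (CohB1.tensorMod F (CohB1.tensorPow L l)) 0) : ℤ) = _
        push_cast at hrr; linarith
      rw [hFh]
      rcases le_max_iff.mp hd' with hc | hc
      · have := mul_le_mul_of_nonneg_right hc hr'.le
        nlinarith
      · have hm := mul_le_mul_of_nonneg_right hc hr'.le
        have hs0 : (0 : ℤ) ≤ s := Int.natCast_nonneg s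
        have h4 := mul_le_mul_of_nonneg_left hAr hs0
        have hsN : (s : ℤ) + 1 ≤ N := by exact_mod_cast hsr.trans hrN
        have hg0 : (0 : ℤ) ≤ g := Int.natCast_nonneg g
        have hC : 2 * (g : ℤ) * s * (s + 1) + 2 * g + g * (s + 1) ≤ 2 * (g : ℤ) * N * N + 2 * g + g * N := by
          have e1 : 2 * (g : ℤ) * s ≤ 2 * g * N := mul_le_mul_of_nonneg_left (by omega) (by positivity)
          have e2 : 2 * (g : ℤ) * s * (s + 1) ≤ 2 * g * N * N := mul_le_mul e1 hsN (by omega) (by positivity)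
          have e3 : (g : ℤ) * (s + 1) ≤ g * N := mul_le_mul_of_nonneg_left hsN hg0
          linarith
        have h2 := (abs_le.mp hdF).1
        simp only [B] at hlB
        push_cast at hlB
        have hkey : (r : ℤ) * (2 * (g : ℤ) * s * (s + 1) + 2 * g + g * (s + 1) - 1) ≤
            VBLib.dg k F + r * (l * lam) := by
          have hD : (0 : ℤ) ≤ (C : ℤ) := by
            positivity
          nlinarith [mul_le_mul_of_nonneg_left hC hr'.le, mul_le_mul_of_nonneg_left hlB hr'.le,
            mul_le_mul_of_nonneg_right (show (1 : ℤ) ≤ r by omega) hD]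
        linarith
    exact_mod_cast hgoal
  · intro hcond F' r' i hi hr1 hF'
    have hF'f := VBLib.isFinLocFree_of_ofRank hF'
    obtain ⟨hGf, hGr, hGd⟩ := hX.dg_tensor_line hF'f hLl
    rw [VBLib.rk_eq hF', hdL] at hGd
    rw [VBLib.rk_eq hF'] at hGr
    have hrr' := hX.riemannRoch VBLib.bijective_toGlobal_of_isAlgClosed (VBLib.isCoh_of_isFinLocFree hGf)
    rw [hGr, hGd, ← hg] at hrr'
    have hc := hcond F' r' i hi hr1 hF'
    rw [div_le_div_iff₀ (by exact_mod_cast hr1) (by exact_mod_cast hr)] at hc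
    have hc' : (Module.finrank k (Coh.HH X (CohB1.tensorMod F' (CohB1.tensorPow L l)) 0) : ℤ) * (r : ℤ) ≤
        (Module.finrank k (Coh.HH X (CohB1.tensorMod F (CohB1.tensorPow L l)) 0) : ℤ) * (r' : ℤ) := by
      have : ((Module.finrank k (Coh.HH X (CohB1.tensorMod F' (CohB1.tensorPow L l)) 0) : ℤ) : ℚ) * ((r : ℤ) : ℚ) ≤
          ((Module.finrank k (Coh.HH X (CohB1.tensorMod F (CohB1.tensorPow L l)) 0) : ℤ) : ℚ) * ((r' : ℤ) : ℚ) := by
        exact_mod_cast hc
      exact_mod_cast this
    rw [VBLib.dg_eq hF', VBLib.dg_eq hF]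
    have h1 : (0 : ℤ) ≤ Module.finrank k (Coh.HH X (CohB1.tensorMod F' (CohB1.tensorPow L l)) 1) :=
      Int.natCast_nonneg _
    push_cast at hrr
    nlinarith [mul_nonneg h1 hr'.le]


end Groth.Agent.S18840
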