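import Groth.Statements.S18841
import Groth.Agent.ProjTwist.Pn.UniformVanish
import Groth.Agent.AmpCrit.SerreVan

set_option autoImplicit false
universe u
open CategoryTheory CategoryTheory.Limits AlgebraicGeometry Polynomial
open Variety

namespace Groth.Agent.S18841

/-- Let k be an algebraically closed field of characteristic zero, X a projective k-scheme embedded in
projective n-space by a closed immersion ι, with L ≅ ι^*O(1), and fix N ≥ 0 and a rational
polynomial P. There is an integer l_0 such that for every coherent O_X-module F which is a quotient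
q : O_X^N → F with Hilbert polynomial P with respect to L, writing G for the kernel of q, one has
for all l ≥ l_0: H^i(X, F(l)) = 0 and H^i(X, G(l)) = 0 for every i > 0, and G(l) is generated by its
global sections (twists M(l) = M ⊗ L^(⊗l)). -/
theorem result
    (k : Type u) [Field k] [IsAlgClosed k] [CharZero k]
    (X : Scheme.{u}) [X.Over (Spec (CommRingCat.of k))] [IsProper (X ↘ Spec (CommRingCat.of k))]
    (n : ℕ) (ι : X ⟶ CohB1.ProjSpace n k) [IsClosedImmersion ι]
    (hι : ι ≫ CohB1.ProjSpace.toSpec n k = X ↘ Spec (CommRingCat.of k))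
    (L : X.Modules) (hL : Nonempty (L ≅ (Scheme.Modules.pullback ι).obj (Twist.twistProjSpace n k 1)))
    (N : ℕ) (P : ℚ[X]) :
    ∃ l₀ : ℕ, ∀ (F : X.Modules) (q : FlatMod.freeMod X N ⟶ F),
      Coh.IsCoh F → Epi q → ShStab.IsHilbPoly k X L F P →
        ∀ l : ℕ, l₀ ≤ l →
          (∀ i : ℕ, 0 < i → Subsingleton (Coh.HH X (ShStab.twist X L F l) i)) ∧
          (∀ i : ℕ, 0 < i → Subsingleton (Coh.HH X (ShStab.twist X L (kernel q) l) i)) ∧
          Curv2.IsGloballyGenerated (ShStab.twist X L (kernel q) l) := by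
  obtain ⟨e⟩ := hL
  have key : ∀ (M : X.Modules) (t : ℕ),
      Nonempty (Pic13.twistOn k ι M (t : ℤ) ≅ ShStab.twist X L M t) := fun M t => by
    obtain ⟨e₁⟩ := Groth.Agent.AmpCrit.SerreVan.nonempty_pullback_twist ι t
    exact ⟨Groth.Agent.ProjTwist.tensCongr (Iso.refl M)
      (e₁ ≪≫ Groth.Agent.AmpleLib.tensorPowIso e.symm t)⟩
  obtain ⟨l₀, h⟩ := Groth.Agent.ProjTwist.Pn.exists_uniform ι hι N P
  refine ⟨l₀, fun F q hF hq hP l hl => ?_⟩
  obtain ⟨hFl, hGl, hgg⟩ := h F q hF hq (fun t => by
    rw [← hP t]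
    exact_mod_cast Groth.Agent.EulerChar.euler_iso k (key F t).some) l hl
  exact ⟨fun i hi => @Groth.Agent.AmpCrit.subsingleton_HH_of_iso _ _ _ (key F l).some i (hFl i hi),
    fun i hi => @Groth.Agent.AmpCrit.subsingleton_HH_of_iso _ _ _ (key (kernel q) l).some i (hGl i hi),
    Groth.Agent.CMReg.isGloballyGenerated_iso (key (kernel q) l).some hgg⟩

end Groth.Agent.S18841
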