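import Groth.Statements.S18842
import Groth.Agent.TFOneLib.Quot
import Groth.Agent.EulerChar.Deg

set_option autoImplicit false
universe u
open CategoryTheory AlgebraicGeometry
open TFOne

namespace Groth.Agent.S18842

set_option linter.style.haveILetI false

open CategoryTheory.Limits Groth.Agent.PullStalk.Sky Groth.Agent.PullStalk.Exact Groth.Agent.TFOneLib

/-- Let X be a proper reduced scheme of pure dimension one over a field k and M a torsion-free rank-1
sheaf on X. For closed subcurves Y and Z of X (non-empty unions of irreducible components) let W be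
the union of the irreducible components of X contained in Y ∩ Z (W may be empty). Writing M_T for
the torsion-free quotient of M on a closed subset T (pinned by its defining property; M_W = 0 when W
is empty), one has χ(M_{Y ∪ Z}) + χ(M_W) ≤ χ(M_Y) + χ(M_Z). (The source states this for curves that
are moreover geometrically reduced with geometrically integral components and notes the equivalent
form with β in place of χ; neither is needed for the inequality as stated.) -/
theorem result (k : Type u) [Field k] (X : Scheme.{u}) [X.Over (Spec (CommRingCat.of k))] [IsProper (X ↘ Spec (CommRingCat.of k))] [IsReduced X] (hpure : ∀ C ∈ irreducibleComponents (X : Type u), topologicalKrullDim C = 1) (M : X.Modules) (hM : TFOne.IsTF1 X M) (Y Z W : Set X) (hY : IsClosed Y) (hZ : IsClosed Z) (hYs : VecSt.IsSubcurve X Y) (hZs : VecSt.IsSubcurve X Z) (hW : W = ⋃₀ {C | C ∈ irreducibleComponents (X : Type u) ∧ C ⊆ Y ∩ Z}) (GY GZ GU GW : X.Modules) (πY : M ⟶ GY) (πZ : M ⟶ GZ) (πU : M ⟶ GU) (πW : M ⟶ GW) (hGY : TFOne.IsQuotOn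 X M Y GY πY) (hGZ : TFOne.IsQuotOn X M Z GZ πZ) (hGU : TFOne.IsQuotOn X M (Y ∪ Z) GU πU) (hGW : TFOne.IsQuotOn X M W GW πW) : Curv2.euler k X GU + Curv2.euler k X GW ≤ Curv2.euler k X GY + Curv2.euler k X GZ := by
  haveI := EulerChar.isNoetherian k (X := X)
  haveI : Epi πU := hGU.1
  haveI : Epi πW := hGW.1
  have hWsub : W ⊆ Y ∩ Z := hW ▸ Set.sUnion_subset fun C hC => hC.2
  obtain ⟨fY, hfY⟩ := exists_desc hM hGU hGY Set.subset_union_left
  obtain ⟨fZ, hfZ⟩ := exists_desc hM hGU hGZ Set.subset_union_right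
  obtain ⟨gY, hgY⟩ := exists_desc hM hGY hGW (fun x hx => (hWsub hx).1)
  obtain ⟨gZ, hgZ⟩ := exists_desc hM hGZ hGW (fun x hx => (hWsub hx).2)
  have hcomm : fY ≫ gY = fZ ≫ gZ := by
    rw [← cancel_epi πU, ← Category.assoc, hfY, hgY, ← Category.assoc, hfZ, hgZ]
  let α : GU ⟶ GY ⊞ GZ := biprod.lift fY fZ
  let β : GY ⊞ GZ ⟶ GW := biprod.desc gY (-gZ)
  have hαβ : α ≫ β = 0 := by
    rw [biprod.lift_desc, Preadditive.comp_neg, hcomm, add_neg_cancel]
  haveI : Epi gY := by
    haveI : Epi (πY ≫ gY) := hgY.symm ▸ hGW.1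
    exact epi_of_epi πY gY
  haveI : Epi β := by
    haveI : Epi (biprod.inl ≫ β) := by rw [biprod.inl_desc]; infer_instance
    exact epi_of_epi biprod.inl β
  have hP := CohDev.isCoh_biprod hGY.2.1 hGZ.2.1
  -- the stalks at generic points
  have hfst : ∀ (η : X) (t : M.presheaf.stalk η),
      stalkLin (biprod.fst : GY ⊞ GZ ⟶ GY) η (stalkLin α η (stalkLin πU η t)) = stalkLin πY η t := fun η t => by
    rw [← CohDev.stalkLin_comp_apply, biprod.lift_fst, ← CohDev.stalkLin_comp_apply, hfY]
  have hsnd : ∀ (η : X) (t : M.presheaf.stalk η),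
      stalkLin (biprod.snd : GY ⊞ GZ ⟶ GZ) η (stalkLin α η (stalkLin πU η t)) = stalkLin πZ η t := fun η t => by
    rw [← CohDev.stalkLin_comp_apply, biprod.lift_snd, ← CohDev.stalkLin_comp_apply, hfZ]
  haveI : Mono α := by
    refine Preadditive.mono_of_kernel_zero (eq_zero_of_generic _ (CohDev.isCoh_kernel' α hGU.2.1 hP) hGU.2.1.1
      (fun _ hy => mem_genericPoints_of_assoc hGU.2.2.1 hy) fun η hη t => ?_)
    have hα0 : stalkLin α η (stalkLin (kernel.ι α) η t) = 0 := by
      rw [← CohDev.stalkLin_comp_apply, kernel.condition, CohDev.stalkLin_zero_apply]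
    obtain ⟨m, hm⟩ := stalk_surjective πU η (stalkLin (kernel.ι α) η t)
    rw [← hm] at hα0 ⊢
    by_cases hηY : η ∈ Y
    · rw [quot_injective hM hGY hη hηY ((hfst η m).symm.trans (by rw [hα0, map_zero, map_zero])), map_zero]
    · by_cases hηZ : η ∈ Z
      · rw [quot_injective hM hGZ hη hηZ ((hsnd η m).symm.trans (by rw [hα0, map_zero, map_zero])), map_zero]
      · haveI := quot_subsingleton hGU (fun h => h.elim hηY hηZ)
        exact @Subsingleton.elim (GU.presheaf.stalk η) _ _ _
  let γ : cokernel α ⟶ GW := cokernel.desc α β hαβ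
  haveI : Epi γ := by
    haveI : Epi (cokernel.π α ≫ γ) := by rw [cokernel.π_desc]; infer_instance
    exact epi_of_epi (cokernel.π α) γ
  have hC : Coh.IsCoh (cokernel α) := CohDev.isCoh_cokernel α hGU.2.1.1 hP
  have hK : Coh.IsCoh (kernel γ) := CohDev.isCoh_kernel' γ hC hGW.2.1
  have e1 := EulerChar.euler_add k (X := X) (S := ShortComplex.mk α (cokernel.π α) (cokernel.condition α))
    { exact := ShortComplex.exact_of_g_is_cokernel _ (cokernelIsCokernel α) } hGU.2.1 hP hC
  have e2 := EulerChar.euler_add k (X := X) (S := ShortComplex.mk (kernel.ι γ) γ (kernel.condition γ))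
    { exact := ShortComplex.exact_of_f_is_kernel _ (kernelIsKernel γ) } hK hC hGW.2.1
  have e3 := EulerChar.euler_add k (X := X) (ShortComplex.Splitting.ofHasBinaryBiproduct GY GZ).shortExact
    hGY.2.1 hP hGZ.2.1
  have hpos : 0 ≤ Curv2.euler k X (kernel γ) := by
    refine EulerChar.euler_nonneg_of_support k hK
      (dim_support_le_zero (fun C hC => (hpure C hC).le) hK fun η hη => ?_)
    refine CohDev.not_mem_support_kernel γ ((injective_iff_map_eq_zero _).2 fun c hc => ?_)
    obtain ⟨x, rfl⟩ := stalk_surjective (cokernel.π α) η c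
    rw [← CohDev.stalkLin_comp_apply, cokernel.π_desc] at hc
    suffices ∃ t, stalkLin α η (stalkLin πU η t) = x by
      obtain ⟨t, rfl⟩ := this
      rw [← CohDev.stalkLin_comp_apply, cokernel.condition, CohDev.stalkLin_zero_apply]
    haveI : Epi πY := hGY.1
    haveI : Epi πZ := hGZ.1
    obtain ⟨a, ha⟩ := stalk_surjective πY η (stalkLin (biprod.fst : GY ⊞ GZ ⟶ GY) η x)
    obtain ⟨b, hb⟩ := stalk_surjective πZ η (stalkLin (biprod.snd : GY ⊞ GZ ⟶ GZ) η x)
    by_cases hηY : η ∈ Y
    · refine ⟨a, biprod_stalk_ext ((hfst η a).trans ha) ((hsnd η a).trans ?_)⟩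
      by_cases hηZ : η ∈ Z
      · have hηW : η ∈ W := by
          rw [hW]
          exact ⟨closure {η}, ⟨hη, closure_minimal (Set.singleton_subset_iff.2 ⟨hηY, hηZ⟩) (hY.inter hZ)⟩,
            subset_closure rfl⟩
        have hab : a = b := by
          refine quot_injective hM hGW hη hηW ?_
          rw [show β = biprod.desc gY (-gZ) from rfl, biprod.desc_eq, Preadditive.comp_neg, ← sub_eq_add_neg, stalkLin_sub, CohDev.stalkLin_comp_apply,
            CohDev.stalkLin_comp_apply, ← ha, ← hb, sub_eq_zero, ← CohDev.stalkLin_comp_apply,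
            ← CohDev.stalkLin_comp_apply, hgY, hgZ] at hc
          exact hc
        rw [hab, hb]
      · haveI := quot_subsingleton hGZ hηZ
        exact @Subsingleton.elim (GZ.presheaf.stalk η) _ _ _
    · refine ⟨b, biprod_stalk_ext ((hfst η b).trans ?_) ((hsnd η b).trans hb)⟩
      haveI := quot_subsingleton hGY hηY
      exact @Subsingleton.elim (GY.presheaf.stalk η) _ _ _
  dsimp only at e1 e2 e3
  linarith

end Groth.Agent.S18842
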