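import Groth.Statements.S18843
import Groth.Agent.TFOneLib.Basic
import Groth.Agent.EulerChar.Deg

set_option autoImplicit false
universe u
open CategoryTheory AlgebraicGeometry
open TFOne

namespace Groth.Agent.S18843

set_option linter.style.haveILetI false

open CategoryTheory.Limits TopologicalSpace Groth.Agent.PullStalk.Sky Groth.Agent.PullStalk.Exact Groth.Agent.TFOneLib

/-- An endomorphism descends to a torsion-free quotient and is a scalar there. -/
theorem exists_scalar {X : Scheme.{u}} [IsReduced X] [AlgebraicGeometry.IsNoetherian X]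
    (k : Type u) [Field k] [X.Over (Spec (CommRingCat.of k))] {M G : X.Modules} (hM : TFOne.IsTF1 X M)
    {Y : Set X} (π : M ⟶ G) (hπ : TFOne.IsQuotOn X M Y G π)
    (hs : ∀ φ : G ⟶ G, ∃ c : k, φ = Formal.smulMod k G c) (φ : M ⟶ M) :
    ∃ c : k, φ ≫ π = Formal.smulMod k M c ≫ π ∧
      ∀ η ∈ genericPoints X, η ∈ Y → ∀ t, stalkLin φ η t = stalkLin (Formal.smulMod k M c) η t := by
  haveI : Epi π := hπ.1
  have hinj : ∀ η ∈ genericPoints X, η ∈ Y → Function.Injective (stalkLin π η) := fun η hη hY =>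
    injective_of_rkOne hM.2.2 π hη (hπ.2.2.2.symm ▸ hY)
  have hz : kernel.ι π ≫ φ ≫ π = 0 := by
    refine eq_zero_of_generic _ (CohDev.isCoh_kernel' π hM.1 hπ.2.1) hπ.2.1.1
      (fun _ hy => mem_genericPoints_of_assoc hπ.2.2.1 hy) fun η hη t => ?_
    by_cases hY : η ∈ Y
    · have h0 : stalkLin (kernel.ι π) η t = 0 := hinj η hη hY (by
        rw [← CohDev.stalkLin_comp_apply, kernel.condition, CohDev.stalkLin_zero_apply, map_zero])
      rw [CohDev.stalkLin_comp_apply, h0, map_zero]
    · haveI : Subsingleton (G.presheaf.stalk η) := not_not.1 (hπ.2.2.2.symm ▸ hY : η ∉ CohB1.support G)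
      exact @Subsingleton.elim (G.presheaf.stalk η) _ _ _
  have hS : (ShortComplex.mk (kernel.ι π) π (kernel.condition π)).ShortExact :=
    { exact := ShortComplex.exact_of_f_is_kernel _ (kernelIsKernel π) }
  let ψ : G ⟶ G := hS.gIsCokernel.desc (CokernelCofork.ofπ _ hz)
  have hψ : π ≫ ψ = φ ≫ π := hS.gIsCokernel.fac (CokernelCofork.ofπ _ hz) WalkingParallelPair.one
  obtain ⟨c, hc⟩ := hs ψ
  have h : φ ≫ π = Formal.smulMod k M c ≫ π := by
    rw [← hψ, hc]
    exact (FormalFun.smulMod_natural π c).symm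
  exact ⟨c, h, fun η hη hY t => hinj η hη hY (by
    rw [← CohDev.stalkLin_comp_apply, ← CohDev.stalkLin_comp_apply, h])⟩


/-- Let X be a proper, geometrically reduced scheme of pure dimension one over a field k whose
irreducible components (with their reduced structure) are geometrically integral over k, and let M
be a torsion-free rank-1 sheaf on X. Let Y and Z be closed subcurves (non-empty unions of
irreducible components) with Y ∪ Z = X which have an irreducible component in common. If the
torsion-free quotients M_Y and M_Z of M on Y and on Z (pinned by their defining property) are both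
simple over k, then M is simple over k. -/
theorem result (k : Type u) [Field k] (X : Scheme.{u}) [X.Over (Spec (CommRingCat.of k))] [IsProper (X ↘ Spec (CommRingCat.of k))] [IsReduced X] [GeometricallyReduced (X ↘ Spec (CommRingCat.of k))] (hpure : ∀ C ∈ irreducibleComponents (X : Type u), topologicalKrullDim C = 1) (hgi : ∀ (C : Set X) (hC : C ∈ irreducibleComponents (X : Type u)), GeometricallyIntegral (VecSt.subschι X C (isClosed_of_mem_irreducibleComponents C hC) ≫ (X ↘ Spec (CommRingCat.of k)))) (M : X.Modules) (hM : TFOne.IsTF1 X M) (Y Z : Set X) (hY : IsClosed Y) (hZ : IsClosed Z) (hYs : VecSt.IsSubcurve X Y) (hZs : VecSt.IsSubcurve X Z) (hcov : Y ∪ Z = Set.univ) (hmeet : ∃ C ∈ irreducibleComponents (X : Type u), C ⊆ Y ∩ Z) (GY GZ : X.Modules) (πY : M ⟶ GY) (πZ : M ⟶ GZ) (hGY : TFOne.IsQuotOn X M Y GY πY) (hGZ : TFOne.IsQuotOn X M Z GZ πZ) (hsY : TFOne.IsSimple X k (X ↘ Spec (CommRingCat.of k)) GY) (hsZ : TFOne.IsSimple X k (X ↘ Spec (CommRingCat.of k)) GZ) : TFOne.IsSimple X k (X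 ↘ Spec (CommRingCat.of k)) M := by
  haveI := EulerChar.isNoetherian k (X := X)
  haveI : Epi πY := hGY.1
  refine ⟨fun hz => hsY.1 (IsZero.of_epi πY hz), fun φ => ?_⟩
  obtain ⟨c, -, hY'⟩ := exists_scalar k hM πY hGY hsY.2 φ
  obtain ⟨d, -, hZ'⟩ := exists_scalar k hM πZ hGZ hsZ.2 φ
  obtain ⟨C, hC, hCYZ⟩ := hmeet
  obtain ⟨η, hη⟩ := QuasiSober.sober hC.1 (isClosed_of_mem_irreducibleComponents C hC)
  have hgen : η ∈ genericPoints X := by
    show closure ({η} : Set X) ∈ irreducibleComponents (X : Type u)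
    rw [hη.def]; exact hC
  have hηC : η ∈ C := hη.mem
  obtain ⟨e⟩ := hM.2.2 η hgen
  haveI := (isField_stalk hgen).nontrivial
  have hcd : c = d := by
    refine (scal (k := k) η).injective ?_
    have h := (hY' η hgen (hCYZ hηC).1 (e.symm 1)).symm.trans (hZ' η hgen (hCYZ hηC).2 (e.symm 1))
    rw [stalkLin_smulMod, stalkLin_smulMod] at h
    have h' := congrArg e h
    rw [map_smul, map_smul, e.apply_symm_apply, smul_eq_mul, smul_eq_mul, mul_one, mul_one] at h'
    exact h'
  refine ⟨c, eq_of_generic φ _ hM.1 hM.1 hM.2.1 fun η' hη' t => ?_⟩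
  rcases (hcov ▸ Set.mem_univ η' : η' ∈ Y ∪ Z) with h | h
  · exact hY' η' hη' h t
  · rw [hcd]; exact hZ' η' hη' h t

end Groth.Agent.S18843
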