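import Groth.Statements.S18844
import Groth.Agent.TFOneLib.Quot
import Groth.Agent.TFOneLib.AlgClosedFF
import Groth.Agent.EulerChar.Deg
import Groth.Agent.KSMod.EndFinite

set_option autoImplicit false
universe u
open CategoryTheory CategoryTheory.Limits AlgebraicGeometry
open TFOne

namespace Groth.Agent.S18844

set_option linter.style.haveILetI false

open Groth.Agent.PullStalk.Sky Groth.Agent.PullStalk.Exact Groth.Agent.TFOneLib

/-- A module with a nonzero stalk at a point of an affine open has an associated point in it. -/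
theorem exists_assoc_mem {X : Scheme.{u}} [IsLocallyNoetherian X] {M : X.Modules} (hM : Coh.IsQCoh M)
    {x : X} (hx : x ∈ CohB1.support M) {V : X.Opens} (hV : IsAffineOpen V) (hxV : x ∈ V) :
    ∃ y ∈ V, CohDev.Assoc M y := by
  haveI : M.IsQuasicoherent := hM
  have := IsLocallyNoetherian.component_noetherian ⟨V, hV⟩
  have : Nontrivial Γ(M, V) := by
    by_contra hn
    rw [not_nontrivial_iff_subsingleton] at hn
    refine hx (subsingleton_of_forall_eq 0 fun t ↦ ?_)
    obtain ⟨m, s, hs, hst⟩ := CycLib.exists_smul_germ_eq M hV hxV t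
    rw [Subsingleton.elim m 0] at hst
    exact hs.smul_eq_zero.mp (hst.trans (map_zero (M.presheaf.germ V x hxV).hom))
  obtain ⟨p, hp⟩ := associatedPrimes.nonempty Γ(X, V) Γ(M, V)
  obtain ⟨hpr, m, hm⟩ := Submodule.isAssociatedPrime_iff.mp hp
  let q : PrimeSpectrum Γ(X, V) := ⟨p, hpr⟩
  let y : X := hV.fromSpec q
  have hy : y ∈ V := hV.range_fromSpec.le ⟨q, rfl⟩
  have hyq : (hV.primeIdealOf ⟨y, hy⟩).asIdeal = p :=
    congrArg PrimeSpectrum.asIdeal
      (hV.fromSpec.isOpenEmbedding.injective (hV.fromSpec_primeIdealOf ⟨y, hy⟩))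
  refine ⟨y, hy, germM M V y hy m, fun h0 ↦ ?_, fun r hr ↦ ?_⟩
  · obtain ⟨s, hs, hsm⟩ := CycLib.exists_smul_eq_zero_of_germ_eq_zero M hV hy m h0
    have := (CycLib.not_mem_primeIdealOf_iff hV hy s).mpr hs
    rw [hyq, hm, Submodule.mem_colon_singleton, Submodule.mem_bot] at this
    exact this hsm
  · letI := TopCat.Presheaf.algebra_section_stalk X.presheaf (⟨y, hy⟩ : V)
    haveI := hV.isLocalization_stalk ⟨y, hy⟩
    rw [← IsLocalization.AtPrime.map_eq_maximalIdeal (hV.primeIdealOf ⟨y, hy⟩).asIdeal
      (X.presheaf.stalk y)] at hr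
    induction hr using Submodule.span_induction with
    | mem c hc =>
      obtain ⟨a, ha, rfl⟩ := hc
      rw [SetLike.mem_coe, hyq, hm, Submodule.mem_colon_singleton, Submodule.mem_bot] at ha
      change X.presheaf.germ V y hy a • germM M V y hy m = 0
      rw [← germM_smul, ha]
      exact map_zero (M.presheaf.germ V y hy).hom
    | zero => exact zero_smul _ _
    | add b c _ _ hb hc => rw [add_smul, hb, hc, add_zero]
    | smul d b _ hb => rw [smul_eq_mul, mul_smul, hb, smul_zero]

/-- The support of a nonzero torsion-free coherent module is a subcurve. -/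
theorem isSubcurve_support {X : Scheme.{u}} [IsReduced X] [AlgebraicGeometry.IsNoetherian X] {P : X.Modules}
    (hP : Coh.IsCoh P) (hT : TorSh.IsTorsionFree P) (h0 : ¬ IsZero P) :
    VecSt.IsSubcurve X (CohB1.support P) := by
  have hcl := CohDev.isClosed_support hP
  let S : Set (Set X) := {C | C ∈ irreducibleComponents (X : Type u) ∧ C ⊆ CohB1.support P}
  have hcov : ∀ x ∈ CohB1.support P, x ∈ ⋃₀ S := fun x hx => by
    by_contra hn
    have hS : IsClosed (⋃₀ S) := by
      have hfin : S.Finite := TopologicalSpace.NoetherianSpace.finite_irreducibleComponents.subset fun C hC => hC.1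
      rw [Set.sUnion_eq_biUnion]
      exact hfin.isClosed_biUnion fun C hC => isClosed_of_mem_irreducibleComponents C hC.1
    obtain ⟨V, hV, hxV, hVS⟩ := exists_isAffineOpen_mem_and_subset (X := X)
      (show x ∈ (⟨(⋃₀ S)ᶜ, hS.isOpen_compl⟩ : X.Opens) from hn)
    obtain ⟨y, hyV, hy⟩ := exists_assoc_mem hP.1 hx hV hxV
    exact hVS hyV ⟨closure {y}, ⟨mem_genericPoints_of_assoc hT hy,
      closure_minimal (Set.singleton_subset_iff.2 (CohDev.mem_support_of_assoc hy)) hcl⟩, subset_closure rfl⟩
  obtain ⟨y, hy⟩ := CohDev.exists_assoc hP h0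
  obtain ⟨C, hC, -⟩ := hcov y (CohDev.mem_support_of_assoc hy)
  exact ⟨S, fun C hC => hC.1, ⟨C, hC⟩,
    Set.Subset.antisymm hcov (Set.sUnion_subset fun C hC => hC.2)⟩

/-- A subcurve contains a generic point. -/
theorem exists_generic_mem {X : Scheme.{u}} {Y : Set X} (hY : VecSt.IsSubcurve X Y) :
    ∃ η ∈ genericPoints X, η ∈ Y := by
  obtain ⟨T, hT, ⟨C, hC⟩, rfl⟩ := hY
  obtain ⟨η, hη⟩ := QuasiSober.sober (hT hC).1 (isClosed_of_mem_irreducibleComponents C (hT hC))
  exact ⟨η, by show closure ({η} : Set X) ∈ irreducibleComponents (X : Type u)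
               rw [hη.def]; exact hT hC, C, hC, hη.mem⟩

/-- An element of the stalk at a generic point which is algebraic over the base field is a constant. -/
theorem mem_range_scal {k : Type u} [Field k] {X : Scheme.{u}} [X.Over (Spec (CommRingCat.of k))] [IsReduced X]
    (hgi : ∀ (C : Set X) (hC : C ∈ irreducibleComponents (X : Type u)), GeometricallyIntegral (VecSt.subschι X C (isClosed_of_mem_irreducibleComponents C hC) ≫ (X ↘ Spec (CommRingCat.of k))))
    {η : X} (hη : η ∈ genericPoints X) {a : X.presheaf.stalk η} (ha : (scal (k := k) η).IsIntegralElem a) :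
    a ∈ Set.range (scal (k := k) η) := by
  let C : Set X := closure {η}
  have hC : C ∈ irreducibleComponents (X : Type u) := hη
  let ι := VecSt.subschι X C (isClosed_of_mem_irreducibleComponents C hC)
  let q := ι ≫ (X ↘ Spec (CommRingCat.of k))
  haveI : GeometricallyIntegral q := hgi C hC
  haveI : IsIntegral (VecSt.subsch X C (isClosed_of_mem_irreducibleComponents C hC)) :=
    GeometricallyIntegral.isIntegral_of_subsingleton q
  have hr : Set.range ι = C := by rw [Scheme.IdealSheafData.range_subschemeι]; rfl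
  obtain ⟨z, hz⟩ : η ∈ Set.range ι := hr.ge (subset_closure rfl)
  obtain rfl : z = genericPoint _ :=
    ((UnibrBir.mem_genericPoints_iff_forall.1 (by
      refine UnibrBir.mem_genericPoints_iff_forall.2 fun w hw => ι.isClosedEmbedding.injective ?_
      exact (UnibrBir.mem_genericPoints_iff_forall.1 hη _ (hz ▸ hw.map ι.continuous)).trans hz.symm))
      _ (genericPoint_specializes z)).symm
  revert a
  revert hη
  rw [← hz]
  intro hη a ha
  letI := (isField_stalk hη).toField
  have hcomp : (ι.stalkMap (genericPoint _)).hom.comp (scal (k := k) _) = ffConst q := by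
    ext c
    exact Scheme.Hom.germ_stalkMap_apply ι ⊤ (genericPoint _) trivial _
  obtain ⟨P, hP, hPa⟩ := ha
  obtain ⟨c, hc⟩ := mem_range_ffConst q (b := ι.stalkMap _ a) ⟨P, hP, by
    rw [← hcomp, ← Polynomial.hom_eval₂, hPa, map_zero]⟩
  exact ⟨c, (ι.stalkMap (genericPoint _)).hom.injective ((RingHom.congr_fun hcomp c).trans hc)⟩

/-- Let X be a proper, geometrically reduced scheme of pure dimension one over a field k whose
irreducible components (with their reduced structure) are geometrically integral over k, assume X is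
non-empty, and take a torsion-free sheaf I of rank one on X. Then I is simple over k (every
endomorphism of I is multiplication by a scalar) exactly when I is not decomposable, that is, when
there do not exist closed proper subcurves Y and Z of X (non-empty unions of irreducible components,
each different from X) together with the torsion-free quotients I_Y, I_Z of I on them (pinned by
their defining property) such that the canonical map I ⟶ I_Y ⊞ I_Z is an isomorphism. -/
theorem result (k : Type u) [Field k] (X : Scheme.{u}) [X.Over (Spec (CommRingCat.of k))] [IsProper (X ↘ Spec (CommRingCat.of k))] [IsReduced X] [GeometricallyReduced (X ↘ Spec (CommRingCat.of k))] (hpure : ∀ C ∈ irreducibleComponents (X : Type u), topologicalKrullDim C = 1) (hgi : ∀ (C : Set X) (hC : C ∈ irreducibleComponents (X : Type u)), GeometricallyIntegral (VecSt.subschι X C (isClosed_of_mem_irreducibleComponents C hC) ≫ (X ↘ Spec (CommRingCat.of k)))) [Nonempty X] (I : X.Modules) (hI : TFOne.IsTF1 X I) : TFOne.IsSimple X k (X ↘ Spec (CommRingCat.of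 k)) I ↔ ¬ ∃ (Y Z : Set X) (hY : IsClosed Y) (hZ : IsClosed Z) (GY GZ : X.Modules) (πY : I ⟶ GY) (πZ : I ⟶ GZ), VecSt.IsSubcurve X Y ∧ VecSt.IsSubcurve X Z ∧ Y ≠ Set.univ ∧ Z ≠ Set.univ ∧ TFOne.IsQuotOn X I Y GY πY ∧ TFOne.IsQuotOn X I Z GZ πZ ∧ IsIso (biprod.lift πY πZ) := by
  haveI := EulerChar.isNoetherian k (X := X)
  constructor
  · rintro hs ⟨Y, Z, hY, hZ, GY, GZ, πY, πZ, hYs, hZs, -, -, hGY, hGZ, hiso⟩
    obtain ⟨c, hc'⟩ := hs.2 (biprod.lift πY πZ ≫ biprod.fst ≫ biprod.inl ≫ inv (biprod.lift πY πZ))
    have hc : biprod.lift πY πZ ≫ biprod.fst ≫ biprod.inl ≫ inv (biprod.lift πY πZ) = Formal.smulMod k I c := hc'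
    have hY1 : inv (biprod.lift πY πZ) ≫ πY = biprod.fst := by rw [IsIso.inv_comp_eq, biprod.lift_fst]
    have hZ1 : inv (biprod.lift πY πZ) ≫ πZ = biprod.snd := by rw [IsIso.inv_comp_eq, biprod.lift_snd]
    have h1 : Formal.smulMod k I c ≫ πY = πY := by
      rw [← hc]; simp [hY1]
    have h0 : Formal.smulMod k I c ≫ πZ = 0 := by
      rw [← hc]; simp [hZ1]
    have hval : ∀ {η : X}, η ∈ genericPoints X → ∀ {G : X.Modules} {S : Set X} {π : I ⟶ G},
        TFOne.IsQuotOn X I S G π → η ∈ S → ∀ d : k, Formal.smulMod k I c ≫ π = Formal.smulMod k I d ≫ π → c = d := by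
      intro η hη G S π hπ hS d hd
      haveI := (isField_stalk hη).nontrivial
      obtain ⟨e⟩ := hI.2.2 η hη
      have h := LinearMap.congr_fun (congrArg (fun f => stalkLin f η) hd) (e.symm 1)
      simp only [CohDev.stalkLin_comp_apply, stalkLin_smulMod] at h
      have h' := congrArg e (quot_injective hI hπ hη hS h)
      rw [map_smul, map_smul, e.apply_symm_apply, smul_eq_mul, smul_eq_mul, mul_one, mul_one] at h'
      exact (scal (k := k) η).injective h'
    obtain ⟨η, hη, hηY⟩ := exists_generic_mem hYs
    obtain ⟨θ, hθ, hθZ⟩ := exists_generic_mem hZs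
    have e1 := hval hη hGY hηY 1 (by rw [FormalFun.smulMod_one, Category.id_comp, h1])
    have e0 := hval hθ hGZ hθZ 0 (by rw [FormalFun.smulMod_zero, zero_comp, h0])
    exact one_ne_zero (e1.symm.trans e0)
  · intro hdec
    obtain ⟨η₀, hη₀⟩ : ∃ η, η ∈ genericPoints X := by
      let x : X := Classical.arbitrary _
      obtain ⟨η, hη⟩ := QuasiSober.sober (isIrreducible_irreducibleComponent (x := x)) isClosed_irreducibleComponent
      exact ⟨η, by show closure ({η} : Set X) ∈ irreducibleComponents (X : Type u)
                   rw [hη.def]; exact irreducibleComponent_mem_irreducibleComponents x⟩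
    have hnz : ¬ IsZero I := fun hz => stalk_support_generic hI.2.2 hη₀ (subsingleton_of_forall_eq 0 fun t => by
      rw [← CohDev.stalkLin_id_apply η₀ t, hz.eq_of_src (𝟙 I) 0, CohDev.stalkLin_zero_apply])
    have hind : KSMod.Indec I := by
      refine KSMod.indec_of_idem hnz fun e he => by_contra fun hne => ?_
      push Not at hne
      obtain ⟨P, Q, i, p, i', p', hip, hpi, hip', hpi', -⟩ := KSMod.exists_split e he
      haveI : IsSplitEpi p := ⟨⟨⟨i, hip⟩⟩⟩
      haveI : IsSplitEpi p' := ⟨⟨⟨i', hip'⟩⟩⟩
      haveI : IsSplitMono i := ⟨⟨⟨p, hip⟩⟩⟩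
      haveI : IsSplitMono i' := ⟨⟨⟨p', hip'⟩⟩⟩
      have hi'p : i' ≫ p = 0 := by
        rw [← cancel_epi p', ← cancel_mono i, comp_zero, zero_comp, Category.assoc, Category.assoc, hpi,
          ← Category.assoc, hpi', Preadditive.sub_comp, Category.id_comp, he, sub_self]
      have hip2 : i ≫ p' = 0 := by
        rw [← cancel_epi p, ← cancel_mono i', comp_zero, zero_comp, Category.assoc, Category.assoc, hpi',
          ← Category.assoc, hpi, Preadditive.comp_sub, Category.comp_id, he, sub_self]
      have hk : i ≫ (𝟙 I - e) = 0 := by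
        rw [Preadditive.comp_sub, Category.comp_id, ← hpi, ← Category.assoc, hip, Category.id_comp, sub_self]
      have hP : Coh.IsCoh P := CohDev.isCoh_of_iso
        { hom := kernel.ι (𝟙 I - e) ≫ p
          inv := kernel.lift _ i hk
          hom_inv_id := by
            rw [← cancel_mono (kernel.ι (𝟙 I - e)), Category.assoc, kernel.lift_ι, Category.assoc, hpi,
              Category.id_comp, ← sub_eq_zero]
            simpa [Preadditive.comp_sub] using congrArg (fun x => -x) (kernel.condition (𝟙 I - e))
          inv_hom_id := by rw [kernel.lift_ι_assoc, hip] }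
        (CohDev.isCoh_kernel' _ hI.1 hI.1)
      have hk' : i' ≫ e = 0 := by rw [← hpi, ← Category.assoc, hi'p, zero_comp]
      have hQ : Coh.IsCoh Q := CohDev.isCoh_of_iso
        { hom := kernel.ι e ≫ p'
          inv := kernel.lift _ i' hk'
          hom_inv_id := by
            rw [← cancel_mono (kernel.ι e), Category.assoc, kernel.lift_ι, Category.assoc, hpi',
              Category.id_comp, Preadditive.comp_sub, Category.comp_id, kernel.condition, sub_zero]
          inv_hom_id := by rw [kernel.lift_ι_assoc, hip'] }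
        (CohDev.isCoh_kernel' _ hI.1 hI.1)
      have hP0 : ¬ IsZero P := fun hz => hne.1 (by rw [← hpi, hz.eq_of_tgt p 0, zero_comp])
      have hQ0 : ¬ IsZero Q := fun hz => hne.2 (by
        rw [hz.eq_of_tgt p' 0, zero_comp] at hpi'
        exact (sub_eq_zero.mp hpi'.symm).symm)
      have htf : ∀ {A : X.Modules} (g : A ⟶ I) [Mono g], TorSh.IsTorsionFree A := fun g _ y =>
        haveI := hI.2.1 y
        (CohDev.stalk_injective g y).moduleIsTorsionFree _ (map_smul _)
      have hdis : ∀ η ∈ genericPoints X, η ∈ CohB1.support P → η ∈ CohB1.support Q → False := fun η hη hηP hηQ => by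
        refine hηQ (subsingleton_of_forall_eq 0 fun t => CohDev.stalk_injective i' η ?_)
        refine injective_of_rkOne hI.2.2 p hη hηP ?_
        rw [← CohDev.stalkLin_comp_apply, hi'p, CohDev.stalkLin_zero_apply, map_zero, map_zero]
      have hPs := isSubcurve_support hP (htf i) hP0
      have hQs := isSubcurve_support hQ (htf i') hQ0
      refine hdec ⟨CohB1.support P, CohB1.support Q, CohDev.isClosed_support hP, CohDev.isClosed_support hQ,
        P, Q, p, p', hPs, hQs, fun h => ?_, fun h => ?_, ⟨inferInstance, hP, htf i, rfl⟩,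
        ⟨inferInstance, hQ, htf i', rfl⟩, ⟨biprod.desc i i', ?_, ?_⟩⟩
      · obtain ⟨η, hη, hηQ⟩ := exists_generic_mem hQs
        exact hdis η hη (h.ge trivial) hηQ
      · obtain ⟨η, hη, hηP⟩ := exists_generic_mem hPs
        exact hdis η hη hηP (h.ge trivial)
      · rw [biprod.lift_desc, hpi, hpi', add_sub_cancel]
      · apply biprod.hom_ext' <;> apply biprod.hom_ext <;> simp [hip, hip', hi'p, hip2]
    letI : Algebra k (End I) := KSMod.endAlgebra k (X ↘ Spec (CommRingCat.of k)) I
    haveI : Module.Finite k (End I) := KSMod.finite_end k (X ↘ Spec (CommRingCat.of k)) I hI.1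
    haveI := IsArtinianRing.of_finite k (End I)
    have hev : ∀ η ∈ genericPoints X, ∃ ev : End I →+* X.presheaf.stalk η,
        (∀ c : k, ev (algebraMap k (End I) c) = scal η c) ∧
        ∀ f : End I, ev f = 0 → ∀ t, stalkLin (End.asHom f) η t = 0 := by
      intro η hη
      obtain ⟨e⟩ := hI.2.2 η hη
      have hlin : ∀ (f : End I) (t : I.presheaf.stalk η),
          stalkLin (End.asHom f) η t = e t • stalkLin (End.asHom f) η (e.symm 1) := fun f t => by
        rw [← map_smul]
        congr 1
        exact e.injective (by rw [map_smul, e.apply_symm_apply, smul_eq_mul, mul_one])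
      refine ⟨{ toFun := fun f => e (stalkLin (End.asHom f) η (e.symm 1)), map_one' := ?_, map_mul' := fun f g => ?_,
                map_zero' := ?_, map_add' := fun f g => ?_ }, fun c => ?_, fun f hf t => ?_⟩
      · show e (stalkLin (𝟙 I) η _) = 1
        rw [CohDev.stalkLin_id_apply, e.apply_symm_apply]
      · show e (stalkLin (End.asHom g ≫ End.asHom f) η _) = _
        rw [CohDev.stalkLin_comp_apply, hlin f, map_smul, smul_eq_mul, mul_comm]
      · show e (stalkLin (0 : I ⟶ I) η _) = 0
        rw [CohDev.stalkLin_zero_apply, map_zero]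
      · show e (stalkLin (End.asHom f + End.asHom g) η _) = _
        rw [CohDev.stalkLin_add_apply, map_add]
      · show e (stalkLin (Formal.smulMod k I c) η _) = _
        rw [stalkLin_smulMod, map_smul, e.apply_symm_apply, smul_eq_mul, mul_one]
      · rw [hlin f, e.injective (hf.trans (map_zero e).symm), smul_zero]
    refine ⟨hnz, fun φ => ?_⟩
    obtain ⟨ev, hevc, -⟩ := hev η₀ hη₀
    obtain ⟨c, hc⟩ := mem_range_scal (k := k) hgi hη₀ (a := ev (End.of φ)) (by
      obtain ⟨P, hP, hP0⟩ := Algebra.IsIntegral.isIntegral (R := k) (End.of φ)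
      refine ⟨P, hP, ?_⟩
      have h := congrArg ev hP0
      rw [map_zero, Polynomial.hom_eval₂] at h
      rw [show scal (k := k) η₀ = ev.comp (algebraMap k (End I)) from RingHom.ext fun c => (hevc c).symm]
      exact h)
    refine ⟨c, ?_⟩
    suffices h : End.of φ - algebraMap k (End I) c = 0 from sub_eq_zero.1 h
    let g : End I := End.of φ - algebraMap k (End I) c
    haveI := (isField_stalk hη₀).nontrivial
    rcases KSMod.isUnit_or_isNilpotent (fun e he => hind.idem (End.asHom e) he) g with hu | hn
    · exact absurd (by rw [map_sub, hevc, hc, sub_self] : ev g = 0) (hu.map ev).ne_zero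
    · show End.asHom g = 0
      refine eq_zero_of_generic _ hI.1 hI.1.1 (fun _ hy => mem_genericPoints_of_assoc hI.2.1 hy) fun η hη t => ?_
      obtain ⟨ev', -, hev0⟩ := hev η hη
      exact hev0 g (hn.map ev').eq_zero t

end Groth.Agent.S18844
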