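import Groth.Statements.S18845
import Groth.Agent.TFOneLib.PushSub
import Groth.Agent.EulerChar.Deg
import Groth.Agent.FormalFun.ClosedCut

set_option autoImplicit false
universe u
open CategoryTheory CategoryTheory.Limits AlgebraicGeometry
open TFOne

namespace Groth.Agent.S18845

set_option linter.style.haveILetI false

open Groth.Agent.PullStalk.Sky Groth.Agent.PullStalk.Exact Groth.Agent.TFOneLib

/-- Let X be a proper, geometrically reduced scheme of pure dimension one over a field k whose
irreducible components (with their reduced structure) are geometrically integral over k, let Y and Z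
be closed subcurves (non-empty unions of irreducible components) with Y ∪ Z = X, and let M be a
torsion-free sheaf of rank one on X. Suppose M sits in a short exact sequence 0 ⟶ i_{Y*} I ⟶ M ⟶
i_{Z*} J ⟶ 0 of modules on X, where I is a simple torsion-free sheaf of rank one on the reduced
closed subscheme Y, J is a simple torsion-free sheaf of rank one on the reduced closed subscheme Z,
and i_{Y*}, i_{Z*} are the direct images. Then M is simple over k exactly when the sequence does not
split (the epimorphism M ⟶ i_{Z*} J has no section). -/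
theorem result (k : Type u) [Field k] (X : Scheme.{u}) [X.Over (Spec (CommRingCat.of k))] [IsProper (X ↘ Spec (CommRingCat.of k))] [IsReduced X] [GeometricallyReduced (X ↘ Spec (CommRingCat.of k))] (hpure : ∀ C ∈ irreducibleComponents (X : Type u), topologicalKrullDim C = 1) (hgi : ∀ (C : Set X) (hC : C ∈ irreducibleComponents (X : Type u)), GeometricallyIntegral (VecSt.subschι X C (isClosed_of_mem_irreducibleComponents C hC) ≫ (X ↘ Spec (CommRingCat.of k)))) (Y Z : Set X) (hY : IsClosed Y) (hZ : IsClosed Z) (hYs : VecSt.IsSubcurve X Y) (hZs : VecSt.IsSubcurve X Z) (hcov : Y ∪ Z = Set.univ) (M : X.Modules) (hM : TFOne.IsTF1 X M) (I : (VecSt.subsch X Y hY).Modules) (hI : TFOne.IsTF1 (VecSt.subsch X Y hY) I) (hIs : TFOne.IsSimple (VecSt.subsch X Y hY) k (VecSt.subschι X Y hY ≫ (X ↘ Spec (CommRingCat.of k))) I) (J : (VecSt.subsch X Z hZ).Modules) (hJ : TFOne.IsTF1 (VecSt.subsch X Z hZ) J) (hJs : TFOne.IsSimple (VecSt.subsch X Z hZ) k (VecSt.subschι X Z hZ ≫ (X ↘ Spec (CommRingCat.of k))) J) (a : (Coh.push (VecSt.subschι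 X Y hY)).obj I ⟶ M) (b : M ⟶ (Coh.push (VecSt.subschι X Z hZ)).obj J) (w : a ≫ b = 0) (hex : (ShortComplex.mk a b w).ShortExact) : TFOne.IsSimple X k (X ↘ Spec (CommRingCat.of k)) M ↔ ¬ IsSplitEpi b := by
  haveI := EulerChar.isNoetherian k (X := X)
  let i := VecSt.subschι X Y hY
  let j := VecSt.subschι X Z hZ
  haveI : IsReduced (VecSt.subsch X Y hY) := inferInstance
  haveI : IsLocallyNoetherian (VecSt.subsch X Y hY) := LocallyOfFiniteType.isLocallyNoetherian i
  haveI : IsLocallyNoetherian (VecSt.subsch X Z hZ) := LocallyOfFiniteType.isLocallyNoetherian j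
  have hi : Set.range i = Y := by
    rw [Scheme.IdealSheafData.range_subschemeι]; rfl
  have hj : Set.range j = Z := by
    rw [Scheme.IdealSheafData.range_subschemeι]; rfl
  let PI := (Coh.push i).obj I
  let PJ := (Coh.push j).obj J
  haveI : Mono a := hex.mono_f
  haveI : Epi b := hex.epi_g
  haveI := hI.1.1
  haveI := hJ.1.1
  have hPI : Coh.IsCoh PI := CycLib.isCoh_push _ i hI.1
  have hPJ : Coh.IsCoh PJ := CycLib.isCoh_push _ j hJ.1
  -- no generic point carries both pieces
  have hdis : ∀ η ∈ genericPoints X, η ∈ Y → η ∈ Z → False := fun η hη hηY hηZ => by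
    have hbinj := injective_of_rkOne hM.2.2 b hη
      (mem_support_push_generic j hJ.2.2 hη (hj.ge hηZ))
    refine mem_support_push_generic i hI.2.2 hη (hi.ge hηY) (subsingleton_of_forall_eq 0 fun t => ?_)
    refine CohDev.stalk_injective a η (hbinj ?_)
    rw [← CohDev.stalkLin_comp_apply, w, CohDev.stalkLin_zero_apply, map_zero, map_zero]
  have hgen : ∀ {S : Set X}, VecSt.IsSubcurve X S → ∃ η ∈ genericPoints X, η ∈ S := by
    rintro S ⟨T, hT, ⟨C, hC⟩, rfl⟩
    obtain ⟨η, hη⟩ := QuasiSober.sober (hT hC).1 (isClosed_of_mem_irreducibleComponents C (hT hC))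
    exact ⟨η, by show closure ({η} : Set X) ∈ irreducibleComponents (X : Type u)
                 rw [hη.def]; exact hT hC, C, hC, hη.mem⟩
  constructor
  · rintro hs ⟨⟨⟨s, hsb⟩⟩⟩
    obtain ⟨c, hc'⟩ := hs.2 (b ≫ s)
    have hc : b ≫ s = Formal.smulMod k M c := hc'
    have h1 : Formal.smulMod k M c ≫ b = b := by
      rw [← hc, Category.assoc, hsb, Category.comp_id]
    have hc1 : c = 1 := by
      obtain ⟨η, hη, hηZ⟩ := hgen hZs
      haveI := (isField_stalk hη).nontrivial
      obtain ⟨e⟩ := hM.2.2 η hη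
      have h := LinearMap.congr_fun (congrArg (fun f => stalkLin f η) h1) (e.symm 1)
      simp only [CohDev.stalkLin_comp_apply, stalkLin_smulMod] at h
      have h' := congrArg e (injective_of_rkOne hM.2.2 b hη
        (mem_support_push_generic j hJ.2.2 hη (hj.ge hηZ)) h)
      rw [map_smul, e.apply_symm_apply, smul_eq_mul, mul_one] at h'
      exact (scal (k := k) η).injective (h'.trans (map_one _).symm)
    rw [hc1, FormalFun.smulMod_one] at hc
    have ha : a = 0 := by rw [← Category.comp_id a, ← hc, ← Category.assoc, w, zero_comp]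
    obtain ⟨η, hη, hηY⟩ := hgen hYs
    exact mem_support_push_generic i hI.2.2 hη (hi.ge hηY) (subsingleton_of_forall_eq 0 fun t =>
      CohDev.stalk_injective a η (by rw [ha, CohDev.stalkLin_zero_apply, map_zero]))
  · intro hns
    refine ⟨fun hz => ?_, fun φ => ?_⟩
    · obtain ⟨η, hη, hηZ⟩ := hgen hZs
      refine mem_support_push_generic j hJ.2.2 hη (hj.ge hηZ) (subsingleton_of_forall_eq 0 fun t => ?_)
      obtain ⟨s, rfl⟩ := stalk_surjective b η t
      rw [hz.eq_of_src b 0, CohDev.stalkLin_zero_apply]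
    have hab : a ≫ φ ≫ b = 0 := by
      refine eq_zero_of_generic _ hPI hPJ.1
        (fun _ hy => mem_genericPoints_of_assoc_push j hZs hj hJ.2.1 hy) fun η hη t => ?_
      by_cases hηY : η ∈ Y
      · haveI := not_mem_support_push j J (fun h => hdis η hη hηY (hj.le h))
        exact @Subsingleton.elim (PJ.presheaf.stalk η) _ _ _
      · haveI := not_mem_support_push i I (fun h => hηY (hi.le h))
        rw [@Subsingleton.elim (PI.presheaf.stalk η) _ t 0, map_zero]
    let φI : PI ⟶ PI := hex.fIsKernel.lift (KernelFork.ofι (a ≫ φ) (by simpa using hab))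
    have hφI : φI ≫ a = a ≫ φ := hex.fIsKernel.fac _ WalkingParallelPair.zero
    let φJ : PJ ⟶ PJ := hex.gIsCokernel.desc (CokernelCofork.ofπ (φ ≫ b) hab)
    have hφJ : b ≫ φJ = φ ≫ b := hex.gIsCokernel.fac _ WalkingParallelPair.one
    letI : (VecSt.subsch X Y hY).Over (Spec (CommRingCat.of k)) := ⟨i ≫ (X ↘ Spec (CommRingCat.of k))⟩
    letI : (VecSt.subsch X Z hZ).Over (Spec (CommRingCat.of k)) := ⟨j ≫ (X ↘ Spec (CommRingCat.of k))⟩
    obtain ⟨c, hc⟩ := hIs.2 ((Props.KilledSub.fullyFaithful i).preimage φI)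
    obtain ⟨d, hd⟩ := hJs.2 ((Props.KilledSub.fullyFaithful j).preimage φJ)
    have hc' : φI = Formal.smulMod k PI c :=
      ((Props.KilledSub.fullyFaithful i).map_preimage φI).symm.trans
        ((congrArg _ hc).trans (FormalFun.push_map_smulMod i rfl I c))
    have hd' : φJ = Formal.smulMod k PJ d :=
      ((Props.KilledSub.fullyFaithful j).map_preimage φJ).symm.trans
        ((congrArg _ hd).trans (FormalFun.push_map_smulMod j rfl J d))
    have hz : a ≫ (φ - Formal.smulMod k M c) = 0 := by
      rw [Preadditive.comp_sub, ← hφI, hc', FormalFun.smulMod_natural a c, sub_self]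
    let ψ : PJ ⟶ M := hex.gIsCokernel.desc (CokernelCofork.ofπ _ hz)
    have hψ : b ≫ ψ = φ - Formal.smulMod k M c := hex.gIsCokernel.fac _ WalkingParallelPair.one
    have hψb : ψ ≫ b = Formal.smulMod k PJ (d - c) := by
      rw [← cancel_epi b, ← Category.assoc, hψ, Preadditive.sub_comp, ← hφJ, hd', FormalFun.smulMod_natural b c,
        ← Preadditive.comp_sub]
      congr 1
      rw [sub_eq_iff_eq_add, ← FormalFun.smulMod_add, sub_add_cancel]
    have hcd : c = d := by
      by_contra hne
      refine hns ⟨⟨⟨Formal.smulMod k PJ (d - c)⁻¹ ≫ ψ, ?_⟩⟩⟩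
      rw [Category.assoc, hψb, smulMod_mul, mul_inv_cancel₀ (sub_ne_zero.2 (Ne.symm hne)), FormalFun.smulMod_one]
    have hψ0 : ψ = 0 := by
      refine eq_zero_of_generic ψ hPJ hM.1.1 (fun _ hy => mem_genericPoints_of_assoc hM.2.1 hy) fun η hη t => ?_
      by_cases hηZ : η ∈ Z
      · refine injective_of_rkOne hM.2.2 b hη (mem_support_push_generic j hJ.2.2 hη (hj.ge hηZ)) ?_
        rw [← CohDev.stalkLin_comp_apply, hψb, hcd, sub_self, FormalFun.smulMod_zero, CohDev.stalkLin_zero_apply, map_zero]
      · haveI := not_mem_support_push j J (fun h => hηZ (hj.le h))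
        rw [@Subsingleton.elim (PJ.presheaf.stalk η) _ t 0, map_zero]
    have hφ : φ - Formal.smulMod k M c = 0 := by rw [← hψ, hψ0, comp_zero]
    exact ⟨c, sub_eq_zero.1 hφ⟩

end Groth.Agent.S18845
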