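import Groth.Statements.S18848
import Groth.Agent.TFOneLib.OnSub
-- import your own Groth.Agent.* helpers here

set_option autoImplicit false
universe u
open CategoryTheory CategoryTheory.Limits AlgebraicGeometry
open TFOne

namespace Groth.Agent.S18848

/-- Let R be a discrete valuation ring with residue field κ, f : X ⟶ Spec R flat and proper, and X_s its
special fibre, assumed reduced of pure dimension one with geometrically integral irreducible
components over κ. Let I be a coherent R-flat module on X whose restriction I(s) to X_s is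
torsion-free rank-1, E a locally free module of rank r > 0 on X with restriction E(s), and d an
integer with χ(I(s)) = d and deg E(s) = -r·d. For a closed subset T of X_s write I(s)_T for the
torsion-free quotient of I(s) on T (pinned by its defining property) and β(T) := r·χ(I(s)_T) +
deg(E(s)|_T) (the source's β cleared of the denominator r). Let Y be a closed subcurve of X_s (a
non-empty union of irreducible components), and let I^Y be the kernel of the composite I ⟶ i_* I(s)
⟶ i_* I(s)_Y, with restriction I^Y(s) to X_s and quotients I^Y(s)_T and numbers β^Y(T) :=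
r·χ(I^Y(s)_T) + deg(E(s)|_T) defined likewise. Assume I(s) is semistable with respect to E(s). Then
I^Y(s) is semistable with respect to E(s) if and only if β(Y) = 0 and I(s)_Y, viewed on the reduced
closed subscheme Y, is semistable with respect to E(s)|_Y. (Here β(Y) = 0 says that E(s)|_Y is a
polarisation for I(s)_Y, the source's implicit requirement for semistability with respect to
E(s)|_Y. The source states the conclusion for semistability of I^Y over Spec R, which it reduces at
once to the special fibre since I^Y and I agree off Y; it also asserts that I^Y(s) and I(s) are then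
Jordan–Hölder equivalent, which is not stated here; it takes f projective.) -/
theorem result (R : Type u) [CommRing R] [IsDomain R] [IsDiscreteValuationRing R] (X : Scheme.{u}) (f : X ⟶ Spec (CommRingCat.of R)) [Flat f] [IsProper f] (Xs : Scheme.{u}) [Xs.Over (Spec (CommRingCat.of (IsLocalRing.ResidueField R)))] (i : Xs ⟶ X) (hsq : IsPullback i (Xs ↘ Spec (CommRingCat.of (IsLocalRing.ResidueField R))) f (Spec.map (CommRingCat.ofHom (IsLocalRing.residue R)))) [IsReduced Xs] (hpure : ∀ C ∈ irreducibleComponents (Xs : Type u), topologicalKrullDim C = 1) (hgi : ∀ (C : Set Xs) (hC : C ∈ irreducibleComponents (Xs : Type u)), GeometricallyIntegral (VecSt.subschι Xs C (isClosed_of_mem_irreducibleComponents C hC) ≫ (Xs ↘ Spec (CommRingCat.of (IsLocalRing.ResidueField R))))) (I : X.Modules) (hIc : Coh.IsCoh I) (hIf : FlatMod.IsFlatOver f I) (hIs : TFOne.IsTF1 Xs ((Scheme.Modules.pullback i).obj I)) (E : X.Modules) (r : ℕ) (hr : 0 < r) (hE : FlatMod.IsFinLocFreeOfRank r E) (d : ℤ) (hχ : Curv2.euler (IsLocalRing.ResidueField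 R) Xs ((Scheme.Modules.pullback i).obj I) = d) (hEd : Curv2.deg (IsLocalRing.ResidueField R) Xs ((Scheme.Modules.pullback i).obj E) r = -(r : ℤ) * d) (hss : TFOne.IsSemistable Xs (IsLocalRing.ResidueField R) (Xs ↘ Spec (CommRingCat.of (IsLocalRing.ResidueField R))) ((Scheme.Modules.pullback i).obj I) ((Scheme.Modules.pullback i).obj E) r) (Y : Set Xs) (hY : IsClosed Y) (hYs : VecSt.IsSubcurve Xs Y) (GY : Xs.Modules) (πY : ((Scheme.Modules.pullback i).obj I) ⟶ GY) (hGY : TFOne.IsQuotOn Xs ((Scheme.Modules.pullback i).obj I) Y GY πY) (IY : X.Modules) (hIY : IY = kernel ((Scheme.Modules.pullbackPushforwardAdjunction i).unit.app I ≫ (Scheme.Modules.pushforward i).map πY)) : TFOne.IsSemistable Xs (IsLocalRing.ResidueField R) (Xs ↘ Spec (CommRingCat.of (IsLocalRing.ResidueField R))) ((Scheme.Modules.pullback i).obj IY) ((Scheme.Modules.pullback i).obj E) r ↔ (TFOne.rBeta Xs (IsLocalRing.ResidueField R) (Xs ↘ Spec (CommRingCat.of (IsLocalRing.ResidueField R))) Y hY ((Scheme.Modules.pullback i).obj E) r GY = 0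 ∧ TFOne.IsSemistable (VecSt.subsch Xs Y hY) (IsLocalRing.ResidueField R) (VecSt.subschι Xs Y hY ≫ (Xs ↘ Spec (CommRingCat.of (IsLocalRing.ResidueField R)))) ((Scheme.Modules.pullback (VecSt.subschι Xs Y hY)).obj GY) ((Scheme.Modules.pullback (VecSt.subschι Xs Y hY)).obj ((Scheme.Modules.pullback i).obj E)) r) := by
  haveI := TFOneLib.isProper_special f i hsq
  haveI := EulerChar.isNoetherian (IsLocalRing.ResidueField R) (X := Xs)
  have hEs := ParaFormal.Elkik.isFinLocFreeOfRank_pullback i hE
  obtain ⟨hF, hβ⟩ := TFOneLib.beta_modif f i hsq hpure I hIc hIf hIs E hE hY hGY IY hIY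
  have hnn : ∀ {T : Set Xs} (hT : IsClosed T), (VecSt.IsSubcurve Xs T ∨ T = ∅) → ∀ {G : Xs.Modules}
      {π : ((Scheme.Modules.pullback i).obj I) ⟶ G}, TFOne.IsQuotOn Xs ((Scheme.Modules.pullback i).obj I) T G π →
      0 ≤ TFOne.rBeta Xs (IsLocalRing.ResidueField R) (Xs ↘ Spec (CommRingCat.of (IsLocalRing.ResidueField R))) T hT ((Scheme.Modules.pullback i).obj E) r G :=
    fun {T} hT hTs {G π} hπ => TFOneLib.rBeta_nonneg hpure hEs hχ hEd hss hT hTs hπ
  constructor
  · intro hss'
    refine ⟨?_, TFOneLib.isTF1_pull_quot hY hIs hGY, fun Z hZ hZs _ G π hπ => ?_⟩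
    · by_cases hu : Y = Set.univ
      · subst hu
        rw [TFOneLib.rBeta_eq, TFOneLib.euler_quot_unique (k := IsLocalRing.ResidueField R) hIs hGY
          (TFOneLib.isQuotOn_univ hIs), ← TFOneLib.rBeta_eq (k := IsLocalRing.ResidueField R) Set.univ hY]
        exact TFOneLib.rBeta_univ hpure hEs hY rfl hχ hEd
      let Y' : Set Xs := ⋃₀ {C | C ∈ irreducibleComponents (Xs : Type u) ∧ ¬ C ⊆ Y}
      have hgen : ∀ η ∈ genericPoints Xs, η ∈ Y' → η ∉ Y := by
        intro η hη h hy
        obtain ⟨C, ⟨hC, hn⟩, hx⟩ := h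
        have hle : closure ({η} : Set Xs) ⊆ C :=
          closure_minimal (Set.singleton_subset_iff.2 hx) (isClosed_of_mem_irreducibleComponents C hC)
        exact hn ((hη.2 hC.1 hle).trans (closure_minimal (Set.singleton_subset_iff.2 hy) hY))
      have hY'c : IsClosed Y' := by
        haveI := TopologicalSpace.NoetherianSpace.finite_irreducibleComponents (α := Xs)
        have h : Y' = ⋃ C ∈ {C | C ∈ irreducibleComponents (Xs : Type u) ∧ ¬ C ⊆ Y}, C := Set.sUnion_eq_biUnion
        rw [h]
        exact (this.subset fun C hC => hC.1).isClosed_biUnion fun C hC => isClosed_of_mem_irreducibleComponents C hC.1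
      have hYY' : Set.univ = Y ∪ Y' := (Set.eq_univ_of_forall fun x => by
        obtain ⟨η, hη, hs⟩ := TFOneLib.exists_generic_specializes x
        by_cases hc : η ∈ Y
        · exact Or.inl (hs.mem_closed hY hc)
        · exact Or.inr (hs.mem_closed hY'c
            ⟨closure {η}, ⟨hη, fun hle => hc (hle (subset_closure rfl))⟩, subset_closure rfl⟩)).symm
      have hY's : VecSt.IsSubcurve Xs Y' := by
        refine ⟨_, fun C hC => hC.1, Set.nonempty_iff_ne_empty.2 fun he => hu ?_, rfl⟩
        rw [hYY', show Y' = ∅ by simp only [Y', he, Set.sUnion_empty], Set.union_empty]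
      have hY'ne : Y' ≠ Set.univ := fun he => by
        obtain ⟨S, hS, ⟨C, hC⟩, hYS⟩ := hYs
        obtain ⟨η, hη⟩ := QuasiSober.sober (hS hC).1 (isClosed_of_mem_irreducibleComponents C (hS hC))
        have hg : η ∈ genericPoints Xs := by
          show closure ({η} : Set Xs) ∈ irreducibleComponents _
          rw [hη.def]; exact hS hC
        exact hgen η hg (he ▸ Set.mem_univ η) (hYS ▸ ⟨C, hC, hη.mem⟩)
      obtain ⟨G0, π0, hG0, -⟩ := TFOneLib.exists_isQuotOn_empty ((Scheme.Modules.pullback i).obj I)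
      obtain ⟨G2, π2, hG2⟩ := TFOneLib.exists_isQuotOn hF Y' hY'c (TFOneLib.generic_of_sUnion fun C hC => hC.1)
      have hM1 := TFOneLib.isQuotOn_univ hIs
      obtain ⟨δ, -, -, hB, h2, -⟩ := hβ Y' ∅ Set.univ hY'c isClosed_empty isClosed_univ G2 G0 _ π2 π0 (𝟙 _) hG2 hG0 hM1
        (fun η hη => ⟨fun h => h.elim, fun h => (hgen η hη h.2 h.1).elim⟩) hYY'
      rw [h2 fun η _ h => h, TFOneLib.rBeta_empty hEs isClosed_empty rfl hG0,
        TFOneLib.rBeta_univ hpure hEs isClosed_univ rfl hχ hEd] at hB
      have a := hss'.2 Y' hY'c hY's hY'ne G2 π2 hG2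
      have b := hnn hY (Or.inl hYs) hGY
      linarith
    · obtain ⟨T, hT, G', π', hTs, hG', heq⟩ :=
        TFOneLib.rBeta_sub hY (IsLocalRing.ResidueField R) hpure hEs hIs hGY hYs hZ hZs hπ
      rw [heq]
      exact hnn hT (Or.inl hTs) hG'
  · rintro ⟨hY0, -⟩
    refine ⟨hF, fun Z hZ hZs _ G π hG => ?_⟩
    obtain ⟨W₀, hW₀c, GW, πW, hGW, hW₀⟩ := TFOneLib.exists_isQuotOn_meet hIs Y Z
    obtain ⟨GU, πU, hGU⟩ := TFOneLib.exists_isQuotOn_union hIs hY hZ hYs hZs
    obtain ⟨δ, h0, -, he, -, -⟩ := hβ Z W₀ (Y ∪ Z) hZ hW₀c (hY.union hZ) G GW GU π πW πU hG hGW hGU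
      (TFOneLib.mem_meet_iff hY hZ hW₀) rfl
    have hrδ : (0 : ℤ) ≤ (r : ℤ) * δ := mul_nonneg (Int.natCast_nonneg r) h0
    have a := hnn hW₀c (TFOneLib.meet_subcurve_or_empty (X := Xs) Y Z hW₀) hGW
    have b := hnn (hY.union hZ) (Or.inl (TFOneLib.isSubcurve_union hYs hZs)) hGU
    linarith

end Groth.Agent.S18848
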