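import Groth.Statements.S18854
import Groth.Agent.TFOneLib.ModifBeta
import Groth.Agent.TFOneLib.BetaFacts

set_option autoImplicit false
universe u
open CategoryTheory CategoryTheory.Limits AlgebraicGeometry
open TFOne

namespace Groth.Agent.S18854

/-- Let R be a discrete valuation ring with residue field κ, f : X ⟶ Spec R flat and proper, and X_s its
special fibre, assumed reduced of pure dimension one with geometrically integral irreducible
components over κ. Let I be a coherent R-flat module on X whose restriction I(s) to X_s is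
torsion-free rank-1, E a locally free module of rank r > 0 on X with restriction E(s), and d an
integer with χ(I(s)) = d and deg E(s) = -r·d. For a closed subset T of X_s write I(s)_T for the
torsion-free quotient of I(s) on T (pinned by its defining property) and β(T) := r·χ(I(s)_T) +
deg(E(s)|_T) (the source's β cleared of the denominator r). Let Y be a closed subcurve of X_s (a
non-empty union of irreducible components), and let I^Y be the kernel of the composite I ⟶ i_* I(s)
⟶ i_* I(s)_Y, with restriction I^Y(s) to X_s and quotients I^Y(s)_T and numbers β^Y(T) :=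
r·χ(I^Y(s)_T) + deg(E(s)|_T) defined likewise. Assume that Y ≠ X_s and that Y is the largest closed
subcurve of X_s on which β is minimal (β(Y) ≤ β(T) for every closed subcurve T, and every closed
subcurve T with β(T) = β(Y) lies in Y), and let Y' be the complementary subcurve, the union of the
irreducible components of X_s not contained in Y. Then β^Y(Y) = β(Y) if and only if I^Y(s)
decomposes at Y: the canonical map I^Y(s) ⟶ I^Y(s)_Y ⊞ I^Y(s)_{Y'} to the direct sum of its
torsion-free quotients (pinned by their defining property) is an isomorphism. (The source takes f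
projective and allows Y = X_s, a case excluded here since decomposition is along proper subcurves;
for Y = X_s both sides hold trivially.) -/
theorem result (R : Type u) [CommRing R] [IsDomain R] [IsDiscreteValuationRing R] (X : Scheme.{u}) (f : X ⟶ Spec (CommRingCat.of R)) [Flat f] [IsProper f] (Xs : Scheme.{u}) [Xs.Over (Spec (CommRingCat.of (IsLocalRing.ResidueField R)))] (i : Xs ⟶ X) (hsq : IsPullback i (Xs ↘ Spec (CommRingCat.of (IsLocalRing.ResidueField R))) f (Spec.map (CommRingCat.ofHom (IsLocalRing.residue R)))) [IsReduced Xs] (hpure : ∀ C ∈ irreducibleComponents (Xs : Type u), topologicalKrullDim C = 1) (hgi : ∀ (C : Set Xs) (hC : C ∈ irreducibleComponents (Xs : Type u)), GeometricallyIntegral (VecSt.subschι Xs C (isClosed_of_mem_irreducibleComponents C hC) ≫ (Xs ↘ Spec (CommRingCat.of (IsLocalRing.ResidueField R))))) (I : X.Modules) (hIc : Coh.IsCoh I) (hIf : FlatMod.IsFlatOver f I) (hIs : TFOne.IsTF1 Xs ((Scheme.Modules.pullback i).obj I)) (E : X.Modules) (r : ℕ) (hr : 0 < r) (hE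 : FlatMod.IsFinLocFreeOfRank r E) (d : ℤ) (hχ : Curv2.euler (IsLocalRing.ResidueField R) Xs ((Scheme.Modules.pullback i).obj I) = d) (hEd : Curv2.deg (IsLocalRing.ResidueField R) Xs ((Scheme.Modules.pullback i).obj E) r = -(r : ℤ) * d) (Y : Set Xs) (hY : IsClosed Y) (hYs : VecSt.IsSubcurve Xs Y) (GY : Xs.Modules) (πY : ((Scheme.Modules.pullback i).obj I) ⟶ GY) (hGY : TFOne.IsQuotOn Xs ((Scheme.Modules.pullback i).obj I) Y GY πY) (IY : X.Modules) (hIY : IY = kernel ((Scheme.Modules.pullbackPushforwardAdjunction i).unit.app I ≫ (Scheme.Modules.pushforward i).map πY)) (hYne : Y ≠ Set.univ) (hmin : ∀ (T : Set Xs) (hT : IsClosed T), VecSt.IsSubcurve Xs T → ∀ (G : Xs.Modules) (π : ((Scheme.Modules.pullback i).obj I) ⟶ G), TFOne.IsQuotOn Xs ((Scheme.Modules.pullback i).obj I) T G π → TFOne.rBeta Xs (IsLocalRing.ResidueField R) (Xs ↘ Spec (CommRingCat.of (IsLocalRing.ResidueField R))) Y hY ((Scheme.Modules.pullback i).obj E) r GY ≤ TFOne.rBeta Xs (IsLocalRing.ResidueField R) (Xs ↘ Spec (CommRingCat.of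 (IsLocalRing.ResidueField R))) T hT ((Scheme.Modules.pullback i).obj E) r G) (hmax : ∀ (T : Set Xs) (hT : IsClosed T), VecSt.IsSubcurve Xs T → ∀ (G : Xs.Modules) (π : ((Scheme.Modules.pullback i).obj I) ⟶ G), TFOne.IsQuotOn Xs ((Scheme.Modules.pullback i).obj I) T G π → TFOne.rBeta Xs (IsLocalRing.ResidueField R) (Xs ↘ Spec (CommRingCat.of (IsLocalRing.ResidueField R))) T hT ((Scheme.Modules.pullback i).obj E) r G = TFOne.rBeta Xs (IsLocalRing.ResidueField R) (Xs ↘ Spec (CommRingCat.of (IsLocalRing.ResidueField R))) Y hY ((Scheme.Modules.pullback i).obj E) r GY → T ⊆ Y) (Y' : Set Xs) (hY' : Y' = ⋃₀ {C | C ∈ irreducibleComponents (Xs : Type u) ∧ ¬ C ⊆ Y}) (hY'c : IsClosed Y') (G1 G2 : Xs.Modules) (π1 : ((Scheme.Modules.pullback i).obj IY) ⟶ G1) (π2 : ((Scheme.Modules.pullback i).obj IY) ⟶ G2) (hG1 : TFOne.IsQuotOn Xs ((Scheme.Modules.pullback i).obj IY) Y G1 π1) (hG2 : TFOne.IsQuotOn Xs ((Scheme.Modules.pullback i).obj IY) Y' G2 π2) : TFOne.rBeta Xs (IsLocalRing.ResidueField R) (Xs ↘ Spec (CommRingCat.of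 (IsLocalRing.ResidueField R))) Y hY ((Scheme.Modules.pullback i).obj E) r G1 = TFOne.rBeta Xs (IsLocalRing.ResidueField R) (Xs ↘ Spec (CommRingCat.of (IsLocalRing.ResidueField R))) Y hY ((Scheme.Modules.pullback i).obj E) r GY ↔ IsIso (biprod.lift π1 π2) := by
  haveI := TFOneLib.isProper_special f i hsq
  haveI := EulerChar.isNoetherian (IsLocalRing.ResidueField R) (X := Xs)
  have hEs := ParaFormal.Elkik.isFinLocFreeOfRank_pullback i hE
  obtain ⟨hF, hβ⟩ := TFOneLib.beta_modif f i hsq hpure I hIc hIf hIs E hE hY hGY IY hIY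
  have hgen : ∀ η ∈ genericPoints Xs, η ∈ Y' → η ∉ Y := fun η hη h hy => by
    rw [hY'] at h
    obtain ⟨C, ⟨hC, hn⟩, hx⟩ := h
    have hle : closure ({η} : Set Xs) ⊆ C :=
      closure_minimal (Set.singleton_subset_iff.2 hx) (isClosed_of_mem_irreducibleComponents C hC)
    exact hn ((hη.2 hC.1 hle).trans (closure_minimal (Set.singleton_subset_iff.2 hy) hY))
  have hYY' : Set.univ = Y ∪ Y' := (Set.eq_univ_of_forall fun x => by
    obtain ⟨η, hη, hs⟩ := TFOneLib.exists_generic_specializes x
    by_cases hc : η ∈ Y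
    · exact Or.inl (hs.mem_closed hY hc)
    · refine Or.inr (hs.mem_closed hY'c ?_)
      rw [hY']
      exact ⟨closure {η}, ⟨hη, fun hle => hc (hle (subset_closure rfl))⟩, subset_closure rfl⟩).symm
  obtain ⟨G0, π0, hG0, hz0⟩ := TFOneLib.exists_isQuotOn_empty ((Scheme.Modules.pullback i).obj I)
  have e0 : Curv2.euler (IsLocalRing.ResidueField R) Xs G0 = 0 := TFOneLib.euler_isZero _ hz0
  have hM1 := TFOneLib.isQuotOn_univ hIs
  have hF1 := TFOneLib.isQuotOn_univ hF
  obtain ⟨δ2, -, hE2, -, h2, -⟩ := hβ Y' ∅ Set.univ hY'c isClosed_empty isClosed_univ G2 G0 _ π2 π0 (𝟙 _) hG2 hG0 hM1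
    (fun η hη => ⟨fun h => h.elim, fun h => (hgen η hη h.2 h.1).elim⟩) hYY'
  rw [h2 fun η _ h => h, e0] at hE2
  obtain ⟨δX, -, hEX, -, -, hX⟩ := hβ Set.univ Y Set.univ isClosed_univ hY isClosed_univ _ GY _ (𝟙 _) πY (𝟙 _) hF1 hGY hM1
    (fun η hη => ⟨fun h => ⟨h, trivial⟩, And.left⟩) (Set.union_univ Y).symm
  rw [hX fun η _ => trivial] at hEX
  obtain ⟨δ, -, hE1, hB, -, -⟩ := hβ Y Y Y hY hY hY G1 GY GY π1 πY πY hG1 hGY hGY
    (fun η hη => ⟨fun h => ⟨h, h⟩, And.left⟩) (Set.union_self Y).symm
  rw [TFOneLib.isIso_lift_iff (k := IsLocalRing.ResidueField R) (fun C hC => (hpure C hC).le) hF hG1 hG2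
    (fun η hη h h' => hgen η hη h' h) hYY'.symm]
  constructor
  · intro heq
    have hd : δ = 0 := by
      have : (r : ℤ) * δ = 0 := by linarith
      exact (mul_eq_zero.1 this).resolve_left (by exact_mod_cast hr.ne')
    linarith
  · intro heq
    have hd : δ = 0 := by linarith
    rw [hd, mul_zero, add_zero] at hB
    linarith

end Groth.Agent.S18854
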