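import Groth.Statements.S18856
import Groth.Agent.TFOneLib.ModifBeta
import Groth.Agent.TFOneLib.QuotTriv

set_option autoImplicit false
universe u
open CategoryTheory CategoryTheory.Limits AlgebraicGeometry
open TFOne

namespace Groth.Agent.S18856

/-- Let R be a discrete valuation ring with residue field κ, f : X ⟶ Spec R flat and proper, and X_s its
special fibre, assumed reduced of pure dimension one with geometrically integral irreducible
components over κ. Let I be a coherent R-flat module on X whose restriction I(s) to X_s is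
torsion-free rank-1, E a locally free module of rank r > 0 on X with restriction E(s), and d an
integer with χ(I(s)) = d and deg E(s) = -r·d. For a closed subset T of X_s write I(s)_T for the
torsion-free quotient of I(s) on T (pinned by its defining property) and β(T) := r·χ(I(s)_T) +
deg(E(s)|_T) (the source's β cleared of the denominator r). Let Y be a closed subcurve of X_s (a
non-empty union of irreducible components), and let I^Y be the kernel of the composite I ⟶ i_* I(s)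
⟶ i_* I(s)_Y, with restriction I^Y(s) to X_s and quotients I^Y(s)_T and numbers β^Y(T) :=
r·χ(I^Y(s)_T) + deg(E(s)|_T) defined likewise. Let Z be a closed subcurve of X_s, W the union of the
irreducible components of X_s contained in Y ∩ Z, Y' the union of the components not contained in Y,
and V the union of the components contained in Z but not in Y (each possibly empty; the torsion-free
quotient on the empty set is 0). Then the inequality β^Y(Z) + β(Y) ≥ β(W) + β(Y ∪ Z) is an equality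
if and only if χ(I^Y(s)_W) + χ(I^Y(s)_{Y'}) − χ(I^Y(s)_{W ∪ Y'}) = χ(I^Y(s)_W) + χ(I^Y(s)_V) −
χ(I^Y(s)_Z), that is δ(W, Y') = δ(W, V) for δ(A, B) := χ(I^Y(s)_A) + χ(I^Y(s)_B) − χ(I^Y(s)_{A ∪ B})
(note W ∪ V = Z). (The source takes f projective.) -/
theorem result (R : Type u) [CommRing R] [IsDomain R] [IsDiscreteValuationRing R] (X : Scheme.{u}) (f : X ⟶ Spec (CommRingCat.of R)) [Flat f] [IsProper f] (Xs : Scheme.{u}) [Xs.Over (Spec (CommRingCat.of (IsLocalRing.ResidueField R)))] (i : Xs ⟶ X) (hsq : IsPullback i (Xs ↘ Spec (CommRingCat.of (IsLocalRing.ResidueField R))) f (Spec.map (CommRingCat.ofHom (IsLocalRing.residue R)))) [IsReduced Xs] (hpure : ∀ C ∈ irreducibleComponents (Xs : Type u), topologicalKrullDim C = 1) (hgi : ∀ (C : Set Xs) (hC : C ∈ irreducibleComponents (Xs : Type u)), GeometricallyIntegral (VecSt.subschι Xs C (isClosed_of_mem_irreducibleComponents C hC) ≫ (Xs ↘ Spec (CommRingCat.of (IsLocalRing.ResidueField R))))) (I : X.Modules)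 (hIc : Coh.IsCoh I) (hIf : FlatMod.IsFlatOver f I) (hIs : TFOne.IsTF1 Xs ((Scheme.Modules.pullback i).obj I)) (E : X.Modules) (r : ℕ) (hr : 0 < r) (hE : FlatMod.IsFinLocFreeOfRank r E) (d : ℤ) (hχ : Curv2.euler (IsLocalRing.ResidueField R) Xs ((Scheme.Modules.pullback i).obj I) = d) (hEd : Curv2.deg (IsLocalRing.ResidueField R) Xs ((Scheme.Modules.pullback i).obj E) r = -(r : ℤ) * d) (Y : Set Xs) (hY : IsClosed Y) (hYs : VecSt.IsSubcurve Xs Y) (GY : Xs.Modules) (πY : ((Scheme.Modules.pullback i).obj I) ⟶ GY) (hGY : TFOne.IsQuotOn Xs ((Scheme.Modules.pullback i).obj I) Y GY πY) (IY : X.Modules) (hIY : IY = kernel ((Scheme.Modules.pullbackPushforwardAdjunction i).unit.app I ≫ (Scheme.Modules.pushforward i).map πY)) (Z W Y' V : Set Xs) (hZ : IsClosed Z) (hZs : VecSt.IsSubcurve Xs Z) (hW : W = ⋃₀ {C | C ∈ irreducibleComponents (Xs : Type u) ∧ C ⊆ Y ∩ Z}) (hWc : IsClosed W) (hY' : Y' = ⋃₀ {C | C ∈ irreducibleComponents (Xs : Type u) ∧ ¬ C ⊆ Y}) (hY'c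 : IsClosed Y') (hV : V = ⋃₀ {C | C ∈ irreducibleComponents (Xs : Type u) ∧ C ⊆ Z ∧ ¬ C ⊆ Y}) (hVc : IsClosed V) (GZ1 G2 G3 G4 G5 : Xs.Modules) (πZ1 : ((Scheme.Modules.pullback i).obj IY) ⟶ GZ1) (π5 : ((Scheme.Modules.pullback i).obj IY) ⟶ G5) (hG5 : TFOne.IsQuotOn Xs ((Scheme.Modules.pullback i).obj IY) W G5 π5) (π2 : ((Scheme.Modules.pullback i).obj IY) ⟶ G2) (π3 : ((Scheme.Modules.pullback i).obj IY) ⟶ G3) (π4 : ((Scheme.Modules.pullback i).obj IY) ⟶ G4) (hGZ1 : TFOne.IsQuotOn Xs ((Scheme.Modules.pullback i).obj IY) Z GZ1 πZ1) (hG2 : TFOne.IsQuotOn Xs ((Scheme.Modules.pullback i).obj IY) Y' G2 π2) (hG3 : TFOne.IsQuotOn Xs ((Scheme.Modules.pullback i).obj IY) (W ∪ Y') G3 π3) (hG4 : TFOne.IsQuotOn Xs ((Scheme.Modules.pullback i).obj IY) V G4 π4) (GW GU : Xs.Modules) (πW : ((Scheme.Modules.pullback i).obj I) ⟶ GW) (πU : ((Scheme.Modules.pullback i).obj I) ⟶ GU) (hGW : TFOne.IsQuotOn Xs ((Scheme.Modules.pullback i).obj I) W GW πW) (hGU : TFOne.IsQuotOn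 Xs ((Scheme.Modules.pullback i).obj I) (Y ∪ Z) GU πU) : TFOne.rBeta Xs (IsLocalRing.ResidueField R) (Xs ↘ Spec (CommRingCat.of (IsLocalRing.ResidueField R))) W hWc ((Scheme.Modules.pullback i).obj E) r GW + TFOne.rBeta Xs (IsLocalRing.ResidueField R) (Xs ↘ Spec (CommRingCat.of (IsLocalRing.ResidueField R))) (Y ∪ Z) (hY.union hZ) ((Scheme.Modules.pullback i).obj E) r GU = TFOne.rBeta Xs (IsLocalRing.ResidueField R) (Xs ↘ Spec (CommRingCat.of (IsLocalRing.ResidueField R))) Z hZ ((Scheme.Modules.pullback i).obj E) r GZ1 + TFOne.rBeta Xs (IsLocalRing.ResidueField R) (Xs ↘ Spec (CommRingCat.of (IsLocalRing.ResidueField R))) Y hY ((Scheme.Modules.pullback i).obj E) r GY ↔ Curv2.euler (IsLocalRing.ResidueField R) Xs G5 + Curv2.euler (IsLocalRing.ResidueField R) Xs G2 - Curv2.euler (IsLocalRing.ResidueField R) Xs G3 = Curv2.euler (IsLocalRing.ResidueField R) Xs G5 + Curv2.euler (IsLocalRing.ResidueField R) Xs G4 - Curv2.euler (IsLocalRing.ResidueField R)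 Xs GZ1 := by
  haveI := TFOneLib.isProper_special f i hsq
  haveI := EulerChar.isNoetherian (IsLocalRing.ResidueField R) (X := Xs)
  obtain ⟨-, hβ⟩ := TFOneLib.beta_modif f i hsq hpure I hIc hIf hIs E hE hY hGY IY hIY
  have hYZ : ∀ η ∈ genericPoints Xs, η ∈ W ↔ η ∈ Y ∧ η ∈ Z := fun η hη => ⟨fun h => by
      rw [hW] at h
      obtain ⟨C, ⟨-, hC⟩, hx⟩ := h
      exact hC hx,
    fun h => by
      rw [hW]
      exact ⟨closure {η}, ⟨hη, closure_minimal (Set.singleton_subset_iff.2 h) (hY.inter hZ)⟩, subset_closure rfl⟩⟩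
  have hsub : ∀ C ∈ irreducibleComponents (Xs : Type u), ∀ η ∈ genericPoints Xs, η ∈ C → C = closure {η} :=
    fun C hC η hη h => by
      have hle : closure ({η} : Set Xs) ⊆ C :=
        closure_minimal (Set.singleton_subset_iff.2 h) (isClosed_of_mem_irreducibleComponents C hC)
      exact le_antisymm (hη.2 hC.1 hle) hle
  have hY'g : ∀ η ∈ genericPoints Xs, η ∈ Y' → η ∉ Y := fun η hη h hy => by
    rw [hY'] at h
    obtain ⟨C, ⟨hC, hn⟩, hx⟩ := h
    exact hn ((hsub C hC η hη hx).le.trans (closure_minimal (Set.singleton_subset_iff.2 hy) hY))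
  have hVg : ∀ η ∈ genericPoints Xs, η ∈ V → η ∉ Y := fun η hη h hy => by
    rw [hV] at h
    obtain ⟨C, ⟨hC, -, hn⟩, hx⟩ := h
    exact hn ((hsub C hC η hη hx).le.trans (closure_minimal (Set.singleton_subset_iff.2 hy) hY))
  have hYY' : Set.univ = Y ∪ Y' := (Set.eq_univ_of_forall fun x => by
    obtain ⟨η, hη, hs⟩ := TFOneLib.exists_generic_specializes x
    by_cases hc : η ∈ Y
    · exact Or.inl (hs.mem_closed hY hc)
    · refine Or.inr (hs.mem_closed hY'c ?_)
      rw [hY']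
      exact ⟨closure {η}, ⟨hη, fun hle => hc (hle (subset_closure rfl))⟩, subset_closure rfl⟩).symm
  have hYV : Y ∪ Z = Y ∪ V := by
    refine Set.Subset.antisymm (Set.union_subset Set.subset_union_left fun x hx => ?_)
      (Set.union_subset_union_right Y ?_)
    · obtain ⟨S, hS, -, hZS⟩ := hZs
      rw [hZS] at hx
      obtain ⟨C, hC, hxC⟩ := hx
      by_cases hCY : C ⊆ Y
      · exact Or.inl (hCY hxC)
      · refine Or.inr ?_
        rw [hV]
        exact ⟨C, ⟨hS hC, hZS ▸ Set.subset_sUnion_of_mem hC, hCY⟩, hxC⟩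
    · rw [hV]
      exact Set.sUnion_subset fun C hC => hC.2.1
  have hWY' : Set.univ = Y ∪ (W ∪ Y') := by
    refine (Set.eq_univ_of_forall fun x => ?_).symm
    rcases (hYY' ▸ Set.mem_univ x : x ∈ Y ∪ Y') with h | h
    · exact Or.inl h
    · exact Or.inr (Or.inr h)
  obtain ⟨G0, π0, hG0, hz0⟩ := TFOneLib.exists_isQuotOn_empty ((Scheme.Modules.pullback i).obj I)
  have hM1 := TFOneLib.isQuotOn_univ hIs
  have e0 : Curv2.euler (IsLocalRing.ResidueField R) Xs G0 = 0 := TFOneLib.euler_isZero _ hz0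
  obtain ⟨δ, -, hE1, hB, -, -⟩ := hβ Z W (Y ∪ Z) hZ hWc (hY.union hZ) GZ1 GW GU πZ1 πW πU hGZ1 hGW hGU hYZ rfl
  obtain ⟨δ3, -, hE3, -, -, h3⟩ := hβ (W ∪ Y') W Set.univ (hWc.union hY'c) hWc isClosed_univ G3 GW
    ((Scheme.Modules.pullback i).obj I) π3 πW (𝟙 _) hG3 hGW hM1
    (fun η hη => ⟨fun h => ⟨((hYZ η hη).1 h).1, Or.inl h⟩, fun h => h.2.elim id fun h' => (hY'g η hη h' h.1).elim⟩)
    hWY'
  obtain ⟨δ4, -, hE4, -, h4, -⟩ := hβ V ∅ (Y ∪ Z) hVc isClosed_empty (hY.union hZ) G4 G0 GU π4 π0 πU hG4 hG0 hGU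
    (fun η hη => ⟨fun h => h.elim, fun h => (hVg η hη h.2 h.1).elim⟩) hYV
  obtain ⟨δ2, -, hE2, -, h2, -⟩ := hβ Y' ∅ Set.univ hY'c isClosed_empty isClosed_univ G2 G0
    ((Scheme.Modules.pullback i).obj I) π2 π0 (𝟙 _) hG2 hG0 hM1
    (fun η hη => ⟨fun h => h.elim, fun h => (hY'g η hη h.2 h.1).elim⟩) hYY'
  rw [h3 fun η _ => trivial] at hE3
  rw [h4 fun η _ h => h, e0] at hE4
  rw [h2 fun η _ h => h, e0] at hE2
  constructor
  · intro heq
    have hd : δ = 0 := by
      have : (r : ℤ) * δ = 0 := by linarith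
      exact (mul_eq_zero.1 this).resolve_left (by exact_mod_cast hr.ne')
    linarith
  · intro heq
    have hd : δ = 0 := by linarith
    rw [hd, mul_zero, add_zero] at hB
    linarith

end Groth.Agent.S18856
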