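import Groth.Statements.S18857
import Groth.Agent.TFOneLib.TowerOfDecomp
import Groth.Agent.TFOneLib.ModifBeta
-- import your own Groth.Agent.* helpers here

set_option autoImplicit false
universe u
open CategoryTheory CategoryTheory.Limits AlgebraicGeometry
open TFOne

namespace Groth.Agent.S18857

/-- Let R be a complete discrete valuation ring with residue field κ, f : X ⟶ Spec R flat and proper,
and X_s its special fibre (a cartesian square over Spec κ ⟶ Spec R with top arrow i), assumed
reduced of pure dimension one with geometrically integral irreducible components over κ. Let Y ≠ X_s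
be a closed subcurve of X_s (a non-empty union of irreducible components) and Y' the union of the
components not contained in Y. Let I^0 ⊇ I^1 ⊇ I^2 ⊇ ⋯ be modules on X, I^0 coherent and R-flat with
torsion-free rank-1 restriction to X_s, such that for every n the module I^{n+1} is the kernel of
the composite I^n ⟶ i_* I^n(s) ⟶ i_* I^n(s)_Y, where I^n(s) is the restriction of I^n to X_s and
I^n(s)_Y its torsion-free quotient on Y (pinned by its defining property). Suppose that every I^n(s)
decomposes at Y: the canonical map I^n(s) ⟶ I^n(s)_Y ⊞ I^n(s)_{Y'} is an isomorphism. Then there are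
a module F on X, flat over Spec R, and an epimorphism p : I^0 ⟶ F whose restriction to X_s
identifies F(s), as a quotient of I^0(s), with I^0(s)_Y. (The source takes f projective and allows Y
= X_s, a case excluded here; it is trivial with F = I^0.) -/
theorem result (R : Type u) [CommRing R] [IsDomain R] [IsDiscreteValuationRing R] (X : Scheme.{u}) (f : X ⟶ Spec (CommRingCat.of R)) [Flat f] [IsProper f] (Xs : Scheme.{u}) [Xs.Over (Spec (CommRingCat.of (IsLocalRing.ResidueField R)))] (i : Xs ⟶ X) (hsq : IsPullback i (Xs ↘ Spec (CommRingCat.of (IsLocalRing.ResidueField R))) f (Spec.map (CommRingCat.ofHom (IsLocalRing.residue R)))) [IsReduced Xs] (hpure : ∀ C ∈ irreducibleComponents (Xs : Type u), topologicalKrullDim C = 1) (hgi : ∀ (C : Set Xs) (hC : C ∈ irreducibleComponents (Xs : Type u)), GeometricallyIntegral (VecSt.subschι Xs C (isClosed_of_mem_irreducibleComponents C hC) ≫ (Xs ↘ Spec (CommRingCat.of (IsLocalRing.ResidueField R))))) [IsAdicComplete (IsLocalRing.maximalIdeal R) R] (In : ℕ →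 X.Modules) (hIc : Coh.IsCoh (In 0)) (hIf : FlatMod.IsFlatOver f (In 0)) (hIs : TFOne.IsTF1 Xs ((Scheme.Modules.pullback i).obj (In 0))) (Y : Set Xs) (hY : IsClosed Y) (hYs : VecSt.IsSubcurve Xs Y) (hYne : Y ≠ Set.univ) (Y' : Set Xs) (hY' : Y' = ⋃₀ {C | C ∈ irreducibleComponents (Xs : Type u) ∧ ¬ C ⊆ Y}) (hY'c : IsClosed Y') (G G' : ℕ → Xs.Modules) (π : ∀ n : ℕ, ((Scheme.Modules.pullback i).obj (In n)) ⟶ G n) (π' : ∀ n : ℕ, ((Scheme.Modules.pullback i).obj (In n)) ⟶ G' n) (hG : ∀ n : ℕ, TFOne.IsQuotOn Xs ((Scheme.Modules.pullback i).obj (In n)) Y (G n) (π n)) (hG' : ∀ n : ℕ, TFOne.IsQuotOn Xs ((Scheme.Modules.pullback i).obj (In n)) Y' (G' n) (π' n)) (hstep : ∀ n : ℕ, In (n + 1) = kernel ((Scheme.Modules.pullbackPushforwardAdjunction i).unit.app (In n) ≫ (Scheme.Modules.pushforward i).map (π n))) (hdec : ∀ n : ℕ, IsIso (biprod.lift (π n) (π' n))) : ∃ (F : X.Modules) (p : In 0 ⟶ F), Epi p ∧ FlatMod.IsFlatOver f F ∧ ∃ e : (Scheme.Modules.pullback i).obj F ≅ G 0, (Scheme.Modules.pullback i).map p ≫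 e.hom = π 0 := by
  haveI := TFOneLib.isProper_special f i hsq
  haveI := EulerChar.isNoetherian (IsLocalRing.ResidueField R) (X := Xs)
  letI : X.Over (Spec (CommRingCat.of R)) := ⟨f⟩
  haveI : IsProper (X ↘ Spec (CommRingCat.of R)) := inferInstanceAs (IsProper f)
  haveI : IsClosedImmersion (Spec.map (CommRingCat.ofHom (IsLocalRing.residue R))) :=
    IsClosedImmersion.spec_of_surjective _ IsLocalRing.residue_surjective
  haveI : IsClosedImmersion i := MorphismProperty.of_isPullback (P := @IsClosedImmersion) hsq.flip inferInstance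
  obtain ⟨ϖ, hϖ⟩ := IsDiscreteValuationRing.exists_irreducible R
  have hcut : FormalFun.IsCut i (Ideal.span {ϖ}) := hϖ.maximalIdeal_eq ▸ TFOneLib.isCut_residue i hsq
  haveI : IsAdicComplete (Ideal.span {ϖ}) R := hϖ.maximalIdeal_eq ▸ (inferInstance : IsAdicComplete (IsLocalRing.maximalIdeal R) R)
  have hdis : ∀ η ∈ genericPoints Xs, η ∈ Y → η ∉ Y' := fun η hη hy h => by
    rw [hY'] at h
    obtain ⟨C, ⟨hC, hn⟩, hx⟩ := h
    have hle : closure ({η} : Set Xs) ⊆ C :=
      closure_minimal (Set.singleton_subset_iff.2 hx) (isClosed_of_mem_irreducibleComponents C hC)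
    exact hn ((hη.2 hC.1 hle).trans (closure_minimal (Set.singleton_subset_iff.2 hy) hY))
  obtain ⟨D, hm, hc, e0, eQ, he⟩ := TFOneLib.exists_tower hϖ hcut In hIc hIf hdis G G' π π' hG hG' hstep hdec
  obtain ⟨F, φ, e, hF, hFm, hφ⟩ := D.exists_algebraic hc hm
  haveI := hFm
  have hJ1 : D.J 1 ≫ D.ρ 0 = 0 := by
    simp only [TFOneLib.Tower.J, Category.comp_id]
    exact D.zero 0
  have hj1 : D.j 0 ≫ cokernel.π (D.J 1) = 0 := by
    have h := cokernel.condition (D.J 1)
    simpa only [TFOneLib.Tower.J, Category.comp_id] using h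
  let c0 : D.C 1 ≅ D.Q 0 :=
    { hom := cokernel.desc _ (D.ρ 0) hJ1
      inv := (D.exact 0).gIsCokernel.desc (CokernelCofork.ofπ _ hj1)
      hom_inv_id := by
        rw [← cancel_epi (cokernel.π (D.J 1)), cokernel.π_desc_assoc, Category.comp_id]
        exact (D.exact 0).gIsCokernel.fac (CokernelCofork.ofπ _ hj1) WalkingParallelPair.one
      inv_hom_id := by
        haveI : Epi (D.ρ 0) := (D.exact 0).epi_g
        have hfac : D.ρ 0 ≫ (D.exact 0).gIsCokernel.desc (CokernelCofork.ofπ _ hj1) = cokernel.π (D.J 1) :=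
          (D.exact 0).gIsCokernel.fac (CokernelCofork.ofπ _ hj1) WalkingParallelPair.one
        rw [← cancel_epi (D.ρ 0), ← Category.assoc, hfac, cokernel.π_desc, Category.comp_id] }
  haveI : F.IsQuasicoherent := hF.1
  have hcut' : FormalFun.IsCut i (Ideal.span {ϖ} ^ 1) := by rwa [pow_one]
  obtain ⟨θ, hθ⟩ := hcut'.exists_iso_unit F
  let adj := Scheme.Modules.pullbackPushforwardAdjunction i
  let P := Scheme.Modules.pushforward i
  let E : P.obj ((Scheme.Modules.pullback i).obj F) ≅ P.obj (G 0) := θ.symm ≪≫ e ≪≫ c0 ≪≫ eqToIso eQ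
  let p : In 0 ⟶ F := eqToHom e0.symm ≫ φ
  have hp : p ≫ adj.unit.app F ≫ E.hom = adj.unit.app (In 0) ≫ P.map (π 0) := by
    refine Eq.trans ?_ he
    simp only [p, E, Category.assoc, Iso.trans_hom, Iso.symm_hom, eqToIso.hom]
    refine congrArg (eqToHom e0.symm ≫ ·) ?_
    rw [show adj.unit.app F = Formal.modPowπ (Ideal.span {ϖ}) 1 F ≫ θ.hom from hθ.symm]
    simp only [Category.assoc, Iso.hom_inv_id_assoc]
    rw [reassoc_of% hφ]
    exact congrArg (· ≫ eqToHom eQ) (cokernel.π_desc _ _ hJ1) |>.trans (by rfl) |> (Category.assoc _ _ _).symm.trans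
  let e' : (Scheme.Modules.pullback i).obj F ≅ G 0 := (Props.KilledSub.fullyFaithful i).preimageIso E
  have hE : P.map e'.hom = E.hom := (Props.KilledSub.fullyFaithful i).map_preimage E.hom
  have hpe : (Scheme.Modules.pullback i).map p ≫ e'.hom = π 0 := by
    refine (adj.homEquiv _ _).injective ?_
    rw [Adjunction.homEquiv_unit, Adjunction.homEquiv_unit, P.map_comp, hE, ← hp, ← Category.assoc, ← Category.assoc]
    exact congrArg (· ≫ E.hom) (adj.unit.naturality p).symm
  refine ⟨F, p, ?_, TFOneLib.isFlatOver_of_mono_smulMod hϖ, e', hpe⟩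
  haveI : Epi (π 0) := (hG 0).1
  haveI : Epi ((Scheme.Modules.pullback i).map p) := by
    rw [show (Scheme.Modules.pullback i).map p = π 0 ≫ e'.inv by rw [← hpe, Category.assoc, Iso.hom_inv_id, Category.comp_id]]
    exact epi_comp _ _
  haveI : (Scheme.Modules.pullback i).IsLeftAdjoint := adj.isLeftAdjoint
  refine Preadditive.epi_of_isZero_cokernel p (TFOneLib.isZero_of_special (R := R) i (fun x hx => ?_)
    (CohDev.isCoh_cokernel p hIc.1 hF) ?_)
  · obtain ⟨z, hz, -⟩ := Scheme.exists_preimage_of_isPullback hsq x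
      (IsLocalRing.closedPoint (IsLocalRing.ResidueField R))
      (hx.trans (IsLocalRing.comap_closedPoint (IsLocalRing.residue R)).symm)
    exact ⟨z, hz⟩
  · have h0 : (Scheme.Modules.pullback i).map (cokernel.π p) = 0 := by
      rw [← cancel_epi ((Scheme.Modules.pullback i).map p), ← Functor.map_comp, cokernel.condition, Functor.map_zero, comp_zero]
    haveI : Epi ((Scheme.Modules.pullback i).map (cokernel.π p)) := inferInstance
    exact IsZero.of_epi_eq_zero _ h0

end Groth.Agent.S18857
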