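import Groth.Statements.S18859
import Groth.Agent.GITLib.TorsorSch
import Groth.Agent.GITLib.DescentGeom
open Groth.Agent.GITLib

set_option autoImplicit false
universe u
open CategoryTheory MonoidalCategory CartesianMonoidalCategory MonObj GrpObj AlgebraicGeometry
open NonAbH1

namespace Groth.Agent.S18859

/-- Let S be a scheme, G a group scheme over S and X → S a G-torsor for the fpqc topology (a
pseudo-torsor under G acquiring sections on the members of some fpqc covering family of S). Then the
functions on S are the G-invariant functions on X: the ring map Γ(S, O_S) → Γ(X, O_X) is injective,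
and a global function s on X lies in its image if and only if the pullbacks of s to G ×_S X along
the action morphism and along the second projection coincide. (The source works over a scheme of
finite type over a field with G the base change of an affine group scheme over that field and states
the equality O_S = (O_X)^G as sheaves on S; applied to the restriction of the torsor over each open
of S, the present global form is that equality.) -/
theorem result {S : Scheme.{u}} {G X : Over S}
    [GrpObj G] (a : AlgGrp.Action G X) (ha : NonAbH1.IsTorsorFor Scheme.fpqcPrecoverage a) :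
    Function.Injective X.hom.appTop.hom ∧
      ∀ s : Γ(X.left, ⊤), s ∈ Set.range X.hom.appTop.hom ↔
        a.act.left.appTop.hom s = (CartesianMonoidalCategory.snd G X).left.appTop.hom s := by
  let Z : Over S := Over.mk (𝔸(PUnit.{u + 1}; S) ↘ S)
  let m : ∀ (W : Over S), Γ(W.left, ⊤) → (W ⟶ Z) := fun W r =>
    Over.homMk (secHom W.hom r) (AffineSpace.homOfVector_over _ _)
  have mc : ∀ {W W' : Over S} (k : W ⟶ W') (r : Γ(W'.left, ⊤)), k ≫ m W' r = m W (k.left.appTop r) := by
    intro W W' k r
    refine Over.OverMorphism.ext ?_
    show k.left ≫ secHom W'.hom r = secHom W.hom _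
    rw [comp_secHom, Over.w]
  have minj : ∀ {W : Over S} {r r' : Γ(W.left, ⊤)}, m W r = m W r' → r = r' := fun e =>
    secHom_inj (congrArg CommaMorphism.left e)
  have hu : (toUnit X).left = X.hom := by
    have := Over.w (toUnit X)
    simpa using this
  have hi : ∀ r, a.act ≫ m X r = snd G X ≫ m X r ↔ a.act.left.appTop r = (snd G X).left.appTop r := fun r => by
    rw [mc, mc]
    exact ⟨minj, congrArg _⟩
  have hpull : ∀ r : Γ(S, ⊤), toUnit X ≫ m (𝟙_ (Over S)) r = m X (X.hom.appTop r) := fun r => by
    rw [mc, hu]
  have hinv : ∀ r : Γ(S, ⊤), a.act ≫ m X (X.hom.appTop r) = snd G X ≫ m X (X.hom.appTop r) := fun r => by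
    rw [← hpull, comp_toUnit_assoc, comp_toUnit_assoc]
  refine ⟨fun r r' e => minj (W := 𝟙_ (Over S)) ?_, fun s => ⟨?_, fun hs => ?_⟩⟩
  · exact (existsUnique_section ha (m X (X.hom.appTop r)) (hinv r)).unique (hpull r) (by rw [hpull]; exact congrArg _ e.symm)
  · rintro ⟨r, rfl⟩
    exact (hi _).1 (hinv r)
  · obtain ⟨σ, hσ, -⟩ := existsUnique_section ha (m X s) ((hi s).2 hs)
    refine ⟨σ.left.appTop (AffineSpace.coord S PUnit.unit), ?_⟩
    have := congrArg (fun k : X ⟶ Z => k.left.appTop (AffineSpace.coord S PUnit.unit)) hσ
    have e2 : (m X s).left.appTop (AffineSpace.coord S PUnit.unit) = s := AffineSpace.homOfVector_appTop_coord _ _ _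
    rw [e2] at this
    rw [← hu]
    exact this

end Groth.Agent.S18859
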