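import Groth.Statements.S18863
import Groth.Agent.LimTors.GrpLimit
import Groth.Agent.LimTors.Basic
import Groth.Agent.GITLib.Pushforward
-- import your own Groth.Agent.* helpers here

set_option autoImplicit false
universe u
open CategoryTheory CategoryTheory.Limits MonoidalCategory CartesianMonoidalCategory MonObj GrpObj AlgebraicGeometry
open NonAbH1

namespace Groth.Agent.S18863

open Groth.Agent Groth.Agent.LimTors Groth.Agent.GITLib MonObj CategoryTheory.Limits

/-- Let k be a field and X a quasi-compact k-scheme. Let (G_i)_{i ∈ I} be a cofiltered inverse system of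
affine group schemes of finite type over k with limit G in the category of k-group schemes (a limit
cone of homomorphisms G → G_i), and (T_i)_{i ∈ I} an inverse system of X-schemes such that each T_i
is a torsor over X for the fpqc topology under the base change of G_i to X and each transition map
T_j → T_i is equivariant along G_j → G_i. Let T be a limit of the T_i over X, with an action of the
base change of G to X for which every projection T → T_i is equivariant along G → G_i. Then T is a
torsor over X under the base change of G for the fpqc topology. (The source indexes the system by a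
directed partially ordered set and also records that T is pointed over a rational point of X when
all the T_i are; the limit scheme, the limit group and the limit action, which exist and are unique,
are taken here as data.) -/
theorem result (k : Type u) [Field k]
    (X : Scheme.{u}) [X.Over (Spec (CommRingCat.of k))] [CompactSpace X]
    {I : Type u} [SmallCategory I] [IsCofiltered I]
    (DG : I ⥤ Grp (Over (Spec (CommRingCat.of k))))
    [∀ i, IsAffineHom (DG.obj i).X.hom] [∀ i, LocallyOfFiniteType (DG.obj i).X.hom]
    (cG : Cone DG) (hcG : IsLimit cG)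
    (DT : I ⥤ Over X)
    (aT : ∀ i, AlgGrp.Action (Red.bc (X ↘ Spec (CommRingCat.of k)) (DG.obj i).X) (DT.obj i))
    (hT : ∀ i, NonAbH1.IsTorsorFor Scheme.fpqcPrecoverage (aT i))
    (hDT : ∀ (i j : I) (φ : i ⟶ j), AlgGrp.Action.IsEquivariant (aT i)
      ((aT j).restrict ((Over.pullback (X ↘ Spec (CommRingCat.of k))).map (DG.map φ).hom.hom)) (DT.map φ))
    (cT : Cone DT) (hcT : IsLimit cT)
    (a : AlgGrp.Action (Red.bc (X ↘ Spec (CommRingCat.of k)) cG.pt.X) cT.pt)
    (ha : ∀ i, AlgGrp.Action.IsEquivariant a
      ((aT i).restrict ((Over.pullback (X ↘ Spec (CommRingCat.of k))).map (cG.π.app i).hom.hom)) (cT.π.app i)) :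
    NonAbH1.IsTorsorFor Scheme.fpqcPrecoverage a := by
  let h := X ↘ Spec (CommRingCat.of k)
  let F := Over.pullback h
  let D₀ := DG ⋙ Grp.forget (Over (Spec (CommRingCat.of k)))
  haveI : IsConnected I := IsCofiltered.isConnected I
  haveI : ∀ i, IsAffine (D₀.obj i).left := fun i => @isAffine_of_isAffineHom _ _ (DG.obj i).X.hom (‹∀ j, IsAffineHom (DG.obj j).X.hom› i) inferInstance
  haveI : HasLimit D₀ := hasLimit_of_isAffine D₀
  haveI : PreservesLimit DG (Grp.forget (Over (Spec (CommRingCat.of k)))) := preservesLimit_forget DG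
  haveI : PreservesLimitsOfShape I F :=
    (Over.mapPullbackAdj h).rightAdjoint_preservesLimits.preservesLimitsOfShape
  have hG : IsLimit (F.mapCone ((Grp.forget (Over (Spec (CommRingCat.of k)))).mapCone cG)) :=
    isLimitOfPreserves F (isLimitOfPreserves _ hcG)
  let π : ∀ i, Red.bc h cG.pt.X ⟶ Red.bc h (DG.obj i).X := fun i => F.map (cG.π.app i).hom.hom
  let ρ : ∀ {i j : I} (φ : i ⟶ j), Red.bc h (DG.obj i).X ⟶ Red.bc h (DG.obj j).X :=
    fun φ => F.map (DG.map φ).hom.hom
  have hea : ∀ {U : Over X} (g : U ⟶ Red.bc h cG.pt.X) (x : U ⟶ cT.pt) (i : I),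
      (lift g x ≫ a.act) ≫ cT.π.app i = lift (g ≫ π i) (x ≫ cT.π.app i) ≫ (aT i).act := fun g x i => by
    rw [Category.assoc, ha i]
    refine (lift_whiskerLeft_assoc g x (cT.π.app i) _).trans ?_
    exact AlgGrp.Action.lift_restrict_act _ _ _ _
  have het : ∀ {U : Over X} {i j : I} (φ : i ⟶ j) (g : U ⟶ Red.bc h (DG.obj i).X) (x : U ⟶ DT.obj i),
      (lift g x ≫ (aT i).act) ≫ DT.map φ = lift (g ≫ ρ φ) (x ≫ DT.map φ) ≫ (aT j).act := fun φ g x => by
    rw [Category.assoc, hDT _ _ φ, lift_whiskerLeft_assoc, AlgGrp.Action.lift_restrict_act]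
  have hps : NonAbH1.IsPseudoTorsorSch a := by
    refine isPseudoTorsor_of_existsUnique a fun {U} x y => ?_
    choose g hg hu using fun i => existsUnique_diff (hT i).1 (x ≫ cT.π.app i) (y ≫ cT.π.app i)
    let c : Cone (D₀ ⋙ F) :=
      { pt := U
        π :=
          { app := fun i => g i
            naturality := fun i j φ => by
              show 𝟙 _ ≫ g j = g i ≫ ρ φ
              rw [Category.id_comp]
              refine (hu j _ ?_).symm
              have e := het φ (g i) (x ≫ cT.π.app i)
              rw [show lift (g i) (x ≫ cT.π.app i) ≫ (aT i).act = y ≫ cT.π.app i from hg i, Category.assoc,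
                Category.assoc, cT.w] at e
              exact e.symm } }
    refine ⟨hG.lift c, hcT.hom_ext fun i => ?_, fun g' hg' => hG.hom_ext fun i => ?_⟩
    · refine (hea (hG.lift c) x i).trans ?_
      have e : (show U ⟶ Red.bc h cG.pt.X from hG.lift c) ≫ π i = g i := hG.fac c i
      refine (congrArg (fun q => lift q (x ≫ cT.π.app i) ≫ (aT i).act) e).trans ?_
      exact hg i
    · refine Eq.trans ?_ (hG.fac c i).symm
      refine hu i (g' ≫ π i) ?_
      show _ = _
      rw [← hea, show lift g' x ≫ a.act = y from hg']
  haveI : MorphismProperty.DescendsAlong @IsAffineHom AlgSpCov.Fpqc.{u} := FpqcDesc.descendsAlong_isAffineHom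
  haveI : ∀ i, IsAffineHom (DT.obj i).hom := fun i =>
    property_of_torsor @IsAffineHom (hT i) (MorphismProperty.pullback_snd (P := @IsAffineHom) _ _ inferInstance)
  haveI : ∀ i, Flat (DT.obj i).hom := fun i =>
    property_of_torsor @Flat (hT i) (MorphismProperty.pullback_snd (P := @Flat) _ _ inferInstance)
  haveI : ∀ i, Surjective (DT.obj i).hom := fun i => surjective_of_isLocallyTrivialFor (hT i).2
  haveI := isAffineHom_pt DT hcT
  haveI := flat_pt DT hcT
  haveI := surjective_pt DT hcT
  refine ⟨hps, Presieve.singleton cT.pt.hom, cT.pt.hom.singleton_mem_fpqcPrecoverage, ?_⟩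
  rintro Z g ⟨⟩
  exact ⟨𝟙 _, Category.id_comp _⟩
end Groth.Agent.S18863
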