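import Groth.Statements.S18864
import Mathlib.RingTheory.Flat.Basic
import Mathlib.RingTheory.FiniteType
import Mathlib.LinearAlgebra.Basis.VectorSpace

set_option autoImplicit false
universe u v w
open HopfRep

namespace Groth.Agent.S18864

/-- Let k be a field and G = lim G_i a pro-algebraic group scheme over k, so that G = Spec A with A the
direct limit of the Hopf algebras A_i of the affine group schemes G_i of finite type; assume
moreover that the maps A_i → A are injective, so that A is the directed union of the A_i, here given
as injective bialgebra maps A_i → A with directed, jointly covering images. Then every homomorphism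
from G to an affine group scheme H = Spec B of finite type over k factors through some projection G
→ G_i: every bialgebra map f : B → A with B finitely generated as a k-algebra is the composite of
A_i → A with a bialgebra map B → A_i for some i. (The published statement allows arbitrary
transition maps in the system; this row assumes each A_i → A injective, the case the printed
argument treats. The source also states the pro-finite variant with H finite, which is the case of
finite-dimensional A_i and B; finite generation of the A_i is not used.) -/
theorem result (k : Type u) [Field k]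
    (A : Type v) [CommRing A] [HopfAlgebra k A] {ι : Type v} (Aι : ι → Type v)
    [∀ i, CommRing (Aι i)] [∀ i, HopfAlgebra k (Aι i)] (emb : ∀ i, Aι i →ₐc[k] A)
    (hinj : ∀ i, Function.Injective (emb i))
    (hdir : ∀ i j, ∃ l, Set.range (emb i) ⊆ Set.range (emb l) ∧ Set.range (emb j) ⊆ Set.range (emb l))
    (hcov : ∀ a : A, ∃ i, a ∈ Set.range (emb i))
    (B : Type w) [CommRing B] [HopfAlgebra k B] [Algebra.FiniteType k B] (f : B →ₐc[k] A) :
    ∃ (i : ι) (g : B →ₐc[k] Aι i), (emb i).comp g = f := by
  classical
  obtain ⟨s, hs⟩ := Algebra.FiniteType.out (R := k) (A := B)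
  have hfin : ∀ t : Finset B, ∃ i, ∀ b ∈ t, f b ∈ Set.range (emb i) := by
    intro t
    induction t using Finset.induction_on with
    | empty => obtain ⟨i, -⟩ := hcov 0; exact ⟨i, fun b hb => absurd hb (Finset.notMem_empty b)⟩
    | insert b t _ ih =>
      obtain ⟨i, hi⟩ := ih
      obtain ⟨j, hj⟩ := hcov (f b)
      obtain ⟨l, hli, hlj⟩ := hdir i j
      refine ⟨l, fun c hc => ?_⟩
      rcases Finset.mem_insert.1 hc with rfl | hc
      · exact hlj hj
      · exact hli (hi c hc)
  obtain ⟨i, hi⟩ := hfin s
  let e : Aι i →ₐ[k] A := (emb i : Aι i →ₐ[k] A)
  let fa : B →ₐ[k] A := (f : B →ₐ[k] A)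
  have hall : ∀ b : B, fa b ∈ e.range := by
    intro b
    have hb : b ∈ Algebra.adjoin k (s : Set B) := hs ▸ Algebra.mem_top
    have hle : Algebra.adjoin k (s : Set B) ≤ e.range.comap fa := Algebra.adjoin_le fun c hc => hi c hc
    exact hle hb
  let g : B →ₐ[k] Aι i :=
    (AlgEquiv.ofInjective e (hinj i)).symm.toAlgHom.comp (fa.codRestrict e.range hall)
  have hg : ∀ b, emb i (g b) = f b := fun b => by
    have := (AlgEquiv.ofInjective e (hinj i)).apply_symm_apply ⟨fa b, hall b⟩
    exact congrArg Subtype.val this
  refine ⟨i, BialgHom.ofAlgHom g (AlgHom.ext fun b => ?_) (AlgHom.ext fun b => ?_), BialgHom.ext hg⟩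
  · have h1 := CoalgHomClass.counit_comp_apply (emb i) (g b)
    have h2 := CoalgHomClass.counit_comp_apply f b
    rw [hg] at h1
    exact (h1.symm.trans h2)
  · apply TensorProduct.map_injective_of_flat_flat e.toLinearMap e.toLinearMap (hinj i) (hinj i)
    have h1 := CoalgHomClass.map_comp_comul_apply (emb i) (g b)
    have h2 := CoalgHomClass.map_comp_comul_apply f b
    rw [hg] at h1
    refine Eq.trans ?_ h1.symm
    refine Eq.trans ?_ h2
    change TensorProduct.map e.toLinearMap e.toLinearMap (Algebra.TensorProduct.map g g (Coalgebra.comul (R := k) b)) = _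
    induction Coalgebra.comul (R := k) b using TensorProduct.induction_on with
    | zero => simp
    | tmul x y => simp [e, hg]
    | add x y hx hy => simp only [map_add, hx, hy]

end Groth.Agent.S18864
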