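import Groth.Statements.S18867
import Groth.Agent.S18866
import Mathlib
-- import your own Groth.Agent.* helpers here

set_option autoImplicit false
universe u
open Liaison

namespace Groth.Agent.S18867

open IsLocalRing CategoryTheory

/-- In a self-injective Artinian local ring, an element outside an ideal is detected by the annihilator of the ideal. -/
lemma exists_annihilating {A : Type u} [CommRing A] [IsLocalRing A] [IsArtinianRing A]
    (hA : Module.Injective A A) (L : Ideal A) {x : A} (hx : x ∉ L) :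
    ∃ c : A, (∀ l ∈ L, c * l = 0) ∧ c * x ≠ 0 := by
  obtain ⟨φ, hφ⟩ := Groth.Agent.Gor.Basic.exists_socle_of_artinian (A := A)
  let g₀ : A →ₗ[A] A ⧸ L := LinearMap.toSpanSingleton A (A ⧸ L) (Submodule.Quotient.mk x)
  have hker : LinearMap.ker g₀ ≤ maximalIdeal A := IsLocalRing.le_maximalIdeal fun e => hx (by
    have h1 : g₀ 1 = 0 := LinearMap.mem_ker.1 (e ▸ Submodule.mem_top)
    exact (Submodule.Quotient.mk_eq_zero _).1 (by simpa [g₀] using h1))
  let j : (A ⧸ LinearMap.ker g₀) →ₗ[A] A ⧸ L := (LinearMap.ker g₀).liftQ g₀ le_rfl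
  have hj : Function.Injective j := LinearMap.ker_eq_bot.1 (Submodule.ker_liftQ_eq_bot _ _ _ le_rfl)
  let r : (A ⧸ LinearMap.ker g₀) →ₗ[A] A := φ ∘ₗ (LinearMap.ker g₀).liftQ (Algebra.linearMap A (ResidueField A))
    fun a ha => LinearMap.mem_ker.2 ((IsLocalRing.residue_eq_zero_iff a).2 (hker ha))
  obtain ⟨e, he⟩ := hA.out j hj r
  refine ⟨e (Submodule.Quotient.mk 1), fun l hl => ?_, fun h0 => ?_⟩
  · rw [mul_comm, ← smul_eq_mul, ← map_smul, ← Submodule.Quotient.mk_smul, smul_eq_mul, mul_one,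
      (Submodule.Quotient.mk_eq_zero L).2 hl, map_zero]
  · have h1 := he (Submodule.Quotient.mk 1)
    rw [mul_comm, ← smul_eq_mul, ← map_smul, ← Submodule.Quotient.mk_smul, smul_eq_mul, mul_one] at h0
    have h2 : j (Submodule.Quotient.mk 1) = Submodule.Quotient.mk x := (Submodule.liftQ_apply _ g₀ _).trans (one_smul A _)
    rw [h2, h0] at h1
    have h3 : φ (algebraMap A (ResidueField A) 1) = φ 0 := (map_zero φ).symm ▸ h1.symm
    exact one_ne_zero ((map_one (algebraMap A (ResidueField A))).symm.trans (hφ h3))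

/-- Let K be a field, R = K[x_0, …, x_n] graded by degree, c ≥ 2, 𝔠 ⊂ R a homogeneous ideal of height c
such that R/𝔠 is a Gorenstein ring, and I ⊂ R a homogeneous ideal of height c which is unmixed
(every associated prime of R/I has height c) and properly contains 𝔠. Then 𝔠 : (𝔠 : I) = I, so that
I and 𝔠 : I are directly linked by 𝔠. -/
theorem result (K : Type u) [Field K] (n c : ℕ) (hc : 2 ≤ c)
    (𝔠 I : Ideal (MvPolynomial (Fin (n + 1)) K))
    (h𝔠 : 𝔠.IsHomogeneous (GrSyz.stdGr K (Fin (n + 1)))) (hI : I.IsHomogeneous (GrSyz.stdGr K (Fin (n + 1))))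
    [LocCoh.IsGorensteinRing (MvPolynomial (Fin (n + 1)) K ⧸ 𝔠)] (h𝔠c : 𝔠.height = c) (hIc : I.height = c)
    (hIu : ∀ p ∈ associatedPrimes (MvPolynomial (Fin (n + 1)) K) (MvPolynomial (Fin (n + 1)) K ⧸ I), p.height = c) (hlt : 𝔠 < I) :
    𝔠.colon ((𝔠.colon (I : Set (MvPolynomial (Fin (n + 1)) K)) : Ideal (MvPolynomial (Fin (n + 1)) K)) : Set (MvPolynomial (Fin (n + 1)) K)) = I := by
  classical
  let R := MvPolynomial (Fin (n + 1)) K
  let π := Ideal.Quotient.mk 𝔠
  refine le_antisymm (fun x hx => ?_) fun x hx => Submodule.mem_colon.2 fun y hy => by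
    rw [smul_eq_mul, mul_comm]
    exact Submodule.mem_colon.1 hy x hx
  by_contra hxI
  have hx0 : (Submodule.Quotient.mk x : R ⧸ I) ≠ 0 := fun h => hxI ((Submodule.Quotient.mk_eq_zero _).1 h)
  obtain ⟨p, hp, hle⟩ := exists_le_isAssociatedPrime_of_isNoetherianRing R _ hx0
  have hpp : p.IsPrime := hp.isPrime
  have hIp : I ≤ p := by
    have := hp.annihilator_le
    rwa [Submodule.annihilator_top, Ideal.annihilator_quotient] at this
  have hcol : ∀ r : R, r * x ∈ I → r ∈ p := fun r hr => hle (by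
    rw [Submodule.mem_colon_singleton, Submodule.mem_bot, ← Submodule.Quotient.mk_smul, Submodule.Quotient.mk_eq_zero]
    exact hr)
  have hker : RingHom.ker π ≤ p := by rw [Ideal.mk_ker]; exact hlt.le.trans hIp
  have hmin : p.map π ∈ minimalPrimes (R ⧸ 𝔠) := by
    obtain ⟨Q, hQ, hQp⟩ := Ideal.exists_minimalPrimes_le (hlt.le.trans hIp)
    have := hQ.1.1
    have hQeq : Q = p := by
      refine eq_of_le_of_not_lt hQp fun h => ?_
      have h1 := Ideal.height_strict_mono_of_isPrime_of_isPrime h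
      rw [hIu p hp, ← h𝔠c] at h1
      exact not_lt.2 (Ideal.height_mono hQ.1.2) h1
    rw [Ideal.minimalPrimes_eq_comap] at hQ
    obtain ⟨q, hq, hqQ⟩ := hQ
    rw [← hQeq, ← hqQ, Ideal.map_comap_of_surjective _ Ideal.Quotient.mk_surjective]
    exact hq
  let P := p.map π
  have hPp : P.IsPrime := hmin.1.1
  let A := Localization.AtPrime P
  have hG : LocCoh.IsGorensteinRing (R ⧸ 𝔠) := inferInstance
  have : LocCoh.IsGorensteinLocalRing A := hG.isGorensteinLocalRing_localization P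
  have hd : ringKrullDim A = ((0 : ℕ) : WithBot ℕ∞) := by
    rw [IsLocalization.AtPrime.ringKrullDim_eq_height P A, Ideal.height_eq_zero_iff.2 hmin]
    rfl
  have : Ring.KrullDimLE 0 A := Ring.krullDimLE_iff.2 hd.le
  have : IsArtinianRing A := (isArtinianRing_iff_isNoetherianRing_krullDimLE_zero (R := A)).2 ⟨inferInstance, this⟩
  have hA : Module.Injective A A := Module.injective_module_of_injective_object
    (inj := injective_iff_hasInjectiveDimensionLT_one.mpr
      (Groth.Agent.Gor.Basic.hasInjectiveDimensionLT_dim (A := A) hd)) A A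
  let ι : R →+* A := (algebraMap (R ⧸ 𝔠) A).comp π
  have hunit : ∀ t : R, t ∉ p → IsUnit (ι t) := fun t ht =>
    IsLocalization.map_units A (⟨π t, fun h => ht (by
      have : t ∈ P.comap π := h
      rwa [Ideal.comap_map_of_surjective _ Ideal.Quotient.mk_surjective, ← RingHom.ker_eq_comap_bot,
        sup_eq_left.2 hker] at this)⟩ : P.primeCompl)
  have hzero : ∀ a : R, ι a = 0 → ∃ t, t ∉ p ∧ t * a ∈ 𝔠 := fun a ha => by
    obtain ⟨⟨m, hm⟩, hma⟩ := (IsLocalization.map_eq_zero_iff P.primeCompl A _).1 ha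
    obtain ⟨t, rfl⟩ := Ideal.Quotient.mk_surjective m
    exact ⟨t, fun h => hm (Ideal.mem_map_of_mem π h), Ideal.Quotient.eq_zero_iff_mem.1 (by rw [map_mul]; exact hma)⟩
  have hxL : ι x ∉ I.map ι := fun h => by
    rw [show I.map ι = (I.map π).map (algebraMap (R ⧸ 𝔠) A) from (Ideal.map_map _ _).symm,
      IsLocalization.mem_map_algebraMap_iff P.primeCompl] at h
    obtain ⟨⟨⟨i, hi⟩, ⟨m, hm⟩⟩, he⟩ := h
    obtain ⟨i, hiI, rfl⟩ := (Ideal.mem_map_iff_of_surjective π Ideal.Quotient.mk_surjective).1 hi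
    obtain ⟨t, rfl⟩ := Ideal.Quotient.mk_surjective m
    have h0 : ι (x * t - i) = 0 := by
      rw [map_sub, map_mul, sub_eq_zero]
      exact he
    obtain ⟨u, hu, huc⟩ := hzero _ h0
    refine hu ((hpp.mem_or_mem (hcol (u * t) ?_)).resolve_right fun h => hm (Ideal.mem_map_of_mem π h))
    have : u * t * x = u * (x * t - i) + u * i := by ring
    rw [this]
    exact I.add_mem (hlt.le huc) (I.mul_mem_left u hiI)
  obtain ⟨c', hcL, hcx⟩ := exists_annihilating hA (I.map ι) hxL
  obtain ⟨⟨b, s₀⟩, hb⟩ := IsLocalization.surj P.primeCompl c'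
  obtain ⟨r, rfl⟩ := Ideal.Quotient.mk_surjective b
  obtain ⟨G, hGI⟩ := IsNoetherian.noetherian I
  have hg : ∀ g : G, ∃ t, t ∉ p ∧ t * (r * g) ∈ 𝔠 := fun g => hzero _ (by
    have hm : ι g ∈ I.map ι := Ideal.mem_map_of_mem ι (hGI ▸ Submodule.subset_span g.2)
    rw [map_mul, show ι r = c' * algebraMap (R ⧸ 𝔠) A s₀.1 from hb.symm, mul_right_comm, hcL _ hm, zero_mul])
  choose t ht htg using hg
  let T := ∏ g, t g
  have hT : T ∉ p := fun h => by
    obtain ⟨g, -, hg⟩ := (Ideal.IsPrime.prod_mem_iff).1 h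
    exact ht g hg
  have hTr : T * r ∈ 𝔠.colon (I : Set R) := Submodule.mem_colon.2 fun y hy => by
    rw [SetLike.mem_coe, ← hGI] at hy
    induction hy using Submodule.span_induction with
    | mem y hy =>
      obtain ⟨k, hk⟩ : t ⟨y, hy⟩ ∣ T := Finset.dvd_prod_of_mem t (Finset.mem_univ _)
      rw [hk, smul_eq_mul, mul_comm (t ⟨y, hy⟩), mul_assoc, mul_assoc]
      exact 𝔠.mul_mem_left k (htg ⟨y, hy⟩)
    | zero => simp
    | add a b _ _ ha hb => rw [smul_add]; exact 𝔠.add_mem ha hb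
    | smul z a _ ha => rw [smul_comm]; exact 𝔠.mul_mem_left z ha
  have hfin := Submodule.mem_colon.1 hx _ hTr
  have h0 : ι (x * (T * r)) = 0 := by
    show algebraMap (R ⧸ 𝔠) A (π _) = 0
    rw [Ideal.Quotient.eq_zero_iff_mem.2 (by simpa using hfin), map_zero]
  refine hcx ?_
  rw [map_mul, map_mul, show ι r = c' * algebraMap (R ⧸ 𝔠) A s₀.1 from hb.symm] at h0
  have hu : IsUnit (ι T * algebraMap (R ⧸ 𝔠) A s₀.1) := (hunit T hT).mul (IsLocalization.map_units A s₀)
  refine hu.mul_left_eq_zero.1 (Eq.trans ?_ h0)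
  ring

end Groth.Agent.S18867
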