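import Groth.Statements.S18870
import Mathlib

set_option autoImplicit false
universe u
open Liaison

namespace Groth.Agent.S18870

theorem bdl {R : Type u} [CommRing R] [IsNoetherianRing R] (J I : Ideal R) (h : ℕ) (hJI : J ≤ I)
    (hJh : J.height = h) (hIh : I.height = h + 1) (f : R) (hJf : J.colon {f} = J) :
    (J ⊔ Ideal.span {f} * I).height = h + 1 := by
  refine le_antisymm ?_ ?_
  · rw [← hIh]
    exact Ideal.height_mono (sup_le hJI Ideal.mul_le_right)
  · rw [Ideal.height_eq_inf_minimalPrimes]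
    refine le_iInf₂ fun P hP => ?_
    haveI : P.IsPrime := hP.1.1
    have hle := hP.1.2
    rcases (show P.IsPrime from hP.1.1).mul_le.1 ((le_sup_right.trans hle : Ideal.span {f} * I ≤ P)) with hf | hI
    · obtain ⟨Q, hQ, hQP⟩ := Ideal.exists_minimalPrimes_le (le_sup_left.trans hle : J ≤ P)
      haveI : Q.IsPrime := hQ.1.1
      have hne : Q ≠ P := by
        rintro rfl
        have hfQ : f ∈ Q := hf (Ideal.mem_span_singleton_self f)
        obtain ⟨y, hy, hfy⟩ := Ideal.exists_mul_mem_of_mem_minimalPrimes hQ hfQ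
        exact hy (by rw [← hJf, Submodule.mem_colon_singleton]; simpa [mul_comm] using hfy)
      have hQh : (h : ℕ∞) ≤ Q.height := by
        rw [← hJh]; exact Ideal.height_mono hQ.1.2
      exact (add_le_add hQh le_rfl).trans (Ideal.height_add_one_le_of_lt_of_isPrime (lt_of_le_of_ne hQP hne))
    · rw [← hIh]
      exact Ideal.height_mono hI


/-- Let K be a field, R = K[x_0, …, x_n] graded by degree, and J ⊆ I ⊂ R homogeneous ideals with J ≠ 0,
height I = height J + 1 = h + 1 and R/J Cohen–Macaulay; let f ∈ R be homogeneous of degree d with J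
: f = J, and put Ĩ = J + fI (the basic double link). Then Ĩ has the same height h + 1 as I. -/
theorem result (K : Type u) [Field K] (n h : ℕ)
    (J I : Ideal (MvPolynomial (Fin (n + 1)) K))
    (hJ : J.IsHomogeneous (GrSyz.stdGr K (Fin (n + 1)))) (hI : I.IsHomogeneous (GrSyz.stdGr K (Fin (n + 1))))
    (hJ0 : J ≠ ⊥) (hJI : J ≤ I) (hJh : J.height = h) (hIh : I.height = h + 1)
    [LocCoh.IsCohenMacaulayRing (MvPolynomial (Fin (n + 1)) K ⧸ J)]
    (f : MvPolynomial (Fin (n + 1)) K) (d : ℕ) (hf : f ∈ GrSyz.stdGr K (Fin (n + 1)) (d : ℤ)) (hJf : J.colon {f} = J) :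
    (J ⊔ Ideal.span {f} * I).height = h + 1 := by
  exact bdl J I h hJI hJh hIh f hJf

end Groth.Agent.S18870
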