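import Groth.Statements.S18871
import Groth.Agent.S18865
import Groth.Agent.Depth.CM
import Groth.Agent.VarDim.Algebra
import Mathlib
-- import your own Groth.Agent.* helpers here

set_option autoImplicit false
universe u
open Liaison

namespace Groth.Agent.S18871


open IsLocalRing

/-- In a Cohen–Macaulay affine algebra all minimal primes contained in a fixed maximal ideal have the same dimension. -/
lemma dim_eq {K : Type u} [Field K] {B : Type u} [CommRing B] [Algebra K B] [Algebra.FiniteType K B]
    [hB : LocCoh.IsCohenMacaulayRing B] (M : Ideal B) [M.IsMaximal] {p : Ideal B} (hp : p ∈ minimalPrimes B) (hpM : p ≤ M) :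
    ringKrullDim (B ⧸ p) = ringKrullDim (Localization.AtPrime M) := by
  have := hp.1.1
  have := hB.isCohenMacaulayLocalRing_localization M
  have hdisj : Disjoint (M.primeCompl : Set B) (p : Set B) := Set.disjoint_left.2 fun x hx hxp => hx (hpM hxp)
  set q := p.map (algebraMap B (Localization.AtPrime M)) with hq
  have hqp : q.IsPrime := IsLocalization.isPrime_of_isPrime_disjoint M.primeCompl _ p hp.1.1 hdisj
  have hcomap : q.comap (algebraMap B (Localization.AtPrime M)) = p :=
    IsLocalization.comap_map_of_isPrime_disjoint M.primeCompl _ hp.1.1 hdisj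
  have hqmin : q ∈ minimalPrimes (Localization.AtPrime M) := by
    refine ⟨⟨hqp, bot_le⟩, fun Q hQ hQq => ?_⟩
    have := hQ.1
    have h1 : Q.comap (algebraMap B (Localization.AtPrime M)) ≤ p := hcomap ▸ Ideal.comap_mono hQq
    have h2 := hp.2 ⟨Ideal.comap_isPrime _ _, bot_le⟩ h1
    rw [hq, ← IsLocalization.map_comap M.primeCompl (Localization.AtPrime M) Q]
    exact Ideal.map_mono h2
  have hassL : q ∈ associatedPrimes (Localization.AtPrime M) (Localization.AtPrime M) := by
    refine Module.associatedPrimes.minimalPrimes_annihilator_subset_associatedPrimes _ _ ?_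
    rw [Module.annihilator_eq_bot.2 inferInstance]
    exact hqmin
  have hd := Groth.Agent.Depth.ringKrullDim_quotient_associatedPrime
    (Groth.Agent.Depth.isCohenMacaulayModule_self (Localization.AtPrime M)) hassL
  rw [Module.supportDim_self_eq_ringKrullDim] at hd
  rw [← hd]
  have : (M.map (Ideal.Quotient.mk p)).IsMaximal :=
    Ideal.IsMaximal.map_of_surjective_of_ker_le Ideal.Quotient.mk_surjective (by rwa [Ideal.mk_ker])
  have hcompl : Algebra.algebraMapSubmonoid (B ⧸ p) M.primeCompl = (M.map (Ideal.Quotient.mk p)).primeCompl := by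
    ext x
    obtain ⟨b, rfl⟩ := Ideal.Quotient.mk_surjective x
    show Ideal.Quotient.mk p b ∈ Submonoid.map (Ideal.Quotient.mk p) M.primeCompl ↔ Ideal.Quotient.mk p b ∉ M.map (Ideal.Quotient.mk p)
    rw [Ideal.mem_quotient_iff_mem_sup, sup_eq_left.2 hpM]
    refine ⟨?_, fun h => ⟨b, h, rfl⟩⟩
    rintro ⟨c, hc, hcb⟩ hb
    exact hc (by simpa using M.add_mem (hpM (Ideal.Quotient.eq.1 hcb)) hb)
  have : IsLocalization.AtPrime (Localization.AtPrime M ⧸ q) (M.map (Ideal.Quotient.mk p)) := by
    have := (inferInstance : IsLocalization (Algebra.algebraMapSubmonoid (B ⧸ p) M.primeCompl) (Localization.AtPrime M ⧸ q))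
    rwa [hcompl] at this
  rw [IsLocalization.AtPrime.ringKrullDim_eq_height (M.map (Ideal.Quotient.mk p)) (Localization.AtPrime M ⧸ q),
    ← Groth.Agent.VarDim.ringKrullDim_quotient_add_height (k := K) (A := B ⧸ p) (M.map (Ideal.Quotient.mk p))]
  let _ := Ideal.Quotient.field (M.map (Ideal.Quotient.mk p))
  rw [ringKrullDim_eq_zero_of_field, zero_add]

/-- In a Cohen–Macaulay ring, a prime associated to `B/fB`, `f` regular, has height one. -/
lemma height_eq_one {B : Type u} [CommRing B] [hB : LocCoh.IsCohenMacaulayRing B] {f : B}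
    (hf : IsSMulRegular B f) {P : Ideal B} (hP : P ∈ associatedPrimes B (QuotSMulTop f B)) :
    P.height = 1 := by
  have hp : P.IsPrime := hP.isPrime
  have := hB.isCohenMacaulayLocalRing_localization P
  have hfP : f ∈ P := hP.annihilator_le (by
    rw [Submodule.annihilator_top, Module.mem_annihilator]
    intro m
    obtain ⟨b, rfl⟩ := Submodule.Quotient.mk_surjective _ m
    rw [← Submodule.Quotient.mk_smul, Submodule.Quotient.mk_eq_zero]
    exact Submodule.smul_mem_pointwise_smul b f ⊤ Submodule.mem_top)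
  let L := Localization.AtPrime P
  have hmax : maximalIdeal L ∈ associatedPrimes L (LocalizedModule P.primeCompl (QuotSMulTop f B)) :=
    Module.associatedPrimes.mem_associatedPrimes_atPrime_of_mem_associatedPrimes hP
  let e := Groth.Agent.Depth.quotSMulTopLocalizedEquiv B P.primeCompl f
  have hmax' : maximalIdeal L ∈ associatedPrimes L (QuotSMulTop (algebraMap B L f) (LocalizedModule P.primeCompl B)) :=
    (LinearEquiv.AssociatedPrimes.eq e).symm ▸ hmax
  have hreg : IsSMulRegular (LocalizedModule P.primeCompl B) (algebraMap B L f) :=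
    Groth.Agent.Depth.isSMulRegular_localizedModule P.primeCompl hf
  have hmem : algebraMap B L f ∈ maximalIdeal L :=
    (IsLocalization.AtPrime.to_map_mem_maximal_iff L P f).2 hfP
  have hcm : LocCoh.IsCohenMacaulayModule L (LocalizedModule P.primeCompl B) :=
    Groth.Agent.Depth.isCohenMacaulayModule_self L
  have hd := Groth.Agent.Depth.ringKrullDim_quotient_associatedPrime
    ((Groth.Agent.Depth.isCohenMacaulayModule_quotSMulTop_iff hmem hreg).2 hcm) hmax'
  let _ := Ideal.Quotient.field (maximalIdeal L)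
  rw [ringKrullDim_eq_zero_of_field] at hd
  have hs := Module.supportDim_quotSMulTop_succ_eq_supportDim hreg hmem
  rw [← hd, zero_add] at hs
  have hs' : (1 : WithBot ℕ∞) = ringKrullDim L := hs.trans (Module.supportDim_self_eq_ringKrullDim L)
  rw [IsLocalization.AtPrime.ringKrullDim_eq_height P L] at hs'
  exact (by exact_mod_cast hs'.symm)

/-- Let K be a field, R = K[x_0, …, x_n] graded by degree, and J ⊆ I ⊂ R homogeneous ideals with J ≠ 0,
height I = height J + 1 = h + 1 and R/J Cohen–Macaulay; let f ∈ R be homogeneous of degree d with J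
: f = J, and put Ĩ = J + fI (the basic double link). Then I is unmixed, meaning that every
associated prime of R/I has height h + 1, if and only if Ĩ is unmixed in the same sense. -/
theorem result (K : Type u) [Field K] (n h : ℕ)
    (J I : Ideal (MvPolynomial (Fin (n + 1)) K))
    (hJ : J.IsHomogeneous (GrSyz.stdGr K (Fin (n + 1)))) (hI : I.IsHomogeneous (GrSyz.stdGr K (Fin (n + 1))))
    (hJ0 : J ≠ ⊥) (hJI : J ≤ I) (hJh : J.height = h) (hIh : I.height = h + 1)
    [LocCoh.IsCohenMacaulayRing (MvPolynomial (Fin (n + 1)) K ⧸ J)]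
    (f : MvPolynomial (Fin (n + 1)) K) (d : ℕ) (hf : f ∈ GrSyz.stdGr K (Fin (n + 1)) (d : ℤ)) (hJf : J.colon {f} = J) :
    (∀ p ∈ associatedPrimes (MvPolynomial (Fin (n + 1)) K) (MvPolynomial (Fin (n + 1)) K ⧸ I), p.height = h + 1) ↔
      ∀ p ∈ associatedPrimes (MvPolynomial (Fin (n + 1)) K) (MvPolynomial (Fin (n + 1)) K ⧸ (J ⊔ Ideal.span {f} * I)), p.height = h + 1 := by
  classical
  let R := MvPolynomial (Fin (n + 1)) K
  let π := Ideal.Quotient.mk J
  let m : Ideal R := RingHom.ker (MvPolynomial.constantCoeff (σ := Fin (n + 1)) (R := K))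
  have hm : m.IsMaximal := RingHom.ker_isMaximal_of_surjective _ fun r => ⟨MvPolynomial.C r, MvPolynomial.constantCoeff_C _ r⟩
  have hcm : LocCoh.IsCohenMacaulayRing (R ⧸ J) := inferInstance
  have hcol : ∀ x : R, f * x ∈ J → x ∈ J := fun x hx => hJf ▸ Submodule.mem_colon_singleton.2 (by rwa [smul_eq_mul, mul_comm])
  have hht : ∀ P ∈ J.minimalPrimes, P.height = h := by
    obtain ⟨P₀, hP₀, hP₀c⟩ : ∃ P ∈ J.minimalPrimes, P.height = h := by
      have hne : J.minimalPrimes.Nonempty := by
        rw [Set.nonempty_iff_ne_empty, ne_eq, Ideal.minimalPrimes_eq_empty_iff]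
        rintro rfl
        rw [Ideal.height_top] at hJh
        exact ENat.top_ne_coe h hJh
      have := (Ideal.finite_minimalPrimes_of_isNoetherianRing R J)
      obtain ⟨P, hP, hmin⟩ := Set.exists_min_image _ (fun P => P.height) this hne
      refine ⟨P, hP, le_antisymm ?_ (hJh ▸ Ideal.height_mono hP.1.2)⟩
      rw [← hJh, Ideal.height_eq_inf_minimalPrimes (I := J)]
      exact le_iInf₂ hmin
    intro P hP
    have := hP.1.1
    have := hP₀.1.1
    have hle : ∀ Q ∈ J.minimalPrimes, Q ≤ m := fun Q hQ => Groth.Agent.S18865.minimal_le_ker hJ hQ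
    have hmm : (m.map π).IsMaximal := Ideal.IsMaximal.map_of_surjective_of_ker_le (m := m)
      Ideal.Quotient.mk_surjective (by rw [Ideal.mk_ker]; exact hP.1.2.trans (hle P hP))
    have h1 : ∀ Q ∈ J.minimalPrimes, ringKrullDim (R ⧸ Q) = ringKrullDim (Localization.AtPrime (m.map π)) := by
      intro Q hQ
      have := hQ.1.1
      have hker : RingHom.ker (Ideal.Quotient.mk J) ≤ Q := by rw [Ideal.mk_ker]; exact hQ.1.2
      have hq : Q.map (Ideal.Quotient.mk J) ∈ minimalPrimes (R ⧸ J) := by
        have h' := hQ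
        rw [Ideal.minimalPrimes_eq_comap] at h'
        obtain ⟨q, hq, rfl⟩ := h'
        rwa [Ideal.map_comap_of_surjective _ Ideal.Quotient.mk_surjective]
      rw [← dim_eq (K := K) (m.map π) hq (Ideal.map_mono (hle Q hQ))]
      exact (ringKrullDim_eq_of_ringEquiv ((DoubleQuot.quotQuotEquivQuotOfLE hQ.1.2))).symm
    have e1 := Groth.Agent.VarDim.ringKrullDim_quotient_add_height (k := K) (A := R) P
    have e2 := Groth.Agent.VarDim.ringKrullDim_quotient_add_height (k := K) (A := R) P₀
    rw [h1 P hP, ← h1 P₀ hP₀] at e1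
    obtain ⟨d, hd, -⟩ := Groth.Agent.VarDim.exists_ringKrullDim_eq_trdeg K (R ⧸ P₀)
    rw [← e2, hd, hP₀c] at e1
    obtain ⟨a, ha⟩ := ENat.ne_top_iff_exists.1 (Ideal.height_ne_top hP.1.1.ne_top)
    rw [← ha] at e1 ⊢
    have e' : d + a = d + h := by exact_mod_cast e1
    exact_mod_cast (by omega : a = h)
  have hB : ∀ p ∈ associatedPrimes R (R ⧸ (J ⊔ Ideal.span {f})), p.height = h + 1 := by
    intro p hp
    have hpp : p.IsPrime := hp.isPrime
    have hJp : J ⊔ Ideal.span {f} ≤ p := by
      have := hp.annihilator_le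
      rwa [Submodule.annihilator_top, Ideal.annihilator_quotient] at this
    have hpc : RingHom.ker π ≤ p := by rw [Ideal.mk_ker]; exact le_sup_left.trans hJp
    have hcomap : (p.map π).comap π = p := by
      rw [Ideal.comap_map_of_surjective _ Ideal.Quotient.mk_surjective, ← RingHom.ker_eq_comap_bot]
      exact sup_eq_left.2 hpc
    have hreg : IsSMulRegular (R ⧸ J) (π f) := by
      refine IsSMulRegular.of_right_eq_zero_of_smul fun x hx => ?_
      obtain ⟨x, rfl⟩ := Ideal.Quotient.mk_surjective x
      exact Ideal.Quotient.eq_zero_iff_mem.2 (hcol x (Ideal.Quotient.eq_zero_iff_mem.1 (by simpa [π, smul_eq_mul] using hx)))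
    have hpB : p.map π ∈ associatedPrimes (R ⧸ J) (QuotSMulTop (π f) (R ⧸ J)) := by
      obtain ⟨-, x, hx⟩ := hp
      obtain ⟨r, rfl⟩ := Submodule.Quotient.mk_surjective _ x
      refine ⟨Ideal.map_isPrime_of_surjective Ideal.Quotient.mk_surjective hpc, Submodule.Quotient.mk (π r), ?_⟩
      apply Ideal.comap_injective_of_surjective π Ideal.Quotient.mk_surjective
      rw [hcomap, Ideal.comap_radical, hx]
      congr 1
      ext a
      simp only [Ideal.mem_comap, Submodule.mem_colon_singleton, Submodule.mem_bot, ← Submodule.Quotient.mk_smul,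
        Submodule.Quotient.mk_eq_zero, smul_eq_mul, ← Submodule.ideal_span_singleton_smul, Ideal.smul_top_eq_map,
        Ideal.mul_top, ← map_mul]
      rw [← Set.image_singleton, ← Ideal.map_span, Ideal.mem_quotient_iff_mem_sup, sup_comm]
    have h1 := height_eq_one hreg hpB
    obtain ⟨Q, hQ, hQp⟩ := Ideal.exists_minimalPrimes_le (le_sup_left.trans hJp)
    have := hQ.1.1
    have hQker : RingHom.ker π ≤ Q := by rw [Ideal.mk_ker]; exact hQ.1.2
    have hne : Q ≠ p := by
      rintro rfl
      have hmin : Q.map π ∈ minimalPrimes (R ⧸ J) := by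
        have h' := hQ
        rw [Ideal.minimalPrimes_eq_comap] at h'
        obtain ⟨q, hq, rfl⟩ := h'
        rwa [Ideal.map_comap_of_surjective _ Ideal.Quotient.mk_surjective]
      have := hmin.1.1
      rw [Ideal.height_eq_zero_iff.2 hmin] at h1
      exact zero_ne_one h1
    let P' := p.map (Ideal.Quotient.mk Q)
    have hP'c : P'.comap (Ideal.Quotient.mk Q) = p := by
      rw [Ideal.comap_map_of_surjective _ Ideal.Quotient.mk_surjective, ← RingHom.ker_eq_comap_bot, Ideal.mk_ker]
      exact sup_eq_left.2 hQp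
    have hP'p : P'.IsPrime := Ideal.map_isPrime_of_surjective Ideal.Quotient.mk_surjective (by rwa [Ideal.mk_ker])
    have hP'1 : P'.height = 1 := by
      refine le_antisymm ?_ (Order.one_le_iff_pos.2 (pos_iff_ne_zero.2 fun h0 => ?_))
      · rw [← Nat.cast_one (R := ℕ∞), Ideal.height_le_iff]
        intro q hq hqP
        have hqbot : q = ⊥ := by
          let q' := q.comap (Ideal.Quotient.mk Q)
          have hq' : q'.IsPrime := Ideal.comap_isPrime _ _
          have hQq' : Q ≤ q' := Ideal.mk_ker.symm.trans_le (Ideal.comap_mono bot_le)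
          have hq'p : q' ≤ p := hP'c ▸ Ideal.comap_mono hqP.le
          have hqb : (q'.map π).IsPrime := Ideal.map_isPrime_of_surjective Ideal.Quotient.mk_surjective (hQker.trans hQq')
          have hpb : (p.map π).IsPrime := hpB.isPrime
          have hcq : (q'.map π).comap π = q' := by
            rw [Ideal.comap_map_of_surjective _ Ideal.Quotient.mk_surjective, ← RingHom.ker_eq_comap_bot]
            exact sup_eq_left.2 (hQker.trans hQq')
          have hlt : q'.map π < p.map π := lt_of_le_of_ne (Ideal.map_mono hq'p) fun e => by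
            have e' : q' = p := hcq.symm.trans ((congrArg (Ideal.comap π) e).trans hcomap)
            exact hqP.ne (Ideal.comap_injective_of_surjective _ Ideal.Quotient.mk_surjective (e'.trans hP'c.symm))
          have h0 : (q'.map π).height = 0 := ENat.lt_one_iff_eq_zero.1 (by
            have := Ideal.height_strict_mono_of_isPrime_of_isPrime hlt
            rwa [h1] at this)
          have hmin : (q'.map π).comap π ∈ J.minimalPrimes := by
            rw [Ideal.minimalPrimes_eq_comap]
            exact ⟨_, Ideal.height_eq_zero_iff.1 h0, rfl⟩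
          rw [hcq] at hmin
          have hQq : Q = q' := le_antisymm hQq' (hmin.2 hQ.1 hQq')
          rw [← Ideal.map_comap_of_surjective (Ideal.Quotient.mk Q) Ideal.Quotient.mk_surjective q,
            show q.comap (Ideal.Quotient.mk Q) = Q from hQq.symm, Ideal.map_quotient_self]
        rw [hqbot, Ideal.height_bot]
        exact zero_lt_one
      · have := Ideal.height_eq_zero_iff.1 h0
        have hbot : P' = ⊥ := le_bot_iff.1 (this.2 ⟨Ideal.isPrime_bot, le_rfl⟩ bot_le)
        exact hne (by rw [← hP'c, hbot, ← RingHom.ker_eq_comap_bot, Ideal.mk_ker])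
    have e1 := Groth.Agent.VarDim.ringKrullDim_quotient_add_height (k := K) (A := R) p
    have e2 := Groth.Agent.VarDim.ringKrullDim_quotient_add_height (k := K) (A := R) Q
    have e3 := Groth.Agent.VarDim.ringKrullDim_quotient_add_height (k := K) (A := R ⧸ Q) P'
    rw [hP'1, ringKrullDim_eq_of_ringEquiv (DoubleQuot.quotQuotEquivQuotOfLE hQp)] at e3
    rw [hht Q hQ, ← e3] at e2
    obtain ⟨d, hd, -⟩ := Groth.Agent.VarDim.exists_ringKrullDim_eq_trdeg K (R ⧸ p)
    obtain ⟨a, ha⟩ := ENat.ne_top_iff_exists.1 (Ideal.height_ne_top hpp.ne_top)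
    rw [← e2, hd, ← ha] at e1
    rw [← ha]
    have e' : d + a = d + 1 + h := by exact_mod_cast e1
    exact_mod_cast (by omega : a = h + 1)
  let Jt : Ideal R := J ⊔ Ideal.span {f} * I
  have hJt : Jt ≤ J ⊔ Ideal.span {f} := sup_le_sup_left Ideal.mul_le_left J
  let φ : (R ⧸ I) →ₗ[R] R ⧸ Jt := Submodule.mapQ I Jt (LinearMap.mulLeft R f) fun x hx => by
    show f * x ∈ Jt
    exact Ideal.mem_sup_right (Ideal.mul_mem_mul (Ideal.mem_span_singleton_self f) hx)
  let ψ : (R ⧸ Jt) →ₗ[R] R ⧸ (J ⊔ Ideal.span {f}) := Submodule.factor hJt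
  have hinj : Function.Injective φ := by
    rw [injective_iff_map_eq_zero]
    intro z hz
    obtain ⟨x, rfl⟩ := Submodule.Quotient.mk_surjective _ z
    have hx : f * x ∈ Jt := (Submodule.Quotient.mk_eq_zero _).1 hz
    obtain ⟨j, hj, t, ht, hjt⟩ := Submodule.mem_sup.1 hx
    obtain ⟨i, hi, rfl⟩ := Ideal.mem_span_singleton_mul.1 ht
    have hxi : x - i ∈ J := hcol _ (by rwa [mul_sub, ← hjt, add_sub_cancel_right])
    exact (Submodule.Quotient.mk_eq_zero _).2 (by simpa using I.add_mem (hJI hxi) hi)
  have hexact : Function.Exact φ ψ := by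
    intro z
    obtain ⟨x, rfl⟩ := Submodule.Quotient.mk_surjective _ z
    constructor
    · intro hz
      obtain ⟨j, hj, t, ht, hjt⟩ := Submodule.mem_sup.1 ((Submodule.Quotient.mk_eq_zero _).1 hz)
      obtain ⟨y, rfl⟩ := Ideal.mem_span_singleton.1 ht
      have hjt' : j + f * y = x := hjt
      exact ⟨Submodule.Quotient.mk y, (Submodule.Quotient.eq Jt).2 (by
        show f * y - x ∈ Jt
        rw [← hjt']
        simpa using (Ideal.mem_sup_left hj : j ∈ Jt))⟩
    · rintro ⟨w, hw⟩
      obtain ⟨y, rfl⟩ := Submodule.Quotient.mk_surjective _ w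
      rw [← hw]
      exact (Submodule.Quotient.mk_eq_zero _).2 (Ideal.mem_sup_right (Ideal.mem_span_singleton.2 ⟨y, rfl⟩))
  refine ⟨fun H p hp => ?_, fun H p hp => H p (associatedPrimes.subset_of_injective hinj hp)⟩
  rcases associatedPrimes.subset_union_of_exact hinj hexact hp with hp' | hp'
  · exact H p hp'
  · exact hB p hp'

end Groth.Agent.S18871
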