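import Groth.Statements.S18872
import Groth.Agent.GrLC.LocCohLES
import Groth.Agent.GrSyz.StdField
import Groth.Agent.LocCohZW.DepthZ
import Groth.Agent.VarDim.Algebra
import Groth.Agent.Depth.CM
import Mathlib.RingTheory.GradedAlgebra.Radical

set_option autoImplicit false
universe u
open Liaison

namespace Groth.Agent.S18872

/-- Let K be a field, R = K[x_0, …, x_n] graded by degree, and J ⊆ I ⊂ R homogeneous ideals with J ≠ 0,
height I = height J + 1 = h + 1 and R/J Cohen–Macaulay; let f ∈ R be homogeneous of degree d with J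
: f = J, and put Ĩ = J + fI (the basic double link). Then for every i < n − h = dim R/I the local
cohomology modules of R/Ĩ and of R/I with support in the irrelevant ideal 𝔪 = (x_0, …, x_n) are
isomorphic in degree i. (The graded statement is H^i_𝔪(R/Ĩ) ≅ H^i_𝔪(R/I)(−d); here only the
existence of an R-linear isomorphism of the underlying modules is asserted, the grading and the
shift by d being dropped.) -/
theorem result (K : Type u) [Field K] (n h : ℕ)
    (J I : Ideal (MvPolynomial (Fin (n + 1)) K))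
    (hJ : J.IsHomogeneous (GrSyz.stdGr K (Fin (n + 1)))) (hI : I.IsHomogeneous (GrSyz.stdGr K (Fin (n + 1))))
    (hJ0 : J ≠ ⊥) (hJI : J ≤ I) (hJh : J.height = h) (hIh : I.height = h + 1)
    [LocCoh.IsCohenMacaulayRing (MvPolynomial (Fin (n + 1)) K ⧸ J)]
    (f : MvPolynomial (Fin (n + 1)) K) (d : ℕ) (hf : f ∈ GrSyz.stdGr K (Fin (n + 1)) (d : ℤ)) (hJf : J.colon {f} = J) (i : ℕ) (hi : i + h < n) :
    Nonempty (LocCoh.H (GrSyz.irrel (GrSyz.stdGr K (Fin (n + 1)))).toIdeal i (MvPolynomial (Fin (n + 1)) K ⧸ (J ⊔ Ideal.span {f} * I)) ≃ₗ[MvPolynomial (Fin (n + 1)) K]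
      LocCoh.H (GrSyz.irrel (GrSyz.stdGr K (Fin (n + 1)))).toIdeal i (MvPolynomial (Fin (n + 1)) K ⧸ I)) := by
  classical
  let R := MvPolynomial (Fin (n + 1)) K
  set m : Ideal R := (GrSyz.irrel (GrSyz.stdGr K (Fin (n + 1)))).toIdeal with hm
  -- the irrelevant ideal is the maximal ideal of the origin
  have hmker : m = RingHom.ker (MvPolynomial.constantCoeff : R →+* K) := by
    refine le_antisymm ((Groth.Agent.GrSyz.irrelS_le_span_X K (n + 1)).trans (Ideal.span_le.2 ?_)) ?_
    · rintro _ ⟨c, -, rfl⟩; simp [RingHom.mem_ker]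
    · intro p hp
      have : p ∈ Ideal.span (MvPolynomial.X '' (Set.univ : Set (Fin (n + 1)))) :=
        MvPolynomial.mem_ideal_span_X_image.2 fun v hv => by
          have hv0 : v ≠ 0 := fun h => by
            rw [h, MvPolynomial.mem_support_iff, ← MvPolynomial.constantCoeff_eq] at hv
            exact hv (RingHom.mem_ker.1 hp)
          obtain ⟨c, hc⟩ := Finsupp.ne_iff.1 hv0
          exact ⟨c, Set.mem_univ c, by simpa using hc⟩
      refine Ideal.span_le.2 ?_ this
      rintro _ ⟨c, -, rfl⟩
      exact Groth.Agent.GrSyz.X_mem_irrelS K (n + 1) c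
  haveI hmax : m.IsMaximal := hmker ▸ RingHom.ker_isMaximal_of_surjective _
    (fun c => ⟨MvPolynomial.C c, MvPolynomial.constantCoeff_C _ _⟩)
  have hhom : ∀ P : Ideal R, P.IsPrime → P.IsHomogeneous (GrSyz.stdGr K (Fin (n + 1))) → P ≤ m := by
    intro P hP hPh p hp
    rw [hmker, RingHom.mem_ker]
    by_contra hne
    have h0 := hPh 0 hp
    obtain ⟨c, hc⟩ := (Groth.Agent.GrSyz.mem_deg0_stdGr_iff K (n + 1) _).1
      (DirectSum.decompose (GrSyz.stdGr K (Fin (n + 1))) p 0).2
    have hcc : MvPolynomial.constantCoeff p = c := by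
      conv_lhs => rw [← DirectSum.sum_support_decompose (GrSyz.stdGr K (Fin (n + 1))) p]
      rw [map_sum, Finset.sum_eq_single (0 : ℤ)]
      · rw [← hc, MvPolynomial.algebraMap_eq, MvPolynomial.constantCoeff_C]
      · intro i _ hi
        by_contra hne'
        rw [MvPolynomial.constantCoeff_eq] at hne'
        have := Groth.Agent.GrSyz.stdGr_degree_eq (DirectSum.decompose (GrSyz.stdGr K (Fin (n + 1))) p i).2 hne'
        simp at this
        exact hi this.symm
      · intro h; rw [DFinsupp.notMem_support_iff.1 h]; simp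
    rw [← hc] at h0
    have hu : IsUnit (algebraMap K R c) := (isUnit_iff_ne_zero.2 (hcc ▸ hne)).map _
    exact hP.ne_top (P.eq_top_of_isUnit_mem h0 hu)
  have hJtop : J ≠ ⊤ := by
    rintro rfl
    simp at hJh
  obtain ⟨P, hP, hPh⟩ : ∃ P ∈ J.minimalPrimes, P.height = h := by
    obtain ⟨Q, hQ, -⟩ := Ideal.exists_le_maximal J hJtop
    have := hJtop
    by_contra hcon
    push Not at hcon
    have : ((h + 1 : ℕ) : ℕ∞) ≤ J.height := by
      rw [Ideal.height]
      refine le_iInf₂ fun Q hQ => ?_
      haveI := hQ.isPrime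
      have h1 : J.height ≤ Q.height := Ideal.height_mono hQ.le
      rw [hJh] at h1
      have h2 := hcon Q hQ
      have h3 : (h : ℕ∞) < Q.height := lt_of_le_of_ne h1 (Ne.symm h2)
      have h4 : ((h + 1 : ℕ) : ℕ∞) ≤ Q.height := by
        rw [Nat.cast_add, Nat.cast_one]; exact Order.add_one_le_of_lt h3
      simpa [Ideal.height, Ideal.minimalPrimes_eq_subsingleton_self] using h4
    rw [hJh] at this
    have : h + 1 ≤ h := by exact_mod_cast this
    omega
  haveI := hP.isPrime
  have hPm : P ≤ m := by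
    have hPc : (P.homogeneousCore (GrSyz.stdGr K (Fin (n + 1)))).toIdeal = P := by
      refine le_antisymm (Ideal.toIdeal_homogeneousCore_le _ _) (hP.2 ⟨?_, ?_⟩ (Ideal.toIdeal_homogeneousCore_le _ _))
      · exact Ideal.IsPrime.homogeneousCore inferInstance
      · rw [← hJ.toIdeal_homogeneousCore_eq_self]
        exact Ideal.homogeneousCore_mono _ hP.le
    exact hhom P inferInstance (hPc ▸ (P.homogeneousCore _).isHomogeneous)
  -- depth of R/J
  have hJm : J ≤ m := hP.le.trans hPm
  let B := R ⧸ J
  let mB : Ideal B := m.map (Ideal.Quotient.mk J)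
  haveI hmB : mB.IsMaximal := Ideal.IsMaximal.map_of_surjective_of_ker_le Ideal.Quotient.mk_surjective (by rwa [Ideal.mk_ker])
  have hmBc : mB.comap (Ideal.Quotient.mk J) = m := by
    rw [Ideal.comap_map_of_surjective _ Ideal.Quotient.mk_surjective, ← RingHom.ker_eq_comap_bot, Ideal.mk_ker]
    exact sup_eq_left.2 hJm
  have hht : ((n + 1 - h : ℕ) : ℕ∞) ≤ mB.height := by
    let C := R ⧸ P
    let mC : Ideal C := m.map (Ideal.Quotient.mk P)
    haveI : mC.IsMaximal := Ideal.IsMaximal.map_of_surjective_of_ker_le Ideal.Quotient.mk_surjective (by rwa [Ideal.mk_ker])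
    have h1 := Groth.Agent.VarDim.ringKrullDim_quotient_add_height K R P
    rw [hPh, MvPolynomial.ringKrullDim_of_isNoetherianRing, ringKrullDim_eq_zero_of_field, zero_add, Nat.card_fin] at h1
    have h2 := Groth.Agent.VarDim.ringKrullDim_quotient_add_height K C mC
    letI := Ideal.Quotient.field mC
    rw [ringKrullDim_eq_zero_of_field, zero_add] at h2
    rw [← h2] at h1
    have h3 : mC.height + (h : ℕ∞) = ((n + 1 : ℕ) : ℕ∞) := by exact_mod_cast h1
    have h4 : mC.height ≤ mB.height := by
      let π : B →+* C := Ideal.Quotient.factor hP.le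
      have hπ : Function.Surjective π := Ideal.Quotient.factor_surjective hP.le
      have h5 := Order.height_le_height_apply_of_strictMono _
        (RingHom.strictMono_comap_of_surjective hπ) (⟨mC, inferInstance⟩ : PrimeSpectrum C)
      rw [← PrimeSpectrum.height_eq_orderHeight, ← PrimeSpectrum.height_eq_orderHeight] at h5
      refine h5.trans (le_of_eq ?_)
      show Ideal.height (Ideal.comap π mC) = mB.height
      congr 1
      refine ((hmB.eq_of_le (Ideal.comap_ne_top _ (Ideal.IsPrime.ne_top inferInstance)) ?_)).symm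
      rw [Ideal.map_le_iff_le_comap, Ideal.comap_comap]
      exact Ideal.le_comap_map
    refine le_trans ?_ h4
    obtain ⟨c, hc⟩ := ENat.ne_top_iff_exists.1 (Ideal.height_ne_top (I := mC) (Ideal.IsPrime.ne_top inferInstance))
    rw [← hc] at h3 ⊢
    have : c + h = n + 1 := by exact_mod_cast h3
    exact_mod_cast (show n + 1 - h ≤ c by omega)
  have hdepB : mB.height ≤ LocCoh.idealDepth mB B := by
    rw [Groth.Agent.Depth.idealDepth_eq_iInf_depth]
    refine le_iInf₂ fun p hp => ?_
    obtain rfl : p = ⟨mB, inferInstance⟩ := PrimeSpectrum.ext (hmB.eq_of_le p.2.ne_top hp).symm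
    have hcm := LocCoh.IsCohenMacaulayRing.isCohenMacaulayLocalRing_localization (R := B) mB
    have h := hcm.supportDim_eq_depth
    rw [Module.supportDim_self_eq_ringKrullDim, IsLocalization.AtPrime.ringKrullDim_eq_height mB (Localization.AtPrime mB)] at h
    have h' : mB.height = LocCoh.depth (Localization.AtPrime mB) (Localization.AtPrime mB) := WithBot.coe_injective h
    exact le_of_eq (h'.trans (Groth.Agent.Depth.idealDepth_congr (Groth.Agent.Depth.localizedModuleSelfEquiv mB.primeCompl)).symm)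
  have hdep : ((n + 1 - h : ℕ) : ℕ∞) ≤ LocCoh.idealDepth m B := by
    rw [← Groth.Agent.Depth.idealDepth_map_of_surjective (S := B) Ideal.Quotient.mk_surjective m]
    exact hht.trans hdepB
  have hB : ∀ j, j < n + 1 - h → Subsingleton (LocCoh.H m j B) := fun j hj =>
    Groth.Agent.LocCohZW.DepthZ.subsingleton_H_of_lt_idealDepth m j B (lt_of_lt_of_le (by exact_mod_cast hj) hdep)
  have hfI : ∀ r, f * r ∈ J → r ∈ J := fun r hr => by
    rw [← hJf, Submodule.mem_colon_singleton]; rwa [smul_eq_mul, mul_comm]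
  -- multiplication by f on R/J
  let Q := R ⧸ (J ⊔ Ideal.span {f})
  let φ : B →ₗ[R] B := f • LinearMap.id
  let ψ : B →ₗ[R] Q := Submodule.factor le_sup_left
  have hφ : Function.Injective φ := by
    refine (injective_iff_map_eq_zero _).2 fun x hx => ?_
    obtain ⟨x, rfl⟩ := Submodule.Quotient.mk_surjective _ x
    rw [LinearMap.smul_apply, LinearMap.id_apply, ← Submodule.Quotient.mk_smul, Submodule.Quotient.mk_eq_zero] at hx
    exact (Submodule.Quotient.mk_eq_zero _).2 (hfI x (by simpa using hx))
  have hφψ : Function.Exact φ ψ := by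
    intro x
    obtain ⟨x, rfl⟩ := Submodule.Quotient.mk_surjective _ x
    constructor
    · intro hx
      obtain ⟨a, ha, b, hb, rfl⟩ := Submodule.mem_sup.1 ((Submodule.Quotient.mk_eq_zero _).1 hx)
      obtain ⟨c, rfl⟩ := Ideal.mem_span_singleton.1 hb
      refine ⟨Submodule.Quotient.mk c, ?_⟩
      rw [LinearMap.smul_apply, LinearMap.id_apply, ← Submodule.Quotient.mk_smul]
      exact (Submodule.Quotient.eq _).2 (by simpa using neg_mem ha)
    · rintro ⟨c, hc⟩
      obtain ⟨c, rfl⟩ := Submodule.Quotient.mk_surjective _ c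
      rw [← hc, LinearMap.smul_apply, LinearMap.id_apply, ← Submodule.Quotient.mk_smul]
      exact (Submodule.Quotient.mk_eq_zero _).2 (Submodule.mem_sup_right
        (Ideal.mem_span_singleton.2 ⟨c, by simp⟩))
  have hQ : ∀ j, j < n - h → Subsingleton (LocCoh.H m j Q) := fun j hj => by
    haveI := hB j (by omega)
    haveI := hB (j + 1) (by omega)
    refine subsingleton_of_forall_eq 0 fun x => ?_
    obtain ⟨y, rfl⟩ := (Groth.Agent.GrLC.LocCohElt.exact_map_δ m j hφ hφψ (Submodule.factor_surjective le_sup_left) x).1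
      (Subsingleton.elim _ _)
    rw [Subsingleton.elim y 0, map_zero]
  -- the linkage sequence
  have hle : J ⊔ Ideal.span {f} * I ≤ J ⊔ Ideal.span {f} := sup_le_sup_left Ideal.mul_le_left _
  let α : (R ⧸ I) →ₗ[R] (R ⧸ (J ⊔ Ideal.span {f} * I)) :=
    Submodule.mapQ I _ (f • LinearMap.id) (fun r hr => Submodule.mem_sup_right
      (Ideal.mul_mem_mul (Ideal.mem_span_singleton_self f) hr))
  let β : (R ⧸ (J ⊔ Ideal.span {f} * I)) →ₗ[R] Q := Submodule.factor hle
  have hα : Function.Injective α := by
    refine (injective_iff_map_eq_zero _).2 fun x hx => ?_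
    obtain ⟨x, rfl⟩ := Submodule.Quotient.mk_surjective _ x
    obtain ⟨a, ha, b, hb, hab⟩ := Submodule.mem_sup.1 ((Submodule.Quotient.mk_eq_zero _).1 hx)
    obtain ⟨c, hc, rfl⟩ := Ideal.mem_span_singleton_mul.1 hb
    have : x - c ∈ J := hfI _ (by
      have e : f * (x - c) = a := by
        have : a + f * c = f * x := by simpa using hab
        linear_combination -this
      rw [e]; exact ha)
    exact (Submodule.Quotient.mk_eq_zero _).2 (by simpa using add_mem (hJI this) hc)
  have hαβ : Function.Exact α β := by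
    intro x
    obtain ⟨x, rfl⟩ := Submodule.Quotient.mk_surjective _ x
    constructor
    · intro hx
      obtain ⟨a, ha, b, hb, rfl⟩ := Submodule.mem_sup.1 ((Submodule.Quotient.mk_eq_zero _).1 hx)
      obtain ⟨c, rfl⟩ := Ideal.mem_span_singleton.1 hb
      exact ⟨Submodule.Quotient.mk c, (Submodule.Quotient.eq _).2 (Submodule.mem_sup_left (by simpa using neg_mem ha))⟩
    · rintro ⟨c, hc⟩
      obtain ⟨c, rfl⟩ := Submodule.Quotient.mk_surjective _ c
      rw [← hc]
      exact (Submodule.Quotient.mk_eq_zero _).2 (Submodule.mem_sup_right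
        (Ideal.mem_span_singleton.2 ⟨c, by simp⟩))
  haveI hQi := hQ i (by omega)
  refine ⟨(LinearEquiv.ofBijective (Groth.Agent.GrLC.LocCohElt.map m i α) ⟨?_, fun x => ?_⟩).symm⟩
  · rcases i with _ | i
    · exact Groth.Agent.GrLC.LocCohElt.map_zero_injective m hα
    · haveI := hQ i (by omega)
      refine (injective_iff_map_eq_zero _).2 fun x hx => ?_
      obtain ⟨y, rfl⟩ := (Groth.Agent.GrLC.LocCohElt.exact_δ_map m i hα hαβ (Submodule.factor_surjective hle) x).1 hx
      rw [Subsingleton.elim y 0, map_zero]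
  · exact (Groth.Agent.GrLC.LocCohElt.exact_map_map m i hα hαβ (Submodule.factor_surjective hle) x).1 (Subsingleton.elim _ _)

end Groth.Agent.S18872
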