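import Groth.Statements.S18873
import Groth.Agent.ProjDeg48.HilbPoly
import Groth.Agent.ProjDeg48.LinkLength
import Groth.Agent.ProjDeg48.Additive

set_option autoImplicit false
universe u
open Liaison

namespace Groth.Agent.S18873

open Filter Topology MvPolynomial Groth.Agent.GrCI Groth.Agent.S10906

theorem hom_colon {K : Type u} [Field K] {n : ℕ} {𝔠 I : Ideal (MvPolynomial (Fin (n + 1)) K)}
    (h𝔠 : Hom (fun _ => 1) 𝔠) (hI : Hom (fun _ => 1) I) :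
    Hom (fun _ => 1) (𝔠.colon (I : Set (MvPolynomial (Fin (n + 1)) K))) := by
  intro x hx u
  refine Submodule.mem_colon.2 fun y hy => ?_
  rw [smul_eq_mul, ← MvPolynomial.sum_homogeneousComponent y, Finset.mul_sum]
  refine Ideal.sum_mem _ fun v _ => ?_
  have h := h𝔠 _ (Submodule.mem_colon.1 hx _ (hI y hy v)) (v + u)
  rw [smul_eq_mul, mul_comm x, comp_mul (weightedHomogeneousComponent_isWeightedHomogeneous v y),
    if_pos (Nat.le_add_right _ _), Nat.add_sub_cancel_left, mul_comm] at h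
  exact h

/-- Let K be a field, R = K[x_0, …, x_n] graded by degree, 2 ≤ c ≤ n, 𝔠 ⊂ R a homogeneous ideal of
height c such that R/𝔠 is a Gorenstein ring, I ⊂ R a homogeneous ideal of height c containing 𝔠, and
J = 𝔠 : I. Write h_𝔞(j) = dim_K [R/𝔞]_j for the Hilbert function of R/𝔞. If p_𝔠, p_I, p_J ∈ ℚ[t] are
polynomials agreeing with h_𝔠, h_I, h_J in all sufficiently large degrees (Hilbert polynomials; R/𝔠
and R/I have dimension n + 1 − c ≥ 1, and so has R/J unless I = 𝔠, when J = R and p_J = 0), then the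
coefficients of t^(n−c) satisfy p_J = p_𝔠 − p_I in that degree; multiplying by (n − c)! this says
deg J = deg 𝔠 − deg I. -/
theorem result (K : Type u) [Field K] (n c : ℕ) (hc : 2 ≤ c) (hcn : c ≤ n)
    (𝔠 I : Ideal (MvPolynomial (Fin (n + 1)) K))
    (h𝔠 : 𝔠.IsHomogeneous (GrSyz.stdGr K (Fin (n + 1)))) (hI : I.IsHomogeneous (GrSyz.stdGr K (Fin (n + 1))))
    [LocCoh.IsGorensteinRing (MvPolynomial (Fin (n + 1)) K ⧸ 𝔠)] (h𝔠c : 𝔠.height = c) (hIc : I.height = c) (h𝔠I : 𝔠 ≤ I)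
    (p𝔠 pI pJ : Polynomial ℚ)
    (hp𝔠 : ∃ j₀ : ℕ, ∀ j : ℕ, j₀ ≤ j → (Module.finrank K ↥(Submodule.map (Ideal.Quotient.mkₐ K (𝔠)).toLinearMap (GrSyz.stdGr K (Fin (n + 1)) (j : ℤ))) : ℚ) = p𝔠.eval (j : ℚ))
    (hpI : ∃ j₀ : ℕ, ∀ j : ℕ, j₀ ≤ j → (Module.finrank K ↥(Submodule.map (Ideal.Quotient.mkₐ K (I)).toLinearMap (GrSyz.stdGr K (Fin (n + 1)) (j : ℤ))) : ℚ) = pI.eval (j : ℚ))
    (hpJ : ∃ j₀ : ℕ, ∀ j : ℕ, j₀ ≤ j → (Module.finrank K ↥(Submodule.map (Ideal.Quotient.mkₐ K (𝔠.colon (I : Set (MvPolynomial (Fin (n + 1)) K)))).toLinearMap (GrSyz.stdGr K (Fin (n + 1)) (j : ℤ))) : ℚ) = pJ.eval (j : ℚ)) :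
    pJ.coeff (n - c) = p𝔠.coeff (n - c) - pI.coeff (n - c) := by
  classical
  have hc𝔠 := ProjDeg48.hom_of_stdGr h𝔠
  have hcI := ProjDeg48.hom_of_stdGr hI
  set J := 𝔠.colon (I : Set (MvPolynomial (Fin (n + 1)) K))
  have hcJ : 𝔠 ≤ J := fun x hx => Submodule.mem_colon.2 fun y _ => 𝔠.mul_mem_right y hx
  have hJh : Hom (fun _ => 1) J := hom_colon hc𝔠 hcI
  have hev : ∀ (A : Ideal (MvPolynomial (Fin (n + 1)) K)) (P : Polynomial ℚ),
      (∃ j₀ : ℕ, ∀ j : ℕ, j₀ ≤ j → (Module.finrank K ↥(Submodule.map (Ideal.Quotient.mkₐ K A).toLinearMap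
        (GrSyz.stdGr K (Fin (n + 1)) (j : ℤ))) : ℚ) = P.eval (j : ℚ)) →
      ∀ᶠ m : ℕ in atTop, (HF A m : ℚ) = P.eval (m : ℚ) := fun A P h => by
    obtain ⟨j₀, hj⟩ := h
    filter_upwards [eventually_ge_atTop j₀] with m hm
    rw [← ProjDeg48.finrank_stdGr_eq_HF]
    exact hj m hm
  have hlimit : ∀ (A : Ideal (MvPolynomial (Fin (n + 1)) K)) (P : Polynomial ℚ), Hom (fun _ => 1) A → 𝔠 ≤ A →
      (∀ᶠ m : ℕ in atTop, (HF A m : ℚ) = P.eval (m : ℚ)) →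
      Tendsto (fun m : ℕ => (HF A m : ℚ) / (m : ℚ) ^ (n - c)) atTop (𝓝 (P.coeff (n - c))) := by
    intro A P hA h𝔠A hP
    refine (tendsto_eval_div (ProjDeg48.natDegree_le_of_height hA
      (h𝔠c.symm.le.trans (Ideal.height_mono h𝔠A)) hP)).congr' ?_
    filter_upwards [hP] with m hm
    rw [hm]
  have hfin := Ideal.finite_minimalPrimes_of_isNoetherianRing (MvPolynomial (Fin (n + 1)) K) 𝔠
  let e := hfin.toFinset.equivFin.symm
  let p : Fin hfin.toFinset.card → Ideal (MvPolynomial (Fin (n + 1)) K) := fun i => (e i : _)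
  have hpmem : ∀ i, p i ∈ 𝔠.minimalPrimes := fun i => hfin.mem_toFinset.1 (e i).2
  have hpp : ∀ i, (p i).IsPrime := fun i => (hpmem i).1.1
  have hpmin : ∀ q : Ideal (MvPolynomial (Fin (n + 1)) K), q ∈ 𝔠.minimalPrimes ↔ ∃ i, q = p i := fun q =>
    ⟨fun h => ⟨e.symm ⟨q, hfin.mem_toFinset.2 h⟩, by simp [p]⟩, fun ⟨i, hi⟩ => hi ▸ hpmem i⟩
  have hpinj : Function.Injective p := fun i j h => e.injective (Subtype.ext h)
  have hHom : ∀ i, Hom (fun _ : Fin (n + 1) => 1) (p i) := fun i =>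
    hom_of_isHomogeneous (S10915.isHomogeneous_of_mem_minimalPrimes (isHomogeneous_of_hom hc𝔠) (hpmem i))
  choose Qp hQp using fun i => ProjDeg48.exists_hilbPoly (hHom i)
  have main := fun A (hA : Hom (fun _ => 1) A) (h𝔠A : 𝔠 ≤ A) =>
    ProjDeg48.tendsto_HF_of_minimalPrimes 𝔠 (n - c) p hpinj hpmin hHom (fun i => (Qp i).coeff (n - c))
      (fun i => hlimit (p i) (Qp i) (hHom i) (hpmem i).1.2 (hQp i)) A hA h𝔠A
  rw [tendsto_nhds_unique (hlimit J pJ hJh hcJ (hev J pJ hpJ)) (main J hJh hcJ).2,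
    tendsto_nhds_unique (hlimit 𝔠 p𝔠 hc𝔠 le_rfl (hev 𝔠 p𝔠 hp𝔠)) (main 𝔠 hc𝔠 le_rfl).2,
    tendsto_nhds_unique (hlimit I pI hcI h𝔠I (hev I pI hpI)) (main I hcI h𝔠I).2,
    ← Finset.sum_sub_distrib]
  refine Finset.sum_congr rfl fun i _ => ?_
  rw [ProjDeg48.length_link 𝔠 I h𝔠I (p i) (hpmem i),
    ENat.toNat_add ((main I hcI h𝔠I).1 i) ((main J hJh hcJ).1 i)]
  push_cast
  ring

end Groth.Agent.S18873
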