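import Groth.Statements.S18874
import Groth.Agent.LimLib.Proper
import Mathlib.RingTheory.AdicCompletion.LocalRing
import Mathlib.RingTheory.AdicCompletion.AsTensorProduct
import Groth.Agent.LimLib.AtPrimeLimit
import Groth.Agent.FpqcDesc.Props

set_option backward.isDefEq.respectTransparency false
set_option backward.defeqAttrib.useBackward true

set_option autoImplicit false
universe u
open Lim

namespace Groth.Agent.S18874

open CategoryTheory AlgebraicGeometry in
/-- Let S be a quasi-compact scheme whose affine opens have excellent coordinate rings, let X → S and Y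
→ S be quasi-compact, quasi-separated and locally of finite presentation, let f : X → Y be a
morphism over S, let s be a closed point of S and R the completion of the local ring of S at s. If
the base change X ×_S Spec R → Y ×_S Spec R of f is proper, then s has an open neighbourhood W in S
such that X ×_S W → Y ×_S W is proper. (The published statement assumes X and Y only locally of
finite presentation over S; for S the affine line over a field, s the origin, Y = S and X the
disjoint union of S with one reduced point over each closed point other than s, the base change to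
Spec R is an isomorphism while X ×_S W → W is not quasi-compact for any open W ∋ s, so X and Y are
taken of finite presentation over S here, which is what the limit argument of the published proof
uses.) -/
theorem result
    (S : Scheme.{u}) [CompactSpace S] (hS : ∀ U : S.affineOpens, EGA4.IsExcellent Γ(S, U.1))
    {X Y : Scheme.{u}} (f : X ⟶ Y) (g : Y ⟶ S)
    [QuasiCompact g] [QuasiSeparated g] [LocallyOfFinitePresentation g]
    [QuasiCompact (f ≫ g)] [QuasiSeparated (f ≫ g)] [LocallyOfFinitePresentation (f ≫ g)]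
    (s : S) (hs : IsClosed ({s} : Set S))
    (hR : IsProper (Limits.pullback.snd f (Limits.pullback.fst g
      (Spec.map (CommRingCat.ofHom (algebraMap (S.presheaf.stalk s) (EGA4.Cpl (S.presheaf.stalk s)))) ≫
        S.fromSpecStalk s)))) :
    ∃ W : S.Opens, s ∈ W ∧ IsProper (f ∣_ (g ⁻¹ᵁ W)) := by
  obtain ⟨_, ⟨V, hV, rfl⟩, hsV, -⟩ :=
    S.isBasis_affineOpens.exists_subset_of_mem_open (Set.mem_univ s) isOpen_univ
  have hV : IsAffineOpen V := hV
  have : IsNoetherianRing Γ(S, V) := (hS ⟨V, hV⟩).1
  let := TopCat.Presheaf.algebra_section_stalk S.presheaf ⟨s, hsV⟩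
  let pr := (hV.primeIdealOf ⟨s, hsV⟩).asIdeal
  have hloc : IsLocalization.AtPrime (S.presheaf.stalk s) pr := hV.isLocalization_stalk ⟨s, hsV⟩
  have : IsNoetherianRing (S.presheaf.stalk s) :=
    IsLocalization.isNoetherianRing pr.primeCompl (S.presheaf.stalk s) ‹_›
  -- descend from the completion to the local ring
  let σ := S.fromSpecStalk s
  let χ := Spec.map (CommRingCat.ofHom
    (algebraMap (S.presheaf.stalk s) (EGA4.Cpl (S.presheaf.stalk s))))
  have : Module.FaithfullyFlat (S.presheaf.stalk s) (EGA4.Cpl (S.presheaf.stalk s)) :=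
    Module.FaithfullyFlat.of_flat_of_isLocalHom
  have hχ : Flat χ ∧ Surjective χ := by
    refine ⟨(HasRingHomProperty.Spec_iff (P := @Flat)).mpr
      (RingHom.flat_algebraMap_iff.mpr inferInstance), ⟨fun x => ?_⟩⟩
    exact PrimeSpectrum.comap_surjective_of_faithfullyFlat x
  have : Flat χ := hχ.1
  have : Surjective χ := hχ.2
  let b : Limits.pullback g (χ ≫ σ) ⟶ Limits.pullback g σ :=
    Limits.pullback.map _ _ _ _ (𝟙 _) χ (𝟙 _) (by simp) (by simp [σ])
  have hb : IsPullback b (Limits.pullback.snd g (χ ≫ σ)) (Limits.pullback.snd g σ) χ :=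
    IsPullback.of_right (by simpa [b] using IsPullback.of_hasPullback g (χ ≫ σ)) (by simp [b])
      (IsPullback.of_hasPullback g σ)
  have hbF : FpqcDesc.FPQC b :=
    MorphismProperty.of_isPullback hb.flip ⟨⟨inferInstance, inferInstance⟩, inferInstance⟩
  let a := Limits.pullback.fst g σ
  let q : Limits.pullback f (Limits.pullback.fst g (χ ≫ σ)) ⟶ Limits.pullback f a :=
    Limits.pullback.map _ _ _ _ (𝟙 _) b (𝟙 _) (by simp) (by simp [a, b])
  have hq : IsPullback q (Limits.pullback.snd f (Limits.pullback.fst g (χ ≫ σ)))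
      (Limits.pullback.snd f a) b :=
    IsPullback.of_right
      (by simpa [q, a, b] using IsPullback.of_hasPullback f (Limits.pullback.fst g (χ ≫ σ)))
      (by simp [q]) (IsPullback.of_hasPullback f a)
  have hP : IsProper (Limits.pullback.snd f a) :=
    (FpqcDesc.descendsAlong_isProper).of_isPullback hq.flip hbF hR
  -- the local ring as a limit
  let D : (LimLib.AwayIdx pr)ᵒᵖ ⥤ Scheme.{u} := (LimLib.AwayIdx.rings pr).op ⋙ Scheme.Spec
  let c : Limits.Cone D := Scheme.Spec.mapCone (LimLib.AwayIdx.cocone pr (S.presheaf.stalk s)).op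
  have hc : Limits.IsLimit c :=
    Limits.isLimitOfPreserves Scheme.Spec (LimLib.AwayIdx.isColimitCocone pr _).op
  have (i : (LimLib.AwayIdx pr)ᵒᵖ) : IsAffine (D.obj i) := inferInstanceAs (IsAffine (Spec _))
  let i₀ : (LimLib.AwayIdx pr)ᵒᵖ := Opposite.op LimLib.AwayIdx.one
  let m (i : (LimLib.AwayIdx pr)ᵒᵖ) : D.obj i ⟶ S :=
    Spec.map (CommRingCat.ofHom (algebraMap Γ(S, V) (Localization.Away i.unop.val))) ≫ hV.fromSpec
  have hm {i j : (LimLib.AwayIdx pr)ᵒᵖ} (e : i ⟶ j) : D.map e ≫ m j = m i := by
    show Spec.map _ ≫ Spec.map _ ≫ _ = Spec.map _ ≫ _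
    rw [← Category.assoc, ← Spec.map_comp]
    congr 2
    exact CommRingCat.hom_ext (RingHom.ext fun x => LimLib.AwayIdx.tr_algebraMap e.unop.le x)
  have hσ : c.π.app i₀ ≫ m i₀ = σ := by
    show Spec.map _ ≫ Spec.map _ ≫ _ = _
    rw [← Category.assoc, ← Spec.map_comp]
    refine Eq.trans ?_ (IsAffineOpen.fromSpecStalk_eq_fromSpecStalk hV hsV)
    refine congrArg (Spec.map · ≫ hV.fromSpec) ?_
    exact CommRingCat.hom_ext (RingHom.ext fun x => LimLib.AwayIdx.toAtPrime_algebraMap pr (S.presheaf.stalk s) _ x)
  let pY₀ := Limits.pullback.fst g (m i₀)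
  let g₀ := Limits.pullback.snd g (m i₀)
  let f₀ := Limits.pullback.snd f pY₀
  have : CompactSpace ↥(Limits.pullback g (m i₀)) :=
    QuasiCompact.compactSpace_of_compactSpace g₀
  have : QuasiSeparatedSpace ↥(Limits.pullback g (m i₀)) :=
    quasiSeparatedSpace_of_quasiSeparated g₀
  have hX₀ : IsPullback (Limits.pullback.fst f pY₀) (f₀ ≫ g₀) (f ≫ g) (m i₀) :=
    (IsPullback.of_hasPullback f pY₀).paste_vert (IsPullback.of_hasPullback g (m i₀))
  have : QuasiCompact (f₀ ≫ g₀) := MorphismProperty.of_isPullback hX₀ ‹_›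
  have : QuasiSeparated (f₀ ≫ g₀) := MorphismProperty.of_isPullback hX₀ ‹_›
  have : CompactSpace ↥(Limits.pullback f pY₀) :=
    QuasiCompact.compactSpace_of_compactSpace (f₀ ≫ g₀)
  have : QuasiSeparatedSpace ↥(Limits.pullback f pY₀) :=
    quasiSeparatedSpace_of_quasiSeparated (f₀ ≫ g₀)
  have : LocallyOfFiniteType f := locallyOfFiniteType_of_comp f g
  have hf₀ : LocallyOfFiniteType f₀ := MorphismProperty.pullback_snd _ _ ‹_›
  let qY : Limits.pullback g σ ⟶ Limits.pullback g (m i₀) :=
    Limits.pullback.lift (Limits.pullback.fst g σ) (Limits.pullback.snd g σ ≫ c.π.app i₀) (by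
      rw [Category.assoc, hσ, Limits.pullback.condition])
  have hY : IsPullback qY (Limits.pullback.snd g σ) g₀ (c.π.app i₀) :=
    IsPullback.of_right (by simpa [qY, hσ] using IsPullback.of_hasPullback g σ) (by simp [qY, g₀])
      (IsPullback.of_hasPullback g (m i₀))
  let qX : Limits.pullback f a ⟶ Limits.pullback f pY₀ :=
    Limits.pullback.lift (Limits.pullback.fst f a) (Limits.pullback.snd f a ≫ qY) (by
      simp [qY, pY₀, a, Limits.pullback.condition])
  have hX : IsPullback qX (Limits.pullback.snd f a) f₀ qY :=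
    IsPullback.of_right (by simpa [qX, qY, pY₀, a] using IsPullback.of_hasPullback f a)
      (by simp [qX, f₀]) (IsPullback.of_hasPullback f pY₀)
  obtain ⟨i, φ, Xi, Yi, fi, gi, pY, pX, hYi, hXi, hpi⟩ :=
    LimLib.Descends.exists_stage hc f₀ hY hX LimLib.descends_isProper hf₀ hP
  -- the neighbourhood
  have hopen : IsOpenImmersion (m i) := by
    have : IsOpenImmersion (Spec.map (CommRingCat.ofHom
        (algebraMap Γ(S, V) (Localization.Away i.unop.val)))) :=
      IsOpenImmersion.of_isLocalization i.unop.val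
    exact MorphismProperty.comp_mem _ _ _ this inferInstance
  have hYi' : IsPullback (pY ≫ pY₀) gi g (m i) := by
    have := hYi.paste_horiz (IsPullback.of_hasPullback g (m i₀))
    rwa [hm φ] at this
  have hXi' : IsPullback (pX ≫ Limits.pullback.fst f pY₀) fi f (pY ≫ pY₀) :=
    hXi.paste_horiz (IsPullback.of_hasPullback f pY₀)
  refine ⟨(m i).opensRange, ?_, ?_⟩
  · refine ⟨c.π.app i (IsLocalRing.closedPoint (S.presheaf.stalk s)), ?_⟩
    have : c.π.app i ≫ m i = σ := by rw [← hm φ, ← Category.assoc, c.w, hσ]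
    show (c.π.app i ≫ m i) _ = s
    rw [this]
    exact Scheme.fromSpecStalk_closedPoint
  · have : IsOpenImmersion (pY ≫ pY₀) := MorphismProperty.of_isPullback hYi'.flip hopen
    have hsub : Set.range (g ⁻¹ᵁ (m i).opensRange).ι ⊆ Set.range (pY ≫ pY₀) := by
      rw [Scheme.Opens.range_ι, ← hYi'.isoPullback_hom_fst, Scheme.Hom.comp_base, TopCat.coe_comp,
        Set.range_comp, hYi'.isoPullback.hom.surjective.range_eq, Set.image_univ,
        Scheme.Pullback.range_fst]
      exact le_refl _
    exact LimLib.property_of_factor (P := @IsProper) hXi' (isPullback_morphismRestrict f _).flip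
      (IsOpenImmersion.lift (pY ≫ pY₀) _ hsub) (IsOpenImmersion.lift_fac _ _ _) hpi

end Groth.Agent.S18874
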