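import Groth.Statements.S18877
import Groth.Agent.Wt.GenFibCons
import Groth.Agent.SecComp.GeomCount
import Groth.Agent.LimTop.Closure

set_option autoImplicit false
universe u
open Lim

namespace Groth.Agent.S18877

open CategoryTheory AlgebraicGeometry in
theorem preconnected_iff (α : Type*) [TopologicalSpace α] :
    PreconnectedSpace α ↔ ENat.card (ConnectedComponents α) ≤ 1 := by
  rw [ENat.card_le_one_iff_subsingleton]
  refine ⟨fun _ => inferInstance, fun h => preconnectedSpace_iff_connectedComponent.mpr fun x => ?_⟩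
  exact Set.eq_univ_of_forall fun y => ConnectedComponents.coe_eq_coe'.mp (Subsingleton.elim _ _)

open CategoryTheory AlgebraicGeometry in
theorem preconnected_of_iso {X Y : Scheme.{u}} (e : X ≅ Y) (h : PreconnectedSpace X) : PreconnectedSpace Y :=
  ⟨by
    have := h.isPreconnected_univ.image (Scheme.homeoOfIso e) (Scheme.homeoOfIso e).continuous.continuousOn
    rwa [Set.image_univ, (Scheme.homeoOfIso e).surjective.range_eq] at this⟩

open CategoryTheory AlgebraicGeometry in
/-- Let S = lim S_i be a cofiltered limit of Noetherian schemes with affine transition morphisms, let X₀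
→ S_{i₀} be a scheme of finite type over one stage and X → S its base change to the limit. If all
geometric fibres of X → S are connected, then for some stage S_i → S_{i₀} all geometric fibres of
the base change X₀ ×_{S_{i₀}} S_i → S_i are connected. (Connected is read so as to allow the empty
fibre: the underlying space of each geometric fibre is preconnected; the geometric fibre of X₀
×_{S_{i₀}} S_i over Spec Ω → S_i is written as the pullback of X₀ → S_{i₀} along Spec Ω → S_i →
S_{i₀}.) -/
theorem result {I : Type u} [SmallCategory I] [IsCofiltered I]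
    (D : I ⥤ Scheme.{u}) (c : Limits.Cone D) (hc : Limits.IsLimit c)
    [∀ (i j : I) (a : i ⟶ j), IsAffineHom (D.map a)] [∀ i : I, AlgebraicGeometry.IsNoetherian (D.obj i)]
    (i₀ : I) {X₀ : Scheme.{u}} (f₀ : X₀ ⟶ D.obj i₀) [QuasiCompact f₀] [LocallyOfFiniteType f₀]
    {X : Scheme.{u}} (f : X ⟶ c.pt) (q : X ⟶ X₀) (hX : IsPullback q f f₀ (c.π.app i₀))
    (hconn : ∀ (Ω : Type u) [Field Ω] [IsAlgClosed Ω] (t : Spec (CommRingCat.of Ω) ⟶ c.pt),
      PreconnectedSpace ↥(Limits.pullback f t)) :
    ∃ (i : I) (a : i ⟶ i₀), ∀ (Ω : Type u) [Field Ω] [IsAlgClosed Ω] (t : Spec (CommRingCat.of Ω) ⟶ D.obj i),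
      PreconnectedSpace ↥(Limits.pullback f₀ (t ≫ D.map a)) := by
  haveI : IsLocallyNoetherian X₀ := LocallyOfFiniteType.isLocallyNoetherian f₀
  haveI : QuasiSeparated f₀ := inferInstance
  haveI : LocallyOfFinitePresentation f₀ := inferInstance
  let C : Set (D.obj i₀) := {y | MoreMor.nGeomConnComp f₀ y = 0} ∪ {y | MoreMor.nGeomConnComp f₀ y = 1}
  have hC : Topology.IsLocallyConstructible C :=
    (Wt.GenFib.isLocallyConstructible_nGeomConnComp f₀ 0).union
      (Wt.GenFib.isLocallyConstructible_nGeomConnComp f₀ 1)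
  have hmem : ∀ y, y ∈ C ↔ MoreMor.nGeomConnComp f₀ y ≤ 1 := fun y =>
    ⟨fun h => by rcases h with (h : _ = _) | (h : _ = _) <;> simp [h],
      fun h => (Order.le_one_iff.mp h).imp id id⟩
  obtain ⟨i, a, hsub⟩ := LimTop.exists_subset hc (i₀ := i₀) (fun _ _ ↦ Set.univ)
    (fun j φ ↦ D.map φ ⁻¹' C) (fun _ _ ↦ LimTop.isProConstructible_of_isLocallyConstructible .univ)
    (fun j φ ↦ LimTop.isIndConstructible_of_isLocallyConstructible
      (LimTop.isLocallyConstructible_preimage _ hC))
    (fun _ _ _ _ ↦ Set.subset_univ _)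
    (fun j k ψ φ x hx ↦ by
      show D.map (ψ ≫ φ) x ∈ C
      rw [D.map_comp, Scheme.Hom.comp_apply]
      exact hx)
    (fun s _ ↦ ⟨i₀, 𝟙 i₀, by
      show D.map (𝟙 i₀) (c.π.app i₀ s) ∈ C
      rw [D.map_id]
      show c.π.app i₀ s ∈ C
      rw [hmem]
      obtain ⟨L, _, _, pt, hpt⟩ := SecComp.exists_algClosed_point c.pt s
      have hn := (SecComp.nGeom_eq f pt).2
      rw [hpt] at hn
      have hb := (Wt.GenFib.nGeom_baseChange hX s).2
      rw [← hb, ← hn]
      exact (preconnected_iff _).1 (hconn L pt)⟩)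
  refine ⟨i, a, fun Ω _ _ t ↦ (preconnected_iff _).2 ?_⟩
  rw [(SecComp.nGeom_eq f₀ (t ≫ D.map a)).2, ← hmem]
  exact hsub (Set.mem_univ (t (IsLocalRing.closedPoint Ω)))

end Groth.Agent.S18877
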