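import Groth.Statements.S18878
import Groth.Agent.LimGrp.Subgroup

set_option autoImplicit false
set_option backward.isDefEq.respectTransparency false
set_option backward.defeqAttrib.useBackward true
universe u
open Lim

namespace Groth.Agent.S18878

open CategoryTheory AlgebraicGeometry in
/-- Let S = lim S_i be a cofiltered limit of schemes with affine transition morphisms over a
quasi-compact quasi-separated stage S_{i₀}, let G₀ be a group scheme separated and of finite
presentation over S_{i₀} and H₀ ⊆ G₀ a closed subscheme whose immersion is of finite presentation,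
and write G, H (resp. G_i, H_i) for the base changes to S (resp. to a stage S_i). If H is a closed
subgroup scheme of G, that is H carries a group structure over S for which H → G is a homomorphism,
then H_i is a closed subgroup scheme of G_i for some stage i → i₀; if moreover H is normal in G, the
stage can be chosen so that H_i is normal in G_i. (The published statement is for separated finitely
presented group algebraic spaces and an arbitrary closed subspace H₀; this row is the case of
schemes and assumes H₀ → G₀ of finite presentation: over the limit Spec k of the spectra of k[x_1,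
x_2, …]/(x_1, …, x_n), k of characteristic zero, the closed subscheme of the additive group cut out
by all x_m t^m becomes the whole additive group over Spec k but is a subgroup over no stage, so a
finiteness condition on H₀ is needed, and finite presentation is what the published limit argument
uses.) -/
theorem result
    {I : Type u} [SmallCategory I] [IsCofiltered I]
    (D : I ⥤ Scheme.{u}) (c : Limits.Cone D) (hc : Limits.IsLimit c)
    [∀ (i j : I) (a : i ⟶ j), IsAffineHom (D.map a)] (i₀ : I)
    [CompactSpace (D.obj i₀)] [QuasiSeparatedSpace (D.obj i₀)]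
    (G₀ : Over (D.obj i₀)) [GrpObj G₀] [IsSeparated G₀.hom] [QuasiCompact G₀.hom]
    [LocallyOfFinitePresentation G₀.hom]
    (H₀ : Over (D.obj i₀)) (ι₀ : H₀ ⟶ G₀) [IsClosedImmersion ι₀.left]
    [LocallyOfFinitePresentation ι₀.left]
    (hH : ∃ _ : GrpObj (Red.bc (c.π.app i₀) H₀), IsMonHom ((Over.pullback (c.π.app i₀)).map ι₀)) :
    (∃ (i : I) (a : i ⟶ i₀) (_ : GrpObj (Red.bc (D.map a) H₀)),
        IsMonHom ((Over.pullback (D.map a)).map ι₀)) ∧
    ((∃ (_ : GrpObj (Red.bc (c.π.app i₀) H₀)) (_ : IsMonHom ((Over.pullback (c.π.app i₀)).map ι₀)),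
        AlgGrp.IsNormalHom ((Over.pullback (c.π.app i₀)).map ι₀)) →
      ∃ (i : I) (a : i ⟶ i₀) (_ : GrpObj (Red.bc (D.map a) H₀))
        (_ : IsMonHom ((Over.pullback (D.map a)).map ι₀)),
        AlgGrp.IsNormalHom ((Over.pullback (D.map a)).map ι₀)) := by
  haveI : QuasiSeparated G₀.hom := inferInstance
  haveI : QuasiCompact H₀.hom := by rw [← Over.w ι₀]; infer_instance
  haveI : QuasiSeparated H₀.hom := by rw [← Over.w ι₀]; infer_instance
  haveI : LocallyOfFinitePresentation H₀.hom := by rw [← Over.w ι₀]; infer_instance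
  haveI : QuasiCompact (MonoidalCategoryStruct.tensorUnit (Over (D.obj i₀))).hom :=
    inferInstanceAs (QuasiCompact (𝟙 (D.obj i₀)))
  haveI : QuasiSeparated (MonoidalCategoryStruct.tensorUnit (Over (D.obj i₀))).hom :=
    inferInstanceAs (QuasiSeparated (𝟙 (D.obj i₀)))
  -- the system of stages over `i₀`
  let D' := CategoryTheory.Over.forget i₀ ⋙ D
  let c' := c.whisker (CategoryTheory.Over.forget i₀)
  let top : CategoryTheory.Over i₀ := CategoryTheory.Over.mk (𝟙 i₀)
  have hc' : Limits.IsLimit c' := (Functor.Initial.isLimitWhiskerEquiv (CategoryTheory.Over.forget i₀) c).symm hc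
  haveI : ∀ (j k : CategoryTheory.Over i₀) (a : j ⟶ k), IsAffineHom (D'.map a) :=
    fun j k a => inferInstanceAs (IsAffineHom (D.map a.left))
  haveI : ∀ j, CompactSpace (D'.obj j) := fun j =>
    show CompactSpace (D.obj j.left) from QuasiCompact.compactSpace_of_compactSpace (D.map j.hom)
  haveI : ∀ j, QuasiSeparatedSpace (D'.obj j) := fun j =>
    show QuasiSeparatedSpace (D.obj j.left) from quasiSeparatedSpace_of_quasiSeparated (D.map j.hom)
  have dS := @LimGrp.desc_subgroupAt _ _ _ D' c' hc' _ _ _ top G₀ H₀ ‹GrpObj G₀› ‹QuasiCompact G₀.hom› ‹QuasiSeparated G₀.hom› ‹LocallyOfFinitePresentation G₀.hom› ‹QuasiCompact H₀.hom› ‹QuasiSeparated H₀.hom› ‹LocallyOfFinitePresentation H₀.hom› ι₀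
  have dS' : LimGrp.SubgroupAt ι₀ (c.π.app i₀) → ∃ (j : CategoryTheory.Over i₀), LimGrp.SubgroupAt ι₀ (D.map j.hom) := by
    intro h
    obtain ⟨j, a, h'⟩ := dS.descends h
    refine ⟨j, ?_⟩
    have e : a.left = j.hom := by simpa [top] using CategoryTheory.Over.w a
    rw [← e]
    exact h'
  refine ⟨?_, ?_⟩
  · obtain ⟨g₀, hg₀⟩ := hH
    obtain ⟨j, hj⟩ := dS' (LimGrp.subgroupAt_of_grpObj ι₀ (c.π.app i₀))
    exact ⟨j.left, j.hom, LimGrp.exists_grpObj_of_subgroupAt ι₀ (D.map j.hom) hj⟩
  · rintro ⟨g₀, hg₀, hn⟩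
    have dC := @LimGrp.desc_factorsAt _ _ _ D' c' hc' _ _ _ top (MonoidalCategoryStruct.tensorObj G₀ H₀) H₀ G₀
      inferInstance inferInstance ‹LocallyOfFinitePresentation H₀.hom› inferInstance (LimGrp.conjHom ι₀) ι₀
    obtain ⟨j, a, h1, h2⟩ := (dS.and dC).descends ⟨LimGrp.subgroupAt_of_grpObj ι₀ (c.π.app i₀),
      (LimGrp.isNormalHom_iff' ι₀ (c.π.app i₀)).mp hn⟩
    obtain ⟨gj, hgj⟩ := LimGrp.exists_grpObj_of_subgroupAt ι₀ (D.map a.left) h1
    exact ⟨j.left, a.left, gj, hgj, (LimGrp.isNormalHom_iff' ι₀ (D.map a.left)).mpr h2⟩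

end Groth.Agent.S18878
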