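import Groth.Statements.S18879
import Groth.Agent.DimIneq.Basic


set_option autoImplicit false
universe u
open CategoryTheory AlgebraicGeometry
open Resolve

namespace Groth.Agent.S18879

/-- Let f : Y ⟶ X be a morphism locally of finite type between Noetherian separated schemes which is
birational: it maps the maximal points of Y bijectively onto the maximal points of X, and over every
maximal point of X its fibre is one point with the same residue field. Then for every point y of Y,
the Krull dimension of the local ring of Y at y is at most the Krull dimension of the local ring of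
X at f y (the codimension of a point does not increase along f). -/
theorem result {X Y : Scheme.{u}} (f : Y ⟶ X)
    [IsNoetherian X] [X.IsSeparated] [IsNoetherian Y] [Y.IsSeparated] [LocallyOfFiniteType f]
    (hf : RadPt.IsBirational f) (y : Y) :
    ringKrullDim (Y.presheaf.stalk y) ≤ ringKrullDim (X.presheaf.stalk (f.base y)) := by
  obtain ⟨n, -, hle⟩ := DimIneq.exists_trdeg_stalk_le f y 0 fun ξ hξ _ => by
    letI := (f.residueFieldMap ξ).hom.toAlgebra
    obtain ⟨hbij, hres⟩ := hf
    have hbij' := (hres (f ξ) (hbij.mapsTo hξ)).2 ξ rfl
    haveI : Algebra.IsAlgebraic (X.residueField (f.base ξ)) (Y.residueField ξ) := ⟨fun a => by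
      obtain ⟨b, hb⟩ := hbij'.2 a
      rw [← hb]
      exact isAlgebraic_algebraMap (R := X.residueField (f.base ξ)) (A := Y.residueField ξ) b⟩
    exact le_of_eq_of_le trdeg_eq_zero (by simp)
  calc ringKrullDim (Y.presheaf.stalk y) ≤ ringKrullDim (Y.presheaf.stalk y) + n :=
        le_add_of_nonneg_right (by exact_mod_cast Nat.zero_le n)
    _ ≤ ringKrullDim (X.presheaf.stalk (f.base y)) + (0 : ℕ) := hle
    _ = _ := by simp

end Groth.Agent.S18879
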