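import Groth.Statements.S1888
import Groth.Agent.GrpdLib.OnFieldTranslate

set_option autoImplicit false
universe u
open CategoryTheory CategoryTheory.Limits AlgebraicGeometry
open Grpd

namespace Groth.Agent.S1888

/-- Let (U, R, s, t, c) be a groupoid scheme over S with U the spectrum of a field k, and r a point of R
such that both s and t induce isomorphisms from k to κ(r). Then there is an automorphism of the
scheme R carrying the identity point e to r. (The source's automorphism is x ↦ c(r, x); only the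
existence of an automorphism moving e to r is stated here.) (A groupoid scheme carries U, R, s, t,
c, e, i over S with the groupoid axioms on T-points; 'finite locally free' is finite, flat and
locally of finite presentation; C ⊂ Γ(U) is the ring of functions a with s♯(a) = t♯(a) and M = Spec
C.) -/
theorem result (S : Scheme.{u}) (G : Grpd.GroupoidScheme S) (k : Type u) [Field k] (eU : G.U ≅ Spec (CommRingCat.of k)) (r : G.R) (hs : IsIso (G.s.residueFieldMap r)) (ht : IsIso (G.t.residueFieldMap r)) : ∃ φ : G.R ≅ G.R, φ.hom (G.e (eU.inv (IsLocalRing.closedPoint k))) = r := by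
  -- the section of t through r
  let γ : Spec (G.R.residueField r) ⟶ G.R := G.R.fromSpecResidueField r
  have hU : Subsingleton G.U := by
    have : Subsingleton (Spec (CommRingCat.of k)) := inferInstanceAs (Subsingleton (PrimeSpectrum k))
    exact eU.hom.homeomorph.injective.subsingleton
  have : IsAffine G.U := IsAffine.of_isIso eU.hom
  have key : ∀ (f : G.R ⟶ G.U), IsIso (f.residueFieldMap r) → IsIso (γ ≫ f) := fun f hf => by
    rw [← Scheme.Hom.SpecMap_residueFieldMap_fromSpecResidueField f r]
    have : IsIso (G.U.fromSpecResidueField (f r)) := by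
      have : Surjective (G.U.fromSpecResidueField (f r)) :=
        ⟨fun x => ⟨IsLocalRing.closedPoint _, Subsingleton.elim _ _⟩⟩
      have : IsReduced G.U := isReduced_of_isOpenImmersion eU.hom
      have : IsClosedImmersion (G.U.fromSpecResidueField (f r)) :=
        IsClosedImmersion.of_isPreimmersion _ (isClosed_discrete _)
      exact isIso_of_isClosedImmersion_of_surjective _
    infer_instance
  have := key G.s hs
  have := key G.t ht
  let x : G.U ⟶ G.R := inv (γ ≫ G.s) ≫ γ
  let σ : G.U ⟶ G.U := inv (γ ≫ G.s) ≫ γ ≫ G.t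
  have hxs : x ≫ G.s = 𝟙 _ := by simp [x]
  have hxt : x ≫ G.t = σ := by simp [x, σ]
  have hxe : IsIso σ := inferInstanceAs (IsIso (inv (γ ≫ G.s) ≫ γ ≫ G.t))
  let fwd : G.R ⟶ G.R := GrpdLib.comp G (G.t ≫ x) (𝟙 _) (by simp [hxs])
  let bwd : G.R ⟶ G.R := GrpdLib.comp G ((G.t ≫ inv σ ≫ x) ≫ G.i) (𝟙 _) (by simp [hxt])
  have hfwd : fwd ≫ G.t = G.t ≫ σ := by simp [fwd, hxt]
  have hbwd : bwd ≫ G.t = G.t ≫ inv σ := by simp [bwd, hxs]
  have h₁ : fwd ≫ bwd = 𝟙 _ := by
    rw [GrpdLib.naturality]
    refine (GrpdLib.comp_congr G _ (by simp [fwd, hxs]) ?_ (Category.comp_id fwd)).trans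
      (GrpdLib.i_comp_cancel G (G.t ≫ x) (𝟙 _) (by simp [hxs]))
    rw [← Category.assoc fwd, reassoc_of% hfwd, IsIso.hom_inv_id_assoc]
  have h₂ : bwd ≫ fwd = 𝟙 _ := by
    rw [GrpdLib.naturality]
    refine (GrpdLib.comp_congr G _ (by simp [bwd, hxs]) (β' := bwd) ?_
      (Category.comp_id bwd)).trans
      (GrpdLib.comp_i_cancel G (G.t ≫ inv σ ≫ x) (𝟙 _) (by simp [hxt]))
    rw [← Category.assoc bwd, hbwd, Category.assoc]
  refine ⟨⟨fwd, bwd, h₁, h₂⟩, ?_⟩
  change fwd (G.e (eU.inv (IsLocalRing.closedPoint k))) = r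
  rw [← Scheme.Hom.comp_apply G.e fwd]
  rw [show G.e ≫ fwd = x from ?_]
  · change (inv (γ ≫ G.s) ≫ γ) _ = r
    rw [Scheme.Hom.comp_apply]
    exact Scheme.fromSpecResidueField_apply ..
  · rw [GrpdLib.naturality]
    refine (GrpdLib.comp_congr G _ (by simp [hxs, G.e_t]) ?_ (by simp)).trans
      (GrpdLib.comp_e G x (𝟙 _) (by simp [hxs, G.e_t]))
    rw [reassoc_of% G.e_t]

end Groth.Agent.S1888
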