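import Groth.Statements.S18884
import Mathlib.Algebra.Group.Subgroup.Basic

set_option autoImplicit false
universe v u w
open CategoryTheory CategoryTheory.Limits
open Desc

namespace Groth.Agent.S18884

/-- Let C be a category with pullbacks equipped with a class W of morphisms, the covers, stable under
base change and under composition. An abelian cosheaf is a functor F : C ⥤ Ab such that for every
cover π : Y ⟶ X the map F(π) is surjective and its kernel is the image of F(p₁) − F(p₂), where p₁,
p₂ : Y ×_X Y ⟶ Y are the two projections. If D is a full subcategory of C such that every object of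
C is the target of a cover whose source lies in D, then the restriction functor from the full
subcategory of abelian cosheaves in C ⥤ Ab to D ⥤ Ab is full and faithful. -/
theorem result {C : Type u} [Category.{v} C]
    [HasPullbacks C] (W : MorphismProperty C) [W.IsStableUnderBaseChange] [W.IsStableUnderComposition]
    (D : ObjectProperty C) (hD : ∀ X : C, ∃ (Y : C) (π : Y ⟶ X), W π ∧ D Y) :
    (ObjectProperty.ι (fun F : C ⥤ AddCommGrpCat.{w} =>
        ∀ ⦃Y X : C⦄ (π : Y ⟶ X), W π → Function.Surjective (F.map π).hom ∧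
          (F.map π).hom.ker = ((F.map (pullback.fst π π)).hom - (F.map (pullback.snd π π)).hom).range) ⋙
      (Functor.whiskeringLeft D.FullSubcategory C AddCommGrpCat.{w}).obj D.ι).Full ∧
    (ObjectProperty.ι (fun F : C ⥤ AddCommGrpCat.{w} =>
        ∀ ⦃Y X : C⦄ (π : Y ⟶ X), W π → Function.Surjective (F.map π).hom ∧
          (F.map π).hom.ker = ((F.map (pullback.fst π π)).hom - (F.map (pullback.snd π π)).hom).range) ⋙
      (Functor.whiskeringLeft D.FullSubcategory C AddCommGrpCat.{w}).obj D.ι).Faithful := by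
  choose Y π hπ hY using hD
  have cmp : ∀ (F : C ⥤ AddCommGrpCat.{w}) {a b c : C} (f : a ⟶ b) (g : b ⟶ c) (x : F.obj a),
      (F.map g).hom ((F.map f).hom x) = (F.map (f ≫ g)).hom x := fun F _ _ _ f g x => by simp
  constructor
  · refine ⟨fun {F G} θ => ?_⟩
    have hFs : ∀ X, Function.Surjective (F.obj.map (π X)).hom := fun X => (F.property _ (hπ X)).1
    have hk : ∀ X, (F.obj.map (π X)).hom.ker ≤
        ((θ.app ⟨Y X, hY X⟩) ≫ G.obj.map (π X)).hom.ker := by
      intro X
      rw [(F.property _ (hπ X)).2]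
      rintro _ ⟨q, rfl⟩
      obtain ⟨z, rfl⟩ := (F.property _ (hπ (pullback (π X) (π X)))).1 q
      have hn : ∀ a : pullback (π X) (π X) ⟶ Y X,
          (θ.app ⟨Y X, hY X⟩ ≫ G.obj.map (π X)).hom
              ((F.obj.map a).hom ((F.obj.map (π (pullback (π X) (π X)))).hom z)) =
            (G.obj.map ((π (pullback (π X) (π X)) ≫ a) ≫ π X)).hom
              ((θ.app ⟨Y (pullback (π X) (π X)), hY _⟩).hom z) := by
        intro a
        have := θ.naturality (X := ⟨Y (pullback (π X) (π X)), hY _⟩) (Y := ⟨Y X, hY X⟩)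
          (ObjectProperty.homMk (π (pullback (π X) (π X)) ≫ a))
        have e := congrArg (fun m => (m ≫ G.obj.map (π X)).hom z) this
        simpa using e
      rw [AddMonoidHom.mem_ker, AddMonoidHom.sub_apply, map_sub, hn, hn, sub_eq_zero]
      simp only [Category.assoc, pullback.condition]
    let η : ∀ X, F.obj.obj X ⟶ G.obj.obj X := fun X =>
      AddCommGrpCat.ofHom ((F.obj.map (π X)).hom.liftOfSurjective (hFs X) ⟨_, hk X⟩)
    have hη : ∀ (X : C) y, (η X).hom ((F.obj.map (π X)).hom y) =
        (G.obj.map (π X)).hom ((θ.app ⟨Y X, hY X⟩).hom y) := fun X y =>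
      AddMonoidHom.liftOfRightInverse_comp_apply _ _ _ ⟨_, hk X⟩ y
    have key : ∀ (T : D.FullSubcategory) (X : C) (k : T.obj ⟶ X) t,
        (η X).hom ((F.obj.map k).hom t) = (G.obj.map k).hom ((θ.app T).hom t) := by
      intro T X k t
      let P := pullback k (π X)
      let σ : Y P ⟶ T.obj := π P ≫ pullback.fst k (π X)
      have hσ : W σ := W.comp_mem _ _ (hπ P) (W.pullback_fst _ _ (hπ X))
      obtain ⟨z, rfl⟩ := (F.property σ hσ).1 t
      have e : σ ≫ k = (π P ≫ pullback.snd k (π X)) ≫ π X := by
        simp only [σ, Category.assoc, pullback.condition]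
      have n1 := congrArg (fun m => m.hom z) (θ.naturality (X := ⟨Y P, hY P⟩) (Y := T) (ObjectProperty.homMk σ))
      have n2 := congrArg (fun m => m.hom z)
        (θ.naturality (X := ⟨Y P, hY P⟩) (Y := ⟨Y X, hY X⟩) (ObjectProperty.homMk (π P ≫ pullback.snd k (π X))))
      have n1' : (θ.app T).hom ((F.obj.map σ).hom z) = (G.obj.map σ).hom ((θ.app ⟨Y P, hY P⟩).hom z) := n1
      have n2' : (θ.app ⟨Y X, hY X⟩).hom ((F.obj.map (π P ≫ pullback.snd k (π X))).hom z) =
          (G.obj.map (π P ≫ pullback.snd k (π X))).hom ((θ.app ⟨Y P, hY P⟩).hom z) := n2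
      have d : (F.obj.map k).hom ((F.obj.map σ).hom z) =
          (F.obj.map (π X)).hom ((F.obj.map (π P ≫ pullback.snd k (π X))).hom z) := by
        rw [cmp, cmp, e]
      rw [d, hη]
      show (G.obj.map (π X)).hom ((θ.app ⟨Y X, hY X⟩).hom ((F.obj.map (π P ≫ pullback.snd k (π X))).hom z)) = _
      rw [n2', n1', cmp, cmp, e]
    refine ⟨ObjectProperty.homMk ⟨η, fun X X' h => ?_⟩, ?_⟩
    · ext x
      obtain ⟨y, rfl⟩ := hFs X x
      show (η X').hom ((F.obj.map h).hom ((F.obj.map (π X)).hom y)) =
        (G.obj.map h).hom ((η X).hom ((F.obj.map (π X)).hom y))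
      rw [hη, cmp, cmp, key ⟨Y X, hY X⟩]
    · ext T t
      have := key T T.obj (𝟙 _) t
      simpa using this
  · refine ⟨fun {F G} a b h => ?_⟩
    ext X x
    obtain ⟨y, rfl⟩ := (F.property _ (hπ X)).1 x
    have e := congrArg (fun m => (G.obj.map (π X)).hom ((m.app ⟨Y X, hY X⟩).hom y)) h
    have na : (a.hom.app X).hom ((F.obj.map (π X)).hom y) = (G.obj.map (π X)).hom ((a.hom.app (Y X)).hom y) :=
      congrArg (fun m => m.hom y) (a.hom.naturality (π X))
    have nb : (b.hom.app X).hom ((F.obj.map (π X)).hom y) = (G.obj.map (π X)).hom ((b.hom.app (Y X)).hom y) :=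
      congrArg (fun m => m.hom y) (b.hom.naturality (π X))
    exact na.trans (e.trans nb.symm)

end Groth.Agent.S18884
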