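import Groth.Statements.S18885
import Groth.Agent.Detect77.Dim
import Groth.Agent.Detect77.Normalize
-- import your own Groth.Agent.* helpers here

set_option autoImplicit false
set_option backward.isDefEq.respectTransparency false
set_option backward.isDefEq.respectTransparency.types false
set_option linter.style.haveILetI false
universe u
open CategoryTheory AlgebraicGeometry
open W4c6detectregular2

namespace Groth.Agent.S18885


open CategoryTheory CategoryTheory.Limits AlgebraicGeometry W4c6detectregular2

section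

variable {S T : Scheme.{u}} (t : T ⟶ S) [IsNoetherian S]

omit [AlgebraicGeometry.IsNoetherian S] in
theorem eq_genericPoint_of_dim_zero {X : Scheme.{u}} [AlgebraicGeometry.IsIntegral X] (x : X)
    (h : ringKrullDim (X.presheaf.stalk x) = 0) : x = genericPoint X := by
  obtain ⟨U, hU, hxU, -⟩ := exists_isAffineOpen_mem_and_subset (x := x) (U := (⊤ : X.Opens)) trivial
  haveI : Nonempty U := ⟨⟨x, hxU⟩⟩
  haveI : IsDomain Γ(X, U) := IsIntegral.component_integral U
  have hξ : genericPoint X ∈ U := ((genericPoint_spec X).specializes trivial).mem_open U.2 hxU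
  rw [Groth.Agent.Detect77.height_eq_stalk hU hxU] at h
  have h0 : (hU.primeIdealOf ⟨x, hxU⟩).asIdeal.height = 0 := by exact_mod_cast h
  have h1 : hU.primeIdealOf ⟨x, hxU⟩ = hU.primeIdealOf ⟨genericPoint X, hξ⟩ := by
    refine le_antisymm ?_ ((Groth.Agent.CycLib.primeIdealOf_le_iff hU _ _).2 ?_)
    · have hb : (hU.primeIdealOf ⟨x, hxU⟩).asIdeal = ⊥ := Ideal.height_eq_zero_iff_eq_bot.1 h0
      intro a ha
      rw [hb, Submodule.mem_bot] at ha
      rw [ha]
      exact zero_mem _
    · rw [hU.fromSpec_primeIdealOf, hU.fromSpec_primeIdealOf]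
      exact (genericPoint_spec X).specializes trivial
  have h2 := congrArg hU.fromSpec h1
  rwa [hU.fromSpec_primeIdealOf, hU.fromSpec_primeIdealOf] at h2

/-- An open subscheme as an object. -/
noncomputable def openObj (X : SchFT T) [IsNoetherian X.left] (U : X.left.Opens) : SchFT T :=
  MorphismProperty.Over.mk _ (U.ι ≫ X.hom) (by
    obtain ⟨h1, h2, h3⟩ := X.prop
    haveI : LocallyOfFiniteType X.hom := h1
    haveI : QuasiCompact X.hom := h2
    haveI : IsSeparated X.hom := h3
    exact ⟨inferInstance, inferInstance, inferInstance⟩)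

/-- A scheme proper over an object, as an object. -/
noncomputable def propObj (X : SchFT T) {Z : Scheme.{u}} (i : Z ⟶ X.left) [IsProper i] : SchFT T :=
  MorphismProperty.Over.mk _ (i ≫ X.hom) (by
    obtain ⟨h1, h2, h3⟩ := X.prop
    haveI : LocallyOfFiniteType X.hom := h1
    haveI : QuasiCompact X.hom := h2
    haveI : IsSeparated X.hom := h3
    exact ⟨inferInstance, inferInstance, inferInstance⟩)

/-- The proper morphism from `propObj`. -/
noncomputable def propHom (X : SchFT T) {Z : Scheme.{u}} (i : Z ⟶ X.left) [IsProper i] : propObj X i ⟶ X :=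
  MorphismProperty.Over.homMk i rfl ‹IsProper i›

theorem isNoetherian_left [IsNoetherian T] (X : SchFT T) : IsNoetherian X.left := by
  obtain ⟨h1, h2, -⟩ := X.prop
  let f : X.left ⟶ T := X.hom
  haveI : LocallyOfFiniteType f := h1
  haveI : QuasiCompact f := h2
  haveI := LocallyOfFiniteType.isLocallyNoetherian f
  haveI := QuasiCompact.compactSpace_of_compactSpace f
  exact { }

theorem dimLE_complement {X : SchFT T} (U : X.left.Opens) (n : ℤ)
    (h : ∀ x : X.left, x ∉ U → dimPt (X.hom ≫ t) x ≤ n) :
    let C : Scheme.IdealSheafData X.left := Scheme.IdealSheafData.vanishingIdeal ⟨(U : Set X.left)ᶜ, U.2.isClosed_compl⟩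
    DimLE ((propObj X C.subschemeι).hom ≫ t) n ∧ Set.range C.subschemeι = (U : Set X.left)ᶜ := by
  intro C
  have hr : Set.range C.subschemeι = (U : Set X.left)ᶜ := by
    rw [Scheme.IdealSheafData.range_subschemeι]
    exact Scheme.IdealSheafData.coe_support_vanishingIdeal _
  refine ⟨fun z => ?_, hr⟩
  have e := Groth.Agent.Detect77.dimPt_comp_of_surjective C.subschemeι (X.hom ≫ t) z (by
    letI := C.subschemeι.stalkMap_surjective z
    intro w
    obtain ⟨w', rfl⟩ := Scheme.residue_surjective _ z w
    obtain ⟨v, rfl⟩ := C.subschemeι.stalkMap_surjective z w'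
    exact ⟨X.left.residue _ v, RingHom.congr_fun
      (congrArg CommRingCat.Hom.hom (Scheme.residue_residueFieldMap C.subschemeι z)) v⟩)
  show dimPt ((C.subschemeι ≫ X.hom) ≫ t) z ≤ n
  rw [Category.assoc, e]
  exact h _ (fun hz => (hr.le ⟨z, rfl⟩ : C.subschemeι z ∈ (U : Set X.left)ᶜ) hz)

variable {t}

theorem phi_eq_zero [IsNoetherian T] [T.IsSeparated] [S.IsSeparated] [LocallyOfFiniteType t]
    (hqe : ∀ U : S.affineOpens, EGA4.IsQuasiExcellent Γ(S, U))
    {G H : ResFun T} (one : ∀ X : SchFT T, G.F.obj X)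
    (hG2 : G.F2) (hH2 : H.F2) (hG3 : G.F3) (hG4a : G.F4a one) (hG4b : G.F4b one) (hG5 : G.F5 t one)
    {d : ℤ} (hii : H.VanLE t d) {φ : G.F ⟶ H.F} (hiv : G.ResCompat H φ) (hv : G.KillsRegular H t one φ) :
    ∀ n : ℤ, n ≤ d → ∀ (Y : SchFT T), AlgebraicGeometry.IsIntegral Y.left → DimLE (Y.hom ≫ t) n →
      (φ.app Y).hom (one Y) = 0 := by
  intro n hn
  obtain hle | hgt := le_or_gt n (d - 2)
  · intro Y _ hY
    haveI := hii Y (fun x => (hY x).trans hle)
    exact Subsingleton.elim _ _
  revert hn
  refine Int.le_induction (m := d - 2) (motive := fun n _ => n ≤ d → ∀ (Y : SchFT T),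
    AlgebraicGeometry.IsIntegral Y.left → DimLE (Y.hom ≫ t) n → (φ.app Y).hom (one Y) = 0) ?_ ?_ n hgt.le
  · intro _ Y _ hY
    haveI := hii Y hY
    exact Subsingleton.elim _ _
  intro n hn ih hnd Y hint hY
  haveI := isNoetherian_left Y
  obtain ⟨hY1, hY2, hY3⟩ := Y.prop
  haveI : LocallyOfFiniteType Y.hom := hY1
  haveI : QuasiCompact Y.hom := hY2
  haveI : IsSeparated Y.hom := hY3
  haveI : AlgebraicGeometry.IsIntegral ((𝟭 Scheme).obj Y.left) := hint
  haveI : CompactSpace T := inferInstance
  haveI : QuasiCompact t := inferInstance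
  haveI : IsSeparated t := inferInstance
  obtain ⟨Y', π, V, hint', hnorm, hπ, hqp, hV, hV', hiso⟩ :=
    Groth.Agent.Detect77.exists_model (X := Y.left) (Y.hom ≫ t) hqe
  haveI := hπ
  haveI := hiso
  let P := propObj Y π
  let pπ : P ⟶ Y := propHom Y π
  haveI := isNoetherian_left P
  haveI : AlgebraicGeometry.IsIntegral P.left := hint'
  have hqp' : RelProj.IsQuasiProjective (P.hom ≫ t) := by
    show RelProj.IsQuasiProjective ((π ≫ Y.hom) ≫ t)
    rw [Category.assoc]; exact hqp
  haveI : LocallyOfFiniteType (P.hom ≫ t) := hqp'.1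
  -- the generic dimension of the model
  have hgen : dimPt (P.hom ≫ t) (genericPoint P.left) ≤ n + 1 := by
    show dimPt ((π ≫ Y.hom) ≫ t) (genericPoint Y') ≤ n + 1
    rw [Category.assoc, Groth.Agent.Detect77.dimPt_comp_of_surjective π (Y.hom ≫ t) (genericPoint Y') ?_]
    · exact hY _
    · let z : (π ⁻¹ᵁ V).toScheme := ⟨genericPoint Y', hV'⟩
      have h2 : (π ∣_ V ≫ V.ι).residueFieldMap z = V.ι.residueFieldMap ((π ∣_ V) z) ≫ (π ∣_ V).residueFieldMap z :=
        Scheme.residueFieldMap_comp _ _ _
      have h3 := Scheme.residueFieldMap_comp (π ⁻¹ᵁ V).ι π z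
      rw [Scheme.Hom.residueFieldMap_congr (morphismRestrict_ι π V) z] at h2
      haveI : IsIso (((π ⁻¹ᵁ V).ι ≫ π).residueFieldMap z) := by
        haveI : IsOpenImmersion ((π ⁻¹ᵁ V).ι ≫ π) := by rw [← morphismRestrict_ι]; infer_instance
        infer_instance
      rw [h3] at this
      have h4 : IsIso (π.residueFieldMap ((π ⁻¹ᵁ V).ι z)) := IsIso.of_isIso_comp_right _ ((π ⁻¹ᵁ V).ι.residueFieldMap z)
      exact (ConcreteCategory.bijective_of_isIso (π.residueFieldMap ((π ⁻¹ᵁ V).ι z))).2
  -- the unit of the model is killed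
  let O : P.left.Opens := ⟨_, Groth.Agent.Detect77.isOpen_regular (P.hom ≫ t) hqe⟩
  have hP0 : (φ.app P).hom (one P) = 0 := by
    let R := openObj P O
    have hR : (φ.app R).hom (one R) = 0 := by
      refine hv R (fun r => ?_) ?_
      · haveI : IsRegularLocalRing (P.left.presheaf.stalk r.1) := r.2
        exact IsRegularLocalRing.of_ringEquiv (O.stalkIso r).symm.commRingCatIsoToRingEquiv
      · obtain ⟨Q, j, g, hj, -, -, hg, hjg⟩ := Groth.Agent.BlowUp.QProj.exists_dense_projective _ hqp'
        refine ⟨Q, O.ι ≫ j, g, inferInstance, hg, ?_⟩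
        show (O.ι ≫ j) ≫ g = (O.ι ≫ P.hom) ≫ t
        rw [Category.assoc, hjg, Category.assoc]
    obtain ⟨hdim, hr⟩ := dimLE_complement t (X := P) O (n - 1) fun x hx => by
      obtain ⟨c, hc, hle⟩ := Groth.Agent.Detect77.dimPt_add_le (X := P.left) (P.hom ≫ t) x
      have : 2 ≤ c := by
        by_contra hlt
        refine hx ?_
        haveI : IsDomain (P.left.presheaf.stalk x) := (hnorm x).1
        haveI : IsIntegrallyClosed (P.left.presheaf.stalk x) := (hnorm x).2
        exact Groth.Agent.Props.NormalCM.isRegularLocalRing_of_dim_le_one _ (by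
          rw [hc]; exact_mod_cast Nat.lt_succ_iff.1 (not_le.1 hlt))
      omega
    let C := Scheme.IdealSheafData.vanishingIdeal (⟨(O : Set P.left)ᶜ, O.2.isClosed_compl⟩ : TopologicalSpace.Closeds P.left)
    have hker : (φ.app P).hom (one P) ∈ (H.res (U := R) (X := P) O.ι inferInstance rfl).hom.ker := by
      rw [AddMonoidHom.mem_ker]
      have e := congrArg (fun m => m.hom (one P)) (hiv (U := R) (X := P) O.ι inferInstance rfl)
      refine (e.symm.trans ?_)
      show (φ.app R).hom ((G.res (U := R) (X := P) O.ι inferInstance rfl).hom (one P)) = 0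
      rw [hG4a (U := R) (X := P) O.ι inferInstance rfl (Or.inl inferInstance)]
      exact hR
    obtain ⟨h, hh⟩ := hH2 (propHom P C.subschemeι) (U := R) O.ι inferInstance rfl
      (inferInstanceAs (IsClosedImmersion C.subschemeι)) (by
        show Set.range C.subschemeι = (Set.range O.ι)ᶜ
        rw [Scheme.Opens.range_ι]; exact hr) hker
    haveI := hii (propObj P C.subschemeι) (fun z => (hdim z).trans (by omega))
    rw [← hh, Subsingleton.elim h 0, map_zero]
  -- compare with the pushed forward unit
  let U := openObj Y V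
  let U' := openObj P (π ⁻¹ᵁ V)
  let gU : U' ⟶ U := MorphismProperty.Over.homMk (π ∣_ V) (by
    show (π ∣_ V) ≫ V.ι ≫ Y.hom = (π ⁻¹ᵁ V).ι ≫ π ≫ Y.hom
    rw [morphismRestrict_ι_assoc]) (inferInstanceAs (IsProper (π ∣_ V)))
  have hres : one Y - (G.F.map pπ).hom (one P) ∈ (G.res (U := U) (X := Y) V.ι inferInstance rfl).hom.ker := by
    rw [AddMonoidHom.mem_ker, map_sub, sub_eq_zero, hG4a (U := U) (X := Y) V.ι inferInstance rfl (Or.inl hint)]
    have e := congrArg (fun m => m.hom (one P))
      (hG3 (U := U) (V := U') (X := Y) (Y := P) V.ι inferInstance rfl (π ⁻¹ᵁ V).ι inferInstance rfl pπ gU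
        (isPullback_morphismRestrict π V).flip)
    refine (e.trans ?_).symm
    show (G.F.map gU).hom ((G.res (U := U') (X := P) (π ⁻¹ᵁ V).ι inferInstance rfl).hom (one P)) = one U
    rw [hG4a (U := U') (X := P) (π ⁻¹ᵁ V).ι inferInstance rfl (Or.inl inferInstance)]
    haveI : Nonempty V := ⟨⟨_, hV⟩⟩
    refine hG4b gU hiso (Or.inl ?_)
    show AlgebraicGeometry.IsIntegral V.toScheme
    haveI : Nonempty V.toScheme := ⟨⟨_, hV⟩⟩
    exact isIntegral_of_isOpenImmersion V.ι
  obtain ⟨hdimC, hrC⟩ := dimLE_complement t (X := Y) V n fun x hx => by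
    haveI : LocallyOfFiniteType (Y.hom ≫ t) := inferInstance
    obtain ⟨c, hc, hle⟩ := Groth.Agent.Detect77.dimPt_add_le (X := Y.left) (Y.hom ≫ t) x
    have := hY (genericPoint Y.left)
    have : c ≠ 0 := fun h0 => hx (by
      rw [eq_genericPoint_of_dim_zero x (hc.trans (by rw [h0]; rfl))]
      exact hV)
    omega
  let C := Scheme.IdealSheafData.vanishingIdeal (⟨(V : Set Y.left)ᶜ, V.2.isClosed_compl⟩ : TopologicalSpace.Closeds Y.left)
  obtain ⟨g, hg⟩ := hG2 (propHom Y C.subschemeι) (U := U) V.ι inferInstance rfl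
    (inferInstanceAs (IsClosedImmersion C.subschemeι)) (by
      show Set.range C.subschemeι = (Set.range V.ι)ᶜ
      rw [Scheme.Opens.range_ι]; exact hrC) hres
  have hgz : (φ.app (propObj Y C.subschemeι)).hom g = 0 := by
    have hle : AddSubgroup.closure _ ≤ (φ.app (propObj Y C.subschemeι)).hom.ker :=
      (AddSubgroup.closure_le _).2 (?_ : {a : G.F.obj (propObj Y C.subschemeι) | ∃ (W : SchFT T) (f : W ⟶ _),
        AlgebraicGeometry.IsIntegral W.left ∧
        (∀ m : ℤ, DimLE ((propObj Y C.subschemeι).hom ≫ t) m → DimLE (W.hom ≫ t) m) ∧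
        a = (G.F.map f).hom (one W)} ⊆ _)
    · rw [hG5 (propObj Y C.subschemeι)] at hle
      exact hle trivial
    · rintro _ ⟨W, f, hW, hdW, rfl⟩
      show (φ.app _).hom ((G.F.map f).hom (one W)) = 0
      have e := congrArg (fun m => m.hom (one W)) (φ.naturality f)
      refine e.trans ?_
      show (H.F.map f).hom ((φ.app W).hom (one W)) = 0
      rw [ih (by omega) W hW (hdW n hdimC), map_zero]
  have e : one Y = (G.F.map (propHom Y C.subschemeι)).hom g + (G.F.map pπ).hom (one P) := by
    rw [hg, sub_add_cancel]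
  rw [e, map_add]
  have e1 := congrArg (fun m => m.hom g) (φ.naturality (propHom Y C.subschemeι))
  have e2 := congrArg (fun m => m.hom (one P)) (φ.naturality pπ)
  refine (congrArg₂ (· + ·) (e1.trans ?_) (e2.trans ?_)).trans (add_zero 0)
  · show (H.F.map _).hom ((φ.app _).hom g) = 0
    rw [hgz, map_zero]
  · show (H.F.map _).hom ((φ.app P).hom (one P)) = 0
    rw [hP0, map_zero]

end

/-- Let S be a Noetherian separated scheme which is quasi-excellent (every affine open has a
quasi-excellent coordinate ring) and t : T ⟶ S separated of finite type. Let G and H be functors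
from the category of separated finite-type T-schemes with proper T-morphisms to abelian groups, each
equipped with restriction maps along open immersions over T and satisfying (F2): for a closed
immersion i and the open immersion u of its complement, the kernel of u^* lies in the image of i_*.
Assume G moreover satisfies (F3): u^* f_* = g_* v^* for cartesian squares of an open immersion u
against a proper f; carries elements 1_X with u^*(1_X) = 1_U for open immersions and f_*(1_Y) = 1_X
for T-isomorphisms whenever X is integral or empty (F4); and (F5): G(X) is generated by the f_*(1_Y)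
with Y integral, f proper and dim_S Y ≤ dim_S X. Let d be an integer such that (i) every G(X) is
generated by the f_*(1_Y) with Y integral and dim_S Y ≤ d, and (ii) H(X) = 0 whenever dim_S X ≤ d -
2; here dim_S is bounded pointwise, the relative dimension of a point being the transcendence degree
of its residue field over that of its image in S minus the codimension of that image. Then every
natural transformation φ : G ⟶ H (compatibility with proper push-forwards) which commutes with the
restriction maps and satisfies φ_R(1_R) = 0 for every R all of whose local rings are regular and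
which is quasi-projective over S (an open immersion followed by a projective morphism) vanishes:
φ_X(a) = 0 for every X and every a ∈ G(X). -/
theorem result {S T : Scheme.{u}}
    (t : T ⟶ S) [IsNoetherian S] [S.IsSeparated]
    (hqe : ∀ U : S.affineOpens, EGA4.IsQuasiExcellent Γ(S, U))
    [IsNoetherian T] [T.IsSeparated] [LocallyOfFiniteType t]
    (G H : W4c6detectregular2.ResFun T) (one : ∀ X : W4c6detectregular2.SchFT T, G.F.obj X)
    (hG2 : G.F2) (hH2 : H.F2) (hG3 : G.F3) (hG4a : G.F4a one) (hG4b : G.F4b one) (hG5 : G.F5 t one)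
    (d : ℤ) (hi : G.GenLE t one d) (hii : H.VanLE t d)
    (φ : G.F ⟶ H.F) (hiv : G.ResCompat H φ) (hv : G.KillsRegular H t one φ)
    (X : W4c6detectregular2.SchFT T) (a : G.F.obj X) : (φ.app X).hom a = 0 := by
  haveI : S.IsSeparated := inferInstance
  have hle : AddSubgroup.closure _ ≤ (φ.app X).hom.ker :=
    (AddSubgroup.closure_le _).2 (?_ : {a : G.F.obj X | ∃ (Y : W4c6detectregular2.SchFT T) (f : Y ⟶ X),
      AlgebraicGeometry.IsIntegral Y.left ∧
      W4c6detectregular2.DimLE (Y.hom ≫ t) d ∧ a = (G.F.map f).hom (one Y)} ⊆ _)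
  · rw [hi X] at hle
    exact hle trivial
  · rintro _ ⟨Y, f, hY, hd, rfl⟩
    show (φ.app X).hom ((G.F.map f).hom (one Y)) = 0
    refine (congrArg (fun m => m.hom (one Y)) (φ.naturality f)).trans ?_
    show (H.F.map f).hom ((φ.app Y).hom (one Y)) = 0
    rw [phi_eq_zero hqe one hG2 hH2 hG3 hG4a hG4b hG5 hii hiv hv d le_rfl Y hY hd, map_zero]

end Groth.Agent.S18885
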