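import Groth.Statements.S18887
-- import your own Groth.Agent.* helpers here

set_option autoImplicit false
universe u v
open DblCov

namespace Groth.Agent.S18887

/-- Let A be a commutative ring in which 2 is invertible and B a commutative A-algebra which is free of
rank 2 as an A-module and whose trace form tr : B → A has kernel free of rank 1 over A. Then σ(b) =
tr(b) − b defines an A-algebra endomorphism σ of B with σ ≠ id and σ ∘ σ = id, and the elements
fixed by σ are exactly the image of A in B. -/
theorem result {A : Type u} {B : Type v} [CommRing A] [CommRing B]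
    [Algebra A B] (h2 : IsUnit (2 : A)) [Module.Free A B] [Module.Finite A B]
    (hrk : Module.finrank A B = 2)
    [Module.Free A (LinearMap.ker (Algebra.trace A B))]
    (hker : Module.finrank A (LinearMap.ker (Algebra.trace A B)) = 1) :
    ∃ σ : B →ₐ[A] B, (∀ b : B, σ b = algebraMap A B (Algebra.trace A B b) - b) ∧
      σ ≠ AlgHom.id A B ∧ σ.comp σ = AlgHom.id A B ∧
      ∀ b : B, σ b = b ↔ b ∈ Set.range (algebraMap A B) := by
  have hA : Nontrivial A := by
    by_contra hA
    rw [not_nontrivial_iff_subsingleton] at hA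
    rw [Module.finrank_subsingleton] at hrk
    omega
  obtain ⟨u, hu⟩ := h2.exists_left_inv
  let t := Algebra.trace A B
  have ht1 : ∀ a : A, t (algebraMap A B a) = 2 * a := fun a => by
    rw [Algebra.trace_algebraMap, hrk, two_nsmul, two_mul]
  haveI : Module.Finite A (LinearMap.ker t) := Module.finite_of_finrank_eq_succ hker
  let β := Module.finBasisOfFinrankEq A (LinearMap.ker t) hker
  let z : B := (β 0 : B)
  have hz : t z = 0 := (β 0).2
  have hspan : ∀ b : B, ∃ c d : A, b = algebraMap A B c + d • z := by
    intro b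
    have hm : b - algebraMap A B (u * t b) ∈ LinearMap.ker t := by
      rw [LinearMap.mem_ker, map_sub, ht1, sub_eq_zero, ← mul_assoc, mul_comm 2 u, hu, one_mul]
    refine ⟨u * t b, β.repr ⟨_, hm⟩ 0, ?_⟩
    have := congrArg Subtype.val (β.sum_repr ⟨_, hm⟩)
    rw [Fin.sum_univ_one] at this
    change β.repr ⟨_, hm⟩ 0 • z = b - algebraMap A B (u * t b) at this
    rw [this]; abel
  have huniq : ∀ c d : A, algebraMap A B c + d • z = 0 → c = 0 ∧ d = 0 := by
    intro c d h
    have h1 := congrArg t h
    rw [map_add, map_smul, hz, smul_zero, add_zero, ht1, map_zero] at h1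
    have hc : c = 0 := by
      have := congrArg (u * ·) h1
      simpa [← mul_assoc, hu] using this
    refine ⟨hc, ?_⟩
    subst hc
    rw [map_zero, zero_add] at h
    have h2 : d • β 0 = 0 := Subtype.ext h
    have := congrArg (fun w => β.repr w 0) h2
    simpa using this
  let f : (Fin 2 → A) →ₗ[A] B :=
    (LinearMap.proj 0).smulRight 1 + (LinearMap.proj 1).smulRight z
  have hf : ∀ v, f v = algebraMap A B (v 0) + v 1 • z := fun v => by
    simp [f, Algebra.algebraMap_eq_smul_one]
  have hbij : Function.Bijective f := by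
    refine ⟨(injective_iff_map_eq_zero f).2 fun v hv => ?_, fun b => ?_⟩
    · rw [hf] at hv
      obtain ⟨h0, h1⟩ := huniq _ _ hv
      funext i
      fin_cases i
      · exact h0
      · exact h1
    · obtain ⟨c, d, rfl⟩ := hspan b
      exact ⟨![c, d], by simp [hf]⟩
  let bs : Module.Basis (Fin 2) A B := .ofEquivFun (LinearEquiv.ofBijective f hbij).symm
  have hrepr : ∀ c d i, bs.repr (algebraMap A B c + d • z) i = ![c, d] i := fun c d i => by
    have : (LinearEquiv.ofBijective f hbij).symm (algebraMap A B c + d • z) = ![c, d] := by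
      rw [LinearEquiv.symm_apply_eq, LinearEquiv.ofBijective_apply, hf]; simp
    rw [Module.Basis.ofEquivFun_repr_apply, this]
  obtain ⟨a, e, hzz⟩ := hspan (z * z)
  have he : e = 0 := by
    have h1 := hz
    rw [show t z = (Algebra.leftMulMatrix bs z).trace from Algebra.trace_eq_matrix_trace bs z,
      Matrix.trace, Fin.sum_univ_two] at h1
    simp only [Matrix.diag, Algebra.leftMulMatrix_eq_repr_mul] at h1
    have hb0 : bs 0 = 1 := by simp [bs, hf]
    have hb1 : bs 1 = z := by simp [bs, hf]
    rw [hb0, hb1, mul_one, hzz, hrepr, show z = algebraMap A B 0 + (1 : A) • z by simp, hrepr] at h1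
    simpa using h1
  subst he
  rw [zero_smul, add_zero] at hzz
  have hσ : ∀ c d : A, algebraMap A B (t (algebraMap A B c + d • z)) - (algebraMap A B c + d • z) =
      algebraMap A B c - d • z := fun c d => by
    rw [map_add, map_smul, hz, smul_zero, add_zero, ht1, two_mul, map_add]; abel
  let σ₀ : B →ₗ[A] B := (Algebra.linearMap A B).comp t - LinearMap.id
  have hσ₀ : ∀ b, σ₀ b = algebraMap A B (t b) - b := fun b => rfl
  let σ : B →ₐ[A] B := AlgHom.ofLinearMap σ₀
    (by
      rw [hσ₀]
      have := hσ 1 0
      simpa using this)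
    (fun x y => by
      obtain ⟨c, d, rfl⟩ := hspan x
      obtain ⟨c', d', rfl⟩ := hspan y
      have hxy : (algebraMap A B c + d • z) * (algebraMap A B c' + d' • z) =
          algebraMap A B (c * c' + d * d' * a) + (c * d' + d * c') • z := by
        simp only [Algebra.smul_def, map_add, map_mul]
        linear_combination (algebraMap A B d * algebraMap A B d') * hzz
      rw [hxy, hσ₀, hσ₀, hσ₀, hσ, hσ, hσ]
      simp only [Algebra.smul_def, map_add, map_mul]
      linear_combination -(algebraMap A B d * algebraMap A B d') * hzz)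
  refine ⟨σ, fun b => rfl, fun h => ?_, AlgHom.ext fun b => ?_, fun b => ?_⟩
  · have h1 : σ₀ z = z := DFunLike.congr_fun h z
    rw [hσ₀, hz, map_zero, zero_sub] at h1
    obtain ⟨-, h2⟩ := huniq 0 2 (by rw [map_zero, zero_add, two_smul]; exact neg_eq_iff_add_eq_zero.1 h1)
    rw [h2, mul_zero] at hu
    exact zero_ne_one hu
  · change σ₀ (σ₀ b) = b
    obtain ⟨c, d, rfl⟩ := hspan b
    rw [hσ₀ (algebraMap A B c + d • z), hσ, sub_eq_add_neg, ← neg_smul, hσ₀, hσ, neg_smul, sub_neg_eq_add]
  · change σ₀ b = b ↔ _
    constructor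
    · intro h
      refine ⟨u * t b, ?_⟩
      rw [hσ₀, sub_eq_iff_eq_add] at h
      rw [map_mul, h, mul_add, ← add_mul, ← map_add, ← two_mul, mul_comm 2 u, hu, map_one, one_mul]
    · rintro ⟨c, rfl⟩
      rw [hσ₀, ht1, two_mul, map_add]; abel

end Groth.Agent.S18887
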