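import Mathlib
import Groth.Statements.S18888
-- import your own Groth.Agent.* helpers here

set_option autoImplicit false
universe u v w
open CAlg

namespace Groth.Agent.S18888

/-- Let A be a unique factorisation domain in which 2 is invertible, with fraction field K, and let L ⊇
K be a quadratic extension field (of degree 2 over K) containing an element y ∉ K whose square is a
squarefree element d of A. Then the integral closure of A in L equals the A-subalgebra A[y]
generated by y. -/
theorem result {A : Type u} {K : Type v} {L : Type w}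
    [CommRing A] [IsDomain A] [UniqueFactorizationMonoid A] [Field K] [Algebra A K] [IsFractionRing A K]
    [Field L] [Algebra K L] [Algebra A L] [IsScalarTower A K L]
    (h2 : IsUnit (2 : A)) (hL : Module.finrank K L = 2)
    (d : A) (hd : Squarefree d) (y : L) (hy : y * y = algebraMap A L d)
    (hyK : y ∉ Set.range (algebraMap K L)) :
    integralClosure A L = Algebra.adjoin A {y} := by
  classical
  open Polynomial in
  refine le_antisymm (fun z hz => ?_) (Algebra.adjoin_le ?_)
  swap
  · intro w hw
    rw [Set.mem_singleton_iff] at hw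
    subst hw
    exact IsIntegral.of_pow (n := 2) two_pos (by rw [pow_two, hy]; exact isIntegral_algebraMap)
  have hfd : FiniteDimensional K L := Module.finite_of_finrank_eq_succ hL
  have hind : LinearIndependent K ![(1 : L), y] := by
    rw [LinearIndependent.pair_iff' one_ne_zero]
    intro c hc
    exact hyK ⟨c, by rw [← hc, Algebra.algebraMap_eq_smul_one]⟩
  let bb : Module.Basis (Fin 2) K L :=
    basisOfLinearIndependentOfCardEqFinrank hind (by rw [hL]; rfl)
  obtain ⟨a, b, hab⟩ : ∃ a b : K, z = algebraMap K L a + algebraMap K L b * y := by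
    refine ⟨bb.repr z 0, bb.repr z 1, ?_⟩
    conv_lhs => rw [← bb.sum_repr z]
    simp [Fin.sum_univ_two, bb, Algebra.smul_def]
  have hzK : IsIntegral K z := IsIntegral.tower_top (R := A) hz
  have hint : IsIntegrallyClosed A := inferInstance
  have hy' : y * y = algebraMap K L (algebraMap A K d) := by rw [hy, ← IsScalarTower.algebraMap_apply]
  suffices h : (∃ a₀, algebraMap A K a₀ = a) ∧ ∃ b₀, algebraMap A K b₀ = b by
    obtain ⟨⟨a₀, rfl⟩, ⟨b₀, rfl⟩⟩ := h
    rw [hab, ← IsScalarTower.algebraMap_apply, ← IsScalarTower.algebraMap_apply]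
    exact Subalgebra.add_mem _ (Subalgebra.algebraMap_mem _ _)
      (Subalgebra.mul_mem _ (Subalgebra.algebraMap_mem _ _) (Algebra.subset_adjoin rfl))
  by_cases hb : b = 0
  · subst hb
    refine ⟨IsIntegrallyClosed.isIntegral_iff.mp ?_, 0, map_zero _⟩
    rw [map_zero, zero_mul, add_zero] at hab
    exact (isIntegral_algebraMap_iff (algebraMap K L).injective).mp (hab ▸ hz)
  let q : Polynomial K := X ^ 2 - C (2 * a) * X + C (a * a - algebraMap A K d * (b * b))
  have hqz : aeval z q = 0 := by
    simp only [q, map_add, map_sub, map_mul, map_pow, aeval_X, aeval_C, hab, map_ofNat]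
    linear_combination (algebraMap K L b * algebraMap K L b) * hy'
  have hqdeg : q.natDegree = 2 := by simp only [q]; compute_degree!
  have hqm : q.Monic := by simp only [q]; monicity!
  have hzdeg : 2 ≤ (minpoly K z).natDegree := by
    rw [minpoly.two_le_natDegree_iff hzK]
    rintro ⟨c, hc⟩
    apply hyK
    refine ⟨(c - a) / b, ?_⟩
    have hb' : algebraMap K L b ≠ 0 := by rwa [ne_eq, map_eq_zero]
    rw [map_div₀, map_sub, hc, hab, add_sub_cancel_left, mul_div_cancel_left₀ _ hb']
  have hq : minpoly K z = q := (Polynomial.eq_of_monic_of_dvd_of_natDegree_le (minpoly.monic hzK) hqm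
    (minpoly.dvd K z hqz) (hqdeg ▸ hzdeg)).symm
  rw [show minpoly K z = _ from minpoly.isIntegrallyClosed_eq_field_fractions' K hz] at hq
  have h1 := congrArg (fun p => p.coeff 1) hq
  have h0 := congrArg (fun p => p.coeff 0) hq
  simp only [q, Polynomial.coeff_map, coeff_add, coeff_sub, coeff_X_pow, coeff_C_mul, coeff_X_one, coeff_C] at h1
  simp only [q, Polynomial.coeff_map, coeff_add, coeff_sub, coeff_X_pow, coeff_C_mul, coeff_X_zero, coeff_C] at h0
  norm_num at h1 h0
  obtain ⟨u, hu⟩ := h2
  have ha : algebraMap A K (((u⁻¹ : Aˣ) : A) * (-(minpoly A z).coeff 1)) = a := by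
    rw [map_mul, map_neg, h1, neg_neg, ← map_ofNat (algebraMap A K) 2, ← hu, ← mul_assoc, ← map_mul, Units.inv_mul, map_one, one_mul]
  refine ⟨⟨_, ha⟩, ?_⟩
  obtain ⟨p, q', hcop, hpq⟩ := IsFractionRing.exists_reduced_fraction (A := A) b
  have hdb : algebraMap A K d * (b * b) =
      algebraMap A K ((((u⁻¹ : Aˣ) : A) * (-(minpoly A z).coeff 1)) ^ 2 - (minpoly A z).coeff 0) := by
    rw [map_sub, map_pow, ha, h0]; ring
  have hdvd : (q' : A) * q' ∣ d * (p * p) := by
    refine ⟨(((u⁻¹ : Aˣ) : A) * (-(minpoly A z).coeff 1)) ^ 2 - (minpoly A z).coeff 0, ?_⟩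
    apply IsFractionRing.injective A K
    rw [map_mul, map_mul, map_mul _ ((q' : A) * q'), map_mul _ (q' : A), ← hdb, ← hpq]
    have : algebraMap A K q' * IsLocalization.mk' K p q' = algebraMap A K p := by
      rw [mul_comm]; exact IsLocalization.mk'_spec K p q'
    linear_combination (-(algebraMap A K d) * (algebraMap A K q' * IsLocalization.mk' K p q' + algebraMap A K p)) * this
  have hr : IsRelPrime (q' : A) p := hcop.symm
  have hqd : (q' : A) * q' ∣ d :=
    (((hr.mul_left hr).mul_right (hr.mul_left hr))).dvd_of_dvd_mul_right hdvd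
  obtain ⟨v, hv⟩ := hd _ hqd
  refine ⟨p * ((v⁻¹ : Aˣ) : A), ?_⟩
  rw [← hpq, eq_comm, IsLocalization.mk'_eq_iff_eq_mul, ← map_mul, ← hv, mul_assoc, Units.inv_mul, mul_one]

end Groth.Agent.S18888
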