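import Mathlib
import Groth.Statements.S18889
-- import your own Groth.Agent.* helpers here

set_option autoImplicit false
universe u v w
open CAlg

namespace Groth.Agent.S18889

set_option maxHeartbeats 400000 in
/-- Let R be a commutative ring, A a commutative R-algebra of finite presentation, and G a finite group
acting on A by R-algebra automorphisms such that the order of G is invertible in R. Then the ring of
invariants A^G is an R-algebra of finite presentation. (The source takes G to be a group of
automorphisms of A; here G acts through a possibly non-faithful action, which changes nothing since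
the invariants and the invertibility of the order only depend on the image of G.) -/
theorem result {R : Type u} {A : Type v} [CommRing R] [CommRing A]
    [Algebra R A] [Algebra.FinitePresentation R A]
    {G : Type w} [Group G] [Finite G] [MulSemiringAction G A] [SMulCommClass G R A]
    (hG : IsUnit ((Nat.card G : ℕ) : R)) :
    Algebra.FinitePresentation R (FixedPoints.subalgebra R A G) := by
  classical
  let := Fintype.ofFinite G
  let S := FixedPoints.subalgebra R A G
  have hmem : ∀ x : A, x ∈ S ↔ ∀ g : G, g • x = x := fun x => Iff.rfl
  -- every element is integral over the invariants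
  have hint : ∀ x : A, IsIntegral S x := by
    intro x
    let p : Polynomial A := ∏ g : G, (Polynomial.X - Polynomial.C (g • x))
    have hco : ∀ n, p.coeff n ∈ S := by
      intro n
      rw [hmem]
      intro h
      have hp : p.map (MulSemiringAction.toRingHom G A h) = p := by
        simp only [p, Polynomial.map_prod, Polynomial.map_sub, Polynomial.map_X, Polynomial.map_C]
        conv_rhs => rw [← Equiv.prod_comp (Equiv.mulLeft h) fun g => Polynomial.X - Polynomial.C (g • x)]
        exact Finset.prod_congr rfl fun g _ => by simp [mul_smul]
      have := congrArg (fun q : Polynomial A => q.coeff n) hp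
      simpa using this
    have hlift : p ∈ Polynomial.lifts (algebraMap S A) :=
      (Polynomial.lifts_iff_coeff_lifts p).mpr fun n => ⟨⟨p.coeff n, hco n⟩, rfl⟩
    rcases subsingleton_or_nontrivial A with hA | hA
    · exact ⟨1, Polynomial.monic_one, Subsingleton.elim _ _⟩
    obtain ⟨q, hq, -, hqm⟩ := Polynomial.lifts_and_degree_eq_and_monic hlift
      (Polynomial.monic_prod_of_monic _ _ fun g _ => Polynomial.monic_X_sub_C _)
    refine ⟨q, hqm, ?_⟩
    rw [← Polynomial.eval_map, hq, Polynomial.eval_prod]
    exact Finset.prod_eq_zero (Finset.mem_univ 1) (by simp)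
  have hFT : Algebra.FiniteType R A := inferInstance
  obtain ⟨T, hT⟩ := hFT.out
  choose p hpm hp using fun t : T => hint t.1
  let σ := Σ t : T, Fin (p t).natDegree
  let Q := MvPolynomial σ R
  let φ : Q →ₐ[R] S := MvPolynomial.aeval fun s => (p s.1).coeff s.2
  let : Algebra Q S := φ.toRingHom.toAlgebra
  let : Algebra Q A := ((algebraMap S A).comp φ.toRingHom).toAlgebra
  have : IsScalarTower R Q S := IsScalarTower.of_algebraMap_eq fun r => (φ.commutes r).symm
  have : IsScalarTower Q S A := IsScalarTower.of_algebraMap_eq fun r => rfl
  have : IsScalarTower R Q A := IsScalarTower.of_algebraMap_eq fun r => by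
    show algebraMap R A r = algebraMap S A (φ (algebraMap R Q r))
    rw [AlgHom.commutes]; rfl
  have hintT : ∀ t : T, IsIntegral Q (t : A) := by
    intro t
    let q : Polynomial Q := Polynomial.X ^ (p t).natDegree +
      ∑ k : Fin (p t).natDegree, Polynomial.C (MvPolynomial.X ⟨t, k⟩) * Polynomial.X ^ (k : ℕ)
    refine ⟨q, ?_, ?_⟩
    · exact Polynomial.monic_X_pow_add (Polynomial.degree_sum_fin_lt _)
    · have hq : q.map φ.toRingHom = p t := by
        simp only [q, Polynomial.map_add, Polynomial.map_sum, Polynomial.map_mul, Polynomial.map_pow,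
          Polynomial.map_X, Polynomial.map_C]
        conv_rhs => rw [(hpm t).as_sum, ← Fin.sum_univ_eq_sum_range]
        refine congrArg (fun z : Polynomial S => Polynomial.X ^ (p t).natDegree + z) ?_
        refine Finset.sum_congr rfl fun k _ => ?_
        rw [show φ.toRingHom (MvPolynomial.X ⟨t, k⟩) = (p t).coeff k from MvPolynomial.aeval_X _ _]
      rw [show algebraMap Q A = (algebraMap S A).comp φ.toRingHom from rfl, ← Polynomial.eval₂_map, hq]
      exact hp t
  have hAint : Algebra.IsIntegral Q A := by
    constructor
    intro a
    have ha : a ∈ Algebra.adjoin R (T : Set A) := hT ▸ Algebra.mem_top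
    refine Algebra.adjoin_le (S := (integralClosure Q A).restrictScalars R) ?_ ha
    exact fun t ht => hintT ⟨t, ht⟩
  have hQAft : Algebra.FiniteType Q A := Algebra.FiniteType.of_restrictScalars_finiteType R Q A
  have hfin : Module.Finite Q A := Algebra.IsIntegral.finite
  have hQfp : Algebra.FinitePresentation R Q := inferInstance
  have hQAfp : Algebra.FinitePresentation Q A :=
    Algebra.FinitePresentation.of_restrict_scalars_finitePresentation R Q A
  have hAfp : Module.FinitePresentation Q A := Module.FinitePresentation.of_finite_of_finitePresentation Q A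
  -- Reynolds operator
  obtain ⟨u, hu⟩ := hG
  have hRey : ∀ a : A, ((u⁻¹ : Rˣ) : R) • ∑ g : G, g • a ∈ S := by
    intro a
    rw [hmem]
    intro h
    rw [smul_comm, Finset.smul_sum (r := h)]
    refine congrArg (fun z : A => ((u⁻¹ : Rˣ) : R) • z) ?_
    simp only [smul_smul]
    exact Equiv.sum_comp (Equiv.mulLeft h) fun g => g • a
  let e : A →ₗ[Q] S :=
    { toFun := fun a => ⟨_, hRey a⟩
      map_add' := fun a b => Subtype.ext (by simp [smul_add, Finset.sum_add_distrib])
      map_smul' := fun q a => Subtype.ext (by
        show ((u⁻¹ : Rˣ) : R) • ∑ g : G, g • (algebraMap Q A q * a) =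
          algebraMap Q A q * (((u⁻¹ : Rˣ) : R) • ∑ g : G, g • a)
        rw [mul_smul_comm, Finset.mul_sum]
        refine congrArg (fun z : A => ((u⁻¹ : Rˣ) : R) • z) ?_
        refine Finset.sum_congr rfl fun g _ => ?_
        rw [smul_mul', show g • algebraMap Q A q = algebraMap Q A q from (hmem _).mp (φ q).2 g]) }
  let ι : S →ₗ[Q] A := (IsScalarTower.toAlgHom Q S A).toLinearMap
  have heι : ∀ s, e (ι s) = s := fun s => Subtype.ext (by
    show ((u⁻¹ : Rˣ) : R) • ∑ g : G, g • (s : A) = s
    rw [Finset.sum_congr rfl fun g _ => (hmem _).mp s.2 g, Finset.sum_const, Finset.card_univ,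
      ← Nat.cast_smul_eq_nsmul R, ← Nat.card_eq_fintype_card, ← hu, smul_smul, Units.inv_mul, one_smul])
  have hker : (LinearMap.ker e).FG := by
    have : LinearMap.ker e = LinearMap.range (LinearMap.id - ι ∘ₗ e) := by
      refine le_antisymm (fun a ha => ⟨a, by simp [show e a = 0 from ha]⟩) ?_
      rintro _ ⟨a, rfl⟩
      rw [LinearMap.mem_ker, LinearMap.sub_apply, map_sub, LinearMap.id_apply, LinearMap.comp_apply, heι, sub_self]
    rw [this, LinearMap.range_eq_map]
    exact Module.Finite.fg_top.map _
  have hSfp : Module.FinitePresentation Q S :=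
    Module.finitePresentation_of_surjective e (fun s => ⟨ι s, heι s⟩) hker
  have : Algebra.FinitePresentation Q S := Algebra.FinitePresentation.of_finitePresentation Q S
  exact Algebra.FinitePresentation.trans R Q S

end Groth.Agent.S18889
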