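import Mathlib
import Groth.Statements.S18890
-- import your own Groth.Agent.* helpers here

set_option autoImplicit false
universe u v w w'
open CAlg

namespace Groth.Agent.S18890

/-- Let R be a commutative ring, G a finite group whose order is invertible in R, M an R-module with an
R-linear action ρ of G and N an arbitrary R-module. Then the natural map M^G ⊗_R N → M ⊗_R N induced
by the inclusion of the invariants is injective, and its image is the submodule of invariants of M
⊗_R N under the action ρ ⊗ 1 (G acting on the first factor). (The source lets G be a group of
R-automorphisms of M; a possibly non-faithful linear action changes nothing.) -/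
theorem result {R : Type u} [CommRing R]
    {G : Type v} [Group G] [Finite G] (hG : IsUnit ((Nat.card G : ℕ) : R))
    {M : Type w} {N : Type w'} [AddCommGroup M] [Module R M] [AddCommGroup N] [Module R N]
    (ρ : Representation R G M) :
    Function.Injective (LinearMap.rTensor N ρ.invariants.subtype) ∧
      LinearMap.range (LinearMap.rTensor N ρ.invariants.subtype) =
        (ρ.tprod (Representation.trivial R G N)).invariants := by
  classical
  let := Fintype.ofFinite G
  let : Invertible ((Fintype.card G : ℕ) : R) := (by rwa [Nat.card_eq_fintype_card] at hG : IsUnit _).invertible
  have hproj : LinearMap.IsProj ρ.invariants ρ.averageMap := Representation.isProj_averageMap ρ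
  let π : M →ₗ[R] ρ.invariants := hproj.codRestrict
  have hπι : π ∘ₗ ρ.invariants.subtype = LinearMap.id :=
    LinearMap.ext fun x => hproj.codRestrict_apply_cod x
  refine ⟨Function.LeftInverse.injective (g := LinearMap.rTensor N π) fun t => ?_, le_antisymm ?_ ?_⟩
  · rw [← LinearMap.comp_apply, ← LinearMap.rTensor_comp, hπι, LinearMap.rTensor_id, LinearMap.id_apply]
  · rintro _ ⟨t, rfl⟩ g
    induction t using TensorProduct.induction_on with
    | zero => simp
    | add a b ha hb => rw [map_add, map_add, ha, hb]
    | tmul m x =>
      simp only [LinearMap.rTensor_tmul, Submodule.subtype_apply, Representation.tprod_apply,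
        TensorProduct.map_tmul, Representation.trivial_apply]
      rw [m.2 g]
  · intro t ht
    refine ⟨LinearMap.rTensor N π t, ?_⟩
    rw [← LinearMap.comp_apply, ← LinearMap.rTensor_comp]
    set ρN := ρ.tprod (Representation.trivial R G N) with hρN
    have key : (LinearMap.rTensor N (ρ.invariants.subtype ∘ₗ π)) = ρN.averageMap := by
      refine TensorProduct.ext' fun m x => ?_
      have h1 : ρ.invariants.subtype (π m) = ρ.averageMap m := rfl
      rw [LinearMap.rTensor_tmul, LinearMap.comp_apply, h1]
      simp [Representation.averageMap, GroupAlgebra.average, TensorProduct.sum_tmul, hρN, TensorProduct.smul_tmul',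
        Finset.smul_sum]
    rw [key]
    exact Representation.averageMap_id ρN t ht

end Groth.Agent.S18890
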