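import Groth.Statements.S18891
import Mathlib.AlgebraicGeometry.ZariskisMainTheorem
import Mathlib.AlgebraicGeometry.Morphisms.FormallyUnramified
import Mathlib.AlgebraicGeometry.Morphisms.Proper
-- import your own Groth.Agent.* helpers here

set_option autoImplicit false
universe u
open CategoryTheory CategoryTheory.Limits AlgebraicGeometry
open Mor

namespace Groth.Agent.S18891

/-- Let f : X → Y be a morphism of schemes which is proper and formally unramified, and such that for
every algebraically closed field Ω the map X(Ω) → Y(Ω), g ↦ g ≫ f, is injective. Then f is a closed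
immersion. -/
theorem result {X Y : Scheme.{u}} (f : X ⟶ Y)
    [IsProper f] [FormallyUnramified f]
    (hinj : ∀ (Ω : Type u) [Field Ω] [IsAlgClosed Ω],
      Function.Injective (fun g : Spec (CommRingCat.of Ω) ⟶ X => g ≫ f)) :
    IsClosedImmersion f := by
  have : Surjective (pullback.diagonal f) := by
    refine ⟨fun z => ?_⟩
    let φ : Spec (CommRingCat.of (AlgebraicClosure ((pullback f f).residueField z))) ⟶ pullback f f :=
      Spec.map (CommRingCat.ofHom (algebraMap ((pullback f f).residueField z)
        (AlgebraicClosure ((pullback f f).residueField z)))) ≫ (pullback f f).fromSpecResidueField z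
    have hφ₁ : φ ≫ pullback.fst f f = φ ≫ pullback.snd f f :=
      hinj _ (by simp [pullback.condition])
    have hφ₂ : φ = (φ ≫ pullback.fst f f) ≫ pullback.diagonal f := by
      apply pullback.hom_ext <;> simp [pullback.diagonal, hφ₁, pullback.lift_fst, pullback.lift_snd]
    refine ⟨(φ ≫ pullback.fst f f).base default, ?_⟩
    show ((φ ≫ pullback.fst f f) ≫ pullback.diagonal f).base default = z
    rw [← hφ₂]
    show ((pullback f f).fromSpecResidueField z).base _ = z
    exact Scheme.fromSpecResidueField_apply _ _
  have : IsIso (pullback.diagonal f) := by
    haveI : Epi (pullback.diagonal f).base := (TopCat.epi_iff_surjective _).mpr this.surj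
    exact (isIso_iff_isOpenImmersion_and_surjective _).mpr ⟨inferInstance, ‹_›⟩
  have : Mono f := (pullback.isIso_diagonal_iff f).mp this
  exact (IsClosedImmersion.iff_isProper_and_mono f).mpr ⟨inferInstance, this⟩

end Groth.Agent.S18891
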