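import Groth.Statements.S18895
import Groth.Agent.VBLib.GenusZero
import Groth.Agent.VBLib.RR
import Groth.Agent.CurveCoh.Integral
import Groth.Agent.S2501

set_option autoImplicit false
universe u
open CategoryTheory CategoryTheory.Limits AlgebraicGeometry
open Curves

namespace Groth.Agent.S18895

/-- Let k be an algebraically closed field of characteristic different from 2 (the standing convention
of the section; it plays no role here) and X a connected smooth proper curve over k of genus dim_k
H¹(X, O_X) ≥ 1. For every invertible O_X-module L of positive degree one has dim_k H⁰(X, L) ≤ deg L. -/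
theorem result (k : Type u) [Field k] [IsAlgClosed k] (h2 : (2 : k) ≠ 0)
    (X : Scheme.{u}) [X.Over (Spec (CommRingCat.of k))]
    [IsProper (X ↘ Spec (CommRingCat.of k))] [Smooth (X ↘ Spec (CommRingCat.of k))] [ConnectedSpace ↥X]
    (hX : topologicalKrullDim ↥X = 1) (hg : 1 ≤ Curv2.genus k X)
    (L : X.Modules) (hL : PicF.IsInvertible L) (hdeg : 0 < Curv2.deg k X L 1) :
    (Module.finrank k (Coh.HH X L 0) : ℤ) ≤ Curv2.deg k X L 1 := by
  haveI := Groth.Agent.S2501.result (X ↘ Spec (CommRingCat.of k))
  haveI := CurveCoh.isIntegral_of_smooth k X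
  have h0 := VBLib.finrank_H0_structure_eq_one (VBLib.bijective_toGlobal_of_isAlgClosed (k := k) (X := X))
  rcases subsingleton_or_nontrivial (Coh.HH X L 0) with h | h
  · rw [Module.finrank_zero_of_subsingleton]
    omega
  · obtain ⟨hle, heq⟩ := VBLib.GenusZero.finrank_H0_le k hX h0 hL h
    rcases eq_or_ne (Module.finrank k (Coh.HH X L 0) : ℤ) (Curv2.deg k X L 1 + 1) with he | he
    · have := heq he hdeg
      omega
    · omega


end Groth.Agent.S18895
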