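import Groth.Statements.S18896
import Groth.Agent.CBC.CurveR1

set_option autoImplicit false
universe u
open CategoryTheory CategoryTheory.Limits AlgebraicGeometry
open Curves

namespace Groth.Agent.S18896

/-- Let f : X → S be a smooth curve of genus g over a scheme S, i.e. f is proper and smooth and its
fibres are geometrically connected of dimension one and genus g (g the dimension of H¹ of the
structure sheaf of each fibre over its residue field). Then R¹f_*(O_X) is a locally free O_S-module
of rank g. -/
theorem result {X S : Scheme.{u}} (f : X ⟶ S)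
    [IsProper f] [Smooth f] [GeometricallyConnected f]
    (hdim : ∀ s : S, topologicalKrullDim ↥(f.fiber s) = 1) (g : ℕ)
    (hgen : ∀ s : S, letI : (f.fiber s).Over (Spec (S.residueField s)) := ⟨f.fiberToSpecResidueField s⟩
      Curv2.genus (S.residueField s) (f.fiber s) = g)
    [HasInjectiveResolutions X.Modules] :
    FlatMod.IsFinLocFreeOfRank g ((Coh.Rpush f 1).obj (Coh.structureModule X)) := by
  refine CBC.CurveR1.isFinLocFreeOfRank_R1 f (fun s => (hdim s).le.trans_eq Nat.cast_one.symm) g fun s => ?_
  rw [← hgen s]
  letI : (f.fiber s).Over (Spec (CommRingCat.of (S.residueField s))) := ⟨f.fiberToSpecResidueField s⟩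
  haveI : IsProper (f.fiber s ↘ Spec (CommRingCat.of (S.residueField s))) := CBC.DegFam.isProper_fiber f s
  exact (LinearEquiv.ofBijective
    (CohLin.overLin (S.residueField s) (CohLin.hMap (PicLoc.pullbackStructureIso (f.fiberι s)).hom 1))
    (CohLin.hIso (PicLoc.pullbackStructureIso (f.fiberι s)) 1).bijective).finrank_eq

end Groth.Agent.S18896
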