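import Mathlib
import Groth.Statements.S18899
-- import your own Groth.Agent.* helpers here

set_option autoImplicit false
universe u v w
open CAlg

namespace Groth.Agent.S18899

/-- Let A be a commutative ring on which a finite group G acts by ring automorphisms, with ring of
invariants A^G, and let K be a field. If two ring homomorphisms f₁, f₂ : A → K have the same
restriction to A^G, then f₂ = f₁ ∘ γ for some γ ∈ G. -/
theorem result {A : Type u} [CommRing A] {G : Type v} [Group G] [Finite G]
    [MulSemiringAction G A] {K : Type w} [Field K] (f₁ f₂ : A →+* K)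
    (h : ∀ a : A, (∀ g : G, g • a = a) → f₁ a = f₂ a) :
    ∃ γ : G, ∀ a : A, f₂ a = f₁ (γ • a) := by
  classical
  let := Fintype.ofFinite G
  by_contra hcon
  push Not at hcon
  choose a ha using hcon
  let e := Fintype.equivFin G
  let P : Polynomial A := ∑ γ : G, Polynomial.C (a γ) * Polynomial.X ^ (e γ : ℕ)
  have hcoeff : ∀ γ, P.coeff (e γ) = a γ := by
    intro γ
    simp only [P, Polynomial.finset_sum_coeff, Polynomial.coeff_C_mul_X_pow]
    rw [Finset.sum_eq_single γ (fun b _ hb => if_neg fun h => hb (e.injective (Fin.ext h)).symm)
      (fun h => absurd (Finset.mem_univ _) h), if_pos rfl]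
  let act : G → Polynomial A →+* Polynomial A := fun g =>
    Polynomial.mapRingHom (MulSemiringAction.toRingHom G A g)
  let Q : Polynomial (Polynomial A) := ∏ g : G, (Polynomial.X - Polynomial.C (act g P))
  have hinv : ∀ h : G, Q.map (act h) = Q := by
    intro h
    simp only [Q, Polynomial.map_prod, Polynomial.map_sub, Polynomial.map_X, Polynomial.map_C]
    rw [← Equiv.prod_comp (Equiv.mulLeft h) fun g => Polynomial.X - Polynomial.C (act g P)]
    refine Finset.prod_congr rfl fun g _ => ?_
    congr 2
    ext n
    simp [act, mul_smul]
  have hQ : Q.map (Polynomial.mapRingHom f₁) = Q.map (Polynomial.mapRingHom f₂) := by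
    ext i j
    simp only [Polynomial.coeff_map, Polynomial.coe_mapRingHom]
    refine h _ fun g => ?_
    have := congrArg (fun q : Polynomial (Polynomial A) => (q.coeff i).coeff j) (hinv g)
    simpa [act] using this
  have hroot : (Q.map (Polynomial.mapRingHom f₂)).eval (Polynomial.mapRingHom f₂ P) = 0 := by
    rw [Polynomial.eval_map_apply, Polynomial.eval_prod,
      Finset.prod_eq_zero (Finset.mem_univ (1 : G)), map_zero]
    have : act 1 P = P := by ext n; simp [act]
    simp [this]
  rw [← hQ] at hroot
  simp only [Q, Polynomial.map_prod, Polynomial.map_sub, Polynomial.map_X, Polynomial.map_C,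
    Polynomial.eval_prod, Polynomial.eval_sub, Polynomial.eval_X, Polynomial.eval_C,
    Finset.prod_eq_zero_iff, sub_eq_zero] at hroot
  obtain ⟨g, -, hg⟩ := hroot
  refine ha g ?_
  have := congrArg (fun q : Polynomial K => q.coeff (e g)) hg
  simpa [act, hcoeff] using this

end Groth.Agent.S18899
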