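import Groth.Statements.S1890
import Mathlib

set_option autoImplicit false
universe u
open CategoryTheory CategoryTheory.Limits AlgebraicGeometry
open Grpd

namespace Groth.Agent.S1890

/-- Take a quasi-compact immersion j : V → Spec A and an element f ∈ A such that j⁻¹(D(f)) is affine and
j(V) ∩ V(f) is closed in Spec A. Then V is affine. -/
theorem result (A : Type u) [CommRing A] (V : Scheme.{u}) (j : V ⟶ Spec (CommRingCat.of A)) [IsImmersion j] [QuasiCompact j] (f : A) (haff : IsAffineOpen (j ⁻¹ᵁ PrimeSpectrum.basicOpen f)) (hcl : IsClosed (Set.range ⇑j ∩ PrimeSpectrum.zeroLocus {f})) : IsAffine V := by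
  have haffh : IsAffineHom j := by
    obtain ⟨Ω, c, hc, hcj⟩ : ∃ (Ω : (Spec (CommRingCat.of A)).Opens)
        (c : V ⟶ (Ω : Scheme.{u})), IsClosedImmersion c ∧ c ≫ Ω.ι = j :=
      ⟨j.coborderRange, j.liftCoborder, inferInstance, j.liftCoborder_ι⟩
    refine isAffineHom_of_forall_exists_isAffineOpen j fun x => ?_
    by_cases hxf : x ∈ PrimeSpectrum.basicOpen f
    · exact ⟨_, hxf, (IsAffineOpen.Spec_basicOpen (R := CommRingCat.of A) (f := f) :), haff⟩
    by_cases hxZ : x ∈ Set.range ⇑j ∩ PrimeSpectrum.zeroLocus {f}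
    · have hxΩ : x ∈ Ω := by
        obtain ⟨v, rfl⟩ := hxZ.1
        rw [← hcj, Scheme.Hom.comp_apply]
        exact (c v).2
      obtain ⟨U, hU, hxU, hUΩ⟩ :=
        exists_isAffineOpen_mem_and_subset (X := Spec (CommRingCat.of A)) hxΩ
      refine ⟨U, hxU, hU, ?_⟩
      rw [← hcj, Scheme.Hom.comp_preimage]
      exact (hU.preimage_of_isOpenImmersion Ω.ι (by simpa using hUΩ)).preimage c
    · obtain ⟨_, ⟨h, rfl⟩, hxh, hh⟩ :=
        PrimeSpectrum.isTopologicalBasis_basic_opens.exists_subset_of_mem_open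
          (show x ∈ (Set.range ⇑j ∩ PrimeSpectrum.zeroLocus {f})ᶜ from hxZ) hcl.isOpen_compl
      refine ⟨PrimeSpectrum.basicOpen h, hxh,
        (IsAffineOpen.Spec_basicOpen (R := CommRingCat.of A) (f := h) :), ?_⟩
      have e : j ⁻¹ᵁ PrimeSpectrum.basicOpen h =
          j ⁻¹ᵁ PrimeSpectrum.basicOpen f ⊓ j ⁻¹ᵁ PrimeSpectrum.basicOpen h := by
        refine le_antisymm (fun v hv => ⟨?_, hv⟩) inf_le_right
        by_contra hn
        exact hh hv ⟨⟨v, rfl⟩, fun y hy => by
          rw [Set.mem_singleton_iff] at hy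
          subst hy
          exact not_not.1 hn⟩
      obtain ⟨σ, hσ⟩ : ∃ σ, j ⁻¹ᵁ PrimeSpectrum.basicOpen h = V.basicOpen (U := ⊤) σ := ⟨_, by
        rw [← AlgebraicGeometry.basicOpen_eq_of_affine (R := CommRingCat.of A) h,
          Scheme.preimage_basicOpen_top]⟩
      rw [e, hσ]
      have hb := haff.basicOpen (V.presheaf.map (homOfLE le_top).op σ)
      rw [Scheme.basicOpen_res] at hb
      exact hb
  exact isAffine_of_isAffineHom j

end Groth.Agent.S1890
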