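import Groth.Statements.S18902
import Groth.Agent.S0980
import Groth.Agent.Hens.SteinDVR
import Groth.Agent.Fibration.H1

set_option autoImplicit false
universe u
open CategoryTheory CategoryTheory.Limits AlgebraicGeometry
open Curves

set_option linter.style.haveILetI false
namespace Groth.Agent.S18902

/-- Let q : P → S be a conic bundle, i.e. a smooth curve of genus 0 over S (q proper and smooth, with
geometrically connected fibres of dimension one and genus dim H¹(P_s, O) = 0). Then the canonical
map O_S → q_*O_P is an isomorphism. -/
theorem result {P S : Scheme.{u}} (q : P ⟶ S)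
    [IsProper q] [Smooth q] [GeometricallyConnected q]
    (hPdim : ∀ s : S, topologicalKrullDim ↥(q.fiber s) = 1)
    (hPgen : ∀ s : S, letI : (q.fiber s).Over (Spec (S.residueField s)) := ⟨q.fiberToSpecResidueField s⟩
      Curv2.genus (S.residueField s) (q.fiber s) = 0) :
    IsIso (ClSub.unitToPush q) := by
  have h : ∀ s : S, IsIso (q.fiberToSpecResidueField s).appTop := fun s => by
    haveI : Smooth (q.fiberToSpecResidueField s) :=
      inferInstanceAs (Smooth (Limits.pullback.snd q (S.fromSpecResidueField s)))
    haveI : IsProper (q.fiberToSpecResidueField s) :=
      inferInstanceAs (IsProper (Limits.pullback.snd q (S.fromSpecResidueField s)))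
    haveI : GeometricallyConnected (q.fiberToSpecResidueField s) :=
      inferInstanceAs (GeometricallyConnected (Limits.pullback.snd q (S.fromSpecResidueField s)))
    exact (ConcreteCategory.isIso_iff_bijective _).mpr
      (Hens.SteinDVR.bijective_appTop_of_smooth (K := S.residueField s) (q.fiberToSpecResidueField s))
  exact Fibration.isIso_unitToPush q (fun V => S0980.result q h V)

end Groth.Agent.S18902
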