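import Groth.Statements.S18907
import Groth.Agent.SGA1Quot.Finiteness
import Groth.Agent.SGA1Quot.Orbits
import Groth.Agent.FFCurve.InvariantFP
import Groth.Agent.ProjMor.Local
import Groth.Agent.GrpScheme.FlatFib.Scheme
-- import your own Groth.Agent.* helpers here

set_option linter.style.haveILetI false
set_option backward.isDefEq.respectTransparency false
set_option backward.isDefEq.respectTransparency.types false
set_option maxHeartbeats 1000000

set_option autoImplicit false
universe u
open CategoryTheory CategoryTheory.Limits AlgebraicGeometry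
open Curves

namespace Groth.Agent.S18907

open Groth.Agent Topology

/-- The two algebraic facts on an affine chart. -/
theorem chart {X Y S : Scheme.{u}} {G : Type u} [Group G] [Finite G] {ρ : G →* Aut X} {π : X ⟶ Y}
    (f : X ⟶ S) (q : Y ⟶ S) (hπ : π ≫ q = f) (hquot : SGA1.IsQuot ρ π)
    (hG : IsUnit ((Nat.card G : ℕ) : Γ(S, ⊤))) {V : S.Opens} (hV : IsAffineOpen V) {U : Y.Opens}
    (hU : IsAffineOpen U) (e : U ≤ q ⁻¹ᵁ V) :
    (Flat f → (q.appLE V U e).hom.Flat) ∧
      (LocallyOfFinitePresentation f → (q.appLE V U e).hom.FinitePresentation) := by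
  haveI := hquot.affine
  have hW : IsAffineOpen (π ⁻¹ᵁ U) := hU.preimage π
  have eW : π ⁻¹ᵁ U ≤ f ⁻¹ᵁ V := by
    rw [← hπ, Scheme.Hom.comp_preimage]
    exact π.preimage_mono e
  have hcomp : q.appLE V U e ≫ π.app U = f.appLE V (π ⁻¹ᵁ U) eW := by
    rw [Scheme.Hom.app_eq_appLE, Scheme.Hom.appLE_comp_appLE]
    exact SGA1Quot.appLE_congr_hom hπ _ _ _
  have hgood := SGA1Quot.good_of_isQuot hquot U
  letI := SGA1Quot.mulSemiringAction hquot.inv U
  letI : Algebra Γ(Y, U) Γ(X, π ⁻¹ᵁ U) := (π.app U).hom.toAlgebra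
  letI : Algebra Γ(S, V) Γ(Y, U) := (q.appLE V U e).hom.toAlgebra
  letI : Algebra Γ(S, V) Γ(X, π ⁻¹ᵁ U) := (f.appLE V (π ⁻¹ᵁ U) eW).hom.toAlgebra
  haveI : IsScalarTower Γ(S, V) Γ(Y, U) Γ(X, π ⁻¹ᵁ U) :=
    IsScalarTower.of_algebraMap_eq' (congrArg CommRingCat.Hom.hom hcomp).symm
  haveI := SGA1Quot.smulCommClass (p := π) hquot.inv U
  haveI := SGA1Quot.isInvariant hgood
  have hcard : IsUnit ((Nat.card G : ℕ) : Γ(Y, U)) := by
    have := hG.map (q.appLE ⊤ U le_top).hom
    rwa [map_natCast] at this
  refine ⟨fun hf => ?_, fun hf => ?_⟩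
  · haveI : Module.Flat Γ(S, V) Γ(X, π ⁻¹ᵁ U) := f.flat_appLE hV hW eW
    exact FFCurve.InvFP.flat (G := G) hgood.1 hcard
  · haveI : Algebra.FinitePresentation Γ(S, V) Γ(X, π ⁻¹ᵁ U) :=
      RingHom.finitePresentation_algebraMap.1 (by
        rw [RingHom.algebraMap_toAlgebra]; exact f.finitePresentation_appLE hV hW eW)
    have h := FFCurve.InvFP.finitePresentation (R := Γ(S, V)) (G := G) hgood.1 hcard
    rw [← RingHom.finitePresentation_algebraMap, RingHom.algebraMap_toAlgebra] at h
    exact h

/-- Let f : X → S be a projective morphism of schemes (X ≅ Proj of a quasi-coherent graded O_S-algebra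
generated in degree one with degree-one part of finite type), G a finite group acting on X by
S-automorphisms, and π : X → Y, with q : Y → S and π ≫ q = f, a quotient of X by G: π is affine and
G-invariant and over every open of Y the sections of O_Y are exactly the G-invariant sections of
O_X. Then π is surjective, finite, open and closed. If moreover the order of G is invertible in
O_S(S), then: Y is flat over S whenever X is; q is separated; and if f is locally of finite
presentation then q is proper and locally of finite presentation and π is locally of finite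
presentation. (The existence of the quotient, parts (1), (2), and the base-change statement (5) of
the source are not stated.) -/
theorem result {X Y S : Scheme.{u}} (f : X ⟶ S)
    (hf : RelProj.IsProjective f)
    {G : Type u} [Group G] [Finite G] (ρ : G →* Aut X) (hρ : ∀ g : G, (ρ g).hom ≫ f = f)
    (π : X ⟶ Y) (q : Y ⟶ S) (hπ : π ≫ q = f) (hquot : SGA1.IsQuot ρ π) :
    (Surjective π ∧ IsFinite π ∧ IsOpenMap π ∧ IsClosedMap π) ∧
      (IsUnit ((Nat.card G : ℕ) : Γ(S, ⊤)) →
        (Flat f → Flat q) ∧ IsSeparated q ∧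
        (LocallyOfFinitePresentation f →
          IsProper q ∧ LocallyOfFinitePresentation q ∧ LocallyOfFinitePresentation π)) := by
  haveI hfp : IsProper f := ProjMor.isProper_of_isProjective hf
  obtain ⟨-, hsep, hfin, -⟩ := SGA1Quot.affine_separated_finite_iff hquot f q hπ
  haveI : IsFinite π := hfin inferInstance
  haveI hs : Surjective π := ⟨SGA1Quot.surjective hquot⟩
  refine ⟨⟨hs, inferInstance, fun U hU => ?_, π.isClosedMap⟩, fun hG => ⟨fun hfl => ?_, hsep.1 inferInstance, fun hlfp => ?_⟩⟩
  · rw [← (SGA1Quot.isQuotientMap hquot).isOpen_preimage]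
    have heq : π.base ⁻¹' (π.base '' U) = ⋃ g : G, (ρ g).hom.base ⁻¹' U := by
      ext x
      simp only [Set.mem_preimage, Set.mem_image, Set.mem_iUnion]
      refine ⟨fun ⟨z, hz, hzx⟩ => ?_, fun ⟨g, hg⟩ => ⟨_, hg, SGA1Quot.inv_apply hquot.inv g x⟩⟩
      obtain ⟨g, hg⟩ := (SGA1Quot.eq_iff_exists hquot x z).1 hzx.symm
      exact ⟨g, hg.symm ▸ hz⟩
    rw [heq]
    exact isOpen_iUnion fun g => hU.preimage (ρ g).hom.continuous
  · exact HasRingHomProperty.iff_appLE.2 fun {V U} e => (chart f q hπ hquot hG V.2 U.2 e).1 hfl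
  · haveI : LocallyOfFinitePresentation q :=
      HasRingHomProperty.iff_appLE.2 fun {V U} e => (chart f q hπ hquot hG V.2 U.2 e).2 hlfp
    haveI : IsSeparated q := hsep.1 inferInstance
    haveI : UniversallyClosed (π ≫ q) := by rw [hπ]; infer_instance
    haveI : UniversallyClosed q := UniversallyClosed.of_comp_surjective π q
    haveI : LocallyOfFinitePresentation (π ≫ q) := by rw [hπ]; exact hlfp
    exact ⟨{ }, inferInstance, GrpScheme.FlatFib.locallyOfFinitePresentation_of_comp π q⟩

end Groth.Agent.S18907
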