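import Groth.Statements.S18909
import Groth.Agent.FFCurve.FamQuot
import Groth.Agent.FFCurve.CurveQuotient
import Groth.Agent.S18907
import Groth.Agent.GrpScheme.FibreFlat
import Mathlib.AlgebraicGeometry.Morphisms.SmoothFiber
-- import your own Groth.Agent.* helpers here

set_option autoImplicit false
universe u
open CategoryTheory CategoryTheory.Limits AlgebraicGeometry
open Curves

namespace Groth.Agent.S18909

set_option linter.style.haveILetI false
set_option maxHeartbeats 1000000
set_option backward.isDefEq.respectTransparency false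
set_option backward.isDefEq.respectTransparency.types false

/-- The fibre of a tame quotient of a family of curves. -/
theorem fibre {X Y S : Scheme.{u}} (f : X ⟶ S) [IsProper f] [Smooth f] [GeometricallyConnected f]
    {G : Type u} [Group G] [Finite G] (hG : IsUnit ((Nat.card G : ℕ) : Γ(S, ⊤)))
    (ρ : G →* Aut X) (hρ : ∀ a : G, (ρ a).hom ≫ f = f)
    (π : X ⟶ Y) (q : Y ⟶ S) (hπ : π ≫ q = f) (hquot : SGA1.IsQuot ρ π) (s : S)
    (hdim : topologicalKrullDim ↥(f.fiber s) = 1)
    (hfaith : ∀ a : G, a ≠ 1 → ∃ x : X, f x = s ∧ (ρ a).hom x ≠ x) :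
    ∃ π' : f.fiber s ⟶ q.fiber s, IsPullback (f.fiberι s) π' π (q.fiberι s) ∧
      Smooth (q.fiberToSpecResidueField s) ∧ topologicalKrullDim ↥(q.fiber s) = 1 ∧ Flat π' ∧
      ∀ y : q.fiber s, π'.finrank y = Nat.card G := by
  let j := S.fromSpecResidueField s
  let act : G → (pullback f j ⟶ pullback f j) := fun g =>
    pullback.map f j f j (ρ g).hom (𝟙 _) (𝟙 _) (by rw [Category.comp_id, hρ]) (by simp)
  have hact1 : act 1 = 𝟙 _ := by apply pullback.hom_ext <;> simp [act] <;> rfl
  have hactm : ∀ a b, act (a * b) = act b ≫ act a := fun a b => by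
    apply pullback.hom_ext <;> simp [act, Aut.Aut_mul_def]
  let ρ' : G →* Aut (pullback f j) :=
    { toFun := fun g => ⟨act g, act g⁻¹, by rw [← hactm, inv_mul_cancel, hact1], by rw [← hactm, mul_inv_cancel, hact1]⟩
      map_one' := Iso.ext hact1
      map_mul' := fun a b => Iso.ext (hactm a b) }
  let π' : pullback f j ⟶ pullback q j :=
    pullback.map f j q j π (𝟙 _) (𝟙 _) (by rw [Category.comp_id, hπ]) (by simp)
  have hsq : IsPullback (pullback.fst f j) π' π (pullback.fst q j) := by
    refine IsPullback.of_bot ?_ (by simp [π']) (IsPullback.of_hasPullback q j)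
    convert IsPullback.of_hasPullback f j using 1
    simp [π']
  have hcardY : IsUnit ((Nat.card G : ℕ) : Γ(Y, ⊤)) := by
    have := hG.map q.appTop.hom
    rwa [map_natCast] at this
  have hquot' : SGA1.IsQuot ρ' π' := by
    refine FFCurve.FamQuot.isQuot_baseChange_tame hquot hcardY (pullback.fst q j) (pullback.fst f j) π' hsq ρ'
      (fun g => by simp [ρ', act]) fun g => ?_
    apply pullback.hom_ext <;> simp [ρ', act, π', hquot.inv]
  have hρ' : Function.Injective ρ' := by
    refine (injective_iff_map_eq_one _).2 fun a ha => ?_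
    by_contra hne
    obtain ⟨x, hx, hne'⟩ := hfaith a hne
    obtain ⟨z, hz⟩ : x ∈ Set.range (f.fiberι s) := by
      rw [Scheme.Hom.range_fiberι]; exact hx
    apply hne'
    have h1 : act a = 𝟙 _ := congrArg Iso.hom ha
    have h2 : pullback.fst f j ≫ (ρ a).hom = pullback.fst f j := by
      have := congrArg (· ≫ pullback.fst f j) h1
      simpa [act] using this
    rw [← hz]
    exact congrArg (fun φ => φ z) h2
  obtain ⟨-, h2, -, h4, -, h6, h7⟩ :=
    FFCurve.CurveQuotient.main (S.residueField s) (ρ := ρ') (π := π') (pullback.snd f j) (pullback.snd q j)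
      (by simp [π']) hquot' hdim hρ'
      (fun g => by simp [ρ', act])
  exact ⟨π', hsq, h2, h4, h6, h7⟩

/-- Let f : X → S be a smooth curve of genus g ≠ 1 (proper and smooth, geometrically connected fibres of
dimension one and genus g) and G a finite group acting on X by S-automorphisms, faithfully on every
fibre (rendered: every g ≠ 1 moves some point of each fibre), with the order of G invertible in
O_S(S). Let π : X → Y be a quotient of X by G over S (π affine and G-invariant, O_Y the G-invariant
sections of O_X; the source shows such a quotient exists). Then Y → S is proper and smooth with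
geometrically connected fibres of dimension one, and π is a cover of degree |G|: finite, flat,
locally of finite presentation and of rank |G| at every point of Y. -/
theorem result {X Y S : Scheme.{u}} (f : X ⟶ S)
    [IsProper f] [Smooth f] [GeometricallyConnected f]
    (hdim : ∀ s : S, topologicalKrullDim ↥(f.fiber s) = 1) (g : ℕ) (hg : g ≠ 1)
    (hgen : ∀ s : S, letI : (f.fiber s).Over (Spec (S.residueField s)) := ⟨f.fiberToSpecResidueField s⟩
      Curv2.genus (S.residueField s) (f.fiber s) = g)
    {G : Type u} [Group G] [Finite G] (hG : IsUnit ((Nat.card G : ℕ) : Γ(S, ⊤)))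
    (ρ : G →* Aut X) (hρ : ∀ a : G, (ρ a).hom ≫ f = f)
    (hfaith : ∀ (s : S) (a : G), a ≠ 1 → ∃ x : X, f x = s ∧ (ρ a).hom x ≠ x)
    (π : X ⟶ Y) (q : Y ⟶ S) (hπ : π ≫ q = f) (hquot : SGA1.IsQuot ρ π) :
    IsProper q ∧ Smooth q ∧ GeometricallyConnected q ∧ (∀ s : S, topologicalKrullDim ↥(q.fiber s) = 1) ∧
      IsFinite π ∧ Flat π ∧ LocallyOfFinitePresentation π ∧ ∀ y : Y, π.finrank y = Nat.card G := by
  obtain ⟨-, hsep, hfin, -⟩ := SGA1Quot.affine_separated_finite_iff hquot f q hπ
  haveI hπfin : IsFinite π := hfin inferInstance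
  haveI : Surjective π := ⟨SGA1Quot.surjective hquot⟩
  haveI hqlfp : LocallyOfFinitePresentation q :=
    HasRingHomProperty.iff_appLE.2 fun {V U} e => (S18907.chart f q hπ hquot hG V.2 U.2 e).2 inferInstance
  haveI hqflat : Flat q :=
    HasRingHomProperty.iff_appLE.2 fun {V U} e => (S18907.chart f q hπ hquot hG V.2 U.2 e).1 inferInstance
  haveI : IsSeparated q := hsep.1 inferInstance
  haveI : UniversallyClosed (π ≫ q) := by rw [hπ]; infer_instance
  haveI : UniversallyClosed q := UniversallyClosed.of_comp_surjective π q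
  haveI : LocallyOfFinitePresentation (π ≫ q) := by rw [hπ]; infer_instance
  haveI : Flat (π ≫ q) := by rw [hπ]; infer_instance
  have hπlfp : LocallyOfFinitePresentation π := GrpScheme.FlatFib.locallyOfFinitePresentation_of_comp π q
  have hgc : GeometricallyConnected q := by
    refine ⟨fun K _ y Z fst snd h => ?_⟩
    let e := (IsPullback.of_hasPullback π fst).paste_vert h
    haveI : ConnectedSpace ↥(pullback π fst) :=
      GeometricallyConnected.geometrically_connectedSpace (f := f) y _ _ (hπ ▸ e)
    haveI : Surjective (pullback.snd π fst) := MorphismProperty.pullback_snd _ _ inferInstance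
    exact (pullback.snd π fst).surjective.connectedSpace (pullback.snd π fst).continuous
  have hfib := fun s : S => fibre f hG ρ hρ π q hπ hquot s (hdim s) (hfaith s)
  haveI hπflat : Flat π := GrpScheme.FibreFlat.flat_of_fibres π q fun s => by
    obtain ⟨π', hsq, -, -, hfl, -⟩ := hfib s
    rw [GrpScheme.FibreFlat.fiberMap_mem_iff @Flat π q s]
    rw [← hsq.isoPullback_hom_snd, MorphismProperty.cancel_left_of_respectsIso @Flat] at hfl
    exact hfl
  refine ⟨{ }, Smooth.of_smooth_fiberToSpecResidueField q fun s => ?_, hgc, fun s => ?_, hπfin, hπflat,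
    hπlfp, fun y => ?_⟩
  · exact (hfib s).choose_spec.2.1
  · exact (hfib s).choose_spec.2.2.1
  · obtain ⟨π', hsq, -, -, -, hrank⟩ := hfib (q y)
    obtain ⟨y', hy'⟩ : y ∈ Set.range (q.fiberι (q y)) := by
      rw [Scheme.Hom.range_fiberι]; rfl
    rw [← hy', ← Scheme.Hom.finrank_of_isPullback _ _ _ _ hsq]
    exact hrank y'

end Groth.Agent.S18909
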