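import Groth.Statements.S18903
import Groth.Agent.S18909
import Groth.Agent.S18900
import Groth.Agent.HypBC.Hesse
-- import your own Groth.Agent.* helpers here

set_option autoImplicit false
universe u
open CategoryTheory CategoryTheory.Limits AlgebraicGeometry
open Curves

namespace Groth.Agent.S18903

set_option linter.style.haveILetI false
set_option maxHeartbeats 1000000
set_option backward.isDefEq.respectTransparency false
set_option backward.isDefEq.respectTransparency.types false

/-- A quotient by a trivial action is an isomorphism. -/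
theorem isIso_of_trivial {X Y : Scheme.{u}} {G : Type u} [Group G] [Finite G] {ρ : G →* Aut X} {p : X ⟶ Y}
    (hp : SGA1.IsQuot ρ p) (h : ∀ g : G, ρ g = 1) : IsIso p := by
  haveI := hp.affine
  haveI : ∀ V : Y.affineOpens, IsIso (p.app V.1) := fun V => by
    refine ConcreteCategory.isIso_iff_bijective _ |>.2 ⟨hp.injective V.1, fun t => ?_⟩
    refine (SGA1Quot.good_of_isQuot hp V.1).2 t fun g => ?_
    have h1 : (ρ g).hom = 𝟙 X := by rw [h g]; rfl
    rw [SGA1Quot.act, SGA1Quot.appLE_congr_hom h1, SGA1Quot.id_appLE]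
    exact ConcreteCategory.congr_hom (X.presheaf.map_id _) t
  refine (HasAffineProperty.iff_of_iSup_eq_top (P := MorphismProperty.isomorphisms Scheme)
    (fun V : Y.affineOpens => V) (iSup_affineOpens_eq_top Y)).2 fun V => ⟨V.2.preimage p, ?_⟩
  rw [morphismRestrict_appTop]
  have : IsIso (p.app (V.1.ι ''ᵁ ⊤)) := by
    rw [Scheme.Opens.ι_image_top]; infer_instance
  infer_instance

/-- The fibre of a tame quotient of a family of curves. -/
theorem fibre {X Y S : Scheme.{u}} (f : X ⟶ S) [IsProper f] [Smooth f] [GeometricallyConnected f]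
    {G : Type u} [Group G] [Finite G] (hG : IsUnit ((Nat.card G : ℕ) : Γ(S, ⊤)))
    (ρ : G →* Aut X) (hρ : ∀ a : G, (ρ a).hom ≫ f = f)
    (π : X ⟶ Y) (q : Y ⟶ S) (hπ : π ≫ q = f) (hquot : SGA1.IsQuot ρ π) (s : S)
    (hdim : topologicalKrullDim ↥(f.fiber s) = 1)
    (a₀ : G) (ha₀ : ∀ a : G, a = 1 ∨ a = a₀)
    (hgenus : ∀ (π' : f.fiber s ⟶ q.fiber s), IsIso π' → π' ≫ q.fiberToSpecResidueField s =
      f.fiberToSpecResidueField s → False) :
    a₀ ≠ 1 ∧ ∃ π' : f.fiber s ⟶ q.fiber s, IsPullback (f.fiberι s) π' π (q.fiberι s) ∧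
      Smooth (q.fiberToSpecResidueField s) ∧ topologicalKrullDim ↥(q.fiber s) = 1 ∧ Flat π' ∧
      ∀ y : q.fiber s, π'.finrank y = Nat.card G := by
  let j := S.fromSpecResidueField s
  let act : G → (pullback f j ⟶ pullback f j) := fun g =>
    pullback.map f j f j (ρ g).hom (𝟙 _) (𝟙 _) (by rw [Category.comp_id, hρ]) (by simp)
  have hact1 : act 1 = 𝟙 _ := by apply pullback.hom_ext <;> simp [act] <;> rfl
  have hactm : ∀ a b, act (a * b) = act b ≫ act a := fun a b => by
    apply pullback.hom_ext <;> simp [act, Aut.Aut_mul_def]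
  let ρ' : G →* Aut (pullback f j) :=
    { toFun := fun g => ⟨act g, act g⁻¹, by rw [← hactm, inv_mul_cancel, hact1], by rw [← hactm, mul_inv_cancel, hact1]⟩
      map_one' := Iso.ext hact1
      map_mul' := fun a b => Iso.ext (hactm a b) }
  let π' : pullback f j ⟶ pullback q j :=
    pullback.map f j q j π (𝟙 _) (𝟙 _) (by rw [Category.comp_id, hπ]) (by simp)
  have hsq : IsPullback (pullback.fst f j) π' π (pullback.fst q j) := by
    refine IsPullback.of_bot ?_ (by simp [π']) (IsPullback.of_hasPullback q j)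
    convert IsPullback.of_hasPullback f j using 1
    simp [π']
  have hcardY : IsUnit ((Nat.card G : ℕ) : Γ(Y, ⊤)) := by
    have := hG.map q.appTop.hom
    rwa [map_natCast] at this
  have hquot' : SGA1.IsQuot ρ' π' := by
    refine FFCurve.FamQuot.isQuot_baseChange_tame hquot hcardY (pullback.fst q j) (pullback.fst f j) π' hsq ρ'
      (fun g => by simp [ρ', act]) fun g => ?_
    apply pullback.hom_ext <;> simp [ρ', act, π', hquot.inv]
  have hne : ρ' a₀ ≠ 1 := fun h0 => hgenus π'
    (isIso_of_trivial hquot' fun g => by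
      rcases ha₀ g with rfl | rfl
      · exact map_one ρ'
      · exact h0) (pullback.lift_snd _ _ _ |>.trans (Category.comp_id _))
  have hρ' : Function.Injective ρ' := by
    refine (injective_iff_map_eq_one _).2 fun a ha => ?_
    rcases ha₀ a with h | h
    · exact h
    · exact absurd (h ▸ ha) hne
  obtain ⟨-, h2, -, h4, -, h6, h7⟩ :=
    FFCurve.CurveQuotient.main (S.residueField s) (ρ := ρ') (π := π') (pullback.snd f j) (pullback.snd q j)
      (by simp [π']) hquot' hdim hρ'
      (fun g => by simp [ρ', act])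
  exact ⟨fun h => hne (h ▸ map_one ρ'), π', hsq, h2, h4, h6, h7⟩


/-- Let S be a scheme on which 2 is invertible and f : X → S a smooth curve of genus g ≥ 2 (proper and
smooth, geometrically connected fibres of dimension one and genus g). The following are equivalent:
(a) f = h ≫ q for a conic bundle q : P → S (a smooth curve of genus 0) and a double cover h : X → P
(finite, flat, locally of finite presentation, of rank 2 at every point); (b) there are an
S-automorphism σ of X with σ ∘ σ = id and a quotient π : X → P of X by the group generated by σ (π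
affine and σ-invariant, with O_P the σ-invariant sections of O_X over every open) such that the
induced morphism P → S is a conic bundle. -/
theorem result {X S : Scheme.{u}} (f : X ⟶ S)
    (h2 : IsUnit (2 : Γ(S, ⊤)))
    [IsProper f] [Smooth f] [GeometricallyConnected f]
    (hdim : ∀ s : S, topologicalKrullDim ↥(f.fiber s) = 1) (g : ℕ) (hg : 2 ≤ g)
    (hgen : ∀ s : S, letI : (f.fiber s).Over (Spec (S.residueField s)) := ⟨f.fiberToSpecResidueField s⟩
      Curv2.genus (S.residueField s) (f.fiber s) = g) :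
    (∃ (P : Scheme.{u}) (q : P ⟶ S) (h : X ⟶ P), h ≫ q = f ∧
        IsProper q ∧ Smooth q ∧ GeometricallyConnected q ∧
        (∀ s : S, topologicalKrullDim ↥(q.fiber s) = 1) ∧
        (∀ s : S, letI : (q.fiber s).Over (Spec (S.residueField s)) := ⟨q.fiberToSpecResidueField s⟩
          Curv2.genus (S.residueField s) (q.fiber s) = 0) ∧
        IsFinite h ∧ Flat h ∧ LocallyOfFinitePresentation h ∧ ∀ y : P, h.finrank y = 2) ↔
      ∃ (σ : Aut X) (P : Scheme.{u}) (π : X ⟶ P) (q : P ⟶ S), σ.hom ≫ f = f ∧ σ * σ = 1 ∧ π ≫ q = f ∧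
        SGA1.IsQuot (Subgroup.zpowers σ).subtype π ∧
        IsProper q ∧ Smooth q ∧ GeometricallyConnected q ∧
        (∀ s : S, topologicalKrullDim ↥(q.fiber s) = 1) ∧
        ∀ s : S, letI : (q.fiber s).Over (Spec (S.residueField s)) := ⟨q.fiberToSpecResidueField s⟩
          Curv2.genus (S.residueField s) (q.fiber s) = 0 := by
  constructor
  · rintro ⟨P, q, h, hhq, hqp, hqs, hqc, hqd, hqg, hfin, hfl, hlfp, hrk⟩
    have h2P : IsUnit (2 : Γ(P, ⊤)) := by
      have := h2.map q.appTop.hom
      rwa [map_ofNat] at this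
    obtain ⟨σ, hσ, hσ2, hquot⟩ := S18900.result h hrk h2P
    exact ⟨σ, P, h, q, by rw [← hhq, ← Category.assoc, hσ], hσ2, hhq, hquot, hqp, hqs, hqc, hqd, hqg⟩
  · rintro ⟨σ, P, π, q, hσ, hσ2, hπ, hquot, hqp, hqs, hqc, hqd, hqg⟩
    haveI := hqp
    haveI := hqs
    let G := Subgroup.zpowers σ
    let a₀ : G := ⟨σ, Subgroup.mem_zpowers σ⟩
    have ha₀ : ∀ a : G, a = 1 ∨ a = a₀ := by
      rintro ⟨a, n, rfl⟩
      rcases Int.even_or_odd n with ⟨m, rfl⟩ | ⟨m, rfl⟩
      · refine Or.inl (Subtype.ext ?_)
        change σ ^ (m + m) = 1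
        rw [← two_mul, zpow_mul, zpow_two, hσ2, one_zpow]
      · refine Or.inr (Subtype.ext ?_)
        change σ ^ (2 * m + 1) = σ
        rw [zpow_add, zpow_mul, zpow_two, hσ2, one_zpow, one_mul, zpow_one]
    haveI : Finite G := Finite.of_surjective (fun b : ULift.{u} Bool => if b.down then a₀ else 1) fun a => by
      rcases ha₀ a with h | h
      · exact ⟨⟨false⟩, by simp [h]⟩
      · exact ⟨⟨true⟩, by simp [h]⟩
    have hρ : ∀ a : G, ((G.subtype) a).hom ≫ f = f := fun a => by
      rcases ha₀ a with rfl | rfl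
      · rw [map_one]; exact Category.id_comp f
      · exact hσ
    have hG : IsUnit ((Nat.card G : ℕ) : Γ(S, ⊤)) := by
      by_cases h1 : a₀ = 1
      · have : Subsingleton G := subsingleton_of_forall_eq 1 fun a => (ha₀ a).elim id fun h => h.trans h1
        rw [Nat.card_of_subsingleton (1 : G), Nat.cast_one]
        exact isUnit_one
      · have : Nat.card G = 2 := by
          refine Nat.card_eq_two_iff.2 ⟨1, a₀, Ne.symm h1, Set.eq_univ_of_forall fun a => ?_⟩
          rcases ha₀ a with h | h <;> simp [h]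
        rw [this]
        exact_mod_cast h2
    have hfib := fun s : S => fibre f hG G.subtype hρ π q hπ hquot s (hdim s) a₀ ha₀ fun π' hi hc => by
      haveI := hi
      have h0 := HypBC.genus_iso (K := S.residueField s) (f.fiberToSpecResidueField s) (q.fiberToSpecResidueField s)
        (asIso π') hc
      have h3 : g = 0 := (hgen s).symm.trans (h0.trans (hqg s))
      omega
    obtain ⟨-, -, hfin, -⟩ := SGA1Quot.affine_separated_finite_iff hquot f q hπ
    haveI hπfin : IsFinite π := hfin inferInstance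
    haveI : LocallyOfFinitePresentation (π ≫ q) := by rw [hπ]; infer_instance
    haveI : Flat (π ≫ q) := by rw [hπ]; infer_instance
    haveI hπflat : Flat π := GrpScheme.FibreFlat.flat_of_fibres π q fun s => by
      obtain ⟨-, π', hsq, -, -, hfl, -⟩ := hfib s
      rw [GrpScheme.FibreFlat.fiberMap_mem_iff @Flat π q s]
      rw [← hsq.isoPullback_hom_snd, MorphismProperty.cancel_left_of_respectsIso @Flat] at hfl
      exact hfl
    refine ⟨P, q, π, hπ, hqp, hqs, hqc, hqd, hqg, hπfin, hπflat,
      GrpScheme.FlatFib.locallyOfFinitePresentation_of_comp π q, fun y => ?_⟩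
    obtain ⟨hne, π', hsq, -, -, -, hrank⟩ := hfib (q y)
    obtain ⟨y', hy'⟩ : y ∈ Set.range (q.fiberι (q y)) := by
      rw [Scheme.Hom.range_fiberι]; rfl
    rw [← hy', ← Scheme.Hom.finrank_of_isPullback _ _ _ _ hsq, hrank y']
    refine Nat.card_eq_two_iff.2 ⟨1, a₀, Ne.symm hne, Set.eq_univ_of_forall fun a => ?_⟩
    rcases ha₀ a with h | h <;> simp [h]

end Groth.Agent.S18903
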