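import Groth.Statements.S5728
import Groth.Agent.ProjBundleLib.FTSub
-- import your own Groth.Agent.* helpers here

set_option autoImplicit false
universe u
open CategoryTheory CategoryTheory.Limits AlgebraicGeometry TopologicalSpace Opposite
open scoped HomogeneousIdeal
open EGA2

namespace Groth.Agent.S5728

/-- Let f : X → Y be a proper morphism and L an invertible O_X-module which is very ample relative to f
and whose direct image f_*L (a quasi-coherent O_Y-module) is of finite type. Then f is projective: X
is isomorphic over Y to the relative homogeneous spectrum of a quasi-coherent graded O_Y-algebra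
generated by its degree-one part, with that part of finite type. -/
theorem result {X Y : Scheme.{u}} (f : X ⟶ Y) [IsProper f]
    (L : X.Modules) (hL : PicF.IsInvertible L) (hva : RelProj.IsRelVeryAmple f L)
    (hft : CohB1.IsFT ((Scheme.Modules.pushforward f).obj L)) : RelProj.IsProjective f := by
  obtain ⟨hqc, hv, B, r, hr, hi⟩ := ProjBundleLib.push_of_isRelVeryAmple hL hva
  exact ProjBundleLib.isProjective_of_immersion hft B r (ProjBundleLib.Cls.comp_eq B.hj B.hP hv hr)

end Groth.Agent.S5728
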