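import Groth.Statements.S18905
import Mathlib.AlgebraicGeometry.Morphisms.FormallyUnramified
import Mathlib.AlgebraicGeometry.Morphisms.FiniteType
import Mathlib.FieldTheory.IsAlgClosed.Basic
import Mathlib.Algebra.DualNumber
import Mathlib.RingTheory.Nakayama
import Mathlib.RingTheory.Jacobson.Ring
import Mathlib.RingTheory.Kaehler.Basic
import Mathlib.LinearAlgebra.Dual.Lemmas
-- import your own Groth.Agent.* helpers here

set_option autoImplicit false
universe u
open CategoryTheory CategoryTheory.Limits AlgebraicGeometry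
open Mor

namespace Groth.Agent.S18905
set_option backward.isDefEq.respectTransparency.types false

/-- A finite type algebra over an algebraically closed field whose tangent vectors vanish is
formally unramified. -/
lemma formallyUnramified_of_tangent (k : Type u) [Field k] [IsAlgClosed k] {A : Type u} [CommRing A]
    [Algebra k A] [Algebra.FiniteType k A]
    (h : ∀ g₁ g₂ : A →ₐ[k] DualNumber k,
      (TrivSqZeroExt.fstHom k k k).comp g₁ = (TrivSqZeroExt.fstHom k k k).comp g₂ → g₁ = g₂) :
    Algebra.FormallyUnramified k A := by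
  refine ⟨?_⟩
  let N := Ω[A⁄k]
  by_contra hns
  obtain ⟨m, hm, hne⟩ : ∃ m : Ideal A, m.IsMaximal ∧ m • (⊤ : Submodule A N) ≠ ⊤ := by
    by_contra! H
    apply hns
    have hann : (⊤ : Submodule A N).annihilator = ⊤ := by
      by_contra hh
      obtain ⟨m, hm, hle⟩ := Ideal.exists_le_maximal _ hh
      obtain ⟨r, hr, hr'⟩ := Submodule.exists_sub_one_mem_and_smul_eq_zero_of_fg_of_le_smul m ⊤
        Module.Finite.fg_top (H m hm).ge
      have hrm : r ∈ m := hle (Submodule.mem_annihilator.mpr fun n hn => hr' n hn)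
      exact hm.ne_top ((Ideal.eq_top_iff_one _).mpr (by simpa using sub_mem hrm hr))
    have h1 : (1 : A) ∈ (⊤ : Submodule A N).annihilator := hann ▸ Submodule.mem_top
    exact subsingleton_of_forall_eq 0 fun n => by
      rw [← one_smul A n]; exact Submodule.mem_annihilator.mp h1 n trivial
  let : Field (A ⧸ m) := Ideal.Quotient.field m
  have : Module.Finite k (A ⧸ m) := finite_of_finite_type_of_isJacobsonRing k _
  have hbij : Function.Bijective (algebraMap k (A ⧸ m)) :=
    IsAlgClosed.algebraMap_bijective_of_isIntegral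
  let e : k ≃ₐ[k] A ⧸ m := AlgEquiv.ofBijective (Algebra.ofId k (A ⧸ m)) hbij
  let Q := N ⧸ (m • (⊤ : Submodule A N))
  have : Nontrivial Q := Submodule.Quotient.nontrivial_iff.mpr hne
  obtain ⟨v, hv⟩ := exists_ne (0 : Q)
  obtain ⟨l, hl⟩ : ∃ l : Module.Dual (A ⧸ m) Q, l v ≠ 0 := by
    by_contra! H
    exact hv ((Module.forall_dual_apply_eq_zero_iff (A ⧸ m) v).mp H)
  let mkQ : N →ₗ[A] Q := (m • (⊤ : Submodule A N)).mkQ
  let Dm : A → A ⧸ m := fun a => l (mkQ (KaehlerDifferential.D k A a))
  have hsmul : ∀ (a : A) (x : N), l (mkQ (a • x)) = Ideal.Quotient.mk m a * l (mkQ x) := fun a x => by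
    rw [map_smul]
    exact l.map_smul (Ideal.Quotient.mk m a) (mkQ x)
  let χ : A →ₐ[k] k := e.symm.toAlgHom.comp (Ideal.Quotient.mkₐ k m)
  let d : A → k := fun a => e.symm (Dm a)
  have hd : ∀ a b, d (a * b) = χ a * d b + χ b * d a := fun a b => by
    simp only [d, χ, Dm, Derivation.leibniz, map_add, hsmul, map_mul]
    rfl
  have hdk : ∀ c : k, d (algebraMap k A c) = 0 := fun c => by
    simp [d, Dm]
  have hadd : ∀ a b, d (a + b) = d a + d b := fun a b => by
    simp [d, Dm]
  let g₁ : A →ₐ[k] DualNumber k :=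
    { toFun := fun a => TrivSqZeroExt.inl (χ a) + TrivSqZeroExt.inr (d a)
      map_one' := by
        have : d 1 = 0 := by simpa using hdk 1
        apply TrivSqZeroExt.ext <;> simp [this]
      map_zero' := by
        have : d 0 = 0 := by simpa using hdk 0
        apply TrivSqZeroExt.ext <;> simp [this]
      map_add' := fun a b => by
        apply TrivSqZeroExt.ext <;> simp [hadd]
      map_mul' := fun a b => by
        apply TrivSqZeroExt.ext
        · simp
        · simp [TrivSqZeroExt.snd_mul, hd, mul_comm]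
      commutes' := fun c => by
        apply TrivSqZeroExt.ext <;> simp [hdk, TrivSqZeroExt.algebraMap_eq_inl] }
  let g₂ : A →ₐ[k] DualNumber k := (Algebra.ofId k (DualNumber k)).comp χ
  have hg : g₁ = g₂ := h g₁ g₂ (AlgHom.ext fun a => by
    simp [g₁, g₂, TrivSqZeroExt.algebraMap_eq_inl, Algebra.ofId_apply])
  have hd0 : ∀ a, d a = 0 := fun a => by
    have := congrArg TrivSqZeroExt.snd (DFunLike.congr_fun hg a)
    simpa [g₁, g₂, TrivSqZeroExt.algebraMap_eq_inl, Algebra.ofId_apply] using this
  have hl0 : ∀ x : N, l (mkQ x) = 0 := by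
    intro x
    have hx : x ∈ Submodule.span A (Set.range (KaehlerDifferential.D k A)) := by
      rw [KaehlerDifferential.span_range_derivation]; trivial
    induction hx using Submodule.span_induction with
    | mem y hy =>
      obtain ⟨a, rfl⟩ := hy
      exact e.symm.injective ((hd0 a).trans (map_zero e.symm).symm)
    | zero => rw [map_zero, map_zero]
    | add y z _ _ hy hz => rw [map_add, map_add, hy, hz, add_zero]
    | smul a y _ hy => rw [hsmul, hy, mul_zero]
  obtain ⟨x, rfl⟩ := Submodule.Quotient.mk_surjective _ v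
  exact hl (hl0 x)


/-- Let k be an algebraically closed field and X a scheme locally of finite type over k. Then X → Spec k
is formally unramified if and only if the map Hom_k(Spec k[ε], X) → Hom_k(Spec k, X) given by
restricting along the closed immersion of Spec k into Spec k[ε] (k[ε] the ring of dual numbers, ε ↦
0), is bijective; since that map is always surjective, the condition is stated as injectivity: two
k-morphisms from Spec k[ε] to X which agree on Spec k are equal. -/
theorem result (k : Type u) [Field k] [IsAlgClosed k]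
    {X : Scheme.{u}} (p : X ⟶ Spec (CommRingCat.of k)) [LocallyOfFiniteType p] :
    FormallyUnramified p ↔
      ∀ v₁ v₂ : Spec (CommRingCat.of (DualNumber k)) ⟶ X,
        v₁ ≫ p = Spec.map (CommRingCat.ofHom (algebraMap k (DualNumber k))) →
        v₂ ≫ p = Spec.map (CommRingCat.ofHom (algebraMap k (DualNumber k))) →
        Spec.map (CommRingCat.ofHom (TrivSqZeroExt.fstHom k k k).toRingHom) ≫ v₁ =
          Spec.map (CommRingCat.ofHom (TrivSqZeroExt.fstHom k k k).toRingHom) ≫ v₂ →
        v₁ = v₂ := by
  let ε₀ : CommRingCat.of (DualNumber k) ⟶ CommRingCat.of k :=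
    CommRingCat.ofHom (TrivSqZeroExt.fstHom k k k).toRingHom
  let ι₀ : CommRingCat.of k ⟶ CommRingCat.of (DualNumber k) :=
    CommRingCat.ofHom (algebraMap k (DualNumber k))
  constructor
  · intro hp v₁ v₂ h₁ h₂ h₀
    obtain ⟨U, hU, hxU, -⟩ := exists_isAffineOpen_mem_and_subset
      (x := (Spec.map ε₀ ≫ v₁) (IsLocalRing.closedPoint k)) (U := ⊤) trivial
    have hsurj : Function.Surjective (Spec.map ε₀) := by
      intro q
      refine ⟨IsLocalRing.closedPoint k, PrimeSpectrum.ext ?_⟩
      have hle : RingHom.ker ε₀.hom ≤ PrimeSpectrum.asIdeal q := fun x hx => by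
        have hx2 : x * x = 0 := by
          apply TrivSqZeroExt.ext <;> simp [show x.fst = 0 from hx]
        have hq : x * x ∈ PrimeSpectrum.asIdeal q := hx2 ▸ (PrimeSpectrum.asIdeal q).zero_mem
        exact ((PrimeSpectrum.isPrime q).mem_or_mem hq).elim id id
      refine Eq.trans ?_ (le_antisymm hle ?_)
      · show (IsLocalRing.maximalIdeal k).comap ε₀.hom = RingHom.ker ε₀.hom
        rw [IsLocalRing.maximalIdeal_eq_bot]
        rfl
      · have hmax : (RingHom.ker ε₀.hom).IsMaximal :=
          RingHom.ker_isMaximal_of_surjective ε₀.hom fun c => ⟨TrivSqZeroExt.inl c, rfl⟩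
        exact (hmax.eq_of_le (PrimeSpectrum.isPrime q).ne_top hle).ge
    have hfac : ∀ v : Spec (CommRingCat.of (DualNumber k)) ⟶ X,
        Spec.map ε₀ ≫ v = Spec.map ε₀ ≫ v₁ → ∃ φ, Spec.map φ ≫ hU.fromSpec = v := by
      intro v hv
      have hsub : Set.range v ⊆ Set.range hU.fromSpec := by
        rw [hU.range_fromSpec]
        rintro _ ⟨w, rfl⟩
        obtain ⟨z, rfl⟩ := hsurj w
        rw [← Scheme.Hom.comp_apply, hv, Subsingleton.elim z (IsLocalRing.closedPoint k)]
        exact hxU
      obtain ⟨φ, hφ⟩ := Spec.map_surjective (IsOpenImmersion.lift hU.fromSpec v hsub)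
      exact ⟨φ, by rw [hφ, IsOpenImmersion.lift_fac]⟩
    obtain ⟨φ₁, rfl⟩ := hfac v₁ rfl
    obtain ⟨φ₂, rfl⟩ := hfac v₂ h₀.symm
    obtain ⟨s, hs⟩ := Spec.map_surjective (hU.fromSpec ≫ p)
    have hfu : s.hom.FormallyUnramified := by
      have : FormallyUnramified (Spec.map s) :=
        hs ▸ MorphismProperty.comp_mem _ _ _ inferInstance hp
      exact (HasRingHomProperty.Spec_iff (P := @FormallyUnramified)).mp this
    have key : ∀ φ : Γ(X, U) ⟶ CommRingCat.of (DualNumber k),
        (Spec.map φ ≫ hU.fromSpec) ≫ p = Spec.map ι₀ → s ≫ φ = ι₀ := fun φ hφ => by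
      apply Spec.map_injective
      rw [Spec.map_comp, hs, ← Category.assoc]
      exact hφ
    have e₀ : φ₁ ≫ ε₀ = φ₂ ≫ ε₀ := by
      apply Spec.map_injective
      rw [← cancel_mono hU.fromSpec, Spec.map_comp, Spec.map_comp, Category.assoc, Category.assoc]
      exact h₀
    algebraize [s.hom]
    let g : ∀ φ : Γ(X, U) ⟶ CommRingCat.of (DualNumber k), s ≫ φ = ι₀ →
        (Γ(X, U) →ₐ[k] DualNumber k) := fun φ hφ =>
      { φ.hom with commutes' := fun c => congr($(hφ).hom c) }
    have hnil : IsNilpotent (RingHom.ker ε₀.hom) := by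
      refine ⟨2, eq_bot_iff.mpr ?_⟩
      rw [Submodule.pow_succ, Submodule.pow_one, Ideal.mul_le]
      intro x hx y hy
      rw [Ideal.mem_bot]
      apply TrivSqZeroExt.ext <;> simp [show x.fst = 0 from hx, show y.fst = 0 from hy]
    have hg := Algebra.FormallyUnramified.lift_unique_of_ringHom ε₀.hom hnil
      (g φ₁ (key φ₁ h₁)) (g φ₂ (key φ₂ h₂)) congr(($e₀).hom)
    rw [show φ₁ = φ₂ from CommRingCat.hom_ext (RingHom.ext fun x => DFunLike.congr_fun hg x)]
  · intro h
    let 𝒰 := X.affineOpenCover
    refine (IsZariskiLocalAtSource.iff_of_openCover (P := @FormallyUnramified)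
      𝒰.openCover).mpr fun i => ?_
    have hi : IsOpenImmersion (𝒰.f i) := 𝒰.map_prop i
    obtain ⟨s, hs⟩ := Spec.map_surjective (𝒰.f i ≫ p)
    have hft : LocallyOfFiniteType (Spec.map s) := hs ▸ inferInstance
    rw [HasRingHomProperty.Spec_iff (P := @LocallyOfFiniteType)] at hft
    change FormallyUnramified (𝒰.f i ≫ p)
    rw [← hs, HasRingHomProperty.Spec_iff (P := @FormallyUnramified)]
    algebraize [s.hom]
    refine formallyUnramified_of_tangent k fun g₁ g₂ hg => ?_
    have := h (Spec.map (CommRingCat.ofHom g₁.toRingHom) ≫ 𝒰.f i)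
      (Spec.map (CommRingCat.ofHom g₂.toRingHom) ≫ 𝒰.f i)
      (by rw [Category.assoc, ← hs, ← Spec.map_comp]
          congr 1; ext c <;> simp [show s.hom c = algebraMap k _ c from rfl])
      (by rw [Category.assoc, ← hs, ← Spec.map_comp]
          congr 1; ext c <;> simp [show s.hom c = algebraMap k _ c from rfl])
      (by rw [← Category.assoc, ← Category.assoc, ← Spec.map_comp, ← Spec.map_comp,
            ← CommRingCat.ofHom_comp, ← CommRingCat.ofHom_comp]
          congr 3
          exact congrArg AlgHom.toRingHom hg)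
    rw [cancel_mono] at this
    exact AlgHom.coe_ringHom_injective (congrArg CommRingCat.Hom.hom (Spec.map_injective this))

end Groth.Agent.S18905
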