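import Mathlib
import Groth.Statements.S18908
-- import your own Groth.Agent.* helpers here

set_option autoImplicit false
universe u v w
open scoped TensorProduct
open CAlg

namespace Groth.Agent.S18908

/-- Let K ⊇ k be a finite field extension of degree n and Ω ⊇ k an algebraically closed extension. Then
K is separable over k if and only if Ω ⊗_k K is isomorphic, as an Ω-algebra, to the product of n
copies of Ω. (The source says 'for every (some) algebraically closed extension Ω'; the equivalence
is stated for each fixed Ω, which gives both readings.) -/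
theorem result (k : Type u) (K : Type v) (Ω : Type w)
    [Field k] [Field K] [Algebra k K] [FiniteDimensional k K]
    [Field Ω] [Algebra k Ω] [IsAlgClosed Ω] :
    Algebra.IsSeparable k K ↔ Nonempty ((Ω ⊗[k] K) ≃ₐ[Ω] (Fin (Module.finrank k K) → Ω)) := by
  classical
  constructor
  · intro hs
    let n := Module.finrank k K
    have hcard : Fintype.card (K →ₐ[k] Ω) = n := AlgHom.card k K Ω
    let σ : Fin n ≃ (K →ₐ[k] Ω) := (Fintype.equivFinOfCardEq hcard).symm
    let φ : (Ω ⊗[k] K) →ₐ[Ω] (Fin n → Ω) :=
      Algebra.TensorProduct.lift (Algebra.ofId Ω (Fin n → Ω)) (Pi.algHom k _ fun i => σ i)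
        (fun _ _ => Commute.all _ _)
    have hφ : Function.Surjective φ := by
      rw [← AlgHom.range_eq_top]
      suffices h : (φ.range.toSubmodule) = ⊤ by
        exact Algebra.toSubmodule_eq_top.mp h
      rw [eq_top_iff]
      have hli : LinearIndependent Ω (fun i : Fin n => ((σ i).toLinearMap)) :=
        (linearIndependent_toLinearMap k K Ω).comp σ σ.injective
      by_contra hne
      obtain ⟨g, hg0, hg⟩ := (φ.range.toSubmodule).exists_le_ker_of_lt_top
        (lt_top_iff_ne_top.mpr fun h => hne h.ge)
      refine hg0 ?_
      have h0 : ∀ i, g (Pi.single i 1) = 0 := by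
        refine (Fintype.linearIndependent_iff.mp hli) (fun i => g (Pi.single i 1)) ?_
        ext x
        have h1 : g (φ (1 ⊗ₜ x)) = 0 := hg ⟨1 ⊗ₜ x, rfl⟩
        have h2 : φ (1 ⊗ₜ x) = fun i => σ i x := by
          ext i; simp [φ]
        rw [h2, LinearMap.pi_apply_eq_sum_univ g] at h1
        have hs : ∀ j : Fin n, (fun i : Fin n => if j = i then (1:Ω) else 0) = Pi.single j 1 := fun j => by
          ext i; simp [Pi.single_apply, eq_comm]
        simpa [hs, mul_comm, eq_comm] using h1
      refine LinearMap.pi_ext' fun i => LinearMap.ext_ring ?_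
      simpa using h0 i
    have hfd : Module.finrank Ω (Ω ⊗[k] K) = Module.finrank Ω (Fin n → Ω) := by
      rw [Module.finrank_baseChange, Module.finrank_pi, Fintype.card_fin]
    exact ⟨AlgEquiv.ofBijective φ
      ⟨(LinearMap.injective_iff_surjective_of_finrank_eq_finrank hfd (f := φ.toLinearMap)).mpr hφ, hφ⟩⟩
  · rintro ⟨e⟩
    rw [← Field.finSepDegree_eq_finrank_iff, Field.finSepDegree_eq_of_isAlgClosed k K Ω]
    haveI : Finite (K →ₐ[k] Ω) := inferInstance
    refine le_antisymm ?_ ?_
    · exact (card_algHom_le_finrank k K Ω)
    · let F : Fin (Module.finrank k K) → (K →ₐ[k] Ω) := fun i =>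
        (((Pi.evalAlgHom Ω (fun _ : Fin (Module.finrank k K) => Ω) i).comp e.toAlgHom).restrictScalars k).comp
          Algebra.TensorProduct.includeRight
      have hF : Function.Injective F := by
        intro i j hij
        by_contra hne
        obtain ⟨x, hx⟩ := e.surjective (Pi.single i 1)
        have hext : (Pi.evalAlgHom Ω (fun _ : Fin (Module.finrank k K) => Ω) i).comp e.toAlgHom =
            (Pi.evalAlgHom Ω (fun _ : Fin (Module.finrank k K) => Ω) j).comp e.toAlgHom :=
          Algebra.TensorProduct.ext (Subsingleton.elim _ _) hij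
        have h1 := DFunLike.congr_fun hext x
        change e x i = e x j at h1
        rw [hx, Pi.single_eq_same, Pi.single_eq_of_ne (Ne.symm hne)] at h1
        exact one_ne_zero h1
      calc Module.finrank k K = Nat.card (Fin (Module.finrank k K)) := (Nat.card_fin _).symm
        _ ≤ _ := Nat.card_le_card_of_injective F hF

end Groth.Agent.S18908
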