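import Groth.Statements.S18912
import Mathlib.FieldTheory.IsAlgClosed.Basic

set_option autoImplicit false
universe u
open CategoryTheory CategoryTheory.Limits AlgebraicGeometry
open TFNodal

namespace Groth.Agent.S18912

/-- Let k be an algebraically closed field of characteristic zero, X a reduced scheme locally of finite
type over k, F an O_X-module, d ≥ 1 an integer and τ, τ' : F → O_X two O_X-linear maps whose d-th
symmetric powers agree, in the sense that for every open U and all sections a_1, …, a_d of F over U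
the products τ(a_1)⋯τ(a_d) and τ'(a_1)⋯τ'(a_d) coincide in Γ(U, O_X). Then for every point η of X
whose local ring is a field (a generic point of an irreducible component) there is a d-th root of
unity ξ in k such that, for every section a of F over an open containing η, the germ of τ'(a) at η
is ξ times the germ of τ(a). The published statement is for a coherent module on a projective nodal
curve and concludes that τ' = ξ τ with one root of unity ξ on each connected component; that form
fails for the union of two lines meeting at a node, F the ideal of the node, τ the inclusion and τ'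
equal to τ on one line and to −τ on the other (d = 2), so the conclusion is stated here at each
generic point, i.e. per irreducible component, which is what the stalkwise argument yields. -/
theorem result
    (k : Type u) [Field k] [IsAlgClosed k] [CharZero k]
    (X : Scheme.{u}) [X.Over (Spec (CommRingCat.of k))]
    [LocallyOfFiniteType (X ↘ Spec (CommRingCat.of k))] [AlgebraicGeometry.IsReduced X]
    (F : X.Modules) (τ τ' : F ⟶ Coh.structureModule X) (d : ℕ) (hd : 1 ≤ d)
    (hS : ∀ (U : X.Opens) (a : Fin d → Γ(F, U)),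
      (∏ i, (τ.app U (a i) : Γ(X, U)) : Γ(X, U)) = (∏ i, (τ'.app U (a i) : Γ(X, U)) : Γ(X, U)))
    (η : X) (hη : IsField (X.presheaf.stalk η)) :
    ∃ ξ : k, ξ ^ d = 1 ∧ ∀ (U : X.Opens) (hU : η ∈ U) (a : Γ(F, U)),
      (X.presheaf.germ U η hU (τ'.app U a : Γ(X, U)) : X.presheaf.stalk η) =
        Curv2.stalkMap k X η ξ * X.presheaf.germ U η hU (τ.app U a : Γ(X, U)) := by
  classical
  letI := hη.toField
  let ev : ∀ (U : X.Opens) (_ : η ∈ U), (F ⟶ Coh.structureModule X) → Γ(F, U) → X.presheaf.stalk η :=
    fun U hU t a => X.presheaf.germ U η hU (t.app U a : Γ(X, U))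
  have hres : ∀ (U V : X.Opens) (h : V ≤ U) (hV : η ∈ V) (t : F ⟶ Coh.structureModule X) (a : Γ(F, U)),
      ev V hV t (F.presheaf.map (homOfLE h).op a) = ev U (h hV) t a := by
    intro U V h hV t a
    refine Eq.trans ?_ (X.presheaf.germ_res_apply (homOfLE h) η hV (t.app U a : Γ(X, U)))
    exact congrArg (X.presheaf.germ V η hV) (NatTrans.naturality_apply t.mapPresheaf (homOfLE h).op a)
  have hprod : ∀ (U : X.Opens) (hU : η ∈ U) (a : Fin d → Γ(F, U)),
      (∏ i, ev U hU τ (a i)) = ∏ i, ev U hU τ' (a i) := by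
    intro U hU a
    have := congrArg (X.presheaf.germ U η hU) (hS U a)
    exact (map_prod (X.presheaf.germ U η hU).hom _ _).symm.trans (this.trans (map_prod (X.presheaf.germ U η hU).hom _ _))
  by_cases h0 : ∀ (U : X.Opens) (hU : η ∈ U) (a : Γ(F, U)), ev U hU τ a = 0
  · refine ⟨1, one_pow _, fun U hU a => ?_⟩
    have h := hprod U hU fun _ => a
    rw [Finset.prod_const, Finset.prod_const, Finset.card_univ, Fintype.card_fin, h0 U hU a,
      zero_pow (by omega)] at h
    show ev U hU τ' a = _
    rw [eq_zero_of_pow_eq_zero h.symm]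
    exact (mul_eq_zero_of_right _ (h0 U hU a)).symm
  push Not at h0
  obtain ⟨U₀, hU₀, a₀, ha₀⟩ := h0
  have hd0 : ev U₀ hU₀ τ a₀ ^ d = ev U₀ hU₀ τ' a₀ ^ d := by
    have h := hprod U₀ hU₀ fun _ => a₀
    rwa [Finset.prod_const, Finset.prod_const, Finset.card_univ, Fintype.card_fin] at h
  have ha₀' : ev U₀ hU₀ τ' a₀ ≠ 0 := fun h => ha₀ (by
    rw [h, zero_pow (by omega)] at hd0
    exact eq_zero_of_pow_eq_zero hd0)
  set z := ev U₀ hU₀ τ' a₀ / ev U₀ hU₀ τ a₀ with hz
  have hzd : z ^ d = 1 := by rw [hz, div_pow, ← hd0, div_self (pow_ne_zero _ ha₀)]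
  obtain ⟨ξ, hξd, hξ⟩ : ∃ ξ : k, ξ ^ d = 1 ∧ Curv2.stalkMap k X η ξ = z := by
    have hs : (Polynomial.X ^ d - Polynomial.C (1 : k)).Splits := IsAlgClosed.splits _
    have hne : (Polynomial.X ^ d - Polynomial.C (1 : k)) ≠ 0 :=
      Polynomial.X_pow_sub_C_ne_zero (by omega) 1
    have hroot : z ∈ (((Polynomial.X ^ d - Polynomial.C (1 : k))).map (Curv2.stalkMap k X η)).roots := by
      rw [Polynomial.mem_roots (Polynomial.map_ne_zero hne)]
      simp [hzd]
    rw [hs.roots_map (Curv2.stalkMap k X η), Multiset.mem_map] at hroot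
    obtain ⟨ξ, hξ, e⟩ := hroot
    refine ⟨ξ, ?_, e⟩
    have := (Polynomial.mem_roots hne).1 hξ
    simpa [sub_eq_zero] using this
  refine ⟨ξ, hξd, fun U hU a => ?_⟩
  rw [hξ]
  show ev U hU τ' a = z * ev U hU τ a
  obtain ⟨e, rfl⟩ : ∃ e, d = e + 1 := ⟨d - 1, by omega⟩
  have hW : η ∈ U ⊓ U₀ := ⟨hU, hU₀⟩
  have h := hprod (U ⊓ U₀) hW (Fin.cons (F.presheaf.map (homOfLE (inf_le_left : U ⊓ U₀ ≤ U)).op a)
    (fun _ => F.presheaf.map (homOfLE (inf_le_right : U ⊓ U₀ ≤ U₀)).op a₀))
  simp only [Fin.prod_univ_succ, Fin.cons_zero, Fin.cons_succ, hres, Finset.prod_const,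
    Finset.card_univ, Fintype.card_fin] at h
  refine mul_right_cancel₀ (pow_ne_zero e ha₀') ?_
  rw [← h, hz]
  rw [pow_succ', pow_succ'] at hd0
  field_simp
  linear_combination ev U hU τ a * hd0

end Groth.Agent.S18912
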