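import Groth.Statements.S18913
import Groth.Agent.DecCurve.MonoTwist

set_option autoImplicit false
universe u
open CategoryTheory CategoryTheory.Limits AlgebraicGeometry
open TFNodal

namespace Groth.Agent.S18913

open Groth.Agent.PullStalk.Sky Groth.Agent.PullStalk.Exact Groth.Agent.Omega.Stalks Groth.Agent.QCoh
  Groth.Agent.DecCurve

set_option backward.isDefEq.respectTransparency.types false

/-- On a connected curve no closed point is open. -/
theorem not_isOpen_singleton {X : Scheme.{u}} [ConnectedSpace X] (hdim : topologicalKrullDim X = 1)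
    {x : X} (hx : IsClosed ({x} : Set X)) : ¬ IsOpen ({x} : Set X) := fun ho => by
  have he : ({x} : Set X) = Set.univ := IsClopen.eq_univ ⟨hx, ho⟩ ⟨x, rfl⟩
  haveI : Subsingleton X := ⟨fun a b => by
    have ha : a ∈ ({x} : Set X) := he ▸ trivial
    have hb : b ∈ ({x} : Set X) := he ▸ trivial
    exact (ha : a = x).trans (hb : b = x).symm⟩
  haveI : Subsingleton (TopologicalSpace.IrreducibleCloseds X) := ⟨fun A B => by
    refine TopologicalSpace.IrreducibleCloseds.ext ?_
    exact (Subsingleton.eq_univ_of_nonempty A.isIrreducible.1).trans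
      (Subsingleton.eq_univ_of_nonempty B.isIrreducible.1).symm⟩
  have h0 : topologicalKrullDim X ≤ 0 := Order.krullDim_nonpos_of_subsingleton
  rw [hdim] at h0
  exact absurd h0 (by decide)

/-- Points with field stalk are not closed. -/
theorem not_isClosed_of_isField {X : Scheme.{u}} [ConnectedSpace X] [IsNoetherian X]
    [AlgebraicGeometry.IsReduced X] (hdim : topologicalKrullDim X = 1) {η : X}
    (hη : IsField (X.presheaf.stalk η)) : ¬ IsClosed ({η} : Set X) := fun hc => by
  obtain ⟨a, ham, ha⟩ := exists_isRegular_mem hc (not_isOpen_singleton hdim hc)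
  rw [IsLocalRing.isField_iff_maximalIdeal_eq.1 hη, Ideal.mem_bot] at ham
  exact ha.ne_zero ham

theorem charZero_stalk (k : Type u) [Field k] [CharZero k] {X : Scheme.{u}}
    [X.Over (Spec (CommRingCat.of k))] (y : X) : CharZero (X.presheaf.stalk y) :=
  charZero_of_injective_ringHom
    ((Scheme.ΓSpecIso (CommRingCat.of k)).inv ≫ (X ↘ Spec (CommRingCat.of k)).appTop ≫
      X.presheaf.germ ⊤ y trivial).hom.injective

/-- Maps into an invertible module independent at all generic points. -/
theorem exists_family (k : Type u) [Field k] [CharZero k] {X : Scheme.{u}}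
    [X.Over (Spec (CommRingCat.of k))] {F M : X.Modules} {r : ℕ} (hM : PicF.IsInvertible M)
    (s : Finset X) (hs : ∀ η ∈ s, IsField (X.presheaf.stalk η))
    (hfree : ∀ η ∈ s, Nonempty (F.presheaf.stalk η ≃ₗ[X.presheaf.stalk η] (Fin r → X.presheaf.stalk η)))
    (hspan : ∀ η ∈ s, Submodule.span (X.presheaf.stalk η)
      (Set.range fun f : F ⟶ M => (stalkLin f η : RefHull.StalkHom F M η)) = ⊤) :
    ∀ j ≤ r, ∃ f : Fin j → (F ⟶ M), ∀ η ∈ s, LinearIndependent (X.presheaf.stalk η)
      (fun i => (stalkLin (f i) η : RefHull.StalkHom F M η)) := by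
  intro j
  induction j with
  | zero => exact fun _ => ⟨Fin.elim0, fun η _ => linearIndependent_empty_type⟩
  | succ j ih =>
    intro hj
    obtain ⟨f, hf⟩ := ih (by omega)
    let S : X → AddSubgroup (F ⟶ M) := fun η =>
      (Submodule.span (X.presheaf.stalk η)
        (Set.range fun i => (stalkLin (f i) η : RefHull.StalkHom F M η))).toAddSubgroup.comap
        (AddMonoidHom.mk' (fun g : F ⟶ M => (stalkLin g η : RefHull.StalkHom F M η))
          (fun a b => LinearMap.ext fun t => CohDev.stalkLin_add_apply a b η t))
    have hmem : ∀ η g, g ∈ S η ↔ (stalkLin g η : RefHull.StalkHom F M η) ∈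
        Submodule.span (X.presheaf.stalk η)
          (Set.range fun i => (stalkLin (f i) η : RefHull.StalkHom F M η)) := fun η g => Iff.rfl
    obtain ⟨g, hg⟩ := exists_notMem_all s S
      (fun η hη n a hn ha => by
        letI := (hs η hη).toField
        haveI := charZero_stalk k η
        rw [hmem] at ha ⊢
        have e : (stalkLin (n • a) η : RefHull.StalkHom F M η) =
            (n : X.presheaf.stalk η) • (stalkLin a η : RefHull.StalkHom F M η) := by
          refine (map_nsmul (AddMonoidHom.mk' (fun g : F ⟶ M => (stalkLin g η : RefHull.StalkHom F M η))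
            (fun a b => LinearMap.ext fun t => CohDev.stalkLin_add_apply a b η t)) n a).trans ?_
          exact (Nat.cast_smul_eq_nsmul _ _ _).symm
        rw [e] at ha
        exact (Submodule.smul_mem_iff _ (Nat.cast_ne_zero.2 hn.ne')).1 ha)
      (fun η hη => by
        letI := (hs η hη).toField
        by_contra hall
        push Not at hall
        obtain ⟨e⟩ := hfree η hη
        obtain ⟨e'⟩ := exists_stalk_gen hM η
        haveI : Module.Finite (X.presheaf.stalk η) (RefHull.StalkHom F M η) :=
          Module.Finite.equiv (LinearEquiv.arrowCongr e.symm e')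
        have hr : Module.finrank (X.presheaf.stalk η) (RefHull.StalkHom F M η) = r := by
          rw [← (LinearEquiv.arrowCongr e.symm e').finrank_eq, Module.finrank_linearMap_self]
          simp
        have htop : Submodule.span (X.presheaf.stalk η)
            (Set.range fun i => (stalkLin (f i) η : RefHull.StalkHom F M η)) = ⊤ := by
          rw [eq_top_iff, ← hspan η hη, Submodule.span_le]
          rintro _ ⟨a, rfl⟩
          exact (hmem η a).1 (hall a)
        have := finrank_range_le_card (R := X.presheaf.stalk η)
          (fun i => (stalkLin (f i) η : RefHull.StalkHom F M η))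
        rw [Set.finrank, htop, finrank_top, hr, Fintype.card_fin] at this
        omega)
    refine ⟨Fin.snoc f g, fun η hη => ?_⟩
    letI := (hs η hη).toField
    rw [show (fun i => (stalkLin ((Fin.snoc f g : Fin (j + 1) → (F ⟶ M)) i) η : RefHull.StalkHom F M η)) =
        Fin.snoc (fun i => (stalkLin (f i) η : RefHull.StalkHom F M η)) (stalkLin g η) from
      Fin.comp_snoc (fun h : F ⟶ M => (stalkLin h η : RefHull.StalkHom F M η)) f g]
    exact linearIndependent_finSnoc.2 ⟨hf η hη, fun h => hg η hη ((hmem η g).2 h)⟩

/-- Let k be an algebraically closed field of characteristic zero, X a connected reduced proper curve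
over k (a proper k-scheme of dimension one), L an ample invertible O_X-module, F a coherent
O_X-module and r a natural number. Then F is of depth one at every closed point (no closed point of
X is an associated point of F) with stalk free of rank r at every generic point (uniform multirank
r) if and only if there are a natural number m and a monomorphism F → (L^{⊗m})^{⊕r} whose cokernel
has zero stalk at every generic point of X (a torsion cokernel). -/
theorem result
    (k : Type u) [Field k] [IsAlgClosed k] [CharZero k]
    (X : Scheme.{u}) [X.Over (Spec (CommRingCat.of k))] [IsProper (X ↘ Spec (CommRingCat.of k))]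
    [AlgebraicGeometry.IsReduced X] [ConnectedSpace X] (hdim : topologicalKrullDim X = 1)
    (L : X.Modules) (hL : CohB1.IsAmple L)
    (F : X.Modules) (hF : Coh.IsCoh F) (r : ℕ) :
    ((∀ x : X, IsClosed ({x} : Set X) → ¬ Curv2.IsAssPoint F x) ∧
      (∀ η : X, IsField (X.presheaf.stalk η) →
        Nonempty (F.presheaf.stalk η ≃ₗ[X.presheaf.stalk η] (Fin r → X.presheaf.stalk η)))) ↔
    (∃ (m : ℕ) (ι : F ⟶ ∐ fun _ : Fin r => CohB1.tensorPow L m), Mono ι ∧
      ∀ η : X, IsField (X.presheaf.stalk η) → Subsingleton ((cokernel ι).presheaf.stalk η)) := by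
  haveI := EulerChar.isNoetherian k (X := X)
  have hAss := fun (G : X.Modules) (y : X) => (assoc_iff_isAssPoint G y).2
  constructor
  · rintro ⟨hdep, hgen⟩
    haveI : X.IsSeparated := ⟨by
      rw [show terminal.from X = (X ↘ Spec (CommRingCat.of k)) ≫ terminal.from _ from terminal.hom_ext _ _]
      infer_instance⟩
    obtain ⟨n₀, hn₀⟩ := S2325.result X L hL _ (HomShQC.isCoh_dual F hF)
    let M := CohB1.tensorPow L n₀
    have hM : PicF.IsInvertible M := AmpleLib.isInvertible_tensorPow hL.1 n₀
    have hfin : {η : X | IsField (X.presheaf.stalk η)}.Finite :=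
      (DecCurve.finite_not_closed k hdim.le).subset fun η hη => not_isClosed_of_isField hdim hη
    let s := hfin.toFinset
    have hs : ∀ η ∈ s, IsField (X.presheaf.stalk η) := fun η hη => hfin.mem_toFinset.1 hη
    obtain ⟨f, hf⟩ := exists_family k (r := r) hM s hs (fun η hη => hgen η (hs η hη))
      (fun η hη => exists_hom_span hF (hn₀ n₀ le_rfl) η
        (Module.Free.of_equiv (hgen η (hs η hη)).some.symm)) r le_rfl
    let ι : F ⟶ ∐ fun _ : Fin r => M := ∑ i : Fin r, f i ≫ Sigma.ι (fun _ : Fin r => M) i
    have hproj : ∀ i, ι ≫ proj M i = f i := fun i => by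
      rw [Preadditive.sum_comp, Finset.sum_eq_single i]
      · rw [Category.assoc, ι_proj, if_pos rfl, Category.comp_id]
      · intro b _ hb
        rw [Category.assoc, ι_proj, if_neg hb, comp_zero]
      · simp
    have hbij : ∀ η : X, IsField (X.presheaf.stalk η) → Function.Bijective (stalkLin ι η) := by
      intro η hη
      letI := hη.toField
      obtain ⟨e⟩ := hgen η hη
      obtain ⟨e'⟩ := exists_stalk_gen hM η
      haveI : Module.Finite (X.presheaf.stalk η) (F.presheaf.stalk η) := Module.Finite.equiv e.symm
      haveI : Module.Finite (X.presheaf.stalk η) (M.presheaf.stalk η) := Module.Finite.equiv e'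
      let φ := LinearMap.pi fun i : Fin r => stalkLin (f i) η
      have hr : Module.finrank (X.presheaf.stalk η) (RefHull.StalkHom F M η) = r := by
        rw [← (LinearEquiv.arrowCongr e.symm e').finrank_eq, Module.finrank_linearMap_self]
        simp
      haveI : Module.Finite (X.presheaf.stalk η) (RefHull.StalkHom F M η) :=
        Module.Finite.equiv (LinearEquiv.arrowCongr e.symm e')
      have htop : Submodule.span (X.presheaf.stalk η)
          (Set.range fun i => (stalkLin (f i) η : RefHull.StalkHom F M η)) = ⊤ :=
        (hf η (hfin.mem_toFinset.2 hη)).span_eq_top_of_card_eq_finrank'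
          (by rw [hr, Fintype.card_fin])
      have hinj : Function.Injective φ := by
        refine (injective_iff_map_eq_zero _).2 fun v hv => ?_
        have key : ∀ ψ : RefHull.StalkHom F M η, ψ v = 0 := fun ψ => by
          have hψ : ψ ∈ (⊤ : Submodule (X.presheaf.stalk η) _) := trivial
          rw [← htop] at hψ
          induction hψ using Submodule.span_induction with
          | mem x hx =>
            obtain ⟨i, rfl⟩ := hx
            exact congr_fun hv i
          | zero => rfl
          | add a b _ _ ha hb => rw [LinearMap.add_apply, ha, hb, add_zero]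
          | smul c a _ ha => rw [LinearMap.smul_apply, ha, smul_zero]
        refine e.injective (funext fun i => ?_)
        rw [map_zero, Pi.zero_apply]
        exact e'.injective (by
          simpa using key (e'.toLinearMap ∘ₗ LinearMap.proj i ∘ₗ e.toLinearMap))
      have hφ : Function.Bijective φ := ⟨hinj,
        (LinearMap.injective_iff_surjective_of_finrank_eq_finrank (by
          rw [e.finrank_eq, ← (LinearEquiv.piCongrRight fun _ : Fin r => e').finrank_eq])).1 hinj⟩
      have hcomp : (LinearMap.pi fun i : Fin r => stalkLin (proj M i) η) ∘ₗ stalkLin ι η = φ := by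
        refine LinearMap.ext fun t => funext fun i => ?_
        show stalkLin (proj M i) η (stalkLin ι η t) = stalkLin (f i) η t
        rw [← stalkLin_comp, hproj]
      rw [← hcomp, LinearMap.coe_comp] at hφ
      exact (Function.Bijective.of_comp_iff' (stalkProj_bijective M η) _).1 hφ
    haveI : Mono ι := by
      refine Preadditive.mono_of_isZero_kernel _ (by_contra fun h0 => ?_)
      have hS : Coh.IsCoh (∐ fun _ : Fin r => M) := isCoh_copies hM r
      obtain ⟨y, hy⟩ := CohDev.exists_assoc (HilbPolyX.isCoh_of_kernel k ι hF hS) h0
      obtain ⟨t, ht, htm⟩ := CohDev.assoc_of_mono (kernel.ι ι) hy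
      by_cases hc : IsClosed ({y} : Set X)
      · exact hdep y hc (((assoc_iff_isAssPoint F y).1 ⟨t, ht, htm⟩))
      · obtain ⟨t, ht, -⟩ := hy
        refine ht (CohDev.stalk_injective (kernel.ι ι) y ?_)
        refine (hbij y (isField_of_not_closed hdim.le hc)).1 ?_
        rw [← stalkLin_comp, kernel.condition, map_zero, map_zero, stalkLin_zero]
    exact ⟨n₀, ι, inferInstance, fun η hη =>
      TFCurvLib.subsingleton_cokernel_stalk ι η (hbij η hη).2⟩
  · rintro ⟨m, ι, hι, hcok⟩
    haveI := hι
    let M := CohB1.tensorPow L m
    have hM : PicF.IsInvertible M := AmpleLib.isInvertible_tensorPow hL.1 m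
    refine ⟨fun x hx hass => ?_, fun η hη => ?_⟩
    · obtain ⟨t, ht, htm⟩ := hAss F x hass
      obtain ⟨a, ham, ha⟩ := exists_isRegular_mem hx (not_isOpen_singleton hdim hx)
      obtain ⟨e'⟩ := exists_stalk_gen hM x
      refine ht (CohDev.stalk_injective ι x ((stalkProj_bijective M x).1 (funext fun i => ?_)))
      rw [map_zero, map_zero, Pi.zero_apply, LinearMap.pi_apply]
      refine e'.symm.injective ?_
      rw [map_zero]
      refine ha.left.mul_left_eq_zero_iff.1 ?_
      rw [← smul_eq_mul, ← map_smul, ← map_smul, ← map_smul, htm a ham, map_zero, map_zero, map_zero]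
    · obtain ⟨e'⟩ := exists_stalk_gen hM η
      exact ⟨(LinearEquiv.ofBijective _ ⟨CohDev.stalk_injective ι η,
        surjective_of_subsingleton ι η (hcok η hη)⟩).trans
        ((LinearEquiv.ofBijective _ (stalkProj_bijective M η)).trans
          (LinearEquiv.piCongrRight fun _ => e'.symm))⟩

end Groth.Agent.S18913
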