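import Groth.Statements.S18914
import Groth.Agent.DecCurve.TorFree
import Groth.Agent.FlatMor.GenericPts

set_option autoImplicit false
universe u
open CategoryTheory CategoryTheory.Limits AlgebraicGeometry
open TFNodal

namespace Groth.Agent.S18914

theorem isGen {X : Scheme.{u}} {y : X} (h : IsField (X.presheaf.stalk y)) :
    closure ({y} : Set X) ∈ irreducibleComponents X := by
  rw [FlatMor.GenericPts.closure_mem_irreducibleComponents_iff]
  intro z hz
  obtain ⟨p, hp⟩ : z ∈ Set.range (X.fromSpecStalk y) := by rwa [Scheme.range_fromSpecStalk]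
  have hpm : p = IsLocalRing.closedPoint (X.presheaf.stalk y) := by
    letI := h.toField
    exact Subsingleton.elim (α := PrimeSpectrum (X.presheaf.stalk y)) _ _
  rw [← hp, hpm, Scheme.fromSpecStalk_closedPoint]

theorem eq_zero_of_restrict {X : Scheme.{u}} [IsLocallyNoetherian X] [AlgebraicGeometry.IsReduced X]
    {U : X.Opens} (hU : Dense (U : Set X)) {A B : X.Modules} [B.IsQuasicoherent]
    (hB : TorSh.IsTorsionFree B) (g : A ⟶ B)
    (hg : (Scheme.Modules.restrictFunctor U.ι).map g = 0) : g = 0 := by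
  refine Scheme.Modules.hom_ext _ _ fun V => ?_
  ext s
  refine DecCurve.section_eq_zero_of_generic B hB _ fun y hy hf => ?_
  have hyU : y ∈ U := FlatMor.GenericPts.mem_of_dense hU (isGen hf)
  let W' : (U.toScheme).Opens := U.ι ⁻¹ᵁ V
  have hle : U.ι ''ᵁ W' ≤ V := by
    rintro _ ⟨w, hw, rfl⟩
    exact hw
  have hyW : y ∈ U.ι ''ᵁ W' := ⟨⟨y, hyU⟩, hy, rfl⟩
  refine (B.presheaf.germ_res_apply (homOfLE hle) y hyW _).symm.trans ?_
  rw [← QCoh.app_res g hle s]
  have e := congrArg (fun h : A.restrict U.ι ⟶ B.restrict U.ι =>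
    h.app W' (QCoh.res A hle s)) hg
  refine (congrArg (B.presheaf.germ _ y hyW) e).trans ?_
  exact map_zero _

/-- Let k be an algebraically closed field of characteristic zero, X a reduced proper curve over k (a
proper k-scheme of dimension one), and E, F₁, F₂ coherent O_X-modules that are torsion free (every
stalk is a torsion free module over the local ring: no nonzero element is killed by a
non-zero-divisor). Let q₁ : E → F₁ and q₂ : E → F₂ be epimorphisms, U a dense open subset of X and φ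
: F₁|_U ≅ F₂|_U an isomorphism of the restricted quotients, q₁|_U ≫ φ = q₂|_U. Then there is an
isomorphism of quotients ψ : F₁ ≅ F₂, q₁ ≫ ψ = q₂, whose restriction to U is φ. -/
theorem result
    (k : Type u) [Field k] [IsAlgClosed k] [CharZero k]
    (X : Scheme.{u}) [X.Over (Spec (CommRingCat.of k))] [IsProper (X ↘ Spec (CommRingCat.of k))]
    [AlgebraicGeometry.IsReduced X] (hdim : topologicalKrullDim X = 1)
    (E F₁ F₂ : X.Modules) (hE : Coh.IsCoh E) (hF₁ : Coh.IsCoh F₁) (hF₂ : Coh.IsCoh F₂)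
    (htE : TorSh.IsTorsionFree E) (ht₁ : TorSh.IsTorsionFree F₁) (ht₂ : TorSh.IsTorsionFree F₂)
    (q₁ : E ⟶ F₁) (q₂ : E ⟶ F₂) [Epi q₁] [Epi q₂]
    (U : X.Opens) (hU : Dense (U : Set X))
    (φ : F₁.restrict U.ι ≅ F₂.restrict U.ι)
    (hφ : (Scheme.Modules.restrictFunctor U.ι).map q₁ ≫ φ.hom = (Scheme.Modules.restrictFunctor U.ι).map q₂) :
    ∃ ψ : F₁ ≅ F₂, q₁ ≫ ψ.hom = q₂ ∧ (Scheme.Modules.restrictFunctor U.ι).map ψ.hom = φ.hom := by
  haveI := EulerChar.isNoetherian k (X := X)
  haveI : F₁.IsQuasicoherent := hF₁.1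
  haveI : F₂.IsQuasicoherent := hF₂.1
  let R := Scheme.Modules.restrictFunctor U.ι
  haveI : R.PreservesEpimorphisms :=
    Functor.preservesEpimorphisms_of_adjunction (Scheme.Modules.restrictAdjunction U.ι)
  haveI : R.IsLeftAdjoint := (Scheme.Modules.restrictAdjunction U.ι).isLeftAdjoint
  haveI : R.PreservesZeroMorphisms := Functor.preservesZeroMorphisms_of_isLeftAdjoint R
  have h12 : kernel.ι q₁ ≫ q₂ = 0 := eq_zero_of_restrict hU ht₂ _ (by
    rw [Functor.map_comp, ← hφ, ← Category.assoc, ← R.map_comp, kernel.condition, R.map_zero, zero_comp])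
  have h21 : kernel.ι q₂ ≫ q₁ = 0 := eq_zero_of_restrict hU ht₁ _ (by
    rw [Functor.map_comp, show R.map q₁ = R.map q₂ ≫ φ.inv by rw [← hφ, Category.assoc, Iso.hom_inv_id,
      Category.comp_id], ← Category.assoc, ← R.map_comp, kernel.condition, R.map_zero, zero_comp])
  let a : F₁ ⟶ F₂ := Abelian.epiDesc q₁ q₂ h12
  have ha : q₁ ≫ a = q₂ := Abelian.comp_epiDesc _ _ _
  let b : F₂ ⟶ F₁ := Abelian.epiDesc q₂ q₁ h21
  have hb : q₂ ≫ b = q₁ := Abelian.comp_epiDesc _ _ _
  refine ⟨⟨a, b, ?_, ?_⟩, ha, ?_⟩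
  · rw [← cancel_epi q₁, ← Category.assoc, ha, hb, Category.comp_id]
  · rw [← cancel_epi q₂, ← Category.assoc, hb, ha, Category.comp_id]
  · haveI : Epi (R.map q₁) := R.map_epi q₁
    rw [← cancel_epi (R.map q₁), hφ, ← R.map_comp, ha]

end Groth.Agent.S18914
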