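import Groth.Statements.S18915
import Groth.Agent.S1575
import Groth.Agent.DepthAlong12.Flat
import Groth.Agent.FlatMor.FibreStalk
import Groth.Agent.DecCurve.Par
import Groth.Agent.ZClosLib.CohDescent
import Groth.Agent.DecCurve.TorFree

set_option autoImplicit false
universe u
open CategoryTheory CategoryTheory.Limits AlgebraicGeometry
open TFNodal

namespace Groth.Agent.S18915

open IsLocalRing TopologicalSpace

set_option backward.isDefEq.respectTransparency.types false

theorem one_le_depth {R M : Type u} [CommRing R] [IsLocalRing R] [AddCommGroup M] [Module R M]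
    {r : R} (hr : r ∈ maximalIdeal R) (h : IsSMulRegular M r) : (1 : ℕ∞) ≤ LocCoh.depth R M := by
  rw [Depth.depth_eq_idealDepth]
  exact Depth.le_idealDepth_of_isWeaklyRegular (rs := [r])
    ((RingTheory.Sequence.isWeaklyRegular_singleton_iff M r).2 h) (by simpa using hr)

/-- Closed points of the fibres over closed points are not open. -/
theorem fibre_depth (k : Type u) [Field k] [IsAlgClosed k]
    {X C : Scheme.{u}} (a : X ⟶ Spec (CommRingCat.of k)) (b : C ⟶ Spec (CommRingCat.of k))
    [Smooth b] [IrreducibleSpace C] (hdimC : topologicalKrullDim C = 1)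
    (z : ↥(pullback a b)) (hz : IsClosed ({z} : Set ↥(pullback a b)))
    (hc : IsClosed ({(pullback.snd a b).base z} : Set C)) :
    (1 : ℕ∞) ≤ LocCoh.depth ((pullback a b).presheaf.stalk z) ((pullback a b).presheaf.stalk z ⧸
      (maximalIdeal (X.presheaf.stalk (pullback.fst a b z))).map ((pullback.fst a b).stalkMap z).hom •
        (⊤ : Submodule ((pullback a b).presheaf.stalk z) ((pullback a b).presheaf.stalk z))) := by
  let p := pullback.fst a b
  let x := p z
  let Φ := p.fiber x
  let z' : Φ := p.asFiber z
  have hz' : p.fiberι x z' = z := p.fiberι_asFiber z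
  have hsq : IsPullback (p.fiberι x ≫ pullback.snd a b) (p.fiberToSpecResidueField x) b
      (X.fromSpecResidueField x ≫ a) :=
    IsPullback.paste_horiz (IsPullback.of_hasPullback p (X.fromSpecResidueField x))
      (IsPullback.of_hasPullback a b).flip
  haveI : Smooth (p.fiberToSpecResidueField x) :=
    MorphismProperty.of_isPullback (P := @Smooth) hsq ‹Smooth b›
  haveI : AlgebraicGeometry.IsReduced Φ :=
    DecCurve.isReduced_of_smooth (X.residueField x) (p.fiberToSpecResidueField x)
  haveI : UniversallyOpen (X.fromSpecResidueField x ≫ a) := by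
    obtain ⟨φ, hφ⟩ := Spec.map_surjective (X.fromSpecResidueField x ≫ a)
    rw [← hφ]
    letI := φ.hom.toAlgebra
    exact inferInstanceAs (UniversallyOpen (Spec.map (CommRingCat.ofHom (algebraMap k (X.residueField x)))))
  haveI : UniversallyOpen (p.fiberι x ≫ pullback.snd a b) :=
    MorphismProperty.of_isPullback (P := @UniversallyOpen) hsq.flip ‹_›
  have hzcl : IsClosed ({z'} : Set Φ) := by
    have e : ({z'} : Set Φ) = p.fiberι x ⁻¹' {z} := by
      ext w
      exact ⟨fun h => by rw [Set.mem_singleton_iff] at h; exact (congrArg _ h).trans hz',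
        fun h => (p.fiberι x).isEmbedding.injective (h.trans hz'.symm)⟩
    rw [e]
    exact hz.preimage (p.fiberι x).continuous
  have hzop : ¬ IsOpen ({z'} : Set Φ) := fun ho => by
    have h1 := (p.fiberι x ≫ pullback.snd a b).isOpenMap _ ho
    rw [Set.image_singleton] at h1
    have e : (p.fiberι x ≫ pullback.snd a b) z' = pullback.snd a b z :=
      (Scheme.Hom.comp_apply _ _ _).trans (congrArg _ hz')
    rw [e] at h1
    have he : ({pullback.snd a b z} : Set C) = Set.univ := IsClopen.eq_univ ⟨hc, h1⟩ ⟨_, rfl⟩
    haveI : Subsingleton C := ⟨fun u v => by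
      have hu : u ∈ ({pullback.snd a b z} : Set C) := he ▸ trivial
      have hv : v ∈ ({pullback.snd a b z} : Set C) := he ▸ trivial
      exact (hu : u = _).trans (hv : v = _).symm⟩
    haveI : Subsingleton (IrreducibleCloseds C) := ⟨fun A B => by
      refine IrreducibleCloseds.ext ?_
      exact (Subsingleton.eq_univ_of_nonempty A.isIrreducible.1).trans
        (Subsingleton.eq_univ_of_nonempty B.isIrreducible.1).symm⟩
    have h0 : topologicalKrullDim C ≤ 0 := Order.krullDim_nonpos_of_subsingleton
    rw [hdimC] at h0
    exact absurd h0 (by decide)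
  haveI : LocallyOfFiniteType (p.fiberToSpecResidueField x) := inferInstance
  haveI : IsLocallyNoetherian Φ := LocallyOfFiniteType.isLocallyNoetherian (p.fiberToSpecResidueField x)
  obtain ⟨V, hV, hzV, -⟩ := exists_isAffineOpen_mem_and_subset (X := Φ) (Opens.mem_top z')
  haveI : IsAffine V.toScheme := hV
  haveI : IsNoetherian V.toScheme := { }
  haveI : AlgebraicGeometry.IsReduced V.toScheme := isReduced_of_isOpenImmersion V.ι
  let v : V.toScheme := ⟨z', hzV⟩
  have hvcl : IsClosed ({v} : Set V.toScheme) := by
    have e : ({v} : Set V.toScheme) = V.ι ⁻¹' {z'} := by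
      ext w
      exact ⟨fun h => by rw [Set.mem_singleton_iff] at h; exact congrArg _ h,
        fun h => V.ι.isEmbedding.injective h⟩
    rw [e]
    exact hzcl.preimage V.ι.continuous
  have hvop : ¬ IsOpen ({v} : Set V.toScheme) := fun ho => hzop (by
    have h1 := V.ι.isOpenEmbedding.isOpenMap _ ho
    rw [Set.image_singleton] at h1
    exact h1)
  obtain ⟨r₀, hr₀m, hr₀⟩ := DecCurve.exists_isRegular_mem hvcl hvop
  let eV : Φ.presheaf.stalk z' ≃+* V.toScheme.presheaf.stalk v :=
    (asIso (V.ι.stalkMap v)).commRingCatIsoToRingEquiv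
  obtain ⟨eF⟩ := FlatMor.FibreStalk.exists_fibre_stalk_equiv p z
  let q := eF.symm (eV.symm r₀)
  obtain ⟨r, hr⟩ := Ideal.Quotient.mk_surjective q
  have hqreg : IsRegular q := isRegular_iff_mem_nonZeroDivisors.2 (mem_nonZeroDivisors_iff_right.2 fun s hs => by
    have h1 := congrArg (fun t => eV (eF t)) hs
    simp only [map_mul, map_zero, q, RingEquiv.apply_symm_apply] at h1
    exact eF.injective (eV.injective ((hr₀.right.mul_right_eq_zero_iff.1 h1).trans (by simp))))
  have hrm : r ∈ maximalIdeal ((pullback a b).presheaf.stalk z) := by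
    refine (mem_maximalIdeal r).2 fun hu => ?_
    have h1 := (hu.map (Ideal.Quotient.mk ((maximalIdeal (X.presheaf.stalk (p z))).map (p.stalkMap z).hom)))
    rw [hr] at h1
    have h2 := (h1.map eF).map eV
    simp only [q, RingEquiv.apply_symm_apply] at h2
    exact (mem_maximalIdeal r₀).1 hr₀m h2
  refine one_le_depth hrm (isSMulRegular_iff_right_eq_zero_of_smul.2 fun y hy => ?_)
  obtain ⟨y, rfl⟩ := Submodule.Quotient.mk_surjective _ y
  rw [← Submodule.Quotient.mk_smul, Submodule.Quotient.mk_eq_zero, smul_eq_mul, smul_eq_mul,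
    Ideal.mul_top] at hy
  rw [Submodule.Quotient.mk_eq_zero, smul_eq_mul, Ideal.mul_top]
  have h1 := Ideal.Quotient.eq_zero_iff_mem.2 hy
  rw [map_mul, hr] at h1
  exact Ideal.Quotient.eq_zero_iff_mem.1 (hqreg.left.mul_left_eq_zero_iff.1 h1)

/-- Let k be an algebraically closed field of characteristic zero, X a reduced proper curve over k (a
proper k-scheme of dimension one) without isolated points (no closed point is open, i.e. X is
one-dimensional at every point), C a smooth irreducible k-scheme of dimension one and c a closed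
point of C. Put Z = X ×_k C with projections p_X and p_C, let Y be a nonempty finite set of closed
points of Z lying over c, and let j : U → Z be the inclusion of the open complement of Y. Then for
every coherent torsion free O_X-module F (every stalk a torsion free module over the local ring),
the unit map p_X^* F → j_* j^* (p_X^* F) is an isomorphism. -/
theorem result
    (k : Type u) [Field k] [IsAlgClosed k] [CharZero k]
    (X : Scheme.{u}) [X.Over (Spec (CommRingCat.of k))] [IsProper (X ↘ Spec (CommRingCat.of k))]
    [AlgebraicGeometry.IsReduced X] (hdim : topologicalKrullDim X = 1)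
    (hpure : ∀ x : X, IsClosed ({x} : Set X) → ¬ IsOpen ({x} : Set X))
    (C : Scheme.{u}) [C.Over (Spec (CommRingCat.of k))] [Smooth (C ↘ Spec (CommRingCat.of k))]
    [IrreducibleSpace C] (hdimC : topologicalKrullDim C = 1)
    (c : C) (hc : IsClosed ({c} : Set C))
    (Y : Set ↑(pullback (X ↘ Spec (CommRingCat.of k)) (C ↘ Spec (CommRingCat.of k))))
    (hYfin : Y.Finite) (hYne : Y.Nonempty) (hYcl : ∀ z ∈ Y, IsClosed ({z} : Set _))
    (hYc : ∀ z ∈ Y, (pullback.snd (X ↘ Spec (CommRingCat.of k)) (C ↘ Spec (CommRingCat.of k))).base z = c)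
    (U : (pullback (X ↘ Spec (CommRingCat.of k)) (C ↘ Spec (CommRingCat.of k))).Opens)
    (hU : (U : Set _) = Yᶜ)
    (F : X.Modules) (hF : Coh.IsCoh F) (htF : TorSh.IsTorsionFree F) :
    IsIso ((Scheme.Modules.restrictAdjunction U.ι).unit.app
      ((Scheme.Modules.pullback (pullback.fst (X ↘ Spec (CommRingCat.of k)) (C ↘ Spec (CommRingCat.of k)))).obj F)) := by
  haveI := EulerChar.isNoetherian k (X := X)
  let a := X ↘ Spec (CommRingCat.of k)
  let b := C ↘ Spec (CommRingCat.of k)
  haveI : LocallyOfFiniteType (pullback.fst a b ≫ a) := inferInstance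
  haveI : IsLocallyNoetherian (pullback a b) := LocallyOfFiniteType.isLocallyNoetherian (pullback.fst a b ≫ a)
  have hG : Coh.IsCoh ((Scheme.Modules.pullback (pullback.fst a b)).obj F) :=
    ZClosLib.CohDescent.isCoh_pullback (pullback.fst a b) F hF
  rw [Scheme.Modules.Hom.isIso_iff_isIso_app]
  intro V
  rw [ConcreteCategory.isIso_iff_bijective]
  have hd : ∀ z : ↥(pullback a b), z ∉ U → 2 ≤ LocCoh.depth ((pullback a b).presheaf.stalk z)
      (((Scheme.Modules.pullback (pullback.fst a b)).obj F).presheaf.stalk z) := by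
    intro z hz
    have hzY : z ∈ Y := by
      by_contra h
      exact hz ((Set.ext_iff.1 hU z).2 h)
    rw [DepthAlong12.depth_stalk_pullback (pullback.fst a b) F hF z]
    have hxcl : IsClosed ({pullback.fst a b z} : Set X) := by
      haveI : JacobsonSpace X := LocallyOfFiniteType.jacobsonSpace a
      haveI : LocallyOfFiniteType (pullback.fst a b) := inferInstance
      exact (pullback.fst a b).closePoints_subset_preimage_closedPoints (hYcl z hzY)
    obtain ⟨r, hrm, hr⟩ := DecCurve.exists_isRegular_mem hxcl (hpure _ hxcl)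
    haveI := htF (pullback.fst a b z)
    have h1 : (1 : ℕ∞) ≤ LocCoh.depth (X.presheaf.stalk (pullback.fst a b z))
        (F.presheaf.stalk (pullback.fst a b z)) :=
      one_le_depth hrm (isSMulRegular_iff_right_eq_zero_of_smul.2 fun m hm => hr.smul_eq_zero_iff_right.1 hm)
    have h2 := fibre_depth k a b hdimC z (hYcl z hzY) (by rw [hYc z hzY]; exact hc)
    exact le_trans (by norm_num) (add_le_add h1 h2)
  have key : ∀ (W : (pullback a b).Opens) (h : W ≤ V), W = V ⊓ U → Function.Bijective
      (((Scheme.Modules.pullback (pullback.fst a b)).obj F).presheaf.map (homOfLE h).op) := by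
    rintro W h rfl
    exact S1575.result _ _ hG U hd V
  exact key _ (U.ι.image_preimage_le V)
    (by rw [Scheme.Hom.image_preimage_eq_opensRange_inf, Scheme.Opens.opensRange_ι, inf_comm])

end Groth.Agent.S18915
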