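import Groth.Statements.S18916
import Groth.Agent.DecCurve.Basic
import Groth.Agent.HomShQC.Stalk
import Groth.Agent.HomShEval.QCoh

set_option autoImplicit false
universe u
open CategoryTheory CategoryTheory.Limits AlgebraicGeometry
open TFNodal

namespace Groth.Agent.S18916

/-- Let k be an algebraically closed field of characteristic zero, X a reduced proper curve over k (a
proper k-scheme of dimension one) without isolated points (no closed point is open, i.e. X is
one-dimensional at every point) and F a coherent O_X-module. Then the dual 𝓗om(F, O_X) is torsion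
free: no closed point of X is an associated point of it. -/
theorem result
    (k : Type u) [Field k] [IsAlgClosed k] [CharZero k]
    (X : Scheme.{u}) [X.Over (Spec (CommRingCat.of k))] [IsProper (X ↘ Spec (CommRingCat.of k))]
    [AlgebraicGeometry.IsReduced X] (hdim : topologicalKrullDim X = 1)
    (hpure : ∀ x : X, IsClosed ({x} : Set X) → ¬ IsOpen ({x} : Set X))
    (F : X.Modules) (hF : Coh.IsCoh F) (x : X) (hx : IsClosed ({x} : Set X)) :
    ¬ Curv2.IsAssPoint (RefHull.dual F) x := by
  haveI := EulerChar.isNoetherian k (X := X)
  obtain ⟨r, hrm, hr⟩ := DecCurve.exists_isRegular_mem hx (hpure x hx)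
  have hP := HomShEval.QCoh.isFP_of_isCoh F hF
  rintro ⟨hp, θ, hθ⟩
  obtain ⟨n, hn⟩ := Ideal.mem_radical_iff.1 (hθ ▸ hrm)
  have hrθ : r ^ n • θ = 0 := by simpa using hn
  have h0 : θ = 0 := by
    refine (HomShQC.dualEquiv F hP x).injective ?_
    rw [map_zero]
    refine LinearMap.ext fun v => ?_
    have e := congrArg (fun z => HomShQC.dualEquiv F hP x z v) hrθ
    simp only [map_smul, LinearMap.smul_apply, map_zero, LinearMap.zero_apply, smul_eq_mul] at e
    exact (hr.left.pow n).mul_left_eq_zero_iff.1 e
  exact hp.ne_top (hθ.trans (by rw [h0, (Submodule.colon_eq_top_iff_subset _).2 (by simp)]; exact Ideal.radical_top _))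

end Groth.Agent.S18916
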