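import Groth.Statements.S18918
import Groth.Agent.FEtCat.Sigma
import Groth.Agent.FEtCat.Rank

set_option autoImplicit false
universe u
open CategoryTheory CategoryTheory.Limits AlgebraicGeometry
open FEt

namespace Groth.Agent.S18918
set_option backward.isDefEq.respectTransparency.types false

/-- Let f : X → Y be a finite étale morphism of degree n (f_*O_X locally free of rank n) and φ : X' → Y
a morphism from a nonempty connected scheme X'. Then the Y-morphisms X' → X (equivalently, the
sections of X ×_Y X' → X') form a finite set with at most n elements, and there are exactly n of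
them if and only if the covering X ×_Y X' → X' is trivial, i.e. X ×_Y X' is isomorphic over X' to
the disjoint union of n copies of X'. The source works with separated Noetherian schemes over an
algebraically closed field of characteristic zero; that setting is not needed for the statement. -/
theorem result
    {X Y X' : Scheme.{u}} (f : X ⟶ Y) [IsFinite f] [Etale f] (n : ℕ)
    (hdeg : FlatMod.IsFinLocFreeOfRank n ((Scheme.Modules.pushforward f).obj (Coh.structureModule X)))
    (φ : X' ⟶ Y) [Nonempty X'] [ConnectedSpace X'] :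
    Finite (Over.mk φ ⟶ Over.mk f) ∧ Nat.card (Over.mk φ ⟶ Over.mk f) ≤ n ∧
      (Nat.card (Over.mk φ ⟶ Over.mk f) = n ↔
        ∃ e : pullback f φ ≅ ∐ fun _ : Fin n => X',
          e.hom ≫ Sigma.desc (fun _ : Fin n => 𝟙 X') = pullback.snd f φ) := by
  let p := pullback.snd f φ
  let P := pullback f φ
  have hrank : ∀ x : ↥X', Scheme.Hom.finrank p x = n := fun x => by
    rw [Scheme.Hom.finrank_pullback_snd]
    exact Groth.Agent.FEtCat.Rank.finrank_eq_of_isFinLocFreeOfRank f n hdeg (φ x)
  let T := {σ : X' ⟶ P // σ ≫ p = 𝟙 X'}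
  let e : (Over.mk φ ⟶ Over.mk f) ≃ T :=
    { toFun := fun h => ⟨pullback.lift h.left (𝟙 X') ((Over.w h).trans (Category.id_comp φ).symm), pullback.lift_snd _ _ _⟩
      invFun := fun σ => Over.homMk (σ.1 ≫ pullback.fst f φ) (by
        change (σ.1 ≫ pullback.fst f φ) ≫ f = φ
        rw [Category.assoc, pullback.condition, ← Category.assoc, σ.2, Category.id_comp])
      left_inv := fun h => Over.OverMorphism.ext (pullback.lift_fst _ _ _)
      right_inv := fun σ => Subtype.ext (pullback.hom_ext (pullback.lift_fst _ _ _)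
        ((pullback.lift_snd _ _ _).trans σ.2.symm)) }
  let ev : ∀ {Ω : Type u} [Field Ω] (η : Spec (CommRingCat.of Ω) ⟶ X'), T → Groth.Agent.FEtCat.Count.Sec p η :=
    fun η σ => ⟨η ≫ σ.1, by rw [Category.assoc, σ.2, Category.comp_id]⟩
  have hinj : ∀ {Ω : Type u} [Field Ω] (η : Spec (CommRingCat.of Ω) ⟶ X'), Function.Injective (ev η) := by
    intro Ω _ η σ τ h
    refine Subtype.ext (Groth.Agent.FEtCat.Count.eq_of_comp_eq p σ.1 τ.1 (σ.2.trans τ.2.symm) η
      (congrArg Subtype.val h) fun W hW hsub => ?_)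
    exact (isClopen_iff.mp hW).resolve_left fun h0 => Set.notMem_empty _ (h0 ▸ hsub ⟨default, rfl⟩)
  have hcard : ∀ {Ω : Type u} [Field Ω] [IsSepClosed Ω] (η : Spec (CommRingCat.of Ω) ⟶ X'),
      Nat.card (Groth.Agent.FEtCat.Count.Sec p η) = n := fun η =>
    (Groth.Agent.FEtCat.Count.natCard_sec p η).trans (hrank _)
  obtain ⟨η₀, -⟩ := Groth.Agent.FEtCat.Sigma.exists_geomPoint (Classical.arbitrary ↥X')
  have hfinSec := Groth.Agent.FEtCat.Count.finite_sec p η₀
  have hfinT : Finite T := Finite.of_injective _ (hinj η₀)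
  rw [Nat.card_congr e]
  refine ⟨Finite.of_equiv T e.symm, (Nat.card_le_card_of_injective _ (hinj η₀)).trans_eq (hcard η₀), ?_, ?_⟩
  · intro hT
    let lab : ULift.{u} (Fin n) ≃ T := Equiv.ulift.trans ((finCongr hT.symm).trans (Finite.equivFin T).symm)
    have hiso : IsIso (Limits.Sigma.desc fun i => (lab i).1) :=
      (Groth.Agent.FEtCat.Sigma.isIso_desc_iff p (fun i => (lab i).1) (fun i => (lab i).2)).mpr
        fun Ω _ _ η => by
          have := Groth.Agent.FEtCat.Count.finite_sec p η
          exact ((Nat.bijective_iff_injective_and_card (ev η)).mpr ⟨hinj η, hT.trans (hcard η).symm⟩).comp lab.bijective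
    let r : (∐ fun _ : Fin n => X') ≅ ∐ fun _ : ULift.{u} (Fin n) => X' :=
      { hom := Sigma.desc fun i => Sigma.ι (fun _ : ULift.{u} (Fin n) => X') ⟨i⟩
        inv := Sigma.desc fun i => Sigma.ι (fun _ : Fin n => X') i.down
        hom_inv_id := Sigma.hom_ext _ _ fun i => by simp
        inv_hom_id := Sigma.hom_ext _ _ fun i => by simp }
    refine ⟨(r ≪≫ asIso (Sigma.desc fun i => (lab i).1)).symm, ?_⟩
    rw [Iso.symm_hom, Iso.inv_comp_eq]
    refine Sigma.hom_ext _ _ fun i => ?_
    simp only [Iso.trans_hom, asIso_hom, Category.assoc, Sigma.ι_desc, Sigma.ι_desc_assoc, r]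
    exact (lab ⟨i⟩).2.symm
  · rintro ⟨d, hd⟩
    refine le_antisymm ((Nat.card_le_card_of_injective _ (hinj η₀)).trans_eq (hcard η₀)) ?_
    let sec : Fin n → T := fun i => ⟨Sigma.ι (fun _ : Fin n => X') i ≫ d.inv, by
      rw [Category.assoc]
      change _ ≫ d.inv ≫ pullback.snd f φ = _
      rw [← hd, Iso.inv_hom_id_assoc, Sigma.ι_desc]⟩
    have hsec : Function.Injective sec := fun i j h => by
      have h1 := (cancel_mono d.inv).mp (congrArg Subtype.val h)
      have h2 := congrArg (fun g : X' ⟶ ∐ (fun _ : Fin n => X') =>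
        (g ≫ Sigma.desc fun k => Sigma.ι (fun _ : ULift.{u} (Fin n) => X') ⟨k⟩) (Classical.arbitrary ↥X')) h1
      simp only [Sigma.ι_desc] at h2
      exact congrArg ULift.down (Groth.Agent.FEtCat.Sigma.ι_injective h2)
    simpa using Nat.card_le_card_of_injective sec hsec

end Groth.Agent.S18918
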