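import Groth.Statements.S18919
import Groth.Agent.DecCurve.Spread
import Groth.Agent.AmpCrit.AffineHom
import Groth.Agent.AmpleLib.Ideal
import Groth.Agent.Omega.GrStalk
import Groth.Agent.DecCurve.Smooth
import Groth.Agent.NodalLib.NodeLength
import Groth.Agent.DimOneAmple.Main
import Groth.Agent.FlatMor.GenericPts
import Groth.Agent.CycLib.DevSigma
import Groth.Agent.HomShQC.Stalk
import Groth.Agent.StrictSSLib.NodalBaseChange
import Groth.Agent.ProjTwist.Pn.Finite

set_option autoImplicit false
universe u
open CategoryTheory CategoryTheory.Limits AlgebraicGeometry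
open TFNodal

namespace Groth.Agent.S18919

open Groth.Agent.PullStalk.Exact Groth.Agent.PullStalk.Sky IsLocalRing TopologicalSpace

/-- The stalk of a finite coproduct of copies of a module. -/
lemma nonempty_sigma_stalk {X : Scheme.{u}} (M : X.Modules) (n : ℕ) (x : X) :
    Nonempty ((∐ fun _ : Fin n => M).presheaf.stalk x ≃ₗ[X.presheaf.stalk x] (Fin n → M.presheaf.stalk x)) := by
  classical
  let pr : ∀ j : Fin n, (∐ fun _ : Fin n => M) ⟶ M := fun j => Sigma.desc fun i => if i = j then 𝟙 M else 0
  have hpr : ∀ i j : Fin n, Sigma.ι (fun _ : Fin n => M) i ≫ pr j = if i = j then 𝟙 M else 0 :=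
    fun i j => Sigma.ι_desc _ _
  have htot : (∑ j, pr j ≫ Sigma.ι (fun _ : Fin n => M) j) = 𝟙 _ := by
    refine Sigma.hom_ext _ _ fun i => ?_
    rw [Preadditive.comp_sum, Category.comp_id, Finset.sum_eq_single i]
    · rw [← Category.assoc, hpr, if_pos rfl, Category.id_comp]
    · intro j _ hj
      rw [← Category.assoc, hpr, if_neg (Ne.symm hj), zero_comp]
    · intro h
      exact absurd (Finset.mem_univ i) h
  refine ⟨LinearEquiv.ofLinear (LinearMap.pi fun j => stalkLin (pr j) x)
    (∑ j, (stalkLin (Sigma.ι (fun _ : Fin n => M) j) x).comp (LinearMap.proj j)) ?_ ?_⟩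
  · refine LinearMap.ext fun v => funext fun j => ?_
    simp only [LinearMap.comp_apply, LinearMap.pi_apply, LinearMap.sum_apply, LinearMap.proj_apply, map_sum,
      ← CohDev.stalkLin_comp_apply, hpr, LinearMap.id_apply]
    rw [Finset.sum_eq_single j]
    · rw [if_pos rfl, CohDev.stalkLin_id_apply]
    · intro i _ hi
      rw [if_neg hi, CohDev.stalkLin_zero_apply]
    · intro h
      exact absurd (Finset.mem_univ j) h
  · refine LinearMap.ext fun t => ?_
    simp only [LinearMap.comp_apply, LinearMap.pi_apply, LinearMap.sum_apply, LinearMap.proj_apply,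
      ← CohDev.stalkLin_comp_apply, LinearMap.id_apply]
    rw [← CohDev.stalkLin_sum_apply, htot, CohDev.stalkLin_id_apply]

/-- Finite coproducts of copies of a coherent module are coherent. -/
lemma isCoh_sigma {X : Scheme.{u}} {M : X.Modules} (h : Coh.IsCoh M) (n : ℕ) :
    Coh.IsCoh (∐ fun _ : Fin n => M) :=
  CohDev.isCoh_of_iso (Sigma.whiskerEquiv (f := fun _ : ULift.{u} (Fin n) => M) (g := fun _ : Fin n => M)
    Equiv.ulift (fun _ => Iso.refl M)) (ProjTwist.Pn.isCoh_sigma _ fun _ => h)

section

open Groth.Agent.StrictSSLib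

/-- Over an algebraically closed field a node has a flat map to the formal node. -/
theorem exists_formalNode (k : Type u) [Field k] [IsAlgClosed k] (X : Scheme.{u}) [X.Over (Spec (CommRingCat.of k))]
    [LocallyOfFiniteType (X ↘ (Spec (CommRingCat.of k)))]
    (P : X) (h : Curv2.IsNode k X P) :
    ∃ (a : Algebra (X.presheaf.stalk P) (FormalNode (AlgebraicClosure k))),
      letI := a
      IsLocalHom (algebraMap (X.presheaf.stalk P) (FormalNode (AlgebraicClosure k))) ∧
      Module.Flat (X.presheaf.stalk P) (FormalNode (AlgebraicClosure k)) ∧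
      (maximalIdeal (X.presheaf.stalk P)).map (algebraMap _ _) = maximalIdeal (FormalNode (AlgebraicClosure k)) := by
  obtain ⟨-, xb, rfl, hord⟩ := h
  let K := AlgebraicClosure k
  let p := Curv2.bcFst k X K
  haveI : IsIso (CommRingCat.ofHom (algebraMap k K)) := (ConcreteCategory.isIso_iff_bijective _).mpr
    IsAlgClosed.algebraMap_bijective_of_isIntegral
  have h1 : IsPullback p (Curv2.bcSnd k X K) (X ↘ Spec (CommRingCat.of k))
      (Spec.map (CommRingCat.ofHom (algebraMap k K))) := IsPullback.of_hasPullback _ _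
  haveI : IsIso p := MorphismProperty.of_isPullback (P := MorphismProperty.isomorphisms Scheme.{u}) h1.flip
    (show IsIso (Spec.map (CommRingCat.ofHom (algebraMap k K))) from inferInstance)
  haveI : LocallyOfFiniteType (Curv2.bcSnd k X K) := MorphismProperty.of_isPullback h1 inferInstance
  haveI : IsLocallyNoetherian (Curv2.bc k X K) := LocallyOfFiniteType.isLocallyNoetherian (Curv2.bcSnd k X K)
  let B := X.presheaf.stalk (p xb)
  let B' := (Curv2.bc k X K).presheaf.stalk xb
  let σ : B ≃+* B' := (asIso (p.stalkMap xb)).commRingCatIsoToRingEquiv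
  have hord' : IsOdpAt (Curv2.bcSnd k X K) xb := hord
  obtain ⟨e, -⟩ := id hord'
  letI a' : Algebra B' (FormalNode K) := (e.toRingHom.comp (algebraMap B' (AdicCompletion (maximalIdeal B') B'))).toAlgebra
  haveI : IsLocalHom e.toRingHom := ⟨fun a ha => (isLocalHom_equiv e).map_nonunit a ha⟩
  haveI : IsLocalHom (algebraMap B' (FormalNode K)) := RingHom.isLocalHom_comp _ _
  haveI : Module.Flat B' (FormalNode K) := RingHom.flat_algebraMap_iff.mp
    ((RingHom.flat_algebraMap_iff.mpr inferInstance).comp (RingHom.Flat.of_bijective e.bijective))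
  have hm : (maximalIdeal B').map (algebraMap B' (FormalNode K)) = maximalIdeal (FormalNode K) := by
    show (maximalIdeal B').map (e.toRingHom.comp (algebraMap B' (AdicCompletion (maximalIdeal B') B'))) = _
    rw [← Ideal.map_map, ← AdicCompletion.maximalIdeal_eq_map (R := B')]
    exact eq_maximalIdeal (Ideal.map_isMaximal_of_equiv e)
  refine ⟨((algebraMap B' (FormalNode K)).comp σ.toRingHom).toAlgebra, ?_⟩
  letI : Algebra B (FormalNode K) := ((algebraMap B' (FormalNode K)).comp σ.toRingHom).toAlgebra
  haveI : IsLocalHom σ.toRingHom := ⟨fun a ha => (isLocalHom_equiv σ).map_nonunit a ha⟩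
  refine ⟨RingHom.isLocalHom_comp _ _, RingHom.flat_algebraMap_iff.mp
    ((RingHom.Flat.of_bijective σ.bijective).comp (RingHom.flat_algebraMap_iff.mpr inferInstance)), ?_⟩
  show (maximalIdeal B).map ((algebraMap B' (FormalNode K)).comp σ.toRingHom) = _
  rw [← Ideal.map_map, show (maximalIdeal B).map σ.toRingHom = maximalIdeal B' from
    eq_maximalIdeal (Ideal.map_isMaximal_of_equiv σ), hm]


/-- A node is a reduced point. -/
lemma isReduced_stalk_node (k : Type u) [Field k] [IsAlgClosed k] (X : Scheme.{u}) [X.Over (Spec (CommRingCat.of k))]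
    [LocallyOfFiniteType (X ↘ (Spec (CommRingCat.of k)))] {x : X} (hx : Curv2.IsNode k X x) :
    _root_.IsReduced (X.presheaf.stalk x) := by
  obtain ⟨a, h1, h2, -⟩ := exists_formalNode k X x hx
  letI := a
  haveI := h1
  haveI := h2
  haveI : _root_.IsReduced (FormalNode (AlgebraicClosure k)) := by
    refine ⟨fun z ⟨n, hn⟩ => node_ext fun i => ?_⟩
    exact IsReduced.eq_zero _ ⟨n, by rw [← map_pow, hn, map_zero]⟩
  haveI : Module.FaithfullyFlat (X.presheaf.stalk x) (FormalNode (AlgebraicClosure k)) :=
    Module.FaithfullyFlat.of_flat_of_isLocalHom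
  exact isReduced_of_injective (algebraMap _ _)
    (FaithfulSMul.algebraMap_injective (X.presheaf.stalk x) (FormalNode (AlgebraicClosure k)))

end

/-- Nodes are isolated from each other. -/
lemma finite_nodes (k : Type u) [Field k] [IsAlgClosed k] (X : Scheme.{u}) [X.Over (Spec (CommRingCat.of k))]
    [IsProper (X ↘ Spec (CommRingCat.of k))] (hdim : topologicalKrullDim X = 1) (hnod : Curv2.AtWorstNodal k X) :
    {x : X | Curv2.IsNode k X x}.Finite := by
  haveI := EulerChar.isNoetherian k (X := X)
  have hdimZ : ∀ Z ∈ irreducibleComponents (X : Type u), topologicalKrullDim Z ≤ 1 :=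
    fun Z _ => (topologicalKrullDim_subspace_le X Z).trans hdim.le
  let V := (X ↘ Spec (CommRingCat.of k)).smoothLocus
  have hg : genericPoints (X : Type u) ⊆ (V : Set X) := fun η hη =>
    StrictSSLib.mem_smoothLocus_of_atWorstNodal X hdimZ hnod fun hn => by
      obtain ⟨alg, hloc, hflat, hm⟩ := exists_formalNode k X η hn
      letI := alg
      haveI := isReduced_stalk_node k X hn
      haveI : Ring.KrullDimLE 0 (X.presheaf.stalk η) := krullDimLE_of_coheight_le (z := η) (n := 0)
        (le_of_eq (Order.coheight_eq_zero.2 fun w hw =>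
          (show η ⤳ w from (FlatMor.GenericPts.closure_mem_irreducibleComponents_iff η).mp hη w hw)))
      refine NodalLib.node_not_principal (K := AlgebraicClosure k) 0 ?_
      rw [← hm, IsLocalRing.isField_iff_maximalIdeal_eq.1 Ring.KrullDimLE.isField_of_isReduced, Ideal.map_bot,
        Ideal.span_singleton_zero]
  refine (DimOneAmple.finite_compl_and_dim hdim.le hg).1.subset fun y hy hyV => ?_
  obtain ⟨alg, hloc, hflat, hm⟩ := exists_formalNode k X y hy
  letI := alg
  letI : (V : Scheme.{u}).Over (Spec (CommRingCat.of k)) := ⟨V.ι ≫ (X ↘ Spec (CommRingCat.of k))⟩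
  haveI : Smooth ((V : Scheme.{u}) ↘ Spec (CommRingCat.of k)) :=
    StrictSSLib.smooth_smoothLocus (X ↘ Spec (CommRingCat.of k))
  haveI := DecCurve.isPrincipal_stalk (X := (V : Scheme.{u})) k
    ((topologicalKrullDim_subspace_le X V).trans hdim.le) ⟨y, hyV⟩
  haveI : IsPrincipalIdealRing (X.presheaf.stalk y) :=
    IsPrincipalIdealRing.of_surjective (V.stalkIso ⟨y, hyV⟩).commRingCatIsoToRingEquiv.toRingHom
      (V.stalkIso ⟨y, hyV⟩).commRingCatIsoToRingEquiv.surjective
  obtain ⟨t, ht⟩ := (IsPrincipalIdealRing.principal (maximalIdeal (X.presheaf.stalk y))).1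
  refine NodalLib.node_not_principal (K := AlgebraicClosure k) (algebraMap _ _ t) ?_
  rw [← hm, ht, ← Ideal.span, Ideal.map_span, Set.image_singleton]

/-- Let k be an algebraically closed field of characteristic zero, X a connected proper curve over k (a
proper k-scheme of dimension one) whose closed points are smooth points or nodes, and F a coherent
torsion free O_X-module (every stalk a torsion free module over the local ring). Let x be a node at
which the stalk F_x is isomorphic, as an O_{X,x}-module, to m_x^{⊕a} ⊕ O_{X,x}^{⊕b} (F of type given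
by a and b at x). Then there is an open neighbourhood U of x containing no other node such that F|_U
is isomorphic to I|_U^{⊕a} ⊕ O_U^{⊕b}, where I ⊆ O_X is the ideal sheaf of the reduced closed point
x (existence of an isomorphism; the source produces one whose stalk at x is the given one). The
published statement assumes F of uniform multirank r with b = r − a; this row allows any a and b,
the argument being local at x. -/
theorem result
    (k : Type u) [Field k] [IsAlgClosed k] [CharZero k]
    (X : Scheme.{u}) [X.Over (Spec (CommRingCat.of k))] [IsProper (X ↘ Spec (CommRingCat.of k))]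
    [ConnectedSpace X] (hdim : topologicalKrullDim X = 1) (hnod : Curv2.AtWorstNodal k X)
    (F : X.Modules) (hF : Coh.IsCoh F) (htF : TorSh.IsTorsionFree F)
    (x : X) (hx : Curv2.IsNode k X x) (a b : ℕ)
    (hΦ : Nonempty (F.presheaf.stalk x ≃ₗ[X.presheaf.stalk x]
      ((Fin a → IsLocalRing.maximalIdeal (X.presheaf.stalk x)) × (Fin b → X.presheaf.stalk x)))) :
    ∃ U : X.Opens, x ∈ U ∧ (∀ y ∈ U, Curv2.IsNode k X y → y = x) ∧
      Nonempty (F.restrict U.ι ≅
        (∐ fun _ : Fin a =>
            (ClSub.idealMod (Scheme.IdealSheafData.vanishingIdeal (⟨{x}, hx.1⟩ : TopologicalSpace.Closeds X))).restrict U.ι) ⨿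
          (∐ fun _ : Fin b => Coh.structureModule (↑U : Scheme.{u}))) := by
  classical
  haveI := EulerChar.isNoetherian k (X := X)
  let I := Scheme.IdealSheafData.vanishingIdeal (⟨{x}, hx.1⟩ : TopologicalSpace.Closeds X)
  let W := ClSub.idealMod I
  have hW : Coh.IsCoh W := ⟨AmpleLib.isQCoh_idealMod I, AmpleLib.isFT_idealMod fun T => by
    have := IsLocallyNoetherian.component_noetherian T
    exact IsNoetherian.noetherian _⟩
  have hO : Coh.IsCoh (Coh.structureModule X) := HomShQC.isCoh_structureModule
  let A := ∐ fun _ : Fin a => W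
  let B := ∐ fun _ : Fin b => Coh.structureModule X
  have hAB : Coh.IsCoh (A ⊞ B) := CohDev.isCoh_biprod (isCoh_sigma hW a) (isCoh_sigma hO b)
  have hrange : LinearMap.range (Omega.Stalks.idealStalk I x) = maximalIdeal (X.presheaf.stalk x) := by
    obtain ⟨U, hU, hxU, -⟩ := exists_isAffineOpen_mem_and_subset (X := X) (Opens.mem_top x)
    letI := X.presheaf.algebra_section_stalk ⟨x, hxU⟩
    haveI := hU.isLocalization_stalk ⟨x, hxU⟩
    have hpre : hU.fromSpec ⁻¹' ({x} : Set X) = {hU.primeIdealOf ⟨x, hxU⟩} := by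
      ext q
      constructor
      · intro h
        exact hU.fromSpec.isOpenEmbedding.injective
          ((show hU.fromSpec q = x from h).trans (hU.fromSpec_primeIdealOf ⟨x, hxU⟩).symm)
      · rintro rfl
        exact hU.fromSpec_primeIdealOf ⟨x, hxU⟩
    rw [Omega.GrStalk.range_idealStalk_affine I ⟨U, hU⟩ x hxU]
    refine Eq.trans (congrArg _ ?_) (IsLocalization.AtPrime.map_eq_maximalIdeal (hU.primeIdealOf ⟨x, hxU⟩).asIdeal (X.presheaf.stalk x))
    exact (congrArg PrimeSpectrum.vanishingIdeal hpre).trans (PrimeSpectrum.vanishingIdeal_singleton _)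
  let eW : W.presheaf.stalk x ≃ₗ[X.presheaf.stalk x] maximalIdeal (X.presheaf.stalk x) :=
    (LinearEquiv.ofInjective _ (Omega.Stalks.idealStalk_injective I x)).trans (LinearEquiv.ofEq _ _ hrange)
  obtain ⟨eA⟩ := nonempty_sigma_stalk W a x
  obtain ⟨eB⟩ := nonempty_sigma_stalk (Coh.structureModule X) b x
  obtain ⟨eAB⟩ := CycLib.Dev.nonempty_biprod_stalk A B x
  obtain ⟨Φ⟩ := hΦ
  obtain ⟨U₀, hxU₀, hU₀⟩ := DecCurve.Spread.exists_restrict_iso (HomShEval.QCoh.isFP_of_isCoh F hF)
    (HomShEval.QCoh.isFP_of_isCoh _ hAB) hF.2 hAB.2 x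
    (Φ.trans ((eAB.trans ((eA.trans (LinearEquiv.piCongrRight fun _ => eW)).prodCongr
      (eB.trans (LinearEquiv.piCongrRight fun _ => (HomShQC.unitStalk x).symm)))).symm))
  have hfin := (finite_nodes k X hdim hnod).subset (Set.sdiff_subset (t := {x}))
  have hcl : IsClosed ({y : X | Curv2.IsNode k X y} \ {x}) := by
    rw [← Set.biUnion_of_singleton ({y : X | Curv2.IsNode k X y} \ {x})]
    exact hfin.isClosed_biUnion fun y hy => hy.1.1
  let U : X.Opens := U₀ ⊓ ⟨_, hcl.isOpen_compl⟩
  refine ⟨U, ⟨hxU₀, fun h => h.2 rfl⟩, fun y hy hn => ?_, ?_⟩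
  · by_contra hne
    exact hy.2 ⟨hn, hne⟩
  obtain ⟨e⟩ := hU₀ U inf_le_left
  haveI : PreservesColimitsOfShape (Discrete (Fin a)) (Scheme.Modules.restrictFunctor U.ι) :=
    Adjunction.leftAdjoint_preservesColimits (Scheme.Modules.restrictAdjunction U.ι) |>.preservesColimitsOfShape
  haveI : PreservesColimitsOfShape (Discrete (Fin b)) (Scheme.Modules.restrictFunctor U.ι) :=
    Adjunction.leftAdjoint_preservesColimits (Scheme.Modules.restrictAdjunction U.ι) |>.preservesColimitsOfShape
  haveI : PreservesColimitsOfShape (Discrete WalkingPair) (Scheme.Modules.restrictFunctor U.ι) :=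
    Adjunction.leftAdjoint_preservesColimits (Scheme.Modules.restrictAdjunction U.ι) |>.preservesColimitsOfShape
  exact ⟨e ≪≫ (Scheme.Modules.restrictFunctor U.ι).mapIso (biprod.isoCoprod A B) ≪≫
    (PreservesColimitPair.iso (Scheme.Modules.restrictFunctor U.ι) A B).symm ≪≫
    coprod.mapIso (PreservesCoproduct.iso (Scheme.Modules.restrictFunctor U.ι) _)
      (PreservesCoproduct.iso (Scheme.Modules.restrictFunctor U.ι) _ ≪≫
        Sigma.mapIso fun _ => (AmpCrit.restrictUnitIso U.ι))⟩

end Groth.Agent.S18919
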