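import Groth.Statements.S18921
import Groth.Agent.NodalLib.SemiParts
import Groth.Agent.VBLib.TwistOne
import Groth.Agent.Formal61.HomLocFree
import Groth.Agent.DecCurve.Par
import Groth.Agent.EulerChar.Curve
import Groth.Agent.TFCurvLib.StabPush
import Groth.Agent.Ref1.Class
import Groth.Agent.CycLib.DevK0Class

set_option autoImplicit false
universe u
open CategoryTheory CategoryTheory.Limits AlgebraicGeometry
open VBCurve

namespace Groth.Agent.S18921

open Groth.Agent.NodalLib Groth.Agent.PullStalk.Sky Groth.Agent.PullStalk.Exact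
open Groth.Agent.HilbPolyX StabCat TopologicalSpace

section

variable (k : Type u) [Field k] {Y : Scheme.{u}} [Y.Over (Spec (CommRingCat.of k))]
  [IsProper (Y ↘ Spec (CommRingCat.of k))] [Smooth (Y ↘ Spec (CommRingCat.of k))]
  (hdim : topologicalKrullDim Y = 1) (hpure : ∀ y : Y, ¬ IsOpen ({y} : Set Y)) {U : Y.Opens}
  (hU : IsClosed (U : Set Y)) (hc : _root_.IsConnected (U : Set Y))

include hdim hpure hU hc in
/-- A line bundle on a component is semistable. -/
theorem isSemistable_line {L E : Y.Modules} (hL : CohB1.IsAmple L) (hE : FlatMod.IsFinLocFree E)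
    (h1 : FlatMod.IsFinLocFreeOfRank 1 (E.restrict U.ι)) :
    ShStab.IsSemistable k Y L (part U E) 1 := by
  letI : (U : Scheme.{u}).Over (Spec (CommRingCat.of k)) := ⟨U.ι ≫ (Y ↘ Spec (CommRingCat.of k))⟩
  haveI := isClosedImmersion_ι hU
  haveI : IsProper ((U : Scheme.{u}) ↘ Spec (CommRingCat.of k)) :=
    inferInstanceAs (IsProper (U.ι ≫ (Y ↘ Spec (CommRingCat.of k))))
  haveI := isIntegral_part k U hU hc
  have hUd := dim_part k U hdim hpure hU hc
  haveI := EulerChar.isLocallyNoetherian k (X := Y)
  haveI := EulerChar.isNoetherian k (X := Y)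
  haveI := EulerChar.isLocallyNoetherian k (X := (U : Scheme.{u}))
  haveI := EulerChar.isNoetherian k (X := (U : Scheme.{u}))
  let N := E.restrict U.ι
  have hNf : FlatMod.IsFinLocFree N := KFlat.LocFree.isFinLocFree_restrict hE U
  have hNc : Coh.IsCoh N := VBLib.isCoh_of_ofRank h1
  haveI := hNc.1
  have hNt := DecCurve.isTorsionFree_of_isFinLocFree hNc.1 hNf
  have hMc := isCoh_part hU (VBLib.isCoh_of_isFinLocFree hE)
  -- restriction of a submodule
  have key : ∀ (F : Y.Modules) (ι : F ⟶ part U E), Mono ι → Coh.IsCoh F → ¬ IsZero F →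
      ∃ j : F.restrict U.ι ⟶ N, Mono j ∧ Coh.IsCoh (F.restrict U.ι) ∧
        (∀ z, ¬ Subsingleton ((F.restrict U.ι).presheaf.stalk z)) ∧ IsIso (toPart U F) := by
    intro F ι hι hF hF0
    have hsupp : ∀ x, x ∉ U → Subsingleton (F.presheaf.stalk x) := fun x hx =>
      haveI := subsingleton_stalk_part hU E hx
      (VBLib.stalkLin_injective ι x).subsingleton
    have hiso : IsIso (toPart U F) := (HomShQC.isIso_iff_bijective_stalk _).mpr fun x => by
      by_cases hx : x ∈ U
      · exact bijective_stalk_toPart F hx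
      · haveI := hsupp x hx
        haveI := subsingleton_stalk_part hU F hx
        exact ⟨fun a b _ => Subsingleton.elim _ _, fun b => ⟨0, Subsingleton.elim _ _⟩⟩
    let j : F.restrict U.ι ⟶ N :=
      (Scheme.Modules.restrictFunctor U.ι).map ι ≫ (Scheme.Modules.restrictAdjunction U.ι).counit.app N
    have hj : partMap U ι ≫ (Scheme.Modules.pushforward U.ι).map ((Scheme.Modules.restrictAdjunction U.ι).counit.app N) =
        (Scheme.Modules.pushforward U.ι).map j := ((Scheme.Modules.pushforward U.ι).map_comp _ _).symm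
    haveI := partMap_mono hU ι
    haveI : Mono ((Scheme.Modules.pushforward U.ι).map j) := hj ▸ inferInstance
    haveI : Mono j := (Scheme.Modules.pushforward U.ι).mono_of_mono_map (f := j) inferInstance
    haveI : (F.restrict U.ι).IsQuasicoherent := (ProperFin.isCoh_restrict U.ι hF).1
    refine ⟨j, inferInstance, ProperFin.isCoh_restrict U.ι hF, fun z hz => ?_, hiso⟩
    have hFt : ∀ y, Module.IsTorsionFree ((U : Scheme.{u}).presheaf.stalk y) ((F.restrict U.ι).presheaf.stalk y) := fun y => by
      haveI := hNt y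
      exact (VBLib.stalkLin_injective j y).moduleIsTorsionFree (stalkLin j y) (map_smul _)
    have hη : Subsingleton ((F.restrict U.ι).presheaf.stalk (genericPoint (U : Scheme.{u}))) := by
      refine subsingleton_of_forall_eq 0 fun w => ?_
      obtain ⟨a, v, ha, hv⟩ := Groth.Agent.Ref1.exists_smul_eq_toη (F.restrict U.ι) z w
      rw [Subsingleton.elim v 0, map_zero] at hv
      exact (Groth.Agent.Ref1.isUnit_of_ne_zero (Groth.Agent.Ref1.toK_ne_zero ha)).smul_eq_zero.mp hv.symm
    refine hF0 (CohDev.isZero_of_support_eq_empty (Set.eq_empty_iff_forall_notMem.mpr fun x hx => ?_))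
    by_cases hxU : x ∈ U
    · haveI : Subsingleton ((F.restrict U.ι).presheaf.stalk ⟨x, hxU⟩) :=
        ⟨fun a b => Groth.Agent.Ref1.toη_injective _ _ (hFt _) (Subsingleton.elim _ _)⟩
      haveI : Subsingleton ((part U F).presheaf.stalk x) := by
        by_contra h
        obtain ⟨w, hw, hwx⟩ := ProperFin.support_push_subset U.ι (F.restrict U.ι) (show x ∈ CohB1.support (part U F) from h)
        obtain rfl : w = ⟨x, hxU⟩ := Subtype.ext hwx
        exact hw ‹_›
      exact hx (bijective_stalk_toPart F hxU).1.subsingleton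
    · exact hx (hsupp x hxU)
  have hM0 : ¬ IsZero (part U E) := fun h => by
    obtain ⟨y, hy⟩ := hc.nonempty
    have h2 : (⟨y, hy⟩ : (U : Scheme.{u})) ∈ CohB1.support N := fun hs => by
      obtain ⟨hfree, hfin⟩ := Props.QProj.free_stalk N hNf ⟨y, hy⟩
      have h3 := TwistFlat.fibreRank_eq_of_ofRank h1 ⟨y, hy⟩
      haveI := hfree
      haveI := hfin
      rw [Props.QRank.fibreRank_eq_of_free] at h3
      haveI : Subsingleton (N.presheaf.stalk ⟨y, hy⟩) := hs
      rw [Module.finrank_zero_of_subsingleton] at h3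
      exact zero_ne_one h3
    have h4 := ProperFin.mem_support_push U.ι h2
    rw [show (Coh.push U.ι).obj N = part U E from rfl, support_eq_empty_of_isZero h] at h4
    exact h4
  refine ⟨hMc, hM0, fun F ι hι hF hF0 => ?_, fun F ι hι hF hF0 hi pF pE hpF hpE => ?_⟩
  · obtain ⟨j, -, -, hne, hiso⟩ := key F ι hι hF hF0
    refine le_antisymm (by exact_mod_cast EulerChar.dim_support_le hdim.le) ?_
    have hsub : (U : Set Y) ⊆ CohB1.support F := fun x hx => by
      refine support_part_subset hU F ?_
      exact ProperFin.mem_support_push U.ι (z := ⟨x, hx⟩) (hne _)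
    calc ((1 : ℕ) : WithBot ℕ∞) = topologicalKrullDim (U : Scheme.{u}) := by rw [hUd]; rfl
      _ ≤ _ := Topology.IsInducing.topologicalKrullDim_le (f := Set.inclusion hsub)
          (Topology.IsEmbedding.inclusion hsub).isInducing
  · obtain ⟨j, hjm, hFUc, hne, hiso⟩ := key F ι hι hF hF0
    have hjη : Function.Surjective (stalkLin j (genericPoint (U : Scheme.{u}))) := by
      intro t
      obtain ⟨hfree, hfin⟩ := Props.QProj.free_stalk N hNf (genericPoint (U : Scheme.{u}))
      have h3 := TwistFlat.fibreRank_eq_of_ofRank h1 (genericPoint (U : Scheme.{u}))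
      haveI := hfree
      haveI := hfin
      haveI := not_subsingleton_iff_nontrivial.mp (hne (genericPoint (U : Scheme.{u})))
      obtain ⟨v, hv⟩ := exists_ne (0 : (F.restrict U.ι).presheaf.stalk (genericPoint (U : Scheme.{u})))
      haveI : IsDomain ((U : Scheme.{u}).presheaf.stalk (genericPoint (U : Scheme.{u}))) := inferInstance
      rw [Props.QRank.fibreRank_eq_of_free] at h3
      let b := Module.Free.chooseBasis ((U : Scheme.{u}).presheaf.stalk (genericPoint (U : Scheme.{u}))) (N.presheaf.stalk (genericPoint (U : Scheme.{u})))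
      haveI := Fintype.ofFinite (Module.Free.ChooseBasisIndex ((U : Scheme.{u}).presheaf.stalk (genericPoint (U : Scheme.{u}))) (N.presheaf.stalk (genericPoint (U : Scheme.{u}))))
      rw [Module.finrank_eq_card_basis b] at h3
      obtain ⟨i, hi⟩ := Fintype.card_eq_one_iff.mp h3
      have hrep : ∀ w, w = b.repr w i • b i := fun w => by
        haveI : Unique (Module.Free.ChooseBasisIndex ((U : Scheme.{u}).presheaf.stalk (genericPoint (U : Scheme.{u}))) (N.presheaf.stalk (genericPoint (U : Scheme.{u})))) := ⟨⟨i⟩, hi⟩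
        conv_lhs => rw [← b.sum_repr w, Fintype.sum_unique]
        exact congrArg (fun q => b.repr w q • b q) (hi _)
      have hcu : IsUnit (b.repr (stalkLin j _ v) i) := by
        refine Groth.Agent.Ref1.isUnit_of_ne_zero fun h0 => hv ?_
        refine VBLib.stalkLin_injective j _ ?_
        rw [hrep (stalkLin j _ v), h0, zero_smul, map_zero]
      obtain ⟨c, hcinv⟩ := hcu.exists_left_inv
      refine ⟨(b.repr t i * c) • v, ?_⟩
      rw [map_smul, hrep (stalkLin j _ v), smul_smul, mul_assoc, hcinv, mul_one, ← hrep]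
    haveI := hjm
    have hC : Coh.IsCoh (cokernel j) := CohDev.isCoh_cokernel j hFUc.1 hNc
    have hd := EulerChar.dim_support_le_zero k hUd hC
      fun h => h (CycLib.Dev.subsingleton_stalk_cokernel j _ hjη)
    let S := ShortComplex.mk j (cokernel.π j) (cokernel.condition j)
    have hS : S.ShortExact := shortExact_of_mono j
    have hχ : Curv2.euler k (U : Scheme.{u}) N = Curv2.euler k (U : Scheme.{u}) (F.restrict U.ι) +
        Curv2.euler k (U : Scheme.{u}) (cokernel j) := by
      have e := EulerChar.euler_add k (S := S) hS hFUc hNc hC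
      exact e
    let LU := L.restrict U.ι
    have hLU : PicF.IsInvertible LU := PicCl.isInvertible_of_iso
      ((Scheme.Modules.restrictFunctorIsoPullback U.ι).app L).symm (PicCl.isInvertible_pullback U.ι hL.1)
    have hST := ProjTwist.shortExact_tensor hLU hS
    have hCT : Coh.IsCoh (CohB1.tensorMod (cokernel j) LU) := ProjTwist.isCoh_tensor hLU hC
    have hχT : Curv2.euler k (U : Scheme.{u}) (CohB1.tensorMod N LU) =
        Curv2.euler k (U : Scheme.{u}) (CohB1.tensorMod (F.restrict U.ι) LU) + Curv2.euler k (U : Scheme.{u}) (cokernel j) := by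
      refine (EulerChar.euler_add k hST (ProjTwist.isCoh_tensor hLU hFUc) (ProjTwist.isCoh_tensor hLU hNc) hCT).trans
        (congrArg (Curv2.euler k (U : Scheme.{u}) (CohB1.tensorMod (F.restrict U.ι) LU) + ·) ?_)
      refine (EulerChar.euler_iso k (ProjTwist.tensComm _ _)).trans ?_
      exact (EulerChar.euler_tens_of_support k (ProjTwist.isFinLocFreeOfRank_one hLU) hC hd).trans
        (by rw [Nat.cast_one, one_mul])
    have hnn := EulerChar.euler_nonneg_of_support k hC hd
    have eF : Curv2.euler k Y F = Curv2.euler k (U : Scheme.{u}) (F.restrict U.ι) :=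
      (EulerChar.euler_iso k (asIso (toPart U F))).trans (euler_part k U hU hF.1)
    have hFL : Coh.IsQCoh (CohB1.tensorMod F L) := (ProjTwist.isCoh_tensor hL.1 hF).1
    have eFL : Curv2.euler k Y (CohB1.tensorMod F L) = Curv2.euler k (U : Scheme.{u}) (CohB1.tensorMod (F.restrict U.ι) LU) :=
      ((EulerChar.euler_iso k (ProjTwist.tensCongr (asIso (toPart U F)) (Iso.refl L))).trans
        (euler_part_tens k U hU hF.1 hL.1)).trans ((euler_part k U hU hFL).trans
          (EulerChar.euler_iso k (AmpCrit.RelVan.restrictTensIso U.ι F L)))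
    have hEc := VBLib.isCoh_of_isFinLocFree hE
    have hEL : Coh.IsQCoh (CohB1.tensorMod E L) := (ProjTwist.isCoh_tensor hL.1 hEc).1
    have eM := euler_part k U hU hEc.1
    have eML : Curv2.euler k Y (CohB1.tensorMod (part U E) L) = Curv2.euler k (U : Scheme.{u}) (CohB1.tensorMod N LU) :=
      (euler_part_tens k U hU hEc.1 hL.1).trans ((euler_part k U hU hEL).trans
        (EulerChar.euler_iso k (AmpCrit.RelVan.restrictTensIso U.ι E L)))
    rw [redLE_iff_linear (natDegree_hilb k hL.1 hdim.le hF hpF) (natDegree_hilb k hL.1 hdim.le hMc hpE),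
      alpha_hilb k hL.1 hdim.le hMc hpE, alpha_hilb k hL.1 hdim.le hF hpF, eval_zero_hilb k hpF, eval_zero_hilb k hpE]
    have hm : mult k L (part U E) = mult k L F := by rw [mult, mult, eM, eML, eF, eFL, hχT, hχ]; ring
    have hl : 0 < mult k L (part U E) := by
      rw [euler_part_twist k hdim hpure hU hc hE hL.1 h1, Nat.cast_one, one_mul]
      exact partDeg_pos k hdim hpure hU hc hL
    have hle : Curv2.euler k Y F ≤ Curv2.euler k Y (part U E) := by rw [eF, eM, hχ]; linarith
    rw [← hm]
    exact mul_le_mul_of_nonneg_left (by exact_mod_cast hle) (by exact_mod_cast hl.le)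

include hdim hpure hU hc in
/-- There is a line bundle with vanishing Euler characteristic on a component. -/
theorem exists_line [IsAlgClosed k] :
    ∃ N : (U : Scheme.{u}).Modules, FlatMod.IsFinLocFreeOfRank 1 N ∧
      @Curv2.euler k _ (U : Scheme.{u}) ⟨U.ι ≫ (Y ↘ Spec (CommRingCat.of k))⟩ N = 0 := by
  letI : (U : Scheme.{u}).Over (Spec (CommRingCat.of k)) := ⟨U.ι ≫ (Y ↘ Spec (CommRingCat.of k))⟩
  haveI := isClosedImmersion_ι hU
  haveI : IsProper ((U : Scheme.{u}) ↘ Spec (CommRingCat.of k)) :=
    inferInstanceAs (IsProper (U.ι ≫ (Y ↘ Spec (CommRingCat.of k))))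
  haveI : Smooth ((U : Scheme.{u}) ↘ Spec (CommRingCat.of k)) :=
    inferInstanceAs (Smooth (U.ι ≫ (Y ↘ Spec (CommRingCat.of k))))
  haveI := isIntegral_part k U hU hc
  obtain ⟨N, hN, -, -, hd⟩ := VBLib.exists_line_deg (k := k) (dim_part k U hdim hpure hU hc)
    (- Curv2.euler k (U : Scheme.{u}) (Coh.structureModule (U : Scheme.{u})))
  have hr := VBLib.ofRank_one_of_invertible hN
  rw [← VBLib.dg_eq hr, Curv2.deg] at hd
  push_cast at hd
  exact ⟨N, hr, by linarith⟩

end

/-- Let k be an algebraically closed field of characteristic zero, Y a smooth proper k-scheme of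
dimension one, possibly disconnected but with no isolated points (every connected component is a
curve), and L an ample invertible O_Y-module. Say (Y, L) has property P when for any two finite
locally free O_Y-modules E, F with nowhere-zero stalks (support equal to Y) that are semistable of
dimension one with respect to L, the tensor product E ⊗ F is again semistable. If (Y, L) has
property P then for every connected component U of Y, with j : U → Y the inclusion, O_U =
j_*(O_Y|_U) and L_U = j_*(L|_U), the Euler characteristics over k satisfy χ(O_U) · (χ(L) − χ(O_Y)) =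
χ(O_Y) · (χ(L_U) − χ(O_U)); in words, χ(O_U)/deg(L|_U) is the same for all components and equals
χ(O_Y)/deg L. -/
theorem result
    (k : Type u) [Field k] [IsAlgClosed k] [CharZero k]
    (Y : Scheme.{u}) [Y.Over (Spec (CommRingCat.of k))] [IsProper (Y ↘ Spec (CommRingCat.of k))]
    [Smooth (Y ↘ Spec (CommRingCat.of k))] (hdim : topologicalKrullDim Y = 1)
    (hpure : ∀ y : Y, ¬ IsOpen ({y} : Set Y))
    (L : Y.Modules) (hL : CohB1.IsAmple L)
    (hP : ∀ E F : Y.Modules, FlatMod.IsFinLocFree E → FlatMod.IsFinLocFree F →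
      (∀ y : Y, ¬ Subsingleton (E.presheaf.stalk y)) → (∀ y : Y, ¬ Subsingleton (F.presheaf.stalk y)) →
      ShStab.IsSemistable k Y L E 1 → ShStab.IsSemistable k Y L F 1 →
      ShStab.IsSemistable k Y L (CohB1.tensorMod E F) 1)
    (U : Y.Opens) (hUc : IsClopen (U : Set Y)) (hUconn : _root_.IsConnected (U : Set Y)) :
    Curv2.euler k Y ((Scheme.Modules.pushforward U.ι).obj ((Coh.structureModule Y).restrict U.ι)) *
        (Curv2.euler k Y L - Curv2.euler k Y (Coh.structureModule Y)) =
      Curv2.euler k Y (Coh.structureModule Y) *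
        (Curv2.euler k Y ((Scheme.Modules.pushforward U.ι).obj (L.restrict U.ι)) -
          Curv2.euler k Y ((Scheme.Modules.pushforward U.ι).obj ((Coh.structureModule Y).restrict U.ι))) := by
  classical
  haveI := Groth.Agent.EulerChar.isLocallyNoetherian k (X := Y)
  haveI := Groth.Agent.EulerChar.isNoetherian k (X := Y)
  haveI := finite_components Y
  letI := Fintype.ofFinite (_root_.ConnectedComponents Y)
  choose N hN hN0 using fun c : _root_.ConnectedComponents Y =>
    exists_line k hdim hpure (isClosed_comp c) (isConnected_comp c)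
  let e := Fintype.equivFin (_root_.ConnectedComponents Y)
  let Q : _root_.ConnectedComponents Y → Y.Modules := fun c => (Scheme.Modules.pushforward (comp c).ι).obj (N c)
  let P : Fin (Fintype.card (_root_.ConnectedComponents Y)) → Y.Modules := fun i => Q (e.symm i)
  let E : Y.Modules := ⨁ P
  have hzero : ∀ (c : _root_.ConnectedComponents Y) (x : Y), x ∉ comp c → Subsingleton ((Q c).presheaf.stalk x) := by
    intro c x hx
    haveI := isClosedImmersion_ι (isClosed_comp c)
    by_contra h
    obtain ⟨z, -, hz⟩ := Groth.Agent.ProperFin.support_push_subset (comp c).ι (N c) (show x ∈ CohB1.support (Q c) from h)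
    exact hx (hz ▸ z.2)
  have hbij : ∀ (d : Fin (Fintype.card (_root_.ConnectedComponents Y))) (x : Y), x ∈ comp (e.symm d) →
      Function.Bijective (stalkLin (biproduct.π P d) x) := by
    intro d x hx
    have hid : ∀ v : E.presheaf.stalk x, v = stalkLin (biproduct.ι P d) x (stalkLin (biproduct.π P d) x v) := fun v => by
      have h1 : v = stalkLin (∑ c, biproduct.π P c ≫ biproduct.ι P c) x v := by
        have h0 : (∑ c, biproduct.π P c ≫ biproduct.ι P c) = 𝟙 E := biproduct.total
        rw [h0]; exact (Groth.Agent.Omega.ProdDiff.stalkLin_id x v).symm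
      have hsum : ∀ s : Finset (Fin (Fintype.card (_root_.ConnectedComponents Y))),
          stalkLin (∑ c ∈ s, biproduct.π P c ≫ biproduct.ι P c) x v =
          ∑ c ∈ s, stalkLin (biproduct.ι P c) x (stalkLin (biproduct.π P c) x v) := fun s => by
        induction s using Finset.induction with
        | empty => rw [Finset.sum_empty, Finset.sum_empty, Groth.Agent.Omega.Stalks.stalkLin_zero]
        | @insert a s ha ih =>
          rw [Finset.sum_insert ha, Finset.sum_insert ha, Groth.Agent.Omega.ProdDiff.stalkLin_add, ih,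
            Groth.Agent.Omega.Stalks.stalkLin_comp]
      rw [hsum, Finset.sum_eq_single d] at h1
      · exact h1
      · intro c _ hcd
        haveI := hzero (e.symm c) x fun h => hcd (e.symm.injective ((mem_comp.mp h).symm.trans (mem_comp.mp hx)))
        rw [Subsingleton.elim (stalkLin (biproduct.π P c) x v) 0, map_zero]
      · exact fun h => absurd (Finset.mem_univ d) h
    refine ⟨fun a b h => by rw [hid a, hid b, h], fun w => ⟨stalkLin (biproduct.ι P d) x w, ?_⟩⟩
    rw [← Groth.Agent.Omega.Stalks.stalkLin_comp, biproduct.ι_π_self]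
    exact Groth.Agent.Omega.ProdDiff.stalkLin_id x w
  have hres' : ∀ d, Nonempty (E.restrict (comp (e.symm d)).ι ≅ N (e.symm d)) := fun d => by
    haveI : IsIso (partMap (comp (e.symm d)) (biproduct.π P d)) := by
      refine (Groth.Agent.HomShQC.isIso_iff_bijective_stalk _).mpr fun x => ?_
      by_cases hx : x ∈ comp (e.symm d)
      · have e : stalkLin (partMap (comp (e.symm d)) (biproduct.π P d)) x ∘ stalkLin (toPart (comp (e.symm d)) E) x =
            stalkLin (toPart (comp (e.symm d)) (P d)) x ∘ stalkLin (biproduct.π P d) x := funext fun v => by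
          simp only [Function.comp_apply]
          rw [← Groth.Agent.Omega.Stalks.stalkLin_comp, ← Groth.Agent.Omega.Stalks.stalkLin_comp, ← toPart_natural]
        exact (Function.Bijective.of_comp_iff _ (bijective_stalk_toPart _ hx)).mp
          (e ▸ (bijective_stalk_toPart _ hx).comp (hbij d x hx))
      · haveI := subsingleton_stalk_part (isClosed_comp (e.symm d)) E hx
        haveI := subsingleton_stalk_part (isClosed_comp (e.symm d)) (P d) hx
        exact ⟨fun a b _ => Subsingleton.elim _ _, fun b => ⟨0, Subsingleton.elim _ _⟩⟩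
    haveI : IsIso ((Scheme.Modules.restrictFunctor (comp (e.symm d)).ι).map (biproduct.π P d)) :=
      isIso_of_fully_faithful (Scheme.Modules.pushforward (comp (e.symm d)).ι) _
    exact ⟨asIso ((Scheme.Modules.restrictFunctor (comp (e.symm d)).ι).map (biproduct.π P d)) ≪≫
      asIso ((Scheme.Modules.restrictAdjunction (comp (e.symm d)).ι).counit.app (N (e.symm d)))⟩
  have hres : ∀ d, Nonempty (E.restrict (comp d).ι ≅ N d) := fun d => e.symm_apply_apply d ▸ hres' (e d)
  have hr : ∀ d, FlatMod.IsFinLocFreeOfRank 1 (E.restrict (comp d).ι) := fun d => by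
    obtain ⟨e⟩ := hres d
    intro x
    obtain ⟨V, hx, ⟨e'⟩⟩ := hN d x
    exact ⟨V, hx, ⟨(Scheme.Modules.restrictFunctor V.ι).mapIso e ≪≫ e'⟩⟩
  have hE : FlatMod.IsFinLocFree E := Groth.Agent.Formal61.HomLocFree.isFinLocFree_of_cover E fun x =>
    ⟨comp (ConnectedComponents.mk x), rfl, fun z => by
      obtain ⟨V, hz, e⟩ := hr (ConnectedComponents.mk x) z
      exact ⟨V, 1, hz, e⟩⟩
  have hE0 : ∀ y : Y, ¬ Subsingleton (E.presheaf.stalk y) := fun y hs => by
    let d := ConnectedComponents.mk y
    haveI := isClosedImmersion_ι (isClosed_comp d)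
    haveI := hs
    have h1 : Subsingleton ((Q d).presheaf.stalk y) := by
      have := (hbij (e d) y (by rw [e.symm_apply_apply]; exact rfl)).2.subsingleton
      simpa only [P, e.symm_apply_apply] using this
    haveI : (N d).IsQuasicoherent := (Groth.Agent.VBLib.isCoh_of_ofRank (hN d)).1
    obtain ⟨hfree, hfin⟩ := Groth.Agent.Props.QProj.free_stalk (N d) (fun z => by
      obtain ⟨V, hz, e⟩ := hN d z
      exact ⟨V, 1, hz, e⟩) ⟨y, rfl⟩
    have h2 : (⟨y, rfl⟩ : (comp d : Scheme.{u})) ∈ CohB1.support (N d) := fun hs' => by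
      have h3 := Groth.Agent.TwistFlat.fibreRank_eq_of_ofRank (hN d) ⟨y, rfl⟩
      haveI := hfree
      haveI := hfin
      rw [Groth.Agent.Props.QRank.fibreRank_eq_of_free] at h3
      haveI : Subsingleton ((N d).presheaf.stalk ⟨y, rfl⟩) := hs'
      rw [Module.finrank_zero_of_subsingleton] at h3
      exact zero_ne_one h3
    exact Groth.Agent.ProperFin.mem_support_push (comp d).ι h2 h1
  have hEc := Groth.Agent.VBLib.isCoh_of_isFinLocFree hE
  have hχ : ∀ c, Curv2.euler k Y (part (comp c) E) = 0 := fun c => by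
    obtain ⟨e⟩ := hres c
    letI : (comp c : Scheme.{u}).Over (Spec (CommRingCat.of k)) := ⟨(comp c).ι ≫ (Y ↘ Spec (CommRingCat.of k))⟩
    haveI := isClosedImmersion_ι (isClosed_comp c)
    haveI : IsProper ((comp c : Scheme.{u}) ↘ Spec (CommRingCat.of k)) :=
      inferInstanceAs (IsProper ((comp c).ι ≫ (Y ↘ Spec (CommRingCat.of k))))
    rw [euler_part k _ (isClosed_comp c) hEc.1, Groth.Agent.EulerChar.euler_iso k e]
    exact hN0 c
  have hχE : Curv2.euler k Y E = 0 := by
    rw [euler_eq_sum_comp k hEc]; exact Finset.sum_eq_zero fun c _ => hχ c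
  obtain ⟨y, hy⟩ := hUconn.nonempty
  have hEss : ShStab.IsSemistable k Y L E 1 := by
    refine isSemistable_of_parts k hL hdim.le hEc (fun hz => hE0 y ?_) fun c _ =>
      ⟨isSemistable_line k hdim hpure (isClosed_comp c) (isConnected_comp c) hL hE (hr c), by
        rw [hχ c, hχE, zero_mul, zero_mul]⟩
    exact AddCommGrpCat.subsingleton_of_isZero
      ((Scheme.Modules.toPresheaf Y ⋙ TopCat.Presheaf.stalkFunctor AddCommGrpCat.{u} y).map_isZero hz)
  have hT := hP E E hE hE hE0 hE0 hEss hEss
  have key := ss_part_eq k hL.1 hdim.le hUc.1 hT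
  obtain ⟨c₀, rfl⟩ := eq_comp hUc hUconn
  have hTc := Groth.Agent.Ref1.isCoh_tensorMod hEc hEc
  have hTL := Groth.Agent.ProjTwist.isCoh_tensor hL.1 hTc
  have hTp : ∀ c, Curv2.euler k Y (part (comp c) (CohB1.tensorMod E E)) =
      - Curv2.euler k Y (part (comp c) (Coh.structureModule Y)) := fun c => by
    rw [euler_part_tensor k hdim hpure (isClosed_comp c) (isConnected_comp c) hE hE (hr c) (hr c) hTc.1, hχ c]
    push_cast
    ring
  have hTm : ∀ c, Curv2.euler k Y (part (comp c) (CohB1.tensorMod (CohB1.tensorMod E E) L)) -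
      Curv2.euler k Y (part (comp c) (CohB1.tensorMod E E)) = partDeg k (comp c) L := fun c => by
    rw [euler_part_tensor_twist k hdim hpure (isClosed_comp c) (isConnected_comp c) (hr c) (hr c) hTc hL.1]
    push_cast
    ring
  have hTe : Curv2.euler k Y (CohB1.tensorMod E E) = - Curv2.euler k Y (Coh.structureModule Y) := by
    rw [euler_eq_sum_comp k hTc, euler_eq_sum_comp k Groth.Agent.HomShQC.isCoh_structureModule, ← Finset.sum_neg_distrib]
    exact Finset.sum_congr rfl fun c _ => hTp c
  have hTa : mult k L (CohB1.tensorMod E E) = Curv2.euler k Y L - Curv2.euler k Y (Coh.structureModule Y) := by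
    rw [mult, euler_eq_sum_comp k hTc, euler_eq_sum_comp k hTL, ← Finset.sum_sub_distrib, euler_eq_sum_comp k
      (Groth.Agent.VBLib.isCoh_of_ofRank (Groth.Agent.ProjTwist.isFinLocFreeOfRank_one hL.1)),
      euler_eq_sum_comp k Groth.Agent.HomShQC.isCoh_structureModule, ← Finset.sum_sub_distrib]
    exact Finset.sum_congr rfl fun c _ => hTm c
  have hTaU : mult k L (part (comp c₀) (CohB1.tensorMod E E)) = partDeg k (comp c₀) L := by
    rw [mult, euler_part_tens k _ (isClosed_comp c₀) hTc.1 hL.1]; exact hTm c₀
  rw [hTp, hTe, hTa, hTaU] at key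
  have := key
  simp only [partDeg] at this
  linarith

end Groth.Agent.S18921
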