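import Groth.Statements.S18923
import Groth.Agent.NodalLib.ClopenSemi
import Groth.Agent.Ref1.Class

set_option autoImplicit false
universe u
open CategoryTheory CategoryTheory.Limits AlgebraicGeometry
open VBCurve

namespace Groth.Agent.S18923

/-- Let k be an algebraically closed field of characteristic zero, Y a smooth proper k-scheme of
dimension one, possibly disconnected but with no isolated points, and L an ample invertible
O_Y-module such that for every connected component U of Y, with j : U → Y, O_U = j_*(O_Y|_U) and L_U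
= j_*(L|_U), one has χ(O_U) · (χ(L) − χ(O_Y)) = χ(O_Y) · (χ(L_U) − χ(O_U)) (all correction terms of
the components vanish). Let E and F be finite locally free O_Y-modules with nowhere-zero stalks,
both semistable of dimension one with respect to L, and write α(M) = χ(M ⊗ L) − χ(M). Then χ(E ⊗
F)/α(E ⊗ F) = χ(E)/α(E) + χ(F)/α(F) − χ(O_Y)/(χ(L) − χ(O_Y)) as rational numbers; equivalently the
slope of E ⊗ F is the sum of the slopes of E and F. The published statement speaks of any two
semistable locally free sheaves; this row takes E and F with nowhere-zero stalks (support all of Y),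
without which E ⊗ F can be zero and the slopes undefined. -/
theorem result
    (k : Type u) [Field k] [IsAlgClosed k] [CharZero k]
    (Y : Scheme.{u}) [Y.Over (Spec (CommRingCat.of k))] [IsProper (Y ↘ Spec (CommRingCat.of k))]
    [Smooth (Y ↘ Spec (CommRingCat.of k))] (hdim : topologicalKrullDim Y = 1)
    (hpure : ∀ y : Y, ¬ IsOpen ({y} : Set Y))
    (L : Y.Modules) (hL : CohB1.IsAmple L)
    (hB : ∀ U : Y.Opens, IsClopen (U : Set Y) → _root_.IsConnected (U : Set Y) →
      Curv2.euler k Y ((Scheme.Modules.pushforward U.ι).obj ((Coh.structureModule Y).restrict U.ι)) * (Curv2.euler k Y L - Curv2.euler k Y (Coh.structureModule Y)) =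
        Curv2.euler k Y (Coh.structureModule Y) * (Curv2.euler k Y ((Scheme.Modules.pushforward U.ι).obj (L.restrict U.ι)) - Curv2.euler k Y ((Scheme.Modules.pushforward U.ι).obj ((Coh.structureModule Y).restrict U.ι))))
    (E F : Y.Modules) (hE : FlatMod.IsFinLocFree E) (hF : FlatMod.IsFinLocFree F)
    (hE0 : ∀ y : Y, ¬ Subsingleton (E.presheaf.stalk y)) (hF0 : ∀ y : Y, ¬ Subsingleton (F.presheaf.stalk y))
    (hEs : ShStab.IsSemistable k Y L E 1) (hFs : ShStab.IsSemistable k Y L F 1) :
    ((Curv2.euler k Y (CohB1.tensorMod E F) : ℚ) /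
        ((Curv2.euler k Y (CohB1.tensorMod (CohB1.tensorMod E F) L) - Curv2.euler k Y (CohB1.tensorMod E F) : ℤ) : ℚ)) =
      (Curv2.euler k Y E : ℚ) / ((Curv2.euler k Y (CohB1.tensorMod E L) - Curv2.euler k Y E : ℤ) : ℚ) +
        (Curv2.euler k Y F : ℚ) / ((Curv2.euler k Y (CohB1.tensorMod F L) - Curv2.euler k Y F : ℤ) : ℚ) -
        (Curv2.euler k Y (Coh.structureModule Y) : ℚ) /
          ((Curv2.euler k Y L - Curv2.euler k Y (Coh.structureModule Y) : ℤ) : ℚ) := by
  classical
  haveI := Groth.Agent.EulerChar.isLocallyNoetherian k (X := Y)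
  haveI := Groth.Agent.EulerChar.isNoetherian k (X := Y)
  haveI := Groth.Agent.NodalLib.finite_components Y
  letI := Fintype.ofFinite (_root_.ConnectedComponents Y)
  have hEc := Groth.Agent.VBLib.isCoh_of_isFinLocFree hE
  have hFc := Groth.Agent.VBLib.isCoh_of_isFinLocFree hF
  have hT := Groth.Agent.Ref1.isCoh_tensorMod hEc hFc
  have hTL := Groth.Agent.ProjTwist.isCoh_tensor hL.1 hT
  choose r hr using fun c : _root_.ConnectedComponents Y =>
    Groth.Agent.NodalLib.exists_ofRank_part (Groth.Agent.NodalLib.comp c) hE (Groth.Agent.NodalLib.isConnected_comp c)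
  choose s hs using fun c : _root_.ConnectedComponents Y =>
    Groth.Agent.NodalLib.exists_ofRank_part (Groth.Agent.NodalLib.comp c) hF (Groth.Agent.NodalLib.isConnected_comp c)
  let l : _root_.ConnectedComponents Y → ℤ := fun c => Groth.Agent.NodalLib.partDeg k (Groth.Agent.NodalLib.comp c) L
  have hl : ∀ c, 0 < l c := fun c => Groth.Agent.NodalLib.partDeg_pos k hdim hpure
    (Groth.Agent.NodalLib.isClosed_comp c) (Groth.Agent.NodalLib.isConnected_comp c) hL
  have hrpos : ∀ c, 0 < (r c : ℤ) := fun c => by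
    exact_mod_cast Groth.Agent.NodalLib.rank_pos (Groth.Agent.NodalLib.isClosed_comp c) hE hE0
      (Groth.Agent.NodalLib.isConnected_comp c).nonempty (hr c)
  have hspos : ∀ c, 0 < (s c : ℤ) := fun c => by
    exact_mod_cast Groth.Agent.NodalLib.rank_pos (Groth.Agent.NodalLib.isClosed_comp c) hF hF0
      (Groth.Agent.NodalLib.isConnected_comp c).nonempty (hs c)
  -- per component
  have hμ : ∀ (c : _root_.ConnectedComponents Y) (M : Y.Modules), FlatMod.IsFinLocFree M →
      ShStab.IsSemistable k Y L M 1 → ∀ m : ℕ, FlatMod.IsFinLocFreeOfRank m (M.restrict (Groth.Agent.NodalLib.comp c).ι) →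
      Curv2.euler k Y (Groth.Agent.NodalLib.part (Groth.Agent.NodalLib.comp c) M) *
          Groth.Agent.NodalLib.mult k L M = Curv2.euler k Y M * ((m : ℤ) * l c) := fun c M hM hMs m hm => by
    rw [Groth.Agent.NodalLib.ss_part_eq k hL.1 hdim.le (Groth.Agent.NodalLib.isClosed_comp c) hMs,
      Groth.Agent.NodalLib.euler_part_twist k hdim hpure (Groth.Agent.NodalLib.isClosed_comp c)
        (Groth.Agent.NodalLib.isConnected_comp c) hM hL.1 hm]
  have hO : ∀ c : _root_.ConnectedComponents Y,
      Curv2.euler k Y (Groth.Agent.NodalLib.part (Groth.Agent.NodalLib.comp c) (Coh.structureModule Y)) *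
        (Curv2.euler k Y L - Curv2.euler k Y (Coh.structureModule Y)) = Curv2.euler k Y (Coh.structureModule Y) * l c :=
    fun c => hB (Groth.Agent.NodalLib.comp c) ⟨Groth.Agent.NodalLib.isClosed_comp c, (Groth.Agent.NodalLib.comp c).2⟩
      (Groth.Agent.NodalLib.isConnected_comp c)
  have hEF : ∀ c : _root_.ConnectedComponents Y, _ := fun c => Groth.Agent.NodalLib.euler_part_tensor k hdim hpure
    (Groth.Agent.NodalLib.isClosed_comp c) (Groth.Agent.NodalLib.isConnected_comp c) hE hF (hr c) (hs c) hT.1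
  have hEFL : ∀ c : _root_.ConnectedComponents Y, _ := fun c => Groth.Agent.NodalLib.euler_part_tensor_twist k hdim hpure
    (Groth.Agent.NodalLib.isClosed_comp c) (Groth.Agent.NodalLib.isConnected_comp c) (hr c) (hs c) hT hL.1
  have sE := Groth.Agent.NodalLib.euler_eq_sum_comp k hT
  have sEL := Groth.Agent.NodalLib.euler_eq_sum_comp k hTL
  have hαT : Curv2.euler k Y (CohB1.tensorMod (CohB1.tensorMod E F) L) - Curv2.euler k Y (CohB1.tensorMod E F) =
      ∑ c, (r c : ℤ) * s c * l c := by
    rw [sE, sEL, ← Finset.sum_sub_distrib]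
    exact Finset.sum_congr rfl fun c _ => hEFL c
  -- totals are nonzero
  obtain ⟨y⟩ : Nonempty Y := by
    by_contra hne
    rw [not_nonempty_iff] at hne
    haveI : IsEmpty (TopologicalSpace.IrreducibleCloseds Y) := ⟨fun t => isEmptyElim t.isIrreducible.1.some⟩
    rw [topologicalKrullDim, Order.krullDim_eq_bot] at hdim
    exact WithBot.bot_ne_coe hdim
  haveI : Nonempty (_root_.ConnectedComponents Y) := ⟨ConnectedComponents.mk y⟩
  have tot : ∀ (M : Y.Modules), FlatMod.IsFinLocFree M → ∀ (m : _root_.ConnectedComponents Y → ℕ),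
      (∀ c, FlatMod.IsFinLocFreeOfRank (m c) (M.restrict (Groth.Agent.NodalLib.comp c).ι)) →
      Groth.Agent.NodalLib.mult k L M = ∑ c, (m c : ℤ) * l c := fun M hM m hm => by
    have hMc := Groth.Agent.VBLib.isCoh_of_isFinLocFree hM
    have hML := Groth.Agent.ProjTwist.isCoh_tensor hL.1 hMc
    rw [Groth.Agent.NodalLib.mult, Groth.Agent.NodalLib.euler_eq_sum_comp k hMc,
      Groth.Agent.NodalLib.euler_eq_sum_comp k hML, ← Finset.sum_sub_distrib]
    refine Finset.sum_congr rfl fun c _ => ?_
    rw [← Groth.Agent.NodalLib.euler_part_twist k hdim hpure (Groth.Agent.NodalLib.isClosed_comp c)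
        (Groth.Agent.NodalLib.isConnected_comp c) hM hL.1 (hm c), Groth.Agent.NodalLib.mult,
      Groth.Agent.NodalLib.euler_part_tens k _ (Groth.Agent.NodalLib.isClosed_comp c) hMc.1 hL.1]
  have hOsum : Curv2.euler k Y L - Curv2.euler k Y (Coh.structureModule Y) = ∑ c, l c := by
    rw [Groth.Agent.NodalLib.euler_eq_sum_comp k (Groth.Agent.VBLib.isCoh_of_ofRank
        (Groth.Agent.ProjTwist.isFinLocFreeOfRank_one hL.1)),
      Groth.Agent.NodalLib.euler_eq_sum_comp k Groth.Agent.HomShQC.isCoh_structureModule, ← Finset.sum_sub_distrib]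
  have aE0 : 0 < Groth.Agent.NodalLib.mult k L E := by
    rw [tot E hE r hr]; exact Finset.sum_pos (fun c _ => mul_pos (hrpos c) (hl c)) Finset.univ_nonempty
  have aF0 : 0 < Groth.Agent.NodalLib.mult k L F := by
    rw [tot F hF s hs]; exact Finset.sum_pos (fun c _ => mul_pos (hspos c) (hl c)) Finset.univ_nonempty
  have aO0 : (0 : ℤ) < Curv2.euler k Y L - Curv2.euler k Y (Coh.structureModule Y) := by
    rw [hOsum]; exact Finset.sum_pos (fun c _ => hl c) Finset.univ_nonempty
  have aT0 : (0 : ℤ) < ∑ c, (r c : ℤ) * s c * l c :=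
    Finset.sum_pos (fun c _ => mul_pos (mul_pos (hrpos c) (hspos c)) (hl c)) Finset.univ_nonempty
  have main : Curv2.euler k Y (CohB1.tensorMod E F) * (Groth.Agent.NodalLib.mult k L E * Groth.Agent.NodalLib.mult k L F *
      (Curv2.euler k Y L - Curv2.euler k Y (Coh.structureModule Y))) = (∑ c, (r c : ℤ) * s c * l c) *
      (Curv2.euler k Y E * Groth.Agent.NodalLib.mult k L F * (Curv2.euler k Y L - Curv2.euler k Y (Coh.structureModule Y)) +
        Curv2.euler k Y F * Groth.Agent.NodalLib.mult k L E * (Curv2.euler k Y L - Curv2.euler k Y (Coh.structureModule Y)) -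
        Curv2.euler k Y (Coh.structureModule Y) * (Groth.Agent.NodalLib.mult k L E * Groth.Agent.NodalLib.mult k L F)) := by
    rw [sE, Finset.sum_mul, Finset.sum_mul]
    refine Finset.sum_congr rfl fun c _ => ?_
    rw [hEF c]
    linear_combination ((s c : ℤ) * Groth.Agent.NodalLib.mult k L F *
        (Curv2.euler k Y L - Curv2.euler k Y (Coh.structureModule Y))) * hμ c E hE hEs (r c) (hr c) +
      ((r c : ℤ) * Groth.Agent.NodalLib.mult k L E *
        (Curv2.euler k Y L - Curv2.euler k Y (Coh.structureModule Y))) * hμ c F hF hFs (s c) (hs c) -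
      ((r c : ℤ) * s c * Groth.Agent.NodalLib.mult k L E * Groth.Agent.NodalLib.mult k L F) * hO c
  rw [hαT]
  have main' := congrArg (fun z : ℤ => (z : ℚ)) main
  push_cast [Groth.Agent.NodalLib.mult] at main' aE0 aF0 ⊢
  have hE' : ((Curv2.euler k Y (CohB1.tensorMod E L) : ℚ) - Curv2.euler k Y E) ≠ 0 := by exact_mod_cast aE0.ne'
  have hF' : ((Curv2.euler k Y (CohB1.tensorMod F L) : ℚ) - Curv2.euler k Y F) ≠ 0 := by exact_mod_cast aF0.ne'
  have hO' : ((Curv2.euler k Y L : ℚ) - Curv2.euler k Y (Coh.structureModule Y)) ≠ 0 := by exact_mod_cast aO0.ne'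
  have hT' : (∑ c, (r c : ℚ) * s c * (l c : ℚ)) ≠ 0 := by exact_mod_cast aT0.ne'
  field_simp
  linear_combination main'

end Groth.Agent.S18923
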