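import Groth.Statements.S18926
import Groth.Agent.S7856
import Groth.Agent.PinchLib.FlatSurjSections
import Groth.Agent.Props.GenLocus
import Groth.Agent.Omega.Stalks

set_option autoImplicit false
universe u
open FinCov CategoryTheory CategoryTheory.Limits AlgebraicGeometry

namespace Groth.Agent.S18926

open CategoryTheory CategoryTheory.Limits AlgebraicGeometry in
/-- Let k be a field, Y a proper, geometrically connected and geometrically reduced scheme over k, and ρ
: X ⟶ Y a finite, flat and surjective morphism. If the zeroth cohomology group of the cokernel of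
the O_Y-module map O_Y ⟶ ρ_* O_X has at most one element, then X is geometrically connected over k.
(The published statement assumes Y projective and takes for X one of the finite locally free
Gorenstein covers of degree 3, 4 or 5 that it constructs, with the cokernel identified with a dual
vector bundle; this row assumes only that ρ is finite, flat and surjective and that Y is proper.) -/
theorem result
    (k : Type u) [Field k] (X Y : Scheme.{u}) (g : Y ⟶ Spec (CommRingCat.of k)) (ρ : X ⟶ Y)
    [IsProper g] [GeometricallyConnected g] [GeometricallyReduced g]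
    [IsFinite ρ] [Flat ρ] [Surjective ρ]
    (h0 : Subsingleton (Coh.HH Y (cokernel (ClSub.unitToPush ρ)) 0)) :
    GeometricallyConnected (ρ ≫ g) := by
  haveI : IsProper ρ := inferInstance
  have hinj : Function.Injective ρ.appTop := Groth.Agent.PinchLib.app_injective_of_flat_surjective ρ ⊤
  have hsurj : Function.Surjective ρ.appTop := fun t => by
    let u := ClSub.unitToPush ρ
    let M := (Scheme.Modules.pushforward ρ).obj (Coh.structureModule X)
    let σ : Γ(M, ⊤) := t
    let s : Coh.structureModule Y ⟶ M := Groth.Agent.Props.GenLocus.homOfSec σ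
    haveI : Mono ((Scheme.Modules.toPresheaf Y).map u) := by
      refine @NatTrans.mono_of_mono_app _ _ _ _ _ _ _ fun U => (AddCommGrpCat.mono_iff_injective _).mpr ?_
      exact Groth.Agent.PinchLib.app_injective_of_flat_surjective ρ U.unop
    haveI : Mono u := (Scheme.Modules.toPresheaf Y).mono_of_mono_map this
    have hC : Subsingleton Γ(cokernel u, ⊤) :=
      (Sheaf.H.equiv₀ (Coh.toAb (cokernel u)) CategoryTheory.Limits.isTerminalTop).toEquiv.symm.subsingleton
    have hs : s ≫ cokernel.π u = 0 := by
      refine Scheme.Modules.hom_ext _ _ fun U => ConcreteCategory.hom_ext _ _ fun (a : Γ(Y, U)) => ?_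
      refine (Groth.Agent.Props.GenLocus.app_eq (s ≫ cokernel.π u) U a).trans ?_
      rw [← Groth.Agent.Props.GenLocus.sec_res (s ≫ cokernel.π u) (le_top : U ≤ ⊤),
        Subsingleton.elim (Groth.Agent.Props.GenLocus.sec (s ≫ cokernel.π u) ⊤) 0]
      show a • (cokernel u).presheaf.map _ 0 = _
      rw [map_zero, smul_zero]
      rfl
    let hk := Abelian.monoIsKernelOfCokernel _ (colimit.isColimit (parallelPair u 0))
    let v : Coh.structureModule Y ⟶ Coh.structureModule Y := hk.lift (KernelFork.ofι s hs)
    have hv : v ≫ u = s := hk.fac (KernelFork.ofι s hs) WalkingParallelPair.zero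
    refine ⟨Groth.Agent.Props.GenLocus.sec v ⊤, ?_⟩
    have h2 := congrArg (fun w => Groth.Agent.Props.GenLocus.sec w ⊤) hv
    rw [Groth.Agent.Props.GenLocus.sec_homOfSec] at h2
    refine h2.trans ?_
    exact ConcreteCategory.congr_hom (M.presheaf.map_id _) σ
  let e : Γ(Y, ⊤) ≃+* Γ(X, ⊤) := RingEquiv.ofBijective ρ.appTop.hom ⟨hinj, hsurj⟩
  obtain ⟨hloc, hdim, hpi⟩ := (Groth.Agent.S7856.result k g).mp inferInstance
  refine (Groth.Agent.S7856.result k (ρ ≫ g)).mpr ⟨?_, ?_, fun a => ?_⟩
  · exact e.isLocalRing
  · rw [← ringKrullDim_eq_of_ringEquiv e, hdim]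
  · obtain ⟨b, rfl⟩ := e.surjective a
    obtain ⟨n, c, hnc⟩ := hpi b
    refine ⟨n, c, ?_⟩
    have h3 := hnc.map e.toRingHom
    rw [map_sub, map_pow] at h3
    exact h3

end Groth.Agent.S18926
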