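import Groth.Statements.S18927
import Mathlib.LinearAlgebra.Alternating.Basic
import Mathlib.Algebra.BigOperators.Fin
import Mathlib.LinearAlgebra.StdBasis
import Mathlib.Tactic.Abel
-- import your own Groth.Agent.* helpers here

set_option autoImplicit false
universe u v
open W4c6secantcecovers

namespace Groth.Agent.S18927

open TensorProduct in
/-- Let R be a commutative ring, E = R^r the free module with its coordinate basis, S = R[X_1, …, X_r]
(the symmetric algebra of E), and N an R-module carrying R-linear operators φ_j (the action of the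
j-th basis vector of E) and an R-bilinear form β with β(φ_j n, m) = β(n, φ_j m) for every j. On (ΛE
⊗ S) ⊗ N — all terms Λ^k(S ⊗ E) ⊗ N of the Scheja–Storch complex at once — let δ be the differential
sending (e_1 ∧ ⋯ ∧ e_k) ⊗ s ⊗ n to Σ_i (-1)^(i-1) (e_1 ∧ ⋯ ê_i ⋯ ∧ e_k) ⊗ x(e_i) s ⊗ n + Σ_i (-1)^i
(e_1 ∧ ⋯ ê_i ⋯ ∧ e_k) ⊗ s ⊗ e_i · n, and pair a term u = ω ⊗ s ⊗ n of degree k with v = η ⊗ t ⊗ m by
⟨u, v⟩_k = (-1)^(k choose 2) β(n, m) · (ω ∧ η) ⊗ s t. Then the differential is adjoint to itself for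
this pairing in complementary degrees: for u = (e_0 ∧ ⋯ ∧ e_k) ⊗ s ⊗ n of degree k + 1 ≤ r and v =
(f_1 ∧ ⋯ ∧ f_(r-k)) ⊗ t ⊗ m of degree r - k, ⟨δ u, v⟩_k = ⟨u, δ v⟩_(k+1). (The source takes E
finitely generated projective and N a module over the ambient algebra with a pairing satisfying ⟨f,
g h⟩ = ⟨g f, h⟩; the proof runs on a basis, which is the form stated here, with the action of E
recorded by the operators φ_j.) -/
theorem result
    (R : Type u) [CommRing R] (r : ℕ) (N : Type v) [AddCommGroup N] [Module R N]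
    (φ : Fin r → (N →ₗ[R] N)) (β : N →ₗ[R] N →ₗ[R] R)
    (hβ : ∀ (j : Fin r) (n m : N), β (φ j n) m = β n (φ j m))
    (k : ℕ) (hk : k < r)
    (e : Fin (k + 1) → (Fin r → R)) (f : Fin (r - k) → (Fin r → R))
    (s t : MvPolynomial (Fin r) R) (n m : N) :
    W4c6secantcecovers.ssPair R r N β k
        (W4c6secantcecovers.ssDelta R r N φ ((ExteriorAlgebra.ιMulti R (k + 1) e ⊗ₜ[R] s) ⊗ₜ[R] n))
        ((ExteriorAlgebra.ιMulti R (r - k) f ⊗ₜ[R] t) ⊗ₜ[R] m) =
      W4c6secantcecovers.ssPair R r N β (k + 1)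
        ((ExteriorAlgebra.ιMulti R (k + 1) e ⊗ₜ[R] s) ⊗ₜ[R] n)
        (W4c6secantcecovers.ssDelta R r N φ ((ExteriorAlgebra.ιMulti R (r - k) f ⊗ₜ[R] t) ⊗ₜ[R] m)) := by
  have hc : ∀ (j : Fin r) (l : ℕ) (v : Fin l → (Fin r → R)) (x : W4c6secantcecovers.SSLam R r),
      W4c6secantcecovers.ssContr R r j (ExteriorAlgebra.ιMulti R l v * x) =
        W4c6secantcecovers.ssContr R r j (ExteriorAlgebra.ιMulti R l v) * x +
          (-1 : R) ^ l • (ExteriorAlgebra.ιMulti R l v * W4c6secantcecovers.ssContr R r j x) := by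
    intro j l
    induction l with
    | zero =>
      intro v x
      simp [W4c6secantcecovers.ssContr, ExteriorAlgebra.ιMulti_apply]
    | succ l ih =>
      intro v x
      rw [ExteriorAlgebra.ιMulti_succ_apply, mul_assoc]
      unfold W4c6secantcecovers.ssContr at ih ⊢
      rw [show ExteriorAlgebra.ι R (v 0) = CliffordAlgebra.ι (0 : QuadraticForm R (Fin r → R)) (v 0) from rfl,
        CliffordAlgebra.contractLeft_ι_mul, CliffordAlgebra.contractLeft_ι_mul, ih, sub_mul, mul_add,
        smul_mul_assoc, mul_smul_comm, pow_succ, mul_neg_one, neg_smul, mul_assoc, mul_assoc]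
      abel
  have htop : ∀ (v : Fin (k + 1) → (Fin r → R)) (w : Fin (r - k) → (Fin r → R)),
      ExteriorAlgebra.ιMulti R (k + 1) v * ExteriorAlgebra.ιMulti R (r - k) w = 0 := by
    intro v w
    have h0 : ExteriorAlgebra.ιMulti R (k + 1 + (r - k)) (M := Fin r → R) = 0 := by
      refine Module.Basis.ext_alternating (Pi.basisFun R (Fin r)) fun q hq => ?_
      have := Fintype.card_le_of_injective q hq
      simp at this
      omega
    have h1 : ExteriorAlgebra.ιMulti R (k + 1) v * ExteriorAlgebra.ιMulti R (r - k) w =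
        ExteriorAlgebra.ιMulti R (k + 1 + (r - k)) (Fin.append v w) := by
      simp only [ExteriorAlgebra.ιMulti_apply]
      rw [← List.prod_append]
      congr 1
      rw [← List.ofFn_fin_append]
      congr 1
      funext i
      refine Fin.addCases (fun a => ?_) (fun a => ?_) i <;> simp
    rw [h1, h0]
    rfl
  have hP : ∀ (l : ℕ) (ω η : W4c6secantcecovers.SSLam R r) (a b : MvPolynomial (Fin r) R) (p q : N),
      W4c6secantcecovers.ssPair R r N β l ((ω ⊗ₜ[R] a) ⊗ₜ[R] p) ((η ⊗ₜ[R] b) ⊗ₜ[R] q) =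
        (-1 : R) ^ (l.choose 2) • β p q • ((ω * η) ⊗ₜ[R] (a * b)) := fun l ω η a b p q => by
    simp [W4c6secantcecovers.ssPair, W4c6secantcecovers.ssPairAux]
  set ω := ExteriorAlgebra.ιMulti R (k + 1) e with hω
  set η := ExteriorAlgebra.ιMulti R (r - k) f with hη
  have hkey : ∀ j, W4c6secantcecovers.ssContr R r j ω * η =
      (-1 : R) ^ k • (ω * W4c6secantcecovers.ssContr R r j η) := by
    intro j
    have := hc j (k + 1) e η
    rw [← hω, htop e f, map_zero, eq_comm, add_eq_zero_iff_eq_neg] at this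
    rw [this, pow_succ, mul_neg_one, neg_smul, neg_neg]
  have hk2 : ((k + 1).choose 2) = k + k.choose 2 := by
    rw [Nat.choose_succ_succ, Nat.choose_one_right]
  simp only [W4c6secantcecovers.ssDelta, LinearMap.sum_apply, LinearMap.add_apply, LinearMap.smul_apply,
    map_sum, map_add, map_smul]
  refine Finset.sum_congr rfl fun j _ => ?_
  simp only [W4c6secantcecovers.ssDKoszul, W4c6secantcecovers.ssDAct, TensorProduct.map_tmul,
    LinearMap.mulLeft_apply, LinearMap.id_apply, hP, hkey, hβ, hk2, pow_add]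
  simp only [TensorProduct.smul_tmul', smul_smul]
  rw [mul_left_comm s]
  simp only [mul_assoc, mul_comm, mul_left_comm, TensorProduct.smul_tmul', smul_smul]

end Groth.Agent.S18927
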