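import Groth.Statements.S18928
import Mathlib.Tactic.LinearCombination
import Mathlib.Data.Nat.Factorial.Basic
import Mathlib.Data.Nat.Choose.Sum

set_option autoImplicit false
universe u
open DPow

namespace Groth.Agent.S18928

/-- Let B be a commutative ring, I an ideal of B with a divided power structure, p a prime, r a natural
number, b an element of B and δ an element of I. Then (b + δ)^(p^r) − b^(p^r) lies in the ideal p^r
I. (The source states this for a divided power thickening over the Witt vectors of length n and 0 ≤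
r ≤ n; neither restriction is used.) -/
theorem result {B : Type u} [CommRing B] {I : Ideal B}
    (hI : DividedPowers I) (p : ℕ) [Fact p.Prime] (r : ℕ) (b δ : B) (hδ : δ ∈ I) :
    (b + δ) ^ (p ^ r) - b ^ (p ^ r) ∈ Ideal.span {((p : B) ^ r)} * I := by
  rw [add_comm b δ, add_pow, Finset.sum_range_succ']
  simp only [pow_zero, one_mul, Nat.sub_zero, Nat.choose_zero_right, Nat.cast_one, mul_one,
    add_sub_cancel_right]
  refine Submodule.sum_mem _ fun k _ => ?_
  have h1 : ((k + 1).factorial : B) * ((p ^ r).choose (k + 1) : B) = ((p ^ r).descFactorial (k + 1) : B) := by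
    rw [Nat.descFactorial_eq_factorial_mul_choose, Nat.cast_mul]
  obtain ⟨c, hc⟩ : p ^ r ∣ (p ^ r).descFactorial (k + 1) :=
    ⟨(p ^ r - 1).descFactorial k, by
      obtain ⟨q, hq⟩ := Nat.exists_eq_succ_of_ne_zero (pow_ne_zero r (Fact.out : p.Prime).ne_zero)
      rw [hq, Nat.succ_descFactorial_succ, Nat.succ_sub_one]⟩
  rw [← hI.factorial_mul_dpow_eq_pow hδ]
  refine Ideal.mem_span_singleton_mul.2
    ⟨(c : B) * b ^ (p ^ r - (k + 1)) * hI.dpow (k + 1) δ, Ideal.mul_mem_left _ _ (hI.dpow_mem (by omega) hδ), ?_⟩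
  rw [hc, Nat.cast_mul, Nat.cast_pow] at h1
  linear_combination (-(b ^ (p ^ r - (k + 1)) * hI.dpow (k + 1) δ)) * h1

end Groth.Agent.S18928
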