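import Groth.Statements.S1893
import Groth.Agent.GrpdLib.Saturation
open Groth.Agent.GrpdLib.Saturation

set_option autoImplicit false
universe u
open CategoryTheory CategoryTheory.Limits AlgebraicGeometry
open Grpd

namespace Groth.Agent.S1893

/-- Let (U, R, s, t, c) be a groupoid scheme over S with s, t quasi-compact and flat and U
quasi-separated, and W ⊆ U a quasi-compact open. Then the saturation t(s⁻¹(W)) can be written as an
intersection of quasi-compact opens of U, indexed by a nonempty set. (A groupoid scheme carries U,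
R, s, t, c, e, i over S with the groupoid axioms on T-points; 'finite locally free' is finite, flat
and locally of finite presentation; C ⊂ Γ(U) is the ring of functions a with s♯(a) = t♯(a) and M =
Spec C.) -/
theorem result (S : Scheme.{u}) (G : Grpd.GroupoidScheme S) [QuasiCompact G.s] [Flat G.s] [QuasiCompact G.t] [Flat G.t] [QuasiSeparatedSpace G.U] (W : G.U.Opens) (hW : IsCompact (W : Set G.U)) : ∃ (ι : Type u) (_ : Nonempty ι) (V : ι → G.U.Opens), (∀ i, IsCompact (V i : Set G.U)) ∧ ⇑G.t '' (⇑G.s ⁻¹' (W : Set G.U)) = ⋂ i, (V i : Set G.U) := by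
  let ι := {V : G.U.Opens // IsCompact (V : Set G.U) ∧ sat G W ⊆ V}
  obtain ⟨V₀, hV₀, hV₀'⟩ := exists_compactOpen_superset (isCompact_sat G W hW)
  refine ⟨ι, ⟨⟨V₀, hV₀, hV₀'⟩⟩, fun i => i.1, fun i => i.2.1,
    Set.Subset.antisymm (Set.subset_iInter fun i => i.2.2) fun x hx => ?_⟩
  by_contra hxA
  obtain ⟨V, hV, hV', hxV⟩ := exists_compactOpen_avoiding (isCompact_sat G W hW)
    (fun a b h ha => mem_sat_of_specializes G W h ha) hxA
  exact hxV (Set.mem_iInter.1 hx ⟨V, hV, hV'⟩)

end Groth.Agent.S1893
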