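import Groth.Statements.S18933
import Groth.Agent.Synt44.RootCover
import Groth.Agent.Synt44.BaseChange
import Mathlib.RingTheory.Flat.FaithfullyFlat.Algebra
import Mathlib.Algebra.MvPolynomial.Expand

set_option autoImplicit false
universe u

open MvPolynomial

namespace Groth.Agent.S18933

/-- Let p be a prime, A a Noetherian commutative ring and m a natural number, and let φ be the A-algebra
endomorphism of the polynomial ring A[T_1, …, T_m] with φ(T_i) = T_i^p. Then φ is syntomic and
faithfully flat (so Spec φ is a covering for the syntomic topology). -/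
theorem result (p : ℕ) [Fact p.Prime]
    (A : Type u) [CommRing A] [IsNoetherianRing A] (m : ℕ)
    (φ : MvPolynomial (Fin m) A →ₐ[A] MvPolynomial (Fin m) A)
    (hφ : ∀ i : Fin m, φ (MvPolynomial.X i) = MvPolynomial.X i ^ p) :
    @Synt.IsSyntomic (MvPolynomial (Fin m) A) _ (MvPolynomial (Fin m) A) _ φ.toRingHom.toAlgebra ∧
      φ.toRingHom.FaithfullyFlat := by
  have hp : 0 < p := (Fact.out : p.Prime).pos
  let R := MvPolynomial (Fin m) A
  let c : Fin m → R := fun i => X i
  let J := Ideal.span (Set.range (Groth.Agent.Synt44.rootEq p m c))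
  let T := Synt.RelGCIRing R m m (Groth.Agent.Synt44.rootEq p m c)
  have hT := Groth.Agent.RelGCI.isSyntomic (Groth.Agent.Synt44.isRelGCI_rootEq hp c)
  let g₀ : MvPolynomial (Fin m) R →+* R := eval₂Hom φ.toRingHom fun i => X i
  have hg₀ : J ≤ RingHom.ker g₀ := Ideal.span_le.2 (by
    rintro _ ⟨i, rfl⟩
    change g₀ (X i ^ p - C (X i)) = 0
    rw [map_sub, map_pow]
    simp [g₀, hφ i])
  let Φ : T →+* R := Ideal.Quotient.lift J g₀ fun x hx => hg₀ hx
  let Ψ₀ : R →ₐ[A] T := aeval fun i => Ideal.Quotient.mk J (X i)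
  have hrel : ∀ r : R, Ψ₀ (φ r) = algebraMap R T r := fun r => by
    have : (Ψ₀.comp φ).toRingHom = algebraMap R T := by
      refine MvPolynomial.ringHom_ext (fun a => ?_) (fun i => ?_)
      · change Ψ₀ (φ (C a)) = _
        rw [← MvPolynomial.algebraMap_eq, AlgHom.commutes, AlgHom.commutes,
          ← IsScalarTower.algebraMap_apply]
      · change Ψ₀ (φ (X i)) = Ideal.Quotient.mk J (C (X i))
        rw [hφ, map_pow, show Ψ₀ (X i) = Ideal.Quotient.mk J (X i) from aeval_X _ i, ← map_pow]
        exact Ideal.Quotient.eq.2 (Ideal.subset_span ⟨i, rfl⟩)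
    exact RingHom.congr_fun this r
  have h1 : Φ.comp Ψ₀.toRingHom = RingHom.id R := MvPolynomial.ringHom_ext
    (fun a => by
      change Φ (Ψ₀ (C a)) = C a
      rw [← MvPolynomial.algebraMap_eq, AlgHom.commutes, IsScalarTower.algebraMap_apply A R T]
      change g₀ (C (algebraMap A R a)) = _
      simp [g₀])
    (fun i => by
      change Φ (Ψ₀ (X i)) = X i
      rw [show Ψ₀ (X i) = Ideal.Quotient.mk J (X i) from aeval_X _ i]
      change g₀ (X i) = _
      simp [g₀])
  have h2 : Ψ₀.toRingHom.comp Φ = RingHom.id T := Ideal.Quotient.ringHom_ext (MvPolynomial.ringHom_ext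
    (fun r => by
      change Ψ₀ (g₀ (C r)) = algebraMap R T r
      rw [show g₀ (C r) = φ r from eval₂Hom_C _ _ r, hrel])
    (fun i => by
      change Ψ₀ (g₀ (X i)) = Ideal.Quotient.mk J (X i)
      rw [show g₀ (X i) = X i from eval₂Hom_X' _ _ i]
      exact aeval_X _ i))
  let e : T ≃+* R := RingEquiv.ofRingHom Φ Ψ₀.toRingHom h1 h2
  have hs : @Synt.IsSyntomic R _ R _ φ.toRingHom.toAlgebra := by
    have h := Groth.Agent.Synt44.syntomicHom_respectsIso.1 (algebraMap R T) e
      (Groth.Agent.Synt44.syntomicHom_algebraMap.2 hT)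
    rw [show e.toRingHom.comp (algebraMap R T) = φ.toRingHom from RingHom.ext fun r => eval₂Hom_C _ _ r] at h
    exact h
  refine ⟨hs, RingHom.FaithfullyFlat.iff_flat_and_comap_surjective.2 ⟨hs.1, ?_⟩⟩
  refine RingHom.IsIntegral.comap_surjective ?_ ?_
  · intro x
    induction x using MvPolynomial.induction_on with
    | C a => exact ⟨Polynomial.X - Polynomial.C (C a), Polynomial.monic_X_sub_C _, by
        rw [← MvPolynomial.algebraMap_eq, Polynomial.eval₂_sub, Polynomial.eval₂_X, Polynomial.eval₂_C]
        change _ - φ (algebraMap A R a) = 0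
        rw [AlgHom.commutes, sub_self]⟩
    | add x y hx hy => exact RingHom.IsIntegralElem.add _ hx hy
    | mul_X x i hx => exact RingHom.IsIntegralElem.mul _ hx ⟨Polynomial.X ^ p - Polynomial.C (X i),
        Polynomial.monic_X_pow_sub_C _ hp.ne', by simp [hφ i]⟩
  · rw [show φ = expand p from MvPolynomial.algHom_ext fun i => by rw [hφ, expand_X]]
    exact expand_injective hp

end Groth.Agent.S18933
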