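import Groth.Statements.S18934
import Groth.Agent.Synt44.RootCover
import Groth.Agent.Synt44.BaseChange
import Mathlib.RingTheory.AdjoinRoot
import Mathlib.RingTheory.Flat.FaithfullyFlat.Basic

set_option autoImplicit false
universe u
open Polynomial

namespace Groth.Agent.S18934

open Polynomial in
/-- Let p be a prime, A a commutative ring and a an element of A. Then the A-algebra A[T]/(T^p − a) is
syntomic and faithfully flat over A. This is the step of the source's proof showing that adjoining a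
p-th root of any element is a covering for the syntomic topology. -/
theorem result (p : ℕ) [Fact p.Prime]
    (A : Type u) [CommRing A] (a : A) :
    Synt.IsSyntomic A (AdjoinRoot (X ^ p - C a)) ∧ Module.FaithfullyFlat A (AdjoinRoot (X ^ p - C a)) := by
  have hp : 0 < p := (Fact.out : p.Prime).pos
  let F := Groth.Agent.Synt44.rootEq p 1 (fun _ : Fin 1 => a)
  let f : A[X] := X ^ p - C a
  have hF := Groth.Agent.Synt44.isRelGCI_rootEq hp (fun _ : Fin 1 => a)
  let J := Ideal.span (Set.range F)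
  let g₀ : MvPolynomial (Fin 1) A →ₐ[A] AdjoinRoot f := MvPolynomial.aeval fun _ => AdjoinRoot.root f
  have hg₀ : J ≤ RingHom.ker g₀ := Ideal.span_le.2 (by
    rintro _ ⟨i, rfl⟩
    change g₀ (MvPolynomial.X i ^ p - MvPolynomial.C a) = 0
    rw [map_sub, map_pow, MvPolynomial.aeval_X, MvPolynomial.aeval_C]
    have := AdjoinRoot.eval₂_root f
    simpa [f, AdjoinRoot.algebraMap_eq] using this)
  let φ : Synt.RelGCIRing A 1 1 F →ₐ[A] AdjoinRoot f := Ideal.Quotient.liftₐ J g₀ fun x hx => hg₀ hx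
  let y : Synt.RelGCIRing A 1 1 F := Ideal.Quotient.mkₐ A J (MvPolynomial.X 0)
  have hy : Polynomial.eval₂ (Algebra.ofId A (Synt.RelGCIRing A 1 1 F)).toRingHom y f = 0 := by
    simp only [f, eval₂_sub, eval₂_pow, eval₂_X, eval₂_C]
    change Ideal.Quotient.mk J (MvPolynomial.X 0) ^ p - Ideal.Quotient.mk J (MvPolynomial.C a) = 0
    rw [← map_pow, ← map_sub]
    exact Ideal.Quotient.eq_zero_iff_mem.2 (Ideal.subset_span ⟨0, rfl⟩)
  let ψ : AdjoinRoot f →ₐ[A] Synt.RelGCIRing A 1 1 F :=
    AdjoinRoot.liftAlgHom f (Algebra.ofId A _) y hy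
  have h1 : φ.comp ψ = AlgHom.id A _ := AdjoinRoot.algHom_ext (by
    change φ (ψ (AdjoinRoot.root f)) = _
    simp [ψ, y, φ, g₀])
  have h2 : ψ.comp φ = AlgHom.id A _ := Ideal.Quotient.algHom_ext A (MvPolynomial.algHom_ext fun i => by
    change ψ (g₀ (MvPolynomial.X i)) = _
    rw [MvPolynomial.aeval_X, Subsingleton.elim i 0]
    change ψ (AdjoinRoot.root f) = y
    simp [ψ])
  have hs : Synt.IsSyntomic A (AdjoinRoot f) :=
    Groth.Agent.Synt44.isSyntomic_of_equiv (AlgEquiv.ofAlgHom φ ψ h1 h2) (Groth.Agent.RelGCI.isSyntomic hF)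
  refine ⟨hs, ?_⟩
  rcases subsingleton_or_nontrivial A with hA | hA
  · haveI := hs.1
    exact ⟨fun {m} hm => absurd (Subsingleton.elim (1 : A) 0) (fun h => hm.ne_top ((Ideal.eq_top_iff_one m).2 (h ▸ m.zero_mem)))⟩
  have hmonic : f.Monic := monic_X_pow_sub_C a hp.ne'
  haveI := hmonic.free_adjoinRoot
  let b := (AdjoinRoot.powerBasis' hmonic)
  haveI : Nonempty (Fin b.dim) := ⟨⟨0, by
    change 0 < f.natDegree
    rw [natDegree_X_pow_sub_C]; exact hp⟩⟩
  haveI : Nontrivial (AdjoinRoot f) := b.basis.repr.toEquiv.nontrivial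
  infer_instance

end Groth.Agent.S18934
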