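import Groth.Statements.S18935
import Groth.Agent.KReg44.Ideal
import Groth.Agent.S18939
import Mathlib.LinearAlgebra.InvariantBasisNumber

set_option autoImplicit false
universe u
open LCI

namespace Groth.Agent.S18935

/-- Let R be a commutative ring and I a proper ideal of R which is generated by some Koszul-regular
sequence. A finite sequence f of generators of I is Koszul-regular if and only if f has the smallest
possible length among all finite generating sequences of I. (Properness of I is needed: the
sequences (1) and (1, 1) are both Koszul-regular and generate the unit ideal.) -/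
theorem result {R : Type u} [CommRing R] {I : Ideal R} (hI : I ≠ ⊤)
    (g : List R) (hg : LCI.IsKoszulRegularSeq R g) (hgI : Ideal.ofList g = I)
    (f : List R) (hfI : Ideal.ofList f = I) :
    LCI.IsKoszulRegularSeq R f ↔ ∀ h : List R, Ideal.ofList h = I → f.length ≤ h.length := by
  haveI : Nontrivial (R ⧸ I) := Ideal.Quotient.nontrivial_iff.2 hI
  have lower : ∀ f' : List R, LCI.IsKoszulRegularSeq R f' → Ideal.ofList f' = I →
      ∀ h : List R, Ideal.ofList h = I → f'.length ≤ h.length := by
    intro f' hf' hf'I h hhI
    let F : Fin f'.length → I := fun i => ⟨f'.get i, hf'I ▸ Ideal.subset_span (List.get_mem f' i)⟩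
    have hF : LCI.IsKoszulRegularSeq R (List.ofFn fun i => (F i : R)) := by
      rw [show (fun i => (F i : R)) = f'.get from rfl, List.ofFn_get]; exact hf'
    have hFI : Ideal.span (Set.range fun i => (F i : R)) = I := by
      rw [show (fun i => (F i : R)) = f'.get from rfl, KReg44.span_range_eq_ofList, List.ofFn_get, hf'I]
    obtain ⟨b, -⟩ := S18939.result hI f'.length F hF hFI
    let H : Fin h.length → I.Cotangent := fun i =>
      I.toCotangent ⟨h.get i, hhI ▸ Ideal.subset_span (List.get_mem h i)⟩
    have hH : ⊤ ≤ Submodule.span (R ⧸ I) (Set.range H) := by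
      intro x _
      obtain ⟨⟨y, hy⟩, rfl⟩ := I.toCotangent_surjective x
      have hy' : y ∈ Submodule.span R (Set.range h.get) := by
        change y ∈ Ideal.span (Set.range h.get)
        rw [KReg44.span_range_eq_ofList, List.ofFn_get, hhI]; exact hy
      obtain ⟨c, hc⟩ := (Submodule.mem_span_range_iff_exists_fun R).1 hy'
      have he : (⟨y, hy⟩ : I) = ∑ i, c i • ⟨h.get i, hhI ▸ Ideal.subset_span (List.get_mem h i)⟩ :=
        Subtype.ext (by simp [Submodule.coe_sum, ← hc])
      rw [he, map_sum]
      refine Submodule.sum_mem _ fun i _ => ?_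
      rw [map_smul, ← algebraMap_smul (R ⧸ I) (c i)]
      exact Submodule.smul_mem _ _ (Submodule.subset_span ⟨i, rfl⟩)
    let π := Fintype.linearCombination (R ⧸ I) H
    have hπ : Function.Surjective π := by
      rw [← LinearMap.range_eq_top, Fintype.range_linearCombination]; exact eq_top_iff.2 hH
    exact le_of_fin_surjective (R ⧸ I) ((b.equivFun.toLinearMap).comp π) (b.equivFun.surjective.comp hπ)
  refine ⟨fun h => lower f h hfI, fun hmin => ?_⟩
  refine KReg44.isKoszulRegularSeq_of_forall_prime fun P hP => ?_
  let S := Localization.AtPrime P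
  let φ := algebraMap R S
  by_cases hle : I ≤ P
  swap
  · refine KReg44.isKoszulRegularSeq_of_eq_top ?_
    obtain ⟨x, hx, hxP⟩ := SetLike.not_le_iff_exists.1 hle
    rw [← Ideal.map_ofList, hfI]
    exact Ideal.eq_top_of_isUnit_mem _ (Ideal.mem_map_of_mem _ hx)
      (IsLocalization.map_units S (⟨x, hxP⟩ : P.primeCompl))
  have hlen : f.length = g.length := le_antisymm (hmin g hgI) (lower g hg hgI f hfI)
  have hgS : LCI.IsKoszulRegularSeq S (g.map φ) :=
    KReg44.isKoszulRegularSeq_map φ
      (RingHom.flat_algebraMap_iff.mpr (IsLocalization.flat S P.primeCompl)) hg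
  have hspan : Ideal.ofList (g.map φ) = Ideal.ofList (f.map φ) := by
    rw [← Ideal.map_ofList, ← Ideal.map_ofList, hgI, hfI]
  have htop : Ideal.ofList (g.map φ) ≤ IsLocalRing.maximalIdeal S := by
    rw [← Ideal.map_ofList, hgI, ← Localization.AtPrime.map_eq_maximalIdeal]
    exact Ideal.map_mono hle
  refine KReg44.isKoszulRegularSeq_of_irr hgS hspan htop (KReg44.irr_of_irredundant ?_)
  intro pre x post hf hx
  have h1 : Ideal.ofList (pre ++ post) = Ideal.ofList (g.map φ) := by
    refine le_antisymm (hspan ▸ KReg44.ofList_mono fun y hy => ?_) (hspan ▸ Ideal.span_le.2 fun y hy => ?_)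
    · rw [hf]
      rcases List.mem_append.1 hy with hy | hy
      · exact List.mem_append_left _ hy
      · exact List.mem_append_right _ (List.mem_cons_of_mem _ hy)
    · change y ∈ f.map φ at hy
      rw [hf, List.mem_append, List.mem_cons] at hy
      rcases hy with hy | rfl | hy
      · exact Ideal.subset_span (List.mem_append_left _ hy)
      · exact hx
      · exact Ideal.subset_span (List.mem_append_right _ hy)
  have h2 := KReg44.length_le_of_irr h1 (KReg44.irr_of_regular hgS htop)
  have h3 := congrArg List.length hf
  simp only [List.length_map, List.length_append, List.length_cons] at h2 h3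
  omega


end Groth.Agent.S18935
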