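import Groth.Statements.S18936
-- import your own Groth.Agent.* helpers here

set_option autoImplicit false
universe u
open CAlg

namespace Groth.Agent.S18936

/-- Let A be a Noetherian commutative ring, q a prime ideal of A and f an element of A whose image in
the localization A_q is a non-zero-divisor. Then there is an element b of A not in q such that the
image of f in A[1/b] is a non-zero-divisor. -/
theorem result {A : Type u} [CommRing A] [IsNoetherianRing A]
    (q : Ideal A) [q.IsPrime] (f : A)
    (hf : algebraMap A (Localization.AtPrime q) f ∈ nonZeroDivisors (Localization.AtPrime q)) :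
    ∃ b : A, b ∉ q ∧ algebraMap A (Localization.Away b) f ∈ nonZeroDivisors (Localization.Away b) := by
  let K : Submodule A A := LinearMap.ker (LinearMap.mulLeft A f)
  obtain ⟨S, hS⟩ : K.FG := IsNoetherian.noetherian K
  have hx : ∀ x ∈ K, ∃ b ∈ q.primeCompl, b * x = 0 := by
    intro x hx
    have h : algebraMap A (Localization.AtPrime q) x * algebraMap A (Localization.AtPrime q) f = 0 := by
      rw [← map_mul, mul_comm, show f * x = 0 from hx, map_zero]
    have h0 := (mul_right_mem_nonZeroDivisors_eq_zero_iff hf).mp h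
    obtain ⟨b, hb⟩ := (IsLocalization.map_eq_zero_iff q.primeCompl _ _).mp h0
    exact ⟨b, b.2, hb⟩
  have hSK : ∀ x ∈ S, x ∈ K := fun x h => hS ▸ Submodule.subset_span h
  choose! bf hbf hbx using hx
  refine ⟨∏ x ∈ S, bf x, ?_, ?_⟩
  · exact show (∏ x ∈ S, bf x) ∈ q.primeCompl from prod_mem fun x h => hbf x (hSK x h)
  set b := ∏ x ∈ S, bf x with hb
  have hbK : ∀ x ∈ K, b * x = 0 := by
    intro x hx
    have hle : K ≤ LinearMap.ker (LinearMap.mulLeft A b) := by
      rw [← hS, Submodule.span_le]
      intro y hy
      show b * y = 0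
      obtain ⟨c, hc⟩ := Finset.dvd_prod_of_mem bf (Finset.mem_coe.mp hy)
      rw [hb, hc, mul_comm (bf y) c, mul_assoc, hbx y (hSK y hy), mul_zero]
    exact hle hx
  rw [mem_nonZeroDivisors_iff_right]
  intro z hz
  obtain ⟨a, t, rfl⟩ := IsLocalization.exists_mk'_eq (Submonoid.powers b) z
  rw [← IsLocalization.mk'_one (M := Submonoid.powers b) (Localization.Away b) f, ← IsLocalization.mk'_mul,
    IsLocalization.mk'_eq_zero_iff] at hz
  obtain ⟨c, hc⟩ := hz
  rw [IsLocalization.mk'_eq_zero_iff]
  have hK : (c : A) * a ∈ K := by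
    show f * ((c : A) * a) = 0
    rw [← hc]; ring
  exact ⟨⟨b * c, mul_mem (Submonoid.mem_powers b) c.2⟩, by rw [mul_assoc]; exact hbK _ hK⟩

end Groth.Agent.S18936
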