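import Groth.Statements.S18938
import Groth.Agent.Synt44.FlatLCI
import Groth.Agent.RegImm44.Present

set_option autoImplicit false
universe u
open Synt

namespace Groth.Agent.S18938

/-- Let A be a Noetherian commutative ring and B a syntomic A-algebra. Then Spec B is covered by basic
opens D(g) with B[1/g] isomorphic, as an A-algebra, to A[T_1, …, T_n]/(P_1, …, P_d) for a regular
sequence P_1, …, P_d (successive non-zero-divisors with nonzero last quotient) in the polynomial
ring A[T_1, …, T_n]. (The source states this for a syntomic scheme over Spec A, syntomic meaning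
flat, locally of finite presentation and locally a Koszul-regular immersion into a smooth scheme;
here syntomic is the ring-map notion with local complete intersection fibres, which agrees with it.) -/
theorem result
    (A : Type u) [CommRing A] [IsNoetherianRing A] (B : Type u) [CommRing B] [Algebra A B]
    (h : Synt.IsSyntomic A B) (q : PrimeSpectrum B) :
    ∃ g : B, g ∉ q.asIdeal ∧
      ∃ (n d : ℕ) (P : Fin d → MvPolynomial (Fin n) A),
        RingTheory.Sequence.IsRegular (MvPolynomial (Fin n) A) (List.ofFn P) ∧
        Nonempty (Localization.Away g ≃ₐ[A] (MvPolynomial (Fin n) A ⧸ Ideal.ofList (List.ofFn P))) := by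
  obtain ⟨-, n, f, hf, hker⟩ := Groth.Agent.Synt44.isLCI_of_isSyntomic h
  let I := RingHom.ker f.toRingHom
  let Q : Ideal (MvPolynomial (Fin n) A) := q.asIdeal.comap f.toRingHom
  have hIQ : I ≤ Q := fun x hx => by
    change f.toRingHom x ∈ q.asIdeal
    rw [show f.toRingHom x = 0 from hx]; exact zero_mem _
  obtain ⟨ys, hys, hspan⟩ := Groth.Agent.Synt44.isRegularIdeal_map_atPrime hker Q hIQ
  obtain ⟨G, hG, rs, hrs, hI⟩ :=
    Groth.Agent.Synt44.exists_away_weaklyRegular I Q ys hys.toIsWeaklyRegular hspan
  let e : (MvPolynomial (Fin n) A ⧸ I) ≃ₐ[A] B := Ideal.quotientKerAlgEquivOfSurjective (f := f) hf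
  obtain ⟨d, P, hP, ⟨e'⟩⟩ := Groth.Agent.RegImm44.exists_presentation_regular I G rs hrs hI
    ⟨q.asIdeal.comap e.toRingEquiv.toRingHom, inferInstance⟩ hG
  refine ⟨f G, hG, n + 1, d, P, hP, ?_⟩
  letI : Algebra (MvPolynomial (Fin n) A ⧸ I) (Localization.Away (f G)) :=
    ((algebraMap B (Localization.Away (f G))).comp e.toRingEquiv.toRingHom).toAlgebra
  haveI : IsScalarTower A (MvPolynomial (Fin n) A ⧸ I) (Localization.Away (f G)) :=
    IsScalarTower.of_algebraMap_eq (R := A) (S := MvPolynomial (Fin n) A ⧸ I) (A := Localization.Away (f G)) fun x => by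
      change _ = algebraMap B _ (e (algebraMap A _ x))
      rw [e.commutes, ← IsScalarTower.algebraMap_apply]
  haveI : IsLocalization.Away (Ideal.Quotient.mk I G) (Localization.Away (f G)) := by
    have h1 := IsLocalization.isLocalization_of_base_ringEquiv (Submonoid.powers (f G))
      (Localization.Away (f G)) e.symm.toRingEquiv
    rw [Submonoid.map_powers, show e.symm.toRingEquiv (f G) = Ideal.Quotient.mk I G from
      (e.symm_apply_eq).2 rfl] at h1
    exact h1
  exact ⟨((IsLocalization.algEquiv (Submonoid.powers (Ideal.Quotient.mk I G)) (Localization.Away (f G))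
    (Localization.Away (Ideal.Quotient.mk I G))).restrictScalars A).trans e'⟩

end Groth.Agent.S18938
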