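import Groth.Statements.S1894
import Groth.Agent.GrpdLib.Saturation
open Groth.Agent.GrpdLib.Saturation

set_option autoImplicit false
universe u
open CategoryTheory CategoryTheory.Limits AlgebraicGeometry
open Grpd

namespace Groth.Agent.S1894

/-- Let (U, R, s, t, c) be a groupoid scheme over S with s, t quasi-compact and flat and U
quasi-separated, and W ⊆ U a quasi-compact open. Then there are an R-invariant open V (s⁻¹V = t⁻¹V)
and a quasi-compact open W' with W ⊆ V ⊆ W'. (A groupoid scheme carries U, R, s, t, c, e, i over S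
with the groupoid axioms on T-points; 'finite locally free' is finite, flat and locally of finite
presentation; C ⊂ Γ(U) is the ring of functions a with s♯(a) = t♯(a) and M = Spec C.) -/
theorem result (S : Scheme.{u}) (G : Grpd.GroupoidScheme S) [QuasiCompact G.s] [Flat G.s] [QuasiCompact G.t] [Flat G.t] [QuasiSeparatedSpace G.U] (W : G.U.Opens) (hW : IsCompact (W : Set G.U)) : ∃ V W' : G.U.Opens, G.s ⁻¹ᵁ V = G.t ⁻¹ᵁ V ∧ IsCompact (W' : Set G.U) ∧ W ≤ V ∧ V ≤ W' := by
  obtain ⟨W', hW', hsat⟩ := exists_compactOpen_superset (isCompact_sat G W hW)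
  let Z : Set G.U := (W' : Set G.U)ᶜ
  have hZ : IsClosed Z := W'.2.isClosed_compl
  refine ⟨⟨(closure (sat G Z))ᶜ, isClosed_closure.isOpen_compl⟩, W', ?_, hW', ?_, ?_⟩
  · exact TopologicalSpace.Opens.ext (preimage_compl_closure G hZ)
  · intro x hx hcl
    obtain ⟨z, hz, hzx⟩ := exists_specializes G hZ hcl
    have hzW := mem_sat_of_specializes G W hzx (subset_sat G _ hx)
    obtain ⟨r, hr, rfl⟩ := hz
    exact hr (hsat (mem_sat_s G _ r hzW))
  · intro x hx
    by_contra hxW
    exact hx (subset_closure (subset_sat G Z hxW))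

end Groth.Agent.S1894
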