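import Groth.Statements.S18940
import Groth.Agent.Topos.Sheaf

set_option autoImplicit false
universe w v u
open CategoryTheory
open ShfCat

namespace Groth.Agent.S18940

/-- Let (C, J) be a site and f : F → G a morphism of sheaves of sets on it which is locally surjective
(every section of G is, after passing to a covering, in the image of f). Then for every morphism of
sheaves g : H → G the base change F ×_G H → H of f is again locally surjective. -/
theorem result {C : Type u} [Category.{v} C]
    (J : GrothendieckTopology C) {F G H : Sheaf J (Type w)} (f : F ⟶ G) (g : H ⟶ G)
    [Sheaf.IsLocallySurjective f] :
    Sheaf.IsLocallySurjective (Limits.pullback.snd f g) := 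
  Groth.Agent.Topos.Sheaf.sheaf_isLocallySurjective_of_isPullback J (IsPullback.flip (IsPullback.of_hasPullback f g))

end Groth.Agent.S18940
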