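import Groth.Statements.S18942
import Mathlib.RingTheory.WittVector.TeichmullerSeries
import Mathlib.NumberTheory.Basic

set_option autoImplicit false
universe u
open DPow

namespace Groth.Agent.S18942

/-- Let p be a prime, k a perfect field of characteristic p, n a natural number and x an element of
W_n(k), written here as the truncation of a Witt vector x over k. For any Witt vectors y_0, …,
y_{n−1} over k lifting the components of x under the map y ↦ (y_0)^(p^n) (that is, (y_i)_0^(p^n) =
x_i), one has x = Σ_{i<n} p^i y_i^(p^(n−i)) in W_n(k). -/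
theorem result (p : ℕ) [Fact p.Prime]
    (k : Type u) [Field k] [CharP k p] [PerfectRing k p] (n : ℕ) (x : WittVector p k)
    (y : Fin n → WittVector p k) (hy : ∀ i : Fin n, ((y i).coeff 0) ^ (p ^ n) = x.coeff i) :
    WittVector.truncate n x =
      WittVector.truncate n (∑ i : Fin n, (p : WittVector p k) ^ (i : ℕ) * (y i) ^ (p ^ (n - i))) := by
  rcases Nat.eq_zero_or_pos n with rfl | hn
  · exact TruncatedWittVector.ext fun i => i.elim0
  obtain ⟨m, rfl⟩ : ∃ m, n = m + 1 := ⟨n - 1, by omega⟩
  have hdvd : ∀ i : Fin (m + 1), (p : WittVector p k) ^ (m + 1) ∣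
      (p : WittVector p k) ^ (i : ℕ) * (y i) ^ (p ^ (m + 1 - i)) -
        WittVector.teichmuller p (((frobeniusEquiv k p).symm ^ (i : ℕ)) (x.coeff i)) *
          (p : WittVector p k) ^ (i : ℕ) := by
    intro i
    have h1 : (p : WittVector p k) ∣ y i - WittVector.teichmuller p ((y i).coeff 0) := by
      rw [← Ideal.mem_span_singleton, ← pow_one (p : WittVector p k),
        WittVector.mem_span_p_pow_iff_le_coeff_eq_zero]
      intro j hj
      obtain rfl : j = 0 := by omega
      show WittVector.constantCoeff (y i - _) = 0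
      rw [map_sub]
      exact sub_eq_zero.2 (WittVector.teichmuller_coeff_zero p _).symm
    have h2 := dvd_sub_pow_of_dvd_sub h1 (m + 1 - i)
    have h3 : ((frobeniusEquiv k p).symm ^ (i : ℕ)) (x.coeff i) = ((y i).coeff 0) ^ (p ^ (m + 1 - i)) := by
      have key : ∀ (j : ℕ) (z : k), ((frobeniusEquiv k p).symm ^ j) (z ^ p ^ j) = z := by
        intro j
        induction j with
        | zero => intro z; simp
        | succ j ih =>
          intro z
          rw [pow_succ, RingAut.mul_apply, pow_succ p, pow_mul,
            show (z ^ p ^ j) ^ p = frobeniusEquiv k p (z ^ p ^ j) from (frobeniusEquiv_apply k p _).symm]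
          rw [RingEquiv.symm_apply_apply, ih]
      rw [← hy i, ← key i (((y i).coeff 0) ^ (p ^ (m + 1 - i))), ← pow_mul, ← pow_add,
        Nat.sub_add_cancel i.2.le]
    rw [h3, map_pow, mul_comm (WittVector.teichmuller p _ ^ _), ← mul_sub]
    calc (p : WittVector p k) ^ (m + 1) ∣ (p : WittVector p k) ^ (i : ℕ) * (p : WittVector p k) ^ (m + 1 - i + 1) := by
          rw [← pow_add]; exact pow_dvd_pow _ (by omega)
      _ ∣ _ := mul_dvd_mul_left _ h2
  rw [← sub_eq_zero, ← map_sub, ← RingHom.mem_ker, WittVector.mem_ker_truncate]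
  intro i hi
  have h : (p : WittVector p k) ^ (m + 1) ∣
      x - ∑ j : Fin (m + 1), (p : WittVector p k) ^ (j : ℕ) * (y j) ^ (p ^ (m + 1 - j)) := by
    have h0 := WittVector.dvd_sub_sum_teichmuller_iterateFrobeniusEquiv_coeff x m
    rw [← Nat.range_succ_eq_Iic, ← Fin.sum_univ_eq_sum_range (fun j => WittVector.teichmuller p
      (((frobeniusEquiv k p).symm ^ j) (x.coeff j)) * (p : WittVector p k) ^ j)] at h0
    have h4 := dvd_sub h0 (Finset.dvd_sum (s := Finset.univ) fun j _ => hdvd j)
    rwa [Finset.sum_sub_distrib, sub_sub, add_sub_cancel] at h4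
  rw [← Ideal.mem_span_singleton, WittVector.mem_span_p_pow_iff_le_coeff_eq_zero] at h
  exact h i hi

end Groth.Agent.S18942
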