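import Groth.Statements.S18943
import Mathlib.Analysis.Calculus.ParametricIntervalIntegral
import Mathlib.Analysis.Calculus.ContDiff.Deriv
import Mathlib.MeasureTheory.Integral.IntervalIntegral.FundThmCalculus
import Mathlib.MeasureTheory.Integral.DominatedConvergence


set_option autoImplicit false
open scoped ContDiff
open CInfGerm

namespace Groth.Agent.S18943
open MeasureTheory in
lemma hasDerivAt_param {φ : ℝ → ℝ} (hφ : Differentiable ℝ φ) (hφ' : Continuous (deriv φ)) (n : ℕ)
    (x₀ : ℝ) :
    HasDerivAt (fun x => ∫ t in (0:ℝ)..1, t ^ n * φ (t * x))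
      (∫ t in (0:ℝ)..1, t ^ (n + 1) * deriv φ (t * x₀)) x₀ := by
  obtain ⟨B, hB⟩ := ((isCompact_Icc (a := (0:ℝ)) (b := 1)).prod
    (isCompact_closedBall x₀ 1)).exists_bound_of_continuousOn
    (f := fun p : ℝ × ℝ => p.1 ^ (n + 1) * deriv φ (p.1 * p.2)) (by fun_prop)
  have hc : Continuous φ := hφ.continuous
  refine (intervalIntegral.hasDerivAt_integral_of_dominated_loc_of_deriv_le
    (F := fun x t => t ^ n * φ (t * x)) (F' := fun x t => t ^ (n + 1) * deriv φ (t * x))
    (bound := fun _ => B) (Metric.ball_mem_nhds x₀ one_pos)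
    (Filter.Eventually.of_forall fun x => (by fun_prop : Continuous _).aestronglyMeasurable)
    ((by fun_prop : Continuous _).intervalIntegrable _ _)
    ((by fun_prop : Continuous _).aestronglyMeasurable)
    (Filter.Eventually.of_forall fun t ht x hx => ?_) intervalIntegrable_const
    (Filter.Eventually.of_forall fun t _ x _ => ?_)).2
  · rw [Set.uIoc_of_le zero_le_one] at ht
    exact hB (t, x) ⟨⟨ht.1.le, ht.2⟩, Metric.ball_subset_closedBall hx⟩
  · have := ((hφ (t * x)).hasDerivAt.comp x ((hasDerivAt_id x).const_mul t)).const_mul (t ^ n)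
    refine this.congr_deriv ?_
    simp only [id_eq, mul_one, one_mul]; ring

lemma contDiff_param (m : ℕ) : ∀ {φ : ℝ → ℝ}, ContDiff ℝ ∞ φ → ∀ n : ℕ,
    ContDiff ℝ m (fun x => ∫ t in (0:ℝ)..1, t ^ n * φ (t * x)) := by
  induction m with
  | zero =>
    intro φ hφ n
    exact contDiff_zero.2 (intervalIntegral.continuous_parametric_intervalIntegral_of_continuous'
      (by have := hφ.continuous; fun_prop) _ _)
  | succ m ih =>
    intro φ hφ n
    obtain ⟨h1, h2⟩ := contDiff_infty_iff_deriv.1 hφ
    have hd := hasDerivAt_param h1 h2.continuous n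
    rw [show ((m + 1 : ℕ) : WithTop ℕ∞) = (m : WithTop ℕ∞) + 1 from by push_cast; rfl,
      contDiff_succ_iff_deriv]
    refine ⟨fun x => (hd x).differentiableAt, by simp, ?_⟩
    rw [funext fun x => (hd x).deriv]
    exact ih h2 (n + 1)

/-- Let f be an infinitely differentiable real-valued function on the real line with f(0) = 0. Then f(x)
= x·g(x) for an infinitely differentiable function g. (The source phrases this for germs at 0: the
maximal ideal of the local ring of germs of smooth functions at the origin is generated by the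
coordinate t; the global form stated here is what its argument, smooth extension of f(x)/x across 0,
gives.) -/
theorem result (f : ℝ → ℝ) (hf : ContDiff ℝ ∞ f) (h0 : f 0 = 0) :
    ∃ g : ℝ → ℝ, ContDiff ℝ ∞ g ∧ ∀ x : ℝ, f x = x * g x := by
  obtain ⟨h1, h2⟩ := contDiff_infty_iff_deriv.1 hf
  refine ⟨fun x => ∫ t in (0:ℝ)..1, t ^ 0 * deriv f (t * x),
    contDiff_infty.2 fun m => contDiff_param m h2 0, fun x => ?_⟩
  simp only [pow_zero, one_mul]
  rw [← intervalIntegral.integral_const_mul]
  have hd : ∀ t ∈ Set.uIcc (0:ℝ) 1, HasDerivAt (fun s => f (s * x)) (x * deriv f (t * x)) t := by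
    intro t _
    have := (h1 (t * x)).hasDerivAt.comp t ((hasDerivAt_id t).mul_const x)
    refine this.congr_deriv ?_
    simp only [id_eq, mul_one, one_mul]; ring
  rw [intervalIntegral.integral_eq_sub_of_hasDerivAt hd
    ((by have := h2.continuous; fun_prop : Continuous _).intervalIntegrable _ _)]
  simp [h0]

end Groth.Agent.S18943
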