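import Groth.Statements.S18945
import Groth.Agent.S18934
import Groth.Agent.Synt44.Mor

set_option autoImplicit false
universe u
open CategoryTheory AlgebraicGeometry
open Synt

namespace Groth.Agent.S18945

/-- Let p be a prime, X a scheme and a a global section of the structure sheaf of X. There is a covering
of X for the syntomic topology, that is a jointly surjective family of syntomic morphisms X_i → X,
such that the restriction of a to each X_i is a p-th power. (The source states the surjectivity of
the p-th power map of the structure sheaf on the small syntomic site of a syntomic scheme over a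
perfect field of characteristic p; the covering it uses elsewhere, adjoining a p-th root T^p = a
over affine pieces, gives the statement for every scheme, which is the form given here.) -/
theorem result (p : ℕ) [Fact p.Prime] (X : Scheme.{u}) (a : Γ(X, ⊤)) :
    ∃ 𝒰 : Scheme.Cover.{u} (Scheme.precoverage @Synt.IsSyntomicMor) X,
      ∀ i : 𝒰.I₀, ∃ b : Γ(𝒰.X i, ⊤), b ^ p = (𝒰.f i).appTop a := by
  classical
  haveI hresp := HasRingHomProperty.respects_isOpenImmersion (P := Groth.Agent.Synt44.syntomicMor.{u})
    Groth.Agent.Synt44.syntomicHom_stableUnderCompositionWithLocalizationAwaySource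
  let 𝒱 := X.affineOpenCover
  let a' : ∀ i, 𝒱.X i := fun i => (Scheme.ΓSpecIso (𝒱.X i)).hom ((𝒱.f i).appTop a)
  let B : 𝒱.I₀ → CommRingCat.{u} := fun i => CommRingCat.of (AdjoinRoot (Polynomial.X ^ p - Polynomial.C (a' i)))
  let φ : ∀ i, 𝒱.X i ⟶ B i := fun i => CommRingCat.ofHom (AdjoinRoot.of _)
  have hs := fun i => Groth.Agent.S18934.result p (𝒱.X i) (a' i)
  have hcomp : ∀ i, Synt.IsSyntomicMor (Spec.map (φ i) ≫ 𝒱.f i) := fun i => by
    refine MorphismProperty.RespectsRight.postcomp (P := Groth.Agent.Synt44.syntomicMor.{u}) (Q := @IsOpenImmersion)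
      (𝒱.f i) inferInstance _ ?_
    refine HasRingHomProperty.Spec_iff.2 ?_
    exact Groth.Agent.Synt44.syntomicHom_algebraMap.2 (hs i).1
  have hsurj : ∀ i, Function.Surjective (Spec.map (φ i)).base := fun i => by
    haveI := (hs i).2
    exact PrimeSpectrum.comap_surjective_of_faithfullyFlat (A := 𝒱.X i) (B := B i)
  refine ⟨{ I₀ := 𝒱.I₀, X := fun i => Spec (B i), f := fun i => Spec.map (φ i) ≫ 𝒱.f i, mem₀ := ?_ }, fun i => ?_⟩
  · rw [Scheme.presieve₀_mem_precoverage_iff]
    refine ⟨fun x => ?_, hcomp⟩
    obtain ⟨y, hy⟩ := 𝒱.covers x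
    obtain ⟨z, hz⟩ := hsurj (𝒱.idx x) y
    exact ⟨𝒱.idx x, z, by simp [hz, hy]⟩
  · refine ⟨(Scheme.ΓSpecIso (B i)).inv (AdjoinRoot.root (Polynomial.X ^ p - Polynomial.C (a' i))), ?_⟩
    rw [← map_pow]
    have hr : AdjoinRoot.root (Polynomial.X ^ p - Polynomial.C (a' i)) ^ p = φ i (a' i) := by
      have h := AdjoinRoot.eval₂_root (Polynomial.X ^ p - Polynomial.C (a' i))
      change AdjoinRoot.root _ ^ p = AdjoinRoot.of _ (a' i)
      simpa [sub_eq_zero] using h
    rw [hr, Scheme.Hom.comp_appTop]
    have h2 := congrArg (fun g => g.hom (a' i)) (Scheme.ΓSpecIso_inv_naturality (φ i))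
    simp only [CommRingCat.hom_comp, RingHom.comp_apply] at h2
    rw [h2]
    simp [a']


end Groth.Agent.S18945
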