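import Groth.Statements.S18946
import Mathlib

set_option autoImplicit false
universe u
open scoped BigOperators
open InvQ

namespace Groth.Agent.S18946

open MvPolynomial in
theorem coeff_scale {k : Type u} [Field k] {N : ℕ} (σ : Fin N → k) (f : MvPolynomial (Fin N) k) (d : Fin N →₀ ℕ) :
    coeff d (aeval (fun i => C (σ i) * X i) f) = (∏ i, σ i ^ d i) * coeff d f := by
  classical
  induction f using MvPolynomial.induction_on' with
  | monomial e c =>
    rw [aeval_monomial, coeff_monomial]
    rw [show (e.prod fun i j => (C (σ i) * X i : MvPolynomial (Fin N) k) ^ j) = monomial e (∏ i, σ i ^ e i) by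
      rw [Finsupp.prod_fintype _ _ (fun i => pow_zero _), monomial_eq, map_prod,
        Finsupp.prod_fintype _ _ (fun i => pow_zero _), ← Finset.prod_mul_distrib]
      simp [mul_pow]]
    rw [MvPolynomial.algebraMap_eq, C_mul_monomial, coeff_monomial]
    split_ifs with h
    · subst h; ring
    · simp
  | add p q hp hq => simp only [map_add, coeff_add, hp, hq, mul_add]

/-- Let k be an algebraically closed field of characteristic zero and n a natural number, and let the
torus of (n+1)-tuples of units of k with product 1 act on the polynomial ring k[t_0, ..., t_n] by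
rescaling each variable t_i by the i-th unit. A polynomial is fixed by every such rescaling if and
only if it lies in the k-subalgebra generated by the product t_0 t_1 ... t_n. (This is the
computation of the ring of functions on affine (n+1)-space invariant under the maximal diagonal
torus of the special linear group, identified with the polynomial ring in the single coordinate t =
t_0 ... t_n of the line it maps to by the product map; invariance is tested on k-valued points of
the torus, which over an infinite field is the same as invariance under the group scheme.) -/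
theorem result
    (k : Type u) [Field k] [IsAlgClosed k] [CharZero k] (n : ℕ)
    (f : MvPolynomial (Fin (n + 1)) k) :
    (∀ σ : Fin (n + 1) → kˣ, ∏ i, (σ i : k) = 1 →
        MvPolynomial.aeval (fun i => MvPolynomial.C (σ i : k) * MvPolynomial.X i) f = f) ↔
      f ∈ Algebra.adjoin k ({∏ i : Fin (n + 1), MvPolynomial.X i} : Set (MvPolynomial (Fin (n + 1)) k)) := by
  classical
  constructor
  · intro h
    have key : ∀ d ∈ f.support, ∀ i, d i = d 0 := by
      intro d hd i
      by_contra hne
      have hi0 : i ≠ 0 := fun e => hne (by rw [e])
      let t : kˣ := Units.mk0 (2 : k) two_ne_zero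
      let σ : Fin (n + 1) → kˣ := Function.update (Function.update 1 i t) 0 t⁻¹
      have hσ : ∏ j, (σ j : k) = 1 := by
        rw [← Units.coe_prod]
        simp [σ, Finset.prod_update_of_mem, Finset.sdiff_singleton_eq_erase, hi0]
      have h1 := congrArg (MvPolynomial.coeff d) (h σ hσ)
      rw [coeff_scale] at h1
      have h2 : ∏ j, (σ j : k) ^ d j = 1 := by
        have := MvPolynomial.mem_support_iff.mp hd
        exact mul_right_cancel₀ this (by rw [h1, one_mul])
      have h3 : ∏ j, (σ j : k) ^ d j = (2 : k) ^ d i * ((2 : k) ^ d 0)⁻¹ := by
        rw [← Finset.prod_subset (Finset.subset_univ ({i, 0} : Finset (Fin (n + 1)))), Finset.prod_pair hi0]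
        · simp [σ, t, hi0, inv_pow]
        · intro j _ hj
          simp at hj
          simp [σ, hj.1, hj.2]
      rw [h3, mul_inv_eq_one₀ (pow_ne_zero _ two_ne_zero)] at h2
      have h4 : ((2 ^ d i : ℕ) : k) = ((2 ^ d 0 : ℕ) : k) := by push_cast; exact h2
      exact hne (Nat.pow_right_injective le_rfl (Nat.cast_injective h4))
    rw [f.as_sum]
    refine Subalgebra.sum_mem _ fun d hd => ?_
    have : MvPolynomial.monomial d (f.coeff d) = f.coeff d • (∏ i : Fin (n + 1), MvPolynomial.X i) ^ d 0 := by
      rw [MvPolynomial.smul_eq_C_mul, MvPolynomial.monomial_eq, Finsupp.prod_fintype _ _ (fun i => pow_zero _),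
        ← Finset.prod_pow]
      simp [key d hd]
    rw [this]
    have hmem : (∏ i : Fin (n + 1), MvPolynomial.X i : MvPolynomial (Fin (n + 1)) k) ∈
        Algebra.adjoin k ({∏ i : Fin (n + 1), MvPolynomial.X i} : Set (MvPolynomial (Fin (n + 1)) k)) :=
      Algebra.self_mem_adjoin_singleton k _
    exact Subalgebra.smul_mem _ (Subalgebra.pow_mem _ hmem _) _
  · intro h σ hσ
    induction h using Algebra.adjoin_induction with
    | mem x hx =>
      rw [Set.mem_singleton_iff] at hx
      rw [hx, map_prod]
      simp [Finset.prod_mul_distrib, ← map_prod, hσ]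
    | algebraMap r => simp
    | add x y _ _ hx hy => rw [map_add, hx, hy]
    | mul x y _ _ hx hy => rw [map_mul, hx, hy]

end Groth.Agent.S18946
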