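import Groth.Statements.S18948
import Mathlib.Tactic.Group

set_option autoImplicit false
universe u v
open CExt

namespace Groth.Agent.S18948

/-- Let f : E → G be a surjective homomorphism of groups whose kernel is central in E, and let x ∈ E.
Then f maps the conjugacy class of x bijectively onto the conjugacy class of f(x) if and only if
every element of G commuting with f(x) is the image of some element of E commuting with x. (In the
source E → G is the central extension, with kernel the roots of unity, attached to a Brauer class of
the classifying stack of a finite tame étale group scheme, and a conjugacy class of E mapping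
bijectively onto a given class of G is a marking; the equivalence is stated here for an arbitrary
central extension of abstract groups.) -/
theorem result {E : Type u} {G : Type v} [Group E] [Group G]
    (f : E →* G) (hf : Function.Surjective f) (hker : f.ker ≤ Subgroup.center E) (x : E) :
    Set.BijOn f (MulAction.orbit (ConjAct E) x) (MulAction.orbit (ConjAct G) (f x)) ↔
      ∀ g : G, g * f x = f x * g → ∃ e : E, f e = g ∧ e * x = x * e := by
  constructor
  · intro h g hg
    obtain ⟨e, rfl⟩ := hf g
    refine ⟨e, rfl, ?_⟩
    have h1 : ConjAct.toConjAct e • x = x := by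
      refine h.injOn (MulAction.mem_orbit x _) (MulAction.mem_orbit_self x) ?_
      rw [ConjAct.toConjAct_smul, map_mul, map_mul, map_inv, hg, mul_assoc, mul_inv_cancel, mul_one]
    rw [ConjAct.toConjAct_smul] at h1
    exact mul_inv_eq_iff_eq_mul.1 h1
  · intro h
    refine ⟨?_, ?_, ?_⟩
    · rintro _ ⟨e, rfl⟩
      exact ⟨ConjAct.toConjAct (f (ConjAct.ofConjAct e)), by
        simp [ConjAct.smul_def]⟩
    · rintro _ ⟨e, rfl⟩ _ ⟨e', rfl⟩ he
      simp only [ConjAct.smul_def, map_mul, map_inv] at he ⊢
      generalize ConjAct.ofConjAct e = a at *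
      generalize ConjAct.ofConjAct e' = b at *
      obtain ⟨c, hc, hcx⟩ := h (f (b⁻¹ * a)) (by
        have h2 := congrArg (fun z => (f b)⁻¹ * z * f a) he
        simpa [map_mul, mul_assoc] using h2)
      have hz := Subgroup.mem_center_iff.1 (hker (show c⁻¹ * (b⁻¹ * a) ∈ f.ker by simp [MonoidHom.mem_ker, hc]))
      have h3 : b⁻¹ * a * x = x * (b⁻¹ * a) := by
        calc b⁻¹ * a * x = c * ((c⁻¹ * (b⁻¹ * a)) * x) := by group
          _ = c * (x * (c⁻¹ * (b⁻¹ * a))) := by rw [hz x]
          _ = (c * x) * c⁻¹ * (b⁻¹ * a) := by group
          _ = x * (b⁻¹ * a) := by rw [hcx]; group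
      calc a * x * a⁻¹ = b * (b⁻¹ * a * x) * a⁻¹ := by group
        _ = b * x * b⁻¹ := by rw [h3]; group
    · rintro _ ⟨g, rfl⟩
      obtain ⟨e, he⟩ := hf (ConjAct.ofConjAct g)
      exact ⟨ConjAct.toConjAct e • x, MulAction.mem_orbit _ _, by simp [ConjAct.smul_def, he]⟩

end Groth.Agent.S18948
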