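import Groth.Statements.S18949
import Mathlib.Tactic.Group

set_option autoImplicit false
universe u v
open CExt

namespace Groth.Agent.S18949

/-- Automorphisms over the base: let f : E → G be a surjective homomorphism of groups with central
kernel A. For every homomorphism χ : G → A the map e ↦ χ(f(e)) · e is an endomorphism of E over G
which is the identity on A; and every endomorphism α of E with f ∘ α = f and α equal to the identity
on A is of this form for exactly one χ. (In the source this identifies the automorphisms of a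
central extension fixing its kernel with Hom(G, A), for extensions of profinite étale group schemes
over a field; stated here for abstract groups.) -/
theorem result {E : Type u} {G : Type v} [Group E] [Group G]
    (f : E →* G) (hf : Function.Surjective f) (hker : f.ker ≤ Subgroup.center E) :
    (∀ χ : G →* f.ker, ∃ α : E →* E, f.comp α = f ∧ (∀ a ∈ f.ker, α a = a) ∧
        ∀ e : E, α e = (χ (f e) : E) * e) ∧
      ∀ α : E →* E, f.comp α = f → (∀ a ∈ f.ker, α a = a) →
        ∃! χ : G →* f.ker, ∀ e : E, α e = (χ (f e) : E) * e := by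
  have hc : ∀ (a : f.ker) (y : E), y * (a : E) = (a : E) * y :=
    fun a y => Subgroup.mem_center_iff.1 (hker a.2) y
  constructor
  · intro χ
    refine ⟨MonoidHom.mk' (fun e => (χ (f e) : E) * e) (fun a b => ?_), ?_, ?_, fun e => rfl⟩
    · simp only [map_mul, Subgroup.coe_mul, mul_assoc]
      rw [← mul_assoc ((χ (f b) : E)) a b, ← hc (χ (f b)) a, mul_assoc]
    · ext e
      simp [MonoidHom.mem_ker.1 (χ (f e)).2]
    · intro a ha
      simp [MonoidHom.mem_ker.1 ha]
  · intro α hα hαA
    have hmem : ∀ e, α e * e⁻¹ ∈ f.ker := fun e => by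
      rw [MonoidHom.mem_ker, map_mul, map_inv, ← MonoidHom.comp_apply, hα, mul_inv_cancel]
    have hmul : ∀ a b : E, (⟨_, hmem (a * b)⟩ : f.ker) = ⟨_, hmem a⟩ * ⟨_, hmem b⟩ := fun a b => by
      apply Subtype.ext
      have h1 := hc ⟨_, hmem b⟩ a⁻¹
      simp only [map_mul, mul_inv_rev, Subgroup.coe_mul] at h1 ⊢
      rw [mul_assoc (α a) a⁻¹, h1]; group
    let g : E →* f.ker := MonoidHom.mk' (fun e => ⟨α e * e⁻¹, hmem e⟩) hmul
    have hg : f.ker ≤ g.ker := fun a ha => by
      rw [MonoidHom.mem_ker]; apply Subtype.ext
      show α a * a⁻¹ = 1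
      rw [hαA a ha, mul_inv_cancel]
    refine ⟨MonoidHom.liftOfSurjective f hf ⟨g, hg⟩, fun e => ?_, fun χ hχ => ?_⟩
    · rw [MonoidHom.liftOfRightInverse_comp_apply]
      show α e = α e * e⁻¹ * e
      group
    · refine MonoidHom.ext fun y => ?_
      obtain ⟨e, rfl⟩ := hf y
      rw [MonoidHom.liftOfRightInverse_comp_apply]
      apply Subtype.ext
      show (χ (f e) : E) = α e * e⁻¹
      rw [hχ e]; group

end Groth.Agent.S18949
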