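import Groth.Statements.S18951
import Mathlib.Algebra.Module.Rat
import Mathlib.Algebra.Module.Torsion.Free
import Mathlib.Tactic.Abel

set_option autoImplicit false
universe u
open OrbPic

namespace Groth.Agent.S18951

/-- Let G be a group and C ⊆ G a subset that generates G. Then the projection (χ, w) ↦ w from the group
of geometric partial orbifold line bundles with respect to C to functions G → ℚ is injective, its
image contains every conjugation-invariant integer-valued function vanishing at 1 and outside C, and
the group is torsion-free. (The source works with the geometric points of a tame finite étale group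
scheme, characters with values in roots of unity and weights on conjugacy classes of the Tate twist;
here these are identified with a group, homomorphisms to ℚ/ℤ and class functions as the source does
after choosing roots of unity. The case C = G ∖ {1} is the statement for full orbifold line
bundles.) -/
theorem result (G : Type u) [Group G] (C : Set G)
    (hC : Subgroup.closure C = ⊤) :
    Set.InjOn (fun p : (Additive G →+ W4c6brauerbgmalle.QmodZ) × (G → ℚ) => p.2) (W4c6brauerbgmalle.picOrb G C) ∧
      (∀ w ∈ W4c6brauerbgmalle.intWeights G C, ((0 : Additive G →+ W4c6brauerbgmalle.QmodZ), w) ∈ W4c6brauerbgmalle.picOrb G C) ∧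
      ∀ (n : ℕ) (p : (Additive G →+ W4c6brauerbgmalle.QmodZ) × (G → ℚ)), p ∈ W4c6brauerbgmalle.picOrb G C → n ≠ 0 →
        n • p = 0 → p = 0 := by
  have hz : ∀ p ∈ W4c6brauerbgmalle.picOrb G C, p.2 = 0 → p = 0 := by
    rintro ⟨χ, w⟩ ⟨-, -, -, h4⟩ hw
    simp only at hw
    subst hw
    refine Prod.ext (AddMonoidHom.ext fun a => ?_) rfl
    have ha : Additive.toMul a ∈ Subgroup.closure C := by rw [hC]; trivial
    induction a using Additive.rec with
    | ofMul g =>
      simp only [toMul_ofMul] at ha
      induction ha using Subgroup.closure_induction with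
      | mem x hx => simpa using (h4 x hx).symm
      | one => exact map_zero χ
      | mul x y _ _ hx hy => rw [ofMul_mul, map_add, hx, hy]; simp
      | inv x _ hx => rw [ofMul_inv, map_neg, hx]; simp
  refine ⟨fun p hp q hq h => sub_eq_zero.1 (hz _ (AddSubgroup.sub_mem _ hp hq) ?_), ?_, ?_⟩
  · exact sub_eq_zero.2 h
  · rintro w ⟨h1, h2, h3, h4⟩
    refine ⟨h1, h2, h3, fun g _ => ?_⟩
    obtain ⟨n, hn⟩ := h4 g
    dsimp only
    rw [AddMonoidHom.zero_apply, hn]
    exact (QuotientAddGroup.eq_zero_iff _).2 ⟨n, by simp⟩
  · intro n p hp hn h
    refine hz p hp ?_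
    have h2 := congrArg Prod.snd h
    rw [Prod.smul_snd, Prod.snd_zero] at h2
    exact (smul_eq_zero.1 h2).resolve_left hn

end Groth.Agent.S18951
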