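import Groth.Statements.S18953


set_option autoImplicit false
universe u v
open OrbPic

namespace Groth.Agent.S18953

/-- Let G₁ and G₂ be groups with subsets C₁ ⊆ G₁ and C₂ ⊆ G₂, and let C ⊆ G₁ × G₂ be the union of C₁ ×
{1} and {1} × C₂. Restricting the character and the weight along the two inclusions G₁ → G₁ × G₂ and
G₂ → G₁ × G₂ is a bijection from the geometric partial orbifold line bundles of G₁ × G₂ with respect
to C onto pairs of geometric partial orbifold line bundles of G₁ with respect to C₁ and of G₂ with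
respect to C₂. (As in the source after a choice of roots of unity, each group stands for the
geometric points of a tame finite étale group scheme, characters are homomorphisms to ℚ/ℤ and
weights are class functions; the source states the Galois-equivariant version, which follows by
taking invariants.) -/
theorem result (G₁ : Type u) (G₂ : Type v) [Group G₁] [Group G₂] (C₁ : Set G₁) (C₂ : Set G₂) :
    Set.BijOn
      (fun p : (Additive (G₁ × G₂) →+ W4c6brauerbgmalle.QmodZ) × (G₁ × G₂ → ℚ) =>
        ((p.1.comp (MonoidHom.toAdditive (MonoidHom.inl G₁ G₂)), fun g => p.2 (g, 1)),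
          (p.1.comp (MonoidHom.toAdditive (MonoidHom.inr G₁ G₂)), fun g => p.2 (1, g))))
      (W4c6brauerbgmalle.picOrb (G₁ × G₂) ((fun g => (g, (1 : G₂))) '' C₁ ∪ (fun g => ((1 : G₁), g)) '' C₂))
      ((W4c6brauerbgmalle.picOrb G₁ C₁ : Set _) ×ˢ (W4c6brauerbgmalle.picOrb G₂ C₂ : Set _)) := by
  classical
  refine ⟨?_, ?_, ?_⟩
  · rintro ⟨χ, w⟩ ⟨h1, h2, h3, h4⟩
    refine ⟨⟨h1, ?_, ?_, ?_⟩, ⟨h1, ?_, ?_, ?_⟩⟩
    · intro g hg
      by_cases h : g = 1
      · subst h; exact h1
      · exact h2 (g, 1) (by simp [Prod.ext_iff, hg, h, Ne.symm h])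
    · intro g h; simpa using h3 (g, 1) (h, 1)
    · intro g hg; exact h4 (g, 1) (Or.inl ⟨g, hg, rfl⟩)
    · intro g hg
      by_cases h : g = 1
      · subst h; exact h1
      · exact h2 (1, g) (by simp [Prod.ext_iff, hg, h, Ne.symm h])
    · intro g h; simpa using h3 (1, g) (1, h)
    · intro g hg; exact h4 (1, g) (Or.inr ⟨g, hg, rfl⟩)
  · rintro ⟨χ, w⟩ ⟨-, h2, -, -⟩ ⟨χ', w'⟩ ⟨-, h2', -, -⟩ heq
    simp only [Prod.mk.injEq] at heq
    obtain ⟨⟨e1, e2⟩, e3, e4⟩ := heq
    refine Prod.ext (AddMonoidHom.ext fun a => ?_) (funext fun x => ?_)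
    · induction a using Additive.rec with
      | ofMul x => ?_
      obtain ⟨a, b⟩ := x
      show χ (Additive.ofMul (a, b)) = χ' (Additive.ofMul (a, b))
      rw [show ((a, b) : G₁ × G₂) = (a, 1) * (1, b) by simp, ofMul_mul, map_add, map_add]
      exact congrArg₂ (· + ·) (DFunLike.congr_fun e1 (Additive.ofMul a))
        (DFunLike.congr_fun e3 (Additive.ofMul b))
    · obtain ⟨a, b⟩ := x
      by_cases hb : b = 1
      · subst hb; exact congrFun e2 a
      by_cases ha : a = 1
      · subst ha; exact congrFun e4 b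
      · dsimp only at h2 h2' ⊢
        rw [h2, h2'] <;> simp [Prod.ext_iff, ha, hb, Ne.symm ha, Ne.symm hb]
  · rintro ⟨⟨χ₁, w₁⟩, χ₂, w₂⟩ ⟨⟨a1, a2, a3, a4⟩, b1, b2, b3, b4⟩
    dsimp only at a1 a2 a3 a4 b1 b2 b3 b4
    refine ⟨(χ₁.comp (MonoidHom.toAdditive (MonoidHom.fst G₁ G₂)) +
        χ₂.comp (MonoidHom.toAdditive (MonoidHom.snd G₁ G₂)),
      fun x => if x.2 = 1 then w₁ x.1 else if x.1 = 1 then w₂ x.2 else 0), ⟨?_, ?_, ?_, ?_⟩, ?_⟩
    · simpa using a1
    · intro g hg
      simp only [Set.mem_union, Set.mem_image, not_or, not_exists, not_and] at hg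
      dsimp only
      split_ifs with h h'
      · exact a2 _ fun H => hg.1 _ H (Prod.ext rfl h.symm)
      · exact b2 _ fun H => hg.2 _ H (Prod.ext h'.symm rfl)
      · rfl
    · intro g h
      simp [conj_eq_one_iff, a3, b3]
    · rintro g (⟨a, ha, rfl⟩ | ⟨b, hb, rfl⟩)
      · simpa using a4 a ha
      · by_cases h : b = 1
        · subst h
          simpa [a1, b1] using b4 1 hb
        · simpa [h] using b4 b hb
    · refine Prod.ext (Prod.ext ?_ ?_) (Prod.ext ?_ ?_)
      · ext a; simp
      · ext a; simp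
      · ext a; simp
      · ext a
        by_cases h : a = 1
        · subst h; simp [a1, b1]
        · simp [h]

end Groth.Agent.S18953
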