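import Groth.Statements.S18959
import Groth.Agent.MagnetLib.A1Iso
import Mathlib.AlgebraicGeometry.Morphisms.Etale

set_option autoImplicit false
universe u
open CategoryTheory MonoidalCategory CartesianMonoidalCategory MonObj AlgebraicGeometry Opposite
open Magnet

namespace Groth.Agent.S18959

/-- Let k be a field and let M be the affine line A^1_k with its multiplication (the diagonalizable
monoid scheme of the additive monoid of natural numbers; the published statement covers any Kempf
monoid over k), acting on k-schemes X and Y through a and b so that X and Y are locally linear, i.e.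
every point has an affine open neighbourhood stable under the action. Let Y be locally Noetherian
and f : X → Y an equivariant k-morphism such that: (1) the induced map of fixed-point subfunctors
X^M → Y^M is an isomorphism; (2) the square formed by X^M → Y^M, the inclusions X^M → X, Y^M → Y of
functors of points and f is cartesian; (3) there is an open subset V of X on which f is étale and
through which every fixed T-valued point of X factors. Then f is an isomorphism. -/
theorem result (k : Type u) [Field k]
    (X Y : Over (Spec (CommRingCat.of k))) (a : Magnet.MonAct (Magnet.AMonS (Spec (CommRingCat.of k)) ℕ) X) (b : Magnet.MonAct (Magnet.AMonS (Spec (CommRingCat.of k)) ℕ) Y)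
    (hX : ∀ x : X.left, ∃ U : X.left.Opens, x ∈ U ∧ IsAffineOpen U ∧
      (CartesianMonoidalCategory.snd (Magnet.AMonS (Spec (CommRingCat.of k)) ℕ) X).left ⁻¹ᵁ U ≤ a.act.left ⁻¹ᵁ U)
    (hY : ∀ y : Y.left, ∃ U : Y.left.Opens, y ∈ U ∧ IsAffineOpen U ∧
      (CartesianMonoidalCategory.snd (Magnet.AMonS (Spec (CommRingCat.of k)) ℕ) Y).left ⁻¹ᵁ U ≤ b.act.left ⁻¹ᵁ U)
    [IsLocallyNoetherian Y.left] (f : X ⟶ Y) (hf : Magnet.MonAct.IsEquivariant a b f)
    (h1 : IsIso (Magnet.MonAct.fixedPsh.map f hf))
    (h2 : IsPullback (Magnet.MonAct.fixedPsh.map f hf) (Magnet.MonAct.fixedPshι a)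
      (Magnet.MonAct.fixedPshι b) (yoneda.map f))
    (V : X.left.Opens) [Etale (V.ι ≫ f.left)]
    (h3 : ∀ (T : Over (Spec (CommRingCat.of k))) (x : (Magnet.MonAct.fixedPsh a).obj (op T)), x.1.left ⁻¹ᵁ V = ⊤) :
    IsIso f := by
  have hb : ∀ T, Function.Bijective ((Magnet.MonAct.fixedPsh.map f hf).app T) := fun T =>
    (CategoryTheory.isIso_iff_bijective _).1 inferInstance
  refine Groth.Agent.MagnetLib.A1.isIso_of_fixed a f hf hX hY ?_ ?_ V ?_
  · intro T y hy
    obtain ⟨x, hx⟩ := (hb (op T)).2 (Groth.Agent.MagnetLib.A1.fixedOfRetr b y hy)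
    refine ⟨x.1, ⟨Groth.Agent.MagnetLib.A1.retr_of_fixed a x, congrArg Subtype.val hx⟩, fun x' hx' => ?_⟩
    exact congrArg Subtype.val ((hb (op T)).1 (a₁ := Groth.Agent.MagnetLib.A1.fixedOfRetr a x' hx'.1) (a₂ := x)
      (Subtype.ext (hx'.2.trans (congrArg Subtype.val hx).symm)))
  · intro T x hx
    let y := Groth.Agent.MagnetLib.A1.fixedOfRetr b (x ≫ f) hx
    obtain ⟨w, hw⟩ := (hb (op T)).2 y
    have hT : IsPullback ((Magnet.MonAct.fixedPsh.map f hf).app (op T)) ((Magnet.MonAct.fixedPshι a).app (op T))
        ((Magnet.MonAct.fixedPshι b).app (op T)) ((yoneda.map f).app (op T)) :=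
      h2.map ((evaluation _ _).obj (op T))
    let one : Type u := PUnit.{u + 1}
    let l : one ⟶ (Magnet.MonAct.fixedPsh a).obj (op T) :=
      hT.lift (TypeCat.ofHom fun _ => y) (TypeCat.ofHom fun _ => x) (ConcreteCategory.hom_ext _ _ fun _ => rfl)
    have e := ConcreteCategory.congr_hom (hT.lift_snd (TypeCat.ofHom fun (_ : one) => y)
      (TypeCat.ofHom fun (_ : one) => x) (ConcreteCategory.hom_ext _ _ fun _ => rfl)) PUnit.unit
    have e' : (l PUnit.unit).1 = x := e
    rw [← e']
    exact Groth.Agent.MagnetLib.A1.retr_of_fixed a (l PUnit.unit)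
  · intro T x hx
    exact h3 T (Groth.Agent.MagnetLib.A1.fixedOfRetr a x hx)

end Groth.Agent.S18959
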