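import Groth.Statements.S18960


set_option autoImplicit false
universe w' w v u
open CategoryTheory Limits
open CatLim

namespace Groth.Agent.S18960

/-- Let C be a category and T an endofunctor of C; let C(T) be the category whose objects are pairs (X,
u) with u : T X → X an isomorphism and whose morphisms (X, u) → (Y, w) are the morphisms X → Y
compatible with u and w — the full subcategory of T-algebras with invertible structure map — and let
π : C(T) → C be the forgetful functor. If T preserves colimits of shape J then π creates colimits of
shape J. (The source assumes T preserves all small colimits and concludes for all small shapes; the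
argument is shape by shape.) -/
theorem result {C : Type u} [Category.{v} C] (T : C ⥤ C)
    (J : Type w) [Category.{w'} J] [PreservesColimitsOfShape J T] :
    Nonempty (CreatesColimitsOfShape J
      ((ObjectProperty.ι (fun A : Endofunctor.Algebra T => IsIso A.str)) ⋙ Endofunctor.Algebra.forget T)) := by
  classical
  let P : ObjectProperty (Endofunctor.Algebra T) := fun A => IsIso A.str
  refine ⟨⟨fun {K} => createsColimitOfReflectsIso fun c t => ?_⟩⟩
  let π := P.ι ⋙ Endofunctor.Algebra.forget T
  haveI : ∀ j, IsIso (K.obj j).obj.str := fun j => (K.obj j).property
  let α : (K ⋙ π) ⋙ T ⟶ K ⋙ π :=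
    { app := fun j => (K.obj j).obj.str
      naturality := fun i j f => (K.map f).hom.h }
  haveI : ∀ j, IsIso (α.app j) := fun j => (K.obj j).property
  haveI : IsIso α := NatIso.isIso_of_isIso_app α
  let tT := isColimitOfPreserves T t
  let e := IsColimit.coconePointsIsoOfNatIso tT t (asIso α)
  have he : ∀ j, T.map (c.ι.app j) ≫ e.hom = (K.obj j).obj.str ≫ c.ι.app j := fun j =>
    IsColimit.comp_coconePointsIsoOfNatIso_hom tT t (asIso α) j
  let A : P.FullSubcategory := ⟨⟨c.pt, e.hom⟩, (inferInstance : IsIso e.hom)⟩
  let L : Cocone K :=
    { pt := A
      ι :=
        { app := fun j => ObjectProperty.homMk ⟨c.ι.app j, he j⟩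
          naturality := fun i j f => by
            apply ObjectProperty.hom_ext
            apply Endofunctor.Algebra.Hom.ext
            exact (c.ι.naturality f) } }
  exact
    { liftedCocone := L
      validLift := Cocone.ext (Iso.refl _) (fun j => Category.comp_id _)
      makesColimit :=
        { desc := fun s => ObjectProperty.homMk
            ⟨t.desc ((P.ι ⋙ Endofunctor.Algebra.forget T).mapCocone s), by
              apply tT.hom_ext
              intro j
              change T.map (c.ι.app j) ≫ T.map _ ≫ _ = T.map (c.ι.app j) ≫ e.hom ≫ _
              refine (Category.assoc _ _ _).symm.trans ((congrArg (· ≫ s.pt.obj.str)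
                ((T.map_comp _ _).symm.trans (congrArg T.map (t.fac _ j)))).trans ?_)
              refine ((s.ι.app j).hom.h).trans ?_
              refine Eq.trans ?_ (((Category.assoc _ _ _).symm.trans
                (congrArg (· ≫ t.desc ((P.ι ⋙ Endofunctor.Algebra.forget T).mapCocone s)) (he j))).trans (Category.assoc _ _ _)).symm
              exact congrArg ((K.obj j).obj.str ≫ ·) (t.fac ((P.ι ⋙ Endofunctor.Algebra.forget T).mapCocone s) j).symm⟩
          fac := fun s j => by
            apply ObjectProperty.hom_ext
            apply Endofunctor.Algebra.Hom.ext
            exact t.fac _ j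
          uniq := fun s m hm => by
            apply ObjectProperty.hom_ext
            apply Endofunctor.Algebra.Hom.ext
            exact t.uniq ((P.ι ⋙ Endofunctor.Algebra.forget T).mapCocone s) m.hom.f
              (fun j => congrArg (fun q => q.hom.f) (hm j)) } }

end Groth.Agent.S18960
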