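import Groth.Statements.S18962
import Groth.Agent.EtStruct.Tower

set_option autoImplicit false
universe u
open BBDec

namespace Groth.Agent.S18962

open TensorProduct KaehlerDifferential

/-- the derivation `x ↦ [x - σ x]` followed by a linear map on the conormal module -/
theorem cotangent_mul {A B : Type u} [CommRing A] [CommRing B] [Algebra A B] (σ : B →ₐ[A] A) (x y : B)
    (hx : x - algebraMap A B (σ x) ∈ RingHom.ker σ) (hy : y - algebraMap A B (σ y) ∈ RingHom.ker σ)
    (hxy : x * y - algebraMap A B (σ (x * y)) ∈ RingHom.ker σ) :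
    (RingHom.ker σ).toCotangent ⟨_, hxy⟩ =
      algebraMap A B (σ x) • (RingHom.ker σ).toCotangent ⟨_, hy⟩ +
        algebraMap A B (σ y) • (RingHom.ker σ).toCotangent ⟨_, hx⟩ := by
  rw [← map_smul, ← map_smul, ← map_add, Ideal.toCotangent_eq, pow_two]
  simp only [Submodule.coe_add, Submodule.coe_smul, smul_eq_mul]
  rw [map_mul σ, map_mul (algebraMap A B),
    show x * y - algebraMap A B (σ x) * algebraMap A B (σ y) -
      (algebraMap A B (σ x) * (y - algebraMap A B (σ y)) + algebraMap A B (σ y) * (x - algebraMap A B (σ x))) =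
      (x - algebraMap A B (σ x)) * (y - algebraMap A B (σ y)) by ring]
  exact Ideal.mul_mem_mul hx hy

theorem bijective_mapBaseChange (A B₁ B₂ : Type u)
    [CommRing A] [CommRing B₁] [CommRing B₂] [Algebra A B₁] [Algebra A B₂] [Algebra B₂ B₁]
    [IsScalarTower A B₂ B₁] [Algebra.FiniteType A B₁] [Algebra.FiniteType A B₂]
    (σ₁ : B₁ →ₐ[A] A) (σ₂ : B₂ →ₐ[A] A) (hσ : σ₁.comp (IsScalarTower.toAlgHom A B₂ B₁) = σ₂)
    (hle : RingHom.ker σ₂ ≤ (RingHom.ker σ₁).comap (IsScalarTower.toAlgHom A B₂ B₁))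
    (hcot : Function.Bijective
      (Ideal.mapCotangent (RingHom.ker σ₂) (RingHom.ker σ₁) (IsScalarTower.toAlgHom A B₂ B₁) hle))
    (P : Ideal B₁) [P.IsPrime] (hP : RingHom.ker σ₁ ≤ P)
    [Algebra.FormallySmooth A (Localization.AtPrime P)] :
    Function.Bijective (mapBaseChange A B₂ (Localization.AtPrime P)) := by
  let L := Localization.AtPrime P
  let m := IsLocalRing.maximalIdeal L
  let M := L ⊗[B₂] Ω[B₂⁄A]
  let φ : M →ₗ[L] Ω[L⁄A] := mapBaseChange A B₂ L
  let mM : Submodule L M := m • ⊤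
  let mN : Submodule L Ω[L⁄A] := m • ⊤
  let f := IsScalarTower.toAlgHom A B₂ B₁
  have hm1 : ∀ x, x ∈ RingHom.ker σ₁ → algebraMap B₁ L x ∈ m := fun x hx =>
    (IsLocalization.AtPrime.to_map_mem_maximal_iff L P x).mpr (hP hx)
  have hm2 : ∀ y, y ∈ RingHom.ker σ₂ → algebraMap B₂ L y ∈ m := fun y hy => by
    rw [IsScalarTower.algebraMap_apply B₂ B₁ L]
    exact hm1 _ (hle hy)
  -- `b₂/b₂² → M/mM`
  have hkill : ∀ (x : L) (z : M), x ∈ m → Submodule.Quotient.mk (p := mM) (x • z) = 0 := fun x z hx =>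
    (Submodule.Quotient.mk_eq_zero mM).2 (Submodule.smul_mem_smul hx trivial)
  let δ₀ : RingHom.ker σ₂ →ₗ[A] M ⧸ mM :=
    (mM.mkQ.restrictScalars A).comp
      ((((TensorProduct.mk B₂ L Ω[B₂⁄A] 1).restrictScalars A).comp
        (D A B₂).toLinearMap).comp ((RingHom.ker σ₂).subtype.restrictScalars A))
  have hδ₀ : ∀ y, δ₀ y = Submodule.Quotient.mk (p := mM) ((1 : L) ⊗ₜ[B₂] D A B₂ y) := fun y => rfl
  have htm : ∀ (a : B₂) (w : Ω[B₂⁄A]), (1 : L) ⊗ₜ[B₂] (a • w) = algebraMap B₂ L a • ((1 : L) ⊗ₜ[B₂] w) :=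
    fun a w => by rw [tmul_smul, algebraMap_smul]
  let δ : (RingHom.ker σ₂).Cotangent →ₗ[A] M ⧸ mM :=
    Submodule.liftQ ((RingHom.ker σ₂ • ⊤ : Submodule B₂ (RingHom.ker σ₂)).restrictScalars A) δ₀ fun x hx => by
      rw [Submodule.restrictScalars_mem] at hx
      rw [LinearMap.mem_ker]
      refine Submodule.smul_induction_on hx (fun a ha y _ => ?_) (fun y z hy hz => by rw [map_add, hy, hz, add_zero])
      rw [hδ₀, show ((a • y : RingHom.ker σ₂) : B₂) = a * y from rfl, Derivation.leibniz, tmul_add, htm, htm,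
        Submodule.Quotient.mk_add, hkill _ _ (hm2 a ha), hkill _ _ (hm2 _ y.2), add_zero]
  have hδ : ∀ y, δ ((RingHom.ker σ₂).toCotangent y) =
      Submodule.Quotient.mk (p := mM) ((1 : L) ⊗ₜ[B₂] D A B₂ y) := fun y => rfl
  let g := (LinearEquiv.ofBijective _ hcot).symm
  have hg : ∀ c, Ideal.mapCotangent _ _ f hle (g c) = c := fun c =>
    (LinearEquiv.ofBijective _ hcot).apply_symm_apply c
  have hg' : ∀ c, g (Ideal.mapCotangent _ _ f hle c) = c := fun c =>
    (LinearEquiv.ofBijective _ hcot).symm_apply_apply c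
  have hmem : ∀ x, x - algebraMap A B₁ (σ₁ x) ∈ RingHom.ker σ₁ := fun x => by
    rw [RingHom.mem_ker, map_sub, AlgHom.commutes, Algebra.algebraMap_self, RingHom.id_apply, sub_self]
  let c₁ : B₁ →ₗ[A] (RingHom.ker σ₁).Cotangent :=
    ((RingHom.ker σ₁).toCotangent.restrictScalars A).comp
      (LinearMap.codRestrict ((RingHom.ker σ₁).restrictScalars A)
        (LinearMap.id - (Algebra.linearMap A B₁).comp σ₁.toLinearMap) hmem)
  have hc₁ : ∀ x, c₁ x = (RingHom.ker σ₁).toCotangent ⟨_, hmem x⟩ := fun x => rfl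
  let d₁ : B₁ →ₗ[A] M ⧸ mM := δ.comp (g.toLinearMap.comp c₁)
  have hact : ∀ (x : B₁) (z : M ⧸ mM), algebraMap B₁ L x • z = σ₁ x • z := fun x z => by
    obtain ⟨z, rfl⟩ := Submodule.Quotient.mk_surjective _ z
    rw [← algebraMap_smul L (σ₁ x) (Submodule.Quotient.mk z), ← sub_eq_zero, ← sub_smul,
      IsScalarTower.algebraMap_apply A B₁ L, ← map_sub, ← Submodule.Quotient.mk_smul]
    exact hkill _ _ (hm1 _ (hmem x))
  let dD : Derivation A B₁ (M ⧸ mM) := Derivation.mk' d₁ fun x y => by
    change δ (g (c₁ (x * y))) = x • δ (g (c₁ y)) + y • δ (g (c₁ x))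
    rw [← algebraMap_smul L x, ← algebraMap_smul L y]
    rw [hact, hact, hc₁, hc₁, hc₁, cotangent_mul σ₁ x y (hmem x) (hmem y) (hmem (x * y)),
      algebraMap_smul, algebraMap_smul, map_add, map_smul, map_smul, map_add, map_smul, map_smul]
  haveI : Algebra.FormallyEtale B₁ L := Algebra.FormallyEtale.of_isLocalization P.primeCompl
  have hbc := isBaseChange_of_formallyEtale A B₁ L
  let ψ : Ω[L⁄A] →ₗ[L] M ⧸ mM := hbc.lift dD.liftKaehlerDifferential
  have hψ : ∀ x, ψ (D A L (algebraMap B₁ L x)) = δ (g (c₁ x)) := fun x => by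
    rw [← map_D A A B₁ L x, hbc.lift_eq, Derivation.liftKaehlerDifferential_comp_D]
    rfl
  have hφ : ∀ y, φ ((1 : L) ⊗ₜ[B₂] D A B₂ y) = D A L (algebraMap B₂ L y) := fun y => by
    change mapBaseChange A B₂ L _ = _
    rw [mapBaseChange_tmul, one_smul, map_D]
  -- `ψ ∘ φ` is the quotient map
  have hψφ : ∀ z, ψ (φ z) = Submodule.Quotient.mk (p := mM) z := fun z => by
    induction z using TensorProduct.induction_on with
    | zero => rw [map_zero, map_zero, Submodule.Quotient.mk_zero]
    | add u v hu hv => rw [map_add, map_add, hu, hv, Submodule.Quotient.mk_add]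
    | tmul l w =>
      rw [show l ⊗ₜ[B₂] w = l • ((1 : L) ⊗ₜ[B₂] w) by rw [smul_tmul', smul_eq_mul, mul_one], map_smul,
        map_smul, Submodule.Quotient.mk_smul]
      congr 1
      have hw : w ∈ Submodule.span B₂ (Set.range (D A B₂)) := (span_range_derivation A B₂).ge trivial
      induction hw using Submodule.span_induction with
      | mem w hw =>
        obtain ⟨y, rfl⟩ := hw
        rw [hφ, IsScalarTower.algebraMap_apply B₂ B₁ L, hψ]
        have hy : y - algebraMap A B₂ (σ₂ y) ∈ RingHom.ker σ₂ := by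
          rw [RingHom.mem_ker, map_sub, AlgHom.commutes, Algebra.algebraMap_self, RingHom.id_apply, sub_self]
        have hc : c₁ (algebraMap B₂ B₁ y) =
            Ideal.mapCotangent _ _ f hle ((RingHom.ker σ₂).toCotangent ⟨_, hy⟩) := by
          rw [hc₁, Ideal.mapCotangent_toCotangent]
          congr 1
          refine Subtype.ext ?_
          change _ = algebraMap B₂ B₁ (y - algebraMap A B₂ (σ₂ y))
          rw [map_sub, ← IsScalarTower.algebraMap_apply, ← hσ]
          rfl
        rw [hc, hg', hδ]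
        change Submodule.Quotient.mk (p := mM) _ = _
        rw [map_sub, Derivation.map_algebraMap, sub_zero]
      | zero => rw [tmul_zero, map_zero, map_zero, Submodule.Quotient.mk_zero]
      | add u v _ _ hu hv => rw [tmul_add, map_add, map_add, hu, hv, Submodule.Quotient.mk_add]
      | smul a u _ hu =>
        rw [htm, map_smul, map_smul, hu, Submodule.Quotient.mk_smul]
  -- `φ` is onto modulo `m`
  have hgen : ∀ x : B₁, D A L (algebraMap B₁ L x) ∈ LinearMap.range φ ⊔ mN := by
    intro x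
    let y₀ : RingHom.ker σ₁ := ⟨_, hmem x⟩
    obtain ⟨z, hz⟩ := (RingHom.ker σ₂).toCotangent_surjective (g ((RingHom.ker σ₁).toCotangent y₀))
    have h1 := congrArg (Ideal.mapCotangent _ _ f hle) hz
    rw [hg, Ideal.mapCotangent_toCotangent, Ideal.toCotangent_eq] at h1
    have hsq : ∀ w ∈ RingHom.ker σ₁ ^ 2, D A L (algebraMap B₁ L w) ∈ mN := fun w hw => by
      rw [pow_two] at hw
      refine Submodule.mul_induction_on hw (fun a ha b hb => ?_) fun a b ha hb => by
        rw [map_add, map_add]; exact add_mem ha hb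
      rw [map_mul, Derivation.leibniz]
      exact add_mem (Submodule.smul_mem_smul (hm1 a ha) trivial) (Submodule.smul_mem_smul (hm1 b hb) trivial)
    have h2 := hsq _ h1
    change D A L (algebraMap B₁ L (algebraMap B₂ B₁ (z : B₂) - (x - algebraMap A B₁ (σ₁ x)))) ∈ mN at h2
    rw [map_sub, map_sub, map_sub, map_sub, ← IsScalarTower.algebraMap_apply B₂ B₁ L, ← hφ,
      ← IsScalarTower.algebraMap_apply A B₁ L, Derivation.map_algebraMap, sub_zero] at h2
    rw [show D A L (algebraMap B₁ L x) =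
        φ ((1 : L) ⊗ₜ[B₂] D A B₂ z) - (φ ((1 : L) ⊗ₜ[B₂] D A B₂ z) - D A L (algebraMap B₁ L x)) by abel]
    exact Submodule.sub_mem _ (Submodule.mem_sup_left ⟨_, rfl⟩) (Submodule.mem_sup_right h2)
  haveI : Algebra.EssFiniteType B₁ L := Algebra.EssFiniteType.of_isLocalization L P.primeCompl
  haveI : Algebra.EssFiniteType A L := Algebra.EssFiniteType.comp A B₁ L
  have hsurj : Function.Surjective φ := LinearMap.range_eq_top.1 (top_le_iff.1 (by
    refine Submodule.le_of_le_smul_of_le_jacobson_bot Module.Finite.fg_top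
      (IsLocalRing.maximalIdeal_le_jacobson _) ?_
    conv_lhs => rw [← span_range_map_derivation_of_isLocalization A B₁ L P.primeCompl]
    rw [Submodule.span_le]
    rintro _ ⟨x, rfl⟩
    rw [Function.comp_apply, map_D]
    exact hgen x))
  obtain ⟨s, hs⟩ := Module.projective_lifting_property φ LinearMap.id hsurj
  have hker : LinearMap.ker φ ≤ m • LinearMap.ker φ := fun z hz => by
    have h1 : z ∈ mM := by
      rw [← Submodule.Quotient.mk_eq_zero mM, ← hψφ, LinearMap.mem_ker.1 hz, map_zero]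
    let ρ : M →ₗ[L] M := LinearMap.id - s ∘ₗ φ
    have hρ : ∀ w, φ (ρ w) = 0 := fun w => by
      change φ (w - s (φ w)) = 0
      rw [map_sub, show φ (s (φ w)) = φ w from LinearMap.congr_fun hs (φ w), sub_self]
    have h2 : ρ z ∈ m • LinearMap.ker φ := by
      have := Submodule.mem_map_of_mem (f := ρ) h1
      rw [Submodule.map_smul''] at this
      exact Submodule.smul_mono le_rfl (by rintro _ ⟨w, -, rfl⟩; exact hρ w) this
    have : ρ z = z := by
      change z - s (φ z) = z
      rw [LinearMap.mem_ker.1 hz, map_zero, sub_zero]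
    rwa [this] at h2
  haveI : Module.Finite L (LinearMap.ker φ) := by
    let ρ : M →ₗ[L] LinearMap.ker φ := LinearMap.codRestrict _ (LinearMap.id - s ∘ₗ φ) fun w => by
      rw [LinearMap.mem_ker]
      change φ (w - s (φ w)) = 0
      rw [map_sub, show φ (s (φ w)) = φ w from LinearMap.congr_fun hs (φ w), sub_self]
    exact Module.Finite.of_surjective ρ fun w => ⟨w.1, Subtype.ext (by
      change w.1 - s (φ w.1) = w.1
      rw [LinearMap.mem_ker.1 w.2, map_zero, sub_zero])⟩
  have hbot : LinearMap.ker φ = ⊥ := Submodule.eq_bot_of_le_smul_of_le_jacobson_bot m _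
    (Module.Finite.iff_fg.1 inferInstance) hker (IsLocalRing.maximalIdeal_le_jacobson _)
  exact ⟨LinearMap.ker_eq_bot.1 hbot, hsurj⟩

/-- Let A be a commutative ring (the base V = Spec A) and B₁, B₂ commutative A-algebras (V-schemes X₁,
X₂) with A-algebra maps σ₁ : B₁ → A and σ₂ : B₂ → A (sections s₁, s₂ of the structure maps, closed
immersions with ideals b₁ = ker σ₁, b₂ = ker σ₂), and let B₂ → B₁ be an A-algebra map (a V-morphism
f : X₁ → X₂) with σ₁ ∘ (B₂ → B₁) = σ₂ (f s₁ = s₂). Assume B₁ is finitely presented over A and smooth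
over A at every prime containing b₁ (r₁ smooth along s₁(V)), B₂ is of finite type over A, and the
induced map b₂/b₂² → b₁/b₁² of conormal modules is bijective. Then B₂ → B₁ is étale at every prime
of B₁ containing b₁ (f étale along s₁(V)). (The published statement puts no finiteness condition on
B₂ over A, and in that generality the conclusion fails: over a field k, the square-zero extension of
k[x] by k[x, 1/x] mapping onto k[y] by x ↦ y, with the zero sections, satisfies every other
hypothesis and is not étale at the origin. Here B₂ is assumed of finite type over A.) -/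
theorem result (A B₁ B₂ : Type u)
    [CommRing A] [CommRing B₁] [CommRing B₂] [Algebra A B₁] [Algebra A B₂] [Algebra B₂ B₁]
    [IsScalarTower A B₂ B₁] [Algebra.FinitePresentation A B₁] [Algebra.FiniteType A B₂]
    (σ₁ : B₁ →ₐ[A] A) (σ₂ : B₂ →ₐ[A] A) (hσ : σ₁.comp (IsScalarTower.toAlgHom A B₂ B₁) = σ₂)
    (hle : RingHom.ker σ₂ ≤ (RingHom.ker σ₁).comap (IsScalarTower.toAlgHom A B₂ B₁))
    (hcot : Function.Bijective
      (Ideal.mapCotangent (RingHom.ker σ₂) (RingHom.ker σ₁) (IsScalarTower.toAlgHom A B₂ B₁) hle))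
    (hsm : ∀ (P : Ideal B₁) [P.IsPrime], RingHom.ker σ₁ ≤ P → Algebra.IsSmoothAt A P)
    (P : Ideal B₁) [P.IsPrime] (hP : RingHom.ker σ₁ ≤ P) : Algebra.IsEtaleAt B₂ P := by
  haveI : Algebra.FormallySmooth A (Localization.AtPrime P) := hsm P hP
  exact (Groth.Agent.EtStruct.formallyEtale_iff_bijective A B₂ (Localization.AtPrime P)).mpr
    (bijective_mapBaseChange A B₁ B₂ σ₁ σ₂ hσ hle hcot P hP)

end Groth.Agent.S18962
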