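import Groth.Statements.S18973
import Groth.Agent.ShStabLib.Ell.Apps
-- import your own Groth.Agent.* helpers here

set_option autoImplicit false
open CategoryTheory CategoryTheory.Limits AlgebraicGeometry Polynomial
universe u
open ShStab

namespace Groth.Agent.S18973

/-- Let k be a field and X an integral scheme, smooth and proper over k, with a closed immersion ι into
projective N-space over k compatible with the structure maps, polarised by the ample O_X(1) =
ι^*O(1); let 1 ≤ ℓ ≤ d. Let E be a nonzero coherent O_X-module, pure of dimension d, with an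
ℓ-Harder–Narasimhan filtration 0 = E_0 ⊂ E_1 ⊂ ⋯ ⊂ E_m = E (factors ℓ-semistable of dimension d,
reduced ℓ-truncated Hilbert polynomials of consecutive factors strictly decreasing), and let F =
E/E_(m−1) be its last factor, the minimal ℓ-destabilising quotient of E. If E → G is another
quotient with G nonzero, coherent and pure of dimension d, such that the Hilbert polynomials of F
and G have the same multiplicity α_d and the same reduced ℓ-truncation p_ℓ, then G and F are
isomorphic as quotients of E: there is an isomorphism F ≅ G carrying the quotient map of F to that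
of G. Here a sheaf is ℓ-semistable of dimension d when it is coherent, nonzero, pure of dimension d,
and p_ℓ(F') ≤ p_ℓ for every coherent submodule F' of multiplicity strictly between 0 and its own,
p_ℓ denoting the reduced truncation of the Hilbert polynomial (with respect to O_X(1)) to the
degrees d − ℓ, …, d. -/
theorem result (k : Type u) [Field k]
    (X : Scheme.{u}) [X.Over (Spec (CommRingCat.of k))] [IsIntegral X]
    [Smooth (X ↘ Spec (CommRingCat.of k))] [IsProper (X ↘ Spec (CommRingCat.of k))]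
    (N : ℕ) (ι : X ⟶ CohB1.ProjSpace N k) [IsClosedImmersion ι]
    (hι : ι ≫ CohB1.ProjSpace.toSpec N k = X ↘ Spec (CommRingCat.of k))
    (hL : CohB1.IsAmple ((Scheme.Modules.pullback ι).obj (Twist.twistProjSpace N k 1)))
    (d ℓ : ℕ) (hℓ : 1 ≤ ℓ) (hℓd : ℓ ≤ d)
    (E : X.Modules) (hE : Coh.IsCoh E) (h0 : ¬ IsZero E) (hp : ShStab.IsPure X E d)
    (s : LTSeries (Subobject E))
    (hs : StabCat.IsHNWith (fun G => ShStab.IsEllSemistable k X ((Scheme.Modules.pullback ι).obj (Twist.twistProjSpace N k 1)) G d ℓ)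
      (fun G P => ∃ Q : Polynomial ℚ, ShStab.IsHilbPoly k X ((Scheme.Modules.pullback ι).obj (Twist.twistProjSpace N k 1)) G Q ∧ P = StabCat.topPart ℓ d Q) d E s)
    (G : X.Modules) (q : E ⟶ G) [Epi q] (hG : Coh.IsCoh G) (hG0 : ¬ IsZero G) (hGp : ShStab.IsPure X G d)
    (pF pG : ℚ[X]) (hpF : ShStab.IsHilbPoly k X ((Scheme.Modules.pullback ι).obj (Twist.twistProjSpace N k 1)) (cokernel s.eraseLast.last.arrow) pF)
    (hpG : ShStab.IsHilbPoly k X ((Scheme.Modules.pullback ι).obj (Twist.twistProjSpace N k 1)) G pG)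
    (hα : StabCat.alpha d pF = StabCat.alpha d pG)
    (hred : StabCat.RedEq d (StabCat.topPart ℓ d pF) (StabCat.topPart ℓ d pG)) :
    ∃ φ : (cokernel s.eraseLast.last.arrow) ≅ G, cokernel.π s.eraseLast.last.arrow ≫ φ.hom = q := by
  open Groth.Agent.ShStabLib Groth.Agent.HilbPolyX in
  haveI := Groth.Agent.EulerChar.isNoetherian k (X := X)
  obtain ⟨h0', hl, hss, hdec⟩ := hs
  set L := (Scheme.Modules.pullback ι).obj (Twist.twistProjSpace N k 1) with hLdef
  have hc := isCohSub_of_steps s (h0' ▸ isCohSub_bot) fun i => (hss i).1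
  have hne : (⊥ : Subobject E) ≠ ⊤ := fun e => h0 ((isZero_bot (E := E)).of_iso
    ((asIso (⊤ : Subobject E).arrow).symm ≪≫ Subobject.isoOfEq _ _ e.symm))
  have hlen : s.length ≠ 0 := fun h => hne (by
    rw [← h0', ← hl]; exact congrArg s.toFun (Fin.ext h.symm))
  have hchain : Ell.IsHNChain k L d ℓ s := by
    refine ⟨fun i _ => hss i, fun i j hij => ?_⟩
    have h := hdec i j hij _ _ ⟨_, isHilbPoly_hilb k hL (hss i).1, rfl⟩
      ⟨_, isHilbPoly_hilb k hL (hss j).1, rfl⟩
    change StabCat.RedLT d (Ell.tl k L d ℓ (quo (s.step j).le)) (Ell.tl k L d ℓ (quo (s.step i).le)) at h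
    rwa [Ell.tl_quo k hL (s.step j).le (hc _) (hc _),
      Ell.tl_quo k hL (s.step i).le (hc _) (hc _)] at h
  let i₀ : Fin s.length := ⟨s.length.pred, Nat.pred_lt hlen⟩
  have hS : s.eraseLast.last = s i₀.castSucc := rfl
  have hSc := hc i₀.castSucc
  let K : Subobject E := Subobject.mk (kernel.ι q)
  have hK : IsCohSub K := isCohSub_mk _ (isCoh_of_kernel k q hE hG)
  let eK : cokernel K.arrow ≅ G :=
    cokernel.mapIso K.arrow (kernel.ι q) (Subobject.underlyingIso (kernel.ι q)) (Iso.refl _)
      (by simp [K]) ≪≫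
      ((Abelian.epiIsCokernelOfKernel _ (kernelIsKernel q)).coconePointUniqueUpToIso
        (colimit.isColimit (parallelPair (kernel.ι q) 0)) : G ≅ cokernel (kernel.ι q)).symm
  let eT : ∀ U : Subobject E, cokernel U.arrow ≅ quo (le_top : U ≤ ⊤) := fun U =>
    (cokernel.mapIso (Subobject.ofLE U ⊤ le_top) U.arrow (Iso.refl _)
      (asIso (⊤ : Subobject E).arrow) (by simp)).symm
  have hcK : Coh.IsCoh (cokernel K.arrow) := isCoh_of_monoCokernel _ hK hE
  have hKp : ShStab.IsPure X (quo (le_top : K ≤ ⊤)) d :=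
    isPure_of_mono hGp ((eT K).inv ≫ eK.hom)
  have hKne : K ≠ ⊤ := fun e => hG0 ((((isZero_quo_iff le_top).2 e).of_iso (eT K)).of_iso eK.symm)
  have htop := isCohSub_top hE
  have hpG' : Ell.pl k L d ℓ K ⊤ = StabCat.topPart ℓ d pG := by
    rw [Ell.pl, ← Ell.tl_quo k hL le_top hK htop, Ell.tl,
      eq_hilb k hL hG hpG, ← hilb_iso k hL ((eT K).symm ≪≫ eK)
      (isCoh_quo le_top hK htop)]
  have hpF' : Ell.pl k L d ℓ (s i₀.castSucc) ⊤ = StabCat.topPart ℓ d pF := by
    rw [Ell.pl, ← Ell.tl_quo k hL le_top hSc htop, Ell.tl]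
    have hF' : Coh.IsCoh (cokernel (s i₀.castSucc).arrow) := isCoh_of_monoCokernel _ hSc hE
    rw [eq_hilb k hL hF' hpF, hilb_iso k hL (eT _) hF']
  have hSK : s i₀.castSucc = K :=
    Ell.eq_of_last_quot k hL hE hp hchain hc h0' hl i₀ (Nat.succ_pred_eq_of_ne_zero hlen) hK hKp
      hKne (by rw [hpF', hpG', alpha_topPart, alpha_topPart, hα]) (by rw [hpF', hpG']; exact hred)
  rw [hS] at hpF ⊢
  rw [hSK]
  refine ⟨eK, ?_⟩
  show cokernel.π K.arrow ≫ (cokernel.mapIso _ _ _ _ _).hom ≫ _ = q
  rw [cokernel.mapIso_hom, cokernel.map, cokernel.π_desc_assoc, Iso.refl_hom, Category.id_comp]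
  exact (Abelian.epiIsCokernelOfKernel _ (kernelIsKernel q)).comp_coconePointUniqueUpToIso_inv
    (colimit.isColimit (parallelPair (kernel.ι q) 0)) WalkingParallelPair.one

end Groth.Agent.S18973
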