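import Mathlib
import Groth.Statements.S18974
-- import your own Groth.Agent.* helpers here

set_option autoImplicit false
universe u
open CAlg

namespace Groth.Agent.S18974

/-- Let A be a commutative algebra over the rationals, D a locally nilpotent derivation of A and a an
element with D a = 1; write A' for the quotient of A by the ideal generated by a. Then there is a
ring isomorphism from A onto the polynomial ring A'[Y] which sends every x to the (finite) sum over
n of (1/n!) (class of D^n x) Y^n; its inverse sends Y to a and the constant polynomial on the class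
of x to the sum over n of ((-1)^n/n!) (D^n x) a^n, and under it D corresponds to the derivative
d/dY. (The source says only that A is a ring, in a setting over a field of characteristic zero; the
rational coefficients 1/n! require an algebra over the rationals, which is the hypothesis taken
here. Both sums are written over any range beyond which the iterates of D vanish at x.) -/
theorem result
    (A : Type u) [CommRing A] [Algebra ℚ A] (D : Derivation ℚ A A)
    (hnil : ∀ x : A, ∃ n : ℕ, ((D : A →ₗ[ℚ] A) ^ n) x = 0) (a : A) (ha : D a = 1) :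
    ∃ χ : A ≃+* Polynomial (A ⧸ Ideal.span ({a} : Set A)),
      (∀ (x : A) (N : ℕ), ((D : A →ₗ[ℚ] A) ^ N) x = 0 →
        χ x = ∑ n ∈ Finset.range N,
          ((n.factorial : ℚ)⁻¹ • Polynomial.C (Ideal.Quotient.mk (Ideal.span ({a} : Set A)) (((D : A →ₗ[ℚ] A) ^ n) x))) *
            Polynomial.X ^ n) ∧
      χ.symm Polynomial.X = a ∧
      (∀ (x : A) (N : ℕ), ((D : A →ₗ[ℚ] A) ^ N) x = 0 →
        χ.symm (Polynomial.C (Ideal.Quotient.mk (Ideal.span ({a} : Set A)) x)) =
          ∑ n ∈ Finset.range N, (((-1 : ℚ) ^ n * (n.factorial : ℚ)⁻¹) • ((((D : A →ₗ[ℚ] A) ^ n) x) * a ^ n))) ∧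
      ∀ p : Polynomial (A ⧸ Ideal.span ({a} : Set A)), χ (D (χ.symm p)) = Polynomial.derivative p := by
  classical
  let I : Ideal A := Ideal.span {a}
  let mk := Ideal.Quotient.mk I
  let P : ℕ → A →ₗ[ℚ] A := fun n => (D : A →ₗ[ℚ] A) ^ n
  have hP0 : ∀ x, P 0 x = x := fun x => rfl
  have hPs : ∀ n x, P (n + 1) x = P n (D x) := fun n x => by
    simp only [P, pow_succ, Module.End.mul_apply]; rfl
  have hPs' : ∀ n x, P (n + 1) x = D (P n x) := fun n x => by
    simp only [P, pow_succ', Module.End.mul_apply]; rfl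
  have hPmono : ∀ {n m : ℕ} {x : A}, P n x = 0 → n ≤ m → P m x = 0 := by
    intro n m x h hle
    induction m, hle using Nat.le_induction with
    | base => exact h
    | succ m _ ih => rw [hPs', ih, map_zero]
  let F : ℕ → A → Polynomial (A ⧸ I) := fun N x =>
    ∑ n ∈ Finset.range N, ((n.factorial : ℚ)⁻¹ • Polynomial.C (mk (P n x))) * Polynomial.X ^ n
  have hFc : ∀ N x, P N x = 0 → ∀ m, (F N x).coeff m = (m.factorial : ℚ)⁻¹ • mk (P m x) := by
    intro N x hN m
    simp only [F, Polynomial.finsetSum_coeff, Polynomial.smul_C, Polynomial.coeff_C_mul,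
      Polynomial.coeff_X_pow, mul_ite, mul_one, mul_zero, Finset.sum_ite_eq, Finset.mem_range]
    split_ifs with h
    · rfl
    · rw [hPmono hN (not_lt.mp h), map_zero, smul_zero]
  let χ₀ : A → Polynomial (A ⧸ I) := fun x => F (hnil x).choose x
  have hc : ∀ x m, (χ₀ x).coeff m = (m.factorial : ℚ)⁻¹ • mk (P m x) := fun x m =>
    hFc _ x (hnil x).choose_spec m
  have hadd : ∀ x y, χ₀ (x + y) = χ₀ x + χ₀ y := fun x y => by
    ext m; simp [hc, map_add, smul_add]
  have hder : ∀ x, Polynomial.derivative (χ₀ x) = χ₀ (D x) := fun x => by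
    ext m
    rw [Polynomial.coeff_derivative, hc, hc, hPs]
    have h1 : (((m + 1).factorial : ℚ)⁻¹) * (m + 1) = (m.factorial : ℚ)⁻¹ := by
      rw [Nat.factorial_succ]; push_cast
      have : (m.factorial : ℚ) ≠ 0 := by exact_mod_cast m.factorial_ne_zero
      field_simp
    have h2 : ((m : A ⧸ I) + 1) = algebraMap ℚ (A ⧸ I) ((m : ℚ) + 1) := by simp
    rw [h2, Algebra.smul_def, Algebra.smul_def, mul_right_comm, ← map_mul, h1]
  have hconst : ∀ p : Polynomial (A ⧸ I), Polynomial.derivative p = 0 → p.coeff 0 = 0 → p = 0 := by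
    intro p hp h0
    ext m
    rcases m with _ | m
    · simpa using h0
    have h := congrArg (fun q => Polynomial.coeff q m) hp
    simp only [Polynomial.coeff_derivative, Polynomial.coeff_zero] at h
    have h2 : IsUnit ((m : A ⧸ I) + 1) := by
      have : ((m : A ⧸ I) + 1) = algebraMap ℚ (A ⧸ I) ((m : ℚ) + 1) := by simp
      rw [this]
      exact (IsUnit.mk0 _ (by positivity)).map _
    simpa using (h2.mul_left_eq_zero).mp h
  have hc0 : ∀ x, (χ₀ x).coeff 0 = mk x := fun x => by simp [hc, hP0]
  have hzero : χ₀ 0 = 0 := by ext m; simp [hc]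
  have hmul : ∀ (k : ℕ) (x y : A) (n m : ℕ), n + m ≤ k → P n x = 0 → P m y = 0 → χ₀ (x * y) = χ₀ x * χ₀ y := by
    intro k
    induction k with
    | zero =>
      intro x y n m hk hx hy
      obtain ⟨rfl, rfl⟩ : n = 0 ∧ m = 0 := by omega
      rw [hP0] at hx hy
      simp [hx, hy, hzero]
    | succ k ih =>
      intro x y n m hk hx hy
      rcases Nat.eq_zero_or_pos n with rfl | hn
      · rw [hP0] at hx; simp [hx, hzero]
      rcases Nat.eq_zero_or_pos m with rfl | hm
      · rw [hP0] at hy; simp [hy, hzero]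
      obtain ⟨n, rfl⟩ := Nat.exists_eq_add_of_le' hn
      obtain ⟨m, rfl⟩ := Nat.exists_eq_add_of_le' hm
      refine sub_eq_zero.mp (hconst _ ?_ ?_)
      · rw [Polynomial.derivative_sub, Polynomial.derivative_mul, hder, hder, hder, D.leibniz, hadd,
          smul_eq_mul, smul_eq_mul, ih x (D y) (n + 1) m (by omega) hx (by rwa [← hPs]),
          ih y (D x) (m + 1) n (by omega) hy (by rwa [← hPs])]
        ring
      · simp [Polynomial.coeff_sub, Polynomial.mul_coeff_zero, hc0]
  have hone : χ₀ 1 = 1 := by
    refine sub_eq_zero.mp (hconst _ ?_ ?_)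
    · rw [Polynomial.derivative_sub, hder, D.map_one_eq_zero, hzero, Polynomial.derivative_one, sub_zero]
    · simp [hc0]
  let χ₁ : A →+* Polynomial (A ⧸ I) :=
    { toFun := χ₀
      map_one' := hone
      map_mul' := fun x y => hmul _ x y _ _ le_rfl (hnil x).choose_spec (hnil y).choose_spec
      map_zero' := hzero
      map_add' := hadd }
  have hinj : ∀ (n : ℕ) (x : A), P n x = 0 → χ₀ x = 0 → x = 0 := by
    intro n
    induction n with
    | zero => intro x hx _; simpa [hP0] using hx
    | succ n ih =>
      intro x hx h0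
      have hDx : D x = 0 := ih (D x) (by rwa [← hPs]) (by rw [← hder, h0, map_zero])
      have hx0 : mk x = 0 := by rw [← hc0, h0, Polynomial.coeff_zero]
      obtain ⟨y, rfl⟩ := Ideal.mem_span_singleton.mp (Ideal.Quotient.eq_zero_iff_mem.mp hx0)
      have hk : ∀ j : ℕ, ((j + 1 : ℕ) : A) * P j y + a * P (j + 1) y = 0 := by
        intro j
        induction j with
        | zero =>
          rw [D.leibniz, ha, smul_eq_mul, smul_eq_mul, mul_one, add_comm] at hDx
          simpa [hP0, hPs'] using hDx
        | succ j ihj =>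
          have h := congrArg D ihj
          rw [map_zero, map_add, D.leibniz, D.leibniz, D.map_natCast, ha] at h
          simp only [smul_eq_mul, mul_zero, add_zero, mul_one, ← hPs'] at h
          push_cast at h ⊢
          linear_combination h
      obtain ⟨M, hM⟩ := hnil y
      have hdown : ∀ j, P j y = 0 := by
        intro j
        by_cases hjM : M ≤ j
        · exact hPmono hM hjM
        refine Nat.decreasingInduction (motive := fun i _ => P i y = 0) (fun i _ hi => ?_) hM (not_le.mp hjM).le
        have h := hk i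
        rw [hi, mul_zero, add_zero] at h
        have hu : IsUnit ((i + 1 : ℕ) : A) := by
          rw [← map_natCast (algebraMap ℚ A)]
          exact (IsUnit.mk0 _ (by positivity)).map _
        exact hu.mul_right_eq_zero.mp h
      have h00 := hdown 0
      rw [hP0] at h00
      rw [h00, mul_zero]
  let σ : ℕ → A → A := fun N x =>
    ∑ n ∈ Finset.range N, (((-1 : ℚ) ^ n * (n.factorial : ℚ)⁻¹) • ((P n x) * a ^ n))
  have hDσ : ∀ N x, D (σ N x) = (((-1 : ℚ) ^ N * (N.factorial : ℚ)⁻¹) * (-(N : ℚ))) • (P N x * a ^ (N - 1)) := by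
    intro N x
    induction N with
    | zero => simp [σ]
    | succ N ih =>
      simp only [σ, Finset.sum_range_succ, map_add]
      rw [show D (∑ n ∈ Finset.range N, (((-1 : ℚ) ^ n * (n.factorial : ℚ)⁻¹) • ((P n x) * a ^ n))) = D (σ N x) from rfl,
        ih, D.map_smul, D.leibniz, D.leibniz_pow, ha, ← hPs']
      have hfac : ((-1 : ℚ) ^ (N + 1) * ((N + 1).factorial : ℚ)⁻¹) * (-((N : ℚ) + 1)) =
          (-1 : ℚ) ^ N * (N.factorial : ℚ)⁻¹ := by
        rw [Nat.factorial_succ]; push_cast
        have : (N.factorial : ℚ) ≠ 0 := by exact_mod_cast N.factorial_ne_zero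
        field_simp
        ring
      rw [Nat.cast_succ, hfac, Nat.add_sub_cancel]
      simp only [smul_eq_mul, nsmul_eq_mul, mul_one, Algebra.smul_def, map_mul, map_neg, map_natCast, eq_natCast]
      ring
  have hσ : ∀ N x, P N x = 0 → χ₀ (σ N x) = Polynomial.C (mk x) := by
    intro N x hN
    refine sub_eq_zero.mp (hconst _ ?_ ?_)
    · rw [Polynomial.derivative_sub, hder, hDσ, hN, zero_mul, smul_zero, hzero, Polynomial.derivative_C, sub_zero]
    · rw [Polynomial.coeff_sub, hc0, Polynomial.coeff_C_zero, sub_eq_zero]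
      refine Ideal.Quotient.eq.mpr ?_
      rcases N with _ | N
      · rw [hP0] at hN; simp [σ, hN]
      simp only [σ, Finset.sum_range_succ', pow_zero, Nat.factorial_zero, Nat.cast_one, inv_one, mul_one,
        one_smul, hP0, add_sub_cancel_right]
      refine Ideal.sum_mem _ fun n _ => ?_
      rw [Algebra.smul_def]
      refine Ideal.mul_mem_left _ _ (Ideal.mul_mem_left _ _ ?_)
      rw [pow_succ]
      exact Ideal.mul_mem_left _ _ (Ideal.mem_span_singleton_self a)
  have hχa : χ₀ a = Polynomial.X := by
    refine sub_eq_zero.mp (hconst _ ?_ ?_)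
    · rw [Polynomial.derivative_sub, hder, ha, hone, Polynomial.derivative_X, sub_self]
    · simp [hc0, mk, I]
  have hbij : Function.Bijective χ₁ := by
    refine ⟨(injective_iff_map_eq_zero χ₁).mpr fun x hx => hinj _ x (hnil x).choose_spec hx, fun p => ?_⟩
    induction p using Polynomial.induction_on' with
    | add p q hp hq =>
      obtain ⟨x, rfl⟩ := hp; obtain ⟨y, rfl⟩ := hq
      exact ⟨x + y, map_add χ₁ x y⟩
    | monomial n c =>
      obtain ⟨c, rfl⟩ := Ideal.Quotient.mk_surjective c
      refine ⟨σ (hnil c).choose c * a ^ n, ?_⟩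
      rw [map_mul, map_pow, ← Polynomial.C_mul_X_pow_eq_monomial]
      show χ₀ _ * χ₀ a ^ n = _
      rw [hχa, hσ _ c (hnil c).choose_spec]
  refine ⟨RingEquiv.ofBijective χ₁ hbij, fun x N hN => ?_, ?_, fun x N hN => ?_, fun p => ?_⟩
  · show χ₀ x = F N x
    ext m
    rw [hc, hFc N x hN]
  · rw [RingEquiv.symm_apply_eq]
    exact hχa.symm
  · rw [RingEquiv.symm_apply_eq]
    exact (hσ N x hN).symm
  · obtain ⟨x, rfl⟩ := (RingEquiv.ofBijective χ₁ hbij).surjective p
    rw [RingEquiv.symm_apply_apply]
    exact (hder x).symm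

end Groth.Agent.S18974
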