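import Groth.Statements.S18975
import Groth.Agent.GLDescent.Extension
import Groth.Agent.GITLib.Torsor
import Mathlib.AlgebraicGeometry.Morphisms.LocalFlatDescent
-- import your own Groth.Agent.* helpers here

set_option autoImplicit false
universe u
open CategoryTheory MonoidalCategory CartesianMonoidalCategory MonObj AlgebraicGeometry
open GIT

namespace Groth.Agent.S18975

open Groth.Agent Groth.Agent.GLDescent Groth.Agent.GITLib MonObj CategoryTheory.Limits

/-- Over an algebraically closed field k of characteristic zero, let G be an affine group scheme of
finite type over k acting on a k-scheme X, and let φ : X → Y be a morphism of k-schemes which is a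
G-torsor over Y: the square formed by the action G ×_k X → X, the second projection and φ (twice) is
cartesian, and φ acquires sections on the members of some fpqc covering family of Y. Then φ is
affine and (Y, φ) is a geometric quotient: φ is invariant and surjective, G ×_k X → X ×_Y X is
surjective, φ is universally submersive, and over every open of Y the functions on Y are exactly the
invariant functions on its preimage. (The source defines a torsor by the existence of one fpqc
morphism to Y trivialising it and defines geometric quotients with φ affine and submersive;
universal submersiveness follows because every base change of a torsor is a torsor.) -/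
theorem result
    (k : Type u) [Field k] [IsAlgClosed k] [CharZero k]
    (G X Y : Over (Spec (CommRingCat.of k))) [GrpObj G] [IsAffine G.left] [LocallyOfFiniteType G.hom]
    (a : AlgGrp.Action G X) (φ : X ⟶ Y)
    (hcart : IsPullback a.act (snd G X) φ φ)
    (hloc : NonAbH1.IsLocallyTrivialFor Scheme.fpqcPrecoverage (Over.mk φ.left : Over Y.left)) :
    IsAffineHom φ.left ∧ GIT.IsGeomQuot a φ := by
  obtain ⟨a', ha'⟩ := exists_action_over a φ hcart
  have ht : NonAbH1.IsTorsorFor Scheme.fpqcPrecoverage a' := ⟨ha', hloc⟩
  haveI : Flat (Red.bc Y.hom G).hom := MorphismProperty.pullback_snd (P := @Flat) G.hom Y.hom inferInstance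
  haveI : IsAffineHom (Red.bc Y.hom G).hom :=
    MorphismProperty.pullback_snd (P := @IsAffineHom) G.hom Y.hom inferInstance
  haveI : IsLocallyNoetherian (Spec (CommRingCat.of k)) := inferInstance
  haveI : LocallyOfFinitePresentation (Red.bc Y.hom G).hom :=
    MorphismProperty.pullback_snd (P := @LocallyOfFinitePresentation) G.hom Y.hom inferInstance
  haveI : MorphismProperty.DescendsAlong @IsAffineHom AlgSpCov.Fpqc.{u} := FpqcDesc.descendsAlong_isAffineHom
  haveI : MorphismProperty.DescendsAlong @LocallyOfFinitePresentation AlgSpCov.Fpqc.{u} :=
    inferInstanceAs (MorphismProperty.DescendsAlong @LocallyOfFinitePresentation (@Surjective ⊓ @Flat ⊓ @QuasiCompact))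
  haveI : IsAffineHom φ.left := property_of_torsor @IsAffineHom ht inferInstance
  haveI : Flat φ.left := property_of_torsor @Flat ht inferInstance
  haveI : LocallyOfFinitePresentation φ.left := property_of_torsor @LocallyOfFinitePresentation ht inferInstance
  haveI : Surjective φ.left := surjective_of_isLocallyTrivialFor (X := (Over.mk φ.left : Over Y.left)) hloc
  have hsq : IsPullback a.act.left (snd G X).left φ.left φ.left := hcart.map (Over.forget _)
  refine ⟨inferInstance, (isLocQuot_of_fppf (hcart.w) ?_).isGeomQuot⟩
  rw [show GIT.PsiY a φ hcart.w = hsq.isoPullback.hom from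
    pullback.hom_ext (by rw [GIT.PsiY, pullback.lift_fst, hsq.isoPullback_hom_fst])
      (by rw [GIT.PsiY, pullback.lift_snd, hsq.isoPullback_hom_snd])]
  infer_instance
end Groth.Agent.S18975
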