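import Groth.Statements.S18976
import Groth.Agent.GLDescent.Extension
import Groth.Agent.GrpScheme.Descent.Torsor
import Groth.Agent.GITLib.Torsor
import Mathlib.AlgebraicGeometry.Morphisms.LocalFlatDescent
-- import your own Groth.Agent.* helpers here

set_option autoImplicit false
universe u
open CategoryTheory MonoidalCategory CartesianMonoidalCategory MonObj AlgebraicGeometry
open GIT

namespace Groth.Agent.S18976

open Groth.Agent Groth.Agent.GLDescent Groth.Agent.GITLib MonObj CategoryTheory.Limits

/-- The associated fibre bundle exists. Over an algebraically closed field k of characteristic zero, let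
G be an affine group scheme of finite type over k acting on a k-scheme X, let φ : X → Y be a
G-torsor over Y (the square formed by the action, the second projection and φ twice is cartesian,
and φ acquires sections on the members of some fpqc covering family of Y), and let G act on an
affine k-scheme F. Give X ×_k F the diagonal action. Then there are a k-scheme Q with a morphism to
Y and a morphism q : X ×_k F → Q compatible with the projection to Y such that q is a G-torsor over
Q in the same sense; moreover q is affine and a geometric quotient. (The source writes the torsor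
with a right action and lets g act on X × F by (x g⁻¹, g f); with the left action g x := x g⁻¹ this
is the diagonal action used here. The last assertion of the source, on the case where F is a larger
affine group containing G, is not part of this row.) -/
theorem result
    (k : Type u) [Field k] [IsAlgClosed k] [CharZero k]
    (G X Y F : Over (Spec (CommRingCat.of k))) [GrpObj G] [IsAffine G.left] [LocallyOfFiniteType G.hom]
    (a : AlgGrp.Action G X) (φ : X ⟶ Y)
    (hcart : IsPullback a.act (snd G X) φ φ)
    (hloc : NonAbH1.IsLocallyTrivialFor Scheme.fpqcPrecoverage (Over.mk φ.left : Over Y.left))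
    [IsAffine F.left] (b : AlgGrp.Action G F) :
    ∃ (Q : Over (Spec (CommRingCat.of k))) (q : X ⊗ F ⟶ Q) (r : Q ⟶ Y),
      q ≫ r = fst X F ≫ φ ∧
      IsPullback (a.prod b).act (snd G (X ⊗ F)) q q ∧
      NonAbH1.IsLocallyTrivialFor Scheme.fpqcPrecoverage (Over.mk q.left : Over Q.left) ∧
      IsAffineHom q.left ∧ GIT.IsGeomQuot (a.prod b) q := by
  obtain ⟨a', ha'⟩ := exists_action_over a φ hcart
  have ht : NonAbH1.IsTorsorFor Scheme.fpqcPrecoverage a' := ⟨ha', hloc⟩
  haveI : Flat (Red.bc Y.hom G).hom := MorphismProperty.pullback_snd (P := @Flat) G.hom Y.hom inferInstance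
  haveI : IsAffineHom (Red.bc Y.hom G).hom :=
    MorphismProperty.pullback_snd (P := @IsAffineHom) G.hom Y.hom inferInstance
  haveI : IsLocallyNoetherian (Spec (CommRingCat.of k)) := inferInstance
  haveI : LocallyOfFinitePresentation (Red.bc Y.hom G).hom :=
    MorphismProperty.pullback_snd (P := @LocallyOfFinitePresentation) G.hom Y.hom inferInstance
  haveI : MorphismProperty.DescendsAlong @IsAffineHom AlgSpCov.Fpqc.{u} := FpqcDesc.descendsAlong_isAffineHom
  haveI : MorphismProperty.DescendsAlong @LocallyOfFinitePresentation AlgSpCov.Fpqc.{u} :=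
    inferInstanceAs (MorphismProperty.DescendsAlong @LocallyOfFinitePresentation (@Surjective ⊓ @Flat ⊓ @QuasiCompact))
  haveI : IsAffineHom φ.left := property_of_torsor @IsAffineHom ht inferInstance
  haveI : Flat φ.left := property_of_torsor @Flat ht inferInstance
  haveI : LocallyOfFinitePresentation φ.left := property_of_torsor @LocallyOfFinitePresentation ht inferInstance
  haveI : Surjective φ.left := surjective_of_isLocallyTrivialFor (X := (Over.mk φ.left : Over Y.left)) hloc
  have hsq : IsPullback a.act.left (snd G X).left φ.left φ.left := hcart.map (Over.forget _)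
  obtain ⟨W, q, r, hq, hinv⟩ := GrpScheme.Descent.exists_bundle a φ hsq b
  have hprod : ∀ {T : Over (Spec (CommRingCat.of k))} (g : T ⟶ G) (x : T ⟶ X) (z : T ⟶ F),
      lift g (lift x z) ≫ (a.prod b).act = lift (lift g x ≫ a.act) (lift g z ≫ b.act) :=
    fun g x z => AlgGrp.Action.lift_prod_act a b g x z
  have hi : GIT.IsInvariant (a.prod b) q := by
    show (a.prod b).act ≫ q = _
    rw [← hinv]
    refine congrArg (· ≫ q) ?_
    have h := hprod (fst G (X ⊗ F)) (snd G (X ⊗ F) ≫ fst X F) (snd G (X ⊗ F) ≫ snd X F)
    rw [lift_comp_fst_snd, lift_fst_snd, Category.id_comp] at h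
    rw [h]
    refine congrArg₂ lift (congrArg (· ≫ a.act) ?_) (congrArg (· ≫ b.act) ?_) <;>
      exact CartesianMonoidalCategory.hom_ext _ _ (by simp) (by simp)
  have hqr : q ≫ r = fst X F ≫ φ := Over.OverMorphism.ext hq.w.symm
  have hext : ∀ {T : Over (Spec (CommRingCat.of k))} (v v' : T ⟶ X ⊗ F),
      v ≫ fst X F = v' ≫ fst X F → v ≫ q = v' ≫ q → v = v' := fun v v' h₁ h₂ =>
    Over.OverMorphism.ext (hq.hom_ext ((congrArg (fun m => CommaMorphism.left m) h₁) :)
      ((congrArg (fun m => CommaMorphism.left m) h₂) :))
  have hpair : ∀ {T : Over (Spec (CommRingCat.of k))} (v v' : T ⟶ X ⊗ F), v ≫ q = v' ≫ q →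
      ∃! g : T ⟶ G, lift g v' ≫ (a.prod b).act = v := by
    intro T v v' e
    have e₁ : (v ≫ fst X F) ≫ φ = (v' ≫ fst X F) ≫ φ := by
      rw [Category.assoc, Category.assoc, ← hqr, ← Category.assoc, ← Category.assoc, e]
    obtain ⟨g, hg, hu⟩ := GrpScheme.Descent.existsUnique_translate a φ hsq _ _ e₁.symm
    have hfst : (lift g v' ≫ (a.prod b).act) ≫ fst X F = v ≫ fst X F := by
      conv_lhs => rw [← lift_comp_fst_snd v', hprod, lift_fst, hg]
    refine ⟨g, hext _ _ hfst ?_, fun g' hg' => hu g' ?_⟩
    · rw [Category.assoc, hi, lift_snd_assoc, e]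
    · have := congrArg (· ≫ fst X F) hg'
      conv_lhs at this => rw [← lift_comp_fst_snd v', hprod, lift_fst]
      exact this
  have hcart' : IsPullback (a.prod b).act (snd G (X ⊗ F)) q q := by
    refine IsPullback.of_isLimit' ⟨hi⟩ (PullbackCone.IsLimit.mk _
      (fun c => lift (hpair c.fst c.snd c.condition).choose c.snd)
      (fun c => (hpair c.fst c.snd c.condition).choose_spec.1) (fun c => lift_snd _ _) fun c m h₁ h₂ => ?_)
    have h₁' : m ≫ (a.prod b).act = c.fst := h₁
    have h₂' : m ≫ snd G (X ⊗ F) = c.snd := h₂
    refine CartesianMonoidalCategory.hom_ext _ _ ?_ (by rw [lift_snd]; exact h₂')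
    rw [lift_fst]
    exact (hpair c.fst c.snd c.condition).choose_spec.2 _ (by dsimp only; rw [← h₂', lift_comp_fst_snd, h₁'])
  haveI : IsAffineHom q.left := MorphismProperty.of_isPullback (P := @IsAffineHom) hq inferInstance
  haveI : Flat q.left := MorphismProperty.of_isPullback (P := @Flat) hq inferInstance
  haveI : Surjective q.left := MorphismProperty.of_isPullback (P := @Surjective) hq inferInstance
  haveI : LocallyOfFinitePresentation q.left :=
    MorphismProperty.of_isPullback (P := @LocallyOfFinitePresentation) hq inferInstance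
  refine ⟨W, q, r, hqr, hcart', ?_, inferInstance, ?_⟩
  · refine ⟨Presieve.singleton q.left, q.left.singleton_mem_fpqcPrecoverage, ?_⟩
    rintro Z g ⟨⟩
    exact ⟨𝟙 _, Category.id_comp _⟩
  · refine (isLocQuot_of_fppf hi ?_).isGeomQuot
    have hp : IsPullback (a.prod b).act.left (snd G (X ⊗ F)).left q.left q.left := hcart'.map (Over.forget _)
    rw [show GIT.PsiY (a.prod b) q hi = hp.isoPullback.hom from
      pullback.hom_ext (by rw [GIT.PsiY, pullback.lift_fst, hp.isoPullback_hom_fst])
        (by rw [GIT.PsiY, pullback.lift_snd, hp.isoPullback_hom_snd])]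
    infer_instance
end Groth.Agent.S18976
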