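import Groth.Statements.S18977
import Groth.Agent.GITLib.Univ
import Groth.Prelude.Def_ActBC
-- import your own Groth.Agent.* helpers here

set_option autoImplicit false
universe u
open CategoryTheory MonoidalCategory CartesianMonoidalCategory MonObj AlgebraicGeometry
open GIT

namespace Groth.Agent.S18977

open CategoryTheory.Limits

/-- Composition of torsors. Over an algebraically closed field k of characteristic zero, let G be an
affine group scheme of finite type over k, N a closed normal subgroup scheme which is the kernel of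
a homomorphism q : G → Q, and H a closed subgroup scheme of G which q maps isomorphically onto Q (so
G is the inner semidirect product N H). Let G act on a k-scheme X and let φ₁ : X → Y be a torsor
over Y under the restricted action of N (the square formed by the N-action, the second projection
and φ₁ twice is cartesian, and φ₁ acquires sections on the members of some fpqc covering family of
Y); let Q act on Y so that φ₁ is equivariant along q, and let φ₂ : Y → Z be a Q-torsor over Z in the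
same sense. Then φ₂ ∘ φ₁ is a G-torsor over Z: the square formed by the G-action, the second
projection and φ₂ ∘ φ₁ twice is cartesian, and φ₂ ∘ φ₁ acquires sections fpqc-locally on Z. (The
induced action of the factor group on Y is taken as a datum together with the equivariance of φ₁;
the source's second assertion, that the composite of trivial torsors is trivial, amounts to
composing sections and is not restated.) -/
theorem result
    (k : Type u) [Field k] [IsAlgClosed k] [CharZero k]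
    (G N Q H X Y Z : Over (Spec (CommRingCat.of k))) [GrpObj G] [GrpObj N] [GrpObj Q] [GrpObj H]
    [IsAffine G.left] [LocallyOfFiniteType G.hom]
    (iN : N ⟶ G) [IsMonHom iN] [IsClosedImmersion iN.left] (hnorm : AlgGrp.IsNormalHom iN)
    (q : G ⟶ Q) [IsMonHom q] (hker : AlgGrp.IsKernel iN q)
    (iH : H ⟶ G) [IsMonHom iH] [IsClosedImmersion iH.left] [IsIso (iH ≫ q)]
    (a : AlgGrp.Action G X) (φ₁ : X ⟶ Y)
    (h₁ : IsPullback (a.restrict iN).act (snd N X) φ₁ φ₁)
    (h₁loc : NonAbH1.IsLocallyTrivialFor Scheme.fpqcPrecoverage (Over.mk φ₁.left : Over Y.left))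
    (aY : AlgGrp.Action Q Y) (hequiv : (q ⊗ₘ φ₁) ≫ aY.act = a.act ≫ φ₁)
    (φ₂ : Y ⟶ Z) (h₂ : IsPullback aY.act (snd Q Y) φ₂ φ₂)
    (h₂loc : NonAbH1.IsLocallyTrivialFor Scheme.fpqcPrecoverage (Over.mk φ₂.left : Over Z.left)) :
    IsPullback a.act (snd G X) (φ₁ ≫ φ₂) (φ₁ ≫ φ₂) ∧
      NonAbH1.IsLocallyTrivialFor Scheme.fpqcPrecoverage (Over.mk (φ₁ ≫ φ₂).left : Over Z.left) := by
  have hinv : a.act ≫ φ₁ ≫ φ₂ = snd G X ≫ φ₁ ≫ φ₂ := by
    rw [← Category.assoc, ← hequiv, Category.assoc, h₂.w]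
    simp
  have heq : ∀ {T : Over (Spec (CommRingCat.of k))} (g : T ⟶ G) (x : T ⟶ X),
      (lift g x ≫ a.act) ≫ φ₁ = lift (g ≫ q) (x ≫ φ₁) ≫ aY.act := by
    intro T g x
    rw [Category.assoc, ← hequiv, lift_map_assoc]
  let σ : Q ⟶ G := inv (iH ≫ q) ≫ iH
  have hσ : σ ≫ q = 𝟙 Q := by rw [Category.assoc, IsIso.inv_hom_id]
  have pair : ∀ {A B C : Over (Spec (CommRingCat.of k))} {μ' : A ⊗ B ⟶ B} {π : B ⟶ C}
      (hsq : IsPullback μ' (snd A B) π π) {T : Over (Spec (CommRingCat.of k))} (x x' : T ⟶ B) (e : x ≫ π = x' ≫ π),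
      lift (hsq.lift x x' e ≫ fst A B) x' ≫ μ' = x := by
    intro A B C μ' π hsq T x x' e
    have hm : lift (hsq.lift x x' e ≫ fst A B) x' = hsq.lift x x' e :=
      CartesianMonoidalCategory.hom_ext _ _ (lift_fst _ _) (by rw [lift_snd, hsq.lift_snd])
    rw [hm, hsq.lift_fst]
  have key : ∀ {T : Over (Spec (CommRingCat.of k))} (x x' : T ⟶ X), x ≫ φ₁ ≫ φ₂ = x' ≫ φ₁ ≫ φ₂ →
      ∃! g : T ⟶ G, lift g x' ≫ a.act = x := by
    intro T x x' e
    rw [← Category.assoc, ← Category.assoc] at e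
    let c := h₂.lift _ _ e ≫ fst Q Y
    have hc : lift c (x' ≫ φ₁) ≫ aY.act = x ≫ φ₁ := pair h₂ _ _ e
    let g₀ := c ≫ σ
    have e1 : x ≫ φ₁ = (lift g₀ x' ≫ a.act) ≫ φ₁ := by
      rw [heq, show g₀ ≫ q = c by rw [Category.assoc, hσ, Category.comp_id], hc]
    let n := h₁.lift _ _ e1 ≫ fst N X
    have hn : lift n (lift g₀ x' ≫ a.act) ≫ (a.restrict iN).act = x := pair h₁ _ _ e1
    rw [AlgGrp.Action.lift_restrict_act, ← a.lift_mul_act] at hn
    refine ⟨(n ≫ iN) * g₀, hn, fun g hg => ?_⟩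
    change lift g x' ≫ a.act = x at hg
    have hq : g ≫ q = c := by
      have e2 : lift (g ≫ q) (x' ≫ φ₁) = lift c (x' ≫ φ₁) :=
        h₂.hom_ext (by rw [hc, ← heq, hg]) (by rw [lift_snd, lift_snd])
      simpa using congrArg (· ≫ fst Q Y) e2
    have hker' : (g * g₀⁻¹) ≫ q = toUnit T ≫ η[Q] := by
      rw [MonObj.mul_comp, GrpObj.inv_comp, hq, show g₀ ≫ q = c by rw [Category.assoc, hσ, Category.comp_id],
        mul_inv_cancel, Hom.one_def]
    let n' := hker.lift (g * g₀⁻¹) (toUnit T) hker'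
    have hn' : n' ≫ iN = g * g₀⁻¹ := hker.lift_fst _ _ _
    have : n' = n := by
      have e3 : lift n' (lift g₀ x' ≫ a.act) = lift n (lift g₀ x' ≫ a.act) :=
        h₁.hom_ext (by
          rw [AlgGrp.Action.lift_restrict_act, AlgGrp.Action.lift_restrict_act, ← a.lift_mul_act, ← a.lift_mul_act, hn,
            hn', inv_mul_cancel_right, hg]) (by rw [lift_snd, lift_snd])
      simpa using congrArg (· ≫ fst N X) e3
    rw [← this, hn', inv_mul_cancel_right]
  refine ⟨⟨⟨hinv⟩, ⟨PullbackCone.IsLimit.mk _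
      (fun c => lift (key c.fst c.snd c.condition).choose c.snd)
      (fun c => (key c.fst c.snd c.condition).choose_spec.1) (fun c => lift_snd _ _) (fun c r h₁' h₂' => ?_)⟩⟩, ?_⟩
  · have er : r = lift (r ≫ fst _ _) c.snd := by rw [← h₂', lift_comp_fst_snd]
    conv_lhs => rw [er]
    refine congrArg (lift · c.snd) ((key c.fst c.snd c.condition).choose_spec.2 _ ?_)
    show lift _ _ ≫ _ = _
    rw [← er]
    exact h₁'
  · obtain ⟨R₂, hR₂, hs₂⟩ := h₂loc
    obtain ⟨R₁, hR₁, hs₁⟩ := h₁loc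
    obtain ⟨J₂, W, g, rfl⟩ := R₂.exists_eq_ofArrows
    choose s hs using fun i => hs₂ (g i) ⟨i⟩
    have hpb := fun i => Precoverage.pullbackArrows_mem (s i) hR₁
    choose τ V v hv using fun i => (R₁.pullbackArrows (s i)).exists_eq_ofArrows
    refine ⟨_, Precoverage.comp_mem_coverings g hR₂ v (fun i => hv i ▸ hpb i), ?_⟩
    rintro S' f ⟨⟨i, t⟩⟩
    have main : ∀ {Z₀ : Scheme.{u}} (vv : Z₀ ⟶ W i), R₁.pullbackArrows (s i) vv →
        NonAbH1.HasSectionOver (Over.mk (φ₁ ≫ φ₂).left : Over Z.left) (vv ≫ g i) := by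
      rintro Z₀ vv ⟨Z', u, hu⟩
      obtain ⟨r, hr⟩ := hs₁ u hu
      change r ≫ φ₁.left = u at hr
      refine ⟨pullback.fst u (s i) ≫ r, ?_⟩
      show (pullback.fst u (s i) ≫ r) ≫ φ₁.left ≫ φ₂.left = _ ≫ _
      rw [← hs i, Category.assoc, ← Category.assoc r, hr, ← Category.assoc, pullback.condition, Category.assoc]
      rfl
    exact main _ (by rw [hv i]; exact ⟨t⟩)

end Groth.Agent.S18977
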