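import Groth.Statements.S18978
import Groth.Agent.GLDescent.Extension
import Groth.Agent.GrpScheme.HomFlat
import Groth.Agent.GrpScheme.Cartier
-- import your own Groth.Agent.* helpers here

set_option autoImplicit false
universe u
open CategoryTheory MonoidalCategory CartesianMonoidalCategory MonObj AlgebraicGeometry
open GIT

namespace Groth.Agent.S18978

open Groth.Agent Groth.Agent.GLDescent Groth.Agent.GITLib MonObj CategoryTheory.Limits

/-- A flat surjective quasi-compact map generates a covering sieve. -/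
theorem mem_of_cover {S : Scheme.{u}} {T T' : Over S} (p : T' ⟶ T) [Flat p.left] [Surjective p.left]
    [QuasiCompact p.left] {Sv : Sieve T} (h : Sv.arrows p) : Sv ∈ Jq S T := by
  change Sieve.overEquiv T Sv ∈ Scheme.fpqcTopology T.left
  refine GrothendieckTopology.superset_covering _ ?_
    (Precoverage.generate_mem_toGrothendieck p.left.singleton_mem_fpqcPrecoverage)
  intro W k hk
  obtain ⟨W', l, r, ⟨⟩, hlr⟩ := hk
  rw [Sieve.overEquiv_iff]
  have e : (Over.homMk k : Over.mk (k ≫ T.hom) ⟶ T) = Over.homMk l (by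
      show l ≫ T'.hom = k ≫ T.hom
      rw [← hlr, Category.assoc, Over.w]) ≫ p := Over.OverMorphism.ext hlr.symm
  rw [e]
  exact Sv.downward_closed h _

/-- Over an algebraically closed field k of characteristic zero, let G be an affine group scheme of
finite type over k with a closed normal subgroup scheme N, the kernel of a surjective homomorphism q
: G → H onto an affine group scheme H of finite type over k (the factor group G/N). Let G act on a
separated k-scheme X of finite type, let φ : X → Y be a torsor over Y under the restricted action of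
N (cartesian action square, sections on the members of some fpqc covering family of Y), and let H
act on Y so that φ is equivariant along q. Then for every geometric point x of X (a point with
values in an algebraically closed field Ω) with image y in Y: the G-orbit of x is closed in X_Ω and
the stabiliser of x in G is finite if and only if the H-orbit of y is closed in Y_Ω and the
stabiliser of y in H is finite. (The induced action of the factor group on Y is taken as a datum
together with the equivariance of φ; the points of the published statement are rendered as geometric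
points.) -/
theorem result
    (k : Type u) [Field k] [IsAlgClosed k] [CharZero k]
    (G N H X Y : Over (Spec (CommRingCat.of k))) [GrpObj G] [GrpObj N] [GrpObj H]
    [IsAffine G.left] [LocallyOfFiniteType G.hom]
    (iN : N ⟶ G) [IsMonHom iN] [IsClosedImmersion iN.left] (hnorm : AlgGrp.IsNormalHom iN)
    (q : G ⟶ H) [IsMonHom q] [Surjective q.left] [IsAffine H.left] [LocallyOfFiniteType H.hom]
    (hker : AlgGrp.IsKernel iN q)
    [LocallyOfFiniteType X.hom] [QuasiCompact X.hom] [IsSeparated X.hom]
    (a : AlgGrp.Action G X) (φ : X ⟶ Y)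
    (hcart : IsPullback (a.restrict iN).act (snd N X) φ φ)
    (hloc : NonAbH1.IsLocallyTrivialFor Scheme.fpqcPrecoverage (Over.mk φ.left : Over Y.left))
    (aY : AlgGrp.Action H Y) (hequiv : (q ⊗ₘ φ) ≫ aY.act = a.act ≫ φ)
    (Ω : Type u) [Field Ω] [IsAlgClosed Ω] (P : Over (Spec (CommRingCat.of k)))
    (e : P.left ≅ Spec (CommRingCat.of Ω)) (x : P ⟶ X) :
    (IsClosed (Set.range (GIT.psi a x).left.base) ∧ IsFinite (GLinSh.stabTo a x)) ↔
      (IsClosed (Set.range (GIT.psi aY (x ≫ φ)).left.base) ∧ IsFinite (GLinSh.stabTo aY (x ≫ φ))) := by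
  obtain ⟨a', ha'⟩ := exists_action_over (a.restrict iN) φ hcart
  have ht : NonAbH1.IsTorsorFor Scheme.fpqcPrecoverage a' := ⟨ha', hloc⟩
  haveI : IsAffine N.left := isAffine_of_isAffineHom iN.left
  haveI : Flat (Red.bc Y.hom N).hom := MorphismProperty.pullback_snd (P := @Flat) N.hom Y.hom inferInstance
  haveI : IsAffineHom (Red.bc Y.hom N).hom :=
    MorphismProperty.pullback_snd (P := @IsAffineHom) N.hom Y.hom inferInstance
  haveI : MorphismProperty.DescendsAlong @IsAffineHom AlgSpCov.Fpqc.{u} := FpqcDesc.descendsAlong_isAffineHom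
  haveI : IsAffineHom φ.left := property_of_torsor @IsAffineHom ht inferInstance
  haveI : Flat φ.left := property_of_torsor @Flat ht inferInstance
  haveI : Surjective φ.left := surjective_of_isLocallyTrivialFor (X := (Over.mk φ.left : Over Y.left)) hloc
  haveI : IsReduced H.left := by
    haveI : Smooth H.hom := GrpScheme.Cartier.smooth_of_charZero H
    exact GrpScheme.HomFlat.isReduced_of_smooth H.hom
  haveI : Flat q.left := GrpScheme.HomFlat.flat_of_surjective q
  haveI : Mono iN := Over.mono_of_mono_left iN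
  let y := x ≫ φ
  let ψx : G ⊗ P ⟶ X ⊗ P := GIT.psi a x
  let ψy : H ⊗ P ⟶ Y ⊗ P := GIT.psi aY y
  have hψx : ∀ {T : Over (Spec (CommRingCat.of k))} (g : T ⟶ G) (t : T ⟶ P),
      lift g t ≫ ψx = lift (lift g (t ≫ x) ≫ a.act) t := fun g t => by
    rw [show ψx = GIT.psi a x from rfl, GIT.psi, comp_lift, lift_whiskerLeft_assoc, lift_snd]
  have hψy : ∀ {T : Over (Spec (CommRingCat.of k))} (g : T ⟶ H) (t : T ⟶ P),
      lift g t ≫ ψy = lift (lift g (t ≫ y) ≫ aY.act) t := fun g t => by
    rw [show ψy = GIT.psi aY y from rfl, GIT.psi, comp_lift, lift_whiskerLeft_assoc, lift_snd]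
  have heq : ∀ {T : Over (Spec (CommRingCat.of k))} (g : T ⟶ G) (z : T ⟶ X),
      (lift g z ≫ a.act) ≫ φ = lift (g ≫ q) (z ≫ φ) ≫ aY.act := fun g z => by
    rw [Category.assoc, ← hequiv, lift_map_assoc]
  have hnq : iN ≫ q = 1 := by rw [hker.w, Hom.one_def]
  -- translating inside a fibre of `φ`
  have htr : ∀ {T : Over (Spec (CommRingCat.of k))} (z z' : T ⟶ X), z' ≫ φ = z ≫ φ →
      ∃! n : T ⟶ N, lift (n ≫ iN) z ≫ a.act = z' := by
    intro T z z' e
    have hl : ∀ n : T ⟶ N, lift n z ≫ (a.restrict iN).act = lift (n ≫ iN) z ≫ a.act := fun n => by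
      rw [AlgGrp.Action.restrict_act, lift_whiskerRight_assoc]
    refine ⟨hcart.lift z' z e ≫ fst N X, ?_, fun n hn => ?_⟩
    · show _ = _
      rw [← hl]
      conv_lhs => rw [show lift (hcart.lift z' z e ≫ fst N X) z = hcart.lift z' z e by
        conv_rhs => rw [← lift_comp_fst_snd (hcart.lift z' z e)]
        rw [hcart.lift_snd]]
      rw [hcart.lift_fst]
    · have : lift n z = hcart.lift z' z e := hcart.hom_ext (by rw [hl, hcart.lift_fst]; exact hn)
        (by rw [lift_snd, hcart.lift_snd])
      rw [← this, lift_fst]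
  have hw : ψx ≫ (φ ▷ P) = (q ▷ P) ≫ ψy := by
    refine AlgGrp.Action.hom_ext_lift₂ fun T g t => ?_
    rw [← Category.assoc, hψx, lift_whiskerRight, lift_whiskerRight_assoc, hψy, heq, Category.assoc]
  let M := pullback (φ ▷ P) ψy
  let ρ : G ⊗ P ⟶ M := pullback.lift ψx (q ▷ P) hw
  haveI : Mono ρ := ⟨fun {T} v v' e => by
    have e₁ := congrArg (· ≫ pullback.fst (φ ▷ P) ψy) e
    have e₂ := congrArg (· ≫ pullback.snd (φ ▷ P) ψy) e
    simp only [ρ, Category.assoc, pullback.lift_fst, pullback.lift_snd] at e₁ e₂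
    rw [← lift_comp_fst_snd v, ← lift_comp_fst_snd v', hψx, hψx] at e₁
    rw [← lift_comp_fst_snd v, ← lift_comp_fst_snd v', lift_whiskerRight, lift_whiskerRight] at e₂
    have ht' : v ≫ snd G P = v' ≫ snd G P := by simpa using congrArg (· ≫ snd X P) e₁
    have hz : lift (v ≫ fst G P) ((v ≫ snd G P) ≫ x) ≫ a.act =
        lift (v' ≫ fst G P) ((v ≫ snd G P) ≫ x) ≫ a.act := by
      have := congrArg (· ≫ fst X P) e₁
      simp only [lift_fst] at this
      rwa [← ht'] at this
    have hg : (v ≫ fst G P) ≫ q = (v' ≫ fst G P) ≫ q := by simpa using congrArg (· ≫ fst H P) e₂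
    let z := (v ≫ snd G P) ≫ x
    let d := (v' ≫ fst G P)⁻¹ * (v ≫ fst G P)
    have hd : d ≫ q = 1 := by rw [MonObj.mul_comp, GrpObj.inv_comp, hg, inv_mul_cancel]
    let n := hker.lift d (toUnit T) (by rw [hd, Hom.one_def])
    have hn : n ≫ iN = d := hker.lift_fst _ _ _
    have h1 : lift (n ≫ iN) z ≫ a.act = z := by
      rw [hn, a.lift_mul_act, hz, ← a.lift_mul_act, inv_mul_cancel, a.lift_one_act]
    have hn1 : n = 1 := (htr z z rfl).unique h1 (by
      show _ = _
      rw [MonObj.one_comp, a.lift_one_act])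
    rw [hn1, MonObj.one_comp] at hn
    have : v ≫ fst G P = v' ≫ fst G P := (eq_of_inv_mul_eq_one hn.symm).symm
    rw [← lift_comp_fst_snd v, ← lift_comp_fst_snd v', this, ht']⟩
  haveI : IsIso ρ := by
    let h : M ⟶ H := pullback.snd (φ ▷ P) ψy ≫ fst H P
    let W : Over (Spec (CommRingCat.of k)) := Over.mk (pullback.fst h.left q.left ≫ M.hom)
    let p : W ⟶ M := Over.homMk (pullback.fst h.left q.left) rfl
    let g₀ : W ⟶ G := Over.homMk (pullback.snd h.left q.left) (by
      show pullback.snd h.left q.left ≫ G.hom = pullback.fst h.left q.left ≫ M.hom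
      rw [← Over.w q, ← Category.assoc, ← pullback.condition, Category.assoc, Over.w h])
    have hg₀ : g₀ ≫ q = p ≫ h := Over.OverMorphism.ext pullback.condition.symm
    haveI : Flat p.left := inferInstanceAs (Flat (pullback.fst h.left q.left))
    haveI : Surjective p.left := inferInstanceAs (Surjective (pullback.fst h.left q.left))
    haveI : QuasiCompact p.left := inferInstanceAs (QuasiCompact (pullback.fst h.left q.left))
    let Sv : Sieve M :=
      { arrows := fun T f => ∃ w : T ⟶ G ⊗ P, w ≫ ρ = f
        downward_closed := fun {_ _ f} hf k => by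
          obtain ⟨w, rfl⟩ := hf
          exact ⟨k ≫ w, Category.assoc _ _ _⟩ }
    refine isIso_of_mono_of_lifts_q ρ (mem_of_cover p (Sv := Sv) ?_) fun T f hf => hf
    let zp := p ≫ pullback.fst (φ ▷ P) ψy
    let hp := p ≫ pullback.snd (φ ▷ P) ψy
    let t := hp ≫ snd H P
    have hc : zp ≫ (φ ▷ P) = hp ≫ ψy := by
      simp only [zp, hp, Category.assoc, pullback.condition]
    rw [← lift_comp_fst_snd zp, ← lift_comp_fst_snd hp, lift_whiskerRight, hψy] at hc
    have hc₁ : (zp ≫ fst X P) ≫ φ = lift (hp ≫ fst H P) (t ≫ y) ≫ aY.act := by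
      simpa [t] using congrArg (· ≫ fst Y P) hc
    have hc₂ : zp ≫ snd X P = t := by simpa [t] using congrArg (· ≫ snd Y P) hc
    have hg₀' : g₀ ≫ q = hp ≫ fst H P := by simp [hg₀, h, hp]
    obtain ⟨n, hn, -⟩ := htr (lift g₀ (t ≫ x) ≫ a.act) (zp ≫ fst X P) (by
      rw [hc₁, heq, hg₀']; simp only [y, Category.assoc])
    refine ⟨lift ((n ≫ iN) * g₀) t, pullback.hom_ext ?_ ?_⟩
    · rw [Category.assoc, pullback.lift_fst, hψx, a.lift_mul_act, hn]
      show _ = zp
      rw [← hc₂, lift_comp_fst_snd]
    · rw [Category.assoc, pullback.lift_snd, lift_whiskerRight, MonObj.mul_comp, Category.assoc, hnq,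
        MonObj.comp_one, _root_.one_mul, hg₀', lift_comp_fst_snd]
  have hsq : IsPullback ψx (q ▷ P) (φ ▷ P) ψy :=
    IsPullback.of_iso (IsPullback.of_hasPullback (φ ▷ P) ψy) (asIso ρ).symm (Iso.refl _) (Iso.refl _) (Iso.refl _)
      (by rw [Iso.refl_hom, Category.comp_id, Iso.symm_hom, asIso_inv, IsIso.eq_inv_comp]; exact pullback.lift_fst _ _ _)
      (by rw [Iso.refl_hom, Category.comp_id, Iso.symm_hom, asIso_inv, IsIso.eq_inv_comp]; exact pullback.lift_snd _ _ _)
      (by simp) (by simp)
  have hl : IsPullback ψx.left (q ▷ P).left (φ ▷ P).left ψy.left := hsq.map (Over.forget _)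
  have hfst : IsPullback (fst X P) (φ ▷ P) φ (fst Y P) := by
    refine IsPullback.of_isLimit' ⟨(whiskerRight_fst φ P).symm⟩ (PullbackCone.IsLimit.mk _
      (fun c => lift c.fst (c.snd ≫ snd Y P)) (fun c => lift_fst _ _) (fun c => ?_) fun c m h₁ h₂ => ?_)
    · rw [lift_whiskerRight, c.condition, ← comp_lift, lift_fst_snd, Category.comp_id]
    · have h₁' : m ≫ fst X P = c.fst := h₁
      have h₂' : m ≫ (φ ▷ P) = c.snd := h₂
      rw [← h₁', ← h₂', Category.assoc, whiskerRight_snd, lift_comp_fst_snd]
  have hfl : IsPullback (φ ▷ P).left (fst X P).left (fst Y P).left φ.left := (hfst.map (Over.forget _)).flip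
  haveI : Flat (φ ▷ P).left := MorphismProperty.of_isPullback (P := @Flat) hfl.flip inferInstance
  haveI : Surjective (φ ▷ P).left := MorphismProperty.of_isPullback (P := @Surjective) hfl.flip inferInstance
  haveI : QuasiCompact (φ ▷ P).left := MorphismProperty.of_isPullback (P := @QuasiCompact) hfl.flip inferInstance
  have hrange : Set.range ψx.left.base = (φ ▷ P).left.base ⁻¹' Set.range ψy.left.base := by
    ext z
    constructor
    · rintro ⟨v, rfl⟩
      refine ⟨(q ▷ P).left.base v, ?_⟩
      rw [← Scheme.Hom.comp_apply, ← Scheme.Hom.comp_apply, ← hl.w]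
    · rintro ⟨v, hv⟩
      obtain ⟨w, hw₁, -⟩ := Scheme.Pullback.exists_preimage_pullback (f := (φ ▷ P).left) (g := ψy.left) z v hv.symm
      refine ⟨hl.isoPullback.inv.base w, ?_⟩
      rw [← Scheme.Hom.comp_apply, hl.isoPullback_inv_fst, hw₁]
  have hclosed : IsClosed (Set.range ψx.left.base) ↔ IsClosed (Set.range ψy.left.base) := by
    rw [hrange]
    exact (Flat.isQuotientMap_of_surjective (φ ▷ P).left).isClosed_preimage
  have hlift : (lift x (𝟙 P)).left ≫ (φ ▷ P).left = (lift y (𝟙 P)).left := by
    rw [← Over.comp_left, lift_whiskerRight]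
  have hst : IsPullback (pullback.fst ψx.left (lift x (𝟙 P)).left ≫ (q ▷ P).left)
      (pullback.snd ψx.left (lift x (𝟙 P)).left) ψy.left (lift y (𝟙 P)).left := by
    rw [← hlift]
    exact ((IsPullback.of_hasPullback ψx.left (lift x (𝟙 P)).left).flip.paste_vert hl).flip
  have hfin : IsFinite (GLinSh.stabTo a x) ↔ IsFinite (GLinSh.stabTo aY y) := by
    show IsFinite (pullback.snd ψx.left (lift x (𝟙 P)).left) ↔ IsFinite (pullback.snd ψy.left (lift y (𝟙 P)).left)
    rw [← hst.isoPullback_hom_snd]
    exact MorphismProperty.cancel_left_of_respectsIso @IsFinite _ _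
  exact and_congr hclosed hfin
end Groth.Agent.S18978
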