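import Groth.Statements.S1898
import Groth.Agent.CycLib.MapLib
import Groth.Agent.CycLib.ModStalk
import Groth.Agent.CycLib.Residue
import Groth.Agent.CycLib.DimFun
import Groth.Agent.CycLib.LocQuotHom
import Groth.Agent.FDesc.Stalk
import Mathlib.AlgebraicGeometry.Fiber
-- import your own Groth.Agent.* helpers here

set_option autoImplicit false
universe u
open CategoryTheory AlgebraicGeometry
open Cyc

namespace Groth.Agent.S1898


open Groth.Agent.PullStalk.Sky TopologicalSpace Opposite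

/-- Length over the base of a module of finite length over a local algebra. -/
theorem length_eq_mul_residue {R : Type u} [CommRing R] {S : Type u} [CommRing S] [IsLocalRing S]
    [Algebra R S] {M : Type u} [AddCommGroup M] [Module S M] (h : IsFiniteLength S M) :
    ∀ [Module R M] [IsScalarTower R S M],
      Module.length R M = Module.length S M * Module.length R (IsLocalRing.ResidueField S) := by
  induction h with
  | of_subsingleton => intro _ _; rw [Module.length_eq_zero, Module.length_eq_zero, zero_mul]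
  | @of_simple_quotient M _ _ N hs hN ih =>
    intro _ _
    rw [Module.length_eq_add_of_exact N.subtype N.mkQ Subtype.val_injective (Submodule.mkQ_surjective N)
        (LinearMap.exact_subtype_mkQ N),
      Module.length_eq_add_of_exact (R := R) (N.subtype.restrictScalars R) (N.mkQ.restrictScalars R)
        Subtype.val_injective (Submodule.mkQ_surjective N) (LinearMap.exact_subtype_mkQ N), ih,
      Module.length_eq_one_iff.2 hs, add_mul, one_mul]
    congr 1
    obtain ⟨I, hI, ⟨e⟩⟩ := isSimpleModule_iff_quot_maximal.1 hs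
    obtain rfl := IsLocalRing.eq_maximalIdeal hI
    exact (e.restrictScalars R).length_eq

/-- Near a maximal point of a closed subset, the subset is the closure of that point. -/
theorem exists_open_inter_subset_closure {X : Scheme.{u}} [IsLocallyNoetherian X] {S : Set X}
    (hS : IsClosed S) {x : X} (hmax : ∀ z ∈ S, z ⤳ x → z = x) :
    ∃ U : X.Opens, x ∈ U ∧ (U : Set X) ∩ S ⊆ closure {x} := by
  obtain ⟨V, hV, hxV, -⟩ := exists_isAffineOpen_mem_and_subset (x := x) (U := ⊤) trivial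
  haveI : IsNoetherianRing Γ(X, V) := IsLocallyNoetherian.component_noetherian ⟨_, hV⟩
  haveI : NoetherianSpace {a : X // a ∈ (V : Set X)} := noetherianSpace_of_isAffineOpen V hV
  obtain ⟨C, hCf, hCc, hCi, hCu⟩ := NoetherianSpace.exists_finite_set_isClosed_irreducible
    (hS.preimage (continuous_subtype_val (p := fun a => a ∈ (V : Set X))))
  have hcl : IsClosed (⋃₀ {t ∈ C | (⟨x, hxV⟩ : (V : Set X)) ∉ t}) := by
    rw [Set.sUnion_eq_biUnion]
    exact (hCf.subset (Set.sep_subset _ _)).isClosed_biUnion fun t ht => hCc t ht.1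
  refine ⟨⟨Subtype.val '' (⋃₀ {t ∈ C | (⟨x, hxV⟩ : (V : Set X)) ∉ t})ᶜ,
    V.2.isOpenMap_subtype_val _ hcl.isOpen_compl⟩, ⟨⟨x, hxV⟩, fun ⟨t, ht, hxt⟩ => ht.2 hxt, rfl⟩, ?_⟩
  rintro _ ⟨⟨z, hz, rfl⟩, hzS⟩
  obtain ⟨t, ht, hzt⟩ : z ∈ ⋃₀ C := hCu ▸ hzS
  have hxt : (⟨x, hxV⟩ : (V : Set X)) ∈ t := by
    by_contra h
    exact hz ⟨t, ⟨ht, h⟩, hzt⟩
  obtain ⟨g, hg⟩ := QuasiSober.sober (((hCi t ht).image _ continuous_subtype_val.continuousOn).closure)
    isClosed_closure
  have hgt : Subtype.val '' t ⊆ closure {g} := by rw [hg.def]; exact subset_closure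
  have hgS : g ∈ S := by
    refine hS.closure_subset_iff.2 ?_ hg.mem
    rintro _ ⟨w, hw, rfl⟩
    exact (hCu.symm ▸ (Set.mem_sUnion.2 ⟨t, ht, hw⟩) : w ∈ Subtype.val ⁻¹' S)
  have hgx : g = x := hmax g hgS (specializes_iff_mem_closure.2 (hgt ⟨_, hxt, rfl⟩))
  exact hgx ▸ hgt ⟨z, hzt, rfl⟩

variable {X Y : Scheme.{u}} (f : X ⟶ Y) (F : X.Modules)

theorem germ_ext_zero (U : X.Opens) (s : Γ(F, U)) (h : ∀ (p : X) (hp : p ∈ U), germM F U p hp s = 0) :
    s = 0 :=
  TopCat.Presheaf.section_ext ⟨F.presheaf, F.isSheaf⟩ U s 0 fun p hp =>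
    (h p hp).trans (map_zero (F.presheaf.germ U p hp).hom).symm

variable {y : Y} {x : X}

/-- `(f_*F)_y → F_x` for `f x = y`. -/
noncomputable def toFibre (hx : f x = y) :
    ↑(TopCat.Presheaf.stalk ((Coh.push f).obj F).presheaf y) →+ ↑(TopCat.Presheaf.stalk F.presheaf x) :=
  (((Coh.push f).obj F).presheaf.stalkSpecializes (hx ▸ specializes_rfl : f x ⤳ y) ≫
    TopCat.Presheaf.stalkPushforward Ab f.base F.presheaf x).hom

theorem toFibre_germ (hx : f x = y) {W : Y.Opens} (hW : y ∈ W) (hW' : x ∈ f ⁻¹ᵁ W)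
    (s : Γ(F, f ⁻¹ᵁ W)) :
    toFibre f F hx (germM ((Coh.push f).obj F) W y hW s) = germM F (f ⁻¹ᵁ W) x hW' s := by
  subst hx
  have h : ((Coh.push f).obj F).presheaf.germ W (f x) hW ≫
      ((Coh.push f).obj F).presheaf.stalkSpecializes specializes_rfl ≫
        TopCat.Presheaf.stalkPushforward Ab f.base F.presheaf x = F.presheaf.germ (f ⁻¹ᵁ W) x hW' := by
    rw [TopCat.Presheaf.germ_stalkSpecializes_assoc]
    exact TopCat.Presheaf.stalkPushforward_germ Ab f.base F.presheaf W x hW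
  exact ConcreteCategory.congr_hom h s

/-- `O_{Y,y} → O_{X,x}` for `f x = y`. -/
noncomputable def baseHom (hx : f x = y) : Y.presheaf.stalk y →+* X.presheaf.stalk x :=
  (Y.presheaf.stalkSpecializes (hx ▸ specializes_rfl : f x ⤳ y) ≫ f.stalkMap x).hom

theorem baseHom_germ (hx : f x = y) {W : Y.Opens} (hW : y ∈ W) (hW' : x ∈ f ⁻¹ᵁ W) (r : Γ(Y, W)) :
    baseHom f hx (Y.presheaf.germ W y hW r) = X.presheaf.germ (f ⁻¹ᵁ W) x hW' (f.app W r) := by
  subst hx
  have h : Y.presheaf.germ W (f x) hW ≫ Y.presheaf.stalkSpecializes specializes_rfl ≫ f.stalkMap x =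
      f.app W ≫ X.presheaf.germ (f ⁻¹ᵁ W) x hW' := by
    rw [TopCat.Presheaf.germ_stalkSpecializes_assoc]
    exact f.germ_stalkMap W x hW
  exact ConcreteCategory.congr_hom h r

theorem toFibre_smul (hx : f x = y) (r : Y.presheaf.stalk y)
    (t : ↑(TopCat.Presheaf.stalk ((Coh.push f).obj F).presheaf y)) :
    toFibre f F hx (r • t) = baseHom f hx r • toFibre f F hx t := by
  obtain ⟨W₁, hW₁, s, rfl⟩ := exists_germM_eq _ y t
  obtain ⟨W₂, hW₂, a, rfl⟩ := Y.presheaf.exists_germ_eq (x := y) r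
  have hW : y ∈ W₁ ⊓ W₂ := ⟨hW₁, hW₂⟩
  have hW' : x ∈ f ⁻¹ᵁ (W₁ ⊓ W₂) := show f x ∈ W₁ ⊓ W₂ from hx ▸ hW
  unfold germM
  rw [← ((Coh.push f).obj F).presheaf.germ_res_apply (homOfLE (inf_le_left : W₁ ⊓ W₂ ≤ W₁)) y hW,
    ← Y.presheaf.germ_res_apply (homOfLE (inf_le_right : W₁ ⊓ W₂ ≤ W₂)) y hW]
  change toFibre f F hx (_ • germM _ (W₁ ⊓ W₂) y hW _) = _ • toFibre f F hx (germM _ (W₁ ⊓ W₂) y hW _)
  rw [← germM_smul, toFibre_germ f F hx hW hW', toFibre_germ f F hx hW hW', baseHom_germ f hx hW hW',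
    ← germM_smul]
  rfl

theorem length_toFibre (hx : f x = y)
    (hfl : IsFiniteLength (X.presheaf.stalk x) ↑(TopCat.Presheaf.stalk F.presheaf x))
    (hfin : (f.residueFieldMap x).hom.Finite) :
    letI : Module (Y.presheaf.stalk y) ↑(TopCat.Presheaf.stalk F.presheaf x) :=
      Module.compHom _ (baseHom f hx)
    Module.length (Y.presheaf.stalk y) ↑(TopCat.Presheaf.stalk F.presheaf x) =
      Module.length (X.presheaf.stalk x) ↑(TopCat.Presheaf.stalk F.presheaf x) *
        (f.residueDegree x : ℕ∞) := by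
  subst hx
  letI : Algebra (Y.presheaf.stalk (f x)) (X.presheaf.stalk x) := (baseHom f rfl).toAlgebra
  letI : Module (Y.presheaf.stalk (f x)) ↑(TopCat.Presheaf.stalk F.presheaf x) :=
    Module.compHom _ (baseHom f rfl)
  haveI : IsScalarTower (Y.presheaf.stalk (f x)) (X.presheaf.stalk x)
      ↑(TopCat.Presheaf.stalk F.presheaf x) := IsScalarTower.of_algebraMap_smul fun _ _ => rfl
  show Module.length (Y.presheaf.stalk (f x)) ↑(TopCat.Presheaf.stalk F.presheaf x) = _
  rw [length_eq_mul_residue (R := Y.presheaf.stalk (f x)) hfl]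
  congr 1
  letI := (f.residueFieldMap x).hom.toAlgebra
  haveI : Module.Finite (Y.residueField (f x)) (X.residueField x) := hfin
  letI : Algebra (Y.presheaf.stalk (f x)) (X.residueField x) :=
    (inferInstance : Algebra (Y.presheaf.stalk (f x)) (IsLocalRing.ResidueField (X.presheaf.stalk x)))
  letI : Algebra (Y.presheaf.stalk (f x)) (Y.residueField (f x)) := (Y.residue (f x)).hom.toAlgebra
  haveI : IsScalarTower (Y.presheaf.stalk (f x)) (Y.residueField (f x)) (X.residueField x) := by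
    refine IsScalarTower.of_algebraMap_eq fun r => ?_
    show X.residue x (baseHom f rfl r) = f.residueFieldMap x (Y.residue (f x) r)
    have h : Y.presheaf.stalkSpecializes (specializes_rfl : f x ⤳ f x) ≫ f.stalkMap x ≫ X.residue x =
        Y.residue (f x) ≫ f.residueFieldMap x := by
      rw [TopCat.Presheaf.stalkSpecializes_refl, Category.id_comp, Scheme.residue_residueFieldMap]
    exact ConcreteCategory.congr_hom h r
  show Module.length (Y.presheaf.stalk (f x)) (X.residueField x) = _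
  rw [Module.length_eq_of_surjective (S := Y.presheaf.stalk (f x)) (R := Y.residueField (f x))
    (Scheme.residue_surjective Y (f x)), Module.length_eq_finrank]
  rfl

theorem exists_lift [IsProper f] {S : Set X} (hS : IsClosed S)
    (hsupp : ∀ p : X, p ∉ S → Subsingleton ↑(TopCat.Presheaf.stalk F.presheaf p))
    (hx : f x = y) (hfib : ∀ z ∈ S, f z = y → x ⤳ z → z = x)
    {U : X.Opens} (hxU : x ∈ U) (hU : (U : Set X) ∩ S ⊆ closure {x}) (s : Γ(F, U)) :
    ∃ (W : Y.Opens) (hW : y ∈ W) (g : Γ(F, f ⁻¹ᵁ W)),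
      germM F (f ⁻¹ᵁ W) x (show f x ∈ W from hx ▸ hW) g = germM F U x hxU s ∧
      ∀ (p : X) (hp : p ∈ f ⁻¹ᵁ W), f p = y → p ≠ x → germM F (f ⁻¹ᵁ W) p hp g = 0 := by
  set K := closure ((U : Set X) ∩ S) with hK
  let W : Y.Opens := ⟨(f '' (K ∩ (U : Set X)ᶜ))ᶜ,
    (f.isClosedMap _ (isClosed_closure.inter U.2.isClosed_compl)).isOpen_compl⟩
  have hKS : ∀ z ∈ K, f z = y → z = x := fun z hz hfz =>
    hfib z (hS.closure_subset_iff.2 Set.inter_subset_right hz) hfz
      (specializes_iff_mem_closure.2 (closure_minimal hU isClosed_closure hz))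
  have hW : y ∈ W := by
    rintro ⟨z, ⟨hzK, hzU⟩, hfz⟩
    exact hzU (hKS z hzK hfz ▸ hxU)
  have hxW : x ∈ f ⁻¹ᵁ W := show f x ∈ W from hx ▸ hW
  let V : X.Opens := ⟨Kᶜ, isClosed_closure.isOpen_compl⟩
  let O : Bool → X.Opens := fun b => f ⁻¹ᵁ W ⊓ (if b then U else V)
  let sf : ∀ b, Γ(F, O b) := fun b =>
    match b with
    | true => F.presheaf.map (homOfLE (inf_le_right : f ⁻¹ᵁ W ⊓ U ≤ U)).op s
    | false => 0
  have hdis : ∀ p : X, p ∈ U → p ∈ V → Subsingleton ↑(TopCat.Presheaf.stalk F.presheaf p) :=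
    fun p hpU hpV => hsupp p fun hpS => hpV (subset_closure ⟨hpU, hpS⟩)
  obtain ⟨g, hg, -⟩ := TopCat.Sheaf.existsUnique_gluing' ⟨F.presheaf, F.isSheaf⟩ O (f ⁻¹ᵁ W)
    (fun b => homOfLE inf_le_left) (fun p hp => by
      by_cases hpU : p ∈ U
      · exact Opens.mem_iSup.2 ⟨true, hp, hpU⟩
      · exact Opens.mem_iSup.2 ⟨false, hp, fun hpK => hp ⟨p, ⟨hpK, hpU⟩, rfl⟩⟩) sf
    (by
      intro a b
      cases a <;> cases b
      · rfl
      · refine TopCat.Presheaf.section_ext ⟨F.presheaf, F.isSheaf⟩ _ _ _ fun p hp => ?_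
        exact @Subsingleton.elim _ (hdis p hp.2.2 hp.1.2) _ _
      · refine TopCat.Presheaf.section_ext ⟨F.presheaf, F.isSheaf⟩ _ _ _ fun p hp => ?_
        exact @Subsingleton.elim _ (hdis p hp.1.2 hp.2.2) _ _
      · rfl)
  refine ⟨W, hW, g, ?_, fun p hp hfp hne => ?_⟩
  · have e : F.presheaf.map (homOfLE (inf_le_left : O true ≤ f ⁻¹ᵁ W)).op g = sf true := hg true
    unfold germM
    rw [← F.presheaf.germ_res_apply (homOfLE (inf_le_left : O true ≤ f ⁻¹ᵁ W)) x ⟨hxW, hxU⟩ g, e]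
    exact F.presheaf.germ_res_apply _ x _ s
  · have hpO : p ∈ O false := ⟨hp, fun hpK => hne (hKS p hpK hfp)⟩
    have e : F.presheaf.map (homOfLE (inf_le_left : O false ≤ f ⁻¹ᵁ W)).op g = sf false := hg false
    unfold germM
    rw [← F.presheaf.germ_res_apply (homOfLE (inf_le_left : O false ≤ f ⁻¹ᵁ W)) p hpO g, e]
    exact map_zero (F.presheaf.germ (O false) p hpO).hom

variable (y) in
theorem length_push [IsProper f] [IsLocallyNoetherian X] {S : Set X} (hS : IsClosed S)
    (hsupp : ∀ p : X, p ∉ S → Subsingleton ↑(TopCat.Presheaf.stalk F.presheaf p))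
    (hmax : ∀ x ∈ S, f x = y → ∀ z ∈ S, z ⤳ x → z = x)
    (hfl : ∀ x ∈ S, f x = y → IsFiniteLength (X.presheaf.stalk x) ↑(TopCat.Presheaf.stalk F.presheaf x))
    (hfin : ∀ x ∈ S, f x = y → (f.residueFieldMap x).hom.Finite) :
    ∃ T : Finset X, (∀ x, x ∈ T ↔ x ∈ S ∧ f x = y) ∧
      Module.length (Y.presheaf.stalk y) ↑(TopCat.Presheaf.stalk ((Coh.push f).obj F).presheaf y) =
        ∑ x ∈ T, Module.length (X.presheaf.stalk x) ↑(TopCat.Presheaf.stalk F.presheaf x) *
          (f.residueDegree x : ℕ∞) := by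
  classical
  have hOx : ∀ x : {x : X // x ∈ S ∧ f x = y}, ∃ U : X.Opens, x.1 ∈ U ∧ (U : Set X) ∩ S ⊆ closure {x.1} :=
    fun x => exists_open_inter_subset_closure hS (hmax x.1 x.2.1 x.2.2)
  choose U hxU hU using hOx
  have hcpt : IsCompact {x : X | x ∈ S ∧ f x = y} :=
    (f.isCompact_preimage_singleton y).inter_left hS
  obtain ⟨t, ht⟩ := hcpt.elim_finite_subcover (fun x => (U x : Set X)) (fun x => (U x).2)
    fun z hz => Set.mem_iUnion.2 ⟨⟨z, hz⟩, hxU _⟩
  let T : Finset X := t.image Subtype.val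
  have hT : ∀ x, x ∈ T ↔ x ∈ S ∧ f x = y := by
    intro x
    simp only [T, Finset.mem_image]
    refine ⟨?_, fun hx => ?_⟩
    · rintro ⟨z, -, rfl⟩
      exact z.2
    · obtain ⟨z, hz, hxz⟩ := Set.mem_iUnion₂.1 (ht hx)
      exact ⟨z, hz, hmax x hx.1 hx.2 z.1 z.2.1 (specializes_iff_mem_closure.2 (hU z ⟨hxz, hx.1⟩))⟩
  refine ⟨T, hT, ?_⟩
  have hfx : ∀ x : T, f x.1 = y := fun x => ((hT x.1).1 x.2).2
  letI : ∀ x : T, Module (Y.presheaf.stalk y) ↑(TopCat.Presheaf.stalk F.presheaf x.1) := fun x =>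
    Module.compHom _ (baseHom f (hfx x))
  let Φ : ↑(TopCat.Presheaf.stalk ((Coh.push f).obj F).presheaf y) →ₗ[Y.presheaf.stalk y]
      ((x : T) → ↑(TopCat.Presheaf.stalk F.presheaf x.1)) :=
    LinearMap.pi fun x =>
      { toFun := toFibre f F (hfx x)
        map_add' := map_add _
        map_smul' := fun r a => toFibre_smul f F (hfx x) r a }
  have hinj : Function.Injective Φ := by
    refine (injective_iff_map_eq_zero Φ).2 fun a ha => ?_
    obtain ⟨W, hW, s, rfl⟩ := exists_germM_eq _ y a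
    let Z : Set X := {p | ∀ hp : p ∈ f ⁻¹ᵁ W, germM F (f ⁻¹ᵁ W) p hp s ≠ 0}
    have hZ : IsClosed Z := by
      refine isOpen_compl_iff.1 (isOpen_iff_forall_mem_open.2 fun p hp => ?_)
      simp only [Z, Set.mem_compl_iff, Set.mem_setOf_eq, not_forall, not_not] at hp
      obtain ⟨hpW, h0⟩ := hp
      obtain ⟨N, hpN, i₁, _i₂, e⟩ := F.presheaf.germ_eq p hpW hpW s 0
        (h0.trans (map_zero (F.presheaf.germ (f ⁻¹ᵁ W) p hpW).hom).symm)
      refine ⟨N, fun q hq hqZ => hqZ (i₁.le hq) ?_, N.2, hpN⟩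
      unfold germM
      rw [← F.presheaf.germ_res_apply i₁ q hq s]
      refine Eq.trans (congrArg _ ?_) (map_zero (F.presheaf.germ N q hq).hom)
      exact e.trans (map_zero _)
    let W' : Y.Opens := W ⊓ ⟨(f '' Z)ᶜ, (f.isClosedMap _ hZ).isOpen_compl⟩
    have hW' : y ∈ W' := by
      refine ⟨hW, ?_⟩
      rintro ⟨p, hp, hfp⟩
      have hpW : p ∈ f ⁻¹ᵁ W := show f p ∈ W from hfp ▸ hW
      refine hp hpW ?_
      by_cases hpS : p ∈ S
      · have h1 := congr_fun ha ⟨p, (hT p).2 ⟨hpS, hfp⟩⟩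
        rw [← toFibre_germ f F hfp hW hpW]
        exact h1
      · exact @Subsingleton.elim _ (hsupp p hpS) _ _
    have hz : F.presheaf.map (homOfLE (f.preimage_mono (inf_le_left : W' ≤ W))).op s = 0 := by
      refine germ_ext_zero F _ _ fun p hp => ?_
      unfold germM
      rw [F.presheaf.germ_res_apply]
      have hpZ : p ∉ Z := fun hpZ => hp.2 ⟨p, hpZ, rfl⟩
      simp only [Z, Set.mem_setOf_eq, not_forall, not_not] at hpZ
      exact hpZ.2
    unfold germM
    rw [← ((Coh.push f).obj F).presheaf.germ_res_apply (homOfLE (inf_le_left : W' ≤ W)) y hW' s]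
    refine Eq.trans (congrArg _ ?_) (map_zero (((Coh.push f).obj F).presheaf.germ W' y hW').hom)
    exact hz
  have hsurj : Function.Surjective Φ := by
    intro v
    have hl : ∀ x : T, ∃ a, Φ a = Pi.single x (v x) := by
      intro x
      obtain ⟨hxS, hfxy⟩ := (hT x.1).1 x.2
      obtain ⟨U₁, hxU₁, s, hs⟩ := exists_germM_eq F x.1 (v x)
      obtain ⟨U₀, hxU₀, hU₀⟩ := exists_open_inter_subset_closure hS (hmax x.1 hxS hfxy)
      obtain ⟨W, hW, g, hg, hg0⟩ := exists_lift f F hS hsupp hfxy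
        (fun z hzS hfz hsp => (hmax z hzS hfz x.1 hxS hsp).symm)
        (U := U₁ ⊓ U₀) ⟨hxU₁, hxU₀⟩ ((Set.inter_subset_inter_left _ inf_le_right).trans hU₀)
        (F.presheaf.map (homOfLE inf_le_left).op s)
      refine ⟨germM ((Coh.push f).obj F) W y hW g, funext fun z => ?_⟩
      show toFibre f F (hfx z) (germM ((Coh.push f).obj F) W y hW g) = _
      have hzW : z.1 ∈ f ⁻¹ᵁ W := show f z.1 ∈ W from (hfx z).symm ▸ hW
      rw [toFibre_germ f F (hfx z) hW hzW]
      by_cases hzx : z = x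
      · subst hzx
        rw [Pi.single_eq_same, ← hs]
        exact hg.trans (F.presheaf.germ_res_apply _ _ _ _)
      · rw [Pi.single_eq_of_ne hzx]
        exact hg0 z.1 hzW (hfx z) fun h => hzx (Subtype.ext h)
    choose a ha using hl
    exact ⟨∑ x, a x, by rw [map_sum, Finset.sum_congr rfl fun x _ => ha x, Finset.univ_sum_single]⟩
  rw [(LinearEquiv.ofBijective Φ ⟨hinj, hsurj⟩).length_eq, Module.length_pi_of_fintype]
  refine Eq.trans ?_ (Finset.sum_coe_sort T fun x =>
    Module.length (X.presheaf.stalk x) ↑(TopCat.Presheaf.stalk F.presheaf x) * (f.residueDegree x : ℕ∞))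
  exact Finset.sum_congr rfl fun x _ =>
    length_toFibre f F (hfx x) (hfl x.1 ((hT x.1).1 x.2).1 (hfx x)) (hfin x.1 ((hT x.1).1 x.2).1 (hfx x))

/-- Let f : X → Y be proper and F a coherent O_X-module whose support has δ-dimension ≤ k. Then f_*[F]_k
= [f_*F]_k: for any cycle α on X with the coefficients of [F]_k, the pushforward f_*α has the
coefficients of [f_*F]_k. A pair (X, δ) with Cyc.IsSetup plays the role of a scheme locally of
finite type over a fixed base with a dimension function (X locally Noetherian with universally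
catenary local rings, δ a dimension function), and Cyc.DeltaCompat records that the dimension
function upstairs is the induced one. -/
theorem result (X Y : Scheme.{u}) (δX : X → ℤ) (δY : Y → ℤ) (hX : Cyc.IsSetup X δX) (hY : Cyc.IsSetup Y δY) (f : X ⟶ Y) [IsProper f] (hδ : Cyc.DeltaCompat f δX δY) (k : ℤ) (F : X.Modules) (hF : Coh.IsCoh F) (hdim : ∀ x : X, Nontrivial (F.presheaf.stalk x) → δX x ≤ k) (α : AlgebraicCycle X ℤ) (hα : ⇑α = Cyc.sheafFun δX k F) : ⇑(AlgebraicCycle.map f δX δY α) = Cyc.sheafFun δY k ((Coh.push f).obj F) := by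
  classical
  haveI := hX.1
  haveI : F.IsQuasicoherent := hF.1
  funext y
  let S : Set X := {p | Nontrivial ↑(TopCat.Presheaf.stalk F.presheaf p)}
  have hmax : ∀ x ∈ S, δX x = k → ∀ z ∈ S, z ⤳ x → z = x := fun x _ hxk z hz h =>
    CycLib.eq_of_specializes hX.2.2 h (by rw [hxk]; exact hdim z hz)
  have hαx : ∀ x, α x = Cyc.sheafFun δX k F x := fun x => congrFun hα x
  have hne : ∀ x, α x ≠ 0 → δX x = k ∧ x ∈ S := by
    intro x hx
    rw [hαx, Cyc.sheafFun] at hx
    split_ifs at hx with h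
    · refine ⟨h, ?_⟩
      by_contra hn
      haveI := not_nontrivial_iff_subsingleton.1 hn
      exact hx (by rw [Module.length_eq_zero]; rfl)
    · exact absurd rfl hx
  by_cases hy : δY y = k
  · have heq : ∀ x ∈ S, f x = y → δX x = k := fun x hxS hfx =>
      le_antisymm (hdim x hxS) (by rw [← hy, ← hfx]; exact CycLib.le_delta f hδ x)
    have hlen : ∀ x ∈ S, f x = y →
        Module.length (X.presheaf.stalk x) ↑(TopCat.Presheaf.stalk F.presheaf x) ≠ ⊤ := fun x hxS hfx =>
      (CycLib.length_stalk_lt_top F hF x fun z hz h => hmax x hxS (heq x hxS hfx) z hz h).ne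
    obtain ⟨T, hT, hl⟩ := length_push f F y (CycLib.isClosed_support F hF)
      (fun p hp => not_nontrivial_iff_subsingleton.1 hp)
      (fun x hxS hfx => hmax x hxS (heq x hxS hfx))
      (fun x hxS hfx => Module.length_ne_top_iff.1 (hlen x hxS hfx))
      (fun x hxS hfx => CycLib.residueFieldMap_finite_of_delta_eq f hδ x (by rw [heq x hxS hfx, hfx, hy]))
    rw [CycLib.map_apply_eq_sum f δX δY α y T fun x hx h => (hT x).2 ⟨(hne x h).2, hx⟩,
      Finset.filter_true_of_mem fun x hx => ((hT x).1 hx).2, Cyc.sheafFun, if_pos hy, hl]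
    have hlt : ∀ x ∈ T, Module.length (X.presheaf.stalk x) ↑(TopCat.Presheaf.stalk F.presheaf x) *
        (f.residueDegree x : ℕ∞) ≠ ⊤ := fun x hx =>
      WithTop.mul_ne_top (hlen x ((hT x).1 hx).1 ((hT x).1 hx).2) (ENat.coe_ne_top _)
    rw [ENat.toNat_sum hlt, Nat.cast_sum]
    refine Finset.sum_congr rfl fun x hx => ?_
    obtain ⟨hxS, hfx⟩ := (hT x).1 hx
    rw [hαx, Cyc.sheafFun, if_pos (heq x hxS hfx), AlgebraicCycle.mapCoeff,
      if_pos (show δX x = δY (f x) by rw [heq x hxS hfx, hfx, hy]), ENat.toNat_mul, ENat.toNat_coe,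
      Nat.cast_mul]
  · rw [Cyc.sheafFun, if_neg hy]
    have hs := CycLib.finite_fibre_support f α y
    rw [CycLib.map_apply_eq_sum f δX δY α y hs.toFinset fun x hx h => hs.mem_toFinset.2 ⟨hx, h⟩]
    refine Finset.sum_eq_zero fun x hx => ?_
    obtain ⟨hx, hfx⟩ := Finset.mem_filter.1 hx
    rw [AlgebraicCycle.mapCoeff]
    split_ifs with h
    · exact absurd (by rw [← hfx]; exact h.symm.trans (hne x (hs.mem_toFinset.1 hx).2).1) hy
    · simp

end Groth.Agent.S1898
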