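import Groth.Statements.S5443
import Groth.Agent.GrpScheme.RegularRep
import Groth.Agent.Comod.Basic
import Groth.Agent.S7984
import Groth.Agent.RedSub.Basic
import Mathlib.AlgebraicGeometry.Group.Affine
import Mathlib.AlgebraicGeometry.QuasiAffine

set_option autoImplicit false
universe u
open TensorProduct CategoryTheory MonoidalCategory CartesianMonoidalCategory MonObj GrpObj AlgebraicGeometry
open SGA3x

namespace Groth.Agent.S5443

open CategoryTheory.Limits TopologicalSpace Groth.Agent.GrpScheme Groth.Agent.GrpScheme.RegularRep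
open scoped TensorProduct
attribute [local instance] Groth.Agent.SekLib.secAlgebra
set_option backward.isDefEq.respectTransparency false

variable {k : Type u} [Field k] (A : Type u) [CommRing A] [HopfAlgebra k A]

/-- The group of a Hopf algebra. -/
noncomputable abbrev grp : Over (Spec (CommRingCat.of k)) :=
  (Spec (CommRingCat.of A)).asOver (Spec (CommRingCat.of k))

/-- Coordinates as functions. -/
noncomputable def coord : A →ₐ[k] Γ((grp (k := k) A).left, ⊤) where
  __ := (Scheme.ΓSpecIso (CommRingCat.of A)).inv.hom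
  commutes' r := by
    show (CommRingCat.ofHom (algebraMap k A) ≫ (Scheme.ΓSpecIso (CommRingCat.of A)).inv).hom r = _
    rw [Scheme.ΓSpecIso_inv_naturality]
    rfl

lemma coord_bijective : Function.Bijective (coord (k := k) A) :=
  ConcreteCategory.bijective_of_isIso (Scheme.ΓSpecIso (CommRingCat.of A)).inv

lemma pull_mul (h : A) :
    pull μ[grp (k := k) A] (coord A h) = prodMap (grp (k := k) A) (grp A)
      (Algebra.TensorProduct.map (coord A) (coord A) (CoalgebraStruct.comul (R := k) h)) := by
  let P : CommRingCat.of (A ⊗[k] A) ⟶ Γ((grp (k := k) A ⊗ grp A).left, ⊤) :=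
    (Scheme.ΓSpecIso (CommRingCat.of (A ⊗[k] A))).inv ≫ (pullbackSpecIso k A A).hom.appTop
  have h1 : pull μ[grp (k := k) A] (coord A h) = P.hom (CoalgebraStruct.comul (R := k) h) := by
    show ((Scheme.ΓSpecIso (CommRingCat.of A)).inv ≫ μ[grp (k := k) A].left.appTop).hom h = _
    rw [mul_spec_asOver_spec_left, Scheme.Hom.comp_appTop, ← Category.assoc,
      ← Scheme.ΓSpecIso_inv_naturality]
    rfl
  have hl : ∀ a : A, P.hom (a ⊗ₜ 1) = pull (fst (grp (k := k) A) (grp A)) (coord A a) := fun a => by
    show ((CommRingCat.ofHom Algebra.TensorProduct.includeLeftRingHom) ≫ P).hom a = _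
    simp only [P, ← Category.assoc, Scheme.ΓSpecIso_inv_naturality]
    rw [Category.assoc, ← Scheme.Hom.comp_appTop, pullbackSpecIso_hom_fst]
    rfl
  have hr : ∀ a : A, P.hom ((1 : A) ⊗ₜ a) = pull (snd (grp (k := k) A) (grp A)) (coord A a) := fun a => by
    show ((CommRingCat.ofHom (R := A) (S := A ⊗[k] A)
      (Algebra.TensorProduct.includeRight : A →ₐ[k] A ⊗[k] A).toRingHom) ≫ P).hom a = _
    simp only [P, ← Category.assoc, Scheme.ΓSpecIso_inv_naturality]
    rw [Category.assoc, ← Scheme.Hom.comp_appTop]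
    erw [pullbackSpecIso_hom_snd]
    rfl
  rw [h1]
  generalize CoalgebraStruct.comul (R := k) h = z
  induction z using TensorProduct.induction_on with
  | zero => rw [map_zero P.hom, map_zero, map_zero]
  | tmul a b =>
    rw [Algebra.TensorProduct.map_tmul, prodMap_tmul, ← hl, ← hr, ← map_mul,
      Algebra.TensorProduct.tmul_mul_tmul, _root_.mul_one, _root_.one_mul]
  | add y y' hy hy' =>
    rw [map_add P.hom, map_add, map_add, hy, hy']

lemma pull_lift_prodMap {G X T : Over (Spec (CommRingCat.of k))} (p : T ⟶ G) (q : T ⟶ X)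
    (a : Γ(G.left, ⊤)) (f : Γ(X.left, ⊤)) :
    pull (lift p q) (prodMap G X (a ⊗ₜ f)) = pull p a * pull q f := by
  rw [prodMap_tmul, map_mul, pull_pull, pull_pull, lift_fst, lift_snd]

lemma pull_whisker_prodMap {G X Y : Over (Spec (CommRingCat.of k))} (c : Y ⟶ X)
    (z : Γ(G.left, ⊤) ⊗[k] Γ(X.left, ⊤)) :
    pull (G ◁ c) (prodMap G X z) = prodMap G Y ((pull c).toLinearMap.lTensor _ z) := by
  induction z using TensorProduct.induction_on with
  | zero => rw [map_zero, map_zero, map_zero, map_zero]
  | tmul a f =>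
    rw [LinearMap.lTensor_tmul, prodMap_tmul, prodMap_tmul, map_mul, pull_pull, pull_pull, whiskerLeft_fst,
      whiskerLeft_snd, ← pull_pull (snd G Y) c]
    rfl
  | add y y' hy hy' => rw [map_add, map_add, map_add, map_add, hy, hy']

lemma not_mem_basicOpen_of_pull_eq_zero {X Y : Over (Spec (CommRingCat.of k))} (g : Y ⟶ X)
    (f : Γ(X.left, ⊤)) (hf : pull g f = 0) (y : Y.left) : g.left y ∉ X.left.basicOpen f := by
  intro h
  have h1 : y ∈ g.left ⁻¹ᵁ X.left.basicOpen f := h
  rw [Scheme.preimage_basicOpen_top] at h1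
  rw [show g.left.appTop f = pull g f from rfl, hf, Scheme.basicOpen_zero] at h1
  exact h1

lemma isLeftUnit_of_fixed (v : A) (hv : CoalgebraStruct.comul (R := k) v = v ⊗ₜ[k] (1 : A)) :
    v = CoalgebraStruct.counit (R := k) v • (1 : A) := by
  have h := Coalgebra.rTensor_counit_comul (R := k) v
  rw [hv, LinearMap.rTensor_tmul] at h
  have := congrArg (TensorProduct.lid k A) h
  simpa using this.symm

/-- Let k be a field, A a finitely generated commutative Hopf algebra over k which is unipotent in the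
fixed-vector sense (a unipotent algebraic group U = Spec A), X a k-scheme of finite type which is
quasi-affine, with an action of U, and x a k-rational point of X. Then the orbit of x — the
set-theoretic image of U under the orbit map g ↦ g · x — is closed in X. (The published statement
does not ask X to be of finite type over k; this row does.) -/
theorem result (k : Type u) [Field k] (A : Type u) [CommRing A] [HopfAlgebra k A] [Algebra.FiniteType k A]
    (hU : HopfRep.IsUnipotent k A) (X : Over (Spec (CommRingCat.of k))) [LocallyOfFiniteType X.hom]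
    (hX : Mor2.IsQuasiAffine X.hom)
    (a : AlgGrp.Action ((Spec (CommRingCat.of A)).asOver (Spec (CommRingCat.of k))) X)
    (x : 𝟙_ (Over (Spec (CommRingCat.of k))) ⟶ X) :
    IsClosed (Set.range (a.orbitMap x).left.base) := by
  classical
  let G := grp (k := k) A
  haveI hA : IsAffine G.left := inferInstanceAs (IsAffine (Spec (CommRingCat.of A)))
  haveI : LocallyOfFiniteType G.hom := by
    show LocallyOfFiniteType (Spec.map (CommRingCat.ofHom (algebraMap k A)))
    rw [HasRingHomProperty.Spec_iff (P := @LocallyOfFiniteType)]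
    exact RingHom.finiteType_algebraMap.mpr ‹_›
  haveI : IsAffineHom G.hom := inferInstance
  haveI : QuasiCompact X.hom := hX.1
  haveI : CompactSpace X.left := QuasiCompact.compactSpace_of_compactSpace X.hom
  haveI : X.left.IsQuasiAffine := by
    have h' := hX.2 ⊤ (isAffineOpen_top _)
    haveI : ((⊤ : X.left.Opens) : Scheme.{u}).IsQuasiAffine := h'
    exact Scheme.IsQuasiAffine.of_isImmersion X.left.topIso.inv
  haveI : IsSeparated X.hom := by
    haveI : IsSeparated (X.hom ≫ terminal.from _) := by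
      rw [terminal.comp_from]; infer_instance
    exact IsSeparated.of_comp X.hom (terminal.from _)
  let o : G ⟶ X := a.orbitMap x
  let O : Set X.left := Set.range o.left
  have hlc : IsLocallyClosed O := S7984.isLocallyClosed_orbit a x
  have hstab : ∀ r : (G ⊗ X).left, (snd G X).left r ∈ O → a.act.left r ∈ O := by
    intro r hr
    refine S7984.smul_mem_range a x (Points.pointHom (G ⊗ X) r ≫ fst G X)
      (Points.pointHom (G ⊗ X) r ≫ snd G X) (fun s => ?_) _ (fun s => ?_)
    · rw [Points.comp_apply, Points.pointHom_apply]; exact hr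
    · rw [Basic.smul, ← comp_lift, lift_fst_snd, Category.comp_id, Points.comp_apply, Points.pointHom_apply]
  have hstab' : ∀ r : (G ⊗ X).left, a.act.left r ∈ O → (snd G X).left r ∈ O := by
    intro r hr
    refine S7984.smul_mem_range a x (Points.pointHom (G ⊗ X) r ≫ fst G X)⁻¹
      (Points.pointHom (G ⊗ X) r ≫ a.act) (fun s => ?_) _ (fun s => ?_)
    · rw [Points.comp_apply, Points.pointHom_apply]; exact hr
    · have e : Basic.smul a (Points.pointHom (G ⊗ X) r ≫ fst G X)⁻¹ (Points.pointHom (G ⊗ X) r ≫ a.act) =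
          Points.pointHom (G ⊗ X) r ≫ snd G X := by
        rw [show Points.pointHom (G ⊗ X) r ≫ a.act = Basic.smul a (Points.pointHom (G ⊗ X) r ≫ fst G X)
          (Points.pointHom (G ⊗ X) r ≫ snd G X) by
            rw [Basic.smul, ← comp_lift, lift_fst_snd, Category.comp_id], Basic.inv_smul_smul']
      rw [e, Points.comp_apply, Points.pointHom_apply]
  obtain ⟨W, Z, hW, hZ, hOWZ⟩ := hlc
  let Dset : Closeds X.left := ⟨closure O ∩ Wᶜ, isClosed_closure.inter hW.isClosed_compl⟩
  have hD : (Dset : Set X.left) = closure O \ O := by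
    show closure O ∩ Wᶜ = _
    ext z
    constructor
    · rintro ⟨h1, h2⟩
      exact ⟨h1, fun h => h2 (hOWZ ▸ h).1⟩
    · rintro ⟨h1, h2⟩
      refine ⟨h1, fun h => h2 ?_⟩
      rw [hOWZ]
      exact ⟨h, closure_minimal (hOWZ ▸ Set.inter_subset_right) hZ h1⟩
  change IsClosed O
  by_contra hne
  obtain ⟨y₀, hy₀, hy₀'⟩ : ∃ y, y ∈ closure O ∧ y ∉ O := by
    by_contra h
    push_neg at h
    exact hne (closure_subset_iff_isClosed.mp h)
  -- the boundary
  let D : Over (Spec (CommRingCat.of k)) :=
    Over.mk ((Scheme.IdealSheafData.vanishingIdeal Dset).subschemeι ≫ X.hom)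
  let δ : D ⟶ X := Over.homMk (Scheme.IdealSheafData.vanishingIdeal Dset).subschemeι rfl
  haveI : IsClosedImmersion δ.left :=
    inferInstanceAs (IsClosedImmersion (Scheme.IdealSheafData.vanishingIdeal Dset).subschemeι)
  have hδ : Set.range δ.left = (Dset : Set X.left) := RedSub.range_vanishingIdeal_subschemeι Dset
  haveI : QuasiCompact D.hom :=
    inferInstanceAs (QuasiCompact ((Scheme.IdealSheafData.vanishingIdeal Dset).subschemeι ≫ X.hom))
  haveI : IsSeparated D.hom :=
    inferInstanceAs (IsSeparated ((Scheme.IdealSheafData.vanishingIdeal Dset).subschemeι ≫ X.hom))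
  haveI : CompactSpace D.left := QuasiCompact.compactSpace_of_compactSpace D.hom
  haveI : QuasiCompact (G ⊗ D).hom := inferInstanceAs (QuasiCompact (pullback.fst G.hom D.hom ≫ G.hom))
  haveI : CompactSpace (G ⊗ D).left := QuasiCompact.compactSpace_of_compactSpace (G ⊗ D).hom
  haveI : QuasiSeparated (G ⊗ D).hom := inferInstanceAs (QuasiSeparated (pullback.fst G.hom D.hom ≫ G.hom))
  let c : G ⊗ D ⟶ X := (G ◁ δ) ≫ a.act
  have hsndO : IsOpenMap (snd G X).left :=
    have : UniversallyOpen (snd G X).left := Basic.snd_left_mem @UniversallyOpen inferInstance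
    Scheme.Hom.isOpenMap _
  have hcD : ∀ r, c.left r ∈ (Dset : Set X.left) := by
    intro r
    rw [Points.comp_apply]
    have h0 : (snd G X).left ((G ◁ δ).left r) ∈ (Dset : Set X.left) := by
      rw [← Points.comp_apply, whiskerLeft_snd, Points.comp_apply, ← hδ]
      exact ⟨_, rfl⟩
    generalize (G ◁ δ).left r = q at h0 ⊢
    rw [hD] at h0 ⊢
    refine ⟨?_, fun h => h0.2 (hstab' q h)⟩
    have hq : q ∈ closure ((snd G X).left ⁻¹' O) := by
      rw [← hsndO.preimage_closure_eq_closure_preimage (snd G X).left.continuous]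
      exact h0.1
    have himg : a.act.left '' ((snd G X).left ⁻¹' O) ⊆ O := by
      rintro _ ⟨r, hr, rfl⟩
      exact hstab r hr
    exact closure_mono himg (image_closure_subset_closure_image a.act.left.continuous ⟨q, hq, rfl⟩)
  -- a function vanishing on the boundary
  let x₀ : X.left := x.left (IsLocalRing.closedPoint k)
  have hx₀ : x₀ ∈ O := by
    refine ⟨η[G].left (IsLocalRing.closedPoint k), ?_⟩
    rw [← Points.comp_apply]
    have : η[G] ≫ o = x := by
      have e1 : η[G] = (1 : 𝟙_ _ ⟶ G) := by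
        rw [Hom.one_def, toUnit_unique (toUnit (𝟙_ _)) (𝟙 _), Category.id_comp]
      rw [e1]
      simp only [o]
      rw [S7984.orbit_apply, toUnit_unique (toUnit (𝟙_ _)) (𝟙 _), Category.id_comp]
      exact Basic.one_smul' a x
    rw [this]
  obtain ⟨_, ⟨_, ⟨f, -, rfl⟩, rfl⟩, hxf, hfsub⟩ :=
    (Scheme.IsQuasiAffine.isBasis_basicOpen X.left).exists_subset_of_mem_open
      (a := x₀) (show x₀ ∈ ((Dset : Set X.left))ᶜ from fun h => (hD ▸ h).2 hx₀) Dset.2.isOpen_compl
  obtain ⟨N, hN⟩ : IsNilpotent (pull c f) := by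
    rw [Scheme.isNilpotent_iff_basicOpen_eq_bot, pull_apply, ← Scheme.preimage_basicOpen_top]
    refine le_bot_iff.mp fun r hr => (hfsub hr (hcD r)).elim
  let V : Submodule k Γ(X.left, ⊤) := LinearMap.ker (pull c).toLinearMap
  have hfN : f ^ N ∈ V := by
    show pull c (f ^ N) = 0
    rw [map_pow, hN]
  -- the translated orbit map
  let o' : G ⟶ X := ι[G] ≫ o
  have ho' : μ[G] ≫ o' = lift (snd G G ≫ ι[G]) (fst G G ≫ o') ≫ a.act := by
    show _ = Basic.smul a (snd G G ≫ ι[G]) (fst G G ≫ o')
    rw [show μ[G] ≫ o' = (μ[G] ≫ ι[G]) ≫ o from (Category.assoc _ _ _).symm,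
      show fst G G ≫ o' = (fst G G ≫ ι[G]) ≫ o from (Category.assoc _ _ _).symm]
    simp only [o]
    rw [S7984.orbit_apply, S7984.orbit_apply, ← Basic.mul_smul']
    congr 1
    simp only [GrpObj.inv_eq_inv, GrpObj.comp_inv, Category.comp_id, ← _root_.mul_inv_rev]
    rw [Hom.mul_def, lift_fst_snd, Category.id_comp]
  let jj := AlgEquiv.ofBijective (coord (k := k) A) (coord_bijective A)
  let ev : Γ(X.left, ⊤) →ₗ[k] A := (jj.symm.toAlgHom.comp (pull o')).toLinearMap
  have hev : ∀ g, coord A (ev g) = pull o' g := fun g => jj.apply_symm_apply _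
  let M : Submodule k A := V.map ev
  have hM : HopfRep.IsSubcomod (k := k) (A := A) (V := A) M := by
    rintro _ ⟨g, hg, rfl⟩
    obtain ⟨z, hz⟩ := (bijective_prodMap G X).2 (pull a.act g)
    have hker : (pull c).toLinearMap.lTensor Γ(G.left, ⊤) z = 0 := by
      refine (bijective_prodMap G (G ⊗ D)).1 ?_
      rw [← pull_whisker_prodMap, hz, map_zero, pull_pull]
      have e : (G ◁ c) ≫ a.act = (α_ G G D).inv ≫ (μ[G] ▷ D) ≫ c := by
        rw [← cancel_epi (α_ G G D).hom, Iso.hom_inv_id_assoc]
        simp only [c, MonoidalCategory.whiskerLeft_comp, Category.assoc]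
        rw [← associator_naturality_right_assoc, ← a.mul_act, whisker_exchange_assoc]
      rw [e, ← pull_pull, ← pull_pull, show pull c g = 0 from hg, map_zero, map_zero]
    obtain ⟨z', hz'⟩ := (Module.Flat.lTensor_exact Γ(G.left, ⊤)
      (LinearMap.exact_subtype_ker_map (pull c).toLinearMap) z).mp hker
    let Ψ : Γ(G.left, ⊤) ⊗[k] V →ₗ[k] M ⊗[k] A :=
      (TensorProduct.map ((ev.restrict (fun v hv => Submodule.mem_map_of_mem hv) : V →ₗ[k] M))
        (jj.symm.toAlgHom.comp (pull ι[G])).toLinearMap) ∘ₗ (TensorProduct.comm k _ _).toLinearMap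
    refine ⟨Ψ z', ?_⟩
    have hinj : Function.Injective (fun t : A ⊗[k] A =>
        prodMap G G (Algebra.TensorProduct.map (coord A) (coord A) t)) := by
      refine (bijective_prodMap G G).1.comp ?_
      exact (Algebra.TensorProduct.congr jj jj).injective
    refine hinj ?_
    show prodMap G G _ = prodMap G G (Algebra.TensorProduct.map _ _ (CoalgebraStruct.comul (R := k) (ev g)))
    rw [← pull_mul, hev, pull_pull, ho', ← pull_pull, ← hz, ← hz']
    clear hz hz' hker
    induction z' using TensorProduct.induction_on with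
    | zero => simp only [map_zero]
    | tmul b v =>
      rw [LinearMap.lTensor_tmul, pull_lift_prodMap]
      show prodMap G G (Algebra.TensorProduct.map _ _ ((ev v.1) ⊗ₜ (jj.symm (pull ι[G] b)))) = _
      rw [Algebra.TensorProduct.map_tmul, prodMap_tmul, hev,
        show coord A (jj.symm (pull ι[G] b)) = pull ι[G] b from jj.apply_symm_apply _,
        pull_pull, pull_pull, _root_.mul_comm]
      rfl
    | add y y' hy hy' => simp only [map_add, hy, hy']
  -- a fixed vector
  have hh0 : ev (f ^ N) ≠ 0 := by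
    intro h
    have h1 : pull o' (f ^ N) = 0 := by rw [← hev, h, map_zero]
    have h2 : o'.left (η[G].left (IsLocalRing.closedPoint k)) = x₀ := by
      rw [← Points.comp_apply]
      have : η[G] ≫ o' = x := by
        have e1 : η[G] = (1 : 𝟙_ _ ⟶ G) := by
          rw [Hom.one_def, toUnit_unique (toUnit (𝟙_ _)) (𝟙 _), Category.id_comp]
        rw [e1]
        simp only [o', o, GrpObj.inv_eq_inv, ← Category.assoc, GrpObj.comp_inv, Category.comp_id, inv_one]
        rw [S7984.orbit_apply, toUnit_unique (toUnit (𝟙_ _)) (𝟙 _), Category.id_comp]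
        exact Basic.one_smul' a x
      rw [this]
    refine not_mem_basicOpen_of_pull_eq_zero o' _ h1 (η[G].left (IsLocalRing.closedPoint k)) ?_
    rw [h2, Scheme.mem_basicOpen_top, map_pow]
    exact IsUnit.pow N ((Scheme.mem_basicOpen_top _ f _).mp hxf)
  obtain ⟨U₀, hU₀f, hU₀m, hU₀⟩ := Comod.exists_finite_subcomod (k := k) (A := A) (V := A) {ev (f ^ N)}
  let M₁ : Submodule k A := U₀ ⊓ M
  have hM₁ : HopfRep.IsSubcomod (k := k) (A := A) M₁ := Comod.isSubcomod_inf hU₀ hM
  letI : HopfRep.Comod k A M₁ := ComodSub.Comod.restr (HopfRep.Comod.regular k A) M₁ hM₁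
  haveI : Module.Finite k M₁ :=
    Module.Finite.of_injective (Submodule.inclusion inf_le_left) (Submodule.inclusion_injective _)
  haveI : Nontrivial M₁ := ⟨⟨⟨ev (f ^ N), hU₀m (Finset.mem_singleton_self _), f ^ N, hfN, rfl⟩, 0,
    fun h => hh0 (congrArg Subtype.val h)⟩⟩
  obtain ⟨v, hv, hv0⟩ := (Submodule.ne_bot_iff _).1 (hU M₁ inferInstance inferInstance)
  have hv1 : CoalgebraStruct.comul (R := k) v.1 = v.1 ⊗ₜ[k] (1 : A) := by
    have e := ComodSub.rTensor_subtype_comp_restrCoact (HopfRep.Comod.regular k A) M₁ hM₁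
    have := LinearMap.congr_fun e v
    refine this.symm.trans ?_
    show M₁.subtype.rTensor A (HopfRep.Comod.coact v) = _
    rw [show HopfRep.Comod.coact (k := k) (A := A) v = v ⊗ₜ[k] (1 : A) from hv]
    rfl
  obtain ⟨w, hw, hwv⟩ := v.2.2
  have hcu : CoalgebraStruct.counit (R := k) v.1 ≠ 0 := fun h => hv0 (Subtype.ext (by
    rw [isLeftUnit_of_fixed A v.1 hv1, h, zero_smul]; rfl))
  let w' := (CoalgebraStruct.counit (R := k) v.1)⁻¹ • w
  have hw' : pull o' (w' - 1) = 0 := by
    rw [map_sub, map_one, sub_eq_zero, ← hev]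
    have hc := isLeftUnit_of_fixed A v.1 hv1
    generalize hcdef : CoalgebraStruct.counit (R := k) v.1 = r at hc hcu
    simp only [w', map_smul, hwv, hcdef]
    rw [hc, map_smul, map_one, smul_smul, inv_mul_cancel₀ hcu, one_smul]
  have hwD : pull δ w' = 0 := by
    have e : lift (1 : D ⟶ G) (𝟙 D) ≫ c = δ := by
      simp only [c, lift_whiskerLeft_assoc, Category.id_comp]
      exact Basic.one_smul' a δ
    rw [← e, ← pull_pull, show pull c w' = 0 from V.smul_mem _ hw, map_zero]
  -- conclusion
  have hy1 : y₀ ∉ X.left.basicOpen w' := by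
    obtain ⟨d, hd⟩ : y₀ ∈ Set.range δ.left := by rw [hδ, hD]; exact ⟨hy₀, hy₀'⟩
    exact hd ▸ not_mem_basicOpen_of_pull_eq_zero δ w' hwD d
  have hy2 : y₀ ∉ X.left.basicOpen (w' - 1) := by
    intro h
    obtain ⟨z, hz, g, hg⟩ := mem_closure_iff.mp hy₀ _ (X.left.basicOpen (w' - 1)).2 h
    refine not_mem_basicOpen_of_pull_eq_zero o' _ hw' (ι[G].left g) ?_
    rw [← Points.comp_apply, show ι[G] ≫ o' = o by
      simp only [o', GrpObj.inv_eq_inv, ← Category.assoc, GrpObj.comp_inv, Category.comp_id]
      exact (congrArg (· ≫ o) (_root_.inv_inv (𝟙 G))).trans (Category.id_comp o)]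
    exact hg ▸ hz
  rw [Scheme.mem_basicOpen_top] at hy1 hy2
  have := Ideal.sub_mem (IsLocalRing.maximalIdeal (X.left.presheaf.stalk y₀))
    ((IsLocalRing.mem_maximalIdeal ((X.left.presheaf.germ ⊤ y₀ trivial).hom w')).mpr hy1)
    ((IsLocalRing.mem_maximalIdeal ((X.left.presheaf.germ ⊤ y₀ trivial).hom (w' - 1))).mpr hy2)
  rw [← map_sub, sub_sub_cancel, map_one] at this
  exact Ideal.ne_top_iff_one _ |>.mp (IsLocalRing.maximalIdeal.isMaximal _).ne_top this

end Groth.Agent.S5443
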