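import Groth.Statements.S18982
import Groth.Agent.GITLib.GoodQuot
import Groth.Agent.PRed19.UnipCrit
import Groth.Agent.AffGrp.Bridge
import Groth.Agent.S5443
-- import your own Groth.Agent.* helpers here

set_option autoImplicit false
universe u
open CategoryTheory MonoidalCategory CartesianMonoidalCategory MonObj AlgebraicGeometry Topology
open NRQuot

namespace Groth.Agent.S18982

open CategoryTheory.Limits Groth.Agent.GITLib

variable {k : Type u} [Field k]

local notation "k⋆" => 𝟙_ (Over (Spec (CommRingCat.of k)))

/-- Transport of an action along a homomorphism of groups. -/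
noncomputable def comapAct {G H X : Over (Spec (CommRingCat.of k))} [GrpObj G] [GrpObj H] (e : H ⟶ G)
    [IsMonHom e] (a : AlgGrp.Action G X) : AlgGrp.Action H X where
  act := (e ▷ X) ≫ a.act
  one_act := by rw [← comp_whiskerRight_assoc, IsMonHom.one_hom, a.one_act]
  mul_act := by
    rw [← comp_whiskerRight_assoc, IsMonHom.mul_hom, comp_whiskerRight_assoc, a.mul_act,
      MonoidalCategory.tensorHom_def, comp_whiskerRight_assoc, associator_naturality_middle_assoc,
      associator_naturality_left_assoc]
    simp only [MonoidalCategory.whiskerLeft_comp, Category.assoc]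
    rw [whisker_exchange_assoc, whisker_exchange_assoc]

theorem orbitMap_comapAct {G H X : Over (Spec (CommRingCat.of k))} [GrpObj G] [GrpObj H] (e : H ⟶ G)
    [IsMonHom e] (a : AlgGrp.Action G X) (x : k⋆ ⟶ X) :
    (comapAct e a).orbitMap x = e ≫ a.orbitMap x := by
  simp only [AlgGrp.Action.orbitMap, comapAct]
  rw [lift_whiskerRight_assoc, comp_lift_assoc, Category.id_comp, Category.comp_id,
    ← Category.assoc e, toUnit_unique (e ≫ toUnit G) (toUnit H)]

/-- Action on an invariant closed subobject. -/
noncomputable def restrAct {G X F : Over (Spec (CommRingCat.of k))} [GrpObj G] (a : AlgGrp.Action G X)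
    (jF : F ⟶ X) [Mono jF] (b : G ⊗ F ⟶ F) (hb : b ≫ jF = (G ◁ jF) ≫ a.act) : AlgGrp.Action G F where
  act := b
  one_act := by
    rw [← cancel_mono jF, Category.assoc, hb, ← whisker_exchange_assoc, a.one_act, leftUnitor_naturality]
  mul_act := by
    rw [← cancel_mono jF]
    simp only [Category.assoc, hb]
    rw [← whisker_exchange_assoc, a.mul_act, associator_naturality_right_assoc,
      ← MonoidalCategory.whiskerLeft_comp_assoc, ← MonoidalCategory.whiskerLeft_comp_assoc, hb]

theorem orbit_closed [IsAlgClosed k]
    (G X Y : Over (Spec (CommRingCat.of k))) [GrpObj G] [IsAffine G.left] [LocallyOfFiniteType G.hom]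
    [Smooth G.hom] [ConnectedSpace G.left] (hG : Red.HasNoSubtorus k G)
    [LocallyOfFiniteType X.hom] [LocallyOfFiniteType Y.hom]
    (a : AlgGrp.Action G X) (φ : X ⟶ Y) [IsAffineHom φ.left] (hi : GIT.IsInvariant a φ) (x : k⋆ ⟶ X) :
    IsClosed (Set.range (a.orbitMap x).left.base) := by
  obtain ⟨A, hA, e, he⟩ := AffGrp.Bridge.exists_iso (R := CommRingCat.of k) G
  letI : HopfAlgebra k A := hA
  haveI : IsMonHom e.hom := he
  let S := GrpdLib.AffHomogeneous.specG (k := k) A
  haveI hiso : IsIso e.hom.left := inferInstanceAs (IsIso ((Over.forget _).map e.hom))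
  haveI hsm : Smooth S.hom := by
    show Smooth ((Spec A).asOver (Spec (CommRingCat.of k))).hom
    rw [← Over.w e.hom]; infer_instance
  haveI : Algebra.FiniteType k A := by
    have h' : LocallyOfFiniteType (Spec.map (CommRingCat.ofHom (algebraMap k A))) :=
      (inferInstance : LocallyOfFiniteType S.hom)
    rw [HasRingHomProperty.Spec_iff (P := @LocallyOfFiniteType)] at h'
    exact RingHom.finiteType_algebraMap.1 h'
  haveI : ConnectedSpace ↥(Scheme.forgetToTop.obj ((Over.forget (Spec (CommRingCat.of k))).obj G)) :=
    inferInstanceAs (ConnectedSpace G.left)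
  haveI hcs : ConnectedSpace S.left :=
    (TopCat.homeoOfIso (Scheme.forgetToTop.mapIso ((Over.forget _).mapIso e.symm))).surjective.connectedSpace
      (TopCat.homeoOfIso (Scheme.forgetToTop.mapIso ((Over.forget _).mapIso e.symm))).continuous
  have hno : Red.HasNoSubtorus k S := fun T _ j _ _ hT => hG T (j ≫ e.hom) hT
  have hU : HopfRep.IsUnipotent k A := PRed19.isUnipotent_of_noSubtorus hno
  -- the fibre
  let y : k⋆ ⟶ Y := x ≫ φ
  haveI : IsClosedImmersion y.left :=
    isClosedImmersion_of_comp_eq_id (Y := Spec (CommRingCat.of k)) Y.hom y.left (Over.w y)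
  let F : Over (Spec (CommRingCat.of k)) := Over.mk (pullback.fst φ.left y.left ≫ X.hom)
  let jF : F ⟶ X := Over.homMk (pullback.fst φ.left y.left) rfl
  haveI : IsClosedImmersion jF.left := inferInstanceAs (IsClosedImmersion (pullback.fst φ.left y.left))
  haveI : Mono jF := Over.mono_of_mono_left jF
  haveI : IsAffine F.left := by
    haveI : IsAffine (k⋆).left := inferInstanceAs (IsAffine (Spec (CommRingCat.of k)))
    show IsAffine (pullback φ.left y.left)
    exact isAffine_of_isAffineHom (pullback.snd φ.left y.left)
  haveI : LocallyOfFiniteType F.hom :=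
    inferInstanceAs (LocallyOfFiniteType (pullback.fst φ.left y.left ≫ X.hom))
  haveI : IsAffineHom F.hom := inferInstance
  have hjFφ : jF ≫ φ = toUnit F ≫ y := by
    refine Over.OverMorphism.ext ?_
    show pullback.fst φ.left y.left ≫ φ.left = (toUnit F).left ≫ y.left
    rw [pullback.condition]
    congr 1
    have h1 := Over.w (toUnit F)
    have h2 : pullback.snd φ.left y.left ≫ (k⋆).hom = F.hom := by
      show _ = pullback.fst φ.left y.left ≫ X.hom
      rw [← Over.w φ, pullback.condition_assoc, Over.w y]
    haveI : Mono (k⋆).hom := inferInstanceAs (Mono (𝟙 (Spec (CommRingCat.of k))))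
    exact (cancel_mono (k⋆).hom).1 (h2.trans h1.symm)
  let a' := comapAct e.hom a
  have hi' : a'.act ≫ φ = snd S X ≫ φ := by
    show ((e.hom ▷ X) ≫ a.act) ≫ φ = _
    rw [Category.assoc, hi, whiskerRight_snd_assoc]
    rfl
  have hw : ((S ◁ jF) ≫ a'.act).left ≫ φ.left = (toUnit (S ⊗ F)).left ≫ y.left := by
    have : ((S ◁ jF) ≫ a'.act) ≫ φ = toUnit (S ⊗ F) ≫ y := by
      rw [Category.assoc, hi', whiskerLeft_snd_assoc, hjFφ, ← Category.assoc,
        toUnit_unique (snd S F ≫ toUnit F) (toUnit (S ⊗ F))]
    exact congrArg CommaMorphism.left this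
  let b : S ⊗ F ⟶ F := Over.homMk (pullback.lift _ _ hw) (by
    show pullback.lift _ _ hw ≫ pullback.fst φ.left y.left ≫ X.hom = _
    rw [pullback.lift_fst_assoc]
    exact Over.w _)
  have hb : b ≫ jF = (S ◁ jF) ≫ a'.act := Over.OverMorphism.ext (pullback.lift_fst _ _ _)
  let c := restrAct a' jF b hb
  let xF : k⋆ ⟶ F := Over.homMk (pullback.lift x.left (𝟙 _) (by rw [Category.id_comp]; rfl)) (by
    show pullback.lift _ _ _ ≫ pullback.fst φ.left y.left ≫ X.hom = _
    rw [pullback.lift_fst_assoc]
    exact Over.w x)
  have hxF : xF ≫ jF = x := Over.OverMorphism.ext (pullback.lift_fst _ _ _)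
  have hqa : Mor2.IsQuasiAffine F.hom := by
    refine ⟨inferInstance, fun V hV => ?_⟩
    haveI := hV
    haveI : IsAffine (F.hom ⁻¹ᵁ V).toScheme := hV.preimage F.hom
    infer_instance
  have hcl : IsClosed (Set.range (c.orbitMap xF).left.base) := S5443.result k A hU F hqa c xF
  have horb : c.orbitMap xF ≫ jF = e.hom ≫ a.orbitMap x := by
    rw [← orbitMap_comapAct]
    show (lift (𝟙 S) (toUnit S ≫ xF) ≫ b) ≫ jF = lift (𝟙 S) (toUnit S ≫ x) ≫ a'.act
    rw [Category.assoc, hb, lift_whiskerLeft_assoc, Category.assoc, hxF]
  have hr : Set.range (a.orbitMap x).left.base = jF.left.base '' Set.range (c.orbitMap xF).left.base := by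
    rw [← Set.range_comp]
    have e1 : (c.orbitMap xF).left ≫ jF.left = e.hom.left ≫ (a.orbitMap x).left :=
      congrArg CommaMorphism.left horb
    rw [← TopCat.coe_comp, ← Scheme.Hom.comp_base, e1, Scheme.Hom.comp_base, TopCat.coe_comp,
      Set.range_comp, Set.range_eq_univ.mpr e.hom.left.surjective, Set.image_univ]
  rw [hr]
  exact jF.left.isClosedEmbedding.isClosedMap _ hcl

/-- Fix an algebraically closed field k with characteristic zero. Suppose G is a unipotent group,
meaning an affine, smooth, connected group scheme of finite type over k with no non-trivial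
subtorus, and that G acts on a finite-type k-scheme X. Assume φ : X → Y is a good quotient (φ is
affine and invariant; for each open subset of Y, its functions are precisely the invariant functions
on the preimage; images of invariant closed subsets are closed; and taking images commutes with
intersecting families of invariant closed subsets), where Y is a finite-type k-scheme. Then φ is in
fact a geometric quotient, i.e. its fibres are orbits, which on k-points says: whenever two k-points
of X map to the same point of Y, some k-point of G carries one onto the other. (Unipotence is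
encoded as the absence of a non-trivial subtorus; for smooth connected groups over k the two notions
agree.) -/
theorem result
    (k : Type u) [Field k] [IsAlgClosed k] [CharZero k]
    (G X Y : Over (Spec (CommRingCat.of k))) [GrpObj G] [IsAffine G.left] [LocallyOfFiniteType G.hom]
    [Smooth G.hom] [ConnectedSpace G.left] (hG : Red.HasNoSubtorus k G)
    [LocallyOfFiniteType X.hom] [QuasiCompact X.hom] [LocallyOfFiniteType Y.hom] [QuasiCompact Y.hom]
    (a : AlgGrp.Action G X) (φ : X ⟶ Y) (h : NRQuot.IsGoodQuot a φ)
    (x₁ x₂ : 𝟙_ (Over (Spec (CommRingCat.of k))) ⟶ X) (hφ : x₁ ≫ φ = x₂ ≫ φ) :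
    ∃ g : 𝟙_ (Over (Spec (CommRingCat.of k))) ⟶ G, lift g x₁ ≫ a.act = x₂ := by
  haveI : IsAffineHom φ.left := h.affine
  exact exists_smul_eq_of_closed h (orbit_closed G X Y hG a φ h.inv x₁) (orbit_closed G X Y hG a φ h.inv x₂) hφ

end Groth.Agent.S18982
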