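import Groth.Statements.S18983
import Mathlib

set_option autoImplicit false
universe u v w
open CAlg

namespace Groth.Agent.S18983

/-- The subspaces spanned by homogeneous vectors. -/
def IsHom {k : Type u} [Field k] {Λ : Type v} {V : Type w} [AddCommGroup V] [Module k V]
    (𝒱 : Λ → Submodule k V) (W : Submodule k V) : Prop :=
  W ≤ Submodule.span k {x | x ∈ W ∧ ∃ μ, x ∈ 𝒱 μ}

theorem chains {k : Type u} [Field k] {Λ : Type v} [AddCommGroup Λ] [DecidableEq Λ]
    {V : Type w} [AddCommGroup V] [Module k V] [FiniteDimensional k V]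
    (𝒱 : Λ → Submodule k V) (h𝒱 : DirectSum.IsInternal 𝒱) (A : Module.End k V) (χ : Λ)
    (hhom : ∀ (μ : Λ) (v : V), v ∈ 𝒱 μ → A v ∈ 𝒱 (μ + χ)) (N : ℕ) :
    ∀ W : Submodule k V, IsHom 𝒱 W → (∀ x ∈ W, A x ∈ W) → (∀ x ∈ W, (A ^ N) x = 0) →
    ∃ (ι : Type w) (_ : Finite ι) (n : ι → ℕ) (b : (Σ i : ι, Fin (n i + 1)) → V),
      LinearIndependent k b ∧ Submodule.span k (Set.range b) = W ∧
      (∀ i l, ∃ μ : Λ, b ⟨i, l⟩ ∈ 𝒱 μ) ∧ (∀ i, A (b ⟨i, 0⟩) = 0) ∧
      ∀ (i : ι) (l : Fin (n i)), A (b ⟨i, l.succ⟩) = b ⟨i, l.castSucc⟩ := by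
  classical
  let e : (DirectSum Λ fun μ => 𝒱 μ) ≃ₗ[k] V := LinearEquiv.ofBijective (DirectSum.coeLinearMap 𝒱) h𝒱
  let π : Λ → V →ₗ[k] V := fun μ =>
    (𝒱 μ).subtype.comp ((DirectSum.component k Λ (fun μ => 𝒱 μ) μ).comp e.symm.toLinearMap)
  have hπmem : ∀ μ v, π μ v ∈ 𝒱 μ := fun μ v => SetLike.coe_mem _
  have hsymm : ∀ μ v (hv : v ∈ 𝒱 μ), e.symm v = DirectSum.lof k Λ (fun μ => 𝒱 μ) μ ⟨v, hv⟩ :=
    fun μ v hv => e.injective (by
      rw [e.apply_symm_apply]
      exact (DirectSum.coeLinearMap_of 𝒱 μ ⟨v, hv⟩).symm)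
  have hπself : ∀ μ v, v ∈ 𝒱 μ → π μ v = v := fun μ v hv => by
    show ((DirectSum.component k Λ (fun μ => 𝒱 μ) μ (e.symm v) : 𝒱 μ) : V) = v
    rw [hsymm μ v hv, DirectSum.component.lof_self]
  have hπne : ∀ μ ν v, ν ≠ μ → v ∈ 𝒱 ν → π μ v = 0 := fun μ ν v hne hv => by
    show ((DirectSum.component k Λ (fun μ => 𝒱 μ) μ (e.symm v) : 𝒱 μ) : V) = 0
    rw [hsymm ν v hv, DirectSum.component.of, dif_neg hne, ZeroMemClass.coe_zero]
  have hdec : ∀ v, ∃ s : Finset Λ, v = ∑ ν ∈ s, π ν v := fun v => by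
    refine ⟨(e.symm v).support, ?_⟩
    conv_lhs => rw [← e.apply_symm_apply v, ← DirectSum.sum_support_of (e.symm v), map_sum]
    exact Finset.sum_congr rfl fun ν _ => DirectSum.coeLinearMap_of 𝒱 ν _
  have htop : ∀ v : V, v ∈ Submodule.span k {x | ∃ μ, x ∈ 𝒱 μ} := fun v => by
    obtain ⟨s, hs⟩ := hdec v
    rw [hs]
    exact sum_mem fun ν _ => Submodule.subset_span ⟨ν, hπmem ν v⟩
  have hπA : ∀ μ v, A (π μ v) = π (μ + χ) (A v) := fun μ v => by
    induction htop v using Submodule.span_induction with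
    | mem x hx =>
      obtain ⟨ν, hν⟩ := hx
      rcases eq_or_ne ν μ with rfl | hne
      · rw [hπself ν x hν, hπself _ _ (hhom ν x hν)]
      · rw [hπne μ ν x hne hν, map_zero, hπne _ _ _ (fun h => hne (add_right_cancel h)) (hhom ν x hν)]
    | zero => simp
    | add x y _ _ hx hy => simp [hx, hy]
    | smul c x _ hx => simp [hx]
  induction N with
  | zero =>
    intro W _ _ h0
    have hW : W = ⊥ := (Submodule.eq_bot_iff _).2 fun x hx => by simpa using h0 x hx
    exact ⟨PEmpty, inferInstance, fun i => i.elim, fun p => p.1.elim, linearIndependent_empty_type,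
      by rw [Set.range_eq_empty, Submodule.span_empty, hW], fun i => i.elim, fun i => i.elim, fun i => i.elim⟩
  | succ N ih =>
    intro W hW hA hnil
    have hπW : ∀ μ, ∀ v ∈ W, π μ v ∈ W := fun μ v hv => by
      have h := hW hv
      clear hv
      induction h using Submodule.span_induction with
      | mem x hx =>
        obtain ⟨hxW, ν, hν⟩ := hx
        rcases eq_or_ne ν μ with rfl | hne
        · rwa [hπself ν x hν]
        · rw [hπne μ ν x hne hν]; exact zero_mem _
      | zero => simp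
      | add x y _ _ hx hy => rw [map_add]; exact add_mem hx hy
      | smul c x _ hx => rw [map_smul]; exact W.smul_mem c hx
    obtain ⟨ι, _, n, b, hli, hspan, hbhom, hb0, hbsucc⟩ := ih (W.map A) (fun y hy => by
        obtain ⟨x, hx, rfl⟩ := hy
        obtain ⟨s, hs⟩ := hdec x
        rw [hs, map_sum]
        exact sum_mem fun ν _ => Submodule.subset_span
          ⟨Submodule.mem_map_of_mem (hπW ν x hx), ν + χ, hhom ν _ (hπmem ν x)⟩)
      (fun y hy => by
        obtain ⟨x, hx, rfl⟩ := hy
        exact Submodule.mem_map_of_mem (hA x hx))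
      (fun y hy => by
        obtain ⟨x, hx, rfl⟩ := hy
        rw [← Module.End.mul_apply, ← pow_succ]
        exact hnil x hx)
    haveI : Fintype ι := Fintype.ofFinite ι
    have htopmem : ∀ i, ∃ f, f ∈ W ∧ (∃ μ, f ∈ 𝒱 μ) ∧ A f = b ⟨i, Fin.last (n i)⟩ := fun i => by
      obtain ⟨μ, hμ⟩ := hbhom i (Fin.last (n i))
      obtain ⟨x, hx, hxe⟩ : b ⟨i, Fin.last (n i)⟩ ∈ W.map A := hspan ▸ Submodule.subset_span ⟨_, rfl⟩
      exact ⟨π (μ - χ) x, hπW _ x hx, ⟨_, hπmem _ x⟩, by rw [hπA, sub_add_cancel, hxe, hπself μ _ hμ]⟩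
    choose f hfW hfhom hfA using htopmem
    let S : Set V := {x | x ∈ W ∧ A x = 0 ∧ ∃ μ, x ∈ 𝒱 μ}
    let e0 : Set V := Set.range fun i : ι => b ⟨i, 0⟩
    have hmapW : ∀ p, b p ∈ W := fun p => by
      obtain ⟨x, hx, hxe⟩ : b p ∈ W.map A := hspan ▸ Submodule.subset_span ⟨_, rfl⟩
      exact hxe ▸ hA x hx
    have he0S : e0 ⊆ S := by
      rintro _ ⟨i, rfl⟩
      exact ⟨hmapW _, hb0 i, hbhom i 0⟩
    have hinj : Function.Injective fun i : ι => (⟨i, 0⟩ : Σ i : ι, Fin (n i + 1)) :=
      fun i j h => congrArg Sigma.fst h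
    have he0li : LinearIndepOn k id e0 := (hli.comp _ hinj).linearIndepOn_id
    let T := he0li.extend he0S
    have hTS : T ⊆ S := he0li.extend_subset he0S
    have he0T : e0 ⊆ T := he0li.subset_extend he0S
    have hTli : LinearIndepOn k id T := he0li.linearIndepOn_extend he0S
    have hST : S ⊆ Submodule.span k T := by
      rw [show T = he0li.extend he0S from rfl]
      exact he0li.subset_span_extend he0S
    have hTfin : T.Finite := LinearIndependent.setFinite hTli
    haveI : Finite ↥(T \ e0) := (hTfin.sdiff).to_subtype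
    haveI : Fintype ↥(T \ e0) := Fintype.ofFinite _
    let n' : ι ⊕ ↥(T \ e0) → ℕ := Sum.elim (fun i => n i + 1) fun _ => 0
    let b' : (Σ i : ι ⊕ ↥(T \ e0), Fin (n' i + 1)) → V := fun p => match p with
      | ⟨Sum.inl i, l⟩ => Fin.snoc (α := fun _ => V) (fun j => b ⟨i, j⟩) (f i) l
      | ⟨Sum.inr t, _⟩ => t.1
    have hb'cast : ∀ i (j : Fin (n i + 1)), b' ⟨Sum.inl i, j.castSucc⟩ = b ⟨i, j⟩ := fun i j =>
      Fin.snoc_castSucc (α := fun _ => V) _ _ j
    have hb'last : ∀ i, b' ⟨Sum.inl i, Fin.last (n i + 1)⟩ = f i := fun i =>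
      Fin.snoc_last (α := fun _ => V) _ _
    have hchain : ∀ i (l : Fin (n i + 1)), A (b' ⟨Sum.inl i, l.succ⟩) = b ⟨i, l⟩ := fun i l => by
      refine Fin.lastCases ?_ (fun j => ?_) l
      · rw [Fin.succ_last, hb'last, hfA]
      · rw [Fin.succ_castSucc, hb'cast, hbsucc]
    have hspan' : Submodule.span k (Set.range b') = W := by
      refine le_antisymm (Submodule.span_le.2 ?_) fun u hu => ?_
      · rintro _ ⟨⟨i | t, l⟩, rfl⟩
        · change Fin (n i + 1 + 1) at l
          refine Fin.lastCases ?_ (fun j => ?_) l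
          · rw [SetLike.mem_coe, hb'last]; exact hfW i
          · rw [SetLike.mem_coe, hb'cast]; exact hmapW _
        · exact (hTS t.2.1).1
      · have hle : W.map A ≤ (W ⊓ Submodule.span k (Set.range b')).map A := by
          rw [← hspan]
          refine Submodule.span_le.2 ?_
          rintro _ ⟨⟨i, l⟩, rfl⟩
          refine ⟨b' ⟨Sum.inl i, (l.succ : Fin (n i + 1 + 1))⟩, ⟨?_, Submodule.subset_span (Set.mem_range_self (f := b') ⟨Sum.inl i, (l.succ : Fin (n i + 1 + 1))⟩)⟩, hchain i l⟩
          refine Fin.lastCases ?_ (fun j => ?_) l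
          · rw [Fin.succ_last, hb'last]; exact hfW i
          · rw [Fin.succ_castSucc, hb'cast]; exact hmapW _
        obtain ⟨x, ⟨hxW, hxs⟩, hxA⟩ := hle (Submodule.mem_map_of_mem hu)
        have hT : Submodule.span k T ≤ Submodule.span k (Set.range b') := Submodule.span_mono fun t ht => by
          by_cases h : t ∈ e0
          · obtain ⟨i, rfl⟩ := h
            exact ⟨⟨Sum.inl i, (0 : Fin (n i + 1)).castSucc⟩, hb'cast i 0⟩
          · exact ⟨⟨Sum.inr ⟨t, ht, h⟩, 0⟩, rfl⟩
        have hk : u - x ∈ Submodule.span k T := by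
          obtain ⟨s, hs⟩ := hdec (u - x)
          rw [hs]
          exact sum_mem fun ν _ => hST ⟨hπW ν _ (sub_mem hu hxW), by rw [hπA, map_sub, hxA, sub_self, map_zero], ν, hπmem ν _⟩
        simpa using add_mem hxs (hT hk)
    have hK : Submodule.span k T = LinearMap.ker A ⊓ W := by
      refine le_antisymm (Submodule.span_le.2 fun t ht => ⟨(hTS ht).2.1, (hTS ht).1⟩) fun u hu => ?_
      obtain ⟨s, hs⟩ := hdec u
      rw [hs]
      exact sum_mem fun ν _ => hST ⟨hπW ν _ hu.2, by rw [hπA, show A u = 0 from hu.1, map_zero], ν, hπmem ν _⟩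
    haveI : Fintype ↥T := hTfin.fintype
    have hcard : Fintype.card (Σ i : ι ⊕ ↥(T \ e0), Fin (n' i + 1)) = (Set.range b').finrank k := by
      rw [Set.finrank, hspan', ← LinearMap.finrank_range_add_finrank_ker (A.domRestrict W)]
      have h1 : Module.finrank k (LinearMap.range (A.domRestrict W)) = Fintype.card (Σ i : ι, Fin (n i + 1)) := by
        rw [show LinearMap.range (A.domRestrict W) = W.map A from LinearMap.range_domRestrict _ _, ← hspan,
          finrank_span_eq_card hli]
      have h2 : Module.finrank k (LinearMap.ker (A.domRestrict W)) = T.ncard := by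
        rw [LinearMap.ker_domRestrict, Set.ncard_eq_toFinset_card', ← finrank_span_set_eq_card hTli, hK]
        exact ((Submodule.equivMapOfInjective W.subtype W.injective_subtype _).finrank_eq).trans
          (by rw [Submodule.map_comap_subtype, inf_comm])
      have h3 : T.ncard = Fintype.card ι + Fintype.card ↥(T \ e0) := by
        rw [← Set.ncard_diff_add_ncard_of_subset he0T hTfin, add_comm, ← Nat.card_eq_fintype_card,
          ← Nat.card_eq_fintype_card, Nat.card_coe_set_eq]
        congr 1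
        exact (Set.ncard_range_of_injective (hli.injective.comp hinj)).trans rfl
      rw [h1, h2, h3]
      simp only [Fintype.card_eq_nat_card, Nat.card_sigma, Nat.card_sum, Nat.card_fin, Fintype.sum_sum_type, n', Sum.elim_inl, Sum.elim_inr,
        Finset.sum_add_distrib, Finset.sum_const, Finset.card_univ, smul_eq_mul, mul_one, zero_add]
      omega
    refine ⟨ι ⊕ ↥(T \ e0), inferInstance, n', b', linearIndependent_iff_card_eq_finrank_span.2 hcard,
      hspan', ?_, ?_, ?_⟩
    · rintro (i | t) l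
      · change Fin (n i + 1 + 1) at l
        refine Fin.lastCases ?_ (fun j => ?_) l
        · rw [hb'last]; exact hfhom i
        · rw [hb'cast]; exact hbhom i j
      · exact (hTS t.2.1).2.2
    · rintro (i | t)
      · exact (congrArg A (hb'cast i 0)).trans (hb0 i)
      · exact (hTS t.2.1).2.1
    · rintro (i | t) l
      · exact (hchain i l).trans (hb'cast i l).symm
      · exact l.elim0

/-- Let k be a field, Λ an additive commutative group, V a finite-dimensional k-vector space which is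
the internal direct sum of subspaces V_μ indexed by Λ (a representation of a torus with character
group Λ), and A a nilpotent endomorphism of V mapping each V_μ into V_{μ+χ} for a fixed χ (the
infinitesimal generator of an action of the additive group on which the torus acts through the
character χ). Then V has a basis consisting of homogeneous vectors e_{i,l}, 0 ≤ l ≤ n_i, with A
e_{i,0} = 0 and A e_{i,l+1} = e_{i,l}: a weight basis bringing A into Jordan normal form. (The
source states this, over an algebraically closed field of characteristic zero, as a decomposition of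
every representation of the semidirect product of the additive group with a torus into twists of
symmetric powers of the standard two-dimensional representation by characters; the first line of its
proof reduces that to the present statement, which is what is proved, and which holds over any
field.) -/
theorem result
    (k : Type u) [Field k] (Λ : Type v) [AddCommGroup Λ] [DecidableEq Λ]
    (V : Type w) [AddCommGroup V] [Module k V] [FiniteDimensional k V]
    (𝒱 : Λ → Submodule k V) (h𝒱 : DirectSum.IsInternal 𝒱)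
    (A : Module.End k V) (hA : IsNilpotent A) (χ : Λ)
    (hhom : ∀ (μ : Λ) (v : V), v ∈ 𝒱 μ → A v ∈ 𝒱 (μ + χ)) :
    ∃ (ι : Type w) (_ : Finite ι) (n : ι → ℕ) (b : Module.Basis (Σ i : ι, Fin (n i + 1)) k V),
      (∀ (i : ι) (l : Fin (n i + 1)), ∃ μ : Λ, b ⟨i, l⟩ ∈ 𝒱 μ) ∧
      (∀ i : ι, A (b ⟨i, 0⟩) = 0) ∧
      ∀ (i : ι) (l : Fin (n i)), A (b ⟨i, l.succ⟩) = b ⟨i, l.castSucc⟩ := by
  classical
  obtain ⟨N, hN⟩ := hA
  have htop : IsHom 𝒱 (⊤ : Submodule k V) := by
    intro v hv
    have h1 : (⊤ : Submodule k V) ≤ Submodule.span k {x | x ∈ (⊤ : Submodule k V) ∧ ∃ μ, x ∈ 𝒱 μ} := by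
      exact h𝒱.submodule_iSup_eq_top.ge.trans <| iSup_le fun μ x hx => Submodule.subset_span ⟨trivial, μ, hx⟩
    exact h1 hv
  obtain ⟨ι, hι, n, b, hli, hspan, h1, h2, h3⟩ := chains 𝒱 h𝒱 A χ hhom N ⊤ htop (fun _ _ => trivial)
    (fun x _ => by rw [hN]; rfl)
  refine ⟨ι, hι, n, Module.Basis.mk hli hspan.ge, ?_, ?_, ?_⟩
  · intro i l; rw [Module.Basis.mk_apply]; exact h1 i l
  · intro i; rw [Module.Basis.mk_apply]; exact h2 i
  · intro i l; rw [Module.Basis.mk_apply, Module.Basis.mk_apply]; exact h3 i l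

end Groth.Agent.S18983
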