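import Groth.Statements.S18987
import Groth.Agent.Comod.UnipLie

set_option autoImplicit false
universe u
open TensorProduct
open HopfRep

namespace Groth.Agent.S18987

/-- In Hopf-algebra form, over an algebraically closed field k of characteristic zero, let A be a
finitely generated commutative Hopf algebra which is unipotent in the fixed-vector sense (the
coordinate ring of a unipotent group U), coacting multiplicatively on a finitely generated
commutative k-algebra R (an action of U on the affine scheme Spec R). Then an element f of R is
invariant if and only if, for every ε-derivation ξ : A → k (every element of the Lie algebra of U),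
applying ξ to the A-factor of the coaction of f gives zero (the infinitesimal action of ξ kills f). -/
theorem result
    (k : Type u) [Field k] [IsAlgClosed k] [CharZero k]
    (A : Type u) [CommRing A] [HopfAlgebra k A] [Algebra.FiniteType k A] (hU : HopfRep.IsUnipotent k A)
    (R : Type u) [CommRing R] [Algebra k R] [Algebra.FiniteType k R]
    [HopfRep.Comod k A R] [GLin.IsCoactAlg k A R] (f : R) :
    f ∈ GLin.invariants k A R ↔
      ∀ ξ : LieHopf.Lie k A,
        LinearMap.lTensor R (ξ.toLinearMap.restrictScalars k) (HopfRep.Comod.coact (k := k) (A := A) f) = 0 := by
  constructor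
  · intro hf ξ
    rw [show HopfRep.Comod.coact (k := k) (A := A) f = f ⊗ₜ[k] (1 : A) from hf, LinearMap.lTensor_tmul]
    show f ⊗ₜ[k] (ξ 1) = 0
    rw [Derivation.map_one_eq_zero, TensorProduct.tmul_zero]
  · intro h
    show HopfRep.Comod.coact (k := k) (A := A) f = f ⊗ₜ[k] (1 : A)
    refine Comod.UnipLie.mem_fixedPts_of_lie hU f fun ξ => ?_
    rw [← Comod.UnipLie.slice_idK, h ξ, map_zero]

end Groth.Agent.S18987
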