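import Groth.Statements.S1899
import Groth.Agent.CycLib.PushStalk
-- import your own Groth.Agent.* helpers here

set_option autoImplicit false
universe u
open CategoryTheory AlgebraicGeometry
open Cyc

namespace Groth.Agent.S1899

/-- For a closed immersion i : Z → X with Z of δ-dimension ≤ k, [Z]_k = [O_Z]_k, i.e. the multiplicities
computed from lengths of the local rings O_{Z,z} agree with those computed from the stalks of i_*O_Z
as O_X-modules. A pair (X, δ) with Cyc.IsSetup plays the role of a scheme locally of finite type
over a fixed base with a dimension function (X locally Noetherian with universally catenary local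
rings, δ a dimension function), and Cyc.DeltaCompat records that the dimension function upstairs is
the induced one. -/
theorem result (X Z : Scheme.{u}) (δ : X → ℤ) (hX : Cyc.IsSetup X δ) (i : Z ⟶ X) [IsClosedImmersion i] (k : ℤ) (hdim : ∀ z : Z, δ (i z) ≤ k) : Cyc.subschemeFun δ k i = Cyc.sheafFun δ k ((Coh.push i).obj (Coh.structureModule Z)) := by
  funext x
  unfold Cyc.subschemeFun Cyc.sheafFun
  split_ifs with hx
  · by_cases hr : x ∈ Set.range i
    · obtain ⟨z, rfl⟩ := hr
      rw [show {w : Z | i w = i z} = {z} from Set.ext fun w => i.isClosedEmbedding.injective.eq_iff,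
        finsum_mem_singleton, Groth.Agent.CycLib.length_stalk_push i z]
    · haveI := Groth.Agent.CycLib.subsingleton_stalk_push_of_not_mem i hr
      rw [show {w : Z | i w = x} = ∅ from Set.eq_empty_of_forall_notMem fun w hw => hr ⟨w, hw⟩,
        finsum_mem_empty, Module.length_eq_zero]
      rfl
  · rfl

end Groth.Agent.S1899
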