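import Groth.Statements.S18991
import Groth.Agent.AffConst67
import Mathlib.AlgebraicGeometry.AffineSpace
-- import your own Groth.Agent.* helpers here

set_option autoImplicit false
set_option backward.isDefEq.respectTransparency false
universe u
open CategoryTheory MonoidalCategory CartesianMonoidalCategory MonObj GrpObj AlgebraicGeometry CategoryTheory.Limits
open AbVar

namespace Groth.Agent.S18991

theorem geometricallyReduced_affine (k : Type u) [Field k] (n : ℕ) :
    GeometricallyReduced (Spec.map (CommRingCat.ofHom (algebraMap k (MvPolynomial (Fin n) k)))) := by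
  let σ := (MvPolynomial.renameEquiv k (Equiv.ulift.{u} : _ ≃ Fin n))
  let E : Spec (CommRingCat.of (MvPolynomial (Fin n) k)) ≅ Spec (CommRingCat.of (MvPolynomial (ULift.{u} (Fin n)) k)) :=
    asIso (Spec.map σ.toRingEquiv.toCommRingCatIso.hom)
  have h1 : GeometricallyReduced
      (Spec.map (CommRingCat.ofHom (algebraMap k (MvPolynomial (ULift.{u} (Fin n)) k)))) := by
    have hh : (AffineSpace.SpecIso (ULift.{u} (Fin n)) (CommRingCat.of k)).inv ≫
        (𝔸(ULift.{u} (Fin n); Spec (CommRingCat.of k)) ↘ Spec (CommRingCat.of k)) =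
        Spec.map (CommRingCat.ofHom (algebraMap k (MvPolynomial (ULift.{u} (Fin n)) k))) := by
      rw [AffineSpace.SpecIso_inv_over, MvPolynomial.algebraMap_eq]
    rw [← hh, MorphismProperty.cancel_left_of_respectsIso @GeometricallyReduced]
    infer_instance
  have hE : E.hom ≫ Spec.map (CommRingCat.ofHom (algebraMap k (MvPolynomial (ULift.{u} (Fin n)) k))) =
      Spec.map (CommRingCat.ofHom (algebraMap k (MvPolynomial (Fin n) k))) := by
    rw [asIso_hom, ← Spec.map_comp]
    congr 1
    ext1
    exact σ.toAlgHom.comp_algebraMap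
  rw [← hE, MorphismProperty.cancel_left_of_respectsIso @GeometricallyReduced]
  exact h1

/-- The origin of affine space. -/
noncomputable def origin (k : Type u) [Field k] (n : ℕ) :
    𝟙_ (Over (Spec (CommRingCat.of k))) ⟶
      Over.mk (Spec.map (CommRingCat.ofHom (algebraMap k (MvPolynomial (Fin n) k)))) :=
  Over.homMk (Spec.map (CommRingCat.ofHom (MvPolynomial.aeval (0 : Fin n → k)).toRingHom)) (by
    show Spec.map _ ≫ Spec.map _ = 𝟙 (Spec (CommRingCat.of k))
    rw [← Spec.map_comp, ← CommRingCat.ofHom_comp, AlgHom.toRingHom_eq_coe,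
      (MvPolynomial.aeval (0 : Fin n → k)).comp_algebraMap]
    exact Spec.map_id _)

theorem origin_left (k : Type u) [Field k] (n : ℕ) : (origin k n).left =
    Spec.map (CommRingCat.ofHom (MvPolynomial.aeval (0 : Fin n → k)).toRingHom) := rfl

theorem ev_zero_mapP (k : Type u) [Field k] (n : ℕ) (L : Type u) [Field L] [Algebra k L] :
    AbVarLib.RatLine.sp (AffConst67.ev (k := k) (0 : Fin n → L)) ≫
      AbVarLib.RatLine.sp (AffConst67.mapP (k := k) (L := k) (n := n) L) =
    toUnit (AbVarLib.RatLine.O k L) ≫ origin k n := by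
  have he : (AffConst67.ev (k := k) (0 : Fin n → L)).comp (AffConst67.mapP (k := k) (L := k) L) =
      (Algebra.ofId k L).comp (MvPolynomial.aeval (0 : Fin n → k)) :=
    MvPolynomial.algHom_ext fun j => by simp [AffConst67.ev, AffConst67.mapP]
  rw [← AbVarLib.RatLine.sp_comp, he, AbVarLib.RatLine.sp_comp]
  apply Over.OverMorphism.ext
  rw [Over.comp_left, Over.comp_left, origin_left, AbVarLib.RatPoints.sp_left,
    AbVarLib.RatPoints.sp_left, Over.toUnit_left]
  rfl

/-- In the form of the factorization it amounts to, let k be a perfect field, X a reduced separated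
k-scheme of finite type, n ≥ 0 and G a large group over k, that is a commutative separated k-group
scheme locally of finite type together with a connected open subgroup scheme G⁰ (its neutral
component) which is semiabelian: G⁰ has a closed subgroup scheme T that is a torus and is the kernel
of a flat surjective homomorphism from G⁰ onto an abelian variety A (a proper smooth connected
k-group scheme). Then every k-morphism X ×_k 𝔸ⁿ_k → G factors through the first projection X ×_k
𝔸ⁿ_k → X. (So a k-morphism X → A_X that is universal for morphisms from X to large groups remains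
universal after composing with the projection: the Albanese scheme of X ×_k 𝔸ⁿ_k is that of X via
the projection.) -/
theorem result (k : Type u) [Field k] [PerfectField k]
    (X : Over (Spec (CommRingCat.of k))) [IsReduced X.left] [IsSeparated X.hom] [QuasiCompact X.hom]
    [LocallyOfFiniteType X.hom] (n : ℕ)
    (G : Over (Spec (CommRingCat.of k))) [GrpObj G] [IsCommMonObj G] [IsSeparated G.hom] [LocallyOfFiniteType G.hom]
    (G0 : Over (Spec (CommRingCat.of k))) [GrpObj G0] (e : G0 ⟶ G) [IsMonHom e] [IsOpenImmersion e.left]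
    [ConnectedSpace ↥G0.left]
    (T : Over (Spec (CommRingCat.of k))) [GrpObj T] (i : T ⟶ G0) [IsMonHom i] [IsClosedImmersion i.left]
    (hT : Red.IsTorus T)
    (A : Over (Spec (CommRingCat.of k))) [GrpObj A] [IsProper A.hom] [Smooth A.hom] [ConnectedSpace ↥A.left]
    (q : G0 ⟶ A) [IsMonHom q] [Surjective q.left] [Flat q.left] (hker : AlgGrp.IsKernel i q)
    (φ : X ⊗ Over.mk (Spec.map (CommRingCat.ofHom (algebraMap k (MvPolynomial (Fin n) k)))) ⟶ G) :
    ∃ ψ : X ⟶ G, φ = fst X (Over.mk (Spec.map (CommRingCat.ofHom (algebraMap k (MvPolynomial (Fin n) k))))) ≫ ψ := by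
  let N : Over (Spec (CommRingCat.of k)) :=
    Over.mk (Spec.map (CommRingCat.ofHom (algebraMap k (MvPolynomial (Fin n) k))))
  let z0 : 𝟙_ (Over (Spec (CommRingCat.of k))) ⟶ N := origin k n
  refine ⟨lift (𝟙 X) (toUnit X ≫ z0) ≫ φ, Over.OverMorphism.ext ?_⟩
  have : GeometricallyReduced N.hom := geometricallyReduced_affine k n
  have : Flat N.hom := inferInstance
  have : IsLocallyNoetherian X.left := LocallyOfFiniteType.isLocallyNoetherian X.hom
  have : IsReduced (Limits.pullback X.hom N.hom) := inferInstance
  have : IsReduced (X ⊗ N).left := this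
  refine ext_of_fromSpecResidueField_eq _ _ G.hom Set.univ dense_univ (fun y _ => ?_) (by
    rw [Over.w, Over.w])
  let L : Type u := (X ⊗ N).left.residueField y
  let : Algebra k L :=
    (Spec.preimage ((X ⊗ N).left.fromSpecResidueField y ≫ (X ⊗ N).hom)).hom.toAlgebra
  let yL : AbVarLib.RatLine.O k L ⟶ X ⊗ N :=
    Over.homMk ((X ⊗ N).left.fromSpecResidueField y) (by
      show _ = Spec.map _
      rw [RingHom.algebraMap_toAlgebra, CommRingCat.ofHom_hom, Spec.map_preimage])
  suffices hy : yL ≫ φ = yL ≫ fst X N ≫ lift (𝟙 X) (toUnit X ≫ z0) ≫ φ from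
    congrArg CommaMorphism.left hy
  obtain ⟨b, hb⟩ : ∃ b : MvPolynomial (Fin n) k →ₐ[k] L, AbVarLib.RatLine.sp b = yL ≫ snd X N := by
    refine ⟨{ toRingHom := (Spec.preimage (yL ≫ snd X N).left).hom, commutes' := fun r => ?_ }, ?_⟩
    · have h := congrArg Spec.preimage (Over.w (yL ≫ snd X N))
      simp only [N, Over.mk_hom, Spec.preimage_comp, Spec.preimage_map] at h
      exact congr(($h).hom r)
    · exact Over.OverMorphism.ext (Spec.map_preimage _)
  let v : Fin n → L := fun j => b (MvPolynomial.X j)
  let mp : AbVarLib.RatLine.O k (AffConst67.P n L) ⟶ N :=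
    AbVarLib.RatLine.sp (AffConst67.mapP (k := k) (L := k) (n := n) L)
  let h : AbVarLib.RatLine.O k (AffConst67.P n L) ⟶ G :=
    lift (AbVarLib.RatLine.sp AffConst67.cC ≫ yL ≫ fst X N) mp ≫ φ
  have hev : ∀ w : Fin n → L, AbVarLib.RatLine.sp (AffConst67.ev (k := k) w) ≫ h =
      lift (yL ≫ fst X N) (AbVarLib.RatLine.sp (AffConst67.ev (k := k) w) ≫ mp) ≫ φ := by
    intro w
    simp only [h]
    rw [comp_lift_assoc, ← Category.assoc _ (AbVarLib.RatLine.sp AffConst67.cC),
      AffConst67.sp_ev_cC, Category.id_comp]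
  have h1 : AbVarLib.RatLine.sp (AffConst67.ev (k := k) v) ≫ h = yL ≫ φ := by
    have e1 : AbVarLib.RatLine.sp (AffConst67.ev (k := k) v) ≫ mp = yL ≫ snd X N := by
      simp only [mp]
      rw [← AbVarLib.RatLine.sp_comp, ← hb]
      exact congrArg _ (MvPolynomial.algHom_ext fun j => by
        simp [AffConst67.ev, AffConst67.mapP, v])
    rw [hev, e1, ← comp_lift, lift_fst_snd, Category.comp_id]
  have h0 : AbVarLib.RatLine.sp (AffConst67.ev (k := k) (0 : Fin n → L)) ≫ h =
      yL ≫ fst X N ≫ lift (𝟙 X) (toUnit X ≫ z0) ≫ φ := by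
    have e0 : AbVarLib.RatLine.sp (AffConst67.ev (k := k) (0 : Fin n → L)) ≫ mp =
        toUnit _ ≫ z0 := ev_zero_mapP k n L
    rw [hev, e0, ← Category.assoc yL (fst X N), comp_lift_assoc, Category.comp_id,
      ← Category.assoc (yL ≫ fst X N) (toUnit X), comp_toUnit]
  calc yL ≫ φ = AbVarLib.RatLine.sp (AffConst67.ev (k := k) v) ≫ AffConst67.cst 0 h := by
        rw [← h1, ← AffConst67.large_const e i hT q hker h]
    _ = _ := by
        rw [AffConst67.cst, ← Category.assoc, AffConst67.sp_ev_cC, Category.id_comp, h0]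

end Groth.Agent.S18991
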