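import Groth.Statements.S18994
import Mathlib

set_option autoImplicit false
universe u
open TernForm

namespace Groth.Agent.S18994

open MvPolynomial Finset

theorem main (R : Type u) [CommRing R] (j : Fin 3) (q : MvPolynomial (Fin 3) R)
    (hq : q.IsHomogeneous 2) (hqj : IsUnit (q.coeff (Finsupp.single j 2))) (n : ℕ)
    (v : {m : Fin 3 →₀ ℕ // m.degree = n ∧ m j < 2} ⊕ {m : Fin 3 →₀ ℕ // m.degree + 2 = n} →
      MvPolynomial (Fin 3) R)
    (hl : ∀ m, v (Sum.inl m) = monomial m.1 1) (hr : ∀ m, v (Sum.inr m) = q * monomial m.1 1) :
    LinearIndependent R v ∧ Submodule.span R (Set.range v) = homogeneousSubmodule (Fin 3) R n := by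
  classical
  set δ : Fin 3 →₀ ℕ := Finsupp.single j 2 with hδ
  have hmon : ∀ t (m : Fin 3 →₀ ℕ), m j = t → m.degree = n →
      monomial m (1 : R) ∈ Submodule.span R (Set.range v) := by
    intro t
    induction t using Nat.strong_induction_on with
    | _ t ih =>
      intro m hm hdeg
      by_cases hlt : m j < 2
      · rw [← hl ⟨m, hdeg, hlt⟩]
        exact Submodule.subset_span ⟨_, rfl⟩
      obtain ⟨m', rfl⟩ : ∃ m', m = m' + δ := ⟨m - δ, (tsub_add_cancel_of_le (by
        rw [hδ, Finsupp.single_le_iff]; omega)).symm⟩
      have hd' : m'.degree + 2 = n := by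
        rw [map_add, hδ, Finsupp.degree_single] at hdeg; exact hdeg
      have h1 : q * monomial m' (1 : R) = ∑ e ∈ q.support, q.coeff e • monomial (m' + e) (1 : R) := by
        conv_lhs => rw [q.as_sum, sum_mul]
        refine sum_congr rfl fun e _ => ?_
        rw [monomial_mul, smul_monomial, add_comm, smul_eq_mul]
      have h2 : q.coeff δ • monomial (m' + δ) (1 : R) = q * monomial m' (1 : R) -
          ∑ e ∈ q.support.erase δ, q.coeff e • monomial (m' + e) (1 : R) := by
        rw [h1, eq_sub_iff_add_eq]
        by_cases hs : δ ∈ q.support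
        · exact add_sum_erase _ (fun e => q.coeff e • monomial (m' + e) (1 : R)) hs
        · rw [erase_eq_of_notMem hs]
          simp [notMem_support_iff.1 hs]
      have h3 : q.coeff δ • monomial (m' + δ) (1 : R) ∈ Submodule.span R (Set.range v) := by
        rw [h2]
        refine Submodule.sub_mem _ ?_ (Submodule.sum_mem _ fun e he => ?_)
        · rw [← hr ⟨m', hd'⟩]
          exact Submodule.subset_span ⟨_, rfl⟩
        · refine Submodule.smul_mem _ _ ?_
          rw [mem_erase, mem_support_iff] at he
          have hed : e.degree = 2 := by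
            rw [Finsupp.degree_eq_weight_one]
            exact hq he.2
          have hej : e j < 2 := by
            by_contra hge
            apply he.1
            have hle : δ ≤ e := by rw [hδ, Finsupp.single_le_iff]; omega
            obtain ⟨r, rfl⟩ : ∃ r, e = δ + r := ⟨e - δ, (add_tsub_cancel_of_le hle).symm⟩
            rw [map_add, hδ, Finsupp.degree_single] at hed
            have : r = 0 := (Finsupp.degree_eq_zero_iff r).1 (by omega)
            rw [this, add_zero]
          refine ih _ ?_ _ rfl ?_
          · simp only [Finsupp.add_apply, hδ, Finsupp.single_eq_same] at hm ⊢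
            omega
          · rw [map_add, hed]; exact hd'
      obtain ⟨c, hc⟩ := hqj
      rw [← hc] at h3
      have h4 := Submodule.smul_mem _ (↑c⁻¹ : R) h3
      rwa [smul_smul, Units.inv_mul, one_smul] at h4
  have hmem : ∀ i, v i ∈ homogeneousSubmodule (Fin 3) R n := by
    rintro (m | m)
    · rw [hl]
      exact isHomogeneous_monomial _ m.2.1
    · rw [hr, mem_homogeneousSubmodule]
      have := hq.mul (isHomogeneous_monomial (1 : R) (show m.1.degree = _ from rfl))
      rw [add_comm, m.2] at this
      exact this
  refine ⟨?_, le_antisymm (Submodule.span_le.2 (by rintro _ ⟨i, rfl⟩; exact hmem i)) ?_⟩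
  swap
  · intro p hp
    rw [p.as_sum]
    refine Submodule.sum_mem _ fun e he => ?_
    have hd : e.degree = n := by
      rw [Finsupp.degree_eq_weight_one]
      exact hp (mem_support_iff.1 he)
    have : monomial e (p.coeff e) = p.coeff e • monomial e (1 : R) := by
      rw [smul_monomial, smul_eq_mul, mul_one]
    rw [this]
    exact Submodule.smul_mem _ _ (hmon _ e rfl hd)
  let e : {m : Fin 3 →₀ ℕ // m.degree = n ∧ m j < 2} ⊕ {m : Fin 3 →₀ ℕ // m.degree + 2 = n} →
      {m : Fin 3 →₀ ℕ // m.degree = n} :=
    Sum.elim (fun m => ⟨m.1, m.2.1⟩)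
      (fun m => ⟨m.1 + δ, by rw [map_add, hδ, Finsupp.degree_single]; exact m.2⟩)
  have he : Function.Bijective e := by
    constructor
    · rintro (a | a) (b | b) h <;>
        simp only [e, Sum.elim_inl, Sum.elim_inr, Subtype.mk.injEq] at h
      · exact congrArg Sum.inl (Subtype.ext h)
      · have h' := DFunLike.congr_fun h j
        have := a.2.2
        simp only [Finsupp.add_apply, hδ, Finsupp.single_eq_same] at h'
        omega
      · have h' := DFunLike.congr_fun h j
        have := b.2.2
        simp only [Finsupp.add_apply, hδ, Finsupp.single_eq_same] at h'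
        omega
      · exact congrArg Sum.inr (Subtype.ext (add_right_cancel h))
    · rintro ⟨m, hm⟩
      by_cases hlt : m j < 2
      · exact ⟨Sum.inl ⟨m, hm, hlt⟩, rfl⟩
      · have hle : δ ≤ m := by rw [hδ, Finsupp.single_le_iff]; omega
        obtain ⟨r, rfl⟩ : ∃ r, m = r + δ := ⟨m - δ, (tsub_add_cancel_of_le hle).symm⟩
        rw [map_add, hδ, Finsupp.degree_single] at hm
        exact ⟨Sum.inr ⟨r, hm⟩, rfl⟩
  haveI : Finite {m : Fin 3 →₀ ℕ // m.degree = n} :=
    Finite.of_injective (fun m i => (⟨m.1 i, by
      have := Finsupp.le_degree i m.1; omega⟩ : Fin (n + 1)))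
      (fun a b h => Subtype.ext (Finsupp.ext fun i => congrArg Fin.val (congrFun h i)))
  haveI := Fintype.ofFinite {m : Fin 3 →₀ ℕ // m.degree = n}
  let E := Equiv.ofBijective e he
  haveI := Fintype.ofEquiv _ E.symm
  let co : MvPolynomial (Fin 3) R →ₗ[R] ({m : Fin 3 →₀ ℕ // m.degree = n} → R) :=
    LinearMap.pi fun s => lcoeff R s.1
  let φ : ({m : Fin 3 →₀ ℕ // m.degree = n} → R) →ₗ[R] ({m : Fin 3 →₀ ℕ // m.degree = n} → R) :=
    co ∘ₗ Fintype.linearCombination R v ∘ₗ LinearMap.funLeft R R E
  have hφ : Function.Surjective φ := by
    rw [← LinearMap.range_eq_top, eq_top_iff]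
    rintro x -
    have hx : x = ∑ s, x s • co (monomial s.1 1) := by
      funext t
      simp [co, lcoeff_apply, coeff_monomial, ← Subtype.ext_iff]
    rw [hx]
    refine Submodule.sum_mem _ fun s _ => Submodule.smul_mem _ _ ?_
    have h1 := hmon _ s.1 rfl s.2
    rw [← Fintype.range_linearCombination, LinearMap.mem_range] at h1
    obtain ⟨c, hc⟩ := h1
    refine ⟨c ∘ E.symm, ?_⟩
    simp only [φ, LinearMap.comp_apply, LinearMap.funLeft, LinearMap.coe_mk, AddHom.coe_mk]
    rw [← hc]
    congr 2
    funext i
    simp
  have hinj : Function.Injective φ := OrzechProperty.injective_of_surjective_endomorphism φ hφ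
  rw [Fintype.linearIndependent_iff]
  intro c hc i
  have h1 : φ (c ∘ E.symm) = 0 := by
    simp only [φ, LinearMap.comp_apply, Fintype.linearCombination_apply, LinearMap.funLeft,
      LinearMap.coe_mk, AddHom.coe_mk, Function.comp_apply, Equiv.symm_apply_apply]
    rw [hc, map_zero]
  have h2 := congrFun (hinj (h1.trans (map_zero φ).symm)) (E i)
  simpa using h2


/-- Let R be a commutative ring, j ∈ {0, 1, 2}, q a homogeneous polynomial of degree 2 in R[X_0, X_1,
X_2] whose coefficient of X_j^2 is a unit, and n a natural number. Then the family consisting of the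
monomials of degree n not divisible by X_j^2 (exponent of X_j at most 1) together with the products
q · m, m running over the monomials of degree n − 2 (indexed by exponents m with |m| + 2 = n), is
linearly independent over R and spans exactly the homogeneous polynomials of degree n; in particular
it is a basis of that module and the two parts are disjoint. (The published lemma is stated over a
field with the coefficient nonzero, the special case of a field R here; the version over a ring with
the coefficient invertible is what its change-of-basis argument gives — ordering monomials by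
decreasing exponent of X_j makes the matrix triangular with diagonal entries 1 and that coefficient
— and is the form used to trivialise the bundle of degree-n forms modulo multiples of q over the
locus where the coefficient is invertible. The published lemma also allows an arbitrary monomial of
degree 2 in place of X_j^2; for the mixed monomial X_1X_2, the form q = X_1^2 + X_1X_2 + X_2^2 and n
= 3 give the linear relation q·X_1 − q·X_2 = X_1^3 − X_2^3 among members of the family, so the claim
fails there and is stated here for the square of a variable.) -/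
theorem result
    (R : Type u) [CommRing R] (j : Fin 3) (q : MvPolynomial (Fin 3) R)
    (hq : q.IsHomogeneous 2) (hqj : IsUnit (q.coeff (Finsupp.single j 2))) (n : ℕ) :
    LinearIndependent R (Sum.elim (fun m : {m : Fin 3 →₀ ℕ // m.degree = n ∧ m j < 2} => MvPolynomial.monomial m.1 (1 : R)) (fun m : {m : Fin 3 →₀ ℕ // m.degree + 2 = n} => q * MvPolynomial.monomial m.1 (1 : R))) ∧
      Submodule.span R (Set.range (Sum.elim (fun m : {m : Fin 3 →₀ ℕ // m.degree = n ∧ m j < 2} => MvPolynomial.monomial m.1 (1 : R)) (fun m : {m : Fin 3 →₀ ℕ // m.degree + 2 = n} => q * MvPolynomial.monomial m.1 (1 : R)))) = MvPolynomial.homogeneousSubmodule (Fin 3) R n := by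
  exact main R j q hq hqj n _ (fun _ => rfl) (fun _ => rfl)

end Groth.Agent.S18994
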