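import Groth.Statements.S18995
import Groth.Agent.Desc44.ProjBundle.Main
import Groth.Agent.EpiLocus.Basic
import Groth.Agent.Omega.Stalks
import Groth.Agent.Grass52.QuotBC
import Groth.Agent.VBLib.Basic
import Groth.Agent.CycLib.ProjBdl.BundleBC

set_option autoImplicit false
set_option backward.isDefEq.respectTransparency false
set_option backward.isDefEq.respectTransparency.types false
universe u
open CategoryTheory AlgebraicGeometry
open ProjBd CategoryTheory.Limits

namespace Groth.Agent.S18995

open Groth.Agent.PullStalk.Sky Groth.Agent.PullStalk.Exact Opposite in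
/-- over a field a map to a line is zero or onto -/
theorem eq_zero_or_epi {K : Type u} [Field K] {F L : (Spec (CommRingCat.of K)).Modules}
    (hL : FlatMod.IsFinLocFreeOfRank 1 L) (s : F ⟶ L) : s = 0 ∨ Epi s := by
  refine or_iff_not_imp_left.2 fun hs => Omega.Stalks.epi_of_stalk fun t y => ?_
  obtain ⟨U, ε, ht, hε⟩ := Desc44.ProjBundle.exists_frame_of_rank hL t
  have hb := hε.stalkComb_bijective t ht
  have : IsField ((Spec (CommRingCat.of K)).presheaf.stalk t) := by
    obtain rfl : t = genericPoint (Spec (CommRingCat.of K)) := Subsingleton.elim _ _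
    exact Field.toIsField ((Spec (CommRingCat.of K)).functionField)
  obtain ⟨z, hz⟩ : ∃ z, stalkLin s t z ≠ 0 := by
    by_contra! h
    refine hs (Omega.Stalks.hom_ext_stalk fun t' => ?_)
    obtain rfl : t = t' := Subsingleton.elim _ _
    exact LinearMap.ext fun z => (h z).trans (Omega.Stalks.stalkLin_zero t z).symm
  obtain ⟨a, ha⟩ := hb.2 (stalkLin s t z)
  obtain ⟨b, hb'⟩ := hb.2 y
  have ha0 : a 0 ≠ 0 := fun h => hz (by
    rw [← ha, show a = 0 from funext fun i => by rw [Subsingleton.elim i 0, h]; rfl, map_zero])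
  obtain ⟨c, hc⟩ := this.mul_inv_cancel ha0
  refine ⟨(b 0 * c) • z, ?_⟩
  rw [map_smul, ← ha, ← map_smul, ← hb']
  congr 1
  funext i
  rw [Subsingleton.elim i 0, Pi.smul_apply, smul_eq_mul, mul_assoc, mul_comm c, hc, mul_one]

theorem quotBC_map {T G X : Scheme.{u}} {π : G ⟶ X} {A E : X.Modules} {Q : G.Modules} {h : T ⟶ G}
    {g : T ⟶ X} (hg : h ≫ π = g) (f : A ⟶ E) (q : (Scheme.Modules.pullback π).obj E ⟶ Q) :
    Grass.quotBC hg ((Scheme.Modules.pullback π).map f ≫ q) =
      (Scheme.Modules.pullback g).map f ≫ Grass.quotBC hg q := by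
  subst hg
  have hnat : (Scheme.Modules.pullback (h ≫ π)).map f ≫ (Scheme.Modules.pullbackComp h π).inv.app E =
      (Scheme.Modules.pullbackComp h π).inv.app A ≫
        (Scheme.Modules.pullback h).map ((Scheme.Modules.pullback π).map f) :=
    (Scheme.Modules.pullbackComp h π).inv.naturality f
  unfold Grass.quotBC
  rw [Grass52.congr_refl (h ≫ π), Grass52.congr_refl (h ≫ π), Category.id_comp, Category.id_comp, Functor.map_comp,
    reassoc_of% hnat]

theorem exists_desc {X T : Scheme.{u}} (g : T ⟶ X) (S : ShortComplex X.Modules) (hS : S.ShortExact)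
    {L : T.Modules} (s : (Scheme.Modules.pullback g).obj S.X₂ ⟶ L)
    (h : (Scheme.Modules.pullback g).map S.f ≫ s = 0) :
    ∃ s' : (Scheme.Modules.pullback g).obj S.X₃ ⟶ L, (Scheme.Modules.pullback g).map S.g ≫ s' = s := by
  have := hS.epi_g
  have : PreservesColimitsOfShape WalkingParallelPair (Scheme.Modules.pullback g) :=
    (Scheme.Modules.pullbackPushforwardAdjunction g).leftAdjoint_preservesColimits.preservesColimitsOfShape
  have hc := CokernelCofork.mapIsColimit _ hS.exact.gIsCokernel (Scheme.Modules.pullback g)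
  exact ⟨hc.desc (CokernelCofork.ofπ s h), hc.fac _ WalkingParallelPair.one⟩

/-- Let X be a scheme and 0 → A → E → B → 0 a short exact sequence of finite locally free O_X-modules.
Let (π : P → X, O(1), q) be the projective bundle of rank-one quotients of E and (π_B : P_B → X,
O_B(1), q_B) that of B, each given through its universal property, and let c : P_B → P be the
morphism over X together with an isomorphism c^*O(1) ≅ O_B(1) identifying c^*q with π_B^*E → π_B^*B
→ O_B(1); thus c is the closed sub-bundle P(B) ⊂ P(E). Then for every open subset W of P that does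
not meet the image of c, the restriction to W of the composite π^*A → π^*E → O(1) is an epimorphism
of O_W-modules. Consequently W carries an invertible quotient of the pull-back of A and hence a
morphism to P(A) over X, the projection away from the sub-bundle. (In the convention where a
projective bundle parametrises lines rather than rank-one quotients, this is the statement that for
an exact sequence 0 → F → E → G → 0 of locally free sheaves the tautological line sub-bundle of E
restricted to the complement of P(F) in P(E) maps isomorphically onto a line sub-bundle of the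
pull-back of G, giving the canonical morphism from that complement to P(G); A, E, B here are the
duals of G, E, F there. The published statement takes X of finite type over a field; the row is
stated for an arbitrary scheme X, which the argument allows.) -/
theorem result
    (X P PB : Scheme.{u}) (S : ShortComplex X.Modules) (hS : S.ShortExact)
    (hA : FlatMod.IsFinLocFree S.X₁) (hE : FlatMod.IsFinLocFree S.X₂) (hB : FlatMod.IsFinLocFree S.X₃)
    (π : P ⟶ X) (O1 : P.Modules) (q : (Scheme.Modules.pullback π).obj S.X₂ ⟶ O1)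
    (hP : KRR.IsProjBundle π S.X₂ O1 q)
    (πB : PB ⟶ X) (O1B : PB.Modules) (qB : (Scheme.Modules.pullback πB).obj S.X₃ ⟶ O1B)
    (hPB : KRR.IsProjBundle πB S.X₃ O1B qB)
    (c : PB ⟶ P) (hc : c ≫ π = πB) (ec : (Scheme.Modules.pullback c).obj O1 ≅ O1B)
    (hcq : (Scheme.Modules.pullbackCongr hc).inv.app S.X₂ ≫ (Scheme.Modules.pullbackComp c π).inv.app S.X₂ ≫
      (Scheme.Modules.pullback c).map q ≫ ec.hom = (Scheme.Modules.pullback πB).map S.g ≫ qB)
    (W : P.Opens) (hW : Disjoint (W : Set P) (Set.range c.base)) :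
    Epi ((Scheme.Modules.pullback W.ι).map ((Scheme.Modules.pullback π).map S.f ≫ q)) := by
  let φ := (Scheme.Modules.pullback π).map S.f ≫ q
  have hO : FlatMod.IsFinLocFree O1 := fun y =>
    let ⟨U, hy, h⟩ := hP.invertible y
    ⟨U, 1, hy, h⟩
  have := (VBLib.isCoh_of_isFinLocFree hA).1
  obtain ⟨U, hU⟩ := EpiLocus.exists_opens_epi_pullback
    (E := (Scheme.Modules.pullback π).obj S.X₁) (QCoh.isQuasicoherent_pullback π S.X₁)
    (VBLib.isCoh_of_isFinLocFree hO) φ
  refine (hU _ W.ι).1 ?_
  rw [Scheme.Opens.range_ι]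
  intro w hw
  by_contra hwU
  let x := P.fromSpecResidueField w
  have hpt : Set.range x.base = {w} := Scheme.range_fromSpecResidueField w
  have hL := CycLib.ProjBdl.isFinLocFreeOfRank_pullback x hP.invertible
  have h0 : (Scheme.Modules.pullback x).map φ = 0 :=
    (eq_zero_or_epi (K := P.residueField w) hL _).resolve_right fun h =>
      hwU (((hU _ x).2 h) (by rw [hpt]; rfl))
  have hkill : (Scheme.Modules.pullback (x ≫ π)).map S.f ≫ Grass.quotBC (rfl : x ≫ π = x ≫ π) q = 0 := by
    rw [← quotBC_map]
    unfold Grass.quotBC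
    rw [h0, Limits.comp_zero, Limits.comp_zero]
  obtain ⟨sB, hsB⟩ := exists_desc (x ≫ π) S hS _ hkill
  have hepi : Epi sB := by
    have : Epi ((Scheme.Modules.pullback (x ≫ π)).map S.g ≫ sB) := by
      rw [hsB]; exact Grass52.epi_quotBC _ q hP.epi
    exact epi_of_epi ((Scheme.Modules.pullback (x ≫ π)).map S.g) sB
  obtain ⟨h, ⟨hg, e, he⟩, -⟩ := hPB.univ _ (x ≫ π) _ hL sB hepi
  obtain ⟨h', -, huniq⟩ := hP.univ _ (x ≫ π) _ hL (Grass.quotBC (rfl : x ≫ π = x ≫ π) q)
    (Grass52.epi_quotBC _ q hP.epi)
  have hgp : (h ≫ c) ≫ π = x ≫ π := by rw [Category.assoc, hc, hg]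
  have hcq' : Grass.quotBC hc q ≫ ec.hom = (Scheme.Modules.pullback πB).map S.g ≫ qB := by
    rw [← hcq]; simp only [Grass.quotBC, Category.assoc]
  have he' : Grass.quotBC hg qB ≫ e.hom = sB := by
    rw [← he]; simp only [Grass.quotBC, Category.assoc]
  have := Grass52.isIso_quotBC (rfl : h ≫ c = h ≫ c) ec.hom
  have h1 : h ≫ c = h' := huniq _ ⟨hgp, asIso (Grass.quotBC (rfl : h ≫ c = h ≫ c) ec.hom) ≪≫ e, by
    have := Grass52.quotBC_quotBC hgp (rfl : h ≫ c = h ≫ c) hc hg q ec.hom
    rw [hcq', quotBC_map] at this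
    simp only [Grass.quotBC, Category.assoc] at this he' hsB ⊢
    simp only [Iso.trans_hom, asIso_hom, Category.assoc]
    rw [reassoc_of% this, he', hsB]⟩
  have h2 : x = h' := huniq _ ⟨rfl, Iso.refl _, by simp [Grass.quotBC]⟩
  refine Set.disjoint_left.1 hW hw ?_
  have hw' : w ∈ Set.range (h ≫ c).base := by rw [h1, ← h2, hpt]; rfl
  obtain ⟨z, hz⟩ := hw'
  exact ⟨h.base z, hz⟩

end Groth.Agent.S18995
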