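import Groth.Statements.S18999
import Groth.Agent.DualAbs.SurfRR
import Groth.Agent.Gor.LCI
import Groth.Agent.S0341
-- import your own Groth.Agent.* helpers here

set_option autoImplicit false
universe u
open CategoryTheory CategoryTheory.Limits AlgebraicGeometry
open Surf

namespace Groth.Agent.S18999

/-- Let k be a field and X an integral scheme of dimension two admitting a closed immersion into some
P^n_k over k, such that X → Spec k is a local complete intersection morphism. Let (ω, t) be a
dualizing sheaf for X — ω coherent, t a k-linear form on H^2(X, ω), such that for every coherent F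
and every k-linear form ψ on H^2(X, F) there is exactly one φ : F → ω with ψ = t ∘ H^2(φ) — and
assume ω invertible (as it is, X being Gorenstein). Then for every invertible O_X-module L one has
2χ(L) = (L·L) − (L·ω) + 2χ(O_X), where (A·B) = χ(O_X) − χ(A) − χ(B) + χ(A ⊗ B) is the intersection
number (packaged as FGA.intNum) and all dimensions are over k. (The published statement is for a
proper two-dimensional variety of local complete intersection over k, with Euler characteristics
over the field of global functions; this row assumes X projective over k and counts dimensions over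
k, which multiplies both sides by the same degree.) -/
theorem result (k : Type u) [Field k] (X : Scheme.{u}) [X.Over (Spec (CommRingCat.of k))]
    [IsIntegral X] (hdim : topologicalKrullDim X = 2)
    (hproj : ∃ (n : ℕ) (ι : X ⟶ CohB1.ProjSpace n k), IsClosedImmersion ι ∧ ι ≫ CohB1.ProjSpace.toSpec n k = (X ↘ (Spec (CommRingCat.of k))))
    (hlci : Dual3.IsLCIMor (X ↘ (Spec (CommRingCat.of k))))
    (ω : X.Modules) (hωcoh : Coh.IsCoh ω) (hωinv : PicF.IsInvertible ω) (t : Coh.HH X ω 2 →ₗ[k] k)
    (hdual : ∀ F : X.Modules, Coh.IsCoh F → ∀ ψ : Coh.HH X F 2 →ₗ[k] k,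
        ∃! φ : F ⟶ ω, ∀ x : Coh.HH X F 2,
          ψ x = t (Sheaf.H.map ((SheafOfModules.toSheaf X.ringCatSheaf).map φ) 2 x))
    (L : X.Modules) (hL : PicF.IsInvertible L) :
    2 * Curv2.euler k X L = FGA.intNum k X 2 ![L, L] (Coh.structureModule X) - FGA.intNum k X 2 ![L, ω] (Coh.structureModule X) + 2 * Curv2.euler k X (Coh.structureModule X) := by
  obtain ⟨N, ι, _, hι⟩ := hproj
  haveI : IsProper (CohB1.ProjSpace.toSpec N k) := ProjProper.Basic.isProper_toSpec N k
  haveI : IsProper (X ↘ Spec (CommRingCat.of k)) := by rw [← hι]; infer_instance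
  have hn : topologicalKrullDim ↥X = ((2 : ℕ) : WithBot ℕ∞) := by rw [hdim]; rfl
  have heq : ∀ Z : Set ↥X, Z ∈ irreducibleComponents ↥X → topologicalKrullDim ↥Z = ((2 : ℕ) : WithBot ℕ∞) := by
    intro Z hZ
    rw [irreducibleComponents_eq_singleton, Set.mem_singleton_iff] at hZ
    subst hZ
    rw [IsHomeomorph.topologicalKrullDim_eq _ (Homeomorph.Set.univ _).isHomeomorph]
    exact hn
  have hCM : ∀ x : X, LocCoh.IsCohenMacaulayLocalRing (X.presheaf.stalk x) := fun x => by
    obtain ⟨U, V, e, hx, hU⟩ := hlci x
    have hV : V.1 = ⊤ := by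
      ext y
      simp only [TopologicalSpace.Opens.coe_top, Set.mem_univ, iff_true]
      exact (Subsingleton.elim ((X ↘ Spec (CommRingCat.of k)).base x) y) ▸ e hx
    letI : Algebra Γ(Spec (CommRingCat.of k), V.1) Γ(X, U.1) :=
      ((X ↘ Spec (CommRingCat.of k)).appLE V.1 U.1 e).hom.toAlgebra
    have hk : LocCoh.IsGorensteinRing Γ(Spec (CommRingCat.of k), V.1) := by
      rw [hV]
      exact Gor.Ring.isGorensteinRing_of_ringEquiv
        (Scheme.ΓSpecIso (CommRingCat.of k)).commRingCatIsoToRingEquiv.symm
        (Gor.Ring.isGorensteinRing_of_isRegularRing k)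
    have hG : LocCoh.IsGorensteinRing Γ(X, U.1) := Gor.LCI.isGorensteinRing_of_isLCI hk hU
    letI := X.presheaf.algebra_section_stalk (U := U.1) ⟨x, hx⟩
    haveI := U.2.isLocalization_stalk ⟨x, hx⟩
    haveI : LocCoh.IsGorensteinLocalRing (X.presheaf.stalk x) :=
      Gor.Ring.gorenstein_of_isLocalization_atPrime hG (U.2.primeIdealOf ⟨x, hx⟩).asIdeal _
    exact S0341.result _
  obtain ⟨L', hL', ⟨e⟩⟩ := PicLaw.exists_inverse hL
  let e' : CohB1.tensorMod L' L ≅ Coh.structureModule X := ProjTwist.tensComm L' L ≪≫ e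
  have hO := PicLoc.isInvertible_structureModule X
  refine DualAbs.SurfRR.rr k hn.le hL hωinv hL' e ?_ ?_
  · rw [DualAbs.SurfRR.euler_dual ι hι hn hCM heq ω hωcoh t hdual hO
      (ProjTwist.tensOne (Coh.structureModule X)) (Snapper.isCoh_tensorMod k hO hωcoh)]
    exact EulerChar.euler_iso k ((ProjTwist.tensOne ω).symm ≪≫ ProjTwist.tensComm ω _)
  · rw [DualAbs.SurfRR.euler_dual ι hι hn hCM heq ω hωcoh t hdual hL' e (Snapper.isCoh_tensorMod k hL hωcoh)]
    exact EulerChar.euler_iso k (ProjTwist.tensComm ω L)

end Groth.Agent.S18999
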