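import Groth.Statements.S1900
import Groth.Agent.S1902
import Groth.Agent.S9684
import Groth.Agent.ProjProper.Basic

set_option autoImplicit false
universe u
open CategoryTheory AlgebraicGeometry
open CategoryTheory.Limits
open Cyc

namespace Groth.Agent.S1900

/-- Let W → P^1_X be a closed immersion with W integral of δ-dimension k + 1 (for the dimension function
on P^1_X induced from δ on X), whose generic point lies neither over the zero section nor over the
section at infinity. Let W_0, W_∞ → X be the pullbacks of W along the two sections X → P^1_X (closed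
subschemes of X). Then [W_0]_k ∼_rat [W_∞]_k on X. A pair (X, δ) with Cyc.IsSetup plays the role of
a scheme locally of finite type over a fixed base with a dimension function (X locally Noetherian
with universally catenary local rings, δ a dimension function), and Cyc.DeltaCompat records that the
dimension function upstairs is the induced one. -/
theorem result (X : Scheme.{u}) (δ : X → ℤ) (hX : Cyc.IsSetup X δ) (δP : ↥(CohB1.ProjSpaceOver 1 X) → ℤ) (hP : Cyc.DeltaCompat (CohB1.ProjSpaceOver.toBase 1 X) δP δ) (k : ℤ) (W : Scheme.{u}) [IsIntegral W] (ι : W ⟶ CohB1.ProjSpaceOver 1 X) [IsClosedImmersion ι] (hW : δP (ι (genericPoint W)) = k + 1) (h0 : ι (genericPoint W) ∉ Set.range ⇑(P1.sect X 0)) (h1 : ι (genericPoint W) ∉ Set.range ⇑(P1.sect X 1)) (α β : AlgebraicCycle X ℤ) (hα : ⇑α = Cyc.subschemeFun δ k (pullback.snd ι (P1.sect X 0))) (hβ : ⇑β = Cyc.subschemeFun δ k (pullback.snd ι (P1.sect X 1))) : Cyc.RatEquiv δ k α β := by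
  classical
  haveI := hX.1
  haveI : IsProper (CohB1.ProjSpaceOver.toBase 1 X) := Groth.Agent.ProjProper.Basic.isProper_toBase 1 X
  have hd : Cyc.IsDimFun (CohB1.ProjSpaceOver 1 X) δP :=
    Groth.Agent.S9684.result (CohB1.ProjSpaceOver.toBase 1 X) δ hX δP hP
  have hle : ∀ z : W, ι z ≠ ι (genericPoint W) → δP (ι z) < k + 1 := fun z hz => by
    have h := (hd _ _ ((genericPoint_specializes z).map ι.continuous) (Ne.symm hz)).1
    omega
  have hsec : ∀ z : W, ι z ∈ Set.range ⇑(P1.sect X 0) ∪ Set.range ⇑(P1.sect X 1) → z ≠ genericPoint W := by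
    rintro z (hz | hz) rfl
    · exact h0 hz
    · exact h1 hz
  refine Groth.Agent.S1902.result X δ hX δP hP k W ι (fun z => ?_) (fun z hz => ?_) (fun z hz => ?_) α β hα hβ
  · by_cases h : ι z = ι (genericPoint W)
    · rw [h, hW]
    · exact (hle z h).le
  · have h := hle z fun h => hsec z hz (ι.isClosedEmbedding.injective h)
    omega
  · -- only the generic point is associated
    obtain rfl : z = genericPoint W := by
      obtain ⟨x, hx⟩ := hz.eq_radical_colon
      have hx0 : x ≠ 0 := by
        rintro rfl
        refine hz.toIsPrime.ne_top (hx.trans ?_)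
        rw [Ideal.radical_eq_top, Ideal.eq_top_iff_one, Submodule.mem_colon_singleton, smul_zero]
        exact zero_mem _
      have hm : IsLocalRing.maximalIdeal (W.presheaf.stalk z) = ⊥ := by
        rw [hx, show (⊥ : Submodule (W.presheaf.stalk z) (W.presheaf.stalk z)).colon {x} = ⊥ from ?_]
        · exact (Ideal.radical_bot_of_isReduced).le.antisymm bot_le
        · refine eq_bot_iff.2 fun r hr => ?_
          rw [Submodule.mem_colon_singleton, Submodule.mem_bot, smul_eq_mul, mul_eq_zero] at hr
          exact (Submodule.mem_bot _).2 (hr.resolve_right hx0)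
      have hη : genericPoint W ∈ Set.range (W.fromSpecStalk z) := by
        rw [Scheme.range_fromSpecStalk]
        exact genericPoint_specializes z
      obtain ⟨p, hp⟩ := hη
      have hpc : p = IsLocalRing.closedPoint (W.presheaf.stalk z) := PrimeSpectrum.ext <| by
        refine le_antisymm (IsLocalRing.le_maximalIdeal p.isPrime.ne_top) ?_
        show IsLocalRing.maximalIdeal (W.presheaf.stalk z) ≤ p.asIdeal
        rw [hm]
        exact bot_le
      rw [hpc, Scheme.fromSpecStalk_closedPoint] at hp
      exact hp
    refine Or.inl ?_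
    rintro (h | h)
    · exact h0 h
    · exact h1 h

end Groth.Agent.S1900
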