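import Groth.Statements.S19001
import Groth.Agent.EtRamLib.InsepPerturb
import Groth.Agent.GeomIrredField.SepClosed
import Mathlib.AlgebraicGeometry.FunctionField
import Mathlib.AlgebraicGeometry.Morphisms.Proper
-- import your own Groth.Agent.* helpers here

set_option autoImplicit false
universe u
open CategoryTheory CategoryTheory.Limits AlgebraicGeometry
open FBase

open scoped TensorProduct
open TopologicalSpace

namespace Groth.Agent.S19001

instance (X : Scheme.{u}) [Nonempty X] : Nonempty ((⊤ : X.Opens) : Type u) :=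
  ⟨⟨Classical.arbitrary _, trivial⟩⟩

/-- A global section exists with given image in all local rings. -/
lemma exists_global {X : Scheme.{u}} [IsIntegral X] (z : X.functionField)
    (hz : ∀ x : X, ∃ a, algebraMap (X.presheaf.stalk x) X.functionField a = z) :
    ∃ s : Γ(X, ⊤), X.germToFunctionField ⊤ s = z := by
  have H : ∀ x : X, ∃ (U : X.Opens) (_ : x ∈ U) (s : Γ(X, U)),
      ∀ (hg : genericPoint X ∈ U), X.presheaf.germ U _ hg s = z := by
    intro x
    obtain ⟨a, ha⟩ := hz x
    obtain ⟨U, hx, s, rfl⟩ := X.presheaf.exists_germ_eq a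
    haveI : Nonempty U := ⟨⟨x, hx⟩⟩
    refine ⟨U, hx, s, fun hg => ?_⟩
    rw [← ha, Scheme.algebraMap_germ_eq_germToFunctionField]
  choose U hU s hs using H
  have hgen : ∀ V : X.Opens, (V : Set X).Nonempty → genericPoint X ∈ V := fun V hV =>
    ((genericPoint_spec X).mem_open_set_iff V.2).mpr (by simpa using hV)
  obtain ⟨t, ht, -⟩ := TopCat.Sheaf.existsUnique_gluing' X.sheaf U ⊤ (fun x => homOfLE le_top)
    (fun x _ => Opens.mem_iSup.2 ⟨x, hU x⟩) s (fun a b => by
      by_cases hab : ((U a ⊓ U b : X.Opens) : Set X).Nonempty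
      · apply germ_injective_of_isIntegral X (U := U a ⊓ U b) _ (hgen _ hab)
        exact (TopCat.Presheaf.germ_res_apply X.presheaf _ _ _ (s a)).trans
          ((hs a (hgen _ hab).1).trans ((TopCat.Presheaf.germ_res_apply X.presheaf _ _ _ (s b)).trans
            (hs b (hgen _ hab).2)).symm)
      · refine TopCat.Presheaf.section_ext X.sheaf _ _ _ fun y hy => ?_
        exact (hab ⟨y, hy⟩).elim)
  obtain ⟨x⟩ := (inferInstance : Nonempty X)
  refine ⟨t, ?_⟩
  have hg := hgen (U x) ⟨x, hU x⟩
  rw [← hs x hg, ← ht x]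
  exact (TopCat.Presheaf.germ_res_apply X.presheaf _ _ _ t).symm

/-- Geometric reducedness on the function field. -/
lemma isReduced_tensor {X : Scheme.{u}} [IsIntegral X] {E : Type u} [Field E] (i : Γ(X, ⊤) →+* E)
    (hK : IsField Γ(X, ⊤))
    (h : AlgebraicGeometry.IsReduced (pullback X.toSpecΓ (Spec.map (CommRingCat.ofHom i)))) :
    letI := i.toAlgebra
    letI := (X.germToFunctionField ⊤).hom.toAlgebra
    _root_.IsReduced (E ⊗[Γ(X, ⊤)] X.functionField) := by
  letI := hK.toField
  letI := i.toAlgebra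
  letI := (X.germToFunctionField ⊤).hom.toAlgebra
  obtain ⟨x⟩ := (inferInstance : Nonempty X)
  obtain ⟨U, hU, hxU, -⟩ := exists_isAffineOpen_mem_and_subset (X := X) (x := x) (U := ⊤) trivial
  haveI : Nonempty U := ⟨⟨x, hxU⟩⟩
  letI := (X.presheaf.map (homOfLE (le_top : U ≤ ⊤)).op).hom.toAlgebra
  haveI := functionField_isFractionRing_of_isAffineOpen X U hU
  have hr : _root_.IsReduced (E ⊗[Γ(X, ⊤)] Γ(X, U)) := by
    haveI := h
    let g := Spec.map (CommRingCat.ofHom i)
    let π := pullback.snd U.ι (pullback.fst X.toSpecΓ g)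
    haveI : IsReduced (pullback U.ι (pullback.fst X.toSpecΓ g)) := isReduced_of_isOpenImmersion π
    haveI h1 : IsReduced (pullback (U.ι ≫ X.toSpecΓ) g) :=
      isReduced_of_isOpenImmersion (pullbackRightPullbackFstIso X.toSpecΓ g U.ι).inv
    let φ := Spec.map (X.presheaf.map (homOfLE (le_top : U ≤ ⊤)).op)
    have e : U.ι ≫ X.toSpecΓ = hU.isoSpec.hom ≫ φ := by
      rw [IsAffineOpen.isoSpec_hom]
      exact (Scheme.Opens.toSpecΓ_SpecMap_presheaf_map_top U).symm
    let m : pullback φ g ⟶ pullback (U.ι ≫ X.toSpecΓ) g :=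
      pullback.map _ _ _ _ hU.isoSpec.inv (𝟙 _) (𝟙 _) (by rw [e]; simp) (by simp)
    haveI h2 : IsReduced (pullback φ g) := isReduced_of_isOpenImmersion m
    haveI h3 : IsReduced (Spec (CommRingCat.of (Γ(X, U) ⊗[Γ(X, ⊤)] E))) :=
      isReduced_of_isOpenImmersion (pullbackSpecIso Γ(X, ⊤) Γ(X, U) E).inv
    haveI : _root_.IsReduced (Γ(X, U) ⊗[Γ(X, ⊤)] E) := (affine_isReduced_iff _).1 h3
    exact isReduced_of_injective (Algebra.TensorProduct.comm Γ(X, ⊤) E Γ(X, U)).toRingHom
      (Algebra.TensorProduct.comm Γ(X, ⊤) E Γ(X, U)).injective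
  let ψ : Γ(X, U) →ₐ[Γ(X, ⊤)] X.functionField :=
    { (X.germToFunctionField U).hom with
      commutes' := fun r => TopCat.Presheaf.germ_res_apply X.presheaf _ _ _ r }
  let Ψ := Algebra.TensorProduct.map (AlgHom.id Γ(X, ⊤) E) ψ
  have hΨ : Function.Injective Ψ :=
    Module.Flat.lTensor_preserves_injective_linearMap (M := E) ψ.toLinearMap (X.germToFunctionField_injective U)
  have key : ∀ w : E ⊗[Γ(X, ⊤)] X.functionField, ∃ (s : Γ(X, U)) (v : E ⊗[Γ(X, ⊤)] Γ(X, U)),
      s ≠ 0 ∧ w * (1 ⊗ₜ ψ s) = Ψ v := by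
    intro w
    induction w using TensorProduct.induction_on with
    | zero => exact ⟨1, 0, one_ne_zero, by simp⟩
    | tmul l q =>
      obtain ⟨a, s, hs, rfl⟩ := IsFractionRing.div_surjective (A := Γ(X, U)) q
      refine ⟨s, l ⊗ₜ a, nonZeroDivisors.ne_zero hs, ?_⟩
      rw [Algebra.TensorProduct.tmul_mul_tmul, mul_one]
      refine congrArg (l ⊗ₜ ·) (div_mul_cancel₀ _ ?_)
      exact (map_ne_zero_iff _ (X.germToFunctionField_injective U)).2 (nonZeroDivisors.ne_zero hs)
    | add a b ha hb =>
      obtain ⟨s, v, hs, hv⟩ := ha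
      obtain ⟨s', v', hs', hv'⟩ := hb
      refine ⟨s * s', v * (1 ⊗ₜ s') + v' * (1 ⊗ₜ s), mul_ne_zero hs hs', ?_⟩
      have e1 : ∀ t, Ψ (1 ⊗ₜ t) = 1 ⊗ₜ ψ t := fun t => rfl
      rw [map_add, map_mul Ψ, map_mul Ψ, e1, e1, ← hv, ← hv', map_mul ψ,
        show (1 : E) ⊗ₜ[Γ(X, ⊤)] (ψ s * ψ s') = (1 ⊗ₜ ψ s) * (1 ⊗ₜ ψ s') by simp]
      ring
  refine ⟨fun w ⟨n, hn⟩ => ?_⟩
  obtain ⟨s, v, hs, hv⟩ := key w
  have hv0 : v = 0 := IsReduced.eq_zero v ⟨n, hΨ (by rw [map_pow, ← hv, mul_pow, hn, zero_mul, map_zero])⟩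
  have hu : IsUnit ((1 : E) ⊗ₜ[Γ(X, ⊤)] ψ s) :=
    ((isUnit_iff_ne_zero).2 ((map_ne_zero_iff _ (X.germToFunctionField_injective U)).2 hs)).map
      Algebra.TensorProduct.includeRight
  rw [hv0, map_zero] at hv
  exact hu.mul_left_eq_zero.1 hv



/-- Let f : Z → X be a finite surjective morphism of integral schemes proper over a field k, with X
normal, and let d = [k(Z) : k(X)] be its degree on function fields (the residue fields at the
generic point of Z and at its image, the generic point of X). Write k_X = H^0(X, O_X) and k_Z =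
H^0(Z, O_Z) (fields, finite over k). If X is geometrically reduced over k_X — X ×_{k_X} E is reduced
for every field E over k_X, i.e. k(X) is separable over k_X — then [k_Z : k_X] divides d. (The
published statement does not assume that X is geometrically reduced over k_X; without that
hypothesis the divisibility fails: for k_0 = F_p(s, t), X the normal proper curve with function
field k_0(x, y), y^p = s + t x^p, and Z the projective line over k_0(s^{1/p}, t^{1/p}) mapping to X,
one has d = p but [k_Z : k_X] = p^2.) -/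
theorem result (k : Type u) [Field k]
    (X Z : Scheme.{u}) [X.Over (Spec (CommRingCat.of k))] [Z.Over (Spec (CommRingCat.of k))]
    [IsIntegral X] [IsIntegral Z]
    [IsProper (X ↘ Spec (CommRingCat.of k))] [IsProper (Z ↘ Spec (CommRingCat.of k))]
    (hXn : ∀ x : X, IsIntegrallyClosed (X.presheaf.stalk x))
    (f : Z ⟶ X) (hf : f ≫ (X ↘ Spec (CommRingCat.of k)) = Z ↘ Spec (CommRingCat.of k))
    [IsFinite f] [Surjective f]
    (hgr : ∀ (E : Type u) [Field E] (i : Γ(X, ⊤) →+* E),
      AlgebraicGeometry.IsReduced (pullback X.toSpecΓ (Spec.map (CommRingCat.ofHom i)))) :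
    letI := f.appTop.hom.toAlgebra;
    letI := (f.residueFieldMap (genericPoint Z)).hom.toAlgebra;
    Module.finrank Γ(X, ⊤) Γ(Z, ⊤) ∣ Module.finrank (X.residueField (f.base (genericPoint Z))) (Z.residueField (genericPoint Z)) := by
  have hKf : IsField Γ(X, ⊤) := isField_of_universallyClosed k (X ↘ Spec (CommRingCat.of k))
  have hLf : IsField Γ(Z, ⊤) := isField_of_universallyClosed k (Z ↘ Spec (CommRingCat.of k))
  have hfin : f.appTop.hom.Finite := by
    have h := finite_appTop_of_universallyClosed k (Z ↘ Spec (CommRingCat.of k))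
    rw [← hf, Scheme.Hom.comp_appTop, CommRingCat.hom_comp] at h
    exact RingHom.Finite.of_comp_finite h
  have hη : f.base (genericPoint Z) = genericPoint X := by
    refine ((genericPoint_spec Z).image f.continuous).eq ?_
    rw [Set.image_univ, f.surjective.range_eq, closure_univ]
    exact genericPoint_spec X
  let j0 : X.functionField ⟶ X.residueField (f.base (genericPoint Z)) :=
    X.presheaf.stalkSpecializes (specializes_of_eq hη) ≫ X.residue _
  letI := hKf.toField
  letI := hLf.toField
  letI algL := f.appTop.hom.toAlgebra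
  letI algF := (X.germToFunctionField ⊤).hom.toAlgebra
  letI algKZ := (f.residueFieldMap (genericPoint Z)).hom.toAlgebra
  haveI : Module.Finite Γ(X, ⊤) Γ(Z, ⊤) := hfin
  haveI : IsReduced (Γ(Z, ⊤) ⊗[Γ(X, ⊤)] X.functionField) := isReduced_tensor f.appTop.hom hKf (hgr _ _)
  have hsep : GeomIrredField.SepClosedIn Γ(X, ⊤) X.functionField := by
    intro z hz
    have hint := hz.isIntegral
    refine (exists_global z fun x => ?_).imp fun s hs => hs
    letI : Algebra Γ(X, ⊤) (X.presheaf.stalk x) := (X.presheaf.germ ⊤ x trivial).hom.toAlgebra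
    haveI : IsScalarTower Γ(X, ⊤) (X.presheaf.stalk x) X.functionField :=
      IsScalarTower.of_algebraMap_eq fun r => (Scheme.algebraMap_germ_eq_germToFunctionField X (U := ⊤) trivial r).symm
    haveI := hXn x
    exact IsIntegrallyClosed.isIntegral_iff.1 (hint.tower_top (A := X.presheaf.stalk x))
  haveI hprime := hsep.isPrime_nilradical_finite Γ(Z, ⊤)
  haveI : IsDomain (Γ(Z, ⊤) ⊗[Γ(X, ⊤)] X.functionField) := by
    rw [nilradical_eq_zero] at hprime
    haveI : (⊥ : Ideal (Γ(Z, ⊤) ⊗[Γ(X, ⊤)] X.functionField)).IsPrime := hprime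
    exact (RingEquiv.quotientBot _).toMulEquiv.isDomain_iff.1 (Ideal.Quotient.isDomain _)
  let comm := Algebra.TensorProduct.comm Γ(X, ⊤) X.functionField Γ(Z, ⊤)
  haveI : IsDomain (X.functionField ⊗[Γ(X, ⊤)] Γ(Z, ⊤)) := comm.toMulEquiv.isDomain_iff.2 inferInstance
  have hE : IsField (X.functionField ⊗[Γ(X, ⊤)] Γ(Z, ⊤)) :=
    isField_of_isIntegral_of_isField' (R := X.functionField) (Field.toIsField _)
  letI := hE.toField
  letI algFK : Algebra X.functionField (Z.residueField (genericPoint Z)) :=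
    ((f.residueFieldMap (genericPoint Z)).hom.comp j0.hom).toAlgebra
  letI algKK : Algebra Γ(X, ⊤) (Z.residueField (genericPoint Z)) :=
    ((Z.Γevaluation (genericPoint Z)).hom.comp f.appTop.hom).toAlgebra
  haveI : IsScalarTower Γ(X, ⊤) X.functionField (Z.residueField (genericPoint Z)) :=
    IsScalarTower.of_algebraMap_eq fun r => by
      refine (Scheme.Γevaluation_naturality_apply f (genericPoint Z) r).symm.trans ?_
      show f.residueFieldMap (genericPoint Z) _ = f.residueFieldMap (genericPoint Z) (j0 (X.germToFunctionField ⊤ r))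
      refine congrArg _ ?_
      exact (congrArg (X.residue _).hom (congr($(X.presheaf.germ_stalkSpecializes (U := ⊤) trivial
        (specializes_of_eq hη)).hom r))).symm
  let Φ : X.functionField ⊗[Γ(X, ⊤)] Γ(Z, ⊤) →ₐ[X.functionField] Z.residueField (genericPoint Z) :=
    Algebra.TensorProduct.lift (Algebra.ofId _ _)
      { (Z.Γevaluation (genericPoint Z)).hom with commutes' := fun r => rfl } (fun _ _ => Commute.all _ _)
  letI : Algebra (X.functionField ⊗[Γ(X, ⊤)] Γ(Z, ⊤)) (Z.residueField (genericPoint Z)) := Φ.toRingHom.toAlgebra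
  haveI : IsScalarTower X.functionField (X.functionField ⊗[Γ(X, ⊤)] Γ(Z, ⊤)) (Z.residueField (genericPoint Z)) :=
    IsScalarTower.of_algebraMap_eq fun r => (Φ.commutes r).symm
  have hj : Function.Bijective j0.hom := by
    have hres : IsField (X.presheaf.stalk (f.base (genericPoint Z))) := by
      rw [hη]; exact Field.toIsField X.functionField
    refine ⟨j0.hom.injective, fun y => ?_⟩
    obtain ⟨a, rfl⟩ := X.residue_surjective _ y
    haveI : IsIso (X.presheaf.stalkSpecializes (specializes_of_eq hη)) := by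
      clear * -
      have : ∀ (a b : X) (h : a = b), IsIso (X.presheaf.stalkSpecializes (specializes_of_eq h)) := by
        rintro a b rfl
        rw [TopCat.Presheaf.stalkSpecializes_refl]; infer_instance
      exact this _ _ hη
    obtain ⟨b, rfl⟩ := (ConcreteCategory.bijective_of_isIso (X.presheaf.stalkSpecializes (specializes_of_eq hη))).2 a
    exact ⟨b, rfl⟩
  have hdeg : Module.finrank (X.residueField (f.base (genericPoint Z))) (Z.residueField (genericPoint Z)) =
      Module.finrank X.functionField (Z.residueField (genericPoint Z)) :=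
    (Algebra.finrank_eq_of_equiv_equiv (RingEquiv.ofBijective _ hj) (RingEquiv.refl _) (RingHom.ext fun r => rfl)).symm
  show Module.finrank Γ(X, ⊤) Γ(Z, ⊤) ∣ Module.finrank (X.residueField (f.base (genericPoint Z))) _
  rw [hdeg, ← Module.finrank_mul_finrank X.functionField (X.functionField ⊗[Γ(X, ⊤)] Γ(Z, ⊤)),
    Module.finrank_baseChange]
  exact dvd_mul_right _ _

end Groth.Agent.S19001
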