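import Groth.Statements.S19004
import Mathlib.LinearAlgebra.Vandermonde
import Mathlib.GroupTheory.Perm.Fin
import Mathlib.Order.Interval.Finset.Fin
import Mathlib.Algebra.MvPolynomial.Basic
import Mathlib.Tactic


set_option autoImplicit false
open GIT

namespace Groth.Agent.S19004

/-- For the group PGL(n) acting on the space of n × n matrices the T-quotient is (P^{n−1})^n with Chow
ring ℚ[t_1,…,t_n]/(t_1^n,…,t_n^n), the class c_top(g/t) is the product of all roots t_i − t_j (i ≠
j), and the computation in the proof shows that this product equals n!·t_1^{n−1}⋯t_n^{n−1} in that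
ring. Stated here as the equivalent coefficient identity in ℤ[t_1,…,t_n]: the coefficient of
t_1^{n−1}⋯t_n^{n−1} in the product over ordered pairs i ≠ j of (t_i − t_j) is n!. -/
theorem result (n : ℕ) :
    MvPolynomial.coeff (Finsupp.equivFunOnFinite.symm (fun _ : Fin n => n - 1))
      (∏ i : Fin n, ∏ j ∈ Finset.univ.erase i, (MvPolynomial.X i - MvPolynomial.X j : MvPolynomial (Fin n) ℤ)) = (n.factorial : ℤ) := by
  classical
  let V : Matrix (Fin n) (Fin n) (MvPolynomial (Fin n) ℤ) := Matrix.vandermonde MvPolynomial.X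
  let W : Matrix (Fin n) (Fin n) (MvPolynomial (Fin n) ℤ) := Matrix.vandermonde fun i => MvPolynomial.X i.rev
  have hprod : (∏ i : Fin n, ∏ j ∈ Finset.univ.erase i,
      (MvPolynomial.X i - MvPolynomial.X j : MvPolynomial (Fin n) ℤ)) = V.det * W.det := by
    have hs : ∀ i : Fin n, Finset.univ.erase i = Finset.Iio i ∪ Finset.Ioi i := by
      intro i; ext j; simp [lt_or_lt_iff_ne]
    simp only [V, W, Matrix.det_vandermonde]
    rw [Finset.prod_congr rfl fun i _ => by
      rw [hs i, Finset.prod_union (by rw [Finset.disjoint_left]; intro a; simp; exact le_of_lt)]]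
    rw [Finset.prod_mul_distrib]
    congr 1
    · exact Finset.prod_comm' (by simp)
    · rw [Finset.prod_comm' (s := Finset.univ) (t := fun i : Fin n => Finset.Ioi i)
        (t' := Finset.univ) (s' := fun j : Fin n => Finset.Iio j) (by simp)]
      refine Finset.prod_bij' (fun i _ => i.rev) (fun i _ => i.rev) (by simp) (by simp) (by simp) (by simp) ?_
      intro i _
      refine Finset.prod_bij' (fun j _ => j.rev) (fun j _ => j.rev) (by simp [Fin.rev_lt_rev, Fin.lt_rev_iff]) ?_ (by simp) (by simp) (by simp)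
      intro a ha
      simpa [Fin.rev_lt_iff, Fin.lt_rev_iff] using ha
  have hmono : ∀ e : Fin n → ℕ, (∏ a : Fin n, (MvPolynomial.X a : MvPolynomial (Fin n) ℤ) ^ e a) =
      MvPolynomial.monomial (Finsupp.equivFunOnFinite.symm e) 1 := by
    intro e
    rw [MvPolynomial.monomial_eq, Finsupp.prod_fintype _ _ (fun i => pow_zero _), map_one, one_mul]
    rfl
  have hV : ∀ σ : Equiv.Perm (Fin n), ∏ i, V (σ i) i =
      MvPolynomial.monomial (Finsupp.equivFunOnFinite.symm fun a => ((σ.symm a : Fin n) : ℕ)) 1 := by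
    intro σ
    refine (Fintype.prod_equiv σ _ (fun a => (MvPolynomial.X a : MvPolynomial (Fin n) ℤ) ^ ((σ.symm a : Fin n) : ℕ)) fun i => ?_).trans (hmono _)
    simp [V]
  have hW : ∀ σ : Equiv.Perm (Fin n), ∏ i, W (σ i) i =
      MvPolynomial.monomial (Finsupp.equivFunOnFinite.symm fun a => ((σ.symm a.rev : Fin n) : ℕ)) 1 := by
    intro σ
    refine (Fintype.prod_equiv (σ.trans Fin.revPerm) _ (fun a => (MvPolynomial.X a : MvPolynomial (Fin n) ℤ) ^ ((σ.symm a.rev : Fin n) : ℕ)) fun i => ?_).trans (hmono _)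
    simp [W]
  rw [hprod, Matrix.det_apply, Matrix.det_apply, Finset.sum_mul_sum, MvPolynomial.coeff_sum]
  simp only [MvPolynomial.coeff_sum, hV, hW, smul_mul_smul_comm, MvPolynomial.monomial_mul, one_mul]
  have key : ∀ σ τ : Equiv.Perm (Fin n),
      ((Finsupp.equivFunOnFinite.symm fun a => ((σ.symm a : Fin n) : ℕ)) +
        (Finsupp.equivFunOnFinite.symm fun a => ((τ.symm a.rev : Fin n) : ℕ)) =
      Finsupp.equivFunOnFinite.symm fun _ => n - 1) ↔ τ = (Fin.revPerm.trans σ).trans Fin.revPerm := by
    intro σ τ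
    have e : (τ = (Fin.revPerm.trans σ).trans Fin.revPerm) ↔ ∀ a, τ.symm a.rev = (σ.symm a).rev := by
      constructor
      · rintro rfl a; simp
      · intro h
        refine Equiv.symm_bijective.injective (Equiv.ext fun b => ?_)
        have := h b.rev
        simpa using this
    rw [e, Finsupp.ext_iff]
    refine forall_congr' fun a => ?_
    simp only [Finsupp.coe_add, Pi.add_apply, Finsupp.coe_equivFunOnFinite_symm, Fin.ext_iff, Fin.val_rev]
    constructor <;> intro h <;> omega
  simp only [MvPolynomial.coeff_smul, MvPolynomial.coeff_monomial, key, smul_ite, smul_zero, Finset.sum_ite_eq', Finset.mem_univ, if_true]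
  have hsign : ∀ σ : Equiv.Perm (Fin n), Equiv.Perm.sign ((Fin.revPerm.trans σ).trans Fin.revPerm) = Equiv.Perm.sign σ := by
    intro σ
    simp only [Equiv.Perm.sign_trans]
    rw [mul_comm (Equiv.Perm.sign σ) (Equiv.Perm.sign Fin.revPerm), ← mul_assoc, Int.units_mul_self, one_mul]
  simp [hsign, Int.units_mul_self, Fintype.card_perm]

end Groth.Agent.S19004
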