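import Groth.Statements.S19005
import Mathlib.Tactic.Abel


set_option autoImplicit false
open scoped TensorProduct
open K2Cent

namespace Groth.Agent.S19005

/-- For abelian groups X and M and ε in M with 2ε = 0 (in the source X is the character group of a split
torus and ε is the class of −1 among the units), the map x ↦ (x ⊗ x, −(x ⊗ ε)) into (X ⊗ X) × (X ⊗
M) is quadratic over ℤ, i.e. it underlies an integer quadratic map with exactly these values. -/
theorem result (X M : Type*) [AddCommGroup X]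
    [AddCommGroup M] (ε : M) (hε : 2 • ε = 0) :
    ∃ R : QuadraticMap ℤ X (TensorProduct ℤ X X × TensorProduct ℤ X M),
      ∀ x : X, R x = (x ⊗ₜ[ℤ] x, -(x ⊗ₜ[ℤ] ε)) := by
  have h2 : ∀ x : X, (x ⊗ₜ[ℤ] ε) + (x ⊗ₜ[ℤ] ε) = 0 := fun x => by
    rw [← TensorProduct.tmul_add, ← two_nsmul, hε, TensorProduct.tmul_zero]
  refine ⟨{ toFun := fun x => (x ⊗ₜ[ℤ] x, -(x ⊗ₜ[ℤ] ε))
            toFun_smul := fun a x => ?_
            exists_companion' := ⟨LinearMap.mk₂ ℤ
              (fun x y => (x ⊗ₜ[ℤ] y + y ⊗ₜ[ℤ] x, (0 : X ⊗[ℤ] M))) ?_ ?_ ?_ ?_, ?_⟩ },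
    fun x => rfl⟩
  · have he : Even (a * a - a) := by
      rw [show a * a - a = a * (a - 1) by ring]
      exact Int.even_mul_pred_self a
    obtain ⟨k, hk⟩ := he
    have h0 : ((a * a) • (x ⊗ₜ[ℤ] ε)) = a • (x ⊗ₜ[ℤ] ε) := by
      rw [← sub_eq_zero, ← sub_smul, hk, add_smul, ← smul_add, h2, smul_zero]
    refine Prod.ext ?_ ?_
    · change (a • x) ⊗ₜ[ℤ] (a • x) = (a * a) • (x ⊗ₜ[ℤ] x)
      simp [TensorProduct.smul_tmul', TensorProduct.tmul_smul, mul_smul]
    · change -((a • x) ⊗ₜ[ℤ] ε) = (a * a) • -(x ⊗ₜ[ℤ] ε)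
      rw [smul_neg, h0, TensorProduct.smul_tmul']
  · intro x x' y
    ext <;> simp [TensorProduct.add_tmul, TensorProduct.tmul_add] <;> abel
  · intro c x y
    ext <;> simp [TensorProduct.smul_tmul', TensorProduct.tmul_smul, smul_add]
  · intro x y y'
    ext <;> simp [TensorProduct.add_tmul, TensorProduct.tmul_add] <;> abel
  · intro c x y
    ext <;> simp [TensorProduct.smul_tmul', TensorProduct.tmul_smul, smul_add]
  · intro x y
    ext <;> simp [TensorProduct.add_tmul, TensorProduct.tmul_add] <;> abel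

end Groth.Agent.S19005
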