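import Groth.Statements.S19007
import Groth.Agent.RootDatum.Quad
-- import your own Groth.Agent.* helpers here

set_option autoImplicit false
universe u v w x
open RootD

namespace Groth.Agent.S19007

/-- Let P be a finite reduced crystallographic root pairing over an integral domain of characteristic
zero, b a base of P (a system of simple roots) and Q a quadratic form on the coweight module with
polar form B. Then Q is invariant under all root reflections (equivalently under the Weyl group) on
the span of the coroots if and only if for all pairs of distinct simple roots α_i ≠ α_j one has
B(α_i^∨, α_j^∨) = ⟨α_j, α_i^∨⟩ Q(α_j^∨). (In the source the form is integer-valued on the lattice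
spanned by the coroots and the condition says that the bilinear form lies in the kernel of the last
map of a three-term complex built from the Bruhat cells of codimension at most two; here the form
takes values in the base ring.) -/
theorem result {ι : Type u} {R : Type v} {M : Type w} {N : Type x} [CommRing R] [IsDomain R] [CharZero R]
    [AddCommGroup M] [Module R M] [AddCommGroup N] [Module R N] (P : RootPairing ι R M N)
    [Finite ι] [P.IsCrystallographic] [P.IsReduced] (b : P.Base) (Q : QuadraticMap R N R) :
    (∀ i : ι, ∀ y ∈ Submodule.span R (Set.range P.coroot), Q (P.coreflection i y) = Q y) ↔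
      ∀ i ∈ b.support, ∀ j ∈ b.support, i ≠ j →
        QuadraticMap.polar Q (P.coroot i) (P.coroot j) = P.pairing j i * Q (P.coroot j) := by
  constructor
  · intro h i _ j _ _
    rw [(RootDatum.invariant_iff_polar P Q j _ (Submodule.subset_span (Set.mem_range_self j))).mp (h j) _
      (Submodule.subset_span (Set.mem_range_self i)), P.root'_coroot_eq_pairing]
  · intro h
    refine RootDatum.invariant_span_of_simple P Q b fun j hj => ?_
    refine (RootDatum.invariant_iff_polar P Q j _ (Submodule.subset_span (Set.mem_range_self j))).mpr
      fun y hy => ?_
    have hy' : y ∈ Submodule.span R (P.coroot '' b.support) := by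
      rw [b.span_coroot_support]; exact hy
    refine LinearMap.eqOn_span (f := Q.polarBilin.flip (P.coroot j))
      (g := Q (P.coroot j) • P.root' j) ?_ hy' |>.trans (mul_comm _ _)
    rintro _ ⟨i, hi, rfl⟩
    simp only [LinearMap.flip_apply, QuadraticMap.polarBilin_apply_apply, LinearMap.smul_apply,
      smul_eq_mul, P.root'_coroot_eq_pairing]
    rcases eq_or_ne i j with rfl | hij
    · rw [QuadraticMap.polar_self, P.pairing_same, nsmul_eq_mul, mul_comm, Nat.cast_ofNat]
    · rw [h i hi j hj hij, mul_comm]

end Groth.Agent.S19007
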