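import Groth.Statements.S19008
import Groth.Agent.RootDatum.Forms
import Groth.Agent.RootDatum.Sat
-- import your own Groth.Agent.* helpers here

set_option autoImplicit false
universe u v w x
open RootD

namespace Groth.Agent.S19008

open RootPairing

variable {ι R M N : Type*} [CommRing R] [IsDomain R] [CharZero R]
  [AddCommGroup M] [Module R M] [AddCommGroup N] [Module R N] (P : RootPairing ι R M N)
  [Finite ι] [P.IsCrystallographic]

/-- In every nonempty set of simple roots some row of the Cartan matrix has positive sum. -/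
theorem exists_row_pos [Fintype ι] (b : P.Base) (S : Finset ι) (hS : S ⊆ b.support)
    (hne : S.Nonempty) : ∃ v ∈ S, 0 < ∑ k ∈ S, P.pairingIn ℤ v k := by
  classical
  by_contra! hc
  set c : ι → ℤ := fun k => ∏ m ∈ S.erase k, RootDatum.len P m
  set K := ∏ m ∈ S, RootDatum.len P m
  have hK : ∀ k ∈ S, c k * RootDatum.len P k = K := fun k hk => Finset.prod_erase_mul _ _ hk
  have hcpos : ∀ k, 0 < c k := fun k => Finset.prod_pos fun m _ => RootDatum.len_pos P m
  have hKpos : 0 < K := Finset.prod_pos fun m _ => RootDatum.len_pos P m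
  have hB : ∀ j k, 2 * ∑ l, P.pairingIn ℤ j l * P.pairingIn ℤ k l =
      P.pairingIn ℤ j k * RootDatum.len P k := by
    intro j k
    have h := P.toInvariantForm.two_mul_apply_root_root j k
    simp only [toInvariantForm_form, RootDatum.rootForm_self, RootDatum.pairing_eq_cast,
      rootForm_apply_apply, root_coroot'_eq_pairing, smul_eq_mul] at h
    exact_mod_cast h
  have hsq : ∑ l, (∑ k ∈ S, c k * P.pairingIn ℤ k l) * (∑ k ∈ S, c k * P.pairingIn ℤ k l) ≤ 0 := by
    have e : 2 * ∑ l, (∑ k ∈ S, c k * P.pairingIn ℤ k l) * (∑ k ∈ S, c k * P.pairingIn ℤ k l) =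
        ∑ j ∈ S, c j * (K * ∑ k ∈ S, P.pairingIn ℤ j k) := by
      simp only [Finset.sum_mul_sum]
      rw [Finset.sum_comm, Finset.mul_sum]
      refine Finset.sum_congr rfl fun j _ => ?_
      rw [Finset.sum_comm, Finset.mul_sum, Finset.mul_sum, Finset.mul_sum]
      refine Finset.sum_congr rfl fun k hk => ?_
      rw [show K * P.pairingIn ℤ j k = c k * (P.pairingIn ℤ j k * RootDatum.len P k) by
        rw [← hK k hk]; ring, ← hB, Finset.mul_sum, Finset.mul_sum, Finset.mul_sum, Finset.mul_sum]
      exact Finset.sum_congr rfl fun l _ => by ring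
    have : ∑ j ∈ S, c j * (K * ∑ k ∈ S, P.pairingIn ℤ j k) ≤ 0 :=
      Finset.sum_nonpos fun j hj => mul_nonpos_of_nonneg_of_nonpos (hcpos j).le
        (mul_nonpos_of_nonneg_of_nonpos hKpos.le (hc j hj))
    linarith
  have hzero : ∀ l, ∑ k ∈ S, c k * P.pairingIn ℤ k l = 0 := fun l =>
    mul_self_eq_zero.mp ((Finset.sum_eq_zero_iff_of_nonneg fun l _ => mul_self_nonneg _).mp
      (le_antisymm hsq (Finset.sum_nonneg fun l _ => mul_self_nonneg _)) l (Finset.mem_univ l))
  have hx : ∑ k ∈ S, c k • P.root k = 0 := by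
    refine RootDatum.eq_zero_of_mem_span_of_coroot' P (Submodule.sum_mem _ fun k _ =>
      Submodule.smul_mem _ _ (Submodule.subset_span (Set.mem_range_self k))) fun l => ?_
    simp only [map_sum, map_zsmul, root_coroot'_eq_pairing, RootDatum.pairing_eq_cast, zsmul_eq_mul]
    exact_mod_cast hzero l
  obtain ⟨k, hk⟩ := hne
  exact (hcpos k).ne' (linearIndepOn_finset_iff.mp
    ((show LinearIndepOn ℤ P.root (b.support : Set ι) from b.linearIndepOn_root.restrict_scalars' ℤ).mono (Finset.coe_subset.mpr hS)) c hx k hk)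

theorem exists_diag [Fintype ι] [P.IsReduced] (b : P.Base) (e : ι → ι → ℤ)
    (hanti : ∀ i j, e j i = -e i j)
    (h0 : ∀ i ∈ b.support, ∀ j ∈ b.support, i ≠ j → P.pairingIn ℤ i j = 0 → e i j = 0)
    (S : Finset ι) (hS : S ⊆ b.support) :
    ∃ x : ι → ℤ, ∀ i ∈ S, ∀ j ∈ S, i ≠ j →
      P.pairingIn ℤ j i * x j - P.pairingIn ℤ i j * x i = e i j := by
  classical
  have h := RootDatum.isSimple_of_base P b
  induction hn : S.card generalizing S with
  | zero => exact ⟨0, fun i hi => by simp [Finset.card_eq_zero.mp hn] at hi⟩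
  | succ n ih =>
    obtain ⟨v, hv, hpos⟩ := exists_row_pos P b S hS (Finset.card_pos.mp (by omega))
    obtain ⟨x, hx⟩ := ih (S.erase v) ((Finset.erase_subset _ _).trans hS)
      (by rw [Finset.card_erase_of_mem hv]; omega)
    rw [← Finset.add_sum_erase _ _ hv, RootDatum.pairingIn_self] at hpos
    have hle : ∀ k ∈ S.erase v, P.pairingIn ℤ v k ≤ 0 := fun k hk =>
      h.pairingIn_nonpos (hS hv) (hS (Finset.mem_of_mem_erase hk)) (Finset.ne_of_mem_erase hk).symm
    obtain ⟨y, hy⟩ : ∃ y : ℤ, ∀ w ∈ S.erase v,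
        P.pairingIn ℤ v w * y - P.pairingIn ℤ w v * x w = e w v := by
      by_cases hz : ∀ w ∈ S.erase v, P.pairingIn ℤ v w = 0
      · refine ⟨0, fun w hw => ?_⟩
        have hwv := hz w hw
        have hvw : P.pairingIn ℤ w v = 0 := (mul_eq_zero.mp (by rw [RootDatum.pairingIn_mul_len P v w, hwv, zero_mul])).resolve_right (RootDatum.len_pos P v).ne'
        rw [hwv, hvw, h0 w (hS (Finset.mem_of_mem_erase hw)) v (hS hv) (Finset.ne_of_mem_erase hw) hvw]
        ring
      push Not at hz
      obtain ⟨u, hu, hune⟩ := hz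
      rw [← Finset.add_sum_erase _ _ hu] at hpos
      have hle2 := hle u hu
      have hrest : ∑ k ∈ (S.erase v).erase u, P.pairingIn ℤ v k ≤ 0 :=
        Finset.sum_nonpos fun k hk => hle k (Finset.mem_of_mem_erase hk)
      have hu1 : P.pairingIn ℤ v u = -1 := by omega
      have hrest0 : ∑ k ∈ (S.erase v).erase u, P.pairingIn ℤ v k = 0 := by omega
      refine ⟨-e u v - P.pairingIn ℤ u v * x u, fun w hw => ?_⟩
      rcases eq_or_ne w u with rfl | hwu
      · rw [hu1]; ring
      · have hwv : P.pairingIn ℤ v w = 0 :=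
          (Finset.sum_eq_zero_iff_of_nonpos fun k hk => hle k (Finset.mem_of_mem_erase hk)).mp
            hrest0 w (Finset.mem_erase.mpr ⟨hwu, hw⟩)
        have hvw : P.pairingIn ℤ w v = 0 := (mul_eq_zero.mp (by rw [RootDatum.pairingIn_mul_len P v w, hwv, zero_mul])).resolve_right (RootDatum.len_pos P v).ne'
        rw [hwv, hvw, h0 w (hS (Finset.mem_of_mem_erase hw)) v (hS hv) (Finset.ne_of_mem_erase hw) hvw]
        ring
    refine ⟨Function.update x v y, fun i hi j hj hij => ?_⟩
    rcases eq_or_ne i v with rfl | hiv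
    · have := hy j (Finset.mem_erase.mpr ⟨hij.symm, hj⟩)
      rw [Function.update_self, Function.update_of_ne hij.symm]
      rw [hanti j i]; linarith
    rcases eq_or_ne j v with rfl | hjv
    · rw [Function.update_self, Function.update_of_ne hij]
      exact hy i (Finset.mem_erase.mpr ⟨hij, hi⟩)
    · rw [Function.update_of_ne hiv, Function.update_of_ne hjv]
      exact hx i (Finset.mem_erase.mpr ⟨hiv, hi⟩) j (Finset.mem_erase.mpr ⟨hjv, hj⟩) hij


/-- Let P be a finite reduced crystallographic root pairing over an integral domain of characteristic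
zero and b a base (simple roots α_i, i in the support of b), with Cartan integers a_ij = ⟨α_i,
α_j^∨⟩. An integer-valued bilinear form C on the lattice with basis the simple coroots is an integer
matrix C_ij = C(α_i^∨, α_j^∨), and the component of the last map of the complex at the pair (i, j),
i ≠ j, is C ↦ C(α_i^∨, α_j^∨) + C(α_j^∨, s_j(α_i^∨)) = C_ij + C_ji − a_ji C_jj; the pairs (i, j) and
(j, i) index the same component exactly when α_i and α_j are orthogonal. This map is surjective: for
every family of integers d_ij (i ≠ j in the support) with d_ij = d_ji whenever a_ij = 0 there is an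
integer matrix C with C_ij + C_ji − a_ji C_jj = d_ij for all i ≠ j in the support. -/
theorem result {ι : Type u} {R : Type v} {M : Type w} {N : Type x} [CommRing R] [IsDomain R] [CharZero R]
    [AddCommGroup M] [Module R M] [AddCommGroup N] [Module R N] (P : RootPairing ι R M N)
    [Finite ι] [P.IsCrystallographic] [P.IsReduced] (b : P.Base) (d : ι → ι → ℤ)
    (hd : ∀ i ∈ b.support, ∀ j ∈ b.support, i ≠ j → P.pairingIn ℤ i j = 0 → d i j = d j i) :
    ∃ C : ι → ι → ℤ, ∀ i ∈ b.support, ∀ j ∈ b.support, i ≠ j →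
      C i j + C j i - P.pairingIn ℤ j i * C j j = d i j := by
  classical
  cases nonempty_fintype ι
  have h := RootDatum.isSimple_of_base P b
  obtain ⟨x, hx⟩ := exists_diag P b (fun i j => d j i - d i j) (fun i j => by ring)
    (fun i hi j hj hij h0 => by rw [hd i hi j hj hij h0, sub_self]) b.support subset_rfl
  let o := Fintype.equivFin ι
  refine ⟨fun i j => if i = j then x j else
    if o i < o j then d i j + P.pairingIn ℤ j i * x j else 0, fun i hi j hj hij => ?_⟩
  have hx' := hx i hi j hj hij
  simp only [if_neg hij, if_neg hij.symm]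
  rcases lt_or_gt_of_ne (o.injective.ne hij) with hlt | hlt
  · rw [if_pos hlt, if_neg hlt.not_gt]; simp
  · rw [if_neg hlt.not_gt, if_pos hlt]
    simp only [↓reduceIte]
    linarith

end Groth.Agent.S19008
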