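import Groth.Statements.S19009
import Groth.Agent.RootDatum.Quad
-- import your own Groth.Agent.* helpers here

set_option autoImplicit false
universe u v w x
open RootD

namespace Groth.Agent.S19009

/-- Let P be a root pairing over an integral domain R of characteristic zero (roots α acting on the
coweight module N through reflections y ↦ y − ⟨α, y⟩ α^∨), D ⊆ N a submodule containing every coroot
and such that every element of D has a positive integer multiple in the span of the coroots (the
derived part), and Y₀ a complement of D in N. Let Q_d be a quadratic form on N whose restriction to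
D is invariant under all root reflections. Then there is a quadratic form on N, invariant under all
root reflections and agreeing with Q_d on D, if and only if there is an R-bilinear form Φ on N with
Φ(y₀, α^∨) = ⟨α, y₀⟩ Q_d(α^∨) for all y₀ in Y₀ and all roots α. (In the source R = ℤ, N = Y₀ ⊕ Y_der
is the cocharacter lattice of a split reductive group, and the condition is phrased as integrality
on Y₀ × Y_der of the pairing y₀, y ↦ B(q(y₀), y) deduced from the polar form B of Q_d; that pairing
is characterised by the displayed values on coroots, only the values of Φ on Y₀ × D matter, and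
forms take values in R here.) -/
theorem result {ι : Type u} {R : Type v} {M : Type w} {N : Type x} [CommRing R] [IsDomain R] [CharZero R]
    [AddCommGroup M] [Module R M] [AddCommGroup N] [Module R N] (P : RootPairing ι R M N)
    (D Y₀ : Submodule R N) (hD : ∀ i : ι, P.coroot i ∈ D)
    (hDsat : ∀ y ∈ D, ∃ n : ℕ, 0 < n ∧ n • y ∈ Submodule.span R (Set.range P.coroot))
    (hc : IsCompl Y₀ D)
    (Qd : QuadraticMap R N R) (hQd : ∀ i : ι, ∀ y ∈ D, Qd (P.coreflection i y) = Qd y) :
    (∃ Q : QuadraticMap R N R, (∀ (i : ι) (y : N), Q (P.coreflection i y) = Q y) ∧ ∀ y ∈ D, Q y = Qd y) ↔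
      ∃ Φ : N →ₗ[R] N →ₗ[R] R, ∀ y₀ ∈ Y₀, ∀ i : ι,
        Φ y₀ (P.coroot i) = P.root' i y₀ * Qd (P.coroot i) := by
  constructor
  · rintro ⟨Q, hQ, hQD⟩
    refine ⟨Q.polarBilin, fun y₀ _ i => ?_⟩
    rw [QuadraticMap.polarBilin_apply_apply, (RootDatum.invariant_iff_polar' P Q i).mp (hQ i) y₀,
      hQD _ (hD i)]
  · rintro ⟨Φ, hΦ⟩
    classical
    set p := Y₀.projection D hc with hp
    set q := D.projection Y₀ hc.symm with hq
    let Q : QuadraticMap R N R :=
      LinearMap.BilinMap.toQuadraticMap (Φ.compl₁₂ p q) + Qd.comp q
    have hpD : ∀ y ∈ D, p y = 0 := fun y hy => by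
      rw [hp, Submodule.projection_apply_eq_zero_iff]; exact hy
    have hqD : ∀ y ∈ D, q y = y := fun y hy => Submodule.projection_apply_left hc.symm ⟨y, hy⟩
    have hQD : ∀ y ∈ D, Q y = Qd y := fun y hy => by
      simp [Q, hpD y hy, hqD y hy]
    refine ⟨Q, fun i => (RootDatum.invariant_iff_polar' P Q i).mpr fun y => ?_, hQD⟩
    have hpol : QuadraticMap.polar Q y (P.coroot i) =
        Φ (p y) (P.coroot i) + QuadraticMap.polar Qd (q y) (P.coroot i) := by
      simp only [QuadraticMap.polar, Q, QuadraticMap.add_apply, QuadraticMap.comp_apply,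
        LinearMap.BilinMap.toQuadraticMap_apply, LinearMap.compl₁₂_apply, map_add,
        LinearMap.add_apply, hpD _ (hD i), hqD _ (hD i), add_zero, map_zero, LinearMap.zero_apply]
      ring
    have hpY : p y ∈ Y₀ := Submodule.projection_apply_mem hc y
    have hqY : q y ∈ D := Submodule.projection_apply_mem hc.symm y
    rw [hpol, hΦ _ hpY i, (RootDatum.invariant_iff_polar P Qd i D (hD i)).mp (hQd i) _ hqY,
      hQD _ (hD i), ← add_mul, ← map_add]
    congr 2
    exact Submodule.projection_add_projection_eq_self hc y

end Groth.Agent.S19009
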