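import Groth.Statements.S1901
import Groth.Agent.IntMult88.P1Graph
import Groth.Agent.CycLib.ProdClass
import Groth.Agent.CycLib.SchemeDim

set_option autoImplicit false
universe u
open CategoryTheory AlgebraicGeometry
open CategoryTheory.Limits
open Cyc

namespace Groth.Agent.S1901

section
open CategoryTheory CategoryTheory.Limits AlgebraicGeometry

/-- Evaluation at the point of the spectrum of a field is surjective. -/
theorem evaluation_surjective_spec (K : Type u) [Field K] (s : Spec (CommRingCat.of K)) :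
    Function.Surjective ((Spec (CommRingCat.of K)).evaluation ⊤ s trivial).hom := by
  intro z
  obtain ⟨a, b, rfl⟩ := Groth.Agent.CycLib.evaluation_surj (isAffineOpen_top _) (U := ⊤) (x := s) trivial z
  obtain ⟨a', rfl⟩ := ((Scheme.ΓSpecIso (CommRingCat.of K)).commRingCatIsoToRingEquiv.symm.surjective a)
  obtain ⟨b', rfl⟩ := ((Scheme.ΓSpecIso (CommRingCat.of K)).commRingCatIsoToRingEquiv.symm.surjective b)
  refine ⟨(Scheme.ΓSpecIso (CommRingCat.of K)).commRingCatIsoToRingEquiv.symm (a' / b'), ?_⟩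
  exact map_div₀ (((Spec (CommRingCat.of K)).evaluation ⊤ s trivial).hom.comp
    (Scheme.ΓSpecIso (CommRingCat.of K)).commRingCatIsoToRingEquiv.symm.toRingHom) a' b'

end

set_option backward.isDefEq.respectTransparency false in
/-- If a k-cycle α on X is rationally equivalent to zero, there is a locally finite family of closed
immersions W_i → P^1_X with W_i integral of δ-dimension k + 1 and generic point over neither
section, such that α = Σ_i ([W_{i,0}]_k − [W_{i,∞}]_k) coefficientwise. A pair (X, δ) with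
Cyc.IsSetup plays the role of a scheme locally of finite type over a fixed base with a dimension
function (X locally Noetherian with universally catenary local rings, δ a dimension function), and
Cyc.DeltaCompat records that the dimension function upstairs is the induced one. -/
theorem result (X : Scheme.{u}) (δ : X → ℤ) (hX : Cyc.IsSetup X δ) (δP : ↥(CohB1.ProjSpaceOver 1 X) → ℤ) (hP : Cyc.DeltaCompat (CohB1.ProjSpaceOver.toBase 1 X) δP δ) (k : ℤ) (α : AlgebraicCycle X ℤ) (hα : α ∈ Cyc.Zk X δ k) (h0 : Cyc.RatEquivZero δ k α) : ∃ (I : Type u) (W : I → Scheme.{u}) (ι : (i : I) → (W i ⟶ CohB1.ProjSpaceOver 1 X)) (_ : ∀ i, IsIntegral (W i)) (_ : ∀ i, IsClosedImmersion (ι i)), (∀ i, δP (ι i (genericPoint (W i))) = k + 1 ∧ ι i (genericPoint (W i)) ∉ Set.range ⇑(P1.sect X 0) ∧ ι i (genericPoint (W i)) ∉ Set.range ⇑(P1.sect X 1)) ∧ (∀ p : ↥(CohB1.ProjSpaceOver 1 X), ∃ U : Set ↥(CohB1.ProjSpaceOver 1 X), IsOpen U ∧ p ∈ U ∧ {i | (Set.range ⇑(ι i) ∩ U).Nonempty}.Finite)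 ∧ ∀ x : X, α x = ∑ᶠ i, (Cyc.subschemeFun δ k (pullback.snd (ι i) (P1.sect X 0)) x - Cyc.subschemeFun δ k (pullback.snd (ι i) (P1.sect X 1)) x) := by
  classical
  haveI := hX.1
  haveI : IsProper (CohB1.ProjSpaceOver.toBase 1 X) := Groth.Agent.ProjProper.Basic.isProper_toBase 1 X
  obtain ⟨I, ξ, f, hξ, hf, hlf, hsum⟩ := h0
  have hpiece : ∀ i : I, ∃ (W : Scheme.{u}) (ι : W ⟶ CohB1.ProjSpaceOver 1 X) (_ : IsIntegral W)
      (_ : IsClosedImmersion ι),
      (δP (ι (genericPoint W)) = k + 1 ∧ ι (genericPoint W) ∉ Set.range ⇑(P1.sect X 0) ∧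
        ι (genericPoint W) ∉ Set.range ⇑(P1.sect X 1)) ∧
      (∀ y, ξ i ⤳ CohB1.ProjSpaceOver.toBase 1 X (ι y)) ∧
      ∀ x, Cyc.divFun δ (ξ i) (f i) x = Cyc.subschemeFun δ k (pullback.snd ι (P1.sect X 0)) x -
        Cyc.subschemeFun δ k (pullback.snd ι (P1.sect X 1)) x := by
    intro i
    let S : Scheme.{u} := Spec (X.residueField (ξ i))
    let a : S ⟶ X := X.fromSpecResidueField (ξ i)
    let s : S := IsLocalRing.closedPoint (X.residueField (ξ i))
    have has : a s = ξ i := Scheme.fromSpecResidueField_apply _ _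
    obtain ⟨f', hf', hdiv⟩ := Groth.Agent.CycLib.exists_divFun_congr (δ := δ) has.symm (hf i)
    obtain ⟨b, hb⟩ : ∃ b : Γ(S, ⊤), S.evaluation ⊤ s trivial b = (a.residueFieldMap s).hom f' :=
      evaluation_surjective_spec (X.residueField (ξ i)) s ((a.residueFieldMap s).hom f')
    let φ : HomogeneousLocalization.Away P1.grading.{u} (P1.T 0) →+* Γ(S, ⊤) :=
      P1.chartMap 0 Γ(S, ⊤) b
    let g : S ⟶ CohB1.ProjSpaceOver 1 X :=
      pullback.lift (S.toSpecΓ ≫ Spec.map (CommRingCat.ofHom φ) ≫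
        Proj.awayι P1.grading.{u} (P1.T 0) (P1.X_mem 0) one_pos) a (specULiftZIsTerminal.hom_ext _ _)
    have hg₀ : g ≫ CohB1.ProjSpaceOver.toBase 1 X = a := pullback.lift_snd _ _ _
    have hsurj : Function.Surjective (a.residueFieldMap s).hom := fun z => by
      obtain ⟨r, rfl⟩ := S.residue_surjective s z
      obtain ⟨r', rfl⟩ := a.stalkMap_surjective s r
      exact ⟨X.residue (a s) r', congr($(Scheme.residue_residueFieldMap a s) r')⟩
    obtain ⟨⟨hδ, hm0, hm1⟩, hW⟩ := Groth.Agent.IntMult88.P1Graph.fibres_of_point δ hX δP hP k a φ g hg₀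
      (by exact pullback.lift_fst _ _ _) s hsurj ((congrArg δ has).trans (hξ i)) f' hf'
      (by
        show _ = S.evaluation ⊤ s trivial (P1.chartMap 0 Γ(S, ⊤) b (Groth.Agent.CycLib.ratio 0 1))
        rw [Groth.Agent.IntMult88.P1Graph.evalMap_ratio]
        exact hb.symm)
    obtain ⟨W, hWi, ι, hι, hgen, hrange⟩ := Groth.Agent.CycLib.exists_closure_subscheme (g s)
    refine ⟨W, ι, hWi, hι, ⟨hgen.symm ▸ hδ, ?_, ?_⟩, fun y => ?_, fun x => ?_⟩
    · rw [hgen]; exact fun h => ((Groth.Agent.CycLib.mem_range_sect_iff X 0 1 (by decide) _).1 h).2 hm1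
    · rw [hgen]; exact fun h => ((Groth.Agent.CycLib.mem_range_sect_iff X 1 0 (by decide) _).1 h).2 hm0
    · have h := ((hrange (ι y)).1 ⟨y, rfl⟩).map (CohB1.ProjSpaceOver.toBase 1 X).continuous
      rwa [← Scheme.Hom.comp_apply, hg₀, has] at h
    · rw [hdiv]
      exact hW W ι hgen x
  choose W ι hWi hι hgen hsp hdiv using hpiece
  refine ⟨I, W, ι, hWi, hι, hgen, fun p => ?_, fun x => ?_⟩
  · obtain ⟨U, hU, hpU, hfin⟩ := hlf (CohB1.ProjSpaceOver.toBase 1 X p)
    refine ⟨CohB1.ProjSpaceOver.toBase 1 X ⁻¹' U, hU.preimage (Scheme.Hom.continuous _), hpU, hfin.subset ?_⟩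
    rintro i ⟨q, ⟨y, rfl⟩, hq⟩
    exact ⟨_, specializes_iff_mem_closure.1 (hsp i y), hq⟩
  · rw [hsum]
    exact finsum_congr fun i => hdiv i x

end Groth.Agent.S1901
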