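import Groth.Statements.S19010
import Groth.Agent.RootDatum.Quad
-- import your own Groth.Agent.* helpers here

set_option autoImplicit false
universe u v w x
open RootD

namespace Groth.Agent.S19010

/-- Let P be a root pairing over an integral domain R of characteristic zero (roots α acting on the
coweight module N through reflections y ↦ y − ⟨α, y⟩ α^∨), D ⊆ N a submodule containing every coroot
and such that every element of D has a positive integer multiple in the span of the coroots (the
derived part), and Y₀ a complement of D in N. Let Q' be a quadratic form on N invariant under all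
root reflections. Then restriction to Y₀ is a bijection from the set of quadratic forms on N that
are invariant under all root reflections and agree with Q' on D onto the set of all quadratic forms
on Y₀. (In the source R = ℤ and N = Y₀ ⊕ Y_der is the cocharacter lattice of a split reductive
group; forms take values in R here.) -/
theorem result {ι : Type u} {R : Type v} {M : Type w} {N : Type x} [CommRing R] [IsDomain R] [CharZero R]
    [AddCommGroup M] [Module R M] [AddCommGroup N] [Module R N] (P : RootPairing ι R M N)
    (D Y₀ : Submodule R N) (hD : ∀ i : ι, P.coroot i ∈ D)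
    (hDsat : ∀ y ∈ D, ∃ n : ℕ, 0 < n ∧ n • y ∈ Submodule.span R (Set.range P.coroot))
    (hc : IsCompl Y₀ D)
    (Q' : QuadraticMap R N R) (hQ' : ∀ (i : ι) (y : N), Q' (P.coreflection i y) = Q' y) :
    Set.BijOn (fun Q : QuadraticMap R N R => Q.comp Y₀.subtype)
      {Q | (∀ (i : ι) (y : N), Q (P.coreflection i y) = Q y) ∧ ∀ y ∈ D, Q y = Q' y} Set.univ := by
  classical
  have pol : ∀ (Q : QuadraticMap R N R), (∀ (i : ι) (y : N), Q (P.coreflection i y) = Q y) →
      (∀ y ∈ D, Q y = Q' y) → ∀ z, ∀ d ∈ D, QuadraticMap.polar Q z d = QuadraticMap.polar Q' z d := by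
    intro Q hQ hQD z d hd
    refine RootDatum.eq_of_eqOn_coroots P D hDsat (f := Q.polarBilin z) (g := Q'.polarBilin z)
      (fun i => ?_) hd
    simp only [QuadraticMap.polarBilin_apply_apply]
    rw [(RootDatum.invariant_iff_polar' P Q i).mp (hQ i),
      (RootDatum.invariant_iff_polar' P Q' i).mp (hQ' i), hQD _ (hD i)]
  refine ⟨Set.mapsTo_univ _ _, ?_, ?_⟩
  · rintro A ⟨hA, hAD⟩ B ⟨hB, hBD⟩ e
    ext y
    obtain ⟨z, hz, d, hd, rfl⟩ := Submodule.mem_sup.mp
      (hc.sup_eq_top ▸ Submodule.mem_top : y ∈ Y₀ ⊔ D)
    have e' : A z = B z := by simpa using DFunLike.congr_fun e ⟨z, hz⟩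
    rw [QuadraticMap.map_add A, QuadraticMap.map_add B, e', hAD d hd, hBD d hd,
      pol A hA hAD z d hd, pol B hB hBD z d hd]
  · intro g _
    let p := Y₀.projectionOnto D hc
    refine ⟨Q' + (g - Q'.comp Y₀.subtype).comp p, ⟨fun i y => ?_, fun y hy => ?_⟩, ?_⟩
    · have : p (P.coreflection i y) = p y := by
        rw [RootPairing.coreflection_apply, map_sub, map_smul,
          (Submodule.projectionOnto_apply_eq_zero_iff hc).mpr (hD i), smul_zero, sub_zero]
      simp [hQ' i y, this]
    · simp [p, (Submodule.projectionOnto_apply_eq_zero_iff hc).mpr hy]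
    · ext z
      simp [p, Submodule.projectionOnto_apply_left hc z]

end Groth.Agent.S19010
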