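import Groth.Statements.S19011
import Groth.Agent.RootDatum.Exists
-- import your own Groth.Agent.* helpers here

set_option autoImplicit false
universe u v w x
open RootD

namespace Groth.Agent.S19011

/-- For a finite reduced crystallographic root pairing over an integral domain of characteristic zero,
the additive group generated by the coroots admits the presentation with one generator [β] for each
root β and the relations [s_α(β)] = [β] − ⟨α, β^∨⟩ [α] for all roots α, β, where ⟨α, β^∨⟩ is the
Cartan integer. Concretely: the kernel of the ℤ-linear map from the free abelian group on the index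
type of the roots to the coweight module sending the generator of index β to the coroot β^∨ is the
subgroup generated by the elements [s_α(β)] − [β] + ⟨α, β^∨⟩ [α]. (The source states this for the
cocharacter lattice of a split semi-simple simply connected group, which is the group generated by
the coroots.) -/
theorem result {ι : Type u} {R : Type v} {M : Type w} {N : Type x} [CommRing R] [IsDomain R] [CharZero R]
    [AddCommGroup M] [Module R M] [AddCommGroup N] [Module R N] (P : RootPairing ι R M N)
    [Finite ι] [P.IsCrystallographic] [P.IsReduced] :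
    LinearMap.ker (Finsupp.linearCombination ℤ (fun i : ι => (P.coroot i : N))) =
      Submodule.span ℤ (Set.range fun p : ι × ι =>
        Finsupp.single (P.reflectionPerm p.1 p.2) (1 : ℤ) - Finsupp.single p.2 1 +
          P.pairingIn ℤ p.1 p.2 • Finsupp.single p.1 1) := by
  classical
  have := RootDatum.isAddTorsionFree_left P
  have := RootDatum.isAddTorsionFree_right P
  obtain ⟨Δ, hΔ⟩ := RootDatum.exists_isSimple P.flip
  have hind : ∀ k j, (2 : ℤ) • P.flip.root j ≠ P.flip.root k := by
    intro k j h
    change (2 : ℤ) • P.coroot j = P.coroot k at h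
    have h' : P.root j = (2 : R) • P.root k := by
      refine RootPairing.coroot_eq_smul_coroot_iff.mp ?_
      rw [← h]; simp [two_smul]
    exact P.nsmul_notMem_range_root (n := 2) (i := k) ⟨j, by rw [h']; simp [two_smul]⟩
  set g := fun p : ι × ι => Finsupp.single (P.reflectionPerm p.1 p.2) (1 : ℤ) - Finsupp.single p.2 1 +
    P.pairingIn ℤ p.1 p.2 • Finsupp.single p.1 1 with hg
  set S := Submodule.span ℤ (Set.range g) with hS
  have hrel : ∀ a c : ι, g (a, c) ∈ S := fun a c => Submodule.subset_span ⟨(a, c), rfl⟩
  have hle : S ≤ LinearMap.ker (Finsupp.linearCombination ℤ (fun i : ι => (P.coroot i : N))) := by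
    rw [hS, Submodule.span_le]
    rintro _ ⟨⟨a, c⟩, rfl⟩
    have e : (P.pairingIn ℤ a c : ℤ) • P.coroot a = P.pairing a c • P.coroot a := by
      rw [← P.algebraMap_pairingIn ℤ a c, algebraMap_smul]
    simp only [hg, SetLike.mem_coe, LinearMap.mem_ker, map_add, map_sub, map_smul,
      Finsupp.linearCombination_single, one_smul, e, P.coroot_reflectionPerm,
      P.coreflection_apply_coroot, sub_sub_cancel_left, neg_add_cancel]
  refine le_antisymm (fun x hx => ?_) hle
  set U := S ⊔ Finsupp.supported ℤ ℤ Δ with hU
  have hall : ∀ i, Finsupp.single i (1 : ℤ) ∈ U := by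
    intro i
    obtain ⟨w, hw, k, hk, rfl⟩ := hΔ.exists_conj_of_indiv (hind i)
    obtain ⟨l, hl, rfl⟩ := RootDatum.exists_word P.flip hw
    clear hw
    induction l with
    | nil =>
      rw [RootDatum.wordProd_nil, one_smul]
      exact Submodule.mem_sup_right (Finsupp.single_mem_supported ℤ _ hk)
    | cons a t ih =>
      rw [RootDatum.wordProd_cons, mul_smul, RootDatum.reflection_smul_index]
      set c := RootDatum.wordProd P.flip t • k
      have hc : Finsupp.single c (1 : ℤ) ∈ U := ih fun z hz => hl z (List.mem_cons_of_mem _ hz)
      change Finsupp.single (P.reflectionPerm a c) (1 : ℤ) ∈ U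
      have e : Finsupp.single (P.reflectionPerm a c) (1 : ℤ) =
          g (a, c) + (Finsupp.single c 1 - P.pairingIn ℤ a c • Finsupp.single a 1) := by
        simp only [hg]; abel
      rw [e]
      exact add_mem (Submodule.mem_sup_left (hrel a c)) (sub_mem hc (Submodule.smul_mem _ _
        (Submodule.mem_sup_right (Finsupp.single_mem_supported ℤ _ (hl a List.mem_cons_self)))))
  have htop : x ∈ U := by
    rw [← Finsupp.sum_single x]
    refine Submodule.sum_mem _ fun i _ => ?_
    rw [← mul_one (x i), ← smul_eq_mul, ← Finsupp.smul_single]
    exact Submodule.smul_mem _ _ (hall i)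
  obtain ⟨s, hs, y, hy, rfl⟩ := Submodule.mem_sup.mp htop
  have h0 : Finsupp.linearCombination ℤ (fun i : ι => (P.coroot i : N)) y = 0 := by
    rw [LinearMap.mem_ker, map_add, LinearMap.mem_ker.mp (hle hs), zero_add] at hx
    exact hx
  rw [linearIndepOn_iff.mp hΔ.linInd y hy h0, add_zero]
  exact hs

end Groth.Agent.S19011
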