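import Groth.Statements.S19012
import Groth.Agent.RootDatum.Quad
-- import your own Groth.Agent.* helpers here

set_option autoImplicit false
universe u v w x
open RootD

namespace Groth.Agent.S19012

/-- Let P be a finite reduced crystallographic root pairing over a field of characteristic zero which is
irreducible, and b a base. A quadratic form on the coweight module that is invariant under all root
reflections and vanishes on some simple coroot is zero; in other words an invariant form is
determined by its value on a single simple coroot. (The source proves, component by component of the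
Dynkin diagram, that an invariant integer-valued form on the coroot lattice with prescribed value on
the first simple coroot of each component is unique; here the system is irreducible, the coroots
span the coweight module, and forms take values in the base field.) -/
theorem result {ι : Type u} {K : Type v} {M : Type w} {N : Type x} [Field K] [CharZero K]
    [AddCommGroup M] [Module K M] [AddCommGroup N] [Module K N] (P : RootPairing ι K M N)
    [Finite ι] [P.IsCrystallographic] [P.IsReduced] [P.IsIrreducible] (b : P.Base)
    (Q : QuadraticMap K N K) (hQ : ∀ (i : ι) (y : N), Q (P.coreflection i y) = Q y)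
    (i₀ : ι) (hi₀ : i₀ ∈ b.support) (h0 : Q (P.coroot i₀) = 0) : Q = 0 := by
  have hne : Nonempty ι := ⟨i₀⟩
  have key : ∀ i j : ι, QuadraticMap.polar Q (P.coroot i) (P.coroot j) =
      P.pairing j i * Q (P.coroot j) := fun i j => by
    rw [(RootDatum.invariant_iff_polar' P Q j).mp (hQ j), P.root'_coroot_eq_pairing]
  have step : ∀ i j : ι, Q (P.coroot i) = 0 → Q (P.coroot j) ≠ 0 → P.IsOrthogonal j i := by
    intro i j hi hj
    have := key i j
    rw [QuadraticMap.polar_comm, key j i, hi, mul_zero, eq_comm, mul_eq_zero] at this
    have h1 := this.resolve_right hj
    exact ⟨h1, P.pairing_eq_zero_iff'.mp h1⟩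
  have hall : ∀ j, Q (P.coroot j) = 0 := by
    intro j
    by_contra hj
    set s := {i : ι | Q (P.coroot i) = 0}
    have htop := P.span_root_image_eq_top_of_forall_orthogonal s ⟨i₀, h0⟩ fun k hk i hi =>
      step i k hi fun hk0 => hk (Submodule.subset_span ⟨k, hk0, rfl⟩)
    have hle : Submodule.span K (P.root '' s) ≤ LinearMap.ker (P.coroot' j) := by
      rw [Submodule.span_le]
      rintro _ ⟨i, hi, rfl⟩
      simpa [P.root_coroot'_eq_pairing] using (step i j hi hj).2
    have := hle (htop ▸ Submodule.mem_top : P.root j ∈ Submodule.span K (P.root '' s))
    simp at this
  have hpol : Q.polarBilin = 0 := by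
    refine LinearMap.ext_on_range (RootPairing.IsRootSystem.span_coroot_eq_top (P := P)) fun i => ?_
    refine LinearMap.ext_on_range (RootPairing.IsRootSystem.span_coroot_eq_top (P := P)) fun j => ?_
    simp [key i j, hall j]
  ext y
  have h2 : QuadraticMap.polar Q y y = 0 := by
    simpa using DFunLike.congr_fun (DFunLike.congr_fun hpol y) y
  rw [QuadraticMap.polar_self] at h2
  simpa using h2

end Groth.Agent.S19012
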