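import Groth.Statements.S19013
import Groth.Agent.MilK.Tame

set_option autoImplicit false
universe u v
open MilnorK

namespace Groth.Agent.S19013

open Groth.Agent.MilK.Basic Groth.Agent.MilK.Tame

/-- Let A ⊆ B be discrete valuation rings, the inclusion being a local homomorphism, with fraction
fields E ⊆ F compatibly, with the induced homomorphism of residue fields κ(A) → κ(B), and with
ramification index e, the natural number such that the maximal ideal of A generates the e-th power
of the maximal ideal of B. Let ∂_A : K_{n+1}(E) → K_n(κ(A)) and ∂_B : K_{n+1}(F) → K_n(κ(B)) be the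
residue maps (tame symbols) on Milnor K-groups. Then for every x in K_{n+1}(E) one has ∂_B(x_F) = e
· (∂_A x)_{κ(B)}, where the subscripts denote the change-of-fields maps along E → F and κ(A) → κ(B).
(The published statement concerns discrete valuations of geometric type on fields finitely generated
over a base field; it is stated here for an arbitrary pair of discrete valuation rings, which is all
the printed computation uses.) -/
theorem result
    (A B : Type u) [CommRing A] [IsDomain A] [IsDiscreteValuationRing A]
    [CommRing B] [IsDomain B] [IsDiscreteValuationRing B] [Algebra A B] [IsLocalHom (algebraMap A B)]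
    (E F : Type v) [Field E] [Field F] [Algebra A E] [IsFractionRing A E] [Algebra B F] [IsFractionRing B F]
    [Algebra E F] [Algebra A F] [IsScalarTower A E F] [IsScalarTower A B F]
    (e : ℕ) (he : Ideal.map (algebraMap A B) (IsLocalRing.maximalIdeal A) = IsLocalRing.maximalIdeal B ^ e)
    (n : ℕ) (dA : MilK.K E (n + 1) →+ MilK.K (IsLocalRing.ResidueField A) n) (hdA : MilK.IsTameSymbol A E n dA)
    (dB : MilK.K F (n + 1) →+ MilK.K (IsLocalRing.ResidueField B) n) (hdB : MilK.IsTameSymbol B F n dB)
    (x : MilK.K E (n + 1)) :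
    dB (MilK.map (algebraMap E F) (n + 1) x) =
      e • MilK.map (IsLocalRing.ResidueField.map (algebraMap A B)) n (dA x) := by
  obtain ⟨ϖ, hϖ⟩ := IsDiscreteValuationRing.exists_irreducible A
  obtain ⟨ω, hω⟩ := IsDiscreteValuationRing.exists_irreducible B
  have he' : ∃ w : Bˣ, MilK.unitFrac A E ϖ hϖ.ne_zero = MilK.unitFrac A E ϖ hϖ.ne_zero ∧
      Units.map (algebraMap E F : E →* F) (MilK.unitFrac A E ϖ hϖ.ne_zero) =
        MilK.unitFrac B F ω hω.ne_zero ^ e * MilK.unitToFrac B F w := by
    rw [hϖ.maximalIdeal_eq, hω.maximalIdeal_eq, Ideal.map_span, Set.image_singleton,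
      Ideal.span_singleton_pow, Ideal.span_singleton_eq_span_singleton] at he
    obtain ⟨w, hw⟩ := he.symm
    refine ⟨w, rfl, Units.ext ?_⟩
    simp only [Units.coe_map, MonoidHom.coe_coe, MilK.coe_unitFrac, Units.val_mul, Units.val_pow_eq_pow_val,
      MilK.unitToFrac, ← IsScalarTower.algebraMap_apply A E F]
    rw [IsScalarTower.algebraMap_apply A B F, ← hw, map_mul, map_pow]
  obtain ⟨w, -, hw⟩ := he'
  have hU : ∀ u : Aˣ, Units.map (algebraMap E F : E →* F) (MilK.unitToFrac A E u) =
      MilK.unitToFrac B F (Units.map (algebraMap A B : A →* B) u) := fun u => by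
    ext
    simp [MilK.unitToFrac, ← IsScalarTower.algebraMap_apply]
  have hmap : ∀ {k : ℕ} {a : MilK.K E k}, a ∈ unitSubgroup A E k →
      MilK.map (algebraMap E F) k a ∈ unitSubgroup B F k := by
    intro k a ha
    refine (AddSubgroup.closure_le (K := (unitSubgroup B F k).comap (MilK.map (algebraMap E F) k))).2 ?_ ha
    rintro _ ⟨u, rfl⟩
    rw [SetLike.mem_coe, AddSubgroup.mem_comap, MilK.map_symbol]
    simp only [hU]
    exact symbol_mem_unitSubgroup _
  obtain ⟨a, ha, b, hb, rfl⟩ := exists_unit_decomp (L := E) ϖ hϖ n x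
  have key : (dvrData ω hω).spec n (MilK.map (algebraMap E F) n a) =
      MilK.map (IsLocalRing.ResidueField.map (algebraMap A B)) n ((dvrData ϖ hϖ).spec n a) := by
    refine AddMonoidHom.eqOn_closure (f := ((dvrData ω hω).spec n).comp (MilK.map (algebraMap E F) n))
      (g := (MilK.map (IsLocalRing.ResidueField.map (algebraMap A B)) n).comp ((dvrData ϖ hϖ).spec n))
      ?_ ha
    rintro _ ⟨u, rfl⟩
    simp only [AddMonoidHom.comp_apply, MilK.map_symbol, hU, ValData.spec_symbol, dvr_r_unit]
    exact congrArg MilK.symbol (funext fun i => Units.ext rfl)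
  rw [map_add, map_add, map_add, map_cons, hw, tame_cons_uniformizer ϖ hϖ hdA ha,
    tame_unit_eq_zero hdA hb, tame_unit_eq_zero hdB (hmap hb), add_zero, add_zero, cons_mul, cons_pow,
    map_add, map_nsmul, tame_cons_uniformizer ω hω hdB (hmap ha), key,
    tame_unit_eq_zero hdB (cons_unit_mem w (hmap ha)), add_zero]

end Groth.Agent.S19013
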