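import Groth.Statements.S19017
import Groth.Agent.IntMult88.MV
import Groth.Agent.CycLib.FieldDelta

set_option autoImplicit false
universe u
open CategoryTheory AlgebraicGeometry
open IntTh

namespace Groth.Agent.S19017

/-- Let k be an arbitrary field and X a scheme separated and of finite type over k, with the dimension
function δ induced from Spec k. Let i_1 : X_1 → X and i_2 : X_2 → X be closed subschemes whose
images cover X, and let Y be their intersection: closed immersions j_1 : Y → X_1, j_2 : Y → X_2 with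
i_1 ∘ j_1 = i_2 ∘ j_2 whose image in X is the intersection of the images of X_1 and X_2. Then the
sequence CH_n(Y) → CH_n(X_1) ⊕ CH_n(X_2) → CH_n(X) → 0, with first map γ ↦ (j_{1*}γ, −j_{2*}γ) and
second map the sum of the push-forwards, is exact for every integer n: every n-cycle on X is a sum
i_{1*}α_1 + i_{2*}α_2 of n-cycles on X_1 and X_2, and whenever such a sum is rationally equivalent
to zero on X there is an n-cycle γ on Y with α_1 rationally equivalent to j_{1*}γ on X_1 and α_2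
rationally equivalent to −j_{2*}γ on X_2. (The published statement does not require the two closed
subschemes to cover X; without that requirement the surjectivity fails already for two empty closed
subschemes of a point, and the printed argument uses the covering, so it is assumed here. The
published statement also calls the sequence one of rings graded by codimension; stated here is the
additive sequence graded by dimension, which is what the printed argument gives.) -/
theorem result (k : Type u) [Field k]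
    (X : Scheme.{u}) [X.Over (Spec (CommRingCat.of k))]
    [IsSeparated (X ↘ Spec (CommRingCat.of k))] [LocallyOfFiniteType (X ↘ Spec (CommRingCat.of k))]
    [QuasiCompact (X ↘ Spec (CommRingCat.of k))]
    (δ : X → ℤ) (hδ : Cyc.DeltaCompat (X ↘ Spec (CommRingCat.of k)) δ (fun _ => 0))
    {X₁ X₂ Y : Scheme.{u}} (i₁ : X₁ ⟶ X) (i₂ : X₂ ⟶ X) [IsClosedImmersion i₁] [IsClosedImmersion i₂]
    (hcov : Set.range i₁ ∪ Set.range i₂ = Set.univ)
    (j₁ : Y ⟶ X₁) (j₂ : Y ⟶ X₂) [IsClosedImmersion j₁] [IsClosedImmersion j₂]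
    (hcomm : j₁ ≫ i₁ = j₂ ≫ i₂) (hY : Set.range (j₁ ≫ i₁) = Set.range i₁ ∩ Set.range i₂) (n : ℤ) :
    (∀ α : AlgebraicCycle X ℤ, α ∈ Cyc.Zk X δ n →
      ∃ (α₁ : AlgebraicCycle X₁ ℤ) (α₂ : AlgebraicCycle X₂ ℤ),
        α₁ ∈ Cyc.Zk X₁ (fun x => δ (i₁ x)) n ∧ α₂ ∈ Cyc.Zk X₂ (fun x => δ (i₂ x)) n ∧
        α = AlgebraicCycle.map i₁ (fun x => δ (i₁ x)) δ α₁ + AlgebraicCycle.map i₂ (fun x => δ (i₂ x)) δ α₂) ∧
    (∀ (α₁ : AlgebraicCycle X₁ ℤ) (α₂ : AlgebraicCycle X₂ ℤ),
      α₁ ∈ Cyc.Zk X₁ (fun x => δ (i₁ x)) n → α₂ ∈ Cyc.Zk X₂ (fun x => δ (i₂ x)) n →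
      Cyc.RatEquivZero δ n
        (AlgebraicCycle.map i₁ (fun x => δ (i₁ x)) δ α₁ + AlgebraicCycle.map i₂ (fun x => δ (i₂ x)) δ α₂) →
      ∃ γ : AlgebraicCycle Y ℤ, γ ∈ Cyc.Zk Y (fun y => δ (i₁ (j₁ y))) n ∧
        Cyc.RatEquiv (fun x => δ (i₁ x)) n α₁
          (AlgebraicCycle.map j₁ (fun y => δ (i₁ (j₁ y))) (fun x => δ (i₁ x)) γ) ∧
        Cyc.RatEquiv (fun x => δ (i₂ x)) n α₂
          (-AlgebraicCycle.map j₂ (fun y => δ (i₁ (j₁ y))) (fun x => δ (i₂ x)) γ)) := by
  classical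
  haveI : IsLocallyNoetherian X := LocallyOfFiniteType.isLocallyNoetherian (X ↘ Spec (CommRingCat.of k))
  have hd : Cyc.IsDimFun X δ := by
    convert Groth.Agent.CycLib.isDimFun_fdelta k (X ↘ Spec (CommRingCat.of k)) using 1
    funext x
    obtain ⟨a, ha, ha'⟩ := Groth.Agent.CycLib.deltaCompat_fdelta k (X ↘ Spec (CommRingCat.of k))
      (X ↘ Spec (CommRingCat.of k)) (𝟙 _) (Category.comp_id _) x
    obtain ⟨b, hb, hb'⟩ := hδ x
    have hab : a = b := Nat.cast_injective (R := Cardinal) (ha.symm.trans hb)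
    rw [Groth.Agent.CycLib.fdelta_id] at ha'
    simp only at hb'
    omega
  refine ⟨fun α hα => ?_, fun α₁ α₂ h₁ h₂ h => ?_⟩
  · obtain ⟨α₁, hα₁⟩ := Groth.Agent.IntMult88.MV.exists_comp i₁ α
    obtain ⟨α₂', hα₂'⟩ := Groth.Agent.IntMult88.MV.exists_comp i₂
      (α - AlgebraicCycle.map i₁ (fun x => δ (i₁ x)) δ α₁)
    refine ⟨α₁, α₂', fun x hx => (hα₁ x).trans (hα _ hx), fun x hx => ?_, ?_⟩
    · rw [hα₂', Function.locallyFinsuppWithin.coe_sub, Pi.sub_apply, hα _ hx]
      by_cases hx1 : i₂ x ∈ Set.range i₁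
      · obtain ⟨z, hz⟩ := hx1
        rw [← hz, Groth.Agent.IntMult88.MV.map_apply i₁ _ δ (fun _ => rfl), hα₁, hz, hα _ hx, sub_zero]
      · rw [Groth.Agent.IntMult88.MV.map_apply_of_notMem i₁ _ δ α₁ hx1, sub_zero]
    · refine Function.locallyFinsuppWithin.coe_injective (funext fun x => ?_)
      show α x = (AlgebraicCycle.map i₁ (fun x => δ (i₁ x)) δ α₁ +
        AlgebraicCycle.map i₂ (fun x => δ (i₂ x)) δ α₂') x
      rw [Function.locallyFinsuppWithin.coe_add, Pi.add_apply]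
      by_cases hx : x ∈ Set.range i₂
      · obtain ⟨z, rfl⟩ := hx
        rw [Groth.Agent.IntMult88.MV.map_apply i₂ _ δ (fun _ => rfl), hα₂',
          Function.locallyFinsuppWithin.coe_sub, Pi.sub_apply]
        ring
      · rw [Groth.Agent.IntMult88.MV.map_apply_of_notMem i₂ _ δ α₂' hx, add_zero]
        obtain ⟨z, rfl⟩ := (Set.eq_univ_iff_forall.1 hcov x).resolve_right hx
        rw [Groth.Agent.IntMult88.MV.map_apply i₁ _ δ (fun _ => rfl), hα₁]
  · have hneg : AlgebraicCycle.map i₂ (fun x => δ (i₂ x)) δ (-α₂) =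
        -AlgebraicCycle.map i₂ (fun x => δ (i₂ x)) δ α₂ := by
      refine Function.locallyFinsuppWithin.coe_injective (funext fun x => ?_)
      show AlgebraicCycle.map i₂ (fun x => δ (i₂ x)) δ (-α₂) x =
        (-AlgebraicCycle.map i₂ (fun x => δ (i₂ x)) δ α₂) x
      rw [Function.locallyFinsuppWithin.coe_neg, Pi.neg_apply]
      by_cases hx : x ∈ Set.range i₂
      · obtain ⟨z, rfl⟩ := hx
        rw [Groth.Agent.IntMult88.MV.map_apply i₂ _ δ (fun _ => rfl),
          Groth.Agent.IntMult88.MV.map_apply i₂ _ δ (fun _ => rfl), Function.locallyFinsuppWithin.coe_neg,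
          Pi.neg_apply]
      · rw [Groth.Agent.IntMult88.MV.map_apply_of_notMem i₂ _ δ _ hx,
          Groth.Agent.IntMult88.MV.map_apply_of_notMem i₂ _ δ _ hx, neg_zero]
    obtain ⟨γ, hγ, hγ₁, hγ₂⟩ := Groth.Agent.IntMult88.MV.mayerVietoris hd i₁ i₂ hcov j₁ j₂ hcomm hY.ge n α₁ (-α₂)
      h₁ (by rw [Cyc.RatEquiv, hneg, sub_neg_eq_add]; exact h)
    refine ⟨γ, hγ, hγ₁, ?_⟩
    haveI : IsLocallyNoetherian X₂ := LocallyOfFiniteType.isLocallyNoetherian i₂
    have h' := Groth.Agent.IntMult88.MV.ratEquivZero_neg (Groth.Agent.IntMult88.MV.isDimFun_comp i₂ hd) hγ₂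
    rw [Cyc.RatEquiv, sub_neg_eq_add]
    rwa [neg_sub, sub_neg_eq_add, add_comm] at h'

end Groth.Agent.S19017
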