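import Groth.Statements.S19019
import Mathlib.Tactic
import Mathlib.LinearAlgebra.Matrix.PosDef
import Mathlib.MeasureTheory.Integral.IntervalIntegral.Basic
import Mathlib.MeasureTheory.Integral.IntervalIntegral.FundThmCalculus
import Mathlib.Analysis.SpecialFunctions.Integrals.Basic
import Mathlib.Topology.Algebra.Module.Cardinality
import Mathlib.Analysis.Matrix.Hermitian
import Mathlib.Analysis.Real.Cardinality

set_option autoImplicit false
open scoped ComplexOrder
open Toeplitz

namespace Groth.Agent.S19019

open Complex MeasureTheory intervalIntegral ComplexConjugate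

/-- The mean of a character over a period. -/
theorem integral_char (k : ℤ) :
    ∫ y in (0 : ℝ)..(2 * Real.pi), Complex.exp (Complex.I * (k : ℂ) * (y : ℂ)) =
      if k = 0 then ((2 * Real.pi : ℝ) : ℂ) else 0 := by
  split_ifs with h
  · subst h; simp
  · rw [integral_exp_mul_complex (by simp [h, I_ne_zero])]
    have : Complex.exp (Complex.I * (k : ℂ) * ((2 * Real.pi : ℝ) : ℂ)) = 1 := by
      rw [Complex.exp_eq_one_iff]
      exact ⟨k, by push_cast; ring⟩
    rw [this]
    simp


/-- Let A be an m × m complex Hermitian Toeplitz matrix, with entries A i j = t (j - i) constant along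
diagonals, and let f(y) = Σ_{-m < k < m} t k · exp(i k y) be the trigonometric polynomial attached
to it. If f has positive real part at every real y outside a countable set, then A is positive
definite (hence nondegenerate). (The source also states the mirror case: f negative off a countable
set gives A negative definite, which is this statement for -A.) -/
theorem result
    (m : ℕ) (t : ℤ → ℂ) (A : Matrix (Fin m) (Fin m) ℂ)
    (hA : ∀ i j : Fin m, A i j = t ((j : ℤ) - (i : ℤ))) (hH : A.IsHermitian)
    (hpos : Set.Countable {y : ℝ | ¬ 0 < (∑ k ∈ Finset.Ioo (-(m : ℤ)) (m : ℤ),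
        t k * Complex.exp (Complex.I * (k : ℂ) * (y : ℂ))).re}) :
    A.PosDef := by
  classical
  refine Matrix.PosDef.of_dotProduct_mulVec_pos hH fun v hv => ?_
  set F : ℝ → ℂ := fun y => ∑ k ∈ Finset.Ioo (-(m : ℤ)) (m : ℤ),
        t k * Complex.exp (Complex.I * (k : ℂ) * (y : ℂ)) with hF
  set p : ℝ → ℂ := fun y => ∑ j : Fin m, v j * Complex.exp (Complex.I * (-(j : ℤ) : ℤ) * (y : ℂ)) with hp
  have hFc : Continuous F := by fun_prop
  have hpc : Continuous p := by fun_prop
  have hinteg : ∫ y in (0 : ℝ)..(2 * Real.pi), F y * (conj (p y) * p y) =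
      ((2 * Real.pi : ℝ) : ℂ) * (star v ⬝ᵥ A.mulVec v) := by
    have expand : ∀ y : ℝ, F y * (conj (p y) * p y) = ∑ k ∈ Finset.Ioo (-(m : ℤ)) (m : ℤ),
        ∑ i : Fin m, ∑ j : Fin m, (t k * (conj (v i) * v j)) *
          Complex.exp (Complex.I * ((k + (i : ℤ) - (j : ℤ) : ℤ) : ℂ) * (y : ℂ)) := by
      intro y
      simp only [hF, hp, map_sum, Finset.sum_mul, Finset.mul_sum]
      rw [Finset.sum_comm]
      conv_rhs => rw [Finset.sum_comm]
      refine Finset.sum_congr rfl fun i _ => ?_
      conv_rhs => rw [Finset.sum_comm]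
      refine Finset.sum_congr rfl fun j _ => Finset.sum_congr rfl fun k _ => ?_
      rw [map_mul, ← Complex.exp_conj]
      simp only [map_mul, Complex.conj_I, map_intCast, Complex.conj_ofReal]
      rw [show Complex.I * ((k + (i : ℤ) - (j : ℤ) : ℤ) : ℂ) * (y : ℂ) = Complex.I * (k : ℂ) * (y : ℂ) +
        -Complex.I * ((-(i : ℤ) : ℤ) : ℂ) * (y : ℂ) + Complex.I * ((-(j : ℤ) : ℤ) : ℂ) * (y : ℂ) by
          push_cast; ring, Complex.exp_add, Complex.exp_add]
      ring
    simp only [expand]
    rw [intervalIntegral.integral_finsetSum fun k _ => Continuous.intervalIntegrable (by fun_prop) _ _]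
    refine Eq.trans (Finset.sum_congr rfl fun k _ =>
      intervalIntegral.integral_finsetSum fun i _ => Continuous.intervalIntegrable (by fun_prop) _ _) ?_
    refine Eq.trans (Finset.sum_congr rfl fun k _ => Finset.sum_congr rfl fun i _ =>
      intervalIntegral.integral_finsetSum fun j _ => Continuous.intervalIntegrable (by fun_prop) _ _) ?_
    simp only [intervalIntegral.integral_const_mul, integral_char]
    rw [Finset.sum_comm]
    simp only [dotProduct, Matrix.mulVec, Pi.star_apply, Finset.mul_sum]
    refine Finset.sum_congr rfl fun i _ => ?_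
    rw [Finset.sum_comm]
    refine Finset.sum_congr rfl fun j _ => ?_
    rw [Finset.sum_eq_single ((j : ℤ) - (i : ℤ))]
    · rw [if_pos (by ring), hA]
      simp only [RCLike.star_def]
      ring
    · intro k _ hk
      rw [if_neg (by omega), mul_zero]
    · intro h
      exact absurd (by simp; omega) h
  set z := star v ⬝ᵥ A.mulVec v with hz
  have him : z.im = 0 := Matrix.IsHermitian.im_star_dotProduct_mulVec_self (𝕜 := ℂ) hH v
  set w : ℝ → ℝ := fun y => (F y).re * Complex.normSq (p y) with hw
  have hwc : Continuous w := by fun_prop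
  have hre : ∫ y in (0 : ℝ)..(2 * Real.pi), w y = 2 * Real.pi * z.re := by
    have h := congrArg Complex.re hinteg
    rw [Complex.re_ofReal_mul] at h
    rw [← h, ← Complex.reCLM_apply, ← ContinuousLinearMap.intervalIntegral_comp_comm _
      (Continuous.intervalIntegrable (by fun_prop) _ _)]
    refine intervalIntegral.integral_congr fun y _ => ?_
    show (F y).re * Complex.normSq (p y) = (F y * (conj (p y) * p y)).re
    rw [← Complex.normSq_eq_conj_mul_self, Complex.re_mul_ofReal]
  have hdense : Dense {y : ℝ | 0 < (F y).re} :=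
    (Set.Countable.dense_compl ℝ hpos).mono fun y hy => not_not.mp hy
  have hnn : ∀ y, 0 ≤ (F y).re := fun y => by
    have hcl : IsClosed {y : ℝ | 0 ≤ (F y).re} := isClosed_le continuous_const (Complex.continuous_re.comp hFc)
    exact hcl.closure_subset_iff.mpr (fun u (hu : 0 < (F u).re) => le_of_lt hu) (hdense y)
  have hzeros : Set.Countable {y : ℝ | p y = 0} := by
    let Q : Polynomial ℂ := ∑ j : Fin m, Polynomial.C (v j) * Polynomial.X ^ (j : ℕ)
    have hQ : Q ≠ 0 := by
      intro hQ
      apply hv
      funext j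
      have := congrArg (fun q : Polynomial ℂ => q.coeff (j : ℕ)) hQ
      simpa [Q, Polynomial.coeff_C_mul_X_pow, Fin.val_inj] using this
    have hsub : {y : ℝ | p y = 0} ⊆
        ⋃ r ∈ (Q.roots.toFinset : Set ℂ), {y : ℝ | Complex.exp (-(Complex.I * (y : ℂ))) = r} := by
      intro y hy
      simp only [Set.mem_iUnion, Finset.mem_coe, Multiset.mem_toFinset, Polynomial.mem_roots hQ]
      refine ⟨_, ?_, rfl⟩
      rw [Polynomial.IsRoot]
      simp only [Q, Polynomial.eval_finsetSum, Polynomial.eval_mul, Polynomial.eval_C, Polynomial.eval_X_pow]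
      refine Eq.trans (Finset.sum_congr rfl fun j _ => ?_) hy
      rw [← Complex.exp_nat_mul]
      congr 2
      push_cast
      ring
    refine Set.Countable.mono hsub (Set.Countable.biUnion (Finset.countable_toSet _) fun r _ => ?_)
    by_cases hr : ∃ y₀ : ℝ, Complex.exp (-(Complex.I * (y₀ : ℂ))) = r
    · obtain ⟨y₀, rfl⟩ := hr
      refine Set.Countable.mono ?_ (Set.countable_range fun n : ℤ => y₀ - n * (2 * Real.pi))
      intro y hy
      obtain ⟨n, hn⟩ := Complex.exp_eq_exp_iff_exists_int.mp (show Complex.exp (-(Complex.I * (y : ℂ))) = _ from hy)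
      refine ⟨n, ?_⟩
      have := congrArg Complex.im hn
      simp at this
      simp only
      linarith
    · push Not at hr
      rw [show {y : ℝ | Complex.exp (-(Complex.I * (y : ℂ))) = r} = ∅ from
        Set.eq_empty_iff_forall_notMem.mpr fun y hy => hr y hy]
      exact Set.countable_empty
  obtain ⟨y, hyI, hyF, hyp⟩ : ∃ y ∈ Set.Icc (0 : ℝ) (2 * Real.pi), 0 < (F y).re ∧ p y ≠ 0 := by
    by_contra hc
    push Not at hc
    have hsub : Set.Icc (0 : ℝ) (2 * Real.pi) ⊆ {y | ¬ 0 < (F y).re} ∪ {y | p y = 0} := fun y hy => by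
      by_cases hh : 0 < (F y).re
      · exact Or.inr (hc y hy hh)
      · exact Or.inl hh
    exact Cardinal.Real.Icc_countable_iff.not.mpr (by linarith [Real.pi_pos])
      (Set.Countable.mono hsub (hpos.union hzeros))
  have hwpos : 0 < ∫ y in (0 : ℝ)..(2 * Real.pi), w y :=
    intervalIntegral.integral_pos (by linarith [Real.pi_pos]) hwc.continuousOn
      (fun u _ => mul_nonneg (hnn u) (Complex.normSq_nonneg _))
      ⟨y, hyI, mul_pos hyF (Complex.normSq_pos.mpr hyp)⟩
  rw [hre] at hwpos
  rw [Complex.pos_iff]
  exact ⟨pos_of_mul_pos_right hwpos (by linarith [Real.pi_pos]), him.symm⟩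

end Groth.Agent.S19019
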