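import Groth.Statements.S19020
import Groth.Agent.Todd.Toeplitz
import Mathlib.Data.Real.StarOrdered

set_option autoImplicit false
open Toeplitz

namespace Groth.Agent.S19020

open Groth.Agent.Todd


/-- For natural numbers n and m, the m × m real Toeplitz matrix with (i, j) entry (-1)^(i+j) · C(2n, n +
|i - j|), i.e. with t_k = (-1)^k C(2n, n + k) on the k-th diagonal for |k| ≤ n and zero beyond, is
positive definite; in particular it is nondegenerate, which is the printed assertion (positive
definiteness is what the printed proof establishes; m = 0 is the empty matrix). -/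
theorem result (n m : ℕ) :
    (Matrix.of fun i j : Fin m =>
        (-1 : ℝ) ^ ((i : ℕ) + (j : ℕ)) * (Nat.choose (2 * n) (n + Nat.dist i j) : ℝ)).PosDef := by
  have e : (Matrix.of fun i j : Fin m =>
      (-1 : ℝ) ^ ((i : ℕ) + (j : ℕ)) * (Nat.choose (2 * n) (n + Nat.dist i j) : ℝ)) =
      (Toeplitz.band ℝ n m).conjTranspose * Toeplitz.band ℝ n m := by
    ext i j
    rw [Matrix.conjTranspose_eq_transpose_of_trivial, Toeplitz.gram_apply]
    rfl
  rw [e]
  exact Matrix.PosDef.conjTranspose_mul_self _ (Toeplitz.band_injective ℝ n m)

end Groth.Agent.S19020
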