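import Groth.Statements.S19021
import Groth.Agent.Todd.Toeplitz

set_option autoImplicit false
open Toeplitz

namespace Groth.Agent.S19021

open Groth.Agent.Todd Matrix


/-- For natural numbers n and m, the m × m integer Toeplitz matrix with (i, j) entry (-1)^(i+j) ·
C(2n+1, n+1+i-j) (the binomial coefficient being 0 outside the range 0 ≤ n+1+i-j ≤ 2n+1;
equivalently s_k = (-1)^k C(2n+1, n+k+1) on the diagonal i - j = k for -n-1 ≤ k ≤ n and zero beyond)
is nondegenerate: its determinant is nonzero (m = 0 is the empty matrix, of determinant 1). -/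
theorem result (n m : ℕ) :
    (Matrix.of fun i j : Fin m =>
        (-1 : ℤ) ^ ((i : ℕ) + (j : ℕ)) *
          (if (j : ℕ) ≤ (i : ℕ) then (Nat.choose (2 * n + 1) (n + 1 + ((i : ℕ) - (j : ℕ))) : ℤ)
            else (Nat.choose (2 * n + 1) (n + ((j : ℕ) - (i : ℕ))) : ℤ))).det ≠ 0 := by
  set M : Matrix (Fin m) (Fin m) ℤ := Matrix.of fun i j : Fin m =>
        (-1 : ℤ) ^ ((i : ℕ) + (j : ℕ)) *
          (if (j : ℕ) ≤ (i : ℕ) then (Nat.choose (2 * n + 1) (n + 1 + ((i : ℕ) - (j : ℕ))) : ℤ)
            else (Nat.choose (2 * n + 1) (n + ((j : ℕ) - (i : ℕ))) : ℤ)) with hM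
  intro hdet
  obtain ⟨x, hx0, hx⟩ := Matrix.exists_mulVec_eq_zero_iff.mpr hdet
  have key : M + Mᵀ = (Toeplitz.band ℤ (n + 1) m)ᵀ * Toeplitz.band ℤ (n + 1) m := by
    have pascal : ∀ d : ℕ, ((2 * (n + 1)).choose (n + 1 + d) : ℤ) =
        (2 * n + 1).choose (n + 1 + d) + (2 * n + 1).choose (n + d) := fun d => by
      rw [show 2 * (n + 1) = (2 * n + 1) + 1 by ring, show n + 1 + d = (n + d) + 1 by ring,
        Nat.choose_succ_succ']
      push_cast
      ring
    ext i j
    rw [Toeplitz.gram_apply, Matrix.add_apply, Matrix.transpose_apply, hM, Matrix.of_apply,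
      Matrix.of_apply, add_comm (j : ℕ)]
    rcases lt_trichotomy (i : ℕ) j with h | h | h
    · rw [Nat.dist_eq_sub_of_le h.le, if_neg (by omega), if_pos h.le, pascal]
      ring
    · rw [h, Nat.dist_self, if_pos le_rfl, pascal, Nat.sub_self, add_zero, add_zero,
        show (2 * n + 1).choose n = (2 * n + 1).choose (n + 1) from Nat.choose_symm_of_eq_add (by ring)]
      ring
    · rw [Nat.dist_eq_sub_of_le_right h.le, if_pos h.le, if_neg (by omega), pascal]
      ring
  have h0 : x ⬝ᵥ (M + Mᵀ) *ᵥ x = 0 := by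
    rw [add_mulVec, dotProduct_add, mulVec_transpose, dotProduct_comm x (x ᵥ* M),
      ← dotProduct_mulVec, hx]
    simp
  rw [key, ← mulVec_mulVec, dotProduct_mulVec, vecMul_transpose] at h0
  exact hx0 (Toeplitz.band_injective ℤ (n + 1) m
    ((dotProduct_self_eq_zero.mp h0).trans (mulVec_zero _).symm))

end Groth.Agent.S19021
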