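import Groth.Statements.S19022
import Groth.Agent.ProjTwist.Invertible
import Groth.Agent.GrpdLib.InvAffine
import Groth.Agent.ParaFLib.OpenData

set_option autoImplicit false
universe u
open CategoryTheory AlgebraicGeometry
open PicF

open Groth.Agent.QCoh Groth.Agent.Props.GenLocus

namespace Groth.Agent.S19022

/-- Let X be a scheme, L an invertible O_X-module and T a finite set of closed points of X that lies in
some affine open of X. Then T lies in an affine open U of X on which L is trivial (L restricted to U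
is isomorphic to the structure sheaf). (The source states this for a smooth quasi-projective complex
surface, where every finite set of points lies in an affine open, and phrases it as: X^n and the
symmetric product S^n X are covered by the opens U^n and S^n U with U affine and L trivial on U; the
printed argument uses only that the finitely many points lie in one affine open, which is taken as
the hypothesis here.) -/
theorem result
    (X : Scheme.{u}) (L : X.Modules) (hL : PicF.IsInvertible L)
    (T : Finset X) (hT : ∀ x ∈ T, IsClosed ({x} : Set X))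
    (hU : ∃ U : X.Opens, IsAffineOpen U ∧ ∀ x ∈ T, x ∈ U) :
    ∃ U : X.Opens, IsAffineOpen U ∧ (∀ x ∈ T, x ∈ U) ∧
      Nonempty (L.restrict U.ι ≅ Coh.structureModule (↑U : Scheme.{u})) := by
  classical
  obtain ⟨U, hU, hTU⟩ := hU
  have := Groth.Agent.ProjTwist.isQCoh_of_isInvertible hL
  have data : ∀ x : T, ∃ (g c : Γ(X, U)) (n : ℕ) (t : Γ(L, U)) (e : Γ(L, X.basicOpen g)),
      (x : X) ∈ X.basicOpen g ∧ (x : X) ∈ X.basicOpen c ∧ (∀ y ∈ T, y ≠ (x : X) → y ∉ X.basicOpen c) ∧
      IsGen L (X.basicOpen g) e ∧ res L (X.basicOpen_le g) t = (rres (X.basicOpen_le g) g) ^ n • e := by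
    rintro ⟨x, hx⟩
    obtain ⟨V, e₀, hxV, he₀⟩ := exists_isGen hL x
    obtain ⟨g, hgV, hxg⟩ := hU.exists_basicOpen_le (V := V) ⟨x, hxV⟩ (hTU x hx)
    let O : X.Opens := ⟨(⋃ y ∈ T.erase x, {y})ᶜ,
      ((T.erase x).finite_toSet.isClosed_biUnion fun y hy => hT y (Finset.mem_of_mem_erase hy)).isOpen_compl⟩
    have hxO : x ∈ O := fun hm => by
      obtain ⟨y, hy, hxy⟩ := Set.mem_iUnion₂.mp hm
      exact Finset.ne_of_mem_erase hy hxy.symm
    obtain ⟨c, hcO, hxc⟩ := hU.exists_basicOpen_le (V := O) ⟨x, hxO⟩ (hTU x hx)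
    obtain ⟨n, t, ht⟩ := (QCoh.isLocalizingAt L hU g).surj (res L hgV e₀)
    exact ⟨g, c, n, t, _, hxg, hxc, fun y hy hne hyc =>
      hcO hyc (Set.mem_iUnion₂.mpr ⟨y, Finset.mem_erase.mpr ⟨hne, hy⟩, rfl⟩), he₀.restrict hgV, ht⟩
  choose g c n t e hxg hxc hoth hgen ht using data
  let s : Γ(L, U) := ∑ j, c j • t j
  have hloc : ∀ x : T, ∃ W : X.Opens, (x : X) ∈ W ∧ ∃ h : W ≤ U, IsGen L W (res L h s) := by
    intro x
    have hb : ∀ j, ∃ b : Γ(X, X.basicOpen (g x)), res L (X.basicOpen_le (g x)) (t j) = b • e x := fun j => by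
      obtain ⟨b, hb, -⟩ := (hgen x).exists_eq le_rfl (res L (X.basicOpen_le (g x)) (t j))
      exact ⟨b, by rwa [res_self] at hb⟩
    choose b hb using hb
    let a : Γ(X, X.basicOpen (g x)) := ∑ j, rres (X.basicOpen_le (g x)) (c j) * b j
    have hs : res L (X.basicOpen_le (g x)) s = a • e x := by
      rw [map_sum, Finset.sum_smul]
      exact Finset.sum_congr rfl fun j _ => by rw [res_smul, hb, smul_smul]
    have hbx : b x = (rres (X.basicOpen_le (g x)) (g x)) ^ n x := by
      refine (hgen x).injective le_rfl ?_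
      rw [res_self, ← hb x, ht x]
    have hau : IsUnit (X.presheaf.germ (X.basicOpen (g x)) (x : X) (hxg x) a) := by
      refine (IsLocalRing.residue_ne_zero_iff_isUnit _).mp ?_
      have hzero : ∀ j, j ≠ x → IsLocalRing.residue (X.presheaf.stalk (x : X))
          (X.presheaf.germ (X.basicOpen (g x)) (x : X) (hxg x)
            (rres (X.basicOpen_le (g x)) (c j) * b j)) = 0 := fun j hj => by
        rw [map_mul, map_mul, (IsLocalRing.residue_eq_zero_iff _).mpr, zero_mul]
        rw [X.presheaf.germ_res_apply]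
        intro hu
        exact hoth j x x.2 (fun h => hj (Subtype.ext h.symm))
          ((X.mem_basicOpen (c j) (x : X) (hTU x x.2)).mpr hu)
      rw [map_sum, map_sum, Finset.sum_eq_single x (fun j _ hj => hzero j hj)
        (fun h => absurd (Finset.mem_univ x) h)]
      refine (IsLocalRing.residue_ne_zero_iff_isUnit _).mpr ?_
      rw [map_mul, hbx, map_pow, X.presheaf.germ_res_apply, X.presheaf.germ_res_apply]
      exact ((X.mem_basicOpen (c x) (x : X) (hTU x x.2)).mp (hxc x)).mul
        (((X.mem_basicOpen (g x) (x : X) (hTU x x.2)).mp (hxg x)).pow _)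
    refine ⟨X.basicOpen a, (X.mem_basicOpen a (x : X) (hxg x)).mpr hau,
      (X.basicOpen_le a).trans (X.basicOpen_le (g x)), ?_⟩
    rw [← res_res L (X.basicOpen_le (g x)) (X.basicOpen_le a), hs, res_smul]
    exact ((hgen x).restrict (X.basicOpen_le a)).smul_unit (RingedSpace.isUnit_res_basicOpen _ a)
  choose W hxW hWU hWgen using hloc
  obtain ⟨f, hfW, hTf⟩ := GrpdLib.exists_basicOpen_le_of_finite hU (U := ⨆ x, W x) (O := (T : Set X))
    T.finite_toSet (fun x hx => TopologicalSpace.Opens.mem_iSup.mpr ⟨⟨x, hx⟩, hxW _⟩) (fun x hx => hTU x hx)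
  refine ⟨X.basicOpen f, hU.basicOpen f, fun x hx => hTf hx,
    ParaFLib.OpenData.nonempty_iso_of_isGen (σ := res L (X.basicOpen_le f) s) (IsGen.of_local fun y hy => ?_)⟩
  obtain ⟨x, hyx⟩ := TopologicalSpace.Opens.mem_iSup.mp (hfW hy)
  refine ⟨X.basicOpen f ⊓ W x, inf_le_left, ⟨hy, hyx⟩, ?_⟩
  rw [res_res, ← res_res L (hWU x) (inf_le_right : X.basicOpen f ⊓ W x ≤ W x)]
  exact (hWgen x).restrict inf_le_right

end Groth.Agent.S19022
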