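import Groth.Statements.S19023
import Mathlib.Tactic

set_option autoImplicit false
universe u v
open Filt

namespace Groth.Agent.S19023

/-- Let F be a module with two decreasing filtrations M and N by submodules, indexed by the natural
numbers. Suppose that for some j and l the submodule N (j+1) ⊓ M l maps onto the quotient M l / M
(l+1), that is M l ≤ M (l+1) ⊔ (N (j+1) ⊓ M l). Then for every i ≤ j the map between the graded
pieces (N i ⊓ M (l+1)) / (N (i+1) ⊓ M (l+1)) → (N i ⊓ M l) / (N (i+1) ⊓ M l) induced by the
inclusion M (l+1) ≤ M l is bijective. (The source states this for two finite decreasing filtrations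
of a coherent sheaf on an algebraic variety; the statement concerns only the lattice of subobjects
and is given here for submodules of a module.) -/
theorem result
    (R : Type u) (F : Type v) [Ring R] [AddCommGroup F] [Module R F]
    (M N : ℕ → Submodule R F) (hM : Antitone M) (hN : Antitone N) (j l : ℕ)
    (h : M l ≤ M (l + 1) ⊔ (N (j + 1) ⊓ M l)) (i : ℕ) (hi : i ≤ j) :
    Function.Bijective
      (Submodule.mapQ ((N (i + 1)).comap (N i ⊓ M (l + 1)).subtype) ((N (i + 1)).comap (N i ⊓ M l).subtype)
        (Submodule.inclusion (inf_le_inf_left (N i) (hM (Nat.le_succ l))))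
        (fun x hx => hx)) := by
  constructor
  · rw [← LinearMap.ker_eq_bot, eq_bot_iff]
    intro x hx
    obtain ⟨x, rfl⟩ := Submodule.Quotient.mk_surjective _ x
    refine (Submodule.mem_bot R).mpr ((Submodule.Quotient.mk_eq_zero _).mpr ?_)
    exact (Submodule.Quotient.mk_eq_zero ((N (i + 1)).comap (N i ⊓ M l).subtype)).mp
      (LinearMap.mem_ker.mp hx)
  · intro y
    obtain ⟨⟨y, hyN, hyM⟩, rfl⟩ := Submodule.Quotient.mk_surjective _ y
    obtain ⟨a, ha, b, ⟨hbN, hbM⟩, hab⟩ := Submodule.mem_sup.mp (h hyM)
    have haN : a ∈ N i := by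
      have hbi : b ∈ N i := hN (show i ≤ j + 1 by omega) hbN
      have : a = y - b := by rw [← hab]; abel
      rw [this]
      exact Submodule.sub_mem _ hyN hbi
    refine ⟨Submodule.Quotient.mk ⟨a, haN, ha⟩, ?_⟩
    refine (Submodule.Quotient.eq ((N (i + 1)).comap (N i ⊓ M l).subtype)).mpr ?_
    show a - y ∈ N (i + 1)
    rw [show a - y = -b by rw [← hab]; abel]
    exact Submodule.neg_mem _ (hN (show i + 1 ≤ j + 1 by omega) hbN)

end Groth.Agent.S19023
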