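import Groth.Statements.S19025
import Mathlib.Algebra.Group.ForwardDiff


set_option autoImplicit false
universe u
open HigherRestr

namespace Groth.Agent.S19025

/-- In abstract form, the estimate its proof establishes. Let S be a commutative ring, I an ideal of S,
g₀ and g₁ elements with g₁ - g₀ ∈ I, N a natural number and y a sequence in S such that, for 1 ≤ i ≤
N, the (N-i)-fold unit-step forward difference of y taken at i lies in I^(N-i). Then g₀^N times the
N-fold forward difference of y at 0, minus the N-fold forward difference at 0 of the twisted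
sequence j ↦ g₀^(N-j) g₁^j y_j, lies in I^N. (In the source S is the ring of functions on an affine
chart of X^n, I the ideal of a pairwise diagonal, g₀ and g₁ the two pullbacks of a transition unit
of L, and y_j the components x_λ along the compositions a₀^(N-j) a₁^j μ; the estimate is what makes
the higher order restrictions D^l_L well defined on ker D^(l-1)_L independently of the
trivialisation.) -/
theorem result
    (S : Type u) [CommRing S] (I : Ideal S) (g₀ g₁ : S) (hg : g₁ - g₀ ∈ I)
    (N : ℕ) (y : ℕ → S)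
    (hy : ∀ i : ℕ, 1 ≤ i → i ≤ N → (fwdDiff (1 : ℕ))^[N - i] y i ∈ I ^ (N - i)) :
    g₀ ^ N * (fwdDiff (1 : ℕ))^[N] y 0 -
        (fwdDiff (1 : ℕ))^[N] (fun j : ℕ => g₀ ^ (N - j) * g₁ ^ j * y j) 0 ∈ I ^ N := by
  have hcongr : ∀ (n : ℕ) (f g : ℕ → S) (x : ℕ), (∀ j, j ≤ x + n → f j = g j) →
      (fwdDiff (1 : ℕ))^[n] f x = (fwdDiff (1 : ℕ))^[n] g x := by
    intro n
    induction n with
    | zero => intro f g x h; exact h x le_rfl
    | succ n ih =>
        intro f g x h
        rw [Function.iterate_succ_apply, Function.iterate_succ_apply]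
        exact ih _ _ x fun j hj => by simp only [fwdDiff]; rw [h j (by omega), h (j + 1) (by omega)]
  have hlin : ∀ (n : ℕ) (a b : S) (f g : ℕ → S) (x : ℕ), (fwdDiff (1 : ℕ))^[n] (fun j => a * f j + b * g j) x =
      a * (fwdDiff (1 : ℕ))^[n] f x + b * (fwdDiff (1 : ℕ))^[n] g x := by
    intro n
    induction n with
    | zero => intro a b f g x; rfl
    | succ n ih =>
        intro a b f g x
        rw [Function.iterate_succ_apply, Function.iterate_succ_apply, Function.iterate_succ_apply, ← ih]
        refine congrArg (fun h => (fwdDiff (1 : ℕ))^[n] h x) (funext fun j => ?_)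
        simp only [fwdDiff]
        ring
  have hshift : ∀ (n : ℕ) (f : ℕ → S) (x : ℕ),
      (fwdDiff (1 : ℕ))^[n] (fun j => f (j + 1)) x = (fwdDiff (1 : ℕ))^[n] f (x + 1) := by
    intro n
    induction n with
    | zero => intro f x; rfl
    | succ n ih =>
        intro f x
        rw [Function.iterate_succ_apply, Function.iterate_succ_apply]
        exact ih (fwdDiff (1 : ℕ) f) x
  have key : ∀ (N e : ℕ) (y : ℕ → S),
      (∀ i : ℕ, 1 ≤ i → i ≤ N → (fwdDiff (1 : ℕ))^[N - i] y i ∈ I ^ (N - i + e)) →
      g₀ ^ N * (fwdDiff (1 : ℕ))^[N] y 0 -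
        (fwdDiff (1 : ℕ))^[N] (fun j : ℕ => g₀ ^ (N - j) * g₁ ^ j * y j) 0 ∈ I ^ (N + e) := by
    intro N
    induction N with
    | zero => intro e y _; simp
    | succ N ih =>
        intro e y hy
        set G : (ℕ → S) → ℕ → S := fun z j => g₀ ^ (N - j) * g₁ ^ j * z j
        set z₁ : ℕ → S := fun j => y (j + 1)
        set z₂ : ℕ → S := fwdDiff (1 : ℕ) y
        have hT : (fwdDiff (1 : ℕ))^[N + 1] (fun j : ℕ => g₀ ^ (N + 1 - j) * g₁ ^ j * y j) 0 =
            (g₁ - g₀) * (fwdDiff (1 : ℕ))^[N] (G z₁) 0 + g₀ * (fwdDiff (1 : ℕ))^[N] (G z₂) 0 := by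
          rw [← hlin, Function.iterate_succ_apply]
          refine hcongr _ _ _ _ fun j hj => ?_
          simp only [fwdDiff, G, z₁, z₂]
          rw [show N + 1 - (j + 1) = N - j by omega, show N + 1 - j = (N - j) + 1 by omega]
          ring
        have h1 := ih e z₁ fun i hi hiN => by
          rw [hshift]
          have := hy (i + 1) (by omega) (by omega)
          rwa [show N + 1 - (i + 1) = N - i by omega] at this
        have h2 := ih (e + 1) z₂ fun i hi hiN => by
          have := hy i hi (by omega)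
          rw [show N + 1 - i = (N - i) + 1 by omega, Function.iterate_succ_apply] at this
          rwa [show N - i + (e + 1) = N - i + 1 + e by omega]
        have h3 : (fwdDiff (1 : ℕ))^[N] z₁ 0 ∈ I ^ (N + e) := by
          rw [hshift]
          have := hy 1 le_rfl (by omega)
          simpa using this
        rw [hT, Function.iterate_succ_apply]
        have hsum : g₀ ^ (N + 1) * (fwdDiff (1 : ℕ))^[N] z₂ 0 -
            ((g₁ - g₀) * (fwdDiff (1 : ℕ))^[N] (G z₁) 0 + g₀ * (fwdDiff (1 : ℕ))^[N] (G z₂) 0) =
            g₀ * (g₀ ^ N * (fwdDiff (1 : ℕ))^[N] z₂ 0 - (fwdDiff (1 : ℕ))^[N] (G z₂) 0) +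
              (g₁ - g₀) * ((g₀ ^ N * (fwdDiff (1 : ℕ))^[N] z₁ 0 - (fwdDiff (1 : ℕ))^[N] (G z₁) 0) -
                g₀ ^ N * (fwdDiff (1 : ℕ))^[N] z₁ 0) := by ring
        rw [hsum, show N + 1 + e = N + (e + 1) by omega]
        refine add_mem (Ideal.mul_mem_left _ _ h2) ?_
        rw [show N + (e + 1) = (N + e) + 1 by omega, pow_succ']
        exact Ideal.mul_mem_mul hg (sub_mem h1 (Ideal.mul_mem_left _ _ h3))
  simpa using key N 0 y (by simpa using hy)

end Groth.Agent.S19025
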