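import Groth.Statements.S1903
import Groth.Agent.CycLib.P1SheafCut
-- import your own Groth.Agent.* helpers here

set_option autoImplicit false
set_option maxHeartbeats 1000000
universe u
open CategoryTheory AlgebraicGeometry
open CategoryTheory.Limits
open Cyc
open Groth.Agent Groth.Agent.CycLib

namespace Groth.Agent.S1903

/-- Let F be a coherent module on P¹_X with δP ≤ k + 1 on its support and δ ≤ k on the supports of F_0 =
s₀^*F and F_∞ = s_∞^*F, and such that every associated point p of F (maximal ideal of O_p associated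
to F_p) lies on neither section or has δP(p) < k. Then [F_0]_k ∼_rat [F_∞]_k on X. The published
statement asks this only of embedded associated points of F; as published it fails when an
irreducible component of Supp(F) of δ-dimension k lies over 0 or ∞ (X the spectrum of a field, k =
0, F the structure sheaf of the point 0 of P¹_X pushed forward: [F_0]_0 = [X] but [F_∞]_0 = 0); the
hypothesis here instead excludes every associated point of F over 0 or ∞ with δP = k. Here P¹_X → X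
is the projective line over X with its dimension function δP induced from δ, and s₀, s_∞ : X → P¹_X
are the sections at 0 and ∞. A pair (X, δ) with Cyc.IsSetup plays the role of a scheme locally of
finite type over a base with a dimension function (X locally Noetherian with universally catenary
local rings, δ a dimension function), and Cyc.DeltaCompat records that the dimension function
upstairs is the induced one. -/
theorem result (X : Scheme.{u}) (δ : X → ℤ) (hX : Cyc.IsSetup X δ) (δP : ↥(CohB1.ProjSpaceOver 1 X) → ℤ) (hP : Cyc.DeltaCompat (CohB1.ProjSpaceOver.toBase 1 X) δP δ) (k : ℤ) (F : (CohB1.ProjSpaceOver 1 X).Modules) (hF : Coh.IsCoh F) (hsupp : ∀ p : ↥(CohB1.ProjSpaceOver 1 X), Nontrivial (F.presheaf.stalk p) → δP p ≤ k + 1) (h0 : ∀ x : X, Nontrivial (((Scheme.Modules.pullback (P1.sect X 0)).obj F).presheaf.stalk x) → δ x ≤ k) (h1 : ∀ x : X, Nontrivial (((Scheme.Modules.pullback (P1.sect X 1)).obj F).presheaf.stalk x) → δ x ≤ k) (hemb : ∀ p : ↥(CohB1.ProjSpaceOver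 1 X), IsAssociatedPrime (IsLocalRing.maximalIdeal ((CohB1.ProjSpaceOver 1 X).presheaf.stalk p)) (F.presheaf.stalk p) → p ∉ Set.range ⇑(P1.sect X 0) ∪ Set.range ⇑(P1.sect X 1) ∨ δP p < k) (α β : AlgebraicCycle X ℤ) (hα : ⇑α = Cyc.sheafFun δ k ((Scheme.Modules.pullback (P1.sect X 0)).obj F)) (hβ : ⇑β = Cyc.sheafFun δ k ((Scheme.Modules.pullback (P1.sect X 1)).obj F)) : Cyc.RatEquiv δ k α β := by
  classical
  haveI := hX.1
  haveI : IsProper (CohB1.ProjSpaceOver.toBase 1 X) := ProjProper.Basic.isProper_toBase 1 X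
  haveI : IsLocallyNoetherian (CohB1.ProjSpaceOver 1 X) :=
    LocallyOfFiniteType.isLocallyNoetherian (CohB1.ProjSpaceOver.toBase 1 X)
  have hdP : Cyc.IsDimFun (CohB1.ProjSpaceOver 1 X) δP :=
    isDimFun_of_deltaCompat (CohB1.ProjSpaceOver.toBase 1 X) hX.2.1 hX.2.2 hP
  have hD : ∀ (i : Fin (1 + 1)) (ζ : TopSupp δP k F), ζ.1 ∈ chartOpen X i := fun i ζ =>
    mem_chartOpen_of_notMem_range _ (fun h => by
      haveI := FDesc.QuasiFlat.finite_stalk_of_isCoh F hF ζ.1
      obtain ⟨⟨q, hq, hn⟩, rfl⟩ : ∃ ζ' : TopSupp δP k F, ζ' = ζ := ⟨ζ, rfl⟩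
      rcases h with ⟨x, rfl⟩ | ⟨x, rfl⟩
      · have := h0 x (nontrivial_pullback_stalk F (P1.sect X 0) x hn)
        rw [delta_sect hP] at hq
        omega
      · have := h1 x (nontrivial_pullback_stalk F (P1.sect X 1) x hn)
        rw [delta_sect hP] at hq
        omega) i
  let g : (ζ : TopSupp δP k F) → (CohB1.ProjSpaceOver 1 X).residueField (ζ.1) := fun ζ =>
    tVal X 0 1 (ζ.1) (hD 0 ζ) ^ suppLen δP k F ζ
  have hne : ∀ ζ : TopSupp δP k F, tVal X 0 1 (ζ.1) (hD 0 ζ) ≠ 0 := fun ζ =>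
    tVal_ne_zero 0 1 _ (hD 0 ζ) (hD 1 ζ)
  have hg : ∀ ζ, g ζ ≠ 0 := fun ζ => pow_ne_zero _ (hne ζ)
  have hlf := finite_top_dim_support F hdP hF hsupp
  obtain ⟨C, hC⟩ := exists_cycle_finsum_divFun hdP (fun ζ : TopSupp δP k F => ζ.1) g hg hlf
  have hC' : ∀ p, C p = ∑ᶠ ζ : TopSupp δP k F,
      (suppLen δP k F ζ : ℤ) * Cyc.divFun δP (ζ.1) (tVal X 0 1 (ζ.1) (hD 0 ζ)) p := fun p =>
    (hC p).trans (finsum_congr fun ζ => divFun_pow hdP (hne ζ) _ p)
  have c0 : ∀ x, C (P1.sect X 0 x) = α x := fun x => by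
    rw [hC', finsum_suppLen_eq_sheafFun F hP hdP hF hsupp hemb 0 1 (by decide) (hD 0) (hD 1) x, hα]
  have c1 : ∀ x, C (P1.sect X 1 x) = - β x := fun x => by
    rw [hC', hβ, ← finsum_suppLen_eq_sheafFun F hP hdP hF hsupp hemb 1 0 (by decide) (hD 1) (hD 0) x,
      ← finsum_neg_distrib]
    refine finsum_congr fun ζ => ?_
    rw [eq_inv_of_mul_eq_one_left (tVal_mul 0 1 (ζ.1) (hD 0 ζ) (hD 1 ζ)),
      divFun_inv hdP (tVal_ne_zero 1 0 _ (hD 1 ζ) (hD 0 ζ)), mul_neg]
  have hsupp : ∀ p, C p ≠ 0 → p ∈ Set.range ⇑(P1.sect X 0) ∪ Set.range ⇑(P1.sect X 1) := fun p hp => by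
    by_contra hn
    refine hp ((hC' p).trans (finsum_eq_zero_of_forall_eq_zero fun ζ => ?_))
    rw [Cyc.divFun]
    split_ifs with h
    · rw [tVal_eq_specMap 0 1 h.1 (mem_chartOpen_of_notMem_range p hn 0),
        ordAt_specMap hdP h.1 h.2 ?_, LenLib.ordZ_of_isUnit ?_, mul_zero]
      · exact ((isUnit_tGerm_iff X 0 1 p _).2 (mem_chartOpen_of_notMem_range p hn 1)).map _
      · exact (((isUnit_tGerm_iff X 0 1 p _).2 (mem_chartOpen_of_notMem_range p hn 1)).map _).ne_zero
    · exact mul_zero _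
  have hrel : Cyc.RatEquiv δP k C 0 :=
    ⟨TopSupp δP k F, fun ζ => ζ.1, g, fun ζ => ζ.2.1, hg, hlf, fun p => by simpa using hC p⟩
  have hmap := ratEquiv_map δP δ hdP hX.2.2 (CohB1.ProjSpaceOver.toBase 1 X) hP k C 0 hrel
  have hco : ∀ i x, AlgebraicCycle.mapCoeff (CohB1.ProjSpaceOver.toBase 1 X) δP δ (P1.sect X i x) = 1 :=
    fun i x => by
      unfold AlgebraicCycle.mapCoeff
      rw [if_pos, residueDegree_toBase_sect]
      show δP _ = δ (CohB1.ProjSpaceOver.toBase 1 X _)
      rw [toBase_sect, delta_sect hP]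
  have hval : ∀ x, AlgebraicCycle.map (CohB1.ProjSpaceOver.toBase 1 X) δP δ C x = α x - β x := fun x => by
    rw [map_apply_eq_sum _ δP δ C x {P1.sect X 0 x, P1.sect X 1 x} fun p hp hne => ?_,
      Finset.filter_true_of_mem fun p hp => ?_, Finset.sum_pair (sect_ne x x), c0, c1, hco, hco]
    · simp [sub_eq_add_neg]
    · rcases Finset.mem_insert.1 hp with rfl | hp
      · exact toBase_sect 0 x
      · rw [Finset.mem_singleton.1 hp]; exact toBase_sect 1 x
    · rcases hsupp p hne with ⟨y, rfl⟩ | ⟨y, rfl⟩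
      · rw [toBase_sect] at hp; simp [hp]
      · rw [toBase_sect] at hp; simp [hp]
  unfold Cyc.RatEquiv at hmap ⊢
  have hzero : ∀ x, AlgebraicCycle.map (CohB1.ProjSpaceOver.toBase 1 X) δP δ
      (0 : AlgebraicCycle (CohB1.ProjSpaceOver 1 X) ℤ) x = 0 := fun x => by
    rw [map_apply_eq_sum _ δP δ _ x ∅ fun p _ h => absurd rfl h]; simp
  have e : α - β = AlgebraicCycle.map (CohB1.ProjSpaceOver.toBase 1 X) δP δ C -
      AlgebraicCycle.map (CohB1.ProjSpaceOver.toBase 1 X) δP δ 0 :=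
    DFunLike.ext _ _ fun x => by
      show α x - β x = AlgebraicCycle.map _ δP δ C x - AlgebraicCycle.map _ δP δ 0 x
      rw [hval, hzero, sub_zero]
  rw [e]
  exact hmap

end Groth.Agent.S1903
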