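import Groth.Statements.S19033
import Groth.Agent.LabG84.BI
-- import your own Groth.Agent.* helpers here

set_option autoImplicit false
universe u
open LabGraph

namespace Groth.Agent.S19033

variable {V : Type u} [DecidableEq V]

lemma term_nonpos {Z : Finset V} {u p q : V} (h : u ∈ Z ∨ ¬ ((p = u ∧ q ∈ Z) ∨ (q = u ∧ p ∈ Z))) :
    (if p = u then (if q ∈ Z then (1 : ℤ) else 0) - (if p ∈ Z then 1 else 0) else 0) +
      (if q = u then (if p ∈ Z then (1 : ℤ) else 0) - (if q ∈ Z then 1 else 0) else 0) ≤ 0 := by
  by_cases a1 : p = u <;> by_cases a2 : q = u <;> by_cases b1 : p ∈ Z <;> by_cases b2 : q ∈ Z <;> simp_all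

lemma term_zero {Z : Finset V} {u p q : V} (h : p ∈ Z ↔ q ∈ Z) :
    (if p = u then (if q ∈ Z then (1 : ℤ) else 0) - (if p ∈ Z then 1 else 0) else 0) +
      (if q = u then (if p ∈ Z then (1 : ℤ) else 0) - (if q ∈ Z then 1 else 0) else 0) = 0 := by
  by_cases b1 : p ∈ Z <;> simp [b1, h.symm]


open LabGraph in
/-- Let X be a quasi-wp-stable curve of genus g ≥ 2 over an algebraically closed field, encoded by a
weighted multigraph: vertices are the irreducible components C_v, with the weight w v and the loops
at v chosen so that w v plus the number of loops at v is the arithmetic genus of C_v; two distinct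
components are joined by one edge for each node and by two edges for each tacnode at which they
meet. For a set Y of vertices (a subcurve) canDeg Y is then deg_Y ω_X = 2 g_Y − 2 + k_Y and cut Y is
k_Y, the length of the intersection of Y with its complementary subcurve; a vertex is exceptional
(weight zero, loopless, exactly two edges to other vertices) exactly when C_v is an exceptional
component; the twist of the indicator function of Y is the multidegree Σ_{C ⊆ Y} C of the degree
class group construction; and the graph is a connected quasistable graph. Let d, d' be properly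
balanced multidegrees of the same total degree D (each satisfies the Basic Inequality 2·|K·d_Y −
D·canDeg Y| ≤ cut Y·K for every Y, where K = 2g − 2 = canDeg of the whole graph, and takes the value
1 on every exceptional vertex), with d strictly balanced: for every nonempty proper Y with d_Y equal
to the upper extreme, i.e. 2(K·d_Y − D·canDeg Y) = K·cut Y, every edge with exactly one endpoint in
Y has an exceptional endpoint. Suppose d' = d + Σ_i twist(1_{Z_i}) for nested vertex sets Z_1 ⊆ ⋯ ⊆
Z_m, each with d at its upper extreme, such that for j < i no edge joins a vertex of Z_j to a vertex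
outside Z_i. Then d = d'. (The source assumes only that d − d' lies in the lattice generated by the
multidegrees of the components and takes the existence of such a nested family from an earlier paper
it cites without proof; this row carries that description as its hypothesis.) -/
theorem result {V E : Type u} [Fintype V] [Fintype E]
    [DecidableEq V] [DecidableEq E] (ends : E → V × V) (w : V → ℕ) (hX : IsQuasistableGraph ends w)
    (hg : 2 ≤ genus ends w) (d d' : V → ℤ) (hD : ∑ v, d v = ∑ v, d' v)
    (hBI : SatisfiesBI ends w d) (hBI' : SatisfiesBI ends w d')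
    (hone : ∀ v : V, IsExceptional ends w v → d v = 1) (hone' : ∀ v : V, IsExceptional ends w v → d' v = 1)
    (hstrict : ∀ Y : Finset V, Y.Nonempty → Y ≠ Finset.univ →
      2 * (canDeg ends w Finset.univ * (∑ v ∈ Y, d v) - (∑ v, d v) * canDeg ends w Y)
          = (cut ends Y : ℤ) * canDeg ends w Finset.univ →
      ∀ e : E, (((ends e).1 ∈ Y ∧ (ends e).2 ∉ Y) ∨ ((ends e).1 ∉ Y ∧ (ends e).2 ∈ Y)) →
        (IsExceptional ends w (ends e).1 ∨ IsExceptional ends w (ends e).2))
    (m : ℕ) (Z : Fin m → Finset V) (hmono : ∀ i j : Fin m, i ≤ j → Z i ⊆ Z j)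
    (hext : ∀ i : Fin m, 2 * (canDeg ends w Finset.univ * (∑ v ∈ Z i, d v) - (∑ v, d v) * canDeg ends w (Z i))
          = (cut ends (Z i) : ℤ) * canDeg ends w Finset.univ)
    (hsep : ∀ i j : Fin m, j < i → ∀ e : E,
      ¬ (((ends e).1 ∈ Z j ∧ (ends e).2 ∉ Z i) ∨ ((ends e).2 ∈ Z j ∧ (ends e).1 ∉ Z i)))
    (hsum : ∀ v : V, d' v = d v + ∑ i : Fin m, twist ends (fun u => if u ∈ Z i then (1 : ℤ) else 0) v) :
    d = d' := by
  classical
  have hK : 0 < LabGraph.canDeg ends w Finset.univ := by
    rw [Groth.Agent.LabG84.BI.canDeg_univ]; linarith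
  have hle := (Groth.Agent.LabG84.BI.satisfiesBI_iff_le ends w d).1 hBI
  have hdevu : ∀ u, LabGraph.IsExceptional ends w u →
      Groth.Agent.LabG84.BI.dev ends w d {u} = LabGraph.canDeg ends w Finset.univ := by
    intro u hu
    unfold Groth.Agent.LabG84.BI.dev
    rw [Groth.Agent.LabG84.BI.canDeg_exceptional hu, Finset.sum_singleton, hone u hu]
    ring
  -- no exceptional vertex outside an extremal set touches it
  have hno : ∀ (i : Fin m) (u : V), LabGraph.IsExceptional ends w u → u ∉ Z i → ∀ e : E,
      ¬ (((ends e).1 = u ∧ (ends e).2 ∈ Z i) ∨ ((ends e).2 = u ∧ (ends e).1 ∈ Z i)) := by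
    intro i u hu huZ e he
    have h1 := hle (Z i ∪ {u})
    have hadd : Groth.Agent.LabG84.BI.dev ends w d (Z i ∪ {u}) =
        Groth.Agent.LabG84.BI.dev ends w d (Z i) + Groth.Agent.LabG84.BI.dev ends w d {u} := by
      rw [Groth.Agent.LabG84.BI.dev_eq_sum, Groth.Agent.LabG84.BI.dev_eq_sum, Groth.Agent.LabG84.BI.dev_eq_sum,
        Finset.sum_union (Finset.disjoint_singleton_right.2 huZ)]
    have hext' : 2 * Groth.Agent.LabG84.BI.dev ends w d (Z i) =
        (LabGraph.cut ends (Z i) : ℤ) * LabGraph.canDeg ends w Finset.univ := hext i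
    rw [hadd, hdevu u hu] at h1
    have hc2 : (LabGraph.cut ends {u} : ℤ) = 2 := by exact_mod_cast hu.2.2
    have hcut : (LabGraph.cut ends (Z i ∪ {u}) : ℤ) + 1 ≤ LabGraph.cut ends (Z i) + LabGraph.cut ends {u} := by
      simp only [Groth.Agent.LabG84.BI.cut_eq, ← Finset.sum_add_distrib]
      refine Int.add_one_le_iff.2 (Finset.sum_lt_sum (fun x _ => ?_) ⟨e, Finset.mem_univ e, ?_⟩)
      · by_cases a1 : (ends x).1 = u <;> by_cases a2 : (ends x).2 = u <;> by_cases b1 : (ends x).1 ∈ Z i <;>
          by_cases b2 : (ends x).2 ∈ Z i <;> simp_all [Groth.Agent.LabG84.BI.ind]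
      · rcases he with ⟨a, b⟩ | ⟨a, b⟩
        · have : (ends e).2 ≠ u := fun h => huZ (h ▸ b)
          simp [Groth.Agent.LabG84.BI.ind, a, b, huZ, this]
        · have : (ends e).1 ≠ u := fun h => huZ (h ▸ b)
          simp [Groth.Agent.LabG84.BI.ind, a, b, huZ, this]
    nlinarith
  have hzero : ∀ k : ℕ, ∀ i : Fin m, m ≤ i.val + k → ∀ e : E,
      ((ends e).1 ∈ Z i ↔ (ends e).2 ∈ Z i) := by
    intro k
    induction k with
    | zero => intro i hi; exact absurd i.isLt (by omega)
    | succ k ih =>
      intro i hi e
      by_contra hne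
      have hcr : ((ends e).1 ∈ Z i ∧ (ends e).2 ∉ Z i) ∨ ((ends e).1 ∉ Z i ∧ (ends e).2 ∈ Z i) := by tauto
      have hnonempty : (Z i).Nonempty := by rcases hcr with h | h; exacts [⟨_, h.1⟩, ⟨_, h.2⟩]
      have hnuniv : Z i ≠ Finset.univ := fun h => by rw [h] at hcr; simp at hcr
      obtain ⟨u, y, hu, hedge, hy⟩ : ∃ u y, LabGraph.IsExceptional ends w u ∧
          ((ends e = (u, y) ∨ ends e = (y, u))) ∧ (u ∈ Z i ∧ y ∉ Z i) := by
        rcases hstrict (Z i) hnonempty hnuniv (hext i) e hcr with h | h <;> rcases hcr with ⟨a, b⟩ | ⟨a, b⟩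
        · exact ⟨_, _, h, Or.inl rfl, a, b⟩
        · exact absurd (Or.inl ⟨rfl, b⟩) (hno i _ h a e)
        · exact absurd (Or.inr ⟨rfl, a⟩) (hno i _ h b e)
        · exact ⟨_, _, h, Or.inr rfl, b, a⟩
      have hj : ∀ j : Fin m, LabGraph.twist ends (fun x => if x ∈ Z j then (1 : ℤ) else 0) u ≤ 0 := by
        intro j
        unfold LabGraph.twist
        refine Finset.sum_nonpos fun x _ => ?_
        rcases lt_trichotomy j i with hlt | rfl | hgt
        · have huj : u ∉ Z j := by
            intro huj
            apply hsep i j hlt e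
            rcases hedge with h | h <;> rw [h]
            · exact Or.inl ⟨huj, hy.2⟩
            · exact Or.inr ⟨huj, hy.2⟩
          exact term_nonpos (Or.inr (hno j u hu huj x))
        · exact term_nonpos (Or.inl hy.1)
        · exact (term_zero (ih j (by have := Fin.lt_def.1 hgt; omega) x)).le
      have hi' : LabGraph.twist ends (fun x => if x ∈ Z i then (1 : ℤ) else 0) u ≤ -1 := by
        unfold LabGraph.twist
        rw [← Finset.add_sum_erase _ _ (Finset.mem_univ e)]
        have hrest := Finset.sum_nonpos (s := Finset.univ.erase e) (f := fun x =>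
          ((if (ends x).1 = u then (if (ends x).2 ∈ Z i then (1 : ℤ) else 0) - (if (ends x).1 ∈ Z i then 1 else 0) else 0) +
            (if (ends x).2 = u then (if (ends x).1 ∈ Z i then (1 : ℤ) else 0) - (if (ends x).2 ∈ Z i then 1 else 0) else 0)))
          (fun x _ => term_nonpos (Or.inl hy.1))
        have hyu : y ≠ u := fun h => hy.2 (h ▸ hy.1)
        have he1 : (if (ends e).1 = u then (if (ends e).2 ∈ Z i then (1 : ℤ) else 0) - (if (ends e).1 ∈ Z i then 1 else 0) else 0) +
            (if (ends e).2 = u then (if (ends e).1 ∈ Z i then (1 : ℤ) else 0) - (if (ends e).2 ∈ Z i then 1 else 0) else 0) = -1 := by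
          rcases hedge with h | h <;> rw [h] <;> simp [hy.1, hy.2, hyu]
        rw [he1]
        linarith
      have h1 := hsum u
      rw [hone u hu, hone' u hu, ← Finset.add_sum_erase _ _ (Finset.mem_univ i)] at h1
      have := Finset.sum_nonpos (s := Finset.univ.erase i) (fun j _ => hj j)
      linarith
  funext v
  rw [hsum v]
  simp only [LabGraph.twist]
  rw [Finset.sum_eq_zero fun i _ => Finset.sum_eq_zero fun e _ => ?_, add_zero]
  exact term_zero (hzero m i (by omega) e)

end Groth.Agent.S19033
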