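import Groth.Statements.S19034
import Groth.Agent.LabG84.BI
-- import your own Groth.Agent.* helpers here

set_option autoImplicit false
universe u
open LabGraph

namespace Groth.Agent.S19034

open LabGraph in
/-- Let σ : Z → X be the contraction of some exceptional components of a quasi-wp-stable curve Z of
genus g ≥ 2 onto a quasi-wp-stable curve X, and d a properly balanced multidegree on X; then the
pull-back d̃ of d to Z (d̃_W = d_{σ(W)} when σ(W) is a curve, d̃ = 0 on contracted components) is
balanced. Encode Z by its weighted multigraph (vertices = irreducible components, weight plus number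
of loops = arithmetic genus of the component, one edge per node and two per tacnode joining distinct
components; canDeg Y = deg_Y ω_Z, cut Y = k_Y, K = canDeg of all vertices = 2g − 2; exceptional
vertex = exceptional component), and let S be the set of contracted components, each an exceptional
vertex. The components of X are the vertices outside S; for a set W of them, the subcurve σ(W) of X
has deg ω_X equal to canDeg Ŵ and k equal to cut Ŵ, where Ŵ is W together with the vertices of S all
of whose edges end in W, and the exceptional components of X are the exceptional vertices outside S.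
So the hypotheses below say that d̃ vanishes on S and that d = d̃|_{V∖S} is properly balanced on X
(Basic Inequality 2·|K·d_W − D·canDeg Ŵ| ≤ cut Ŵ·K for every W disjoint from S, D the total degree,
and value 1 on exceptional vertices outside S); the conclusion is the Basic Inequality for d̃ on Z,
for every set of vertices. -/
theorem result {V E : Type u} [Fintype V] [Fintype E]
    [DecidableEq V] [DecidableEq E] (ends : E → V × V) (w : V → ℕ) (hZ : IsQuasistableGraph ends w)
    (hg : 2 ≤ genus ends w) (S : Finset V) (hS : ∀ v ∈ S, IsExceptional ends w v)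
    (dt : V → ℤ) (hzero : ∀ v ∈ S, dt v = 0)
    (hBI : ∀ W : Finset V, Disjoint W S →
      2 * |canDeg ends w Finset.univ * (∑ v ∈ W, dt v) - (∑ v, dt v) * canDeg ends w (Finset.univ.filter (fun v : V => v ∈ W ∨ (v ∈ S ∧ ∀ e : E, ((ends e).1 = v → (ends e).2 ∈ W) ∧ ((ends e).2 = v → (ends e).1 ∈ W))))|
        ≤ (cut ends (Finset.univ.filter (fun v : V => v ∈ W ∨ (v ∈ S ∧ ∀ e : E, ((ends e).1 = v → (ends e).2 ∈ W) ∧ ((ends e).2 = v → (ends e).1 ∈ W)))) : ℤ) * canDeg ends w Finset.univ)
    (hone : ∀ v : V, v ∉ S → IsExceptional ends w v → dt v = 1) :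
    SatisfiesBI ends w dt := by
  classical
  rw [Groth.Agent.LabG84.BI.satisfiesBI_iff_le]
  intro Y
  have hK : 0 ≤ LabGraph.canDeg ends w Finset.univ := by
    rw [Groth.Agent.LabG84.BI.canDeg_univ]; linarith
  have hloop : ∀ v ∈ S, ∀ e, ends e ≠ (v, v) := fun v hv => (hS v hv).2.1
  have hindep : ∀ e : E, ¬ ((ends e).1 ∈ S ∧ (ends e).2 ∈ S) := by
    rintro e ⟨h1, h2⟩
    by_cases hne : (ends e).1 = (ends e).2
    · exact hloop _ h1 e (Prod.ext rfl hne.symm)
    · exact hZ.2 e hne ⟨hS _ h1, hS _ h2⟩
  set W := Y \ S with hW
  set Wh := Finset.univ.filter (fun v : V => v ∈ W ∨ (v ∈ S ∧ ∀ e : E,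
    ((ends e).1 = v → (ends e).2 ∈ W) ∧ ((ends e).2 = v → (ends e).1 ∈ W))) with hWh
  have hdev : ∀ X : Finset V, X \ S = W → ∑ v ∈ X, dt v = ∑ v ∈ W, dt v ∧
      LabGraph.canDeg ends w X = LabGraph.canDeg ends w W := by
    intro X hX
    rw [← hX]
    have hsplit : ∀ g : V → ℤ, (∀ v ∈ S, g v = 0) → ∑ v ∈ X, g v = ∑ v ∈ X \ S, g v := fun g hg =>
      (Finset.sum_subset Finset.sdiff_subset fun v hv hv' => hg v (by
        by_contra h; exact hv' (Finset.mem_sdiff.2 ⟨hv, h⟩))).symm
    refine ⟨hsplit _ hzero, hsplit _ fun v hv => ?_⟩
    have := Groth.Agent.LabG84.BI.canDeg_exceptional (hS v hv)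
    simpa [LabGraph.canDeg] using this
  have hWhS : Wh \ S = W := by
    ext v
    simp only [hWh, hW, Finset.mem_sdiff, Finset.mem_filter, Finset.mem_univ, true_and]
    tauto
  obtain ⟨e1, e2⟩ := hdev Y rfl
  obtain ⟨-, f2⟩ := hdev Wh hWhS
  have hB := hBI W (Finset.sdiff_disjoint)
  rw [← hWh, f2] at hB
  have hcut : (LabGraph.cut ends Wh : ℤ) ≤ LabGraph.cut ends Y := by
    rw [Groth.Agent.LabG84.BI.cut_eq, Groth.Agent.LabG84.BI.cut_eq]
    let key : E → Option V := fun e =>
      if (ends e).1 ∈ S then some (ends e).1 else if (ends e).2 ∈ S then some (ends e).2 else none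
    rw [← Finset.sum_fiberwise Finset.univ key, ← Finset.sum_fiberwise Finset.univ key]
    refine Finset.sum_le_sum fun o _ => ?_
    rcases o with _ | s
    · refine Finset.sum_le_sum fun e he => ?_
      have h := (Finset.mem_filter.1 he).2
      simp only [key] at h
      split_ifs at h with a b
      have c1 : (ends e).1 ∈ Wh ↔ (ends e).1 ∈ Y := by simp [hWh, hW, a]
      have c2 : (ends e).2 ∈ Wh ↔ (ends e).2 ∈ Y := by simp [hWh, hW, b]
      simp [Groth.Agent.LabG84.BI.ind, c1, c2]
    · by_cases hs : s ∈ S
      swap
      · have : Finset.univ.filter (fun e => key e = some s) = ∅ := by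
          refine Finset.filter_eq_empty_iff.2 fun e _ h => hs ?_
          simp only [key] at h
          split_ifs at h with a b
          · exact (Option.some.inj h) ▸ a
          · exact (Option.some.inj h) ▸ b
        simp [this]
      have hfib : Finset.univ.filter (fun e => key e = some s) = Finset.univ.filter (fun e : E =>
          ((ends e).1 ∈ ({s} : Finset V) ∧ (ends e).2 ∉ ({s} : Finset V)) ∨
            ((ends e).1 ∉ ({s} : Finset V) ∧ (ends e).2 ∈ ({s} : Finset V))) := by
        ext e
        simp only [Finset.mem_filter, Finset.mem_univ, true_and, Finset.mem_singleton, key]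
        have := hindep e
        constructor
        · intro h
          split_ifs at h with a b
          · have := Option.some.inj h
            subst this
            exact Or.inl ⟨rfl, fun h' => this ⟨a, h' ▸ a⟩⟩
          · have := Option.some.inj h
            subst this
            exact Or.inr ⟨fun h' => a (h' ▸ b), rfl⟩
        · rintro (⟨a, b⟩ | ⟨a, b⟩)
          · rw [if_pos (a ▸ hs), a]
          · have h1 : (ends e).1 ∉ S := fun h => this ⟨h, b ▸ hs⟩
            rw [if_neg h1, if_pos (b ▸ hs), b]
      have hcard : (Finset.univ.filter (fun e => key e = some s)).card = 2 := by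
        rw [hfib]; exact (hS s hs).2.2
      obtain ⟨x, y, hxy, hfxy⟩ := Finset.card_eq_two.1 hcard
      rw [hfxy, Finset.sum_pair hxy, Finset.sum_pair hxy]
      have hnb : ∀ z : E, key z = some s → ∃ q, q ∉ S ∧ (ends z = (s, q) ∨ ends z = (q, s)) := by
        intro z hz
        have := hindep z
        simp only [key] at hz
        split_ifs at hz with a b
        · exact ⟨(ends z).2, fun h => this ⟨a, h⟩, Or.inl (Prod.ext (Option.some.inj hz) rfl)⟩
        · exact ⟨(ends z).1, a, Or.inr (Prod.ext rfl (Option.some.inj hz))⟩
      have hxm : x ∈ Finset.univ.filter (fun e => key e = some s) := by simp [hfxy]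
      have hym : y ∈ Finset.univ.filter (fun e => key e = some s) := by simp [hfxy]
      obtain ⟨a, haS, ha⟩ := hnb x (Finset.mem_filter.1 hxm).2
      obtain ⟨b, hbS, hb⟩ := hnb y (Finset.mem_filter.1 hym).2
      have hsW : s ∈ Wh ↔ a ∈ W ∧ b ∈ W := by
        simp only [hWh, Finset.mem_filter, Finset.mem_univ, true_and, hW, Finset.mem_sdiff]
        constructor
        · rintro (h | ⟨-, h⟩)
          · exact absurd hs h.2
          · constructor
            · rcases ha with ha | ha
              · have := (h x).1 (by rw [ha]); rwa [ha] at this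
              · have := (h x).2 (by rw [ha]); rwa [ha] at this
            · rcases hb with hb | hb
              · have := (h y).1 (by rw [hb]); rwa [hb] at this
              · have := (h y).2 (by rw [hb]); rwa [hb] at this
        · rintro ⟨h1, h2⟩
          refine Or.inr ⟨hs, fun e => ?_⟩
          constructor <;> intro he
          · have hk : key e = some s := by simp only [key]; rw [he, if_pos hs]
            have : e ∈ ({x, y} : Finset E) := hfxy ▸ Finset.mem_filter.2 ⟨Finset.mem_univ e, hk⟩
            simp only [Finset.mem_insert, Finset.mem_singleton] at this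
            rcases this with rfl | rfl
            · rcases ha with ha | ha <;> rw [ha] at he ⊢
              · exact h1
              · exact absurd ((show a = s from he) ▸ hs) haS
            · rcases hb with hb | hb <;> rw [hb] at he ⊢
              · exact h2
              · exact absurd ((show b = s from he) ▸ hs) hbS
          · have h1S : (ends e).1 ∉ S := fun h => hindep e ⟨h, he ▸ hs⟩
            have hk : key e = some s := by simp only [key]; rw [if_neg h1S, he, if_pos hs]
            have : e ∈ ({x, y} : Finset E) := hfxy ▸ Finset.mem_filter.2 ⟨Finset.mem_univ e, hk⟩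
            simp only [Finset.mem_insert, Finset.mem_singleton] at this
            rcases this with rfl | rfl
            · rcases ha with ha | ha <;> rw [ha] at he ⊢
              · exact absurd ((show a = s from he) ▸ hs) haS
              · exact h1
            · rcases hb with hb | hb <;> rw [hb] at he ⊢
              · exact absurd ((show b = s from he) ▸ hs) hbS
              · exact h2
      have haY : a ∈ Wh ↔ a ∈ Y := by simp [hWh, hW, haS]
      have hbY : b ∈ Wh ↔ b ∈ Y := by simp [hWh, hW, hbS]
      have haW : a ∈ W ↔ a ∈ Y := by simp [hW, haS]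
      have hbW : b ∈ W ↔ b ∈ Y := by simp [hW, hbS]
      rw [haW, hbW] at hsW
      have hsym : ∀ (X : Finset V) (z : E) (q : V), (ends z = (s, q) ∨ ends z = (q, s)) →
          |Groth.Agent.LabG84.BI.ind X (ends z).1 - Groth.Agent.LabG84.BI.ind X (ends z).2| =
            |Groth.Agent.LabG84.BI.ind X s - Groth.Agent.LabG84.BI.ind X q| := by
        intro X z q hz
        rcases hz with hz | hz <;> rw [hz]
        exact abs_sub_comm _ _
      rw [hsym _ x a ha, hsym _ x a ha, hsym _ y b hb, hsym _ y b hb]
      by_cases p : a ∈ Y <;> by_cases q : b ∈ Y <;> by_cases r : s ∈ Y <;>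
        simp [Groth.Agent.LabG84.BI.ind, hsW, haY, hbY, p, q, r]
  have := mul_le_mul_of_nonneg_right hcut hK
  show 2 * (_ * _ - _ * _) ≤ _
  rw [e1, e2]
  have h2 := le_abs_self (LabGraph.canDeg ends w Finset.univ * ∑ v ∈ W, dt v - (∑ v, dt v) * LabGraph.canDeg ends w W)
  linarith

end Groth.Agent.S19034
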