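import Mathlib
import Groth.Statements.S19035
-- import your own Groth.Agent.* helpers here

set_option autoImplicit false
universe u v w x
open CAlg

namespace Groth.Agent.S19035

/-- Let p be a prime and k a perfect field of characteristic p. Let (A_i) be a directed system of
finitely generated commutative k-algebras, indexed by a nonempty directed preorder, with compatible
k-algebra transition maps, and let B be a finitely generated k-algebra with compatible k-algebra
maps A_i → B which present B as the direct limit of the system (every element of B is the image of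
an element of some A_i, and two elements of some A_i with the same image in B have the same image in
some A_j). Then the p-typical Witt vectors commute with this direct limit: every Witt vector over B
is the image of a Witt vector over some A_i, and two Witt vectors over some A_i with the same image
over B already have the same image over some A_j. (Both finiteness hypotheses matter: for an
arbitrary filtered direct limit of commutative rings either assertion can fail.) -/
theorem result
    (p : ℕ) [Fact p.Prime] (k : Type u) [Field k] [CharP k p] [PerfectRing k p]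
    {ι : Type v} [Preorder ι] [IsDirected ι (· ≤ ·)] [Nonempty ι]
    (A : ι → Type w) [∀ i, CommRing (A i)] [∀ i, Algebra k (A i)]
    [∀ i, Algebra.FiniteType k (A i)]
    (f : ∀ i j, i ≤ j → (A i →ₐ[k] A j))
    (hf : ∀ i j l (hij : i ≤ j) (hjl : j ≤ l) (x : A i),
      f j l hjl (f i j hij x) = f i l (hij.trans hjl) x)
    (B : Type x) [CommRing B] [Algebra k B] [Algebra.FiniteType k B]
    (g : ∀ i, A i →ₐ[k] B)
    (hfg : ∀ i j (hij : i ≤ j) (x : A i), g j (f i j hij x) = g i x)
    (hsurj : ∀ b : B, ∃ i, ∃ x : A i, g i x = b)
    (hinj : ∀ i (x y : A i), g i x = g i y → ∃ j, ∃ hij : i ≤ j, f i j hij x = f i j hij y) :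
    (∀ w : WittVector p B, ∃ i, ∃ v : WittVector p (A i),
        WittVector.map (g i).toRingHom v = w) ∧
    (∀ i (v v' : WittVector p (A i)),
        WittVector.map (g i).toRingHom v = WittVector.map (g i).toRingHom v' →
        ∃ j, ∃ hij : i ≤ j,
          WittVector.map (f i j hij).toRingHom v = WittVector.map (f i j hij).toRingHom v') := by
  classical
  -- a stage surjecting onto `B`
  obtain ⟨T, hT⟩ := (Algebra.FiniteType.out (R := k) (A := B))
  choose ix xx hxx using fun b : T => hsurj b.1
  obtain ⟨i₀, hi₀⟩ := Finite.exists_le ix
  have hsur : ∀ i, i₀ ≤ i → Function.Surjective (g i) := by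
    intro i hi
    rw [← AlgHom.range_eq_top, eq_top_iff, ← hT, Algebra.adjoin_le_iff]
    intro b hb
    exact ⟨f _ i ((hi₀ ⟨b, hb⟩).trans hi) (xx ⟨b, hb⟩), by
      show g i (f _ i _ (xx ⟨b, hb⟩)) = b
      rw [hfg, hxx]⟩
  refine ⟨fun w => ⟨i₀, WittVector.map_surjective _ (hsur i₀ le_rfl) w⟩, ?_⟩
  -- a stage where the kernel of `A i → B` dies
  have hkill : ∀ i, ∃ j, ∃ hij : i ≤ j, ∀ x, g i x = 0 → f i j hij x = 0 := by
    intro i
    have : IsNoetherianRing (A i) := Algebra.FiniteType.isNoetherianRing k _
    obtain ⟨S, hS⟩ := IsNoetherian.noetherian (RingHom.ker (g i).toRingHom)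
    have hmem : ∀ y : S, g i y.1 = g i 0 := fun y => by
      rw [map_zero]
      have : y.1 ∈ RingHom.ker (g i).toRingHom := hS ▸ Submodule.subset_span y.2
      exact this
    choose jj hjle hjk using fun y : S => hinj i y.1 0 (hmem y)
    obtain ⟨j, hj⟩ := Finite.exists_le (fun o : Option S => o.elim i jj)
    refine ⟨j, hj none, fun x hx => ?_⟩
    have hle : RingHom.ker (g i).toRingHom ≤ RingHom.ker (f i j (hj none)).toRingHom := by
      rw [← hS, Submodule.span_le]
      intro y hy
      show f i j _ y = 0
      rw [← hf i (jj ⟨y, hy⟩) j (hjle ⟨y, hy⟩) (hj (some ⟨y, hy⟩)), hjk, map_zero, map_zero]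
    exact hle hx
  intro i v v' h
  obtain ⟨j, hij, hj⟩ := hkill i
  refine ⟨j, hij, WittVector.ext fun n => ?_⟩
  have hn := congrArg (fun w => WittVector.coeff w n) h
  simp only [WittVector.map_coeff] at hn ⊢
  rw [← sub_eq_zero, ← map_sub]
  refine hj _ ?_
  rw [map_sub, sub_eq_zero]
  exact hn

end Groth.Agent.S19035
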