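import Groth.Statements.S19036
-- import your own Groth.Agent.* helpers here

set_option autoImplicit false
universe u
open Instab

open CategoryTheory CategoryTheory.Limits AlgebraicGeometry IsLocalRing

namespace Groth.Agent.S19036

/-- Two maps from the spectrum of a subring to an affine scheme which agree on the spectrum of the
field are equal. -/
theorem ext_affine {Y : Scheme.{u}} [IsAffine Y] {R K : CommRingCat.{u}} (ι : R ⟶ K)
    (hι : Function.Injective ι.hom) (a b : Spec R ⟶ Y)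
    (h : Spec.map ι ≫ a = Spec.map ι ≫ b) : a = b := by
  obtain ⟨g, hg⟩ := Spec.map_surjective (a ≫ Y.isoSpec.hom)
  obtain ⟨g', hg'⟩ := Spec.map_surjective (b ≫ Y.isoSpec.hom)
  have h' : Spec.map (g ≫ ι) = Spec.map (g' ≫ ι) := by
    rw [Spec.map_comp, Spec.map_comp, hg, hg', reassoc_of% h]
  have hgg : g = g' := by
    refine CommRingCat.hom_ext (RingHom.ext fun x => hι ?_)
    exact congrArg (fun t : Γ(Y, ⊤) ⟶ K => t.hom x) (Spec.map_injective h')
  rw [← cancel_mono Y.isoSpec.hom, ← hg, ← hg', hgg]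

/-- The valuation subrings of a field form a closed subset of the Cantor cube on the field. -/
theorem isCompact_valuationSubrings (K : Type u) [Field K] (P : Set K) :
    IsCompact {χ : K → Bool | ∃ R : ValuationSubring K, P ⊆ (R : Set K) ∧
      ∀ a, χ a = true ↔ a ∈ R} := by
  have hcl : ∀ a : K, IsClosed {χ : K → Bool | χ a = true} := fun a =>
    show IsClosed ((fun χ : K → Bool => χ a) ⁻¹' {true}) from
      IsClosed.preimage (continuous_apply a) (isClosed_discrete _)
  have hop : ∀ a : K, IsClosed {χ : K → Bool | χ a = true}ᶜ := fun a =>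
    (show IsOpen ((fun χ : K → Bool => χ a) ⁻¹' {true}) from
      IsOpen.preimage (continuous_apply a) (isOpen_discrete _)).isClosed_compl
  have key : {χ : K → Bool | ∃ R : ValuationSubring K, P ⊆ (R : Set K) ∧
      ∀ a, χ a = true ↔ a ∈ R} =
      {χ : K → Bool | χ 0 = true} ∩ {χ | χ 1 = true} ∩
      (⋂ p : K × K, {χ | χ p.1 = true}ᶜ ∪ {χ | χ p.2 = true}ᶜ ∪ {χ | χ (p.1 + p.2) = true}) ∩
      (⋂ p : K × K, {χ | χ p.1 = true}ᶜ ∪ {χ | χ p.2 = true}ᶜ ∪ {χ | χ (p.1 * p.2) = true}) ∩
      (⋂ a : K, {χ | χ a = true}ᶜ ∪ {χ | χ (-a) = true}) ∩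
      (⋂ a : K, {χ | χ a = true} ∪ {χ | χ a⁻¹ = true}) ∩
      (⋂ a : P, {χ | χ a = true}) := by
    ext χ
    simp only [Set.mem_inter_iff, Set.mem_iInter, Set.mem_union, Set.mem_compl_iff,
      Set.mem_setOf_eq, Prod.forall, Subtype.forall]
    constructor
    · rintro ⟨R, hP, hR⟩
      simp only [hR]
      refine ⟨⟨⟨⟨⟨⟨R.zero_mem, R.one_mem⟩, fun a b => ?_⟩, fun a b => ?_⟩, fun a => ?_⟩,
        fun a => R.mem_or_inv_mem a⟩, fun a ha => hP ha⟩
      · by_cases ha : a ∈ R <;> by_cases hb : b ∈ R <;> simp [ha, hb, R.add_mem a b]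
      · by_cases ha : a ∈ R <;> by_cases hb : b ∈ R <;> simp [ha, hb, R.mul_mem a b]
      · by_cases ha : a ∈ R <;> simp [ha, R.neg_mem a]
    · rintro ⟨⟨⟨⟨⟨⟨h0, h1⟩, hadd⟩, hmul⟩, hneg⟩, hinv⟩, hP⟩
      let S : Subring K :=
        { carrier := {a | χ a = true}
          zero_mem' := h0
          one_mem' := h1
          add_mem' := fun {a b} ha hb => by
            rcases hadd a b with (h | h) | h
            exacts [absurd ha h, absurd hb h, h]
          mul_mem' := fun {a b} ha hb => by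
            rcases hmul a b with (h | h) | h
            exacts [absurd ha h, absurd hb h, h]
          neg_mem' := fun {a} ha => (hneg a).resolve_left (fun h => h ha) }
      exact ⟨⟨S, hinv⟩, fun a ha => hP a ha, fun a => Iff.rfl⟩
  rw [key]
  refine IsClosed.isCompact ?_
  refine IsClosed.inter (IsClosed.inter (IsClosed.inter (IsClosed.inter (IsClosed.inter
    (IsClosed.inter (hcl _) (hcl _)) ?_) ?_) ?_) ?_) ?_
  · exact isClosed_iInter fun p => ((hop _).union (hop _)).union (hcl _)
  · exact isClosed_iInter fun p => ((hop _).union (hop _)).union (hcl _)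
  · exact isClosed_iInter fun a => (hop _).union (hcl _)
  · exact isClosed_iInter fun a => (hcl _).union (hcl _)
  · exact isClosed_iInter fun a => hcl _

/-- For a morphism locally of finite type to an affine scheme satisfying the valuative criterion,
closures of points are quasi-compact. -/
theorem isCompact_closure_point {X Y : Scheme.{u}} [IsAffine Y] (f : X ⟶ Y)
    [LocallyOfFiniteType f] (hE : ValuativeCriterion.Existence f)
    (hU : ValuativeCriterion.Uniqueness f) (η : X) :
    IsCompact (closure ({η} : Set X)) := by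
  classical
  let K := X.residueField η
  let i₁ : Spec K ⟶ X := X.fromSpecResidueField η
  obtain ⟨φ, hφ⟩ := Spec.map_surjective (i₁ ≫ f ≫ Y.isoSpec.hom)
  have hφ' : Spec.map φ ≫ Y.isoSpec.inv = i₁ ≫ f := by
    rw [hφ, Category.assoc, Category.assoc, Iso.hom_inv_id, Category.comp_id]
  let P : Set K := Set.range φ.hom
  let ι : ∀ R : ValuationSubring K, CommRingCat.of R ⟶ K :=
    fun R => CommRingCat.ofHom (algebraMap R K)
  have hι : ∀ R, Function.Injective (ι R).hom := fun R => Subtype.val_injective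
  -- the square attached to a valuation subring containing the image of `φ`
  let φR : ∀ R : ValuationSubring K, P ⊆ (R : Set K) → (Γ(Y, ⊤) ⟶ CommRingCat.of R) :=
    fun R hR => CommRingCat.ofHom (φ.hom.codRestrict R.toSubring fun a => hR ⟨a, rfl⟩)
  have hsq : ∀ (R : ValuationSubring K) (hR : P ⊆ (R : Set K)),
      i₁ ≫ f = Spec.map (ι R) ≫ Spec.map (φR R hR) ≫ Y.isoSpec.inv := fun R hR => by
    rw [← Spec.map_comp_assoc, ← hφ']
    rfl
  -- uniqueness of lifts
  have huniq : ∀ (R : ValuationSubring K), P ⊆ (R : Set K) →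
      ∀ a b : Spec (CommRingCat.of R) ⟶ X,
      Spec.map (ι R) ≫ a = i₁ → Spec.map (ι R) ≫ b = i₁ → a = b := by
    intro R hR a b ha hb
    have hab : a ≫ f = b ≫ f := ext_affine (ι R) (hι R) _ _ (by rw [reassoc_of% ha, reassoc_of% hb])
    let S : ValuativeCommSq f :=
      { R := R, K := K, i₁ := i₁, i₂ := b ≫ f, commSq := ⟨((Category.assoc _ _ _).symm.trans (congrArg (· ≫ f) hb)).symm⟩ }
    have h := (hU S).elim ⟨a, ha, hab⟩ ⟨b, hb, rfl⟩
    exact congrArg CommSq.LiftStruct.l h
  have hexist : ∀ (R : ValuationSubring K), P ⊆ (R : Set K) →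
      ∃ l : Spec (CommRingCat.of R) ⟶ X, Spec.map (ι R) ≫ l = i₁ := by
    intro R hR
    obtain ⟨l, h1, -⟩ :=
      (hE { R := R, K := K, i₁ := i₁, i₂ := Spec.map (φR R hR) ≫ Y.isoSpec.inv,
            commSq := ⟨hsq R hR⟩ }).exists_lift
    exact ⟨l, h1⟩
  -- affine opens containing `η`
  let 𝒲 := {W : X.Opens // IsAffineOpen W ∧ η ∈ W}
  have hle : ∀ W : 𝒲, (⊤ : (Spec K).Opens) ≤ i₁ ⁻¹ᵁ W.1 := fun W s _ => by
    show i₁.base s ∈ W.1
    rw [show i₁.base s = η from Scheme.fromSpecResidueField_apply η s]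
    exact W.2.2
  let ψ : ∀ W : 𝒲, Γ(X, W.1) ⟶ K := fun W =>
    i₁.appLE W.1 ⊤ (hle W) ≫ (Scheme.ΓSpecIso K).hom
  have hψ : ∀ W : 𝒲, Spec.map (ψ W) ≫ W.2.1.fromSpec = i₁ := fun W => by
    rw [Spec.map_comp, Category.assoc,
      IsAffineOpen.SpecMap_appLE_fromSpec i₁ W.2.1 (isAffineOpen_top _) (hle W),
      IsAffineOpen.fromSpec_top, Scheme.isoSpec_Spec_inv, ← Spec.map_comp_assoc,
      Iso.inv_hom_id, Spec.map_id, Category.id_comp]
  -- finitely many generators of the affine algebras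
  have hfin : ∀ W : 𝒲, ∃ s : Finset Γ(X, W.1), ∀ R : ValuationSubring K, P ⊆ (R : Set K) →
      (∀ a ∈ s, (ψ W).hom a ∈ R) → ∀ a, (ψ W).hom a ∈ R := by
    intro W
    have hft : (f.appLE ⊤ W.1 le_top).hom.FiniteType :=
      f.finiteType_appLE (isAffineOpen_top Y) W.2.1 le_top
    algebraize [(f.appLE ⊤ W.1 le_top).hom]
    obtain ⟨s, hs⟩ := (inferInstance : Algebra.FiniteType Γ(Y, ⊤) Γ(X, W.1)).out
    refine ⟨s, fun R hR hsR a => ?_⟩
    have hcomp : f.appLE ⊤ W.1 le_top ≫ ψ W = φ := by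
      apply Spec.map_injective
      rw [← cancel_mono Y.isoSpec.inv, hφ', Spec.map_comp, Category.assoc, ← IsAffineOpen.fromSpec_top,
        IsAffineOpen.SpecMap_appLE_fromSpec f (isAffineOpen_top Y) W.2.1 le_top,
        reassoc_of% hψ W]
    have ha : a ∈ Algebra.adjoin Γ(Y, ⊤) (s : Set Γ(X, W.1)) := hs ▸ Algebra.mem_top
    induction ha using Algebra.adjoin_induction with
    | mem x hx => exact hsR x hx
    | algebraMap r =>
      refine hR ⟨r, ?_⟩
      rw [← hcomp]
      rfl
    | add x y _ _ hx hy => rw [map_add]; exact R.add_mem _ _ hx hy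
    | mul x y _ _ hx hy => rw [map_mul]; exact R.mul_mem _ _ hx hy
  choose s hs using hfin
  let O : 𝒲 → Set (K → Bool) := fun W => ⋂ a ∈ s W, {χ | χ ((ψ W).hom a) = true}
  have hO : ∀ W, IsOpen (O W) := fun W =>
    isOpen_biInter_finset fun a _ =>
      show IsOpen ((fun χ : K → Bool => χ ((ψ W).hom a)) ⁻¹' {true}) from
        IsOpen.preimage (continuous_apply _) (isOpen_discrete _)
  have hcover : {χ : K → Bool | ∃ R : ValuationSubring K, P ⊆ (R : Set K) ∧
      ∀ a, χ a = true ↔ a ∈ R} ⊆ ⋃ W, O W := by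
    rintro χ ⟨R, hR, hχ⟩
    obtain ⟨l, hl⟩ := hexist R hR
    obtain ⟨U, hU', hmem, -⟩ := exists_isAffineOpen_mem_and_subset (x := l.base (closedPoint R))
      (U := ⊤) trivial
    have hall : ∀ p, l.base p ∈ U := fun p =>
      ((specializes_closedPoint p).map l.continuous).mem_open U.isOpen hmem
    have hη : η ∈ U := by
      have h1 : l.base ((Spec.map (ι R)).base (closedPoint K)) = i₁.base (closedPoint K) := by
        rw [← hl]; rfl
      rw [show i₁.base (closedPoint K) = η from Scheme.fromSpecResidueField_apply η _] at h1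
      exact h1 ▸ hall _
    refine Set.mem_iUnion.2 ⟨⟨U, hU', hη⟩, Set.mem_iInter₂.2 fun a _ => (hχ _).2 ?_⟩
    have hle' : (⊤ : (Spec (CommRingCat.of R)).Opens) ≤ l ⁻¹ᵁ U := fun p _ => hall p
    let g : Γ(X, U) ⟶ CommRingCat.of R := l.appLE U ⊤ hle' ≫ (Scheme.ΓSpecIso _).hom
    have hg : g ≫ ι R = ψ ⟨U, hU', hη⟩ := by
      apply Spec.map_injective
      rw [← cancel_mono hU'.fromSpec, hψ ⟨U, hU', hη⟩, Spec.map_comp, Category.assoc,
        Spec.map_comp, Category.assoc,
        IsAffineOpen.SpecMap_appLE_fromSpec l hU' (isAffineOpen_top _) hle',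
        IsAffineOpen.fromSpec_top, Scheme.isoSpec_Spec_inv,
        ← Spec.map_comp_assoc (Scheme.ΓSpecIso _).inv (Scheme.ΓSpecIso _).hom,
        Iso.inv_hom_id, Spec.map_id, Category.id_comp, hl]
    rw [← hg]
    exact (g.hom a).2
  obtain ⟨t, ht⟩ := (isCompact_valuationSubrings K P).elim_finite_subcover O hO hcover
  have hsub : closure ({η} : Set X) ⊆ ⋃ W ∈ t, (W.1 : Set X) := by
    intro x hx
    have hηx : η ⤳ x := specializes_iff_mem_closure.2 hx
    let σ : X.presheaf.stalk x ⟶ K := X.presheaf.stalkSpecializes hηx ≫ X.residue η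
    obtain ⟨R, hRσ, hloc⟩ := exists_factor_valuationRing σ.hom
    let σR : X.presheaf.stalk x ⟶ CommRingCat.of R :=
      CommRingCat.ofHom (σ.hom.codRestrict R.toSubring hRσ)
    let m : Spec (CommRingCat.of R) ⟶ X := Spec.map σR ≫ X.fromSpecStalk x
    have hm : Spec.map (ι R) ≫ m = i₁ := by
      rw [← Spec.map_comp_assoc, show σR ≫ ι R = σ from rfl, Spec.map_comp, Category.assoc,
        Scheme.SpecMap_stalkSpecializes_fromSpecStalk]
      rfl
    obtain ⟨r, hr⟩ := Spec.map_surjective (m ≫ f ≫ Y.isoSpec.hom)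
    have hRP : P ⊆ (R : Set K) := by
      rintro _ ⟨a, rfl⟩
      have : r ≫ ι R = φ := Spec.map_injective (by rw [Spec.map_comp, hr, hφ, reassoc_of% hm])
      rw [← this]
      exact (r.hom a).2
    obtain ⟨W, hWt, hW⟩ : ∃ W ∈ t, (fun a => decide (a ∈ R)) ∈ O W := by
      simpa only [Set.mem_iUnion, exists_prop] using
        ht ⟨R, hRP, fun a => by simp⟩
    have hWR : ∀ a, (ψ W).hom a ∈ R := hs W R hRP fun a ha => by
      simpa using Set.mem_iInter₂.1 hW a ha
    let g : Γ(X, W.1) ⟶ CommRingCat.of R :=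
      CommRingCat.ofHom ((ψ W).hom.codRestrict R.toSubring hWR)
    have hm' : Spec.map (ι R) ≫ Spec.map g ≫ W.2.1.fromSpec = i₁ := by
      rw [← Spec.map_comp_assoc, show g ≫ ι R = ψ W from rfl, hψ W]
    have hcen : m.base (closedPoint R) = x := by
      show (X.fromSpecStalk x).base ((Spec.map σR).base (closedPoint R)) = x
      rw [show (Spec.map σR).base (closedPoint R) = closedPoint (X.presheaf.stalk x) from
        comap_closedPoint (S := R) (σ.hom.codRestrict R.toSubring hRσ), X.fromSpecStalk_closedPoint]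
    refine Set.mem_iUnion₂.2 ⟨W, hWt, ?_⟩
    rw [← hcen, huniq R hRP m _ hm hm', ← W.2.1.range_fromSpec]
    exact ⟨_, rfl⟩
  exact (t.finite_toSet.isCompact_biUnion fun W _ => W.2.1.isCompact).of_isClosed_subset
    isClosed_closure hsub

end Groth.Agent.S19036

namespace Groth.Agent.S19036

open CategoryTheory AlgebraicGeometry in
/-- Let f : X → Y be a morphism of schemes which is locally of finite presentation, and for which the
valuative criterion holds (every valuative square over a valuation ring has exactly one lift). When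
X has only finitely many irreducible components, the morphism f is quasi-compact. (The source states
this for algebraic spaces and adds that f is then proper; universal closedness follows from
quasi-compactness and the existence part by the standard criterion, and separatedness from the
uniqueness part once f is quasi-separated. Only the scheme case and the quasi-compactness conclusion
are stated here.) -/
theorem result
    {X Y : Scheme.{u}} (f : X ⟶ Y) [LocallyOfFinitePresentation f]
    (hf : ValuativeCriterion f) (hX : (irreducibleComponents ↥X).Finite) :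
    QuasiCompact f := by
  rw [quasiCompact_iff_forall_isAffineOpen]
  intro V hV
  haveI : IsAffine (V : Scheme.{u}) := hV
  have hE : ValuativeCriterion.Existence (f ∣_ V) := fun S => by
    obtain ⟨l, h1, h2⟩ := (hf.existence
      { R := S.R, K := S.K, i₁ := S.i₁ ≫ (f ⁻¹ᵁ V).ι, i₂ := S.i₂ ≫ V.ι,
        commSq := ⟨by rw [Category.assoc, ← morphismRestrict_ι, S.commSq.w_assoc]⟩ }).exists_lift
    have hl : Set.range l.base ⊆ Set.range (f ⁻¹ᵁ V).ι.base := by
      rintro _ ⟨p, rfl⟩
      rw [Scheme.Opens.range_ι]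
      show f.base (l.base p) ∈ V
      rw [← Scheme.Hom.comp_apply, h2, Scheme.Hom.comp_apply]
      exact (V.ι.base (S.i₂.base p) |> fun _ => (S.i₂.base p).2)
    refine ⟨⟨⟨IsOpenImmersion.lift (f ⁻¹ᵁ V).ι l hl, ?_, ?_⟩⟩⟩
    · rw [← cancel_mono (f ⁻¹ᵁ V).ι, Category.assoc, IsOpenImmersion.lift_fac, h1]
    · rw [← cancel_mono V.ι, Category.assoc, morphismRestrict_ι, ← Category.assoc,
        IsOpenImmersion.lift_fac, h2]
  have hU : ValuativeCriterion.Uniqueness (f ∣_ V) := fun S => ⟨fun a b => by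
    let S' : ValuativeCommSq f :=
      { R := S.R, K := S.K, i₁ := S.i₁ ≫ (f ⁻¹ᵁ V).ι, i₂ := S.i₂ ≫ V.ι,
        commSq := ⟨by rw [Category.assoc, ← morphismRestrict_ι, S.commSq.w_assoc]⟩ }
    have h := (hf.uniqueness S').elim
      ⟨a.l ≫ (f ⁻¹ᵁ V).ι, by rw [← Category.assoc, a.fac_left],
        by rw [Category.assoc, ← morphismRestrict_ι, ← Category.assoc, a.fac_right]⟩
      ⟨b.l ≫ (f ⁻¹ᵁ V).ι, by rw [← Category.assoc, b.fac_left],
        by rw [Category.assoc, ← morphismRestrict_ι, ← Category.assoc, b.fac_right]⟩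
    exact CommSq.LiftStruct.ext ((cancel_mono (f ⁻¹ᵁ V).ι).1 (congrArg CommSq.LiftStruct.l h))⟩
  have hsub : ((f ⁻¹ᵁ V : X.Opens) : Set X) ⊆ ⋃ C ∈ irreducibleComponents X, C := fun x _ =>
    Set.mem_iUnion₂.2 ⟨_, irreducibleComponent_mem_irreducibleComponents x, mem_irreducibleComponent⟩
  have heq : ((f ⁻¹ᵁ V : X.Opens) : Set X) =
      ⋃ C ∈ irreducibleComponents X, C ∩ (f ⁻¹ᵁ V : X.Opens) := by
    refine Set.Subset.antisymm (fun x hx => ?_) (Set.iUnion₂_subset fun _ _ => Set.inter_subset_right)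
    obtain ⟨C, hC, hxC⟩ := Set.mem_iUnion₂.1 (hsub hx)
    exact Set.mem_iUnion₂.2 ⟨C, hC, hxC, hx⟩
  rw [heq]
  refine hX.isCompact_biUnion fun C hC => ?_
  rcases (C ∩ ((f ⁻¹ᵁ V : X.Opens) : Set X)).eq_empty_or_nonempty with he | hne
  · rw [he]; exact isCompact_empty
  obtain ⟨η, hη⟩ := QuasiSober.sober hC.1 (isClosed_of_mem_irreducibleComponents C hC)
  obtain ⟨x, hxC, hxV⟩ := hne
  have hηV : η ∈ (f ⁻¹ᵁ V : X.Opens) :=
    (hη.specializes hxC).mem_open (f ⁻¹ᵁ V).isOpen hxV
  have h := (isCompact_closure_point (f ∣_ V) hE hU ⟨η, hηV⟩).image (f ⁻¹ᵁ V).ι.continuous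
  have hcl : closure ({(⟨η, hηV⟩ : (f ⁻¹ᵁ V : X.Opens))} : Set _) =
      Subtype.val ⁻¹' C := by
    rw [Topology.IsInducing.subtypeVal.closure_eq_preimage_closure_image, Set.image_singleton]
    exact congrArg _ hη
  refine (show ((f ⁻¹ᵁ V).ι.base '' closure {(⟨η, hηV⟩ : (f ⁻¹ᵁ V : X.Opens))}) =
      C ∩ ((f ⁻¹ᵁ V : X.Opens) : Set X) from ?_) ▸ h
  exact (congrArg (Set.image Subtype.val) hcl).trans
    ((Subtype.image_preimage_coe _ _).trans (Set.inter_comm _ _))

end Groth.Agent.S19036
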