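import Groth.Statements.S19037
import Mathlib.Algebra.Polynomial.Laurent

set_option autoImplicit false
universe u v
open scoped Polynomial LaurentPolynomial
open Instab

namespace Groth.Agent.S19037

/-- Affine form over a ring R. Let A be a commutative ℤ-graded R-algebra and t an element of degree −1
(so A is a graded algebra over R[t] with t in degree −1), and let ψ : A[1/t] → R[T, T⁻¹] be an
R-algebra map sending t to T which is graded, in the sense that each homogeneous element of degree n
of A goes to an element of R times T^(−n). Then ψ is obtained by inverting t from an R-algebra map χ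
: A → R[T] (compared through the inclusion of R[T] in R[T, T⁻¹]) if and only if ψ kills t·a for
every homogeneous a of degree 1; such a χ is unique. (The source states this for quasi-coherent
graded algebras over an arbitrary base scheme; the statement is local on the base and is given here
over an affine base.) -/
theorem result
    {R : Type u} {A : Type v} [CommRing R] [CommRing A] [Algebra R A]
    (𝒜 : ℤ → Submodule R A) [GradedAlgebra 𝒜] (t : A) (ht : t ∈ 𝒜 (-1))
    (ψ : Localization.Away t →ₐ[R] R[T;T⁻¹])
    (hψt : ψ (algebraMap A (Localization.Away t) t) = LaurentPolynomial.T 1)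
    (hψ : ∀ (n : ℤ) (a : A), a ∈ 𝒜 n →
      ∃ r : R, ψ (algebraMap A (Localization.Away t) a) = LaurentPolynomial.C r * LaurentPolynomial.T (-n)) :
    (∃! χ : A →ₐ[R] R[X], ∀ a : A,
        ψ (algebraMap A (Localization.Away t) a) = Polynomial.toLaurentAlg (χ a)) ↔
      ∀ a ∈ 𝒜 1, ψ (algebraMap A (Localization.Away t) (t * a)) = 0 := by
  classical
  open DirectSum in
  let φ : A →ₐ[R] R[T;T⁻¹] := ψ.comp (IsScalarTower.toAlgHom R A (Localization.Away t))
  have hφ : ∀ a, φ a = ψ (algebraMap A (Localization.Away t) a) := fun a => rfl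
  have hφt : φ t = LaurentPolynomial.T 1 := hψt
  constructor
  · rintro ⟨χ, hχ, -⟩ a ha
    obtain ⟨r, hr⟩ := hψ 1 a ha
    have h1 : (LaurentPolynomial.C r * LaurentPolynomial.T (-1) : R[T;T⁻¹]) = Polynomial.toLaurentAlg (χ a) := by
      rw [← hr, hχ]
    have h2 := congrArg (fun f : R[T;T⁻¹] => f.coeff (-1 : ℤ)) h1
    rw [← LaurentPolynomial.single_eq_C_mul_T] at h2
    simp only [AddMonoidAlgebra.coeff_single, Finsupp.single_eq_same, Polynomial.toLaurentAlg_apply] at h2
    have h3 : (Polynomial.toLaurent (χ a)).coeff (-1 : ℤ) = 0 := by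
      rw [LaurentPolynomial.coeff_toLaurent, Finsupp.mapDomain_notin_range]
      simp
    rw [h3] at h2
    rw [map_mul, map_mul, hr, h2, map_zero, zero_mul, mul_zero]
  · intro h
    have hdeg : ∀ (m : ℕ) (n : ℤ) a, a ∈ 𝒜 n → n = m + 1 → φ a = 0 := by
      intro m
      induction m with
      | zero =>
        intro n a ha hn
        have hu := h a (by rwa [show n = 1 by lia] at ha)
        rw [← hφ, map_mul, hφt] at hu
        exact (LaurentPolynomial.isUnit_T (R := R) 1).mul_right_eq_zero.1 hu
      | succ m ih =>
        intro n a ha hn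
        have hu := ih (-1 + n) (t * a) (SetLike.mul_mem_graded ht ha) (by lia)
        rw [map_mul, hφt] at hu
        exact (LaurentPolynomial.isUnit_T (R := R) 1).mul_right_eq_zero.1 hu
    have hrange : ∀ a, φ a ∈ (Polynomial.toLaurentAlg (R := R)).range := by
      intro a
      rw [← DirectSum.sum_support_decompose 𝒜 a, map_sum]
      refine Subalgebra.sum_mem _ fun n _ => ?_
      generalize hb : (DirectSum.decompose 𝒜 a n : A) = b
      have hmem : b ∈ 𝒜 n := hb ▸ (DirectSum.decompose 𝒜 a n).2
      rcases le_or_gt n 0 with hn | hn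
      · obtain ⟨r, hr⟩ := hψ n b hmem
        rw [hφ, hr]
        obtain ⟨m, rfl⟩ : ∃ m : ℕ, n = -(m : ℤ) := ⟨n.natAbs, by lia⟩
        exact ⟨Polynomial.C r * Polynomial.X ^ m, by simp [Polynomial.toLaurent_C_mul_X_pow]⟩
      · rw [hdeg (n - 1).natAbs n b hmem (by lia)]
        exact zero_mem _
    refine ⟨(AlgEquiv.ofInjective Polynomial.toLaurentAlg Polynomial.toLaurent_injective).symm.toAlgHom.comp
      (φ.codRestrict _ hrange), fun a => ?_, fun χ' hχ' => AlgHom.ext fun a => ?_⟩
    · rw [← hφ]
      exact (congrArg Subtype.val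
        ((AlgEquiv.ofInjective Polynomial.toLaurentAlg Polynomial.toLaurent_injective).apply_symm_apply ⟨φ a, hrange a⟩)).symm
    · refine Polynomial.toLaurent_injective ?_
      rw [← Polynomial.toLaurentAlg_apply, ← hχ' a]
      exact (congrArg Subtype.val
        ((AlgEquiv.ofInjective Polynomial.toLaurentAlg Polynomial.toLaurent_injective).apply_symm_apply ⟨φ a, hrange a⟩)).symm

end Groth.Agent.S19037
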