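import Groth.Statements.S19039
import Groth.Agent.InstabLib.GmLine

set_option autoImplicit false
universe u
open Instab

namespace Groth.Agent.S19039

open CategoryTheory MonoidalCategory CartesianMonoidalCategory MonObj GrpObj AlgebraicGeometry in
/-- The case n = 1 for a scheme X separated over an affine base Spec R, stated as the two facts that
identify equivariant families with maps whose orbit map extends. Let G_m act on X (a left action a :
G_m × X → X over Spec R) and on A¹ × T through the scaling action on A¹, for an R-scheme T; write j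
: G_m → A¹ for the inclusion t ↦ t. (a) If u, v : A¹ × T → X are G_m-equivariant R-morphisms with
the same restriction to the section {1} × T, then u = v. (b) If x : T → X is an R-morphism and u :
A¹ × T → X is an R-morphism whose restriction along j × T is the orbit family (g, t) ↦ g · x(t),
then u is G_m-equivariant. (The source works with an algebraic space X quasi-separated and locally
of finite presentation over a base B with an action of G_mⁿ and deduces that X⁺ → X is a locally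
finitely presented unramified monomorphism; only the elementary identification for n = 1 is stated
here, which uses separatedness alone.) -/
theorem result
    (R : Type u) [CommRing R] (X : Over (Spec (CommRingCat.of R))) [IsSeparated X.hom]
    (a : AlgGrp.Action (ThetaS.Gm R) X) (T : Over (Spec (CommRingCat.of R))) :
    (∀ u v : ThetaS.Line R ⊗ T ⟶ X,
        (α_ (ThetaS.Gm R) (ThetaS.Line R) T).inv ≫ ((ThetaS.lineAction R).act ▷ T) ≫ u = (ThetaS.Gm R ◁ u) ≫ a.act →
        (α_ (ThetaS.Gm R) (ThetaS.Line R) T).inv ≫ ((ThetaS.lineAction R).act ▷ T) ≫ v = (ThetaS.Gm R ◁ v) ≫ a.act →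
        lift ((1 : T ⟶ ThetaS.Gm R) ≫ (CoactBr.pt (ThetaS.linePt (ThetaS.zPow R 1)) : ThetaS.Gm R ⟶ ThetaS.Line R)) (𝟙 T) ≫ u =
          lift ((1 : T ⟶ ThetaS.Gm R) ≫ (CoactBr.pt (ThetaS.linePt (ThetaS.zPow R 1)) : ThetaS.Gm R ⟶ ThetaS.Line R)) (𝟙 T) ≫ v →
        u = v) ∧
    (∀ (x : T ⟶ X) (u : ThetaS.Line R ⊗ T ⟶ X),
        ((CoactBr.pt (ThetaS.linePt (ThetaS.zPow R 1)) : ThetaS.Gm R ⟶ ThetaS.Line R) ▷ T) ≫ u = (ThetaS.Gm R ◁ x) ≫ a.act →
        (α_ (ThetaS.Gm R) (ThetaS.Line R) T).inv ≫ ((ThetaS.lineAction R).act ▷ T) ≫ u =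
          (ThetaS.Gm R ◁ u) ≫ a.act) := by
  have hext := fun (T' : Over (Spec (CommRingCat.of R))) {a b : ThetaS.Line R ⊗ T' ⟶ X}
    (h : (Groth.Agent.InstabLib.GmLine.incl R ▷ T') ≫ a = (Groth.Agent.InstabLib.GmLine.incl R ▷ T') ≫ b) =>
      Groth.Agent.InstabLib.GmLine.hom_ext T' h
  let j := Groth.Agent.InstabLib.GmLine.incl R
  have hpts : ∀ (u : ThetaS.Line R ⊗ T ⟶ X),
      (α_ (ThetaS.Gm R) (ThetaS.Line R) T).inv ≫ ((ThetaS.lineAction R).act ▷ T) ≫ u = (ThetaS.Gm R ◁ u) ≫ a.act →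
      ∀ (W : Over (Spec (CommRingCat.of R))) (g : W ⟶ ThetaS.Gm R) (y : W ⟶ ThetaS.Line R) (t : W ⟶ T),
        lift (lift g y ≫ (ThetaS.lineAction R).act) t ≫ u = lift g (lift y t ≫ u) ≫ a.act := by
    intro u hu W g y t
    have h := congrArg (fun m => lift g (lift y t) ≫ m) hu
    simpa only [lift_lift_associator_inv_assoc, lift_whiskerRight_assoc, lift_whiskerLeft_assoc] using h
  refine ⟨fun u v hu hv h1 => hext T (Magnet.hom_ext_lift₂ fun W g t => ?_), fun x u hu => ?_⟩
  · have key : ∀ w : ThetaS.Line R ⊗ T ⟶ X,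
        (α_ (ThetaS.Gm R) (ThetaS.Line R) T).inv ≫ ((ThetaS.lineAction R).act ▷ T) ≫ w = (ThetaS.Gm R ◁ w) ≫ a.act →
        lift g t ≫ (j ▷ T) ≫ w = lift g (t ≫ lift ((1 : T ⟶ ThetaS.Gm R) ≫ j) (𝟙 T) ≫ w) ≫ a.act := by
      intro w hw
      rw [comp_lift_assoc, Category.comp_id, ← Category.assoc t, MonObj.comp_one, ← hpts w hw,
        Groth.Agent.InstabLib.GmLine.lift_incl_act, _root_.mul_one, lift_whiskerRight_assoc]
    rw [key u hu, key v hv]
    exact congrArg (fun m => lift g (t ≫ m) ≫ a.act) h1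
  · let ρ : ThetaS.Line R ⊗ (ThetaS.Gm R ⊗ T) ⟶ ThetaS.Gm R ⊗ (ThetaS.Line R ⊗ T) :=
      lift (snd _ _ ≫ fst _ _) (lift (fst _ _) (snd _ _ ≫ snd _ _))
    let ρ' : ThetaS.Gm R ⊗ (ThetaS.Line R ⊗ T) ⟶ ThetaS.Line R ⊗ (ThetaS.Gm R ⊗ T) :=
      lift (snd _ _ ≫ fst _ _) (lift (fst _ _) (snd _ _ ≫ snd _ _))
    have hρ : ρ' ≫ ρ = 𝟙 _ := by
      refine CartesianMonoidalCategory.hom_ext _ _ ?_ (CartesianMonoidalCategory.hom_ext _ _ ?_ ?_) <;> simp [ρ, ρ']
    have hpt : ∀ (W : Over (Spec (CommRingCat.of R))) (g : W ⟶ ThetaS.Gm R) (t : W ⟶ T),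
        lift (g ≫ j) t ≫ u = lift g (t ≫ x) ≫ a.act := fun W g t => by
      have h := congrArg (fun m => lift g t ≫ m) hu
      simpa only [lift_whiskerRight_assoc, lift_whiskerLeft_assoc] using h
    have key : ρ ≫ (α_ (ThetaS.Gm R) (ThetaS.Line R) T).inv ≫ ((ThetaS.lineAction R).act ▷ T) ≫ u =
        ρ ≫ (ThetaS.Gm R ◁ u) ≫ a.act := by
      refine hext _ (Magnet.hom_ext_lift₂ fun W g' p => ?_)
      have hp : lift g' p ≫ (j ▷ (ThetaS.Gm R ⊗ T)) ≫ ρ = lift (p ≫ fst _ _) (lift (g' ≫ j) (p ≫ snd _ _)) := by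
        refine CartesianMonoidalCategory.hom_ext _ _ ?_ (CartesianMonoidalCategory.hom_ext _ _ ?_ ?_) <;>
          simp [ρ, lift_whiskerRight_assoc]
      simp only [← Category.assoc]
      simp only [Category.assoc]
      rw [reassoc_of% hp, reassoc_of% hp, lift_lift_associator_inv_assoc, lift_whiskerRight_assoc,
        lift_whiskerLeft_assoc, Groth.Agent.InstabLib.GmLine.lift_incl_act, hpt, hpt]
      exact (Magnet.MonAct.ofAction a).lift_mul_act _ _ _
    have h := congrArg (fun m => ρ' ≫ m) key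
    simpa only [reassoc_of% hρ] using h

end Groth.Agent.S19039
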