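import Groth.Statements.S1904
import Groth.Agent.IntMult88.P1Graph
import Groth.Agent.S9802

set_option autoImplicit false
universe u
open CategoryTheory AlgebraicGeometry
open CategoryTheory.Limits
open Cyc

namespace Groth.Agent.S1904

set_option backward.isDefEq.respectTransparency false in
/-- Let X be integral with δ(η) = n, U ⊆ X a nonempty open and f an invertible function on U, viewed as
a rational function on X. Let Y ⊆ P^1_X be the scheme-theoretic closure of the graph of f and Y_0,
Y_∞ → X its pullbacks along the sections at 0 and ∞. Then div_X(f) = [Y_0]_{n−1} − [Y_∞]_{n−1}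
coefficientwise. A pair (X, δ) with Cyc.IsSetup plays the role of a scheme locally of finite type
over a fixed base with a dimension function (X locally Noetherian with universally catenary local
rings, δ a dimension function), and Cyc.DeltaCompat records that the dimension function upstairs is
the induced one. The published statement has further parts, which are not stated here. -/
theorem result (X : Scheme.{u}) [IsIntegral X] (δ : X → ℤ) (hX : Cyc.IsSetup X δ) (n : ℤ) (hn : δ (genericPoint X) = n) (U : X.Opens) (hη : genericPoint X ∈ U) (f : Γ(X, U)) (hf : IsUnit f) : Cyc.divFun δ (genericPoint X) (X.evaluation U (genericPoint X) hη f) = fun x => Cyc.subschemeFun δ (n - 1) (pullback.snd (P1.graphClosureι X U f) (P1.sect X 0)) x - Cyc.subschemeFun δ (n - 1) (pullback.snd (P1.graphClosureι X U f) (P1.sect X 1)) x := by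
  classical
  haveI := hX.1
  haveI : IsProper (CohB1.ProjSpaceOver.toBase 1 X) := Groth.Agent.ProjProper.Basic.isProper_toBase 1 X
  obtain ⟨δP, hP⟩ := Groth.Agent.IntMult88.P1Graph.exists_delta hX.1 δ
  set g := P1.graph X U f with hg
  let s : (U : Scheme.{u}) := ⟨genericPoint X, hη⟩
  let φ : HomogeneousLocalization.Away P1.grading.{u} (P1.T 0) →+* Γ((U : Scheme.{u}), ⊤) :=
    U.topIso.inv.hom.comp (P1.chartMap 0 Γ(X, U) f)
  have hg₀ : g ≫ CohB1.ProjSpaceOver.toBase 1 X = U.ι := pullback.lift_snd _ _ _
  have hg₁ : g ≫ Groth.Agent.CycLib.toP1Z X = (U : Scheme.{u}).toSpecΓ ≫ Spec.map (CommRingCat.ofHom φ) ≫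
      Proj.awayι P1.grading.{u} (P1.T 0) (P1.X_mem 0) one_pos := by
    refine (pullback.lift_fst _ _ _).trans ?_
    rw [Scheme.Opens.toSpecΓ, Category.assoc, ← Category.assoc (Spec.map U.topIso.inv), ← Spec.map_comp]
    rfl
  have hb : Function.Bijective (U.ι.residueFieldMap s).hom :=
    ConcreteCategory.bijective_of_isIso (U.ι.residueFieldMap s)
  have hfs : (U.ι.residueFieldMap s).hom (X.evaluation U (genericPoint X) hη f) =
      (U : Scheme.{u}).evaluation ⊤ s trivial (φ (Groth.Agent.CycLib.ratio 0 1)) := by
    show _ = (U : Scheme.{u}).evaluation ⊤ s trivial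
      (U.topIso.inv (P1.chartMap 0 Γ(X, U) f (Groth.Agent.CycLib.ratio 0 1)))
    rw [Groth.Agent.IntMult88.P1Graph.evalMap_ratio]
    refine (Scheme.evaluation_naturality_apply U.ι s (V := U) hη f).trans ?_
    show (U : Scheme.{u}).residue s ((U : Scheme.{u}).presheaf.germ _ s _ _) =
      (U : Scheme.{u}).residue s ((U : Scheme.{u}).presheaf.germ ⊤ s _ _)
    congr 1
    apply (U.stalkIso s).commRingCatIsoToRingEquiv.injective
    refine (ConcreteCategory.congr_hom (U.germ_stalkIso_hom s (V := U.ι ⁻¹ᵁ U) hη) (U.ι.app U f)).trans ?_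
    refine Eq.trans ?_ (ConcreteCategory.congr_hom (U.germ_stalkIso_hom s (V := ⊤) trivial) (U.topIso.inv f)).symm
    simp only [Scheme.Opens.ι_app, Scheme.Opens.topIso_inv]
    exact (X.presheaf.germ_res_apply _ _ _ f).trans (X.presheaf.germ_res_apply _ _ _ f).symm
  have hne : X.evaluation U (genericPoint X) hη f ≠ 0 := by
    rw [Scheme.evaluation_ne_zero_iff_mem_basicOpen, Scheme.basicOpen_of_isUnit _ hf]
    exact hη
  obtain ⟨-, hW⟩ := Groth.Agent.IntMult88.P1Graph.fibres_of_point δ hX δP hP (n - 1) U.ι φ g hg₀ hg₁ s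
    hb.2 (hn.trans (sub_add_cancel n 1).symm) (X.evaluation U (genericPoint X) hη f) hne hfs
  haveI : QuasiCompact (g ≫ CohB1.ProjSpaceOver.toBase 1 X) := hg₀ ▸ inferInstance
  haveI : QuasiCompact g := QuasiCompact.of_comp g (CohB1.ProjSpaceOver.toBase 1 X)
  haveI : Nonempty (U : Scheme.{u}) := ⟨s⟩
  haveI : IsIntegral (U : Scheme.{u}) := isIntegral_of_isOpenImmersion U.ι
  haveI : IsIntegral (P1.graph X U f).ker.subscheme := Groth.Agent.S9802.isIntegral_image g
  have hgen : P1.graphClosureι X U f (genericPoint (P1.graph X U f).ker.subscheme) = g s := by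
    have h1 := (genericPoint_spec (P1.graph X U f).ker.subscheme).image
      (P1.graph X U f).ker.subschemeι.continuous
    have hs : IsGenericPoint s (Set.univ : Set (U : Scheme.{u})) := by
      have e : s = genericPoint (U : Scheme.{u}) := U.ι.isOpenEmbedding.injective
        (genericPoint_eq_of_isOpenImmersion U.ι).symm
      rw [e]; exact genericPoint_spec _
    have h2 := hs.image g.continuous
    rw [Set.image_univ] at h1 h2
    rw [Scheme.IdealSheafData.range_subschemeι, Scheme.Hom.support_ker] at h1
    simp only [closure_closure] at h1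
    exact h1.eq h2
  haveI : IsClosedImmersion (P1.graphClosureι X U f) :=
    inferInstanceAs (IsClosedImmersion (P1.graph X U f).ker.subschemeι)
  funext x
  exact hW _ (P1.graphClosureι X U f) hgen x

end Groth.Agent.S1904
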