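import Groth.Statements.S19040
import Mathlib.AlgebraicGeometry.ZariskisMainTheorem
import Groth.Agent.DimOpen.GenericFibre
import Groth.Agent.PLineProd.Base
import Groth.Agent.CBC.ProjPic
import Groth.Agent.AlgSpD.EtaleTop
import Groth.Agent.EquidimPt.FibreFun
import Groth.Agent.S10829
-- import your own Groth.Agent.* helpers here

set_option autoImplicit false
set_option linter.style.haveILetI false
universe u
open CategoryTheory CategoryTheory.Limits AlgebraicGeometry
open Cyc

namespace Groth.Agent.S19040

open CategoryTheory.Limits in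
theorem exists_pn (X : Scheme.{u}) (n : ℕ) :
    ∃ φ : widePullback X (fun _ : Fin n => CohB1.ProjSpaceOver 1 X)
        (fun _ => CohB1.ProjSpaceOver.toBase 1 X) ⟶ CohB1.ProjSpaceOver n X,
      IsFinite φ ∧ φ ≫ CohB1.ProjSpaceOver.toBase n X = WidePullback.base (fun _ => CohB1.ProjSpaceOver.toBase 1 X) := by
  suffices h : ∃ φ : widePullback X (fun _ : Fin n => CohB1.ProjSpaceOver 1 X)
      (fun _ => CohB1.ProjSpaceOver.toBase 1 X) ⟶ CohB1.ProjSpaceOver n X,
      IsFinite φ ∧ Surjective φ ∧
      φ ≫ CohB1.ProjSpaceOver.toBase n X = WidePullback.base (fun _ => CohB1.ProjSpaceOver.toBase 1 X) from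
    h.imp fun φ h => ⟨h.1, h.2.2⟩
  induction n with
  | zero =>
    obtain ⟨s, hs, h1, h2⟩ := PLineProd.exists_section_zero X
    haveI := PLineProd.isIso_base_zero X
    refine ⟨WidePullback.base (fun _ : Fin 0 => CohB1.ProjSpaceOver.toBase 1 X) ≫ s, inferInstance, inferInstance, ?_⟩
    rw [Category.assoc, hs, Category.comp_id]
  | succ n ih =>
    obtain ⟨φ, h1, h2, h3⟩ := ih
    exact PLineProd.exists_succ X n φ h1 h2 h3

theorem topDim_fibre_le {P X : Scheme.{u}} (n : ℕ) (φ : P ⟶ CohB1.ProjSpaceOver n X) [IsFinite φ]
    (q : P ⟶ X) (hq : φ ≫ CohB1.ProjSpaceOver.toBase n X = q) (s : X) :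
    topologicalKrullDim ↥(q.fiber s) ≤ (n : WithBot ℕ∞) := by
  subst hq
  let g : (φ ≫ CohB1.ProjSpaceOver.toBase n X).fiber s ⟶ (CohB1.ProjSpaceOver.toBase n X).fiber s :=
    Limits.pullback.map _ _ _ _ φ (𝟙 _) (𝟙 _) (Category.comp_id _) rfl
  have hg : IsFinite g := MorphismProperty.pullbackMap (P := @IsFinite)
    (inferInstance : IsFinite φ) (inferInstance : IsFinite (𝟙 _)) rfl (Category.id_comp _).symm
  refine (AlgSpD.topologicalKrullDim_le_of_lqf g).trans (le_of_eq ?_)
  rw [← S10829.result (X.residueField s) n]
  exact (IsHomeomorph.topologicalKrullDim_eq _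
    (Groth.Agent.CBC.ProjPic.fibIso n s).hom.homeomorph.isHomeomorph).symm

/-- Let X be an integral Noetherian scheme and n a natural number, let P be the n-fold fibre product
over X of copies of the projective line over X, with structure map to X, and let W be an integral
closed subscheme of P of codimension n, in the sense that the local ring of P at the generic point
of W has Krull dimension n. If the induced morphism f : W → X is dominant and flat, then f is finite
and surjective, so finite and faithfully flat. (The source works with a Noetherian separated scheme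
X of finite dimension over a field k, takes W to be the closure in X ×_k (P^1_k)^n of an integral
closed subscheme Z of codimension n of X × (P^1 minus the point 1)^n, and assumes the closure
dominant and flat over X; such a closure is an integral closed subscheme of codimension n of the
n-fold product of projective lines over X, which is the form stated here, and the field k plays no
role.) -/
theorem result
    (X : Scheme.{u}) [IsIntegral X] [IsNoetherian X] (n : ℕ)
    (W : Scheme.{u}) [IsIntegral W]
    (i : W ⟶ widePullback X (fun _ : Fin n => CohB1.ProjSpaceOver 1 X)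
      (fun _ => CohB1.ProjSpaceOver.toBase 1 X))
    [IsClosedImmersion i]
    (hcodim : ringKrullDim
      ((widePullback X (fun _ : Fin n => CohB1.ProjSpaceOver 1 X)
        (fun _ => CohB1.ProjSpaceOver.toBase 1 X)).presheaf.stalk (i.base (genericPoint W))) = n)
    (f : W ⟶ X)
    (hf : i ≫ WidePullback.base (fun _ : Fin n => CohB1.ProjSpaceOver.toBase 1 X) = f)
    [IsDominant f] [Flat f] :
    IsFinite f ∧ Surjective f := by
  open CategoryTheory.Limits in
  let q : widePullback X (fun _ : Fin n => CohB1.ProjSpaceOver 1 X)
      (fun _ => CohB1.ProjSpaceOver.toBase 1 X) ⟶ X :=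
    WidePullback.base (fun _ : Fin n => CohB1.ProjSpaceOver.toBase 1 X)
  obtain ⟨φ, hφ, hφb⟩ := exists_pn X n
  haveI : IsProper (CohB1.ProjSpaceOver.toBase n X) := Groth.Agent.ProjProper.Basic.isProper_toBase n X
  haveI : IsProper q := by
    change IsProper (Limits.WidePullback.base (fun _ : Fin n => CohB1.ProjSpaceOver.toBase 1 X))
    rw [← hφb]; infer_instance
  haveI : IsProper f := by rw [← hf]; exact inferInstanceAs (IsProper (i ≫ q))
  haveI : LocallyOfFiniteType f := inferInstance
  haveI : IsLocallyNoetherian W := LocallyOfFiniteType.isLocallyNoetherian f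
  haveI := LocallyOfFiniteType.isLocallyNoetherian q
  haveI : LocallyOfFinitePresentation f := inferInstance
  have hsurj : Surjective f := ⟨fun y => by
    have h : Dense (Set.range f) := f.denseRange
    rw [dense_iff_closure_eq, f.isClosedMap.isClosed_range.closure_eq] at h
    exact h.ge (Set.mem_univ y)⟩
  have hfη : f (genericPoint W) = genericPoint X := by
    refine IsGenericPoint.eq ?_ (genericPoint_spec X)
    have h := (genericPoint_spec W).image f.continuous
    rwa [Set.image_univ, f.denseRange.closure_range] at h
  let w := i (genericPoint W)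
  have hqw : q w = genericPoint X := by
    rw [← hfη, ← hf]; rfl
  -- the fibre of `q` through `w`
  have hstalk : ringKrullDim (X.presheaf.stalk (q w)) = 0 := by
    rw [hqw]
    letI : Field (X.presheaf.stalk (genericPoint X)) := (inferInstanceAs (Field X.functionField))
    exact ringKrullDim_eq_zero_of_field _
  have hc : (n : WithBot ℕ∞) ≤ ringKrullDim ((q.fiber (q w)).presheaf.stalk (q.asFiber w)) := by
    have h := Groth.Agent.DimOpen.dim_le_add q w
    rw [hstalk, zero_add] at h
    exact le_of_eq_of_le hcodim.symm h
  have htop := topDim_fibre_le n φ q hφb (q w)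
  rw [ringKrullDim_stalk_eq_coheight] at hc
  have hclosed : ∀ z : ↥(q.fiber (q w)), q.asFiber w ⤳ z → z = q.asFiber w := by
    intro z hz
    by_contra hne
    have hlt : z < q.asFiber w := lt_of_le_not_ge hz fun h =>
      hne (hz.antisymm h).eq.symm
    have h1 : (Order.coheight (q.asFiber w) + 1 : ℕ∞) ≤ Order.coheight z := Order.coheight_add_one_le hlt
    have h2 : (Order.coheight z : WithBot ℕ∞) ≤ (n : WithBot ℕ∞) := by
      refine le_trans ?_ htop
      rw [Groth.Agent.AlgSpD.topologicalKrullDim_eq_iSup]
      exact le_iSup (fun y : ↥(q.fiber (q w)) => (Order.coheight y : WithBot ℕ∞)) z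
    have h3 : (n : ℕ∞) ≤ Order.coheight (q.asFiber w) := WithBot.coe_le_coe.mp hc
    have h4 : Order.coheight z ≤ (n : ℕ∞) := WithBot.coe_le_coe.mp h2
    have h5 : Order.coheight (q.asFiber w) + 1 ≤ (n : ℕ∞) := h1.trans h4
    have h6 : (n : ℕ∞) + 1 ≤ (n : ℕ∞) := (add_le_add h3 le_rfl).trans h5
    exact absurd h6 (by exact_mod_cast Nat.not_succ_le_self n)
  have hgen : topologicalKrullDim ↥(f.fiber (genericPoint X)) ≤ 0 := by
    haveI : Subsingleton ↥(f.fiber (genericPoint X)) := by
      suffices H : ∀ z : W, f z = genericPoint X → z = genericPoint W from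
        ⟨fun a b => (f.fiberι (genericPoint X)).isEmbedding.injective
          ((H _ (by simpa using (f.fiberHomeo _ a).2)).trans (H _ (by simpa using (f.fiberHomeo _ b).2)).symm)⟩
      intro z hz
      have hqz : q (i z) = q w := by
        rw [hqw, ← hz, ← hf]; rfl
      let z' : ↥(q.fiber (q w)) := (q.fiberHomeo (q w)).symm ⟨i z, hqz⟩
      have hz' : q.fiberι (q w) z' = i z := congrArg Subtype.val ((q.fiberHomeo (q w)).apply_symm_apply ⟨i z, hqz⟩)
      have hsp : q.asFiber w ⤳ z' := (q.fiberι (q w)).isEmbedding.isInducing.specializes_iff.mp (by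
        rw [hz', q.fiberι_asFiber]
        exact (genericPoint_specializes z).map i.continuous)
      have h := congrArg (q.fiberι (q w)) (hclosed z' hsp)
      rw [hz', q.fiberι_asFiber] at h
      exact i.isClosedEmbedding.injective h
    exact topologicalKrullDim_zero_of_discreteTopology _
  have hopen : ∀ z : W, EGA43.IsOpenAt f.base z := fun z U hU => f.isOpenMap.image_mem_nhds hU
  have hfib : ∀ y : X, topologicalKrullDim ↥(f.fiber y) ≤ 0 := fun y =>
    (Groth.Agent.EquidimPt.topDim_fiber_le_iff f y 0).mpr fun x _ =>
      le_of_eq_of_le (Groth.Agent.DimOpen.fibreDimAt_eq_of_dim_formula f x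
        (Groth.Agent.DimOpen.dim_eq_add f x fun z _ _ => hopen _)) hgen
  haveI : LocallyQuasiFinite f := LocallyQuasiFinite.of_finite_preimage_singleton (f := f) fun y => by
    haveI := LocallyOfFiniteType.isLocallyNoetherian (f.fiberToSpecResidueField y)
    haveI : CompactSpace ↥(f.fiber y) := QuasiCompact.compactSpace_of_compactSpace (f.fiberToSpecResidueField y)
    haveI : IsNoetherian (f.fiber y) := {}
    haveI : Finite ↥(f.fiber y) := (Groth.Agent.TopDimLib.finite_and_discrete_of_topDim_le_zero (hfib y)).1
    haveI := Finite.of_equiv _ (f.fiberHomeo y).toEquiv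
    exact Set.toFinite _
  exact ⟨IsFinite.of_isProper_of_locallyQuasiFinite f, hsurj⟩

end Groth.Agent.S19040
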