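import Groth.Statements.S19046
import Groth.Agent.FF.ASH1
-- import your own Groth.Agent.* helpers here

set_option autoImplicit false
universe u v
open Classical
open FunFld

namespace Groth.Agent.S19046

/-- Let `k` be algebraically closed of characteristic `2`, `K = k(x, y)` with `y² + y = f(x)` separable
of degree `2` over `k(x)`, `B ⊆ k` a finite set containing `0` with `f` having a pole of odd order
`d_β` at `x = β` for `β ∈ B` and integral elsewhere, `c_β = (d_β - 1)/2`, and `P_β` a place of `K`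
above `x = β`. Identify `H¹(X, O)` of the smooth projective model with the repartitions (adeles with
components in `K`) modulo `W = A(0) + K` (everywhere-integral repartitions plus constants), a Čech
class with defining component `h` at `β` corresponding to the repartition with component `h` at
`P_β` and `0` elsewhere. Then the repartitions supported at `P_α` with value `y (x - α)^j` (`α ∈ B`,
`1 ≤ j ≤ c_α`) and with value `y` (`α ∈ B`, `α ≠ 0`) are adeles whose classes modulo `W` are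
linearly independent over `k` and, together with `W`, span the adeles: they give a basis of `H¹(X,
O)`. -/
theorem result (k : Type u) (K : Type v)
    [Field k] [IsAlgClosed k] [CharP k 2] [Field K] [Algebra k K] [Algebra (RatFunc k) K] [IsScalarTower k (RatFunc k) K]
    (hK : FunFld.IsFunctionField k K) (hdeg : Module.finrank (RatFunc k) K = 2) [Algebra.IsSeparable (RatFunc k) K]
    (y : K) (hy : y ∉ Set.range (algebraMap (RatFunc k) K)) (f : RatFunc k)
    (heq : y ^ 2 + y = algebraMap (RatFunc k) K f)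
    (B : Finset k) (h0 : (0 : k) ∈ B) (d : k → ℕ) (hd : ∀ β ∈ B, Odd (d β))
    (hpole : ∀ (p : FunFld.Place k (RatFunc k)) (β : k), β ∈ B →
      p.1 ((RatFunc.X : RatFunc k) - RatFunc.C β) < 1 → p.ord f = -(d β : ℤ))
    (hint : ∀ p : FunFld.Place k (RatFunc k), (∀ β ∈ B, 1 ≤ p.1 ((RatFunc.X : RatFunc k) - RatFunc.C β)) → p.1 f ≤ 1)
    (Pl : k → FunFld.Place k K) (hPl : ∀ β ∈ B, (Pl β).1 ((algebraMap (RatFunc k) K RatFunc.X) - (algebraMap k K β)) < 1) :
    (∀ i, (Sum.elim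
        (fun a : {a : ↥B × ℕ // 1 ≤ a.2 ∧ 2 * a.2 + 1 ≤ d (a.1 : k)} =>
          (Pi.single (Pl (a.1.1 : k)) (y * ((algebraMap (RatFunc k) K RatFunc.X) - (algebraMap k K (a.1.1 : k))) ^ a.1.2) : FunFld.Place k K → K))
        (fun b : {b : ↥B // (b : k) ≠ 0} => (Pi.single (Pl (b.1 : k)) y : FunFld.Place k K → K))) i ∈ FunFld.adele k K) ∧
    LinearIndependent k (fun i => Submodule.mkQ (FunFld.AD (0 : FunFld.Divisor k K) ⊔ LinearMap.range (FunFld.diag k K)) ((Sum.elim
        (fun a : {a : ↥B × ℕ // 1 ≤ a.2 ∧ 2 * a.2 + 1 ≤ d (a.1 : k)} =>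
          (Pi.single (Pl (a.1.1 : k)) (y * ((algebraMap (RatFunc k) K RatFunc.X) - (algebraMap k K (a.1.1 : k))) ^ a.1.2) : FunFld.Place k K → K))
        (fun b : {b : ↥B // (b : k) ≠ 0} => (Pi.single (Pl (b.1 : k)) y : FunFld.Place k K → K))) i)) ∧
    ∀ a : FunFld.Place k K → K, a ∈ FunFld.adele k K →
      a ∈ (FunFld.AD (0 : FunFld.Divisor k K) ⊔ LinearMap.range (FunFld.diag k K)) ⊔ Submodule.span k (Set.range (Sum.elim
        (fun a : {a : ↥B × ℕ // 1 ≤ a.2 ∧ 2 * a.2 + 1 ≤ d (a.1 : k)} =>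
          (Pi.single (Pl (a.1.1 : k)) (y * ((algebraMap (RatFunc k) K RatFunc.X) - (algebraMap k K (a.1.1 : k))) ^ a.1.2) : FunFld.Place k K → K))
        (fun b : {b : ↥B // (b : k) ≠ 0} => (Pi.single (Pl (b.1 : k)) y : FunFld.Place k K → K)))) := by
  have H : Groth.Agent.FF.IsASLin y f B d :=
    ⟨⟨CharTwo.two_eq_zero, hdeg, hy, heq⟩, h0, hd, hpole, hint⟩
  haveI := H.as.finite
  classical
  let I := {a : ↥B × ℕ // 1 ≤ a.2 ∧ 2 * a.2 + 1 ≤ d (a.1 : k)} ⊕ {b : ↥B // (b : k) ≠ 0}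
  let bI : I → ↥B := Sum.elim (fun a => a.1.1) (fun b => b.1)
  let jI : I → ℕ := Sum.elim (fun a => a.1.2) (fun _ => 0)
  have hinj : Function.Injective fun i => (bI i, jI i) := by
    rintro (⟨⟨b, j⟩, h1, h2⟩ | ⟨b, hb⟩) (⟨⟨c, l⟩, h3, h4⟩ | ⟨c, hc⟩) h <;>
      simp only [bI, jI, Sum.elim_inl, Sum.elim_inr, Prod.mk.injEq] at h
    · obtain ⟨rfl, rfl⟩ := h; rfl
    · obtain ⟨rfl, rfl⟩ := h; simp at h1
    · obtain ⟨rfl, rfl⟩ := h; simp at h3
    · obtain ⟨rfl, -⟩ := h; rfl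
  have hj : ∀ i, 2 * jI i + 1 ≤ d (bI i : k) := by
    rintro (⟨⟨b, j⟩, h1, h2⟩ | ⟨b, hb⟩)
    · exact h2
    · exact (hd _ b.2).pos
  have hz : ∀ i, (bI i : k) = 0 → jI i ≠ 0 := by
    rintro (⟨⟨b, j⟩, h1, h2⟩ | ⟨b, hb⟩) h
    · exact Nat.one_le_iff_ne_zero.1 h1
    · exact absurd h hb
  have hfun : (fun i => (Pi.single (Pl (bI i : k)) (y * ((algebraMap (RatFunc k) K RatFunc.X) - (algebraMap k K (bI i : k))) ^ jI i) : FunFld.Place k K → K)) =
      Sum.elim
        (fun a : {a : ↥B × ℕ // 1 ≤ a.2 ∧ 2 * a.2 + 1 ≤ d (a.1 : k)} =>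
          (Pi.single (Pl (a.1.1 : k)) (y * ((algebraMap (RatFunc k) K RatFunc.X) - (algebraMap k K (a.1.1 : k))) ^ a.1.2) : FunFld.Place k K → K))
        (fun b : {b : ↥B // (b : k) ≠ 0} => (Pi.single (Pl (b.1 : k)) y : FunFld.Place k K → K)) := by
    funext i; rcases i with i | i
    · rfl
    · simp [bI, jI]
  obtain ⟨h1, h2⟩ := H.h1_family hPl bI jI hinj hj hz
  refine ⟨fun i => ?_, ?_, fun a ha => ?_⟩
  · rw [← hfun]; exact h1 i
  · simp only [← hfun]; exact h2
  · rw [← hfun]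
    exact H.h1_span hPl hK bI jI hinj hj hz (Groth.Agent.FF.card_linIdx B d h0 hd) ha

end Groth.Agent.S19046
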