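import Groth.Statements.S19048
import Mathlib.LinearAlgebra.Dimension.Constructions
import Mathlib.FieldTheory.Perfect
import Mathlib.Algebra.CharP.Lemmas

set_option autoImplicit false
universe u
open Dieu

namespace Groth.Agent.S19048
open W4c6eohyperellchar2 in
lemma mem_Nfil_iff (c : ℕ) (k : Type u) [Field k] (i : ℕ) (v : GcMod c k) :
    v ∈ Nfil c k i ↔ (∀ j : Fin c, j.val + 1 ≤ 2 * c - i → v.1 j = 0) ∧
      (∀ j : Fin c, i < j.val + 1 → v.2 j = 0) := by
  constructor
  · intro h
    induction h using Submodule.span_induction with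
    | mem x hx =>
      rcases hx with ⟨n, hn, rfl⟩ | ⟨n, hn, rfl⟩
      · refine ⟨fun j _ => rfl, fun j hj => ?_⟩
        simp only [Set.mem_Icc] at hn
        exact if_neg (by omega)
      · refine ⟨fun j hj => ?_, fun j _ => rfl⟩
        simp only [Set.mem_Ioc] at hn
        exact if_neg (by omega)
    | zero => exact ⟨fun j _ => rfl, fun j _ => rfl⟩
    | add x y _ _ hx hy =>
      exact ⟨fun j hj => by simp [hx.1 j hj, hy.1 j hj], fun j hj => by simp [hx.2 j hj, hy.2 j hj]⟩
    | smul r x _ hx =>
      exact ⟨fun j hj => by simp [hx.1 j hj], fun j hj => by simp [hx.2 j hj]⟩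
  · rintro ⟨h1, h2⟩
    have : v = ∑ j : Fin c, (v.1 j • X c k (j.val + 1) + v.2 j • Y c k (j.val + 1)) := by
      ext t <;>
        simp [X, Y, Finset.sum_apply, Prod.fst_sum, Prod.snd_sum, Fin.val_inj, eq_comm]
    rw [this]
    refine sum_mem fun j _ => add_mem ?_ ?_
    · by_cases hj : j.val + 1 ≤ 2 * c - i
      · simp [h1 j hj]
      · exact Submodule.smul_mem _ _ (Submodule.subset_span
          (Or.inr ⟨j.val + 1, ⟨by omega, by omega⟩, rfl⟩))
    · by_cases hj : i < j.val + 1
      · simp [h2 j hj]
      · exact Submodule.smul_mem _ _ (Submodule.subset_span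
          (Or.inl ⟨j.val + 1, ⟨by omega, le_min (by omega) (by omega)⟩, rfl⟩))

open W4c6eohyperellchar2 in
lemma finrank_Nfil (c : ℕ) (k : Type u) [Field k] (i : ℕ) (hi : i ≤ 2 * c) :
    Module.finrank k (Nfil c k i) = i := by
  let f : Nfil c k i →ₗ[k] (Fin (min i c) → k) × (Fin (i - c) → k) :=
    { toFun := fun v => (fun q => v.1.2 ⟨q.val, by omega⟩, fun q => v.1.1 ⟨2 * c - i + q.val, by omega⟩)
      map_add' := fun _ _ => rfl
      map_smul' := fun _ _ => rfl }
  have hinj : Function.Injective f := by
    intro v w h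
    obtain ⟨v, hv⟩ := v
    obtain ⟨w, hw⟩ := w
    rw [mem_Nfil_iff] at hv hw
    have h1 := congrArg Prod.fst h
    have h2 := congrArg Prod.snd h
    apply Subtype.ext
    ext j
    · by_cases hj : j.val + 1 ≤ 2 * c - i
      · simp [hv.1 j hj, hw.1 j hj]
      · have := congrFun h2 ⟨j.val - (2 * c - i), by omega⟩
        simp only [f, LinearMap.coe_mk, AddHom.coe_mk] at this
        rwa [show (⟨2 * c - i + (j.val - (2 * c - i)), by omega⟩ : Fin c) = j from
          Fin.ext (by simp only; omega)] at this
    · by_cases hj : i < j.val + 1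
      · simp [hv.2 j hj, hw.2 j hj]
      · have := congrFun h1 ⟨j.val, by omega⟩
        exact this
  have hsurj : Function.Surjective f := by
    rintro ⟨g1, g2⟩
    refine ⟨⟨(fun j => if h : 2 * c - i ≤ j.val then g2 ⟨j.val - (2 * c - i), by omega⟩ else 0,
      fun j => if h : j.val < min i c then g1 ⟨j.val, h⟩ else 0), (mem_Nfil_iff _ _ _ _).2 ⟨?_, ?_⟩⟩, ?_⟩
    · intro j hj
      exact dif_neg (by omega)
    · intro j hj
      exact dif_neg (by omega)
    · refine Prod.ext (funext fun q => ?_) (funext fun q => ?_)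
      · exact (dif_pos q.isLt).trans rfl
      · refine (dif_pos (by simp)).trans ?_
        congr 1
        ext
        simp
  rw [(LinearEquiv.ofBijective f ⟨hinj, hsurj⟩).finrank_eq, Module.finrank_prod,
    Module.finrank_fin_fun, Module.finrank_fin_fun]
  omega

open W4c6eohyperellchar2 in
lemma coefY_of {c : ℕ} {k : Type*} [Zero k] (v : GcMod c k) (j : Fin c) (n : ℕ)
    (h : n = j.val + 1) : coefY v n = v.2 j := by
  subst h
  exact dif_pos ⟨by omega, by omega⟩

open W4c6eohyperellchar2 in
lemma coefX_of {c : ℕ} {k : Type*} [Zero k] (v : GcMod c k) (j : Fin c) (n : ℕ)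
    (h : n = j.val + 1) : coefX v n = v.1 j := by
  subst h
  exact dif_pos ⟨by omega, by omega⟩

open W4c6eohyperellchar2 in
lemma NV_add (c : ℕ) (k : Type u) [Field k] [CharP k 2] [PerfectRing k 2] (a : ℕ → k)
    (v w : GcMod c k) : NV c k a (v + w) = NV c k a v + NV c k a w := by
  refine Prod.ext (by simp [NV]) (funext fun i => ?_)
  simp only [NV, Prod.snd_add, Pi.add_apply, Prod.fst_add]
  have hY : coefY (v + w) (2 * (i.val + 1)) =
      coefY v (2 * (i.val + 1)) + coefY w (2 * (i.val + 1)) := by
    unfold coefY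
    split_ifs <;> simp
  rw [hY, map_add, add_add_add_comm, ← Finset.sum_add_distrib]
  congr 1
  refine Finset.sum_congr rfl fun j _ => ?_
  split_ifs <;> simp [add_mul]

open W4c6eohyperellchar2 in
lemma NV_mem (c : ℕ) (k : Type u) [Field k] [CharP k 2] [PerfectRing k 2] (a : ℕ → k) (i : ℕ)
    (hi : i ≤ 2 * c) (v : GcMod c k) (hv : v ∈ Nfil c k i) : NV c k a v ∈ Nfil c k (i / 2) := by
  rw [mem_Nfil_iff] at hv ⊢
  refine ⟨fun j _ => rfl, fun m hm => ?_⟩
  have h0 : coefY v (2 * (m.val + 1)) = 0 := by
    unfold coefY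
    split_ifs with h
    · exact hv.2 _ (by simp only; omega)
    · rfl
  simp only [NV, h0, map_zero, zero_add]
  refine Finset.sum_eq_zero fun j _ => ?_
  split_ifs with h
  · rw [hv.1 j (by omega), zero_mul, map_zero]
  · rfl

open W4c6eohyperellchar2 in
lemma NV_surj (c : ℕ) (k : Type u) [Field k] [CharP k 2] [PerfectRing k 2] (a : ℕ → k)
    (ha : a c ≠ 0) (i : ℕ) (hi : i ≤ 2 * c) (w : GcMod c k) (hw : w ∈ Nfil c k (i / 2)) :
    ∃ v ∈ Nfil c k i, NV c k a v = w := by
  rw [mem_Nfil_iff] at hw
  suffices ∀ d : ℕ, d ≤ c → ∃ v ∈ Nfil c k i, ∀ m : Fin c, c - d ≤ m.val → (NV c k a v).2 m = w.2 m by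
    obtain ⟨v, hv, h⟩ := this c le_rfl
    refine ⟨v, hv, Prod.ext (funext fun j => ?_) (funext fun m => h m (by omega))⟩
    exact (hw.1 j (by omega)).symm
  intro d
  induction d with
  | zero => exact fun _ => ⟨0, zero_mem _, fun m hm => absurd m.isLt (by omega)⟩
  | succ d ih =>
    intro hd
    obtain ⟨v, hv, h⟩ := ih (by omega)
    let M : Fin c := ⟨c - (d + 1), by omega⟩
    by_cases hMi : i / 2 < M.val + 1
    · refine ⟨v, hv, fun m hm => ?_⟩
      by_cases hmM : m = M
      · subst hmM
        rw [hw.2 M hMi, ((mem_Nfil_iff _ _ _ _).1 (NV_mem c k a i hi v hv)).2 M hMi]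
      · exact h m (by
          have : m.val ≠ c - (d + 1) := fun e => hmM (Fin.ext e)
          omega)
    obtain ⟨u, hu, hu1, hu2⟩ : ∃ u ∈ Nfil c k i,
        (NV c k a u).2 M = w.2 M - (NV c k a v).2 M ∧
        ∀ m : Fin c, M.val < m.val → (NV c k a u).2 m = 0 := by
      set t := w.2 M - (NV c k a v).2 M
      by_cases h2 : 2 * (M.val + 1) ≤ c
      · let J : Fin c := ⟨2 * M.val + 1, by omega⟩
        refine ⟨(0, Pi.single J (t ^ 2)), (mem_Nfil_iff _ _ _ _).2 ⟨fun j _ => rfl, fun j hj => ?_⟩,
          ?_, fun m hm => ?_⟩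
        · refine Pi.single_eq_of_ne (fun e => ?_) _
          have := congrArg Fin.val e
          simp only [J] at this
          omega
        · have he : coefY ((0, Pi.single J (t ^ 2)) : GcMod c k) (2 * (M.val + 1)) = t ^ 2 := by
            rw [coefY_of _ J _ (by simp only [J]; omega)]
            exact Pi.single_eq_same (M := fun _ => k) J (t ^ 2)
          simp [NV, he]
        · have he : coefY ((0, Pi.single J (t ^ 2)) : GcMod c k) (2 * (m.val + 1)) = 0 := by
            unfold coefY
            split_ifs with hh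
            · refine Pi.single_eq_of_ne (M := fun _ => k) (fun e => ?_) _
              have := congrArg Fin.val e
              simp only [J] at this
              omega
            · rfl
          simp [NV, he]
      · let J : Fin c := ⟨2 * (c - (M.val + 1)), by omega⟩
        refine ⟨(Pi.single J (t ^ 2 / a c), 0), (mem_Nfil_iff _ _ _ _).2 ⟨fun j hj => ?_, fun j _ => rfl⟩,
          ?_, fun m hm => ?_⟩
        · refine Pi.single_eq_of_ne (fun e => ?_) _
          have := congrArg Fin.val e
          simp only [J] at this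
          omega
        · have he : coefY ((Pi.single J (t ^ 2 / a c), 0) : GcMod c k) (2 * (M.val + 1)) = 0 := by
            unfold coefY
            split_ifs <;> rfl
          simp only [NV, he, map_zero, zero_add]
          rw [Finset.sum_eq_single J]
          · have hJ : (J.val + 1) % 2 = 1 ∧ M.val + 1 + J.val / 2 ≤ c := by simp only [J]; omega
            have hJc : M.val + 1 + J.val / 2 = c := by simp only [J]; omega
            rw [if_pos hJ, hJc, Pi.single_eq_same (M := fun _ => k), div_mul_cancel₀ _ ha,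
              ← frobenius_def, frobeniusEquiv_symm_apply_frobenius]
          · intro j _ hj
            split_ifs
            · rw [Pi.single_eq_of_ne (M := fun _ => k) hj, zero_mul, map_zero]
            · rfl
          · simp
        · have he : coefY ((Pi.single J (t ^ 2 / a c), 0) : GcMod c k) (2 * (m.val + 1)) = 0 := by
            unfold coefY
            split_ifs <;> rfl
          simp only [NV, he, map_zero, zero_add]
          refine Finset.sum_eq_zero fun j _ => ?_
          split_ifs with hh
          · rw [Pi.single_eq_of_ne (M := fun _ => k) (fun e => ?_), zero_mul, map_zero]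
            have := congrArg Fin.val e
            simp only [J] at this
            omega
          · rfl
    refine ⟨v + u, add_mem hv hu, fun m hm => ?_⟩
    rw [NV_add, Prod.snd_add, Pi.add_apply]
    by_cases hmM : m = M
    · subst hmM
      rw [hu1]
      ring
    · have : M.val < m.val := by
        have : m.val ≠ c - (d + 1) := fun e => hmM (Fin.ext e)
        simp only [M]
        omega
      rw [hu2 m this, add_zero]
      exact h m (by simp only [M] at this; omega)

open W4c6eohyperellchar2 in
lemma NF_mem_iff (c : ℕ) (k : Type u) [Field k] (a : ℕ → k) (ha : a c ≠ 0) (i : ℕ)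
    (hi : i ≤ 2 * c) (v : GcMod c k) :
    NF c k a v ∈ Nfil c k i ↔ v ∈ Nfil c k (c + (i + 1) / 2) := by
  rw [mem_Nfil_iff, mem_Nfil_iff]
  constructor
  · rintro ⟨h1, h2⟩
    refine ⟨?_, fun j hj => absurd j.isLt (by omega)⟩
    rintro ⟨n, hn⟩
    induction n using Nat.strong_induction_on with
    | _ n ih =>
      intro hle
      simp only at hle
      by_cases hc : 2 * (n + 1) ≤ c
      · have := h1 ⟨2 * n + 1, by omega⟩ (by simp only; omega)
        simp only [NF] at this
        rw [if_pos (by omega), coefX_of v ⟨n, hn⟩ _ (by simp only; omega)] at this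
        exact eq_zero_of_pow_eq_zero this
      · have := h2 ⟨2 * (c - (n + 1)), by omega⟩ (by simp only; omega)
        simp only [NF] at this
        rw [if_pos (by omega), Finset.sum_eq_single (⟨n, hn⟩ : Fin c)] at this
        · rw [if_pos (by simp only; omega), show n + 1 + 2 * (c - (n + 1)) / 2 = c by omega] at this
          exact eq_zero_of_pow_eq_zero ((mul_eq_zero.1 this).resolve_right ha)
        · intro j _ hj
          split_ifs with hh
          · have hjn : j.val < n := by
              have : j.val ≠ n := fun e => hj (Fin.ext e)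
              omega
            have := ih j.val hjn j.isLt (by simp only; omega)
            simp [this]
          · rfl
        · simp
  · rintro ⟨h1, -⟩
    refine ⟨fun n hn => ?_, fun m hm => ?_⟩
    · simp only [NF]
      split_ifs with h
      · rw [coefX_of v ⟨n.val / 2, by omega⟩ _ (by simp only; omega),
          h1 _ (by simp only; omega)]
        simp
      · rfl
    · simp only [NF]
      split_ifs with h
      · refine Finset.sum_eq_zero fun j _ => ?_
        split_ifs with hh
        · simp [h1 j (by omega)]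
        · rfl
      · rfl

/-- Let `k` be a perfect field of characteristic `2`, `c` a natural number and `a_1, …, a_c ∈ k` with
`a_c ≠ 0`. On the `2c`-dimensional `k`-space with basis `λ_1, …, λ_c, σ_1, …, σ_c` let `F` be
Frobenius-semilinear with `F λ_j = 0`, `F σ_j = σ_{2j}` for `2j ≤ c`, `F σ_j = Σ_{i=j}^{c} a_i
λ_{2i-2j+1}` for `2j > c`, and `V` inverse-Frobenius-semilinear with `V λ_j = λ_{j/2}` (`j` even),
`0` (`j` odd), `V σ_j = 0` (`j` even), `V σ_j = Σ_{i=(j+1)/2}^{c} a_i^{1/2} λ_{i-(j-1)/2}` (`j` odd)
— the shape of `F` and `V` on the block of the first de Rham cohomology of `y² − y = f(x)` belonging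
to a branch point with invariant `d = 2c + 1`, `a_i` the coefficients of the odd polynomial `f_α`.
Put `N_i = ⟨λ_1, …, λ_i⟩` for `i ≤ c` and `N_i = ⟨λ_1, …, λ_c, σ_{2c-i+1}, …, σ_c⟩` for `c ≤ i ≤
2c`. Then for `0 ≤ i ≤ 2c`: `dim N_i = i`, `V(N_i) = N_{⌊i/2⌋}` and `F⁻¹(N_i) = N_{c+⌈i/2⌉}`; so
`(N_i)` is a final filtration with `dim V(N_i) = ⌊i/2⌋`. (The published statement adjoins the `σ_j`
starting from `σ_1`; then `V(N_{c+1})` contains `V σ_1`, whose `λ_c`-coefficient is a square root of
`a_c ≠ 0`, so it is not `N_{⌊(c+1)/2⌋}` once `c ≥ 2`; adjoining them from `σ_c` downward, as here,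
makes both identities hold.) -/
theorem result (c : ℕ) (k : Type u) [Field k] [CharP k 2] [PerfectRing k 2]
    (a : ℕ → k) (ha : a c ≠ 0) (i : ℕ) (hi : i ≤ 2 * c) :
    Module.finrank k (W4c6eohyperellchar2.Nfil c k i) = i ∧
      W4c6eohyperellchar2.NV c k a '' (W4c6eohyperellchar2.Nfil c k i : Set (W4c6eohyperellchar2.GcMod c k)) = (W4c6eohyperellchar2.Nfil c k (i / 2) : Set (W4c6eohyperellchar2.GcMod c k)) ∧
      W4c6eohyperellchar2.NF c k a ⁻¹' (W4c6eohyperellchar2.Nfil c k i : Set (W4c6eohyperellchar2.GcMod c k)) = (W4c6eohyperellchar2.Nfil c k (c + (i + 1) / 2) : Set (W4c6eohyperellchar2.GcMod c k)) := by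
  refine ⟨finrank_Nfil c k i hi, Set.Subset.antisymm ?_ ?_, ?_⟩
  · rintro _ ⟨v, hv, rfl⟩
    exact NV_mem c k a i hi v hv
  · intro w hw
    exact NV_surj c k a ha i hi w hw
  · ext v
    exact NF_mem_iff c k a ha i hi v

end Groth.Agent.S19048
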