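import Groth.Statements.S1905
import Groth.Agent.CycLib.PullDivApp

set_option autoImplicit false
universe u
open CategoryTheory AlgebraicGeometry
open Cyc

namespace Groth.Agent.S1905

/-- Let f : X → Y be a flat morphism, locally of finite type, of relative dimension r between integral
schemes, and g a nonzero rational function on Y, taken in the residue field at f(η_X) (the generic
point of Y). Then f^*(div_Y g) = div_X(g ∘ f) coefficientwise, where g ∘ f is the image of g in
κ(η_X). A pair (X, δ) with Cyc.IsSetup plays the role of a scheme locally of finite type over a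
fixed base with a dimension function (X locally Noetherian with universally catenary local rings, δ
a dimension function), and Cyc.DeltaCompat records that the dimension function upstairs is the
induced one. -/
theorem result (X Y : Scheme.{u}) [IsIntegral X] [IsIntegral Y] (δX : X → ℤ) (δY : Y → ℤ) (hX : Cyc.IsSetup X δX) (hY : Cyc.IsSetup Y δY) (f : X ⟶ Y) [Flat f] [LocallyOfFiniteType f] (r : ℕ) (hr : Cyc.HasRelDim f r) (hδ : Cyc.DeltaCompat f δX δY) (g : Y.residueField (f (genericPoint X))) (hg : g ≠ 0) : Cyc.pullFun f δX δY r (Cyc.divFun δY (f (genericPoint X)) g) = Cyc.divFun δX (genericPoint X) (f.residueFieldMap (genericPoint X) g) := by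
  classical
  haveI := hX.1
  funext x
  let ζ₀ : CycLib.FibGen f (f (genericPoint X)) :=
    ⟨genericPoint X, fun x' _ h => (h.antisymm (genericPoint_specializes x')).eq, rfl⟩
  have huniq : ∀ ζ : CycLib.FibGen f (f (genericPoint X)), ζ = ζ₀ := fun ζ =>
    Subtype.ext (ζ.2.1 _ ζ.2.2.symm (genericPoint_specializes ζ.1)).symm
  rw [CycLib.pullFun_divFun f hX hY hδ hr _ g hg x, finsum_eq_single _ ζ₀ (fun ζ h => absurd (huniq ζ) h)]
  have hη : f (genericPoint X) = genericPoint Y := by
    obtain ⟨x', hx', he⟩ := Flat.generalizingMap f (genericPoint_specializes (f (genericPoint X)))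
    rw [(hx'.antisymm (genericPoint_specializes x')).eq] at he
    exact he
  rw [CycLib.pullTerm, CycLib.fibLen_of_eq_genericPoint f hη, CycLib.length_stalk_genericPoint]
  simp [ζ₀, Scheme.residueFieldCongr_refl]

end Groth.Agent.S1905
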