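import Groth.Statements.S19050
import Groth.Agent.S0002
import Groth.Agent.S1108
import Groth.Agent.ExtHom.Compare
import Groth.Agent.ExtHom.Coherent
import Groth.Agent.ProjMorph.Ample
import Groth.Agent.ProjProper.Basic
import Groth.Agent.KFlat.Hom
import Groth.Agent.VBLib.Basic
import Groth.Agent.CohOps.Deligne
import Groth.Agent.FDesc.GenericQuot
import Groth.Agent.FormalFun.HomFib
import Groth.Agent.Formal61.Sys
import Groth.Agent.Formal61.Pullback
import Groth.Agent.TFOneLib.Modif

set_option autoImplicit false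
open CategoryTheory CategoryTheory.Limits AlgebraicGeometry
universe u
open Coherent

namespace Groth.Agent.S19050

set_option linter.style.haveILetI false

open Groth.Agent

section Aux

variable {R : Type u} [CommRing R] {X : Scheme.{u}} [X.Over (Spec (CommRingCat.of R))]

/-- Hom modules of coherent modules on a proper scheme with the resolution property are finite. -/
theorem finite_hom [IsNoetherianRing R] [IsProper (X ↘ Spec (CommRingCat.of R))] [IsLocallyNoetherian X]
    [HasExt.{u} X.Modules] (hres : PerfAux.HasResolutionProperty X) {F M : X.Modules} (hF : Coh.IsCoh F)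
    (hM : Coh.IsCoh M) : Module.Finite R (F ⟶ M) := by
  obtain ⟨E, π, hE, hπ⟩ := hres F hF.1 hF.2
  haveI := KFlat.hasSheafHom_scheme E
  obtain ⟨e⟩ := ExtHom.nonempty_ext_linearEquiv R hE M 0
  haveI := S0002.result R X _ (ExtHom.isCoh_sheafHom hE hM) 0
  haveI : Module.Finite R (Abelian.Ext.{u} E M 0) := Module.Finite.equiv e.symm
  haveI : Module.Finite R (E ⟶ M) := Module.Finite.equiv (Abelian.Ext.linearEquiv₀ (R := R))
  exact Module.Finite.of_injective (Linear.leftComp R M π) fun f g h => (cancel_epi π).1 h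

theorem smul_comp_eq {M N : X.Modules} (a : R) (φ : M ⟶ N) : a • φ = φ ≫ Formal.smulMod R N a :=
  FormalFun.smulMod_natural φ a

/-- Nonzero scalars act injectively on a module flat over the base. -/
theorem mono_smulMod_of_flat [IsDomain R] {F : X.Modules}
    (hfl : FlatMod.IsFlatOver (X ↘ Spec (CommRingCat.of R)) F) {a : R} (ha : a ≠ 0) :
    Mono (Formal.smulMod R F a) := by
  refine Omega.Stalks.mono_of_stalk fun x s t hst => ?_
  rw [TFOneLib.stalkLin_smulMod', TFOneLib.stalkLin_smulMod'] at hst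
  letI := FlatMod.moduleStalkOver (X ↘ Spec (CommRingCat.of R)) F x
  haveI : Module.Flat ((Spec (CommRingCat.of R)).presheaf.stalk ((X ↘ Spec (CommRingCat.of R)) x))
      (F.presheaf.stalk x) := hfl x
  haveI : IsDomain ((Spec (CommRingCat.of R)).presheaf.stalk ((X ↘ Spec (CommRingCat.of R)) x)) := inferInstance
  let r := (Spec (CommRingCat.of R)).presheaf.germ ⊤ ((X ↘ Spec (CommRingCat.of R)) x) trivial
    ((Scheme.ΓSpecIso (CommRingCat.of R)).inv a)
  refine Module.Flat.isSMulRegular_of_nonZeroDivisors (M := F.presheaf.stalk x)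
    (show r ∈ nonZeroDivisors _ from mem_nonZeroDivisors_of_ne_zero fun h0 => ha ?_) hst
  exact (Scheme.ΓSpecIso (CommRingCat.of R)).commRingCatIsoToRingEquiv.symm.injective
    ((germ_injective_of_isIntegral (U := (⊤ : (Spec (CommRingCat.of R)).Opens)) (Spec (CommRingCat.of R)) _ trivial (h0.trans (map_zero _).symm)).trans (map_zero _).symm)

omit [X.Over (Spec (CommRingCat.of R))] in
/-- Vanishing of morphisms of modules can be tested on affine opens. -/
theorem hom_eq_zero_of_affine' {M N : X.Modules} (φ : M ⟶ N)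
    (h : ∀ U : X.Opens, IsAffineOpen U → ∀ x : Γ(M, U), φ.app U x = 0) : φ = 0 := by
  refine Scheme.Modules.hom_ext _ _ fun V => ?_
  ext s
  choose W hW hxW hWV using fun x : V =>
    exists_isAffineOpen_mem_and_subset (X := X) (U := V) x.2
  refine TopCat.Sheaf.eq_of_locally_eq' ⟨N.presheaf, N.isSheaf⟩ W V (fun x => homOfLE (hWV x))
    (fun y hy => TopologicalSpace.Opens.mem_iSup.2 ⟨⟨y, hy⟩, hxW ⟨y, hy⟩⟩) _ _ fun x => ?_
  refine (congr($(φ.mapPresheaf.naturality (homOfLE (hWV x)).op) s)).symm.trans ?_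
  exact (h _ (hW x) _).trans (map_zero (N.presheaf.map (homOfLE (hWV x)).op).hom).symm

theorem killing_of_gen' {f : R} {M T : X.Modules} (φ : M ⟶ T) {m : ℕ}
    (h : Formal.smulMod R M (f ^ m) ≫ φ = 0) :
    ∀ a ∈ (Ideal.span ({f} : Set R)) ^ m, Formal.smulMod R M a ≫ φ = 0 := fun a ha => by
  rw [Ideal.span_singleton_pow, Ideal.mem_span_singleton'] at ha
  obtain ⟨c, rfl⟩ := ha
  rw [mul_comm, CohIII.smulMod_mul, Category.assoc, h, comp_zero]

/-- The scalar of `R` read in the residue field. -/
noncomputable def resMap (η : ↥(Spec (CommRingCat.of R))) : R →+* (Spec (CommRingCat.of R)).residueField η :=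
  (((Scheme.ΓSpecIso (CommRingCat.of R)).inv ≫ (Spec (CommRingCat.of R)).presheaf.germ ⊤ η trivial) ≫
    (Spec (CommRingCat.of R)).residue η).hom

end Aux

set_option maxHeartbeats 1000000 in
open CategoryTheory CategoryTheory.Limits AlgebraicGeometry in
/-- Dimension of homomorphisms on the generic fibre. -/
theorem finrank_generic (R : Type u) [CommRing R] [IsDomain R] [IsDiscreteValuationRing R]
    (X : Scheme.{u}) [X.Over (Spec (CommRingCat.of R))] [IsNoetherian X]
    {I F : X.Modules} (hI : Coh.IsCoh I) (hF : Coh.IsQCoh F)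
    (hFfl : FlatMod.IsFlatOver (X ↘ Spec (CommRingCat.of R)) F)
    [Module.Finite R (I ⟶ F)] [Module.Free R (I ⟶ F)] :
    (letI : ((X ↘ Spec (CommRingCat.of R)).fiber (genericPoint ↥(Spec (CommRingCat.of R)))).Over
          (Spec (CommRingCat.of ((Spec (CommRingCat.of R)).residueField (genericPoint ↥(Spec (CommRingCat.of R)))))) :=
        ⟨(X ↘ Spec (CommRingCat.of R)).fiberToSpecResidueField (genericPoint ↥(Spec (CommRingCat.of R)))⟩;
      Module.finrank R (I ⟶ F) = Module.finrank ((Spec (CommRingCat.of R)).residueField (genericPoint ↥(Spec (CommRingCat.of R))))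
        ((Scheme.Modules.pullback ((X ↘ Spec (CommRingCat.of R)).fiberι (genericPoint ↥(Spec (CommRingCat.of R))))).obj I ⟶
          (Scheme.Modules.pullback ((X ↘ Spec (CommRingCat.of R)).fiberι (genericPoint ↥(Spec (CommRingCat.of R))))).obj F)) ∧
    Function.Injective fun φ : I ⟶ F =>
      (Scheme.Modules.pullback ((X ↘ Spec (CommRingCat.of R)).fiberι (genericPoint ↥(Spec (CommRingCat.of R))))).map φ := by
  let S := Spec (CommRingCat.of R)
  let f := X ↘ Spec (CommRingCat.of R)
  let η : S := genericPoint ↥S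
  let W := f.fiber η
  let ι : W ⟶ X := f.fiberι η
  let K := S.residueField η
  letI instK : W.Over (Spec (CommRingCat.of K)) := ⟨f.fiberToSpecResidueField η⟩
  letI instR : W.Over (Spec (CommRingCat.of R)) := ⟨ι ≫ f⟩
  let Q := Scheme.Modules.pullback ι
  let ρ : R →+* K := resMap η
  -- the residue field is the fraction field
  letI : Algebra R K := ρ.toAlgebra
  haveI hfrac : IsFractionRing R K := by
    haveI : η.asIdeal.IsPrime := (η : PrimeSpectrum R).isPrime
    letI := (((Scheme.ΓSpecIso (CommRingCat.of R)).inv ≫ S.presheaf.germ ⊤ η trivial)).hom.toAlgebra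
    haveI hloc : IsLocalization.AtPrime (S.presheaf.stalk η) η.asIdeal := StructureSheaf.IsLocalization.to_stalk R η
    have hη : η.asIdeal = ⊥ := congrArg PrimeSpectrum.asIdeal (genericPoint_eq_bot_of_affine (CommRingCat.of R))
    have hS : η.asIdeal.primeCompl = nonZeroDivisors R := by
      ext r
      rw [Ideal.mem_primeCompl_iff, hη, Ideal.mem_bot, mem_nonZeroDivisors_iff_ne_zero]
    haveI hff : IsFractionRing R (S.presheaf.stalk η) := by
      unfold IsFractionRing
      rw [← hS]; exact hloc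
    letI := IsFractionRing.toField R (K := S.presheaf.stalk η)
    have hb : Function.Bijective (S.residue η).hom :=
      ⟨RingHom.injective (S.residue η).hom, S.residue_surjective η⟩
    exact IsLocalization.isLocalization_of_algEquiv (nonZeroDivisors R)
      (AlgEquiv.ofRingEquiv (f := RingEquiv.ofBijective (S.residue η).hom hb) fun r => rfl)
  -- scalars agree
  have hsm : ∀ (M : W.Modules) (a : R), Formal.smulMod R M a = Formal.smulMod K M (ρ a) := by
    intro M a
    refine congrArg (Formal.smulModΓ M) ?_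
    show (ι ≫ f).appTop ((Scheme.ΓSpecIso (CommRingCat.of R)).inv a) =
      (f.fiberToSpecResidueField η).appTop ((Scheme.ΓSpecIso (CommRingCat.of K)).inv (ρ a))
    have e1 : S.fromSpecResidueField η = Spec.map (CommRingCat.ofHom ρ) := by
      rw [Scheme.fromSpecResidueField, Spec.fromSpecStalk_eq, ← Spec.map_comp]
      rfl
    have e2 : ι ≫ f = f.fiberToSpecResidueField η ≫ Spec.map (CommRingCat.ofHom ρ) :=
      (f.fiber_fac η).trans (congrArg (_ ≫ ·) e1)
    rw [e2]
    exact congrArg (f.fiberToSpecResidueField η).appTop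
      (congr($(Scheme.ΓSpecIso_inv_naturality (CommRingCat.ofHom ρ)) a)).symm
  have hQ : ∀ (a : R) (φ : I ⟶ F), Q.map (a • φ) = ρ a • Q.map φ := by
    intro a φ
    rw [KLin.smul_def, Functor.map_comp, Formal61.Pullback.pullback_smulMod ι rfl I a, hsm]
    rfl
  -- the uniformizer
  obtain ⟨ϖ, hϖ⟩ := IsDiscreteValuationRing.exists_irreducible R
  let s : Γ(X, ⊤) := Coh.toGlobal f ϖ
  let U : X.Opens := X.basicOpen s
  let J : X.IdealSheafData := Scheme.IdealSheafData.ofIdealTop (Ideal.span {s})
  have hU : (U : Set X) = (J.support : Set X)ᶜ := by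
    rw [Scheme.IdealSheafData.coe_support_ofIdealTop, Scheme.zeroLocus_span, Scheme.zeroLocus_singleton, compl_compl]
  have hUη : (U : Set X) = Set.range ι := by
    have hD : (S.basicOpen ((Scheme.ΓSpecIso (CommRingCat.of R)).inv ϖ) : Set S) = {η} := by
      rw [basicOpen_eq_of_affine]
      ext p
      show ϖ ∉ p.asIdeal ↔ p = η
      have hη : η.asIdeal = ⊥ := congrArg PrimeSpectrum.asIdeal (genericPoint_eq_bot_of_affine (CommRingCat.of R))
      constructor
      · intro hp
        refine PrimeSpectrum.ext (?_ : p.asIdeal = η.asIdeal)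
        rw [hη]
        by_contra hne
        exact hp ((IsLocalRing.eq_maximalIdeal (p.isPrime.isMaximal hne)).symm ▸ hϖ.not_isUnit)
      · rintro rfl
        rw [hη, Ideal.mem_bot]
        exact hϖ.ne_zero
    rw [f.range_fiberι]
    show ((X.basicOpen (f.appTop ((Scheme.ΓSpecIso (CommRingCat.of R)).inv ϖ))) : Set X) = _
    rw [← Scheme.preimage_basicOpen_top]
    exact congrArg (f.base ⁻¹' ·) hD
  haveI : IsOpenImmersion ι := by
    rw [IsOpenImmersion.iff_isIso_stalkMap]
    exact ⟨⟨ι.isEmbedding, hUη ▸ U.2⟩, fun w => (ConcreteCategory.isIso_iff_bijective _).2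
      (FDesc.GenericQuot.stalkMap_bijective f w)⟩
  -- from the fibre to the open subscheme
  let e := IsOpenImmersion.isoOfRangeEq ι U.ι (by rw [Scheme.Opens.range_ι]; exact hUη.symm)
  have he : e.inv ≫ ι = U.ι := IsOpenImmersion.isoOfRangeEq_inv_fac ι U.ι _
  let E := Scheme.Modules.pullback e.inv
  haveI : E.Faithful := by
    haveI : (E ⋙ Scheme.Modules.pullback e.hom).Faithful :=
      Functor.Faithful.of_iso ((Scheme.Modules.pullbackId W).symm ≪≫
        Scheme.Modules.pullbackCongr e.hom_inv_id.symm ≪≫ (Scheme.Modules.pullbackComp e.hom e.inv).symm)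
    exact Functor.Faithful.of_comp E (Scheme.Modules.pullback e.hom)
  let Rf := Scheme.Modules.restrictFunctor U.ι
  let ν : Rf ≅ Q ⋙ E := Scheme.Modules.restrictFunctorIsoPullback U.ι ≪≫
    Scheme.Modules.pullbackCongr he.symm ≪≫ (Scheme.Modules.pullbackComp e.inv ι).symm
  -- powers of the uniformizer carry I into J^n I
  have hlift : ∀ n : ℕ, ∃ l : I ⟶ (Dual3.idealMul (J ^ n)).obj I,
      l ≫ Dual3.idealMulι (J ^ n) I = Formal.smulMod R I (ϖ ^ n) := by
    intro n
    have h0 : Formal.smulMod R I (ϖ ^ n) ≫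
        (Scheme.Modules.pullbackPushforwardAdjunction (J ^ n).subschemeι).unit.app I = 0 := by
      rw [FormalFun.smulMod_natural]
      refine (congrArg (_ ≫ ·) ?_).trans comp_zero
      refine hom_eq_zero_of_affine' _ fun V hV x => ?_
      refine (FormalFun.smulMod_app _ _ V x).trans
        (CohOps.Deligne.killed_push_pull (J ^ n) _ ⟨V, hV⟩ _ ?_ x)
      rw [Scheme.IdealSheafData.ideal_pow, Pi.pow_apply]
      show (X.presheaf.map (homOfLE (le_top : V ≤ ⊤)).op).hom (Coh.toGlobal f (ϖ ^ n)) ∈ _
      rw [map_pow]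
      erw [map_pow]
      refine Ideal.pow_mem_pow ?_ n
      rw [Scheme.IdealSheafData.ofIdealTop_ideal]
      exact Ideal.mem_map_of_mem _ (Ideal.mem_span_singleton_self s)
    exact ⟨kernel.lift _ _ h0, kernel.lift_ι _ _ h0⟩
  have hreg : ∀ (a : R), a ≠ 0 → ∀ ψ : I ⟶ F, a • ψ = 0 → ψ = 0 := by
    intro a ha ψ h
    haveI := mono_smulMod_of_flat hFfl ha
    rw [smul_comp_eq] at h
    exact Limits.zero_of_comp_mono _ h
  have hinj : ∀ ψ : I ⟶ F, Q.map ψ = 0 → ψ = 0 := by
    intro ψ hψ
    have h1 : Rf.map (Dual3.idealMulι (J ^ 0) I ≫ ψ) = 0 := by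
      have : Rf.map ψ = 0 := by
        rw [← cancel_mono (ν.hom.app F), zero_comp, ν.hom.naturality]
        show _ ≫ E.map (Q.map ψ) = 0
        rw [hψ, Functor.map_zero, comp_zero]
      rw [Functor.map_comp, this, comp_zero]
    obtain ⟨N, j, hj, hjψ⟩ := CohOps.Deligne.exists_comp_eq_zero hU hF hI 0 _ h1
    obtain ⟨l, hl⟩ := hlift N
    refine hreg (ϖ ^ N) (pow_ne_zero _ hϖ.ne_zero) ψ ?_
    rw [KLin.smul_def, ← hl, ← hj, Category.assoc, Category.assoc, hjψ, comp_zero]
  have hsurj : ∀ φ : Q.obj I ⟶ Q.obj F, ∃ (a : R) (ψ : I ⟶ F), a ≠ 0 ∧ Q.map ψ = ρ a • φ := by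
    intro φ
    obtain ⟨n, ψ, hψ⟩ := CohOps.Deligne.exists_hom_extension hU hF hI
      (ν.hom.app I ≫ E.map φ ≫ ν.inv.app F)
    obtain ⟨l, hl⟩ := hlift (n + 1)
    refine ⟨ϖ ^ (n + 1), l ≫ ψ, pow_ne_zero _ hϖ.ne_zero, ?_⟩
    rw [KLin.smul_def, ← hsm, ← Formal61.Pullback.pullback_smulMod ι rfl I]
    apply E.map_injective
    rw [← cancel_epi (ν.hom.app I)]
    refine (ν.hom.naturality (l ≫ ψ)).symm.trans ?_
    rw [Functor.map_comp, hψ]
    simp only [Category.assoc]
    rw [Iso.inv_hom_id_app]
    erw [Category.comp_id]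
    rw [← Category.assoc (Rf.map l), ← Functor.map_comp Rf, hl, E.map_comp]
    exact (Category.assoc _ _ _).symm.trans
      ((congrArg (fun q => q ≫ E.map φ) (ν.hom.naturality (Formal.smulMod R I (ϖ ^ (n + 1))))).trans
        (Category.assoc _ _ _))
  refine ⟨?_, fun φ ψ h => sub_eq_zero.1 (hinj _ (by rw [Functor.map_sub]; exact sub_eq_zero.2 h))⟩
  letI : Module R (Q.obj I ⟶ Q.obj F) := Module.compHom _ ρ
  haveI : IsScalarTower R K (Q.obj I ⟶ Q.obj F) := IsScalarTower.of_algebraMap_smul fun _ _ => rfl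
  let Φ : (I ⟶ F) →ₗ[R] (Q.obj I ⟶ Q.obj F) :=
    { toFun := fun φ => Q.map φ, map_add' := fun a b => Q.map_add, map_smul' := hQ }
  let b := Module.Free.chooseBasis R (I ⟶ F)
  have hli : LinearIndependent K (Φ ∘ b) := (LinearIndependent.iff_fractionRing R K).1
    (b.linearIndependent.map' Φ (LinearMap.ker_eq_bot'.2 hinj))
  have hsp : ⊤ ≤ Submodule.span K (Set.range (Φ ∘ b)) := by
    intro φ _
    obtain ⟨a, ψ, ha, hψ⟩ := hsurj φ
    have hmem : Φ ψ ∈ Submodule.span K (Set.range (Φ ∘ b)) := by
      refine Submodule.span_subset_span R K _ ?_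
      rw [Set.range_comp, Submodule.span_image]
      exact ⟨ψ, b.mem_span ψ, rfl⟩
    have hρ : ρ a ≠ 0 := fun h => ha (IsFractionRing.injective R K (h.trans (map_zero _).symm))
    have e' : φ = (ρ a)⁻¹ • Φ ψ := by
      rw [show Φ ψ = ρ a • φ from hψ, smul_smul, inv_mul_cancel₀ hρ, one_smul]
    rw [e']
    exact Submodule.smul_mem _ _ hmem
  exact (Module.finrank_eq_card_basis b).trans (Module.finrank_eq_card_basis (Module.Basis.mk hli hsp)).symm

open CategoryTheory CategoryTheory.Limits AlgebraicGeometry IsLocalRing in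
/-- A homomorphism killed on the closed fibre is divisible by the uniformizer. -/
theorem exists_smul_of_special {R : Type u} [CommRing R] [IsDomain R] [IsDiscreteValuationRing R]
    {X : Scheme.{u}} [X.Over (Spec (CommRingCat.of R))] {I F : X.Modules} (hF : Coh.IsQCoh F)
    (hFfl : FlatMod.IsFlatOver (X ↘ Spec (CommRingCat.of R)) F) {ϖ : R} (hϖ : Irreducible ϖ) (φ : I ⟶ F)
    (hφ : (Scheme.Modules.pullback ((X ↘ Spec (CommRingCat.of R)).fiberι (closedPoint R))).map φ = 0) :
    ∃ ψ : I ⟶ F, φ = ϖ • ψ := by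
  haveI : F.IsQuasicoherent := hF
  haveI := mono_smulMod_of_flat hFfl hϖ.ne_zero
  let s := Formal.smulMod R F ϖ
  let π := Formal.modPowπ (maximalIdeal R) 1 F
  obtain ⟨ε, hε⟩ := FormalFun.exists_iso_unit R X F
  have h1 : φ ≫ (Scheme.Modules.pullbackPushforwardAdjunction (FormalFun.cι R X)).unit.app F = 0 := by
    have hφ' : (Scheme.Modules.pullback (FormalFun.cι R X)).map φ = 0 := hφ
    have n := (Scheme.Modules.pullbackPushforwardAdjunction (FormalFun.cι R X)).unit.naturality φ
    simp only [Functor.id_map, Functor.comp_map] at n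
    rw [n, hφ', Functor.map_zero, comp_zero]
  have h2 : φ ≫ π = 0 := by
    rw [← cancel_mono ε.hom, zero_comp, Category.assoc, hε, h1]
  obtain ⟨v, hv⟩ := (Formal61.Sys.isModQuot_modPowπ (maximalIdeal R) 1 F).exists_desc (cokernel.π s) (by
    rw [hϖ.maximalIdeal_eq]
    exact killing_of_gen' _ (by rw [pow_one]; exact cokernel.condition s))
  have h3 : φ ≫ cokernel.π s = 0 := by rw [← hv, ← Category.assoc, h2, zero_comp]
  refine ⟨Abelian.monoLift s φ h3, ?_⟩
  rw [smul_comp_eq, Abelian.monoLift_comp]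

/-- Let R be a discrete valuation ring, X a projective R-scheme and I, F coherent O_X-modules flat over
R. Suppose that for each point y of Spec R the κ(y)-vector space of morphisms I_y → F_y between the
restrictions to the fibre X_y = X ×_R Spec κ(y) has the same dimension n. Then the R-module
Hom_{O_X}(I, F) is free of rank n (finitely generated, free, of rank n), and if n ≥ 1 there is a
morphism I → F whose restriction to each fibre is nonzero. (The published statement is for the base
change to R of a smooth projective variety over a field; it is stated here for any projective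
R-scheme, to which the printed argument applies unchanged. The identification of the two fibres of
Hom(I, F) with the Hom spaces on the fibres is not restated; its consequence for n ≥ 1 is.) -/
theorem result
    (R : Type u) [CommRing R] [IsDomain R] [IsDiscreteValuationRing R]
    (X : Scheme.{u}) [X.Over (Spec (CommRingCat.of R))]
    (hproj : ∃ (m : ℕ) (ι : X ⟶ CohB1.ProjSpace m R), IsClosedImmersion ι ∧
      ι ≫ CohB1.ProjSpace.toSpec m R = X ↘ Spec (CommRingCat.of R))
    (I F : X.Modules) (hI : Coh.IsCoh I) (hF : Coh.IsCoh F)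
    (hIfl : FlatMod.IsFlatOver (X ↘ Spec (CommRingCat.of R)) I)
    (hFfl : FlatMod.IsFlatOver (X ↘ Spec (CommRingCat.of R)) F)
    (n : ℕ)
    (hfib : ∀ y : ↥(Spec (CommRingCat.of R)),
      letI : ((X ↘ Spec (CommRingCat.of R)).fiber y).Over
          (Spec (CommRingCat.of ((Spec (CommRingCat.of R)).residueField y))) :=
        ⟨(X ↘ Spec (CommRingCat.of R)).fiberToSpecResidueField y⟩
      Module.finrank ((Spec (CommRingCat.of R)).residueField y)
        ((Scheme.Modules.pullback ((X ↘ Spec (CommRingCat.of R)).fiberι y)).obj I ⟶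
          (Scheme.Modules.pullback ((X ↘ Spec (CommRingCat.of R)).fiberι y)).obj F) = n) :
    Module.Finite R (I ⟶ F) ∧ Module.Free R (I ⟶ F) ∧ Module.finrank R (I ⟶ F) = n ∧
      (0 < n → ∃ φ : I ⟶ F, ∀ y : ↥(Spec (CommRingCat.of R)),
        (Scheme.Modules.pullback ((X ↘ Spec (CommRingCat.of R)).fiberι y)).map φ ≠ 0) := by
  obtain ⟨m, ι, hι, hfac⟩ := hproj
  haveI := hι
  haveI : IsProper (CohB1.ProjSpace.toSpec m R) := ProjProper.Basic.isProper_toSpec m R
  haveI : IsProper (X ↘ Spec (CommRingCat.of R)) := hfac ▸ (inferInstance : IsProper (ι ≫ CohB1.ProjSpace.toSpec m R))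
  haveI : IsLocallyNoetherian X := LocallyOfFiniteType.isLocallyNoetherian (X ↘ Spec (CommRingCat.of R))
  haveI : CompactSpace X := QuasiCompact.compactSpace_of_compactSpace (X ↘ Spec (CommRingCat.of R))
  haveI : IsNoetherian X := ⟨⟩
  haveI : EnoughInjectives X.Modules := ModShf.schemeModulesEnoughInjectives X
  have haff : IsAffineHom ι := inferInstance
  have hres : PerfAux.HasResolutionProperty X :=
    Groth.Agent.S1108.result X _ (ProjMorph.isAmple_pullback_twist_of_isAffineHom ι haff)
  haveI hfin : Module.Finite R (I ⟶ F) := finite_hom hres hI hF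
  haveI : Module.IsTorsionFree R (I ⟶ F) := by
    refine ⟨fun a ha ψ ψ' h => ?_⟩
    haveI := mono_smulMod_of_flat hFfl ha.ne_zero
    exact (cancel_mono (Formal.smulMod R F a)).1 ((smul_comp_eq a ψ).symm.trans (h.trans (smul_comp_eq a ψ')))
  haveI hfree : Module.Free R (I ⟶ F) := Module.free_of_finite_type_torsion_free'
  obtain ⟨hrk, hinj⟩ := finrank_generic R X hI hF.1 hFfl
  have hn : Module.finrank R (I ⟶ F) = n := hrk.trans (hfib _)
  refine ⟨hfin, hfree, hn, fun hpos => ?_⟩
  obtain ⟨ϖ, hϖ⟩ := IsDiscreteValuationRing.exists_irreducible R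
  let b := Module.Free.chooseBasis R (I ⟶ F)
  haveI : Nonempty (Module.Free.ChooseBasisIndex R (I ⟶ F)) := by
    refine Fintype.card_pos_iff.1 ?_
    rw [← Module.finrank_eq_card_basis b, hn]
    exact hpos
  let i := Classical.arbitrary (Module.Free.ChooseBasisIndex R (I ⟶ F))
  refine ⟨b i, fun y hy => ?_⟩
  by_cases hgen : y = genericPoint ↥(Spec (CommRingCat.of R))
  · subst hgen
    exact b.ne_zero i (hinj (hy.trans (Functor.map_zero _ _ _).symm))
  · have hne : y.asIdeal ≠ ⊥ := fun h => hgen (PrimeSpectrum.ext (h.trans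
      (congrArg PrimeSpectrum.asIdeal (genericPoint_eq_bot_of_affine (CommRingCat.of R))).symm))
    have hy' : y = IsLocalRing.closedPoint R :=
      PrimeSpectrum.ext (IsLocalRing.eq_maximalIdeal (y.isPrime.isMaximal hne))
    subst hy'
    obtain ⟨ψ, hψ⟩ := exists_smul_of_special hF.1 hFfl hϖ _ hy
    have h1 : (1 : R) = ϖ * b.repr ψ i := by
      have := congrArg (fun v => b.repr v i) hψ
      simpa using this
    exact hϖ.not_isUnit (IsUnit.of_mul_eq_one _ h1.symm)

end Groth.Agent.S19050
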