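import Groth.Statements.S19060
import Groth.Agent.CBC.Funct
import Groth.Agent.CBC.NhdThms
import Groth.Agent.CBC.Transfer
import Groth.Agent.ModShf.GrothAb
import Groth.Agent.S0002

set_option autoImplicit false
universe u
open CategoryTheory CategoryTheory.Limits AlgebraicGeometry Opposite
open Curves

namespace Groth.Agent.S19060

/-- Let R be a Noetherian ring and X a relative curve over Spec R (proper and smooth, with geometrically
connected fibres of dimension one, and projective: X carries an ample invertible module). Let F be a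
coherent O_X-module which is flat over Spec R (every stalk is a flat module over the local ring of
the base). If H^1(X, F) is a projective R-module, then H^0(X, F) is a projective R-module. (The
source says only that F is an O_X-module flat over the base; F is taken coherent here, as the
finiteness of its cohomology over R used there requires.) -/
theorem result (R : Type u) [CommRing R] [IsNoetherianRing R]
    (X : Scheme.{u}) [X.Over (Spec (CommRingCat.of R))] [IsProper (X ↘ Spec (CommRingCat.of R))]
    [Smooth (X ↘ Spec (CommRingCat.of R))] [GeometricallyConnected (X ↘ Spec (CommRingCat.of R))]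
    (hdim : ∀ s : Spec (CommRingCat.of R), topologicalKrullDim ↥((X ↘ Spec (CommRingCat.of R)).fiber s) = 1)
    (hproj : ∃ M : X.Modules, CohB1.IsAmple M)
    (F : X.Modules) (hF : Coh.IsCoh F) (hfl : FlatMod.IsFlatOver (X ↘ Spec (CommRingCat.of R)) F)
    (h1 : Module.Projective R (Coh.HH X F 1)) :
    Module.Projective R (Coh.HH X F 0) := by
  let π := X ↘ Spec (CommRingCat.of R)
  haveI : F.IsQuasicoherent := hF.1
  have hfin : CBC.FinCoh.{u} := fun A _ _ Z _ _ M hM n => S0002.result A Z M hM n
  have hV := isAffineOpen_top (Spec (CommRingCat.of R))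
  haveI : IsNoetherianRing Γ(Spec (CommRingCat.of R), ⊤) :=
    IsLocallyNoetherian.component_noetherian ⟨⊤, hV⟩
  obtain ⟨D⟩ := CBC.nonempty_model π hV
  let N : CBC.Nhd π F := ⟨⊤, hV, D, fun p => (CBC.nonempty_win hV D F hF hfl hfin p).some⟩
  -- no cohomology above the dimension of the fibres
  have h2 : (D.K F).LExact 2 := (N.exact_of_fibres_zero (p := 2) fun z _ =>
    CBC.subsingleton_fiberH_of_dim (d := 1) ((hdim z).le.trans_eq Nat.cast_one.symm) one_lt_two).2.1
  have hR1' : (D.K F).RExact 1 :=
    (CBC.SCx.rExact_iff_lExact_succ _ 1 fun n => D.flat_K F hV hfl n).2 h2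
  let P := CBC.Rep.ofModel F D (CBC.flat_KA F D hfl)
  have hR1 : P.K.RExact 1 := CBC.rExact_iff_spec.1 hR1'
  let w₀ := (P.nonempty_win hF hfin 0).some
  let w₁ := (P.nonempty_win hF hfin 1).some
  haveI := w₀.fp
  haveI := w₁.fp
  haveI := w₁.rExact_iff.1 hR1
  haveI := h1
  haveI : Module.Projective R (LinearMap.ker w₁.u) :=
    Module.Projective.of_equiv ((P.e₀ 1).symm ≪≫ₗ (P.K.hA 1).symm ≪≫ₗ w₁.e₀)
  have hL1 : P.K.LExact 1 := w₁.lExact_iff.2 (CBC.flat_source_of_flat_ker w₁.u)
  haveI := w₀.rExact_iff.1 ((CBC.SCx.rExact_iff_lExact_succ _ 0 P.flat).2 hL1)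
  haveI := w₀.lExact_iff.1 (CBC.lExact_zero _ P.flat)
  haveI : Module.Projective R (LinearMap.ker w₀.u) := CBC.projective_ker w₀.u
  exact Module.Projective.of_equiv ((P.e₀ 0).symm ≪≫ₗ (P.K.hA 0).symm ≪≫ₗ w₀.e₀).symm

end Groth.Agent.S19060
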