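import Groth.Statements.S1907
import Groth.Agent.CycLib.PullDivApp

set_option autoImplicit false
universe u
open CategoryTheory AlgebraicGeometry
open Cyc

namespace Groth.Agent.S1907

/-- Let Y be integral with δY(η_Y) = k, f : X → Y flat, locally of finite type, of relative dimension r,
and g a nonzero rational function on Y. Then f^*(div_Y g) = Σ_j n_j · div_{X_j}(g|_{X_j}) as (k + r
− 1)-cycles on X, the sum over the irreducible components X_j of X (generic points ξ_j, which map to
η_Y) with n_j the length of O_{X,ξ_j}, and g|_{X_j} the image of g in κ(ξ_j). A pair (X, δ) with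
Cyc.IsSetup plays the role of a scheme locally of finite type over a fixed base with a dimension
function (X locally Noetherian with universally catenary local rings, δ a dimension function), and
Cyc.DeltaCompat records that the dimension function upstairs is the induced one. -/
theorem result (X Y : Scheme.{u}) [IsIntegral Y] (δX : X → ℤ) (δY : Y → ℤ) (hX : Cyc.IsSetup X δX) (hY : Cyc.IsSetup Y δY) (f : X ⟶ Y) [Flat f] [LocallyOfFiniteType f] (r : ℕ) (hr : Cyc.HasRelDim f r) (hδ : Cyc.DeltaCompat f δX δY) (k : ℤ) (hk : δY (genericPoint Y) = k) (g : Y.residueField (genericPoint Y)) (hg : g ≠ 0) (x : X) : Cyc.pullFun f δX δY r (Cyc.divFun δY (genericPoint Y) g) x = ∑ᶠ ξ : {ξ : X // (∀ x' : X, x' ⤳ ξ → x' = ξ) ∧ f ξ = genericPoint Y}, ((Module.length (X.presheaf.stalk ξ.1) (X.presheaf.stalk ξ.1)).toNat : ℤ) * Cyc.divFun δX ξ.1 (f.residueFieldMap ξ.1 ((Y.residueFieldCongr ξ.2.2.symm).hom g)) x := by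
  classical
  rw [CycLib.pullFun_divFun f hX hY hδ hr _ g hg x]
  have he : ∀ ξ : X, ((∀ x' : X, x' ⤳ ξ → x' = ξ) ∧ f ξ = genericPoint Y) ↔
      ((∀ x' : X, f x' = f ξ → x' ⤳ ξ → x' = ξ) ∧ f ξ = genericPoint Y) := fun ξ =>
    ⟨fun h => ⟨fun x' _ hs => h.1 x' hs, h.2⟩, fun h => ⟨fun x' hs => h.1 x'
      (((hs.map f.continuous).antisymm (h.2 ▸ genericPoint_specializes (f x'))).eq) hs, h.2⟩⟩
  rw [← finsum_comp_equiv (Equiv.subtypeEquivRight he)]
  refine finsum_congr fun ξ => ?_
  show CycLib.pullTerm f δX (genericPoint Y) g x ⟨ξ.1, (he ξ.1).1 ξ.2⟩ = _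
  rw [CycLib.pullTerm, CycLib.fibLen_of_eq_genericPoint f ξ.2.2]

end Groth.Agent.S1907
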