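import Groth.Statements.S19073
import Groth.Agent.SurfRR.Surface
import Groth.Agent.ExtPowSt.Exists

set_option autoImplicit false
universe u
open CategoryTheory CategoryTheory.Limits AlgebraicGeometry
open Surf

namespace Groth.Agent.S19073

/-- Let X be a surface over an algebraically closed field k (an integral scheme of dimension two all of
whose local rings are regular, with a closed immersion into some P^n_k over k), and let L₁, L₂ be
invertible O_X-modules which are numerically equivalent: (L₁·M) = (L₂·M) for every invertible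
O_X-module M, where (L·M) = χ(O_X) − χ(L) − χ(M) + χ(L ⊗ M) is the intersection number. Then χ(X,
L₁) = χ(X, L₂). -/
theorem result (k : Type u) [Field k] [IsAlgClosed k] (X : Scheme.{u}) [X.Over (Spec (CommRingCat.of k))]
    [AlgebraicGeometry.IsIntegral X] (hdim : topologicalKrullDim X = 2) (hreg : ∀ x : X, IsRegularLocalRing (X.presheaf.stalk x))
    (hproj : ∃ (n : ℕ) (ι : X ⟶ CohB1.ProjSpace n k), IsClosedImmersion ι ∧ ι ≫ CohB1.ProjSpace.toSpec n k = (X ↘ (Spec (CommRingCat.of k))))
    (L₁ L₂ : X.Modules) (hL₁ : PicF.IsInvertible L₁) (hL₂ : PicF.IsInvertible L₂)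
    (hnum : ∀ M : X.Modules, PicF.IsInvertible M →
      FGA.intNum k X 2 ![L₁, M] (Coh.structureModule X) = FGA.intNum k X 2 ![L₂, M] (Coh.structureModule X)) :
    Curv2.euler k X L₁ = Curv2.euler k X L₂ := by
  obtain ⟨n, ι, hι', hι⟩ := hproj
  haveI := hι'
  haveI := Groth.Agent.SurfRR.isProper_of_closedImmersion k ι hι
  haveI : SmoothOfRelativeDimension 2 (X ↘ (Spec (CommRingCat.of k))) :=
    Groth.Agent.SurfRR.smoothRelDim_of_regular k (r := 2) hdim hreg
  have hd : topologicalKrullDim X ≤ (2 : ℕ) := hdim.le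
  haveI : IsLocallyNoetherian X := LocallyOfFiniteType.isLocallyNoetherian (X ↘ Spec (CommRingCat.of k))
  haveI := (Groth.Agent.VBLib.isCoh_of_ofRank
    (Groth.Agent.CanonTriv.isFinLocFreeOfRank_omega (X ↘ (Spec (CommRingCat.of k))) 2)).1
  obtain ⟨W, hW'⟩ := Groth.Agent.ExtPowSt.Exists.exists_isExtPow 2 (Omega.sheaf (X ↘ (Spec (CommRingCat.of k))))
  have hWi := Groth.Agent.SurfRR.isInvertible_canonical k ι hι W hW'
  have hp : ∀ {M : X.Modules}, PicF.IsInvertible M →
      Groth.Agent.SurfRR.pr k L₁ M = Groth.Agent.SurfRR.pr k L₂ M := fun {M} hM => by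
    rw [← Groth.Agent.SurfRR.pr_eq_intNum k hd hL₁ hM, ← Groth.Agent.SurfRR.pr_eq_intNum k hd hL₂ hM]
    exact hnum M hM
  have h1 := Groth.Agent.SurfRR.riemann_roch k ι hι W hW' hL₁
  have h2 := Groth.Agent.SurfRR.riemann_roch k ι hι W hW' hL₂
  have h3 := hp hL₁
  have h4 := hp hL₂
  have h5 := hp hWi
  rw [Groth.Agent.SurfRR.pr_comm k L₁ L₂] at h4
  linarith

end Groth.Agent.S19073
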