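import Groth.Statements.S19092
import Mathlib.RingTheory.Finiteness.Basic
import Mathlib.Algebra.CharP.Frobenius


set_option autoImplicit false
universe u
open FrobAlg

namespace Groth.Agent.S19092

/-- Let p be a prime and A a commutative ring of characteristic p whose absolute Frobenius a ↦ a^p is a
finite ring homomorphism. Then the same holds for every quotient and every localization of A: for
every ideal I of A such that A ⧸ I has characteristic p (every proper ideal) the absolute Frobenius
of A ⧸ I is finite, and for every submonoid S of A and every localization B of A at S of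
characteristic p (every nonzero localization) the absolute Frobenius of B is finite. -/
theorem result (p : ℕ) [Fact p.Prime]
    (A : Type u) [CommRing A] [CharP A p] (hF : (frobenius A p).Finite) :
    (∀ (I : Ideal A) [CharP (A ⧸ I) p], (frobenius (A ⧸ I) p).Finite) ∧
      ∀ (S : Submonoid A) (B : Type u) [CommRing B] [Algebra A B] [IsLocalization S B] [CharP B p],
        (frobenius B p).Finite := by
  refine ⟨fun I _ => ?_, fun S B _ _ _ _ => ?_⟩
  · refine RingHom.Finite.of_comp_finite (f := Ideal.Quotient.mk I) ?_
    rw [show (frobenius (A ⧸ I) p).comp (Ideal.Quotient.mk I) = (Ideal.Quotient.mk I).comp (frobenius A p) from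
      RingHom.ext fun x => (map_pow (Ideal.Quotient.mk I) x p).symm]
    exact RingHom.Finite.comp (RingHom.Finite.of_surjective _ Ideal.Quotient.mk_surjective) hF
  · letI algA : Algebra A A := (frobenius A p).toAlgebra
    letI algB : Algebra B B := (frobenius B p).toAlgebra
    letI modA : Module A A := algA.toModule
    letI modB : Module B B := algB.toModule
    obtain ⟨⟨g, hg⟩⟩ := hF
    classical
    refine ⟨⟨g.image (algebraMap A B), top_unique fun z _ => ?_⟩⟩
    have key : ∀ a : A, algebraMap A B a ∈ @Submodule.span B B _ _ algB.toModule (g.image (algebraMap A B)) := by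
      intro a
      have ha : a ∈ @Submodule.span A A _ _ algA.toModule (g : Set A) := by rw [hg]; exact Submodule.mem_top
      induction ha using Submodule.span_induction with
      | mem x hx => exact Submodule.subset_span (by simpa using ⟨x, hx, rfl⟩)
      | zero => simp
      | add x y _ _ hx hy => rw [map_add]; exact Submodule.add_mem _ hx hy
      | smul c x _ hx =>
        have : algebraMap A B ((frobenius A p c) * x) = (frobenius B p (algebraMap A B c)) * algebraMap A B x := by
          rw [map_mul]; congr 1; exact map_pow (algebraMap A B) c p
        exact this ▸ Submodule.smul_mem _ (algebraMap A B c) hx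
    obtain ⟨⟨a, s⟩, h⟩ := IsLocalization.surj S z
    obtain ⟨w, hw⟩ := (IsLocalization.map_units B s).exists_left_inv
    have hz : z = frobenius B p w * algebraMap A B (a * (s : A) ^ (p - 1)) := by
      rw [map_mul, map_pow, ← h, frobenius_def,
        show z * algebraMap A B s * algebraMap A B (s : A) ^ (p - 1) = z * algebraMap A B (s : A) ^ p by
          rw [mul_assoc, mul_pow_sub_one (Fact.out : p.Prime).ne_zero],
        mul_comm z, ← mul_assoc, ← mul_pow, hw, one_pow, one_mul]
    rw [hz]
    exact Submodule.smul_mem _ w (key _)

end Groth.Agent.S19092
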