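import Groth.Statements.S19093
import Mathlib.FieldTheory.Perfect
import Mathlib.Algebra.CharP.Algebra
import Mathlib.RingTheory.IntegralClosure.IsIntegralClosure.Basic
import Groth.Agent.S19092
import Mathlib.RingTheory.MvPowerSeries.Expand
import Mathlib.RingTheory.PowerSeries.Expand

set_option autoImplicit false
universe u
open FrobAlg

namespace Groth.Agent.S19093

/-- Let p be a prime, k a finite field of characteristic p, A a commutative k[[t]]-algebra of finite
type over the power series ring k[[t]], and P a prime ideal of A. Then the absolute Frobenius a ↦
a^p of the local ring A_P is a finite ring homomorphism. In particular every local ring of a scheme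
of finite type over k[[t]] has finite absolute Frobenius. (The instance hypothesis that A_P has
characteristic p always holds, A_P being a nonzero algebra over k.) The published statement is for
the local rings of a projective strictly semistable scheme over k[[t]] and adds that such a scheme
is regular with F-finite local rings; its proof uses only that the scheme is of finite type over
k[[t]], which is the form stated here. -/
theorem result (p : ℕ) [Fact p.Prime]
    (k : Type u) [Field k] [Finite k] [CharP k p]
    (A : Type u) [CommRing A] [Algebra (PowerSeries k) A] [Algebra.FiniteType (PowerSeries k) A]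
    (P : Ideal A) [P.IsPrime] [CharP (Localization.AtPrime P) p] :
    (frobenius (Localization.AtPrime P) p).Finite := by
  have hp := (Fact.out : p.Prime)
  haveI : PerfectRing k p := PerfectRing.ofFiniteOfIsReduced p k
  haveI : CharP (PowerSeries k) p := charP_of_injective_ringHom (PowerSeries.C_injective (R := k)) p
  have hR : (frobenius (PowerSeries k) p).Finite := by
    letI algR : Algebra (PowerSeries k) (PowerSeries k) := (frobenius (PowerSeries k) p).toAlgebra
    letI modR : Module (PowerSeries k) (PowerSeries k) := algR.toModule
    classical
    refine ⟨⟨(Finset.range p).image (fun i => (PowerSeries.X : PowerSeries k) ^ i), top_unique fun f _ => ?_⟩⟩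
    let g : ℕ → PowerSeries k := fun i => PowerSeries.mk fun n => (frobeniusEquiv k p).symm (PowerSeries.coeff (p * n + i) f)
    have hg : ∀ i, frobenius (PowerSeries k) p (g i) = PowerSeries.expand p hp.ne_zero (PowerSeries.mk fun n => PowerSeries.coeff (p * n + i) f) := by
      intro i
      have h1 : g i ^ p = PowerSeries.map (frobenius k p) (PowerSeries.expand p hp.ne_zero (g i)) :=
        (MvPowerSeries.map_frobenius_expand p hp.ne_zero).symm
      rw [frobenius_def, h1, PowerSeries.map_expand]
      congr 1
      ext n
      simp [g]
    have hf : f = ∑ i ∈ Finset.range p, frobenius (PowerSeries k) p (g i) * PowerSeries.X ^ i := by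
      ext n
      rw [map_sum, Finset.sum_eq_single_of_mem (n % p) (Finset.mem_range.2 (Nat.mod_lt _ hp.pos))]
      · rw [hg, PowerSeries.coeff_mul_X_pow', if_pos (Nat.mod_le _ _), Nat.sub_eq_of_eq_add (Nat.div_add_mod n p).symm,
          PowerSeries.coeff_expand_mul, PowerSeries.coeff_mk, Nat.div_add_mod]
      · intro i hi hne
        rw [hg, PowerSeries.coeff_mul_X_pow']
        split_ifs with hle
        · refine PowerSeries.coeff_expand_of_not_dvd _ _ _ fun ⟨q, hq⟩ => hne ?_
          rw [show n = i + p * q by omega, Nat.add_mul_mod_self_left, Nat.mod_eq_of_lt (Finset.mem_range.1 hi)]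
        · rfl
    rw [hf]
    refine Submodule.sum_mem _ fun i hi => ?_
    exact Submodule.smul_mem _ (g i) (Submodule.subset_span (by simpa using ⟨i, Finset.mem_range.1 hi, rfl⟩))
  set L := Localization.AtPrime P
  haveI : Nontrivial A := P.ne_top_iff_one.1 (Ideal.IsPrime.ne_top inferInstance) |> fun h => ⟨⟨0, 1, fun h0 => h (h0 ▸ P.zero_mem)⟩⟩
  have hA0 : (p : A) = 0 := by rw [← map_natCast (algebraMap (PowerSeries k) A), CharP.cast_eq_zero, map_zero]
  haveI : CharP A p := (CharP.charP_iff_prime_eq_zero hp).mpr hA0
  have hA : (frobenius A p).Finite := by
    refine RingHom.IsIntegral.to_finite (fun a => ⟨Polynomial.X ^ p - Polynomial.C a,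
      Polynomial.monic_X_pow_sub_C _ hp.ne_zero, by simp [frobenius_def]⟩) ?_
    refine RingHom.FiniteType.of_comp_finiteType (f := algebraMap (PowerSeries k) A) ?_
    rw [show (frobenius A p).comp (algebraMap (PowerSeries k) A) = (algebraMap (PowerSeries k) A).comp (frobenius (PowerSeries k) p) from
      RingHom.ext fun a => (map_pow (algebraMap (PowerSeries k) A) a p).symm]
    exact (RingHom.finiteType_algebraMap.2 inferInstance).comp hR.to_finiteType
  exact (Groth.Agent.S19092.result p A hA).2 P.primeCompl L

end Groth.Agent.S19093
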