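import Groth.Statements.S19094
import Groth.Agent.FrobW.PDeg
import Mathlib.RingTheory.AlgebraicIndependent.TranscendenceBasis
import Mathlib.RingTheory.AlgebraicIndependent.Adjoin
import Mathlib.FieldTheory.IntermediateField.Adjoin.Algebra

set_option autoImplicit false
universe u
open FrobAlg

namespace Groth.Agent.S19094

/-- Let p be a prime, k a finite field of characteristic p and K a finitely generated field extension of
the Laurent series field k((t)) of finite transcendence degree d. Then [K : K^p] = p^(d+1), where
K^p ⊆ K is the subfield of p-th powers (the image of the Frobenius). The case of interest is the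
residue field of a generic point of a projective strictly semistable scheme of relative dimension d
over k[[t]], which is such an extension. -/
theorem result (p : ℕ) [Fact p.Prime]
    (k : Type u) [Field k] [Finite k] [CharP k p]
    (K : Type u) [Field K] [Algebra (LaurentSeries k) K] [CharP K p]
    (hfg : (⊤ : IntermediateField (LaurentSeries k) K).FG)
    (d : ℕ) (hd : Algebra.trdeg (LaurentSeries k) K = d) :
    Module.finrank (↥(frobenius K p).fieldRange) K = p ^ (d + 1) := by
  classical
  have hp := (Fact.out : p.Prime)
  haveI : PerfectRing k p := PerfectRing.ofFiniteOfIsReduced p k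
  haveI : CharP (LaurentSeries k) p := (algebraMap (LaurentSeries k) K).charP (algebraMap (LaurentSeries k) K).injective p
  obtain ⟨s, hs⟩ := exists_isTranscendenceBasis (LaurentSeries k) K
  have hcard := hs.cardinalMk_eq_trdeg
  rw [hd] at hcard
  haveI : Finite s := Cardinal.lt_aleph0_iff_finite.1 (hcard ▸ Cardinal.natCast_lt_aleph0)
  haveI : Fintype s := Fintype.ofFinite s
  have hsd : Fintype.card s = d := by rw [Cardinal.mk_fintype] at hcard; exact_mod_cast hcard
  let E := IntermediateField.adjoin (LaurentSeries k) (Set.range ((↑) : s → K))
  haveI : CharP E p := (algebraMap (LaurentSeries k) E).charP_iff (algebraMap (LaurentSeries k) E).injective p |>.1 inferInstance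
  haveI : Algebra.IsAlgebraic E K := hs.isAlgebraic_field
  haveI : Algebra.EssFiniteType (LaurentSeries k) K := IntermediateField.fg_top_iff.1 hfg
  haveI : Algebra.EssFiniteType E K := Algebra.EssFiniteType.of_comp (LaurentSeries k) E K
  haveI : Module.Finite E K := Algebra.finite_of_essFiniteType_of_isAlgebraic
  let P := MvPolynomial s (LaurentSeries k)
  haveI : CharP (FractionRing P) p := charP_of_injective_algebraMap (algebraMap (LaurentSeries k) (FractionRing P)).injective p
  have h1 := Groth.Agent.FrobW.PDeg.isPB_powerSeries p k
  have h2 := h1.fraction (K := LaurentSeries k) p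
  have h3 := Groth.Agent.FrobW.PDeg.isPB_mvPolynomial p h2 s
  have h4 := h3.fraction (K := FractionRing P) p
  rw [Groth.Agent.FrobW.PDeg.pdeg_eq_finrank, Groth.Agent.FrobW.PDeg.pdeg_eq_of_finite p E K,
    ← Groth.Agent.FrobW.PDeg.pdeg_congr p hs.1.aevalEquivField.toRingEquiv, Groth.Agent.FrobW.PDeg.pdeg_eq_card p h4]
  simp [Fintype.card_prod, Fintype.card_fun, hsd, pow_succ']

end Groth.Agent.S19094
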