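import Groth.Statements.S19098
import Groth.Agent.ChGrpLib.BalProd
import Groth.Prelude.Def_ActBC
-- import your own Groth.Agent.* helpers here

set_option autoImplicit false
universe u
open CategoryTheory MonoidalCategory CartesianMonoidalCategory MonObj AlgebraicGeometry
open ChGrp

namespace Groth.Agent.S19098

open CategoryTheory.Limits
open Groth.Agent.GITLib Groth.Agent.ChGrpLib

/-- Let S be a scheme, G an S-group scheme acting on an S-scheme X through a, and h an S-point of G. Let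
i : Z → G be a homomorphism and ψ : Ψ → G a monomorphism with a G-action on Ψ under which ψ
intertwines with conjugation, and o an S-point of Ψ over h, such that (Ψ, o) is the homogeneous
space G/Z for the fppf topology through the orbit map g ↦ g h g⁻¹ (so Z is the centralizer of h and
Ψ its conjugacy class). Let incl : X^h → X be a monomorphism whose points are the points of X fixed
by h, with the Z-action restricted from a; let σ : S_Ψ → G ×_S X be a monomorphism whose points are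
the pairs (g, x) with g a point of Ψ and g x = x (the part of the global stabilizer over Ψ), with
the G-action by conjugation on the first entry and by a on the second; and let Φ : G ×_S X^h → S_Ψ
be the morphism (g, x) ↦ (g h g⁻¹, g x). Then Φ makes S_Ψ, with its G-action, the balanced product G
×^Z X^h for the fppf topology: Φ is G-equivariant, it is a Z-torsor for the action z (g, x) = (g
z⁻¹, z x), and it has sections fppf-locally on S_Ψ. (The source works with algebraic spaces of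
finite type over the complex numbers and a semisimple conjugacy class Ψ, where the identification of
Ψ with G/Z comes from the theory of algebraic groups; here that identification is the hypothesis
hhom, the base is arbitrary and X is a scheme.) -/
theorem result
    {S : Scheme.{u}} {G X Z Ψ Xh SΨ : Over S} [GrpObj G] [GrpObj Z]
    (a : AlgGrp.Action G X) (h : 𝟙_ (Over S) ⟶ G)
    (i : Z ⟶ G) [IsMonHom i]
    (ψ : Ψ ⟶ G) [Mono ψ] (aΨ : AlgGrp.Action G Ψ)
    (hψ : aΨ.act ≫ ψ = fst G Ψ * (snd G Ψ ≫ ψ) * (fst G Ψ)⁻¹)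
    (o : 𝟙_ (Over S) ⟶ Ψ) (ho : o ≫ ψ = h)
    (hhom : ChGrp.IsHomog Scheme.fppfPrecoverage i aΨ o)
    (incl : Xh ⟶ X) [Mono incl]
    (hXh : ∀ (T : Over S) (x : T ⟶ X), (∃ y : T ⟶ Xh, y ≫ incl = x) ↔ lift (toUnit T ≫ h) x ≫ a.act = x)
    (aXh : AlgGrp.Action Z Xh) (hincl : AlgGrp.Action.IsEquivariant aXh (a.restrict i) incl)
    (σ : SΨ ⟶ G ⊗ X) [Mono σ]
    (hSΨ : ∀ (T : Over S) (g : T ⟶ G) (x : T ⟶ X),
      (∃ q : T ⟶ SΨ, q ≫ σ = lift g x) ↔ ((∃ y : T ⟶ Ψ, y ≫ ψ = g) ∧ lift g x ≫ a.act = x))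
    (aS : AlgGrp.Action G SΨ)
    (hσ : aS.act ≫ σ = lift (fst G SΨ * (snd G SΨ ≫ σ ≫ fst G X) * (fst G SΨ)⁻¹)
      (lift (fst G SΨ) (snd G SΨ ≫ σ ≫ snd G X) ≫ a.act))
    (Φ : G ⊗ Xh ⟶ SΨ)
    (hΦ : Φ ≫ σ = lift (fst G Xh * (toUnit (G ⊗ Xh) ≫ h) * (fst G Xh)⁻¹)
      (lift (fst G Xh) (snd G Xh ≫ incl) ≫ a.act)) :
    ChGrp.IsBalProd Scheme.fppfPrecoverage i aXh aS Φ := by
  have hΨ : ∀ {T : Over S} (g : T ⟶ G), (g ≫ aΨ.orbitMap o) ≫ ψ = g * (toUnit T ≫ h) * g⁻¹ := by
    intro T g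
    have e : g ≫ lift (toUnit G) (𝟙 G) = lift (toUnit T) g := by
      rw [comp_lift, Category.comp_id, toUnit_unique (g ≫ toUnit G) (toUnit T)]
    rw [AlgGrp.Action.comp_orbitMap, Category.assoc, hψ]
    simp [MonObj.comp_mul, GrpObj.comp_inv, ← ho]
  have hΦp : ∀ {T : Over S} (g : T ⟶ G) (z : T ⟶ Xh), (lift g z ≫ Φ) ≫ σ =
      lift (g * (toUnit T ≫ h) * g⁻¹) (lift g (z ≫ incl) ≫ a.act) := by
    intro T g z
    rw [Category.assoc, hΦ]
    simp [MonObj.comp_mul, GrpObj.comp_inv, comp_lift_assoc]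
  have heq : ∀ {T : Over S} (g : T ⟶ Z) (z : T ⟶ Xh), (lift g z ≫ aXh.act) ≫ incl = lift (g ≫ i) (z ≫ incl) ≫ a.act := by
    intro T g z
    rw [Category.assoc, hincl, lift_whiskerLeft_assoc, AlgGrp.Action.lift_restrict_act]
  have hσp : ∀ {T : Over S} (g : T ⟶ G) (r : T ⟶ SΨ), (lift g r ≫ aS.act) ≫ σ =
      lift (g * ((r ≫ σ) ≫ fst _ _) * g⁻¹) (lift g ((r ≫ σ) ≫ snd _ _) ≫ a.act) := by
    intro T g r
    rw [Category.assoc, hσ]
    simp [MonObj.comp_mul, GrpObj.comp_inv, comp_lift_assoc]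
  refine ⟨?_, ?_, ?_⟩
  · let g := fst G (G ⊗ Xh)
    let q := snd G (G ⊗ Xh) ≫ fst G Xh
    let z := snd G (G ⊗ Xh) ≫ snd G Xh
    have e₀ : lift g (lift q z) = 𝟙 (G ⊗ (G ⊗ Xh)) := by
      simp [g, q, z, ← comp_lift]
    have main : lift (g * q) z ≫ Φ = lift g (lift q z ≫ Φ) ≫ aS.act := by
      rw [← cancel_mono σ, hσp, hΦp, hΦp, lift_fst, lift_snd, a.lift_mul_act]
      simp only [mul_inv_rev, _root_.mul_assoc]
    show _ ≫ Φ = _ ≫ aS.act
    have lhs : lift g (lift q z) ≫ ((NonAbH1.trivialAction G).prod (AlgGrp.Action.trivial G Xh)).act = lift (g * q) z := by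
      rw [AlgGrp.Action.lift_prod_act]
      refine CartesianMonoidalCategory.hom_ext _ _ ?_ ?_
      · rw [lift_fst, lift_fst, Hom.mul_def]
        rfl
      · simp [AlgGrp.Action.trivial_act]
    rw [← Category.id_comp (_ ≫ Φ), ← Category.id_comp (_ ≫ aS.act), ← e₀, reassoc_of% lhs, lift_whiskerLeft_assoc, main]
  · have key : ∀ {T : Over S} (q q' : T ⟶ G ⊗ Xh), q' ≫ Φ = q ≫ Φ →
        ∃! z : T ⟶ Z, lift z q ≫ (ChGrp.twist i aXh).act = q' := by
      intro T q q' e
      have e' := congrArg (· ≫ σ) e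
      conv at e' => rw [← lift_comp_fst_snd q, ← lift_comp_fst_snd q']; simp only [hΦp]
      have e1 := congrArg (· ≫ fst G X) e'
      have e2 := congrArg (· ≫ snd G X) e'
      simp only [lift_fst, lift_snd] at e1 e2
      have eo : (q' ≫ fst _ _) ≫ aΨ.orbitMap o = (q ≫ fst _ _) ≫ aΨ.orbitMap o := by
        rw [← cancel_mono ψ, hΨ, hΨ, e1]
      let m := hhom.2.1.lift (q' ≫ fst _ _) (q ≫ fst _ _) eo
      have hm : m = lift (q' ≫ fst _ _) (m ≫ snd _ _) := by
        conv_lhs => rw [← lift_comp_fst_snd m]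
        rw [hhom.2.1.lift_fst]
      have h1 : q ≫ fst _ _ = (q' ≫ fst _ _) * ((m ≫ snd _ _) ≫ i) := by
        rw [← hhom.2.1.lift_snd (q' ≫ fst _ _) (q ≫ fst _ _) eo, show hhom.2.1.lift _ _ eo = m from rfl]
        conv_lhs => rw [hm]
        rw [lift_whiskerLeft_assoc, Hom.mul_def]
      refine ⟨m ≫ snd _ _, ?_, fun z hz => ?_⟩
      · show lift (m ≫ snd _ _) q ≫ _ = q'
        rw [← lift_comp_fst_snd q, ChGrp.lift_twist_act]
        conv_rhs => rw [← lift_comp_fst_snd q']
        refine congrArg₂ lift (by rw [h1, mul_inv_cancel_right]) ?_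
        rw [← cancel_mono incl, heq]
        rw [h1, a.lift_mul_act] at e2
        have := congrArg (fun x => lift (q' ≫ fst _ _)⁻¹ x ≫ a.act) e2
        simpa [← a.lift_mul_act, a.lift_one_act] using this.symm
      · change lift z q ≫ _ = q' at hz
        rw [← lift_comp_fst_snd q, ChGrp.lift_twist_act] at hz
        have hz1 := congrArg (· ≫ fst G Xh) hz
        simp only [lift_fst] at hz1
        have hzz : lift (q' ≫ fst _ _) z = m := by
          refine hhom.2.1.hom_ext ?_ ?_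
          · rw [hhom.2.1.lift_fst, lift_fst]
          · rw [hhom.2.1.lift_snd, lift_whiskerLeft_assoc, ← Hom.mul_def, ← hz1, inv_mul_cancel_right]
        rw [← hzz, lift_snd]
    have hw : (ChGrp.twist i aXh).act ≫ Φ = snd Z (G ⊗ Xh) ≫ Φ := by
      let z := fst Z (G ⊗ Xh)
      let g := snd Z (G ⊗ Xh) ≫ fst G Xh
      let x := snd Z (G ⊗ Xh) ≫ snd G Xh
      have e₀ : lift z (lift g x) = 𝟙 (Z ⊗ (G ⊗ Xh)) := by
        simp [g, x, z, ← comp_lift]
      rw [← Category.id_comp (_ ≫ Φ), ← Category.id_comp (snd _ _ ≫ Φ), ← e₀, lift_snd_assoc, ← Category.assoc,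
        ChGrp.lift_twist_act, ← cancel_mono σ, hΦp, hΦp, heq, ← a.lift_mul_act, inv_mul_cancel_right]
      refine congrArg (lift · _) ?_
      have c : (z ≫ i) * (toUnit _ ≫ h) = (toUnit _ ≫ h) * (z ≫ i) := by
        have e := congrArg (fun w => lift (1 : _ ⟶ G) z ≫ w) hhom.2.1.w
        simp only [lift_fst_assoc, Category.assoc, lift_whiskerLeft_assoc] at e
        rw [← Category.assoc (lift _ _) μ[G], ← Hom.mul_def, _root_.one_mul] at e
        replace e := congrArg (· ≫ ψ) e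
        simp only [hΨ] at e
        rw [_root_.one_mul, inv_one, _root_.mul_one, eq_mul_inv_iff_mul_eq] at e
        exact e.symm
      rw [mul_inv_rev, inv_inv]
      calc _ = g * ((z ≫ i)⁻¹ * (toUnit _ ≫ h) * (z ≫ i)) * g⁻¹ := by simp only [_root_.mul_assoc]
        _ = _ := by rw [_root_.mul_assoc _ _ (z ≫ i), ← c, inv_mul_cancel_left]
    refine ⟨⟨hw⟩, ⟨PullbackCone.IsLimit.mk _
      (fun c => lift (key c.snd c.fst c.condition).choose c.snd)
      (fun c => (key c.snd c.fst c.condition).choose_spec.1) (fun c => lift_snd _ _) (fun c r h₁ h₂ => ?_)⟩⟩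
    have er : r = lift (r ≫ fst _ _) c.snd := by rw [← h₂, lift_comp_fst_snd]
    conv_lhs => rw [er]
    refine congrArg (lift · c.snd) ((key c.snd c.fst c.condition).choose_spec.2 _ ?_)
    show lift _ _ ≫ _ = _
    rw [← er]
    exact h₁
  · obtain ⟨R, hR, hsec⟩ := hhom.2.2
    obtain ⟨⟨y, hy⟩, hx⟩ := (hSΨ SΨ (σ ≫ fst _ _) (σ ≫ snd _ _)).1 ⟨𝟙 _, by rw [Category.id_comp, lift_comp_fst_snd]⟩
    refine ⟨R.pullbackArrows y.left, Precoverage.pullbackArrows_mem y.left hR, ?_⟩
    rintro W g ⟨V, u, hu⟩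
    obtain ⟨s, hs⟩ := hsec u hu
    change s ≫ (aΨ.orbitMap o).left = u at hs
    let TW : Over S := Over.mk (pullback.snd u y.left ≫ SΨ.hom)
    let c : TW ⟶ G := Over.homMk (pullback.fst u y.left ≫ s) (by
      show (pullback.fst u y.left ≫ s) ≫ G.hom = pullback.snd u y.left ≫ SΨ.hom
      rw [← Over.w (aΨ.orbitMap o), Category.assoc, ← Category.assoc s, hs, ← Category.assoc, pullback.condition,
        Category.assoc, Over.w y])
    let π : TW ⟶ SΨ := Over.homMk (pullback.snd u y.left) rfl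
    have hc : c ≫ aΨ.orbitMap o = π ≫ y := by
      refine Over.OverMorphism.ext ?_
      show (pullback.fst u y.left ≫ s) ≫ (aΨ.orbitMap o).left = pullback.snd u y.left ≫ y.left
      rw [Category.assoc, hs, pullback.condition]
    have hc' := congrArg (· ≫ ψ) hc
    simp only [hΨ, Category.assoc, hy] at hc'
    have hfix : lift (π ≫ σ ≫ fst _ _) (π ≫ σ ≫ snd _ _) ≫ a.act = π ≫ σ ≫ snd _ _ := by
      rw [← comp_lift_assoc, hx]
    obtain ⟨z, hz⟩ := (hXh TW (lift c⁻¹ (π ≫ σ ≫ snd _ _) ≫ a.act)).2 (by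
      rw [← a.lift_mul_act]
      conv_rhs => rw [← hfix, ← a.lift_mul_act, ← hc']
      refine congrArg (fun m => lift m _ ≫ a.act) ?_
      simp only [_root_.mul_assoc, inv_mul_cancel_left])
    refine ⟨(lift c z).left, ?_⟩
    show (lift c z).left ≫ Φ.left = pullback.snd u y.left
    rw [← Over.comp_left]
    refine congrArg CommaMorphism.left (show lift c z ≫ Φ = π from ?_)
    rw [← cancel_mono σ, hΦp, hz, ← a.lift_mul_act, mul_inv_cancel, a.lift_one_act, hc']
    exact (congrArg₂ lift rfl rfl).trans (by rw [← comp_lift, lift_comp_fst_snd])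

end Groth.Agent.S19098
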