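import Groth.Statements.S19099
import Groth.Agent.ChGrpLib.BalProd
import Groth.Agent.AlgSp.FppfLocal2
import Groth.Agent.GITLib.Univ
-- import your own Groth.Agent.* helpers here

set_option autoImplicit false
universe u
open CategoryTheory MonoidalCategory CartesianMonoidalCategory MonObj AlgebraicGeometry
open ChGrp

namespace Groth.Agent.S19099

open CategoryTheory.Limits
open Groth.Agent.GITLib Groth.Agent.ChGrpLib

/-- Let S be a scheme, i : G → Q a monomorphic homomorphism of S-group schemes (a closed subgroup), h an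
S-point of G whose image in Q is central, and X an S-scheme with a G-action a. Let incl : X^h → X be
a monomorphism whose points are the points of X fixed by h, with a G-action making incl equivariant
(X^h is G-stable since h is central in G). Let Y with its Q-action and j : Q ×_S X → Y be the
balanced product Q ×^G X for the fppf topology, Y' with j' : Q ×_S X^h → Y' the balanced product Q
×^G X^h, and m : Y' → Y the morphism under which j' followed by m is Q × incl followed by j. Then m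
is a monomorphism, a point of Y factors through m exactly when it is fixed by h acting on Y through
the Q-action, and m is a closed immersion if incl is one: Q ×^G X^h is the fixed locus of h in Q ×^G
X. (The source states this for a smooth algebraic space X of finite type over the complex numbers,
as an equality of closed subspaces, and argues on closed points; the form here is the one its
computation gives for the fppf quotients over any base, with X a scheme.) -/
theorem result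
    {S : Scheme.{u}} {Q G X Xh Y Y' : Over S} [GrpObj Q] [GrpObj G]
    (i : G ⟶ Q) [IsMonHom i] [Mono i]
    (h : 𝟙_ (Over S) ⟶ G)
    (hcent : ∀ (T : Over S) (q : T ⟶ Q), q * (toUnit T ≫ h ≫ i) = (toUnit T ≫ h ≫ i) * q)
    (a : AlgGrp.Action G X)
    (incl : Xh ⟶ X) [Mono incl]
    (hXh : ∀ (T : Over S) (x : T ⟶ X), (∃ y : T ⟶ Xh, y ≫ incl = x) ↔ lift (toUnit T ≫ h) x ≫ a.act = x)
    (aXh : AlgGrp.Action G Xh) (hincl : AlgGrp.Action.IsEquivariant aXh a incl)
    (aY : AlgGrp.Action Q Y) (j : Q ⊗ X ⟶ Y) (hY : ChGrp.IsBalProd Scheme.fppfPrecoverage i a aY j)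
    (aY' : AlgGrp.Action Q Y') (j' : Q ⊗ Xh ⟶ Y') (hY' : ChGrp.IsBalProd Scheme.fppfPrecoverage i aXh aY' j')
    (m : Y' ⟶ Y) (hm : j' ≫ m = (Q ◁ incl) ≫ j) :
    Mono m ∧
      (∀ (T : Over S) (y : T ⟶ Y), (∃ y' : T ⟶ Y', y' ≫ m = y) ↔ lift (toUnit T ≫ h ≫ i) y ≫ aY.act = y) ∧
      (IsClosedImmersion incl.left → IsClosedImmersion m.left) := by
  have hK : Scheme.fppfPrecoverage.{u} ≤ Scheme.fpqcPrecoverage := Scheme.fppfPrecoverage_le_fpqcPrecoverage
  have heq : ∀ {T : Over S} (g : T ⟶ G) (z : T ⟶ Xh), (lift g z ≫ aXh.act) ≫ incl = lift g (z ≫ incl) ≫ a.act := by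
    intro T g z
    rw [Category.assoc, hincl, lift_whiskerLeft_assoc]
  have hmon : Mono m := ⟨fun {T} y₁ y₂ e => by
    refine hom_ext_q (GrothendieckTopology.intersection_covering _ (liftSieve_mem j' hK hY'.2.2 y₁)
      (liftSieve_mem j' hK hY'.2.2 y₂)) fun T' f hf => ?_
    obtain ⟨⟨p₁, hp₁⟩, p₂, hp₂⟩ := hf
    rw [← hp₁, ← hp₂]
    have h1 : lift (p₁ ≫ fst _ _) ((p₁ ≫ snd _ _) ≫ incl) ≫ j = lift (p₂ ≫ fst _ _) ((p₂ ≫ snd _ _) ≫ incl) ≫ j := by
      have aux : ∀ p : T' ⟶ Q ⊗ Xh, lift (p ≫ fst _ _) ((p ≫ snd _ _) ≫ incl) ≫ j = (p ≫ j') ≫ m := fun p => by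
        calc lift (p ≫ fst _ _) ((p ≫ snd _ _) ≫ incl) ≫ j
            = (p ≫ (Q ◁ incl)) ≫ j := by rw [← lift_whiskerLeft_assoc, lift_comp_fst_snd, Category.assoc]
          _ = (p ≫ j') ≫ m := by rw [Category.assoc, ← hm, Category.assoc]
      rw [aux, aux, hp₁, hp₂, Category.assoc, Category.assoc, e]
    obtain ⟨g, hg₁, hg₂⟩ := (balProd_eq_iff hY _ _ _ _).1 h1
    rw [← heq, cancel_mono] at hg₂
    conv_lhs => rw [← lift_comp_fst_snd p₁]
    conv_rhs => rw [← lift_comp_fst_snd p₂]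
    exact (balProd_eq_iff hY' _ _ _ _).2 ⟨g, hg₁, hg₂⟩⟩
  have hfix : ∀ {T : Over S} (q : T ⟶ Q) (x : T ⟶ X),
      lift (toUnit T ≫ h ≫ i) (lift q x ≫ j) ≫ aY.act = lift q (lift (toUnit T ≫ h) x ≫ a.act) ≫ j := by
    intro T q x
    rw [← balProd_equivariant hY, ← hcent]
    exact (balProd_eq_iff hY _ _ _ _).2 ⟨toUnit T ≫ h, by rw [Category.assoc, mul_inv_cancel_right], rfl⟩
  have hfact : ∀ {T : Over S} (q : T ⟶ Q) (x : T ⟶ X),
      lift (toUnit T ≫ h ≫ i) (lift q x ≫ j) ≫ aY.act = lift q x ≫ j → ∃ x₀ : T ⟶ Xh, x₀ ≫ incl = x := by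
    intro T q x e
    rw [hfix] at e
    obtain ⟨g, hg₁, hg₂⟩ := (balProd_eq_iff hY _ _ _ _).1 e
    have hg : g = 1 := by
      rw [← cancel_mono i, MonObj.one_comp, ← inv_eq_one]
      exact mul_eq_left.1 hg₁.symm
    rw [hg, a.lift_one_act] at hg₂
    exact (hXh T x).2 hg₂.symm
  have hpts : ∀ (T : Over S) (y : T ⟶ Y),
      (∃ y' : T ⟶ Y', y' ≫ m = y) ↔ lift (toUnit T ≫ h ≫ i) y ≫ aY.act = y := by
    intro T y
    constructor
    · rintro ⟨y', rfl⟩
      refine hom_ext_q (liftSieve_mem j' hK hY'.2.2 y') fun T' f hf => ?_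
      obtain ⟨p, hp⟩ := hf
      have e : f ≫ y' ≫ m = lift (p ≫ fst _ _) ((p ≫ snd _ _) ≫ incl) ≫ j := by
        rw [← Category.assoc, ← hp, Category.assoc, hm, ← lift_whiskerLeft_assoc, lift_comp_fst_snd]
      rw [comp_lift_assoc, e, ← Category.assoc, comp_toUnit, hfix, (hXh T' _).1 ⟨_, rfl⟩]
    · intro hy
      refine exists_factor_of_local m y (liftSieve_mem j hK hY.2.2 y) fun T' f hf => ?_
      obtain ⟨p, hp⟩ := hf
      have e := congrArg (f ≫ ·) hy
      simp only [comp_lift_assoc] at e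
      rw [← Category.assoc, comp_toUnit, ← hp, ← lift_comp_fst_snd p] at e
      obtain ⟨x₀, hx₀⟩ := hfact _ _ e
      refine ⟨lift (p ≫ fst _ _) x₀ ≫ j', ?_⟩
      rw [Category.assoc, hm, lift_whiskerLeft_assoc, hx₀, lift_comp_fst_snd, hp]
  refine ⟨hmon, hpts, fun hci => ?_⟩
  have hsq : IsPullback j' (Q ◁ incl) m j := by
    have hl : ∀ c : PullbackCone m j, ∃ l : c.pt ⟶ Q ⊗ Xh, l ≫ j' = c.fst ∧ l ≫ (Q ◁ incl) = c.snd := by
      intro c
      obtain ⟨x₀, hx₀⟩ := hfact (c.snd ≫ fst _ _) (c.snd ≫ snd _ _) (by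
        rw [lift_comp_fst_snd, ← c.condition]
        exact (hpts _ _).1 ⟨_, rfl⟩)
      refine ⟨lift (c.snd ≫ fst _ _) x₀, ?_, ?_⟩
      · rw [← cancel_mono m, Category.assoc, hm, lift_whiskerLeft_assoc, hx₀, lift_comp_fst_snd, ← c.condition]
      · rw [lift_whiskerLeft, hx₀, lift_comp_fst_snd]
    choose l hl₁ hl₂ using hl
    refine ⟨⟨hm⟩, ⟨PullbackCone.IsLimit.mk _ l hl₁ hl₂ fun c r _ hr => ?_⟩⟩
    have e := hr.trans (hl₂ c).symm
    refine CartesianMonoidalCategory.hom_ext _ _ ?_ ?_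
    · simpa using congrArg (· ≫ fst Q X) e
    · rw [← cancel_mono incl]
      simpa using congrArg (· ≫ snd Q X) e
  haveI : IsClosedImmersion (Q ◁ incl).left := MorphismProperty.of_isPullback (isPullback_whiskerLeft Q incl) hci
  obtain ⟨R, hR, hsec⟩ := hY.2.2
  refine MorphismProperty.IsLocalAtTarget.of_forall_pullbackSnd (P := @IsClosedImmersion) hR fun {W g} _ hg => ?_
  obtain ⟨σ, hσ⟩ := hsec g hg
  change σ ≫ j.left = g at hσ
  have e : IsPullback (pullback.snd σ (Q ◁ incl).left ≫ j'.left) (pullback.fst σ (Q ◁ incl).left) m.left g := by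
    rw [← hσ]
    exact (IsPullback.of_hasPullback σ (Q ◁ incl).left).flip.paste_horiz (isPullback_left hsq)
  rw [show pullback.snd m.left g = (e.isoPullback).inv ≫ pullback.fst σ (Q ◁ incl).left from
    (e.isoPullback_inv_snd).symm]
  exact (MorphismProperty.cancel_left_of_respectsIso @IsClosedImmersion _ _).2
    (MorphismProperty.pullback_fst (P := @IsClosedImmersion) _ _ inferInstance)

end Groth.Agent.S19099
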