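import Groth.Statements.S1910
import Groth.Agent.SpFlat88.Basic
import Groth.Agent.CycLib.PushStalk
import Groth.Agent.CycLib.ProdFibre
import Groth.Agent.HomShEval.Reflexive

set_option autoImplicit false
universe u
open CategoryTheory AlgebraicGeometry
open CategoryTheory.Limits
open Cyc

namespace Groth.Agent.S1910


open CategoryTheory.Limits IsLocalRing Groth.Agent.CycLib Groth.Agent.PullStalk.Sky

variable {X W Y : Scheme.{u}} (ι : W ⟶ X) [IsClosedImmersion ι]

set_option quotPrecheck false in
local notation "OW" => (Coh.push ι).obj (Coh.structureModule W)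

theorem nontrivial_push_iff (p : X) : Nontrivial ((OW).presheaf.stalk p) ↔ p ∈ Set.range ι := by
  constructor
  · intro h
    by_contra hp
    haveI := subsingleton_stalk_push_of_not_mem ι hp
    exact not_subsingleton ((OW).presheaf.stalk p) inferInstance
  · rintro ⟨w, rfl⟩
    by_contra h
    rw [not_nontrivial_iff_subsingleton] at h
    have h1 : LinearMap.ker (toPushStalk ι w) = ⊤ := LinearMap.ker_eq_top.2 (LinearMap.ext fun c => h.elim _ _)
    rw [toPushStalk_ker] at h1
    exact RingHom.ker_ne_top _ h1

/-- `N / J N = A / (K + J)` for the stalk `N = A / K` of the push-forward of the structure module. -/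
theorem length_quot_push (w : W) (J : Ideal (X.presheaf.stalk (ι w))) :
    Module.length (X.presheaf.stalk (ι w)) ((OW).presheaf.stalk (ι w) ⧸
        J • (⊤ : Submodule (X.presheaf.stalk (ι w)) ((OW).presheaf.stalk (ι w)))) =
      Module.length (X.presheaf.stalk (ι w))
        (X.presheaf.stalk (ι w) ⧸ (RingHom.ker (ι.stalkMap w).hom ⊔ J)) := by
  have hmap : J • (⊤ : Submodule (X.presheaf.stalk (ι w)) ((OW).presheaf.stalk (ι w))) =
      Submodule.map (toPushStalk ι w) J := by
    rw [← LinearMap.range_eq_top.2 (toPushStalk_surjective ι w), LinearMap.range_eq_map,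
      ← Submodule.map_smul'', smul_eq_mul, Ideal.mul_top]
  rw [hmap]
  let φ : X.presheaf.stalk (ι w) →ₗ[X.presheaf.stalk (ι w)]
      ((OW).presheaf.stalk (ι w) ⧸ Submodule.map (toPushStalk ι w) J) :=
    (Submodule.mkQ _).comp (toPushStalk ι w)
  have hφ : Function.Surjective φ := (Submodule.mkQ_surjective _).comp (toPushStalk_surjective ι w)
  have hk : LinearMap.ker φ = RingHom.ker (ι.stalkMap w).hom ⊔ J := by
    rw [LinearMap.ker_comp, Submodule.ker_mkQ, Submodule.comap_map_eq, toPushStalk_ker, sup_comm]
  exact ((Submodule.quotEquivOfEq _ _ hk.symm).trans (LinearMap.quotKerEquivOfSurjective φ hφ)).length_eq.symm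

theorem length_self_eq {A P : Type u} [CommRing A] [CommRing P] (ψ : A →+* P) (hψ : Function.Surjective ψ) :
    Module.length P P = Module.length A (A ⧸ RingHom.ker ψ) := by
  letI := ψ.toAlgebra
  rw [← Module.length_eq_of_surjective (S := A) (R := P) (M := P) hψ]
  exact (LinearMap.quotKerEquivOfSurjective (Algebra.linearMap A P) hψ).length_eq.symm

/-- Cycles of a base change of a closed subscheme along a preimmersion. -/
theorem subschemeFun_pullback (g : Y ⟶ X) [IsPreimmersion g] (δ : Y → ℤ) (r : ℤ) :
    Cyc.subschemeFun δ r (pullback.snd ι g) =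
      Cyc.sheafFun δ r ((Scheme.Modules.pullback g).obj OW) := by
  funext y
  unfold Cyc.subschemeFun Cyc.sheafFun
  split_ifs with hy
  swap
  · rfl
  by_cases hr : g y ∈ Set.range ι
  · obtain ⟨w, hw⟩ := hr
    obtain ⟨z, hz1, hz2⟩ := Scheme.Pullback.exists_preimage_pullback w y hw
    subst hz1 hz2
    rw [show {u : ↥(pullback ι g) | pullback.snd ι g u = pullback.snd ι g z} = {z} from
        Set.ext fun u => (pullback.snd ι g).isClosedEmbedding.injective.eq_iff, finsum_mem_singleton,
      (SpFlat88.exists_pullback_stalk_equiv OW g _).2]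
    have hsp : g (pullback.snd ι g z) ⤳ ι (pullback.fst ι g z) := specializes_of_eq hw.symm
    haveI : IsPreimmersion (pullback.fst ι g) := MorphismProperty.pullback_fst _ _ inferInstance
    have hker := ker_stalkMap_isPullback_pre (IsPullback.of_hasPullback ι g) z hsp
    generalize hJ : RingHom.ker (g.stalkMap (pullback.snd ι g z)).hom = J at hker ⊢
    have key : ∀ (q : X) (hq : ι (pullback.fst ι g z) = q) (J : Ideal (X.presheaf.stalk q))
        (h : RingHom.ker ((pullback.fst ι g).stalkMap z).hom =
          (J.comap (X.presheaf.stalkSpecializes (specializes_of_eq hq.symm)).hom).map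
            (ι.stalkMap (pullback.fst ι g z)).hom),
        ((Module.length ((pullback ι g).presheaf.stalk z) ((pullback ι g).presheaf.stalk z)).toNat : ℤ) =
          ((Module.length (X.presheaf.stalk q) ((OW).presheaf.stalk q ⧸
            J • (⊤ : Submodule (X.presheaf.stalk q) ((OW).presheaf.stalk q)))).toNat : ℤ) := by
      rintro q rfl J h
      rw [show X.presheaf.stalkSpecializes (specializes_of_eq (rfl : ι (pullback.fst ι g z) = _)) = 𝟙 _ from
        TopCat.Presheaf.stalk_hom_ext _ fun U hU => by simp] at h
      rw [length_quot_push]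
      let ψ : X.presheaf.stalk (ι (pullback.fst ι g z)) →+* (pullback ι g).presheaf.stalk z :=
        ((pullback.fst ι g).stalkMap z).hom.comp (ι.stalkMap (pullback.fst ι g z)).hom
      have hψ : Function.Surjective ψ :=
        ((pullback.fst ι g).stalkMap_surjective z).comp (ι.stalkMap_surjective _)
      have hkψ : RingHom.ker ψ = RingHom.ker (ι.stalkMap (pullback.fst ι g z)).hom ⊔ J := by
        rw [← RingHom.comap_ker, h, CommRingCat.hom_id, Ideal.comap_id,
          Ideal.comap_map_of_surjective _ (ι.stalkMap_surjective _), ← RingHom.ker_eq_comap_bot, sup_comm]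
      rw [← hkψ, ← length_self_eq ψ hψ]
    exact key _ hw J hker
  · rw [show {u : ↥(pullback ι g) | pullback.snd ι g u = y} = ∅ from
      Set.eq_empty_of_forall_notMem fun u (hu : pullback.snd ι g u = y) =>
        hr ⟨pullback.fst ι g u, by rw [← hu, ← Scheme.Hom.comp_apply, pullback.condition, Scheme.Hom.comp_apply]⟩,
      finsum_mem_empty]
    haveI : Subsingleton (((Scheme.Modules.pullback g).obj OW).presheaf.stalk y) := by
      rw [← not_nontrivial_iff_subsingleton]
      exact fun h => hr ((nontrivial_push_iff ι _).1 (SpFlat88.nontrivial_of_nontrivial_pullback_stalk OW g y h))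
    rw [Module.length_eq_zero]
    simp

theorem isFlatOver_push {S : Scheme.{u}} (a : X ⟶ S) [Flat (ι ≫ a)] : FlatMod.IsFlatOver a OW := by
  intro p
  letI := FlatMod.moduleStalkOver a OW p
  by_cases hp : p ∈ Set.range ι
  · obtain ⟨w, rfl⟩ := hp
    letI : Algebra (S.presheaf.stalk (a (ι w))) (W.presheaf.stalk w) :=
      ((ι.stalkMap w).hom.comp (a.stalkMap (ι w)).hom).toAlgebra
    haveI : Module.Flat (S.presheaf.stalk (a (ι w))) (W.presheaf.stalk w) := by
      have h := Flat.stalkMap (ι ≫ a) w
      rw [Scheme.Hom.stalkMap_comp] at h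
      exact h
    have hker : ∀ c, toPushStalk ι w c = 0 ↔ ι.stalkMap w c = 0 := fun c =>
      SetLike.ext_iff.1 (toPushStalk_ker ι w) c
    let sec := Function.surjInv (ι.stalkMap_surjective w)
    have hsec : ∀ b, ι.stalkMap w (sec b) = b := Function.surjInv_eq (ι.stalkMap_surjective w)
    have heq : ∀ c c', ι.stalkMap w c = ι.stalkMap w c' → toPushStalk ι w c = toPushStalk ι w c' := fun c c' h => by
      rw [← sub_eq_zero, ← map_sub, hker, map_sub, h, sub_self]
    let e : W.presheaf.stalk w →ₗ[S.presheaf.stalk (a (ι w))] (OW).presheaf.stalk (ι w) :=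
      { toFun := fun b => toPushStalk ι w (sec b)
        map_add' := fun b b' => by
          rw [← map_add]
          exact heq _ _ (by rw [map_add, hsec, hsec, hsec])
        map_smul' := fun c b => by
          show _ = a.stalkMap (ι w) c • toPushStalk ι w (sec b)
          rw [← map_smul]
          exact heq _ _ (by
            rw [hsec, smul_eq_mul, map_mul, hsec]
            rfl) }
    refine Module.Flat.of_linearEquiv (LinearEquiv.ofBijective e ⟨fun b b' h => ?_, fun t => ?_⟩).symm
    · have h' : toPushStalk ι w (sec b - sec b') = 0 := by rw [map_sub]; exact sub_eq_zero.2 h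
      rw [hker, map_sub, hsec, hsec] at h'
      exact sub_eq_zero.1 h'
    · obtain ⟨c, rfl⟩ := toPushStalk_surjective ι w t
      exact ⟨ι.stalkMap w c, heq _ _ (hsec _)⟩
  · haveI := subsingleton_stalk_push_of_not_mem ι hp
    show Module.Flat _ ((OW).presheaf.stalk p)
    infer_instance

/-- Let W → X be a closed immersion with W flat over R and dim W_η ≤ r. Then dim W_s ≤ r and sp([W_η]_r)
= [W_s]_r. Here R is a discrete valuation ring, a : X → Spec R is locally of finite type, X_η and
X_s are the fibres over the generic and closed points (Mathlib's Scheme.Hom.fiber) with their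
dimension functions δη, δs (transcendence degree of residue fields), r-cycles on X_η are cycles
supported at points with δη = r, and sp is the specialization map Z_r(X_η) → Z_r(X_s) on coefficient
functions (Cyc.spFun). -/
theorem result (R : Type u) [CommRing R] [IsDomain R] [IsDiscreteValuationRing R] (X : Scheme.{u}) (a : X ⟶ Spec (CommRingCat.of R)) [LocallyOfFiniteType a] (δη : ↥(a.fiber (genericPoint ↥(Spec (CommRingCat.of R)))) → ℤ) (δs : ↥(a.fiber (IsLocalRing.closedPoint R)) → ℤ) (hδη : Cyc.DeltaCompat (a.fiberToSpecResidueField (genericPoint ↥(Spec (CommRingCat.of R)))) δη (fun _ => 0)) (hδs : Cyc.DeltaCompat (a.fiberToSpecResidueField (IsLocalRing.closedPoint R)) δs (fun _ => 0)) (r : ℤ) (W : Scheme.{u}) (ι : W ⟶ X) [IsClosedImmersion ι] [Flat (ι ≫ a)] (hdim : ∀ ζ : ↥(a.fiber (genericPoint ↥(Spec (CommRingCat.of R)))), a.fiberι (genericPoint ↥(Spec (CommRingCat.of R))) ζ ∈ Set.range ⇑ι → δη ζ ≤ r) : (∀ x : ↥(a.fiber (IsLocalRing.closedPoint R)), a.fiberι (IsLocalRing.closedPoint R) x ∈ Set.range ⇑ι → δs x ≤ r) ∧ Cyc.spFun a (genericPoint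 ↥(Spec (CommRingCat.of R))) (IsLocalRing.closedPoint R) δη δs r (Cyc.subschemeFun δη r (pullback.snd ι (a.fiberι (genericPoint ↥(Spec (CommRingCat.of R)))))) = Cyc.subschemeFun δs r (pullback.snd ι (a.fiberι (IsLocalRing.closedPoint R))) := by
  haveI : IsLocallyNoetherian X := LocallyOfFiniteType.isLocallyNoetherian a
  haveI : IsLocallyNoetherian W := LocallyOfFiniteType.isLocallyNoetherian ι
  haveI : (Coh.structureModule W).IsQuasicoherent := (Groth.Agent.HomShEval.Reflexive.isCoh_structureModule W).1
  have hF : Coh.IsCoh ((Coh.push ι).obj (Coh.structureModule W)) :=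
    isCoh_push _ ι (Groth.Agent.HomShEval.Reflexive.isCoh_structureModule W)
  obtain ⟨h1, h2⟩ := Groth.Agent.SpFlat88.main a _ hF (isFlatOver_push ι a) δη δs hδη hδs r
    fun ζ hn => hdim ζ ((nontrivial_push_iff ι _).1 hn)
  refine ⟨fun x hx => h1 x ((nontrivial_push_iff ι _).2 hx), ?_⟩
  rw [subschemeFun_pullback, subschemeFun_pullback]
  exact h2

end Groth.Agent.S1910
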