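import Groth.Statements.S19101
import Groth.Agent.S9371
import Groth.Agent.S9372
import Mathlib.AlgebraicGeometry.Morphisms.Immersion
-- import your own Groth.Agent.* helpers here

set_option autoImplicit false
open CategoryTheory MonoidalCategory CartesianMonoidalCategory MonObj AlgebraicGeometry Limits
open Omega

namespace Groth.Agent.S19101

/-- Over S = Spec ℂ let G be an affine group scheme of finite type, Y a scheme over ℂ, and X a scheme
over Y carrying an action, over Y, of the base change G_Y of G to Y which makes X an fppf torsor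
under G over Y. Let g : X ×_Y X → G be the morphism determined by g(h x, x) = h, i.e. the composite
of the inverse of the isomorphism G_Y ×_Y X → X ×_Y X, (h, x) ↦ (h x, x), with the projection to G;
the diagonal X → X ×_Y X and the unit section Spec ℂ → G then form a commutative (indeed cartesian)
square with g and X → Spec ℂ. Then there is a map of conormal sheaves for this square, from the
pullback to X of the conormal sheaf m_e/m_e² of the unit section (the trivial bundle with fibre the
dual of the Lie algebra 𝔤) to the conormal sheaf of the diagonal, which is the sheaf of relative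
differentials Ω_{X/Y}, characterised by sending the class of a local equation of the unit section to
the class of its pullback under g, and this map is an isomorphism: Ω_{X/Y} ≅ O_X ⊗ 𝔤^∨ canonically.
(The source states the dual form T_f = X × 𝔤 for algebraic spaces and moreover as G-equivariant
bundles for the adjoint action; the equivariance is not expressed here, and X, Y are schemes.) -/
theorem result
    {G Y : Over (Spec (CommRingCat.of ℂ))} [GrpObj G] [IsAffine G.left] [LocallyOfFiniteType G.hom]
    {X : Over Y.left} (a : AlgGrp.Action (Red.bc Y.hom G) X)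
    (hX : NonAbH1.IsTorsorFor Scheme.fppfPrecoverage a)
    (g : pullback X.hom X.hom ⟶ G.left)
    (hg : (lift a.act (snd (Red.bc Y.hom G) X)).left ≫ g =
      (fst (Red.bc Y.hom G) X).left ≫ pullback.fst G.hom Y.hom) :
    ∃ φ : (Scheme.Modules.pullback (toUnit (Over.mk (X.hom ≫ Y.hom) : Over (Spec (CommRingCat.of ℂ)))).left).obj
        (Omega.conormal (η[G]).left) ⟶ Omega.conormal (pullback.diagonal X.hom),
      OmegaSh.IsConormalMap (pullback.diagonal X.hom) (η[G]).left g
        (toUnit (Over.mk (X.hom ≫ Y.hom) : Over (Spec (CommRingCat.of ℂ)))).left φ ∧ IsIso φ := by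
  let ψ := (lift a.act (snd (Red.bc Y.hom G) X)).left
  haveI : IsIso (lift a.act (snd (Red.bc Y.hom G) X)) := hX.1
  haveI hψ : IsIso ψ := inferInstanceAs (IsIso ((Over.forget _).map (lift a.act (snd (Red.bc Y.hom G) X))))
  let q : (Red.bc Y.hom G ⊗ X).left ⟶ G.left := (fst (Red.bc Y.hom G) X).left ≫ pullback.fst G.hom Y.hom
  let w : X ⟶ Red.bc Y.hom G ⊗ X := lift (toUnit X ≫ η[Red.bc Y.hom G]) (𝟙 X)
  let tu : X.left ⟶ Spec (CommRingCat.of ℂ) :=
    (toUnit (Over.mk (X.hom ≫ Y.hom) : Over (Spec (CommRingCat.of ℂ)))).left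
  have htu : tu = X.hom ≫ Y.hom := by
    have := Over.w (toUnit (Over.mk (X.hom ≫ Y.hom) : Over (Spec (CommRingCat.of ℂ))))
    exact (Category.comp_id _).symm.trans this
  have hηG : (η[G]).left ≫ G.hom = 𝟙 _ := Over.w η[G]
  have hηbc : (η[Red.bc Y.hom G]).left ≫ pullback.fst G.hom Y.hom = Y.hom ≫ (η[G]).left := by
    show ((Functor.LaxMonoidal.ε (Over.pullback Y.hom)) ≫ (Over.pullback Y.hom).map η[G]).left ≫ _ = _
    rw [Over.comp_left, Category.assoc]
    simp [Over.pullback_map_left]
    rw [← reassoc_of% (pullback.condition (f := 𝟙 (Spec (CommRingCat.of ℂ))) (g := Y.hom))]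
    exact (pullback.lift_fst _ _ _).trans (congrArg _ (Category.id_comp _).symm)
  have hq : IsPullback (snd (Red.bc Y.hom G) X).left q (X.hom ≫ Y.hom) G.hom :=
    (IsPullback.of_hasPullback (Red.bc Y.hom G).hom X.hom).flip.paste_vert
      (IsPullback.of_hasPullback G.hom Y.hom).flip
  have hw : IsPullback w.left tu q (η[G]).left := by
    refine IsPullback.of_right (h₁₂ := (snd (Red.bc Y.hom G) X).left) (v₁₃ := X.hom ≫ Y.hom) (h₂₂ := G.hom) ?_ ?_ hq
    · rw [← Over.comp_left, lift_snd, hηG]
      show IsPullback (𝟙 X.left) tu (X.hom ≫ Y.hom) (𝟙 (Spec (CommRingCat.of ℂ)))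
      exact IsPullback.of_horiz_isIso ⟨by rw [htu, Category.comp_id]; exact (Category.id_comp _)⟩
    · show w.left ≫ (fst (Red.bc Y.hom G) X).left ≫ pullback.fst G.hom Y.hom = _
      rw [← Category.assoc, ← Over.comp_left, lift_fst, Over.comp_left, Category.assoc, hηbc, htu, ← Category.assoc]
      congr 1
      all_goals exact congrArg (· ≫ Y.hom) ((Category.comp_id _).symm.trans (Over.w (toUnit X)))
  have hdiag : w.left ≫ ψ = pullback.diagonal X.hom := by
    show (lift (toUnit X ≫ η[Red.bc Y.hom G]) (𝟙 X) ≫ lift a.act (snd (Red.bc Y.hom G) X)).left = _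
    have e : lift (toUnit X ≫ η[Red.bc Y.hom G]) (𝟙 X) ≫ a.act = 𝟙 X := by
      rw [show lift (toUnit X ≫ η[Red.bc Y.hom G]) (𝟙 X) = lift (toUnit X) (𝟙 X) ≫ (η[Red.bc Y.hom G] ▷ X) from
        (lift_whiskerRight _ _ _).symm, Category.assoc, a.one_act]
      simp
    rw [comp_lift, lift_snd, e]
    rfl
  have hg' : g = inv ψ ≫ q := by rw [IsIso.eq_inv_comp]; exact hg
  have hsq : IsPullback (pullback.diagonal X.hom) tu g (η[G]).left :=
    hw.of_iso (Iso.refl _) (asIso ψ) (Iso.refl _) (Iso.refl _) (by simpa using hdiag) (by simp)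
      (by simp [hg']) (by simp)
  haveI : IsClosedImmersion (η[G]).left := by
    have h : IsClosedImmersion ((η[G]).left ≫ G.hom) := by rw [hηG]; infer_instance
    exact IsClosedImmersion.of_comp (η[G]).left G.hom
  haveI : IsClosedImmersion (pullback.diagonal X.hom) :=
    MorphismProperty.of_isPullback hsq.flip (inferInstance : IsClosedImmersion (η[G]).left)
  haveI : Flat (X.hom ≫ Y.hom) := by
    exact inferInstance
  haveI : Flat g := by
    haveI : Flat q := MorphismProperty.of_isPullback hq (inferInstance : Flat (X.hom ≫ Y.hom))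
    rw [hg']; infer_instance
  obtain ⟨φ, hφ, -⟩ := Groth.Agent.S9371.result (pullback.diagonal X.hom) (η[G]).left g tu hsq.w.symm
  exact ⟨φ, hφ, (Groth.Agent.S9372.result _ _ g tu hsq φ hφ).2 inferInstance⟩

end Groth.Agent.S19101
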