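import Groth.Statements.S19102
import Groth.Agent.Comod.Characters
import Mathlib.Analysis.Complex.Polynomial.Basic

set_option autoImplicit false
open CategoryTheory MonoidalCategory CartesianMonoidalCategory MonObj AlgebraicGeometry
open scoped TensorProduct
open HopfRep

namespace Groth.Agent.S19102


open Groth.Agent.Comod.Characters in
/-- class functions, in algebraic terms -/
theorem class_iff {k A : Type} [Field k] [CommRing A] [HopfAlgebra k A] (f : A) :
    (∀ (T : Over (Spec (CommRingCat.of k))) (x g : T ⟶ CoactBr.sp k A),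
        (x * g * x⁻¹).left.appTop ((Scheme.ΓSpecIso (CommRingCat.of A)).inv f) =
          g.left.appTop ((Scheme.ΓSpecIso (CommRingCat.of A)).inv f)) ↔
      cj k A f = (1 : A) ⊗ₜ[k] f := by
  let il : A →ₐ[k] A ⊗[k] A := Algebra.TensorProduct.includeLeft
  let ir : A →ₐ[k] A ⊗[k] A := Algebra.TensorProduct.includeRight
  have hconj : CoactBr.pt il * CoactBr.pt ir * (CoactBr.pt il)⁻¹ = CoactBr.pt (cj k A) := by
    rw [CoactBr.pt_mul_pt, CoactBr.pt_inv, CoactBr.pt_mul_pt]
    rfl
  have happ : ∀ (φ : A →ₐ[k] A ⊗[k] A), (CoactBr.pt φ).left.appTop ((Scheme.ΓSpecIso (CommRingCat.of A)).inv f) =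
      (Scheme.ΓSpecIso (CommRingCat.of (A ⊗[k] A))).inv (φ f) := by
    intro φ
    rw [CoactBr.pt_left]
    exact (congr($(Scheme.ΓSpecIso_inv_naturality (CommRingCat.ofHom φ.toRingHom)) f)).symm
  constructor
  · intro h
    have h0 := h (CoactBr.sp k (A ⊗[k] A)) (CoactBr.pt il) (CoactBr.pt ir)
    rw [hconj, happ, happ] at h0
    exact (Scheme.ΓSpecIso (CommRingCat.of (A ⊗[k] A))).symm.commRingCatIsoToRingEquiv.injective h0
  · intro h T x g
    letI := CoactBr.braidedAlgSpecOf k
    let F := algSpec (CommRingCat.of k)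
    let m : CoactBr.sp k A ⊗ CoactBr.sp k A ⟶ CoactBr.sp k (A ⊗[k] A) :=
      Functor.LaxMonoidal.μ F (Opposite.op (CommAlgCat.of k A)) (Opposite.op (CommAlgCat.of k A))
    haveI : IsIso m :=
      inferInstanceAs (IsIso (Functor.LaxMonoidal.μ F (Opposite.op (CommAlgCat.of k A)) (Opposite.op (CommAlgCat.of k A))))
    let u : T ⟶ CoactBr.sp k (A ⊗[k] A) := lift x g ≫ m
    have hm : m ≫ lift (CoactBr.pt il) (CoactBr.pt ir) = 𝟙 _ := by
      have h1 : lift (CoactBr.pt il) (CoactBr.pt ir) ≫ m = 𝟙 _ := by
        refine (CoactBr.lift_pt_pt il ir).trans ?_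
        rw [show Algebra.TensorProduct.lift il ir (fun _ _ => Commute.all _ _) =
          AlgHom.id k (A ⊗[k] A) from Algebra.TensorProduct.ext (by ext a; simp [il, ir]) (by ext a; simp [il, ir])]
        exact CoactBr.pt_id
      rw [← cancel_mono m, Category.assoc, h1, Category.comp_id, Category.id_comp]
    have hx : u ≫ CoactBr.pt il = x := by
      rw [← lift_fst (CoactBr.pt il) (CoactBr.pt ir), Category.assoc, ← Category.assoc m, hm, Category.id_comp, lift_fst]
    have hg : u ≫ CoactBr.pt ir = g := by
      rw [← lift_snd (CoactBr.pt il) (CoactBr.pt ir), Category.assoc, ← Category.assoc m, hm, Category.id_comp, lift_snd]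
    have key : x * g * x⁻¹ = u ≫ CoactBr.pt (cj k A) := by
      rw [← hconj, MonObj.comp_mul, MonObj.comp_mul, GrpObj.comp_inv, hx, hg]
    rw [key, ← hg]
    refine (congrArg (u.left.appTop) (happ (cj k A))).trans ?_
    refine Eq.trans ?_ (congrArg (u.left.appTop) (happ ir)).symm
    rw [h]
    rfl


/-- Let A be a finitely generated commutative Hopf algebra over the complex numbers all of whose
finite-dimensional comodules are semisimple (a linearly reductive complex linear algebraic group G =
Spec A, connected or not; over the complex numbers these are the groups whose identity component has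
a torus as radical, the reductive groups of the source). For a comodule structure on the coordinate
space ℂ^d with coaction e_i ↦ Σ_j e_j ⊗ a_ji, its character is the element Σ_i a_ii of A. Then (1)
an element f of A is a class function, meaning f(x g x⁻¹) = f(g) for all points x, g of G with
values in any ℂ-scheme, if and only if f is a ℂ-linear combination of characters; and (2) the
characters of finitely many simple comodule structures on coordinate spaces, pairwise non-isomorphic
(no linear isomorphism intertwines the coactions), are linearly independent over ℂ. In other words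
the character map from the complexified representation ring of G to the ring of class functions on G
is bijective. (The source's further assertion that R(G) is a finitely generated algebra for every G
is not restated.) -/
theorem result
    (A : Type) [CommRing A] [HopfAlgebra ℂ A] [Algebra.FiniteType ℂ A]
    (hred : HopfRep.IsLinearlyReductive ℂ A) :
    (∀ f : A,
      (∀ (T : Over (Spec (CommRingCat.of ℂ))) (x g : T ⟶ CoactBr.sp ℂ A),
          (x * g * x⁻¹).left.appTop ((Scheme.ΓSpecIso (CommRingCat.of A)).inv f) =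
            g.left.appTop ((Scheme.ΓSpecIso (CommRingCat.of A)).inv f)) ↔
        f ∈ Submodule.span ℂ (Set.range fun p : (Σ d : ℕ, HopfRep.Comod ℂ A (Fin d → ℂ)) =>
          ∑ i : Fin p.1, TensorProduct.lid ℂ A (LinearMap.rTensor A (LinearMap.proj i)
            (@HopfRep.Comod.coact ℂ A _ _ _ _ (Fin p.1 → ℂ) _ _ p.2 (Pi.single i 1))))) ∧
    (∀ (n : ℕ) (d : Fin n → ℕ) (c : (i : Fin n) → HopfRep.Comod ℂ A (Fin (d i) → ℂ)),
      (∀ i, @HopfRep.IsSimpleComod ℂ A _ _ _ _ (Fin (d i) → ℂ) _ _ (c i)) →
      (∀ i j, i ≠ j → ∀ P : (Fin (d i) → ℂ) ≃ₗ[ℂ] (Fin (d j) → ℂ),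
          LinearMap.rTensor A P.toLinearMap ∘ₗ @HopfRep.Comod.coact ℂ A _ _ _ _ (Fin (d i) → ℂ) _ _ (c i) ≠
            (@HopfRep.Comod.coact ℂ A _ _ _ _ (Fin (d j) → ℂ) _ _ (c j)) ∘ₗ P.toLinearMap) →
      LinearIndependent ℂ (fun i : Fin n => ∑ t : Fin (d i), TensorProduct.lid ℂ A (LinearMap.rTensor A (LinearMap.proj t)
            (@HopfRep.Comod.coact ℂ A _ _ _ _ (Fin (d i) → ℂ) _ _ (c i) (Pi.single t 1))))) := by
  classical
  have hchar : ∀ (d : ℕ) (c : HopfRep.Comod ℂ A (Fin d → ℂ)),
      letI := c
      (∑ i : Fin d, TensorProduct.lid ℂ A (LinearMap.rTensor A (LinearMap.proj i : (Fin d → ℂ) →ₗ[ℂ] ℂ)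
          (HopfRep.Comod.coact (k := ℂ) (A := A) (Pi.single i (1 : ℂ))))) =
        ∑ i, Groth.Agent.Comod.mat A (Pi.basisFun ℂ (Fin d)) i i := by
    intro d c
    refine Finset.sum_congr rfl fun i _ => ?_
    have e : (Pi.basisFun ℂ (Fin d)).coord i = LinearMap.proj i := LinearMap.ext fun x => by simp
    simp [Groth.Agent.Comod.mat, Groth.Agent.Comod.sliceL, e]
  refine ⟨fun f => ?_, ?_⟩
  · rw [class_iff]
    constructor
    · intro hf
      refine Submodule.span_mono ?_ (Groth.Agent.Comod.Characters.mem_span_char hred hf)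
      rintro _ ⟨n, a, ha, rfl⟩
      letI cn : HopfRep.Comod ℂ A (Fin n → ℂ) := Groth.Agent.Comod.ofMatrix (Pi.basisFun ℂ (Fin n)) a ha
      refine ⟨⟨n, cn⟩, ?_⟩
      refine (hchar n cn).trans (Finset.sum_congr rfl fun i _ => ?_)
      rw [Groth.Agent.Comod.mat, Groth.Agent.Comod.ofMatrix_coact _ a ha i, Groth.Agent.Comod.sliceL_sum]
    · intro hf
      induction hf using Submodule.span_induction with
      | mem x hx =>
        obtain ⟨⟨d, c⟩, rfl⟩ := hx
        letI := c
        simp only []
        rw [hchar d c]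
        exact Groth.Agent.Comod.Characters.cj_char (Groth.Agent.Comod.isMat_mat _)
      | zero => simp
      | add p q _ _ hp hq => rw [map_add, hp, hq, TensorProduct.tmul_add]
      | smul r p _ hp => rw [map_smul, hp, TensorProduct.tmul_smul]
  · intro n d c hs hne
    letI : ∀ i, HopfRep.Comod ℂ A (Fin (d i) → ℂ) := c
    haveI : ∀ i, IsSimpleModule (Groth.Agent.Comod.Dual ℂ A) (Fin (d i) → ℂ) := fun i =>
      Groth.Agent.Comod.Characters.isSimpleModule_of_isSimpleComod (hs i)
    have h := Groth.Agent.Comod.Characters.linearIndependent_char (k := ℂ) (A := A) d (fun i => Fin (d i) → ℂ)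
      (fun i => Pi.basisFun ℂ (Fin (d i))) fun i j hij => ⟨fun e => hne i j hij (e.restrictScalars ℂ)
        (Groth.Agent.Comod.isComodHom_restrictScalars (e : (Fin (d i) → ℂ) →ₗ[Groth.Agent.Comod.Dual ℂ A] (Fin (d j) → ℂ))).symm⟩
    have heq : (Groth.Agent.Comod.Characters.char' (A := A) d (fun i => Fin (d i) → ℂ)
        fun i => Pi.basisFun ℂ (Fin (d i))) = _ := funext fun i => (hchar (d i) (c i)).symm
    rw [heq] at h
    exact h

end Groth.Agent.S19102
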