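import Groth.Statements.S19104
import Groth.Agent.RelDiv.Cancel


set_option autoImplicit false
open CategoryTheory CategoryTheory.Limits AlgebraicGeometry
universe u
open HilbD

namespace Groth.Agent.S19104

open Groth.Agent.RelDiv

/-- Let f : X ⟶ S be smooth of relative dimension 1, μ a non-empty Young diagram and n a reversed plane
partition of shape μ (a labelling of the cells by naturals, non-decreasing along rows and columns).
Call relative divisor of degree d a closed subscheme of X, given by a quasi-coherent ideal sheaf,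
whose projection to S is finite locally free of degree d; sums of divisors are products of ideal
sheaves. Then every flag (Z_c)_{c ∈ μ} of relative divisors of degrees n_c which grows along rows
and columns has exactly one system of edge data of type n — the corner divisor Z_00, for each cell
(i,j) with i ≥ 1 a divisor X_ij of degree n_ij − n_{i−1,j} with Z_ij = Z_{i−1,j} + X_ij, and for
each cell with j ≥ 1 a divisor Y_ij of degree n_ij − n_{i,j−1} with Z_ij = Z_{i,j−1} + Y_ij — and
this edge data satisfies X_ij + Y_{i−1,j} = Y_ij + X_{i,j−1} for every cell with i, j ≥ 1. (The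
published statement is for X = C × T ⟶ T with C a smooth irreducible quasi-projective complex curve
and T a complex scheme, and identifies, through T-points, the scheme of such flags with the zero
scheme of a section of a vector bundle on the product of symmetric powers that carries the edge
data; the vanishing of the pulled-back section at a T-point amounts to the containment of Y_ij +
X_{i,j−1} in X_ij + Y_{i−1,j}, which for divisors of equal degree is the equality stated last. Here
f is any smooth morphism of relative dimension 1, and neither the bundle nor its section is formed.) -/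
theorem result {X S : Scheme.{u}} (f : X ⟶ S) [SmoothOfRelativeDimension 1 f]
    (μ : YoungDiagram) (h00 : ((0, 0) : ℕ × ℕ) ∈ μ) (n : ℕ × ℕ → ℕ) (hn : HilbD.IsRevPlanePartition μ n)
    (Z : ∀ c : ℕ × ℕ, c ∈ μ → X.IdealSheafData) (hZ : HilbD.IsDnFlag f μ n Z) :
    (∃! E : HilbD.DnEdgeData μ X, E.IsOfType f n ∧ E.IsEdgesOf h00 Z) ∧
      ∀ E : HilbD.DnEdgeData μ X, E.IsOfType f n → E.IsEdgesOf h00 Z →
        ∀ (c : ℕ × ℕ) (hc : c ∈ μ) (hi : 1 ≤ c.1) (hj : 1 ≤ c.2), E.gammaOne c hc hi hj = E.gammaTwo c hc hi hj := by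
  have hdeg := hZ.1
  have hex : ∀ (c : ℕ × ℕ) (hc : c ∈ μ) (c' : ℕ × ℕ) (hc' : c' ∈ μ), c' ≤ c →
      ∃ K : X.IdealSheafData, Mor2.IsFinLocFreeOfDeg (n c - n c') (K.subschemeι ≫ f) ∧ Z c hc = Z c' hc' * K :=
    fun c hc c' hc' h => exists_step (hZ.2 c' c hc' hc h) (hdeg c' hc') (hdeg c hc)
  have hup : ∀ c : ℕ × ℕ, ((c.1 - 1, c.2) : ℕ × ℕ) ≤ c := fun c => ⟨Nat.sub_le _ _, le_rfl⟩
  have hleft : ∀ c : ℕ × ℕ, ((c.1, c.2 - 1) : ℕ × ℕ) ≤ c := fun c => ⟨le_rfl, Nat.sub_le _ _⟩
  choose K hK hKe using hex
  refine ⟨⟨⟨Z (0, 0) h00, fun c hc _ => K c hc _ (mem_up hc) (hup c), fun c hc _ => K c hc _ (mem_left hc) (hleft c)⟩,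
    ⟨⟨hdeg _ h00, fun c hc _ => hK c hc _ _ _, fun c hc _ => hK c hc _ _ _⟩,
      rfl, fun c hc _ => hKe c hc _ _ _, fun c hc _ => hKe c hc _ _ _⟩, ?_⟩, ?_⟩
  · rintro E ⟨_, hb, hv, hh⟩
    apply DnEdgeData.ext
    · exact hb.symm
    · funext c hc hi
      exact mul_left_cancel (cartier_of_div (hdeg _ (mem_up hc)).1) ((hv c hc hi).symm.trans (hKe c hc _ _ (hup c)))
    · funext c hc hj
      exact mul_left_cancel (cartier_of_div (hdeg _ (mem_left hc)).1) ((hh c hc hj).symm.trans (hKe c hc _ _ (hleft c)))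
  · intro E _ hE c hc hi hj
    apply mul_left_cancel (cartier_of_div (hdeg _ (mem_left (mem_up hc))).1)
    have e1 := hE.2.1 c hc hi
    rw [hE.2.2 (c.1 - 1, c.2) (mem_up hc) hj] at e1
    have e2 := hE.2.2 c hc hj
    rw [hE.2.1 (c.1, c.2 - 1) (mem_left hc) hi] at e2
    show Z (c.1 - 1, c.2 - 1) _ * (E.vert c hc hi * E.horiz (c.1 - 1, c.2) (mem_up hc) hj) =
      Z (c.1 - 1, c.2 - 1) _ * (E.horiz c hc hj * E.vert (c.1, c.2 - 1) (mem_left hc) hi)
    rw [mul_comm (E.vert c hc hi), mul_comm (E.horiz c hc hj), ← mul_assoc, ← mul_assoc]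
    exact e1.symm.trans e2

end Groth.Agent.S19104
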