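import Groth.Statements.S19105
import Groth.Agent.RelDiv.Cancel


set_option autoImplicit false
open CategoryTheory CategoryTheory.Limits AlgebraicGeometry
universe u
open HilbD

namespace Groth.Agent.S19105

open Groth.Agent.RelDiv

/-- Let f : X ⟶ S be smooth of relative dimension 1, μ a non-empty Young diagram and n a reversed plane
partition of shape μ (a labelling of the cells by naturals, non-decreasing along rows and columns).
Call relative divisor of degree d a closed subscheme of X, given by a quasi-coherent ideal sheaf,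
whose projection to S is finite locally free of degree d; sums of divisors are products of ideal
sheaves. Let edge data of type n be given: a relative divisor Z_00 of degree n_00, for each cell
(i,j) with i ≥ 1 a relative divisor X_ij of degree n_ij − n_{i−1,j} and for each cell with j ≥ 1 a
relative divisor Y_ij of degree n_ij − n_{i,j−1}, such that for every cell with i, j ≥ 1 the divisor
Y_ij + X_{i,j−1} is contained in X_ij + Y_{i−1,j} (containment of ideal sheaves the other way). Then
there is exactly one flag (Z_c)_{c ∈ μ} of relative divisors of degrees n_c, growing along rows and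
columns, with corner Z_00 and with Z_ij = Z_{i−1,j} + X_ij and Z_ij = Z_{i,j−1} + Y_ij throughout.
(The published statement is for X = C × T ⟶ T with C a smooth irreducible quasi-projective complex
curve and T a complex scheme, and identifies, through T-points, the scheme of such flags with the
zero scheme of a section of a vector bundle on the product of symmetric powers that carries the edge
data; the vanishing of the pulled-back section at a T-point amounts to the stated containment of
divisors. Here f is any smooth morphism of relative dimension 1, and neither the bundle nor its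
section is formed.) -/
theorem result {X S : Scheme.{u}} (f : X ⟶ S) [SmoothOfRelativeDimension 1 f]
    (μ : YoungDiagram) (h00 : ((0, 0) : ℕ × ℕ) ∈ μ) (n : ℕ × ℕ → ℕ) (hn : HilbD.IsRevPlanePartition μ n)
    (E : HilbD.DnEdgeData μ X) (hE : E.IsOfType f n)
    (hcomm : ∀ (c : ℕ × ℕ) (hc : c ∈ μ) (hi : 1 ≤ c.1) (hj : 1 ≤ c.2), E.gammaOne c hc hi hj ≤ E.gammaTwo c hc hi hj) :
    ∃! Z : ∀ c : ℕ × ℕ, c ∈ μ → X.IdealSheafData, HilbD.IsDnFlag f μ n Z ∧ E.IsEdgesOf h00 Z := by
  let v : ℕ → ℕ → X.IdealSheafData := fun i j => if h : (i, j) ∈ μ ∧ 1 ≤ i then E.vert (i, j) h.1 h.2 else ⊤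
  let w : ℕ → ℕ → X.IdealSheafData := fun i j => if h : (i, j) ∈ μ ∧ 1 ≤ j then E.horiz (i, j) h.1 h.2 else ⊤
  let A : ℕ → X.IdealSheafData := fun i => Nat.rec E.base (fun k acc => acc * v (k + 1) 0) i
  let W : ℕ → ℕ → X.IdealSheafData := fun i j => Nat.rec (A i) (fun k acc => acc * w i (k + 1)) j
  have hv : ∀ i j (hc : (i + 1, j) ∈ μ), v (i + 1) j = E.vert (i + 1, j) hc (Nat.le_add_left 1 i) := fun i j hc =>
    dif_pos ⟨hc, Nat.le_add_left 1 i⟩
  have hw : ∀ i j (hc : (i, j + 1) ∈ μ), w i (j + 1) = E.horiz (i, j + 1) hc (Nat.le_add_left 1 j) := fun i j hc =>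
    dif_pos ⟨hc, Nat.le_add_left 1 j⟩
  have hup : ∀ {i j}, (i + 1, j) ∈ μ → (i, j) ∈ μ := fun h => mem_up h
  have hleft : ∀ {i j}, (i, j + 1) ∈ μ → (i, j) ∈ μ := fun h => mem_left h
  have hsq : ∀ i j (_ : (i + 1, j + 1) ∈ μ), v (i + 1) (j + 1) * w i (j + 1) = w (i + 1) (j + 1) * v (i + 1) j := by
    intro i j hc
    rw [hv i (j + 1) hc, hw i j (hup hc), hw (i + 1) j hc, hv i j (hleft hc)]
    have m1 := hn (hup (hleft hc)) (hup hc) ⟨le_rfl, Nat.le_succ j⟩
    have m2 := hn (hup hc) hc ⟨Nat.le_succ i, le_rfl⟩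
    have m3 := hn (hup (hleft hc)) (hleft hc) ⟨Nat.le_succ i, le_rfl⟩
    have m4 := hn (hleft hc) hc ⟨le_rfl, Nat.le_succ j⟩
    have d1 : Mor2.IsFinLocFreeOfDeg ((n (i + 1, j + 1) - n (i, j + 1)) + (n (i, j + 1) - n (i, j)))
        ((E.vert (i + 1, j + 1) hc (Nat.le_add_left 1 i) * E.horiz (i, j + 1) (hup hc) (Nat.le_add_left 1 j)).subschemeι ≫ f) :=
      isFinLocFreeOfDeg_mul (hE.2.1 _ hc _) (hE.2.2 _ (hup hc) _)
    have d2 : Mor2.IsFinLocFreeOfDeg ((n (i + 1, j + 1) - n (i + 1, j)) + (n (i + 1, j) - n (i, j)))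
        ((E.horiz (i + 1, j + 1) hc (Nat.le_add_left 1 j) * E.vert (i + 1, j) (hleft hc) (Nat.le_add_left 1 i)).subschemeι ≫ f) :=
      isFinLocFreeOfDeg_mul (hE.2.2 _ hc _) (hE.2.1 _ (hleft hc) _)
    rw [show (n (i + 1, j + 1) - n (i + 1, j)) + (n (i + 1, j) - n (i, j)) =
      (n (i + 1, j + 1) - n (i, j + 1)) + (n (i, j + 1) - n (i, j)) by omega] at d2
    exact eq_of_le_of_deg (hcomm (i + 1, j + 1) hc (Nat.le_add_left 1 i) (Nat.le_add_left 1 j)) d2 d1
  have hvert : ∀ i j, (i + 1, j) ∈ μ → W (i + 1) j = W i j * v (i + 1) j := by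
    intro i j
    induction j with
    | zero => exact fun _ => rfl
    | succ k ih =>
      intro hc
      show W (i + 1) k * w (i + 1) (k + 1) = W i k * w i (k + 1) * v (i + 1) (k + 1)
      rw [ih (hleft hc), mul_assoc, mul_assoc, mul_comm (w i (k + 1)), hsq i k hc, mul_comm (v (i + 1) k)]
  have hdeg : ∀ j i (_ : (i, j) ∈ μ), Mor2.IsFinLocFreeOfDeg (n (i, j)) ((W i j).subschemeι ≫ f) := by
    intro j
    induction j with
    | zero =>
      intro i
      induction i with
      | zero => exact fun _ => hE.1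
      | succ k ih =>
        intro hc
        have h := isFinLocFreeOfDeg_mul (ih (hup hc)) (hE.2.1 (k + 1, 0) hc (Nat.le_add_left 1 k))
        have m := hn (hup hc) hc ⟨Nat.le_succ k, le_rfl⟩
        rw [show n (k, 0) + (n (k + 1, 0) - n ((k + 1, 0).1 - 1, (k + 1, 0).2)) = n (k + 1, 0) by
          simp only [Nat.add_sub_cancel]; omega, ← hv k 0 hc] at h
        exact h
    | succ l ih =>
      intro i hc
      have h := isFinLocFreeOfDeg_mul (ih i (hleft hc)) (hE.2.2 (i, l + 1) hc (Nat.le_add_left 1 l))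
      have m := hn (hleft hc) hc ⟨le_rfl, Nat.le_succ l⟩
      rw [show n (i, l) + (n (i, l + 1) - n ((i, l + 1).1, (i, l + 1).2 - 1)) = n (i, l + 1) by
        simp only [Nat.add_sub_cancel]; omega, ← hw i l hc] at h
      exact h
  have hrow : ∀ i {j j'}, j ≤ j' → W i j' ≤ W i j := by
    intro i j j' h
    induction h with
    | refl => exact le_rfl
    | step _ ih => exact (mul_le_fst _ _).trans ih
  have hcol : ∀ j {i i'}, i ≤ i' → (i', j) ∈ μ → W i' j ≤ W i j := by
    intro j i i' h
    induction h with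
    | refl => exact fun _ => le_rfl
    | step _ ih => exact fun hc => ((hvert _ j hc).le.trans (mul_le_fst _ _)).trans (ih (hup hc))
  refine ⟨fun c _ => W c.1 c.2, ⟨⟨fun c hc => hdeg c.2 c.1 hc, fun c c' _ hc' h => ?_⟩, rfl, ?_, ?_⟩, ?_⟩
  · exact (hrow c'.1 h.2).trans (hcol c.2 h.1 (μ.up_left_mem le_rfl h.2 hc'))
  · rintro ⟨i, j⟩ hc hi
    obtain ⟨i, rfl⟩ : ∃ k, i = k + 1 := ⟨i - 1, (Nat.sub_add_cancel hi).symm⟩
    show W (i + 1) j = W i j * _
    rw [hvert i j hc, hv i j hc]
  · rintro ⟨i, j⟩ hc hj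
    obtain ⟨j, rfl⟩ : ∃ k, j = k + 1 := ⟨j - 1, (Nat.sub_add_cancel hj).symm⟩
    show W i j * w i (j + 1) = W i j * _
    rw [hw i j hc]
  · rintro Z ⟨-, hb, hzv, hzh⟩
    funext c hc
    obtain ⟨i, j⟩ := c
    induction j generalizing i with
    | zero =>
      induction i with
      | zero => exact hb
      | succ k ih =>
        rw [hzv (k + 1, 0) hc (Nat.le_add_left 1 k)]
        show Z (k, 0) _ * _ = W k 0 * v (k + 1) 0
        rw [hv k 0 hc, ih (hup hc)]
    | succ l ih =>
      rw [hzh (i, l + 1) hc (Nat.le_add_left 1 l)]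
      show Z (i, l) _ * _ = W i l * w i (l + 1)
      rw [hw i l hc, ih i (hleft hc)]

end Groth.Agent.S19105
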