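import Groth.Statements.S19106
-- import your own Groth.Agent.* helpers here

set_option autoImplicit false
open HilbD

namespace Groth.Agent.S19106

/-- Let μ be a non-empty Young diagram, V the number of its cells, E the number of unordered pairs of
cells sharing a side (a cell together with the cell immediately below it, or immediately to its
right, both in μ) and Q the number of 2 × 2 blocks of cells of μ (cells c such that the cell
diagonally below-right of c is in μ, the other two corners being in μ automatically). Then V − E + Q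
− 1 = 0, stated as V + Q = E + 1 in the naturals. (The empty diagram, for which the count reads 0 −
0 + 0 − 1, is excluded.) -/
theorem result (μ : YoungDiagram) (hμ : μ ≠ ⊥) :
    μ.cells.card + (μ.cells.filter (fun c => (c.1 + 1, c.2 + 1) ∈ μ)).card =
      (μ.cells.filter (fun c => (c.1 + 1, c.2) ∈ μ)).card + (μ.cells.filter (fun c => (c.1, c.2 + 1) ∈ μ)).card + 1 := by
  classical
  have h00 : ((0, 0) : ℕ × ℕ) ∈ μ.cells := by
    obtain ⟨⟨a, b⟩, hc⟩ := Finset.nonempty_iff_ne_empty.mpr (fun h => hμ (YoungDiagram.ext h))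
    exact μ.up_left_mem (Nat.zero_le a) (Nat.zero_le b) hc
  have e1 : (μ.cells.filter (fun c => (c.1 + 1, c.2) ∈ μ)).card =
      (μ.cells.filter (fun c => 1 ≤ c.1)).card := by
    refine Finset.card_nbij' (fun c => (c.1 + 1, c.2)) (fun c => (c.1 - 1, c.2)) ?_ ?_ ?_ ?_ <;>
      rintro ⟨a, b⟩ hc <;> simp_all
    exact μ.up_left_mem (Nat.sub_le _ _) le_rfl hc.1
  have e2 : (μ.cells.filter (fun c => (c.1, c.2 + 1) ∈ μ)).card =
      (μ.cells.filter (fun c => 1 ≤ c.2)).card := by
    refine Finset.card_nbij' (fun c => (c.1, c.2 + 1)) (fun c => (c.1, c.2 - 1)) ?_ ?_ ?_ ?_ <;>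
      rintro ⟨a, b⟩ hc <;> simp_all
    exact μ.up_left_mem le_rfl (Nat.sub_le _ _) hc.1
  have e3 : (μ.cells.filter (fun c => (c.1 + 1, c.2 + 1) ∈ μ)).card =
      (μ.cells.filter (fun c => 1 ≤ c.1 ∧ 1 ≤ c.2)).card := by
    refine Finset.card_nbij' (fun c => (c.1 + 1, c.2 + 1)) (fun c => (c.1 - 1, c.2 - 1)) ?_ ?_ ?_ ?_ <;>
      rintro ⟨a, b⟩ hc <;> simp_all
    exact μ.up_left_mem (Nat.sub_le _ _) (Nat.sub_le _ _) hc.1
  rw [e1, e2, e3]
  have h1 := Finset.card_union_add_card_inter (μ.cells.filter (fun c => 1 ≤ c.1))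
    (μ.cells.filter (fun c => 1 ≤ c.2))
  have h2 : μ.cells.filter (fun c => 1 ≤ c.1) ∩ μ.cells.filter (fun c => 1 ≤ c.2) =
      μ.cells.filter (fun c => 1 ≤ c.1 ∧ 1 ≤ c.2) := by
    ext c; simp; tauto
  have h3 : μ.cells.filter (fun c => 1 ≤ c.1) ∪ μ.cells.filter (fun c => 1 ≤ c.2) =
      μ.cells.erase (0, 0) := by
    ext ⟨a, b⟩; simp only [Finset.mem_union, Finset.mem_filter, Finset.mem_erase, ne_eq, Prod.mk.injEq]; constructor <;> intro h <;> grind
  rw [h2, h3, Finset.card_erase_of_mem h00] at h1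
  have := Finset.card_pos.mpr ⟨_, h00⟩
  omega

end Groth.Agent.S19106
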