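import Groth.Statements.S19116
import Groth.Agent.StModLib.TermPair
import Groth.Agent.StFib.QC

set_option autoImplicit false
set_option backward.isDefEq.respectTransparency false
set_option backward.isDefEq.respectTransparency.types false
universe u
open CategoryTheory AlgebraicGeometry
open StMod

namespace Groth.Agent.S19116

/-- In the case of a morphism to an algebraic space, let `S` be a quasi-separated scheme, `𝒳` an
algebraic stack over `(Sch/S)` for the fppf topology, `M` an algebraic space over `S` that is
quasi-separated over `S`, and `π : 𝒳 ⟶ M` a morphism that is representable by algebraic spaces and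
affine. Then `π` is cohomologically affine and quasi-compact: pushforward along `π` takes
surjections of quasi-coherent modules to maps surjective on sections over every affine scheme etale
over `M`. (The printed item is for affine morphisms between arbitrary algebraic stacks; the target
is an algebraic space here. Standing conventions of the source: all algebraic spaces and morphisms
are quasi-separated.) -/
theorem result
    (S : Scheme.{u}) [QuasiSeparatedSpace S]
    (𝒳 : AlgSt.Cat S) (h𝒳 : AlgSt.IsAlgStack Scheme.fppfPrecoverage 𝒳)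
    (M : AlgSp.Space S) (hM : AlgSp.IsQuasiSeparatedSp M.obj) (π : 𝒳 ⥤ᵇ AlgSt.ofSp M.obj)
    (hπ : AlgSt.RepByAlgSpWith AlgSp.IsAffineMor π) :
    StMod.IsCohAffine π ∧ AlgSt.IsQuasiCompactMor Scheme.fppfPrecoverage π := by
  have hM' : AlgSt.IsAlgStack Scheme.fppfPrecoverage (AlgSt.ofSp M.obj) :=
    Groth.Agent.StFib.isAlgStack_ofSp M.property
  refine ⟨fun F G u hu E hE t => ?_, ?_⟩
  · obtain ⟨w, α, hw, huniq⟩ := Groth.Agent.StModLib.exists_terminal_pair IsAffine
      Groth.Agent.StModLib.exists_affine_of_isAffineMor hM'.isStack.1 π hπ (StMod.etaOf E) hE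
    obtain ⟨x, hx⟩ := hu w hw (t.1 w α)
    choose φ hφ huq using huniq
    refine ⟨⟨fun ξ β => F.obj.mapTop (φ ξ β) x, fun ξ' ξ ψ β => ?_⟩,
      StMod.Mod.RelSect.ext _ _ _ fun ξ β => ?_⟩
    · show F.obj.mapTop ψ (F.obj.mapTop (φ ξ β) x) = F.obj.mapTop (φ ξ' _) x
      rw [← StMod.Mod.mapTop_comp, huq ξ' (π.map ψ ≫ β) (ψ ≫ φ ξ β) (by simp [hφ ξ β])]
    · show (u.hom.app ξ).app ⊤ (F.obj.mapTop (φ ξ β) x) = t.1 ξ β
      rw [← StMod.Mod.mapTop_app, hx, t.2 (φ ξ β) α, hφ ξ β]
  · refine Groth.Agent.StFib.isQuasiCompactMor_of_rep h𝒳 hM' (fun U y => ?_)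
    obtain ⟨F, e, he, hF⟩ := hπ U y
    exact ⟨F, e, he, Groth.Agent.AlgSp.isQuasiCompactMor_of_affine F.property
      (Groth.Agent.StFib.isAlgSpace_yon U) _ (fun Z hZ g P fst snd sq => by
        obtain ⟨W, i, fst', sq', hW⟩ := hF hZ g
        have : IsAffine W.left := hW
        have : CompactSpace W.left := inferInstance
        have := Groth.Agent.AlgSp.compactSpace_yon W
        have j := sq'.isoIsPullback _ _ sq
        exact Groth.Agent.AlgSp.compactSpace_of_surjective j.hom (fun x => ⟨AlgSp.Points.map j.inv x, by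
          rw [← AlgSp.Points.map_comp, j.inv_hom_id, AlgSp.Points.map_id]⟩))⟩

end Groth.Agent.S19116
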