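import Groth.Statements.S19127
import Groth.Agent.HSLNil.Core
import Groth.Agent.S5158
import Mathlib.RingTheory.AdicCompletion.LocalRing
import Mathlib.Algebra.Module.Shrink

set_option autoImplicit false
universe u v
open FrobAlg

namespace Groth.Agent.S19127

section aux

open IsLocalRing TensorProduct

universe w

variable {A : Type u} [CommRing A] [IsNoetherianRing A] [IsLocalRing A]

omit [IsNoetherianRing A] [IsLocalRing A] in
lemma mem_tb {M : Type w} [AddCommGroup M] [Module A M] {I : Ideal A} {x : M} :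
    x ∈ LocCoh.torsionBy I M ↔ ∀ a ∈ I, a • x = 0 := by
  simp [Submodule.mem_torsionBySet_iff]

lemma finite_torsionBy_pow {M : Type w} [AddCommGroup M] [Module A M]
    (hsoc : Module.Finite A ↥(LocCoh.torsionBy (maximalIdeal A) M)) (n : ℕ) :
    Module.Finite A ↥(LocCoh.torsionBy (maximalIdeal A ^ n) M) := by
  classical
  induction n with
  | zero =>
    have : Subsingleton ↥(LocCoh.torsionBy (maximalIdeal A ^ 0) M) := ⟨fun x y => Subtype.ext (by
      have hx := mem_tb.mp x.2 1 (by simp)
      have hy := mem_tb.mp y.2 1 (by simp)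
      rw [one_smul] at hx hy
      rw [hx, hy])⟩
    infer_instance
  | succ n ih =>
    obtain ⟨s, hs⟩ := (IsNoetherian.noetherian (maximalIdeal A) : (maximalIdeal A).FG)
    let T := LocCoh.torsionBy (maximalIdeal A ^ (n + 1)) M
    let g : ↥T →ₗ[A] (↥s → ↥(LocCoh.torsionBy (maximalIdeal A ^ n) M)) := LinearMap.pi fun a =>
      ((LinearMap.lsmul A M (a : A)).comp T.subtype).codRestrict _ fun x => mem_tb.mpr fun b hb => by
        show b • (a : A) • (x : M) = 0
        rw [← mul_smul]
        refine mem_tb.mp x.2 _ ?_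
        rw [pow_succ]
        exact Ideal.mul_mem_mul hb (hs ▸ Ideal.subset_span a.2)
    have hker : ∀ x ∈ LinearMap.ker g, (x : M) ∈ LocCoh.torsionBy (maximalIdeal A) M := by
      intro x hx
      rw [mem_tb]
      intro b hb
      rw [← hs] at hb
      induction hb using Submodule.span_induction with
      | mem c hc => exact congrArg Subtype.val (congrFun hx ⟨c, hc⟩)
      | zero => exact zero_smul A _
      | add c d _ _ hc hd => rw [add_smul, hc, hd, add_zero]
      | smul c d _ hd => rw [smul_eq_mul, mul_smul, hd, smul_zero]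
    have h1 : IsNoetherian A ↥(LinearMap.ker g) := isNoetherian_of_injective
      ((T.subtype.comp (LinearMap.ker g).subtype).codRestrict (LocCoh.torsionBy (maximalIdeal A) M)
        fun x => hker x.1 x.2)
      (fun x y h => Subtype.ext (Subtype.ext ((Subtype.ext_iff.mp h) :)))
    have h2 : IsNoetherian A ↥(LinearMap.range g) := inferInstance
    have : IsNoetherian A ↥T := isNoetherian_of_range_eq_ker (LinearMap.ker g).subtype g.rangeRestrict
      (by rw [Submodule.range_subtype, LinearMap.ker_rangeRestrict])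
    exact Module.IsNoetherian.finite A ↥T

lemma small_of_cofinite {M : Type w} [AddCommGroup M] [Module A M]
    (htors : LocCoh.IsPowerTorsion (maximalIdeal A) M)
    (hsoc : Module.Finite A ↥(LocCoh.torsionBy (maximalIdeal A) M)) : Small.{u} M := by
  have : ∀ n : ℕ, Small.{u} ↥(LocCoh.torsionBy (maximalIdeal A ^ n) M) := fun n => by
    have := finite_torsionBy_pow hsoc n
    obtain ⟨k, g, hg⟩ := Module.Finite.exists_fin' A ↥(LocCoh.torsionBy (maximalIdeal A ^ n) M)
    exact small_of_surjective hg
  refine small_of_surjective (f := fun x : (n : ℕ) × ↥(LocCoh.torsionBy (maximalIdeal A ^ n) M) => (x.2 : M)) ?_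
  intro x
  obtain ⟨n, hn⟩ := htors x
  exact ⟨⟨n, x, mem_tb.mpr hn⟩, rfl⟩

lemma nilpotent_small {M : Type u} [AddCommGroup M] [Module A M] [IsArtinian A M] {p : ℕ}
    (hp : 2 ≤ p) (φ : M →+ M) (hφ : ∀ (a : A) (x : M), φ (a • x) = a ^ p • φ x)
    (hloc : ∀ x : M, ∃ n : ℕ, φ^[n] x = 0) : ∃ n : ℕ, ∀ x : M, φ^[n] x = 0 := by
  let m := maximalIdeal A
  let C := AdicCompletion m A
  have htors : LocCoh.IsPowerTorsion m M := InjHull.Matlis.isPowerTorsion_of_isArtinian M
  let e : M ≃ₗ[A] C ⊗[A] M :=
    LinearEquiv.ofBijective (TensorProduct.mk A C M 1) (S5158.result A M htors)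
  have : IsNoetherianRing C :=
    RegLoc.AdicNoeth.isNoetherianRing_adicCompletion _ (IsNoetherian.noetherian _)
  have : IsArtinian A (C ⊗[A] M) := e.isArtinian_iff.mp inferInstance
  have : IsArtinian C (C ⊗[A] M) := isArtinian_of_tower A inferInstance
  let ψ : C ⊗[A] M →+ C ⊗[A] M := (e.toAddEquiv.toAddMonoidHom.comp φ).comp e.symm.toAddEquiv.toAddMonoidHom
  have hψe : ∀ x, ψ (e x) = e (φ x) := fun x => by simp [ψ]
  have hψit : ∀ (n : ℕ) (x : M), ψ^[n] (e x) = e (φ^[n] x) := by
    intro n
    induction n with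
    | zero => intro x; rfl
    | succ n ih => intro x; rw [Function.iterate_succ_apply', Function.iterate_succ_apply', ih, hψe]
  have hψ : ∀ (c : C) (z : C ⊗[A] M), ψ (c • z) = c ^ p • ψ z := by
    intro c z
    obtain ⟨x, rfl⟩ := e.surjective z
    obtain ⟨n₁, hn₁⟩ := htors x
    obtain ⟨n₂, hn₂⟩ := htors (φ x)
    let n := n₁ + n₂
    have hz : ∀ y : M, (∀ a ∈ m ^ n, a • y = 0) →
        ∀ d ∈ (m ^ n).map (algebraMap A C), d • e y = 0 := by
      intro y hy d hd
      induction hd using Submodule.span_induction with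
      | mem d hd =>
        obtain ⟨a, ha, rfl⟩ := hd
        rw [algebraMap_smul, ← map_smul, hy a ha, map_zero]
      | zero => exact zero_smul C _
      | add a b _ _ ha hb => rw [add_smul, ha, hb, add_zero]
      | smul a b _ hb => rw [smul_eq_mul, mul_smul, hb, smul_zero]
    obtain ⟨r, hr⟩ : ∃ r : A, c - algebraMap A C r ∈ (m ^ n).map (algebraMap A C) := by
      obtain ⟨r, hr⟩ := Ideal.Quotient.mk_surjective (AdicCompletion.evalₐ m n c)
      refine ⟨r, ?_⟩
      have hmem : c - algebraMap A C r ∈ m ^ n • (⊤ : Submodule A C) := by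
        rw [AdicCompletion.pow_smul_top_eq_ker_eval (IsNoetherian.noetherian m), LinearMap.mem_ker,
          map_sub, sub_eq_zero]
        have h : (m ^ n • ⊤ : Ideal A) = m ^ n := by ext y; simp
        apply (Ideal.quotientEquivAlgOfEq A h).injective
        change AdicCompletion.evalₐ m n c = AdicCompletion.evalₐ m n (algebraMap A C r)
        rw [AlgHom.commutes]; exact hr.symm
      rwa [Ideal.smul_top_eq_map, Submodule.restrictScalars_mem] at hmem
    have hx0 : ∀ a ∈ m ^ n, a • x = 0 := fun a ha => hn₁ a (Ideal.pow_le_pow_right (Nat.le_add_right _ _) ha)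
    have hy0 : ∀ a ∈ m ^ n, a • φ x = 0 := fun a ha => hn₂ a (Ideal.pow_le_pow_right (Nat.le_add_left _ _) ha)
    have h1 : c • e x = e (r • x) := by
      have := hz x hx0 _ hr
      rw [sub_smul, algebraMap_smul, ← e.map_smul r x, sub_eq_zero] at this
      exact this
    have h2 : c ^ p • e (φ x) = e (r ^ p • φ x) := by
      have hd : c ^ p - algebraMap A C (r ^ p) ∈ (m ^ n).map (algebraMap A C) := by
        rw [map_pow]
        exact Ideal.mem_of_dvd _ (sub_dvd_pow_sub_pow c (algebraMap A C r) p) hr
      have := hz (φ x) hy0 _ hd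
      rw [sub_smul, algebraMap_smul, ← e.map_smul (r ^ p) (φ x), sub_eq_zero] at this
      exact this
    rw [h1, hψe, hψe, hφ, h2]
  obtain ⟨n, hn⟩ := HSLNil.exists_iterate_eq_zero hp ψ hψ fun z => by
    obtain ⟨x, rfl⟩ := e.surjective z
    obtain ⟨n, hn⟩ := hloc x
    exact ⟨n, by rw [hψit, hn, map_zero]⟩
  refine ⟨n, fun x => e.injective ?_⟩
  rw [← hψit, hn, map_zero]

end aux

/-- Let p be a prime, A a Noetherian local ring of characteristic p with maximal ideal m, and M an
A-module which is cofinite, meaning that every element of M is annihilated by some power of m and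
that the socle of M (the elements annihilated by m) is a finitely generated A-module. Let φ : M → M
be an additive map that is semilinear for the Frobenius of A, φ(a x) = a^p φ(x). If φ is locally
nilpotent, i.e. every element of M is annihilated by some iterate of φ, then φ is nilpotent: one
iterate of φ is zero on all of M. -/
theorem result
    (p : ℕ) [Fact p.Prime] (A : Type u) [CommRing A] [IsNoetherianRing A] [IsLocalRing A] [CharP A p]
    (M : Type v) [AddCommGroup M] [Module A M]
    (htors : LocCoh.IsPowerTorsion (IsLocalRing.maximalIdeal A) M)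
    (hsoc : Module.Finite A ↥(LocCoh.torsionBy (IsLocalRing.maximalIdeal A) M))
    (φ : M →ₛₗ[frobenius A p] M)
    (hloc : ∀ x : M, ∃ n : ℕ, (⇑φ)^[n] x = 0) :
    ∃ n : ℕ, ∀ x : M, (⇑φ)^[n] x = 0 := by
  have := small_of_cofinite htors hsoc
  let M' := Shrink.{u} M
  let e : M' ≃ₗ[A] M := Shrink.linearEquiv.{u} A M
  have htors' : LocCoh.IsPowerTorsion (IsLocalRing.maximalIdeal A) M' := fun x => by
    obtain ⟨n, hn⟩ := htors (e x)
    exact ⟨n, fun a ha => e.injective (by rw [map_smul, hn a ha, map_zero])⟩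
  have hmaps : ∀ x : ↥(LocCoh.torsionBy (IsLocalRing.maximalIdeal A) M'),
      e x.1 ∈ LocCoh.torsionBy (IsLocalRing.maximalIdeal A) M := fun x => mem_tb.mpr fun b hb => by
    rw [← map_smul, mem_tb.mp x.2 b hb, map_zero]
  have : Module.Finite A ↥(LocCoh.torsionBy (IsLocalRing.maximalIdeal A) M') :=
    Module.Finite.of_injective ((e.toLinearMap.comp (Submodule.subtype _)).codRestrict _ hmaps)
      (fun x y h => Subtype.ext (e.injective ((Subtype.ext_iff.mp h) :)))
  have : IsArtinian A M' := (InjHull.Matlis.isArtinian_iff M').mpr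
    ⟨htors', Module.Finite.of_restrictScalars_finite A _ _⟩
  let φ' : M' →+ M' := (e.symm.toAddEquiv.toAddMonoidHom.comp φ.toAddMonoidHom).comp e.toAddEquiv.toAddMonoidHom
  have hit : ∀ (n : ℕ) (x : M'), e (φ'^[n] x) = (⇑φ)^[n] (e x) := by
    intro n
    induction n with
    | zero => intro x; rfl
    | succ n ih =>
      intro x
      rw [Function.iterate_succ_apply', Function.iterate_succ_apply', ← ih]
      exact e.apply_symm_apply _
  obtain ⟨n, hn⟩ := nilpotent_small (Fact.out : p.Prime).two_le φ' (fun (a : A) (x : M') => e.injective (by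
    show e (e.symm (φ (e (a • x)))) = e (a ^ p • e.symm (φ (e x)))
    rw [map_smul e, map_smulₛₗ φ, map_smul e, e.apply_symm_apply, e.apply_symm_apply]
    rfl)) (fun x => by
    obtain ⟨n, hn⟩ := hloc (e x)
    exact ⟨n, e.injective (by rw [hit, hn, map_zero])⟩)
  refine ⟨n, fun x => ?_⟩
  obtain ⟨x, rfl⟩ := e.surjective x
  rw [← hit, hn, map_zero]

end Groth.Agent.S19127
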