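import Groth.Statements.S19130
import Groth.Agent.EtAcDepth.Piece
import Groth.Agent.EtaleSite.OpenImm
import Groth.Agent.EtLimit.SysCoh

set_option autoImplicit false
set_option backward.isDefEq.respectTransparency false
universe u
open CategoryTheory CategoryTheory.Limits AlgebraicGeometry Opposite
open EtCoh

namespace Groth.Agent.S19130

open CategoryTheory CategoryTheory.Limits AlgebraicGeometry EtaleSite EtaleSite.ConstSections

/-- The unit of an open immersion is invertible at direct images from the open. -/
theorem isIso_unit_push {X U : Scheme.{u}} (j : U ⟶ X) [IsOpenImmersion j] (K : EtCoh.Ab U) :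
    IsIso ((EtCoh.pullPushAdj j).unit.app ((EtCoh.push j).obj K)) := by
  haveI := EtaleSite.isIso_counit_pullPush j K
  have h := (EtCoh.pullPushAdj j).right_triangle_components K
  haveI : IsIso ((EtCoh.pullPushAdj j).unit.app ((EtCoh.push j).obj K) ≫
      (EtCoh.push j).map ((EtCoh.pullPushAdj j).counit.app K)) := by
    rw [h]
    exact IsIso.id _
  exact IsIso.of_isIso_comp_right _ ((EtCoh.push j).map ((EtCoh.pullPushAdj j).counit.app K))

/-- Units at isomorphic objects. -/
theorem isIso_unit_of_iso {X U : Scheme.{u}} (j : U ⟶ X) {F G : EtCoh.Ab X} (e : F ≅ G)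
    (h : IsIso ((EtCoh.pullPushAdj j).unit.app F)) : IsIso ((EtCoh.pullPushAdj j).unit.app G) := by
  haveI := h
  have hn := (EtCoh.pullPushAdj j).unit.naturality e.inv
  haveI : IsIso ((EtCoh.pullPushAdj j).unit.app G ≫ (EtCoh.pull j ⋙ EtCoh.push j).map e.inv) := by
    rw [← hn]
    infer_instance
  exact IsIso.of_isIso_comp_right _ ((EtCoh.pull j ⋙ EtCoh.push j).map e.inv)

/-- Let p be a prime and Y an integral scheme which is normal (every local ring is integrally closed in
its fraction field) and whose function field is algebraically closed. Then the étale cohomology of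
the constant sheaf Z/p on Y is Z/p in degree 0 and vanishes in positive degrees: H^0(Y_et, Z/p) has
exactly p elements and H^i(Y_et, Z/p) = 0 for i > 0. Moreover, for every nonempty open subscheme j :
U → Y, the unit morphism from the constant sheaf Z/p on Y_et to j_* of its restriction to U is an
isomorphism. -/
theorem result
    (p : ℕ) [Fact p.Prime] (Y : Scheme.{u}) [IsIntegral Y]
    (hnorm : ∀ y : Y, IsIntegrallyClosed (Y.presheaf.stalk y)) [IsAlgClosed Y.functionField] :
    Nat.card (EtCoh.H Y (EtCoh.const Y (ZMod p)) 0) = p ∧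
      (∀ i : ℕ, 0 < i → Subsingleton (EtCoh.H Y (EtCoh.const Y (ZMod p)) i)) ∧
      ∀ U : Y.Opens, (U : Set Y).Nonempty →
        IsIso ((EtCoh.pullPushAdj U.ι).unit.app (EtCoh.const Y (ZMod p))) := by
  have hN : Pi1.IsNormalScheme Y := fun y => ⟨inferInstance, hnorm y⟩
  haveI : IsSepClosed Y.functionField := inferInstance
  refine ⟨?_, fun i hi => ?_, fun U hU => ?_⟩
  · rw [Nat.card_congr (EtLimit.s₀ (EtCoh.const Y (ZMod p))).toEquiv]
    refine (Nat.card_congr (Equiv.ofBijective _
      (EtAcDepth.cst_top_bijective_normal hnorm (AddCommGrpCat.of (ULift.{u + 1} (ZMod p))))).symm).trans ?_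
    exact (Nat.card_congr Equiv.ulift).trans (Nat.card_zmod p)
  · obtain ⟨q, rfl⟩ : ∃ q, i = q + 1 := ⟨i - 1, by omega⟩
    exact EtAcDepth.subsingleton_H_normal hnorm _ q
  · let g := Y.fromSpecStalk (genericPoint Y)
    haveI : Subsingleton ↥(Spec (Y.presheaf.stalk (genericPoint Y))) :=
      inferInstanceAs (Subsingleton (PrimeSpectrum Y.functionField))
    haveI : Nonempty ↥(Spec (Y.presheaf.stalk (genericPoint Y))) :=
      inferInstanceAs (Nonempty (PrimeSpectrum Y.functionField))
    have hg : ∀ p, g p = genericPoint Y := fun q => by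
      rw [Subsingleton.elim q (IsLocalRing.closedPoint _)]
      exact Scheme.fromSpecStalk_closedPoint
    haveI := EtConsAb.isIso_unit_generic (fun W w => EtConsAb.exists_irreducible_nhd_of_normal hN W w) g hg
      (AddCommGrpCat.of (ULift.{u + 1} (ZMod p)))
    have hsub : Set.range g ⊆ Set.range U.ι := by
      rintro _ ⟨q, rfl⟩
      rw [hg, Scheme.Opens.range_ι]
      exact ((genericPoint_spec Y).mem_open_set_iff U.2).2 (by simpa using hU)
    let g' := IsOpenImmersion.lift U.ι g hsub
    have w : g' ≫ U.ι = g := IsOpenImmersion.lift_fac _ _ _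
    let e : EtCoh.const Y (ZMod p) ≅ (EtCoh.push U.ι).obj ((EtCoh.push g').obj ((EtCoh.pull g).obj (EtCoh.const Y (ZMod p)))) :=
      asIso ((EtCoh.pullPushAdj g).unit.app (EtCoh.const Y (ZMod p))) ≪≫
        ((EtCoh.pushCongr w).app _).symm ≪≫ ((EtCoh.pushComp U.ι g').app _).symm
    exact isIso_unit_of_iso U.ι e.symm (isIso_unit_push U.ι _)

end Groth.Agent.S19130
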