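import Groth.Statements.S19134
import Groth.Agent.DualCx.CompleteCofinite

set_option autoImplicit false
universe u
open CategoryTheory
attribute [local instance] HasDerivedCategory.standard
open Dual

namespace Groth.Agent.S19134

open IsLocalRing Groth.Agent.DRing Groth.Agent.DualCx in
theorem part_a {A : Type u} [CommRing A] [IsLocalRing A] [IsNoetherianRing A]
    {ω : Dual.D A} (hω : Dual.IsDualizing A ω) (hn : Dual.IsNormalized A ω)
    [DRing.HasRgammaI (maximalIdeal A)] (M : Dual.D A) (hM : ∀ i : ℤ, Module.Finite A (Dual.HD A M i))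
    (hb : ∃ a b : ℤ, ∀ i : ℤ, (i < a ∨ b < i) → Subsingleton (Dual.HD A M i)) :
    (∃ a b : ℤ, ∀ i : ℤ, (i < a ∨ b < i) →
      Subsingleton (Dual.HD A ((DRing.RgammaI (maximalIdeal A)).obj M) i)) ∧
    ∀ i : ℤ, LocCoh.IsPowerTorsion (maximalIdeal A) (Dual.HD A ((DRing.RgammaI (maximalIdeal A)).obj M) i) ∧
      Module.Finite A ↥(LocCoh.torsionBy (maximalIdeal A)
        (Dual.HD A ((DRing.RgammaI (maximalIdeal A)).obj M) i)) := by
  obtain ⟨E, _, _, f, hf⟩ := InjHull.Basic.exists_isInjectiveHull (R := A) (ResidueField A)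
  have hd : ∀ q : ℤ, Nonempty (Dual.HD A ((DRing.RgammaI (maximalIdeal A)).obj M) q ≃ₗ[A]
      ((M ⟶ ω⟦-q⟧) →ₗ[A] E)) := fun q => by
    obtain ⟨e₁⟩ := S1812.result A (maximalIdeal A) (IsNoetherian.noetherian _) M q
    obtain ⟨e₂⟩ := S19135.nonempty_duality hω hn hf M hM q
    exact ⟨e₁.trans e₂⟩
  obtain ⟨a, b, hab⟩ := hb
  obtain ⟨a₀, b₀, hω0⟩ := hω.finite_injective_dimension
  have hamp : DRing.HasInjAmplitudeIn A a₀ b₀ ω :=
    InjAmp.hasInjAmplitudeIn_of_vanishing fun J j hj => hω0 (A ⧸ J) j hj
  refine ⟨⟨a - b₀, b - a₀, fun q hq => ?_⟩, fun q => ⟨LocCoh.RGamma.HD_RgammaI_torsion _ M q, ?_⟩⟩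
  · obtain ⟨e⟩ := hd q
    have : Subsingleton (M ⟶ ω⟦-q⟧) := Devissage.subsingleton_F M a b (fun j hj => hab j hj) (-q) (fun j hj hj' => by
      refine hω0 _ _ ?_
      omega)
    exact e.toEquiv.subsingleton
  · obtain ⟨e⟩ := hd q
    have := S19135.finite_hom hω M hM (-q)
    let r := Module.Finite.reprEquiv A (M ⟶ ω⟦-q⟧)
    let e' := e.trans (LinearEquiv.congrLeft E A r).symm
    have := InjHull.Matlis.isArtinian_dual hf (Module.Finite.repr A (M ⟶ ω⟦-q⟧))
    have : IsArtinian A (Dual.HD A ((DRing.RgammaI (maximalIdeal A)).obj M) q) :=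
      isArtinian_of_linearEquiv e'.symm
    have := ((InjHull.Matlis.isArtinian_iff (R := A) (Dual.HD A ((DRing.RgammaI (maximalIdeal A)).obj M) q)).1 this).2
    exact Module.Finite.trans (A ⧸ maximalIdeal A) _

/-- Let A be a Noetherian local ring with maximal ideal m which is m-adically complete, and ω a
normalized dualizing complex over A (Hom(k, ω[i]) = 0 in D(A) for i ≠ 0); assume the total right
derived functor RΓ_m of the m-power-torsion functor and the derived m-adic completion functor (left
adjoint to the inclusion of derived complete objects, with unit K → K^) exist on D(A). Call an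
A-module N cofinite when every element of N is killed by a power of m and the socle of N (the
elements killed by m) is finitely generated. Then RΓ_m and derived completion are mutually inverse
equivalences between the bounded complexes with finitely generated cohomology modules and the
bounded complexes with cofinite cohomology modules, the comparison maps being the canonical ones:
(a) for M bounded with finitely generated cohomology, RΓ_m M is bounded, every H^i(RΓ_m M) is
cofinite, the derived completion of the canonical map RΓ_m M → M is an isomorphism, and the unit M →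
M^ is an isomorphism; (b) for K bounded with cofinite cohomology modules, the derived completion K^
is bounded with finitely generated cohomology, RΓ_m applied to the unit K → K^ is an isomorphism,
and the canonical map RΓ_m K → K is an isomorphism; (c) for a cofinite module N, the derived
completion of N placed in degree 0 is perverse coherent: Hom(N[0]^, ω[i]) = 0 for every i ≠ 0. (The
published proposition also asserts that these equivalences exchange the perverse t-structure,
defined by RHom(−, ω), with the standard one; that exactness is not part of this statement.) -/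
theorem result
    (A : Type u) [CommRing A] [IsLocalRing A] [IsNoetherianRing A]
    [IsAdicComplete (IsLocalRing.maximalIdeal A) A]
    (ω : Dual.D A) (hω : Dual.IsDualizing A ω) (hn : Dual.IsNormalized A ω)
    [DRing.HasRgammaI (IsLocalRing.maximalIdeal A)] [DRing.HasDerivedCompletion (IsLocalRing.maximalIdeal A)] :
    (∀ M : Dual.D A, (∀ i : ℤ, Module.Finite A (Dual.HD A M i)) →
      (∃ a b : ℤ, ∀ i : ℤ, (i < a ∨ b < i) → Subsingleton (Dual.HD A M i)) →
        (∃ a b : ℤ, ∀ i : ℤ, (i < a ∨ b < i) →
          Subsingleton (Dual.HD A ((DRing.RgammaI (IsLocalRing.maximalIdeal A)).obj M) i)) ∧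
        (∀ i : ℤ, LocCoh.IsPowerTorsion (IsLocalRing.maximalIdeal A)
            (Dual.HD A ((DRing.RgammaI (IsLocalRing.maximalIdeal A)).obj M) i) ∧
          Module.Finite A ↥(LocCoh.torsionBy (IsLocalRing.maximalIdeal A)
            (Dual.HD A ((DRing.RgammaI (IsLocalRing.maximalIdeal A)).obj M) i))) ∧
        IsIso ((DRing.derivedCompletion (IsLocalRing.maximalIdeal A)).map
          ((DRing.RgammaIε (IsLocalRing.maximalIdeal A)).app M)) ∧
        IsIso (DRing.toDerivedCompletion (IsLocalRing.maximalIdeal A) M)) ∧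
    (∀ K : Dual.D A, (∃ a b : ℤ, ∀ i : ℤ, (i < a ∨ b < i) → Subsingleton (Dual.HD A K i)) →
      (∀ i : ℤ, LocCoh.IsPowerTorsion (IsLocalRing.maximalIdeal A) (Dual.HD A K i) ∧
        Module.Finite A ↥(LocCoh.torsionBy (IsLocalRing.maximalIdeal A) (Dual.HD A K i))) →
        (∀ i : ℤ, Module.Finite A
          (Dual.HD A ((DRing.derivedCompletion (IsLocalRing.maximalIdeal A)).obj K).obj i)) ∧
        (∃ a b : ℤ, ∀ i : ℤ, (i < a ∨ b < i) → Subsingleton
          (Dual.HD A ((DRing.derivedCompletion (IsLocalRing.maximalIdeal A)).obj K).obj i)) ∧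
        IsIso ((DRing.RgammaI (IsLocalRing.maximalIdeal A)).map
          (DRing.toDerivedCompletion (IsLocalRing.maximalIdeal A) K)) ∧
        IsIso ((DRing.RgammaIε (IsLocalRing.maximalIdeal A)).app K)) ∧
    (∀ (N : Type u) [AddCommGroup N] [Module A N],
      LocCoh.IsPowerTorsion (IsLocalRing.maximalIdeal A) N →
      Module.Finite A ↥(LocCoh.torsionBy (IsLocalRing.maximalIdeal A) N) →
        ∀ i : ℤ, i ≠ 0 → Subsingleton
          (((DRing.derivedCompletion (IsLocalRing.maximalIdeal A)).obj (Dual.inD A N)).obj ⟶ ω⟦i⟧)) := by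
  obtain ⟨E, _, _, f, hf⟩ := Groth.Agent.InjHull.Basic.exists_isInjectiveHull (R := A) (IsLocalRing.ResidueField A)
  let m := IsLocalRing.maximalIdeal A
  have hartin : ∀ (N : Type u) [AddCommGroup N] [Module A N], LocCoh.IsPowerTorsion m N →
      Module.Finite A ↥(LocCoh.torsionBy m N) → IsArtinian A N := fun N _ _ h1 h2 =>
    (Groth.Agent.InjHull.Matlis.isArtinian_iff (R := A) N).2
      ⟨h1, Module.Finite.of_restrictScalars_finite A (A ⧸ m) _⟩
  refine ⟨fun M hM hb => ?_, fun K hb hK => ?_, fun N _ _ h1 h2 i hi => ?_⟩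
  · obtain ⟨h1, h2⟩ := part_a hω hn M hM hb
    exact ⟨h1, h2, Groth.Agent.LocCoh.GM.isIso_completion_map_ε m M,
      Groth.Agent.DualCx.CompleteCofinite.isIso_unit M hM⟩
  · obtain ⟨a, b, hab⟩ := hb
    obtain ⟨c, hc⟩ := Groth.Agent.DualCx.CompleteCofinite.exists_vanish m
    refine ⟨Groth.Agent.DualCx.CompleteCofinite.fin_bounded m (a := a) (b + 1 - a).toNat K
        (fun j hj => hab j (by omega)) (fun j k => ?_), ⟨a - c, b, fun j hj => hc K j fun q h1 h2 => hab q (by omega)⟩,
      Groth.Agent.LocCoh.GM.isIso_map_toDerivedCompletion m (IsNoetherian.noetherian m) K,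
      Groth.Agent.LocCoh.RGamma.isIso_ε m K fun j => (hK j).1⟩
    have := hartin _ (hK j).1 (hK j).2
    exact Groth.Agent.DualCx.CompleteCofinite.fin_cofinite hω hn hf _ k
  · have := hartin N h1 h2
    let M := ((DRing.derivedCompletion m).obj (Dual.inD A N)).obj
    have hM : ∀ j, Module.Finite A (Dual.HD A M j) :=
      Groth.Agent.DualCx.CompleteCofinite.fin_cofinite hω hn hf N
    have hN : ∀ j, LocCoh.IsPowerTorsion m (Dual.HD A (Dual.inD A N) j) := fun j => by
      by_cases hj : j = 0
      · subst hj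
        let e := Groth.Agent.DRing.CompletionModule.h0.app (ModuleCat.of A N) |>.toLinearEquiv
        intro x
        obtain ⟨n, hn⟩ := h1 (e x)
        exact ⟨n, fun a ha => e.injective (by rw [map_smul, hn a ha, map_zero])⟩
      · have := Groth.Agent.DRing.PC.subsingleton_HD_inD A N j hj
        exact fun x => ⟨0, fun a _ => Subsingleton.elim _ _⟩
    have := Groth.Agent.LocCoh.GM.isIso_map_toDerivedCompletion m (IsNoetherian.noetherian m) (Dual.inD A N)
    have := Groth.Agent.LocCoh.RGamma.isIso_ε m _ hN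
    let e : (DRing.RgammaI m).obj M ≅ Dual.inD A N :=
      (asIso ((DRing.RgammaI m).map (DRing.toDerivedCompletion m (Dual.inD A N)))).symm ≪≫
        asIso ((DRing.RgammaIε m).app (Dual.inD A N))
    obtain ⟨e₁⟩ := Groth.Agent.S1812.result A m (IsNoetherian.noetherian m) M (-i)
    obtain ⟨e₂⟩ := Groth.Agent.S19135.nonempty_duality hω hn hf M hM (-i)
    rw [neg_neg] at e₂
    have := Groth.Agent.DRing.PC.subsingleton_HD_inD A N (-i) (by omega)
    have : Subsingleton ((M ⟶ ω⟦i⟧) →ₗ[A] E) :=
      (((Groth.Agent.DRing.DBasic.HF (-i)).mapIso e).toLinearEquiv.symm.trans (e₁.trans e₂)).symm.toEquiv.subsingleton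
    have := Groth.Agent.S19135.finite_hom hω M hM i
    let r := Module.Finite.reprEquiv A (M ⟶ ω⟦i⟧)
    have : Subsingleton (Module.Finite.repr A (M ⟶ ω⟦i⟧) →ₗ[A] E) :=
      (LinearEquiv.congrLeft E A r).toEquiv.subsingleton
    have : Subsingleton (Module.Finite.repr A (M ⟶ ω⟦i⟧)) := subsingleton_of_forall_eq 0 fun x => by
      by_contra hx
      obtain ⟨φ, hφ⟩ := Groth.Agent.InjHull.Matlis.exists_apply_ne_zero hf hx
      exact hφ (by rw [Subsingleton.elim φ 0, LinearMap.zero_apply])
    exact r.symm.toEquiv.subsingleton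

end Groth.Agent.S19134
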