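import Groth.Statements.S19138
import Mathlib.Analysis.Convex.StdSimplex
import Mathlib.LinearAlgebra.Matrix.NonsingularInverse
import Mathlib.LinearAlgebra.Matrix.ToLinearEquiv
import Mathlib.Topology.Order.Compact

set_option autoImplicit false
open Instab

namespace Groth.Agent.S19138

open Matrix

theorem maximizer {n : ℕ} (ℓ : Fin n → ℚ) (B : Matrix (Fin n) (Fin n) ℚ) (L : Fin n → ℝ) (C : Matrix (Fin n) (Fin n) ℝ)
    (hL : L = fun i => (ℓ i : ℝ)) (hC : C = B.map (fun r : ℚ => (r : ℝ)))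
    (hpos : ∀ y : Fin n → ℝ, (∀ i, 0 ≤ y i) → y ≠ 0 → 0 < y ⬝ᵥ C *ᵥ y)
    (hℓ : ∃ y : Fin n → ℝ, (∀ i, 0 ≤ y i) ∧ 0 < L ⬝ᵥ y) :
    ∃ x : Fin n → ℚ, (∀ i, 0 ≤ x i) ∧ x ≠ 0 ∧
      ∀ y : Fin n → ℝ, (∀ i, 0 ≤ y i) → y ≠ 0 →
        L ⬝ᵥ y / Real.sqrt (y ⬝ᵥ C *ᵥ y) ≤
          L ⬝ᵥ (fun i => (x i : ℝ)) / Real.sqrt ((fun i => (x i : ℝ)) ⬝ᵥ C *ᵥ (fun i => (x i : ℝ))) := by
  classical
  let f : (Fin n → ℝ) → ℝ := fun y => L ⬝ᵥ y / Real.sqrt (y ⬝ᵥ C *ᵥ y)
  have hscale : ∀ (c : ℝ) y, 0 < c → f (c • y) = f y := by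
    intro c y hc
    have : (c • y) ⬝ᵥ C *ᵥ (c • y) = c ^ 2 * (y ⬝ᵥ C *ᵥ y) := by
      simp only [mulVec_smul, dotProduct_smul, smul_dotProduct, smul_eq_mul]; ring
    simp only [f, this, Real.sqrt_mul (sq_nonneg c), Real.sqrt_sq hc.le, dotProduct_smul, smul_eq_mul]
    exact mul_div_mul_left _ _ hc.ne'
  obtain ⟨y₀, hy₀, hy₀L⟩ := hℓ
  have hy₀0 : y₀ ≠ 0 := fun h => by simp [h] at hy₀L
  have hsum : ∀ y : Fin n → ℝ, (∀ i, 0 ≤ y i) → y ≠ 0 → 0 < ∑ i, y i := by
    intro y hy hy0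
    obtain ⟨i, hi⟩ := Function.ne_iff.1 hy0
    exact Finset.sum_pos' (fun j _ => hy j) ⟨i, Finset.mem_univ i, lt_of_le_of_ne (hy i) (Ne.symm hi)⟩
  have hnorm : ∀ y : Fin n → ℝ, (∀ i, 0 ≤ y i) → y ≠ 0 → (∑ i, y i)⁻¹ • y ∈ stdSimplex ℝ (Fin n) := fun y hy hy0 =>
    ⟨fun i => mul_nonneg (inv_nonneg.2 (hsum y hy hy0).le) (hy i),
      by simp only [Pi.smul_apply, smul_eq_mul]; rw [← Finset.mul_sum, inv_mul_cancel₀ (hsum y hy hy0).ne']⟩
  have hne0 : ∀ y ∈ stdSimplex ℝ (Fin n), y ≠ 0 := fun y hy h => by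
    have := hy.2
    simp [h] at this
  -- an optimum with minimal support
  let P : ℕ → Prop := fun m => ∃ x : Fin n → ℝ, (∀ i, 0 ≤ x i) ∧ x ≠ 0 ∧
    (∀ y, (∀ i, 0 ≤ y i) → y ≠ 0 → f y ≤ f x) ∧ (Finset.univ.filter fun i => x i ≠ 0).card = m
  have hP : ∃ m, P m := by
    have hcont : ContinuousOn f (stdSimplex ℝ (Fin n)) := by
      refine ContinuousOn.div (show ContinuousOn (fun y : Fin n → ℝ => ∑ j, L j * y j) (stdSimplex ℝ (Fin n)) by fun_prop) (by simp only [dotProduct, mulVec]; fun_prop) fun y hy => ?_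
      exact (Real.sqrt_pos.2 (hpos y hy.1 (hne0 y hy))).ne'
    obtain ⟨x, hx, hmax⟩ := (isCompact_stdSimplex ℝ (Fin n)).exists_isMaxOn ⟨_, hnorm y₀ hy₀ hy₀0⟩ hcont
    refine ⟨_, x, hx.1, hne0 x hx, fun y hy hy0 => ?_, rfl⟩
    rw [← hscale _ y (inv_pos.2 (hsum y hy hy0))]
    exact hmax (hnorm y hy hy0)
  obtain ⟨x, hx, hx0, hmax, hcard⟩ := Nat.find_spec hP
  have hqx := hpos x hx hx0
  have hLx : 0 < L ⬝ᵥ x := by
    have h0 : 0 < f x := lt_of_lt_of_le (div_pos hy₀L (Real.sqrt_pos.2 (hpos y₀ hy₀ hy₀0))) (hmax y₀ hy₀ hy₀0)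
    exact (div_pos_iff_of_pos_right (Real.sqrt_pos.2 hqx)).1 h0
  let c : ℝ := L ⬝ᵥ x / (x ⬝ᵥ C *ᵥ x)
  have hc : 0 < c := div_pos hLx hqx
  let z : Fin n → ℝ := c • x
  have hz : ∀ i, 0 ≤ z i := fun i => mul_nonneg hc.le (hx i)
  have hz0 : ∀ i, z i = 0 ↔ x i = 0 := fun i => by simp [z, hc.ne']
  have hqz : z ⬝ᵥ C *ᵥ z = L ⬝ᵥ z := by
    simp only [z, mulVec_smul, dotProduct_smul, smul_dotProduct, smul_eq_mul, c]
    field_simp
  have hLz : 0 < L ⬝ᵥ z := by simp [z]; exact mul_pos hc hLx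
  have hfz : f z = f x := hscale c x hc
  let N : Matrix (Fin n) (Fin n) ℝ := C + C.transpose
  have hN : ∀ u v : Fin n → ℝ, u ⬝ᵥ C *ᵥ v + v ⬝ᵥ C *ᵥ u = u ⬝ᵥ N *ᵥ v := by
    intro u v
    rw [add_mulVec, dotProduct_add, mulVec_transpose, dotProduct_comm u (v ᵥ* C), ← dotProduct_mulVec]
  -- first order condition
  have hfoc : ∀ i, x i ≠ 0 → (N *ᵥ z) i = 2 * L i := by
    intro i hi
    have hxi : 0 < x i := lt_of_le_of_ne (hx i) (Ne.symm hi)
    let v : Fin n → ℝ := Pi.single i 1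
    set a := 2 * (L ⬝ᵥ x) * L i * (x ⬝ᵥ C *ᵥ x) - (L ⬝ᵥ x) ^ 2 * (N *ᵥ x) i
    set b := L i ^ 2 * (x ⬝ᵥ C *ᵥ x) - (L ⬝ᵥ x) ^ 2 * (v ⬝ᵥ C *ᵥ v)
    have hineq : ∀ t : ℝ, |t| < x i → |t| * (|L i| + 1) < L ⬝ᵥ x → a * t + b * t ^ 2 ≤ 0 := by
      intro t ht ht'
      let y := x + t • v
      have hy : ∀ j, 0 ≤ y j := fun j => by
        rcases eq_or_ne j i with rfl | hj
        · simp [y, v]; linarith [neg_abs_le t]
        · simp [y, v, hj]; exact hx j
      have hy0 : y ≠ 0 := fun h => by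
        have := congrFun h i
        simp [y, v] at this
        linarith [neg_abs_le t]
      have hLy : L ⬝ᵥ y = L ⬝ᵥ x + t * L i := by simp [y, v, dotProduct_add]
      have hLy0 : 0 < L ⬝ᵥ y := by
        rw [hLy]
        have h1 : -(|t| * |L i|) ≤ t * L i := by rw [← abs_mul]; exact neg_abs_le _
        nlinarith [abs_nonneg t]
      have hqy : y ⬝ᵥ C *ᵥ y = x ⬝ᵥ C *ᵥ x + t * (N *ᵥ x) i + t ^ 2 * (v ⬝ᵥ C *ᵥ v) := by
        have hvx : x ⬝ᵥ C *ᵥ v + v ⬝ᵥ C *ᵥ x = (N *ᵥ x) i := by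
          rw [add_comm, hN, single_dotProduct, one_mul]
        simp only [y, mulVec_add, mulVec_smul, dotProduct_add, add_dotProduct, smul_dotProduct, dotProduct_smul,
          smul_eq_mul]
        linear_combination t * hvx
      have hle := hmax y hy hy0
      have hqy0 := hpos y hy hy0
      rw [div_le_div_iff₀ (Real.sqrt_pos.2 hqy0) (Real.sqrt_pos.2 hqx)] at hle
      have h2 := pow_le_pow_left₀ (mul_nonneg hLy0.le (Real.sqrt_nonneg _)) hle 2
      rw [mul_pow, mul_pow, Real.sq_sqrt hqx.le, Real.sq_sqrt hqy0.le, hqy, hLy] at h2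
      simp only [a, b]
      nlinarith [h2]
    have ha : a = 0 := by
      by_contra ha
      let δ := min (min (x i / 2) (L ⬝ᵥ x / (2 * (|L i| + 1)))) (|a| / (2 * (|b| + 1)))
      have hδ : 0 < δ := lt_min (lt_min (by linarith) (div_pos hLx (by positivity))) (div_pos (abs_pos.2 ha) (by positivity))
      have hδ1 : δ < x i := lt_of_le_of_lt ((min_le_left _ _).trans (min_le_left _ _)) (by linarith)
      have hδ2 : δ * (|L i| + 1) < L ⬝ᵥ x := by
        have := (le_div_iff₀ (by positivity)).1 ((min_le_left _ _).trans (min_le_right _ _) : δ ≤ L ⬝ᵥ x / (2 * (|L i| + 1)))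
        linarith
      have hδ3 : δ * (2 * (|b| + 1)) ≤ |a| := (le_div_iff₀ (by positivity)).1 (min_le_right _ _)
      have hb := neg_abs_le b
      have hδb : -(δ * δ * |b|) ≤ δ * δ * b := by nlinarith
      rcases lt_or_gt_of_ne ha with h | h
      · have := hineq (-δ) (by rwa [abs_neg, abs_of_pos hδ]) (by rwa [abs_neg, abs_of_pos hδ])
        rw [abs_of_neg h] at hδ3
        nlinarith
      · have := hineq δ (by rwa [abs_of_pos hδ]) (by rwa [abs_of_pos hδ])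
        rw [abs_of_pos h] at hδ3
        nlinarith
    have : (N *ᵥ z) i = c * (N *ᵥ x) i := by simp [z, mulVec_smul]
    rw [this]
    simp only [a] at ha
    simp only [c]
    field_simp
    have h2 : (L ⬝ᵥ x) * ((L ⬝ᵥ x) * (N *ᵥ x) i - 2 * L i * (x ⬝ᵥ C *ᵥ x)) = 0 := by linear_combination -ha
    have := (mul_eq_zero.1 h2).resolve_left hLx.ne'
    linear_combination this
  -- the rational system
  let K : Matrix (Fin n) (Fin n) ℚ := Matrix.of fun i j => if x i ≠ 0 then B i j + B j i else if i = j then 1 else 0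
  have hK : ∀ (w : Fin n → ℝ) i, (K.map (Rat.castHom ℝ) *ᵥ w) i = if x i ≠ 0 then (N *ᵥ w) i else w i := by
    intro w i
    by_cases h : x i ≠ 0
    · simp [K, h, N, hC, mulVec, dotProduct]
    · simp [K, h, mulVec, dotProduct, apply_ite (Rat.cast : ℚ → ℝ)]
  have hker : ∀ w, K.map (Rat.castHom ℝ) *ᵥ w = 0 → w = 0 := by
    intro w hw
    by_contra hw0
    have hw1 : ∀ i, x i = 0 → w i = 0 := fun i hi => by
      have := congrFun hw i
      rwa [hK, if_neg (by simp [hi]), Pi.zero_apply] at this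
    have hw2 : ∀ i, x i ≠ 0 → (N *ᵥ w) i = 0 := fun i hi => by
      have := congrFun hw i
      rwa [hK, if_pos hi, Pi.zero_apply] at this
    have hzw : z ⬝ᵥ C *ᵥ w + w ⬝ᵥ C *ᵥ z = 0 := by
      rw [hN]
      refine Finset.sum_eq_zero fun i _ => ?_
      by_cases hi : x i = 0
      · rw [(hz0 i).2 hi, zero_mul]
      · rw [hw2 i hi, mul_zero]
    have hww : w ⬝ᵥ C *ᵥ w = 0 := by
      have h : w ⬝ᵥ N *ᵥ w = 0 := by
        refine Finset.sum_eq_zero fun i _ => ?_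
        by_cases hi : x i = 0
        · rw [hw1 i hi, zero_mul]
        · rw [hw2 i hi, mul_zero]
      rw [← hN] at h
      linarith
    have hLw : L ⬝ᵥ w = 0 := by
      have h : w ⬝ᵥ N *ᵥ z = 2 * (L ⬝ᵥ w) := by
        simp only [dotProduct, Finset.mul_sum]
        refine Finset.sum_congr rfl fun i _ => ?_
        by_cases hi : x i = 0
        · rw [hw1 i hi]; ring
        · rw [hfoc i hi]; ring
      rw [← hN, add_comm, hzw] at h
      linarith
    obtain ⟨i₀, hi₀⟩ : ∃ i, w i < 0 := by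
      by_contra! h
      exact (hpos w h hw0).ne' hww
    obtain ⟨j, hj, hjmin⟩ := Finset.exists_min_image (Finset.univ.filter fun i => w i < 0) (fun i => z i / -w i)
      ⟨i₀, Finset.mem_filter.2 ⟨Finset.mem_univ _, hi₀⟩⟩
    rw [Finset.mem_filter] at hj
    set t := z j / -w j
    have ht : 0 ≤ t := div_nonneg (hz j) (by linarith [hj.2])
    let y := z + t • w
    have hy : ∀ i, 0 ≤ y i := fun i => by
      simp only [y, Pi.add_apply, Pi.smul_apply, smul_eq_mul]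
      rcases lt_or_ge (w i) 0 with h | h
      · have h1 := hjmin i (Finset.mem_filter.2 ⟨Finset.mem_univ _, h⟩)
        rw [le_div_iff₀ (neg_pos.2 h)] at h1
        linarith
      · have := mul_nonneg ht h
        linarith [hz i]
    have hLy : L ⬝ᵥ y = L ⬝ᵥ z := by simp [y, dotProduct_add, hLw]
    have hy0 : y ≠ 0 := fun h => by rw [h, dotProduct_zero] at hLy; linarith
    have hqy : y ⬝ᵥ C *ᵥ y = z ⬝ᵥ C *ᵥ z := by
      simp only [y, mulVec_add, mulVec_smul, dotProduct_add, add_dotProduct, smul_dotProduct, dotProduct_smul,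
        smul_eq_mul]
      linear_combination t * hzw + t ^ 2 * hww
    have hfy : f y = f x := by rw [← hfz]; simp only [f, hqy, hLy]
    refine Nat.find_min hP (m := (Finset.univ.filter fun i => y i ≠ 0).card) ?_
      ⟨y, hy, hy0, fun v hv hv0 => hfy ▸ hmax v hv hv0, rfl⟩
    rw [← hcard]
    refine Finset.card_lt_card (Finset.ssubset_iff_subset_ne.2 ⟨fun i hi => ?_, fun h => ?_⟩)
    · simp only [Finset.mem_filter, Finset.mem_univ, true_and] at hi ⊢
      intro h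
      exact hi (by simp [y, (hz0 i).2 h, hw1 i h])
    · have hxj : x j ≠ 0 := fun h => absurd (hw1 j h) hj.2.ne
      have hjm : j ∈ Finset.univ.filter fun i => x i ≠ 0 := by simp [hxj]
      rw [← h, Finset.mem_filter] at hjm
      apply hjm.2
      simp only [y, t, Pi.add_apply, Pi.smul_apply, smul_eq_mul]
      have := hj.2.ne
      field_simp
      ring
  have hdet : K.det ≠ 0 := by
    intro h
    obtain ⟨w, hw0, hw⟩ := Matrix.exists_mulVec_eq_zero_iff.2
      (show (K.map (Rat.castHom ℝ)).det = 0 by rw [← RingHom.mapMatrix_apply, ← RingHom.map_det, h, map_zero])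
    exact hw0 (hker w hw)
  let r : Fin n → ℚ := fun i => if x i ≠ 0 then 2 * ℓ i else 0
  let q : Fin n → ℚ := K⁻¹ *ᵥ r
  have hq : K *ᵥ q = r := by rw [mulVec_mulVec, Matrix.mul_nonsing_inv K hdet.isUnit, one_mulVec]
  have hqz' : (fun i => (q i : ℝ)) = z := by
    refine sub_eq_zero.1 (hker _ ?_)
    funext i
    rw [mulVec_sub, Pi.sub_apply, Pi.zero_apply, sub_eq_zero, hK z i]
    have h1 := (RingHom.map_mulVec (Rat.castHom ℝ) K q i).symm
    rw [hq] at h1
    refine h1.trans ?_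
    by_cases h : x i ≠ 0
    · rw [if_pos h, hfoc i h, hL]
      simp [r, h]
    · rw [if_neg h, (hz0 i).2 (not_not.1 h)]
      simp [r, h]
  refine ⟨q, fun i => ?_, fun h => ?_, fun y hy hy0 => ?_⟩
  · have := hz i
    rw [← congrFun hqz' i] at this
    exact_mod_cast this
  · rw [← hqz', h] at hLz
    simp [dotProduct] at hLz
  · rw [hqz']
    exact (hmax y hy hy0).trans_eq hfz.symm

open Matrix in
/-- Let ℓ ∈ ℚⁿ and let B be a rational n × n matrix whose real quadratic form q(y) = y · (B y) is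
non-negative on ℝⁿ and positive at every non-zero point of the non-negative orthant. If ℓ · y > 0 at
some point of the orthant, then the function ℓ · y / √q(y) on the non-zero points of the orthant
attains its maximum at a point with rational coordinates. (The published lemma says that the
numerical invariant attached to a rational degree-two class and such a norm on graded points attains
its maximum on each rational simplex at a rational point whenever it is positive somewhere on that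
simplex; on one rational simplex that invariant is this function, so this is what is asked there.
The case of a piecewise rational linear norm is not stated here.) -/
theorem result (n : ℕ) (ℓ : Fin n → ℚ)
    (B : Matrix (Fin n) (Fin n) ℚ)
    (hnn : ∀ y : Fin n → ℝ, 0 ≤ y ⬝ᵥ (B.map (fun r : ℚ => (r : ℝ))) *ᵥ y)
    (hpos : ∀ y : Fin n → ℝ, (∀ i, 0 ≤ y i) → y ≠ 0 → 0 < y ⬝ᵥ (B.map (fun r : ℚ => (r : ℝ))) *ᵥ y)
    (hℓ : ∃ y : Fin n → ℝ, (∀ i, 0 ≤ y i) ∧ 0 < (fun i => (ℓ i : ℝ)) ⬝ᵥ y) :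
    ∃ x : Fin n → ℚ, (∀ i, 0 ≤ x i) ∧ x ≠ 0 ∧
      ∀ y : Fin n → ℝ, (∀ i, 0 ≤ y i) → y ≠ 0 →
        (fun i => (ℓ i : ℝ)) ⬝ᵥ y / Real.sqrt (y ⬝ᵥ (B.map (fun r : ℚ => (r : ℝ))) *ᵥ y) ≤
          (fun i => (ℓ i : ℝ)) ⬝ᵥ (fun i => (x i : ℝ)) /
            Real.sqrt ((fun i => (x i : ℝ)) ⬝ᵥ (B.map (fun r : ℚ => (r : ℝ))) *ᵥ (fun i => (x i : ℝ))) := by
  exact maximizer ℓ B _ _ rfl rfl hpos hℓ

end Groth.Agent.S19138
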