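import Groth.Statements.S19142
import Groth.Agent.DiagRig.Transporter
-- import your own Groth.Agent.* helpers here

set_option autoImplicit false
open CategoryTheory MonoidalCategory CartesianMonoidalCategory MonObj GrpObj AlgebraicGeometry
universe u
open SGA3x

namespace Groth.Agent.S19142

/-- Let H be an S-group of multiplicative type (of arbitrary type: no finite-type hypothesis), G an
S-group smooth and affine over S and u : H ⟶ G a homomorphism. Then the centralizer of u in G is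
representable by a closed subgroup scheme of G which is smooth over S. -/
theorem result {S : Scheme.{u}} (H G : Over S) [GrpObj H] [GrpObj G]
    (hH : TwC.Locally S TwC.Topology.fpqc (fun S' g => ∃ (M : Type) (_ : AddCommGroup M), Nonempty (Grp.mk (Red.bc g H) ≅ Grp.mk (Red.DS S' M))))
    (hG : Smooth G.hom) (hGa : IsAffineHom G.hom) (u : H ⟶ G) [IsMonHom u] :
    ∃ (Z : Over S) (_ : GrpObj Z) (j : Z ⟶ G), Red.IsCentralizerOf u j ∧ IsClosedImmersion j.left ∧ Smooth Z.hom := by
  have := hG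
  have := hGa
  obtain ⟨T, j, hj, hs, hT⟩ := Groth.Agent.DiagRig.exists_transporter u u (by obtain ⟨S', f, hf, -, hcov, hloc⟩ := hH; exact Groth.Agent.DiagRig.splitFpqc_of_cover H f hcov hloc)
  have : Mono j := Over.mono_of_mono_left j
  have hiff : ∀ (X : Over S) (g : X ⟶ G), (∃ z : X ⟶ T, z ≫ j = g) ↔
      ∀ (X' : Over S) (x : X' ⟶ X) (h : X' ⟶ H), (x ≫ g) * (h ≫ u) = (h ≫ u) * (x ≫ g) := fun X g => by
    rw [hT]
    exact forall_congr' fun X' => forall_congr' fun x => forall_congr' fun h => mul_inv_eq_iff_eq_mul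
  have hone : ∀ X, ∃ z : X ⟶ T, z ≫ j = (1 : X ⟶ G) := fun X => (hiff X 1).mpr fun X' x h => by
    rw [MonObj.comp_one, _root_.one_mul, _root_.mul_one]
  have hmul : ∃ z : T ⊗ T ⟶ T, z ≫ j = (fst T T ≫ j) * (snd T T ≫ j) := (hiff _ _).mpr fun X' x h => by
    rw [MonObj.comp_mul, ← Category.assoc, ← Category.assoc]
    have h1 := (hiff X' ((x ≫ fst T T) ≫ j)).mp ⟨_, rfl⟩ X' (𝟙 X') h
    have h2 := (hiff X' ((x ≫ snd T T) ≫ j)).mp ⟨_, rfl⟩ X' (𝟙 X') h
    rw [Category.id_comp] at h1 h2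
    exact Commute.mul_left h1 h2
  have hinv : ∃ z : T ⟶ T, z ≫ j = j⁻¹ := (hiff _ _).mpr fun X' x h => by
    rw [GrpObj.comp_inv]
    exact Commute.inv_left ((hiff T j).mp ⟨𝟙 T, Category.id_comp j⟩ X' x h)
  obtain ⟨inst, hmon⟩ := Groth.Agent.GrpScheme.SubgroupObj.exists_grpObj j
    (hmul.imp fun z hz => hz.trans (by rw [Hom.mul_def]; congr 1))
    ((hone _).imp fun z hz => hz.trans (by rw [Hom.one_def, toUnit_unique (toUnit _) (𝟙 _), Category.id_comp]))
    (hinv.imp fun z hz => hz.trans (by rw [Hom.inv_def]))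
  exact ⟨T, inst, j, ⟨hmon, ‹Mono j›, hiff⟩, hj, hs hG⟩

end Groth.Agent.S19142
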