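import Groth.Statements.S19145
import Groth.Agent.TwCLib.Structure

set_option linter.style.haveILetI false
set_option backward.isDefEq.respectTransparency false
-- import your own Groth.Agent.* helpers here

set_option autoImplicit false
open CategoryTheory MonoidalCategory CartesianMonoidalCategory MonObj GrpObj AlgebraicGeometry
universe u
open TwC

namespace Groth.Agent.S19145

/-- Let S be an irreducible scheme whose local rings are all geometrically unibranch, η its generic
point, and X a quasi-isotrivial twisted constant S-scheme (etale-locally on S isomorphic to a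
constant scheme). Then X is the disjoint union, over the points λ of the generic fibre X_η, of the
closures X(λ) of λ: every point of X lies in the closure of exactly one such λ, each X(λ) is open
and closed in X and, as an open subscheme, is a finite etale cover of S (finite, etale and
surjective); and restricting a section of X ⟶ S to the generic point is a bijection from the
sections of X over S onto the sections of X_η over η. -/
theorem result {S : Scheme.{u}} [IrreducibleSpace S]
    (hS : ∀ s : S, CAlg2.IsGeomUnibranch (S.presheaf.stalk s))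
    (X : Over S) (hX : TwC.IsTwConst TwC.Topology.etale X) :
    (∀ x : X.left, ∃! l : X.left, X.hom.base l = genericPoint S ∧ x ∈ closure ({l} : Set X.left)) ∧
    (∀ l : X.left, X.hom.base l = genericPoint S →
      ∃ U : X.left.Opens, (U : Set X.left) = closure ({l} : Set X.left) ∧ IsClosed (U : Set X.left) ∧
        IsFinite (U.ι ≫ X.hom) ∧ Etale (U.ι ≫ X.hom) ∧ Surjective (U.ι ≫ X.hom)) ∧
    (∀ σ₁ σ₂ : S ⟶ X.left, σ₁ ≫ X.hom = 𝟙 S → σ₂ ≫ X.hom = 𝟙 S →
      S.fromSpecResidueField (genericPoint S) ≫ σ₁ = S.fromSpecResidueField (genericPoint S) ≫ σ₂ → σ₁ = σ₂) ∧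
    (∀ τ : Spec (S.residueField (genericPoint S)) ⟶ X.left, τ ≫ X.hom = S.fromSpecResidueField (genericPoint S) →
      ∃ σ : S ⟶ X.left, σ ≫ X.hom = 𝟙 S ∧ S.fromSpecResidueField (genericPoint S) ≫ σ = τ) := by
  classical
  obtain ⟨hsep, het⟩ := TwCLib.isSeparated_and_etale hX
  haveI : LocallyQuasiFinite X.hom := EtStruct.locallyQuasiFinite_of_formallyUnramified _
  have hnoSpec : ∀ a b : X.left, a ⤳ b → X.hom.base a = X.hom.base b → a = b := fun a b hab h =>
    EtStruct.eq_of_specializes_of_map_eq X.hom hab h
  have hgp : ∀ (N : X.left.Opens), IsIrreducible (N : Set X.left) → ∀ l ∈ N,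
      X.hom.base l = genericPoint S → IsGenericPoint l (closure (N : Set X.left)) := by
    intro N hN l hl hlη
    have hv := hN.isGenericPoint_genericPoint_closure
    have hvN : hN.genericPoint ∈ N := by
      obtain ⟨z, hz⟩ := hN.1
      exact (hv.specializes (subset_closure hz)).mem_open N.2 hz
    have h := hnoSpec _ _ (hv.specializes (subset_closure hl))
      ((TwCLib.map_eq_genericPoint X.hom hv hvN).trans hlη.symm)
    rwa [h] at hv
  have hmain : ∀ x : X.left, ∃! l : X.left, X.hom.base l = genericPoint S ∧ x ∈ closure ({l} : Set X.left) := by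
    intro x
    obtain ⟨l, hl, hlη⟩ := Flat.generalizingMap X.hom (genericPoint_specializes (X.hom.base x))
    refine ⟨l, ⟨hlη, specializes_iff_mem_closure.mp hl⟩, fun m hm => ?_⟩
    obtain ⟨N, hxN, hN⟩ := TwCLib.exists_irreducible_nhd X.hom hS x
    exact (hgp N hN m ((specializes_iff_mem_closure.mpr hm.2).mem_open N.2 hxN) hm.1).eq
      (hgp N hN l (hl.mem_open N.2 hxN) hlη)
  have hpiece : ∀ l : X.left, X.hom.base l = genericPoint S →
      ∃ U : X.left.Opens, (U : Set X.left) = closure ({l} : Set X.left) ∧ IsClosed (U : Set X.left) ∧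
        IsFinite (U.ι ≫ X.hom) ∧ Etale (U.ι ≫ X.hom) ∧ Surjective (U.ι ≫ X.hom) := by
    intro l hl
    have hopen : IsOpen (closure ({l} : Set X.left)) := by
      refine isOpen_iff_forall_mem_open.mpr fun x hx => ?_
      obtain ⟨N, hxN, hN⟩ := TwCLib.exists_irreducible_nhd X.hom hS x
      refine ⟨N, fun w hw => ?_, N.2, hxN⟩
      exact specializes_iff_mem_closure.mp
        ((hgp N hN l ((specializes_iff_mem_closure.mpr hx).mem_open N.2 hxN) hl).specializes (subset_closure hw))
    let U : X.left.Opens := ⟨closure {l}, hopen⟩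
    have hfin : IsFinite (U.ι ≫ X.hom) :=
      TwCLib.isFinite_piece hS hX U isClosed_closure l fun z hz hzη =>
        (hnoSpec l z (specializes_iff_mem_closure.mpr hz) (hl.trans hzη.symm)).symm
    refine ⟨U, rfl, isClosed_closure, hfin, inferInstance, ⟨fun s => ?_⟩⟩
    exact (genericPoint_specializes s).mem_closed (U.ι ≫ X.hom).isClosedMap.isClosed_range
      ⟨⟨l, subset_closure rfl⟩, hl⟩
  refine ⟨hmain, hpiece, fun σ₁ σ₂ h₁ h₂ h =>
    TwCLib.eq_of_agree_point X.hom h₁ h₂ (S.fromSpecResidueField (genericPoint S))
      (IsLocalRing.closedPoint (S.residueField (genericPoint S))) h, fun τ hτ => ?_⟩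
  let pt : Spec (S.residueField (genericPoint S)) := IsLocalRing.closedPoint (S.residueField (genericPoint S))
  let l : X.left := τ.base pt
  have hl : X.hom.base l = genericPoint S := by
    show X.hom.base (τ.base pt) = _
    rw [← Scheme.Hom.comp_apply, hτ]
    exact Scheme.fromSpecResidueField_apply _ _
  obtain ⟨U, hU, -, hfin, het', hsurj⟩ := hpiece l hl
  have hlU : l ∈ U := by
    show l ∈ (U : Set X.left); rw [hU]; exact subset_closure rfl
  haveI : PreconnectedSpace U.toScheme := Subtype.preconnectedSpace (by
    rw [hU]; exact isPreconnected_singleton.closure)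
  let τ' : Spec (CommRingCat.of (S.residueField (genericPoint S))) ⟶ U.toScheme := IsOpenImmersion.lift U.ι τ (by
    rw [Scheme.Opens.range_ι]
    rintro _ ⟨z, rfl⟩
    rw [show z = pt from Subsingleton.elim _ _]
    exact hlU)
  have hτ' : τ' ≫ U.ι = τ := IsOpenImmersion.lift_fac _ _ _
  have hcomp : τ' ≫ U.ι ≫ X.hom = S.fromSpecResidueField (genericPoint S) := by
    rw [← Category.assoc, hτ', hτ]
  haveI : IsPreimmersion (τ' ≫ U.ι ≫ X.hom) := by
    rw [hcomp]; exact inferInstanceAs (IsPreimmersion (S.fromSpecResidueField (genericPoint S)))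
  haveI : IsIso (U.ι ≫ X.hom) := by
    refine TwCLib.isIso_of_section_point (U.ι ≫ X.hom) τ' fun z hz => ?_
    apply U.ι.isOpenEmbedding.injective
    rw [← Scheme.Hom.comp_apply, hτ']
    have hz' : X.hom.base (U.ι.base z) = genericPoint S := by
      rw [← Scheme.Hom.comp_apply, hz, hcomp]
      exact Scheme.fromSpecResidueField_apply _ _
    have hzU : U.ι.base z ∈ closure ({l} : Set X.left) := by rw [← hU]; exact z.2
    exact (hnoSpec l _ (specializes_iff_mem_closure.mpr hzU) (hl.trans hz'.symm)).symm
  refine ⟨inv (U.ι ≫ X.hom) ≫ U.ι, by rw [Category.assoc, IsIso.inv_hom_id], ?_⟩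
  rw [← hcomp]
  simp only [Category.assoc]
  rw [← Category.assoc U.ι X.hom, IsIso.hom_inv_id_assoc, hτ']

end Groth.Agent.S19145
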