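import Groth.Statements.S19146
import Groth.Agent.TwCLib.Structure
import Groth.Agent.Hens.FinitePart

set_option linter.style.haveILetI false
set_option backward.isDefEq.respectTransparency false
-- import your own Groth.Agent.* helpers here

set_option autoImplicit false
open CategoryTheory MonoidalCategory CartesianMonoidalCategory MonObj GrpObj AlgebraicGeometry
universe u
open TwC

namespace Groth.Agent.S19146

/-- Let R be a henselian local ring, s the closed point of S = Spec R, and X a quasi-isotrivial twisted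
constant S-scheme (etale-locally on S isomorphic to a constant scheme). Then X is the disjoint
union, over the points x of the closed fibre X_s, of the local schemes X(x) = Spec O_{X,x}: for each
such x the canonical morphism Spec O_{X,x} ⟶ X is an open and closed immersion and X(x) is a finite
etale cover of S (finite, etale, surjective), every point of X lies in X(x) for exactly one x ∈ X_s,
and restricting a section of X ⟶ S to the closed point is a bijection from the sections of X over S
onto the sections of X_s over s. -/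
theorem result (R : Type u) [CommRing R] [HenselianLocalRing R]
    (X : Over (Spec (CommRingCat.of R))) (hX : TwC.IsTwConst TwC.Topology.etale X) :
    (∀ x : X.left, X.hom.base x = IsLocalRing.closedPoint R →
      IsOpenImmersion (X.left.fromSpecStalk x) ∧ IsClosedImmersion (X.left.fromSpecStalk x) ∧
        IsFinite (X.left.fromSpecStalk x ≫ X.hom) ∧ Etale (X.left.fromSpecStalk x ≫ X.hom) ∧
        Surjective (X.left.fromSpecStalk x ≫ X.hom)) ∧
    (∀ y : X.left, ∃! x : X.left, X.hom.base x = IsLocalRing.closedPoint R ∧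
      y ∈ Set.range (X.left.fromSpecStalk x).base) ∧
    (∀ σ₁ σ₂ : Spec (CommRingCat.of R) ⟶ X.left, σ₁ ≫ X.hom = 𝟙 _ → σ₂ ≫ X.hom = 𝟙 _ →
      Spec.map (CommRingCat.ofHom (IsLocalRing.residue R)) ≫ σ₁ = Spec.map (CommRingCat.ofHom (IsLocalRing.residue R)) ≫ σ₂ → σ₁ = σ₂) ∧
    (∀ τ : Spec (CommRingCat.of (IsLocalRing.ResidueField R)) ⟶ X.left,
      τ ≫ X.hom = Spec.map (CommRingCat.ofHom (IsLocalRing.residue R)) →
      ∃ σ : Spec (CommRingCat.of R) ⟶ X.left, σ ≫ X.hom = 𝟙 _ ∧ Spec.map (CommRingCat.ofHom (IsLocalRing.residue R)) ≫ σ = τ) := by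
  classical
  obtain ⟨hsep, het, hvc⟩ := TwCLib.isSeparated_etale_valuativeCriterion hX
  haveI : LocallyQuasiFinite X.hom := EtStruct.locallyQuasiFinite_of_formallyUnramified _
  have hnoSpec : ∀ a b : X.left, a ⤳ b → X.hom.base a = X.hom.base b → a = b := fun a b hab h =>
    EtStruct.eq_of_specializes_of_map_eq X.hom hab h
  have hclpt : ∀ a : X.left, X.hom.base a = IsLocalRing.closedPoint R → IsClosed ({a} : Set X.left) := by
    intro a ha
    refine isClosed_of_closure_subset fun b hb => ?_
    have hab : a ⤳ b := specializes_iff_mem_closure.mpr hb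
    have h : X.hom.base b = IsLocalRing.closedPoint R := by
      have h2 := hab.map X.hom.base.hom.continuous
      rw [ha] at h2
      exact h2.mem_closed (IsLocalRing.isClosed_singleton_closedPoint R) rfl
    exact (hnoSpec a b hab (ha.trans h.symm)).symm
  have hpiece : ∀ x : X.left, X.hom.base x = IsLocalRing.closedPoint R →
      ∃ W : X.left.Opens, x ∈ W ∧ IsClosed (W : Set X.left) ∧ IsFinite (W.ι ≫ X.hom) ∧
        Surjective (W.ι ≫ X.hom) ∧ ∀ z ∈ W, z ⤳ x := by
    intro x hx
    obtain ⟨W₀, hW₀, hxW₀, -⟩ := exists_isAffineOpen_mem_and_subset (x := x) (U := (⊤ : X.left.Opens)) trivial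
    haveI : IsAffine W₀.toScheme := hW₀
    haveI : LocallyQuasiFinite (W₀.ι ≫ X.hom) := inferInstance
    let M : Set X.left := W₀.ι.base '' ((W₀.ι ≫ X.hom).base ⁻¹' {IsLocalRing.closedPoint R}) \ {x}
    have hMfin : M.Finite := (((W₀.ι ≫ X.hom).finite_preimage_singleton _).image _).subset Set.diff_subset
    have hMcl : IsClosed M := by
      rw [← Set.biUnion_of_singleton M]
      refine hMfin.isClosed_biUnion fun a ha => hclpt a ?_
      obtain ⟨⟨w, hw, rfl⟩, -⟩ := ha
      exact hw
    obtain ⟨W₂, hW₂, hxW₂, hW₂sub⟩ := exists_isAffineOpen_mem_and_subset (x := x)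
      (U := W₀ ⊓ ⟨Mᶜ, hMcl.isOpen_compl⟩) ⟨hxW₀, fun h => h.2 rfl⟩
    haveI : IsAffine W₂.toScheme := hW₂
    obtain ⟨W, -, hWfin, hWmem⟩ := Hens.FinPart.exists_finPart (W₂.ι ≫ X.hom)
    let W₃ : X.left.Opens := W₂.ι ''ᵁ W
    have hxW₃ : x ∈ W₃ := ⟨⟨x, hxW₂⟩, hWmem _ hx, rfl⟩
    haveI hfin : IsFinite (W₃.ι ≫ X.hom) := by
      rw [show W₃.ι ≫ X.hom = (W₂.ι.isoImage W).inv ≫ W.ι ≫ W₂.ι ≫ X.hom by
        rw [Scheme.Hom.isoImage_inv_ι_assoc]]
      infer_instance
    haveI : IsFinite W₃.ι := IsFinite.of_comp W₃.ι X.hom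
    have hcl : IsClosed (W₃ : Set X.left) := by
      rw [← Scheme.Opens.range_ι W₃]; exact W₃.ι.isClosedMap.isClosed_range
    have hspec : ∀ z ∈ W₃, z ⤳ x := by
      intro z hz
      let C : Set W₃.toScheme := closure {⟨z, hz⟩}
      have himg : IsClosed ((W₃.ι ≫ X.hom).base '' C) := (W₃.ι ≫ X.hom).isClosedMap _ isClosed_closure
      obtain ⟨w, hw, hwc⟩ : IsLocalRing.closedPoint R ∈ (W₃.ι ≫ X.hom).base '' C :=
        (IsLocalRing.specializes_closedPoint ((W₃.ι ≫ X.hom).base ⟨z, hz⟩)).mem_closed himg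
          ⟨_, subset_closure rfl, rfl⟩
      have hsp : z ⤳ w.1 :=
        (specializes_iff_mem_closure.mpr hw : (⟨z, hz⟩ : W₃.toScheme) ⤳ w).map W₃.ι.base.hom.continuous
      obtain ⟨w₂, -, hw₂⟩ := w.2
      have hwW₂ : w.1 ∈ W₂ := hw₂ ▸ w₂.2
      suffices w.1 = x by rw [← this]; exact hsp
      by_contra hne
      exact (hW₂sub hwW₂).2 ⟨⟨⟨w.1, (hW₂sub hwW₂).1⟩, hwc, rfl⟩, hne⟩
    refine ⟨W₃, hxW₃, hcl, hfin, ⟨fun p => ?_⟩, hspec⟩
    obtain ⟨a, ha, rfl⟩ := Flat.generalizingMap X.hom
      (show p ⤳ X.hom.base x by rw [hx]; exact IsLocalRing.specializes_closedPoint p)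
    exact ⟨⟨a, ha.mem_open W₃.2 hxW₃⟩, rfl⟩
  have hrange : ∀ a y : X.left, y ∈ Set.range (X.left.fromSpecStalk a).base ↔ y ⤳ a := fun a y => by
    rw [Scheme.range_fromSpecStalk]; rfl
  refine ⟨fun x hx => ?_, fun y => ?_, fun σ₁ σ₂ h₁ h₂ h => ?_, fun τ hτ => ?_⟩
  · obtain ⟨W, hxW, hWcl, hWfin, hWsurj, hspec⟩ := hpiece x hx
    haveI : IsAffine W.toScheme := by
      haveI := hWfin
      exact isAffine_of_isAffineHom (W.ι ≫ X.hom)
    have hWaff : IsAffineOpen W := ‹IsAffine W.toScheme›
    have hunit : ∀ f : Γ(X.left, W), IsUnit (X.left.presheaf.germ W x hxW f) → IsUnit f := by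
      intro f hf
      refine X.left.toRingedSpace.isUnit_of_isUnit_germ W f fun z hz => ?_
      show IsUnit (X.left.presheaf.germ W z hz f)
      rw [← TopCat.Presheaf.germ_stalkSpecializes X.left.presheaf hxW (hspec z hz)]
      exact hf.map (X.left.presheaf.stalkSpecializes (hspec z hz)).hom
    have hgerm : IsIso (X.left.presheaf.germ W x hxW) := by
      haveI := hWaff.isLocalization_stalk ⟨x, hxW⟩
      letI : Algebra Γ(X.left, W) (X.left.presheaf.stalk x) := (X.left.presheaf.germ W x hxW).hom.toAlgebra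
      haveI : IsLocalization.AtPrime (X.left.presheaf.stalk x) (hWaff.primeIdealOf ⟨x, hxW⟩).asIdeal :=
        hWaff.isLocalization_stalk ⟨x, hxW⟩
      refine (ConcreteCategory.isIso_iff_bijective _).mpr ?_
      exact (IsLocalization.atUnits Γ(X.left, W) (hWaff.primeIdealOf ⟨x, hxW⟩).asIdeal.primeCompl
        (S := X.left.presheaf.stalk x) fun f hf => hunit f
          (IsLocalization.map_units (X.left.presheaf.stalk x) ⟨f, hf⟩)).bijective
    haveI hopen : IsOpenImmersion (X.left.fromSpecStalk x) := by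
      rw [← hWaff.fromSpecStalk_eq_fromSpecStalk hxW]
      show IsOpenImmersion (Spec.map (X.left.presheaf.germ W x hxW) ≫ hWaff.fromSpec)
      infer_instance
    have hr : Set.range (X.left.fromSpecStalk x).base = (W : Set X.left) := by
      ext z
      rw [hrange]
      exact ⟨fun h => h.mem_open W.2 hxW, hspec z⟩
    let e := IsOpenImmersion.isoOfRangeEq (X.left.fromSpecStalk x) W.ι (by rw [hr, Scheme.Opens.range_ι])
    have he : X.left.fromSpecStalk x ≫ X.hom = e.hom ≫ W.ι ≫ X.hom := by
      rw [← Category.assoc, IsOpenImmersion.isoOfRangeEq_hom_fac]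
    refine ⟨hopen, .of_isPreimmersion _ (by rw [hr]; exact hWcl), ?_, ?_, ?_⟩ <;> rw [he] <;> infer_instance
  · obtain ⟨a, hya, hac⟩ := ValuativeCriterion.Existence.specializingMap X.hom hvc.existence
      (IsLocalRing.specializes_closedPoint (X.hom.base y))
    refine ⟨a, ⟨hac, (hrange a y).mpr hya⟩, fun b hb => ?_⟩
    obtain ⟨W, haW, hWcl, -, -, hspec⟩ := hpiece a hac
    have hyb : y ⤳ b := (hrange b y).mp hb.2
    exact hnoSpec b a (hspec b (hyb.mem_closed hWcl (hya.mem_open W.2 haW))) (hb.1.trans hac.symm)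
  · haveI : PreconnectedSpace (Spec (CommRingCat.of R)) := ⟨isPreconnected_of_forall (IsLocalRing.closedPoint R)
      fun z _ => ⟨closure {z}, Set.subset_univ _,
        specializes_iff_mem_closure.mp (IsLocalRing.specializes_closedPoint z), subset_closure rfl,
        isPreconnected_singleton.closure⟩⟩
    exact TwCLib.eq_of_agree_point X.hom h₁ h₂ (Spec.map (CommRingCat.ofHom (IsLocalRing.residue R)))
      (IsLocalRing.closedPoint (IsLocalRing.ResidueField R)) h
  · let c : Spec (CommRingCat.of (IsLocalRing.ResidueField R)) ⟶ Spec (CommRingCat.of R) :=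
      Spec.map (CommRingCat.ofHom (IsLocalRing.residue R))
    haveI : IsClosedImmersion c := IsClosedImmersion.spec_of_surjective _ IsLocalRing.residue_surjective
    let pt : Spec (CommRingCat.of (IsLocalRing.ResidueField R)) := IsLocalRing.closedPoint _
    let x : X.left := τ.base pt
    have hcpt : c.base pt = IsLocalRing.closedPoint R := by
      haveI : IsLocalHom (CommRingCat.ofHom (IsLocalRing.residue R)).hom :=
        inferInstanceAs (IsLocalHom (IsLocalRing.residue R))
      exact Spec_closedPoint (f := CommRingCat.ofHom (IsLocalRing.residue R))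
    have hx : X.hom.base x = IsLocalRing.closedPoint R := by
      show X.hom.base (τ.base pt) = _
      rw [← Scheme.Hom.comp_apply, hτ]; exact hcpt
    obtain ⟨W, hxW, -, hWfin, hWsurj, hspec⟩ := hpiece x hx
    haveI : PreconnectedSpace W.toScheme := Subtype.preconnectedSpace <| by
      refine isPreconnected_of_forall x fun z hz => ⟨closure {z} ∩ W, Set.inter_subset_right,
        ⟨specializes_iff_mem_closure.mp (hspec z hz), hxW⟩, ⟨subset_closure rfl, hz⟩, ?_⟩
      exact isPreconnected_singleton.subset_closure (Set.singleton_subset_iff.mpr ⟨subset_closure rfl, hz⟩)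
        Set.inter_subset_left
    let τ' : Spec (CommRingCat.of (IsLocalRing.ResidueField R)) ⟶ W.toScheme := IsOpenImmersion.lift W.ι τ (by
      rw [Scheme.Opens.range_ι]
      rintro _ ⟨z, rfl⟩
      rw [show z = pt from Subsingleton.elim _ _]
      exact hxW)
    have hτ' : τ' ≫ W.ι = τ := IsOpenImmersion.lift_fac _ _ _
    have hcomp : τ' ≫ W.ι ≫ X.hom = c := by
      rw [← Category.assoc, hτ', hτ]
    haveI : IsPreimmersion (τ' ≫ W.ι ≫ X.hom) := by rw [hcomp]; infer_instance
    haveI : IsIso (W.ι ≫ X.hom) := by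
      refine TwCLib.isIso_of_section_point (W.ι ≫ X.hom) τ' fun z hz => ?_
      apply W.ι.isOpenEmbedding.injective
      rw [← Scheme.Hom.comp_apply τ' W.ι, hτ']
      have hz' : X.hom.base (W.ι.base z) = IsLocalRing.closedPoint R := by
        rw [← Scheme.Hom.comp_apply, hz, hcomp]; exact hcpt
      exact hnoSpec _ x (hspec _ z.2) (hz'.trans hx.symm)
    refine ⟨inv (W.ι ≫ X.hom) ≫ W.ι, by rw [Category.assoc, IsIso.inv_hom_id], ?_⟩
    show c ≫ _ = τ
    rw [← hcomp]
    simp only [Category.assoc]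
    rw [← Category.assoc W.ι X.hom, IsIso.hom_inv_id_assoc, hτ']

end Groth.Agent.S19146
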