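import Groth.Statements.S19148
import Mathlib

set_option autoImplicit false
open scoped TensorProduct
universe u v
open FiltMod

namespace Groth.Agent.S19148

open scoped TensorProduct

theorem le_of_range {R : Type u} [CommRing R] {M : Type v} [AddCommGroup M] [Module R M]
    [Module.Finite R M] [Module.Projective R M] (F₁ F₂ : Submodule R M)
    (h₁ : ∃ C : Submodule R M, IsCompl F₁ C) (h₂ : ∃ C : Submodule R M, IsCompl F₂ C) (k : ℕ)
    (hr : LinearMap.range (PiTensorProduct.map (R := R) (fun _ : Fin (k + 1) => F₁.subtype)) ≤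
      LinearMap.range (PiTensorProduct.map (R := R) (fun _ : Fin (k + 1) => F₂.subtype))) : F₁ ≤ F₂ := by
  classical
  obtain ⟨C₁, hC₁⟩ := h₁
  obtain ⟨C₂, hC₂⟩ := h₂
  let π₁ := F₁.projectionOnto C₁ hC₁
  let π₂ := C₂.projectionOnto F₂ hC₂.symm
  haveI : Module.Projective R F₁ :=
    Module.Projective.of_split F₁.subtype π₁ (LinearMap.ext fun x => Submodule.projectionOnto_apply_left hC₁ x)
  haveI : Module.Finite R F₁ := Module.Finite.of_surjective π₁ fun x => ⟨x, Submodule.projectionOnto_apply_left hC₁ x⟩
  haveI : Module.Projective R C₂ :=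
    Module.Projective.of_split C₂.subtype π₂ (LinearMap.ext fun x => Submodule.projectionOnto_apply_left hC₂.symm x)
  intro x hx
  have hπ : π₂ x = 0 := by
    rw [← Module.forall_dual_apply_eq_zero_iff R]
    intro χ
    let φ : M →ₗ[R] R := χ ∘ₗ π₂
    have hφ2 : ∀ y ∈ F₂, φ y = 0 := fun y hy => by
      simp [φ, π₂, (Submodule.projectionOnto_apply_eq_zero_iff hC₂.symm).2 hy]
    have top : ∀ (y : F₁) (ψ : Fin k → (M →ₗ[R] R)) (z : Fin k → F₁), φ y * ∏ i, ψ i (z i) = 0 := by
      intro y ψ z
      let Φ : MultilinearMap R (fun _ : Fin (k + 1) => M) R :=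
        (MultilinearMap.mkPiAlgebra R (Fin (k + 1)) R).compLinearMap (Fin.cons φ ψ : Fin (k + 1) → (M →ₗ[R] R))
      have hmem := hr ⟨PiTensorProduct.tprod R (Fin.cons y z : Fin (k + 1) → F₁), PiTensorProduct.map_tprod _ _⟩
      have hker : LinearMap.range (PiTensorProduct.map (R := R) (fun _ : Fin (k + 1) => F₂.subtype)) ≤
          LinearMap.ker (PiTensorProduct.lift Φ) := by
        rw [PiTensorProduct.map_range_eq_span_tprod, Submodule.span_le]
        rintro _ ⟨m, rfl⟩
        simp only [SetLike.mem_coe, LinearMap.mem_ker, PiTensorProduct.lift.tprod, Φ,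
          MultilinearMap.compLinearMap_apply, MultilinearMap.mkPiAlgebra_apply, Fin.prod_univ_succ, Fin.cons_zero]
        rw [show F₂.subtype (m 0) = ((m 0 : F₂) : M) from rfl, hφ2 _ (m 0).2, zero_mul]
      have h0 := hker hmem
      simpa [Φ, Fin.prod_univ_succ, PiTensorProduct.lift.tprod] using h0
    obtain ⟨n, f, g, -, -, hfg⟩ := Module.Finite.exists_comp_eq_id_of_projective R F₁
    have desc : ∀ j, (∀ (y : F₁) (ψ : Fin (j + 1) → (M →ₗ[R] R)) (z : Fin (j + 1) → F₁), φ y * ∏ i, ψ i (z i) = 0) →
        ∀ (y : F₁) (ψ : Fin j → (M →ₗ[R] R)) (z : Fin j → F₁), φ y * ∏ i, ψ i (z i) = 0 := by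
      intro j hj y ψ z
      have hy : y = ∑ i, g y i • f (Pi.single i 1) := by
        conv_lhs => rw [← LinearMap.id_apply (R := R) y, ← hfg, LinearMap.comp_apply, pi_eq_sum_univ' (g y), map_sum]
        simp only [map_smul]
      conv_lhs => rw [hy, Submodule.coe_sum, map_sum, Finset.sum_mul]
      refine Finset.sum_eq_zero fun i _ => ?_
      have := hj (f (Pi.single i 1)) (Fin.cons ((LinearMap.proj i) ∘ₗ g ∘ₗ π₁) ψ) (Fin.cons y z)
      simp only [Fin.prod_univ_succ, Fin.cons_zero, Fin.cons_succ, LinearMap.comp_apply, LinearMap.proj_apply,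
        π₁, Submodule.projectionOnto_apply_left] at this
      rw [Submodule.coe_smul, map_smul, smul_eq_mul]
      linear_combination this
    have fin : ∀ j, j ≤ k → ∀ (y : F₁) (ψ : Fin (k - j) → (M →ₗ[R] R)) (z : Fin (k - j) → F₁), φ y * ∏ i, ψ i (z i) = 0 := by
      intro j
      induction j with
      | zero => intro _; exact top
      | succ j ih =>
        intro hjk
        have h := ih (by omega)
        rw [show k - j = (k - (j + 1)) + 1 by omega] at h
        exact desc _ h
    have h0 := fin k le_rfl ⟨x, hx⟩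
    rw [Nat.sub_self] at h0
    simpa [φ] using h0 ![] ![]
  exact (Submodule.projectionOnto_apply_eq_zero_iff hC₂.symm).1 hπ

/-- In affine form, let R be a commutative ring, M a finitely generated projective R-module (a finite
locally free sheaf on Spec R), F₁ and F₂ direct summands of M and k ≥ 1. Then the images of F₁^{⊗k}
and F₂^{⊗k} in the k-th tensor power M^{⊗k} are equal if and only if F₁ = F₂. (The source states
this for local direct factors of a finite locally free sheaf on a scheme; equality of subsheaves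
being local, this is the affine case with global direct summands, to which it reduces.) -/
theorem result {R : Type u} [CommRing R] {M : Type v} [AddCommGroup M] [Module R M]
    [Module.Finite R M] [Module.Projective R M] (F₁ F₂ : Submodule R M)
    (h₁ : ∃ C : Submodule R M, IsCompl F₁ C) (h₂ : ∃ C : Submodule R M, IsCompl F₂ C) (k : ℕ) (hk : 1 ≤ k) :
    LinearMap.range (PiTensorProduct.map (R := R) (fun _ : Fin k => F₁.subtype)) =
      LinearMap.range (PiTensorProduct.map (R := R) (fun _ : Fin k => F₂.subtype)) ↔ F₁ = F₂ := by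
  obtain ⟨m, rfl⟩ : ∃ m, k = m + 1 := ⟨k - 1, by omega⟩
  refine ⟨fun h => le_antisymm (le_of_range F₁ F₂ h₁ h₂ m h.le) (le_of_range F₂ F₁ h₂ h₁ m h.ge), fun h => ?_⟩
  subst h
  rfl

end Groth.Agent.S19148
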