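import Groth.Statements.S19149
import Mathlib

set_option autoImplicit false
universe u
open GrpSch

namespace Groth.Agent.S19149

open scoped TensorProduct

/-- In affine form, let R be a commutative ring, A a smooth R-algebra with an augmentation ε : A → R
(the unit section of G = Spec A over S = Spec R), I = ker ε its augmentation ideal, and J ⊆ I an
ideal (defining a closed subscheme H of G through the unit section) such that (1) J is finitely
generated, (2) J ∩ I² = I·J in A, and (3) I/(J + I²) is a finitely generated projective R-module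
(finite locally free on S). Then H = Spec (A/J) is smooth over S at every point of the unit section:
for every prime P of A/J containing the image of I, the localization (A/J)_P is formally smooth over
R. (The source states this for G an affine smooth group scheme over a scheme S and H a closed
subgroup, concluding that the neutral component H° is a smooth open subgroup scheme; that conclusion
is smoothness of H along the unit section, which is the statement here in affine form; the group
structure is not used.) -/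
theorem result (R A : Type u) [CommRing R] [CommRing A] [Algebra R A]
    [Algebra.Smooth R A] (ε : A →ₐ[R] R) (J : Ideal A) (hJI : J ≤ RingHom.ker ε)
    (h1 : J.FG)
    (h2 : J ⊓ RingHom.ker ε ^ 2 = RingHom.ker ε * J)
    (h3 : Module.Finite R (↥(RingHom.ker ε) ⧸ Submodule.comap (RingHom.ker ε).subtype (J ⊔ RingHom.ker ε ^ 2)) ∧
      Module.Projective R (↥(RingHom.ker ε) ⧸ Submodule.comap (RingHom.ker ε).subtype (J ⊔ RingHom.ker ε ^ 2)))
    (P : Ideal (A ⧸ J)) [P.IsPrime] (hP : (RingHom.ker ε).map (Ideal.Quotient.mk J) ≤ P) :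
    Algebra.IsSmoothAt R P := by
  classical
  let I : Ideal A := RingHom.ker ε
  let P₀ : Ideal A := P.comap (Ideal.Quotient.mk J)
  have hIP : I ≤ P₀ := Ideal.map_le_iff_le_comap.1 hP
  let Pl := Localization.AtPrime P₀
  let S := Localization.AtPrime P
  let φ : Pl →+* S := Localization.localRingHom P₀ P (Ideal.Quotient.mk J) rfl
  letI : Algebra Pl S := φ.toAlgebra
  have hφ : ∀ a : A, algebraMap Pl S (algebraMap A Pl a) = algebraMap (A ⧸ J) S (Ideal.Quotient.mk J a) :=
    fun a => Localization.localRingHom_to_map P₀ P (Ideal.Quotient.mk J) rfl a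
  haveI : IsScalarTower A Pl S := .of_algebraMap_eq fun a => by
    rw [hφ]
    exact IsScalarTower.algebraMap_apply A (A ⧸ J) S a
  haveI : IsScalarTower R Pl S := .of_algebraMap_eq fun r => by
    rw [IsScalarTower.algebraMap_apply R A Pl, hφ, IsScalarTower.algebraMap_apply R (A ⧸ J) S]
    rfl
  have hφs : Function.Surjective (algebraMap Pl S) := fun y => by
    obtain ⟨x, s, rfl⟩ := IsLocalization.exists_mk'_eq P.primeCompl y
    obtain ⟨a, rfl⟩ := Ideal.Quotient.mk_surjective x
    obtain ⟨t, ht⟩ := Ideal.Quotient.mk_surjective (s : A ⧸ J)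
    refine ⟨IsLocalization.mk' Pl a (⟨t, fun h => s.2 (show (s : A ⧸ J) ∈ P from ht ▸ (Ideal.mem_comap.1 h : Ideal.Quotient.mk J t ∈ P))⟩ : P₀.primeCompl), ?_⟩
    rw [IsLocalization.eq_mk'_iff_mul_eq, ← congrArg (algebraMap (A ⧸ J) S) ht, ← hφ, ← hφ, ← map_mul]
    exact congrArg (algebraMap Pl S) (IsLocalization.mk'_spec Pl a _)
  have hker : RingHom.ker (algebraMap Pl S) = J.map (algebraMap A Pl) := by
    refine le_antisymm (fun x hx => ?_) (Ideal.map_le_iff_le_comap.2 fun j hj => ?_)
    · obtain ⟨a, s, rfl⟩ := IsLocalization.exists_mk'_eq P₀.primeCompl x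
      have h0 : algebraMap (A ⧸ J) S (Ideal.Quotient.mk J a) = 0 := by
        rw [← hφ, ← IsLocalization.mk'_spec Pl a s, map_mul, RingHom.mem_ker.1 hx, zero_mul]
      obtain ⟨u, hu⟩ := (IsLocalization.map_eq_zero_iff P.primeCompl S _).1 h0
      obtain ⟨t, ht⟩ := Ideal.Quotient.mk_surjective (u : A ⧸ J)
      refine (IsLocalization.mk'_mem_map_algebraMap_iff P₀.primeCompl Pl J a s).2
        ⟨t, fun h => u.2 (show (u : A ⧸ J) ∈ P from ht ▸ (Ideal.mem_comap.1 h : Ideal.Quotient.mk J t ∈ P)), ?_⟩
      rw [← Ideal.Quotient.eq_zero_iff_mem, map_mul, ht, hu]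
    · rw [Ideal.mem_comap, RingHom.mem_ker, hφ, Ideal.Quotient.eq_zero_iff_mem.2 hj, map_zero]
  haveI : Algebra.FormallySmooth A Pl := Algebra.FormallySmooth.of_isLocalization P₀.primeCompl
  haveI : Algebra.FormallySmooth R Pl := Algebra.FormallySmooth.comp R A Pl
  haveI : Algebra.FormallyEtale A Pl := Algebra.FormallyEtale.of_isLocalization P₀.primeCompl
  have hb := KaehlerDifferential.isBaseChange_of_formallyEtale R A Pl
  haveI : Module.Finite Pl (KaehlerDifferential R Pl) := Module.Finite.equiv hb.equiv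
  haveI : Module.Projective Pl (KaehlerDifferential R Pl) := Module.Projective.of_equiv hb.equiv
  haveI : Module.Free Pl (KaehlerDifferential R Pl) := Module.free_of_flat_of_isLocalRing
  show Algebra.FormallySmooth R S
  rw [Algebra.FormallySmooth.iff_injective_cotangentComplexBaseChange_residueField Pl hφs
    (hker ▸ h1.map _)]
  let k := IsLocalRing.ResidueField S
  let K := RingHom.ker (algebraMap Pl S)
  let N := k ⊗[Pl] K
  have hcomm : ∀ (x : A) (n : N), x ∈ P₀ → algebraMap A Pl x • n = 0 := fun x n hx => by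
    have h0 : algebraMap Pl k (algebraMap A Pl x) = 0 := by
      rw [IsScalarTower.algebraMap_apply Pl S k, hφ, IsLocalRing.ResidueField.algebraMap_eq,
        IsLocalRing.residue_eq_zero_iff]
      exact (IsLocalization.AtPrime.to_map_mem_maximal_iff S P _).2 hx
    rw [← IsScalarTower.algebraMap_smul k, h0, zero_smul]
  have hK : ∀ (x : Pl), x ∈ K → ∀ n : N, x • n = 0 := fun x hx n => by
    rw [← IsScalarTower.algebraMap_smul k, IsScalarTower.algebraMap_apply Pl S k, RingHom.mem_ker.1 hx,
      map_zero, zero_smul]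
  have hmemK : ∀ j ∈ J, algebraMap A Pl j ∈ K := fun j hj => by
    rw [show K = _ from hker]
    exact Ideal.mem_map_of_mem _ hj
  -- `t j = 1 ⊗ j`
  let t : J →+ N :=
    { toFun := fun j => (1 : k) ⊗ₜ[Pl] ⟨algebraMap A Pl j, hmemK j j.2⟩
      map_zero' := by
        rw [show (⟨algebraMap A Pl ((0 : J) : A), hmemK _ (0 : J).2⟩ : K) = 0 from Subtype.ext (by simp),
          TensorProduct.tmul_zero]
      map_add' := fun a b => by
        rw [← TensorProduct.tmul_add]
        congr 1
        exact Subtype.ext (map_add (algebraMap A Pl) (a : A) b) }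
  have ht_smul : ∀ (a : A) (j : J), t (a • j) = algebraMap A Pl a • t j := fun a j => by
    show (1 : k) ⊗ₜ[Pl] _ = algebraMap A Pl a • (1 : k) ⊗ₜ[Pl] _
    rw [← TensorProduct.tmul_smul]
    congr 1
    exact Subtype.ext (map_mul (algebraMap A Pl) a j)
  have hkey : ∀ z : J, (z : A) ∈ I ^ 2 → t z = 0 := by
    intro z hz
    have hz' : (z : A) ∈ I * J := h2 ▸ ⟨z.2, hz⟩
    suffices ∀ x ∈ I * J, ∃ hx : x ∈ J, t ⟨x, hx⟩ = 0 from (this z hz').2
    intro x hx
    refine Submodule.mul_induction_on hx (fun i hi j hj => ?_) fun a b ha hb => ?_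
    · exact ⟨J.mul_mem_left i hj, (ht_smul i ⟨j, hj⟩).trans (hcomm i _ (hIP hi))⟩
    · obtain ⟨ha', ha0⟩ := ha
      obtain ⟨hb', hb0⟩ := hb
      exact ⟨J.add_mem ha' hb', (map_add t ⟨a, ha'⟩ ⟨b, hb'⟩).trans (by rw [ha0, hb0, add_zero])⟩
  -- the splitting
  let Q := ↥I ⧸ Submodule.comap I.subtype (J ⊔ I ^ 2)
  obtain ⟨hQf, hQp⟩ := h3
  obtain ⟨σ, hσ⟩ := Module.projective_lifting_property
    ((Submodule.mkQ (Submodule.comap I.subtype (J ⊔ I ^ 2))).restrictScalars R) (LinearMap.id : Q →ₗ[R] Q)
    (Submodule.mkQ_surjective _)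
  let q : ↥I →ₗ[R] Q := (Submodule.mkQ (Submodule.comap I.subtype (J ⊔ I ^ 2))).restrictScalars R
  have hdec : ∀ x : I, ∃ j : J, ((x : A) - (σ (q x) : I)) - j ∈ I ^ 2 := by
    intro x
    have h0 : q (x - σ (q x)) = 0 := by
      rw [map_sub, show q (σ (q x)) = q x from LinearMap.congr_fun hσ (q x), sub_self]
    have hmem : ((x - σ (q x) : I) : A) ∈ J ⊔ I ^ 2 := (Submodule.Quotient.mk_eq_zero (Submodule.comap I.subtype (J ⊔ I ^ 2))).1 h0
    obtain ⟨j, hj, z, hz, e⟩ := Submodule.mem_sup.1 hmem
    refine ⟨⟨j, hj⟩, ?_⟩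
    rw [show ((x : A) - (σ (q x) : I)) - j = z by
      rw [← Submodule.coe_sub, ← e]; ring]
    exact hz
  choose jx hjx using hdec
  have huniq : ∀ (x : I) (j : J), ((x : A) - (σ (q x) : I)) - j ∈ I ^ 2 → t (jx x) = t j := fun x j hj => by
    rw [← sub_eq_zero, ← map_sub]
    refine hkey _ ?_
    rw [AddSubgroupClass.coe_sub, show (jx x : A) - j =
      (((x : A) - (σ (q x) : I)) - j) - (((x : A) - (σ (q x) : I)) - jx x) by ring]
    exact Ideal.sub_mem _ hj (hjx x)
  let ρ : ↥I →+ N := AddMonoidHom.mk' (fun x => t (jx x)) fun x y => by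
    rw [← map_add]
    refine huniq _ _ ?_
    rw [Submodule.coe_add, map_add q, map_add σ, Submodule.coe_add, Submodule.coe_add,
      show (x : A) + y - ((σ (q x) : I) + (σ (q y) : I) : A) - ((jx x : A) + jx y) =
        (((x : A) - (σ (q x) : I)) - jx x) + (((y : A) - (σ (q y) : I)) - jx y) by ring]
    exact Ideal.add_mem _ (hjx x) (hjx y)
  have hρsq : ∀ x : I, (x : A) ∈ I ^ 2 → ρ x = 0 := fun x hx => by
    have hq0 : q x = 0 := (Submodule.Quotient.mk_eq_zero _).2 (Ideal.mem_sup_right hx)
    refine (huniq x 0 ?_).trans (map_zero t)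
    rw [hq0, map_zero, Submodule.coe_zero, sub_zero, Submodule.coe_zero, sub_zero]
    exact hx
  have hρJ : ∀ (j : J), ρ ⟨j, hJI j.2⟩ = t j := fun j => by
    have hq0 : q ⟨j, hJI j.2⟩ = 0 := (Submodule.Quotient.mk_eq_zero _).2 (Ideal.mem_sup_left j.2)
    refine huniq _ j ?_
    rw [hq0, map_zero, Submodule.coe_zero, sub_zero, sub_self]
    exact zero_mem _
  have hρR : ∀ (r : R) (x : I), ρ (r • x) = algebraMap A Pl (algebraMap R A r) • ρ x := fun r x => by
    show t (jx (r • x)) = _ • t (jx x)
    rw [← ht_smul]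
    refine huniq _ _ ?_
    rw [map_smul q, map_smul σ]
    simp only [Submodule.coe_smul_of_tower, SetLike.val_smul, Algebra.smul_def, Algebra.algebraMap_self,
      RingHom.id_apply]
    rw [show algebraMap R A r * (x : A) - algebraMap R A r * (σ (q x) : I) - algebraMap R A r * jx x =
      algebraMap R A r * (((x : A) - (σ (q x) : I)) - jx x) by ring]
    exact Ideal.mul_mem_left _ _ (hjx x)
  let e : A → I := fun a => ⟨a - algebraMap R A (ε a), by simp [I]⟩
  haveI : IsScalarTower A Pl N := inferInstance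
  haveI : IsScalarTower R A N := inferInstance
  have hεact : ∀ (a : A) (n : N), a • n = algebraMap R A (ε a) • n := fun a n => by
    rw [← IsScalarTower.algebraMap_smul Pl a n, ← IsScalarTower.algebraMap_smul Pl (algebraMap R A (ε a)) n,
      ← sub_eq_zero, ← sub_smul, ← map_sub]
    exact hcomm _ n (hIP (e a).2)
  let δ : Derivation R A N := Derivation.mk'
    { toFun := fun a => ρ (e a)
      map_add' := fun a b => by
        rw [← map_add]
        congr 1
        exact Subtype.ext (by simp [e]; ring)
      map_smul' := fun r a => by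
        rw [show e (r • a) = r • e a from Subtype.ext (by simp [e, Algebra.smul_def]; ring), hρR]
        exact (IsScalarTower.algebraMap_smul Pl (algebraMap R A r) _).trans (IsScalarTower.algebraMap_smul A r _) }
    fun a b => by
      show ρ (e (a * b)) = a • ρ (e b) + b • ρ (e a)
      rw [hεact a, hεact b, IsScalarTower.algebraMap_smul A, IsScalarTower.algebraMap_smul A]
      have h3 : e (a * b) = ε a • e b + ε b • e a + ⟨(e a : A) * e b, Ideal.mul_mem_left _ _ (e b).2⟩ :=
        Subtype.ext (by simp [e, Algebra.smul_def]; ring)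
      rw [h3, map_add, map_add, hρR, hρR, hρsq ⟨(e a : A) * e b, _⟩ (by
        rw [pow_two]; exact Ideal.mul_mem_mul (e a).2 (e b).2), add_zero]
      rw [show algebraMap A Pl (algebraMap R A (ε a)) • ρ (e b) = ε a • ρ (e b) from
          (IsScalarTower.algebraMap_smul Pl _ _).trans (IsScalarTower.algebraMap_smul A (ε a) _),
        show algebraMap A Pl (algebraMap R A (ε b)) • ρ (e a) = ε b • ρ (e a) from
          (IsScalarTower.algebraMap_smul Pl _ _).trans (IsScalarTower.algebraMap_smul A (ε b) _)]
  have hδJ : ∀ j : J, δ j = t j := fun j => by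
    show ρ (e j) = t j
    rw [← hρJ]
    congr 1
    exact Subtype.ext (by simp [e, show ε j = 0 from hJI j.2])
  let L : KaehlerDifferential R Pl →ₗ[Pl] N := hb.lift δ.liftKaehlerDifferential
  let D' : Derivation R Pl N := L.compDer (KaehlerDifferential.D R Pl)
  have hD' : ∀ a : A, D' (algebraMap A Pl a) = δ a := fun a => by
    show L (KaehlerDifferential.D R Pl (algebraMap A Pl a)) = δ a
    rw [← KaehlerDifferential.map_D R R A Pl, hb.lift_eq, Derivation.liftKaehlerDifferential_comp_D]
  have hD'K : ∀ x : K, D' x = (1 : k) ⊗ₜ[Pl] x := by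
    rintro ⟨x, hx⟩
    obtain ⟨⟨j, s⟩, hxs⟩ := (IsLocalization.mem_map_algebraMap_iff P₀.primeCompl Pl).1 (hker ▸ hx :
      x ∈ J.map (algebraMap A Pl))
    have h1 := congrArg D' hxs
    rw [D'.leibniz, hD', hK x hx, zero_add, hD', hδJ] at h1
    have hu : IsUnit (algebraMap A Pl s) := IsLocalization.map_units Pl s
    rw [← hu.smul_left_cancel, h1]
    show (1 : k) ⊗ₜ[Pl] _ = algebraMap A Pl s • (1 : k) ⊗ₜ[Pl] _
    rw [← TensorProduct.tmul_smul]
    congr 1
    exact Subtype.ext (hxs.symm.trans (mul_comm _ _))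
  let Λ : k ⊗[Pl] KaehlerDifferential R Pl →ₗ[k] N := LinearMap.liftBaseChange k L
  have hΛ : ∀ z : N, Λ (KaehlerDifferential.cotangentComplexBaseChange R S Pl k z) = z := fun z => by
    induction z using TensorProduct.induction_on with
    | zero => simp
    | tmul c x =>
      rw [KaehlerDifferential.cotangentComplexBaseChange_tmul, map_smul, KaehlerDifferential.kerToTensor_apply,
        LinearMap.liftBaseChange_tmul, one_smul]
      show c • D' x = _
      rw [hD'K, TensorProduct.smul_tmul', smul_eq_mul, mul_one]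
    | add a b ha hb => rw [map_add, map_add, ha, hb]
  exact Function.LeftInverse.injective (g := Λ) hΛ


end Groth.Agent.S19149
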