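import Groth.Statements.S19154
import Groth.Agent.CAlg48.FiltSplit
-- import your own Groth.Agent.* helpers here

set_option autoImplicit false
open scoped TensorProduct
universe u v w
open FiltMod

namespace Groth.Agent.S19154

open Groth.Agent.CAlg48

/-- (1) ⇔ (4): in affine form, let Γ be a non-trivial totally ordered commutative group, R a commutative
ring, M a finitely generated projective R-module (a finite locally free sheaf on X = Spec R) and F a
non-increasing Γ-indexed family of submodules of M; write F^γ_+ for the sum of the F^η with η > γ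
and Gr^γ = F^γ/F^γ_+. Then the following are equivalent: (1) there is a Γ-grading M = ⊕_γ G_γ by
submodules (internal direct sum) with F^γ = Σ_{η ≥ γ} G_η for every γ; (4) every Gr^γ is finitely
generated projective over R and, for every prime p of R, dim_{κ(p)} (κ(p) ⊗ M) = Σ_γ dim_{κ(p)} Gr^γ
of the image filtration on κ(p) ⊗ M (whose γ-th term F_x^γ is the image of κ(p) ⊗ F^γ; dim Gr^γ is
written as dim F_x^γ − dim F_x^γ_+, and the sum has finitely many non-zero terms). (The source's
conditions (2), (3) are the Zariski- and fpqc-local forms of (1) on a general scheme; its further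
assertions on F^γ ⊗ κ(x) are not stated.) -/
theorem result
    {Γ : Type w} [AddCommGroup Γ] [LinearOrder Γ] [IsOrderedAddMonoid Γ] [Nontrivial Γ]
    {R : Type u} [CommRing R] {M : Type v} [AddCommGroup M] [Module R M] [Module.Finite R M] [Module.Projective R M]
    (F : Γ → Submodule R M) (hF : Antitone F)
    (Fp : Γ → Submodule R M) (hFp : ∀ γ, Fp γ = ⨆ η ∈ Set.Ioi γ, F η) :
    (∃ G : Γ → Submodule R M, DirectSum.IsInternal G ∧ ∀ γ, F γ = ⨆ η ∈ Set.Ici γ, G η) ↔
    ((∀ γ, Module.Finite R (↥(F γ) ⧸ Submodule.comap (F γ).subtype (Fp γ)) ∧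
        Module.Projective R (↥(F γ) ⧸ Submodule.comap (F γ).subtype (Fp γ))) ∧
      ∀ (p : PrimeSpectrum R) (Fx : Γ → Submodule p.asIdeal.ResidueField (p.asIdeal.ResidueField ⊗[R] M)),
        (∀ γ, Fx γ = LinearMap.range ((F γ).subtype.baseChange p.asIdeal.ResidueField)) →
        Module.finrank p.asIdeal.ResidueField (p.asIdeal.ResidueField ⊗[R] M) =
          ∑ᶠ γ, (Module.finrank p.asIdeal.ResidueField ↥(Fx γ) -
            Module.finrank p.asIdeal.ResidueField ↥(⨆ η ∈ Set.Ioi γ, Fx η))) := by
  obtain rfl : Fp = FiltSplit.fp F := funext hFp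
  constructor
  · rintro ⟨G, hG, hFG⟩
    obtain ⟨hind, htop⟩ := (DirectSum.isInternal_submodule_iff_iSupIndep_and_iSup_eq_top G).mp hG
    have hl := FiltSplit.isLift_of_split hind hFG
    refine ⟨fun γ => ?_, fun p Fx hFx => ?_⟩
    · have hc : IsCompl (G γ) (⨆ j, ⨆ _ : j ≠ γ, G j) :=
        ⟨hind γ, codisjoint_iff_le_sup.mpr (htop.ge.trans (iSup_le fun j => by
          by_cases h : j = γ
          · exact h ▸ le_sup_left
          · exact le_sup_of_le_right (le_iSup₂_of_le j h le_rfl)))⟩
      haveI : Module.Projective R (G γ) :=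
        Module.Projective.of_split (G γ).subtype (Submodule.projectionOnto _ _ hc)
          (LinearMap.ext fun x => Submodule.projectionOnto_apply_left hc x)
      haveI : Module.Finite R (G γ) :=
        Module.Finite.of_surjective (Submodule.projectionOnto _ _ hc)
          (fun x => ⟨x, Submodule.projectionOnto_apply_left hc x⟩)
      let f : G γ →ₗ[R] ↥(F γ) ⧸ Submodule.comap (F γ).subtype (FiltSplit.fp F γ) :=
        (Submodule.mkQ _) ∘ₗ Submodule.inclusion (hl.le γ)
      have hf : Function.Bijective f := by
        refine ⟨(injective_iff_map_eq_zero f).mpr fun x hx => ?_, fun y => ?_⟩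
        · exact Subtype.ext (Submodule.disjoint_def.mp (hl.disj γ) _ x.2
            ((Submodule.Quotient.mk_eq_zero (Submodule.comap (F γ).subtype (FiltSplit.fp F γ))).mp hx))
        · obtain ⟨⟨y, hy⟩, rfl⟩ := Submodule.mkQ_surjective _ y
          obtain ⟨a, ha, b, hb, rfl⟩ := Submodule.mem_sup.mp ((hl.sup_eq γ).ge hy)
          refine ⟨⟨a, ha⟩, (Submodule.Quotient.eq _).mpr ?_⟩
          simpa using hb
      exact ⟨Module.Finite.equiv (LinearEquiv.ofBijective f hf),
        Module.Projective.of_equiv (LinearEquiv.ofBijective f hf)⟩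
    · obtain rfl : Fx = fun γ => (F γ).baseChange p.asIdeal.ResidueField := funext hFx
      refine FiltSplit.finsum_eq_of_split (FiltSplit.iSupIndep_baseChange _ hind htop) ?_ fun γ => ?_
      · rw [← FiltSplit.baseChange_iSup, htop, Submodule.baseChange_top]
      · simp only [hFG γ, FiltSplit.baseChange_iSup]
  · rintro ⟨hq, hrk⟩
    obtain ⟨H, hH⟩ := FiltSplit.exists_isLift hF fun γ => (hq γ).2
    have htop : iSup H = ⊤ := by
      refine FiltSplit.eq_top_of_forall_baseChange _ fun p => ?_
      refine FiltSplit.eq_top_of_finsum_eq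
        (F := fun γ => (F γ).baseChange p.asIdeal.ResidueField)
        (fun a b h => Submodule.baseChange_mono _ (hF h)) (fun γ => ?_) (hrk p _ fun γ => rfl)
      simp only [← hH.sup_eq γ, FiltSplit.baseChange_sup]
      refine sup_le_sup (Submodule.baseChange_mono _ (le_iSup H γ)) ?_
      simp only [FiltSplit.fp, FiltSplit.baseChange_iSup]
      exact le_rfl
    exact ⟨H, hH.isInternal htop, hH.eq_iSup htop⟩

end Groth.Agent.S19154
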