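import Groth.Statements.S19155
import Groth.Agent.RootDatum.Misc
import Groth.Agent.RootDatum.Dominant
-- import your own Groth.Agent.* helpers here

set_option autoImplicit false
open RootPairing
open RootD

namespace Groth.Agent.S19155

/-- Let P be a root datum (root pairing over ℤ with finitely many roots, roots in M), S a system of
positive roots, Γ a non-trivial totally ordered commutative group and f : M → Γ additive. Call f
dominant when f(α) ≥ 0 for every positive root α. Then the dominant maps form a fundamental domain
for the Weyl group W acting on Hom(M, Γ) through M: there is w ∈ W with f ∘ w dominant, and if f and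
f ∘ w are both dominant (w ∈ W) then f ∘ w = f. -/
theorem result {ι M N : Type*} [AddCommGroup M] [AddCommGroup N]
    (P : RootPairing ι ℤ M N) [Finite ι] (S : Set ι) (hS : RootD.IsPosSys P S)
    {Γ : Type*} [AddCommGroup Γ] [LinearOrder Γ] [IsOrderedAddMonoid Γ] [Nontrivial Γ] (f : M →+ Γ) :
    (∃ g : P.Aut, g ∈ P.weylGroup ∧ ∀ i ∈ S, 0 ≤ f (RootPairing.Equiv.weightHom P g (P.root i))) ∧
    (∀ g : P.Aut, g ∈ P.weylGroup → (∀ i ∈ S, 0 ≤ f (P.root i)) →
      (∀ i ∈ S, 0 ≤ f (RootPairing.Equiv.weightHom P g (P.root i))) →
      ∀ m : M, f (RootPairing.Equiv.weightHom P g m) = f m) := by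
  classical
  have h := RootDatum.isSimple_indec hS
  have hSe := RootDatum.posOf_indec hS
  cases nonempty_fintype ι
  refine ⟨?_, fun g hg hf hfg m => ?_⟩
  · have := RootDatum.weylGroup_finite P
    cases nonempty_fintype P.weylGroup
    set ρ := RootDatum.rootSum P (RootD.posOf P (RootDatum.indec P S))
    obtain ⟨⟨g, hg⟩, -, hmax⟩ := Finset.exists_max_image (Finset.univ : Finset P.weylGroup)
      (fun g => f ((g : P.Aut) • ρ)) Finset.univ_nonempty
    refine ⟨g, hg, fun i hi => ?_⟩
    rw [RootDatum.weightHom_eq_smul]
    have hgen : ∀ δ ∈ RootDatum.indec P S,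
        0 ≤ f.comp (DistribSMul.toAddMonoidHom M g) (P.root δ) := by
      intro δ hδ
      have hle := hmax ⟨g * RootPairing.Equiv.reflection P δ,
        mul_mem hg (P.reflection_mem_weylGroup δ)⟩ (Finset.mem_univ _)
      simp only [mul_smul, RootPairing.Equiv.reflection_smul, P.reflection_apply, smul_sub,
        RootDatum.smul_zsmul, map_sub, map_zsmul, sub_le_self_iff] at hle
      exact RootDatum.nonneg_of_zsmul_nonneg
        (RootDatum.coroot'_rootSum_pos P h (h.mem_posOf_self hδ)) hle
    exact RootDatum.nonneg_of_simple P (f := f.comp (DistribSMul.toAddMonoidHom M g)) hgen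
      (hSe.symm ▸ hi)
  · rw [RootDatum.weightHom_eq_smul]
    have hfg' : ∀ i ∈ RootD.posOf P (RootDatum.indec P S), 0 ≤ f (g • P.root i) :=
      fun i hi => hfg i (hSe ▸ hi)
    have hf' : ∀ i ∈ RootD.posOf P (RootDatum.indec P S), 0 ≤ f (P.root i) :=
      fun i hi => hf i (hSe ▸ hi)
    clear hf hfg
    obtain ⟨l, hl, rfl⟩ := h.exists_minimal_weyl hg
    clear hg
    induction l using List.reverseRecOn generalizing m with
    | nil => simp
    | append_singleton t a ih =>
      have ha : a ∈ RootDatum.indec P S := hl.1 a (by simp)
      have hp := h.minimal_prefix_pos subset_rfl hl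
      have e : ∀ x : M, RootDatum.wordProd P (t ++ [a]) • x =
          RootDatum.wordProd P t • x - P.coroot' a x • P.root (RootDatum.wordProd P t • a) :=
        fun x => by
          rw [RootDatum.wordProd_append, RootDatum.wordProd_singleton, mul_smul,
            RootPairing.Equiv.reflection_smul, P.reflection_apply, smul_sub, RootDatum.smul_zsmul,
            RootDatum.root_smul]
      have h0 : f (P.root (RootDatum.wordProd P t • a)) = 0 := by
        refine le_antisymm ?_ (hf' _ hp)
        have := hfg' a (h.mem_posOf_self ha)
        rw [e, P.root_coroot'_eq_pairing, P.pairing_same, RootDatum.root_smul, two_smul,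
          ← sub_sub, sub_self, zero_sub, map_neg, neg_nonneg, ← RootDatum.root_smul] at this
        exact this
      have hsame : ∀ x, f (RootDatum.wordProd P (t ++ [a]) • x) =
          f (RootDatum.wordProd P t • x) := fun x => by
        rw [e, map_sub, map_zsmul, h0, smul_zero, sub_zero]
      rw [hsame]
      exact ih m hl.init fun i hi => (hsame (P.root i)) ▸ hfg' i hi

end Groth.Agent.S19155
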