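import Groth.Statements.S19156
import Groth.Agent.RootDatum.Misc
import Groth.Agent.RootDatum.Dominant
-- import your own Groth.Agent.* helpers here

set_option autoImplicit false
open RootPairing
open RootD

namespace Groth.Agent.S19156

/-- Let P be a root datum (root pairing over ℤ with finitely many roots indexed by ι), S a system of
positive roots, Γ a non-trivial totally ordered commutative group and f : M → Γ additive. Then f is
dominant (non-negative on the positive roots) if and only if, for every w in the Weyl group, f − f ∘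
w is a combination m ↦ Σ_{α ∈ S} ⟨m, α∨⟩ c_α of the positive coroots with coefficients c_α ≥ 0 in Γ
(f ∘ w is strongly dominated by f); and f is dominant if and only if f(w m) ≤ f(m) for every w ∈ W
and every dominant weight m (weak dominance). -/
theorem result {ι M N : Type*} [AddCommGroup M] [AddCommGroup N]
    (P : RootPairing ι ℤ M N) [Fintype ι] (S : Set ι) (hS : RootD.IsPosSys P S)
    {Γ : Type*} [AddCommGroup Γ] [LinearOrder Γ] [IsOrderedAddMonoid Γ] [Nontrivial Γ] (f : M →+ Γ) :
    ((∀ i ∈ S, 0 ≤ f (P.root i)) ↔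
      ∀ g : P.Aut, g ∈ P.weylGroup → ∃ c : ι → Γ, (∀ i, 0 ≤ c i) ∧ (∀ i, i ∉ S → c i = 0) ∧
        ∀ m : M, f m - f (RootPairing.Equiv.weightHom P g m) = ∑ i, (P.coroot' i m) • c i) ∧
    ((∀ i ∈ S, 0 ≤ f (P.root i)) ↔
      ∀ g : P.Aut, g ∈ P.weylGroup → ∀ m : M, (∀ i ∈ S, 0 ≤ P.coroot' i m) →
        f (RootPairing.Equiv.weightHom P g m) ≤ f m) := by
  classical
  have h := RootDatum.isSimple_indec hS
  have hSe := RootDatum.posOf_indec hS
  simp only [RootDatum.weightHom_eq_smul]
  set ρ := RootDatum.rootSum P (RootD.posOf P (RootDatum.indec P S))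
  have hρ : ∀ i ∈ S, 0 < P.coroot' i ρ := fun i hi =>
    RootDatum.coroot'_rootSum_pos P h (hSe.symm ▸ hi)
  have key : ∀ (i : ι), i ∈ S → 0 ≤ f ρ - f (RootPairing.Equiv.reflection P i • ρ) →
      0 ≤ f (P.root i) := fun i hi hle => by
    rw [RootPairing.Equiv.reflection_smul, P.reflection_apply, map_sub, map_zsmul,
      sub_sub_cancel] at hle
    exact RootDatum.nonneg_of_zsmul_nonneg (hρ i hi) hle
  refine ⟨⟨fun hf g hg => ?_, fun hc i hi => ?_⟩, ⟨fun hf g hg m hm => ?_, fun hc i hi => ?_⟩⟩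
  · obtain ⟨c, h1, h2, h3⟩ :=
      RootDatum.exists_coeffs_of_dominant P h (fun i hi => hf i (hSe ▸ hi)) hg
    exact ⟨c, h1, fun i hi => h2 i (hSe.symm ▸ hi), h3⟩
  · obtain ⟨c, h1, h2, h3⟩ := hc _ (P.reflection_mem_weylGroup i)
    refine key i hi ?_
    rw [h3]
    refine Finset.sum_nonneg fun k _ => ?_
    by_cases hk : k ∈ S
    · exact zsmul_nonneg (h1 k) (hρ k hk).le
    · rw [h2 k hk, smul_zero]
  · obtain ⟨c, h1, h2, h3⟩ :=
      RootDatum.exists_coeffs_of_dominant P h (fun i hi => hf i (hSe ▸ hi)) hg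
    rw [← sub_nonneg, h3]
    refine Finset.sum_nonneg fun k _ => ?_
    by_cases hk : k ∈ S
    · exact zsmul_nonneg (h1 k) (hm k hk)
    · rw [h2 k (hSe.symm ▸ hk), smul_zero]
  · exact key i hi (sub_nonneg.mpr (hc _ (P.reflection_mem_weylGroup i) ρ fun k hk => (hρ k hk).le))

end Groth.Agent.S19156
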