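import Groth.Statements.S19157
import Mathlib.LinearAlgebra.FreeModule.Finite.Basic
import Mathlib.RingTheory.Nilpotent.Lemmas
import Mathlib.RingTheory.Finiteness.Ideal
import Mathlib.Algebra.Module.Projective
import Mathlib.RingTheory.Finiteness.Projective
import Mathlib.RingTheory.Nilpotent.Basic
import Mathlib.RingTheory.Noetherian.Nilpotent
import Mathlib.Tactic.Ring
-- import your own Groth.Agent.* helpers here

set_option autoImplicit false
open scoped TensorProduct
universe u v w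
open FiltMod

namespace Groth.Agent.S19157

variable {Γ : Type w} [AddCommGroup Γ] [LinearOrder Γ] [IsOrderedAddMonoid Γ]
variable {R : Type u} [CommRing R] {M : Type v} [AddCommGroup M] [Module R M]

/-- The projection to a summand, as an endomorphism. -/
noncomputable def proj (G : Γ → Submodule R M) (hG : DirectSum.IsInternal G) (b : Γ) :
    M →ₗ[R] M :=
  (G b).subtype ∘ₗ (DirectSum.component R Γ (fun i => G i) b) ∘ₗ
    (LinearEquiv.ofBijective (DirectSum.coeLinearMap G) hG).symm.toLinearMap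

theorem proj_mem (G : Γ → Submodule R M) (hG : DirectSum.IsInternal G) (b : Γ) (x : M) :
    proj G hG b x ∈ G b := SetLike.coe_mem _

theorem proj_of_mem (G : Γ → Submodule R M) (hG : DirectSum.IsInternal G) {a : Γ} {x : M}
    (hx : x ∈ G a) (b : Γ) : proj G hG b x = if a = b then x else 0 := by
  have e : (LinearEquiv.ofBijective (DirectSum.coeLinearMap G) hG).symm x =
      DirectSum.lof R Γ (fun i => G i) a ⟨x, hx⟩ := by
    rw [LinearEquiv.symm_apply_eq]
    exact (DirectSum.coeLinearMap_of G a ⟨x, hx⟩).symm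
  simp only [proj, LinearMap.comp_apply, LinearEquiv.coe_coe, e]
  rcases eq_or_ne a b with rfl | h
  · rw [if_pos rfl, DirectSum.component.lof_self]; rfl
  · rw [if_neg h]
    show ((DirectSum.lof R Γ (fun i => G i) a ⟨x, hx⟩ b : G b) : M) = 0
    rw [DirectSum.lof_eq_of, DirectSum.of_eq_of_ne _ _ _ h.symm]
    rfl

theorem proj_zero_of_lt (G : Γ → Submodule R M) (hG : DirectSum.IsInternal G) {b c : Γ} (h : b < c)
    {x : M} (hx : x ∈ ⨆ η ∈ Set.Ici c, G η) : proj G hG b x = 0 := by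
  have hle : (⨆ η ∈ Set.Ici c, G η) ≤ LinearMap.ker (proj G hG b) := iSup₂_le fun η hη y hy => by
    rw [LinearMap.mem_ker, proj_of_mem G hG hy, if_neg]
    rintro rfl
    exact absurd h (not_lt.2 hη)
  exact hle hx

theorem exists_sum_proj (G : Γ → Submodule R M) (hG : DirectSum.IsInternal G) (x : M) :
    ∃ s : Finset Γ, x = ∑ b ∈ s, proj G hG b x := by
  classical
  let e := LinearEquiv.ofBijective (DirectSum.coeLinearMap G) hG
  refine ⟨DFinsupp.support (e.symm x), ?_⟩
  conv_lhs => rw [← e.apply_symm_apply x, ← DirectSum.sum_support_of (e.symm x)]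
  rw [map_sum]
  refine Finset.sum_congr rfl fun b _ => ?_
  exact DirectSum.coeLinearMap_of G b _

variable [Module.Finite R M] [Module.Projective R M]

theorem exists_coords : ∃ (n : ℕ) (ξ : Fin n → M →ₗ[R] R) (w : Fin n → M),
    ∀ x, x = ∑ l, ξ l x • w l := by
  obtain ⟨n, f, g, -, -, hfg⟩ := Module.Finite.exists_comp_eq_id_of_projective R M
  refine ⟨n, fun l => (LinearMap.proj l).comp g, fun l => f (Pi.single l 1), fun x => ?_⟩
  simp only [LinearMap.comp_apply, LinearMap.proj_apply, ← map_smul, ← map_sum]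
  conv_lhs => rw [← LinearMap.id_apply (R := R) x, ← hfg, LinearMap.comp_apply,
    pi_eq_sum_univ (g x)]
  congr 1
  refine Finset.sum_congr rfl fun l _ => ?_
  ext j
  simp [Pi.single_apply, eq_comm]

theorem isNilpotent_of_coords (N : M →ₗ[R] M) (h : ∀ (ξ : M →ₗ[R] R) x, IsNilpotent (ξ (N x))) :
    IsNilpotent N := by
  obtain ⟨n, ξ, w, hw⟩ := exists_coords (R := R) (M := M)
  let I : Ideal R := Ideal.span (Set.range fun p : Fin n × Fin n => ξ p.1 (N (w p.2)))
  obtain ⟨m, hm⟩ : ∃ m, I ^ m = ⊥ := by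
    have h1 : I ≤ nilradical R := Ideal.span_le.2 fun r ⟨p, hp⟩ => hp ▸ h _ _
    exact ((Ideal.FG.isNilpotent_iff_le_nilradical
      (Submodule.fg_span (Set.finite_range _))).2 h1)
  have hN : ∀ x, N x ∈ I • (⊤ : Submodule R M) := by
    intro x
    rw [hw (N x)]
    refine Submodule.sum_mem _ fun l _ => Submodule.smul_mem_smul ?_ Submodule.mem_top
    rw [hw x, map_sum, map_sum]
    refine Submodule.sum_mem _ fun j _ => ?_
    rw [map_smul, map_smul, smul_eq_mul]
    exact I.mul_mem_left _ (Ideal.subset_span ⟨(l, j), rfl⟩)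
  have hpow : ∀ j x, (N ^ j) x ∈ I ^ j • (⊤ : Submodule R M) := by
    intro j
    induction j with
    | zero => intro x; simp
    | succ j ih =>
      intro x
      rw [pow_succ (N), Module.End.mul_apply]
      have h1 := Submodule.mem_map_of_mem (f := N ^ j) (hN x)
      rw [Submodule.map_smul''] at h1
      rw [pow_succ' I, mul_smul]
      refine Submodule.smul_mono le_rfl ?_ h1
      rintro _ ⟨y, -, rfl⟩
      exact ih y
  exact ⟨m, LinearMap.ext fun x => by simpa [hm] using hpow m x⟩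

variable {k : ℕ}

omit [Module.Finite R M] [Module.Projective R M] in
theorem prod_eq_zero (F₁ F₂ : Γ → Submodule R M) (G₂ : Γ → Submodule R M)
    (hG₂ : DirectSum.IsInternal G₂) (hF₂ : ∀ γ, F₂ γ = ⨆ η ∈ Set.Ici γ, G₂ η)
    (h : ∀ γ : Γ,
      (⨆ c : {c : Fin k → Γ // ∑ i, c i = γ}, LinearMap.range (PiTensorProduct.map (R := R) (fun i => (F₁ (c.1 i)).subtype))) ≤
      (⨆ c : {c : Fin k → Γ // ∑ i, c i = γ}, LinearMap.range (PiTensorProduct.map (R := R) (fun i => (F₂ (c.1 i)).subtype))))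
    (a b : Fin k → Γ) (hab : ∑ i, b i < ∑ i, a i) (z : Fin k → M) (hz : ∀ i, z i ∈ F₁ (a i))
    (ξ : Fin k → M →ₗ[R] R) : ∏ i, ξ i (proj G₂ hG₂ (b i) (z i)) = 0 := by
  let L : PiTensorProduct R (fun _ : Fin k => M) →ₗ[R] R :=
    PiTensorProduct.lift ((MultilinearMap.mkPiAlgebra R (Fin k) R).compLinearMap
      fun i => ξ i ∘ₗ proj G₂ hG₂ (b i))
  have hL : ∀ y, L (PiTensorProduct.tprod R y) = ∏ i, ξ i (proj G₂ hG₂ (b i) (y i)) := fun y => by
    simp [L]
  have hmem : PiTensorProduct.tprod R z ∈ LinearMap.ker L := by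
    refine (iSup_le fun c => ?_ :
      (⨆ c : {c : Fin k → Γ // ∑ i, c i = ∑ i, a i}, LinearMap.range (PiTensorProduct.map (R := R) (fun i => (F₂ (c.1 i)).subtype))) ≤ LinearMap.ker L)
      (h (∑ i, a i) (Submodule.mem_iSup_of_mem ⟨a, rfl⟩ ⟨PiTensorProduct.tprod R fun i => ⟨z i, hz i⟩, ?_⟩))
    · rw [LinearMap.range_le_ker_iff]
      refine PiTensorProduct.ext (MultilinearMap.ext fun y => ?_)
      obtain ⟨i, hi⟩ : ∃ i, b i < c.1 i := by
        by_contra hc
        simp only [not_exists, not_lt] at hc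
        exact absurd (Finset.sum_le_sum fun i _ => hc i) (not_le.2 (c.2.symm ▸ hab))
      simp only [LinearMap.compMultilinearMap_apply, LinearMap.comp_apply, PiTensorProduct.map_tprod,
        hL, LinearMap.zero_apply]
      refine Finset.prod_eq_zero (Finset.mem_univ i) ?_
      rw [Submodule.subtype_apply, proj_zero_of_lt G₂ hG₂ hi (hF₂ (c.1 i) ▸ (y i).2), map_zero]
    · rw [PiTensorProduct.map_tprod]
      rfl
  rw [← hL]
  exact hmem

theorem le_of_le (F₁ F₂ G₁ G₂ : Γ → Submodule R M)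
    (hG₁ : DirectSum.IsInternal G₁) (hF₁ : ∀ γ, F₁ γ = ⨆ η ∈ Set.Ici γ, G₁ η)
    (hG₂ : DirectSum.IsInternal G₂) (hF₂ : ∀ γ, F₂ γ = ⨆ η ∈ Set.Ici γ, G₂ η)
    (hk : 1 ≤ k)
    (h : ∀ γ : Γ,
      (⨆ c : {c : Fin k → Γ // ∑ i, c i = γ}, LinearMap.range (PiTensorProduct.map (R := R) (fun i => (F₁ (c.1 i)).subtype))) =
      (⨆ c : {c : Fin k → Γ // ∑ i, c i = γ}, LinearMap.range (PiTensorProduct.map (R := R) (fun i => (F₂ (c.1 i)).subtype))))
    (γ : Γ) : F₁ γ ≤ F₂ γ := by
  classical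
  have mem₁ : ∀ {a x}, x ∈ G₁ a → x ∈ F₁ a := fun {a x} hx =>
    hF₁ a ▸ Submodule.mem_iSup_of_mem a (Submodule.mem_iSup_of_mem Set.self_mem_Ici hx)
  have mem₂ : ∀ {a x}, x ∈ G₂ a → x ∈ F₂ a := fun {a x} hx =>
    hF₂ a ▸ Submodule.mem_iSup_of_mem a (Submodule.mem_iSup_of_mem Set.self_mem_Ici hx)
  have hle₁ := fun γ => (h γ).le
  have hle₂ := fun γ => (h γ).ge
  have hk0 : Nonempty (Fin k) := ⟨⟨0, hk⟩⟩
  have lt_sum : ∀ a b : Γ, b < a → ∑ _i : Fin k, b < ∑ _i : Fin k, a := fun a b hba =>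
    Finset.sum_lt_sum_of_nonempty Finset.univ_nonempty fun _ _ => hba
  have key : ∀ a, ∀ b < a, ∀ x ∈ G₁ a, proj G₂ hG₂ b x = 0 := by
    intro a
    let N : M →ₗ[R] M := proj G₁ hG₁ a ∘ₗ (LinearMap.id - proj G₂ hG₂ a) ∘ₗ proj G₁ hG₁ a
    have hN : IsNilpotent N := isNilpotent_of_coords N fun ξ x => by
      let y := proj G₁ hG₁ a x
      obtain ⟨s, hs⟩ := exists_sum_proj G₂ hG₂ (y - proj G₂ hG₂ a y)
      show IsNilpotent (ξ (proj G₁ hG₁ a (y - proj G₂ hG₂ a y)))
      rw [hs, map_sum, map_sum]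
      refine isNilpotent_sum fun b _ => ?_
      rw [map_sub, proj_of_mem G₂ hG₂ (proj_mem G₂ hG₂ a y) b]
      by_cases hba : a = b
      · subst hba; simp
      rw [if_neg hba, sub_zero]
      refine ⟨k, ?_⟩
      rcases lt_or_gt_of_ne hba with hlt | hlt
      · have := prod_eq_zero F₂ F₁ G₁ hG₁ hF₁ hle₂ (fun _ => b) (fun _ => a) (lt_sum b a hlt)
          (fun _ => proj G₂ hG₂ b y) (fun _ => mem₂ (proj_mem _ _ _ _)) (fun _ => ξ)
        simpa using this
      · have := prod_eq_zero F₁ F₂ G₂ hG₂ hF₂ hle₁ (fun _ => a) (fun _ => b) (lt_sum a b hlt)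
          (fun _ => y) (fun _ => mem₁ (proj_mem _ _ _ _)) (fun _ => ξ ∘ₗ proj G₁ hG₁ a)
        simpa using this
    obtain ⟨u, hu⟩ := hN.isUnit_one_sub
    have hr : ∀ z ∈ G₁ a, (↑u⁻¹ : Module.End R M) (proj G₁ hG₁ a (proj G₂ hG₂ a z)) = z := by
      intro z hz
      have h1 : proj G₁ hG₁ a (proj G₂ hG₂ a z) = (u : Module.End R M) z := by
        rw [hu, LinearMap.sub_apply, Module.End.one_apply]
        show _ = z - proj G₁ hG₁ a (proj G₁ hG₁ a z - proj G₂ hG₂ a (proj G₁ hG₁ a z))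
        rw [proj_of_mem G₁ hG₁ hz, if_pos rfl, map_sub, proj_of_mem G₁ hG₁ hz, if_pos rfl,
          sub_sub_cancel]
      rw [h1, ← Module.End.mul_apply, u.inv_mul, Module.End.one_apply]
    intro b hb
    obtain ⟨n, θ, w, hw⟩ := exists_coords (R := R) (M := M)
    have P : ∀ d j, j + d + 1 = k → ∀ x ∈ G₁ a, ∀ (ξ : M →ₗ[R] R) (ζ : Fin j → M →ₗ[R] R)
        (z : Fin j → M), (∀ i, z i ∈ G₁ a) → ξ (proj G₂ hG₂ b x) * ∏ i, ζ i (z i) = 0 := by
      intro d
      induction d with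
      | zero =>
        intro j hj x hx ξ ζ z hz
        subst hj
        have := prod_eq_zero F₁ F₂ G₂ hG₂ hF₂ hle₁ (fun _ => a) (Fin.cons b fun _ : Fin j => a)
          (by
            rw [Fin.sum_univ_succ, Fin.sum_univ_succ]
            simpa using hb)
          (Fin.cons x z) (Fin.cases (mem₁ hx) (fun i => mem₁ (hz i)))
          (Fin.cons ξ fun i => ζ i ∘ₗ (↑u⁻¹ : Module.End R M) ∘ₗ proj G₁ hG₁ a)
        rw [Fin.prod_univ_succ] at this
        simpa [hr _ (hz _)] using this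
      | succ d ih =>
        intro j hj x hx ξ ζ z hz
        have hx' : x = ∑ l, θ l x • proj G₁ hG₁ a (w l) := by
          conv_lhs => rw [← if_pos (rfl : a = a) (t := x) (e := (0 : M)), ← proj_of_mem G₁ hG₁ hx a,
            hw x, map_sum]
          simp only [map_smul]
        rw [hx', map_sum, map_sum, Finset.sum_mul]
        refine Finset.sum_eq_zero fun l _ => ?_
        have := ih (j + 1) (by omega) (proj G₁ hG₁ a (w l)) (proj_mem _ _ _ _) ξ (Fin.cons (θ l) ζ)
          (Fin.cons x z) (Fin.cases hx hz)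
        rw [Fin.prod_univ_succ] at this
        simp only [Fin.cons_zero, Fin.cons_succ] at this
        rw [map_smul, map_smul, smul_eq_mul, ← this]
        ring
    intro x hx
    rw [hw (proj G₂ hG₂ b x)]
    refine Finset.sum_eq_zero fun l _ => ?_
    have := P (k - 1) 0 (by omega) x hx (θ l) Fin.elim0 Fin.elim0 (fun i => i.elim0)
    rw [Fin.prod_univ_zero, mul_one] at this
    rw [this, zero_smul]
  rw [hF₁]
  refine iSup₂_le fun η hη x hx => ?_
  obtain ⟨s, hs⟩ := exists_sum_proj G₂ hG₂ x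
  rw [hs, hF₂]
  refine Submodule.sum_mem _ fun b _ => ?_
  by_cases hb : b < η
  · rw [key η b hb x hx]; exact Submodule.zero_mem _
  · exact Submodule.mem_iSup_of_mem b (Submodule.mem_iSup_of_mem
      (le_trans (Set.mem_Ici.1 hη) (not_lt.1 hb)) (proj_mem _ _ _ _))


/-- In affine form, let Γ be a non-trivial totally ordered commutative group, R a commutative ring, M a
finitely generated projective R-module, k ≥ 1, and F₁, F₂ two Γ-filtrations of M each admitting a
splitting (a grading M = ⊕_γ G_γ by submodules with F^γ = Σ_{η ≥ γ} G_η). If the filtrations they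
induce on the k-th tensor power M^{⊗k} coincide, i.e. for every γ the sum over γ₁ + ⋯ + γ_k = γ of
the images of F₁^{γ₁} ⊗ ⋯ ⊗ F₁^{γ_k} in M^{⊗k} equals the corresponding sum for F₂, then F₁ = F₂.
(The source states this for Γ-filtrations of a finite locally free sheaf on a scheme, which split
Zariski-locally; this is the affine split case to which it reduces.) -/
theorem result
    {Γ : Type w} [AddCommGroup Γ] [LinearOrder Γ] [IsOrderedAddMonoid Γ] [Nontrivial Γ]
    {R : Type u} [CommRing R] {M : Type v} [AddCommGroup M] [Module R M] [Module.Finite R M] [Module.Projective R M]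
    (F₁ F₂ : Γ → Submodule R M)
    (h₁ : ∃ G : Γ → Submodule R M, DirectSum.IsInternal G ∧ ∀ γ, F₁ γ = ⨆ η ∈ Set.Ici γ, G η)
    (h₂ : ∃ G : Γ → Submodule R M, DirectSum.IsInternal G ∧ ∀ γ, F₂ γ = ⨆ η ∈ Set.Ici γ, G η)
    (k : ℕ) (hk : 1 ≤ k)
    (h : ∀ γ : Γ,
      (⨆ c : {c : Fin k → Γ // ∑ i, c i = γ}, LinearMap.range (PiTensorProduct.map (R := R) (fun i => (F₁ (c.1 i)).subtype))) =
      (⨆ c : {c : Fin k → Γ // ∑ i, c i = γ}, LinearMap.range (PiTensorProduct.map (R := R) (fun i => (F₂ (c.1 i)).subtype)))) :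
    F₁ = F₂ := by
  classical
  obtain ⟨G₁, hG₁, hF₁⟩ := h₁
  obtain ⟨G₂, hG₂, hF₂⟩ := h₂
  funext γ
  exact le_antisymm (le_of_le F₁ F₂ G₁ G₂ hG₁ hF₁ hG₂ hF₂ hk h γ)
    (le_of_le F₂ F₁ G₂ G₁ hG₂ hF₂ hG₁ hF₁ hk (fun γ => (h γ).symm) γ)

end Groth.Agent.S19157
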