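import Groth.Statements.S19158
import Groth.Agent.CAlg48.FiltSplit
-- import your own Groth.Agent.* helpers here

set_option autoImplicit false
universe u v w
open FiltMod

namespace Groth.Agent.S19158

open Groth.Agent.CAlg48

variable {R : Type u} [CommRing R] {A : Type v} [Finite A] {M : A → Type v}
  [∀ a, AddCommGroup (M a)] [∀ a, Module R (M a)]

theorem mem_of_single_mem [DecidableEq A] {T : Submodule R (∀ a, M a)} {x : ∀ a, M a}
    (h : ∀ a, Pi.single a (x a) ∈ T) : x ∈ T := by
  haveI := Fintype.ofFinite A
  rw [← Finset.univ_sum_single x]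
  exact Submodule.sum_mem _ fun a _ => h a

theorem pi_iSup {ι : Sort*} (p : ∀ a, ι → Submodule R (M a)) :
    Submodule.pi Set.univ (fun a => ⨆ i, p a i) = ⨆ i, Submodule.pi Set.univ (fun a => p a i) := by
  classical
  refine le_antisymm (fun x hx => mem_of_single_mem fun a => ?_)
    (iSup_le fun i x hx a ha => le_iSup (p a) i (hx a ha))
  have h : (⨆ i, p a i).map (LinearMap.single R M a) ≤ ⨆ i, Submodule.pi Set.univ (fun a => p a i) := by
    rw [Submodule.map_iSup]
    refine iSup_le fun i => le_iSup_of_le i ?_
    rintro _ ⟨y, hy, rfl⟩ b -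
    by_cases hb : b = a
    · subst hb; rwa [LinearMap.coe_single, Pi.single_eq_same]
    · simp [hb]
  exact h ⟨x a, hx a trivial, rfl⟩


/-- In affine form, let Γ be a non-trivial totally ordered commutative group, R a commutative ring and
(M_a) a finite family of finitely generated projective R-modules, each carrying a non-increasing
Γ-indexed family of submodules F_a; give M = Π_a M_a the family F^γ = Π_a F_a^γ. Then F is split by
a Γ-grading of M (an internal direct sum decomposition M = ⊕_γ G_γ with F^γ = Σ_{η ≥ γ} G_η for all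
γ) if and only if each F_a is split by a Γ-grading of M_a. (The published statement is for finite
locally free sheaves on a scheme, where a filtration counts as split when it is split by a grading
locally on the scheme; this row is the affine case, in which that is the same as being split by one
global grading.) -/
theorem result
    {Γ : Type w} [AddCommGroup Γ] [LinearOrder Γ] [IsOrderedAddMonoid Γ] [Nontrivial Γ]
    {R : Type u} [CommRing R] {A : Type v} [Fintype A] (M : A → Type v) [∀ a, AddCommGroup (M a)] [∀ a, Module R (M a)]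
    [∀ a, Module.Finite R (M a)] [∀ a, Module.Projective R (M a)]
    (F : ∀ a, Γ → Submodule R (M a)) (hF : ∀ a, Antitone (F a)) :
    (∃ G : Γ → Submodule R (∀ a, M a), DirectSum.IsInternal G ∧
        ∀ γ, Submodule.pi Set.univ (fun a => F a γ) = ⨆ η ∈ Set.Ici γ, G η) ↔
    ∀ a, ∃ G : Γ → Submodule R (M a), DirectSum.IsInternal G ∧ ∀ γ, F a γ = ⨆ η ∈ Set.Ici γ, G η := by
  classical
  have hfp : ∀ γ, FiltSplit.fp (fun γ => Submodule.pi Set.univ (fun a => F a γ)) γ =
      Submodule.pi Set.univ (fun a => FiltSplit.fp (F a) γ) := fun γ => by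
    simp only [FiltSplit.fp, pi_iSup]
  -- lifts of the factors give a lift of the product
  have hlift : ∀ H : ∀ a, Γ → Submodule R (M a), (∀ a, FiltSplit.IsLift (F a) (H a)) →
      FiltSplit.IsLift (fun γ => Submodule.pi Set.univ (fun a => F a γ))
        (fun γ => Submodule.pi Set.univ (fun a => H a γ)) := by
    intro H hH
    refine ⟨fun γ => ?_, fun γ => ?_⟩
    · rw [hfp, Submodule.disjoint_def]
      exact fun x hx hx' => funext fun a =>
        Submodule.disjoint_def.mp ((hH a).disj γ) _ (hx a trivial) (hx' a trivial)
    · rw [hfp, sup_eq_iSup]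
      simp only [← (hH _).sup_eq γ, sup_eq_iSup, pi_iSup]
      exact iSup_congr fun b => by cases b <;> rfl
  constructor
  · rintro ⟨G, hG, hFG⟩ a
    obtain ⟨hind, htop⟩ := (DirectSum.isInternal_submodule_iff_iSupIndep_and_iSup_eq_top G).mp hG
    have hl := FiltSplit.isLift_of_split hind hFG
    have hproj : ∀ (a : A) (γ : Γ),
        Module.Projective R (↥(F a γ) ⧸ Submodule.comap (F a γ).subtype (FiltSplit.fp (F a) γ)) := by
      intro a γ
      set P := fun γ => Submodule.pi Set.univ (fun a => F a γ) with hP
      have hc : IsCompl (G γ) (⨆ j, ⨆ _ : j ≠ γ, G j) :=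
        ⟨hind γ, codisjoint_iff_le_sup.mpr (htop.ge.trans (iSup_le fun j => by
          by_cases h : j = γ
          · exact h ▸ le_sup_left
          · exact le_sup_of_le_right (le_iSup₂_of_le j h le_rfl)))⟩
      haveI : Module.Projective R (∀ a, M a) :=
        Module.Projective.of_equiv (DFinsupp.linearEquivFunOnFintype (R := R) (M := M))
      haveI : Module.Projective R (G γ) :=
        Module.Projective.of_split (G γ).subtype (Submodule.projectionOnto _ _ hc)
          (LinearMap.ext fun x => Submodule.projectionOnto_apply_left hc x)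
      let f : G γ →ₗ[R] ↥(F a γ) ⧸ Submodule.comap (F a γ).subtype (FiltSplit.fp (F a) γ) :=
        (Submodule.mkQ _) ∘ₗ LinearMap.codRestrict (F a γ) (LinearMap.proj a ∘ₗ (G γ).subtype)
          (fun x => hl.le γ x.2 a trivial)
      -- a section of `f` through the product
      have hsingle : ∀ y : F a γ, Pi.single a (y : M a) ∈ P γ := fun y b _ => by
        by_cases hb : b = a
        · subst hb; rw [Pi.single_eq_same]; exact y.2
        · simp [hb]
      let g₀ : F a γ →ₗ[R] G γ :=
        Submodule.projectionOnto _ _ hc ∘ₗ LinearMap.single R M a ∘ₗ (F a γ).subtype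
      have hg₀ : Submodule.comap (F a γ).subtype (FiltSplit.fp (F a) γ) ≤ LinearMap.ker g₀ := by
        intro y hy
        have h : Pi.single a (y : M a) ∈ ⨆ j, ⨆ _ : j ≠ γ, G j := by
          have h' : Pi.single a (y : M a) ∈ FiltSplit.fp P γ := by
            rw [hfp]
            intro b _
            by_cases hb : b = a
            · subst hb; rw [Pi.single_eq_same]; exact hy
            · simp [hb]
          rw [FiltSplit.fp_eq_of_split hFG] at h'
          exact (iSup₂_le fun η hη => le_iSup₂_of_le (f := fun j (_ : j ≠ γ) => G j) η (ne_of_gt hη) le_rfl) h'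
        exact Submodule.projectionOnto_apply_right hc ⟨_, h⟩
      refine Module.Projective.of_split (Submodule.liftQ _ g₀ hg₀) f (LinearMap.ext fun y => ?_)
      obtain ⟨y, rfl⟩ := Submodule.mkQ_surjective _ y
      obtain ⟨u, hu, v, hv, huv⟩ := Submodule.mem_sup.mp ((hl.sup_eq γ).ge (hsingle y))
      have hv' : v ∈ ⨆ j, ⨆ _ : j ≠ γ, G j := by
        rw [FiltSplit.fp_eq_of_split hFG] at hv
        exact (iSup₂_le fun η hη => le_iSup₂_of_le (f := fun j (_ : j ≠ γ) => G j) η (ne_of_gt hη) le_rfl) hv
      have hgy : g₀ y = ⟨u, hu⟩ := by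
        show Submodule.projectionOnto _ _ hc (Pi.single a (y : M a)) = _
        rw [← huv, map_add, Submodule.projectionOnto_apply_left hc ⟨u, hu⟩,
          Submodule.projectionOnto_apply_right hc ⟨v, hv'⟩, add_zero]
      show f (Submodule.liftQ _ g₀ hg₀ (Submodule.mkQ _ y)) = Submodule.mkQ _ y
      rw [Submodule.mkQ_apply, Submodule.liftQ_apply, hgy]
      show (Submodule.comap (F a γ).subtype (FiltSplit.fp (F a) γ)).mkQ _ = Submodule.Quotient.mk y
      refine (Submodule.Quotient.eq _).mpr ?_
      rw [hfp] at hv
      have h := hv a trivial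
      have he : (y : M a) = u a + v a := by
        simpa using (congrFun huv a).symm
      simp only [Submodule.mem_comap, Submodule.coe_subtype]
      show u a - (y : M a) ∈ _
      rw [he, sub_add_cancel_left]
      exact neg_mem h
    choose H hH using fun a => FiltSplit.exists_isLift (hF a) (hproj a)
    have hspan := FiltSplit.iSup_eq_top_of_split hind htop hFG (hlift H hH)
    have htopa : iSup (H a) = ⊤ := by
      rw [← pi_iSup, eq_top_iff] at hspan
      rw [eq_top_iff]
      intro x _
      simpa using hspan (Submodule.mem_top (x := Pi.single a x)) a trivial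
    exact ⟨H a, (hH a).isInternal htopa, (hH a).eq_iSup htopa⟩
  · intro h
    choose G hG hFG using h
    have hG' := fun a => (DirectSum.isInternal_submodule_iff_iSupIndep_and_iSup_eq_top (G a)).mp (hG a)
    have hl := hlift G fun a => FiltSplit.isLift_of_split (hG' a).1 (hFG a)
    have htop : (⨆ γ, Submodule.pi Set.univ (fun a => G a γ)) = ⊤ := by
      rw [← pi_iSup]
      exact eq_top_iff.mpr fun x _ a _ => (hG' a).2.ge trivial
    exact ⟨_, hl.isInternal htop, hl.eq_iSup htop⟩

end Groth.Agent.S19158
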