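import Mathlib.RingTheory.TensorProduct.Basic
import Mathlib.LinearAlgebra.TensorProduct.Tower
import Mathlib.Algebra.TrivSqZeroExt.Basic

set_option autoImplicit false
open scoped TensorProduct
universe u
namespace PureMod
end PureMod
open PureMod

namespace Groth.Agent.S19160

/-- (2) ⇒ (3): in affine form, let R be a commutative ring and i : A → B an R-linear map such that for
every commutative R-algebra R' the base change R' ⊗ A → R' ⊗ B is injective (the pull-back of i to
every affine scheme over Spec R is a monomorphism). Then F ⊗ A → F ⊗ B is injective for every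
R-module F, i.e. i is universally injective (pure). (Modules and algebras are taken in the universe
of R.) -/
theorem result (R : Type u) [CommRing R]
    (A B : Type u) [AddCommGroup A] [Module R A] [AddCommGroup B] [Module R B] (i : A →ₗ[R] B)
    (h : ∀ (R' : Type u) [CommRing R'] [Algebra R R'], Function.Injective (i.baseChange R'))
    (F : Type u) [AddCommGroup F] [Module R F] :
    Function.Injective (i.lTensor F) := by
  letI : Module Rᵐᵒᵖ F := Module.compHom F ((RingHom.id R).fromOpposite mul_comm)
  haveI : IsCentralScalar R F := ⟨fun _ _ => rfl⟩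
  let inr' : F →ₗ[R] TrivSqZeroExt R F := TrivSqZeroExt.inrHom R F
  let snd' : TrivSqZeroExt R F →ₗ[R] F := TrivSqZeroExt.sndHom R F
  have hs : snd' ∘ₗ inr' = LinearMap.id := LinearMap.ext fun m => TrivSqZeroExt.snd_inr R m
  have hB := h (TrivSqZeroExt R F)
  rw [LinearMap.baseChange_eq_ltensor] at hB
  intro a b hab
  have hinr : ∀ z, inr'.rTensor B (i.lTensor F z) = i.lTensor (TrivSqZeroExt R F) (inr'.rTensor A z) := fun z => by
    rw [← LinearMap.comp_apply, LinearMap.rTensor_comp_lTensor, ← LinearMap.lTensor_comp_rTensor, LinearMap.comp_apply]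
  have h2 : inr'.rTensor A a = inr'.rTensor A b := hB (by rw [← hinr, ← hinr, hab])
  have h3 := congrArg (snd'.rTensor A) h2
  rwa [← LinearMap.comp_apply, ← LinearMap.comp_apply, ← LinearMap.rTensor_comp, hs, LinearMap.rTensor_id] at h3

end Groth.Agent.S19160
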