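import Groth.Statements.S19161
import Groth.Agent.RootDatum.Misc
import Groth.Agent.RootDatum.Dominant
-- import your own Groth.Agent.* helpers here

set_option autoImplicit false
open RootPairing
open RootD

namespace Groth.Agent.S19161

/-- Let P be a root datum (root pairing over ℤ, finitely many roots), S a system of positive roots, W
the Weyl group, Γ a non-trivial totally ordered commutative group and f₁, f₂ : M → Γ additive maps
which are dominant (f_i(α) ≥ 0 for α ∈ S). Then f₁ ≤ f₂ in the weak dominance order (f₁(m) ≤ f₂(m)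
for every dominant weight m, i.e. every m with ⟨m, α∨⟩ ≥ 0 for all α ∈ S) if and only if, for every
non-empty finite W-stable subset X ⊆ M, the maximum of f₁ on X is at most the maximum of f₂ on X.
(The source phrases the right-hand side through W-invariant elements x of ℕ[M] and the largest
element of the support of f_i(x) in ℤ[Γ]; for ℕ-coefficients that largest element is the maximum of
f_i over the support of x.) -/
theorem result {ι M N : Type*} [AddCommGroup M] [AddCommGroup N]
    (P : RootPairing ι ℤ M N) [Finite ι] (S : Set ι) (hS : RootD.IsPosSys P S)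
    {Γ : Type*} [AddCommGroup Γ] [LinearOrder Γ] [IsOrderedAddMonoid Γ] [Nontrivial Γ] (f₁ f₂ : M →+ Γ)
    (hf₁ : ∀ i ∈ S, 0 ≤ f₁ (P.root i)) (hf₂ : ∀ i ∈ S, 0 ≤ f₂ (P.root i)) :
    (∀ m : M, (∀ i ∈ S, 0 ≤ P.coroot' i m) → f₁ m ≤ f₂ m) ↔
    ∀ (X : Finset M) (hX : X.Nonempty), (∀ g : P.Aut, g ∈ P.weylGroup → ∀ m ∈ X, RootPairing.Equiv.weightHom P g m ∈ X) →
      X.sup' hX f₁ ≤ X.sup' hX f₂ := by
  classical
  have h := RootDatum.isSimple_indec hS
  have hSe := RootDatum.posOf_indec hS
  cases nonempty_fintype ι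
  simp only [RootDatum.weightHom_eq_smul]
  have dom : ∀ f : M →+ Γ, (∀ i ∈ S, 0 ≤ f (P.root i)) → ∀ m : M, (∀ i ∈ S, 0 ≤ P.coroot' i m) →
      ∀ g : P.Aut, g ∈ P.weylGroup → f (g • m) ≤ f m := by
    intro f hf m hm g hg
    obtain ⟨c, h1, h2, h3⟩ :=
      RootDatum.exists_coeffs_of_dominant P h (fun i hi => hf i (hSe ▸ hi)) hg
    rw [← sub_nonneg, h3]
    refine Finset.sum_nonneg fun k _ => ?_
    by_cases hk : k ∈ S
    · exact zsmul_nonneg (h1 k) (hm k hk)
    · rw [h2 k (hSe.symm ▸ hk), smul_zero]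
  constructor
  · intro hle X hX hstab
    refine Finset.sup'_le hX _ fun m hm => ?_
    obtain ⟨g, hg, hd⟩ := RootDatum.exists_smul_dominant P h m
    have hd' : ∀ i ∈ S, 0 ≤ P.coroot' i (g • m) := fun i hi => hd i (hSe.symm ▸ hi)
    calc f₁ m = f₁ (g⁻¹ • g • m) := by rw [inv_smul_smul]
      _ ≤ f₁ (g • m) := dom f₁ hf₁ _ hd' _ (inv_mem hg)
      _ ≤ f₂ (g • m) := hle _ hd'
      _ ≤ _ := Finset.le_sup' f₂ (hstab g hg m hm)
  · intro hsup m hm
    have := RootDatum.weylGroup_finite P
    cases nonempty_fintype P.weylGroup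
    have hne : ((Finset.univ : Finset P.weylGroup).image fun g : P.weylGroup => (g : P.Aut) • m).Nonempty :=
      Finset.univ_nonempty.image _
    have := hsup _ hne (fun g hg x hx => by
      obtain ⟨w, -, rfl⟩ := Finset.mem_image.mp hx
      exact Finset.mem_image.mpr ⟨⟨g, hg⟩ * w, Finset.mem_univ _, by rw [Subgroup.coe_mul, mul_smul]⟩)
    refine le_trans (le_trans (Finset.le_sup' f₁ ?_) this) (Finset.sup'_le hne _ fun x hx => ?_)
    · exact Finset.mem_image.mpr ⟨1, Finset.mem_univ _, by simp⟩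
    · obtain ⟨w, -, rfl⟩ := Finset.mem_image.mp hx
      exact dom f₂ hf₂ m hm _ w.2

end Groth.Agent.S19161
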