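import Groth.Statements.S19163
import Groth.Agent.DiagRig.InLocus
import Groth.Agent.DiagRig.SubDescent
-- import your own Groth.Agent.* helpers here

set_option autoImplicit false
open CategoryTheory MonoidalCategory CartesianMonoidalCategory MonObj GrpObj AlgebraicGeometry
universe u
open SGA3x

namespace Groth.Agent.S19163

open Groth.Agent.DiagRig

set_option backward.isDefEq.respectTransparency.types false

/-- Let Γ be a non-trivial totally ordered commutative group and H ⟶ G a closed immersion of reductive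
S-groups (a homomorphism which is a closed immersion). Let A_H with υ_H, resp. A_G with υ_G,
represent the functor of group homomorphisms D_S(Γ) ⟶ H, resp. D_S(Γ) ⟶ G, and let φ : A_H ⟶ A_G be
the S-morphism induced by composing with H ⟶ G (the universal family over A_H followed by H ⟶ G is
the pull-back of υ_G along φ). Then φ is a closed immersion, locally of finite presentation. -/
theorem result {S : Scheme.{u}}
    (Γ : Type) [AddCommGroup Γ] [LinearOrder Γ] [IsOrderedAddMonoid Γ] [Nontrivial Γ]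
    (H G : Over S) [GrpObj H] [GrpObj G] (hH : Red.IsReductive H) (hG : Red.IsReductive G)
    (k : H ⟶ G) [IsMonHom k] (hk : IsClosedImmersion k.left)
    (AH : Over S) (υH : Red.DS S Γ ⊗ AH ⟶ H) (hAH : AutFam.RepresentsHom (Red.DS S Γ) H AH υH)
    (AG : Over S) (υG : Red.DS S Γ ⊗ AG ⟶ G) (hAG : AutFam.RepresentsHom (Red.DS S Γ) G AG υG)
    (φ : AH ⟶ AG) (hφ : (Red.DS S Γ ◁ φ) ≫ υG = υH ≫ k) :
    IsClosedImmersion φ.left ∧ LocallyOfFinitePresentation φ.left := by
  obtain ⟨hHa, hHs, -⟩ := hH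
  obtain ⟨hGa, hGs, -⟩ := hG
  haveI : IsClosedImmersion k.left := hk
  haveI : Mono k := CategoryTheory.Over.mono_of_mono_left k
  have hlfp : LocallyOfFinitePresentation k.left := by
    have : LocallyOfFinitePresentation (k.left ≫ G.hom) := by
      rw [CategoryTheory.Over.w k]; exact (inferInstance : LocallyOfFinitePresentation H.hom)
    exact MorphismProperty.of_postcomp (W' := @LocallyOfFiniteType) @LocallyOfFinitePresentation k.left G.hom
      (inferInstance : LocallyOfFiniteType G.hom) this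
  have hsplit : SplitFpqc (Red.DS S Γ) := by
    refine splitFpqc_of_cover (Red.DS S Γ) (𝟙 S) (fun V hV => ⟨V, hV.isCompact, by simp⟩)
      fun s => ⟨⊤, trivial, Γ, inferInstance, ⟨?_⟩⟩
    exact bcGrpIso (Limits.IsTerminal.from specULiftZIsTerminal S) ((⊤ : S.Opens).ι ≫ 𝟙 S)
      (Limits.IsTerminal.from specULiftZIsTerminal _) (specULiftZIsTerminal.hom_ext _ _)
      (Red.diag (ULift.{u} ℤ) Γ)
  let f : AG ⊗ Red.DS S Γ ⟶ G := lift (snd AG (Red.DS S Γ)) (fst AG (Red.DS S Γ)) ≫ υG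
  obtain ⟨Z, i, hi, hip, hZ⟩ := exists_closed_inLocus f k hsplit
  haveI : IsClosedImmersion i.left := hi
  haveI : Mono i := CategoryTheory.Over.mono_of_mono_left i
  have hf : ∀ {X : Over S} (a : X ⟶ AG) (h : X ⟶ Red.DS S Γ), lift a h ≫ f = lift h a ≫ υG := fun a h => by
    simp only [f, comp_lift_assoc, lift_fst, lift_snd]
  have hφ' : ∀ {X : Over S} (a : X ⟶ AH) (h : X ⟶ Red.DS S Γ), lift h (a ≫ φ) ≫ υG = lift h a ≫ υH ≫ k :=
    fun a h => by rw [← hφ, ← Category.assoc (lift h a), lift_whiskerLeft]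
  obtain ⟨z, hz⟩ := (hZ AH φ).2 fun T' q h => ⟨lift h q ≫ υH, by rw [hf, hφ', Category.assoc]⟩
  obtain ⟨ψ, hψ⟩ := (hZ Z i).1 ⟨𝟙 Z, Category.id_comp i⟩ (Red.DS S Γ ⊗ Z) (snd _ _) (fst _ _)
  rw [hf] at hψ
  have hψ' : ∀ {X : Over S} (g : X ⟶ Red.DS S Γ) (t : X ⟶ Z), lift g t ≫ ψ ≫ k = lift g (t ≫ i) ≫ υG :=
    fun g t => by rw [hψ, comp_lift_assoc, lift_fst, lift_snd_assoc]
  have hfam : AutFam.IsHomFamily (Red.DS S Γ) H ψ := fun X g₁ g₂ t => by
    rw [← cancel_mono k, Category.assoc, MonObj.mul_comp, Category.assoc, Category.assoc, hψ', hψ', hψ']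
    exact hAG.1 X g₁ g₂ (t ≫ i)
  obtain ⟨a, ha, -⟩ := hAH.2 Z ψ hfam
  have h1 : a ≫ φ = i := by
    have hfam' : AutFam.IsHomFamily (Red.DS S Γ) G ((Red.DS S Γ ◁ i) ≫ υG) := fun X g₁ g₂ t => by
      simp only [← Category.assoc, lift_whiskerLeft]
      exact hAG.1 X g₁ g₂ (t ≫ i)
    obtain ⟨b, -, hu⟩ := hAG.2 Z _ hfam'
    refine (hu (a ≫ φ) ?_).trans (hu i rfl).symm
    show (Red.DS S Γ ◁ (a ≫ φ)) ≫ υG = (Red.DS S Γ ◁ i) ≫ υG
    rw [MonoidalCategory.whiskerLeft_comp, Category.assoc, hφ, ← Category.assoc, ha]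
    rw [hψ]
    congr 1
  have h2 : z ≫ a = 𝟙 AH := by
    obtain ⟨b, -, hu⟩ := hAH.2 AH υH hAH.1
    refine (hu (z ≫ a) ?_).trans (hu (𝟙 AH) (by simp)).symm
    show (Red.DS S Γ ◁ (z ≫ a)) ≫ υH = υH
    rw [← cancel_mono k, MonoidalCategory.whiskerLeft_comp, Category.assoc, Category.assoc, ← Category.assoc _ υH k, ha,
      hψ, ← Category.assoc, comp_lift, whiskerLeft_fst, ← Category.assoc, whiskerLeft_snd, Category.assoc, hz, ← hφ]
    congr 1
  have h3 : a ≫ z = 𝟙 Z := by rw [← cancel_mono i, Category.assoc, hz, h1, Category.id_comp]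
  let e : AH ≅ Z := ⟨z, a, h2, h3⟩
  haveI : IsIso z.left := ((CategoryTheory.Over.forget S).mapIso e).isIso_hom
  rw [← hz, CategoryTheory.Over.comp_left]
  haveI : LocallyOfFinitePresentation i.left := hip hlfp
  exact ⟨inferInstance, inferInstance⟩

end Groth.Agent.S19163
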