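import Groth.Statements.S19167
import Groth.Agent.ProC84
-- import your own Groth.Agent.* helpers here

set_option autoImplicit false
universe u v
open ProCompl

namespace Groth.Agent.S19167

open Topology in
/-- Let i : A → B be an injective continuous homomorphism of topological abelian groups inducing the
topology of A from that of B (a strict injection), with open image. Then every character χ : A → ℚ/ℤ
with open kernel extends along i to a character ψ : B → ℚ/ℤ with open kernel. Here ℚ/ℤ is regarded
as a discrete group, so that continuity of a character means that its kernel is open. -/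
theorem result
    {A : Type u} {B : Type v} [AddCommGroup A] [TopologicalSpace A] [IsTopologicalAddGroup A]
    [AddCommGroup B] [TopologicalSpace B] [IsTopologicalAddGroup B]
    (i : A →+ B) (hi : Continuous i) (hinj : Function.Injective i) (hind : IsInducing i)
    (hopen : IsOpen (Set.range i))
    (χ : A →+ ℚ ⧸ AddSubgroup.zmultiples (1 : ℚ)) (hχ : IsOpen (χ.ker : Set A)) :
    ∃ ψ : B →+ ℚ ⧸ AddSubgroup.zmultiples (1 : ℚ), IsOpen (ψ.ker : Set B) ∧ ψ.comp i = χ := by
  obtain ⟨ψ, hψ⟩ := Groth.Agent.ProC84.exists_char_ext i χ (fun x hx => by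
    rw [show x = 0 from hinj (by rw [map_zero]; exact hx)]
    exact zero_mem _)
  refine ⟨ψ, AddSubgroup.isOpen_mono (H₁ := χ.ker.map i) ?_ ?_, hψ⟩
  · rintro _ ⟨x, hx, rfl⟩
    show ψ (i x) = 0
    rw [show ψ (i x) = χ x from DFunLike.congr_fun hψ x]
    exact hx
  · rw [AddSubgroup.coe_map]
    exact (IsOpenEmbedding.mk ⟨hind, hinj⟩ hopen).isOpenMap _ hχ

end Groth.Agent.S19167
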