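import Groth.Statements.S19169
import Groth.Agent.ProC84
-- import your own Groth.Agent.* helpers here

set_option autoImplicit false
universe u
open ProCompl

namespace Groth.Agent.S19169

/-- Let B be a Hausdorff, locally compact, totally disconnected topological abelian group which is
compactly generated, i.e. generated as a group by a compact subset. Then the open subgroups of
finite index of B have trivial intersection: every nonzero b lies outside some open subgroup of
finite index. Equivalently, the natural map from B to its completion with respect to open subgroups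
of finite index is injective. -/
theorem result
    {B : Type u} [AddCommGroup B] [TopologicalSpace B] [IsTopologicalAddGroup B]
    [T2Space B] [LocallyCompactSpace B] [TotallyDisconnectedSpace B]
    (hcg : ∃ K : Set B, IsCompact K ∧ AddSubgroup.closure K = ⊤) (b : B) (hb : b ≠ 0) :
    ∃ B' : AddSubgroup B, IsOpen (B' : Set B) ∧ B'.FiniteIndex ∧ b ∉ B' := by
  obtain ⟨K, hK, hgen⟩ := hcg
  obtain ⟨U, hUo, -, hUs⟩ := Groth.Agent.ProC84.exists_isOpen_subgroup_subset (B := B)
    (O := {b}ᶜ) isClosed_singleton.isOpen_compl (fun h => hb (Set.mem_singleton_iff.1 h).symm)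
  have := Groth.Agent.ProC84.fg_quotient_of_isOpen hK hgen hUo
  obtain ⟨H, hH, hbH⟩ := Groth.Agent.ProC84.exists_finiteIndex_avoid_fg (A := B ⧸ U) (a := (b : B ⧸ U))
    (fun h => hUs ((QuotientAddGroup.eq_zero_iff b).1 h) rfl)
  refine ⟨H.comap (QuotientAddGroup.mk' U), AddSubgroup.isOpen_mono (fun x hx => ?_) hUo, ⟨?_⟩, hbH⟩
  · show ((x : B ⧸ U)) ∈ H
    rw [(QuotientAddGroup.eq_zero_iff x).2 hx]
    exact zero_mem _
  · rw [AddSubgroup.index_comap_of_surjective _ (QuotientAddGroup.mk'_surjective U)]
    exact hH.index_ne_zero

end Groth.Agent.S19169
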