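import Groth.Statements.S1917
import Groth.Agent.CycLib.ProdClass
import Groth.Agent.CycLib.RatMap
import Groth.Agent.CycLib.P1Chart
import Groth.Agent.CycLib.ClosedPt
import Groth.Agent.CycLib.FieldDelta
import Groth.Agent.CycLib.FibreDeg
import Groth.Agent.IntMult88.MV
import Groth.Agent.S9126
import Groth.Agent.FibCodepth.SkNhd
import Groth.Agent.FBase.BC

set_option autoImplicit false
universe u
open CategoryTheory CategoryTheory.Limits AlgebraicGeometry
open IntMult

namespace Groth.Agent.S1917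

section
open CategoryTheory CategoryTheory.Limits AlgebraicGeometry IsLocalRing Groth.Agent.CycLib

namespace Ext88

variable {K : Type u} [Field K] {X Y P : Scheme.{u}}

theorem delta_eq_fdelta (c : X ⟶ Spec (CommRingCat.of K)) [LocallyOfFiniteType c] {δ : X → ℤ}
    (hδ : Cyc.DeltaCompat c δ (fun _ => 0)) : δ = fdelta K c := by
  funext x
  obtain ⟨a, ha, ha'⟩ := deltaCompat_fdelta K c c (𝟙 _) (Category.comp_id c) x
  obtain ⟨b, hb, hb'⟩ := hδ x
  have hab : a = b := Nat.cast_injective (R := Cardinal) (ha.symm.trans hb)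
  rw [fdelta_id] at ha'
  simp only at hb'
  omega

theorem isSetup_fdelta (c : X ⟶ Spec (CommRingCat.of K)) [LocallyOfFiniteType c] :
    Cyc.IsSetup X (fdelta K c) := by
  refine ⟨LocallyOfFiniteType.isLocallyNoetherian c, fun x => ?_, isDimFun_fdelta K c⟩
  obtain ⟨U, hU, hxU, -⟩ := exists_isAffineOpen_mem_and_subset (x := x) (U := ⊤) trivial
  have hft := c.finiteType_appLE (isAffineOpen_top (Spec (CommRingCat.of K))) hU (le_top : U ≤ c ⁻¹ᵁ ⊤)
  have e : Function.Bijective (Scheme.ΓSpecIso (CommRingCat.of K)).inv.hom :=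
    ConcreteCategory.bijective_of_isIso (Scheme.ΓSpecIso (CommRingCat.of K)).inv
  letI : Algebra K Γ(X, U) :=
    ((c.appLE ⊤ U le_top).hom.comp (Scheme.ΓSpecIso (CommRingCat.of K)).inv.hom).toAlgebra
  haveI : Algebra.FiniteType K Γ(X, U) := RingHom.finiteType_algebraMap.1
    (hft.comp (RingHom.FiniteType.of_surjective _ e.surjective))
  letI := X.presheaf.algebra_section_stalk ⟨x, hxU⟩
  haveI := hU.isLocalization_stalk ⟨x, hxU⟩
  letI : Algebra K (X.presheaf.stalk x) :=
    ((algebraMap Γ(X, U) _).comp (algebraMap K Γ(X, U))).toAlgebra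
  haveI : IsScalarTower K Γ(X, U) (X.presheaf.stalk x) := IsScalarTower.of_algebraMap_eq fun _ => rfl
  haveI : Algebra.EssFiniteType Γ(X, U) (X.presheaf.stalk x) :=
    Algebra.EssFiniteType.of_isLocalization _ (hU.primeIdealOf ⟨x, hxU⟩).asIdeal.primeCompl
  haveI : Algebra.EssFiniteType K (X.presheaf.stalk x) := Algebra.EssFiniteType.comp K Γ(X, U) _
  exact S9126.result K _ (Groth.Agent.FibCodepth.SkNhd.isUniversallyCatenary_field K)

theorem geomInt [IsAlgClosed K] (f : X ⟶ Spec (CommRingCat.of K)) [IsIntegral X] :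
    GeometricallyIntegral f :=
  have := FBase.BC.geometricallyIrreducible_of_isSepClosed f
  have := FBase.BC.geometricallyReduced_of_isReduced_of_perfectField f
  GeometricallyIntegral.of_geometricallyReduced_of_geometricallyIrreducible f

theorem ratEquivZero_zero (δ : X → ℤ) (k : ℤ) : Cyc.RatEquivZero δ k 0 :=
  ⟨PEmpty, PEmpty.elim, fun i => i.elim, fun i => i.elim, fun i => i.elim,
    fun _ => ⟨Set.univ, isOpen_univ, trivial, Set.toFinite _⟩,
    fun _ => by rw [finsum_of_isEmpty]; rfl⟩

theorem ratEquivZero_add {δ : X → ℤ} {k : ℤ} {α β : AlgebraicCycle X ℤ}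
    (h : Cyc.RatEquivZero δ k α) (h' : Cyc.RatEquivZero δ k β) : Cyc.RatEquivZero δ k (α + β) := by
  classical
  obtain ⟨ι, ξ, f, hξ, hf, hlf, hs⟩ := h
  obtain ⟨ι', ξ', f', hξ', hf', hlf', hs'⟩ := h'
  refine ⟨ι ⊕ ι', Sum.elim ξ ξ', fun i => i.rec f f', fun i => i.rec hξ hξ', fun i => i.rec hf hf',
    fun x => ?_, fun x => ?_⟩
  · obtain ⟨U, hU, hxU, hfin⟩ := hlf x
    obtain ⟨U', hU', hxU', hfin'⟩ := hlf' x
    refine ⟨U ∩ U', hU.inter hU', ⟨hxU, hxU'⟩,
      ((hfin.image Sum.inl).union (hfin'.image Sum.inr)).subset ?_⟩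
    rintro (i | i) ⟨z, hz, hz1, hz2⟩
    · exact Or.inl ⟨i, ⟨z, hz, hz1⟩, rfl⟩
    · exact Or.inr ⟨i, ⟨z, hz, hz2⟩, rfl⟩
  · obtain ⟨U, -, hxU, hfin⟩ := hlf x
    obtain ⟨U', -, hxU', hfin'⟩ := hlf' x
    have h1 : Function.support (fun i => Cyc.divFun δ (ξ i) (f i) x) ⊆ (hfin.toFinset : Set ι) :=
      fun i hi => by
        rw [Set.Finite.coe_toFinset]
        by_contra hn
        exact hi (dif_neg fun hh => hn ⟨x, specializes_iff_mem_closure.1 hh.1, hxU⟩)
    have h2 : Function.support (fun i => Cyc.divFun δ (ξ' i) (f' i) x) ⊆ (hfin'.toFinset : Set ι') :=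
      fun i hi => by
        rw [Set.Finite.coe_toFinset]
        by_contra hn
        exact hi (dif_neg fun hh => hn ⟨x, specializes_iff_mem_closure.1 hh.1, hxU'⟩)
    rw [finsum_eq_sum_of_support_subset _ (s := hfin.toFinset.disjSum hfin'.toFinset) ?_,
      Finset.sum_disjSum]
    · show α x + β x = _
      rw [(hs x).trans (finsum_eq_sum_of_support_subset _ h1),
        (hs' x).trans (finsum_eq_sum_of_support_subset _ h2)]
      rfl
    · rintro (i | i) hi
      · exact Finset.inl_mem_disjSum.2 (h1 hi)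
      · exact Finset.inr_mem_disjSum.2 (h2 hi)

theorem ratEquivZero_zsmul [IsLocallyNoetherian X] {δ : X → ℤ} (hd : Cyc.IsDimFun X δ) {k : ℤ}
    {α : AlgebraicCycle X ℤ} (h : Cyc.RatEquivZero δ k α) (n : ℤ) :
    Cyc.RatEquivZero δ k (n • α) := by
  induction n with
  | zero => rw [zero_zsmul]; exact ratEquivZero_zero δ k
  | succ i ih => rw [add_zsmul, one_zsmul]; exact ratEquivZero_add ih h
  | pred i ih =>
    rw [sub_zsmul, one_zsmul]
    exact ratEquivZero_add ih (IntMult88.MV.ratEquivZero_neg hd h)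

/-- The length in the exterior product. -/
noncomputable def len (p1 : P ⟶ X) (p2 : P ⟶ Y) (z : P) : ℕ :=
  (Module.length (P.presheaf.stalk z)
    (↑(P.presheaf.stalk z) ⧸
      ((maximalIdeal (X.presheaf.stalk (p1 z))).map (p1.stalkMap z).hom ⊔
        (maximalIdeal (Y.presheaf.stalk (p2 z))).map (p2.stalkMap z).hom))).toNat

theorem len_comm (p1 : P ⟶ X) (p2 : P ⟶ Y) (z : P) : len p2 p1 z = len p1 p2 z :=
  congrArg (fun I : Ideal (P.presheaf.stalk z) =>
    (Module.length (P.presheaf.stalk z) (↑(P.presheaf.stalk z) ⧸ I)).toNat) (sup_comm _ _)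

theorem len_eq_one {Q V : Scheme.{u}} [IsIntegral V] (j : V ⟶ Y) [IsClosedImmersion j] (p1 : P ⟶ X)
    (p2 : P ⟶ Y) (m : Q ⟶ P) [IsClosedImmersion m] (v : Q ⟶ V) (hm : IsPullback m v p2 j) (w : Q)
    (hw : v w = genericPoint V)
    (hq : (maximalIdeal (X.presheaf.stalk ((m ≫ p1) w))).map ((m ≫ p1).stalkMap w).hom =
      maximalIdeal (Q.presheaf.stalk w)) : len p1 p2 (m w) = 1 := by
  rw [map_eq_comp] at hq
  set I1 := (maximalIdeal (X.presheaf.stalk (p1 (m w)))).map (p1.stalkMap (m w)).hom with hI1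
  set I2 := (maximalIdeal (Y.presheaf.stalk (p2 (m w)))).map (p2.stalkMap (m w)).hom with hI2
  have hjw : j (v w) = p2 (m w) := by
    show (v ≫ j) w = (m ≫ p2) w
    rw [hm.w]
  have hks : RingHom.ker (j.stalkMap (v w)).hom = maximalIdeal _ := by
    refine IsLocalRing.eq_maximalIdeal (Ideal.Quotient.maximal_of_isField _ ?_)
    refine (RingHom.quotientKerEquivOfSurjective (j.stalkMap_surjective (v w))).toMulEquiv.isField ?_
    rw [hw]
    exact Field.toIsField V.functionField
  have hker : RingHom.ker (m.stalkMap w).hom = I2 := by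
    rw [ker_stalkMap_isPullback hm w (specializes_of_eq hjw), hks,
      comap_maximalIdeal_of_eq hjw (specializes_of_eq hjw)]
  have h : I1 ⊔ I2 = maximalIdeal (P.presheaf.stalk (m w)) := by
    refine le_antisymm ?_ ?_
    · refine sup_le ?_ ?_ <;>
        exact Ideal.map_le_iff_le_comap.2 fun a ha => by
          simp only [Ideal.mem_comap, IsLocalRing.mem_maximalIdeal, mem_nonunits_iff] at ha ⊢
          exact fun hu => ha (IsLocalHom.map_nonunit a hu)
    · have e : ((I1.map (m.stalkMap w).hom).comap (m.stalkMap w).hom) = I1 ⊔ I2 := by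
        rw [Ideal.comap_map_of_surjective _ (m.stalkMap_surjective w), ← hker]
        rfl
      rw [← e, hq]
      intro a ha
      simp only [Ideal.mem_comap, IsLocalRing.mem_maximalIdeal, mem_nonunits_iff] at ha ⊢
      exact fun hu => ha (IsLocalHom.map_nonunit a hu)
  haveI : IsSimpleModule (P.presheaf.stalk (m w)) (↑(P.presheaf.stalk (m w)) ⧸ (I1 ⊔ I2)) :=
    isSimpleModule_iff_isCoatom.2 (Ideal.isMaximal_def.1 (h ▸ maximalIdeal.isMaximal _))
  rw [len, Module.length_eq_one]
  rfl

open Classical in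
set_option backward.isDefEq.respectTransparency false in
/-- The exterior product with a point. -/
theorem core [IsAlgClosed K] (f : X ⟶ Spec (CommRingCat.of K)) (g : Y ⟶ Spec (CommRingCat.of K))
    [IsIntegral X] [IsSeparated f] [LocallyOfFiniteType f] [LocallyOfFiniteType g] [QuasiCompact f]
    [QuasiCompact g] {p1 : P ⟶ X} {p2 : P ⟶ Y} (h : IsPullback p1 p2 f g)
    [LocallyOfFiniteType (p1 ≫ f)] (η : Y) (r : ℤ) (α : AlgebraicCycle X ℤ)
    (h0 : Cyc.RatEquivZero (fdelta K f) r α) :
    ∃ C : AlgebraicCycle P ℤ, Cyc.RatEquivZero (fdelta K (p1 ≫ f)) (r + fdelta K g η) C ∧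
      ∀ z, C z = if p2 z = η ∧ fdelta K (p1 ≫ f) z = fdelta K f (p1 z) + fdelta K g η then
        α (p1 z) * (len p1 p2 z : ℤ) else 0 := by
  haveI := LocallyOfFiniteType.isLocallyNoetherian f
  haveI := LocallyOfFiniteType.isLocallyNoetherian g
  haveI := LocallyOfFiniteType.isLocallyNoetherian (p1 ≫ f)
  haveI : JacobsonSpace X := LocallyOfFiniteType.jacobsonSpace f
  haveI : CompactSpace X := QuasiCompact.compactSpace_of_compactSpace f
  obtain ⟨V, hV, j, hj, hjgen, hjr⟩ := exists_closure_subscheme η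
  haveI := geomInt f
  haveI := geomInt (j ≫ g)
  haveI : IsSeparated (j ≫ g) ∨ True := Or.inr trivial
  let Q := pullback f (j ≫ g)
  let v : Q ⟶ V := pullback.snd f (j ≫ g)
  let q : Q ⟶ X := pullback.fst f (j ≫ g)
  have hqw : q ≫ f = (v ≫ j) ≫ g := by rw [Category.assoc]; exact pullback.condition
  let m : Q ⟶ P := h.lift q (v ≫ j) hqw
  have hm1 : m ≫ p1 = q := h.lift_fst _ _ _
  have hm2 : m ≫ p2 = v ≫ j := h.lift_snd _ _ _
  have hm : IsPullback m v p2 j :=
    IsPullback.of_right (by rw [hm1]; exact IsPullback.of_hasPullback f (j ≫ g)) hm2 h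
  haveI : IsClosedImmersion m := MorphismProperty.of_isPullback (P := @IsClosedImmersion) hm.flip hj
  haveI : IsLocallyNoetherian Q := LocallyOfFiniteType.isLocallyNoetherian m
  haveI : IsIntegral Q := inferInstanceAs (IsIntegral (pullback f (j ≫ g)))
  haveI : GeometricallyIntegral q := inferInstanceAs (GeometricallyIntegral (pullback.fst f (j ≫ g)))
  haveI : GeometricallyIntegral v := inferInstanceAs (GeometricallyIntegral (pullback.snd f (j ≫ g)))
  haveI : Flat q := inferInstanceAs (Flat (pullback.fst f (j ≫ g)))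
  haveI : LocallyOfFiniteType (q ≫ f) := by
    rw [← hm1, Category.assoc]; infer_instance
  have hmc : m ≫ (p1 ≫ f) = q ≫ f := by rw [← Category.assoc, hm1]
  have hδm : Cyc.DeltaCompat m (fdelta K (q ≫ f)) (fdelta K (p1 ≫ f)) :=
    deltaCompat_fdelta K m _ _ hmc
  have hdm : ∀ w, fdelta K (q ≫ f) w = fdelta K (p1 ≫ f) (m w) := fun w =>
    delta_eq_of_surjective m hδm w (residueFieldMap_bijective_closedImmersion m w).2
  have hdX := isDimFun_fdelta K f
  have hdQ := isDimFun_fdelta K (q ≫ f)
  have hs := shiftBy_of_integral q hdQ hdX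
  set e : ℤ := fdelta K (q ≫ f) (genericPoint Q) - fdelta K f (genericPoint X) with he
  have hpair : ∀ x y, ∃ z, q z = x ∧ v z = y := fun x y => by
    obtain ⟨z, h1, h2⟩ := Scheme.Pullback.exists_preimage_pullback (f := f) (g := j ≫ g) x y
      (Subsingleton.elim _ _)
    exact ⟨z, h1, h2⟩
  have hvgen : ∀ x, v (fibPt q x) = genericPoint V := fun x => apply_fibPt_other hpair x
  -- the relative dimension, from a rational point
  have hee : e = fdelta K g η := by
    obtain ⟨x₀, -, hx₀⟩ := nonempty_inter_closedPoints (X := X) Set.univ_nonempty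
      isClosed_univ.isLocallyClosed
    have hc : IsClosed ({x₀} : Set X) := hx₀
    let s := pointOfClosedPoint f x₀ hc
    have hsf : s ≫ f = 𝟙 _ := pointOfClosedPoint_comp f x₀ hc
    haveI : IsClosedImmersion (s ≫ f) := by rw [hsf]; infer_instance
    haveI : IsClosedImmersion s := IsClosedImmersion.of_comp s f
    let σ : V ⟶ Q := pullback.lift ((j ≫ g) ≫ s) (𝟙 V) (by rw [Category.assoc, hsf, Category.comp_id, Category.id_comp])
    have hσ1 : σ ≫ q = (j ≫ g) ≫ s := pullback.lift_fst _ _ _
    have hσ2 : σ ≫ v = 𝟙 V := pullback.lift_snd _ _ _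
    have hσ : IsPullback σ (j ≫ g) q s := by
      refine IsPullback.of_right ?_ hσ1 (IsPullback.of_hasPullback f (j ≫ g)).flip
      rw [hσ2, hsf]
      exact IsPullback.of_horiz_isIso ⟨by simp⟩
    haveI : IsClosedImmersion σ :=
      MorphismProperty.of_isPullback (P := @IsClosedImmersion) hσ.flip inferInstance
    haveI : LocallyOfFiniteType (j ≫ g) := inferInstance
    have hσc : σ ≫ (q ≫ f) = j ≫ g := by
      rw [← Category.assoc, hσ1, Category.assoc, hsf, Category.comp_id]
    obtain ⟨b, hb, -⟩ := Scheme.exists_preimage_of_isPullback hσ (fibPt q x₀)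
      (closedPoint K : Spec (CommRingCat.of K))
      (by rw [apply_fibPt]; exact (pointOfClosedPoint_apply f x₀ hc _).symm)
    have hbg : b = genericPoint V := by
      rw [← hvgen x₀, ← hb, ← Scheme.Hom.comp_apply, hσ2]
      rfl
    have h1 := hs _ (fibPt_generic q x₀)
    rw [apply_fibPt, (fdelta_eq_zero_iff K f x₀).2 hc, zero_add] at h1
    have h2 : fdelta K (j ≫ g) b = fdelta K (q ≫ f) (σ b) :=
      delta_eq_of_surjective σ (deltaCompat_fdelta K σ _ _ hσc) b
        (residueFieldMap_bijective_closedImmersion σ b).2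
    have h3 : fdelta K (j ≫ g) b = fdelta K g (j b) :=
      delta_eq_of_surjective j (deltaCompat_fdelta K j _ _ rfl) b
        (residueFieldMap_bijective_closedImmersion j b).2
    rw [hb] at h2
    rw [hbg, hjgen] at h3
    rw [hbg] at h2
    omega
  clear_value e
  subst hee
  -- the pulled back cycle
  have hsupp : (Function.support (Cyc.pullFun q (fdelta K (q ≫ f)) (fdelta K f) (fdelta K g η) ⇑α)).Finite := by
    have hα : (Function.support ⇑α).Finite := by
      simpa using α.locallyFiniteSupport.finite_inter_support_of_isCompact isCompact_univ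
    refine (hα.image (fibPt q)).subset fun w hw => ?_
    rw [Function.mem_support, pullFun_eq_ite q hdQ hs] at hw
    by_cases hh : w = fibPt q (q w)
    · rw [if_pos hh] at hw
      exact ⟨q w, hw, hh.symm⟩
    · rw [if_neg hh] at hw
      exact absurd rfl hw
  obtain ⟨c, hc⟩ := exists_cycle_of_finite _ hsupp
  have hc0 := ratEquivZero_pull_shift q (isSetup_fdelta (q ≫ f)) (isSetup_fdelta f) hs h0 c
    (fun w => congrFun hc w)
  have hmap := ratEquiv_map (fdelta K (q ≫ f)) (fdelta K (p1 ≫ f)) hdQ (isDimFun_fdelta K (p1 ≫ f)) m hδm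
    _ c 0 (by rw [Cyc.RatEquiv, sub_zero]; exact hc0)
  refine ⟨AlgebraicCycle.map m (fdelta K (q ≫ f)) (fdelta K (p1 ≫ f)) c, ?_, fun z => ?_⟩
  · have hz : AlgebraicCycle.map m (fdelta K (q ≫ f)) (fdelta K (p1 ≫ f)) 0 = 0 :=
      Function.locallyFinsuppWithin.coe_injective (funext fun z => by
        show AlgebraicCycle.map m (fdelta K (q ≫ f)) (fdelta K (p1 ≫ f)) 0 z = (0 : AlgebraicCycle P ℤ) z
        rw [map_apply_eq_sum m (fdelta K (q ≫ f)) (fdelta K (p1 ≫ f)) 0 z ∅
          (fun x _ hx => absurd rfl hx)]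
        simp)
    rwa [hz, Cyc.RatEquiv, sub_zero] at hmap
  · by_cases hr : z ∈ Set.range m
    · obtain ⟨w, rfl⟩ := hr
      rw [IntMult88.MV.map_apply m _ _ hdm, congrFun hc w]
      have hq : q w = p1 (m w) := by rw [← Scheme.Hom.comp_apply, hm1]
      have hy : j (v w) = p2 (m w) := by rw [← Scheme.Hom.comp_apply, ← Scheme.Hom.comp_apply, hm2]
      rw [Cyc.pullFun]
      by_cases hd : fdelta K (q ≫ f) w = fdelta K f (q w) + fdelta K g η
      · have hw : w = fibPt q (q w) := (eq_fibPt_iff q w).2 (hs.gen hdQ w hd)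
        have hv : v w = genericPoint V := by rw [hw]; exact hvgen _
        have hmax : (maximalIdeal (X.presheaf.stalk (q w))).map (q.stalkMap w).hom =
            maximalIdeal (Q.presheaf.stalk w) := by rw [hw]; exact map_maximalIdeal_fibPt q _
        have hl1 : fibLen q w = 1 := fibLen_eq_one_of_map_eq q w hmax
        have hl2 : len p1 p2 (m w) = 1 := len_eq_one j p1 p2 m v hm w hv (by
          have key : ∀ q' : Q ⟶ X, q' = q →
              (maximalIdeal (X.presheaf.stalk (q' w))).map (q'.stalkMap w).hom =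
                maximalIdeal (Q.presheaf.stalk w) := by
            rintro _ rfl
            exact hmax
          exact key _ hm1)
        rw [if_pos hd, if_pos ⟨by rw [← hy, hv, hjgen], by rw [← hdm, ← hq]; exact hd⟩, hl2, ← hq]
        show α (q w) * (fibLen q w : ℤ) = _
        rw [hl1]
      · rw [if_neg hd, if_neg fun hh => hd (by rw [hdm, hq]; exact hh.2)]
    · rw [IntMult88.MV.map_apply_of_notMem m _ _ _ hr, if_neg]
      rintro ⟨hz, -⟩
      obtain ⟨w, hw, -⟩ := Scheme.exists_preimage_of_isPullback hm z (genericPoint V) (hz.trans hjgen.symm)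
      exact hr ⟨w, hw⟩

open Classical in
/-- The exterior product with a cycle rationally equivalent to zero. -/
theorem main [IsAlgClosed K] (f : X ⟶ Spec (CommRingCat.of K)) (g : Y ⟶ Spec (CommRingCat.of K))
    [IsIntegral X] [IsSeparated f] [LocallyOfFiniteType f] [LocallyOfFiniteType g] [QuasiCompact f]
    [QuasiCompact g] {p1 : P ⟶ X} {p2 : P ⟶ Y} (h : IsPullback p1 p2 f g)
    [LocallyOfFiniteType (p1 ≫ f)] (r s : ℤ) (α : AlgebraicCycle X ℤ)
    (h0 : Cyc.RatEquivZero (fdelta K f) r α) (β : AlgebraicCycle Y ℤ)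
    (hβ : β ∈ Cyc.Zk Y (fdelta K g) s) (γ : AlgebraicCycle P ℤ)
    (hγ : ∀ z, γ z = if fdelta K (p1 ≫ f) z = fdelta K f (p1 z) + fdelta K g (p2 z) then
      α (p1 z) * β (p2 z) * (len p1 p2 z : ℤ) else 0) :
    Cyc.RatEquivZero (fdelta K (p1 ≫ f)) (r + s) γ := by
  haveI := LocallyOfFiniteType.isLocallyNoetherian (p1 ≫ f)
  haveI : CompactSpace Y := QuasiCompact.compactSpace_of_compactSpace g
  have hfin : (Function.support ⇑β).Finite := by
    simpa using β.locallyFiniteSupport.finite_inter_support_of_isCompact isCompact_univ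
  choose C hC hCz using fun η => core f g h η r α h0
  have hsum : ∀ S : Finset Y, (∀ η ∈ S, β η ≠ 0) →
      ∃ Γ : AlgebraicCycle P ℤ, Cyc.RatEquivZero (fdelta K (p1 ≫ f)) (r + s) Γ ∧
        ∀ z, Γ z = if p2 z ∈ S then β (p2 z) * C (p2 z) z else 0 := by
    intro S
    induction S using Finset.induction with
    | empty => exact fun _ => ⟨0, ratEquivZero_zero _ _, fun z => by simp⟩
    | @insert η S hη ih =>
      intro hS
      obtain ⟨Γ, hΓ, hΓz⟩ := ih fun y hy => hS y (Finset.mem_insert_of_mem hy)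
      have hs : fdelta K g η = s := by
        by_contra hne
        exact hS η (Finset.mem_insert_self _ _) (hβ η hne)
      refine ⟨β η • C η + Γ, ratEquivZero_add (ratEquivZero_zsmul (isDimFun_fdelta K _) (hs ▸ hC η) _) hΓ,
        fun z => ?_⟩
      show β η • C η z + Γ z = _
      rw [hΓz, smul_eq_mul]
      by_cases hz : p2 z = η
      · rw [hz, if_neg hη, if_pos (Finset.mem_insert_self _ _), add_zero]
      · rw [hCz η z, if_neg (fun hh => hz hh.1), mul_zero, zero_add]
        refine if_congr ?_ rfl rfl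
        rw [Finset.mem_insert, or_iff_right hz]
  obtain ⟨Γ, hΓ, hΓz⟩ := hsum hfin.toFinset fun η hη => hfin.mem_toFinset.1 hη
  have : Γ = γ := Function.locallyFinsuppWithin.coe_injective (funext fun z => by
    show Γ z = γ z
    rw [hΓz, hγ, hCz]
    simp only [Set.Finite.mem_toFinset, Function.mem_support, true_and]
    by_cases hb : β (p2 z) = 0
    · simp [hb]
    · rw [if_pos hb]
      split_ifs <;> ring)
  exact this ▸ hΓ

end Ext88

end


set_option backward.isDefEq.respectTransparency false in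
/-- Let X, Y be varieties over an algebraically closed field K (integral, separated, of finite type), α
an r-cycle on X and β an s-cycle on Y. If α or β is rationally equivalent to zero then so is the
exterior product α × β, an (r + s)-cycle on X ×_K Y (any cycle with the exterior-product
coefficients). Dimension functions are transcendence degrees of residue fields over K. -/
theorem result (K : Type u) [Field K] [IsAlgClosed K] (X Y : Scheme.{u}) (f : X ⟶ Spec (CommRingCat.of K)) (g : Y ⟶ Spec (CommRingCat.of K)) [IsIntegral X] [IsIntegral Y] [IsSeparated f] [IsSeparated g] [LocallyOfFiniteType f] [LocallyOfFiniteType g] [QuasiCompact f] [QuasiCompact g] (δX : X → ℤ) (δY : Y → ℤ) (δ : ↥(pullback f g) → ℤ) (hX : Cyc.DeltaCompat f δX (fun _ => 0)) (hY : Cyc.DeltaCompat g δY (fun _ => 0)) (hXY : Cyc.DeltaCompat (pullback.fst f g ≫ f) δ (fun _ => 0)) (r s : ℤ) (α : AlgebraicCycle X ℤ) (β : AlgebraicCycle Y ℤ) (hα : α ∈ Cyc.Zk X δX r) (hβ : β ∈ Cyc.Zk Y δY s) (h0 : Cyc.RatEquivZero δX r α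 ∨ Cyc.RatEquivZero δY s β) (γ : AlgebraicCycle (pullback f g) ℤ) (hγ : ⇑γ = IntMult.extProd f g δX δY δ ⇑α ⇑β) : Cyc.RatEquivZero δ (r + s) γ := by
  classical
  haveI : LocallyOfFiniteType (pullback.fst f g ≫ f) := inferInstance
  haveI : LocallyOfFiniteType (pullback.snd f g ≫ g) := inferInstance
  obtain rfl := Ext88.delta_eq_fdelta f hX
  obtain rfl := Ext88.delta_eq_fdelta g hY
  obtain rfl := Ext88.delta_eq_fdelta (pullback.fst f g ≫ f) hXY
  rcases h0 with h0 | h0
  · exact Ext88.main f g (IsPullback.of_hasPullback f g) r s α h0 β hβ γ fun z => congrFun hγ z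
  · have hsw : pullback.snd f g ≫ g = pullback.fst f g ≫ f := pullback.condition.symm
    have h := Ext88.main g f (IsPullback.of_hasPullback f g).flip s r β h0 α hα γ fun z => by
      rw [congrFun hγ z, Ext88.len_comm]
      simp only [hsw, IntMult.extProd, Ext88.len]
      rw [add_comm (Groth.Agent.CycLib.fdelta K g _), mul_comm (β _)]
    rw [add_comm r s]
    simpa only [hsw] using h

end Groth.Agent.S1917
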