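import Groth.Statements.S19170
import Groth.Agent.ProC84
-- import your own Groth.Agent.* helpers here

set_option autoImplicit false
universe u
open ProCompl

namespace Groth.Agent.S19170

/-- Let B be a topological abelian group generated as a group by a compact subset. Then every character
χ : B → ℚ/ℤ with open kernel (a continuous character for discrete ℚ/ℤ) has kernel of finite index;
consequently each such character factors through B^∧, the completion of B taken along its
finite-index open subgroups, i.e. (B^∧)^D = B^D. (The published statement assumes moreover that B is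
Hausdorff, locally compact and totally disconnected; only compact generation is needed for this
assertion, so those assumptions are dropped here.) -/
theorem result
    {B : Type u} [AddCommGroup B] [TopologicalSpace B] [IsTopologicalAddGroup B]
    (hcg : ∃ K : Set B, IsCompact K ∧ AddSubgroup.closure K = ⊤)
    (χ : B →+ ℚ ⧸ AddSubgroup.zmultiples (1 : ℚ)) (hχ : IsOpen (χ.ker : Set B)) : χ.ker.FiniteIndex := by
  obtain ⟨K, hK, hgen⟩ := hcg
  have := Groth.Agent.ProC84.fg_quotient_of_isOpen hK hgen hχ
  have ht : IsAddTorsion (B ⧸ χ.ker) := by
    intro x
    exact (isOfFinAddOrder_iff_nsmul_eq_zero.2 (by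
      obtain ⟨n, hn, h⟩ := isOfFinAddOrder_iff_nsmul_eq_zero.1
        (Groth.Agent.ProC84.isOfFinAddOrder_rat_quot (QuotientAddGroup.kerLift χ x))
      refine ⟨n, hn, QuotientAddGroup.kerLift_injective χ ?_⟩
      rw [map_nsmul, h, map_zero]))
  have : Finite (B ⧸ χ.ker) := AddCommGroup.finite_of_fg_isAddTorsion _ ht
  exact AddSubgroup.finiteIndex_of_finite_quotient

end Groth.Agent.S19170
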