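import Groth.Statements.S19172
import Groth.Agent.ProC84Compl
-- import your own Groth.Agent.* helpers here

set_option autoImplicit false
universe u v w
open ProCompl

namespace Groth.Agent.S19172

open W4c61motalbduality in
/-- Let i : A → B and p : B → C be continuous homomorphisms of topological abelian groups with p
surjective and open and with the kernel of p equal to the image of i. Then the induced sequence of
completions with respect to open subgroups of finite index, A^∧ → B^∧ → C^∧ → 0, is exact: the map
B^∧ → C^∧ is surjective and its kernel is the image of A^∧. The completion is the group of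
compatible families of residues modulo all open subgroups of finite index. (The published statement
takes i injective, as the first map of an exact sequence 0 → A → B → C → 0 of topological abelian
groups; here it is only assumed that the image of i is the kernel of p, which is all the proof
uses.) -/
theorem result
    {A : Type u} {B : Type v} {C : Type w}
    [AddCommGroup A] [TopologicalSpace A] [IsTopologicalAddGroup A]
    [AddCommGroup B] [TopologicalSpace B] [IsTopologicalAddGroup B]
    [AddCommGroup C] [TopologicalSpace C] [IsTopologicalAddGroup C]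
    (i : A →+ B) (hi : Continuous i) (p : B →+ C) (hp : Continuous p)
    (hpo : IsOpenMap p) (hps : Function.Surjective p) (hex : p.ker = i.range) :
    Function.Surjective (FICompl.map p hp) ∧ (FICompl.map p hp).ker = (FICompl.map i hi).range := by
  constructor
  · intro z
    have : Nonempty (OpenFI B) := ⟨Groth.Agent.ProC84.topFI⟩
    obtain ⟨x, hx⟩ := Groth.Agent.ProC84.exists_compl_mem (fun W : OpenFI B => W)
      (fun W => {y | ∃ b : B, (b : B ⧸ W.toAddSubgroup) = y ∧
        z.1 (Groth.Agent.ProC84.imageFI p hpo hps W) = (p b : C ⧸ (Groth.Agent.ProC84.imageFI p hpo hps W).toAddSubgroup)})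
      (fun W => by
        obtain ⟨c, hc⟩ := QuotientAddGroup.mk_surjective (z.1 (Groth.Agent.ProC84.imageFI p hpo hps W))
        obtain ⟨b, rfl⟩ := hps c
        exact ⟨b, b, rfl, hc.symm⟩)
      (fun U V => by
        refine ⟨Groth.Agent.ProC84.infFI U V, inf_le_left, inf_le_right, ?_⟩
        rintro a ⟨b, hb, hz⟩
        refine ⟨⟨b, ?_, ?_⟩, ⟨b, ?_, ?_⟩⟩
        · exact QuotientAddGroup.eq.2 (AddSubgroup.mem_inf.1 (QuotientAddGroup.eq.1 hb)).1
        · rw [← z.2 (Groth.Agent.ProC84.imageFI p hpo hps (Groth.Agent.ProC84.infFI U V)) (Groth.Agent.ProC84.imageFI p hpo hps U)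
            (AddSubgroup.map_mono inf_le_left), hz]
          rfl
        · exact QuotientAddGroup.eq.2 (AddSubgroup.mem_inf.1 (QuotientAddGroup.eq.1 hb)).2
        · rw [← z.2 (Groth.Agent.ProC84.imageFI p hpo hps (Groth.Agent.ProC84.infFI U V)) (Groth.Agent.ProC84.imageFI p hpo hps V)
            (AddSubgroup.map_mono inf_le_right), hz]
          rfl)
    refine ⟨x, Subtype.ext (funext fun V => ?_)⟩
    obtain ⟨b, hb, hz⟩ := hx (V.comap p hp)
    rw [Groth.Agent.ProC84.map_apply_coe p hp x V hb.symm, ← z.2 (Groth.Agent.ProC84.imageFI p hpo hps (V.comap p hp)) V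
      (AddSubgroup.map_le_iff_le_comap.2 le_rfl), hz]
    rfl
  · ext x
    constructor
    · intro hx
      have : Nonempty (OpenFI B) := ⟨Groth.Agent.ProC84.topFI⟩
      obtain ⟨y, hy⟩ := Groth.Agent.ProC84.exists_compl_mem (fun V : OpenFI B => V.comap i hi)
        (fun V => {t | ∃ a : A, (a : A ⧸ (V.comap i hi).toAddSubgroup) = t ∧
          x.1 V = (i a : B ⧸ V.toAddSubgroup)})
        (fun V => by
          obtain ⟨b, hb⟩ := QuotientAddGroup.mk_surjective (x.1 V)
          let Y := Groth.Agent.ProC84.imageFI p hpo hps V
          have h1 := x.2 V (Y.comap p hp) (AddSubgroup.le_comap_map _ _)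
          rw [← hb] at h1
          replace h1 : x.1 (Y.comap p hp) = (b : B ⧸ (Y.comap p hp).toAddSubgroup) := h1.symm
          have h2 : (p b : C ⧸ Y.toAddSubgroup) = 0 := by
            rw [← Groth.Agent.ProC84.map_apply_coe p hp x Y h1]
            have hx' : FICompl.map p hp x = 0 := hx
            rw [hx']
            rfl
          obtain ⟨v, hv, hvb⟩ := (QuotientAddGroup.eq_zero_iff _).1 h2
          have hk : b - v ∈ p.ker := by
            show p (b - v) = 0
            rw [map_sub, hvb, sub_self]
          rw [hex] at hk
          obtain ⟨a, ha⟩ := hk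
          refine ⟨a, a, rfl, ?_⟩
          rw [← hb, QuotientAddGroup.eq, ha]
          simpa [sub_eq_add_neg] using hv)
        (fun U V => by
          refine ⟨Groth.Agent.ProC84.infFI U V, AddSubgroup.comap_mono inf_le_left,
            AddSubgroup.comap_mono inf_le_right, ?_⟩
          rintro a ⟨a', ha, hz⟩
          refine ⟨⟨a', ?_, ?_⟩, ⟨a', ?_, ?_⟩⟩
          · exact QuotientAddGroup.eq.2 (AddSubgroup.comap_mono
              (inf_le_left : U.toAddSubgroup ⊓ V.toAddSubgroup ≤ _) (QuotientAddGroup.eq.1 ha))
          · rw [← x.2 (Groth.Agent.ProC84.infFI U V) U inf_le_left, hz]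
            rfl
          · exact QuotientAddGroup.eq.2 (AddSubgroup.comap_mono
              (inf_le_right : U.toAddSubgroup ⊓ V.toAddSubgroup ≤ _) (QuotientAddGroup.eq.1 ha))
          · rw [← x.2 (Groth.Agent.ProC84.infFI U V) V inf_le_right, hz]
            rfl)
      refine ⟨y, Subtype.ext (funext fun V => ?_)⟩
      obtain ⟨a, ha, hz⟩ := hy V
      rw [Groth.Agent.ProC84.map_apply_coe i hi y V ha.symm, hz]
    · rintro ⟨y, rfl⟩
      refine Subtype.ext (funext fun V => ?_)
      obtain ⟨a, ha⟩ := QuotientAddGroup.mk_surjective (y.1 ((V.comap p hp).comap i hi))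
      rw [Groth.Agent.ProC84.map_apply_coe p hp _ V (Groth.Agent.ProC84.map_apply_coe i hi y _ ha.symm)]
      have : i a ∈ p.ker := hex ▸ ⟨a, rfl⟩
      rw [show p (i a) = 0 from this]
      rfl

end Groth.Agent.S19172
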