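import Groth.Statements.S19173
import Groth.Agent.ProC84Compl
-- import your own Groth.Agent.* helpers here

set_option autoImplicit false
universe u v
open ProCompl

namespace Groth.Agent.S19173

open W4c61motalbduality Topology in
/-- Let B be a Hausdorff, locally compact, totally disconnected topological abelian group generated as a
group by a compact subset, and let i : A → B be an injective continuous homomorphism inducing the
topology of A from that of B (a strict injection) with closed image. Then the map induced by i on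
completions with respect to open subgroups of finite index is injective; together with right
exactness for open surjections this makes 0 → A^∧ → B^∧ → C^∧ → 0 exact for a topological exact
sequence 0 → A → B → C → 0 with such B, strict closed i and open p. -/
theorem result
    {A : Type u} {B : Type v} [AddCommGroup A] [TopologicalSpace A] [IsTopologicalAddGroup A]
    [AddCommGroup B] [TopologicalSpace B] [IsTopologicalAddGroup B]
    [T2Space B] [LocallyCompactSpace B] [TotallyDisconnectedSpace B]
    (hcg : ∃ K : Set B, IsCompact K ∧ AddSubgroup.closure K = ⊤)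
    (i : A →+ B) (hi : Continuous i) (hinj : Function.Injective i) (hind : IsInducing i)
    (hcl : IsClosed (Set.range i)) :
    Function.Injective (FICompl.map i hi) := by
  rw [injective_iff_map_eq_zero]
  intro x hx
  refine Subtype.ext (funext fun U => ?_)
  obtain ⟨K, hK, hgen⟩ := hcg
  obtain ⟨O, hO, hOk⟩ := hind.isOpen_iff.1 U.isOpen'
  obtain ⟨U₀, hUo, -, hUs⟩ := Groth.Agent.ProC84.exists_isOpen_subgroup_subset (B := B) hO (by
    have h0 : (0 : A) ∈ i ⁻¹' O := by rw [hOk]; exact zero_mem U.toAddSubgroup
    simpa using h0)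
  let D := U.toAddSubgroup.map i ⊔ U₀
  have hD : IsOpen (D : Set B) := AddSubgroup.isOpen_mono le_sup_right hUo
  have hDA : ∀ a : A, i a ∈ D → a ∈ U.toAddSubgroup := by
    intro a ha
    obtain ⟨_, ⟨u, hu, rfl⟩, w, hw, hsum⟩ := AddSubgroup.mem_sup.1 ha
    have : i (a - u) ∈ O := hUs (by rw [map_sub, ← hsum, add_sub_cancel_left]; exact hw)
    have h' : a - u ∈ i ⁻¹' O := this
    rw [hOk] at h'
    simpa using add_mem (show a - u ∈ U.toAddSubgroup from h') hu
  have := Groth.Agent.ProC84.fg_quotient_of_isOpen hK hgen hD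
  have := U.finiteIndex'
  have : Fintype (A ⧸ U.toAddSubgroup) := AddSubgroup.fintypeQuotientOfFiniteIndex
  classical
  obtain ⟨H, hH, hF⟩ := Groth.Agent.ProC84.exists_finiteIndex_avoid_finset
    (Finset.univ.image fun q : A ⧸ U.toAddSubgroup => ((i q.out : B) : B ⧸ D))
  let V : OpenFI B := ⟨H.comap (QuotientAddGroup.mk' D), AddSubgroup.isOpen_mono (fun b hb => by
      show ((b : B ⧸ D)) ∈ H
      rw [(QuotientAddGroup.eq_zero_iff b).2 hb]
      exact zero_mem _) hD,
    ⟨by rw [AddSubgroup.index_comap_of_surjective _ (QuotientAddGroup.mk'_surjective D)]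
        exact hH.index_ne_zero⟩⟩
  have hVU : (V.comap i hi).toAddSubgroup ≤ U.toAddSubgroup := by
    intro a (ha : ((i a : B) : B ⧸ D) ∈ H)
    have he : ((i a : B) : B ⧸ D) = ((i (a : A ⧸ U.toAddSubgroup).out : B) : B ⧸ D) := by
      rw [QuotientAddGroup.eq]
      refine AddSubgroup.mem_sup_left ⟨-a + (a : A ⧸ U.toAddSubgroup).out, ?_, by simp⟩
      exact QuotientAddGroup.eq.1 (QuotientAddGroup.out_eq' _).symm
    have h0 : ((i a : B) : B ⧸ D) = 0 :=
      hF _ (by rw [he]; exact Finset.mem_image_of_mem _ (Finset.mem_univ _)) ha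
    exact hDA a ((QuotientAddGroup.eq_zero_iff _).1 h0)
  obtain ⟨a, ha⟩ := QuotientAddGroup.mk_surjective (x.1 (V.comap i hi))
  have h1 : (i a : B ⧸ V.toAddSubgroup) = 0 := by
    rw [← Groth.Agent.ProC84.map_apply_coe i hi x V ha.symm, hx]
    rfl
  rw [← x.2 (V.comap i hi) U hVU, ← ha]
  exact (QuotientAddGroup.eq_zero_iff a).2 (hVU (show i a ∈ V.toAddSubgroup from (QuotientAddGroup.eq_zero_iff (i a)).1 h1))

end Groth.Agent.S19173
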