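import Groth.Statements.S19176
import Mathlib

set_option autoImplicit false
universe u
open PlaneCurve

namespace Groth.Agent.S19176

open MvPolynomial

theorem finrank_monomial (k : Type u) [Field k] (a b : ℕ) :
    Module.finrank k (MvPolynomial (Fin 2) k ⧸
      Ideal.span ({X 0 ^ a, X 1 ^ b} : Set (MvPolynomial (Fin 2) k))) = a * b := by
  classical
  let m : Fin a × Fin b → (Fin 2 →₀ ℕ) := fun ij =>
    Finsupp.single 0 (ij.1 : ℕ) + Finsupp.single 1 (ij.2 : ℕ)
  let L : MvPolynomial (Fin 2) k →ₗ[k] (Fin a × Fin b → k) :=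
    LinearMap.pi fun ij => lcoeff k (m ij)
  have minj : ∀ u v, m u = m v ↔ u = v := by
    refine fun u v => ⟨fun h => ?_, fun h => by rw [h]⟩
    have h0 := DFunLike.congr_fun h 0
    have h1 := DFunLike.congr_fun h 1
    simp [m] at h0 h1
    exact Prod.ext (Fin.ext h0) (Fin.ext h1)
  have hsurj : Function.Surjective L := by
    intro c
    refine ⟨∑ ij, monomial (m ij) (c ij), ?_⟩
    funext uv
    simp [L, coeff_sum, coeff_monomial, minj, lcoeff_apply]
  have hI : Ideal.span ({X 0 ^ a, X 1 ^ b} : Set (MvPolynomial (Fin 2) k)) =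
      Ideal.span ((fun s => monomial s (1 : k)) '' {Finsupp.single 0 a, Finsupp.single 1 b}) := by
    rw [Set.image_pair]
    simp [X_pow_eq_monomial]
  have hker : LinearMap.ker L = (Ideal.span
      ({X 0 ^ a, X 1 ^ b} : Set (MvPolynomial (Fin 2) k))).restrictScalars k := by
    ext f
    rw [LinearMap.mem_ker, Submodule.restrictScalars_mem, hI, mem_ideal_span_monomial_image]
    constructor
    · intro h e he
      by_contra hcon
      push_neg at hcon
      simp only [Set.mem_insert_iff, Set.mem_singleton_iff, forall_eq_or_imp, forall_eq,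
        Finsupp.single_le_iff, not_le] at hcon
      have h2 := congrFun h (⟨e 0, hcon.1⟩, ⟨e 1, hcon.2⟩)
      have he2 : m (⟨e 0, hcon.1⟩, ⟨e 1, hcon.2⟩) = e := by
        ext i
        fin_cases i <;> simp [m]
      simp only [L, LinearMap.pi_apply, lcoeff_apply, he2, Pi.zero_apply] at h2
      exact mem_support_iff.1 he h2
    · intro h
      funext ij
      simp only [L, LinearMap.pi_apply, lcoeff_apply, Pi.zero_apply]
      by_contra hne
      obtain ⟨s, hs, hle⟩ := h _ (mem_support_iff.2 hne)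
      simp only [Set.mem_insert_iff, Set.mem_singleton_iff] at hs
      rcases hs with rfl | rfl
      · have := Finsupp.single_le_iff.1 hle
        simp [m] at this
        omega
      · have := Finsupp.single_le_iff.1 hle
        simp [m] at this
        omega
  have e := LinearMap.quotKerEquivOfSurjective L hsurj
  rw [hker] at e
  rw [← (Submodule.Quotient.restrictScalarsEquiv k (Ideal.span
      ({X 0 ^ a, X 1 ^ b} : Set (MvPolynomial (Fin 2) k)))).finrank_eq, e.finrank_eq]
  simp


open MvPolynomial in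
/-- Let k be a field of characteristic p (p = 0 allowed) and F = y² − x³ in k[x, y] (x the variable of
index 0, y of index 1). The singular subscheme of the plane curve F = 0, cut out by F and its two
partial derivatives, is finite over k of degree 4 when p = 2, of degree 3 when p = 3, and of degree
2 otherwise: the k-dimension of k[x, y]/(F, ∂F/∂x, ∂F/∂y) is that number. (The source phrases this
through the complete local ring of a cusp; the row is the computation for the standard cusp y² =
x³.) -/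
theorem result (k : Type u) [Field k] (p : ℕ) [CharP k p] :
    Module.finrank k (MvPolynomial (Fin 2) k ⧸ Ideal.span
      ({X 1 ^ 2 - X 0 ^ 3, pderiv 0 (X 1 ^ 2 - X 0 ^ 3), pderiv 1 (X 1 ^ 2 - X 0 ^ 3)} :
        Set (MvPolynomial (Fin 2) k))) = (if p = 2 then 4 else if p = 3 then 3 else 2) := by
  classical
  have d0 : pderiv 0 (X 1 ^ 2 - X 0 ^ 3 : MvPolynomial (Fin 2) k) = -(C (3 : k) * X 0 ^ 2) := by
    simp only [map_sub, pderiv_pow, pderiv_X_self, pderiv_X_of_ne (show (1 : Fin 2) ≠ 0 by decide)]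
    rw [show (C (3 : k) : MvPolynomial (Fin 2) k) = 3 from map_ofNat C 3]
    push_cast
    ring
  have d1 : pderiv 1 (X 1 ^ 2 - X 0 ^ 3 : MvPolynomial (Fin 2) k) = C (2 : k) * X 1 := by
    simp only [map_sub, pderiv_pow, pderiv_X_self, pderiv_X_of_ne (show (0 : Fin 2) ≠ 1 by decide)]
    rw [show (C (2 : k) : MvPolynomial (Fin 2) k) = 2 from map_ofNat C 2]
    push_cast
    ring
  rw [d0, d1]
  set F : MvPolynomial (Fin 2) k := X 1 ^ 2 - X 0 ^ 3 with hF
  have key : ∀ (c : k), c ≠ 0 → ∀ (f : MvPolynomial (Fin 2) k) (J : Ideal (MvPolynomial (Fin 2) k)),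
      C c * f ∈ J → f ∈ J := by
    intro c hc f J h
    have := J.mul_mem_left (C c⁻¹) h
    rwa [← mul_assoc, ← C_mul, inv_mul_cancel₀ hc, C_1, one_mul] at this
  by_cases hp2 : p = 2
  · subst hp2
    have h2 : (2 : k) = 0 := by exact_mod_cast CharP.cast_eq_zero k 2
    have h3 : (3 : k) = 1 := by rw [show (3 : k) = 2 + 1 by norm_num, h2, zero_add]
    rw [if_pos rfl, h2, h3, C_0, C_1, zero_mul, one_mul]
    refine Eq.trans ?_ ((finrank_monomial k 2 2).trans (by norm_num))
    rw [show Ideal.span (_ : Set (MvPolynomial (Fin 2) k)) = Ideal.span {X 0 ^ 2, X 1 ^ 2} from ?_]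
    set J := Ideal.span ({X 0 ^ 2, X 1 ^ 2} : Set (MvPolynomial (Fin 2) k))
    set J' := Ideal.span ({F, -(X 0 ^ 2), 0} : Set (MvPolynomial (Fin 2) k))
    refine le_antisymm (Ideal.span_le.2 ?_) (Ideal.span_le.2 ?_)
    · have hx : X 0 ^ 2 ∈ J := Ideal.subset_span (by simp)
      have hy : X 1 ^ 2 ∈ J := Ideal.subset_span (by simp)
      simp only [Set.insert_subset_iff, Set.singleton_subset_iff, SetLike.mem_coe]
      refine ⟨?_, J.neg_mem hx, J.zero_mem⟩
      rw [hF, show (X 0 ^ 3 : MvPolynomial (Fin 2) k) = X 0 * X 0 ^ 2 by ring]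
      exact J.sub_mem hy (J.mul_mem_left _ hx)
    · have hF' : F ∈ J' := Ideal.subset_span (by simp)
      have hx : X 0 ^ 2 ∈ J' := by simpa using J'.neg_mem (Ideal.subset_span (by simp) : -(X 0 ^ 2) ∈ J')
      simp only [Set.insert_subset_iff, Set.singleton_subset_iff, SetLike.mem_coe]
      refine ⟨hx, ?_⟩
      rw [show (X 1 ^ 2 : MvPolynomial (Fin 2) k) = F + X 0 * X 0 ^ 2 by rw [hF]; ring]
      exact J'.add_mem hF' (J'.mul_mem_left _ hx)
  · have h2 : (2 : k) ≠ 0 := by
      intro h
      have : (p : ℕ) ∣ 2 := (CharP.cast_eq_zero_iff k p 2).1 (by exact_mod_cast h)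
      rcases (Nat.dvd_prime Nat.prime_two).1 this with h' | h'
      · exact CharP.ringChar_ne_one (ringChar.eq k p ▸ h')
      · exact hp2 h'
    by_cases hp3 : p = 3
    · subst hp3
      have h3 : (3 : k) = 0 := by exact_mod_cast CharP.cast_eq_zero k 3
      rw [if_neg hp2, if_pos rfl, h3, C_0, zero_mul, neg_zero]
      refine Eq.trans ?_ ((finrank_monomial k 3 1).trans (by norm_num))
      rw [show Ideal.span (_ : Set (MvPolynomial (Fin 2) k)) = Ideal.span {X 0 ^ 3, X 1 ^ 1} from ?_]
      set J := Ideal.span ({X 0 ^ 3, X 1 ^ 1} : Set (MvPolynomial (Fin 2) k))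
      set J' := Ideal.span ({F, 0, C (2 : k) * X 1} : Set (MvPolynomial (Fin 2) k))
      refine le_antisymm (Ideal.span_le.2 ?_) (Ideal.span_le.2 ?_)
      · have hx : X 0 ^ 3 ∈ J := Ideal.subset_span (by simp)
        have hy : X 1 ∈ J := Ideal.subset_span (by simp)
        simp only [Set.insert_subset_iff, Set.singleton_subset_iff, SetLike.mem_coe]
        exact ⟨J.sub_mem (J.pow_mem_of_mem hy 2 two_pos) hx, J.zero_mem, J.mul_mem_left _ hy⟩
      · have hF' : F ∈ J' := Ideal.subset_span (by simp)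
        have hy : X 1 ∈ J' := key 2 h2 _ J' (Ideal.subset_span (by simp))
        simp only [Set.insert_subset_iff, Set.singleton_subset_iff, SetLike.mem_coe, pow_one]
        refine ⟨?_, hy⟩
        rw [show (X 0 ^ 3 : MvPolynomial (Fin 2) k) = X 1 ^ 2 - F by rw [hF]; ring]
        exact J'.sub_mem (J'.pow_mem_of_mem hy 2 two_pos) hF'
    · have h3 : (3 : k) ≠ 0 := by
        intro h
        have : (p : ℕ) ∣ 3 := (CharP.cast_eq_zero_iff k p 3).1 (by exact_mod_cast h)
        rcases (Nat.dvd_prime Nat.prime_three).1 this with h' | h'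
        · exact CharP.ringChar_ne_one (ringChar.eq k p ▸ h')
        · exact hp3 h'
      rw [if_neg hp2, if_neg hp3]
      refine Eq.trans ?_ ((finrank_monomial k 2 1).trans (by norm_num))
      rw [show Ideal.span (_ : Set (MvPolynomial (Fin 2) k)) = Ideal.span {X 0 ^ 2, X 1 ^ 1} from ?_]
      set J := Ideal.span ({X 0 ^ 2, X 1 ^ 1} : Set (MvPolynomial (Fin 2) k))
      set J' := Ideal.span ({F, -(C (3 : k) * X 0 ^ 2), C (2 : k) * X 1} :
        Set (MvPolynomial (Fin 2) k))
      refine le_antisymm (Ideal.span_le.2 ?_) (Ideal.span_le.2 ?_)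
      · have hx : X 0 ^ 2 ∈ J := Ideal.subset_span (by simp)
        have hy : X 1 ∈ J := Ideal.subset_span (by simp)
        simp only [Set.insert_subset_iff, Set.singleton_subset_iff, SetLike.mem_coe]
        refine ⟨?_, J.neg_mem (J.mul_mem_left _ hx), J.mul_mem_left _ hy⟩
        rw [hF, show (X 0 ^ 3 : MvPolynomial (Fin 2) k) = X 0 * X 0 ^ 2 by ring]
        exact J.sub_mem (J.pow_mem_of_mem hy 2 two_pos) (J.mul_mem_left _ hx)
      · have hx : X 0 ^ 2 ∈ J' := key 3 h3 _ J' (by
          simpa using J'.neg_mem (Ideal.subset_span (by simp) : -(C (3 : k) * X 0 ^ 2) ∈ J'))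
        have hy : X 1 ∈ J' := key 2 h2 _ J' (Ideal.subset_span (by simp))
        simp only [Set.insert_subset_iff, Set.singleton_subset_iff, SetLike.mem_coe, pow_one]
        exact ⟨hx, hy⟩

end Groth.Agent.S19176
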