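import Mathlib
import Groth.Statements.S19177
-- import your own Groth.Agent.* helpers here

set_option autoImplicit false
universe u
open CAlg

namespace Groth.Agent.S19177

/-- Let S → R be a homomorphism of commutative rings making R a finitely generated projective S-module
of rank 2 at every prime of S (the affine form of a finite locally free morphism of degree 2). Then
the cokernel of the (injective) structure map S → R, the S-module R/S, is a projective S-module of
rank 1 at every prime of S (locally free of rank 1). -/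
theorem result
    (S R : Type u) [CommRing S] [CommRing R] [Algebra S R] [Module.Finite S R] [Module.Projective S R]
    (h2 : ∀ p : PrimeSpectrum S, Module.rankAtStalk (R := S) R p = 2) :
    Module.Projective S (R ⧸ LinearMap.range (Algebra.linearMap S R)) ∧
      ∀ p : PrimeSpectrum S,
        Module.rankAtStalk (R := S) (R ⧸ LinearMap.range (Algebra.linearMap S R)) p = 1 := by
  classical
  obtain ⟨j, hj⟩ := Module.projective_def'.mp ‹Module.Projective S R›
  have hne : ∀ x : MaximalSpectrum S, ∃ φ : R →ₗ[S] S, φ 1 ∉ x.asIdeal := by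
    intro x
    by_contra hcon
    simp only [not_exists, not_not] at hcon
    have h1 : (1 : R) ∈ x.asIdeal • (⊤ : Submodule S R) := by
      have h2 := LinearMap.congr_fun hj (1 : R)
      simp only [LinearMap.comp_apply, LinearMap.id_apply] at h2
      rw [← h2, Finsupp.linearCombination_apply]
      refine Submodule.sum_mem _ fun i _ => Submodule.smul_mem_smul ?_ Submodule.mem_top
      exact hcon ((Finsupp.lapply i).comp j)
    have h3 : x.asIdeal • (⊤ : Submodule S R) = ⊤ := by
      rw [eq_top_iff]
      intro r _
      have h4 : Submodule.map (LinearMap.mulLeft S r) (x.asIdeal • (⊤ : Submodule S R)) ≤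
          x.asIdeal • (⊤ : Submodule S R) := by
        rw [Submodule.map_smul'']
        exact Submodule.smul_mono le_rfl le_top
      simpa using h4 ⟨1, h1, rfl⟩
    obtain ⟨s, hs, hs0⟩ := Submodule.exists_sub_one_mem_and_smul_eq_zero_of_fg_of_le_smul x.asIdeal ⊤
      Module.Finite.fg_top h3.ge
    have hsx : s ∉ x.asIdeal := fun h => x.isMaximal.ne_top
      ((Ideal.eq_top_iff_one _).mpr (by simpa using sub_mem h hs))
    let p : PrimeSpectrum S := ⟨x.asIdeal, x.isMaximal.isPrime⟩
    have hsub : Subsingleton (LocalizedModule p.asIdeal.primeCompl R) := by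
      rw [LocalizedModule.subsingleton_iff]
      exact fun m => ⟨s, hsx, hs0 m trivial⟩
    have h5 := h2 p
    rw [Module.rankAtStalk, Module.finrank_zero_of_subsingleton] at h5
    omega
  obtain ⟨ε, hε⟩ : (1 : S) ∈ LinearMap.range (LinearMap.applyₗ (1 : R) : (R →ₗ[S] S) →ₗ[S] S) := by
    by_contra hh
    obtain ⟨x, hx, hle⟩ := Ideal.exists_le_maximal _
      (fun htop => hh (htop ▸ Submodule.mem_top) :
        LinearMap.range (LinearMap.applyₗ (1 : R) : (R →ₗ[S] S) →ₗ[S] S) ≠ ⊤)
    obtain ⟨φ, hφ⟩ := hne ⟨x, hx⟩
    exact hφ (hle ⟨φ, rfl⟩)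
  have hε1 : ∀ s, ε (algebraMap S R s) = s := fun s => by
    rw [Algebra.algebraMap_eq_smul_one, map_smul]
    simp only [LinearMap.applyₗ_apply_apply] at hε
    rw [hε, smul_eq_mul, mul_one]
  have hεcomp : ε ∘ₗ Algebra.linearMap S R = LinearMap.id := LinearMap.ext hε1
  let N := LinearMap.range (Algebra.linearMap S R)
  let g : (R ⧸ N) →ₗ[S] R := N.liftQ (LinearMap.id - Algebra.linearMap S R ∘ₗ ε) (by
    rintro _ ⟨s, rfl⟩
    simp [hε1])
  have hg : N.mkQ ∘ₗ g = LinearMap.id := by
    refine Submodule.linearMap_qext _ (LinearMap.ext fun r => ?_)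
    show N.mkQ (r - algebraMap S R (ε r)) = N.mkQ r
    rw [map_sub, sub_eq_self, Submodule.mkQ_apply, Submodule.Quotient.mk_eq_zero]
    exact ⟨ε r, rfl⟩
  have hP : Module.Projective S (R ⧸ N) := Module.Projective.of_split g N.mkQ hg
  refine ⟨hP, fun p => ?_⟩
  haveI := hP
  let e : R ≃ₗ[S] S × (R ⧸ N) :=
    { toLinearMap := ε.prod N.mkQ
      invFun := fun z => algebraMap S R z.1 + g z.2
      left_inv := fun r => by
        show algebraMap S R (ε r) + (r - algebraMap S R (ε r)) = r
        ring
      right_inv := fun z => by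
        obtain ⟨s, q⟩ := z
        obtain ⟨r, rfl⟩ := Submodule.mkQ_surjective N q
        show (ε (algebraMap S R s + (r - algebraMap S R (ε r))),
          N.mkQ (algebraMap S R s + (r - algebraMap S R (ε r)))) = (s, N.mkQ r)
        refine Prod.ext ?_ ?_
        · simp [hε1]
        · refine (Submodule.Quotient.eq N).mpr ⟨s - ε r, ?_⟩
          simp only [Algebra.linearMap_apply, map_sub]
          ring }
  have h5 := congrFun (Module.rankAtStalk_eq_of_equiv e) p
  haveI : Nontrivial S := ⟨0, 1, fun h =>
    p.isPrime.ne_top ((Ideal.eq_top_iff_one _).mpr (h ▸ zero_mem _))⟩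
  haveI : Module.Flat S (R ⧸ LinearMap.range (Algebra.linearMap S R)) := Module.Flat.of_projective
  rw [h2 p, Module.rankAtStalk_prod, Pi.add_apply, Module.rankAtStalk_self, Pi.one_apply] at h5
  change Module.rankAtStalk (R ⧸ N) p = 1
  omega

end Groth.Agent.S19177
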