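import Groth.Statements.S19178
import Mathlib.Tactic.Ring
import Mathlib.Tactic.LinearCombination
import Mathlib.Algebra.Polynomial.SpecificDegree
import Mathlib.Tactic.ComputeDegree
import Mathlib.Algebra.MvPolynomial.Division
import Mathlib.RingTheory.MvPolynomial.Homogeneous

set_option autoImplicit false
universe u
open Curves

namespace Groth.Agent.S19178

/-- For every field k and every choice of coefficients a₁, a₂, a₃, a₄, a₆ in k, the homogeneous
Weierstrass cubic Y²Z + a₁XYZ + a₃YZ² − (X³ + a₂X²Z + a₄XZ² + a₆Z³) is an irreducible polynomial in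
k[X, Y, Z]. Applied to all fields, this says every fibre of the Weierstrass family over the affine
space of coefficients is geometrically integral. -/
theorem result (k : Type u) [Field k]
    (W : WeierstrassCurve k) :
    Irreducible (WeierstrassCurve.Projective.polynomial W) := by
  rw [← MulEquiv.irreducible_iff (MvPolynomial.finSuccEquiv k 2)]
  set f := MvPolynomial.finSuccEquiv k 2 W.toProjective.polynomial with hf
  let Y : MvPolynomial (Fin 2) k := MvPolynomial.X 0
  let Z : MvPolynomial (Fin 2) k := MvPolynomial.X 1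
  let c2 : MvPolynomial (Fin 2) k := MvPolynomial.C W.a₂ * Z
  let c1 : MvPolynomial (Fin 2) k := MvPolynomial.C W.a₄ * Z ^ 2 - MvPolynomial.C W.a₁ * Y * Z
  let c0 : MvPolynomial (Fin 2) k :=
    MvPolynomial.C W.a₆ * Z ^ 3 - Y ^ 2 * Z - MvPolynomial.C W.a₃ * Y * Z ^ 2
  let g : Polynomial (MvPolynomial (Fin 2) k) :=
    Polynomial.X ^ 3 + Polynomial.C c2 * Polynomial.X ^ 2 + Polynomial.C c1 * Polynomial.X + Polynomial.C c0
  have hfg : f = -g := by
    have e1 : ((1 : Fin 3)) = Fin.succ (0 : Fin 2) := rfl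
    have e2 : ((2 : Fin 3)) = Fin.succ (1 : Fin 2) := rfl
    simp only [hf, g, c0, c1, c2, Y, Z, WeierstrassCurve.Projective.polynomial, map_add, map_sub, map_mul,
      map_pow, e1, e2, MvPolynomial.finSuccEquiv_X_zero, MvPolynomial.finSuccEquiv_X_succ]
    simp [MvPolynomial.finSuccEquiv_apply]
    ring
  rw [hfg]
  refine (Associated.neg_right (Associated.refl g)).irreducible ?_
  have hmon : g.Monic := by
    simp only [g]
    monicity!
  have hdeg : g.natDegree = 3 := by
    simp only [g]
    compute_degree!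
  rw [hmon.irreducible_iff_roots_eq_zero_of_degree_le_three (by omega) (by omega),
    Multiset.eq_zero_iff_forall_notMem]
  intro r hr
  have hr' := (Polynomial.mem_roots'.1 hr).2
  simp only [g, c0, c1, c2, Polynomial.IsRoot.def, Polynomial.eval_add, Polynomial.eval_mul,
    Polynomial.eval_pow, Polynomial.eval_X, Polynomial.eval_C] at hr'
  have hZ : Prime Z := MvPolynomial.X_prime
  have hdvd : Z ∣ r ^ 3 := ⟨-(MvPolynomial.C W.a₂ * r ^ 2 +
      (MvPolynomial.C W.a₄ * Z - MvPolynomial.C W.a₁ * Y) * r +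
      (MvPolynomial.C W.a₆ * Z ^ 2 - Y ^ 2 - MvPolynomial.C W.a₃ * Y * Z)), by linear_combination hr'⟩
  obtain ⟨s, rfl⟩ := hZ.dvd_of_dvd_pow hdvd
  have hY : Z ∣ Y ^ 2 := ⟨Z * s ^ 3 + MvPolynomial.C W.a₂ * Z * s ^ 2 +
      (MvPolynomial.C W.a₄ * Z - MvPolynomial.C W.a₁ * Y) * s +
      MvPolynomial.C W.a₆ * Z - MvPolynomial.C W.a₃ * Y, by
    refine mul_right_cancel₀ hZ.ne_zero ?_
    linear_combination -hr'⟩
  have hZY : Z ∣ Y := hZ.dvd_of_dvd_pow hY
  simp [Y, Z, MvPolynomial.X_dvd_X] at hZY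

end Groth.Agent.S19178
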