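import Groth.Statements.S19180
import Groth.Agent.S0844
import Groth.Agent.CohTop.Basic
import Groth.Agent.ModShf.Flasque
import Mathlib

set_option autoImplicit false
universe u
open Coherent

namespace Groth.Agent.S19180

open CategoryTheory AlgebraicGeometry Opposite in
/-- A short exact sequence of modules splits when the third term is `O` and `H¹` of the first vanishes. -/
lemma exists_section {X : Scheme.{u}} {A F : X.Modules} (i : A ⟶ F) (p : F ⟶ Coh.structureModule X)
    (w : i ≫ p = 0) (hex : (ShortComplex.mk i p w).ShortExact) (hA : Subsingleton (Coh.HH X A 1)) :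
    ∃ s : Coh.structureModule X ⟶ F, s ≫ p = 𝟙 _ := by
  have hT := hex.map_of_exact (Groth.Agent.ModShf.toAbFunctor X)
  haveI : Subsingleton (CohTop.HU (Coh.toAb A) 1 (⊤ : TopologicalSpace.Opens X)) :=
    (Groth.Agent.CohTop.Basic.HEquivHUTop (Coh.toAb A) 1).toEquiv.subsingleton_congr.1 hA
  let y₁ := (Groth.Agent.CohTop.Basic.HU0Equiv (Coh.toAb (Coh.structureModule X)) ⊤).symm (1 : Γ(X, ⊤))
  obtain ⟨y, hy⟩ := Groth.Agent.CohTop.Basic.HU_exact₃ hT ⊤ (zero_add 1) y₁ (Subsingleton.elim (α := CohTop.HU (Coh.toAb A) 1 (⊤ : TopologicalSpace.Opens X)) _ _)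
  let t := Groth.Agent.CohTop.Basic.HU0Equiv (Coh.toAb F) ⊤ y
  have ht : p.app ⊤ t = (1 : Γ(X, ⊤)) := by
    have h1 := Groth.Agent.CohTop.Basic.HU0Equiv_map ((Groth.Agent.ModShf.toAbFunctor X).map p) ⊤ y
    refine h1.symm.trans ?_
    refine (congrArg (Groth.Agent.CohTop.Basic.HU0Equiv _ ⊤) hy).trans ?_
    exact AddEquiv.apply_symm_apply _ _
  let σ : F.sections := PresheafOfModules.sectionsMk
    (fun U => F.presheaf.map (homOfLE (le_top (a := U.unop))).op t) (fun U V f => by
      change F.presheaf.map f (F.presheaf.map _ t) = _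
      refine (ConcreteCategory.congr_hom (F.presheaf.map_comp _ f) t).symm.trans ?_
      rfl)
  refine ⟨F.unitHomEquiv.symm σ, ?_⟩
  refine (SheafOfModules.unitHomEquiv_symm_comp σ p).trans ((Equiv.symm_apply_eq _).2 ?_)
  refine PresheafOfModules.sections_ext _ _ fun U => ?_
  change p.app U.unop (F.presheaf.map (homOfLE (le_top (a := U.unop))).op t) = (1 : X.ringCatSheaf.obj.obj U)
  have hn := ConcreteCategory.congr_hom (p.mapPresheaf.naturality (homOfLE (le_top (a := U.unop))).op) t
  refine hn.trans ?_
  refine (congrArg _ ht).trans ?_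
  exact map_one (X.presheaf.map (homOfLE (le_top (a := U.unop))).op).hom

open CategoryTheory AlgebraicGeometry in
/-- Let R be a local ring and m ≥ 1, and consider the projective line P¹_R with its structure sheaf O
and twisting sheaf O(m). For every O-module F and every short exact sequence 0 → O(m) → F → O → 0 of
O-modules, the surjection F → O admits a section; consequently F is isomorphic to O(m) ⊕ O. -/
theorem result (R : Type u) [CommRing R] [IsLocalRing R]
    (m : ℕ) (hm : 1 ≤ m) (F : (CohB1.ProjSpace 1 R).Modules)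
    (i : Twist.twistProjSpace 1 R (m : ℤ) ⟶ F) (p : F ⟶ Coh.structureModule (CohB1.ProjSpace 1 R))
    (w : i ≫ p = 0) (hex : (ShortComplex.mk i p w).ShortExact) :
    ∃ s : Coh.structureModule (CohB1.ProjSpace 1 R) ⟶ F, s ≫ p = 𝟙 _ := by
  exact exists_section i p w hex (Groth.Agent.S0844.result R 1 (m : ℤ) 1 (fun h => by omega) (fun h => by omega))

end Groth.Agent.S19180
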