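import Mathlib
import Groth.Statements.S19181
-- import your own Groth.Agent.* helpers here

set_option autoImplicit false
universe u
open CAlg

namespace Groth.Agent.S19181

open MvPolynomial in
/-- Let R be a commutative ring, a₁, a₂ ∈ R, and C ⊂ A²_R the curve y² + a₁xy = x³ + a₂x², blown up at
the section x = y = 0. In the chart where x = yα (variables y = X 0, α = X 1) the equation of C
becomes y²·g₁ with g₁ = 1 + a₁α − yα³ − a₂α², and the y-saturation of the ideal (y²g₁) is (g₁): for
s ∈ R[y, α], some yⁿs lies in (y²g₁) if and only if s ∈ (g₁). In the chart where y = xβ (variables x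
= X 0, β = X 1) the equation becomes x²·g₂ with g₂ = β² + a₁β − x − a₂, and some xⁿs lies in (x²g₂)
if and only if s ∈ (g₂). In other words the strict transform of C is cut out by g₁, resp. g₂, in the
two charts. -/
theorem result (R : Type u) [CommRing R] (a₁ a₂ : R) :
    (∀ s : MvPolynomial (Fin 2) R,
      (∃ n : ℕ, X 0 ^ n * s ∈ Ideal.span ({X 0 ^ 2 * (1 + C a₁ * X 1 - X 0 * X 1 ^ 3 - C a₂ * X 1 ^ 2)} :
        Set (MvPolynomial (Fin 2) R))) ↔
      s ∈ Ideal.span ({1 + C a₁ * X 1 - X 0 * X 1 ^ 3 - C a₂ * X 1 ^ 2} : Set (MvPolynomial (Fin 2) R))) ∧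
    (∀ s : MvPolynomial (Fin 2) R,
      (∃ n : ℕ, X 0 ^ n * s ∈ Ideal.span ({X 0 ^ 2 * (X 1 ^ 2 + C a₁ * X 1 - X 0 - C a₂)} :
        Set (MvPolynomial (Fin 2) R))) ↔
      s ∈ Ideal.span ({X 1 ^ 2 + C a₁ * X 1 - X 0 - C a₂} : Set (MvPolynomial (Fin 2) R))) := by
  classical
  let ev : MvPolynomial (Fin 2) R →ₐ[R] Polynomial R :=
    MvPolynomial.aeval ![0, Polynomial.X]
  have hker : ∀ p, ev p = 0 → ∃ q, p = X 0 * q := by
    let sec : Polynomial R →ₐ[R] MvPolynomial (Fin 2) R := Polynomial.aeval (X 1)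
    have h : ∀ p, p - sec (ev p) ∈ Ideal.span ({X 0} : Set (MvPolynomial (Fin 2) R)) := by
      intro p
      induction p using MvPolynomial.induction_on with
      | C r => simp [ev, sec]
      | add p q hp hq =>
        rw [map_add, map_add, add_sub_add_comm]
        exact add_mem hp hq
      | mul_X p i hp =>
        fin_cases i
        · simpa [ev, sec] using Ideal.mem_span_singleton_self (X 0 : MvPolynomial (Fin 2) R) |>
            Ideal.mul_mem_left _ p
        · have := Ideal.mul_mem_right (X 1 : MvPolynomial (Fin 2) R) _ hp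
          simpa [ev, sec, sub_mul] using this
    intro p hp
    obtain ⟨q, hq⟩ := Ideal.mem_span_singleton.mp (by simpa [hp] using h p)
    exact ⟨q, hq⟩
  have key : ∀ g : MvPolynomial (Fin 2) R, ev g ∈ nonZeroDivisors (Polynomial R) → ∀ s,
      (∃ n : ℕ, X 0 ^ n * s ∈ Ideal.span ({X 0 ^ 2 * g} : Set (MvPolynomial (Fin 2) R))) ↔
        s ∈ Ideal.span ({g} : Set (MvPolynomial (Fin 2) R)) := by
    intro g hg s
    constructor
    · rintro ⟨n, hn⟩
      obtain ⟨h, hh⟩ := Ideal.mem_span_singleton.mp hn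
      have step : ∀ (n : ℕ) (t : MvPolynomial (Fin 2) R),
          g ∣ X 0 ^ n * t → g ∣ t := by
        intro n
        induction n with
        | zero => simp
        | succ n ih =>
          rintro t ⟨h, hh⟩
          refine ih t ?_
          have h0 : ev g * ev h = 0 := by
            rw [← map_mul, ← hh]; simp [ev, pow_succ]
          obtain ⟨q, rfl⟩ := hker h ((mem_nonZeroDivisors_iff.mp hg).1 _ h0)
          refine ⟨q, ?_⟩
          have hX : IsLeftRegular (X 0 : MvPolynomial (Fin 2) R) :=
            isRegular_X.left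
          apply hX
          show X 0 * (X 0 ^ n * t) = X 0 * (g * q)
          linear_combination hh
      exact Ideal.mem_span_singleton.mpr (step n s ⟨X 0 ^ 2 * h, by linear_combination hh⟩)
    · intro hs
      obtain ⟨h, rfl⟩ := Ideal.mem_span_singleton.mp hs
      exact ⟨2, Ideal.mem_span_singleton.mpr ⟨h, by ring⟩⟩
  refine ⟨key _ ?_, key _ ?_⟩
  · refine Polynomial.mem_nonZeroDivisors_of_trailingCoeff ?_
    have h0 : (ev (1 + C a₁ * X 1 - X 0 * X 1 ^ 3 - C a₂ * X 1 ^ 2)).coeff 0 = 1 := by
      simp [ev, Polynomial.coeff_zero_eq_eval_zero]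
    rcases subsingleton_or_nontrivial R with hR | hR
    · rw [Subsingleton.elim (Polynomial.trailingCoeff _) (1 : R)]; exact one_mem _
    rw [Polynomial.trailingCoeff, Polynomial.natTrailingDegree_eq_zero.mpr (Or.inr (by rw [h0]; exact one_ne_zero)), h0]
    exact one_mem _
  · refine Polynomial.Monic.mem_nonZeroDivisors ?_
    have h0 : ev (X 1 ^ 2 + C a₁ * X 1 - X 0 - C a₂) =
        Polynomial.X ^ 2 + Polynomial.C a₁ * Polynomial.X - Polynomial.C a₂ := by
      simp [ev]
    rw [h0]
    monicity!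

end Groth.Agent.S19181
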