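import Mathlib
import Groth.Statements.S19182
-- import your own Groth.Agent.* helpers here

set_option autoImplicit false
universe u
open CAlg

namespace Groth.Agent.S19182

open MvPolynomial in
/-- Let R be a commutative ring and a₁, a₂ ∈ R. The two affine charts of the blow-up of the plane curve
y² + a₁xy = x³ + a₂x² at the section x = y = 0, with coordinate rings R[y, α]/(1 + a₁α − yα³ − a₂α²)
and R[x, β]/(β² + a₁β − x − a₂) (variables indexed 0 and 1 in this order), are smooth R-algebras
(formally smooth of finite presentation). This is the local computation behind the statement that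
the blow-up of a Weierstrass curve along a section through its singular locus is a smooth proper
curve of genus 0. -/
theorem result (R : Type u) [CommRing R] (a₁ a₂ : R) :
    Algebra.Smooth R (MvPolynomial (Fin 2) R ⧸
      Ideal.span ({1 + C a₁ * X 1 - X 0 * X 1 ^ 3 - C a₂ * X 1 ^ 2} : Set (MvPolynomial (Fin 2) R))) ∧
    Algebra.Smooth R (MvPolynomial (Fin 2) R ⧸
      Ideal.span ({X 1 ^ 2 + C a₁ * X 1 - X 0 - C a₂} : Set (MvPolynomial (Fin 2) R))) := by
  classical
  let g₁ : MvPolynomial (Fin 2) R := 1 + C a₁ * X 1 - X 0 * X 1 ^ 3 - C a₂ * X 1 ^ 2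
  let g₂ : MvPolynomial (Fin 2) R := X 1 ^ 2 + C a₁ * X 1 - X 0 - C a₂
  let L := Localization.Away (Polynomial.X : Polynomial R)
  constructor
  · let α : L := algebraMap (Polynomial R) L Polynomial.X
    let u : L := IsLocalization.Away.invSelf (Polynomial.X : Polynomial R)
    have hu : α * u = 1 := IsLocalization.Away.mul_invSelf _
    let φ₀ : MvPolynomial (Fin 2) R →ₐ[R] L :=
      MvPolynomial.aeval ![(1 + algebraMap R L a₁ * α - algebraMap R L a₂ * α ^ 2) * u ^ 3, α]
    have hφ₀ : φ₀ g₁ = 0 := by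
      simp [φ₀, g₁]
      linear_combination (-(1 + algebraMap R L a₁ * α - algebraMap R L a₂ * α ^ 2) *
        ((α * u) ^ 2 + α * u + 1)) * hu
    let φ : (MvPolynomial (Fin 2) R ⧸ Ideal.span {g₁}) →ₐ[R] L :=
      Ideal.Quotient.liftₐ _ φ₀ fun x hx => by
        obtain ⟨y, rfl⟩ := Ideal.mem_span_singleton'.mp hx
        rw [map_mul, hφ₀, mul_zero]
    let q : MvPolynomial (Fin 2) R →ₐ[R] MvPolynomial (Fin 2) R ⧸ Ideal.span {g₁} :=
      Ideal.Quotient.mkₐ R _
    have hq : q g₁ = 0 := Ideal.Quotient.eq_zero_iff_mem.mpr (Ideal.mem_span_singleton_self g₁)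
    let ψ₀ : Polynomial R →ₐ[R] MvPolynomial (Fin 2) R ⧸ Ideal.span {g₁} :=
      Polynomial.aeval (q (X 1))
    have hunit : IsUnit (ψ₀ Polynomial.X) := by
      refine IsUnit.of_mul_eq_one (q (X 0 * X 1 ^ 2 + C a₂ * X 1 - C a₁)) ?_
      simp only [ψ₀, Polynomial.aeval_X]
      rw [← map_mul, ← map_one q, ← sub_eq_zero, ← map_sub, ← neg_eq_zero, ← map_neg, ← hq]
      congr 1
      simp only [g₁]
      ring
    have hunits : ∀ y : Submonoid.powers (Polynomial.X : Polynomial R), IsUnit (ψ₀ y) := by
      rintro ⟨_, n, rfl⟩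
      simpa using hunit.pow n
    let ψ : L →ₐ[R] MvPolynomial (Fin 2) R ⧸ Ideal.span {g₁} := IsLocalization.liftAlgHom hunits
    have hψα : ψ α = q (X 1) := by
      simp [ψ, α, IsLocalization.liftAlgHom_apply, ψ₀]
    have e : (MvPolynomial (Fin 2) R ⧸ Ideal.span {g₁}) ≃ₐ[R] L := by
      refine AlgEquiv.ofAlgHom φ ψ ?_ ?_
      · refine IsLocalization.algHom_ext (Submonoid.powers (Polynomial.X : Polynomial R))
          (Polynomial.algHom_ext ?_)
        show φ (ψ α) = α
        rw [hψα]
        show φ₀ (X 1) = α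
        simp [φ₀]
      · refine Ideal.Quotient.algHom_ext R (MvPolynomial.algHom_ext fun i => ?_)
        fin_cases i
        · show ψ (φ₀ (X 0)) = q (X 0)
          have h1 : ψ u * q (X 1) = 1 := by rw [← hψα, ← map_mul, mul_comm, hu, map_one]
          have h2 : (1 : MvPolynomial (Fin 2) R ⧸ Ideal.span {g₁}) + q (C a₁) * q (X 1) -
              q (X 0) * q (X 1) ^ 3 - q (C a₂) * q (X 1) ^ 2 = 0 := by
            rw [← hq]; simp [g₁]
          have hC : ∀ r, q (C r) = algebraMap R _ r := fun r => rfl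
          simp only [φ₀, aeval_X, Matrix.cons_val_zero, map_mul, map_pow, map_sub, map_add, map_one,
            AlgHom.commutes, hψα, ← hC]
          linear_combination (ψ u) ^ 3 * h2 +
            q (X 0) * ((ψ u * q (X 1)) ^ 2 + ψ u * q (X 1) + 1) * h1
        · show ψ (φ₀ (X 1)) = q (X 1)
          simp [φ₀, hψα]
    haveI : Algebra.FormallySmooth (Polynomial R) L :=
      Algebra.FormallySmooth.of_isLocalization (Submonoid.powers (Polynomial.X : Polynomial R))
    haveI : Algebra.FormallySmooth R L := Algebra.FormallySmooth.comp R (Polynomial R) L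
    haveI : Algebra.FinitePresentation (Polynomial R) L :=
      IsLocalization.Away.finitePresentation (Polynomial.X : Polynomial R)
    haveI : Algebra.FinitePresentation R L := Algebra.FinitePresentation.trans R (Polynomial R) L
    haveI : Algebra.Smooth R L := ⟨inferInstance, inferInstance⟩
    exact Algebra.Smooth.of_equiv e.symm
  · let φ₀ : MvPolynomial (Fin 2) R →ₐ[R] Polynomial R :=
      MvPolynomial.aeval ![Polynomial.X ^ 2 + Polynomial.C a₁ * Polynomial.X - Polynomial.C a₂, Polynomial.X]
    have hφ₀ : φ₀ g₂ = 0 := by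
      simp [φ₀, g₂]
    let φ : (MvPolynomial (Fin 2) R ⧸ Ideal.span {g₂}) →ₐ[R] Polynomial R :=
      Ideal.Quotient.liftₐ _ φ₀ fun x hx => by
        obtain ⟨y, rfl⟩ := Ideal.mem_span_singleton'.mp hx
        rw [map_mul, hφ₀, mul_zero]
    let q : MvPolynomial (Fin 2) R →ₐ[R] MvPolynomial (Fin 2) R ⧸ Ideal.span {g₂} :=
      Ideal.Quotient.mkₐ R _
    have hq : q g₂ = 0 := Ideal.Quotient.eq_zero_iff_mem.mpr (Ideal.mem_span_singleton_self g₂)
    let ψ : Polynomial R →ₐ[R] MvPolynomial (Fin 2) R ⧸ Ideal.span {g₂} :=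
      Polynomial.aeval (q (X 1))
    have e : (MvPolynomial (Fin 2) R ⧸ Ideal.span {g₂}) ≃ₐ[R] Polynomial R := by
      refine AlgEquiv.ofAlgHom φ ψ (Polynomial.algHom_ext ?_)
        (Ideal.Quotient.algHom_ext R (MvPolynomial.algHom_ext fun i => ?_))
      · show φ (ψ Polynomial.X) = Polynomial.X
        rw [show ψ Polynomial.X = q (X 1) by simp [ψ]]
        show φ₀ (X 1) = Polynomial.X
        simp [φ₀]
      · fin_cases i
        · show ψ (φ₀ (X 0)) = q (X 0)
          have hC : ∀ r, q (C r) = algebraMap R _ r := fun r => rfl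
          have h2 : q (X 1) ^ 2 + q (C a₁) * q (X 1) - q (X 0) - q (C a₂) = 0 := by
            rw [← hq]; simp [g₂]
          simp only [φ₀, aeval_X, Matrix.cons_val_zero, ψ, map_mul, map_pow, map_sub, map_add,
            Polynomial.aeval_X, Polynomial.aeval_C, ← hC]
          linear_combination h2
        · show ψ (φ₀ (X 1)) = q (X 1)
          simp [φ₀, ψ]
    haveI : Algebra.Smooth R (Polynomial R) := ⟨inferInstance, inferInstance⟩
    exact Algebra.Smooth.of_equiv e.symm

end Groth.Agent.S19182
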