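import Mathlib
import Groth.Statements.S19183
-- import your own Groth.Agent.* helpers here

set_option autoImplicit false
universe u
open CAlg

namespace Groth.Agent.S19183

/-- Let A be a non-zero commutative ring and f ∈ A a non-zero-divisor. The fibre product A ×_{A/(f)} A
of two copies of A over A/(f) — the A-submodule of A × A of pairs (x, y) with x − y ∈ (f), which is
the coordinate ring of two copies of Spec A glued along the Cartier divisor f = 0 — is a free
A-module of rank 2. (This is what makes the gluing of two copies of a curve along an effective
Cartier divisor finite locally free of degree 2 over the curve.) -/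
theorem result (A : Type u) [CommRing A] [Nontrivial A]
    (f : A) (hf : f ∈ nonZeroDivisors A) :
    Module.Free A (Submodule.comap (LinearMap.fst A A A - LinearMap.snd A A A) (Ideal.span ({f} : Set A))) ∧
      Module.finrank A (Submodule.comap (LinearMap.fst A A A - LinearMap.snd A A A) (Ideal.span ({f} : Set A))) = 2 := by
  set N := Submodule.comap (LinearMap.fst A A A - LinearMap.snd A A A) (Ideal.span ({f} : Set A)) with hN
  let φ : (Fin 2 → A) →ₗ[A] A × A :=
    LinearMap.prod (LinearMap.proj 0 + f • LinearMap.proj 1) (LinearMap.proj 0)
  have hφ : ∀ v, φ v ∈ N := by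
    intro v
    rw [hN, Submodule.mem_comap, Ideal.mem_span_singleton']
    exact ⟨v 1, by simp [φ, mul_comm]⟩
  have hbij : Function.Bijective (φ.codRestrict N hφ) := by
    constructor
    · rw [← LinearMap.ker_eq_bot, LinearMap.ker_codRestrict, Submodule.eq_bot_iff]
      intro v hv
      simp [φ] at hv
      have h0 := hv.2
      rw [h0, zero_add] at hv
      have h1 := (mul_left_mem_nonZeroDivisors_eq_zero_iff hf).mp hv.1
      funext i
      fin_cases i <;> simp [h0, h1]
    · rintro ⟨⟨a, b⟩, hab⟩
      rw [hN, Submodule.mem_comap, Ideal.mem_span_singleton'] at hab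
      obtain ⟨c, hc⟩ := hab
      refine ⟨![b, c], Subtype.ext ?_⟩
      have hc' : c * f = a - b := by simpa using hc
      simp [φ, mul_comm f c, hc']
  let e := LinearEquiv.ofBijective _ hbij
  exact ⟨Module.Free.of_equiv e, by rw [← e.finrank_eq, Module.finrank_fin_fun]⟩

end Groth.Agent.S19183
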