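import Mathlib
import Groth.Statements.S19184
-- import your own Groth.Agent.* helpers here

set_option autoImplicit false
universe u
open CAlg

namespace Groth.Agent.S19184

open Polynomial in
/-- Let S be a commutative ring, a, b ∈ S, f = x² + ax + b ∈ S[x] and R = S[x]/(f), a free S-algebra of
rank 2. Let A ⊂ S[x] be the S-subalgebra of polynomials whose class in R lies in the image of S → R;
it is the fibre product S[x] ×_R S, the coordinate ring of the affine line over S with the degree-2
subscheme Spec R collapsed onto Spec S. Then A is a free S-module and S[x] is a finitely generated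
A-module. -/
theorem result (S : Type u) [CommRing S] (a b : S) :
    Module.Free S ((⊥ : Subalgebra S (S[X] ⧸ Ideal.span ({X ^ 2 + C a * X + C b} : Set S[X]))).comap
        (Ideal.Quotient.mkₐ S (Ideal.span ({X ^ 2 + C a * X + C b} : Set S[X])))) ∧
      Module.Finite ((⊥ : Subalgebra S (S[X] ⧸ Ideal.span ({X ^ 2 + C a * X + C b} : Set S[X]))).comap
        (Ideal.Quotient.mkₐ S (Ideal.span ({X ^ 2 + C a * X + C b} : Set S[X])))) S[X] := by
  classical
  let f : S[X] := X ^ 2 + C a * X + C b
  have hf : f.Monic := by simp only [f]; monicity!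
  let A : Subalgebra S S[X] := (⊥ : Subalgebra S (S[X] ⧸ Ideal.span ({f} : Set S[X]))).comap
    (Ideal.Quotient.mkₐ S (Ideal.span ({f} : Set S[X])))
  change Module.Free S A ∧ Module.Finite A S[X]
  have hmem : ∀ (s : S) (q : S[X]), C s + f * q ∈ A := fun s q =>
    Algebra.mem_bot.mpr ⟨s, by
      show Ideal.Quotient.mk (Ideal.span ({f} : Set S[X])) (C s) =
        Ideal.Quotient.mk (Ideal.span ({f} : Set S[X])) (C s + f * q)
      rw [map_add, map_mul, Ideal.Quotient.eq_zero_iff_mem.mpr (Ideal.mem_span_singleton_self f),
        zero_mul, add_zero]⟩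
  let Φ : (S × S[X]) →ₗ[S] A :=
    { toFun := fun z => ⟨C z.1 + f * z.2, hmem _ _⟩
      map_add' := fun z w => Subtype.ext (by simp [C.map_add]; ring)
      map_smul' := fun r z => Subtype.ext (by simp [smul_eq_C_mul, C.map_mul]; ring) }
  constructor
  · refine Module.Free.of_equiv (LinearEquiv.ofBijective Φ ⟨?_, ?_⟩)
    · rw [← LinearMap.ker_eq_bot, LinearMap.ker_eq_bot']
      rintro ⟨s, q⟩ hz
      have h : C s + f * q = 0 := congrArg Subtype.val hz
      rcases subsingleton_or_nontrivial S with hS | hS
      · exact Subsingleton.elim _ _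
      have hq : q = 0 := by
        by_contra hq
        have h2 : (f * q).degree ≤ 0 := by
          rw [eq_neg_of_add_eq_zero_right h, degree_neg]
          exact degree_C_le
        have hd : f.degree = 2 := by simp only [f]; compute_degree!
        rw [hf.degree_mul_comm, hf.degree_mul, hd, degree_eq_natDegree hq] at h2
        norm_cast at h2
      subst hq
      simpa using h
    · rintro ⟨p, hp⟩
      obtain ⟨s, hs⟩ := Algebra.mem_bot.mp hp
      obtain ⟨q, hq⟩ := Ideal.mem_span_singleton.mp ((Ideal.Quotient.eq (I := Ideal.span {f})).mp hs.symm)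
      refine ⟨(s, q), Subtype.ext ?_⟩
      show C s + f * q = p
      have hq' : p - C s = f * q := hq
      linear_combination -hq'
  · refine ⟨⟨{1, X}, ?_⟩⟩
    rw [eq_top_iff]
    intro p _
    have h1 := modByMonic_add_div p f
    rcases subsingleton_or_nontrivial S with hS | hS
    · rw [Subsingleton.elim p 0]; exact zero_mem _
    have hd : (p %ₘ f).natDegree ≤ 1 := by
      have hd2 : f.natDegree = 2 := by simp only [f]; compute_degree!
      have := natDegree_modByMonic_lt p hf (fun h => by rw [h, natDegree_one] at hd2; omega)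
      omega
    rw [eq_X_add_C_of_natDegree_le_one hd] at h1
    have : p = (⟨C ((p %ₘ f).coeff 0) + f * (p /ₘ f), hmem _ _⟩ : A) • (1 : S[X]) +
        (⟨C ((p %ₘ f).coeff 1) + f * 0, hmem _ _⟩ : A) • (X : S[X]) := by
      simp only [Subalgebra.smul_def, smul_eq_mul, mul_one, mul_zero, add_zero]
      linear_combination -h1
    rw [this]
    exact add_mem (Submodule.smul_mem _ _ (Submodule.subset_span (by simp)))
      (Submodule.smul_mem _ _ (Submodule.subset_span (by simp)))

end Groth.Agent.S19184
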