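import Groth.Statements.S19186
import Mathlib.Tactic.Module
import Mathlib.Tactic.Ring
import Mathlib.RingTheory.Coprime.Lemmas
-- import your own Groth.Agent.* helpers here

set_option autoImplicit false
universe u
open OneMot

namespace Groth.Agent.S19186

/-- Let p and ℓ be distinct prime numbers, r and n natural numbers, and f : A → B a homomorphism of
abelian groups whose kernel and cokernel are annihilated by p^r (f a = 0 implies p^r • a = 0, and
every p^r • b lies in the image of f). Then f induces a bijection between the ℓ^n-torsion subgroups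
of A and B and a bijection A/ℓ^n A → B/ℓ^n B. Spelled out without quotients: every ℓ^n-torsion
element of B has exactly one ℓ^n-torsion preimage; an element of A whose image is an ℓ^n-multiple is
itself an ℓ^n-multiple; and every element of B is the sum of an image and an ℓ^n-multiple. -/
theorem result {A B : Type u} [AddCommGroup A] [AddCommGroup B] (f : A →+ B) (p ℓ r n : ℕ) (hp : p.Prime) (hl : ℓ.Prime) (hne : ℓ ≠ p) (hker : ∀ a : A, f a = 0 → p ^ r • a = 0) (hcoker : ∀ b : B, ∃ a : A, f a = p ^ r • b) : (∀ b : B, ℓ ^ n • b = 0 → ∃! a : A, ℓ ^ n • a = 0 ∧ f a = b) ∧ (∀ a : A, (∃ b' : B, f a = ℓ ^ n • b') → ∃ a' : A, a = ℓ ^ n • a') ∧ (∀ b : B, ∃ (a : A) (b' : B), b = f a + ℓ ^ n • b') := by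
  have hco : IsCoprime ((ℓ : ℤ) ^ n) ((p : ℤ) ^ r) := by
    have := ((Nat.coprime_primes hl hp).mpr hne).pow n r
    have := this.isCoprime
    push_cast at this
    exact this
  obtain ⟨x, y, hxy⟩ := hco
  have key : ∀ {M : Type u} [AddCommGroup M] (m : M),
      m = (x * (ℓ : ℤ) ^ n) • m + (y * (p : ℤ) ^ r) • m := fun m => by
    rw [← add_smul, hxy, one_smul]
  have cA : ∀ (q e : ℕ) (a : A), (q ^ e) • a = ((q : ℤ) ^ e) • a := fun q e a => by
    rw [← Nat.cast_pow, natCast_zsmul]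
  have cB : ∀ (q e : ℕ) (a : B), (q ^ e) • a = ((q : ℤ) ^ e) • a := fun q e a => by
    rw [← Nat.cast_pow, natCast_zsmul]
  simp only [cA, cB] at hker hcoker ⊢
  refine ⟨fun b hb => ?_, fun a ⟨b', hb'⟩ => ?_, fun b => ?_⟩
  · obtain ⟨a0, ha0⟩ := hcoker b
    have h0 : (p : ℤ) ^ r • ((ℓ : ℤ) ^ n • a0) = 0 := hker _ (by
      rw [map_zsmul, ha0, smul_smul, mul_comm, ← smul_smul, hb, smul_zero])
    have hyb : (y * (p : ℤ) ^ r) • b = b := by
      conv_rhs => rw [key b, mul_comm x, ← smul_smul ((ℓ : ℤ) ^ n), smul_comm, hb, smul_zero, zero_add]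
    refine ⟨(y * (p : ℤ) ^ r * y) • a0, ⟨?_, ?_⟩, ?_⟩
    · have e : (ℓ : ℤ) ^ n * (y * (p : ℤ) ^ r * y) = (y * y) * ((p : ℤ) ^ r * (ℓ : ℤ) ^ n) := by ring
      rw [smul_smul, e, ← smul_smul, ← smul_smul ((p : ℤ) ^ r), h0, smul_zero]
    · rw [map_zsmul, ha0, smul_smul, mul_assoc (y * (p : ℤ) ^ r), ← smul_smul, hyb, hyb]
    · rintro a' ⟨h1, h2⟩
      have h3 : (ℓ : ℤ) ^ n • ((y * (p : ℤ) ^ r * y) • a0) = 0 := by
        have e : (ℓ : ℤ) ^ n * (y * (p : ℤ) ^ r * y) = (y * y) * ((p : ℤ) ^ r * (ℓ : ℤ) ^ n) := by ring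
        rw [smul_smul, e, ← smul_smul, ← smul_smul ((p : ℤ) ^ r), h0, smul_zero]
      have h4 : f ((y * (p : ℤ) ^ r * y) • a0) = b := by
        rw [map_zsmul, ha0, smul_smul, mul_assoc (y * (p : ℤ) ^ r), ← smul_smul, hyb, hyb]
      refine sub_eq_zero.mp ?_
      rw [key (a' - _), ← smul_smul, ← smul_smul y, hker _ (by rw [map_sub, h2, h4, sub_self]),
        smul_sub, h1, h3]
      simp
  · obtain ⟨a0, ha0⟩ := hcoker b'
    have h1 := hker ((p : ℤ) ^ r • a - (ℓ : ℤ) ^ n • a0) (by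
      rw [map_sub, map_zsmul, map_zsmul, ha0, hb', smul_comm, sub_self])
    rw [smul_sub, sub_eq_zero] at h1
    refine ⟨x • a + (y * (p : ℤ) ^ r * x) • a + (y * y * (p : ℤ) ^ r) • a0, ?_⟩
    calc a = (x * (ℓ : ℤ) ^ n) • a + (y * (p : ℤ) ^ r) • ((x * (ℓ : ℤ) ^ n) • a + (y * (p : ℤ) ^ r) • a) := by
          rw [← key a]; exact key a
      _ = (ℓ : ℤ) ^ n • (x • a + (y * (p : ℤ) ^ r * x) • a) + (y * y) • ((p : ℤ) ^ r • ((p : ℤ) ^ r • a)) := by
          module
      _ = _ := by rw [h1]; module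
  · obtain ⟨a0, ha0⟩ := hcoker b
    refine ⟨y • a0, x • b, ?_⟩
    rw [map_zsmul, ha0]
    conv_lhs => rw [key b]
    module

end Groth.Agent.S19186
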