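import Groth.Statements.S19187
-- import your own Groth.Agent.* helpers here

set_option autoImplicit false
universe u
open Cpct

namespace Groth.Agent.S19187

open CategoryTheory CategoryTheory.Limits AlgebraicGeometry in
/-- Let k be a field, X̄ and Ȳ schemes proper over Spec k, j : X → X̄ an open immersion with dense image
and v : Y → Ȳ an open immersion (compactifications of X and Y), f : X → Y a proper morphism and f̄ :
X̄ → Ȳ a morphism over Spec k with f̄ ∘ j = v ∘ f. Then the preimage under f̄ of the open v(Y) is
the open j(X); equivalently, the complement of X in X̄ is the preimage of the complement of Y in Ȳ.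
(The base field k is arbitrary: no perfectness assumption is needed.) -/
theorem result {k : Type u} [Field k] {X Y Xb Yb : Scheme.{u}} (a : Xb ⟶ Spec (CommRingCat.of k)) (b : Yb ⟶ Spec (CommRingCat.of k)) [IsProper a] [IsProper b] (j : X ⟶ Xb) [IsOpenImmersion j] (hj : Dense (Set.range j.base)) (v : Y ⟶ Yb) [IsOpenImmersion v] (f : X ⟶ Y) [IsProper f] (fb : Xb ⟶ Yb) (hfb : fb ≫ b = a) (hsq : j ≫ fb = f ≫ v) : fb ⁻¹ᵁ v.opensRange = j.opensRange := by
  haveI : IsSeparated fb := by
    have : IsSeparated (fb ≫ b) := by rw [hfb]; infer_instance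
    exact IsSeparated.of_comp fb b
  let p1 := pullback.fst fb v
  let p2 := pullback.snd fb v
  let l : X ⟶ pullback fb v := pullback.lift j f hsq
  have hl1 : l ≫ p1 = j := pullback.lift_fst _ _ _
  have hl2 : l ≫ p2 = f := pullback.lift_snd _ _ _
  haveI : UniversallyClosed l := by
    have : UniversallyClosed (l ≫ p2) := by rw [hl2]; infer_instance
    exact UniversallyClosed.of_comp_of_isSeparated l p2
  have hclosed : IsClosed (Set.range l) := l.isClosedMap.isClosed_range
  have hpre : p1 ⁻¹' Set.range j.base = Set.range l := by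
    ext z
    constructor
    · rintro ⟨x, hx⟩
      refine ⟨x, ?_⟩
      apply p1.isOpenEmbedding.injective
      rw [← hx, ← hl1]
      rfl
    · rintro ⟨x, rfl⟩
      exact ⟨x, by rw [← hl1]; rfl⟩
  have hdense : Dense (Set.range l) := by
    rw [← hpre]
    exact hj.preimage p1.isOpenEmbedding.isOpenMap
  have huniv : Set.range l = Set.univ := hclosed.closure_eq ▸ hdense.closure_eq
  apply TopologicalSpace.Opens.ext
  have hr : Set.range p1 = fb ⁻¹' Set.range v := by
    simpa [p1] using (IsOpenImmersion.range_pullbackFst v fb)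
  ext x
  constructor
  · intro hx
    have : x ∈ Set.range p1 := by rw [hr]; exact hx
    obtain ⟨z, rfl⟩ := this
    have : z ∈ Set.range l := huniv ▸ Set.mem_univ z
    obtain ⟨y, rfl⟩ := this
    exact ⟨y, by rw [← hl1]; rfl⟩
  · rintro ⟨y, rfl⟩
    exact ⟨f y, by rw [← Scheme.Hom.comp_apply, ← hsq]; rfl⟩
end Groth.Agent.S19187
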