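import Groth.Statements.S19189
import Mathlib.CategoryTheory.Triangulated.TStructure.TruncLTGE
import Mathlib.CategoryTheory.Idempotents.Basic
-- import your own Groth.Agent.* helpers here

set_option autoImplicit false
universe v u
open CategoryTheory CategoryTheory.Limits CategoryTheory.Pretriangulated CategoryTheory.Triangulated
open CohDer

namespace Groth.Agent.S19189

open CategoryTheory.Pretriangulated Triangulated
open scoped ZeroObject

section

variable {C : Type u} [Category.{v} C] [Preadditive C]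

/-- `p` splits -/
def Splits {X : C} (p : X ⟶ X) : Prop :=
  ∃ (Y : C) (i : Y ⟶ X) (e : X ⟶ Y), i ≫ e = 𝟙 Y ∧ e ≫ i = p

/-- idempotents with square zero difference split simultaneously -/
lemma splits_of_sq_zero {X : C} (p e : X ⟶ X) (hp : p ≫ p = p) (he : e ≫ e = e)
    (hn : (e - p) ≫ (e - p) = 0) (hs : Splits e) : Splits p := by
  obtain ⟨Y, i, r, hir, hri⟩ := hs
  have key : ∀ a b : X ⟶ X, a ≫ a = a → b ≫ b = b → (b - a) ≫ (b - a) = 0 →
      (a ≫ b + (𝟙 X - a) ≫ (𝟙 X - b)) ≫ (b ≫ a + (𝟙 X - b) ≫ (𝟙 X - a)) = 𝟙 X := by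
    intro a b ha hb h
    simp only [Preadditive.sub_comp, Preadditive.comp_sub, ha, hb] at h
    have hab : a ≫ b + b ≫ a = a + b := by
      have h' : a + b - (a ≫ b + b ≫ a) = 0 := by rw [← h]; abel
      exact (sub_eq_zero.1 h').symm
    have hbba : b ≫ b ≫ a = b ≫ a := by rw [← Category.assoc, hb]
    have haab : a ≫ a ≫ b = a ≫ b := by rw [← Category.assoc, ha]
    have haba : a ≫ b ≫ a = a := by
      have h1 := congrArg (a ≫ ·) hab
      simp only [Preadditive.comp_add, ha, haab] at h1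
      rw [add_comm a (a ≫ b)] at h1
      exact add_left_cancel h1
    simp only [Preadditive.add_comp, Preadditive.comp_add, Preadditive.sub_comp,
      Preadditive.comp_sub, Category.id_comp, Category.comp_id, Category.assoc, hbba, haba, hb, ha]
    rw [← sub_eq_zero]
    calc _ = (a ≫ b + b ≫ a) - (a + b) := by abel
      _ = 0 := by rw [hab, sub_self]
  let u : X ⟶ X := p ≫ e + (𝟙 X - p) ≫ (𝟙 X - e)
  let v : X ⟶ X := e ≫ p + (𝟙 X - e) ≫ (𝟙 X - p)
  have huv : u ≫ v = 𝟙 X := key p e hp he hn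
  have hvu : v ≫ u = 𝟙 X := key e p he hp (by
    rw [← neg_sub e p, Preadditive.neg_comp, Preadditive.comp_neg, neg_neg, hn])
  have hue : u ≫ e = p ≫ u := by
    simp only [u, Preadditive.add_comp, Preadditive.comp_add, Preadditive.sub_comp,
      Preadditive.comp_sub, Category.id_comp, Category.comp_id, Category.assoc, he]
    simp only [← Category.assoc, hp]
    abel
  refine ⟨Y, i ≫ v, u ≫ r, ?_, ?_⟩
  · rw [Category.assoc, ← Category.assoc v, hvu, Category.id_comp, hir]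
  · rw [Category.assoc, ← Category.assoc r, hri, ← Category.assoc, hue, Category.assoc, huv,
      Category.comp_id]

variable [HasZeroObject C] [HasShift C ℤ] [∀ n : ℤ, (shiftFunctor C n).Additive] [Pretriangulated C]

/-- extensions of split idempotents split -/
lemma splits_middle {X₁ X X₃ : C} {a : X₁ ⟶ X} {b : X ⟶ X₃} {c : X₃ ⟶ X₁⟦(1 : ℤ)⟧}
    (hT : Triangle.mk a b c ∈ distinguishedTriangles)
    {p : X ⟶ X} (hp : p ≫ p = p) {p₁ : X₁ ⟶ X₁} {p₃ : X₃ ⟶ X₃}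
    (h1 : a ≫ p = p₁ ≫ a) (h2 : b ≫ p₃ = p ≫ b) (h3 : c ≫ p₁⟦(1 : ℤ)⟧' = p₃ ≫ c)
    (hs₁ : Splits p₁) (hs₃ : Splits p₃) : Splits p := by
  obtain ⟨A, iA, rA, hA, hA'⟩ := hs₁
  obtain ⟨B, iB, rB, hB, hB'⟩ := hs₃
  let δ : B ⟶ A⟦(1 : ℤ)⟧ := iB ≫ c ≫ rA⟦(1 : ℤ)⟧'
  obtain ⟨W, α, β, hW⟩ := distinguished_cocone_triangle₂ δ
  have hi : iB ≫ c = δ ≫ iA⟦(1 : ℤ)⟧' := by
    show iB ≫ c = (iB ≫ c ≫ rA⟦(1 : ℤ)⟧') ≫ iA⟦(1 : ℤ)⟧'
    rw [Category.assoc, Category.assoc, ← Functor.map_comp, hA', h3, ← hB',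
      ← Category.assoc iB, ← Category.assoc iB, hB, Category.id_comp]
  have hr : c ≫ rA⟦(1 : ℤ)⟧' = rB ≫ δ := by
    show c ≫ rA⟦(1 : ℤ)⟧' = rB ≫ iB ≫ c ≫ rA⟦(1 : ℤ)⟧'
    rw [← Category.assoc rB, hB', ← Category.assoc, ← h3, Category.assoc, ← Functor.map_comp,
      ← hA', Category.assoc, hA, Category.comp_id]
  obtain ⟨θ, hθ1, hθ2⟩ : ∃ θ : W ⟶ X, α ≫ θ = iA ≫ a ∧ β ≫ iB = θ ≫ b :=
    complete_distinguished_triangle_morphism₂ _ _ hW hT iA iB hi.symm
  obtain ⟨φ, hφ1, hφ2⟩ : ∃ φ : X ⟶ W, a ≫ φ = rA ≫ α ∧ b ≫ rB = φ ≫ β :=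
    complete_distinguished_triangle_morphism₂ _ _ hT hW rA rB hr
  have e1 : α ≫ θ ≫ φ = α := by
    rw [← Category.assoc, hθ1, Category.assoc, hφ1, ← Category.assoc, hA, Category.id_comp]
  have e2 : (θ ≫ φ) ≫ β = β := by
    rw [Category.assoc, ← hφ2, ← Category.assoc, ← hθ2, Category.assoc, hB, Category.comp_id]
  have hiso : IsIso (θ ≫ φ) :=
    isIso₂_of_isIso₁₃
      ({ hom₁ := 𝟙 _, hom₂ := θ ≫ φ, hom₃ := 𝟙 _,
         comm₁ := by show α ≫ θ ≫ φ = 𝟙 A ≫ α; rw [e1, Category.id_comp]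
         comm₂ := by show β ≫ 𝟙 B = (θ ≫ φ) ≫ β; rw [e2, Category.comp_id]
         comm₃ := by show δ ≫ (𝟙 A)⟦(1 : ℤ)⟧' = 𝟙 B ≫ δ; simp } :
        Triangle.mk α β δ ⟶ Triangle.mk α β δ) hW hW (IsIso.id _) (IsIso.id _)
  let φ' := φ ≫ inv (θ ≫ φ)
  have hθφ : θ ≫ φ' = 𝟙 W := by
    show θ ≫ φ ≫ inv (θ ≫ φ) = 𝟙 W
    rw [← Category.assoc, IsIso.hom_inv_id]
  have e1' : α ≫ inv (θ ≫ φ) = α := by rw [IsIso.comp_inv_eq, e1]
  have e2' : inv (θ ≫ φ) ≫ β = β := by rw [IsIso.inv_comp_eq, e2]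
  let e : X ⟶ X := φ' ≫ θ
  have he : e ≫ e = e := by
    show (φ' ≫ θ) ≫ φ' ≫ θ = φ' ≫ θ
    rw [Category.assoc, ← Category.assoc θ, hθφ, Category.id_comp]
  have hea : a ≫ (e - p) = 0 := by
    show a ≫ ((φ ≫ inv (θ ≫ φ)) ≫ θ - p) = 0
    rw [Preadditive.comp_sub, ← Category.assoc, ← Category.assoc, hφ1, Category.assoc rA, e1',
      Category.assoc, hθ1, ← Category.assoc, hA', h1, sub_self]
  have heb : (e - p) ≫ b = 0 := by
    show ((φ ≫ inv (θ ≫ φ)) ≫ θ - p) ≫ b = 0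
    rw [Preadditive.sub_comp, Category.assoc, ← hθ2, Category.assoc, ← Category.assoc _ β, e2',
      ← Category.assoc, ← hφ2, Category.assoc, hB', h2, sub_self]
  obtain ⟨x, hx⟩ : ∃ x : X ⟶ X₁, e - p = x ≫ a := Triangle.coyoneda_exact₂ _ hT (e - p) heb
  refine splits_of_sq_zero p e hp he ?_ ⟨W, θ, φ', hθφ, rfl⟩
  calc (e - p) ≫ (e - p) = (x ≫ a) ≫ (e - p) := by rw [← hx]
    _ = 0 := by rw [Category.assoc, hea, comp_zero]

/-- idempotents split on objects concentrated in one degree -/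
lemma splits_pure (t : TStructure C) {X : C} (n : ℤ) [t.IsGE X n] [t.IsLE X n]
    {p : X ⟶ X} (hp : p ≫ p = p) : Splits p := by
  obtain ⟨F, ι₀, h, hF⟩ := distinguished_cocone_triangle₁ (𝟙 X - p)
  obtain ⟨r₀, hr₀⟩ : ∃ r₀ : X ⟶ F, p = r₀ ≫ ι₀ := Triangle.coyoneda_exact₂ _ hF p (by
    show p ≫ (𝟙 X - p) = 0
    rw [Preadditive.comp_sub, Category.comp_id, hp, sub_self])
  let K := (t.truncLT (n + 1)).obj F
  have : t.IsLE K (n + 1 - 1) := inferInstance
  let ι : K ⟶ X := (t.truncLTι (n + 1)).app F ≫ ι₀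
  let r : X ⟶ K := t.liftTruncLT r₀ n (n + 1) rfl
  have hr : r ≫ ι = p := by simp [r, ι, hr₀]
  have hιp : ι ≫ p = ι := by
    have h0 : ι₀ ≫ (𝟙 X - p) = 0 := comp_distTriang_mor_zero₁₂ _ hF
    rw [Preadditive.comp_sub, Category.comp_id, sub_eq_zero] at h0
    show ((t.truncLTι (n + 1)).app F ≫ ι₀) ≫ p = _
    rw [Category.assoc, ← h0]
  refine ⟨K, ι, r, t.to_truncLT_obj_ext ?_, hr⟩
  rw [← sub_eq_zero, ← Preadditive.sub_comp]
  apply (shiftFunctor C (1 : ℤ)).map_injective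
  obtain ⟨g, hg⟩ := Triangle.coyoneda_exact₁ _ hF
    (((ι ≫ r - 𝟙 K) ≫ (t.truncLTι (n + 1)).app F)⟦(1 : ℤ)⟧') (by
      show (shiftFunctor C (1 : ℤ)).map _ ≫ (shiftFunctor C (1 : ℤ)).map ι₀ = 0
      refine ((Functor.map_comp (shiftFunctor C (1 : ℤ)) _ _).symm.trans
        (congrArg _ (Category.assoc _ _ _))).trans ?_
      show (shiftFunctor C (1 : ℤ)).map ((ι ≫ r - 𝟙 K) ≫ ι) = 0
      rw [Preadditive.sub_comp, Category.assoc, hr, hιp, Category.id_comp, sub_self, Functor.map_zero])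
  have : t.IsLE (K⟦(1 : ℤ)⟧) (n - 1) := t.isLE_shift K (n + 1 - 1) 1 (n - 1) (by omega)
  have : t.IsGE (Triangle.mk ι₀ (𝟙 X - p) h).obj₃ n := ‹t.IsGE X n›
  have hg0 : g = 0 := t.zero g (n - 1) n (by omega)
  subst hg0
  exact hg.trans (zero_comp.trans (Functor.map_zero _ _ _).symm)

lemma splits_of_bounded [IsTriangulated C] (t : TStructure C) (k : ℕ) : ∀ (X : C) (a : ℤ), t.IsGE X a →
    t.IsLE X (a + k - 1) → ∀ p : X ⟶ X, p ≫ p = p → Splits p := by
  induction k with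
  | zero =>
    intro X a h1 h2 p _
    have : t.IsLE X (a - 1) := by simpa using h2
    have hX : IsZero X := t.isZero X (a - 1) a (by omega)
    exact ⟨X, 𝟙 X, 𝟙 X, Category.id_comp _, hX.eq_of_src _ _⟩
  | succ k ih =>
    intro X a h1 h2 p hp
    have : t.IsLE X (a + k) := by
      rwa [show a + ((k + 1 : ℕ) : ℤ) - 1 = a + k by push_cast; omega] at h2
    have i1 : t.IsGE ((t.truncLT (a + k)).obj X) a := inferInstance
    have i2 : t.IsLE ((t.truncLT (a + k)).obj X) (a + k - 1) := inferInstance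
    have i3 : t.IsLE ((t.truncGE (a + k)).obj X) (a + k) := inferInstance
    refine splits_middle (t.triangleLTGE_distinguished (a + k) X) hp
      ((t.truncLTι (a + k)).naturality p).symm ((t.truncGEπ (a + k)).naturality p).symm
      ((t.truncGEδLT (a + k)).naturality p).symm ?_ ?_
    · exact ih _ a i1 i2 _ (by rw [← Functor.map_comp, hp])
    · exact splits_pure t (a + k) (by rw [← Functor.map_comp, hp])

end


/-- Let `C` be a triangulated category (octahedron axiom included) and `t` a t-structure on `C` which is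
bounded, i.e. every object of `C` is both `≥ a` and `≤ b` for some integers `a`, `b`. Then `C` is
idempotent complete (Karoubian): every idempotent endomorphism `p = p ≫ p` of an object splits as `p
= e ≫ i` with `i ≫ e = 𝟙`. -/
theorem result {C : Type u} [Category.{v} C] [Preadditive C]
    [HasZeroObject C] [HasShift C ℤ] [∀ n : ℤ, (shiftFunctor C n).Additive] [Pretriangulated C]
    [IsTriangulated C] (t : TStructure C) (hb : ∀ X : C, t.bounded X) :
    IsIdempotentComplete C := by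
  refine ⟨fun X p hp => ?_⟩
  obtain ⟨⟨a, ha⟩, ⟨b, hbX⟩⟩ := hb X
  have : t.IsLE X b := hbX
  exact splits_of_bounded t (b + 1 - a).toNat X a ha (t.isLE_of_le X b _ (by omega)) p hp

end Groth.Agent.S19189
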