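import Groth.Statements.S1919
import Groth.Agent.CycInsep.Fibre
import Groth.Agent.CycLib.ProdClass
import Mathlib.FieldTheory.IsPerfectClosure

set_option autoImplicit false
universe u
open CategoryTheory AlgebraicGeometry
open CategoryTheory.Limits
open RelCyc

namespace Groth.Agent.S1919

/-- For a scheme X of finite type over a field k of characteristic p > 0, with base change X' = X ×_k k'
to the perfect closure k', the base change map Z_r(X) → Z_r(X') (flat pullback along the projection)
has p-power torsion cokernel: for every r-cycle β on X' some p^n β is the base change of an r-cycle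
on X. Dimension functions are transcendence degrees of residue fields over the ground fields. -/
theorem result (k : Type u) [Field k] (p : ℕ) [Fact p.Prime] [CharP k p] (X : Scheme.{u}) (f : X ⟶ Spec (CommRingCat.of k)) [LocallyOfFiniteType f] [QuasiCompact f] (δ : X → ℤ) (hδ : Cyc.DeltaCompat f δ (fun _ => 0)) (δ' : ↥(pullback f (Spec.map (CommRingCat.ofHom (PerfectClosure.of k p)))) → ℤ) (hδ' : Cyc.DeltaCompat (pullback.snd f (Spec.map (CommRingCat.ofHom (PerfectClosure.of k p)))) δ' (fun _ => 0)) (r : ℤ) (β : AlgebraicCycle (pullback f (Spec.map (CommRingCat.ofHom (PerfectClosure.of k p)))) ℤ) (hβ : β ∈ Cyc.Zk _ δ' r) : ∃ (n : ℕ) (α : AlgebraicCycle X ℤ), α ∈ Cyc.Zk X δ r ∧ (p : ℤ) ^ n • ⇑β = Cyc.pullFun (pullback.fst f (Spec.map (CommRingCat.ofHom (PerfectClosure.of k p)))) δ' δ 0 ⇑α := by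
  letI : Algebra k (PerfectClosure k p) := (PerfectClosure.of k p).toAlgebra
  haveI : ExpChar k p := ExpChar.prime Fact.out
  haveI : IsPRadical (algebraMap k (PerfectClosure k p)) p := PerfectClosure.isPRadical k p
  haveI : IsPurelyInseparable k (PerfectClosure k p) := IsPRadical.isPurelyInseparable k _ p
  haveI : CompactSpace X := QuasiCompact.compactSpace_of_compactSpace f
  haveI : CompactSpace ↥(pullback f (Spec.map (CommRingCat.ofHom (PerfectClosure.of k p)))) :=
    QuasiCompact.compactSpace_of_compactSpace (pullback.snd f (Spec.map (CommRingCat.ofHom (PerfectClosure.of k p))))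
  haveI : IsLocallyNoetherian (pullback f (Spec.map (CommRingCat.ofHom (PerfectClosure.of k p)))) := LocallyOfFiniteType.isLocallyNoetherian (pullback.snd f (Spec.map (CommRingCat.ofHom (PerfectClosure.of k p))))
  have hlen := fun x => Groth.Agent.CycInsep.Fibre.exists_fibLen_eq_pow
    (k' := PerfectClosure k p) f p x
  choose e he using hlen
  have hfin : (Function.support ⇑β).Finite := Groth.Agent.CycLib.finite_support_of_compact β
  obtain ⟨n, hn⟩ : ∃ n, ∀ x ∈ Function.support ⇑β, e x ≤ n :=
    ⟨hfin.toFinset.sup e, fun x hx => Finset.le_sup (hfin.mem_toFinset.mpr hx)⟩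
  let H := (Groth.Agent.CycInsep.Fibre.isHomeomorph_fst (k' := PerfectClosure k p) f).homeomorph
  let φ : X → ℤ := fun y => (p : ℤ) ^ (n - e (H.symm y)) * β (H.symm y)
  obtain ⟨α, hα⟩ := Groth.Agent.CycLib.exists_cycle_of_finite φ
    ((hfin.image H).subset fun y hy => ⟨H.symm y, right_ne_zero_of_mul hy, H.apply_symm_apply y⟩)
  have hd := Groth.Agent.CycInsep.Fibre.delta_eq (k' := PerfectClosure k p) f hδ hδ'
  refine ⟨n, α, fun y hy => ?_, funext fun x => ?_⟩
  · rw [hα]
    refine mul_eq_zero_of_right _ (hβ _ ?_)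
    rw [hd]
    exact fun h => hy ((congrArg δ (H.apply_symm_apply y)).symm.trans h)
  · rw [Cyc.pullFun, if_pos (by rw [hd, add_zero]), hα]
    change (p : ℤ) ^ n • β x = φ (H x) * (Groth.Agent.CycLib.fibLen (pullback.fst f (Spec.map (CommRingCat.ofHom (PerfectClosure.of k p)))) x : ℤ)
    rw [show φ (H x) = (p : ℤ) ^ (n - e x) * β x by simp only [φ, H.symm_apply_apply],
      show (Groth.Agent.CycLib.fibLen (pullback.fst f (Spec.map (CommRingCat.ofHom (PerfectClosure.of k p)))) x : ℤ) = (p : ℤ) ^ e x by exact_mod_cast he x,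
      smul_eq_mul]
    by_cases hx : β x = 0
    · rw [hx, mul_zero, mul_zero, zero_mul]
    · rw [mul_right_comm, ← pow_add, Nat.sub_add_cancel (hn x hx)]

end Groth.Agent.S1919
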