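import Groth.Statements.S19190
import Mathlib.CategoryTheory.Triangulated.Subcategory
import Mathlib.Algebra.Module.LocalizedModule.Basic
import Mathlib.CategoryTheory.Localization.CalculusOfFractions.Preadditive
import Mathlib.CategoryTheory.Linear.LinearFunctor
-- import your own Groth.Agent.* helpers here

set_option autoImplicit false
universe w v u v' u'
open CategoryTheory CategoryTheory.Limits CategoryTheory.Pretriangulated CategoryTheory.Triangulated
open CohDer

namespace Groth.Agent.S19190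

open CategoryTheory.Pretriangulated
open scoped ZeroObject

section
variable {A : Type w} [CommRing A] (S : Submonoid A)
  {T : Type u} [Category.{v} T] [Preadditive T] [Linear A T] [HasZeroObject T] [HasShift T ℤ]
  [∀ n : ℤ, (shiftFunctor T n).Additive] [∀ n : ℤ, (shiftFunctor T n).Linear A]
  [Pretriangulated T]

/-- objects killed by an element of `S` -/
def killed : ObjectProperty T := fun Z => ∃ f ∈ S, f • 𝟙 Z = 0

instance : (killed S : ObjectProperty T).IsClosedUnderIsomorphisms where
  of_iso {X Y} e := fun ⟨f, hf, h⟩ => ⟨f, hf, by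
    rw [← cancel_epi e.hom, Linear.comp_smul, Category.comp_id, ← Category.id_comp e.hom,
      ← Linear.smul_comp, h, zero_comp, comp_zero]⟩

instance : (killed S : ObjectProperty T).IsStableUnderRetracts where
  of_retract {X Y} r := fun ⟨f, hf, h⟩ => ⟨f, hf, by
    have : r.i ≫ (f • 𝟙 Y) ≫ r.r = f • 𝟙 X := by simp
    rw [← this, h, zero_comp, comp_zero]⟩

instance : (killed S : ObjectProperty T).IsTriangulated where
  exists_zero := ⟨0, isZero_zero T, 1, S.one_mem, (isZero_zero T).eq_of_src _ _⟩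
  isStableUnderShiftBy n := ⟨fun X ⟨f, hf, h⟩ => ⟨f, hf, by
    rw [← CategoryTheory.Functor.map_id, ← Functor.map_smul, h, Functor.map_zero]⟩⟩
  ext₂' D hD := fun ⟨f, hf, h₁⟩ ⟨g, hg, h₃⟩ => ObjectProperty.le_isoClosure _ _ ⟨g * f, S.mul_mem hg hf, by
    obtain ⟨k, hk⟩ := Triangle.coyoneda_exact₂ D hD (g • 𝟙 D.obj₂) (by
      rw [Linear.smul_comp, Category.id_comp]
      rw [← Category.comp_id D.mor₂, ← Linear.comp_smul, h₃, comp_zero])
    have : f • D.mor₁ = 0 := by
      rw [← Category.id_comp D.mor₁, ← Linear.smul_comp, h₁, zero_comp]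
    rw [mul_comm, mul_smul, hk, ← Linear.comp_smul, this, comp_zero]⟩

lemma killed_cone {X Z : T} {f : A} (hf : f ∈ S) (g : X ⟶ Z) (h : Z ⟶ X⟦(1 : ℤ)⟧)
    (hd : Triangle.mk (f • 𝟙 X) g h ∈ distTriang T) : killed S Z := by
  have e1 : f • g = 0 := by
    exact (by simp : f • g = (f • 𝟙 X) ≫ g).trans (comp_distTriang_mor_zero₁₂ _ hd)
  obtain ⟨k, hk⟩ := Triangle.yoneda_exact₃ _ hd (f • 𝟙 Z) (by
    show g ≫ (f • 𝟙 Z) = 0
    rw [Linear.comp_smul, Category.comp_id, e1])
  have e2 : f • h = 0 := by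
    have h31 : h ≫ (f • 𝟙 X)⟦(1 : ℤ)⟧' = 0 := comp_distTriang_mor_zero₃₁ _ hd
    rw [Functor.map_smul, CategoryTheory.Functor.map_id, Linear.comp_smul] at h31
    rwa [Category.comp_id] at h31
  have hk' : f • 𝟙 Z = h ≫ k := hk
  refine ⟨f * f, S.mul_mem hf hf, ?_⟩
  rw [mul_smul, hk']
  exact ((Linear.smul_comp (Z : T) _ Z f h k).symm.trans (congrArg (· ≫ k) e2)).trans zero_comp

/-- a morphism with killed cone has a one sided inverse up to `S` -/
lemma exists_section {X' X : T} (s : X' ⟶ X) (hs : (killed S : ObjectProperty T).trW s) :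
    ∃ f ∈ S, ∃ t : X ⟶ X', t ≫ s = f • 𝟙 X := by
  obtain ⟨Z, g, h, hd, f, hf, hZ⟩ := hs
  obtain ⟨t, ht⟩ := Triangle.coyoneda_exact₂ _ hd (f • 𝟙 X) (by
    show (f • 𝟙 X) ≫ g = 0
    rw [Linear.smul_comp, Category.id_comp, ← Category.comp_id g, ← Linear.comp_smul, hZ, comp_zero])
  exact ⟨f, hf, t, ht.symm⟩

end


/-- Let `A` be a commutative ring, `S` a multiplicative subset of `A` and `T` an `A`-linear triangulated
category (octahedron axiom included; the shift functors are `A`-linear). Call an object of `T`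
`S`-torsion when it lies in the smallest thick subcategory `U` of `T` (a property of objects
containing zero, stable under shifts, extensions, isomorphisms and direct factors) containing every
cone of an endomorphism `f • 𝟙 X` with `f ∈ S`. Let `Q : T ⥤ E` exhibit `E` as the localization of
`T` at the morphisms whose cone lies in `U` (the Verdier quotient `T/U`), where `E` is preadditive
and `A`-linear and `Q` is `A`-linear. Then for all objects `X`, `Y` of `T` the `A`-linear map
`Hom_T(X, Y) → Hom_E(Q X, Q Y)` given by `Q` exhibits its target as the localization of `Hom_T(X,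
Y)` at `S`. Since `Q` is essentially surjective, this says that the comparison functor from `T/U` to
the category having the objects of `T` and morphism modules `Hom_T(X, Y) ⊗_A S⁻¹A` is an
equivalence. -/
theorem result
    {A : Type w} [CommRing A] (S : Submonoid A)
    {T : Type u} [Category.{v} T] [Preadditive T] [Linear A T] [HasZeroObject T] [HasShift T ℤ]
    [∀ n : ℤ, (shiftFunctor T n).Additive] [∀ n : ℤ, (shiftFunctor T n).Linear A]
    [Pretriangulated T] [IsTriangulated T]
    (U : ObjectProperty T) [U.IsTriangulated] [U.IsClosedUnderIsomorphisms] [U.IsStableUnderRetracts]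
    (hU : ∀ (X : T) (f : A), f ∈ S → ∀ (Z : T) (g : X ⟶ Z) (h : Z ⟶ X⟦(1 : ℤ)⟧),
      Triangle.mk (f • 𝟙 X) g h ∈ distTriang T → U Z)
    (hmin : ∀ (U' : ObjectProperty T) [U'.IsTriangulated] [U'.IsClosedUnderIsomorphisms]
      [U'.IsStableUnderRetracts],
      (∀ (X : T) (f : A), f ∈ S → ∀ (Z : T) (g : X ⟶ Z) (h : Z ⟶ X⟦(1 : ℤ)⟧),
        Triangle.mk (f • 𝟙 X) g h ∈ distTriang T → U' Z) → U ≤ U')
    {E : Type u'} [Category.{v'} E] [Preadditive E] [Linear A E]
    (Q : T ⥤ E) [Q.Additive] [Q.Linear A] [Q.IsLocalization U.trW] (X Y : T) :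
    IsLocalizedModule S (Q.mapLinearMap A : (X ⟶ Y) →ₗ[A] (Q.obj X ⟶ Q.obj Y)) := by
  have hle : U ≤ killed S := hmin _ (fun X f hf Z g h hd => killed_cone S hf g h hd)
  have hunit : ∀ (f : A), f ∈ S → IsIso (f • 𝟙 (Q.obj X)) := fun f hf => by
    obtain ⟨Z, g, h, hd⟩ := distinguished_cocone_triangle (f • 𝟙 X)
    have := Localization.inverts Q U.trW (f • 𝟙 X) ⟨Z, g, h, hd, hU X f hf Z g h hd⟩
    rwa [Functor.map_smul, CategoryTheory.Functor.map_id] at this
  refine ⟨fun f => ?_, fun φ => ?_, fun {u v} h => ?_⟩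
  · have := hunit f f.2
    rw [Module.End.isUnit_iff]
    have e : ∀ φ : Q.obj X ⟶ Q.obj Y, (f : A) • φ = ((f : A) • 𝟙 (Q.obj X)) ≫ φ := fun φ => by
      rw [Linear.smul_comp, Category.id_comp]
    refine ⟨fun a b hab => ?_, fun b => ⟨inv ((f : A) • 𝟙 (Q.obj X)) ≫ b, ?_⟩⟩
    · simp only [Module.algebraMap_end_apply] at hab
      rw [e, e] at hab
      exact (cancel_epi _).1 hab
    · simp only [Module.algebraMap_end_apply]
      rw [e, IsIso.hom_inv_id_assoc]
  · obtain ⟨ψ, hψ⟩ := Localization.exists_rightFraction Q U.trW φ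
    obtain ⟨X', s, hs, g, rfl⟩ := ψ.cases
    obtain ⟨f, hf, t, ht⟩ := exists_section S s (ObjectProperty.trW_monotone hle _ hs)
    have := Localization.inverts Q U.trW s hs
    refine ⟨(t ≫ g, ⟨f, hf⟩), ?_⟩
    show f • φ = Q.map (t ≫ g)
    rw [hψ]
    show f • (inv (Q.map s) ≫ Q.map g) = Q.map (t ≫ g)
    calc f • (inv (Q.map s) ≫ Q.map g) = Q.map (f • 𝟙 X) ≫ inv (Q.map s) ≫ Q.map g := by
          rw [Functor.map_smul, CategoryTheory.Functor.map_id, Linear.smul_comp, Category.id_comp]
      _ = Q.map (t ≫ g) := by rw [← ht, Functor.map_comp, Category.assoc, IsIso.hom_inv_id_assoc,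
          Functor.map_comp]
  · obtain ⟨X', s, hs, e⟩ := (MorphismProperty.map_eq_iff_precomp Q U.trW u v).1 h
    obtain ⟨f, hf, t, ht⟩ := exists_section S s (ObjectProperty.trW_monotone hle _ hs)
    refine ⟨⟨f, hf⟩, ?_⟩
    show f • u = f • v
    calc f • u = (t ≫ s) ≫ u := by rw [ht, Linear.smul_comp, Category.id_comp]
      _ = (t ≫ s) ≫ v := by rw [Category.assoc, Category.assoc, e]
      _ = f • v := by rw [ht, Linear.smul_comp, Category.id_comp]

end Groth.Agent.S19190
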