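import Groth.Statements.S19191
import Mathlib.CategoryTheory.Triangulated.Subcategory
import Mathlib.CategoryTheory.Localization.CalculusOfFractions.Preadditive
import Mathlib.RingTheory.Ideal.Basic
-- import your own Groth.Agent.* helpers here

set_option autoImplicit false
universe w v u v' u'
open CategoryTheory CategoryTheory.Limits CategoryTheory.Pretriangulated CategoryTheory.Triangulated
open CohDer

namespace Groth.Agent.S19191

open scoped ZeroObject

/-- Let `A` be a commutative ring, `T` an `A`-linear triangulated category (octahedron axiom included;
shift functors `A`-linear), `U` a thick subcategory of `T` (a property of objects containing zero,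
stable under shifts, extensions, isomorphisms and direct factors), and `Q : T ⥤ E` a localization of
`T` at the morphisms whose cone lies in `U` (the Verdier quotient `T/U`), where `E` is preadditive
and `A`-linear and `Q` is `A`-linear. For an object `X` of `T` the following two conditions are
equivalent: (i) `X` lies in `U`; (ii) for every maximal ideal `m` of `A` the image of `X` in the
category obtained from `T/U` by tensoring the morphism modules with `A_m` is zero, i.e. some element
of `A` outside `m` annihilates the identity of `Q X`. (The published statement also lists a third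
equivalent condition, phrased with idempotent completions of the localized categories; it is not
asserted here.) -/
theorem result
    {A : Type w} [CommRing A]
    {T : Type u} [Category.{v} T] [Preadditive T] [Linear A T] [HasZeroObject T] [HasShift T ℤ]
    [∀ n : ℤ, (shiftFunctor T n).Additive] [∀ n : ℤ, (shiftFunctor T n).Linear A]
    [Pretriangulated T] [IsTriangulated T]
    (U : ObjectProperty T) [U.IsTriangulated] [U.IsClosedUnderIsomorphisms] [U.IsStableUnderRetracts]
    {E : Type u'} [Category.{v'} E] [Preadditive E] [Linear A E]
    (Q : T ⥤ E) [Q.Additive] [Q.Linear A] [Q.IsLocalization U.trW] (X : T) :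
    U X ↔ ∀ m : Ideal A, m.IsMaximal → ∃ s : A, s ∉ m ∧ s • 𝟙 (Q.obj X) = 0 := by
  constructor
  · intro hX m hm
    refine ⟨1, fun h => hm.ne_top (m.eq_top_iff_one.2 h), ?_⟩
    rw [one_smul]
    have hW : U.trW (0 : X ⟶ X) → IsIso (Q.map (0 : X ⟶ X)) := Localization.inverts Q U.trW _
    have hd : U.trW (0 : (0 : T) ⟶ X) := by
      obtain ⟨Z, g, h, hd⟩ := Pretriangulated.distinguished_cocone_triangle (0 : (0 : T) ⟶ X)
      have : IsIso g := (Pretriangulated.Triangle.isZero₁_iff_isIso₂ _ hd).1 (isZero_zero T)
      exact ⟨Z, g, h, hd, U.prop_of_iso (asIso g) hX⟩
    have := Localization.inverts Q U.trW _ hd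
    rw [Functor.map_zero] at this
    exact (IsZero.of_iso (Q.map_isZero (isZero_zero T)) (asIso (0 : Q.obj (0 : T) ⟶ Q.obj X)).symm).eq_of_src _ _
  · intro h
    let I : Ideal A := { carrier := {s | s • 𝟙 (Q.obj X) = 0}
                         zero_mem' := zero_smul _ _
                         add_mem' := fun {a b} (ha : a • _ = 0) (hb : b • _ = 0) => by
                           show (a + b) • _ = 0
                           rw [add_smul, ha, hb, add_zero]
                         smul_mem' := fun c a (ha : a • _ = 0) => by
                           show (c * a) • _ = 0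
                           rw [mul_smul, ha, smul_zero] }
    have hI : I = ⊤ := by
      by_contra hne
      obtain ⟨m, hm, hle⟩ := Ideal.exists_le_maximal I hne
      obtain ⟨s, hs, hs0⟩ := h m hm
      exact hs (hle hs0)
    have h1 : (1 : A) ∈ I := hI ▸ trivial
    have h1' : Q.map (𝟙 X) = Q.map 0 := by
      rw [CategoryTheory.Functor.map_id, Functor.map_zero, ← one_smul A (𝟙 (Q.obj X))]
      exact h1
    obtain ⟨X', s, hs, e⟩ := (MorphismProperty.map_eq_iff_precomp Q U.trW _ _).1 h1'
    rw [Category.comp_id, comp_zero] at e
    obtain ⟨Z, g, k, hd, hZ⟩ := hs
    obtain ⟨r, hr⟩ := Pretriangulated.Triangle.yoneda_exact₂ _ hd (𝟙 X)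
      (by show s ≫ 𝟙 X = 0; rw [Category.comp_id, e])
    exact U.prop_of_retract { i := g, r := r, retract := hr.symm } hZ

end Groth.Agent.S19191
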