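import Groth.Statements.S19195
import Groth.Agent.FlatOpen.Descend
import Groth.Agent.EGA41Lib.RegFlat
import Groth.Agent.FlatMor.FlatAtBC

set_option autoImplicit false
set_option linter.style.haveILetI false
set_option maxHeartbeats 1600000
universe u
open TensorProduct
open RelS1

namespace Groth.Agent.S19195

open Function Groth.Agent.FlatOpen

/-- An element which is regular on the fibre of a flat module over a Noetherian ring kills nothing
in the localisations at primes above. -/
lemma exists_smul_eq_zero_of_fibre_regular {R P Q : Type u} [CommRing R] [IsNoetherianRing R]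
    [CommRing P] [IsNoetherianRing P] [Algebra R P] [AddCommGroup Q] [Module P Q] [Module R Q]
    [IsScalarTower R P Q] [Module.Finite P Q] [Module.Flat R Q] (P' : Ideal P) [P'.IsPrime] (a : P)
    (hreg : ∀ y : Q, a • y ∈ (P'.comap (algebraMap R P)).map (algebraMap R P) • (⊤ : Submodule P Q) →
      y ∈ (P'.comap (algebraMap R P)).map (algebraMap R P) • (⊤ : Submodule P Q))
    (y : Q) (hy : a • y = 0) : ∃ s ∉ P', s • y = 0 := by
  let q := P'.comap (algebraMap R P)
  let T := P'.primeCompl
  let Rq := Localization.AtPrime q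
  let B := Localization.AtPrime P'
  let N := LocalizedModule T Q
  let φ : Rq →+* B := Localization.localRingHom q P' (algebraMap R P) rfl
  letI : Algebra Rq B := φ.toAlgebra
  haveI : IsScalarTower R Rq B := IsScalarTower.of_algebraMap_eq fun r => by
    rw [IsScalarTower.algebraMap_apply R P B]
    exact (Localization.localRingHom_to_map q P' (algebraMap R P) rfl r).symm
  haveI : IsLocalHom (algebraMap Rq B) := Localization.isLocalHom_localRingHom q P' _ rfl
  letI : Module Rq N := Module.compHom N φ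
  haveI : IsScalarTower Rq B N := IsScalarTower.of_algebraMap_smul fun _ _ => rfl
  haveI : IsScalarTower R Rq N := IsScalarTower.of_algebraMap_smul fun r z => by
    show φ (algebraMap R Rq r) • z = r • z
    rw [Localization.localRingHom_to_map, algebraMap_smul, algebraMap_smul]
  haveI : Module.Flat R N := Groth.Agent.FlatMor.FlatAtBC.flat_localizedModule R T Q
  haveI : Module.Flat Rq N := (Module.flat_iff_of_isLocalization Rq q.primeCompl N).2 inferInstance
  haveI : IsNoetherianRing B := IsLocalization.isNoetherianRing T B inferInstance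
  haveI : Module.Finite B N :=
    Module.Finite.of_isLocalizedModule T (LocalizedModule.mkLinearMap T Q)
  set g := LocalizedModule.mkLinearMap T Q
  set qQ : Submodule P Q := q.map (algebraMap R P) • ⊤
  have hJ : (IsLocalRing.maximalIdeal Rq).map (algebraMap Rq B) • (⊤ : Submodule B N) =
      qQ.localized' B T g := by
    rw [Submodule.localized'_smul, Submodule.localized'_top, Ideal.localized'_eq_map,
      ← Localization.AtPrime.map_eq_maximalIdeal, Ideal.map_map, Ideal.map_map,
      ← IsScalarTower.algebraMap_eq, ← IsScalarTower.algebraMap_eq]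
  have hJmem : ∀ (w : Q) (t : T), IsLocalizedModule.mk' g w t ∈
      (IsLocalRing.maximalIdeal Rq).map (algebraMap Rq B) • (⊤ : Submodule B N) ↔
      ∃ u ∉ P', u • w ∈ qQ := by
    intro w t
    rw [hJ, Submodule.mem_localized']
    constructor
    · rintro ⟨m, hm, s, hs⟩
      rw [IsLocalizedModule.mk'_eq_mk'_iff] at hs
      obtain ⟨c, hc⟩ := hs
      refine ⟨(c : P) * s, (c * s : T).2, ?_⟩
      rw [mul_smul]
      have h' : (c : P) • (s : P) • w = (c : P) • (t : P) • m := by
        simpa [Submonoid.smul_def] using hc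
      rw [h']
      exact Submodule.smul_mem _ _ (Submodule.smul_mem _ _ hm)
    · rintro ⟨u, hu, hm⟩
      exact ⟨u • w, hm, ⟨u, hu⟩ * t, IsLocalizedModule.mk'_cancel_left g w ⟨u, hu⟩ t⟩
  have hquot : IsSMulRegular
      (N ⧸ ((IsLocalRing.maximalIdeal Rq).map (algebraMap Rq B) • (⊤ : Submodule B N)))
      (algebraMap P B a) := by
    refine isSMulRegular_quotient_iff_mem_of_smul_mem _ _ |>.2 fun z hz => ?_
    obtain ⟨⟨w, t⟩, rfl⟩ := IsLocalizedModule.mk'_surjective T g z
    simp only [Function.uncurry_apply_pair] at hz ⊢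
    rw [algebraMap_smul, ← IsLocalizedModule.mk'_smul, hJmem] at hz
    obtain ⟨u, hu, hm⟩ := hz
    exact (hJmem w t).2 ⟨u, hu, hreg _ (by rwa [smul_comm])⟩
  obtain ⟨h1, -⟩ := Groth.Agent.EGA41Lib.regular_and_flat_of_fibre (A := Rq) (algebraMap P B a) hquot
  have h0 : g y = g 0 := by
    rw [map_zero]
    refine h1 ?_
    show algebraMap P B a • g y = algebraMap P B a • 0
    rw [smul_zero, algebraMap_smul, ← map_smul, hy, map_zero]
  obtain ⟨c, hc⟩ := IsLocalizedModule.exists_of_eq (S := T) h0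
  exact ⟨c, c.2, by simpa [Submonoid.smul_def] using hc⟩

variable {n r : ℕ} {R₀ : Type u} [CommRing R₀]
  (Z₀ : Submodule (MvPolynomial (Fin n) R₀) (Vec n r R₀))

/-- The fibres of `Quot A Z₀`. -/
lemma exists_fibre_equiv (A K : Type u) [CommRing A] [CommRing K] [Algebra R₀ A] [Algebra R₀ K]
    [Algebra A K] [IsScalarTower R₀ A K] :
    ∃ θ : K ⊗[A] Quot A Z₀ ≃ₗ[K] Quot K Z₀, ∀ (c : K) (v : Vec n r A),
      θ (c ⊗ₜ[A] (Submodule.Quotient.mk v)) =
        c • Submodule.Quotient.mk (mapVec (R₀ := A) K v) := by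
  let e : K ⊗[A] Quot A Z₀ ≃ₗ[K] Quot K Z₀ :=
    ((AlgebraTensorModule.congr (LinearEquiv.refl K K) (quotEquiv A Z₀).symm).trans
      (AlgebraTensorModule.cancelBaseChange R₀ A K K (Vec n r R₀ ⧸ Z₀))).trans (quotEquiv K Z₀)
  refine ⟨e, fun c v => ?_⟩
  obtain ⟨w, rfl⟩ := (vecEquiv (R₀ := R₀) A).surjective v
  induction w with
  | zero => simp
  | add u w hu hw =>
    rw [map_add, Submodule.Quotient.mk_add, TensorProduct.tmul_add, map_add, hu, hw, map_add,
      Submodule.Quotient.mk_add, smul_add]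
  | tmul b u =>
    rw [vecEquiv_tmul]
    have h1 : (quotEquiv A Z₀).symm (Submodule.Quotient.mk (b • mapVec A u)) =
        b ⊗ₜ[R₀] (Submodule.Quotient.mk u) := by
      rw [LinearEquiv.symm_apply_eq, quotEquiv_tmul_mk, Submodule.Quotient.mk_smul]
    simp only [e, LinearEquiv.trans_apply, AlgebraTensorModule.congr_tmul, LinearEquiv.refl_apply,
      h1, AlgebraTensorModule.cancelBaseChange_tmul, quotEquiv_tmul_mk]
    rw [LinearMap.map_smul_of_tower, mapVec_trans, Submodule.Quotient.mk_smul, smul_assoc,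
      smul_comm]

/-- Membership in `ext A Z₀` is witnessed at every large enough stage. -/
lemma exists_stage_mem_ext (A : Type u) [CommRing A] [Algebra R₀ A] (w : Vec n r A)
    (hw : w ∈ ext A Z₀) : ∃ s : Finset A, ∀ R₃ : Subalgebra R₀ A, (s : Set A) ⊆ R₃ →
      ∃ w₃ ∈ ext R₃ Z₀, mapVec (R₀ := R₃) A w₃ = w := by
  classical
  induction hw using Submodule.span_induction with
  | mem w hw =>
    obtain ⟨z, hz, rfl⟩ := hw
    exact ⟨∅, fun R₃ _ => ⟨_, mapVec_mem_ext R₃ Z₀ hz, mapVec_trans A R₃ z⟩⟩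
  | zero => exact ⟨∅, fun R₃ _ => ⟨0, zero_mem _, map_zero _⟩⟩
  | add u w _ _ hu hw =>
    obtain ⟨s, hs⟩ := hu
    obtain ⟨t, ht⟩ := hw
    refine ⟨s ∪ t, fun R₃ h => ?_⟩
    obtain ⟨u₃, hu₃, rfl⟩ := hs R₃ fun x hx => h (Finset.mem_union_left _ hx)
    obtain ⟨w₃, hw₃, rfl⟩ := ht R₃ fun x hx => h (Finset.mem_union_right _ hx)
    exact ⟨u₃ + w₃, add_mem hu₃ hw₃, map_add _ _ _⟩
  | smul p w _ hw =>
    obtain ⟨s, hs⟩ := hw
    refine ⟨s ∪ p.coeffs, fun R₃ h => ?_⟩
    obtain ⟨w₃, hw₃, rfl⟩ := hs R₃ fun x hx => h (Finset.mem_union_left _ hx)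
    obtain ⟨p₃, rfl⟩ : ∃ p₃, MvPolynomial.map (algebraMap R₃ A) p₃ = p :=
      MvPolynomial.mem_range_map_iff_coeffs_subset.2 fun x hx =>
        ⟨⟨x, h (Finset.mem_union_right _ hx)⟩, rfl⟩
    exact ⟨p₃ • w₃, Submodule.smul_mem _ _ hw₃, mapVec_smul _ _ _⟩

/-- The kernel of the comparison with a fibre. -/
lemma one_tmul_eq_zero_iff {R P Q K : Type u} [CommRing R] [CommRing P] [CommRing K] [Algebra R P]
    [Algebra R K] [AddCommGroup Q] [Module P Q] [Module R Q] [IsScalarTower R P Q] [Module.Flat R Q]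
    (q : Ideal R) (hq : RingHom.ker (algebraMap R K) = q) (y : Q) :
    (1 : K) ⊗ₜ[R] y = 0 ↔ y ∈ q.map (algebraMap R P) • (⊤ : Submodule P Q) := by
  let ι : (R ⧸ q) →ₗ[R] K := Submodule.liftQ q (Algebra.linearMap R K) fun z hz => by
    rw [← hq] at hz; exact hz
  have hι : Injective ι := by
    refine LinearMap.ker_eq_bot.1 (Submodule.ker_liftQ_eq_bot _ _ _ fun z hz => ?_)
    rw [← hq]; exact hz
  have hinj := Module.Flat.rTensor_preserves_injective_linearMap (M := Q) ι hι
  have h1 : ι.rTensor Q ((1 : R ⧸ q) ⊗ₜ y) = (1 : K) ⊗ₜ y := by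
    rw [LinearMap.rTensor_tmul]
    exact congrArg (· ⊗ₜ y) (map_one (algebraMap R K))
  have h2 : TensorProduct.quotTensorEquivQuotSMul Q q ((1 : R ⧸ q) ⊗ₜ y) =
      Submodule.Quotient.mk y := TensorProduct.quotTensorEquivQuotSMul_mk_one_tmul (M := Q) q y
  rw [← h1, map_eq_zero_iff _ hinj,
    ← (TensorProduct.quotTensorEquivQuotSMul Q q).map_eq_zero_iff, h2,
    Submodule.Quotient.mk_eq_zero, Groth.Agent.EGA41Lib.smul_top_restrictScalars (B := P),
    Submodule.restrictScalars_mem]

/-- The step at a Noetherian stage. -/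
lemma stage_step (R A : Type u) [CommRing R] [CommRing A] [IsNoetherianRing R] [Algebra R₀ R]
    [Algebra R₀ A] [Algebra R A] [IsScalarTower R₀ R A] [Module.Flat R (Quot R Z₀)]
    (m : Ideal (MvPolynomial (Fin n) A)) [m.IsPrime] (a₃ : MvPolynomial (Fin n) R)
    (ha : ∀ (p : Ideal A) [p.IsPrime], IsSMulRegular (Quot p.ResidueField Z₀)
      (MvPolynomial.map (algebraMap A p.ResidueField) (MvPolynomial.map (algebraMap R A) a₃)))
    (y : Quot R Z₀) (hy : a₃ • y = 0) :
    ∃ s ∉ m.comap (MvPolynomial.map (algebraMap R A)), s • y = 0 := by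
  let p : Ideal A := m.comap (algebraMap A (MvPolynomial (Fin n) A))
  let P' : Ideal (MvPolynomial (Fin n) R) := m.comap (MvPolynomial.map (algebraMap R A))
  have hq : P'.comap (algebraMap R (MvPolynomial (Fin n) R)) = p.comap (algebraMap R A) := by
    show (m.comap _).comap _ = (m.comap _).comap _
    rw [Ideal.comap_comap, Ideal.comap_comap]
    congr 1
    exact RingHom.ext fun z => by simp [MvPolynomial.algebraMap_eq]
  let K := p.ResidueField
  haveI : IsScalarTower R₀ R K := IsScalarTower.of_algebraMap_eq fun z => by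
    rw [IsScalarTower.algebraMap_apply R₀ A K, IsScalarTower.algebraMap_apply R A K,
      ← IsScalarTower.algebraMap_apply R₀ R A]
  obtain ⟨θ, hθ⟩ := exists_fibre_equiv Z₀ R K
  have hK : RingHom.ker (algebraMap R K) = p.comap (algebraMap R A) := by
    rw [IsScalarTower.algebraMap_eq R A K, ← RingHom.comap_ker, Ideal.ker_algebraMap_residueField]
  have hker := fun y : Quot R Z₀ =>
    one_tmul_eq_zero_iff (P := MvPolynomial (Fin n) R) (K := K) _ hK y
  refine exists_smul_eq_zero_of_fibre_regular (R := R) P' a₃ (fun u hu => ?_) y hy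
  obtain ⟨u, rfl⟩ := Submodule.Quotient.mk_surjective _ u
  rw [hq] at hu ⊢
  rw [← hker] at hu ⊢
  apply θ.injective
  rw [map_zero, hθ, one_smul]
  refine isSMulRegular_iff_right_eq_zero_of_smul.1 (ha p) _ ?_
  have h2 := congrArg θ hu
  rw [map_zero, ← Submodule.Quotient.mk_smul, hθ, one_smul, mapVec_smul,
    Submodule.Quotient.mk_smul] at h2
  rw [MvPolynomial.map_map, ← IsScalarTower.algebraMap_eq]
  exact h2

/-- An element regular on all fibres of a flat model is regular on the model. -/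
lemma regular_quot [IsNoetherianRing R₀] (A : Type u) [CommRing A] [Algebra R₀ A]
    [Module.Flat A (Quot A Z₀)] (a : MvPolynomial (Fin n) A)
    (ha : ∀ (p : Ideal A) [p.IsPrime],
      IsSMulRegular (Quot p.ResidueField Z₀) (MvPolynomial.map (algebraMap A p.ResidueField) a))
    (x : Quot A Z₀) (hx : a • x = 0) : x = 0 := by
  classical
  obtain ⟨v, rfl⟩ := Submodule.Quotient.mk_surjective _ x
  rw [← Submodule.Quotient.mk_smul, Submodule.Quotient.mk_eq_zero] at hx
  obtain ⟨s, hs⟩ := exists_stage_mem_ext Z₀ A _ hx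
  obtain ⟨R₁, hR₁, hflat⟩ := exists_model_flat_all Z₀ A
  let c : Finset A := s ∪ a.coeffs ∪ Finset.univ.biUnion fun i => (v i).coeffs
  let R₃ : Subalgebra R₀ A := R₁ ⊔ Algebra.adjoin R₀ (c : Set A)
  have hc : ∀ z ∈ c, z ∈ R₃ := fun z hz =>
    (le_sup_right : _ ≤ R₃) (Algebra.subset_adjoin hz)
  haveI : IsNoetherianRing R₃ := isNoetherianRing_of_fg (hR₁.sup ⟨c, rfl⟩)
  letI : Algebra R₁ R₃ := (Subalgebra.inclusion le_sup_left).toRingHom.toAlgebra
  haveI : IsScalarTower R₀ R₁ R₃ := IsScalarTower.of_algebraMap_eq fun _ => rfl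
  haveI : Module.Flat R₃ (Quot R₃ Z₀) := flat_quot_of_tower Z₀ R₃ R₁
  let ψ := MvPolynomial.map (σ := Fin n) (algebraMap R₃ A)
  obtain ⟨a₃, ha₃⟩ : ∃ a₃, ψ a₃ = a := MvPolynomial.mem_range_map_iff_coeffs_subset.2 fun z hz =>
    ⟨⟨z, hc z (Finset.mem_union_left _ (Finset.mem_union_right _ hz))⟩, rfl⟩
  have hlift : ∀ i, ∃ p₃, ψ p₃ = v i := fun i =>
    MvPolynomial.mem_range_map_iff_coeffs_subset.2 fun z hz =>
      ⟨⟨z, hc z (Finset.mem_union_right _ (Finset.mem_biUnion.2 ⟨i, Finset.mem_univ i, hz⟩))⟩, rfl⟩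
  choose v₃ hv₃ using hlift
  have hv : mapVec (R₀ := R₃) A v₃ = v := funext hv₃
  obtain ⟨w₃, hw₃, hw₃e⟩ := hs R₃ fun z hz =>
    hc z (Finset.mem_union_left _ (Finset.mem_union_left _ hz))
  have hzero : a₃ • (Submodule.Quotient.mk v₃ : Quot R₃ Z₀) = 0 := by
    rw [← Submodule.Quotient.mk_smul, Submodule.Quotient.mk_eq_zero]
    convert hw₃
    apply mapVec_injective (R₀ := R₃) A Subtype.val_injective
    rw [mapVec_smul, hv, hw₃e]
    exact congrArg (· • v) ha₃
  let Ann : Ideal (MvPolynomial (Fin n) R₃) :=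
    LinearMap.ker (LinearMap.toSpanSingleton _ _ (Submodule.Quotient.mk v₃ : Quot R₃ Z₀))
  have htop : Ann.map ψ = ⊤ := by
    by_contra hne
    obtain ⟨m, hm, hle⟩ := Ideal.exists_le_maximal _ hne
    haveI := hm.isPrime
    obtain ⟨s', hs', hsv⟩ := stage_step Z₀ R₃ A m a₃ (fun p _ => by rw [← ha₃] at ha; exact ha p)
      _ hzero
    exact hs' (hle (Ideal.mem_map_of_mem ψ (show s' ∈ Ann from hsv)))
  have key : Ann.map ψ ≤
      LinearMap.ker (LinearMap.toSpanSingleton _ _ (Submodule.Quotient.mk v : Quot A Z₀)) := by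
    refine Ideal.map_le_iff_le_comap.2 fun t ht => ?_
    change t • (Submodule.Quotient.mk v₃ : Quot R₃ Z₀) = 0 at ht
    rw [← Submodule.Quotient.mk_smul, Submodule.Quotient.mk_eq_zero] at ht
    show ψ t • (Submodule.Quotient.mk v : Quot A Z₀) = 0
    rw [← Submodule.Quotient.mk_smul, Submodule.Quotient.mk_eq_zero, ← ext_ext A Z₀ R₃, ← hv,
      ← mapVec_smul]
    exact mapVec_mem_ext A _ ht
  have h1 := key (htop ▸ Submodule.mem_top : (1 : MvPolynomial (Fin n) A) ∈ Ann.map ψ)
  simpa using h1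

/-- Regularity of `π a'` on a fibre of `M` gives regularity of `a'` on the fibre of the model. -/
lemma fibre_model (A B M K : Type u) [CommRing A] [CommRing B] [CommRing K] [Algebra A B]
    [Algebra R₀ A] [Algebra R₀ K] [Algebra A K] [IsScalarTower R₀ A K] [AddCommGroup M] [Module B M]
    [Module A M] [IsScalarTower A B M] (π : MvPolynomial (Fin n) A →ₐ[A] B)
    (E : Quot A Z₀ ≃ₗ[A] M) (hE : ∀ p x, E (p • x) = π p • E x) (a' : MvPolynomial (Fin n) A)
    (hreg : IsSMulRegular (M ⊗[A] K) (π a')) :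
    IsSMulRegular (Quot K Z₀) (MvPolynomial.map (algebraMap A K) a') := by
  obtain ⟨θ, hθ⟩ := exists_fibre_equiv Z₀ A K
  let ε : Quot A Z₀ ⊗[A] K ≃ₗ[A] M ⊗[A] K := TensorProduct.congr E (LinearEquiv.refl A K)
  have hε : ∀ z, ε (a' • z) = π a' • ε z := by
    intro z
    induction z with
    | zero => simp
    | tmul x c => simp [ε, TensorProduct.smul_tmul', hE]
    | add u w hu hw => simp only [smul_add, map_add, hu, hw]
  let τ := TensorProduct.comm A (Quot A Z₀) K
  have hθ' : ∀ z, θ (τ (a' • z)) = MvPolynomial.map (algebraMap A K) a' • θ (τ z) := by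
    intro z
    induction z with
    | zero => simp
    | add u w hu hw => simp only [smul_add, map_add, hu, hw]
    | tmul x c =>
      obtain ⟨v, rfl⟩ := Submodule.Quotient.mk_surjective _ x
      rw [TensorProduct.smul_tmul', ← Submodule.Quotient.mk_smul]
      simp only [τ, TensorProduct.comm_tmul, hθ, mapVec_smul]
      rw [Submodule.Quotient.mk_smul, smul_comm]
  rw [isSMulRegular_iff_right_eq_zero_of_smul] at hreg ⊢
  intro y hy
  obtain ⟨z, rfl⟩ := θ.surjective y
  obtain ⟨w, rfl⟩ := τ.surjective z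
  rw [← hθ', LinearEquiv.map_eq_zero_iff, LinearEquiv.map_eq_zero_iff] at hy
  have h2 := hreg (ε w) (by rw [← hε, hy, map_zero])
  rw [LinearEquiv.map_eq_zero_iff] at h2
  rw [h2, map_zero, map_zero]

/-- Regularity on a fibre from the associated primes of the fibre. -/
lemma fibre_regular {A B M : Type u} [CommRing A] [CommRing B] [Algebra A B]
    [Algebra.FiniteType A B] [AddCommGroup M] [Module B M] [Module A M] [IsScalarTower A B M]
    [Module.Finite B M] (p : Ideal A) [p.IsPrime]
    (hS1 : associatedPrimes (B ⊗[A] p.ResidueField) ((B ⊗[A] p.ResidueField) ⊗[B] M) ⊆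
      (Module.annihilator (B ⊗[A] p.ResidueField) ((B ⊗[A] p.ResidueField) ⊗[B] M)).minimalPrimes)
    (a : B)
    (ha : ∀ P ∈ (Module.annihilator (B ⊗[A] p.ResidueField)
      ((B ⊗[A] p.ResidueField) ⊗[B] M)).minimalPrimes, a ⊗ₜ[A] (1 : p.ResidueField) ∉ P) :
    IsSMulRegular (M ⊗[A] p.ResidueField) a := by
  let K := p.ResidueField
  let F := B ⊗[A] K
  haveI : IsNoetherianRing F :=
    haveI : IsNoetherianRing (K ⊗[A] B) := Algebra.FiniteType.isNoetherianRing K (K ⊗[A] B)
    isNoetherianRing_of_ringEquiv _ (Algebra.TensorProduct.comm A K B).toRingEquiv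
  let e : F ⊗[B] M ≃ₗ[B] M ⊗[A] K :=
    (TensorProduct.comm B F M).trans (AlgebraTensorModule.cancelBaseChange A B B M K)
  have hreg : ∀ z : F ⊗[B] M, (a ⊗ₜ[A] (1 : K) : F) • z = 0 → z = 0 := by
    intro z hz
    by_contra hz0
    have hmem : (a ⊗ₜ[A] (1 : K) : F) ∈ ⋃ P ∈ associatedPrimes F (F ⊗[B] M), (P : Set F) := by
      rw [biUnion_associatedPrimes_eq_zero_divisors]
      exact ⟨z, hz0, hz⟩
    obtain ⟨P, hP, haP⟩ := Set.mem_iUnion₂.1 hmem
    exact ha P (hS1 hP) haP
  intro z w h
  apply e.symm.injective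
  rw [← sub_eq_zero]
  apply hreg
  rw [smul_sub, sub_eq_zero]
  show algebraMap B F a • e.symm z = algebraMap B F a • e.symm w
  rw [algebraMap_smul, algebraMap_smul, ← map_smul, ← map_smul]
  exact congrArg e.symm h



/-- The model is regular when all fibres are. -/
lemma main_step [IsNoetherianRing R₀] (A B M : Type u) [CommRing A] [CommRing B] [Algebra A B]
    [Algebra R₀ A] [AddCommGroup M] [Module B M] [Module A M] [IsScalarTower A B M]
    [Module.Flat A (Quot A Z₀)] (π : MvPolynomial (Fin n) A →ₐ[A] B) (E : Quot A Z₀ ≃ₗ[A] M)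
    (hE : ∀ p x, E (p • x) = π p • E x) (a' : MvPolynomial (Fin n) A)
    (h : ∀ (p : Ideal A) [p.IsPrime], IsSMulRegular (M ⊗[A] p.ResidueField) (π a'))
    (x : Quot A Z₀) (hx : a' • x = 0) : x = 0 :=
  regular_quot Z₀ A a' (fun p _ => fibre_model Z₀ A B M p.ResidueField π E hE a' (h p)) x hx

/-- Let A be a commutative ring, B a finitely presented A-algebra and M a finitely presented B-module
which is flat over A. Suppose that for every prime p of A, with residue field κ(p), the fibre module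
(B ⊗_A κ(p)) ⊗_B M over the fibre ring B ⊗_A κ(p) satisfies Serre's condition (S_1) in the form:
each of its associated primes is a minimal prime of its annihilator. Let a be an element of B whose
image a ⊗ 1 in every fibre ring B ⊗_A κ(p) lies in no minimal prime of the annihilator of the fibre
module. Then a is a non-zero-divisor on M. (Since all hypotheses are preserved by base change of A
and by passing to affine opens, this expresses that a flat finitely presented sheaf with (S_1)
fibres is pure relative to the base after every base change. The published statement is an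
equivalence for sheaves on a locally finitely presented morphism, quantified over all base changes;
this row states its direct implication in affine form.) -/
theorem result (A B M : Type u) [CommRing A] [CommRing B] [Algebra A B]
    [Algebra.FinitePresentation A B] [AddCommGroup M] [Module B M] [Module A M]
    [IsScalarTower A B M] [Module.FinitePresentation B M] [Module.Flat A M]
    (hS1 : ∀ (p : Ideal A) [p.IsPrime],
      associatedPrimes (B ⊗[A] p.ResidueField) ((B ⊗[A] p.ResidueField) ⊗[B] M) ⊆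
        (Module.annihilator (B ⊗[A] p.ResidueField) ((B ⊗[A] p.ResidueField) ⊗[B] M)).minimalPrimes)
    (a : B)
    (ha : ∀ (p : Ideal A) [p.IsPrime],
      ∀ P ∈ (Module.annihilator (B ⊗[A] p.ResidueField) ((B ⊗[A] p.ResidueField) ⊗[B] M)).minimalPrimes,
        a ⊗ₜ[A] (1 : p.ResidueField) ∉ P) :
    IsSMulRegular M a := by
  obtain ⟨n, r, R₀, Z₀, π, E, hR₀, hπ, hE⟩ :=
    Groth.Agent.FlatOpen.exists_presentation_model A B M
  haveI : IsNoetherianRing R₀ := isNoetherianRing_of_fg hR₀
  haveI : Module.Flat A (Groth.Agent.FlatOpen.Quot A Z₀) := Module.Flat.of_linearEquiv E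
  obtain ⟨a', rfl⟩ := hπ a
  refine isSMulRegular_iff_right_eq_zero_of_smul.2 fun m hm => ?_
  obtain ⟨x, rfl⟩ := E.surjective m
  rw [← hE] at hm
  have hx : a' • x = 0 := E.injective (hm.trans E.map_zero.symm)
  rw [main_step Z₀ A B M π E hE a'
    (fun p _ => fibre_regular p (hS1 p) (π a') (ha p)) x hx, map_zero]

end Groth.Agent.S19195
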