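import Groth.Statements.S19196
import Mathlib
-- import your own Groth.Agent.* helpers here

set_option autoImplicit false
universe u
open RelS1

namespace Groth.Agent.S19196

/-- Let R be a Noetherian commutative ring and N a finitely generated R-module which fails Serre's
condition (S_1), in the sense that some associated prime of N is not a minimal prime of the
annihilator of N. Then there exist an element a of R lying in no minimal prime of the annihilator of
N and a nonzero element b of N with a • b = 0; thus the basic open set D(a) meets the support of N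
densely while restriction to it is not injective on N. -/
theorem result (R N : Type u) [CommRing R] [IsNoetherianRing R]
    [AddCommGroup N] [Module R N] [Module.Finite R N]
    (h : ¬ associatedPrimes R N ⊆ (Module.annihilator R N).minimalPrimes) :
    ∃ (a : R) (b : N), (∀ P ∈ (Module.annihilator R N).minimalPrimes, a ∉ P) ∧ b ≠ 0 ∧ a • b = 0 := by
  classical
  obtain ⟨P, hP, hPmin⟩ := Set.not_subset.mp h
  obtain ⟨hPp, x, hx⟩ := isAssociatedPrime_iff.mp hP
  have hle : Module.annihilator R N ≤ P := by
    intro r hr
    rw [hx, Submodule.mem_colon_singleton, Submodule.mem_bot]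
    exact Module.mem_annihilator.mp hr x
  have hfin := (Module.annihilator R N).finite_minimalPrimes_of_isNoetherianRing
  by_cases hsub : (P : Set R) ⊆ ⋃ Q ∈ (hfin.toFinset : Set (Ideal R)), (Q : Set R)
  · exfalso
    obtain ⟨Q, hQ, hPQ⟩ := (Ideal.subset_union_prime (f := fun Q : Ideal R => Q) ⊥ ⊥ (fun Q hQ _ _ => by
      exact ((hfin.mem_toFinset).mp hQ).1.1)).mp hsub
    have hQ' := (hfin.mem_toFinset).mp hQ
    have : P = Q := le_antisymm hPQ (hQ'.2 ⟨hPp, hle⟩ hPQ)
    exact hPmin (this ▸ hQ')
  · obtain ⟨a, haP, ha⟩ := Set.not_subset.mp hsub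
    refine ⟨a, x, ?_, ?_, ?_⟩
    · intro Q hQ haQ
      exact ha (Set.mem_biUnion ((hfin.mem_toFinset).mpr hQ) haQ)
    · rintro rfl
      apply hPp.ne_top
      rw [hx]; simp
    · simpa [hx, Submodule.mem_colon_singleton] using haP

end Groth.Agent.S19196
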