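import Groth.Statements.S19197
import Groth.Agent.CAlgA.RelSyzygy
import Groth.Agent.FlatOpen.FibreAPI
import Groth.Agent.RegLoc.PD
import Mathlib
-- import your own Groth.Agent.* helpers here

set_option autoImplicit false
universe u
open TensorProduct CategoryTheory
open RelS1

namespace Groth.Agent.S19197

/-- The local ring of the fibre. -/
abbrev FL {B : Type u} [CommRing B] (I : Ideal B) (Q : Ideal B) [Q.IsPrime] :=
  Localization.AtPrime Q ⧸ I.map (algebraMap B (Localization.AtPrime Q))

variable {A B : Type u} [CommRing A] [CommRing B] [Algebra A B]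

/-- The prime of `A` under `Q`, extended to `B`. -/
abbrev fI (A : Type u) {B : Type u} [CommRing A] [CommRing B] [Algebra A B] (Q : Ideal B) : Ideal B :=
  (Q.comap (algebraMap A B)).map (algebraMap A B)

/-- Fibrewise freeness gives freeness. -/
lemma mem_freeLocus_iff [Algebra.FinitePresentation A B] (K : Type u) [AddCommGroup K] [Module B K] [Module A K]
    [IsScalarTower A B K] [Module.FinitePresentation B K] [Module.Flat A K] (P : PrimeSpectrum B) :
    P ∈ Module.freeLocus B K ↔
      Module.Projective (FL (fI A P.asIdeal) P.asIdeal) ((FL (fI A P.asIdeal) P.asIdeal) ⊗[B] K) := by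
  let Q := P.asIdeal
  let BQ := Localization.AtPrime Q
  let I := fI A Q
  let L := FL I Q
  let e : BQ ⊗[B] K ≃ₗ[BQ] LocalizedModule Q.primeCompl K :=
    (IsLocalizedModule.isBaseChange Q.primeCompl BQ (LocalizedModule.mkLinearMap Q.primeCompl K)).equiv
  constructor
  · intro h
    haveI : Module.Free BQ (LocalizedModule Q.primeCompl K) := h
    haveI : Module.Free BQ (BQ ⊗[B] K) := Module.Free.of_equiv e.symm
    haveI : Module.Projective L (L ⊗[BQ] (BQ ⊗[B] K)) := inferInstance
    exact Module.Projective.of_equiv (AlgebraTensorModule.cancelBaseChange B BQ L L K)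
  · intro h
    haveI : Module.Projective L (L ⊗[B] K) := h
    let E := (B ⧸ I) ⊗[B] BQ
    haveI : Module.Flat (B ⧸ I) E := inferInstance
    let g : BQ →ₐ[B] E := Algebra.TensorProduct.includeRight
    have hg : ∀ a ∈ I.map (algebraMap B BQ), g a = 0 := by
      intro a ha
      have : I.map (algebraMap B BQ) ≤ RingHom.ker g.toRingHom := Ideal.map_le_iff_le_comap.2 fun b hb => by
        rw [Ideal.mem_comap, RingHom.mem_ker]
        show g (algebraMap B BQ b) = 0
        rw [AlgHom.commutes, IsScalarTower.algebraMap_apply B (B ⧸ I) E, Ideal.Quotient.algebraMap_eq,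
          Ideal.Quotient.eq_zero_iff_mem.2 hb, map_zero]
      exact this ha
    let χ : L →ₐ[B] E := Ideal.Quotient.liftₐ _ g hg
    letI : Algebra L E := χ.toRingHom.toAlgebra
    haveI : IsScalarTower B L E := IsScalarTower.of_algebraMap_eq fun b => (χ.commutes b).symm
    haveI : Module.Flat E (E ⊗[L] (L ⊗[B] K)) := inferInstance
    haveI : Module.Flat E (E ⊗[B] K) :=
      Module.Flat.of_linearEquiv (AlgebraTensorModule.cancelBaseChange B L E E K).symm
    haveI : Module.Flat (B ⧸ I) (E ⊗[B] K) := Module.Flat.trans (B ⧸ I) E _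
    have hB : FlatCA.FlatAt B Q K :=
      Groth.Agent.FlatOpen.fibre_flat_criterion A B B K Q
        (Groth.Agent.FlatMor.FlatAtBC.flat_localizedModule A Q.primeCompl K) I rfl
        (Module.Flat.of_linearEquiv
          ((AlgebraTensorModule.congr (LinearEquiv.refl (B ⧸ I) (B ⧸ I)) (e.symm.restrictScalars B)).trans
            (AlgebraTensorModule.assoc B B (B ⧸ I) (B ⧸ I) BQ K).symm))
    haveI : Module.Flat B (LocalizedModule Q.primeCompl K) := hB
    haveI : Module.Flat BQ (LocalizedModule Q.primeCompl K) :=
      (Module.flat_iff_of_isLocalization BQ Q.primeCompl (LocalizedModule Q.primeCompl K)).mpr inferInstance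
    show Module.Free BQ (LocalizedModule Q.primeCompl K)
    haveI : Module.Flat BQ (BQ ⊗[B] K) := Module.Flat.of_linearEquiv e
    haveI : Module.Free BQ (BQ ⊗[B] K) := Module.free_of_flat_of_isLocalRing
    exact Module.Free.of_equiv e

/-- Fibre injectivity for a presentation of a relatively flat module. -/
lemma injective_baseChange_fl {F M : Type u} [AddCommGroup F] [Module B F] [Module A F] [IsScalarTower A B F]
    [AddCommGroup M] [Module B M] [Module A M] [IsScalarTower A B M] [Module.Flat A M]
    (q : F →ₗ[B] M) (hq : Function.Surjective q) (Q : Ideal B) [Q.IsPrime] :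
    Function.Injective ((LinearMap.ker q).subtype.baseChange (FL (fI A Q) Q)) := by
  let p := Q.comap (algebraMap A B)
  let I := fI A Q
  let L := FL I Q
  let T := B ⧸ I
  haveI : IsLocalization (Algebra.algebraMapSubmonoid T Q.primeCompl) L := inferInstance
  haveI : Module.Flat T L := IsLocalization.flat L (Algebra.algebraMapSubmonoid T Q.primeCompl)
  let K := LinearMap.ker q
  have hz : ∀ (R : Type u) [CommRing R] (J : Ideal R) (X : Type u) [AddCommGroup X] [Module R X] (x : X),
      ((1 : R ⧸ J) ⊗ₜ[R] x = 0) ↔ x ∈ J • (⊤ : Submodule R X) := fun R _ J X _ _ x => by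
    rw [← (TensorProduct.quotTensorEquivQuotSMul X J).map_eq_zero_iff, ← map_one (Ideal.Quotient.mk J),
      TensorProduct.quotTensorEquivQuotSMul_mk_tmul, one_smul, Submodule.Quotient.mk_eq_zero]
  have hsm : ∀ (X : Type u) [AddCommGroup X] [Module B X] [Module A X] [IsScalarTower A B X] (x : X),
      x ∈ I • (⊤ : Submodule B X) ↔ x ∈ p • (⊤ : Submodule A X) := fun X _ _ _ _ x => by
    show x ∈ (p.map (algebraMap A B) • (⊤ : Submodule B X)).restrictScalars A ↔ _
    rw [Ideal.smul_restrictScalars, Submodule.restrictScalars_top]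
  have hT : Function.Injective (K.subtype.baseChange T) := by
    rw [injective_iff_map_eq_zero]
    intro w hw
    obtain ⟨x, rfl⟩ : ∃ x : K, (1 : T) ⊗ₜ[B] x = w := TensorProduct.mk_surjective B K T Ideal.Quotient.mk_surjective w
    rw [LinearMap.baseChange_tmul, hz, hsm, ← hz A p] at hw
    rw [hz, hsm, ← hz A p]
    exact LinearMap.lTensor_injective_of_exact_of_flat (q.restrictScalars A) hq (K.subtype.restrictScalars A)
      K.subtype_injective (LinearMap.exact_subtype_ker_map q) (A ⧸ p) (hw.trans (map_zero _).symm)
  let cK := AlgebraTensorModule.cancelBaseChange B T L L K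
  let cF := AlgebraTensorModule.cancelBaseChange B T L L F
  have hnat : ∀ w, K.subtype.baseChange L (cK w) = cF ((K.subtype.baseChange T).lTensor L w) := by
    intro w
    induction w with
    | zero => simp
    | tmul l z =>
      induction z with
      | zero => simp
      | tmul t x => simp [cK, cF]
      | add a b ha hb => simp only [TensorProduct.tmul_add, map_add, ha, hb]
    | add a b ha hb => simp only [map_add, ha, hb]
  intro x y hxy
  obtain ⟨x, rfl⟩ := cK.surjective x
  obtain ⟨y, rfl⟩ := cK.surjective y
  rw [hnat, hnat] at hxy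
  exact congrArg cK (Module.Flat.lTensor_preserves_injective_linearMap (M := L) _ hT (cF.injective hxy))

/-- The locus where the fibre projective dimension is at most `n` is open. -/
lemma isOpen_pd [Algebra.FinitePresentation A B] [Module.Flat A B] (n : ℕ) :
    ∀ (M : Type u) [AddCommGroup M] [Module B M] [Module A M]
    [IsScalarTower A B M] [Module.FinitePresentation B M] [Module.Flat A M],
    IsOpen {P : PrimeSpectrum B | HasProjectiveDimensionLE
      (ModuleCat.of (FL (fI A P.asIdeal) P.asIdeal) ((FL (fI A P.asIdeal) P.asIdeal) ⊗[B] M)) n} := by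
  induction n with
  | zero =>
    intro M _ _ _ _ _ _
    simp only [Groth.Agent.RegLoc.PD.pd_zero_iff, ← mem_freeLocus_iff (A := A) M]
    exact Module.isOpen_freeLocus
  | succ n ih =>
    intro M _ _ _ _ _ _
    obtain ⟨r, q, hq, hfp⟩ := Groth.Agent.CAlgA.RelSyzygy.exists_fp_syzygy A B M
    haveI : Module.Flat A (Fin r → B) := Module.Flat.trans A B (Fin r → B)
    haveI : Module.Flat A (LinearMap.ker q) :=
      Groth.Agent.CAlgA.RelSyzygy.flat_ker (q.restrictScalars A) hq
    convert ih (LinearMap.ker q) using 1
    ext P
    let L := FL (fI A P.asIdeal) P.asIdeal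
    let e := Groth.Agent.RegLoc.PD.kerBaseChangeEquiv L q hq (injective_baseChange_fl (A := A) q hq P.asIdeal)
    rw [Set.mem_ofPred_eq, Set.mem_ofPred_eq,
      Groth.Agent.RegLoc.PD.pd_shift (q.baseChange L) (Groth.Agent.RegLoc.PD.baseChange_surjective L q hq) n]
    exact ⟨Groth.Agent.RegLoc.PD.pd_congr e.symm n, Groth.Agent.RegLoc.PD.pd_congr e n⟩

/-- The fibre module vanishes exactly off the support. -/
lemma isZero_iff_notMem_support (M : Type u) [AddCommGroup M] [Module B M] [Module.Finite B M] (P : PrimeSpectrum B) :
    Limits.IsZero (ModuleCat.of (FL (fI A P.asIdeal) P.asIdeal) ((FL (fI A P.asIdeal) P.asIdeal) ⊗[B] M)) ↔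
      P ∉ Module.support B M := by
  let Q := P.asIdeal
  let BQ := Localization.AtPrime Q
  let L := FL (fI A Q) Q
  rw [Module.notMem_support_iff, ← (LocalizedModule.equivTensorProduct Q.primeCompl M).symm.toEquiv.subsingleton_congr,
    ModuleCat.isZero_of_iff_subsingleton]
  constructor
  · intro h
    haveI := h
    haveI : Subsingleton (L ⊗[BQ] (BQ ⊗[B] M)) :=
      (AlgebraTensorModule.cancelBaseChange B BQ L L M).injective.subsingleton
    have hne : (fI A Q).map (algebraMap B BQ) ≤ IsLocalRing.maximalIdeal BQ :=
      Ideal.map_le_iff_le_comap.2 (by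
        show fI A Q ≤ (IsLocalRing.maximalIdeal BQ).under B
        rw [IsLocalization.AtPrime.comap_maximalIdeal BQ Q]
        exact Ideal.map_comap_le)
    haveI : Subsingleton (IsLocalRing.ResidueField BQ ⊗[BQ] (BQ ⊗[B] M)) := by
      refine (LinearMap.rTensor_surjective (BQ ⊗[B] M) (g := Submodule.factor hne) (Submodule.factor_surjective hne)).subsingleton
    exact IsLocalRing.subsingleton_tensorProduct.1 ‹Subsingleton (IsLocalRing.ResidueField BQ ⊗[BQ] (BQ ⊗[B] M))›
  · intro h
    haveI := h
    haveI : Subsingleton (L ⊗[BQ] (BQ ⊗[B] M)) := inferInstance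
    exact (AlgebraTensorModule.cancelBaseChange B BQ L L M).symm.injective.subsingleton

/-- Equal ideals give equal projective dimensions. -/
lemma pd_congr_ideal (M : Type u) [AddCommGroup M] [Module B M] {R : Type u} [CommRing R] [Algebra B R]
    {J J' : Ideal R} (h : J = J') :
    projectiveDimension (ModuleCat.of (R ⧸ J) ((R ⧸ J) ⊗[B] M)) =
      projectiveDimension (ModuleCat.of (R ⧸ J') ((R ⧸ J') ⊗[B] M)) := by
  subst h
  rfl

/-- In affine form, let A be a commutative ring, B a finitely presented A-algebra which is flat over A,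
and M a finitely presented B-module which is flat over A. For a prime P of B lying over the prime p
of A, let B_P/pB_P be the local ring of the fibre at P and M_P/pM_P = (B_P/pB_P) ⊗_B M the fibre
stalk module. Then the function sending P to the projective dimension of M_P/pM_P over B_P/pB_P
(valued in WithBot ℕ∞, the zero module having dimension ⊥) is upper semicontinuous on Spec B: for
every bound, the set of P where the fibre projective dimension is below the bound is open. -/
theorem result (A B M : Type u) [CommRing A] [CommRing B] [Algebra A B]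
    [Algebra.FinitePresentation A B] [Module.Flat A B] [AddCommGroup M] [Module B M] [Module A M]
    [IsScalarTower A B M] [Module.FinitePresentation B M] [Module.Flat A M] :
    UpperSemicontinuous fun P : PrimeSpectrum B => projectiveDimension (ModuleCat.of
      (Localization.AtPrime P.asIdeal ⧸ (P.asIdeal.under A).map (algebraMap A (Localization.AtPrime P.asIdeal)))
      ((Localization.AtPrime P.asIdeal ⧸ (P.asIdeal.under A).map (algebraMap A (Localization.AtPrime P.asIdeal))) ⊗[B] M)) := by
  have key : (fun P : PrimeSpectrum B => projectiveDimension (ModuleCat.of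
      (Localization.AtPrime P.asIdeal ⧸ (P.asIdeal.under A).map (algebraMap A (Localization.AtPrime P.asIdeal)))
      ((Localization.AtPrime P.asIdeal ⧸ (P.asIdeal.under A).map (algebraMap A (Localization.AtPrime P.asIdeal))) ⊗[B] M))) =
      fun P => projectiveDimension
        (ModuleCat.of (FL (fI A P.asIdeal) P.asIdeal) ((FL (fI A P.asIdeal) P.asIdeal) ⊗[B] M)) := by
    funext P
    refine pd_congr_ideal M ?_
    rw [fI, Ideal.map_map, ← IsScalarTower.algebraMap_eq]
  rw [key, upperSemicontinuous_iff_isOpen_preimage]
  have hnat : ∀ n : ℕ, IsOpen {P : PrimeSpectrum B | projectiveDimension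
      (ModuleCat.of (FL (fI A P.asIdeal) P.asIdeal) ((FL (fI A P.asIdeal) P.asIdeal) ⊗[B] M)) < n} := by
    intro n
    simp only [projectiveDimension_lt_iff]
    cases n with
    | zero =>
      simp only [hasProjectiveDimensionLT_zero_iff_isZero, isZero_iff_notMem_support (A := A) M]
      exact (Module.isClosed_support (R := B) (M := M)).isOpen_compl
    | succ n => exact isOpen_pd n M
  intro y
  induction y with
  | bot => simp
  | coe y =>
    induction y with
    | top =>
      convert isOpen_iUnion hnat using 1
      ext P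
      simp only [Set.mem_preimage, Set.mem_Iio, Set.mem_iUnion, Set.mem_ofPred_eq]
      refine ⟨fun h => ?_, fun ⟨n, hn⟩ => lt_of_lt_of_le hn le_top⟩
      obtain ⟨n, hn⟩ := (projectiveDimension_ne_top_iff _).1 h.ne
      exact ⟨n + 1, projectiveDimension_lt_iff.2 hn⟩
    | coe n => exact hnat n

end Groth.Agent.S19197
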