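import Groth.Statements.S1920
import Groth.Agent.CycLib.DevC1Comm

set_option autoImplicit false
universe u
open CategoryTheory AlgebraicGeometry
open Cyc

namespace Groth.Agent.S1920

/-- Let X be integral with δ(η) = n, L and N invertible O_X-modules with nonzero rational sections s ∈
L(η), t ∈ N(η), α = div_L(s), β = div_N(t). Then c_1(N) ∩ α ∼_rat c_1(L) ∩ β as (n − 2)-cycles, for
any choices of nonzero rational sections used to compute the two sides. Here L(ξ) = L_ξ/𝔪_ξ L_ξ is
the space of rational sections of L on the closure of ξ, div_{L|W}(s) and c_1(L) ∩ α are computed as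
coefficient functions from chosen nonzero rational sections (Cyc.secDivFun, Cyc.c1CapFun), and
results are compared up to rational equivalence for any cycles with those coefficients. A pair (X,
δ) with Cyc.IsSetup plays the role of a scheme locally of finite type over a fixed base with a
dimension function (X locally Noetherian with universally catenary local rings, δ a dimension
function), and Cyc.DeltaCompat records that the dimension function upstairs is the induced one. -/
theorem result (X : Scheme.{u}) [IsIntegral X] (δ : X → ℤ) (hX : Cyc.IsSetup X δ) (n : ℤ) (hn : δ (genericPoint X) = n) (L N : X.Modules) (hL : PicF.IsInvertible L) (hN : PicF.IsInvertible N) (s : Cyc.secFibre L (genericPoint X)) (hs : s ≠ 0) (t : Cyc.secFibre N (genericPoint X)) (ht : t ≠ 0) (u : (ξ : X) → Cyc.secFibre N ξ) (hu : ∀ ξ, u ξ ≠ 0) (v : (ξ : X) → Cyc.secFibre L ξ) (hv : ∀ ξ, v ξ ≠ 0) (γ₁ γ₂ : AlgebraicCycle X ℤ) (h₁ : ⇑γ₁ = Cyc.c1CapFun δ N (Cyc.secDivFun δ L (genericPoint X) s) u) (h₂ : ⇑γ₂ = Cyc.c1CapFun δ L (Cyc.secDivFun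 δ N (genericPoint X) t) v) : Cyc.RatEquiv δ (n - 2) γ₁ γ₂ := by
  haveI := hX.1
  classical
  let η := genericPoint X
  let a : X → ℤ := Pi.single η 1
  have ha : CycLib.Dev.IsCyc δ ((n - 2) + 1 + 1) a :=
    ⟨fun U _ => ((Set.finite_singleton η).subset Pi.support_single_subset).inter_of_right _,
      fun x hx => Pi.single_eq_of_ne (fun e => hx (by rw [e, hn]; ring)) _⟩
  let sL : (ξ : X) → Cyc.secFibre L ξ := Function.update v η s
  let sN : (ξ : X) → Cyc.secFibre N ξ := Function.update u η t
  have hsL : ∀ ξ, sL ξ ≠ 0 := fun ξ => by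
    by_cases h : ξ = η
    · subst h; simpa [sL] using hs
    · simpa [sL, Function.update_of_ne h] using hv ξ
  have hsN : ∀ ξ, sN ξ ≠ 0 := fun ξ => by
    by_cases h : ξ = η
    · subst h; simpa [sN] using ht
    · simpa [sN, Function.update_of_ne h] using hu ξ
  have e1 : Cyc.c1CapFun δ L a sL = Cyc.secDivFun δ L η s := funext fun x => by
    rw [Cyc.c1CapFun, finsum_eq_single _ η fun ξ hξ => by simp [a, hξ]]
    simp [a, sL]
  have e2 : Cyc.c1CapFun δ N a sN = Cyc.secDivFun δ N η t := funext fun x => by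
    rw [Cyc.c1CapFun, finsum_eq_single _ η fun ξ hξ => by simp [a, hξ]]
    simp [a, sN]
  rw [Cyc.RatEquiv, CycLib.Dev.ratEquivZero_iff hX.2.2, show ⇑(γ₁ - γ₂) = ⇑γ₁ - ⇑γ₂ from rfl, h₁, h₂]
  have := CycLib.Dev.c1_comm hX.2.2 hN hL ha u sN sL v hu hsN hsL hv
  rwa [e1, e2] at this

end Groth.Agent.S1920
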