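import Groth.Statements.S19203
import Groth.Agent.BigVol.SemiBase
import Groth.Agent.DimOneAmple.AmpleOfGG
-- import your own Groth.Agent.* helpers here

set_option autoImplicit false
set_option linter.style.haveILetI false
universe u
open CategoryTheory AlgebraicGeometry
open Coh

namespace Groth.Agent.S19203

/-- Let X be a scheme proper over a field k with dim X = r, and L an invertible O_X-module generated by
its global sections. Then for each i ≥ 1 the dimensions dim_k H^i(X, L^{⊗n}) are O(n^{r-1}): there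
is a real constant C with dim_k H^i(X, L^{⊗n}) ≤ C·n^{r-1} for every n ≥ 1. (For r = 0 the exponent
r − 1 is read as 0; k is any field.) -/
theorem result (k : Type u) [Field k] (X : Scheme.{u})
    [X.Over (Spec (CommRingCat.of k))] [IsProper (X ↘ (Spec (CommRingCat.of k)))]
    (r : ℕ) (hdim : topologicalKrullDim X = r)
    (L : X.Modules) (hL : PicF.IsInvertible L) (hgen : Curv2.IsGloballyGenerated L)
    (i : ℕ) (hi : 1 ≤ i) :
    ∃ C : ℝ, ∀ n : ℕ, 1 ≤ n →
      (Module.finrank k (Coh.HH X (CohB1.tensorPow L n) i) : ℝ) ≤ C * (n : ℝ) ^ (r - 1) := by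
  haveI := EulerChar.isNoetherian k (X := X)
  have hd : topologicalKrullDim (CohB1.support (Coh.structureModule X)) < ((r + 1 : ℕ) : WithBot ℕ∞) :=
    lt_of_le_of_lt ((Topology.IsEmbedding.subtypeVal).isInducing.topologicalKrullDim_le.trans hdim.le)
      (by exact_mod_cast Nat.lt_succ_self r)
  have hbot : topologicalKrullDim (∅ : Set X) ≤ ((0 : ℕ) : WithBot ℕ∞) :=
    iSup_le fun l => absurd l.last.isIrreducible.1.to_subtype
      (fun h => by obtain ⟨⟨x, _⟩⟩ := h; exact x.2)
  have hgen : ∀ z ∉ (∅ : Set X), ∃ (l : ℕ) (t : Coh.structureModule X ⟶ CohB1.tensorPow L (l + 1)),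
      z ∈ CohB1.genLocus _ t := fun z _ => by
    obtain ⟨σ, hσ⟩ := DimOneAmple.exists_genLocus_mem hL hgen z
    exact ⟨0, Props.GenLocus.homOfSec σ ≫ (ProjTwist.oneTens L).inv,
      (AmpleLib.genLocus_comp_iso (Props.GenLocus.homOfSec σ) (ProjTwist.oneTens L).symm).symm ▸
        (AmpleLib.genLocus_homOfSec σ).symm ▸ hσ⟩
  obtain ⟨C, hC⟩ := BigVol.SemiBase.exists_hh_le_pred k hL isClosed_empty hbot hgen r _
    (ProperFin.isCoh_structureModule X) hd i hi
  refine ⟨((C * 2 ^ (r - 1) : ℕ) : ℝ), fun n hn => ?_⟩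
  have h1 : Module.finrank k (Coh.HH X (CohB1.tensorPow L n) i) ≤ C * 2 ^ (r - 1) * n ^ (r - 1) := by
    rw [← ProjTwist.Pn.finrank_hh_iso (BigVol.structure_tensor (AmpleLib.isInvertible_tensorPow hL n)).some i]
    refine (hC n).trans ?_
    rw [mul_assoc, ← mul_pow]
    refine Nat.mul_le_mul_left C ?_
    cases r with
    | zero => exact Nat.zero_le _
    | succ e => exact Nat.pow_le_pow_left (by omega) e
  exact_mod_cast h1

end Groth.Agent.S19203
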