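import Groth.Statements.S19208
import Groth.Agent.CAlg48.SamuelLimit

set_option autoImplicit false
universe u
open Filter
open LocAlg

namespace Groth.Agent.S19208

/-- Let O be a Noetherian local ring of Krull dimension r containing a field, with maximal ideal m. The
zeroth flat multiplicity e_0(O), the supremum over m-primary ideals I of e(I)/(r!·length(O/I)) with
e(I) the Samuel multiplicity, is at least 1: for every ε > 0 there is an m-primary ideal I (I ⊆ m,
m^N ⊆ I for some N) whose multiplicity e(I), the limit of r!·length(O/I^n)/n^r, satisfies e(I) ≥ (1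
− ε)·r!·length(O/I). (The same statement for the power-series rings O[[t_1, …, t_k]] is the bound
e_k(O) ≥ 1 for the k-th flat multiplicity.) -/
theorem result (O : Type u) [CommRing O] [IsNoetherianRing O]
    [IsLocalRing O] (K : Type u) [Field K] [Algebra K O] (r : ℕ) (hr : ringKrullDim O = r)
    (ε : ℝ) (hε : 0 < ε) :
    ∃ (I : Ideal O) (e : ℝ), I ≤ IsLocalRing.maximalIdeal O ∧
      (∃ N : ℕ, IsLocalRing.maximalIdeal O ^ N ≤ I) ∧
      Tendsto (fun n : ℕ => (r.factorial : ℝ) * ((Module.length O (O ⧸ I ^ n)).toNat : ℝ) / (n : ℝ) ^ r)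
        atTop (nhds e) ∧
      (1 - ε) * ((r.factorial : ℝ) * ((Module.length O (O ⧸ I)).toNat : ℝ)) ≤ e := by
  obtain ⟨c, hc0, hc⟩ := Groth.Agent.CAlg48.HilbertKunz.exists_samuel_limit
    (a := IsLocalRing.maximalIdeal O) ⟨1, by rw [pow_one]⟩ le_rfl r hr
  have hc' : Tendsto (fun n : ℕ => ((Module.length O (O ⧸ IsLocalRing.maximalIdeal O ^ n)).toNat : ℝ) /
      (n : ℝ) ^ r) atTop (nhds c) := hc 0
  have hev : ∀ᶠ k : ℕ in atTop, (1 - ε) *
      (((Module.length O (O ⧸ IsLocalRing.maximalIdeal O ^ k)).toNat : ℝ) / (k : ℝ) ^ r) < c := by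
    refine (hc'.const_mul (1 - ε)).eventually_lt_const ?_
    nlinarith
  obtain ⟨k, hk, hk1⟩ := (hev.and (eventually_ge_atTop 1)).exists
  refine ⟨IsLocalRing.maximalIdeal O ^ k, (r.factorial : ℝ) * c * (k : ℝ) ^ r,
    Ideal.pow_le_self (by omega), ⟨k, le_rfl⟩, ?_, ?_⟩
  · have hkr : (k : ℝ) ≠ 0 := Nat.cast_ne_zero.2 (by omega)
    have h := ((hc'.comp (Filter.tendsto_id.nsmul_atTop (n := k) (by omega))).const_mul
      (r.factorial : ℝ)).mul_const ((k : ℝ) ^ r)
    refine h.congr fun n => ?_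
    simp only [Function.comp_apply, id_eq, smul_eq_mul, ← pow_mul, Nat.cast_mul, mul_pow]
    field_simp
    rw [pow_mul]
  · have hkr : (0 : ℝ) < (k : ℝ) ^ r := by positivity
    rw [← mul_div_assoc, div_lt_iff₀ hkr] at hk
    have hf : (0 : ℝ) < r.factorial := by positivity
    nlinarith

end Groth.Agent.S19208
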