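import Groth.Statements.S19209
import Mathlib.Data.Real.Basic
import Mathlib.Algebra.Order.BigOperators.Group.Finset
import Mathlib.Tactic.Positivity
import Mathlib.Tactic.Linarith
import Mathlib.Tactic.Ring
import Mathlib.Algebra.Order.Field.Basic

set_option autoImplicit false
universe u
open Curves

namespace Groth.Agent.S19209

/-- Let n ≥ 1 and let p_0 ≥ p_1 ≥ … ≥ p_n = 0 be real numbers. Then some chain 0 = s_0 < s_1 < … < s_l =
n satisfies Σ_{k<l} (p_{s_k} − p_{s_{k+1}})·(s_k + s_{k+1}) ≤ (2n/(n+1))·(p_0 + p_1 + … + p_n).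
Equivalently the minimum of these sums over all chains, which is twice the area under the Newton
polygon (lower convex hull) of the points (k, p_k), is at most 2n/(n+1) times the sum of the
weights. -/
theorem result (n : ℕ) (hn : 1 ≤ n) (p : ℕ → ℝ)
    (hp : ∀ i j : ℕ, i ≤ j → j ≤ n → p j ≤ p i) (hpn : p n = 0) :
    ∃ (l : ℕ) (s : ℕ → ℕ), s 0 = 0 ∧ s l = n ∧ (∀ k : ℕ, k < l → s k < s (k + 1)) ∧
      (∑ k ∈ Finset.range l, (p (s k) - p (s (k + 1))) * ((s k : ℝ) + (s (k + 1) : ℝ))) ≤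
        2 * (n : ℝ) / ((n : ℝ) + 1) * ∑ i ∈ Finset.range (n + 1), p i := by
  have hpos : ∀ i ≤ n, 0 ≤ p i := fun i hi => hpn ▸ hp i n hi le_rfl
  set S := ∑ i ∈ Finset.range (n + 1), p i with hS
  have hfull : ∀ m : ℕ, (∑ k ∈ Finset.range m, (p k - p (k + 1)) * ((k : ℝ) + ((k + 1 : ℕ) : ℝ))) =
      2 * (∑ i ∈ Finset.range m, p i) - p 0 - (2 * (m : ℝ) - 1) * p m := by
    intro m
    induction m with
    | zero => simp
    | succ m ih =>
      rw [Finset.sum_range_succ, ih, Finset.sum_range_succ]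
      push_cast
      ring
  have hn1 : (1 : ℝ) ≤ n := by exact_mod_cast hn
  have hS0 : ∑ i ∈ Finset.range n, p i = S := by rw [hS, Finset.sum_range_succ, hpn, add_zero]
  have hp0 : p 0 ≤ S := Finset.single_le_sum (f := p)
    (fun i hi => hpos i (Nat.le_of_lt_succ (Finset.mem_range.1 hi))) (by simp)
  by_cases h : p 0 * n ≤ 2 * n / ((n : ℝ) + 1) * S
  · refine ⟨1, fun k => k * n, by simp, by simp, fun k hk => by simp only [Nat.lt_one_iff] at hk; subst hk; simp; omega, ?_⟩
    simpa [hpn] using h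
  · refine ⟨n, fun k => k, rfl, rfl, fun k _ => Nat.lt_succ_self k, ?_⟩
    rw [hfull n, hpn, hS0, mul_zero, sub_zero]
    rw [not_le, div_mul_eq_mul_div, div_lt_iff₀ (by positivity)] at h
    rw [div_mul_eq_mul_div, le_div_iff₀ (by positivity)]
    nlinarith

end Groth.Agent.S19209
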