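import Groth.Statements.S19210
import Mathlib.Algebra.Ring.GeomSum
import Mathlib.Algebra.BigOperators.Ring.Finset
import Mathlib.Algebra.Order.BigOperators.Group.Finset
import Mathlib.Tactic.Linarith
import Mathlib.Tactic.Positivity
import Mathlib.Tactic.FieldSimp
import Mathlib.Tactic.Ring
-- import your own Groth.Agent.* helpers here

set_option autoImplicit false
universe u
open LocAlg

namespace Groth.Agent.S19210

theorem base (j n : ℕ) (hn : 1 ≤ n) :
    |(∑ i ∈ Finset.range n, (i : ℝ) ^ j) - (n : ℝ) ^ (j + 1) / (j + 1)| ≤ (n : ℝ) ^ j := by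
  have key : ∀ i : ℕ, (i : ℝ) ^ j * (j + 1) ≤ ((i + 1 : ℕ) : ℝ) ^ (j + 1) - (i : ℝ) ^ (j + 1) ∧
      ((i + 1 : ℕ) : ℝ) ^ (j + 1) - (i : ℝ) ^ (j + 1) ≤ ((i + 1 : ℕ) : ℝ) ^ j * (j + 1) := by
    intro i
    have hi : (0 : ℝ) ≤ i := Nat.cast_nonneg i
    have h := geom_sum₂_mul ((i + 1 : ℕ) : ℝ) (i : ℝ) (j + 1)
    push_cast at h ⊢
    rw [add_sub_cancel_left, mul_one] at h
    rw [← h]
    constructor
    · calc (i : ℝ) ^ j * (j + 1) = ∑ _l ∈ Finset.range (j + 1), (i : ℝ) ^ j := by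
            simp [mul_comm]
        _ ≤ _ := by
            refine Finset.sum_le_sum fun l hl => ?_
            rw [Finset.mem_range] at hl
            have e : (i : ℝ) ^ j = (i : ℝ) ^ l * (i : ℝ) ^ (j + 1 - 1 - l) := by
              rw [← pow_add]; congr 1; omega
            rw [e]
            exact mul_le_mul_of_nonneg_right (pow_le_pow_left₀ hi (by linarith) _) (by positivity)
    · calc _ ≤ ∑ _l ∈ Finset.range (j + 1), ((i : ℝ) + 1) ^ j := by
            refine Finset.sum_le_sum fun l hl => ?_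
            rw [Finset.mem_range] at hl
            have e : ((i : ℝ) + 1) ^ j = ((i : ℝ) + 1) ^ l * ((i : ℝ) + 1) ^ (j + 1 - 1 - l) := by
              rw [← pow_add]; congr 1; omega
            rw [e]
            exact mul_le_mul_of_nonneg_left (pow_le_pow_left₀ hi (by linarith) _) (by positivity)
        _ = _ := by simp [mul_comm]
  have hpos : (0 : ℝ) < (j : ℝ) + 1 := by positivity
  have htel := Finset.sum_range_sub (fun i : ℕ => ((i : ℕ) : ℝ) ^ (j + 1)) n
  simp only [Nat.cast_zero, zero_pow (Nat.succ_ne_zero j), sub_zero] at htel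
  have h1 : (∑ i ∈ Finset.range n, (i : ℝ) ^ j) ≤ (n : ℝ) ^ (j + 1) / (j + 1) := by
    rw [le_div_iff₀ hpos, Finset.sum_mul, ← htel]
    exact Finset.sum_le_sum fun i _ => (key i).1
  have h2 : (n : ℝ) ^ (j + 1) / (j + 1) ≤ (∑ i ∈ Finset.range n, (i : ℝ) ^ j) + (n : ℝ) ^ j := by
    rw [div_le_iff₀ hpos, ← Finset.sum_range_succ, Finset.sum_range_succ', add_mul, Finset.sum_mul,
      ← htel]
    exact le_add_of_le_of_nonneg (Finset.sum_le_sum fun i _ => (key i).2) (by positivity)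
  rw [abs_le]
  constructor <;> linarith [pow_nonneg (Nat.cast_nonneg (α := ℝ) n) j]

theorem step : ∀ m j : ℕ, ∃ C : ℝ, ∀ n : ℕ, 1 ≤ n →
    |(∑ i ∈ Finset.range n, ((n : ℝ) - (i : ℝ)) ^ m * (i : ℝ) ^ j) -
        (m.factorial : ℝ) * (j.factorial : ℝ) / ((m + j + 1).factorial : ℝ) * (n : ℝ) ^ (m + j + 1)| ≤
      C * (n : ℝ) ^ (m + j) := by
  intro m
  induction m with
  | zero =>
    intro j
    refine ⟨1, fun n hn => ?_⟩
    simp only [pow_zero, one_mul, zero_add, Nat.factorial_zero, Nat.cast_one]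
    rw [Nat.factorial_succ, Nat.cast_mul, div_mul_eq_mul_div, mul_comm (((j + 1 : ℕ)) : ℝ),
      ← div_div, mul_div_cancel_left₀ _ (by exact_mod_cast Nat.factorial_ne_zero j)]
    push_cast
    exact base j n hn
  | succ m ih =>
    intro j
    obtain ⟨C, hC⟩ := ih j
    obtain ⟨C', hC'⟩ := ih (j + 1)
    refine ⟨C + C', fun n hn => ?_⟩
    have h1 := hC n hn
    have h2 := hC' n hn
    rw [show m + (j + 1) = m + j + 1 by omega] at h2
    rw [show m + 1 + j = m + j + 1 by omega]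
    set S := ∑ i ∈ Finset.range n, ((n : ℝ) - (i : ℝ)) ^ m * (i : ℝ) ^ j
    set S' := ∑ i ∈ Finset.range n, ((n : ℝ) - (i : ℝ)) ^ m * (i : ℝ) ^ (j + 1)
    have hS : (∑ i ∈ Finset.range n, ((n : ℝ) - (i : ℝ)) ^ (m + 1) * (i : ℝ) ^ j) = n * S - S' := by
      rw [Finset.mul_sum, ← Finset.sum_sub_distrib]
      exact Finset.sum_congr rfl fun i _ => by ring
    set c := (m.factorial : ℝ) * (j.factorial : ℝ) / ((m + j + 1).factorial : ℝ)
    set c' := (m.factorial : ℝ) * ((j + 1).factorial : ℝ) / ((m + j + 1 + 1).factorial : ℝ)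
    have hc : ((m + 1).factorial : ℝ) * (j.factorial : ℝ) / ((m + j + 1 + 1).factorial : ℝ) =
        c - c' := by
      have : ((m + j + 1).factorial : ℝ) ≠ 0 := by exact_mod_cast Nat.factorial_ne_zero _
      simp only [c, c', Nat.factorial_succ m, Nat.factorial_succ j,
        Nat.factorial_succ (m + j + 1)]
      push_cast
      field_simp
      ring
    rw [hS, hc]
    have hn0 : (0 : ℝ) ≤ n := Nat.cast_nonneg n
    calc |(n : ℝ) * S - S' - (c - c') * (n : ℝ) ^ (m + j + 1 + 1)|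
        = |(n : ℝ) * (S - c * (n : ℝ) ^ (m + j + 1)) - (S' - c' * (n : ℝ) ^ (m + j + 1 + 1))| := by
          congr 1; ring
      _ ≤ (n : ℝ) * |S - c * (n : ℝ) ^ (m + j + 1)| + |S' - c' * (n : ℝ) ^ (m + j + 1 + 1)| := by
          refine (abs_sub _ _).trans (le_of_eq ?_)
          rw [abs_mul, abs_of_nonneg hn0]
      _ ≤ (n : ℝ) * (C * (n : ℝ) ^ (m + j)) + C' * (n : ℝ) ^ (m + j + 1) :=
          add_le_add (mul_le_mul_of_nonneg_left h1 hn0) h2
      _ = (C + C') * (n : ℝ) ^ (m + j + 1) := by ring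



/-- For natural numbers j ≤ r, the sums Σ_{i=0}^{n−1} (n − i)^{r−j} i^j equal n^{r+1}·(r − j)!·j!/(r +
1)! up to O(n^r): there is a real constant C with |Σ_{i<n} (n − i)^{r−j} i^j − ((r − j)!·j!/(r +
1)!)·n^{r+1}| ≤ C·n^r for all n ≥ 1. -/
theorem result (r j : ℕ) (hj : j ≤ r) :
    ∃ C : ℝ, ∀ n : ℕ, 1 ≤ n →
      |(∑ i ∈ Finset.range n, ((n : ℝ) - (i : ℝ)) ^ (r - j) * (i : ℝ) ^ j) -
          ((r - j).factorial : ℝ) * (j.factorial : ℝ) / ((r + 1).factorial : ℝ) * (n : ℝ) ^ (r + 1)| ≤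
        C * (n : ℝ) ^ r := by
  obtain ⟨C, hC⟩ := step (r - j) j
  refine ⟨C, fun n hn => ?_⟩
  have := hC n hn
  rwa [Nat.sub_add_cancel hj] at this

end Groth.Agent.S19210
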