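import Groth.Statements.S19214
import Groth.Agent.DiagIdealLib.Euler
import Mathlib.RingTheory.PiTensorProduct
import Mathlib.RingTheory.Kaehler.Basic
import Mathlib.RingTheory.Smooth.Kaehler


set_option autoImplicit false
universe u v
open TensorProduct
open DiagIdeal

namespace Groth.Agent.S19214

open TensorProduct Groth.Agent.DiagIdealLib Pointwise

section
variable {k : Type u} [Field k] {A : Type v} [CommRing A] [Algebra k A]

/-- Algebra maps out of the triple tensor power. -/
noncomputable def liftP {S : Type*} [CommRing S] [Algebra k S] (f : Fin 3 → A →ₐ[k] S) :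
    (⨂[k] _ : Fin 3, A) →ₐ[k] S :=
  PiTensorProduct.liftAlgHom
    ((MultilinearMap.mkPiAlgebra k (Fin 3) S).compLinearMap fun i => (f i).toLinearMap)
    (by simp) (fun x y => by simp [Finset.prod_mul_distrib])

theorem liftP_single {S : Type*} [CommRing S] [Algebra k S] (f : Fin 3 → A →ₐ[k] S)
    (i : Fin 3) (a : A) :
    liftP f (PiTensorProduct.singleAlgHom (R := k) (A := fun _ : Fin 3 => A) i a) = f i a := by
  show PiTensorProduct.lift _ (PiTensorProduct.tprod k _) = f i a
  rw [PiTensorProduct.lift.tprod]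
  simp only [MultilinearMap.compLinearMap_apply, MultilinearMap.mkPiAlgebra_apply,
    AlgHom.toLinearMap_apply, MonoidHom.mulSingle_apply]
  rw [Finset.prod_eq_single i (fun j _ hj => by simp [Pi.mulSingle_eq_of_ne hj]) (by simp),
    Pi.mulSingle_eq_same]

theorem liftP_tprod {S : Type*} [CommRing S] [Algebra k S] (f : Fin 3 → A →ₐ[k] S)
    (x : Fin 3 → A) : liftP f (PiTensorProduct.tprod k x) = ∏ i, f i (x i) := by
  show PiTensorProduct.lift _ (PiTensorProduct.tprod k _) = _
  rw [PiTensorProduct.lift.tprod]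
  simp

variable (k A) in
noncomputable abbrev io (i : Fin 3) : A →ₐ[k] ⨂[k] _ : Fin 3, A :=
  PiTensorProduct.singleAlgHom (R := k) (A := fun _ : Fin 3 => A) i

theorem reindex_eq (σ : Equiv.Perm (Fin 3)) (y : ⨂[k] _ : Fin 3, A) :
    PiTensorProduct.reindex k (fun _ : Fin 3 => A) σ y = liftP (fun i => io k A (σ i)) y := by
  have hid : liftP (io k A) = AlgHom.id k (⨂[k] _ : Fin 3, A) :=
    PiTensorProduct.algHom_ext fun i => AlgHom.ext fun a => liftP_single _ i a
  suffices h : (PiTensorProduct.reindex k (fun _ : Fin 3 => A) σ).toLinearMap =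
      (liftP (fun i => io k A (σ i))).toLinearMap from LinearMap.congr_fun h y
  apply PiTensorProduct.ext
  ext x
  simp only [LinearMap.compMultilinearMap_apply, LinearEquiv.coe_coe, AlgHom.toLinearMap_apply,
    PiTensorProduct.reindex_tprod, liftP_tprod]
  conv_lhs => rw [← AlgHom.id_apply (R := k) (PiTensorProduct.tprod k fun i => x (σ.symm i)), ← hid,
    liftP_tprod]
  exact (Equiv.prod_comp σ (fun j => io k A j (x (σ.symm j)))).symm.trans (by simp)

attribute [-simp] PiTensorProduct.singleAlgHom_apply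
attribute [local simp] liftP_single

theorem sub_mem_of_agree {S : Type*} [CommRing S] [Algebra k S] (J : Ideal S)
    (f g : (⨂[k] _ : Fin 3, A) →ₐ[k] S) (h : ∀ i a, f (io k A i a) - g (io k A i a) ∈ J)
    (y : ⨂[k] _ : Fin 3, A) : f y - g y ∈ J := by
  refine Ideal.Quotient.eq.mp (DFunLike.congr_fun (?_ : (Ideal.Quotient.mkₐ k J).comp f =
    (Ideal.Quotient.mkₐ k J).comp g) y)
  exact PiTensorProduct.algHom_ext fun i => AlgHom.ext fun a => Ideal.Quotient.eq.mpr (h i a)

theorem map_leibniz (d : Derivation k A A) (x y : A ⊗[k] A) :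
    TensorProduct.map LinearMap.id d.toLinearMap (x * y) =
      x * TensorProduct.map LinearMap.id d.toLinearMap y +
      y * TensorProduct.map LinearMap.id d.toLinearMap x := by
  induction x with
  | zero => simp
  | add a b ha hb => rw [add_mul, map_add, map_add, ha, hb]; ring
  | tmul a b =>
    induction y with
    | zero => simp
    | add c e hc he => rw [mul_add, map_add, map_add, hc, he]; ring
    | tmul c e =>
      simp only [Algebra.TensorProduct.tmul_mul_tmul, TensorProduct.map_tmul, LinearMap.id_apply,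
        Derivation.coeFn_coe, Derivation.leibniz, smul_eq_mul, TensorProduct.tmul_add]
      rw [mul_comm c a]

/-- Derivations over the integers. -/
abbrev Der (R : Type*) [CommRing R] := Derivation ℤ R R

/-- An additive map with the Leibniz rule as a derivation. -/
def mkDer {R : Type*} [CommRing R] (f : R →+ R) (h : ∀ x y, f (x * y) = x * f y + y * f x) : Der R :=
  Derivation.mk' f.toIntLinearMap h

/-- A derivation on the second factor of `A ⊗ A`. -/
noncomputable def sndDer (d : Derivation k A A) : Der (A ⊗[k] A) :=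
  mkDer (TensorProduct.map LinearMap.id d.toLinearMap).toAddMonoidHom (map_leibniz d)

theorem sndDer_tmul (d : Derivation k A A) (a b : A) : sndDer d (a ⊗ₜ[k] b) = a ⊗ₜ[k] d b := rfl

/-- The Euler operator exists for the diagonal ideal of a smooth algebra. -/
theorem exists_euler [Algebra.Smooth k A] :
    ∃ (N : ℕ) (w : Fin N → KaehlerDifferential.ideal k A)
      (D : Fin N → Der (A ⊗[k] A)),
      ∀ f ∈ KaehlerDifferential.ideal k A, eu w D f - f ∈ KaehlerDifferential.ideal k A ^ 2 := by
  classical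
  obtain ⟨N, φ, hφ⟩ := Algebra.FiniteType.iff_quotient_mvPolynomial''.mp
    (inferInstance : Algebra.FiniteType k A)
  let t : Fin N → A := fun s => φ (MvPolynomial.X s)
  let dd := KaehlerDifferential.D k A
  have hsurj : Function.Surjective (Fintype.linearCombination A fun s => dd (t s)) := by
    rw [← LinearMap.range_eq_top, Fintype.range_linearCombination, eq_top_iff,
      ← KaehlerDifferential.span_range_derivation, Submodule.span_le]
    rintro _ ⟨a, rfl⟩
    obtain ⟨p, rfl⟩ := hφ a
    induction p using MvPolynomial.induction_on with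
    | C c => rw [← MvPolynomial.algebraMap_eq, AlgHom.commutes, Derivation.map_algebraMap]; exact zero_mem _
    | add p q hp hq => rw [map_add, map_add]; exact add_mem hp hq
    | mul_X p i hp =>
      rw [map_mul, Derivation.leibniz]
      exact add_mem (Submodule.smul_mem _ _ (Submodule.subset_span ⟨i, rfl⟩))
        (Submodule.smul_mem _ _ hp)
  obtain ⟨σ, hσ⟩ := Module.projective_lifting_property _ LinearMap.id hsurj
  let δ : Fin N → Derivation k A A := fun s => ((LinearMap.proj s).comp σ).compDer dd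
  let I := KaehlerDifferential.ideal k A
  let w : Fin N → I := fun s =>
    ⟨1 ⊗ₜ t s - t s ⊗ₜ 1, KaehlerDifferential.one_smul_sub_smul_one_mem_ideal k _⟩
  refine ⟨N, w, fun s => sndDer (δ s), fun f hf => ?_⟩
  rw [← KaehlerDifferential.span_range_eq_ideal] at hf
  induction hf using Submodule.span_induction with
  | zero => simp [eu]
  | add a b _ _ ha hb => rw [eu_add, add_sub_add_comm]; exact add_mem ha hb
  | smul r a ha' ha =>
    rw [smul_eq_mul, eu_mul, show r * eu w _ a + a * eu w _ r - r * a =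
      r * (eu w (fun s => sndDer (δ s)) a - a) + a * eu w (fun s => sndDer (δ s)) r by ring]
    refine add_mem (Ideal.mul_mem_left _ _ ha) ?_
    rw [sq]
    refine Ideal.mul_mem_mul ?_ (eu_mem _ _ _)
    rw [← KaehlerDifferential.span_range_eq_ideal]; exact ha'
  | mem f hf =>
    obtain ⟨a, rfl⟩ := hf
    have h1 : I.toCotangent ⟨1 ⊗ₜ a - a ⊗ₜ 1,
        KaehlerDifferential.one_smul_sub_smul_one_mem_ideal k a⟩ =
        I.toCotangent (∑ s, (δ s a ⊗ₜ[k] (1 : A)) • w s) := by
      have h := (LinearMap.congr_fun hσ (dd a)).symm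
      rw [LinearMap.comp_apply, Fintype.linearCombination_apply] at h
      refine (show I.toCotangent _ = _ from h).trans ?_
      rw [map_sum]
      refine Finset.sum_congr rfl fun s _ => ?_
      rw [map_smul, show (δ s a ⊗ₜ[k] (1 : A)) = algebraMap A (A ⊗[k] A) (δ s a) from rfl,
        algebraMap_smul]
      rfl
    have h2 := (Ideal.toCotangent_eq I).mp h1
    simp only [Submodule.coe_sum, SetLike.val_smul, smul_eq_mul] at h2
    have h3 : ∀ s, (w s : A ⊗[k] A) * (1 ⊗ₜ[k] δ s a - δ s a ⊗ₜ[k] 1) ∈ I ^ 2 := fun s => by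
      rw [sq]
      exact Ideal.mul_mem_mul (w s).2 (KaehlerDifferential.one_smul_sub_smul_one_mem_ideal k _)
    convert sub_mem ((I ^ 2).sum_mem (t := Finset.univ) fun s _ => h3 s) h2 using 1
    simp only [eu, map_sub, sndDer_tmul, Derivation.map_one_eq_zero, TensorProduct.tmul_zero,
      sub_zero, mul_sub, Finset.sum_sub_distrib]
    simp only [mul_comm (δ _ a ⊗ₜ[k] (1 : A))]
    abel

end

attribute [-simp] PiTensorProduct.singleAlgHom_apply
attribute [local simp] liftP_single

/-- n = 3, affine form: let k be an algebraically closed field of characteristic zero and A a smooth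
k-algebra which is a domain. In the triple tensor power of A over k, indexed by Fin 3, let I_{ij} be
the ideal generated by the elements a_i − a_j (a ∈ A put in factor i, resp. j, and 1 elsewhere), the
ideal of the diagonal of factors i and j. Then every element fixed by all permutations of the three
factors and lying in I₁₂ ∩ I₁₃ ∩ I₂₃ lies in the product I₁₂ I₁₃ I₂₃: on the symmetric cube of Spec
A the invariants of the product of the three diagonal ideals and of their intersection coincide.
(The published statement is the sheaf version for a smooth complex variety; an algebraically closed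
field of characteristic zero is used here.) -/
theorem result (k : Type u) [Field k] [IsAlgClosed k] [CharZero k]
    (A : Type v) [CommRing A] [Algebra k A] [Algebra.Smooth k A] [IsDomain A]
    (x : ⨂[k] _ : Fin 3, A)
    (hx : ∀ σ : Equiv.Perm (Fin 3), PiTensorProduct.reindex k (fun _ : Fin 3 => A) σ x = x)
    (hmem : ∀ p : Fin 3 × Fin 3, p.1 < p.2 → x ∈ Ideal.span (Set.range fun a : A =>
        PiTensorProduct.singleAlgHom (R := k) (A := fun _ : Fin 3 => A) p.1 a -
        PiTensorProduct.singleAlgHom (R := k) (A := fun _ : Fin 3 => A) p.2 a)) :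
    x ∈ ∏ p ∈ Finset.univ.filter (fun p : Fin 3 × Fin 3 => p.1 < p.2), Ideal.span (Set.range fun a : A =>
        PiTensorProduct.singleAlgHom (R := k) (A := fun _ : Fin 3 => A) p.1 a -
        PiTensorProduct.singleAlgHom (R := k) (A := fun _ : Fin 3 => A) p.2 a) := by
  classical
  let P := ⨂[k] _ : Fin 3, A
  let R := A ⊗[k] A
  let I := KaehlerDifferential.ideal k A
  let ι : Fin 3 → A →ₐ[k] P := io k A
  let a := Ideal.span (Set.range fun r : A => ι 0 r - ι 1 r)
  let b := Ideal.span (Set.range fun r : A => ι 0 r - ι 2 r)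
  let c := Ideal.span (Set.range fun r : A => ι 1 r - ι 2 r)
  have hxa : x ∈ a := hmem (0, 1) (by decide)
  have hxb : x ∈ b := hmem (0, 2) (by decide)
  have hxc : x ∈ c := hmem (1, 2) (by decide)
  rw [show Finset.univ.filter (fun p : Fin 3 × Fin 3 => p.1 < p.2) = {(0, 1), (0, 2), (1, 2)} by decide,
    Finset.prod_insert (by decide), Finset.prod_insert (by decide), Finset.prod_singleton]
  show x ∈ a * (b * c)
  let L : A →ₐ[k] R := Algebra.TensorProduct.includeLeft
  let Rt : A →ₐ[k] R := Algebra.TensorProduct.includeRight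
  let α : R →ₐ[k] P := Algebra.TensorProduct.lift (ι 0) (ι 1) fun _ _ => Commute.all _ _
  let γ : R →ₐ[k] P := Algebra.TensorProduct.lift (ι 2) (ι 1) fun _ _ => Commute.all _ _
  let π : P →ₐ[k] R := liftP ![L, Rt, L]
  let ρ : P →ₐ[k] R := liftP ![L, Rt, Rt]
  have hπ0 : ∀ r, π (ι 0 r) = r ⊗ₜ[k] 1 := fun r => liftP_single _ 0 r
  have hπ1 : ∀ r, π (ι 1 r) = 1 ⊗ₜ[k] r := fun r => liftP_single _ 1 r
  have hπ2 : ∀ r, π (ι 2 r) = r ⊗ₜ[k] 1 := fun r => liftP_single _ 2 r
  have hρ0 : ∀ r, ρ (ι 0 r) = r ⊗ₜ[k] 1 := fun r => liftP_single _ 0 r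
  have hρ1 : ∀ r, ρ (ι 1 r) = 1 ⊗ₜ[k] r := fun r => liftP_single _ 1 r
  have hρ2 : ∀ r, ρ (ι 2 r) = 1 ⊗ₜ[k] r := fun r => liftP_single _ 2 r
  have hα : ∀ p q, α (p ⊗ₜ[k] q) = ι 0 p * ι 1 q := fun p q => Algebra.TensorProduct.lift_tmul _ _ _ p q
  have hγ : ∀ p q, γ (p ⊗ₜ[k] q) = ι 2 p * ι 1 q := fun p q => Algebra.TensorProduct.lift_tmul _ _ _ p q
  have hπα : ∀ r, π (α r) = r := by
    refine DFunLike.congr_fun (?_ : π.comp α = AlgHom.id k R)
    apply Algebra.TensorProduct.ext' fun p q => ?_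
    show π (α (p ⊗ₜ[k] q)) = p ⊗ₜ[k] q
    rw [hα, map_mul, hπ0, hπ1, Algebra.TensorProduct.tmul_mul_tmul, _root_.mul_one, _root_.one_mul]
  have hπγ : ∀ r, π (γ r) = r := by
    refine DFunLike.congr_fun (?_ : π.comp γ = AlgHom.id k R)
    apply Algebra.TensorProduct.ext' fun p q => ?_
    show π (γ (p ⊗ₜ[k] q)) = p ⊗ₜ[k] q
    rw [hγ, map_mul, hπ2, hπ1, Algebra.TensorProduct.tmul_mul_tmul, _root_.mul_one, _root_.one_mul]
  have hgen : I = Ideal.span (Set.range fun r : A => (1 : A) ⊗ₜ[k] r - r ⊗ₜ[k] (1 : A)) :=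
    (KaehlerDifferential.span_range_eq_ideal k A).symm
  have ha : I.map α = a := by
    rw [hgen, Ideal.map_span]
    refine le_antisymm (Ideal.span_le.mpr ?_) (Ideal.span_le.mpr ?_)
    · rintro _ ⟨_, ⟨r, rfl⟩, rfl⟩
      have := a.neg_mem (Ideal.subset_span ⟨r, rfl⟩ : ι 0 r - ι 1 r ∈ a)
      rw [neg_sub] at this
      rw [SetLike.mem_coe, map_sub, hα, hα, map_one, map_one, _root_.mul_one, _root_.one_mul]
      exact this
    · rintro _ ⟨r, rfl⟩
      simp only [SetLike.mem_coe, ← neg_mem_iff (x := ι 0 r - ι 1 r), neg_sub]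
      refine Ideal.subset_span ⟨_, ⟨r, rfl⟩, ?_⟩
      rw [map_sub, hα, hα, map_one, map_one, _root_.mul_one, _root_.one_mul]
  have hc : I.map γ = c := by
    rw [hgen, Ideal.map_span, ← Set.range_comp]
    congr 2
    funext r
    show γ ((1 : A) ⊗ₜ[k] r - r ⊗ₜ[k] (1 : A)) = _
    rw [map_sub, hγ, hγ, map_one, map_one, _root_.mul_one, _root_.one_mul]
  have hb : ∀ y : P, y - α (π y) ∈ b := by
    intro y
    refine sub_mem_of_agree b (AlgHom.id k P) (α.comp π) (fun i r => ?_) y
    show ι i r - α (π (ι i r)) ∈ b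
    fin_cases i
    · show ι 0 r - α (π (ι 0 r)) ∈ b
      rw [hπ0, hα, map_one, _root_.mul_one, sub_self]; exact b.zero_mem
    · show ι 1 r - α (π (ι 1 r)) ∈ b
      rw [hπ1, hα, map_one, _root_.one_mul, sub_self]; exact b.zero_mem
    · show ι 2 r - α (π (ι 2 r)) ∈ b
      rw [hπ2, hα, map_one, _root_.mul_one, ← neg_sub]
      exact b.neg_mem (Ideal.subset_span ⟨r, rfl⟩)
  have hcρ : ∀ y : P, y - α (ρ y) ∈ c := by
    intro y
    refine sub_mem_of_agree c (AlgHom.id k P) (α.comp ρ) (fun i r => ?_) y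
    show ι i r - α (ρ (ι i r)) ∈ c
    fin_cases i
    · show ι 0 r - α (ρ (ι 0 r)) ∈ c
      rw [hρ0, hα, map_one, _root_.mul_one, sub_self]; exact c.zero_mem
    · show ι 1 r - α (ρ (ι 1 r)) ∈ c
      rw [hρ1, hα, map_one, _root_.one_mul, sub_self]; exact c.zero_mem
    · show ι 2 r - α (ρ (ι 2 r)) ∈ c
      rw [hρ2, hα, map_one, _root_.one_mul, ← neg_sub]
      exact c.neg_mem (Ideal.subset_span ⟨r, rfl⟩)
  have hπb : ∀ y ∈ b, π y = 0 := by
    suffices b ≤ RingHom.ker π from fun y hy => this hy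
    refine Ideal.span_le.mpr ?_
    rintro _ ⟨r, rfl⟩
    rw [SetLike.mem_coe, RingHom.mem_ker, map_sub, hπ0, hπ2, sub_self]
  have hρc : ∀ y ∈ c, ρ y = 0 := by
    suffices c ≤ RingHom.ker ρ from fun y hy => this hy
    refine Ideal.span_le.mpr ?_
    rintro _ ⟨r, rfl⟩
    rw [SetLike.mem_coe, RingHom.mem_ker, map_sub, hρ1, hρ2, sub_self]
  -- the square
  let s : P →ₐ[k] P := liftP fun i => ι (Equiv.swap 0 1 i)
  have hs : s x = x := (reindex_eq (Equiv.swap 0 1) x).symm.trans (hx _)
  have hsub : ∀ y : P, y - s y ∈ a := by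
    intro y
    refine sub_mem_of_agree a (AlgHom.id k P) s (fun i r => ?_) y
    show ι i r - s (ι i r) ∈ a
    rw [show s (ι i r) = ι (Equiv.swap 0 1 i) r from liftP_single _ i r]
    fin_cases i
    · exact Ideal.subset_span ⟨r, rfl⟩
    · show ι 1 r - ι 0 r ∈ a
      rw [← neg_sub]; exact a.neg_mem (Ideal.subset_span ⟨r, rfl⟩)
    · show ι 2 r - ι 2 r ∈ a
      rw [sub_self]; exact a.zero_mem
  have hsq : ∀ y ∈ a, s y + y ∈ a ^ 2 := by
    intro y hy
    induction hy using Submodule.span_induction with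
    | mem y hy =>
      obtain ⟨r, rfl⟩ := hy
      rw [map_sub, show s (ι 0 r) = ι 1 r from liftP_single _ 0 r,
        show s (ι 1 r) = ι 0 r from liftP_single _ 1 r, sub_add_sub_cancel, sub_self]
      exact zero_mem _
    | zero => simp
    | add p q _ _ hp hq => rw [map_add, add_add_add_comm]; exact add_mem hp hq
    | smul r p hp' hp =>
      rw [smul_eq_mul, map_mul, show s r * s p + r * p = s r * (s p + p) + (r - s r) * p by ring]
      exact add_mem (Ideal.mul_mem_left _ _ hp) (sq a ▸ Ideal.mul_mem_mul (hsub r) hp')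
  have hnat : ∀ n : ℕ, n ≠ 0 → IsUnit (n : k) := fun n hn => isUnit_iff_ne_zero.mpr (Nat.cast_ne_zero.mpr hn)
  have hx2 : x ∈ (I ^ 2).map α := by
    rw [Ideal.map_pow, ha]
    have h := hsq x hxa
    rw [hs, ← two_mul] at h
    refine (Ideal.unit_mul_mem_iff_mem _ ?_).mp h
    have h2 := (hnat 2 two_ne_zero).map (algebraMap k P)
    rw [map_natCast] at h2
    exact_mod_cast h2
  have hx3 : x ∈ (I ^ 2).map α * I.map γ := by
    suffices ∀ y ∈ (I ^ 2).map α, y - α (ρ y) ∈ (I ^ 2).map α * I.map γ by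
      simpa [hρc x hxc] using this x hx2
    intro y hy
    rw [Ideal.map] at hy
    induction hy using Submodule.span_induction with
    | mem y hy =>
      obtain ⟨j, _, rfl⟩ := hy
      have e : ρ (α j) = j := DFunLike.congr_fun (show ρ.comp α = AlgHom.id k R from
        Algebra.TensorProduct.ext' fun p q => by
          show ρ (α (p ⊗ₜ[k] q)) = p ⊗ₜ[k] q
          rw [hα, map_mul, hρ0, hρ1, Algebra.TensorProduct.tmul_mul_tmul, _root_.mul_one,
            _root_.one_mul]) j
      rw [e]; simp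
    | zero => simp
    | add p q _ _ hp hq => rw [map_add, map_add, add_sub_add_comm]; exact add_mem hp hq
    | smul r p hp' hp =>
      rw [smul_eq_mul, map_mul, map_mul, show r * p - α (ρ r) * α (ρ p) =
        α (ρ r) * (p - α (ρ p)) + p * (r - α (ρ r)) by ring]
      exact add_mem (Ideal.mul_mem_left _ _ hp) (Ideal.mul_mem_mul hp' (hc.ge (hcρ r)))
  -- descent to the tensor square
  let Q : Ideal P := a * (b * c)
  have hQ : ∀ g ∈ I, ∀ h ∈ I, ∀ e ∈ b, α g * γ h * e ∈ Q := by
    intro g hg h hh e he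
    rw [_root_.mul_assoc]
    refine Ideal.mul_mem_mul (ha.le (Ideal.mem_map_of_mem α hg)) ?_
    rw [mul_comm (γ h) e]
    exact Ideal.mul_mem_mul he (hc.le (Ideal.mem_map_of_mem γ hh))
  letI : Algebra R P := α.toRingHom.toAlgebra
  have hsm : ∀ (r : R) (y : P), r • (Ideal.Quotient.mk Q y) = Ideal.Quotient.mk Q (α r * y) :=
    fun r y => by rw [← Ideal.Quotient.mk_eq_mk, ← Submodule.Quotient.mk_smul]; rfl
  let Φ : I ⊗[R] I →ₗ[R] P ⧸ Q := TensorProduct.lift <| LinearMap.mk₂ R
    (fun g h => Ideal.Quotient.mk Q (α g * γ h))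
    (fun g g' h => by simp [add_mul])
    (fun r g h => by rw [hsm]; simp [_root_.mul_assoc])
    (fun g h h' => by simp [mul_add])
    (fun r g h => by
      rw [hsm, Ideal.Quotient.eq]
      have e : γ r - α r ∈ b := by
        have h1 := hb (γ r)
        rwa [hπγ] at h1
      convert hQ g g.2 h h.2 _ e using 1
      simp only [SetLike.val_smul, smul_eq_mul, map_mul]
      ring)
  have hΦ : ∀ y ∈ (I ^ 2).map α * I.map γ, ∃ z ∈ I • (⊤ : Submodule R (I ⊗[R] I)),
      mu I z = π y ∧ Φ z = Ideal.Quotient.mk Q y := by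
    intro y hy
    rw [Ideal.map, Ideal.map, Ideal.span_mul_span'] at hy
    suffices ∀ y ∈ Ideal.span (⇑α '' ((I ^ 2 : Ideal R) : Set R) * ⇑γ '' (I : Set R)), ∀ e : P,
        ∃ z ∈ I • (⊤ : Submodule R (I ⊗[R] I)), mu I z = π (e * y) ∧
          Φ z = Ideal.Quotient.mk Q (e * y) by simpa using this y hy 1
    intro y hy
    induction hy using Submodule.span_induction with
    | mem y hy =>
      intro e
      obtain ⟨_, ⟨g, hg, rfl⟩, _, ⟨h, hh, rfl⟩, rfl⟩ := Set.mem_mul.mp hy
      have hg1 : g ∈ I := Ideal.pow_le_self two_ne_zero hg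
      refine ⟨π e • ((⟨g, hg1⟩ : I) ⊗ₜ[R] (⟨h, hh⟩ : I)), Submodule.smul_mem _ _ ?_, ?_, ?_⟩
      · simpa using tmul_mem_pow_smul 1 (⟨g, hg1⟩ : I) ⟨h, hh⟩ hg
      · rw [map_smul, mu_tmul, smul_eq_mul]
        simp [hπα, hπγ]
      · rw [map_smul, TensorProduct.lift.tmul, LinearMap.mk₂_apply, hsm, Ideal.Quotient.eq]
        convert Q.neg_mem (hQ g hg1 h hh _ (hb e)) using 1
        ring
    | zero => exact fun e => ⟨0, zero_mem _, by simp, by simp⟩
    | add p q _ _ hp hq =>
      intro e
      obtain ⟨z, hz, h1, h2⟩ := hp e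
      obtain ⟨z', hz', h1', h2'⟩ := hq e
      exact ⟨z + z', add_mem hz hz', by simp [mul_add, h1, h1'], by simp [mul_add, h2, h2']⟩
    | smul r p _ hp =>
      intro e
      simpa [← _root_.mul_assoc] using hp (e * r)
  obtain ⟨z, hz, hμ, hz'⟩ := hΦ x hx3
  obtain ⟨N, w, D, hE⟩ := exists_euler (k := k) (A := A)
  haveI : IsNoetherianRing R :=
    haveI : Algebra.FiniteType k (A ⊗[k] A) :=
      Algebra.FiniteType.trans (S := A) inferInstance inferInstance
    Algebra.FiniteType.isNoetherianRing k (A ⊗[k] A)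
  have hz0 := eq_zero_of_mu_eq_zero hE
    (fun n hn => by simpa using (hnat n hn).map (algebraMap k (A ⊗[k] A)))
    hz (hμ.trans (hπb x hxb))
  rw [hz0, map_zero] at hz'
  exact Ideal.Quotient.eq_zero_iff_mem.mp hz'.symm

end Groth.Agent.S19214
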