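import Groth.Statements.S19216
import Mathlib

set_option autoImplicit false
universe u
open SymRep

namespace Groth.Agent.S19216

/-- Let k be a field of characteristic zero and r, s ≥ 1. Realise the standard representation of the
symmetric group on a finite set T as the hyperplane of functions T → k with sum zero, the group
acting by precomposition with the inverse. Then the standard representation of the symmetric group
of Fin r ⊕ Fin s, restricted to the subgroup S_r × S_s, is isomorphic to the direct sum of the
standard representations of S_r and of S_s and of a one-dimensional trivial representation: there is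
a k-linear map E from functions on Fin r ⊕ Fin s to triples (function on Fin r, function on Fin s,
scalar), compatible with the actions of S_r × S_s (trivial on the scalar), which maps the sum-zero
hyperplane bijectively onto the product of the two sum-zero hyperplanes and k. (The published
statement is over the complex numbers; a field of characteristic zero is used here. The published
statement also gives the analogous decomposition for any number of blocks, which follows by
induction; only the two-block case is stated here.) -/
theorem result (k : Type u) [Field k] [CharZero k]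
    (r s : ℕ) (hr : 1 ≤ r) (hs : 1 ≤ s) :
    ∃ E : (Fin r ⊕ Fin s → k) →ₗ[k] (Fin r → k) × (Fin s → k) × k,
      (∀ (σ : Equiv.Perm (Fin r)) (τ : Equiv.Perm (Fin s)) (f : Fin r ⊕ Fin s → k),
        E (f ∘ ⇑(Equiv.sumCongr σ τ).symm) = ((E f).1 ∘ ⇑σ.symm, (E f).2.1 ∘ ⇑τ.symm, (E f).2.2)) ∧
      Set.BijOn E {f | ∑ i, f i = 0}
        ({g : Fin r → k | ∑ i, g i = 0} ×ˢ ({h : Fin s → k | ∑ i, h i = 0} ×ˢ Set.univ)) := by
  classical
  let A : (Fin r ⊕ Fin s → k) →ₗ[k] k := ∑ i, LinearMap.proj (Sum.inl i)
  let B : (Fin r ⊕ Fin s → k) →ₗ[k] k := ∑ j, LinearMap.proj (Sum.inr j)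
  have hr0 : (r : k) ≠ 0 := Nat.cast_ne_zero.2 (by omega)
  have hs0 : (s : k) ≠ 0 := Nat.cast_ne_zero.2 (by omega)
  let E : (Fin r ⊕ Fin s → k) →ₗ[k] (Fin r → k) × (Fin s → k) × k :=
    (LinearMap.pi fun i => LinearMap.proj (Sum.inl i) - (r : k)⁻¹ • A).prod
      ((LinearMap.pi fun j => LinearMap.proj (Sum.inr j) - (s : k)⁻¹ • B).prod A)
  refine ⟨E, fun σ τ f => ?_, ⟨?_, ?_, ?_⟩⟩
  · have hA : A (f ∘ ⇑(Equiv.sumCongr σ.symm τ.symm)) = A f := by
      simpa [A, LinearMap.sum_apply] using Equiv.sum_comp σ.symm (fun i => f (Sum.inl i))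
    have hB : B (f ∘ ⇑(Equiv.sumCongr σ.symm τ.symm)) = B f := by
      simpa [B, LinearMap.sum_apply] using Equiv.sum_comp τ.symm (fun i => f (Sum.inr i))
    refine Prod.ext (funext fun i => ?_) (Prod.ext (funext fun i => ?_) ?_) <;> simp [E, hA, hB]
  · intro f hf
    simp [E, A, B, LinearMap.sum_apply, Finset.sum_sub_distrib, hr0, hs0]
  · intro f hf g hg h
    simp only [Set.mem_setOf_eq, Fintype.sum_sum_type] at hf hg
    have hA : A f = A g := congrArg (fun x => x.2.2) h
    have hB : B f = B g := by
      simp [A, B, LinearMap.sum_apply] at hA ⊢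
      linear_combination hf - hg - hA
    funext x
    rcases x with i | j
    · have := congrFun (congrArg (fun x => x.1) h) i
      simpa [E, hA] using this
    · have := congrFun (congrArg (fun x => x.2.1) h) j
      simpa [E, hB] using this
  · rintro ⟨g, h, t⟩ ⟨hg, hh, -⟩
    simp only [Set.mem_setOf_eq] at hg hh
    let f : Fin r ⊕ Fin s → k := Sum.elim (fun i => g i + (r : k)⁻¹ * t) fun j => h j - (s : k)⁻¹ * t
    have hA : A f = t := by simp [A, f, LinearMap.sum_apply, Finset.sum_add_distrib, hg, hr0]
    have hB : B f = -t := by simp [B, f, LinearMap.sum_apply, Finset.sum_sub_distrib, hh, hs0]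
    refine ⟨f, ?_, Prod.ext (funext fun i => ?_) (Prod.ext (funext fun i => ?_) ?_)⟩
    · simp [f, Fintype.sum_sum_type, Finset.sum_add_distrib, Finset.sum_sub_distrib, hg, hh, hr0, hs0]
    all_goals simp [E, hA, hB, f]

end Groth.Agent.S19216
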