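import Groth.Statements.S19217
import Groth.Agent.DiagIdealLib.Euler
import Groth.Agent.CSA.PiTensor
import Groth.Agent.S9628
import Groth.Agent.AssSch.IntegralBC
import Groth.Agent.Omega.RankDim
import Groth.Agent.GrSegre.CMOf
import Groth.Agent.LocCoh.Connected
import Mathlib.RingTheory.PiTensorProduct
import Mathlib.RingTheory.Kaehler.Basic
import Mathlib.RingTheory.Smooth.Kaehler

set_option autoImplicit false
universe u
open TensorProduct CategoryTheory CategoryTheory.Limits
open DiagIdeal

namespace Groth.Agent.S19217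

open TensorProduct Groth.Agent.DiagIdealLib

/-- Derivations over the integers. -/
abbrev Der (R : Type u) [CommRing R] := Derivation ℤ R R

/-- An additive map with the Leibniz rule as a derivation. -/
def mkDer {R : Type u} [CommRing R] (f : R →+ R) (h : ∀ x y, f (x * y) = x * f y + y * f x) : Der R :=
  Derivation.mk' f.toIntLinearMap h

theorem mkDer_apply {R : Type u} [CommRing R] (f : R →+ R)
    (h : ∀ x y, f (x * y) = x * f y + y * f x) (x : R) : mkDer f h x = f x := rfl

section
variable {k : Type u} [Field k] {A : Type u} [CommRing A] [Algebra k A] {n : ℕ}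

variable (k A n) in
abbrev Pw : Type u := ⨂[k] _ : Fin n, A

variable (k A) in
noncomputable abbrev io (i : Fin n) : A →ₐ[k] ⨂[k] _ : Fin n, A :=
  PiTensorProduct.singleAlgHom (R := k) (A := fun _ : Fin n => A) i

noncomputable def liftP {S : Type u} [CommRing S] [Algebra k S] (f : Fin n → A →ₐ[k] S) :
    (⨂[k] _ : Fin n, A) →ₐ[k] S :=
  PiTensorProduct.liftAlgHom
    ((MultilinearMap.mkPiAlgebra k (Fin n) S).compLinearMap fun i => (f i).toLinearMap)
    (by simp) (fun x y => by simp [Finset.prod_mul_distrib])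

theorem liftP_single {S : Type u} [CommRing S] [Algebra k S] (f : Fin n → A →ₐ[k] S)
    (i : Fin n) (a : A) : liftP f (io k A i a) = f i a := by
  show PiTensorProduct.lift _ (PiTensorProduct.tprod k _) = f i a
  rw [PiTensorProduct.lift.tprod]
  simp only [MultilinearMap.compLinearMap_apply, MultilinearMap.mkPiAlgebra_apply,
    AlgHom.toLinearMap_apply, MonoidHom.mulSingle_apply]
  rw [Finset.prod_eq_single i (fun j _ hj => by simp [Pi.mulSingle_eq_of_ne hj]) (by simp),
    Pi.mulSingle_eq_same]

theorem sub_mem_of_agree {S : Type u} [CommRing S] [Algebra k S] (J : Ideal S)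
    (f g : (⨂[k] _ : Fin n, A) →ₐ[k] S) (h : ∀ i a, f (io k A i a) - g (io k A i a) ∈ J)
    (y : ⨂[k] _ : Fin n, A) : f y - g y ∈ J := by
  refine Ideal.Quotient.eq.mp (DFunLike.congr_fun (?_ : (Ideal.Quotient.mkₐ k J).comp f =
    (Ideal.Quotient.mkₐ k J).comp g) y)
  exact PiTensorProduct.algHom_ext fun i => AlgHom.ext fun a => Ideal.Quotient.eq.mpr (h i a)

/-- the diagonal ideal of a pair -/
noncomputable def dia (p : Fin n × Fin n) : Ideal (⨂[k] _ : Fin n, A) :=
  Ideal.span (Set.range fun a : A => io k A p.1 a - io k A p.2 a)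

noncomputable def merge (p : Fin n × Fin n) :
    (⨂[k] _ : Fin n, A) →ₐ[k] ⨂[k] _ : Fin n, A :=
  liftP fun i => if i = p.2 then io k A p.1 else io k A i

theorem merge_single (p : Fin n × Fin n) (i : Fin n) (a : A) :
    merge p (io k A i a) = if i = p.2 then io k A p.1 a else io k A i a := by
  rw [merge, liftP_single]
  split <;> rfl

theorem dia_eq_ker (p : Fin n × Fin n) (hp : p.1 ≠ p.2) :
    dia (k := k) (A := A) p = RingHom.ker (merge (k := k) (A := A) p) := by
  refine le_antisymm (Ideal.span_le.mpr ?_) fun y hy => ?_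
  · rintro _ ⟨a, rfl⟩
    rw [SetLike.mem_coe, RingHom.mem_ker, map_sub, merge_single, merge_single, if_neg hp, if_pos rfl,
      sub_self]
  · have h := sub_mem_of_agree (dia p) (AlgHom.id k _) (merge p) (fun i a => ?_) y
    · rwa [AlgHom.id_apply, RingHom.mem_ker.mp hy, sub_zero] at h
    · rw [AlgHom.id_apply, merge_single]
      split
      · next h =>
        rw [h, ← neg_sub]
        exact neg_mem (Ideal.subset_span ⟨a, rfl⟩)
      · rw [sub_self]; exact zero_mem _

theorem io_ne {u v : Fin n} (huv : u ≠ v) (hA : ¬ Function.Surjective (algebraMap k A)) :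
    ∃ a, io k A u a ≠ io k A v a := by
  by_contra hc
  push Not at hc
  refine hA fun a => ?_
  haveI : Nontrivial A := by
    by_contra h
    rw [not_nontrivial_iff_subsingleton] at h
    exact hA fun a => ⟨0, Subsingleton.elim _ _⟩
  obtain ⟨φ, hφ⟩ := Module.Projective.exists_dual_ne_zero k (one_ne_zero (α := A))
  let L : A →ₐ[k] A ⊗[k] A := Algebra.TensorProduct.includeLeft
  let Rt : A →ₐ[k] A ⊗[k] A := Algebra.TensorProduct.includeRight
  have h := congrArg (liftP (fun i => if i = u then L else Rt)) (hc a)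
  rw [liftP_single, liftP_single, if_pos rfl, if_neg huv.symm] at h
  have h2 := congrArg (fun z => TensorProduct.rid k A (TensorProduct.map LinearMap.id φ z)) h
  simp [L, Rt] at h2
  refine ⟨φ a * (φ 1)⁻¹, ?_⟩
  rw [map_mul, ← Algebra.smul_def, Algebra.algebraMap_eq_smul_one, smul_smul, mul_comm (φ a),
    ← smul_smul, ← h2, smul_smul, inv_mul_cancel₀ hφ, one_smul]

theorem eq_of_dia_le [IsDomain (⨂[k] _ : Fin n, A)] (hA : ¬ Function.Surjective (algebraMap k A))
    (p q : Fin n × Fin n) (hp : p.1 < p.2) (hq : q.1 < q.2)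
    (h : dia (k := k) (A := A) q ≤ dia p) : q = p := by
  let σ : Fin n → Fin n := fun i => if i = p.2 then p.1 else i
  have hm : ∀ i a, merge p (io k A i a) = io k A (σ i) a := fun i a => by
    rw [merge_single]
    simp only [σ]
    split <;> rfl
  by_contra hne
  have hσ : σ q.1 ≠ σ q.2 := by
    intro e
    simp only [σ] at e
    apply hne
    split_ifs at e with h1 h2 h2
    · omega
    · exfalso
      rw [h1] at hq
      omega
    · exact Prod.ext e h2
    · exact absurd e hq.ne
  obtain ⟨a, ha⟩ := io_ne hσ hA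
  have := h (Ideal.subset_span ⟨a, rfl⟩)
  rw [dia_eq_ker p hp.ne, RingHom.mem_ker, map_sub, hm, hm, sub_eq_zero] at this
  exact ha this

/-- a derivation acting on the `j`-th factor -/
noncomputable def atLin (j : Fin n) (d : Derivation k A A) :
    (⨂[k] _ : Fin n, A) →ₗ[k] ⨂[k] _ : Fin n, A :=
  PiTensorProduct.map (Function.update (fun _ => LinearMap.id) j d.toLinearMap)

theorem atLin_tprod (j : Fin n) (d : Derivation k A A) (x : Fin n → A) :
    atLin j d (PiTensorProduct.tprod k x) = PiTensorProduct.tprod k (Function.update x j (d (x j))) := by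
  rw [atLin, PiTensorProduct.map_tprod]
  congr 1
  funext i
  by_cases hi : i = j
  · subst hi; simp
  · simp [Function.update_of_ne hi]

theorem atLin_mul (j : Fin n) (d : Derivation k A A) (x y : ⨂[k] _ : Fin n, A) :
    atLin j d (x * y) = x * atLin j d y + y * atLin j d x := by
  induction x using PiTensorProduct.induction_on with
  | add a b ha hb => rw [add_mul, map_add, map_add, ha, hb]; ring
  | smul_tprod r a =>
    induction y using PiTensorProduct.induction_on with
    | add b c hb hc => rw [mul_add, map_add, map_add, hb, hc]; ring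
    | smul_tprod s b =>
      simp only [smul_mul_assoc, mul_smul_comm, map_smul, atLin_tprod,
        PiTensorProduct.tprod_mul_tprod]
      rw [Pi.mul_apply, Derivation.leibniz, smul_eq_mul, smul_eq_mul, MultilinearMap.map_update_add,
        smul_add, smul_add]
      have e : ∀ (u v : Fin n → A) (c : A),
          u * Function.update v j c = Function.update (u * v) j (u j * c) := fun u v c => by
        funext i
        by_cases hi : i = j
        · subst hi; simp
        · simp [Function.update_of_ne hi]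
      rw [e, e, mul_comm b a]
      congr 1
      rw [smul_comm]

noncomputable def atDer (j : Fin n) (d : Derivation k A A) :
    Der (⨂[k] _ : Fin n, A) :=
  mkDer (atLin j d).toAddMonoidHom (atLin_mul j d)

theorem atDer_same (j : Fin n) (d : Derivation k A A) (a : A) :
    atDer j d (io k A j a) = io k A j (d a) := by
  show atLin j d (PiTensorProduct.tprod k (MonoidHom.mulSingle _ j a)) =
    PiTensorProduct.tprod k (MonoidHom.mulSingle _ j (d a))
  rw [atLin_tprod]
  congr 1
  funext i
  by_cases hi : i = j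
  · subst hi; simp
  · simp [Function.update_of_ne hi, Pi.mulSingle_eq_of_ne hi]

theorem atDer_ne {i j : Fin n} (h : i ≠ j) (d : Derivation k A A) (a : A) :
    atDer j d (io k A i a) = 0 := by
  show atLin j d (PiTensorProduct.tprod k (MonoidHom.mulSingle _ i a)) = 0
  rw [atLin_tprod]
  refine MultilinearMap.map_coord_zero _ (i := j) ?_
  simp [Pi.mulSingle_eq_of_ne h.symm]

/-- The Euler operator of a diagonal ideal. -/
theorem exists_euler [Algebra.Smooth k A] (p : Fin n × Fin n) (hp : p.1 ≠ p.2) :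
    ∃ (N : ℕ) (w : Fin N → dia (k := k) (A := A) p)
      (D : Fin N → Der (⨂[k] _ : Fin n, A)),
      ∀ f ∈ dia (k := k) (A := A) p, eu w D f - f ∈ dia (k := k) (A := A) p ^ 2 := by
  classical
  obtain ⟨N, φ, hφ⟩ := Algebra.FiniteType.iff_quotient_mvPolynomial''.mp
    (inferInstance : Algebra.FiniteType k A)
  let t : Fin N → A := fun s => φ (MvPolynomial.X s)
  let dd := KaehlerDifferential.D k A
  have hsurj : Function.Surjective (Fintype.linearCombination A fun s => dd (t s)) := by
    rw [← LinearMap.range_eq_top, Fintype.range_linearCombination, eq_top_iff,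
      ← KaehlerDifferential.span_range_derivation, Submodule.span_le]
    rintro _ ⟨a, rfl⟩
    obtain ⟨p, rfl⟩ := hφ a
    induction p using MvPolynomial.induction_on with
    | C c => rw [← MvPolynomial.algebraMap_eq, AlgHom.commutes, Derivation.map_algebraMap]; exact zero_mem _
    | add p q hp hq => rw [map_add, map_add]; exact add_mem hp hq
    | mul_X p i hp =>
      rw [map_mul, Derivation.leibniz]
      exact add_mem (Submodule.smul_mem _ _ (Submodule.subset_span ⟨i, rfl⟩))
        (Submodule.smul_mem _ _ hp)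
  obtain ⟨σ, hσ⟩ := Module.projective_lifting_property _ LinearMap.id hsurj
  let δ : Fin N → Derivation k A A := fun s => ((LinearMap.proj s).comp σ).compDer dd
  let J := dia (k := k) (A := A) p
  have hgen : ∀ a : A, io k A p.2 a - io k A p.1 a ∈ J := fun a => by
    rw [← neg_sub]
    exact neg_mem (Ideal.subset_span ⟨a, rfl⟩)
  let w : Fin N → J := fun s => ⟨io k A p.2 (t s) - io k A p.1 (t s), hgen _⟩
  refine ⟨N, w, fun s => atDer p.2 (δ s), fun f hf => ?_⟩
  rw [dia] at hf
  induction hf using Submodule.span_induction with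
  | zero => simp [eu]
  | add a b _ _ ha hb => rw [eu_add, add_sub_add_comm]; exact add_mem ha hb
  | smul r a ha' ha =>
    rw [smul_eq_mul, eu_mul, show r * eu w _ a + a * eu w _ r - r * a =
      r * (eu w (fun s => atDer p.2 (δ s)) a - a) + a * eu w (fun s => atDer p.2 (δ s)) r by ring]
    refine add_mem (Ideal.mul_mem_left _ _ ha) ?_
    rw [sq]
    exact Ideal.mul_mem_mul ha' (eu_mem _ _ _)
  | mem f hf =>
    obtain ⟨a, rfl⟩ := hf
    let I := KaehlerDifferential.ideal k A
    let W : Fin N → I := fun s =>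
      ⟨1 ⊗ₜ t s - t s ⊗ₜ 1, KaehlerDifferential.one_smul_sub_smul_one_mem_ideal k _⟩
    have h1 : I.toCotangent ⟨1 ⊗ₜ a - a ⊗ₜ 1,
        KaehlerDifferential.one_smul_sub_smul_one_mem_ideal k a⟩ =
        I.toCotangent (∑ s, (δ s a ⊗ₜ[k] (1 : A)) • W s) := by
      have h := (LinearMap.congr_fun hσ (dd a)).symm
      rw [LinearMap.comp_apply, Fintype.linearCombination_apply] at h
      refine (show I.toCotangent _ = _ from h).trans ?_
      rw [map_sum]
      refine Finset.sum_congr rfl fun s _ => ?_
      rw [map_smul, show (δ s a ⊗ₜ[k] (1 : A)) = algebraMap A (A ⊗[k] A) (δ s a) from rfl,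
        algebraMap_smul]
      rfl
    let α : A ⊗[k] A →ₐ[k] ⨂[k] _ : Fin n, A :=
      Algebra.TensorProduct.lift (io k A p.1) (io k A p.2) fun _ _ => Commute.all _ _
    have hI : I.map α ≤ J := by
      rw [show I = Ideal.span (Set.range fun r : A => (1 : A) ⊗ₜ[k] r - r ⊗ₜ[k] (1 : A)) from
        (KaehlerDifferential.span_range_eq_ideal k A).symm, Ideal.map_span, Ideal.span_le]
      rintro _ ⟨_, ⟨r, rfl⟩, rfl⟩
      simp only [SetLike.mem_coe, α, map_sub, Algebra.TensorProduct.lift_tmul, map_one, one_mul,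
        mul_one]
      exact hgen r
    have h2 : α ((1 ⊗ₜ a - a ⊗ₜ 1) - ((∑ s, (δ s a ⊗ₜ[k] (1 : A)) • W s : I) : A ⊗[k] A)) ∈ J ^ 2 := by
      have := Ideal.mem_map_of_mem α ((Ideal.toCotangent_eq I).mp h1)
      rw [Ideal.map_pow] at this
      exact Ideal.pow_right_mono hI 2 this
    simp only [Submodule.coe_sum, SetLike.val_smul, smul_eq_mul, map_sub, map_sum, map_mul, α, W,
      Algebra.TensorProduct.lift_tmul, map_one, one_mul, mul_one] at h2
    have h3 : ∀ s, (w s : ⨂[k] _ : Fin n, A) * (io k A p.2 (δ s a) - io k A p.1 (δ s a)) ∈ J ^ 2 :=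
      fun s => by rw [sq]; exact Ideal.mul_mem_mul (w s).2 (hgen _)
    convert sub_mem h2 ((J ^ 2).sum_mem (t := Finset.univ) fun s _ => h3 s) using 1
    simp only [eu, map_sub, atDer_same, atDer_ne hp, zero_sub, mul_neg, Finset.sum_neg_distrib,
      mul_sub, Finset.sum_sub_distrib, w]
    simp only [mul_comm (io k A p.1 (δ _ a)), mul_sub, sub_mul, Finset.sum_sub_distrib]
    abel

end

theorem mem_pow_of_mul_mem {R : Type u} [CommRing R] (J : Ideal R) [J.IsPrime] {N : ℕ}
    (w : Fin N → J) (D : Fin N → Der R) (hE : ∀ f ∈ J, eu w D f - f ∈ J ^ 2)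
    (hnat : ∀ n : ℕ, n ≠ 0 → IsUnit (n : R)) {a : R} (ha : a ∉ J) :
    ∀ (n : ℕ) (f : R), a * f ∈ J ^ n → f ∈ J ^ n := by
  intro n
  induction n with
  | zero => intro f _; simp
  | succ n ih =>
    intro f hf
    rcases Nat.eq_zero_or_pos n with rfl | hn
    · rw [pow_one] at hf ⊢
      exact (Ideal.IsPrime.mem_or_mem ‹_› hf).resolve_left ha
    have hfn : f ∈ J ^ n := ih f (Ideal.pow_le_pow_right (by omega) hf)
    have hD : ∀ s, D s f ∈ J ^ n := fun s => by
      refine ih _ ?_
      have h1 := deriv_mem_pow D s n hf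
      rw [Derivation.leibniz, smul_eq_mul, smul_eq_mul] at h1
      exact (Submodule.add_mem_iff_left _ (Ideal.mul_mem_right _ _ hfn)).mp h1
    have h2 : eu w D f ∈ J ^ (n + 1) := by
      refine Ideal.sum_mem _ fun s _ => ?_
      rw [pow_succ']
      exact Ideal.mul_mem_mul (w s).2 (hD s)
    have h3 := sub_mem h2 (eu_sub_nat_mul w D hE n hfn)
    rw [sub_sub_cancel] at h3
    exact (Ideal.unit_mul_mem_iff_mem _ (hnat n (by omega))).mp h3

/-- the tensor powers are smooth domains -/
theorem smooth_isDomain_pow (k : Type u) [Field k] [IsAlgClosed k] (A : Type u) [CommRing A]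
    [Algebra k A] [Algebra.Smooth k A] [IsDomain A] :
    ∀ n : ℕ, Algebra.Smooth k (⨂[k] _ : Fin n, A) ∧ IsDomain (⨂[k] _ : Fin n, A)
  | 0 => by
    let e := CSA.piEmpty (R := k) (fun _ : Fin 0 => A)
    exact ⟨Algebra.Smooth.of_equiv e.symm, e.toRingEquiv.toMulEquiv.isDomain k⟩
  | n + 1 => by
    obtain ⟨h1, h2⟩ := smooth_isDomain_pow k A n
    haveI := h1
    haveI := h2
    let e : (⨂[k] _ : Fin n, A) ⊗[k] A ≃ₐ[k] ⨂[k] _ : Fin (n + 1), A :=
      (CSA.piOption (fun _ : Option (Fin n) => A)).trans
        (CSA.piReindex (finSuccEquiv n).symm (fun _ : Fin (n + 1) => A))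
    haveI : Algebra.Smooth k ((⨂[k] _ : Fin n, A) ⊗[k] A) :=
      Algebra.Smooth.comp k (⨂[k] _ : Fin n, A) _
    haveI : IsDomain ((⨂[k] _ : Fin n, A) ⊗[k] A) := by
      refine Groth.Agent.S9628.result fun K _ _ => AssSch.IntegralBC.isDomain_tensor_of_forall_finite A ?_ K
      intro k' _ _ _
      have hb := IsAlgClosed.algebraMap_bijective_of_isIntegral (k := k) (K := k')
      exact ((Algebra.TensorProduct.congr (AlgEquiv.ofBijective (Algebra.ofId k k') hb).symm
        AlgEquiv.refl).trans (Algebra.TensorProduct.lid k A)).toRingEquiv.toMulEquiv.isDomain A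
    exact ⟨Algebra.Smooth.of_equiv e, e.symm.toRingEquiv.toMulEquiv.isDomain _⟩

/-- Let k be an algebraically closed field of characteristic zero and A a smooth k-algebra which is a
domain of Krull dimension 2 (an affine piece of a smooth surface). In the n-fold tensor power R of A
over k, indexed by Fin n, let I_p (p = (i, j), i < j) be the ideal generated by the a_i − a_j, a ∈
A, the ideal of the diagonal of factors i and j; let M be the intersection of the powers I_p ^ ℓ(p)
over all p with i < j, for arbitrary exponents ℓ; and let 𝔞 be the intersection, over all pairs of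
distinct index pairs p ≠ q, of I_p + I_q (an ideal cutting out the locus W where two distinct
pairwise diagonals meet, of codimension 4). Then the local cohomology modules of M with support in 𝔞
vanish in degrees 0 and 1; equivalently M, as a sheaf on Spec R, coincides with the direct image of
its restriction to the complement of W. (The source states this for the product of copies of a
smooth quasi-projective complex surface, as the equality of the direct image from the complement of
W of the restricted product of the powers of the diagonal ideals with the intersection of those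
powers; the two sheaves agree away from W, where the diagonals are pairwise disjoint.) -/
theorem result (k : Type u) [Field k] [IsAlgClosed k] [CharZero k]
    (A : Type u) [CommRing A] [Algebra k A] [Algebra.Smooth k A] [IsDomain A]
    (hdim : ringKrullDim A = 2) (n : ℕ) (ℓ : Fin n × Fin n → ℕ)
    (I : Fin n × Fin n → Ideal (⨂[k] _ : Fin n, A))
    (hI : ∀ p, I p = Ideal.span (Set.range fun a : A =>
        PiTensorProduct.singleAlgHom (R := k) (A := fun _ : Fin n => A) p.1 a -
        PiTensorProduct.singleAlgHom (R := k) (A := fun _ : Fin n => A) p.2 a))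
    (𝔞 : Ideal (⨂[k] _ : Fin n, A))
    (h𝔞 : 𝔞 = ⨅ pq ∈ Finset.univ.filter (fun pq : (Fin n × Fin n) × (Fin n × Fin n) =>
        pq.1.1 < pq.1.2 ∧ pq.2.1 < pq.2.2 ∧ pq.1 ≠ pq.2), I pq.1 ⊔ I pq.2)
    (M : Submodule (⨂[k] _ : Fin n, A) (⨂[k] _ : Fin n, A))
    (hM : M = ⨅ p ∈ Finset.univ.filter (fun p : Fin n × Fin n => p.1 < p.2), (I p) ^ (ℓ p)) :
    IsZero ((localCohomology 𝔞 0).obj (ModuleCat.of (⨂[k] _ : Fin n, A) M)) ∧
    IsZero ((localCohomology 𝔞 1).obj (ModuleCat.of (⨂[k] _ : Fin n, A) M)) := by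
  classical
  obtain ⟨hsm, hdom⟩ := smooth_isDomain_pow k A n
  haveI := hsm
  haveI := hdom
  haveI hnoe : IsNoetherianRing (⨂[k] _ : Fin n, A) := Algebra.FiniteType.isNoetherianRing k _
  haveI : IsRegularRing (⨂[k] _ : Fin n, A) := isRegularRing_iff.mpr fun q _ =>
    Omega.RankDim.isRegularLocalRing_of_isSmoothAt k (⨂[k] _ : Fin n, A) q inferInstance
  have hA : ¬ Function.Surjective (algebraMap k A) := fun hs => by
    have h := ringKrullDim_eq_of_ringEquiv (RingEquiv.ofBijective (algebraMap k A)
      ⟨(algebraMap k A).injective, hs⟩)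
    rw [ringKrullDim_eq_zero_of_field, hdim] at h
    exact absurd h (by norm_num)
  have hI' : ∀ p, I p = dia p := hI
  set F := Finset.univ.filter (fun p : Fin n × Fin n => p.1 < p.2) with hF
  set G := Finset.univ.filter (fun pq : (Fin n × Fin n) × (Fin n × Fin n) =>
    pq.1.1 < pq.1.2 ∧ pq.2.1 < pq.2.2 ∧ pq.1 ≠ pq.2) with hG
  have hprime : ∀ p ∈ F, (I p).IsPrime := fun p hp => by
    rw [hI' p, dia_eq_ker p (Finset.mem_filter.mp hp).2.ne]
    exact RingHom.ker_isPrime _
  have hle : ∀ p ∈ F, ∀ q ∈ F, I q ≤ I p → q = p := fun p hp q hq h =>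
    eq_of_dia_le hA p q (Finset.mem_filter.mp hp).2 (Finset.mem_filter.mp hq).2
      (by rwa [← hI', ← hI'])
  have hsplit : ∀ P : Ideal (⨂[k] _ : Fin n, A), P.IsPrime → 𝔞 ≤ P →
      ∃ u v, u ∈ F ∧ v ∈ F ∧ u ≠ v ∧ I u ≤ P ∧ I v ≤ P := fun P hP h => by
    rw [h𝔞, ← Finset.inf_eq_iInf, hP.inf_le'] at h
    obtain ⟨pq, hpq, hle'⟩ := h
    obtain ⟨-, h1, h2, h3⟩ := Finset.mem_filter.mp hpq
    exact ⟨pq.1, pq.2, Finset.mem_filter.mpr ⟨Finset.mem_univ _, h1⟩,
      Finset.mem_filter.mpr ⟨Finset.mem_univ _, h2⟩, h3,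
      le_sup_left.trans hle', le_sup_right.trans hle'⟩
  have hnle : ∀ p ∈ F, ¬ 𝔞 ≤ I p := fun p hp h => by
    obtain ⟨u, v, hu, hv, huv, h1, h2⟩ := hsplit (I p) (hprime p hp) h
    exact huv ((hle p hp u hu h1).trans (hle p hp v hv h2).symm)
  have hht : (2 : ℕ∞) ≤ 𝔞.height := by
    rw [Ideal.height_eq_inf_minimalPrimes]
    refine le_iInf₂ fun P hP => ?_
    haveI := hP.isPrime
    obtain ⟨u, v, hu, hv, huv, h1, h2⟩ := hsplit P hP.isPrime hP.1.2
    haveI := hprime u hu
    have hne : I u ≠ P := fun e => huv (hle u hu v hv (e ▸ h2)).symm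
    have hbot : (⊥ : Ideal (⨂[k] _ : Fin n, A)) < I u := bot_lt_iff_ne_bot.mpr fun e =>
      huv (hle v hv u hu (e ▸ bot_le))
    haveI : (⊥ : Ideal (⨂[k] _ : Fin n, A)).IsPrime := Ideal.isPrime_bot
    have e1 : (⊥ : Ideal (⨂[k] _ : Fin n, A)).height < (I u).height :=
      Ideal.height_strict_mono_of_isPrime hbot
    have e2 : (I u).height < P.height := Ideal.height_strict_mono_of_isPrime (lt_of_le_of_ne h1 hne)
    rw [Ideal.height_bot] at e1
    exact le_trans (le_of_eq (by norm_num)) (le_trans (add_le_add (Order.one_le_iff_pos.mpr e1) le_rfl)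
      (Order.add_one_le_of_lt e2))
  have hdR : (2 : ℕ∞) ≤ LocCoh.idealDepth 𝔞 (⨂[k] _ : Fin n, A) :=
    hht.trans (GrSegre.height_le_idealDepth 𝔞)
  have hnat : ∀ m : ℕ, m ≠ 0 → IsUnit (m : ⨂[k] _ : Fin n, A) := fun m hm => by
    rw [← map_natCast (algebraMap k (⨂[k] _ : Fin n, A))]
    exact (isUnit_iff_ne_zero.mpr (Nat.cast_ne_zero.mpr hm)).map _
  have hdQ : (1 : ℕ∞) ≤ LocCoh.idealDepth 𝔞 ((⨂[k] _ : Fin n, A) ⧸ M) := by
    rw [Depth.one_le_idealDepth_iff]
    intro P hP hle'
    obtain ⟨hPp, y, hy⟩ := isAssociatedPrime_iff.1 hP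
    obtain ⟨f, rfl⟩ := Submodule.Quotient.mk_surjective M y
    have hf : f ∈ M := by
      rw [hM, Submodule.mem_iInf]
      intro p
      rw [Submodule.mem_iInf]
      intro hp
      obtain ⟨r, hr, hrp⟩ := SetLike.not_le_iff_exists.mp (hnle p hp)
      have h0 : r * f ∈ M := by
        have hr' := hle' hr
        rw [hy, Submodule.mem_colon_singleton, Submodule.mem_bot, ← Submodule.Quotient.mk_smul,
          Submodule.Quotient.mk_eq_zero] at hr'
        exact hr'
      rw [hM, Submodule.mem_iInf] at h0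
      have h1 := h0 p
      rw [Submodule.mem_iInf] at h1
      have h2 := h1 hp
      obtain ⟨N, w, D, hE⟩ := exists_euler (k := k) (A := A) p (Finset.mem_filter.mp hp).2.ne
      haveI := hprime p hp
      rw [hI' p] at hrp h2 ⊢
      haveI : (dia (k := k) (A := A) p).IsPrime := hI' p ▸ hprime p hp
      exact mem_pow_of_mul_mem _ w D hE hnat hrp (ℓ p) f h2
    refine hPp.ne_top ((Ideal.eq_top_iff_one _).2 ?_)
    rw [hy, Submodule.mem_colon_singleton, Submodule.mem_bot, one_smul, Submodule.Quotient.mk_eq_zero]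
    exact hf
  have hdM : ((2 : ℕ) : ℕ∞) ≤ LocCoh.idealDepth 𝔞 M := by
    refine le_trans (le_min hdR ?_) (Depth.min_le_idealDepth_X₁ (f := M.subtype) M.injective_subtype
      M.mkQ_surjective (LinearMap.exact_subtype_mkQ M))
    calc (2 : ℕ∞) = 1 + 1 := rfl
      _ ≤ _ := add_le_add hdQ le_rfl
  have hH := (Groth.Agent.LocCoh.le_idealDepth_iff_H 𝔞 M 2).mp hdM
  exact ⟨@ModuleCat.isZero_of_subsingleton _ _ _ (hH 0 (by omega)),
    @ModuleCat.isZero_of_subsingleton _ _ _ (hH 1 (by omega))⟩

end Groth.Agent.S19217
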