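import Groth.Statements.S19218


set_option autoImplicit false
universe u v
open TensorProduct
open DiagIdeal

namespace Groth.Agent.S19218

/-- Let k be an algebraically closed field of characteristic zero and A a smooth k-algebra which is a
domain of Krull dimension 2. In the n-fold tensor power R of A over k, indexed by Fin n, let I_p (p
= (i, j), i < j) be the ideal generated by the a_i − a_j, a ∈ A, and let I be the intersection of
the I_p, the ideal of the big diagonal. Assume that for every s ≥ 0 the power I ^ s is the
intersection of the powers I_p ^ s (a property of the big diagonal of a smooth surface that the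
source takes from the literature). Then for m ≥ 1 every element of R fixed by all permutations of
the n factors and lying in I ^ (2m − 1) lies in I ^ (2m): on the symmetric product the invariants of
the odd power and of the next even power of the ideal of the big diagonal coincide. (The source
states the sheaf version for a smooth quasi-projective complex surface, using the displayed property
of the powers without restating it as a hypothesis.) -/
theorem result (k : Type u) [Field k] [IsAlgClosed k] [CharZero k]
    (A : Type v) [CommRing A] [Algebra k A] [Algebra.Smooth k A] [IsDomain A]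
    (hdim : ringKrullDim A = 2) (n : ℕ)
    (I : Fin n × Fin n → Ideal (⨂[k] _ : Fin n, A))
    (hI : ∀ p, I p = Ideal.span (Set.range fun a : A =>
        PiTensorProduct.singleAlgHom (R := k) (A := fun _ : Fin n => A) p.1 a -
        PiTensorProduct.singleAlgHom (R := k) (A := fun _ : Fin n => A) p.2 a))
    (IΔ : Ideal (⨂[k] _ : Fin n, A))
    (hIΔ : IΔ = ⨅ p ∈ Finset.univ.filter (fun p : Fin n × Fin n => p.1 < p.2), I p)
    (hpow : ∀ s : ℕ, IΔ ^ s = ⨅ p ∈ Finset.univ.filter (fun p : Fin n × Fin n => p.1 < p.2), (I p) ^ s)
    (m : ℕ) (hm : 1 ≤ m) (x : ⨂[k] _ : Fin n, A)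
    (hx : ∀ σ : Equiv.Perm (Fin n), PiTensorProduct.reindex k (fun _ : Fin n => A) σ x = x)
    (hmem : x ∈ IΔ ^ (2 * m - 1)) :
    x ∈ IΔ ^ (2 * m) := by
  rw [hpow, Submodule.mem_iInf] at hmem
  rw [hpow, Submodule.mem_iInf]
  intro p
  rw [Submodule.mem_iInf]
  intro hp
  have hmp := (Submodule.mem_iInf _).1 (hmem p) hp
  have hne : p.1 ≠ p.2 := ne_of_lt (Finset.mem_filter.1 hp).2
  let T := ⨂[k] _ : Fin n, A
  set e : Fin n → A →ₐ[k] T := fun i => PiTensorProduct.singleAlgHom (R := k) (A := fun _ : Fin n => A) i
  set σ := Equiv.swap p.1 p.2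
  set J := I p
  let φl : T →ₗ[k] T := (PiTensorProduct.reindex k (fun _ : Fin n => A) σ).toLinearMap
  have hmul : ∀ a b, φl (a * b) = φl a * φl b := by
    intro a b
    induction a using PiTensorProduct.induction_on with
    | add u v hu hv => rw [add_mul, map_add, hu, hv, map_add, add_mul]
    | smul_tprod r f =>
      induction b using PiTensorProduct.induction_on with
      | add u v hu hv => rw [mul_add, map_add, hu, hv, map_add, mul_add]
      | smul_tprod r' g =>
        rw [smul_mul_assoc, mul_smul_comm, map_smul, map_smul, map_smul, map_smul, smul_mul_assoc, mul_smul_comm,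
          PiTensorProduct.tprod_mul_tprod]
        simp only [φl, LinearEquiv.coe_coe]
        erw [PiTensorProduct.reindex_tprod, PiTensorProduct.reindex_tprod, PiTensorProduct.reindex_tprod]
        rw [PiTensorProduct.tprod_mul_tprod]
        rfl
  let φ : T →ₐ[k] T := AlgHom.ofLinearMap φl (by
    show φl (PiTensorProduct.tprod k (fun _ : Fin n => (1 : A))) = _
    simp only [φl, LinearEquiv.coe_coe]
    erw [PiTensorProduct.reindex_tprod]
    rfl) hmul
  have he : ∀ i a, φ (e i a) = e (σ i) a := fun i a => by
    show PiTensorProduct.reindex k (fun _ : Fin n => A) σ (PiTensorProduct.singleAlgHom i a) = _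
    simp only [e, PiTensorProduct.singleAlgHom_apply]
    erw [PiTensorProduct.reindex_tprod]
    show _ = PiTensorProduct.singleAlgHom (R := k) (A := fun _ : Fin n => A) (σ i) a
    rw [PiTensorProduct.singleAlgHom_apply]
    refine congrArg (PiTensorProduct.tprod k) ?_
    funext j
    simp [Pi.mulSingle_apply, σ]
    exact if_congr (Equiv.swap_apply_eq_iff) rfl rfl
  have hg : ∀ a, e p.1 a - e p.2 a ∈ J := fun a => by
    show _ ∈ I p
    rw [hI p]
    exact Ideal.subset_span ⟨a, rfl⟩
  have hmod : ∀ r, φ r - r ∈ J := by
    intro r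
    have h : (Ideal.Quotient.mkₐ k J).comp φ = Ideal.Quotient.mkₐ k J := by
      refine PiTensorProduct.algHom_ext fun i => AlgHom.ext fun a => ?_
      show Ideal.Quotient.mk J (φ (e i a)) = Ideal.Quotient.mk J (e i a)
      rw [he]
      by_cases h1 : i = p.1
      · subst h1
        rw [show σ p.1 = p.2 from Equiv.swap_apply_left _ _]
        exact (Ideal.Quotient.eq.2 (hg a)).symm
      · by_cases h2 : i = p.2
        · subst h2
          rw [show σ p.2 = p.1 from Equiv.swap_apply_right _ _]
          exact Ideal.Quotient.eq.2 (hg a)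
        · rw [show σ i = i from Equiv.swap_apply_of_ne_of_ne h1 h2]
    exact Ideal.Quotient.eq.1 (AlgHom.congr_fun h r)
  have hneg : ∀ g ∈ J, φ g + g ∈ J ^ 2 := by
    intro g hgJ
    rw [show J = Ideal.span (Set.range fun a : A => e p.1 a - e p.2 a) from hI p] at hgJ
    induction hgJ using Submodule.span_induction with
    | zero => rw [map_zero, add_zero]; exact zero_mem _
    | add u v _ _ hu hv => rw [map_add, add_add_add_comm]; exact add_mem hu hv
    | mem u hu =>
      obtain ⟨a, rfl⟩ := hu
      rw [map_sub, he, he, Equiv.swap_apply_left, Equiv.swap_apply_right]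
      convert zero_mem (J ^ 2) using 1
      ring
    | smul r u hu hu' =>
      have huJ : u ∈ J := by show u ∈ I p; rw [hI p]; exact hu
      rw [smul_eq_mul, map_mul, show φ r * φ u + r * u = φ r * (φ u + u) - (φ r - r) * u by ring]
      refine sub_mem (Ideal.mul_mem_left _ _ hu') ?_
      rw [pow_two]
      exact Ideal.mul_mem_mul (hmod r) huJ
  have hφJ : ∀ g ∈ J, φ g ∈ J := fun g hg' => by simpa using add_mem (hmod g) hg'
  have hmain : ∀ s, ∀ y ∈ J ^ s, φ y ∈ J ^ s ∧ φ y - (-1) ^ s * y ∈ J ^ (s + 1) := by
    intro s
    induction s with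
    | zero => intro y hy; simpa using hmod y
    | succ s ih =>
      intro y hy
      rw [pow_succ'] at hy
      refine Submodule.mul_induction_on hy (fun g hgJ z hz => ?_) (fun u v hu hv => ?_)
      · obtain ⟨h1, h2⟩ := ih z hz
        rw [map_mul]
        refine ⟨?_, ?_⟩
        · rw [pow_succ']; exact Ideal.mul_mem_mul (hφJ g hgJ) h1
        · rw [show φ g * φ z - (-1) ^ (s + 1) * (g * z) =
            (φ g + g) * φ z - g * (φ z - (-1) ^ s * z) by ring]
          refine sub_mem ?_ ?_
          · rw [show s + 1 + 1 = 2 + s by omega, pow_add]; exact Ideal.mul_mem_mul (hneg g hgJ) h1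
          · rw [pow_succ' J (s + 1)]; exact Ideal.mul_mem_mul hgJ h2
      · refine ⟨by rw [map_add]; exact add_mem hu.1 hv.1, ?_⟩
        rw [map_add, mul_add, add_sub_add_comm]
        exact add_mem hu.2 hv.2
  obtain ⟨-, h2⟩ := hmain _ x hmp
  rw [show φ x = x from hx σ, (show Odd (2 * m - 1) from ⟨m - 1, by omega⟩).neg_one_pow,
    show 2 * m - 1 + 1 = 2 * m by omega] at h2
  have h3 := Ideal.mul_mem_left _ (algebraMap k T (2 : k)⁻¹) h2
  rwa [show x - -1 * x = algebraMap k T 2 * x by rw [map_ofNat]; ring, ← mul_assoc, ← map_mul,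
    inv_mul_cancel₀ (two_ne_zero' k), map_one, one_mul] at h3

end Groth.Agent.S19218
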