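import Groth.Statements.S19221
import Mathlib

set_option autoImplicit false
universe u
open SymRep

namespace Groth.Agent.S19221

section

/-- the values of the cycle vectors -/
def w (i j l a b : Fin 4) : ℤ :=
  (if a = i ∧ b = j then 1 else 0) + (if a = j ∧ b = l then 1 else 0) + (if a = l ∧ b = i then 1 else 0)
    - (if a = j ∧ b = i then 1 else 0) - (if a = l ∧ b = j then 1 else 0) - (if a = i ∧ b = l then 1 else 0)

/-- the determinant of the images of the two cycles on the edges `12`, `23` -/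
def D (σ : Equiv.Perm (Fin 4)) : ℤ :=
  w (σ 0) (σ 1) (σ 2) 1 2 * w (σ 0) (σ 2) (σ 3) 2 3 - w (σ 0) (σ 1) (σ 2) 2 3 * w (σ 0) (σ 2) (σ 3) 1 2

end

/-- Let k be a field of characteristic zero and F the k-space of functions Fin 2 → Fin 4 → Fin 4 → k,
with the symmetric group of Fin 4 acting through P σ f c a b = f c (σ⁻¹ a) (σ⁻¹ b). The signed edge
vectors of the complete graph on four vertices live in F as the functions antisymmetric in the two
vertex arguments, and for a colour c and an oriented 3-cycle i → j → l → i the cycle vector z c i j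
l is the function equal, in colour c, to +1 at (i,j), (j,l), (l,i), to −1 at (j,i), (l,j), (i,l) and
to 0 elsewhere (and 0 in the other colour); these cycle vectors span k² ⊗ (cycle space), the
representation written C² ⊗ q in the published text. Let Γ be the graph with edges 01, 02, 03, 12,
23 (a 4-cycle with one chord), whose cycle space is spanned by the cycles (0,1,2) and (0,2,3), and
let ω be the product in the exterior algebra of F of the four vectors z 0 0 1 2, z 1 0 1 2, z 0 0 2
3, z 1 0 2 3 (a generator of the top exterior power of k² ⊗ q_Γ). Then ω is fixed by the stabiliser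
of Γ in the symmetric group (generated by the transpositions (0 2) and (1 3)), and the sum over all
24 permutations σ of the images of ω under the maps induced by P σ is nonzero: the projection of ω
to the invariants of the fourth exterior power of k² ⊗ q_{K₄} does not vanish. (The published
statement is over the complex numbers; a field of characteristic zero is used here. The published
statement also asserts that this map is an isomorphism onto the one-dimensional space of
S₄-invariants of the fourth exterior power of k² ⊗ q_{K₄}; only its non-vanishing is stated here.) -/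
theorem result (k : Type u) [Field k] [CharZero k]
    (P : Equiv.Perm (Fin 4) → ((Fin 2 → Fin 4 → Fin 4 → k) →ₗ[k] (Fin 2 → Fin 4 → Fin 4 → k)))
    (hP : ∀ (σ : Equiv.Perm (Fin 4)) (f : Fin 2 → Fin 4 → Fin 4 → k) (c : Fin 2) (a b : Fin 4),
      P σ f c a b = f c (σ.symm a) (σ.symm b))
    (z : Fin 2 → Fin 4 → Fin 4 → Fin 4 → (Fin 2 → Fin 4 → Fin 4 → k))
    (hz : ∀ (c : Fin 2) (i j l : Fin 4) (c' : Fin 2) (a b : Fin 4), z c i j l c' a b =
      if c' = c then
        ((if a = i ∧ b = j then 1 else 0) + (if a = j ∧ b = l then 1 else 0) + (if a = l ∧ b = i then 1 else 0)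
          - (if a = j ∧ b = i then 1 else 0) - (if a = l ∧ b = j then 1 else 0) - (if a = i ∧ b = l then 1 else 0))
      else 0)
    (ω : ExteriorAlgebra k (Fin 2 → Fin 4 → Fin 4 → k))
    (hω : ω = ExteriorAlgebra.ι k (z 0 0 1 2) * ExteriorAlgebra.ι k (z 1 0 1 2) *
      ExteriorAlgebra.ι k (z 0 0 2 3) * ExteriorAlgebra.ι k (z 1 0 2 3)) :
    ExteriorAlgebra.map (P (Equiv.swap 0 2)) ω = ω ∧
    ExteriorAlgebra.map (P (Equiv.swap 1 3)) ω = ω ∧
    (∑ σ : Equiv.Perm (Fin 4), ExteriorAlgebra.map (P σ) ω) ≠ 0 := by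
  classical
  have hPz : ∀ σ c i j l, P σ (z c i j l) = z c (σ i) (σ j) (σ l) := fun σ c i j l => by
    funext c' a b
    simp [hP, hz, Equiv.symm_apply_eq]
  have hrev : ∀ c i j l, z c l j i = -z c i j l := fun c i j l => by
    funext c' a b
    simp only [Pi.neg_apply, hz]
    split_ifs <;> ring
  have hcyc : ∀ c i j l, z c j l i = z c i j l := fun c i j l => by
    funext c' a b
    simp only [hz]
    split_ifs <;> ring
  have himg : ∀ σ, ExteriorAlgebra.map (P σ) ω = ExteriorAlgebra.ι k (z 0 (σ 0) (σ 1) (σ 2)) * ExteriorAlgebra.ι k (z 1 (σ 0) (σ 1) (σ 2)) *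
      ExteriorAlgebra.ι k (z 0 (σ 0) (σ 2) (σ 3)) * ExteriorAlgebra.ι k (z 1 (σ 0) (σ 2) (σ 3)) := fun σ => by
    simp [hω, hPz]
  refine ⟨?_, ?_, ?_⟩
  · rw [himg, hω]
    simp only [Equiv.swap_apply_left, Equiv.swap_apply_right,
      Equiv.swap_apply_of_ne_of_ne (show (1 : Fin 4) ≠ 0 by decide) (show (1 : Fin 4) ≠ 2 by decide),
      Equiv.swap_apply_of_ne_of_ne (show (3 : Fin 4) ≠ 0 by decide) (show (3 : Fin 4) ≠ 2 by decide)]
    have h1 : ∀ c, z c 2 1 0 = -z c 0 1 2 := fun c => hrev c 0 1 2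
    have h2 : ∀ c, z c 2 0 3 = -z c 0 2 3 := fun c => by rw [← hrev c 0 2 3]; exact hcyc c 3 2 0
    simp [h1, h2]
  · rw [himg, hω]
    simp only [Equiv.swap_apply_left, Equiv.swap_apply_right,
      Equiv.swap_apply_of_ne_of_ne (show (0 : Fin 4) ≠ 1 by decide) (show (0 : Fin 4) ≠ 3 by decide),
      Equiv.swap_apply_of_ne_of_ne (show (2 : Fin 4) ≠ 1 by decide) (show (2 : Fin 4) ≠ 3 by decide)]
    have h1 : ∀ c, z c 0 3 2 = -z c 0 2 3 := fun c => by rw [← hrev c 0 2 3]; exact (hcyc c 2 0 3).trans (hcyc c 3 2 0)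
    have h2 : ∀ c, z c 0 2 1 = -z c 0 1 2 := fun c => by rw [← hrev c 0 1 2]; exact (hcyc c 1 0 2).trans (hcyc c 2 1 0)
    simp only [h1, h2, map_neg, neg_mul, mul_neg, neg_neg]
    have sw : ∀ x y, ExteriorAlgebra.ι k x * ExteriorAlgebra.ι k y =
        -(ExteriorAlgebra.ι k (y : Fin 2 → Fin 4 → Fin 4 → k) * ExteriorAlgebra.ι k x) := fun x y =>
      eq_neg_of_add_eq_zero_left (ExteriorAlgebra.ι_add_mul_swap x y)
    set a0 := z 0 0 1 2
    set a1 := z 1 0 1 2
    set b0 := z 0 0 2 3
    set b1 := z 1 0 2 3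
    simp only [mul_assoc]
    rw [← mul_assoc (ExteriorAlgebra.ι k b1), sw b1 a0]
    simp only [neg_mul, mul_neg, neg_neg, mul_assoc]
    rw [sw b1 a1]
    simp only [neg_mul, mul_neg, neg_neg, mul_assoc]
    rw [← mul_assoc (ExteriorAlgebra.ι k b0), sw b0 a0]
    simp only [neg_mul, mul_neg, neg_neg, mul_assoc]
    rw [← mul_assoc (ExteriorAlgebra.ι k b0), sw b0 a1]
    simp only [neg_mul, mul_neg, neg_neg, mul_assoc]
  · let co : (Fin 2 → Fin 4 → Fin 4 → k) →ₗ[k] (Fin 4 → k) :=
      { toFun := fun f => ![f 0 1 2, f 1 1 2, f 0 2 3, f 1 2 3]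
        map_add' := fun f g => by funext i; fin_cases i <;> rfl
        map_smul' := fun c f => by funext i; fin_cases i <;> rfl }
    let F : ∀ i, (Fin 2 → Fin 4 → Fin 4 → k) [⋀^Fin i]→ₗ[k] k :=
      Function.update 0 4 (Matrix.detRowAlternating.compLinearMap co)
    let Ψ := ExteriorAlgebra.liftAlternating (R := k) F
    have hw : ∀ c i j l c' a b, z c i j l c' a b = if c' = c then (w i j l a b : k) else 0 := fun c i j l c' a b => by
      rw [hz]; simp [w]
    have hval : ∀ σ, Ψ (ExteriorAlgebra.map (P σ) ω) = ((D σ) ^ 2 : ℤ) := by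
      intro σ
      rw [himg]
      rw [show ExteriorAlgebra.ι k (z 0 (σ 0) (σ 1) (σ 2)) * ExteriorAlgebra.ι k (z 1 (σ 0) (σ 1) (σ 2)) *
        ExteriorAlgebra.ι k (z 0 (σ 0) (σ 2) (σ 3)) * ExteriorAlgebra.ι k (z 1 (σ 0) (σ 2) (σ 3)) =
        ExteriorAlgebra.ιMulti k 4 ![z 0 (σ 0) (σ 1) (σ 2), z 1 (σ 0) (σ 1) (σ 2), z 0 (σ 0) (σ 2) (σ 3), z 1 (σ 0) (σ 2) (σ 3)] by
          simp [ExteriorAlgebra.ιMulti_apply, List.ofFn_succ, mul_assoc]]
      rw [ExteriorAlgebra.liftAlternating_apply_ιMulti]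
      simp only [F, Function.update_self, AlternatingMap.compLinearMap_apply]
      show Matrix.det _ = _
      rw [Matrix.det_succ_row_zero]
      simp [Fin.sum_univ_succ, Matrix.det_fin_three, Fin.succAbove, co, hw, D]
      ring
    intro h0
    have h := congrArg Ψ h0
    rw [map_zero, map_sum, Finset.sum_congr rfl (fun σ _ => hval σ), ← Int.cast_sum, Int.cast_eq_zero] at h
    have h1 : D 1 ≠ 0 := by decide
    exact h1 (pow_eq_zero_iff two_ne_zero |>.1 ((Finset.sum_eq_zero_iff_of_nonneg fun σ _ => sq_nonneg (D σ)).1 h 1 (Finset.mem_univ _)))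

end Groth.Agent.S19221
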