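import Groth.Statements.S19223
import Groth.Agent.GalCohAux.HenselUnits

set_option autoImplicit false
attribute [local instance] Units.mulDistribMulActionRight
open GalCoh

namespace Groth.Agent.S19223

/-- For a strictly henselian local ring R whose residue field k has characteristic p ≥ 0, and a finite
group G of order prime to p acting on R by ring automorphisms (hence on the unit groups R^× and
k^×), consider the homomorphism H^n(G, R^×) → H^n(G, k^×) induced by the reduction map. It is
bijective for every n ≥ 2; it is also bijective for n = 1 provided that p = 0 or the only p-power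
root of unity in R is 1. (The reduction map on cohomology is pinned by its values on units; groups,
rings and modules are taken in the lowest universe, as integral coefficients in the group-cohomology
library require.) -/
theorem result (R : Type) [CommRing R]
    [HenselianLocalRing R] [IsSepClosed (IsLocalRing.ResidueField R)] (p : ℕ) [CharP (IsLocalRing.ResidueField R) p]
    (G : Type) [Group G] [Finite G] [MulSemiringAction G R] (hp : ¬ p ∣ Nat.card G)
    (φ : Rep.ofMulDistribMulAction G Rˣ ⟶ Rep.ofMulDistribMulAction G (IsLocalRing.ResidueField R)ˣ)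
    (hφ : ∀ x : Rˣ, Additive.toMul (φ.hom (Additive.ofMul x)) = Units.map (IsLocalRing.residue R).toMonoidHom x)
    (n : ℕ) (hn : 1 ≤ n) (h1 : n = 1 → p ≠ 0 → ∀ (ζ : Rˣ) (m : ℕ), ζ ^ p ^ m = 1 → ζ = 1) :
    Function.Bijective ((groupCohomology.functor ℤ G n).map φ).hom := by
  obtain ⟨n, rfl⟩ : ∃ m, n = m + 1 := ⟨n - 1, by omega⟩
  have hN : IsUnit (Nat.card G : R) := GalCohAux.HenselUnits.isUnit_natCast hp
  have hker : ∀ a : Additive Rˣ, φ.hom a = 0 ↔ IsLocalRing.residue R (Additive.toMul a : Rˣ) = 1 := by
    intro a
    constructor
    · intro h
      have h' : Additive.toMul (φ.hom a) = _ := hφ (Additive.toMul a)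
      rw [h] at h'
      exact (congrArg Units.val h').symm
    · intro h
      apply Additive.toMul.injective
      have h' : Additive.toMul (φ.hom a) = _ := hφ (Additive.toMul a)
      rw [h']
      exact Units.ext h
  refine GalCohAux.KerDivisible.functor_map_bijective φ (fun y => ?_) (fun a ha => ?_)
    (fun a ha hN0 => ?_) n
  · obtain ⟨x, hx⟩ := IsLocalRing.surjective_units_map_of_local_ringHom (IsLocalRing.residue R)
      IsLocalRing.residue_surjective inferInstance (Additive.toMul y)
    exact ⟨Additive.ofMul x, Additive.toMul.injective ((hφ x).trans hx)⟩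
  · obtain ⟨b, hb, hb'⟩ := GalCohAux.HenselUnits.exists_root hN (Additive.toMul a) ((hker a).1 ha)
    exact ⟨Additive.ofMul b, (hker _).2 hb, Additive.toMul.injective hb'⟩
  · exact Additive.toMul.injective (GalCohAux.HenselUnits.eq_one_of_pow_eq_one hN (Additive.toMul a)
      ((hker a).1 ha) (congrArg Additive.toMul hN0))

end Groth.Agent.S19223
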