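import Groth.Statements.S19227
import Groth.Agent.NormMap87.Basic
import Groth.Agent.EtaleSite.HpullComp
import Groth.Agent.EtaleSite.HpullSeq
import Groth.Agent.GalCohAux.EtNsmul
import Groth.Agent.S14451
import Groth.Agent.S3054

set_option autoImplicit false
set_option backward.isDefEq.respectTransparency false
set_option linter.style.haveILetI false
open CategoryTheory CategoryTheory.Limits AlgebraicGeometry Opposite TopologicalSpace
universe u
open Dix

noncomputable section

namespace Groth.Agent.S19227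

open Groth.Agent Groth.Agent.GrpdLib Groth.Agent.NormFLF

variable {X Y : Scheme.{u}} (π : X ⟶ Y) [IsFinite π] [Flat π] [LocallyOfFinitePresentation π]

/-- The norm of a function on the base is its power. -/
theorem norm_app {d : ℕ} (hd : ∀ y : Y, π.finrank y = d) (U : Y.Opens) (g : Γ(Y, U)) :
    norm π U (π.app U g) = g ^ d := by
  refine ext_affine fun W hW i => ?_
  rw [norm_spec, map_pow]
  letI := (π.appLE W (π ⁻¹ᵁ W) le_rfl).hom.toAlgebra
  obtain ⟨P⟩ := nonempty_pres π hW
  haveI : Module.Finite Γ(Y, W) Γ(X, π ⁻¹ᵁ W) := by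
    have : (π.appLE W (π ⁻¹ᵁ W) le_rfl).hom.Finite := by
      rw [Scheme.Hom.appLE_eq_app]; exact π.finite_app W hW
    exact this
  haveI : Module.Flat Γ(Y, W) Γ(X, π ⁻¹ᵁ W) :=
    HasRingHomProperty.appLE @Flat π inferInstance ⟨W, hW⟩ ⟨_, hW.preimage π⟩ le_rfl
  haveI : Algebra.FinitePresentation Γ(Y, W) Γ(X, π ⁻¹ᵁ W) := π.finitePresentation_appLE hW (hW.preimage π) le_rfl
  haveI := Module.FinitePresentation.of_finite_of_finitePresentation Γ(Y, W) Γ(X, π ⁻¹ᵁ W)
  haveI : Module.Projective Γ(Y, W) Γ(X, π ⁻¹ᵁ W) := Module.Flat.projective_of_finitePresentation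
  refine Eq.trans ?_ (norm_algebraMap (rankAtStalk_eq π hd hW) (nonempty_pres π hW).some (Y.presheaf.map i.op g))
  change nW π hW _ = nW π hW _
  congr 1
  change _ = (π.appLE W (π ⁻¹ᵁ W) le_rfl) _
  rw [Scheme.Hom.appLE_eq_app, ← CommRingCat.comp_apply, ← CommRingCat.comp_apply, Scheme.Hom.naturality]
  rfl

omit [IsFinite π] [Flat π] [LocallyOfFinitePresentation π] in
theorem isPullback_bc {V₁ V₂ : Y.Etale} (g : V₁ ⟶ V₂) :
    IsPullback ((EtCoh.bc π).map g).left (pullback.fst V₁.hom π) (pullback.fst V₂.hom π) g.left := by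
  refine IsPullback.of_right ?_ ?_ (IsPullback.of_hasPullback V₂.hom π).flip
  · have e : ((EtCoh.bc π).map g).left ≫ pullback.snd V₂.hom π = pullback.snd V₁.hom π :=
      pullback.lift_snd _ _ _
    rw [e, MorphismProperty.Over.w g]
    exact (IsPullback.of_hasPullback V₁.hom π).flip
  · exact pullback.lift_fst _ _ _

/-- The norm on units over an étale scheme. -/
def normU (V : Y.Etale) : Γ(pullback V.hom π, ⊤)ˣ →* Γ(V.left, ⊤)ˣ :=
  Units.map (norm (pullback.fst V.hom π) ⊤)

/-- The norm `π_* G_m ⟶ G_m`. -/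
def normGm : (EtCoh.push π).obj (EtCoh.Gm X) ⟶ EtCoh.Gm Y :=
  ⟨{ app := fun V => AddCommGrpCat.ofHom
      { toFun := fun x => ULift.up (Additive.ofMul (normU π (unop V) (Additive.toMul (α := Γ(pullback (unop V).hom π, ⊤)ˣ) x.down)))
        map_zero' := ULift.ext _ _ (congrArg Additive.ofMul (map_one (normU π (unop V))))
        map_add' := fun x y => ULift.ext _ _
          (congrArg Additive.ofMul (map_mul (normU π (unop V)) (Additive.toMul (α := Γ(pullback (unop V).hom π, ⊤)ˣ) x.down) (Additive.toMul (α := Γ(pullback (unop V).hom π, ⊤)ˣ) y.down))) }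
     naturality := fun V₁ V₂ g => AddCommGrpCat.ext fun x => ULift.ext _ _ (congrArg Additive.ofMul
       (Units.ext (NormMap87.appTop_norm (isPullback_bc π g.unop) (Additive.toMul (α := Γ(pullback (unop V₁).hom π, ⊤)ˣ) x.down).val).symm)) }⟩

/-- Units pull back. -/
def resGm : EtCoh.Gm Y ⟶ (EtCoh.push π).obj (EtCoh.Gm X) :=
  ⟨{ app := fun V => EtCoh.ΓUnits.map (pullback.fst (unop V).hom π).op
     naturality := fun V₁ V₂ g => by
       refine (EtCoh.ΓUnits.map_comp _ _).symm.trans (Eq.trans ?_ (EtCoh.ΓUnits.map_comp _ _))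
       exact congrArg (fun k => EtCoh.ΓUnits.map (Quiver.Hom.op k)) (isPullback_bc π g.unop).w.symm }⟩

theorem finrank_fst {d : ℕ} (hd : ∀ y : Y, π.finrank y = d) (V : Y.Etale) (v : V.left) :
    (pullback.fst V.hom π).finrank v = d := by
  rw [Scheme.Hom.finrank_of_isPullback _ _ _ _ (IsPullback.of_hasPullback V.hom π).flip v]
  exact hd _

theorem resGm_normGm {d : ℕ} (hd : ∀ y : Y, π.finrank y = d) :
    resGm π ≫ normGm π = d • 𝟙 (EtCoh.Gm Y) := by
  refine Sheaf.hom_ext (NatTrans.ext (funext fun V => AddCommGrpCat.ext fun x => ?_))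
  refine Eq.trans ?_ (GalCohAux.EtNsmul.nsmul_id_app (EtCoh.Gm Y) d (unop V) x).symm
  refine ULift.ext _ _ (congrArg Additive.ofMul (Units.ext ?_))
  refine (norm_app (pullback.fst (unop V).hom π) (finrank_fst π hd (unop V)) ⊤ (Additive.toMul (α := Γ((unop V).left, ⊤)ˣ) x.down).val).trans ?_
  rfl

/-- Let f : X → Y be a finite locally free morphism of schemes of constant degree d ≥ 1, so that f is
finite, flat, of finite presentation and surjective. If H²(X_et, G_m) is a torsion group, then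
H²(Y_et, G_m) is a torsion group. (The source states this for a finite, flat, finitely presented
surjection of algebraic stacks and argues with multiplication by the degree of f; the case of
schemes with f of constant degree is what is stated here.) -/
theorem result (X Y : Scheme.{u}) (f : X ⟶ Y) (d : ℕ) (hd : 1 ≤ d)
    (hf : Mor2.IsFinLocFreeOfDeg d f) (hX : IsAddTorsion (Dix.BrCoh X)) :
    IsAddTorsion (Dix.BrCoh Y) := by
  obtain ⟨⟨_, _, _⟩, hrk⟩ := hf
  haveI := EtaleSite.preservesFiniteLimits_pull f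
  intro α
  let x : EtCoh.H Y ((EtCoh.push f).obj (EtCoh.Gm X)) 2 :=
    α.comp (Abelian.Ext.mk₀ (resGm f)) (add_zero 2)
  have hb := S14451.result f (EtCoh.Gm X) (fun q hq => S3054.result f _ q hq) 2
  obtain ⟨m, hm, hm'⟩ := isOfFinAddOrder_iff_nsmul_eq_zero.1 (hX (EtLim.HofPush f (EtCoh.Gm X) 2 x))
  have hx : m • x = 0 := hb.1 ((map_nsmul _ _ _).trans (hm'.trans (map_zero _).symm))
  refine isOfFinAddOrder_iff_nsmul_eq_zero.2 ⟨m * d, Nat.mul_pos hm hd, ?_⟩
  have h1 : x.comp (Abelian.Ext.mk₀ (normGm f)) (add_zero 2) = d • α := by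
    show (α.comp (Abelian.Ext.mk₀ (resGm f)) (add_zero 2)).comp (Abelian.Ext.mk₀ (normGm f)) (add_zero 2) = _
    rw [Abelian.Ext.comp_assoc_of_second_deg_zero, Abelian.Ext.mk₀_comp_mk₀, resGm_normGm f hrk]
    exact GalCohAux.EtNsmul.comp_nsmul_id α d
  let Q : EtCoh.H Y ((EtCoh.push f).obj (EtCoh.Gm X)) 2 →+ EtCoh.H Y (EtCoh.Gm Y) 2 :=
    AddMonoidHom.mk' (fun z => z.comp (Abelian.Ext.mk₀ (normGm f)) (add_zero 2))
      fun a b => Abelian.Ext.add_comp _ _ _ _
  have h2 : Q (m • x) = m • d • α := by rw [map_nsmul]; exact congrArg (m • ·) h1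
  rw [mul_nsmul', ← h2, hx, map_zero]

end Groth.Agent.S19227
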