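import Groth.Statements.S19228
import Groth.Agent.SekLib.SpecPts
import Groth.Agent.GrpScheme.Basic
import Groth.Agent.GrpdLib.GrpOver
import Mathlib.AlgebraicGeometry.Sites.Fpqc
import Mathlib.RingTheory.RootsOfUnity.AlgebraicallyClosed
-- import your own Groth.Agent.* helpers here

set_option autoImplicit false
universe u
open CategoryTheory MonoidalCategory CartesianMonoidalCategory MonObj GrpObj AlgebraicGeometry
open CategoryTheory.Limits GrpSch

namespace Groth.Agent.S19228

set_option maxHeartbeats 1600000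
set_option synthInstance.maxHeartbeats 400000

section Alg

variable {R : Type u} [CommRing R] {n : ℕ} [NeZero n]

/-- The value of a coefficient matrix at a pair of characters. -/
noncomputable def Phi (f : ZMod n → ZMod n → R) {A : Type u} [CommRing A] [Algebra R A]
    (x y : Multiplicative (ZMod n) →* A) : A :=
  ∑ a, ∑ b, algebraMap R A (f a b) * x (Multiplicative.ofAdd a) * y (Multiplicative.ofAdd b)

/-- The group algebra. -/
abbrev BA (R : Type u) [CommRing R] (n : ℕ) : Type u := MonoidAlgebra R (Multiplicative (ZMod n))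

open Multiplicative in
/-- A bimultiplicative alternating pairing of roots of unity with values in units is trivial. -/
theorem pairing_trivial (f : ZMod n → ZMod n → R)
    (hl : ∀ (A : Type u) [CommRing A] [Algebra R A] (x x' y : Multiplicative (ZMod n) →* A),
      Phi f (x * x') y = Phi f x y * Phi f x' y)
    (hr : ∀ (A : Type u) [CommRing A] [Algebra R A] (x y y' : Multiplicative (ZMod n) →* A),
      Phi f x (y * y') = Phi f x y * Phi f x y')
    (h1 : ∀ (A : Type u) [CommRing A] [Algebra R A] (y : Multiplicative (ZMod n) →* A), Phi f 1 y = 1)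
    (halt : ∀ (A : Type u) [CommRing A] [Algebra R A] (x : Multiplicative (ZMod n) →* A), Phi f x x = 1)
    (A : Type u) [CommRing A] [Algebra R A] (x y : Multiplicative (ZMod n) →* A) : Phi f x y = 1 := by
  classical
  let emb : Multiplicative (ZMod n) →* BA R n := MonoidAlgebra.of R _
  let e : ZMod n → (BA R n) := fun a => ∑ b, algebraMap R (BA R n) (f a b) * emb (ofAdd b)
  -- values
  have hval : ∀ {C : Type u} [CommRing C] [Algebra R C] (z w : Multiplicative (ZMod n) →* C),
      Phi f z w = ∑ a, z (ofAdd a) * MonoidAlgebra.lift R C _ w (e a) := fun z w => by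
    simp only [Phi, e, map_sum, map_mul, AlgHom.commutes, Finset.mul_sum]
    refine Finset.sum_congr rfl fun a _ => Finset.sum_congr rfl fun b _ => ?_
    simp only [emb, MonoidAlgebra.lift_of]
    ring
  -- orthogonal idempotents
  have hsum : ∑ a, e a = 1 := by
    have h := h1 (BA R n) emb
    rw [hval] at h
    have hid : MonoidAlgebra.lift R (BA R n) _ emb = AlgHom.id R (BA R n) := (MonoidAlgebra.lift R _ _).symm.injective <| MonoidHom.ext fun m => by simp [emb]
    rw [hid] at h
    refine Eq.trans (Finset.sum_congr rfl fun a _ => ?_) h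
    simp
  have horth : ∀ a c, e a * e c = if a = c then e a else 0 := by
    intro a c
    let j₁ : Multiplicative (ZMod n) →* (MonoidAlgebra (BA R n) (Multiplicative (ZMod n × ZMod n))) :=
      (MonoidAlgebra.of (BA R n) _).comp (AddMonoidHom.toMultiplicative (AddMonoidHom.inl (ZMod n) (ZMod n)))
    let j₂ : Multiplicative (ZMod n) →* (MonoidAlgebra (BA R n) (Multiplicative (ZMod n × ZMod n))) :=
      (MonoidAlgebra.of (BA R n) _).comp (AddMonoidHom.toMultiplicative (AddMonoidHom.inr (ZMod n) (ZMod n)))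
    let j : Multiplicative (ZMod n) →* (MonoidAlgebra (BA R n) (Multiplicative (ZMod n × ZMod n))) := (algebraMap (BA R n) (MonoidAlgebra (BA R n) (Multiplicative (ZMod n × ZMod n)))).toMonoidHom.comp emb
    have hj : MonoidAlgebra.lift R (MonoidAlgebra (BA R n) (Multiplicative (ZMod n × ZMod n))) _ j = (IsScalarTower.toAlgHom R (BA R n) (MonoidAlgebra (BA R n) (Multiplicative (ZMod n × ZMod n)))) := (MonoidAlgebra.lift R _ _).symm.injective <| MonoidHom.ext fun m => by
      simp [j, emb]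
    have h := hl (MonoidAlgebra (BA R n) (Multiplicative (ZMod n × ZMod n))) j₁ j₂ j
    rw [hval, hval, hval, hj] at h
    simp only [IsScalarTower.coe_toAlgHom', MonoidHom.mul_apply, j₁, j₂, MonoidHom.comp_apply,
      MonoidAlgebra.of_apply, AddMonoidHom.toMultiplicative_apply_apply, toAdd_ofAdd, AddMonoidHom.inl_apply,
      AddMonoidHom.inr_apply, MonoidAlgebra.coe_algebraMap, Function.comp_apply, Algebra.algebraMap_self,
      RingHom.id_apply, MonoidAlgebra.single_mul_single, Finset.sum_mul, Finset.mul_sum, ← ofAdd_add,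
      Prod.mk_add_mk, add_zero, zero_add, _root_.one_mul, _root_.mul_one] at h
    have h' := congrArg (fun z : (MonoidAlgebra (BA R n) (Multiplicative (ZMod n × ZMod n))) => z.coeff (ofAdd (a, c))) h
    simp [MonoidAlgebra.coeff_single, Finsupp.single_apply, Prod.ext_iff, Finset.sum_ite_eq', ite_and] at h'
    exact h'.symm
  -- geometric points
  have key : ∀ a, a ≠ 0 → e a = 0 := by
    intro a ha
    have hid : IsIdempotentElem (e a) := by show e a * e a = e a; simpa using horth a a
    suffices hnil : IsNilpotent (e a) by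
      obtain ⟨N, hN⟩ := hnil
      rw [← hid.pow_succ_eq N, pow_succ, hN, zero_mul]
    rw [← mem_nilradical, nilradical_eq_sInf, Ideal.mem_sInf]
    intro 𝔭 h𝔭
    haveI : 𝔭.IsPrime := h𝔭
    obtain ⟨K, _, _, π, hπ⟩ : ∃ (K : Type u) (_ : Field K) (_ : IsAlgClosed K) (π : BA R n →+* K),
        ∀ b, π b = 0 → b ∈ 𝔭 := by
      refine ⟨AlgebraicClosure (FractionRing (BA R n ⧸ 𝔭)), inferInstance, inferInstance,
        ((algebraMap (FractionRing (BA R n ⧸ 𝔭)) _).comp (algebraMap (BA R n ⧸ 𝔭) _)).comp (Ideal.Quotient.mk 𝔭),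
        fun b hb => Ideal.Quotient.eq_zero_iff_mem.1 ?_⟩
      refine IsFractionRing.injective (BA R n ⧸ 𝔭) (FractionRing (BA R n ⧸ 𝔭)) ?_
      rw [map_zero]
      exact (algebraMap _ (AlgebraicClosure (FractionRing (BA R n ⧸ 𝔭)))).injective (by rw [map_zero]; exact hb)
    letI : Algebra R K := (π.comp (algebraMap R (BA R n))).toAlgebra
    let y₁ : Multiplicative (ZMod n) →* K := π.toMonoidHom.comp emb
    have hy₁ : ∀ b, MonoidAlgebra.lift R K _ y₁ b = π b := fun b => by
      have : MonoidAlgebra.lift R K _ y₁ = { π with commutes' := fun r => rfl } :=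
        (MonoidAlgebra.lift R _ _).symm.injective <| MonoidHom.ext fun m => by simp [y₁, emb]
      rw [this]; rfl
    let ev : (Multiplicative (ZMod n) →* K) → ZMod n → K := fun w c => MonoidAlgebra.lift R K _ w (e c)
    -- the character selected by a point
    have hphi : ∀ w, ∃ c, ∀ c', ev w c' = if c' = c then 1 else 0 := by
      intro w
      have hs : ∑ c, ev w c = 1 := by simp only [ev, ← map_sum, hsum, map_one]
      obtain ⟨c, -, hc⟩ := Finset.exists_ne_zero_of_sum_ne_zero (hs.trans_ne one_ne_zero)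
      have ho : ∀ c c', ev w c * ev w c' = if c = c' then ev w c else 0 := fun c c' => by
        simp only [ev, ← map_mul, horth]
        split_ifs <;> simp
      have hc1 : ev w c = 1 := (mul_eq_left₀ hc).1 (by simpa using ho c c)
      refine ⟨c, fun c' => ?_⟩
      split_ifs with hcc
      · rw [hcc, hc1]
      · have h := ho c' c
        rw [if_neg hcc, hc1, _root_.mul_one] at h
        exact h
    choose φ hφ using hphi
    have hPhi : ∀ {C : Type u} [CommRing C] [Algebra R C] [Algebra K C] [IsScalarTower R K C]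
        (z : Multiplicative (ZMod n) →* C) (w : Multiplicative (ZMod n) →* K),
        Phi f z ((algebraMap K C).toMonoidHom.comp w) = z (ofAdd (φ w)) := by
      intro C _ _ _ _ z w
      have : MonoidAlgebra.lift R C _ ((algebraMap K C).toMonoidHom.comp w) =
          (IsScalarTower.toAlgHom R K C).comp (MonoidAlgebra.lift R K _ w) :=
        (MonoidAlgebra.lift R _ _).symm.injective <| MonoidHom.ext fun m => by simp
      rw [hval, this]
      have hev : ∀ c, MonoidAlgebra.lift R K _ w (e c) = if c = φ w then 1 else 0 := hφ w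
      simp [hev]
    have hadd : ∀ w w', φ (w * w') = φ w + φ w' := by
      intro w w'
      have h := hr (MonoidAlgebra K (Multiplicative (ZMod n))) (MonoidAlgebra.of K _)
        ((algebraMap K (MonoidAlgebra K (Multiplicative (ZMod n)))).toMonoidHom.comp w)
        ((algebraMap K (MonoidAlgebra K (Multiplicative (ZMod n)))).toMonoidHom.comp w')
      rw [← MonoidHom.comp_mul, hPhi, hPhi, hPhi, ← map_mul, ← ofAdd_add] at h
      exact ofAdd.injective (MonoidAlgebra.of_injective h)
    have halt' : ∀ w : Multiplicative (ZMod n) →* K, w (ofAdd (φ w)) = 1 := fun w => by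
      have h := halt K w
      have h' := hPhi (C := K) w w
      rw [Algebra.algebraMap_self, RingHom.toMonoidHom_eq_coe] at h'
      simp only [RingHom.coe_monoidHom_id, MonoidHom.id_comp] at h'
      rw [← h', h]
    let φ' : (Multiplicative (ZMod n) →* K) →* Multiplicative (ZMod n) := MonoidHom.mk' (fun w => ofAdd (φ w))
      fun w w' => by rw [hadd, ofAdd_add]
    have hzero : ∀ w, φ w = 0 := by
      obtain ⟨p, hp⟩ := ExpChar.exists K
      obtain ⟨r, m, hpm, hnm⟩ : ∃ r m : ℕ, (p = 1 ∨ ¬ p ∣ m) ∧ n = p ^ r * m := by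
        rcases eq_or_ne p 1 with h | h
        · exact ⟨0, n, Or.inl h, by simp⟩
        · obtain ⟨r, m, hm, he⟩ := Nat.exists_eq_pow_mul_and_not_dvd (NeZero.ne n) p h
          exact ⟨r, m, Or.inr hm, he⟩
      have hm0 : m ≠ 0 := fun h => NeZero.ne n (by rw [hnm, h, mul_zero])
      have hmK : (m : K) ≠ 0 := by
        rcases hp with _ | ⟨hprime⟩
        · exact Nat.cast_ne_zero.2 hm0
        · exact fun h => (hpm.resolve_left hprime.ne_one) ((CharP.cast_eq_zero_iff K p m).1 h)
      haveI : NeZero (m : K) := ⟨hmK⟩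
      haveI : NeZero m := ⟨hm0⟩
      obtain ⟨ζ, hζ⟩ := HasEnoughRootsOfUnity.exists_primitiveRoot K m
      have hcop : Nat.Coprime (p ^ r) m := by
        rcases hpm with h | h
        · rw [h, one_pow]; exact Nat.coprime_one_left m
        · rcases hp with _ | ⟨hprime⟩
          · rw [one_pow]; exact Nat.coprime_one_left m
          · exact ((hprime.coprime_iff_not_dvd).2 h).pow_left r
      have hζn : ζ ^ n = 1 := (congrArg (ζ ^ ·) hnm).trans (by rw [mul_comm, pow_mul, hζ.pow_eq_one, one_pow])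
      let w₀ : Multiplicative (ZMod n) →* K :=
        { toFun := fun c => ζ ^ (toAdd c).val
          map_one' := by simp
          map_mul' := fun c d => by
            rw [toAdd_mul, ← pow_add ζ, ZMod.val_add]
            exact (pow_eq_pow_mod _ hζn).symm }
      have hw₀ : ∀ c : ZMod n, w₀ (ofAdd c) = ζ ^ c.val := fun c => rfl
      have hgen : ∀ w, ∃ i : ℕ, w = w₀ ^ i := by
        intro w
        have hz : w (ofAdd 1) ^ m = 1 := by
          have h : w (ofAdd 1) ^ (p ^ r * m) = 1 := by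
            rw [← hnm, ← map_pow, ← ofAdd_nsmul, nsmul_one, ZMod.natCast_self, ofAdd_zero, map_one]
          have := hp
          rwa [ExpChar.pow_prime_pow_mul_eq_one_iff] at h
        obtain ⟨i, -, hi⟩ := hζ.eq_pow_of_pow_eq_one hz
        refine ⟨i, MonoidHom.ext fun c => ?_⟩
        have hc : c = ofAdd (1 : ZMod n) ^ c.toAdd.val := by
          rw [← ofAdd_nsmul, nsmul_one, ZMod.natCast_zmod_val, ofAdd_toAdd]
        rw [MonoidHom.pow_apply, hc, map_pow, ← hi, ← pow_mul]
        show _ = (ζ ^ _) ^ i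
        rw [← pow_mul, mul_comm]
        congr 1
        rw [← ofAdd_nsmul, nsmul_one, toAdd_ofAdd, ZMod.natCast_zmod_val]
      have hj : φ w₀ = 0 := by
        set j := φ w₀
        have h₁ : m ∣ j.val := (hζ.pow_eq_one_iff_dvd _).1 (by rw [← hw₀]; exact halt' w₀)
        have h₂ : w₀ ^ m = 1 := MonoidHom.ext fun c => by
          show (ζ ^ _) ^ m = 1
          rw [← pow_mul, mul_comm, pow_mul, hζ.pow_eq_one, one_pow]
        have h₃ := congrArg φ' h₂
        rw [map_pow, map_one] at h₃
        have h₄ : ((m * j.val : ℕ) : ZMod n) = 0 := by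
          rw [Nat.cast_mul, ZMod.natCast_zmod_val, ← nsmul_eq_mul]
          exact congrArg toAdd h₃
        rw [ZMod.natCast_eq_zero_iff] at h₄
        have h₄' : m * p ^ r ∣ m * j.val := (dvd_of_eq ((mul_comm _ _).trans hnm.symm)).trans h₄
        have h₅ : p ^ r ∣ j.val := Nat.dvd_of_mul_dvd_mul_left (Nat.pos_of_ne_zero hm0) h₄'
        have h₆ : n ∣ j.val := (dvd_of_eq hnm).trans (hcop.mul_dvd_of_dvd_of_dvd h₅ h₁)
        rw [← ZMod.natCast_zmod_val j]
        exact (ZMod.natCast_eq_zero_iff _ _).2 h₆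
      intro w
      obtain ⟨i, rfl⟩ := hgen w
      have := congrArg toAdd (map_pow φ' w₀ i)
      simpa [φ', hj] using this
    refine hπ _ ?_
    rw [← hy₁]
    show ev y₁ a = 0
    rw [hφ, hzero, if_neg ha]
  have he0 : e 0 = 1 := by
    rw [← hsum, Finset.sum_eq_single 0 (fun a _ ha => key a ha) (by simp)]
  rw [hval, Finset.sum_eq_single 0 (fun a _ ha => by rw [key a ha, map_zero, mul_zero]) (by simp), he0, map_one,
    _root_.mul_one, ofAdd_zero, map_one]

end Alg

open Groth.Agent.SekLib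

attribute [local instance] secAlgebra

variable {R : Type u} [CommRing R]

section Chars

variable {M : Type} [AddCommGroup M] {T T' : Over (Spec (CommRingCat.of R))}

/-- The function of a character on a point. -/
noncomputable def chi (x : T ⟶ Red.diag R M) (a : M) : Γ(T.left, ⊤) :=
  ptHom x (MonoidAlgebra.single (Multiplicative.ofAdd a) 1)

lemma chi_comp (k : T' ⟶ T) (x : T ⟶ Red.diag R M) (a : M) : chi (k ≫ x) a = k.left.appTop (chi x a) :=
  ptHom_comp_left k x _

lemma chi_mul (x y : T ⟶ Red.diag R M) (a : M) : chi (x * y) a = chi x a * chi y a := by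
  obtain ⟨q, hq⟩ := exists_ptHom_eq (T := T) (A := Γ(T.left, ⊤)) (AlgHom.id R _)
  have hfac : ∀ c : T ⟶ Red.diag R M, c = q ≫ Spec.mapMulEquiv (WithConv.toConv (ptHom c)) := by
    intro c
    refine ptHom_injective ?_
    rw [ptHom_comp q (ptHom c) _ rfl, hq]
    rfl
  unfold chi
  conv_lhs => rw [hfac x, hfac y, ← MonObj.comp_mul, ← map_mul, ptHom_comp q _ _ rfl, hq]
  show (WithConv.toConv (ptHom x) * WithConv.toConv (ptHom y)) _ = _
  rw [AlgHom.convMul_apply]
  simp

lemma chi_add (x : T ⟶ Red.diag R M) (a b : M) : chi x (a + b) = chi x a * chi x b := by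
  unfold chi
  rw [← map_mul, MonoidAlgebra.single_mul_single, _root_.mul_one, ofAdd_add]

lemma chi_zero (x : T ⟶ Red.diag R M) : chi x 0 = 1 := by
  rw [chi, ofAdd_zero, ← MonoidAlgebra.one_def, map_one]

lemma chi_ext {x y : T ⟶ Red.diag R M} (h : ∀ a, chi x a = chi y a) : x = y :=
  ptHom_injective ((MonoidAlgebra.lift R _ _).symm.injective <| MonoidHom.ext fun m => h m.toAdd)

lemma chi_exists (φ : Multiplicative M →* Γ(T.left, ⊤)) :
    ∃ x : T ⟶ Red.diag R M, ∀ a, chi x a = φ (Multiplicative.ofAdd a) := by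
  obtain ⟨x, hx⟩ := exists_ptHom_eq (T := T) (MonoidAlgebra.lift R Γ(T.left, ⊤) (Multiplicative M) φ)
  exact ⟨x, fun a => by rw [chi, hx]; simp⟩

lemma chi_one (a : M) : chi (1 : T ⟶ Red.diag R M) a = 1 := by
  have hu : IsUnit (chi (1 : T ⟶ Red.diag R M) a) :=
    IsUnit.of_mul_eq_one (chi (1 : T ⟶ Red.diag R M) (-a)) (by rw [← chi_add, add_neg_cancel, chi_zero])
  refine hu.mul_left_cancel ?_
  rw [← chi_mul, _root_.one_mul, _root_.mul_one]

/-- The characters of a point as a monoid homomorphism. -/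
noncomputable def chiHom (x : T ⟶ Red.diag R M) : Multiplicative M →* Γ(T.left, ⊤) where
  toFun a := chi x a.toAdd
  map_one' := chi_zero x
  map_mul' a b := chi_add x _ _

lemma mul_comm_diag (x y : T ⟶ Red.diag R M) : x * y = y * x :=
  chi_ext fun a => by rw [chi_mul, chi_mul, mul_comm]

lemma eq_one_of_chi_one {x : T ⟶ Red.diag R ℤ} (h : chi x 1 = 1) : x = 1 := by
  refine chi_ext fun a => ?_
  rw [chi_one]
  induction a with
  | zero => exact chi_zero x
  | succ m ih => rw [chi_add, ih, h, _root_.one_mul]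
  | pred m ih =>
    have e := chi_add x (-(m : ℤ) - 1) 1
    rw [sub_add_cancel, ih, h, _root_.mul_one] at e
    exact e.symm

end Chars

section Pairs

variable {n : ℕ} {T T' : Over (Spec (CommRingCat.of R))}

/-- A point of the square of the roots of unity. -/
noncomputable def mk (x y : T ⟶ Red.diag R (ZMod n)) : T ⟶ Red.diag R (ZMod n × ZMod n) :=
  (chi_exists (M := ZMod n × ZMod n) (T := T)
    { toFun := fun c => chi x c.toAdd.1 * chi y c.toAdd.2
      map_one' := by simp [chi_zero]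
      map_mul' := fun c d => by simp only [toAdd_mul, Prod.fst_add, Prod.snd_add, chi_add]; ring }).choose

lemma chi_mk (x y : T ⟶ Red.diag R (ZMod n)) (c : ZMod n × ZMod n) :
    chi (mk x y) c = chi x c.1 * chi y c.2 :=
  (chi_exists (M := ZMod n × ZMod n) (T := T)
    { toFun := fun c => chi x c.toAdd.1 * chi y c.toAdd.2
      map_one' := by simp [chi_zero]
      map_mul' := fun c d => by simp only [toAdd_mul, Prod.fst_add, Prod.snd_add, chi_add]; ring }).choose_spec c

lemma comp_mk (r : T' ⟶ T) (x y : T ⟶ Red.diag R (ZMod n)) : r ≫ mk x y = mk (r ≫ x) (r ≫ y) :=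
  chi_ext fun c => by rw [chi_comp, chi_mk, chi_mk, map_mul, chi_comp, chi_comp]

lemma exists_proj : ∃ π₁ π₂ : Red.diag R (ZMod n × ZMod n) ⟶ Red.diag R (ZMod n),
    ∀ {T : Over (Spec (CommRingCat.of R))} (x y : T ⟶ Red.diag R (ZMod n)), mk x y ≫ π₁ = x ∧ mk x y ≫ π₂ = y := by
  obtain ⟨π₁, h₁⟩ := chi_exists ((chiHom (𝟙 (Red.diag R (ZMod n × ZMod n)))).comp
    (AddMonoidHom.toMultiplicative (AddMonoidHom.inl (ZMod n) (ZMod n))))
  obtain ⟨π₂, h₂⟩ := chi_exists ((chiHom (𝟙 (Red.diag R (ZMod n × ZMod n)))).comp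
    (AddMonoidHom.toMultiplicative (AddMonoidHom.inr (ZMod n) (ZMod n))))
  refine ⟨π₁, π₂, fun x y => ⟨chi_ext fun a => ?_, chi_ext fun a => ?_⟩⟩
  · rw [chi_comp, h₁]
    show (mk x y).left.appTop (chi (𝟙 _) (a, 0)) = _
    rw [← chi_comp, Category.comp_id, chi_mk, chi_zero, _root_.mul_one]
  · rw [chi_comp, h₂]
    show (mk x y).left.appTop (chi (𝟙 _) (0, a)) = _
    rw [← chi_comp, Category.comp_id, chi_mk, chi_zero, _root_.one_mul]

end Pairs

/-- A map invariant on the fibres of a faithfully flat finitely presented map descends. -/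
lemma exists_desc {S : Scheme.{u}} {K L X : Over S} (q : K ⟶ L) [Flat q.left] [Surjective q.left]
    [LocallyOfFinitePresentation q.left] (f : K ⟶ X)
    (hf : ∀ {T : Over S} (a b : T ⟶ K), a ≫ q = b ≫ q → a ≫ f = b ≫ f) : ∃ g : L ⟶ X, q ≫ g = f := by
  have hcond : ∀ {T : Scheme.{u}} (a b : T ⟶ K.left), a ≫ q.left = b ≫ q.left → a ≫ f.left = b ≫ f.left := by
    intro T a b e
    have eb : b ≫ K.hom = a ≫ K.hom := by rw [← Over.w q, ← Category.assoc, ← e, Category.assoc]
    exact congrArg CommaMorphism.left (hf (T := Over.mk (a ≫ K.hom)) (Over.homMk a rfl) (Over.homMk b eb)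
      (Over.OverMorphism.ext e))
  let g₀ : L.left ⟶ X.left := EffectiveEpi.desc q.left f.left hcond
  have hg₀ : q.left ≫ g₀ = f.left := EffectiveEpi.fac q.left f.left hcond
  haveI : Epi q.left := Flat.epi_of_flat_of_surjective q.left
  exact ⟨Over.homMk g₀ (by rw [← cancel_epi q.left, ← Category.assoc, hg₀, Over.w, Over.w]),
    Over.OverMorphism.ext hg₀⟩

lemma exists_epi_lift {S : Scheme.{u}} {K L T : Over S} (q : K ⟶ L) [Flat q.left] [Surjective q.left]
    (x : T ⟶ L) : ∃ (T' : Over S) (r : T' ⟶ T) (y : T' ⟶ K), Epi r ∧ y ≫ q = r ≫ x := by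
  have hsq := (IsPullback.of_hasPullback x q).map (Over.forget S)
  have : Flat (pullback.fst x q).left := MorphismProperty.of_isPullback hsq.flip (inferInstance : Flat q.left)
  have : Surjective (pullback.fst x q).left :=
    MorphismProperty.of_isPullback hsq.flip (inferInstance : Surjective q.left)
  have : Epi (pullback.fst x q).left := Flat.epi_of_flat_of_surjective _
  exact ⟨pullback x q, pullback.fst x q, pullback.snd x q, Over.epi_of_epi_left _, pullback.condition.symm⟩

lemma tensorHom_mem {S : Scheme.{u}} (P : MorphismProperty Scheme.{u}) [P.IsStableUnderBaseChange]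
    [P.IsStableUnderComposition] {A B : Over S} (f : A ⟶ B) (h : P f.left) : P (f ⊗ₘ f).left := by
  rw [MonoidalCategory.tensorHom_def, Over.comp_left]
  exact P.comp_mem _ _ (GrpScheme.Basic.whiskerRight_mem P f A h) (GrpScheme.Basic.whiskerLeft_mem P f B h)

/-- Central factors do not change a commutator. -/
lemma comm_mul_central {G : Type*} [Group G] (g h z z' : G) (hz : ∀ a, a * z = z * a) (hz' : ∀ a, a * z' = z' * a) :
    (g * z) * (h * z') * (g * z)⁻¹ * (h * z')⁻¹ = g * h * g⁻¹ * h⁻¹ := by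
  calc (g * z) * (h * z') * (g * z)⁻¹ * (h * z')⁻¹ = g * (z * h) * z' * z⁻¹ * g⁻¹ * z'⁻¹ * h⁻¹ := by group
    _ = g * h * (z * z') * z⁻¹ * g⁻¹ * z'⁻¹ * h⁻¹ := by rw [← hz h]; group
    _ = g * h * (z' * g⁻¹) * z'⁻¹ * h⁻¹ := by rw [← hz z']; group
    _ = g * h * g⁻¹ * h⁻¹ := by rw [← hz' g⁻¹]; group

/-- Let R be a strictly henselian local ring and n ≥ 1, and let E be a group scheme over Spec R which is
an extension of μ_n = D(ℤ/n) by the multiplicative group G_m = D(ℤ): there are homomorphisms i : G_m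
→ E and q : E → μ_n with q flat, surjective and locally of finite presentation (an epimorphism of
fppf sheaves), i a kernel of q, and i(G_m) central in E. Then E is commutative: any two points of E
with values in an R-scheme commute. (The published statement speaks of an extension of abelian fppf
sheaves and also asserts that E is representable; its argument, through the commutator pairing, is
for an extension of sheaves of groups with G_m central, which is what this row assumes, with E a
group scheme from the start, so only commutativity is stated. Centrality of G_m is essential: when 2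
is invertible the orthogonal group O_2 is a non-commutative extension of μ_2 by G_m = SO_2.) -/
theorem result (R : Type u) [CommRing R] [HenselianLocalRing R]
    [IsSepClosed (IsLocalRing.ResidueField R)] (n : ℕ) (hn : 1 ≤ n)
    (E : Over (Spec (CommRingCat.of R))) [GrpObj E]
    (i : Red.diag R ℤ ⟶ E) [IsMonHom i] (q : E ⟶ Red.diag R (ZMod n)) [IsMonHom q]
    (hker : AlgGrp.IsKernel i q) (hq : Flat q.left ∧ Surjective q.left ∧ LocallyOfFinitePresentation q.left)
    (hcent : ∀ (T : Over (Spec (CommRingCat.of R))) (g : T ⟶ E) (t : T ⟶ Red.diag R ℤ), g * (t ≫ i) = (t ≫ i) * g)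
    (T : Over (Spec (CommRingCat.of R))) (g h : T ⟶ E) : g * h = h * g := by
  haveI : NeZero n := ⟨by omega⟩
  obtain ⟨hqf, hqs, hqp⟩ := hq
  haveI := hqf; haveI := hqs; haveI := hqp
  haveI : Mono i := GrpdLib.GrpOver.kernel_mono hker
  obtain ⟨π₁, π₂, hπ⟩ := exists_proj (R := R) (n := n)
  have hcq : ∀ {Z : Over (Spec (CommRingCat.of R))} (x y : Z ⟶ Red.diag R (ZMod n)), x * y = y * x :=
    fun x y => mul_comm_diag x y
  have hmq : ∀ {Z : Over (Spec (CommRingCat.of R))} (a b : Z ⟶ E), (a * b) ≫ q = (a ≫ q) * (b ≫ q) :=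
    fun {Z} a b => MonObj.mul_comp a b q
  have hiq : ∀ {Z : Over (Spec (CommRingCat.of R))} (a : Z ⟶ E), a⁻¹ ≫ q = (a ≫ q)⁻¹ :=
    fun {Z} a => GrpObj.inv_comp a q
  have hex : ∀ {Z : Over (Spec (CommRingCat.of R))} (a b : Z ⟶ E), ∃ u : Z ⟶ Red.diag R ℤ,
      u ≫ i = a * b * a⁻¹ * b⁻¹ := fun {Z} a b => by
    have h : (a * b * a⁻¹ * b⁻¹) ≫ q = 1 := by
      rw [hmq, hmq, hmq, hiq, hiq, hcq (a ≫ q)]
      exact (congrArg (fun z => z * (b ≫ q)⁻¹) (mul_inv_cancel_right (b ≫ q) (a ≫ q))).trans (mul_inv_cancel (b ≫ q))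
    obtain ⟨u, hu, -⟩ := hker.exists_lift (a * b * a⁻¹ * b⁻¹) (toUnit Z) (h.trans Hom.one_def)
    exact ⟨u, hu⟩
  have hlift : ∀ {Z : Over (Spec (CommRingCat.of R))} (a b : Z ⟶ E), a ≫ q = b ≫ q →
      ∃ z : Z ⟶ Red.diag R ℤ, b = a * (z ≫ i) := fun {Z} a b e => by
    have h : (a⁻¹ * b) ≫ q = 1 := by
      rw [hmq, hiq, e]
      exact inv_mul_cancel (b ≫ q)
    obtain ⟨z, hz, -⟩ := hker.exists_lift (a⁻¹ * b) (toUnit Z) (h.trans Hom.one_def)
    exact ⟨z, by rw [hz, mul_inv_cancel_left]⟩
  -- descend the commutator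
  let P := Red.diag R (ZMod n × ZMod n)
  haveI : Flat (q ⊗ₘ q).left := tensorHom_mem @Flat q hqf
  haveI : MorphismProperty.IsStableUnderComposition @Surjective :=
    ⟨fun f g hf hg => ⟨by rw [Scheme.Hom.comp_base, TopCat.coe_comp]; exact hg.surj.comp hf.surj⟩⟩
  haveI : Surjective (q ⊗ₘ q).left := tensorHom_mem @Surjective q hqs
  haveI : LocallyOfFinitePresentation (q ⊗ₘ q).left := tensorHom_mem @LocallyOfFinitePresentation q hqp
  let W := pullback (q ⊗ₘ q) (lift π₁ π₂)
  let c : W ⟶ P := pullback.snd _ _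
  let gh : W ⟶ E ⊗ E := pullback.fst _ _
  have hsq := (IsPullback.of_hasPullback (q ⊗ₘ q) (lift π₁ π₂)).map (Over.forget _)
  haveI : Flat c.left := MorphismProperty.of_isPullback hsq (inferInstance : Flat (q ⊗ₘ q).left)
  haveI : Surjective c.left := MorphismProperty.of_isPullback hsq (inferInstance : Surjective (q ⊗ₘ q).left)
  haveI : LocallyOfFinitePresentation c.left :=
    MorphismProperty.of_isPullback hsq (inferInstance : LocallyOfFinitePresentation (q ⊗ₘ q).left)
  have hW : gh ≫ (q ⊗ₘ q) = c ≫ lift π₁ π₂ := pullback.condition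
  have hW₁ : (gh ≫ fst E E) ≫ q = c ≫ π₁ := by simpa using hW =≫ fst _ _
  have hW₂ : (gh ≫ snd E E) ≫ q = c ≫ π₂ := by simpa using hW =≫ snd _ _
  obtain ⟨uW, huW⟩ := hex (gh ≫ fst E E) (gh ≫ snd E E)
  obtain ⟨ε, hε⟩ := exists_desc c uW (fun {Z} a b e => by
    rw [← cancel_mono i, Category.assoc, Category.assoc, huW]
    simp only [MonObj.comp_mul, GrpObj.comp_inv]
    obtain ⟨z, hz⟩ := hlift (a ≫ gh ≫ fst E E) (b ≫ gh ≫ fst E E) (by
      rw [Category.assoc, Category.assoc b, hW₁, reassoc_of% e])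
    obtain ⟨z', hz'⟩ := hlift (a ≫ gh ≫ snd E E) (b ≫ gh ≫ snd E E) (by
      rw [Category.assoc, Category.assoc b, hW₂, reassoc_of% e])
    rw [hz, hz', comm_mul_central _ _ _ _ (fun x => hcent _ x z) (fun x => hcent _ x z')])
  -- the pairing computes commutators
  have hpair : ∀ {Z : Over (Spec (CommRingCat.of R))} (a b : Z ⟶ E),
      (mk (a ≫ q) (b ≫ q) ≫ ε) ≫ i = a * b * a⁻¹ * b⁻¹ := by
    intro Z a b
    let w : Z ⟶ W := pullback.lift (lift a b) (mk (a ≫ q) (b ≫ q)) (by
      ext1 <;> simp [(hπ _ _).1, (hπ _ _).2])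
    have h₁ : w ≫ gh = lift a b := pullback.lift_fst _ _ _
    have h₂ : w ≫ c = mk (a ≫ q) (b ≫ q) := pullback.lift_snd _ _ _
    rw [← h₂, Category.assoc w c ε, hε, Category.assoc, huW]
    simp only [MonObj.comp_mul, GrpObj.comp_inv, reassoc_of% h₁, lift_fst, lift_snd]
  let pr : ∀ {Z : Over (Spec (CommRingCat.of R))}, (Z ⟶ Red.diag R (ZMod n)) → (Z ⟶ Red.diag R (ZMod n)) →
      (Z ⟶ Red.diag R ℤ) := fun x y => mk x y ≫ ε
  have hcomp : ∀ {Z Z' : Over (Spec (CommRingCat.of R))} (r : Z' ⟶ Z) (x y : Z ⟶ Red.diag R (ZMod n)),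
      r ≫ pr x y = pr (r ≫ x) (r ≫ y) := fun r x y => by rw [← Category.assoc, comp_mk]
  have hlifts : ∀ {Z : Over (Spec (CommRingCat.of R))} (x x' y : Z ⟶ Red.diag R (ZMod n)),
      ∃ (Z' : Over (Spec (CommRingCat.of R))) (r : Z' ⟶ Z) (a a' b : Z' ⟶ E), Epi r ∧
        a ≫ q = r ≫ x ∧ a' ≫ q = r ≫ x' ∧ b ≫ q = r ≫ y := by
    intro Z x x' y
    obtain ⟨Z₁, r₁, a, hr₁, ha⟩ := exists_epi_lift q x
    obtain ⟨Z₂, r₂, a', hr₂, ha'⟩ := exists_epi_lift q (r₁ ≫ x')
    obtain ⟨Z₃, r₃, b, hr₃, hb⟩ := exists_epi_lift q (r₂ ≫ r₁ ≫ y)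
    haveI := hr₁; haveI := hr₂; haveI := hr₃
    haveI : Epi (r₂ ≫ r₁) := epi_comp _ _
    exact ⟨Z₃, r₃ ≫ r₂ ≫ r₁, r₃ ≫ r₂ ≫ a, r₃ ≫ a', b, epi_comp _ _, by simp [ha], by simp [ha'],
      by simp [hb]⟩
  have hbl : ∀ {Z : Over (Spec (CommRingCat.of R))} (x x' y : Z ⟶ Red.diag R (ZMod n)),
      pr (x * x') y = pr x y * pr x' y := by
    intro Z x x' y
    obtain ⟨Z', r, a, a', b, hr, ha, ha', hb⟩ := hlifts x x' y
    haveI := hr
    rw [← cancel_epi r, MonObj.comp_mul, hcomp, hcomp, hcomp, MonObj.comp_mul, ← ha, ← ha', ← hb,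
      ← cancel_mono i, MonObj.mul_comp _ _ i, ← hmq a a']
    simp only [pr, hpair]
    obtain ⟨v, hv⟩ := hex a' b
    calc a * a' * b * (a * a')⁻¹ * b⁻¹ = a * (a' * b * a'⁻¹ * b⁻¹) * b * a⁻¹ * b⁻¹ := by group
      _ = (v ≫ i) * (a * b * a⁻¹ * b⁻¹) := by rw [← hv, hcent _ a v]; group
      _ = (a * b * a⁻¹ * b⁻¹) * (a' * b * a'⁻¹ * b⁻¹) := by rw [← hcent _ (a * b * a⁻¹ * b⁻¹) v, hv]
  have hbr : ∀ {Z : Over (Spec (CommRingCat.of R))} (x y y' : Z ⟶ Red.diag R (ZMod n)),
      pr x (y * y') = pr x y * pr x y' := by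
    intro Z x y y'
    obtain ⟨Z', r, b, b', a, hr, hb, hb', ha⟩ := hlifts y y' x
    haveI := hr
    rw [← cancel_epi r, MonObj.comp_mul, hcomp, hcomp, hcomp, MonObj.comp_mul, ← ha, ← hb', ← hb,
      ← cancel_mono i, MonObj.mul_comp _ _ i, ← hmq b b']
    simp only [pr, hpair]
    obtain ⟨v, hv⟩ := hex a b'
    calc a * (b * b') * a⁻¹ * (b * b')⁻¹ = (a * b * a⁻¹) * (a * b' * a⁻¹ * b'⁻¹) * b⁻¹ := by group
      _ = (v ≫ i) * (a * b * a⁻¹ * b⁻¹) := by rw [← hv, hcent _ (a * b * a⁻¹) v]; group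
      _ = (a * b * a⁻¹ * b⁻¹) * (a * b' * a⁻¹ * b'⁻¹) := by rw [← hcent _ (a * b * a⁻¹ * b⁻¹) v, hv]
  have halt : ∀ {Z : Over (Spec (CommRingCat.of R))} (x : Z ⟶ Red.diag R (ZMod n)), pr x x = 1 := by
    intro Z x
    obtain ⟨Z', r, a, hr, ha⟩ := exists_epi_lift q x
    haveI := hr
    rw [← cancel_epi r, hcomp, MonObj.comp_one, ← ha, ← cancel_mono i, MonObj.one_comp]
    show (mk _ _ ≫ ε) ≫ i = 1
    rw [hpair]; group
  have hone : ∀ {Z : Over (Spec (CommRingCat.of R))} (y : Z ⟶ Red.diag R (ZMod n)), pr 1 y = 1 := by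
    intro Z y
    have h := hbl 1 1 y
    rw [_root_.one_mul] at h
    exact chi_ext fun c => by
      have hc := congrArg (fun u => chi u c) h
      simp only [chi_mul] at hc
      have hu : IsUnit (chi (pr 1 y) c) :=
        IsUnit.of_mul_eq_one (chi (pr 1 y) (-c)) (by rw [← chi_add, add_neg_cancel, chi_zero])
      rw [chi_one]
      exact (hu.mul_left_cancel (by rw [_root_.mul_one]; exact hc)).symm
  -- coefficients
  let F : MonoidAlgebra R (Multiplicative (ZMod n × ZMod n)) := (Scheme.ΓSpecIso (CommRingCat.of _)).hom (chi ε 1)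
  let f : ZMod n → ZMod n → R := fun a b => F.coeff (Multiplicative.ofAdd (a, b))
  have hev : ∀ {Z : Over (Spec (CommRingCat.of R))} (x y : Z ⟶ Red.diag R (ZMod n)),
      chi (pr x y) 1 = Phi f (chiHom x) (chiHom y) := by
    intro Z x y
    have h₁ : chi (pr x y) 1 = ptHom (mk x y) F := by
      show chi (mk x y ≫ ε) 1 = _
      rw [chi_comp]
      refine congrArg (mk x y).left.appTop ?_
      exact (congr($((Scheme.ΓSpecIso (CommRingCat.of (MonoidAlgebra R (Multiplicative (ZMod n × ZMod n))))).hom_inv_id) (chi ε 1))).symm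
    rw [h₁, MonoidAlgebra.lift_unique (ptHom (mk x y)) F, Finsupp.sum_fintype _ _ (fun c => by simp),
      ← (Equiv.sum_comp Multiplicative.ofAdd (fun c => F.coeff c • ptHom (mk x y) (MonoidAlgebra.single c 1))),
      Fintype.sum_prod_type]
    refine Finset.sum_congr rfl fun a _ => Finset.sum_congr rfl fun b _ => ?_
    rw [Algebra.smul_def, show ptHom (mk x y) (MonoidAlgebra.single (Multiplicative.ofAdd (a, b)) 1) =
      chi (mk x y) (a, b) from rfl, chi_mk, ← _root_.mul_assoc]
    rfl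
  have htransport : ∀ (A : Type u) [CommRing A] [Algebra R A],
      ∃ (e : A ≃ₐ[R] Γ((specOver R A).left, ⊤)), ∀ φ : Multiplicative (ZMod n) →* A,
        ∃ x : specOver R A ⟶ Red.diag R (ZMod n), chiHom x = e.toMonoidHom.comp φ := by
    intro A _ _
    let e : A ≃ₐ[R] Γ((specOver R A).left, ⊤) :=
      AlgEquiv.ofRingEquiv (f := (Scheme.ΓSpecIso (CommRingCat.of A)).symm.commRingCatIsoToRingEquiv)
        fun r => congr($(Scheme.ΓSpecIso_inv_naturality (CommRingCat.ofHom (algebraMap R A))) r)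
    refine ⟨e, fun φ => ?_⟩
    obtain ⟨x, hx⟩ := chi_exists (M := ZMod n) (T := specOver R A) (e.toMonoidHom.comp φ)
    exact ⟨x, MonoidHom.ext fun c => hx c.toAdd⟩
  have hΦe : ∀ {A A' : Type u} [CommRing A] [Algebra R A] [CommRing A'] [Algebra R A'] (e : A ≃ₐ[R] A')
      (x y : Multiplicative (ZMod n) →* A),
      Phi f (e.toMonoidHom.comp x) (e.toMonoidHom.comp y) = e (Phi f x y) := by
    intro A A' _ _ _ _ e x y
    simp [Phi, map_sum]
  have hchimul : ∀ {Z : Over (Spec (CommRingCat.of R))} (x x' : Z ⟶ Red.diag R (ZMod n)),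
      chiHom (x * x') = chiHom x * chiHom x' := fun x x' => MonoidHom.ext fun c => chi_mul x x' _
  have key := pairing_trivial (R := R) (n := n) f
    (fun A _ _ x x' y => by
      obtain ⟨e, he⟩ := htransport A
      obtain ⟨X, hX⟩ := he x
      obtain ⟨X', hX'⟩ := he x'
      obtain ⟨Y, hY⟩ := he y
      apply e.injective
      rw [map_mul, ← hΦe, ← hΦe, ← hΦe, MonoidHom.comp_mul, ← hX, ← hX', ← hY, ← hchimul, ← hev, ← hev, ← hev,
        hbl, chi_mul])
    (fun A _ _ x y y' => by
      obtain ⟨e, he⟩ := htransport A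
      obtain ⟨X, hX⟩ := he x
      obtain ⟨Y, hY⟩ := he y
      obtain ⟨Y', hY'⟩ := he y'
      apply e.injective
      rw [map_mul, ← hΦe, ← hΦe, ← hΦe, MonoidHom.comp_mul, ← hX, ← hY, ← hY', ← hchimul, ← hev, ← hev, ← hev,
        hbr, chi_mul])
    (fun A _ _ y => by
      obtain ⟨e, he⟩ := htransport A
      obtain ⟨Y, hY⟩ := he y
      apply e.injective
      rw [map_one, ← hΦe, MonoidHom.comp_one, ← hY, show (1 : Multiplicative (ZMod n) →* Γ((specOver R A).left, ⊤)) =
        chiHom 1 from MonoidHom.ext fun c => (chi_one _).symm, ← hev, hone, chi_one])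
    (fun A _ _ x => by
      obtain ⟨e, he⟩ := htransport A
      obtain ⟨X, hX⟩ := he x
      apply e.injective
      rw [map_one, ← hΦe, ← hX, ← hev, halt, chi_one])
  have h1 : pr (g ≫ q) (h ≫ q) = 1 := eq_one_of_chi_one (by rw [hev, key])
  have h2 := hpair g h
  rw [show mk (g ≫ q) (h ≫ q) ≫ ε = 1 from h1, MonObj.one_comp, eq_comm, mul_inv_eq_one, mul_inv_eq_iff_eq_mul]
    at h2
  exact h2

end Groth.Agent.S19228
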