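import Groth.Statements.S1923
import Groth.Agent.CycLib.DevZeroSec
-- import your own Groth.Agent.* helpers here

set_option autoImplicit false
universe u
open CategoryTheory AlgebraicGeometry
open Cyc

namespace Groth.Agent.S1923

/-- Let X be integral with δ(η) = n, L an invertible O_X-module and s a global section of L whose germ
at η is nonzero. Then div_L(s) = [Z(s)]_{n−1} as (n − 1)-cycles, where s is viewed as a rational
section through its image in L(η). Here L(ξ) = L_ξ/𝔪_ξ L_ξ is the space of rational sections of L on
the closure of ξ, div_{L|W}(s) and c_1(L) ∩ α are computed as coefficient functions from chosen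
nonzero rational sections (Cyc.secDivFun, Cyc.c1CapFun), and results are compared up to rational
equivalence for any cycles with those coefficients. A pair (X, δ) with Cyc.IsSetup plays the role of
a scheme locally of finite type over a fixed base with a dimension function (X locally Noetherian
with universally catenary local rings, δ a dimension function), and Cyc.DeltaCompat records that the
dimension function upstairs is the induced one. -/
theorem result (X : Scheme.{u}) [IsIntegral X] (δ : X → ℤ) (hX : Cyc.IsSetup X δ) (n : ℤ) (hn : δ (genericPoint X) = n) (L : X.Modules) (hL : PicF.IsInvertible L) (s : L.presheaf.obj (Opposite.op ⊤)) (hs : (L.presheaf.germ ⊤ (genericPoint X) trivial) s ≠ 0) : Cyc.secDivFun δ L (genericPoint X) (Submodule.Quotient.mk ((L.presheaf.germ ⊤ (genericPoint X) trivial) s)) = Cyc.zeroSectionFun δ (n - 1) L s := by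
  haveI := hX.1
  have hdim : ∀ y : X, δ y ≤ n - 1 + 1 := fun y => by
    have := CycLib.le_of_specializes hX.2.2 (genericPoint_specializes y)
    omega
  have hreg : ∀ y : X, δ y = n - 1 → Function.Injective
      (fun a : X.presheaf.stalk y => a • (L.presheaf.germ ⊤ y trivial) s) := fun y _ => by
    obtain ⟨t, ht⟩ := CycLib.Dev.exists_isBas hL y
    obtain ⟨f, hf⟩ := ht.2 ((L.presheaf.germ ⊤ y trivial) s)
    replace hf : f • t = (L.presheaf.germ ⊤ y trivial) s := hf
    have hf0 : f ≠ 0 := by
      rintro rfl
      apply hs
      refine (Ref1.sp_germ L (genericPoint_specializes y) (U := ⊤) trivial s).symm.trans ?_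
      show Ref1.sp L (genericPoint_specializes y) ((L.presheaf.germ ⊤ y trivial) s) = 0
      rw [← hf, zero_smul, map_zero]
    intro a b e
    refine mul_right_cancel₀ hf0 (ht.1 (show (a * f) • t = (b * f) • t from ?_))
    rw [mul_smul, mul_smul, hf]
    exact e
  rw [CycLib.Dev.zeroSection_eq_c1 hX.2.2 hL hdim s hreg]
  funext x
  rw [Cyc.c1CapFun, finsum_eq_single _ (genericPoint X) fun ξ hξ => ?_,
    CycLib.Dev.subschemeFun_id, if_pos (by omega)]
  · have hfield : IsField (X.presheaf.stalk (genericPoint X)) :=
      Field.toIsField X.functionField
    haveI : IsSimpleModule (X.presheaf.stalk (genericPoint X)) (X.presheaf.stalk (genericPoint X)) := by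
      letI := hfield.toField
      infer_instance
    rw [Module.length_eq_one, ENat.toNat_one, Nat.cast_one, one_mul]
  · rw [CycLib.Dev.subschemeFun_id, if_neg, zero_mul]
    intro h
    exact hξ (CycLib.eq_of_specializes hX.2.2 (genericPoint_specializes ξ) (by omega)).symm

end Groth.Agent.S1923
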