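import Groth.Statements.S19230
import Groth.Agent.SigmaLin.Basic

set_option autoImplicit false
universe u v
open SigmaLin

namespace Groth.Agent.S19230

/-- Let k be a field, σ a surjective ring endomorphism of k, V a finite-dimensional k-vector space and T
: V → V additive with T (c • v) = σ c • T v. Then the set of vectors killed by some iterate of T is
a k-subspace on which a single iterate of T vanishes, it is a complement of the intersection over n
of the k-spans of the images of the n-th iterates, and T restricts to a bijection of that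
intersection onto itself. -/
theorem result
    (k : Type u) [Field k] (σ : k →+* k) (hσ : Function.Surjective σ)
    (V : Type v) [AddCommGroup V] [Module k V] [FiniteDimensional k V] (T : V →ₛₗ[σ] V) :
    (∃ W : Submodule k V, (W : Set V) = {v : V | ∃ n : ℕ, (⇑T)^[n] v = 0} ∧
      (∃ N : ℕ, ∀ v ∈ W, (⇑T)^[N] v = 0) ∧
      IsCompl W (⨅ n : ℕ, Submodule.span k (Set.range ((⇑T)^[n])))) ∧
    Set.BijOn (⇑T) (⋂ n : ℕ, (Submodule.span k (Set.range ((⇑T)^[n])) : Set V))
      (⋂ n : ℕ, (Submodule.span k (Set.range ((⇑T)^[n])) : Set V)) := by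
  obtain ⟨N, hN, hc⟩ := Groth.Agent.SigmaLin.Basic.fitting hσ T
  refine ⟨⟨Groth.Agent.SigmaLin.Basic.nilStage T N, ?_, ⟨N, fun v hv => hv⟩, hc⟩, ?_⟩
  · ext v
    exact ⟨fun h => ⟨N, h⟩, hN v⟩
  · have hmem : ∀ v : V, v ∈ (⋂ n : ℕ, (Submodule.span k (Set.range ((⇑T)^[n])) : Set V)) ↔
        v ∈ ⨅ n, Groth.Agent.SigmaLin.Basic.stage T n := fun v => by
      simp [Submodule.mem_iInf, Groth.Agent.SigmaLin.Basic.stage]
    refine ⟨fun v hv => (hmem _).2 (Groth.Agent.SigmaLin.Basic.mem_iInf_stage T ((hmem v).1 hv)), ?_, ?_⟩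
    · intro a ha b hb hab
      rw [← sub_eq_zero]
      refine Groth.Agent.SigmaLin.Basic.injOn_iInf_stage T (sub_mem ((hmem a).1 ha) ((hmem b).1 hb)) ?_
      rw [map_sub, hab, sub_self]
    · intro v hv
      obtain ⟨M, hM⟩ := Groth.Agent.SigmaLin.Basic.iInf_stage_eq T
      have hv' := (hmem v).1 hv
      rw [hM (M + 1) (Nat.le_succ M)] at hv'
      obtain ⟨x, hx⟩ := (Groth.Agent.SigmaLin.Basic.mem_stage_iff hσ T _ _).1 hv'
      refine ⟨(⇑T)^[M] x, (hmem _).2 ?_, by rw [← hx, Function.iterate_succ_apply']⟩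
      rw [hM M le_rfl]
      exact Submodule.subset_span ⟨x, rfl⟩

end Groth.Agent.S19230
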