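import Groth.Statements.S19231
import Groth.Agent.SigmaLin.Basic
import Mathlib.LinearAlgebra.Matrix.Basis

set_option autoImplicit false
universe u v
open SigmaLin

namespace Groth.Agent.S19231

/-- Let k be a field with a ring endomorphism σ, V a k-vector space, (e_i) and (e'_j) two bases of V
indexed by Fin d with e'_j = Σ_i P_{ij} e_i for a d × d matrix P, and T : V → V additive with T (c •
v) = σ c • T v. If A and A' are the matrices of T in the two bases, T e_j = Σ_i A_{ij} e_i and T
e'_j = Σ_i A'_{ij} e'_i, then P·A' = A·P^σ, where P^σ is P with σ applied to every entry;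
equivalently A' = P⁻¹·A·P^σ. -/
theorem result
    (k : Type u) [Field k] (σ : k →+* k) (V : Type v) [AddCommGroup V] [Module k V]
    (d : ℕ) (e e' : Module.Basis (Fin d) k V) (T : V →ₛₗ[σ] V)
    (P A A' : Matrix (Fin d) (Fin d) k)
    (hP : ∀ j, e' j = ∑ i, P i j • e i)
    (hA : ∀ j, T (e j) = ∑ i, A i j • e i)
    (hA' : ∀ j, T (e' j) = ∑ i, A' i j • e' i) :
    P * A' = A * P.map ⇑σ := by
  ext i j
  have h1 : T (e' j) = ∑ l, (∑ m, A l m * σ (P m j)) • e l := by
    rw [hP j, map_sum]
    simp_rw [map_smulₛₗ, hA, Finset.smul_sum, smul_smul, Finset.sum_smul]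
    rw [Finset.sum_comm]
    simp_rw [mul_comm]
  have h2 : T (e' j) = ∑ l, (∑ m, P l m * A' m j) • e l := by
    rw [hA' j]
    simp_rw [hP, Finset.smul_sum, smul_smul, Finset.sum_smul]
    rw [Finset.sum_comm]
    simp_rw [mul_comm]
  have := congrArg (fun v => e.repr v i) (h2.symm.trans h1)
  rw [e.repr_sum_self, e.repr_sum_self] at this
  simpa [Matrix.mul_apply] using this

end Groth.Agent.S19231
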