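import Groth.Statements.S19237
import Groth.Agent.SigmaLin.Witt

set_option autoImplicit false
universe u v
open SigmaLin

namespace Groth.Agent.S19237

/-- Let k be an algebraically closed field of characteristic p > 0 and n a natural number; let M be a
finitely generated module over the ring W_n(k) of truncated Witt vectors and T : M → M an additive
map with T (c • m) = σ(c) • T m, where σ is either the Frobenius endomorphism of W_n(k) (induced by
the p-th power map of k) or its inverse (induced by the inverse of the p-th power map). Then m ↦ T m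
− m is surjective on M. (The printed statement takes k perfect and separably closed, which is the
same as algebraically closed.) -/
theorem result
    (p : ℕ) [Fact p.Prime] (k : Type u) [Field k] [CharP k p] [IsAlgClosed k] (n : ℕ)
    (σ : TruncatedWittVector p n k →+* TruncatedWittVector p n k)
    (hσ : σ = WittGrp.truncMap p n (frobenius k p) ∨
      σ = WittGrp.truncMap p n (frobeniusEquiv k p).symm.toRingHom)
    (M : Type v) [AddCommGroup M] [Module (TruncatedWittVector p n k) M] [Module.Finite (TruncatedWittVector p n k) M]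
    (T : M →ₛₗ[σ] M) :
    Function.Surjective (fun m : M => T m - m) := by
  rcases Nat.eq_zero_or_pos n with rfl | hn
  · haveI : Subsingleton (TruncatedWittVector p 0 k) := ⟨fun a b => TruncatedWittVector.ext fun i => i.elim0⟩
    haveI := Module.subsingleton (TruncatedWittVector p 0 k) M
    exact fun m => ⟨0, Subsingleton.elim _ _⟩
  obtain ⟨f, hsurjf, h2f, h3f, rfl⟩ : ∃ f : k →+* k, Function.Surjective f ∧
      (∀ (n : ℕ) (b : Fin (n + 1) → k), b ≠ 0 → ∃ x : k, x ≠ 0 ∧
        x = ∑ i : Fin (n + 1), (⇑f)^[i.val + 1] x * (⇑f)^[i.val] (b (Fin.rev i))) ∧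
      (∀ c : k, ∃ y : k, f y - y + c = 0) ∧ σ = WittGrp.truncMap p n f := by
    rcases hσ with h | h
    · exact ⟨_, (frobeniusEquiv k p).surjective, Groth.Agent.SigmaLin.Frob.h2_frobenius p,
        Groth.Agent.SigmaLin.Frob.h3_frobenius p, h⟩
    · exact ⟨_, (frobeniusEquiv k p).symm.surjective, Groth.Agent.SigmaLin.Frob.h2_inv p,
        Groth.Agent.SigmaLin.Frob.h3_inv p, h⟩
  obtain ⟨hloc, hmax, σbar, e, he, hσbar, -⟩ := Groth.Agent.SigmaLin.Witt.exists_setup p hn f
  obtain ⟨h2, h3⟩ := Groth.Agent.SigmaLin.Local.transfer e σbar f he h2f h3f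
  have hsurj : Function.Surjective σbar := fun y => by
    obtain ⟨x, hx⟩ := hsurjf (e y)
    exact ⟨e.symm x, e.injective (by rw [he, RingEquiv.apply_symm_apply, hx])⟩
  intro m
  obtain ⟨x, hx⟩ := Groth.Agent.SigmaLin.Local.sub_surjective hmax (map_natCast _ p) σbar hσbar hsurj h2 h3
    n M T (fun x => by rw [Groth.Agent.SigmaLin.Witt.pow_eq_zero, zero_smul]) (-m)
  refine ⟨x, ?_⟩
  show T x - x = m
  rw [← neg_sub, show x - T x = -m from hx, neg_neg]

end Groth.Agent.S19237
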