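import Groth.Statements.S19240
import Groth.Agent.S0416
import Groth.Agent.S14929
import Groth.Agent.S9821
import Groth.Agent.PerfSch.Perfect
import Mathlib.FieldTheory.PurelyInseparable.Exponent
import Mathlib.AlgebraicGeometry.Morphisms.Finite
import Mathlib.AlgebraicGeometry.Morphisms.UniversallyInjective
import Mathlib.AlgebraicGeometry.Gluing
-- import your own Groth.Agent.* helpers here

set_option autoImplicit false
set_option backward.isDefEq.respectTransparency false
universe u
open FrobSch

namespace Groth.Agent.S19240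

section
open CategoryTheory CategoryTheory.Limits AlgebraicGeometry

/-- Iterated absolute Frobenius. -/
noncomputable abbrev FN (X : Scheme.{u}) (p : ℕ) [Fact p.Prime] [FrobSch.IsCharP X p] (n : ℕ) : X ⟶ X :=
  (fun g : X ⟶ X => g ≫ FrobSch.frob X p)^[n] (𝟙 X)

theorem FN_succ (X : Scheme.{u}) (p : ℕ) [Fact p.Prime] [FrobSch.IsCharP X p] (n : ℕ) :
    FN X p (n + 1) = FN X p n ≫ FrobSch.frob X p := Function.iterate_succ_apply' _ _ _

theorem FN_comp {X Y : Scheme.{u}} (p : ℕ) [Fact p.Prime] [FrobSch.IsCharP X p] [FrobSch.IsCharP Y p]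
    (f : X ⟶ Y) (n : ℕ) : FN X p n ≫ f = f ≫ FN Y p n := by
  induction n with
  | zero => simp [FN]
  | succ n ih => rw [FN_succ, FN_succ, Category.assoc, FrobSch.frob_comp, reassoc_of% ih]

theorem FN_preimage (X : Scheme.{u}) (p : ℕ) [Fact p.Prime] [FrobSch.IsCharP X p] (n : ℕ)
    (U : X.Opens) : FN X p n ⁻¹ᵁ U = U := by
  induction n with
  | zero => rfl
  | succ n ih => rw [FN_succ, Scheme.Hom.comp_preimage, FrobSch.frob_preimage, ih]

theorem FN_appLE (X : Scheme.{u}) (p : ℕ) [Fact p.Prime] [FrobSch.IsCharP X p] (n : ℕ)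
    (U : X.Opens) (h : U ≤ FN X p n ⁻¹ᵁ U) (s : Γ(X, U)) :
    (FN X p n).appLE U U h s = s ^ p ^ n := by
  induction n generalizing s with
  | zero =>
    simp only [FN, Function.iterate_zero, id_eq, pow_zero, pow_one, Scheme.Hom.appLE]
    rw [Scheme.Hom.id_app]
    show X.presheaf.map (homOfLE h).op s = s
    rw [show (homOfLE h).op = 𝟙 _ from Subsingleton.elim _ _, CategoryTheory.Functor.map_id]
    rfl
  | succ n ih =>
    have hf : U ≤ FN X p n ⁻¹ᵁ (FrobSch.frob X p ⁻¹ᵁ U) := by
      rw [← Scheme.Hom.comp_preimage, ← FN_succ]; exact h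
    have e : (FN X p (n + 1)).appLE U U h =
        (FrobSch.frob X p).app U ≫ (FN X p n).appLE (FrobSch.frob X p ⁻¹ᵁ U) U hf := by
      rw [← Scheme.Hom.comp_appLE]
      simp only [FN_succ]
    rw [e]
    refine ((FN X p n).appLE (FrobSch.frob X p ⁻¹ᵁ U) U hf).hom.map_pow s p |>.trans ?_
    refine (congrArg (· ^ p) (ih hf s)).trans ?_
    rw [← pow_mul, ← pow_succ]

/-- The map of function fields of a morphism preserving the generic points. -/
noncomputable def ffMap {X Y : Scheme.{u}} [IsIntegral X] [IsIntegral Y] (u : X ⟶ Y)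
    (e : u (genericPoint X) = genericPoint Y) : Y.functionField →+* X.functionField :=
  (Y.presheaf.stalkSpecializes (specializes_of_eq e) ≫ u.stalkMap (genericPoint X)).hom

theorem ffMap_germ {X Y : Scheme.{u}} [IsIntegral X] [IsIntegral Y] (u : X ⟶ Y)
    (e : u (genericPoint X) = genericPoint Y) (V : Y.Opens) [Nonempty V] [Nonempty (u ⁻¹ᵁ V)]
    (a : Γ(Y, V)) :
    ffMap u e (Y.germToFunctionField V a) = X.germToFunctionField (u ⁻¹ᵁ V) (u.app V a) := by
  show (u.stalkMap _) (Y.presheaf.stalkSpecializes _ (Y.presheaf.germ V _ _ a)) = _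
  erw [ConcreteCategory.comp_apply, TopCat.Presheaf.germ_stalkSpecializes_apply,
    Scheme.Hom.germ_stalkMap_apply]

/-- The degree of a finite radicial extension of function fields is a power of `p`, and that power
of `p` sends the larger field into the smaller. -/
theorem exists_pow {X Y : Scheme.{u}} [IsIntegral X] [IsIntegral Y] (p : ℕ) [Fact p.Prime]
    [FrobSch.IsCharP Y p] (u : X ⟶ Y) [IsFinite u] [Surjective u] [UniversallyInjective u]
    (e : u (genericPoint X) = genericPoint Y) :
    ∃ n : ℕ, @Module.finrank Y.functionField X.functionField _ _ (ffMap u e).toAlgebra.toModule =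
        p ^ n ∧ ∀ z : X.functionField, ∃ a : Y.functionField, ffMap u e a = z ^ p ^ n := by
  obtain ⟨_, ⟨V, hV, rfl⟩, hηV, -⟩ :=
    Y.isBasis_affineOpens.exists_subset_of_mem_open (Set.mem_univ (genericPoint Y)) isOpen_univ
  have hne : Nonempty V := ⟨⟨_, hηV⟩⟩
  have hne' : Nonempty (u ⁻¹ᵁ V) := ⟨⟨genericPoint X, show u (genericPoint X) ∈ V from e.symm ▸ hηV⟩⟩
  have hU : IsAffineOpen (u ⁻¹ᵁ V) := hV.preimage u
  let φ := ffMap u e
  letI : Algebra Y.functionField X.functionField := φ.toAlgebra
  have := functionField_isFractionRing_of_isAffineOpen X (u ⁻¹ᵁ V) hU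
  have : CharP Y.functionField p := by
    have h0 : (p : Γ(Y, V)) = 0 := FrobSch.natCast_eq_zero_app Y p V
    have h1 : (p : Y.functionField) = 0 := by
      rw [← map_natCast (Y.germToFunctionField V).hom p, h0, map_zero]
    exact (CharP.charP_iff_prime_eq_zero Fact.out).2 h1
  have : IsPurelyInseparable Y.functionField X.functionField := by
    have hres := ((tfae_universallyInjective (f := u)).out 0 2 rfl rfl).mp inferInstance
    have hx := hres.2 (genericPoint X)
    letI := (u.residueFieldMap (genericPoint X)).hom.toAlgebra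
    have hx' : IsPurelyInseparable (Y.residueField (u (genericPoint X))) (X.residueField (genericPoint X)) := hx
    have : CharP (Y.residueField (u (genericPoint X))) p :=
      Groth.Agent.PerfSch.Perfect.charP_residueField _
    rw [isPurelyInseparable_iff_pow_mem _ p]
    intro z
    obtain ⟨m, a', ha'⟩ := (isPurelyInseparable_iff_pow_mem _ p).mp hx' (X.residue (genericPoint X) z)
    obtain ⟨a, rfl⟩ := Y.residue_surjective _ a'
    refine ⟨m, Y.presheaf.stalkSpecializes (specializes_of_eq e.symm) a, ?_⟩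
    have hid : Y.presheaf.stalkSpecializes (specializes_of_eq e)
        (Y.presheaf.stalkSpecializes (specializes_of_eq e.symm) a) = a := by
      rw [← ConcreteCategory.comp_apply, TopCat.Presheaf.stalkSpecializes_comp,
        TopCat.Presheaf.stalkSpecializes_refl]
      rfl
    show (u.stalkMap _) (Y.presheaf.stalkSpecializes _
      (Y.presheaf.stalkSpecializes (specializes_of_eq e.symm) a)) = z ^ p ^ m
    rw [hid]
    refine RingHom.injective ((X.residue (genericPoint X)).hom : X.functionField →+* _) ?_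
    rw [map_pow]
    refine Eq.trans ?_ ha'
    exact (congr(($(Scheme.residue_residueFieldMap u (genericPoint X))).hom a)).symm
  have : FiniteDimensional Y.functionField X.functionField := by
    classical
    obtain ⟨S, hS⟩ : ∃ S : Finset Γ(X, u ⁻¹ᵁ V),
        ∀ b, b ∈ Subring.closure (Set.range (u.app V) ∪ (S : Set Γ(X, u ⁻¹ᵁ V))) := by
      have hfin : (u.app V).hom.Finite := IsFinite.finite_app u V hV
      algebraize [(u.app V).hom]
      obtain ⟨S, hS⟩ := (Algebra.FiniteType.out :
        (⊤ : Subalgebra Γ(Y, V) Γ(X, u ⁻¹ᵁ V)).FG)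
      refine ⟨S, fun b => ?_⟩
      have hb : b ∈ Algebra.adjoin Γ(Y, V) (S : Set Γ(X, u ⁻¹ᵁ V)) := hS ▸ Algebra.mem_top
      rw [← Subalgebra.mem_toSubring, Algebra.adjoin_eq_ring_closure] at hb
      exact hb
    let E : IntermediateField Y.functionField X.functionField :=
      IntermediateField.adjoin Y.functionField (X.germToFunctionField (u ⁻¹ᵁ V) '' (S : Set Γ(X, u ⁻¹ᵁ V)))
    have hfinE : FiniteDimensional Y.functionField E := by
      have : Finite (X.germToFunctionField (u ⁻¹ᵁ V) '' (S : Set Γ(X, u ⁻¹ᵁ V))) :=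
        ((S.finite_toSet).image _).to_subtype
      exact IntermediateField.finiteDimensional_adjoin fun z _ => Algebra.IsIntegral.isIntegral z
    have hB : ∀ b, X.germToFunctionField (u ⁻¹ᵁ V) b ∈ E := by
      intro b
      have hle : Subring.closure (Set.range (u.app V) ∪ (S : Set Γ(X, u ⁻¹ᵁ V))) ≤
          E.toSubfield.toSubring.comap (X.germToFunctionField (u ⁻¹ᵁ V)).hom := by
        rw [Subring.closure_le]
        rintro _ (⟨a, rfl⟩ | hb)
        · show X.germToFunctionField (u ⁻¹ᵁ V) (u.app V a) ∈ E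
          rw [← ffMap_germ u e V a]
          exact E.algebraMap_mem (Y.germToFunctionField V a)
        · exact IntermediateField.subset_adjoin _ _ ⟨_, hb, rfl⟩
      exact hle (hS b)
    have htop : E = ⊤ := eq_top_iff.mpr fun z _ => by
      obtain ⟨a, b, hb, rfl⟩ := IsFractionRing.div_surjective (A := Γ(X, u ⁻¹ᵁ V)) z
      exact E.div_mem (hB a) (hB b)
    rw [htop] at hfinE
    exact IntermediateField.topEquiv.toLinearEquiv.finiteDimensional
  obtain ⟨n, hn⟩ := IsPurelyInseparable.finrank_eq_pow (F := Y.functionField) X.functionField p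
  refine ⟨n, hn, fun z => ?_⟩
  have hdeg := minpoly.natDegree_le (A := Y.functionField) z
  rw [IsPurelyInseparable.minpoly_natDegree_eq' Y.functionField p, hn] at hdeg
  have hle := (Nat.pow_le_pow_iff_right (Fact.out : p.Prime).one_lt).mp hdeg
  refine ⟨IsPurelyInseparable.elemReduct Y.functionField z ^ p ^ (n - IsPurelyInseparable.elemExponent Y.functionField z), ?_⟩
  show algebraMap Y.functionField X.functionField _ = _
  rw [map_pow, IsPurelyInseparable.algebraMap_elemReduct_eq' Y.functionField p, ← pow_mul, ← pow_add,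
    Nat.add_sub_cancel' hle]

/-- Local inverse up to Frobenius. -/
theorem exists_local {X Y : Scheme.{u}} [IsIntegral X] [IsIntegral Y] (p : ℕ) [Fact p.Prime]
    [FrobSch.IsCharP X p] (hY : Pi1.IsNormalScheme Y) (u : X ⟶ Y) [IsFinite u] [Surjective u]
    (e : u (genericPoint X) = genericPoint Y) (n : ℕ)
    (hn : ∀ z : X.functionField, ∃ a : Y.functionField, ffMap u e a = z ^ p ^ n)
    (V : Y.Opens) (hV : IsAffineOpen V) [Nonempty V] :
    ∃ w : (V : Scheme.{u}) ⟶ X, (u ∣_ V) ≫ w = (u ⁻¹ᵁ V).ι ≫ FN X p n := by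
  have hne' : Nonempty (u ⁻¹ᵁ V) := by
    obtain ⟨y⟩ := ‹Nonempty V›
    obtain ⟨x, hx⟩ := u.surjective y.1
    exact ⟨⟨x, show u x ∈ V from hx.symm ▸ y.2⟩⟩
  have hU : IsAffineOpen (u ⁻¹ᵁ V) := hV.preimage u
  have := (S9821.result Y).1 hY V hV
  have := functionField_isFractionRing_of_isAffineOpen Y V hV
  have hfin : (u.app V).hom.Finite := IsFinite.finite_app u V hV
  let φ := ffMap u e
  have hgA : Function.Injective (Y.germToFunctionField V) := Scheme.germToFunctionField_injective Y V
  have hgB : Function.Injective (X.germToFunctionField (u ⁻¹ᵁ V)) :=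
    Scheme.germToFunctionField_injective X (u ⁻¹ᵁ V)
  have hinj : Function.Injective (u.app V) := fun a b h => hgA (φ.injective (by
    rw [ffMap_germ, ffMap_germ, h]))
  have hex : ∀ b : Γ(X, u ⁻¹ᵁ V), ∃ a : Γ(Y, V), u.app V a = b ^ p ^ n := by
    intro b
    obtain ⟨a, ha⟩ := hn (X.germToFunctionField (u ⁻¹ᵁ V) b)
    have hint : IsIntegral Γ(Y, V) a := by
      obtain ⟨P, hP, hP0⟩ := hfin.to_isIntegral (b ^ p ^ n)
      refine ⟨P, hP, φ.injective ?_⟩
      rw [map_zero, Polynomial.hom_eval₂, ha, ← map_pow,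
        show φ.comp (algebraMap Γ(Y, V) Y.functionField) =
          (X.germToFunctionField (u ⁻¹ᵁ V)).hom.comp (u.app V).hom from
          RingHom.ext fun r => ffMap_germ u e V r, ← Polynomial.hom_eval₂, hP0, map_zero]
    obtain ⟨a', ha'⟩ := IsIntegrallyClosed.isIntegral_iff.mp hint
    refine ⟨a', hgB ?_⟩
    rw [← ffMap_germ u e V a', map_pow]
    exact (congrArg φ ha').trans ha
  choose f hf using hex
  let ψ : Γ(X, u ⁻¹ᵁ V) ⟶ Γ(Y, V) := CommRingCat.ofHom
    { toFun := f
      map_one' := hinj (by rw [hf, one_pow, map_one])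
      map_mul' := fun a b => hinj (by rw [hf, map_mul, hf, hf, mul_pow])
      map_zero' := hinj (by rw [hf, zero_pow (pow_ne_zero _ (Fact.out : p.Prime).ne_zero), map_zero])
      map_add' := fun a b => hinj (by
        rw [hf, map_add, hf, hf]
        rcases subsingleton_or_nontrivial Γ(X, u ⁻¹ᵁ V) with h | h
        · exact Subsingleton.elim _ _
        · have : CharP Γ(X, u ⁻¹ᵁ V) p := (CharP.charP_iff_prime_eq_zero Fact.out).2
            (FrobSch.natCast_eq_zero_app X p _)
          exact add_pow_char_pow a b p n) }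
  refine ⟨hV.isoSpec.hom ≫ Spec.map ψ ≫ hU.fromSpec, ?_⟩
  have h1 : (u ∣_ V) ≫ hV.isoSpec.hom =
      hU.isoSpec.hom ≫ Spec.map (u.appLE V (u ⁻¹ᵁ V) le_rfl) := by
    rw [← cancel_mono hV.fromSpec, Category.assoc, Category.assoc, hV.isoSpec_hom_fromSpec,
      morphismRestrict_ι, IsAffineOpen.SpecMap_appLE_fromSpec u hV hU le_rfl, ← Category.assoc,
      hU.isoSpec_hom_fromSpec]
  have h2 : ψ ≫ u.appLE V (u ⁻¹ᵁ V) le_rfl =
      (FN X p n).appLE (u ⁻¹ᵁ V) (u ⁻¹ᵁ V) (FN_preimage X p n _).ge := by
    ext b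
    rw [FN_appLE, ← Scheme.Hom.app_eq_appLE]
    exact hf b
  rw [reassoc_of% h1, ← Spec.map_comp_assoc, h2, IsAffineOpen.SpecMap_appLE_fromSpec _ hU hU,
    ← Category.assoc, hU.isoSpec_hom_fromSpec]


end

open CategoryTheory CategoryTheory.Limits AlgebraicGeometry in
/-- Let k be a perfect field of characteristic p > 0 and let u : X ⟶ Y be a k-morphism between integral
k-schemes (separated, of finite type and quasi-projective over k) which is a universal
homeomorphism, and assume Y is normal. Then the degree of the function field of X over that of Y is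
p ^ n for some natural number n, and for this n there is a universal homeomorphism v : Y ⟶ X^{(n)},
where X^{(n)} is the base change of X along the n-th power of the Frobenius of Spec k, such that v
is a k-morphism, u followed by v is the n-th relative Frobenius of X over k (its composite with the
projection X^{(n)} ⟶ X is the n-th power of the absolute Frobenius of X) and v followed by the base
change of u is the n-th relative Frobenius of Y over k (the composite of v with the projection to X
and with u is the n-th power of the absolute Frobenius of Y). -/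
theorem result
    (p : ℕ) [Fact p.Prime] (k : Type u) [Field k] [CharP k p] [PerfectField k]
    {X Y : Scheme.{u}} (fX : X ⟶ Spec (CommRingCat.of k)) (fY : Y ⟶ Spec (CommRingCat.of k))
    [IsIntegral X] [IsIntegral Y] [FrobSch.IsCharP X p] [FrobSch.IsCharP Y p]
    [IsSeparated fX] [IsSeparated fY] [LocallyOfFiniteType fX] [LocallyOfFiniteType fY]
    (hqX : ∃ (N : ℕ) (i : X ⟶ CohB1.ProjSpace N k), IsImmersion i ∧ i ≫ CohB1.ProjSpace.toSpec N k = fX)
    (hqY : ∃ (N : ℕ) (i : Y ⟶ CohB1.ProjSpace N k), IsImmersion i ∧ i ≫ CohB1.ProjSpace.toSpec N k = fY)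
    (hY : Pi1.IsNormalScheme Y)
    (u : X ⟶ Y) (hu : u ≫ fY = fX) (huniv : FlatMor.IsUnivHomeo u)
    (e : u (genericPoint X) = genericPoint Y) :
    ∃ n : ℕ,
      @Module.finrank Y.functionField X.functionField _ _
          (Y.presheaf.stalkSpecializes (specializes_of_eq e) ≫ u.stalkMap (genericPoint X)).hom.toAlgebra.toModule = p ^ n ∧
      ∃ v : Y ⟶ pullback fX ((fun g : Spec (CommRingCat.of k) ⟶ Spec (CommRingCat.of k) => g ≫ FrobSch.frob (Spec (CommRingCat.of k)) p)^[n] (𝟙 (Spec (CommRingCat.of k)))),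
        FlatMor.IsUnivHomeo v ∧
        v ≫ pullback.snd fX ((fun g : Spec (CommRingCat.of k) ⟶ Spec (CommRingCat.of k) => g ≫ FrobSch.frob (Spec (CommRingCat.of k)) p)^[n] (𝟙 (Spec (CommRingCat.of k)))) = fY ∧
        u ≫ v ≫ pullback.fst fX ((fun g : Spec (CommRingCat.of k) ⟶ Spec (CommRingCat.of k) => g ≫ FrobSch.frob (Spec (CommRingCat.of k)) p)^[n] (𝟙 (Spec (CommRingCat.of k)))) =
          (fun g : X ⟶ X => g ≫ FrobSch.frob X p)^[n] (𝟙 X) ∧
        v ≫ pullback.fst fX ((fun g : Spec (CommRingCat.of k) ⟶ Spec (CommRingCat.of k) => g ≫ FrobSch.frob (Spec (CommRingCat.of k)) p)^[n] (𝟙 (Spec (CommRingCat.of k)))) ≫ u =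
          (fun g : Y ⟶ Y => g ≫ FrobSch.frob Y p)^[n] (𝟙 Y) := by
  classical
  have : Fact p.Prime := inferInstance
  obtain ⟨hui, hus, huc⟩ := (Groth.Agent.PerfSch.Perfect.isUnivHomeo_iff u).1 huniv
  have : IsAffineHom u := Groth.Agent.PerfSch.Perfect.isAffineHom_of_isUnivHomeo u huniv
  have : LocallyOfFiniteType (u ≫ fY) := hu ▸ ‹LocallyOfFiniteType fX›
  have : LocallyOfFiniteType u := locallyOfFiniteType_of_comp u fY
  have : IsIntegralHom u := IsIntegralHom.iff_universallyClosed_and_isAffineHom.mpr ⟨huc, ‹_›⟩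
  have : IsFinite u := (IsFinite.iff_isIntegralHom_and_locallyOfFiniteType u).mpr ⟨‹_›, ‹_›⟩
  have : FrobSch.IsCharP (Spec (CommRingCat.of k)) p := inferInstance
  obtain ⟨n, hdeg, hpow⟩ := exists_pow p u e
  refine ⟨n, hdeg, ?_⟩
  have : X.IsSeparated := ⟨by rw [← Limits.terminal.comp_from fX]; infer_instance⟩
  have : Y.IsSeparated := ⟨by rw [← Limits.terminal.comp_from fY]; infer_instance⟩
  have huniq : ∀ {P Z : Scheme.{u}} [IsReduced P] [Z.IsSeparated] (i : P ⟶ Y) (a b : P ⟶ Z),
      pullback.snd u i ≫ a = pullback.snd u i ≫ b → a = b := fun i a b h =>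
    have : Surjective (pullback.snd u i) := MorphismProperty.pullback_snd _ _ hus
    ext_of_isDominant (pullback.snd u i) h
  obtain ⟨V, hVmem⟩ : ∃ V : Y → Y.Opens, ∀ y, IsAffineOpen (V y) ∧ y ∈ V y := by
    choose V hV hyV _ using fun y : Y =>
      TopologicalSpace.Opens.isBasis_iff_nbhd.mp Y.isBasis_affineOpens (TopologicalSpace.Opens.mem_top y)
    exact ⟨V, fun y => ⟨hV y, hyV y⟩⟩
  have hVne : ∀ y, Nonempty (V y) := fun y => ⟨⟨y, (hVmem y).2⟩⟩
  choose w hw using fun y => exists_local p hY u e n hpow (V y) (hVmem y).1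
  let 𝒰 := Y.openCoverOfIsOpenCover V (TopologicalSpace.IsOpenCover.mk
    (eq_top_iff.mpr fun y _ => TopologicalSpace.Opens.mem_iSup.mpr ⟨y, (hVmem y).2⟩))
  have hw' : ∀ y, pullback.snd u (V y).ι ≫ w y = pullback.fst u (V y).ι ≫ FN X p n := by
    intro y
    have h := (isPullback_morphismRestrict u (V y)).flip
    rw [← cancel_epi h.isoPullback.hom, h.isoPullback_hom_snd_assoc, h.isoPullback_hom_fst_assoc]
    exact hw y
  have hcompat : ∀ x y : 𝒰.I₀, pullback.fst (𝒰.f x) (𝒰.f y) ≫ w x =
      pullback.snd (𝒰.f x) (𝒰.f y) ≫ w y := by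
    intro (x : Y) (y : Y)
    change pullback.fst (V x).ι (V y).ι ≫ w x = pullback.snd (V x).ι (V y).ι ≫ w y
    have : IsReduced (pullback (V x).ι (V y).ι) := isReduced_of_isOpenImmersion (pullback.fst (V x).ι (V y).ι)
    refine huniq (pullback.fst (V x).ι (V y).ι ≫ (V x).ι) _ _ ?_
    let i := pullback.fst (V x).ι (V y).ι ≫ (V x).ι
    let gx : pullback u i ⟶ pullback u (V x).ι := pullback.lift (pullback.fst u i)
      (pullback.snd u i ≫ pullback.fst (V x).ι (V y).ι) (by rw [Category.assoc, pullback.condition])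
    let gy : pullback u i ⟶ pullback u (V y).ι := pullback.lift (pullback.fst u i)
      (pullback.snd u i ≫ pullback.snd (V x).ι (V y).ι) (by
        rw [Category.assoc, ← pullback.condition (f := (V x).ι), pullback.condition])
    have ex := congrArg (gx ≫ ·) (hw' x)
    have ey := congrArg (gy ≫ ·) (hw' y)
    simp only [gx, gy, pullback.lift_fst_assoc, pullback.lift_snd_assoc, Category.assoc] at ex ey
    exact ex.trans ey.symm
  let W : Y ⟶ X := 𝒰.glueMorphisms w hcompat
  have hW : u ≫ W = FN X p n := by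
    refine Scheme.Cover.hom_ext (𝒰.pullback₁ u) _ _ fun (y : Y) => ?_
    show pullback.fst u (𝒰.f y) ≫ u ≫ W = pullback.fst u (𝒰.f y) ≫ FN X p n
    rw [pullback.condition_assoc, Scheme.Cover.ι_glueMorphisms]
    exact hw' y
  have : IsDominant u := inferInstance
  let F := FN (Spec (CommRingCat.of k)) p n
  have hWk : W ≫ fX = fY ≫ F := ext_of_isDominant u (by
    rw [reassoc_of% hW, FN_comp, ← Category.assoc u fY, hu])
  have hWu : W ≫ u = FN Y p n := ext_of_isDominant u (by
    rw [reassoc_of% hW, FN_comp])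
  have hFN : ∀ (Z : Scheme.{u}) [FrobSch.IsCharP Z p] (m : ℕ), FlatMor.IsUnivHomeo (FN Z p m) := by
    intro Z _ m
    induction m with
    | zero =>
      show FlatMor.IsUnivHomeo (𝟙 Z)
      exact (Groth.Agent.PerfSch.Perfect.isUnivHomeo_iff _).2 ⟨inferInstance, inferInstance, inferInstance⟩
    | succ m ih =>
      rw [FN_succ]
      obtain ⟨a1, a2, a3⟩ := (Groth.Agent.PerfSch.Perfect.isUnivHomeo_iff _).1 ih
      obtain ⟨b1, b2, b3⟩ := (Groth.Agent.PerfSch.Perfect.isUnivHomeo_iff _).1 (S14929.result p Z).1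
      exact (Groth.Agent.PerfSch.Perfect.isUnivHomeo_iff _).2
        ⟨MorphismProperty.comp_mem _ _ _ a1 b1, inferInstance, inferInstance⟩
  let v : Y ⟶ pullback fX F := pullback.lift W fY hWk
  have hfst : FlatMor.IsUnivHomeo (pullback.fst fX F) :=
    MorphismProperty.of_isPullback (P := MorphismProperty.universally
      (AlgebraicGeometry.topologically (fun f => IsHomeomorph f))) (IsPullback.of_hasPullback fX F).flip (hFN _ n)
  have huv : FlatMor.IsUnivHomeo (u ≫ v) := by
    refine (S0416.result (u ≫ v) (pullback.fst fX F)).2 ?_ hfst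
    rw [Category.assoc, pullback.lift_fst, hW]
    exact hFN X n
  refine ⟨v, (S0416.result u v).1 huv huniv, pullback.lift_snd _ _ _, ?_, ?_⟩
  · exact (congrArg (u ≫ ·) (pullback.lift_fst W fY hWk)).trans hW
  · exact (pullback.lift_fst_assoc W fY hWk u).trans hWu

end Groth.Agent.S19240
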