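import Groth.Statements.S19243
import Groth.Agent.LimTower.ModTower

set_option autoImplicit false
universe u
open CohTop

namespace Groth.Agent.S19243

open CategoryTheory CategoryTheory.Limits TopologicalSpace Opposite in
open Groth.Agent.LimTower Groth.Agent.LimTower.ModTower in
/-- Let X be a topological space with a sheaf of (not necessarily commutative) rings R, E = (E_n)_{n ≥
0} an inverse system of R-modules indexed by the natural numbers and B a basis of the topology of X.
Write R^i lim for the i-th right derived functor of the limit functor from ℕ-indexed inverse systems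
of R-modules to R-modules (the limit functor is additive and the category of inverse systems has
injective resolutions; both facts are carried as instance hypotheses). (1) If H^i(U, E_n) = 0 for
every U in B, every n and every i ≥ 1, then R^i lim E = 0 for every i ≥ 2. (2) If in addition, for
every U in B, the inverse system of abelian groups (H^0(U, E_n))_n satisfies the Mittag-Leffler
condition, then R^i lim E = 0 for every i ≥ 1. (The source states this for a ringed space, with a
commutative structure sheaf, and indexes the system by the integers n ≥ 1; commutativity plays no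
role.) -/
theorem result
    (X : TopCat.{u}) (R : Sheaf (Opens.grothendieckTopology X) RingCat.{u})
    [(lim : (ℕᵒᵖ ⥤ SheafOfModules.{u} R) ⥤ SheafOfModules.{u} R).Additive]
    [HasInjectiveResolutions (ℕᵒᵖ ⥤ SheafOfModules.{u} R)]
    (E : ℕᵒᵖ ⥤ SheafOfModules.{u} R) (B : Set (Opens X)) (hB : Opens.IsBasis B)
    (ha : ∀ U ∈ B, ∀ (n i : ℕ), 1 ≤ i →
      Subsingleton (CohTop.HU ((SheafOfModules.toSheaf R).obj (E.obj (op n))) i U)) :
    (∀ i : ℕ, 2 ≤ i →
      IsZero (((lim : (ℕᵒᵖ ⥤ SheafOfModules.{u} R) ⥤ SheafOfModules.{u} R).rightDerived i).obj E)) ∧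
    ((∀ U ∈ B, (E ⋙ SheafOfModules.toSheaf R ⋙
        (sheafSections (Opens.grothendieckTopology X) AddCommGrpCat.{u}).obj (op U) ⋙
          forget AddCommGrpCat.{u}).IsMittagLeffler) →
      ∀ i : ℕ, 1 ≤ i →
        IsZero (((lim : (ℕᵒᵖ ⥤ SheafOfModules.{u} R) ⥤ SheafOfModules.{u} R).rightDerived i).obj E)) := by
  let I := injectiveResolution E
  have hvan : ∀ V ∈ B, ∀ n i : ℕ,
      Subsingleton (CohTop.HU ((SheafOfModules.toSheaf R).obj (E.obj (op n))) (i + 1) V) :=
    fun V hV n i => ha V hV n (i + 1) (by omega)
  have high : ∀ j : ℕ, IsZero (((lim : (ℕᵒᵖ ⥤ SheafOfModules.{u} R) ⥤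
      SheafOfModules.{u} R).rightDerived (j + 2)).obj E) := by
    intro j
    refine isZero_rightDerived R E I B hB (j + 1) fun V hV x hx => ?_
    refine exists_preimage R E I V (hvan V hV) (j + 1) (I.cocomplex.X j ⋙ SV R V) (ml_terms R E I V j)
      (Functor.whiskerRight (I.cocomplex.d j (j + 1)) (SV R V)) (fun n b => ?_)
      (fun n b hb => res_exact R E I V n.unop (hvan V hV n.unop) j b hb) x hx
    refine (ConcreteCategory.congr_hom
      (((SV R V).map_comp _ _).symm.trans ((congrArg (SV R V).map
        (congr_app (I.cocomplex.d_comp_d j (j + 1) (j + 2)) n)).trans ((SV R V).map_zero _ _))) b)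
  refine ⟨fun i hi => ?_, fun hml i hi => ?_⟩
  · obtain ⟨j, rfl⟩ : ∃ j, i = j + 2 := ⟨i - 2, by omega⟩
    exact high j
  · obtain rfl | ⟨j, rfl⟩ : i = 1 ∨ ∃ j, i = j + 2 := by
      rcases i with _ | _ | j
      · omega
      · exact Or.inl rfl
      · exact Or.inr ⟨j, rfl⟩
    swap
    · exact high j
    refine isZero_rightDerived R E I B hB 0 fun V hV x hx => ?_
    have hS : ∀ n : ℕᵒᵖ, ∀ b, ((SV R V).map ((I.cocomplex.d 0 1).app n)).hom b = 0 →
        ∃ c, ((SV R V).map ((I.ι.f 0).app n)).hom c = b := by
      intro n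
      have e₁ := I.exact₀.map ((evaluation ℕᵒᵖ (SheafOfModules.{u} R)).obj n)
      have : Mono ((I.ι.f 0).app n) :=
        ((evaluation ℕᵒᵖ (SheafOfModules.{u} R)).obj n).map_mono (I.ι.f 0)
      exact (ShortComplex.ab_exact_iff _).1 (e₁.map_of_mono_of_preservesKernel (SV R V) this
        inferInstance)
    refine exists_preimage R E I V (hvan V hV) 0 (E ⋙ SV R V) (hml V hV)
      (Functor.whiskerRight (I.ι.f 0) (SV R V)) (fun n b => ?_) hS x hx
    exact (ConcreteCategory.congr_hom
      (((SV R V).map_comp _ _).symm.trans ((congrArg (SV R V).map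
        (congr_app I.ι_f_zero_comp_complex_d n)).trans ((SV R V).map_zero _ _))) b)

end Groth.Agent.S19243
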