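import Groth.Statements.S19244
import Mathlib.CategoryTheory.Localization.CalculusOfFractions
import Mathlib.CategoryTheory.Abelian.Basic

set_option autoImplicit false
universe v v' u u'
open HomAlg3

namespace Groth.Agent.S19244

open CategoryTheory in
/-- Let A be an abelian category and let P be the class of bounded-torsion objects of A, those X with n
• 𝟙_X = 0 for some nonzero integer n; assume P is a Serre class. Let L : A ⥤ D be an additive
functor to a preadditive category exhibiting D as the localization of A at the morphisms whose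
kernel and cokernel are in P (so D is the quotient category A_ℚ = A ⧸ A_{b-tor}; the source assumes
A well-powered, which guarantees that this quotient exists). Then for all objects X, Y of A: (1) for
every nonzero integer n, multiplication by n is bijective on Hom_D(L X, L Y), so that this group is
naturally a ℚ-vector space; (2) a morphism f : X ⟶ Y satisfies L f = 0 if and only if n • f = 0 for
some nonzero integer n; (3) for every g : L X ⟶ L Y there are a nonzero integer n and f : X ⟶ Y with
n • g = L f. Equivalently, the natural map Hom_A(X, Y) ⊗_ℤ ℚ → Hom_D(L X, L Y) is an isomorphism. -/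
theorem result
    {A : Type u} [Category.{v} A] [Abelian A] {D : Type u'} [Category.{v'} D] [Preadditive D]
    (P : ObjectProperty A) (hP : ∀ X : A, P X ↔ ∃ n : ℤ, n ≠ 0 ∧ n • (𝟙 X) = 0) [P.IsSerreClass]
    (L : A ⥤ D) [L.Additive] [L.IsLocalization P.isoModSerre] (X Y : A) :
    (∀ n : ℤ, n ≠ 0 → Function.Bijective (fun g : L.obj X ⟶ L.obj Y => n • g)) ∧
    (∀ f : X ⟶ Y, L.map f = 0 ↔ ∃ n : ℤ, n ≠ 0 ∧ n • f = 0) ∧
    (∀ g : L.obj X ⟶ L.obj Y, ∃ (n : ℤ) (f : X ⟶ Y), n ≠ 0 ∧ n • g = L.map f) := by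
  classical
  open Limits in
  have hinv : ∀ {X' X : A} (s : X' ⟶ X), P.isoModSerre s → ∃ (n : ℤ) (h : X ⟶ X'), n ≠ 0 ∧ h ≫ s = n • 𝟙 X := by
    intro X' X s hs
    obtain ⟨a, ha0, ha⟩ := (hP _).1 hs.1
    obtain ⟨b, hb0, hb⟩ := (hP _).1 hs.2
    let m := Abelian.image.ι s
    let e := Abelian.factorThruImage s
    have hk : (b • 𝟙 X) ≫ Limits.cokernel.π s = 0 := by
      rw [Preadditive.zsmul_comp, Category.id_comp, ← Category.comp_id (Limits.cokernel.π s), ← Preadditive.comp_zsmul, hb,
        Limits.comp_zero]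
    let k : X ⟶ Abelian.image s := Limits.kernel.lift _ _ hk
    have hkm : k ≫ m = b • 𝟙 X := Limits.kernel.lift_ι _ _ _
    have hj : Limits.kernel.ι e ≫ (a • 𝟙 X') = 0 := by
      have h1 : Limits.kernel.ι s ≫ (a • 𝟙 X') = 0 := by
        rw [Preadditive.comp_zsmul, Category.comp_id, ← Category.id_comp (Limits.kernel.ι s), ← Preadditive.zsmul_comp, ha,
          Limits.zero_comp]
      have h2 : Limits.kernel.ι e = Limits.kernel.lift s (Limits.kernel.ι e)
          ((congrArg (fun t => Limits.kernel.ι e ≫ t) (Abelian.image.fac s).symm).trans (by simp only [e, Limits.kernel.condition_assoc, Limits.zero_comp])) ≫ Limits.kernel.ι s :=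
        (Limits.kernel.lift_ι _ _ _).symm
      rw [h2, Category.assoc, h1, Limits.comp_zero]
    let j : Abelian.image s ⟶ X' := Abelian.epiDesc e (a • 𝟙 X') hj
    have hej : e ≫ j = a • 𝟙 X' := Abelian.comp_epiDesc e _ hj
    have hje : j ≫ e = a • 𝟙 (Abelian.image s) := by
      rw [← cancel_epi e, ← Category.assoc, hej, Preadditive.zsmul_comp, Preadditive.comp_zsmul, Category.id_comp,
        Category.comp_id]
    refine ⟨b * a, k ≫ j, mul_ne_zero hb0 ha0, ?_⟩
    refine (congrArg (fun t => (k ≫ j) ≫ t) (Abelian.image.fac s).symm).trans ?_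
    change (k ≫ j) ≫ e ≫ m = _
    rw [Category.assoc, ← Category.assoc j, hje, Preadditive.zsmul_comp,
      Preadditive.comp_zsmul, Category.id_comp, hkm, ← mul_smul, mul_comm]
  have hmem : ∀ (Z : A) (n : ℤ), n ≠ 0 → P.isoModSerre (n • 𝟙 Z) := by
    intro Z n hn
    refine ⟨(hP _).2 ⟨n, hn, ?_⟩, (hP _).2 ⟨n, hn, ?_⟩⟩
    · rw [← cancel_mono (Limits.kernel.ι (n • 𝟙 Z)), Preadditive.zsmul_comp, Category.id_comp, Limits.zero_comp]
      have := Limits.kernel.condition (n • 𝟙 Z)
      rwa [Preadditive.comp_zsmul, Category.comp_id] at this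
    · rw [← cancel_epi (Limits.cokernel.π (n • 𝟙 Z)), Preadditive.comp_zsmul, Category.comp_id, Limits.comp_zero]
      have := Limits.cokernel.condition (n • 𝟙 Z)
      rwa [Preadditive.zsmul_comp, Category.id_comp] at this
  have hL : ∀ (U V : A) (n : ℤ) (φ : U ⟶ V), L.map (n • φ) = n • L.map φ := fun U V n φ => L.map_zsmul
  refine ⟨fun n hn => ?_, fun f => ?_, fun g => ?_⟩
  · haveI : IsIso (L.map (n • 𝟙 X)) := Localization.inverts L P.isoModSerre _ (hmem X n hn)
    have heq : (fun g : L.obj X ⟶ L.obj Y => n • g) = fun g => L.map (n • 𝟙 X) ≫ g := by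
      funext g
      rw [hL, L.map_id, Preadditive.zsmul_comp, Category.id_comp]
    rw [heq]
    refine Function.bijective_iff_has_inverse.2 ⟨fun g => inv (L.map (n • 𝟙 X)) ≫ g, fun g => ?_, fun g => ?_⟩ <;> simp
  · rw [← L.map_zero, MorphismProperty.map_eq_iff_precomp L P.isoModSerre]
    simp only [Limits.comp_zero]
    constructor
    · rintro ⟨Z, s, hs, hsf⟩
      obtain ⟨n, h, hn, hhs⟩ := hinv s hs
      refine ⟨n, hn, ?_⟩
      rw [← Category.id_comp f, ← Preadditive.zsmul_comp, ← hhs, Category.assoc, hsf, Limits.comp_zero]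
    · rintro ⟨n, hn, hnf⟩
      exact ⟨X, n • 𝟙 X, hmem X n hn, by rw [Preadditive.zsmul_comp, Category.id_comp, hnf]⟩
  · obtain ⟨φ, hφ⟩ := Localization.exists_rightFraction L P.isoModSerre g
    obtain ⟨n, h, hn, hhs⟩ := hinv φ.s φ.hs
    refine ⟨n, h ≫ φ.f, hn, ?_⟩
    haveI : IsIso (L.map φ.s) := Localization.inverts L P.isoModSerre _ φ.hs
    have h1 : L.map h = n • inv (L.map φ.s) := by
      rw [← cancel_mono (L.map φ.s), ← L.map_comp, hhs, hL, L.map_id, Preadditive.zsmul_comp, IsIso.inv_hom_id]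
    have h2 : L.map φ.s ≫ g = L.map φ.f := by
      rw [hφ]
      exact φ.map_s_comp_map L (Localization.inverts L P.isoModSerre)
    rw [L.map_comp, h1, Preadditive.zsmul_comp, ← h2, IsIso.inv_hom_id_assoc]

end Groth.Agent.S19244
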