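import Groth.Statements.S19258
import Mathlib
-- import your own Groth.Agent.* helpers here

set_option autoImplicit false
universe u
open PontDual

namespace Groth.Agent.S19258

lemma exists_finite_ker {G G' : Type u} [AddCommGroup G] [AddCommGroup G']
    (β : G' →+ (G →+ AddCircle (1 : ℚ))) (χ : G →+ AddCircle (1 : ℚ))
    (h : @IsOpen G (⨅ f' : G', TopologicalSpace.induced (fun x : G => β f' x) ⊥) (χ ⁻¹' {0})) :
    ∃ s : Finset G', ∀ x, (∀ f' ∈ s, β f' x = 0) → χ x = 0 := by
  have hn := @IsOpen.mem_nhds G (⨅ f' : G', TopologicalSpace.induced (fun x : G => β f' x) ⊥) _ _ h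
    (map_zero χ : (0 : G) ∈ χ ⁻¹' {0})
  rw [nhds_iInf, Filter.mem_iInf] at hn
  obtain ⟨I, hI, V, hV, heq⟩ := hn
  refine ⟨hI.toFinset, fun x hx => ?_⟩
  show x ∈ χ ⁻¹' {0}
  rw [heq, Set.mem_iInter]
  intro i
  have := hV i
  rw [@nhds_induced _ _ ⊥, Filter.mem_comap] at this
  obtain ⟨U, hU, hsub⟩ := this
  apply hsub
  show β i x ∈ U
  rw [hx i (hI.mem_toFinset.2 i.2)]
  have h0 := @mem_of_mem_nhds _ ⊥ _ _ hU
  simpa using h0


/-- Let G and G' be abelian groups such that every element of G' has finite order, and let β : G' →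
Hom(G, ℚ/ℤ) be an injective homomorphism (equivalently a pairing G' × G → ℚ/ℤ with no left kernel).
Endow G with the weak topology defined by G': the coarsest topology for which every character β(f),
f ∈ G', is continuous when ℚ/ℤ carries the discrete topology. Then every homomorphism χ : G → ℚ/ℤ
that is continuous for this topology on G and the discrete topology on ℚ/ℤ equals β(f) for some f ∈
G', so that β is a bijection from G' onto the group of continuous characters of G. -/
theorem result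
    (G : Type u) (G' : Type u) [AddCommGroup G] [AddCommGroup G'] (hG' : IsAddTorsion G')
    (β : G' →+ (G →+ AddCircle (1 : ℚ))) (hβ : Function.Injective β)
    (χ : G →+ AddCircle (1 : ℚ))
    (hχ : @Continuous G (AddCircle (1 : ℚ)) (⨅ f' : G', TopologicalSpace.induced (fun x : G => β f' x) ⊥) ⊥ χ) :
    ∃ f' : G', β f' = χ := by
  classical
  have hmem : @IsOpen G (⨅ f' : G', TopologicalSpace.induced (fun x : G => β f' x) ⊥) (χ ⁻¹' {0}) :=
    @Continuous.isOpen_preimage _ _ (⨅ f' : G', TopologicalSpace.induced (fun x : G => β f' x) ⊥) ⊥ _ hχ _ trivial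
  obtain ⟨s, hs⟩ := exists_finite_ker β χ hmem
  choose n hn0 hn using fun f' : G' => (isOfFinAddOrder_iff_nsmul_eq_zero.1 (hG' f'))
  let φ : G →+ (s → AddCircle (1 : ℚ)) := AddMonoidHom.pi fun i => β i.1
  have hker : φ.ker ≤ χ.ker := fun x hx => hs x fun f' hf' => congr_fun (hx : φ x = 0) ⟨f', hf'⟩
  obtain ⟨ψ, hψ⟩ := (Module.Baer.of_divisible (AddCircle (1 : ℚ))).extension_property_addMonoidHom
    φ.range.subtype Subtype.val_injective
    ((QuotientAddGroup.lift φ.ker χ hker).comp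
      (QuotientAddGroup.quotientKerEquivRange φ).symm.toAddMonoidHom)
  have hψ' : ∀ x, ψ (φ x) = χ x := by
    intro x
    refine (DFunLike.congr_fun hψ ⟨φ x, x, rfl⟩).trans ?_
    have : (QuotientAddGroup.quotientKerEquivRange φ).symm ⟨φ x, x, rfl⟩ = (x : G ⧸ φ.ker) := by
      rw [AddEquiv.symm_apply_eq]; rfl
    show QuotientAddGroup.lift φ.ker χ hker ((QuotientAddGroup.quotientKerEquivRange φ).symm ⟨φ x, x, rfl⟩) = _
    rw [this]
    rfl
  have htors : ∀ (k : ℕ), 0 < k → ∀ t : AddCircle (1 : ℚ), k • t = 0 →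
      ∃ a : ℤ, t = a • ((1 / k : ℚ) : AddCircle (1 : ℚ)) := by
    intro k hk t ht
    obtain ⟨q, rfl⟩ := QuotientAddGroup.mk_surjective t
    obtain ⟨z, hz⟩ := (AddCircle.coe_eq_zero_iff (1 : ℚ)).1 (show ((k • q : ℚ) : AddCircle (1 : ℚ)) = 0 from ht)
    refine ⟨z, ?_⟩
    rw [← AddCircle.coe_zsmul]
    congr 1
    rw [zsmul_one, nsmul_eq_mul] at hz
    rw [zsmul_eq_mul, hz]
    field_simp
  have hb : ∀ i : s, ∃ b : ℤ, ψ (Pi.single i ((1 / (n i.1) : ℚ) : AddCircle (1 : ℚ))) =
      b • ((1 / (n i.1) : ℚ) : AddCircle (1 : ℚ)) := fun i => htors _ (hn0 _) _ (by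
    rw [← map_nsmul, ← Pi.single_smul', ← AddCircle.coe_nsmul, nsmul_eq_mul,
      mul_one_div, div_self (by exact_mod_cast (hn0 i.1).ne'), AddCircle.coe_period]
    simp)
  choose b hb using hb
  refine ⟨∑ i : s, b i • i.1, AddMonoidHom.ext fun x => ?_⟩
  rw [map_sum, AddMonoidHom.finsetSum_apply, ← hψ' x, ← Finset.univ_sum_single (φ x), map_sum]
  refine Finset.sum_congr rfl fun i _ => ?_
  rw [map_zsmul, AddMonoidHom.zsmul_apply]
  obtain ⟨a, ha⟩ := htors _ (hn0 i.1) (β i.1 x) (by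
    rw [← AddMonoidHom.nsmul_apply, ← map_nsmul, hn, map_zero]; rfl)
  show b i • β i.1 x = ψ (Pi.single i (β i.1 x))
  rw [ha, Pi.single_smul', map_zsmul, hb, smul_comm]

end Groth.Agent.S19258
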