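import Groth.Statements.S19264
import Groth.Agent.WittFil.Fil

set_option autoImplicit false
universe u
open WittFil
open Groth.Agent.WittFil

namespace Groth.Agent.S19264

/-- Let A be a unique factorisation domain of characteristic p, x_1, …, x_r pairwise non-associate prime
elements of A, B = A[1/(x_1⋯x_r)] with u_i the unit of B defined by x_i, n ∈ ℤ^r and m ≥ 0. The
restriction map from truncated p-typical Witt vectors of length m+1 to those of length m over B
(forgetting the last coordinate) maps the filtered piece cut out by ∏ u_i ^ n_i onto the filtered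
piece cut out by ∏ u_i ^ ⌊n_i / p⌋; that is, the image is exactly that piece. (The other parts of
the exact sequence, injectivity of the (m-fold) Verschiebung from the fractional ideal generated by
(∏ u_i ^ n_i)⁻¹ and exactness in the middle, are immediate from the definition and are not restated.
The published setting is a regular local ring; only unique factorisation is used.) -/
theorem result (p : ℕ) [Fact p.Prime] {A B : Type u} [CommRing A] [IsDomain A]
    [UniqueFactorizationMonoid A] [CharP A p] [CommRing B] [Algebra A B] {r : ℕ} (x : Fin r → A)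
    (hx : ∀ i, Prime (x i)) (hxa : ∀ i j, Associated (x i) (x j) → i = j)
    [IsLocalization.Away (∏ i, x i) B] (u : Fin r → Bˣ)
    (hu : ∀ i, (u i : B) = algebraMap A B (x i)) (n : Fin r → ℤ) (m : ℕ) :
    (TruncatedWittVector.truncate (Nat.le_succ m)) '' WittFil.fil p (m + 1) (A := A) (WittFil.zmon u n) =
      WittFil.fil p m (A := A) (WittFil.zmon u (fun i => n i / (p : ℤ))) := by
  haveI : CharP B p := Fil.charP hx
  have hp : (p : ℤ) ≠ 0 := by exact_mod_cast (Fact.out : p.Prime).ne_zero
  set e : Fin r → ℕ := fun i => (n i % (p : ℤ)).toNat with he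
  have hen : ∀ i, ((e i : ℕ) : ℤ) = n i % (p : ℤ) := fun i =>
    Int.toNat_of_nonneg (Int.emod_nonneg _ hp)
  have hep : ∀ i, e i < p := fun i => by
    have := Int.emod_lt_of_pos (n i) (b := (p : ℤ)) (by exact_mod_cast (Fact.out : p.Prime).pos)
    have := hen i
    omega
  have hc : zmon u n =
      zmon u (fun i => n i / (p : ℤ)) ^ p * algebraMap A B (∏ i, x i ^ e i) := by
    rw [← Fil.zmon_natMul, ← Fil.zmon_natCast u hu e, ← Fil.zmon_add]
    refine congrArg _ (funext fun i => ?_)
    rw [Pi.add_apply, hen i, Int.mul_ediv_add_emod]
  ext a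
  constructor
  · rintro ⟨y, hy, rfl⟩
    obtain ⟨z, rfl⟩ := WittVector.truncate_surjective p (m + 1) B y
    rw [TruncatedWittVector.truncate_wittVector_truncate, Fil.mem_fil_truncate]
    rw [Fil.mem_fil_truncate] at hy
    intro j hj
    refine Fil.root hx hxa _ p e hep ?_ (Fact.out : p.Prime).pos
    have := hy j (by omega)
    rwa [hc, show m + 1 - 1 - j = m - 1 - j + 1 by omega, pow_succ, pow_mul, ← mul_assoc,
      ← mul_pow] at this
  · intro ha
    obtain ⟨z, rfl⟩ := WittVector.truncate_surjective p m B a
    rw [Fil.mem_fil_truncate] at ha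
    refine ⟨WittVector.truncate (m + 1) (WittVector.mk p fun j => if j < m then z.coeff j else 0),
      ?_, ?_⟩
    · rw [Fil.mem_fil_truncate]
      intro j hj
      rw [WittVector.coeff_mk]
      split_ifs with hjm
      · rw [hc, show m + 1 - 1 - j = m - 1 - j + 1 by omega, pow_succ, pow_mul, ← mul_assoc,
          ← mul_pow]
        exact Subring.mul_mem _ (pow_mem (ha j hjm) _) ⟨_, rfl⟩
      · rw [zero_pow (pow_ne_zero _ (Fact.out : p.Prime).ne_zero), zero_mul]
        exact Subring.zero_mem _
    · rw [TruncatedWittVector.truncate_wittVector_truncate]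
      refine TruncatedWittVector.ext fun j => ?_
      rw [WittVector.coeff_truncate, WittVector.coeff_truncate, WittVector.coeff_mk, if_pos j.2]

end Groth.Agent.S19264
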