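import Groth.Statements.S19268
import Groth.Agent.WittFil.Fil
import Mathlib.RingTheory.WittVector.Identities
import Mathlib.RingTheory.PowerSeries.NoZeroDivisors

set_option autoImplicit false
universe u
open WittFil
open Groth.Agent.WittFil

namespace Groth.Agent.S19268

/-- Let S be an integral domain of characteristic p, A = S[[π]] the power series ring, B = A[1/π] with u
the unit of B given by π, and let m > s ≥ 0 and i be an integer with s = 0 or p ∤ i; put n = p ^
(m−1−s) · i. For e in B write fil(e) for the set of truncated p-typical Witt vectors of length m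
over B whose j-th coordinate y_j satisfies y_j ^ (p ^ (m−1−j)) · e ∈ A for all j, and for a Witt
vector c over S let Φ(c) ∈ W_m(B) be the length-m truncation of V^s(c · [u ^ i]) (V the
Verschiebung, [ ] the Teichmüller map, c mapped to B). Then Φ induces a bijection from the
length-(m−s) truncated Witt vectors of S onto the graded piece fil(u^(−n)) / fil(u^(−n−1)): (1) Φ(c)
lies in fil(u^(−n)) for every c; (2) Φ(c) lies in fil(u^(−n−1)) exactly when the length-(m−s)
truncation of c is zero; (3) every element of fil(u^(−n)) is congruent to some Φ(c) modulo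
fil(u^(−n−1)). (Published for S a regular local Noetherian F-finite F_p-algebra; the argument uses
only that S is a domain.) -/
theorem result (p : ℕ) [Fact p.Prime] {S B : Type u} [CommRing S]
    [IsDomain S] [CharP S p] [CommRing B] [Algebra (PowerSeries S) B] [Algebra S B]
    [IsScalarTower S (PowerSeries S) B] [IsLocalization.Away (PowerSeries.X : PowerSeries S) B]
    (u : Bˣ) (hu : (u : B) = algebraMap (PowerSeries S) B PowerSeries.X) (m s : ℕ) (hs : s < m)
    (i : ℤ) (hsi : s = 0 ∨ ¬ ((p : ℤ) ∣ i)) :
    (∀ c : WittVector p S,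
        WittFil.vShiftTeich p m s ((u ^ i : Bˣ) : B) c ∈
          WittFil.fil p m (A := PowerSeries S) ((u ^ (-((p : ℤ) ^ (m - 1 - s) * i)) : Bˣ) : B)) ∧
      (∀ c : WittVector p S,
        WittFil.vShiftTeich p m s ((u ^ i : Bˣ) : B) c ∈
            WittFil.fil p m (A := PowerSeries S) ((u ^ (-((p : ℤ) ^ (m - 1 - s) * i) - 1) : Bˣ) : B) ↔
          WittVector.truncate (m - s) c = 0) ∧
      (∀ y ∈ WittFil.fil p m (A := PowerSeries S) ((u ^ (-((p : ℤ) ^ (m - 1 - s) * i)) : Bˣ) : B),
        ∃ c : WittVector p S,
          y - WittFil.vShiftTeich p m s ((u ^ i : Bˣ) : B) c ∈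
            WittFil.fil p m (A := PowerSeries S)
              ((u ^ (-((p : ℤ) ^ (m - 1 - s) * i) - 1) : Bˣ) : B)) := by
  have hX : Prime (PowerSeries.X : PowerSeries S) := PowerSeries.X_prime
  have hinj := Fil.algebraMap_injective_one (B := B) hX
  haveI : CharP (PowerSeries S) p :=
    charP_of_injective_ringHom (f := PowerSeries.C (R := S)) PowerSeries.C_injective p
  haveI : CharP B p := charP_of_injective_algebraMap hinj p
  have hp := (Fact.out : p.Prime)
  set n : ℤ := (p : ℤ) ^ (m - 1 - s) * i with hn
  have hroot : ∀ (z : B) (k : ℕ), 0 < k → z ^ k ∈ (algebraMap (PowerSeries S) B).range →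
      z ∈ (algebraMap (PowerSeries S) B).range := fun z k hk hz =>
    Fil.root_one hX z k 0 hk (by simpa using hz)
  have hval : ∀ (k : ℕ) (c : S), (algebraMap S B c) ^ k =
      algebraMap (PowerSeries S) B (PowerSeries.C (c ^ k)) := by
    intro k c
    rw [IsScalarTower.algebraMap_apply S (PowerSeries S) B, ← map_pow, ← map_pow]
    rfl
  have hΦ : ∀ (c : WittVector p S) (j : ℕ),
      (((WittVector.verschiebung)^[s] (WittVector.map (algebraMap S B) c *
        WittVector.teichmuller p ((u ^ i : Bˣ) : B))).coeff j) =
        if s ≤ j then algebraMap S B (c.coeff (j - s)) * ((u ^ i : Bˣ) : B) ^ p ^ (j - s) else 0 := by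
    intro c j
    split_ifs with hsj
    · obtain ⟨k, rfl⟩ := Nat.exists_eq_add_of_le' hsj
      rw [WittVector.iterate_verschiebung_coeff, Nat.add_sub_cancel, mul_comm,
        Teich.teichmuller_mul_coeff, WittVector.map_coeff, mul_comm]
    · exact WittVector.iterate_verschiebung_coeff_eq_zero _ (by omega)
  have hpow : ∀ (c : S) (j : ℕ), s ≤ j → j < m →
      (algebraMap S B c * ((u ^ i : Bˣ) : B) ^ p ^ (j - s)) ^ p ^ (m - 1 - j) *
        ((u ^ (-n) : Bˣ) : B) = algebraMap (PowerSeries S) B (PowerSeries.C (c ^ p ^ (m - 1 - j))) := by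
    intro c j hsj hjm
    rw [mul_pow, ← pow_mul, ← pow_add, show j - s + (m - 1 - j) = m - 1 - s by omega, mul_assoc,
      ← Units.val_pow_eq_pow_val, ← Units.val_mul, ← zpow_natCast, ← zpow_mul, ← zpow_add, hn]
    push_cast
    rw [mul_comm i, add_neg_cancel, zpow_zero, Units.val_one, mul_one, hval]
  have hone : ∀ c : WittVector p S, WittFil.vShiftTeich p m s ((u ^ i : Bˣ) : B) c ∈
      WittFil.fil p m (A := PowerSeries S) ((u ^ (-n) : Bˣ) : B) := by
    intro c
    rw [WittFil.vShiftTeich, Fil.mem_fil_truncate]
    intro j hj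
    rw [hΦ]
    split_ifs with hsj
    · exact ⟨_, (hpow _ j hsj hj).symm⟩
    · rw [zero_pow (pow_ne_zero _ hp.ne_zero), zero_mul]
      exact Subring.zero_mem _
  have hnext : ((u ^ (-n - 1) : Bˣ) : B) * algebraMap (PowerSeries S) B PowerSeries.X =
      ((u ^ (-n) : Bˣ) : B) := by
    rw [← hu, ← Units.val_mul, zpow_sub_one, inv_mul_cancel_right]
  refine ⟨hone, fun c => ⟨fun h => ?_, fun h => ?_⟩, fun y hy => ?_⟩
  · rw [WittFil.vShiftTeich, Fil.mem_fil_truncate] at h
    refine TruncatedWittVector.ext fun j => ?_
    rw [WittVector.coeff_truncate, TruncatedWittVector.coeff_zero]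
    have hj := j.2
    have h1 := h (j + s) (by omega)
    rw [hΦ, if_pos (Nat.le_add_left _ _)] at h1
    obtain ⟨f, hf⟩ := h1
    have h2 := congrArg (· * algebraMap (PowerSeries S) B PowerSeries.X) hf
    simp only [mul_assoc] at h2
    rw [hnext, hpow _ _ (Nat.le_add_left _ _) (by omega), ← map_mul, Nat.add_sub_cancel] at h2
    have h3 := congrArg PowerSeries.constantCoeff (hinj h2)
    simp only [map_mul, PowerSeries.constantCoeff_X, mul_zero, PowerSeries.constantCoeff_C] at h3
    exact eq_zero_of_pow_eq_zero h3.symm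
  · rw [WittFil.vShiftTeich, Fil.mem_fil_truncate]
    intro j hj
    rw [hΦ]
    split_ifs with hsj
    · have hc := congrArg (TruncatedWittVector.coeff (⟨j - s, by omega⟩ : Fin (m - s))) h
      rw [WittVector.coeff_truncate, TruncatedWittVector.coeff_zero] at hc
      simp only at hc
      rw [hc, map_zero, zero_mul, zero_pow (pow_ne_zero _ hp.ne_zero), zero_mul]
      exact Subring.zero_mem _
    · rw [zero_pow (pow_ne_zero _ hp.ne_zero), zero_mul]
      exact Subring.zero_mem _
  · obtain ⟨z, rfl⟩ := WittVector.truncate_surjective p m B y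
    have hz := (Fil.mem_fil_truncate m _ z).1 hy
    choose f hf using hz
    -- below `s` the constant term vanishes
    have hlow : ∀ j (hj : j < m), j < s → PowerSeries.constantCoeff (f j hj) = 0 := by
      intro j hj hjs
      have hpi : ¬ (p : ℤ) ∣ i := hsi.resolve_left (by omega)
      set Q : ℤ := (p : ℤ) ^ (m - 1 - j) with hQ
      have hQpos : (0 : ℤ) < Q := pow_pos (by exact_mod_cast hp.pos) _
      have hnd : ¬ Q ∣ -n := by
        rw [dvd_neg, hQ, hn, show m - 1 - j = (m - 1 - s) + (s - j) by omega, pow_add]
        intro hd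
        have := (mul_dvd_mul_iff_left (pow_ne_zero _ (by exact_mod_cast hp.ne_zero))).1 hd
        exact hpi ((dvd_pow_self _ (by omega)).trans this)
      set e : ℕ := ((-n) % Q).toNat with he
      have hen : (e : ℤ) = (-n) % Q := Int.toNat_of_nonneg (Int.emod_nonneg _ hQpos.ne')
      have he0 : 0 < e := by
        have : (-n) % Q ≠ 0 := fun h => hnd (Int.dvd_of_emod_eq_zero h)
        omega
      have heQ : e < p ^ (m - 1 - j) := by
        have := Int.emod_lt_of_pos (-n) hQpos
        have h2 : ((e : ℕ) : ℤ) < ((p ^ (m - 1 - j) : ℕ) : ℤ) := by push_cast; omega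
        exact_mod_cast h2
      set d : Bˣ := u ^ ((-n) / Q) with hd'
      have hsplit : ((u ^ (-n) : Bˣ) : B) =
          (d : B) ^ p ^ (m - 1 - j) * algebraMap (PowerSeries S) B (PowerSeries.X ^ e) := by
        conv_lhs => rw [← Int.mul_ediv_add_emod (-n) Q, ← hen, mul_comm Q]
        rw [zpow_add, Units.val_mul, zpow_mul, ← hd', hQ, ← Nat.cast_pow, zpow_natCast,
          zpow_natCast, Units.val_pow_eq_pow_val, Units.val_pow_eq_pow_val, hu, map_pow]
      have h1 := hf j hj
      rw [hsplit, ← mul_assoc, ← mul_pow] at h1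
      obtain ⟨w, hw⟩ := Fil.root_one hX _ _ e heQ ⟨_, h1⟩
      rw [← hw, ← map_pow, ← map_mul] at h1
      rw [hinj h1, map_mul, map_pow PowerSeries.constantCoeff PowerSeries.X,
        PowerSeries.constantCoeff_X, zero_pow he0.ne', mul_zero]
    -- from `s` on, a root
    have hhigh : ∀ j, s ≤ j → ∀ hj : j < m, ∃ w : PowerSeries S,
        f j hj = w ^ p ^ (m - 1 - j) := by
      intro j hsj hj
      set d : B := ((u ^ (-((p : ℤ) ^ (j - s) * i)) : Bˣ) : B) with hd
      have hsplit : ((u ^ (-n) : Bˣ) : B) = d ^ p ^ (m - 1 - j) := by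
        rw [hd, ← Units.val_pow_eq_pow_val, ← zpow_natCast, ← zpow_mul, hn,
          show m - 1 - s = j - s + (m - 1 - j) by omega, pow_add]
        push_cast
        congr 2
        ring
      have h1 := hf j hj
      rw [hsplit, ← mul_pow] at h1
      obtain ⟨w, hw⟩ := hroot _ _ (pow_pos hp.pos _) ⟨_, h1⟩
      rw [← hw, ← map_pow] at h1
      exact ⟨w, hinj h1⟩
    choose w hw using hhigh
    refine ⟨WittVector.mk p fun k => if hk : k + s < m then
      PowerSeries.constantCoeff (w (k + s) (Nat.le_add_left _ _) hk) else 0, ?_⟩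
    set c : WittVector p S := WittVector.mk p fun k => if hk : k + s < m then
      PowerSeries.constantCoeff (w (k + s) (Nat.le_add_left _ _) hk) else 0 with hc
    set v := (WittVector.verschiebung)^[s] (WittVector.map (algebraMap S B) c *
        WittVector.teichmuller p ((u ^ i : Bˣ) : B)) with hv
    have hdiff := Fil.sub_mem hroot hy (hone c)
    rw [WittFil.vShiftTeich, ← hv, ← map_sub, Fil.mem_fil_truncate] at hdiff
    rw [WittFil.vShiftTeich, ← hv, ← map_sub, Fil.mem_fil_truncate]
    choose g hg using hdiff
    -- lift the two twists to the power series and compare constant terms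
    set F : WittVector p (PowerSeries S) := WittVector.mk p fun j =>
      if hj : j < m then f j hj ^ p ^ j else 0 with hF
    set C' : WittVector p (PowerSeries S) := WittVector.mk p fun j =>
      if hj : j < m then
        (if s ≤ j then PowerSeries.C ((c.coeff (j - s)) ^ p ^ (m - 1 - j)) else 0) ^ p ^ j
      else 0 with hC'
    have hFt : WittVector.truncate m (WittVector.map (algebraMap (PowerSeries S) B) F) =
        WittVector.truncate m (Fil.twist m ((u ^ (-n) : Bˣ) : B) z) := by
      refine TruncatedWittVector.ext fun j => ?_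
      rw [WittVector.coeff_truncate, WittVector.coeff_truncate, WittVector.map_coeff,
        Fil.twist_coeff _ _ _ j.2, hF, WittVector.coeff_mk, dif_pos j.2, map_pow, hf j j.2]
    have hCt : WittVector.truncate m (WittVector.map (algebraMap (PowerSeries S) B) C') =
        WittVector.truncate m (Fil.twist m ((u ^ (-n) : Bˣ) : B) v) := by
      refine TruncatedWittVector.ext fun j => ?_
      rw [WittVector.coeff_truncate, WittVector.coeff_truncate, WittVector.map_coeff,
        Fil.twist_coeff _ _ _ j.2, hC', WittVector.coeff_mk, dif_pos j.2, map_pow, hv, hΦ]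
      split_ifs with hsj
      · rw [hpow _ _ hsj j.2]
      · simp [zero_pow (pow_ne_zero _ hp.ne_zero)]
    have h0 : WittVector.truncate m (WittVector.map PowerSeries.constantCoeff (F - C')) = 0 := by
      rw [map_sub, map_sub, sub_eq_zero]
      refine TruncatedWittVector.ext fun j => ?_
      rw [WittVector.coeff_truncate, WittVector.coeff_truncate, WittVector.map_coeff,
        WittVector.map_coeff, hF, hC', WittVector.coeff_mk, WittVector.coeff_mk, dif_pos j.2,
        dif_pos j.2, map_pow, map_pow]
      split_ifs with hsj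
      · rw [hw _ hsj j.2, map_pow, PowerSeries.constantCoeff_C, hc, WittVector.coeff_mk,
          dif_pos (by have := j.2; omega)]
        congr 5; omega
      · rw [hlow _ j.2 (by omega), map_zero]
    intro j hj
    have h1 : (F - C').coeff j = g j hj ^ p ^ j := by
      apply hinj
      rw [map_pow, hg j hj]
      have := congrArg (TruncatedWittVector.coeff (⟨j, hj⟩ : Fin m))
        (show WittVector.truncate m (WittVector.map (algebraMap (PowerSeries S) B) (F - C')) =
          WittVector.truncate m (Fil.twist m ((u ^ (-n) : Bˣ) : B) (z - v)) by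
          rw [map_sub, map_sub, hFt, hCt, Fil.twist_sub, map_sub])
      rwa [WittVector.coeff_truncate, WittVector.coeff_truncate, WittVector.map_coeff,
        Fil.twist_coeff _ _ _ hj] at this
    have h2 := congrArg (TruncatedWittVector.coeff (⟨j, hj⟩ : Fin m)) h0
    rw [WittVector.coeff_truncate, TruncatedWittVector.coeff_zero, WittVector.map_coeff] at h2
    simp only [h1, map_pow] at h2
    obtain ⟨g', hg'⟩ := PowerSeries.X_dvd_iff.2 (eq_zero_of_pow_eq_zero h2)
    refine ⟨g', ?_⟩
    have := hg j hj
    rw [hg', map_mul, ← hnext, ← mul_assoc, mul_comm] at this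
    have hunit : IsUnit (algebraMap (PowerSeries S) B PowerSeries.X) := hu ▸ u.isUnit
    exact hunit.mul_right_cancel this

end Groth.Agent.S19268
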