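import Mathlib
import Groth.Statements.S19269
-- import your own Groth.Agent.* helpers here

set_option autoImplicit false
universe u
open CAlg

namespace Groth.Agent.S19269

open IsLocalRing in
/-- Let R be a Noetherian local ring with maximal ideal 𝔪, M a finitely generated R-module and M^ its
𝔪-adic completion, a module over the 𝔪-adic completion R^ of R. Let N' be an R^-submodule of M^ and
N an R-submodule of M whose image in M^ is contained in N' and is dense in N' for the 𝔪-adic
topology, in the sense that for every y in N' and every k there is x in N with y ≡ x modulo the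
kernel of M^ → M/𝔪^k M. Then N' equals the image of the completion of N under the map induced by the
inclusion N → M (so N' is the completion of N), and N is the set of elements of M whose image in M^
lies in N'. -/
theorem result {R : Type u} [CommRing R]
    [IsNoetherianRing R] [IsLocalRing R] {M : Type u} [AddCommGroup M] [Module R M]
    [Module.Finite R M] (N : Submodule R M)
    (N' : Submodule (AdicCompletion (maximalIdeal R) R) (AdicCompletion (maximalIdeal R) M))
    (hle : ∀ x ∈ N, AdicCompletion.of (maximalIdeal R) M x ∈ N')
    (hdense : ∀ y ∈ N', ∀ k : ℕ, ∃ x ∈ N,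
      AdicCompletion.eval (maximalIdeal R) M k y = Submodule.Quotient.mk x) :
    (N'.restrictScalars R =
        (LinearMap.range (AdicCompletion.map (maximalIdeal R) N.subtype)).restrictScalars R) ∧
      (∀ x : M, x ∈ N ↔ AdicCompletion.of (maximalIdeal R) M x ∈ N') := by
  have hH : ∀ x : M, (∀ n, x ∈ N ⊔ ((maximalIdeal R) ^ n • ⊤ : Submodule R M)) → x ∈ N := by
    intro x hx
    rw [← Submodule.Quotient.mk_eq_zero]
    refine IsHausdorff.haus (I := (maximalIdeal R)) inferInstance _ fun n => SModEq.zero.mpr ?_
    obtain ⟨a, ha, b, hb, rfl⟩ := Submodule.mem_sup.mp (hx n)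
    rw [Submodule.Quotient.mk_add, (Submodule.Quotient.mk_eq_zero N).mpr ha, zero_add]
    exact SetLike.le_def.1 (le_of_eq_of_le (Submodule.map_smul'' ((maximalIdeal R) ^ n) ⊤ N.mkQ)
      (smul_mono_right _ le_top)) (Submodule.mem_map_of_mem hb)
  constructor
  · apply le_antisymm
    · intro y hy
      choose x hxN hx using hdense y hy
      obtain ⟨c, hc⟩ := (maximalIdeal R).exists_pow_inf_eq_pow_smul N
      let z : ℕ → N := fun k => ⟨x (k + c), hxN _⟩
      have hxmod : ∀ {i j : ℕ}, i ≤ j → x j - x i ∈ ((maximalIdeal R) ^ i • ⊤ : Submodule R M) := by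
        intro i j hij
        rw [← Submodule.Quotient.eq, ← hx i, AdicCompletion.eval_apply, ← y.2 hij,
          ← AdicCompletion.eval_apply, hx j]
        rfl
      have hz : AdicCompletion.IsAdicCauchy (maximalIdeal R) N z := by
        intro i j hij
        rw [SModEq.sub_mem, ← neg_sub]
        refine Submodule.neg_mem _ ((Submodule.mem_smul_top_iff _ _ _).mpr ?_)
        have h1 : x (j + c) - x (i + c) ∈ (maximalIdeal R) ^ (i + c) • ⊤ ⊓ N :=
          ⟨hxmod (by omega), N.sub_mem (hxN _) (hxN _)⟩
        rw [hc _ (Nat.le_add_left c i), Nat.add_sub_cancel] at h1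
        exact SetLike.le_def.1 (smul_mono_right _ inf_le_right) h1
      refine ⟨AdicCompletion.mk (maximalIdeal R) N ⟨z, hz⟩, AdicCompletion.ext fun n => ?_⟩
      rw [AdicCompletion.map_val_apply]
      show Submodule.Quotient.mk (x (n + c)) = y.val n
      rw [← AdicCompletion.eval_apply, hx n, Submodule.Quotient.eq]
      exact hxmod (by omega)
    · rintro _ ⟨w, rfl⟩
      obtain ⟨t, rfl⟩ := AdicCompletion.ofTensorProduct_surjective_of_finite (maximalIdeal R) N w
      rw [Submodule.restrictScalars_mem]
      induction t using TensorProduct.induction_on with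
      | zero => simp
      | add a b ha hb => rw [map_add, map_add]; exact add_mem ha hb
      | tmul r x =>
        rw [AdicCompletion.ofTensorProduct_tmul, map_smul, AdicCompletion.map_of]
        exact N'.smul_mem r (hle _ x.2)
  · intro x
    refine ⟨hle x, fun h => hH x fun n => ?_⟩
    obtain ⟨a, ha, hax⟩ := hdense _ h n
    rw [AdicCompletion.eval_of, Submodule.mkQ_apply, Submodule.Quotient.eq] at hax
    exact Submodule.mem_sup.mpr ⟨a, ha, x - a, hax, add_sub_cancel _ _⟩

end Groth.Agent.S19269
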