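import Mathlib
import Groth.Agent.CAlg48.PrimeField
import Groth.Agent.RegLoc.Basic
import Groth.Statements.S19270
-- import your own Groth.Agent.* helpers here

set_option autoImplicit false
universe u
open CAlg

namespace Groth.Agent.S19270

open IsLocalRing in
/-- Let A be a regular local ring of prime characteristic p, of Krull dimension N, with maximal ideal
generated by x_1, …, x_N, and assume that the module Ω_A of absolute Kähler differentials of A
(differentials relative to ℤ, equivalently relative to the prime field) is a free A-module of finite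
rank. Then dx_1, …, dx_N are part of a basis of Ω_A: there exist a basis b of Ω_A and an injection e
of the indices 1, …, N into the index type of b with b (e i) = d(x_i) for all i. (In the published
statement A is a regular local F-finite algebra over the prime field and the freeness and finiteness
of Ω_A form the first assertion, taken there from the literature; here they are hypotheses.) -/
theorem result (p : ℕ) [Fact p.Prime]
    {A : Type u} [CommRing A] [IsRegularLocalRing A] [CharP A p]
    [Module.Free A (KaehlerDifferential ℤ A)] [Module.Finite A (KaehlerDifferential ℤ A)]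
    {N : ℕ} (x : Fin N → A) (hx : Ideal.span (Set.range x) = maximalIdeal A)
    (hN : ringKrullDim A = (N : WithBot ℕ∞)) :
    ∃ (ι : Type u) (b : Module.Basis ι A (KaehlerDifferential ℤ A)) (e : Fin N ↪ ι),
      ∀ i : Fin N, b (e i) = KaehlerDifferential.D ℤ A (x i) := by
  classical
  have hpk : CharP (ResidueField A) p := by
    rw [CharP.charP_iff_prime_eq_zero (Fact.out : p.Prime), ← map_natCast (residue A), CharP.cast_eq_zero A p, map_zero]
  have hsq_le : maximalIdeal A ^ 2 ≤ maximalIdeal A := Ideal.pow_le_self two_ne_zero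
  have hpQ : CharP (A ⧸ maximalIdeal A ^ 2) p := by
    have : Nontrivial (A ⧸ maximalIdeal A ^ 2) := Ideal.Quotient.nontrivial_iff.mpr
      fun h => (maximalIdeal.isMaximal A).ne_top (top_le_iff.mp (h ▸ hsq_le))
    rw [CharP.charP_iff_prime_eq_zero (Fact.out : p.Prime),
      ← map_natCast (Ideal.Quotient.mk (maximalIdeal A ^ 2)), CharP.cast_eq_zero A p, map_zero]
  let : Algebra (ZMod p) (ResidueField A) := ZMod.algebra _ p
  let : Algebra (ZMod p) (A ⧸ maximalIdeal A ^ 2) := ZMod.algebra _ p
  have hfs : Algebra.FormallySmooth (ZMod p) (ResidueField A) :=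
    CAlg48.PrimeField.formallySmooth_of_surjective (fun x => by
      obtain ⟨z, rfl⟩ := ZMod.intCast_surjective x; exact ⟨z, rfl⟩) _
  let q : (A ⧸ maximalIdeal A ^ 2) →+* ResidueField A := Ideal.Quotient.factor hsq_le
  let q' : (A ⧸ maximalIdeal A ^ 2) →ₐ[ZMod p] ResidueField A :=
    { q with
      commutes' := fun r =>
        RingHom.congr_fun
          (Subsingleton.elim (q.comp (algebraMap (ZMod p) (A ⧸ maximalIdeal A ^ 2))) (algebraMap (ZMod p) (ResidueField A))) r }
  have hq'surj : Function.Surjective q' := Ideal.Quotient.factor_surjective hsq_le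
  have hker : IsNilpotent (RingHom.ker q'.toRingHom) := by
    refine ⟨2, ?_⟩
    have : RingHom.ker q'.toRingHom = (maximalIdeal A).map (Ideal.Quotient.mk (maximalIdeal A ^ 2)) :=
      Ideal.Quotient.factor_ker hsq_le
    rw [this, ← Ideal.map_pow, Ideal.map_quotient_self]
    rfl
  let s := Algebra.FormallySmooth.liftOfSurjective (AlgHom.id (ZMod p) (ResidueField A)) q' hq'surj hker
  have hs : ∀ x, q' (s x) = x := fun x =>
    Algebra.FormallySmooth.liftOfSurjective_apply (AlgHom.id (ZMod p) (ResidueField A)) q' hq'surj hker x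
  set π := Ideal.Quotient.mk (maximalIdeal A ^ 2) with hπ
  let K' : Submodule A (A ⧸ maximalIdeal A ^ 2) := ((maximalIdeal A).map π).restrictScalars A
  have hmemK : ∀ a, π a - s (residue A a) ∈ K' := fun a => by
    show π a - s (residue A a) ∈ (maximalIdeal A).map π
    rw [hπ, ← Ideal.Quotient.factor_ker hsq_le, RingHom.mem_ker]
    show q' (π a - s (residue A a)) = 0
    rw [map_sub, hs, sub_eq_zero]
    rfl
  have hKK : ∀ u v : A ⧸ maximalIdeal A ^ 2, u ∈ K' → v ∈ K' → u * v = 0 := by
    intro u v hu hv
    have := Ideal.mul_mem_mul hu hv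
    rwa [← pow_two, ← Ideal.map_pow, Ideal.map_quotient_self, Ideal.mem_bot] at this
  let δ : A →+ K' :=
    { toFun := fun a => ⟨π a - s (residue A a), hmemK a⟩
      map_zero' := by ext; simp
      map_add' := fun a b => by
        ext; simp only [map_add, Submodule.coe_add]; abel }
  have hsmul : ∀ (a : A) (u : A ⧸ maximalIdeal A ^ 2), a • u = π a * u := fun a u => Algebra.smul_def a u
  let D : Derivation ℤ A K' := Derivation.mk' δ.toIntLinearMap fun a b => Subtype.ext (by
    show π (a * b) - s (residue A (a * b)) =
      a • (π b - s (residue A b)) + b • (π a - s (residue A a))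
    rw [hsmul, hsmul, map_mul, map_mul, map_mul]
    linear_combination -(hKK _ _ (hmemK a) (hmemK b)))
  let L : KaehlerDifferential ℤ A →ₗ[A] K' := D.liftKaehlerDifferential
  have hxm : ∀ i, x i ∈ maximalIdeal A := fun i => hx ▸ Ideal.subset_span ⟨i, rfl⟩
  have hL : ∀ i, (L (KaehlerDifferential.D ℤ A (x i)) : A ⧸ maximalIdeal A ^ 2) = π (x i) := fun i => by
    rw [show L (KaehlerDifferential.D ℤ A (x i)) = D (x i) from D.liftKaehlerDifferential_comp_D _]
    show π (x i) - s (residue A (x i)) = _
    rw [(residue_eq_zero_iff _).mpr (hxm i), map_zero, sub_zero]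
  have hLI : LinearIndependent (ResidueField A)
      (fun i => (maximalIdeal A).toCotangent ⟨x i, hxm i⟩) := by
    refine linearIndependent_of_top_le_span_of_card_eq_finrank ?_ ?_
    · intro y _
      obtain ⟨⟨a, ha⟩, rfl⟩ := (maximalIdeal A).toCotangent_surjective y
      obtain ⟨c, hc⟩ := (Ideal.mem_span_range_iff_exists_fun).mp (hx.symm ▸ ha)
      have : (⟨a, ha⟩ : maximalIdeal A) = ∑ i, c i • ⟨x i, hxm i⟩ := Subtype.ext (by simp [← hc])
      rw [this, map_sum]
      refine sum_mem fun i _ => ?_
      rw [map_smul, ← algebraMap_smul (ResidueField A) (c i)]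
      exact Submodule.smul_mem _ _ (Submodule.subset_span ⟨i, rfl⟩)
    · rw [Fintype.card_fin, ← spanFinrank_maximalIdeal_eq_finrank_cotangentSpace,
        RegLoc.spanFinrank_eq_dim hN]
  have hindep : LinearIndependent (ResidueField A)
      (fun i => TensorProduct.mk A (ResidueField A) (KaehlerDifferential ℤ A) 1 (KaehlerDifferential.D ℤ A (x i))) := by
    rw [Fintype.linearIndependent_iff]
    intro d hd
    choose c hc using fun i => residue_surjective (d i)
    have h0 : TensorProduct.mk A (ResidueField A) (KaehlerDifferential ℤ A) 1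
        (∑ i, c i • KaehlerDifferential.D ℤ A (x i)) = 0 := by
      rw [map_sum, ← hd]
      refine Finset.sum_congr rfl fun i _ => ?_
      rw [map_smul, ← hc i]
      exact (algebraMap_smul (ResidueField A) (c i) _).symm
    have h1 : ∑ i, c i • KaehlerDifferential.D ℤ A (x i) ∈
        (maximalIdeal A • ⊤ : Submodule A (KaehlerDifferential ℤ A)) := by
      rw [← LinearMap.ker_tensorProductMk]
      exact h0
    have h2 : L (∑ i, c i • KaehlerDifferential.D ℤ A (x i)) = 0 := by
      refine Submodule.smul_induction_on h1 (fun a ha w _ => ?_) fun u v hu hv => by rw [map_add, hu, hv, add_zero]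
      rw [map_smul]
      refine Subtype.ext ?_
      rw [Submodule.coe_smul, hsmul]
      exact hKK _ _ (Ideal.mem_map_of_mem π ha) (L w).2
    have h3 : π (∑ i, c i * x i) = 0 := by
      rw [map_sum, ← show ((0 : K') : A ⧸ maximalIdeal A ^ 2) = 0 from rfl, ← h2, map_sum,
        Submodule.coe_sum]
      refine Finset.sum_congr rfl fun i _ => ?_
      rw [map_smul, Submodule.coe_smul, hL, hsmul, map_mul]
    have h4 : ∑ i, d i • (maximalIdeal A).toCotangent ⟨x i, hxm i⟩ = 0 := by
      have e : ∑ i, d i • (maximalIdeal A).toCotangent ⟨x i, hxm i⟩ =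
          (maximalIdeal A).toCotangent (∑ i, c i • ⟨x i, hxm i⟩) := by
        rw [map_sum]
        refine Finset.sum_congr rfl fun i _ => ?_
        rw [map_smul, ← hc i]
        exact algebraMap_smul (ResidueField A) (c i) _
      rw [e, Ideal.toCotangent_eq_zero]
      rw [hπ, Ideal.Quotient.eq_zero_iff_mem] at h3
      simpa using h3
    exact Fintype.linearIndependent_iff.mp hLI d h4
  let b₀ := Module.Basis.sumExtend hindep
  choose w hw using fun j => TensorProduct.mk_surjective A (KaehlerDifferential ℤ A) (ResidueField A)
    Ideal.Quotient.mk_surjective (b₀ (Sum.inr j))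
  let v : Fin N ⊕ Module.Basis.sumExtendIndex hindep → KaehlerDifferential ℤ A :=
    Sum.elim (fun i => KaehlerDifferential.D ℤ A (x i)) w
  have hv : (fun j => TensorProduct.mk A (ResidueField A) (KaehlerDifferential ℤ A) 1 (v j)) = b₀ := by
    funext j
    rcases j with i | j
    · rw [show b₀ (Sum.inl i) = _ from Module.Basis.reindex_apply _ _ _, Module.Basis.extend_apply_self]
      rfl
    · exact hw j
  have hbij : Function.Bijective (Finsupp.linearCombination A v) := by
    refine Module.IsLocalRing.linearCombination_bijective_of_flat v ?_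
    rw [show (TensorProduct.mk A (ResidueField A) (KaehlerDifferential ℤ A) 1 ∘ v) = b₀ from hv]
    rw [← Module.Basis.coe_repr_symm b₀]; exact b₀.repr.symm.bijective
  let b : Module.Basis (Fin N ⊕ Module.Basis.sumExtendIndex hindep) A (KaehlerDifferential ℤ A) :=
    Module.Basis.ofRepr (LinearEquiv.ofBijective _ hbij).symm
  refine ⟨_, b, ⟨Sum.inl, Sum.inl_injective⟩, fun i => ?_⟩
  show (LinearEquiv.ofBijective (Finsupp.linearCombination A v) hbij).symm.symm (Finsupp.single (Sum.inl i) 1) = _
  rw [LinearEquiv.symm_symm, LinearEquiv.ofBijective_apply, Finsupp.linearCombination_single, one_smul]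
  rfl

end Groth.Agent.S19270
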