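import Groth.Statements.S19273
import Mathlib.RingTheory.Etale.Kaehler
import Mathlib.RingTheory.Localization.Module

set_option autoImplicit false
universe u
open CAlg

namespace Groth.Agent.S19273

open KaehlerDifferential in
/-- Let A be an integral domain of prime characteristic p, x_1, …, x_N elements of A, r ≤ N, B =
A[1/(x_1⋯x_r)] with u_i the unit of B defined by x_i for i ≤ r, and suppose that the module Ω_A of
absolute Kähler differentials of A is free with a basis b indexed by {1, …, N} ⊔ ι whose i-th vector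
is d(x_i) for i ≤ N. Then the module of logarithmic 1-forms — the A-submodule of Ω_B spanned by the
image of Ω_A and the forms u_i⁻¹ · d(x_i), i ≤ r — is a free A-module: it has a basis indexed by {1,
…, N} ⊔ ι whose vector at i ≤ r is u_i⁻¹ · d(x_i), at r < i ≤ N is d(x_i), and at k ∈ ι is the image
of b_k. (In the published statement A is a regular local F-finite algebra over the prime field with
maximal ideal (x_1, …, x_N), the basis of Ω_A comes from the preceding lemma, and the assertion
covers the logarithmic q-forms for all q together with their identification with the log de Rham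
complex of the log ring; only the degree-one freeness is stated here, from the properties of A
actually used.) -/
theorem result (p : ℕ) [Fact p.Prime]
    {A B : Type u} [CommRing A] [IsDomain A] [CharP A p] [CommRing B] [Algebra A B] {r N : ℕ}
    (hr : r ≤ N) (x : Fin N → A) [IsLocalization.Away (∏ i : Fin r, x (Fin.castLE hr i)) B]
    (u : Fin r → Bˣ) (hu : ∀ i, (u i : B) = algebraMap A B (x (Fin.castLE hr i)))
    {ι : Type u} (b : Module.Basis (Fin N ⊕ ι) A (Ω[A⁄ℤ])) (hb : ∀ i, b (Sum.inl i) = D ℤ A (x i)) :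
    ∃ e : Module.Basis (Fin N ⊕ ι) A
        (W4c6katofilta.logForms1 (fun i : Fin r => x (Fin.castLE hr i)) u),
      (∀ i : Fin r, (e (Sum.inl (Fin.castLE hr i)) : Ω[B⁄ℤ]) =
          ((u i)⁻¹ : Bˣ) • KaehlerDifferential.map ℤ ℤ A B (D ℤ A (x (Fin.castLE hr i)))) ∧
      (∀ i : Fin N, r ≤ (i : ℕ) →
          (e (Sum.inl i) : Ω[B⁄ℤ]) = KaehlerDifferential.map ℤ ℤ A B (D ℤ A (x i))) ∧
      (∀ k : ι, (e (Sum.inr k) : Ω[B⁄ℤ]) = KaehlerDifferential.map ℤ ℤ A B (b (Sum.inr k))) := by
  classical
  let f : Ω[A⁄ℤ] →ₗ[A] Ω[B⁄ℤ] := KaehlerDifferential.map ℤ ℤ A B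
  let P : A := ∏ i : Fin r, x (Fin.castLE hr i)
  have hP : P ≠ 0 := by
    refine Finset.prod_ne_zero_iff.2 fun i _ h0 => ?_
    exact b.ne_zero (Sum.inl (Fin.castLE hr i)) (by rw [hb, h0, map_zero])
  have hle : Submonoid.powers P ≤ nonZeroDivisors A :=
    powers_le_nonZeroDivisors_of_noZeroDivisors hP
  have hinj : Function.Injective (algebraMap A B) := IsLocalization.injective B hle
  haveI : IsLocalizedModule (Submonoid.powers P) f :=
    KaehlerDifferential.isLocalizedModule_map ℤ A B (Submonoid.powers P)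
  have hli : LinearIndependent B (f ∘ b) :=
    LinearIndependent.of_isLocalizedModule B (Submonoid.powers P) f b.linearIndependent
  let w : Fin N ⊕ ι → Bˣ := Sum.elim
    (fun i => if h : (i : ℕ) < r then (u ⟨i, h⟩)⁻¹ else 1) (fun _ => 1)
  let v : Fin N ⊕ ι → Ω[B⁄ℤ] := fun j => w j • f (b j)
  have hv : LinearIndependent A v := by
    refine (hli.units_smul w).restrict_scalars (fun a a' h => ?_)
    apply hinj
    simpa [Algebra.smul_def] using h
  have hvi : ∀ i : Fin r, v (Sum.inl (Fin.castLE hr i)) =
      (u i)⁻¹ • f (D ℤ A (x (Fin.castLE hr i))) := fun i => by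
    simp only [v, w, Sum.elim_inl]
    rw [dif_pos (show ((Fin.castLE hr i : Fin N) : ℕ) < r from i.2), hb]
    rfl
  have hvi' : ∀ i : Fin N, r ≤ (i : ℕ) → v (Sum.inl i) = f (D ℤ A (x i)) := fun i hi => by
    simp only [v, w, Sum.elim_inl]
    rw [dif_neg (not_lt.2 hi), hb, one_smul]
  have hvk : ∀ k : ι, v (Sum.inr k) = f (b (Sum.inr k)) := fun k => by
    simp only [v, w, Sum.elim_inr, one_smul]
  have hspan : Submodule.span A (Set.range v) =
      W4c6katofilta.logForms1 (fun i : Fin r => x (Fin.castLE hr i)) u := by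
    apply le_antisymm
    · rw [Submodule.span_le]
      rintro _ ⟨j | j, rfl⟩
      · by_cases hj : (j : ℕ) < r
        · exact Submodule.subset_span (Or.inr ⟨⟨j, hj⟩, (hvi ⟨j, hj⟩).symm⟩)
        · rw [hvi' j (not_lt.1 hj)]
          exact Submodule.subset_span (Or.inl ⟨_, rfl⟩)
      · rw [hvk]
        exact Submodule.subset_span (Or.inl ⟨_, rfl⟩)
    · refine Submodule.span_le.2 ?_
      rintro _ (⟨z, rfl⟩ | ⟨i, rfl⟩)
      · have hz : z ∈ Submodule.span A (Set.range b) := by rw [b.span_eq]; trivial
        have hfz : f z ∈ Submodule.map f (Submodule.span A (Set.range b)) := ⟨z, hz, rfl⟩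
        rw [Submodule.map_span] at hfz
        refine Submodule.span_le.2 ?_ hfz
        rintro _ ⟨_, ⟨j | j, rfl⟩, rfl⟩
        · by_cases hj : (j : ℕ) < r
          · have h2 := hvi ⟨j, hj⟩
            have h3 : f (b (Sum.inl j)) = x j • v (Sum.inl j) := by
              rw [show (Fin.castLE hr ⟨j, hj⟩ : Fin N) = j from rfl] at h2
              rw [h2, hb, Units.smul_def, ← IsScalarTower.algebraMap_smul B (x j), smul_smul,
                show algebraMap A B (x j) = (u ⟨j, hj⟩ : B) from (hu ⟨j, hj⟩).symm,
                Units.mul_inv, one_smul]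
            rw [h3]
            exact Submodule.smul_mem _ _ (Submodule.subset_span ⟨_, rfl⟩)
          · exact Submodule.subset_span ⟨Sum.inl j, by rw [hvi' j (not_lt.1 hj), hb]⟩
        · exact Submodule.subset_span ⟨Sum.inr j, hvk j⟩
      · exact Submodule.subset_span ⟨_, hvi i⟩
  let e : Module.Basis (Fin N ⊕ ι) A
      (W4c6katofilta.logForms1 (fun i : Fin r => x (Fin.castLE hr i)) u) :=
    (Module.Basis.span hv).map (LinearEquiv.ofEq _ _ hspan)
  have he : ∀ j, (e j : Ω[B⁄ℤ]) = v j := fun j => by simp [e]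
  exact ⟨e, fun i => (he _).trans (hvi i), fun i hi => (he _).trans (hvi' i hi),
    fun k => (he _).trans (hvk k)⟩

end Groth.Agent.S19273
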