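import Groth.Statements.S19274
import Groth.Agent.WittFil.Fil

set_option autoImplicit false
universe u
open WittFil
open Groth.Agent.WittFil

namespace Groth.Agent.S19274

/-- Let A be a unique factorisation domain of characteristic p, x a prime element of A, B = A[1/x] with
u the unit of B defined by x, m ≥ 1, and n an integer NOT divisible by p^m. For e in B and k ≥ 0
write fil_k(e) for the set of truncated p-typical Witt vectors of length k over B whose j-th
coordinate y_j satisfies y_j ^ (p ^ (k−1−j)) · e ∈ A for all j < k (the filtered piece; fil_k(u^n)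
is the piece of index n). Then fil_{m+1}(u^n) is contained in fil_{m+1}(u^(n−1)) + V(fil_m(u^n))
(the reverse inclusion is immediate): every a in fil_{m+1}(u^n) can be written a = b + V(y) with b
in fil_{m+1}(u^(n−1)) and y a Witt vector over B whose length-m truncation lies in fil_m(u^n), V(y)
being truncated to length m+1. (In the source A is a henselian discrete valuation ring, n = p^r·l >
1 with p not dividing l, and the condition reads m ≥ r + 1.) -/
theorem result (p : ℕ) [Fact p.Prime]
    {A B : Type u} [CommRing A] [IsDomain A] [UniqueFactorizationMonoid A] [CharP A p]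
    [CommRing B] [Algebra A B] (x : A) (hx : Prime x) [IsLocalization.Away x B] (u : Bˣ)
    (hu : (u : B) = algebraMap A B x) (m : ℕ) (hm : 0 < m) (n : ℤ) (hn : ¬ ((p : ℤ) ^ m ∣ n)) :
    ∀ a ∈ WittFil.fil p (m + 1) (A := A) ((u ^ n : Bˣ) : B),
      ∃ b ∈ WittFil.fil p (m + 1) (A := A) ((u ^ (n - 1) : Bˣ) : B),
        ∃ y : WittVector p B,
          WittVector.truncate m y ∈ WittFil.fil p m (A := A) ((u ^ n : Bˣ) : B) ∧
            a = b + WittVector.truncate (m + 1) (WittVector.verschiebung y) := by
  haveI : CharP B p := charP_of_injective_algebraMap (Fil.algebraMap_injective_one hx) p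
  intro a ha
  obtain ⟨z, rfl⟩ := WittVector.truncate_surjective p (m + 1) B a
  rw [Fil.mem_fil_truncate] at ha
  have hp : ((p : ℤ) ^ m) ≠ 0 := pow_ne_zero _ (by exact_mod_cast (Fact.out : p.Prime).ne_zero)
  have hpp : (0 : ℤ) < (p : ℤ) ^ m := pow_pos (by exact_mod_cast (Fact.out : p.Prime).pos) _
  set e : ℕ := (n % (p : ℤ) ^ m).toNat with he
  have hen : (e : ℤ) = n % (p : ℤ) ^ m := Int.toNat_of_nonneg (Int.emod_nonneg _ hp)
  have he0 : 0 < e := by
    have : n % (p : ℤ) ^ m ≠ 0 := fun h => hn (Int.dvd_of_emod_eq_zero h)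
    omega
  have hep : e < p ^ m := by
    have := Int.emod_lt_of_pos n hpp
    have h2 : ((e : ℕ) : ℤ) < ((p ^ m : ℕ) : ℤ) := by push_cast; omega
    exact_mod_cast h2
  have hne : n = ((p ^ m : ℕ) : ℤ) * (n / (p : ℤ) ^ m) + (e : ℤ) := by
    rw [hen]; push_cast; rw [Int.mul_ediv_add_emod]
  set d : Bˣ := u ^ (n / (p : ℤ) ^ m)
  have hsplit : ∀ k : ℕ,
      ((u ^ (((p ^ m : ℕ) : ℤ) * (n / (p : ℤ) ^ m) + (k : ℤ)) : Bˣ) : B) =
        (d : B) ^ p ^ m * algebraMap A B (x ^ k) := by
    intro k
    rw [zpow_add, Units.val_mul, mul_comm _ (n / _), zpow_mul, zpow_natCast, zpow_natCast,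
      Units.val_pow_eq_pow_val, Units.val_pow_eq_pow_val, hu, map_pow]
  have hw : z.coeff 0 * (d : B) ∈ (algebraMap A B).range := by
    refine Fil.root_one hx _ (p ^ m) e hep ?_
    have := ha 0 (by omega)
    rw [hne, hsplit, show m + 1 - 1 - 0 = m by omega, ← mul_assoc, ← mul_pow] at this
    exact this
  refine ⟨WittVector.truncate (m + 1) (WittVector.mk p fun j => if j = 0 then z.coeff 0 else 0),
    ?_, WittVector.mk p fun j => z.coeff (j + 1), ?_, ?_⟩
  · rw [Fil.mem_fil_truncate]
    intro j hj
    rw [WittVector.coeff_mk]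
    split_ifs with h0
    · subst h0
      rw [show n - 1 = ((p ^ m : ℕ) : ℤ) * (n / (p : ℤ) ^ m) + ((e - 1 : ℕ) : ℤ) by omega, hsplit,
        show m + 1 - 1 - 0 = m by omega, ← mul_assoc, ← mul_pow]
      exact Subring.mul_mem _ (pow_mem hw _) ⟨_, rfl⟩
    · rw [zero_pow (pow_ne_zero _ (Fact.out : p.Prime).ne_zero), zero_mul]
      exact Subring.zero_mem _
  · rw [Fil.mem_fil_truncate]
    intro j hj
    rw [WittVector.coeff_mk, show m - 1 - j = m + 1 - 1 - (j + 1) by omega]
    exact ha (j + 1) (by omega)
  · rw [← map_add]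
    refine congrArg _ (WittVector.ext fun j => ?_)
    rw [WittVector.coeff_add_of_disjoint]
    · cases j with
      | zero => simp [WittVector.verschiebung_coeff_zero]
      | succ j => simp [WittVector.verschiebung_coeff_succ]
    · intro k
      cases k with
      | zero => exact Or.inr (WittVector.verschiebung_coeff_zero _)
      | succ k => exact Or.inl (by simp)

end Groth.Agent.S19274
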