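import Groth.Statements.S19275
import Mathlib.RingTheory.Flat.Basic
import Mathlib.LinearAlgebra.TensorProduct.RightExactness
import Mathlib.RingTheory.Coalgebra.TensorProduct

set_option autoImplicit false
universe u v w
open Hoch

namespace Groth.Agent.S19275

open TensorProduct in
lemma homology_iso {K : Type u} [Field K] {R : Type w} [CommRing R] [Algebra K R]
    {C : Type v} [AddCommGroup C] [Module K C] {D : Type v} [AddCommGroup D] [Module K D]
    {C' : Type (max w v)} [AddCommGroup C'] [Module R C'] {D' : Type (max w v)} [AddCommGroup D'] [Module R D']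
    (d : C →ₗ[K] D) (B : Submodule K C) (d' : C' →ₗ[R] D') (B' : Submodule R C')
    (φ : R ⊗[K] C →ₗ[R] C') (hφ : Function.Bijective φ) (ψ : R ⊗[K] D →ₗ[R] D') (hψ : Function.Injective ψ)
    (hcomm : ∀ x, ψ (d.baseChange R x) = d' (φ x))
    (hB : ∀ x, φ x ∈ B' ↔ B.mkQ.baseChange R x = 0) :
    ∃ e : R ⊗[K] (LinearMap.ker d ⧸ B.comap (LinearMap.ker d).subtype) ≃ₗ[R]
        (LinearMap.ker d' ⧸ B'.comap (LinearMap.ker d').subtype),
      ∀ (r : R) (z : LinearMap.ker d) (hz : φ (r ⊗ₜ[K] (z : C)) ∈ LinearMap.ker d'),
        e (r ⊗ₜ[K] Submodule.Quotient.mk z) = Submodule.Quotient.mk ⟨φ (r ⊗ₜ[K] (z : C)), hz⟩ := by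
  let ι := (LinearMap.ker d).subtype.baseChange R
  have hmem : ∀ x, φ (ι x) ∈ LinearMap.ker d' := by
    intro x
    rw [LinearMap.mem_ker, ← hcomm]
    have : d.baseChange R (ι x) = 0 := by
      have h0 : d ∘ₗ (LinearMap.ker d).subtype = 0 := LinearMap.ext fun y => y.2
      change (d.baseChange R ∘ₗ ι) x = 0
      rw [← LinearMap.baseChange_comp, h0]; simp
    rw [this, map_zero]
  let G : R ⊗[K] LinearMap.ker d →ₗ[R] (LinearMap.ker d' ⧸ B'.comap (LinearMap.ker d').subtype) :=
    (B'.comap (LinearMap.ker d').subtype).mkQ ∘ₗ (φ ∘ₗ ι).codRestrict _ hmem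
  let q : R ⊗[K] LinearMap.ker d →ₗ[R] R ⊗[K] (LinearMap.ker d ⧸ B.comap (LinearMap.ker d).subtype) :=
    (B.comap (LinearMap.ker d).subtype).mkQ.baseChange R
  have hq : Function.Surjective q := by
    change Function.Surjective ((B.comap (LinearMap.ker d).subtype).mkQ.baseChange R)
    rw [LinearMap.baseChange_eq_ltensor]
    exact LinearMap.lTensor_surjective R (Submodule.mkQ_surjective _)
  have hG : Function.Surjective G := by
    intro y
    obtain ⟨⟨y, hy⟩, rfl⟩ := Submodule.mkQ_surjective _ y
    obtain ⟨x, rfl⟩ := hφ.2 y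
    rw [LinearMap.mem_ker, ← hcomm, map_eq_zero_iff _ hψ] at hy
    have hex : Function.Exact ((LinearMap.ker d).subtype.lTensor R) (d.lTensor R) :=
      Module.Flat.lTensor_exact R d.exact_subtype_ker_map
    rw [LinearMap.baseChange_eq_ltensor] at hy
    obtain ⟨x', rfl⟩ := (hex x).1 hy
    refine ⟨x', congrArg Submodule.Quotient.mk (Subtype.ext ?_)⟩
    simp [ι, LinearMap.baseChange_eq_ltensor]
  have hker : LinearMap.ker q = LinearMap.ker G := by
    let j := Submodule.mapQ (B.comap (LinearMap.ker d).subtype) B (LinearMap.ker d).subtype le_rfl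
    have hj : Function.Injective j := by
      rw [← LinearMap.ker_eq_bot, LinearMap.ker_eq_bot']
      intro x hx
      obtain ⟨x, rfl⟩ := Submodule.Quotient.mk_surjective _ x
      exact (Submodule.Quotient.mk_eq_zero _).2 ((Submodule.Quotient.mk_eq_zero B).1 hx)
    have hjR : Function.Injective (j.baseChange R) := by
      rw [LinearMap.baseChange_eq_ltensor]
      exact Module.Flat.lTensor_preserves_injective_linearMap _ hj
    have hc : B.mkQ.baseChange R ∘ₗ ι = j.baseChange R ∘ₗ q := by
      rw [← LinearMap.baseChange_comp, ← LinearMap.baseChange_comp]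
      rfl
    ext x
    have hx : G x = 0 ↔ φ (ι x) ∈ B' := by simp [G]
    rw [LinearMap.mem_ker, LinearMap.mem_ker, hx, hB, ← LinearMap.comp_apply, hc, LinearMap.comp_apply,
      map_eq_zero_iff _ hjR]
  refine ⟨(q.quotKerEquivOfSurjective hq).symm ≪≫ₗ Submodule.quotEquivOfEq _ _ hker ≪≫ₗ G.quotKerEquivOfSurjective hG,
    fun r z hz => ?_⟩
  have e1 : r ⊗ₜ[K] Submodule.Quotient.mk z = q.quotKerEquivOfSurjective hq (Submodule.Quotient.mk (r ⊗ₜ[K] z)) := rfl
  rw [LinearEquiv.trans_apply, LinearEquiv.trans_apply, e1, LinearEquiv.symm_apply_apply]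
  rfl


open TensorProduct in
/-- In the case of an affine group scheme over a field (a K-groupoid acting on Spec K itself),
cohomology commutes with arbitrary base change. Precisely: let K be a field, A a commutative Hopf
algebra over K (the coordinate ring of an affine K-group scheme G), V a right A-comodule (a linear
representation of G) and R any commutative K-algebra. Give R ⊗ V the base-changed comodule structure
over the R-bialgebra R ⊗ A, whose coaction sends r ⊗ v to the image of r ⊗ ρ(v) under the canonical
identification of R ⊗ (V ⊗ A) with (R ⊗ V) ⊗_R (R ⊗ A), and let φ_n : R ⊗ C^n(A, V) → C^n(R ⊗ A, R ⊗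
V) be the canonical R-linear maps between the Hochschild cochain modules, determined by φ_0 = id and
φ_{n+1}(r ⊗ (c ⊗ a)) = φ_n(r ⊗ c) ⊗ (1 ⊗ a). Then every φ_n is bijective, the φ_n commute with the
Hochschild differentials, and for every n there is an R-linear isomorphism R ⊗ H^n(A, V) ≅ H^n(R ⊗
A, R ⊗ V) sending r ⊗ [z] to [φ_n(r ⊗ z)] for every n-cocycle z. (The published statement is for an
affine K-groupoid acting on the spectrum of a finite extension L of K and its coherent
representations, with K of characteristic 0; this is its case L = K, in which the cochain complex of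
a representation is the Hochschild complex of the comodule; V is not assumed finite-dimensional and
K may be any field.) -/
theorem result
    (K : Type u) [Field K] (A : Type v) [CommRing A] [HopfAlgebra K A]
    (V : Type v) [AddCommGroup V] [Module K V] [HopfRep.Comod K A V]
    (R : Type w) [CommRing R] [Algebra K R]
    (φ : ∀ n : ℕ, R ⊗[K] (Hoch.cochain K A V n) →ₗ[R] (Hoch.cochain R (R ⊗[K] A) (R ⊗[K] V) n))
    (hφ0 : ∀ x : R ⊗[K] V, φ 0 x = x)
    (hφs : ∀ (n : ℕ) (r : R) (c : Hoch.cochain K A V n) (a : A),
      φ (n + 1) (r ⊗ₜ[K] (c ⊗ₜ[K] a)) = (φ n (r ⊗ₜ[K] c)) ⊗ₜ[R] ((1 : R) ⊗ₜ[K] a)) :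
    letI := CoactBr.Comod.baseChange K R A V
    (∀ n : ℕ, Function.Bijective (φ n)) ∧
    (∀ (n : ℕ) (x : R ⊗[K] (Hoch.cochain K A V n)),
        φ (n + 1) ((Hoch.d K A V n).baseChange R x) = Hoch.d R (R ⊗[K] A) (R ⊗[K] V) n (φ n x)) ∧
      ∀ n : ℕ, ∃ e : R ⊗[K] Hoch.H K A V n ≃ₗ[R] Hoch.H R (R ⊗[K] A) (R ⊗[K] V) n,
        ∀ (r : R) (z : Hoch.cocycles K A V n)
          (hz : φ n (r ⊗ₜ[K] (z : Hoch.cochain K A V n)) ∈ Hoch.cocycles R (R ⊗[K] A) (R ⊗[K] V) n),
          e (r ⊗ₜ[K] Hoch.H.mk K A V n z) = Hoch.H.mk R (R ⊗[K] A) (R ⊗[K] V) n ⟨φ n (r ⊗ₜ[K] (z : Hoch.cochain K A V n)), hz⟩ := by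
  letI := CoactBr.Comod.baseChange K R A V
  have hbij : ∀ n, Function.Bijective (φ n) := by
    intro n
    induction n with
    | zero =>
      have : ⇑(φ 0) = id := funext hφ0
      rw [this]; exact Function.bijective_id
    | succ n ih =>
      let e := (TensorProduct.AlgebraTensorModule.distribBaseChange K R (Hoch.cochain K A V n) A).trans
        (TensorProduct.congr (LinearEquiv.ofBijective (φ n) ih) (LinearEquiv.refl R (R ⊗[K] A)))
      have : φ (n + 1) = e.toLinearMap := by
        refine LinearMap.ext fun x => ?_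
        induction x using TensorProduct.induction_on with
        | zero => simp
        | add x y hx hy => rw [map_add, map_add, hx, hy]
        | tmul r z =>
          induction z using TensorProduct.induction_on with
          | zero => simp
          | tmul c a => exact hφs n r c a
          | add x y hx hy => rw [TensorProduct.tmul_add, map_add, map_add, hx, hy]
      rw [this]; exact e.bijective
  have hsign : ∀ (m : ℕ) {M : Type v} [AddCommGroup M] [Module K M] (r : R) (z : M),
      r ⊗ₜ[K] (((-1 : K) ^ m) • z) = ((-1 : R) ^ m) • (r ⊗ₜ[K] z) := fun m M _ _ r z => by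
    rw [← TensorProduct.smul_tmul, Algebra.smul_def, map_pow, map_neg, map_one, TensorProduct.smul_tmul', smul_eq_mul]
  have hcomm : ∀ (n : ℕ) (x : R ⊗[K] (Hoch.cochain K A V n)),
      φ (n + 1) ((Hoch.d K A V n).baseChange R x) = Hoch.d R (R ⊗[K] A) (R ⊗[K] V) n (φ n x) := by
    intro n
    induction n with
    | zero =>
      intro x
      induction x using TensorProduct.induction_on with
      | zero => simp
      | add x y hx hy => rw [map_add, map_add, map_add, map_add, hx, hy]
      | tmul r v =>
        rw [LinearMap.baseChange_tmul, hφ0]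
        have h1 : ∀ z : V ⊗[K] A, φ 1 (r ⊗ₜ[K] z) =
            TensorProduct.AlgebraTensorModule.tensorTensorTensorComm K R K R R R V A
              (((1 : R) ⊗ₜ[R] r) ⊗ₜ[K] z) := by
          intro z
          induction z using TensorProduct.induction_on with
          | zero => simp
          | add x y hx hy => simp only [TensorProduct.tmul_add, map_add, hx, hy]
          | tmul v a =>
            refine (hφs 0 r v a).trans ?_
            rw [hφ0]
            change (r ⊗ₜ[K] v) ⊗ₜ[R] ((1 : R) ⊗ₜ[K] a) = ((1 : R) ⊗ₜ[K] v) ⊗ₜ[R] (r ⊗ₜ[K] a)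
            have er : ∀ {M : Type v} [AddCommGroup M] [Module K M] (m : M), r ⊗ₜ[K] m = r • ((1 : R) ⊗ₜ[K] m) :=
              fun {M} _ _ m => by rw [TensorProduct.smul_tmul', smul_eq_mul, mul_one]
            rw [er v, TensorProduct.smul_tmul, ← er a]
        rw [Hoch.d_zero_apply, Hoch.d_zero_apply, TensorProduct.tmul_sub, map_sub, CoactBr.baseChange_coact_tmul]
        congr 1
        · exact h1 _
        · refine (hφs 0 r v 1).trans ?_
          rw [hφ0]
          rfl
    | succ n ih =>
      intro x
      induction x using TensorProduct.induction_on with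
      | zero => simp
      | add x y hx hy => rw [map_add, map_add, map_add, map_add, hx, hy]
      | tmul r z =>
        induction z using TensorProduct.induction_on with
        | zero => simp
        | add x y hx hy => rw [TensorProduct.tmul_add, map_add, map_add, map_add, map_add, hx, hy]
        | tmul c a =>
          rw [hφs, LinearMap.baseChange_tmul, Hoch.d_succ, Hoch.d_succ]
          simp only [LinearMap.add_apply, LinearMap.smul_apply, LinearMap.rTensor_tmul]
          rw [TensorProduct.tmul_add, map_add, hφs, ← LinearMap.baseChange_tmul, ih, hsign, map_smul]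
          congr 2
          have hA : ∀ y : A ⊗[K] A,
              φ (n + 1 + 1) (r ⊗ₜ[K] ((TensorProduct.assoc K (Hoch.cochain K A V n) A A).symm (c ⊗ₜ y))) =
              (TensorProduct.assoc R (Hoch.cochain R (R ⊗[K] A) (R ⊗[K] V) n) (R ⊗[K] A) (R ⊗[K] A)).symm
                ((φ n (r ⊗ₜ c)) ⊗ₜ (TensorProduct.AlgebraTensorModule.distribBaseChange K R A A ((1 : R) ⊗ₜ y))) := by
            intro y
            induction y using TensorProduct.induction_on with
            | zero => simp
            | add x y hx hy => simp only [TensorProduct.tmul_add, map_add, hx, hy]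
            | tmul x y =>
              rw [TensorProduct.AlgebraTensorModule.distribBaseChange_tmul, TensorProduct.assoc_symm_tmul,
                TensorProduct.assoc_symm_tmul, hφs, hφs]
          rw [Hoch.tail_tmul, Hoch.tail_tmul, hA]
          congr 2
          rw [TensorProduct.tmul_sub, TensorProduct.tmul_sub, map_sub, map_sub,
            TensorProduct.AlgebraTensorModule.distribBaseChange_tmul,
            TensorProduct.AlgebraTensorModule.distribBaseChange_tmul]
          congr 2
          rw [TensorProduct.comul_tmul]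
          generalize Coalgebra.comul (R := K) a = y
          induction y using TensorProduct.induction_on with
          | zero => simp
          | add x y hx hy => simp only [TensorProduct.tmul_add, map_add, hx, hy]
          | tmul x y => rfl
  refine ⟨hbij, hcomm, fun n => ?_⟩
  refine homology_iso (Hoch.d K A V n) (Hoch.coboundaries K A V n) (Hoch.d R (R ⊗[K] A) (R ⊗[K] V) n)
    (Hoch.coboundaries R (R ⊗[K] A) (R ⊗[K] V) n) (φ n) (hbij n) (φ (n + 1)) (hbij (n + 1)).1 (hcomm n) ?_
  cases n with
  | zero =>
    intro x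
    have hinj : Function.Injective ((Submodule.mkQ (⊥ : Submodule K (Hoch.cochain K A V 0))).baseChange R) := by
      rw [LinearMap.baseChange_eq_ltensor]
      exact Module.Flat.lTensor_preserves_injective_linearMap _ (LinearMap.ker_eq_bot.1 (Submodule.ker_mkQ _))
    change φ 0 x ∈ (⊥ : Submodule R _) ↔ _
    rw [Submodule.mem_bot, map_eq_zero_iff _ (hbij 0).1]
    exact (map_eq_zero_iff _ hinj).symm
  | succ m =>
    intro x
    have hex : Function.Exact ((Hoch.d K A V m).lTensor R) ((Submodule.mkQ (LinearMap.range (Hoch.d K A V m))).lTensor R) :=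
      lTensor_exact R (LinearMap.exact_map_mkQ_range _) (Submodule.mkQ_surjective _)
    change φ (m + 1) x ∈ LinearMap.range _ ↔ (Submodule.mkQ (LinearMap.range (Hoch.d K A V m))).baseChange R x = 0
    rw [LinearMap.baseChange_eq_ltensor, hex x, LinearMap.mem_range]
    constructor
    · rintro ⟨y, hy⟩
      obtain ⟨u, rfl⟩ := (hbij m).2 y
      exact ⟨u, (hbij (m + 1)).1 (by rw [← hy, ← hcomm m, LinearMap.baseChange_eq_ltensor])⟩
    · rintro ⟨u, rfl⟩
      exact ⟨φ m u, by rw [← hcomm m, LinearMap.baseChange_eq_ltensor]⟩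

end Groth.Agent.S19275
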