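import Groth.Statements.S19280
import Groth.Agent.GrpScheme.DiagRepTools

set_option autoImplicit false
universe u
open CategoryTheory MonoidalCategory CartesianMonoidalCategory MonObj GrpObj AlgebraicGeometry
open AlgGrp

namespace Groth.Agent.S19280

attribute [local instance] Groth.Agent.SekLib.secAlgebra

/-- Let `k` be a field with an algebraic closure `K`, `m ≥ 0`, `n > 0`, and let `σ`, `τ` be closed
subgroup schemes of `GL_{m,k}`, each isomorphic as a `k`-group scheme to `μ_n = D(ℤ/n)`. If after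
base change to `K` there are a `K`-point `g` of `GL_m` and an isomorphism `σ_K ≅ τ_K` through which
conjugation by `g` carries the inclusion of `σ_K` to that of `τ_K`, then there are already a
`k`-rational point of `GL_{m,k}` and an isomorphism `σ ≅ τ` with the same property. (This is the
first of the two rationality conditions, stated for all dual cyclic subgroups rather than only for
those with a fixed point on a given algebraic space, which is what the printed argument establishes
and which gives the printed statement for every action of `GL_m`.) -/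
theorem result (k : Type u) [Field k]
    (K : Type u) [Field K] [Algebra k K] [IsAlgClosure k K] (m n : ℕ) (hn : 0 < n)
    (σ τ : Over (Spec (CommRingCat.of k))) [GrpObj σ] [GrpObj τ]
    (i : σ ⟶ CoactBr.sp k (CoordGrp.GLn m k)) (j : τ ⟶ CoactBr.sp k (CoordGrp.GLn m k))
    [IsMonHom i] [IsMonHom j] (hi : IsClosedImmersion i.left) (hj : IsClosedImmersion j.left)
    (hσ : Red.IsSplitTorusWith (ZMod n) σ) (hτ : Red.IsSplitTorusWith (ZMod n) τ)
    (h : ∃ (g : 𝟙_ (Over (Spec (CommRingCat.of K))) ⟶
        Red.bc (Spec.map (CommRingCat.ofHom (algebraMap k K))) (CoactBr.sp k (CoordGrp.GLn m k)))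
      (φ : Red.bc (Spec.map (CommRingCat.ofHom (algebraMap k K))) σ ≅
        Red.bc (Spec.map (CommRingCat.ofHom (algebraMap k K))) τ),
      AGF.conjBy g ((Over.pullback (Spec.map (CommRingCat.ofHom (algebraMap k K)))).map i) =
        φ.hom ≫ (Over.pullback (Spec.map (CommRingCat.ofHom (algebraMap k K)))).map j) :
    ∃ (g : 𝟙_ (Over (Spec (CommRingCat.of k))) ⟶ CoactBr.sp k (CoordGrp.GLn m k)) (φ : σ ≅ τ),
      AGF.conjBy g i = φ.hom ≫ j := by
  open Groth.Agent.GrpScheme.DiagRep Groth.Agent.GrpScheme.DiagRepTools in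
  classical
  have : NeZero n := ⟨hn.ne'⟩
  obtain ⟨eσ⟩ := hσ
  obtain ⟨eτ⟩ := hτ
  let Cσ := Chars.ofIso eσ
  let Cτ := Chars.ofIso eτ
  let D := glPts k m
  obtain ⟨g, φ, h⟩ := h
  have : Mono ((Over.pullback (Spec.map (CommRingCat.ofHom (algebraMap k K)))).map j) := by
    have : Mono j := (Over.forget _).mono_of_mono_map (inferInstanceAs (Mono j.left))
    infer_instance
  let iK := (Over.pullback (Spec.map (CommRingCat.ofHom (algebraMap k K)))).map i
  let jK := (Over.pullback (Spec.map (CommRingCat.ofHom (algebraMap k K)))).map j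
  have : IsMonHom iK := inferInstance
  have : IsMonHom jK := inferInstance
  have : IsMonHom (AGF.conjBy g iK) := by
    have hy : ∀ {Y} (y : Y ⟶ Red.bc (Spec.map (CommRingCat.ofHom (algebraMap k K))) σ),
        y ≫ AGF.conjBy g iK = (toUnit Y ≫ g) * (y ≫ iK) * (toUnit Y ≫ g)⁻¹ := fun {Y} y => by
      show y ≫ ((toUnit _ ≫ g) * iK * (toUnit _ ≫ g)⁻¹) = _
      rw [MonObj.comp_mul, MonObj.comp_mul, GrpObj.comp_inv, ← Category.assoc, toUnit_unique (y ≫ toUnit _) (toUnit Y)]
    refine ⟨?_, ?_⟩
    · rw [hy, IsMonHom.one_hom (f := iK), MonObj.one_eq_one, _root_.mul_one, mul_inv_cancel]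
    · rw [hy, IsMonHom.mul_hom (f := iK),
        MonObj.mul_eq_mul (Red.bc (Spec.map (CommRingCat.ofHom (algebraMap k K))) (CoactBr.sp k (CoordGrp.GLn m k))),
        MonObj.comp_mul, tensorHom_fst, tensorHom_snd, MonObj.comp_mul, tensorHom_fst, tensorHom_snd, hy, hy]
      group
  have : IsMonHom φ.hom := by
    refine ⟨(cancel_mono jK).mp ?_, (cancel_mono jK).mp ?_⟩
    · rw [Category.assoc, ← h, IsMonHom.one_hom, IsMonHom.one_hom]
    · rw [Category.assoc, ← h, IsMonHom.mul_hom, h, Category.assoc, IsMonHom.mul_hom, ← Category.assoc,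
        tensorHom_comp_tensorHom]
  have : IsMonHom φ.inv := by
    refine ⟨(cancel_mono φ.hom).mp ?_, (cancel_mono φ.hom).mp ?_⟩
    · rw [Category.assoc, φ.inv_hom_id, Category.comp_id, IsMonHom.one_hom]
    · rw [Category.assoc, φ.inv_hom_id, Category.comp_id, Category.assoc, IsMonHom.mul_hom, ← Category.assoc,
        tensorHom_comp_tensorHom, φ.inv_hom_id, id_tensorHom_id, Category.id_comp]
  let CσK := Cσ.bc (K := K)
  let CτK := Cτ.bc (K := K)
  obtain ⟨χ, hχ⟩ := exists_charMap CσK CτK φ.hom
  obtain ⟨χ', hχ'⟩ := exists_charMap CτK CσK φ.inv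
  have hinj : ∀ {T : Over (Spec (CommRingCat.of K))} [GrpObj T] (C : Chars T (ZMod n)) (a a' : ZMod n),
      C.θ (univ C) a = C.θ (univ C) a' → a = a' := fun C a a' e => by
    rw [θ_univ, θ_univ] at e
    have h2 := congrArg (coeffL (F := K) a) ((ev (F := K) (Laurent K (ZMod n))).injective e)
    rw [coeffL_mon, coeffL_mon, if_pos rfl] at h2
    by_contra hne
    rw [if_neg (Ne.symm hne)] at h2
    exact one_ne_zero h2
  let χe : ZMod n ≃+ ZMod n :=
    { χ with
      invFun := χ'
      left_inv := fun b => hinj CτK _ _ (by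
        have e1 := hχ (univ CτK ≫ φ.inv) b
        rw [Category.assoc, φ.inv_hom_id, Category.comp_id, hχ'] at e1
        exact e1.symm)
      right_inv := fun a => hinj CσK _ _ (by
        have e1 := hχ' (univ CσK ≫ φ.hom) a
        rw [Category.assoc, φ.hom_inv_id, Category.comp_id, hχ] at e1
        exact e1.symm) }
  have hw := congrArg (weights CσK (D.bc (K := K))) h
  rw [weights_conjBy, weights_comp CσK CτK (D.bc (K := K)) φ.hom χe (fun y b => hχ y b),
    weights_bc Cσ D i, weights_bc Cτ D j] at hw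
  have hQ : IsSystem fun a => weights Cτ D j (χe.symm a) := by
    obtain ⟨h1, h2⟩ := isSystem_weights Cτ D j
    refine ⟨fun a b => (h1 _ _).trans (by simp), ?_⟩
    rw [← h2]
    exact Equiv.sum_comp χe.symm.toEquiv _
  obtain ⟨g₀, hg₀, hconj⟩ := exists_conj (isSystem_weights Cσ D i) hQ _ (isUnit_ptMat _ g)
    (fun a => congrFun hw a)
  obtain ⟨g', hg'⟩ := exists_ptMat_eq D g₀ hg₀
  obtain ⟨φ₀, _, hφ₀⟩ := exists_iso_of_charEquiv Cσ Cτ χe
  refine ⟨g', φ₀, hom_ext Cσ D ?_⟩
  rw [weights_conjBy, weights_comp Cσ Cτ D φ₀.hom χe hφ₀, hg']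
  exact funext hconj

end Groth.Agent.S19280
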