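import Groth.Statements.S19281
import Groth.Agent.GrpScheme.DiagRepTools
import Groth.Agent.FpqcDesc.Props

set_option autoImplicit false
universe u
open CategoryTheory MonoidalCategory CartesianMonoidalCategory MonObj GrpObj AlgebraicGeometry
open AlgGrp

open Groth.Agent.GrpScheme.DiagRep Groth.Agent.GrpScheme.DiagRepTools

namespace Groth.Agent.S19281

attribute [local instance] Groth.Agent.SekLib.secAlgebra

/-- Conjugating a closed immersion gives a closed immersion. -/
lemma isClosedImmersion_conjBy {S : Scheme.{u}} {G H : Over S} [GrpObj G] (g : 𝟙_ (Over S) ⟶ G) (i : H ⟶ G)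
    [IsClosedImmersion i.left] : IsClosedImmersion (AGF.conjBy g i).left := by
  have hc : ∀ (a : 𝟙_ (Over S) ⟶ G) {Y : Over S} (y : Y ⟶ G),
      y ≫ AGF.conjBy a (𝟙 G) = (toUnit Y ≫ a) * y * (toUnit Y ≫ a)⁻¹ := fun a Y y => by
    show y ≫ ((toUnit G ≫ a) * 𝟙 G * (toUnit G ≫ a)⁻¹) = _
    rw [MonObj.comp_mul, MonObj.comp_mul, GrpObj.comp_inv, Category.comp_id, ← Category.assoc,
      toUnit_unique (y ≫ toUnit G) (toUnit Y)]
  have hinv : ∀ (a : 𝟙_ (Over S) ⟶ G) (Y : Over S), toUnit Y ≫ a⁻¹ = (toUnit Y ≫ a)⁻¹ := fun a Y => GrpObj.comp_inv _ _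
  have hiso : ∀ a : 𝟙_ (Over S) ⟶ G, AGF.conjBy a (𝟙 G) ≫ AGF.conjBy a⁻¹ (𝟙 G) = 𝟙 G := fun a => by
    rw [hc, hinv, _root_.inv_inv]
    show _ * ((toUnit G ≫ a) * 𝟙 G * (toUnit G ≫ a)⁻¹) * _ = _
    generalize toUnit G ≫ a = b
    generalize 𝟙 G = c
    group
  haveI : IsIso (AGF.conjBy g (𝟙 G)) := ⟨⟨AGF.conjBy g⁻¹ (𝟙 G), hiso g, by simpa using hiso g⁻¹⟩⟩
  haveI : IsIso (AGF.conjBy g (𝟙 G)).left := inferInstanceAs (IsIso ((Over.forget S).map (AGF.conjBy g (𝟙 G))))
  have h : AGF.conjBy g i = i ≫ AGF.conjBy g (𝟙 G) := (hc g i).symm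
  rw [h, Over.comp_left]
  infer_instance

/-- A closed immersion descends along a field extension. -/
lemma isClosedImmersion_of_bc {k K : Type u} [Field k] [Field K] [Algebra k K]
    {X Y : Over (Spec (CommRingCat.of k))} (i : X ⟶ Y)
    (h : IsClosedImmersion ((Over.pullback (bmap k K)).map i).left) : IsClosedImmersion i.left := by
  have hsq : IsPullback ((Over.pullback (bmap k K)).map i).left (Limits.pullback.fst X.hom (bmap k K))
      (Limits.pullback.fst Y.hom (bmap k K)) i.left := by
    refine (IsPullback.of_right (h₁₂ := Limits.pullback.snd Y.hom (bmap k K)) (h₂₂ := Y.hom) ?_ ?_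
      (IsPullback.of_hasPullback Y.hom (bmap k K)).flip)
    · rw [show ((Over.pullback (bmap k K)).map i).left = Limits.pullback.lift _ _ _ from rfl,
        Limits.pullback.lift_snd, Over.w i]
      exact (IsPullback.of_hasPullback X.hom (bmap k K)).flip
    · exact Limits.pullback.lift_fst _ _ _
  have hs : Surjective (bmap k K) := ⟨fun _ => ⟨default, Subsingleton.elim _ _⟩⟩
  have hf : Flat (bmap k K) :=
    (HasRingHomProperty.Spec_iff (P := @Flat)).mpr (RingHom.flat_algebraMap_iff.mpr inferInstance)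
  have hB := (IsPullback.of_hasPullback Y.hom (bmap k K)).flip
  have hQ : Groth.Agent.FpqcDesc.FPQC (Limits.pullback.fst Y.hom (bmap k K)) :=
    ⟨⟨MorphismProperty.of_isPullback (P := @Surjective) hB hs, MorphismProperty.of_isPullback (P := @Flat) hB hf⟩,
      MorphismProperty.of_isPullback (P := @QuasiCompact) hB inferInstance⟩
  have := Groth.Agent.FpqcDesc.descendsAlong_isClosedImmersion.{u}
  exact MorphismProperty.of_isPullback_of_descendsAlong (P := @IsClosedImmersion) hsq hQ h

/-- Let `k` be a field with an algebraic closure `K`, `m ≥ 0`, `n > 0`, and let `σ'` be a closed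
subgroup scheme of the base change of `GL_{m,k}` to `K` which is isomorphic as a `K`-group scheme to
`μ_n = D(ℤ/n)`. Then there are a closed subgroup scheme `σ` of `GL_{m,k}` isomorphic to `μ_n` over
`k`, a `K`-point `g` of `GL_m` and an isomorphism `σ' ≅ σ_K` through which conjugation by `g`
carries the inclusion of `σ'` to the base change of the inclusion of `σ`. (This is the second
rationality condition, stated for all dual cyclic subgroups rather than only for those with a fixed
point on a given algebraic space, which is what the printed argument establishes and which gives the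
printed statement for every action of `GL_m`.) -/
theorem result (k : Type u) [Field k]
    (K : Type u) [Field K] [Algebra k K] [IsAlgClosure k K] (m n : ℕ) (hn : 0 < n)
    (σ' : Over (Spec (CommRingCat.of K))) [GrpObj σ']
    (i' : σ' ⟶ Red.bc (Spec.map (CommRingCat.ofHom (algebraMap k K))) (CoactBr.sp k (CoordGrp.GLn m k)))
    [IsMonHom i'] (hi' : IsClosedImmersion i'.left) (hσ' : Red.IsSplitTorusWith (ZMod n) σ') :
    ∃ (σ : Over (Spec (CommRingCat.of k))) (_ : GrpObj σ) (i : σ ⟶ CoactBr.sp k (CoordGrp.GLn m k))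
      (_ : IsMonHom i), IsClosedImmersion i.left ∧ Red.IsSplitTorusWith (ZMod n) σ ∧
      ∃ (g : 𝟙_ (Over (Spec (CommRingCat.of K))) ⟶
          Red.bc (Spec.map (CommRingCat.ofHom (algebraMap k K))) (CoactBr.sp k (CoordGrp.GLn m k)))
        (φ : σ' ≅ Red.bc (Spec.map (CommRingCat.ofHom (algebraMap k K))) σ),
        AGF.conjBy g i' = φ.hom ≫ (Over.pullback (Spec.map (CommRingCat.ofHom (algebraMap k K)))).map i := by
  haveI : NeZero n := ⟨by omega⟩
  obtain ⟨eσ'⟩ := hσ'
  let C' : Chars σ' (ZMod n) := Chars.ofIso eσ'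
  let σ := Red.DS (Spec (CommRingCat.of k)) (ZMod n)
  let C : Chars σ (ZMod n) := Chars.ofIso (Iso.refl _)
  let D' := (glPts k m).bc (K := K)
  obtain ⟨f, u, hu, hf⟩ := exists_diag_conj (isSystem_weights C' D' i')
  let P : ZMod n → Matrix (Fin m) (Fin m) k := fun a => Matrix.diagonal fun j => if f j = a then 1 else 0
  have hP : IsSystem P := by
    refine ⟨fun a b => ?_, ?_⟩
    · simp only [P, Matrix.diagonal_mul_diagonal]
      split_ifs with hab
      · subst hab; simp
      · rw [Matrix.diagonal_eq_zero]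
        funext j
        by_cases hj : f j = a
        · simp [hj, hab]
        · simp [hj]
    · ext a b
      simp [P, Matrix.sum_apply, Matrix.diagonal_apply, Matrix.one_apply]
  obtain ⟨i, hi, hiw⟩ := exists_hom C (glPts k m) hP
  obtain ⟨g, hg⟩ := exists_ptMat_eq D' u hu
  obtain ⟨φ, hφm, hφ⟩ := exists_iso_of_charEquiv C' (C.bc (K := K)) (AddEquiv.refl _)
  have heq : AGF.conjBy g i' = φ.hom ≫ (Over.pullback (bmap k K)).map i := by
    apply hom_ext C' D'
    rw [weights_conjBy, hg, weights_comp C' (C.bc (K := K)) D' φ.hom (AddEquiv.refl _) hφ, weights_bc, hiw]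
    funext a
    rw [hf]
    simp [P, Matrix.diagonal_map, apply_ite]
  refine ⟨σ, inferInstance, i, hi, ?_, ⟨Iso.refl _⟩, g, φ, heq⟩
  refine isClosedImmersion_of_bc (K := K) i ?_
  have e : (Over.pullback (bmap k K)).map i = φ.inv ≫ AGF.conjBy g i' := by rw [heq, Iso.inv_hom_id_assoc]
  rw [e, Over.comp_left]
  haveI := isClosedImmersion_conjBy g i'
  haveI : IsIso φ.inv.left := inferInstanceAs (IsIso ((Over.forget _).map φ.inv))
  infer_instance

end Groth.Agent.S19281
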