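import Groth.Statements.S19284
import Groth.Agent.NFApprox.Decomp
-- import your own Groth.Agent.* helpers here

set_option autoImplicit false
universe u
open NumberField

namespace Groth.Agent.S19284
open IsDedekindDomain HeightOneSpectrum NumberField in
open scoped Classical Pointwise in
/-- The field-theoretic part, inside a Galois closure. -/
theorem core {K L M : Type u} [Field K] [NumberField K] [Field L] [NumberField L] [Algebra K L]
    [Field M] [NumberField M] [Algebra K M] [IsGalois K M]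
    (p : ℕ) [Fact p.Prime] (e : (L →ₐ[K] M) ≃ ZMod p)
    (haff : ∀ σ : M ≃ₐ[K] M, ∃ a b : ZMod p, a ≠ 0 ∧ ∀ φ : L →ₐ[K] M, e (σ.toAlgHom.comp φ) = a * e φ + b)
    (hgen : ∀ σ : M ≃ₐ[K] M, (∀ φ : L →ₐ[K] M, σ.toAlgHom.comp φ = φ) → σ = 1)
    (hnab : IsGalois K L → ∃ σ τ : L ≃ₐ[K] L, σ * τ ≠ τ * σ) :
    ∃ E : IntermediateField K M, IsGalois K E ∧ IsCyclic (E ≃ₐ[K] E) ∧ 1 < Module.finrank K E ∧
      ∀ w : HeightOneSpectrum (𝓞 K),
        (∀ P : Ideal (𝓞 L), P.IsPrime → P.LiesOver w.asIdeal → P.ramificationIdx (𝓞 K) = 1) →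
        Nonempty (E →ₐ[K] w.adicCompletion K) ∨ Nonempty (L →ₐ[K] w.adicCompletion K) := by
  let G := M ≃ₐ[K] M
  choose A B hA0 hAB using haff
  have huniq : ∀ (σ : G) (a b : ZMod p), (∀ φ : L →ₐ[K] M, e (σ.toAlgHom.comp φ) = a * e φ + b) →
      A σ = a ∧ B σ = b := by
    intro σ a b h
    have h0 := (hAB σ (e.symm 0)).symm.trans (h (e.symm 0))
    have h1 := (hAB σ (e.symm 1)).symm.trans (h (e.symm 1))
    simp only [Equiv.apply_symm_apply, mul_zero, zero_add, mul_one] at h0 h1
    rw [h0] at h1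
    exact ⟨add_right_cancel h1, h0⟩
  have hone : A 1 = 1 := (huniq 1 1 0 fun φ => by
    rw [show (1 : G).toAlgHom.comp φ = φ from rfl, one_mul, add_zero]).1
  have hmul : ∀ σ τ, A (σ * τ) = A σ * A τ := fun σ τ => (huniq (σ * τ) (A σ * A τ) (A σ * B τ + B σ) fun φ => by
    rw [show (σ * τ : G).toAlgHom.comp φ = σ.toAlgHom.comp (τ.toAlgHom.comp φ) from rfl, hAB, hAB]
    ring).1
  let χ : G →* (ZMod p)ˣ :=
    { toFun := fun σ => Units.mk0 (A σ) (hA0 σ)
      map_one' := Units.ext hone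
      map_mul' := fun σ τ => Units.ext (hmul σ τ) }
  have hχ : ∀ σ : G, σ ∈ χ.ker ↔ A σ = 1 := fun σ => by rw [MonoidHom.mem_ker, Units.ext_iff]; rfl
  -- the group of translations is proper
  have htop : χ.ker ≠ ⊤ := by
    intro h
    have hA : ∀ σ, A σ = 1 := fun σ => (hχ σ).1 (h ▸ Subgroup.mem_top σ)
    have hcomm : ∀ σ τ : G, σ * τ = τ * σ := by
      intro σ τ
      refine inv_mul_eq_one.1 (hgen _ fun φ => e.injective ?_)
      have hinv : ∀ (γ : G) (ψ : L →ₐ[K] M), e (γ.toAlgHom.comp ψ) = e ψ + B γ := fun γ ψ => by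
        rw [hAB, hA, one_mul]
      have h2 := hinv (σ * τ) ((σ * τ : G)⁻¹.toAlgHom.comp ((τ * σ : G).toAlgHom.comp φ))
      rw [show ((σ * τ : G)⁻¹ * (τ * σ)).toAlgHom.comp φ =
        (σ * τ : G)⁻¹.toAlgHom.comp ((τ * σ : G).toAlgHom.comp φ) from rfl]
      rw [show (σ * τ : G).toAlgHom.comp ((σ * τ : G)⁻¹.toAlgHom.comp ((τ * σ : G).toAlgHom.comp φ)) =
        (τ * σ : G).toAlgHom.comp φ from AlgHom.ext fun y => (σ * τ).apply_symm_apply _] at h2
      rw [hinv, show B (τ * σ) = B (σ * τ) from ?_] at h2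
      · exact (add_right_cancel h2).symm
      · have h3 : ∀ γ δ : G, B (γ * δ) = B δ + B γ := fun γ δ => (huniq (γ * δ) 1 (B δ + B γ) fun ψ => by
          rw [show (γ * δ : G).toAlgHom.comp ψ = γ.toAlgHom.comp (δ.toAlgHom.comp ψ) from rfl, hinv, hinv,
            one_mul, add_assoc]).2
        rw [h3, h3, add_comm]
    set φ₀ := e.symm 0
    have hrange : φ₀.fieldRange = ⊤ := by
      rw [← IsGalois.fixedField_fixingSubgroup φ₀.fieldRange,
        show φ₀.fieldRange.fixingSubgroup = ⊥ from ?_, IntermediateField.fixedField_bot]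
      rw [eq_bot_iff]
      intro σ hσ
      refine hgen σ fun φ => e.injective ?_
      have h0 : σ.toAlgHom.comp φ₀ = φ₀ := AlgHom.ext fun y => hσ ⟨φ₀ y, ⟨y, rfl⟩⟩
      have hB : B σ = 0 := by simpa [h0, φ₀] using (hAB σ φ₀).symm
      rw [hAB, hA, hB, one_mul, add_zero]
    have hbij : Function.Bijective φ₀ := ⟨φ₀.injective, fun y => by
      obtain ⟨x, hx⟩ := (hrange ▸ IntermediateField.mem_top : y ∈ φ₀.fieldRange)
      exact ⟨x, hx⟩⟩
    let i := AlgEquiv.ofBijective φ₀ hbij
    obtain ⟨σ, τ, hne⟩ := hnab (IsGalois.of_algEquiv i.symm)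
    refine hne (i.autCongr.injective ?_)
    rw [map_mul, map_mul]
    exact hcomm _ _
  let E := IntermediateField.fixedField χ.ker
  haveI : IsGalois K E := IsGalois.of_fixedField_normal_subgroup χ.ker
  refine ⟨E, inferInstance, ?_, ?_, fun w hw => ?_⟩
  · haveI : IsCyclic (G ⧸ χ.ker) := isCyclic_of_injective _ (QuotientGroup.kerLift_injective χ)
    exact (IsGalois.normalAutEquivQuotient χ.ker).isCyclic.1 inferInstance
  · by_contra h
    push Not at h
    have h1 : Module.finrank K E = 1 := le_antisymm h Module.finrank_pos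
    apply htop
    rw [← IntermediateField.fixingSubgroup_fixedField χ.ker,
      show IntermediateField.fixedField χ.ker = ⊥ from IntermediateField.finrank_eq_one_iff.1 h1,
      IntermediateField.fixingSubgroup_bot]
  obtain ⟨⟨P, hPprime, hPlies⟩⟩ := w.asIdeal.nonempty_primesOver (S := 𝓞 M)
  have hI : P.inertia (M ≃ₐ[K] M) = ⊥ := eq_bot_iff.2 fun σ hσ => hgen σ fun φ => AlgHom.ext fun x =>
    NFApprox.inertia_fixes w P φ hw hσ x
  haveI := NFApprox.isCyclic_stabilizer w P hI
  obtain ⟨⟨σ, hσ⟩, hgenD⟩ := IsCyclic.exists_generator (α := MulAction.stabilizer (M ≃ₐ[K] M) P)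
  have hfix : ∀ F : IntermediateField K M, (∀ x ∈ F, σ x = x) →
      Nonempty (F →ₐ[K] w.adicCompletion K) := by
    intro F hF
    refine NFApprox.exists_algHom_completion_of_fixed w P F fun τ hτ x hx => ?_
    have hle : MulAction.stabilizer (M ≃ₐ[K] M) P ≤ F.fixingSubgroup := by
      intro γ hγ
      obtain ⟨m, hm⟩ := Subgroup.mem_zpowers_iff.1 (hgenD ⟨γ, hγ⟩)
      have : γ = σ ^ m := (congrArg Subtype.val hm).symm
      rw [this]
      exact zpow_mem ((IntermediateField.mem_fixingSubgroup_iff F σ).2 hF) m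
    exact (IntermediateField.mem_fixingSubgroup_iff F τ).1 (hle hτ) x hx
  by_cases h1 : A σ = 1
  · exact Or.inl (hfix E fun x hx => hx ⟨σ, (hχ σ).2 h1⟩)
  · right
    set ψ := e.symm (B σ / (1 - A σ))
    have hfixed : σ.toAlgHom.comp ψ = ψ := e.injective (by
      have hne : (1 : ZMod p) - A σ ≠ 0 := sub_ne_zero.2 (Ne.symm h1)
      rw [hAB]
      simp only [ψ, Equiv.apply_symm_apply]
      field_simp
      ring)
    obtain ⟨f⟩ := hfix ψ.fieldRange (by rintro _ ⟨y, rfl⟩; exact AlgHom.congr_fun hfixed y)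
    exact ⟨f.comp (ψ.codRestrict ψ.fieldRange.toSubalgebra fun y => ⟨y, rfl⟩)⟩


/-- Let L/K be a finite extension of number fields and Ω an algebraic closure of K. Suppose that L/K is
almost abelian in the non-abelian way: for some prime number p there is a bijection between the set
of K-embeddings L → Ω and Z/p under which every K-automorphism of Ω acts by an affine transformation
x ↦ a x + b with a ≠ 0, and L/K is not an abelian extension (it is not Galois with commutative
automorphism group). Then there is an intermediate extension K ⊂ E ⊂ Ω contained in the normal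
closure of L, Galois over K with nontrivial cyclic group, such that for every finite place w of K
which is unramified in L (every prime of the integers of L above w has ramification index 1), either
E admits a K-algebra embedding into the completion K_w (since E/K is Galois: w splits completely in
E) or L admits a K-algebra embedding into K_w (L has a place of degree 1 over w). (Only finite
places are treated here.) -/
theorem result (K L Ω : Type u) [Field K] [NumberField K]
    [Field L] [NumberField L] [Algebra K L] [Field Ω] [Algebra K Ω] [IsAlgClosure K Ω]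
    (p : ℕ) (hp : p.Prime) (e : (L →ₐ[K] Ω) ≃ ZMod p)
    (haff : ∀ σ : Ω ≃ₐ[K] Ω, ∃ a b : ZMod p, a ≠ 0 ∧
      ∀ φ : L →ₐ[K] Ω, e (σ.toAlgHom.comp φ) = a * e φ + b)
    (hnab : IsGalois K L → ∃ σ τ : L ≃ₐ[K] L, σ * τ ≠ τ * σ) :
    ∃ E : IntermediateField K Ω, E ≤ IntermediateField.normalClosure K L Ω ∧
      FiniteDimensional K E ∧ IsGalois K E ∧ IsCyclic (E ≃ₐ[K] E) ∧ 1 < Module.finrank K E ∧
      ∀ w : IsDedekindDomain.HeightOneSpectrum (NumberField.RingOfIntegers K),
        (∀ P : Ideal (NumberField.RingOfIntegers L), P.IsPrime → P.LiesOver w.asIdeal →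
          P.ramificationIdx (NumberField.RingOfIntegers K) = 1) →
        Nonempty (E →ₐ[K] w.adicCompletion K) ∨ Nonempty (L →ₐ[K] w.adicCompletion K) := by
  haveI := Fact.mk hp
  haveI : IsAlgClosed Ω := IsAlgClosure.isAlgClosed K
  haveI : Algebra.IsAlgebraic K Ω := IsAlgClosure.isAlgebraic
  haveI : Normal K Ω := inferInstance
  let M := IntermediateField.normalClosure K L Ω
  haveI : FiniteDimensional K M := inferInstance
  haveI : Normal K M := inferInstance
  haveI : IsGalois K M := ⟨⟩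
  haveI : NumberField M := NumberField.of_module_finite K M
  let j : (L →ₐ[K] M) ≃ (L →ₐ[K] Ω) := normalClosure.algHomEquiv K L Ω
  have hlift : ∀ σ : M ≃ₐ[K] M, ∃ σ' : Ω ≃ₐ[K] Ω, ∀ y : M, σ' (y : Ω) = (σ y : Ω) := by
    intro σ
    obtain ⟨σ', rfl⟩ := AlgEquiv.restrictNormalHom_surjective (K₁ := M) (E := Ω) σ
    exact ⟨σ', fun y => (σ'.restrictNormal_commutes M y).symm⟩
  have hcomp : ∀ (σ : M ≃ₐ[K] M) (σ' : Ω ≃ₐ[K] Ω), (∀ y : M, σ' (y : Ω) = (σ y : Ω)) →
      ∀ φ : L →ₐ[K] M, j (σ.toAlgHom.comp φ) = σ'.toAlgHom.comp (j φ) :=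
    fun σ σ' h φ => AlgHom.ext fun x => (h (φ x)).symm
  obtain ⟨E, hE, hcyc, hdeg, hw⟩ := core p (j.trans e) (fun σ => by
    obtain ⟨σ', hσ'⟩ := hlift σ
    obtain ⟨a, b, ha, hab⟩ := haff σ'
    exact ⟨a, b, ha, fun φ => by simp only [Equiv.trans_apply, hcomp σ σ' hσ', hab]⟩) (fun σ hσ => by
    obtain ⟨σ', hσ'⟩ := hlift σ
    refine AlgEquiv.ext fun y => Subtype.ext ?_
    rw [← hσ']
    have hle : IntermediateField.normalClosure K L Ω ≤ IntermediateField.fixedField (Subgroup.zpowers σ') := by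
      refine normalClosure_le_iff.2 fun φ => ?_
      rintro _ ⟨x, rfl⟩ ⟨γ, hγ⟩
      have h0 : σ' (φ x) = φ x := by
        have h1 := AlgHom.congr_fun (hcomp σ σ' hσ' (j.symm φ)) x
        rw [hσ, Equiv.apply_symm_apply] at h1
        exact h1.symm
      have : Subgroup.zpowers σ' ≤ MulAction.stabilizer (Ω ≃ₐ[K] Ω) (φ x) :=
        Subgroup.zpowers_le.2 h0
      exact this hγ
    exact hle y.2 ⟨σ', Subgroup.mem_zpowers σ'⟩) hnab
  let i := IntermediateField.liftAlgEquiv E
  refine ⟨IntermediateField.lift E, IntermediateField.lift_le E, Module.Finite.equiv i.toLinearEquiv,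
    IsGalois.of_algEquiv i, i.autCongr.isCyclic.1 hcyc, i.toLinearEquiv.finrank_eq ▸ hdeg, fun w h => ?_⟩
  rcases hw w h with ⟨⟨f⟩⟩ | h'
  · exact Or.inl ⟨f.comp i.symm.toAlgHom⟩
  · exact Or.inr h'

end Groth.Agent.S19284
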