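import Groth.Statements.S19285
import Groth.Agent.NFApprox.Linear
-- import your own Groth.Agent.* helpers here

set_option autoImplicit false
universe u
open scoped TensorProduct
open NumberField

namespace Groth.Agent.S19285

/-- A conjectured statement on locally split values of the polynomials t − a_i holds unconditionally
when the degrees [k_i : k] sum to at most 2. Precisely: let k be a number field, n ≥ 1, and for each
i let k_i = k(a_i) be a finite extension generated by a_i, the minimal polynomials of the a_i over k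
being pairwise distinct and the degrees [k_i : k] summing to at most 2; let L_i/k_i be finite
extensions and b_i ∈ k_i nonzero. Let S_f, S_∞ be finite sets of finite and infinite places of k
such that S_∞ contains every real place and S_f contains every finite place of k below a finite
place of some k_i at which b_i is not a unit or below a prime of some L_i ramified over k_i. For v ∈
S_f ∪ S_∞ let t_v ∈ k_v, with an open neighbourhood U_v, be such that for every i the element b_i
(t_v − a_i) of k_v ⊗_k k_i is the norm of a unit of the (k_v ⊗_k k_i)-algebra k_v ⊗_k L_i. Then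
there is t_0 ∈ k whose image lies in U_v for all v ∈ S_f ∪ S_∞ and such that for every i and every
finite place w of k_i at which t_0 − a_i has positive valuation, either w lies above a place of S_f
or L_i admits a k_i-algebra embedding into the completion (k_i)_w (a place of L_i of degree 1 over
w). -/
theorem result (k : Type u) [Field k] [NumberField k]
    (n : ℕ) (hn : 1 ≤ n)
    (kf : Fin n → Type u) [∀ i, Field (kf i)] [∀ i, NumberField (kf i)] [∀ i, Algebra k (kf i)]
    (Lf : Fin n → Type u) [∀ i, Field (Lf i)] [∀ i, NumberField (Lf i)] [∀ i, Algebra (kf i) (Lf i)]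
    [∀ i, Algebra k (Lf i)] [∀ i, IsScalarTower k (kf i) (Lf i)]
    (a : (i : Fin n) → kf i) (ha : ∀ i, IntermediateField.adjoin k {a i} = ⊤)
    (hdist : ∀ i j, i ≠ j → minpoly k (a i) ≠ minpoly k (a j))
    (hdeg : ∑ i, Module.finrank k (kf i) ≤ 2)
    (b : (i : Fin n) → kf i) (hb : ∀ i, b i ≠ 0)
    (Sf : Finset (IsDedekindDomain.HeightOneSpectrum (NumberField.RingOfIntegers k)))
    (Si : Finset (NumberField.InfinitePlace k))
    (hSreal : ∀ w : NumberField.InfinitePlace k, w.IsReal → w ∈ Si)
    (hSb : ∀ i, ∀ W : IsDedekindDomain.HeightOneSpectrum (NumberField.RingOfIntegers (kf i)),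
      W.valuation (kf i) (b i) ≠ 1 → ∃ v ∈ Sf, W.asIdeal.LiesOver v.asIdeal)
    (hSram : ∀ i, ∀ Q : Ideal (NumberField.RingOfIntegers (Lf i)), Q.IsPrime → Q ≠ ⊥ →
      Q.ramificationIdx (NumberField.RingOfIntegers (kf i)) ≠ 1 → ∃ v ∈ Sf, Q.LiesOver v.asIdeal)
    (tf : (v : IsDedekindDomain.HeightOneSpectrum (NumberField.RingOfIntegers k)) → v.adicCompletion k)
    (ti : (w : NumberField.InfinitePlace k) → w.Completion)
    (htf : ∀ i, ∀ v ∈ Sf,
      letI := (Algebra.TensorProduct.map (AlgHom.id k (v.adicCompletion k))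
        (IsScalarTower.toAlgHom k (kf i) (Lf i))).toRingHom.toAlgebra
      ∃ x : (v.adicCompletion k) ⊗[k] Lf i, IsUnit x ∧
        Algebra.norm ((v.adicCompletion k) ⊗[k] kf i) x =
          (1 : v.adicCompletion k) ⊗ₜ[k] b i * (tf v ⊗ₜ[k] (1 : kf i) - (1 : v.adicCompletion k) ⊗ₜ[k] a i))
    (hti : ∀ i, ∀ w ∈ Si,
      letI := (Algebra.TensorProduct.map (AlgHom.id k w.Completion)
        (IsScalarTower.toAlgHom k (kf i) (Lf i))).toRingHom.toAlgebra
      ∃ x : w.Completion ⊗[k] Lf i, IsUnit x ∧
        Algebra.norm (w.Completion ⊗[k] kf i) x =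
          (1 : w.Completion) ⊗ₜ[k] b i * (ti w ⊗ₜ[k] (1 : kf i) - (1 : w.Completion) ⊗ₜ[k] a i))
    (Uf : (v : IsDedekindDomain.HeightOneSpectrum (NumberField.RingOfIntegers k)) → Set (v.adicCompletion k))
    (hUf : ∀ v ∈ Sf, IsOpen (Uf v) ∧ tf v ∈ Uf v)
    (Ui : (w : NumberField.InfinitePlace k) → Set w.Completion)
    (hUi : ∀ w ∈ Si, IsOpen (Ui w) ∧ ti w ∈ Ui w) :
    ∃ t₀ : k, (∀ v ∈ Sf, algebraMap k (v.adicCompletion k) t₀ ∈ Uf v) ∧
      (∀ w ∈ Si, algebraMap k w.Completion t₀ ∈ Ui w) ∧
      ∀ i, ∀ W : IsDedekindDomain.HeightOneSpectrum (NumberField.RingOfIntegers (kf i)),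
        W.valuation (kf i) (algebraMap k (kf i) t₀ - a i) < 1 →
          (∃ v ∈ Sf, W.asIdeal.LiesOver v.asIdeal) ∨ Nonempty (Lf i →ₐ[kf i] W.adicCompletion (kf i)) := by
  have hpos : ∀ i, 0 < Module.finrank k (kf i) := fun i => Module.finrank_pos
  have hSb' : ∀ i, ∀ W : IsDedekindDomain.HeightOneSpectrum (NumberField.RingOfIntegers (kf i)),
      W.valuation (kf i) (b i) ≠ 1 → Groth.Agent.NFApprox.under k W ∈ Sf := fun i W h => by
    obtain ⟨v, hv, hlo⟩ := hSb i W h
    rwa [(Groth.Agent.NFApprox.under_eq_iff W v).2 hlo]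
  have hSram' : ∀ i, ∀ Q : IsDedekindDomain.HeightOneSpectrum (NumberField.RingOfIntegers (Lf i)),
      Groth.Agent.NFApprox.ramIdx (kf i) Q ≠ 1 →
        Groth.Agent.NFApprox.under k (Groth.Agent.NFApprox.under (kf i) Q) ∈ Sf := fun i Q h => by
    have e1 : Q.asIdeal.ramificationIdx (NumberField.RingOfIntegers (kf i)) = Groth.Agent.NFApprox.ramIdx (kf i) Q :=
      (Ideal.ramificationIdx'_eq_ramificationIdx (Groth.Agent.NFApprox.under (kf i) Q).asIdeal Q.asIdeal
        (Groth.Agent.NFApprox.under (kf i) Q).ne_bot).symm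
    obtain ⟨v, hv, hlo⟩ := hSram i Q.asIdeal Q.isPrime Q.ne_bot (by rw [e1]; exact h)
    have : (Groth.Agent.NFApprox.under (kf i) Q).asIdeal.LiesOver v.asIdeal :=
      Ideal.LiesOver.tower_bot Q.asIdeal _ _
    rwa [(Groth.Agent.NFApprox.under_eq_iff _ v).2 this]
  suffices hex : ∃ (Λ M : ((i : Fin n) → kf i) →ₗ[k] k) (l₀ m₀ : k),
      (∀ y i, y i = b i * (algebraMap k (kf i) (l₀ + Λ y) - algebraMap k (kf i) (m₀ + M y) * a i)) ∧
      (∀ t : k, l₀ + Λ (fun i => b i * (algebraMap k (kf i) t - a i)) = t ∧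
        m₀ + M (fun i => b i * (algebraMap k (kf i) t - a i)) = 1) ∧
      ∀ s : k, m₀ + M (fun i => b i * (1 - algebraMap k (kf i) s * a i)) = 1 ∨
        m₀ + M (fun i => b i * (1 - algebraMap k (kf i) s * a i)) = s by
    obtain ⟨Λ, M, l₀, m₀, H1, H2, H3⟩ := hex
    exact Groth.Agent.NFApprox.exists_t0 a b hb Λ M l₀ m₀ H1 H2 H3 Sf Si hSb' hSram' tf ti
      (fun i v hv => by obtain ⟨x, -, hx⟩ := htf i v hv; exact ⟨x, hx⟩)
      (fun i w hw => by obtain ⟨x, -, hx⟩ := hti i w hw; exact ⟨x, hx⟩) Uf hUf Ui hUi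
  set T : k × k →ₗ[k] ((i : Fin n) → kf i) :=
    { toFun := fun x i => b i * (algebraMap k (kf i) x.1 - algebraMap k (kf i) x.2 * a i)
      map_add' := fun x y => by funext i; simp only [Prod.fst_add, Prod.snd_add, map_add, Pi.add_apply]; ring
      map_smul' := fun r x => by
        funext i
        simp only [Prod.smul_fst, Prod.smul_snd, smul_eq_mul, map_mul, Pi.smul_apply, RingHom.id_apply]; rw [Algebra.smul_def]
        ring } with hT
  by_cases h1 : ∑ i, Module.finrank k (kf i) = 1
  · have hn1 : n = 1 := by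
      have : ∑ _i : Fin n, 1 ≤ ∑ i, Module.finrank k (kf i) := Finset.sum_le_sum fun i _ => hpos i
      simp at this; omega
    subst hn1
    rw [Fin.sum_univ_one] at h1
    have hsurj : Function.Surjective (algebraMap k (kf 0)) := fun x => by
      obtain ⟨c, hc⟩ := (finrank_eq_one_iff_of_nonzero' (1 : kf 0) one_ne_zero).1 h1 x
      exact ⟨c, by rw [Algebra.algebraMap_eq_smul_one]; exact hc⟩
    set φ : k ≃ₐ[k] kf 0 := AlgEquiv.ofBijective (Algebra.ofId k (kf 0)) ⟨(algebraMap k (kf 0)).injective, hsurj⟩
    have hφ : ∀ x, algebraMap k (kf 0) (φ.symm x) = x := fun x => φ.apply_symm_apply x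
    refine ⟨φ.symm.toLinearMap ∘ₗ LinearMap.mulLeft k (b 0)⁻¹ ∘ₗ LinearMap.proj 0, 0, φ.symm (a 0), 1,
      fun y i => ?_, fun t => ⟨?_, by simp⟩, fun s => Or.inl (by simp)⟩
    · obtain rfl : i = 0 := Subsingleton.elim _ _
      simp only [LinearMap.comp_apply, LinearMap.proj_apply, LinearMap.mulLeft_apply, LinearMap.zero_apply,
        add_zero, map_one, one_mul, map_add, AlgEquiv.toLinearMap_apply, hφ]
      field_simp [hb 0]
      ring
    · apply (algebraMap k (kf 0)).injective
      simp only [LinearMap.comp_apply, LinearMap.proj_apply, LinearMap.mulLeft_apply, map_add,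
        AlgEquiv.toLinearMap_apply, hφ]
      field_simp [hb 0]
      ring
  · have hsum : ∑ i, Module.finrank k (kf i) = 2 := by
      have : ∑ _i : Fin n, 1 ≤ ∑ i, Module.finrank k (kf i) := Finset.sum_le_sum fun i _ => hpos i
      simp at this; omega
    have hinj : Function.Injective T := by
      rw [injective_iff_map_eq_zero]
      rintro ⟨l, μ⟩ hx
      have hx' : ∀ i, algebraMap k (kf i) l = algebraMap k (kf i) μ * a i := fun i => by
        have := congrFun hx i
        simp only [hT, LinearMap.coe_mk, AddHom.coe_mk, Pi.zero_apply, mul_eq_zero, hb i, false_or, sub_eq_zero] at this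
        exact this
      by_cases hμ : μ = 0
      · subst hμ
        have := hx' ⟨0, hn⟩
        simp only [map_zero, zero_mul, map_eq_zero] at this
        simp [this]
      exfalso
      have hai : ∀ i, a i = algebraMap k (kf i) (l / μ) := fun i => by
        rw [map_div₀, hx' i, mul_div_cancel_left₀ _ (by simpa using hμ)]
      have hsub : Subsingleton (Fin n) := ⟨fun i j => by
        by_contra hij
        exact hdist i j hij (by rw [hai i, hai j, minpoly.eq_X_sub_C, minpoly.eq_X_sub_C])⟩
      have hfr : ∀ i, Module.finrank k (kf i) = 1 := fun i => by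
        have hbot : IntermediateField.adjoin k {a i} = ⊥ :=
          IntermediateField.adjoin_simple_eq_bot_iff.2 ⟨l / μ, (hai i).symm⟩
        have h := IntermediateField.finrank_top' (F := k) (E := kf i)
        rw [← ha i, hbot, IntermediateField.finrank_bot] at h
        exact h.symm
      rw [Fintype.sum_subsingleton _ (⟨0, hn⟩ : Fin n), hfr] at hsum
      omega
    have hdim : Module.finrank k (k × k) = Module.finrank k ((i : Fin n) → kf i) := by
      rw [Module.finrank_prod, Module.finrank_self, Module.finrank_pi_fintype, hsum]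
    set e := LinearEquiv.ofInjectiveOfFinrankEq T hinj hdim
    have he : ∀ x, e x = T x := fun x => rfl
    have hkey : ∀ l μ : k, e.symm (fun i => b i * (algebraMap k (kf i) l - algebraMap k (kf i) μ * a i)) = (l, μ) :=
      fun l μ => by rw [LinearEquiv.symm_apply_eq, he]; rfl
    refine ⟨LinearMap.fst k k k ∘ₗ e.symm.toLinearMap, LinearMap.snd k k k ∘ₗ e.symm.toLinearMap, 0, 0,
      fun y i => ?_, fun t => ?_, fun s => Or.inr ?_⟩
    · have := congrFun (he (e.symm y)) i
      rw [e.apply_symm_apply] at this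
      simpa [hT] using this
    · have := hkey t 1
      simp only [map_one, one_mul] at this
      simp [this]
    · have := hkey 1 s
      simp only [map_one] at this
      simp [this]

end Groth.Agent.S19285
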