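import Groth.Statements.S19286
import Groth.Agent.NFApprox.NormUnit
-- import your own Groth.Agent.* helpers here

set_option autoImplicit false
universe u
open scoped TensorProduct
open NumberField

namespace Groth.Agent.S19286
/-- The change of coordinate on the norm condition. -/
theorem key {k A K : Type u} [Field k] [Field A] [Algebra k A] [Field K] [Algebra k K]
    (α β γ δ : k) (t t' : A) (a a' b b' : K)
    (ht : algebraMap k A γ * t + algebraMap k A δ ≠ 0)
    (ha : algebraMap k K γ * a + algebraMap k K δ ≠ 0)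
    (ht' : t' = (algebraMap k A α * t + algebraMap k A β) / (algebraMap k A γ * t + algebraMap k A δ))
    (ha' : a' = (algebraMap k K α * a + algebraMap k K β) / (algebraMap k K γ * a + algebraMap k K δ))
    (hb' : b' = b * (algebraMap k K γ * a + algebraMap k K δ)) :
    (1 : A) ⊗ₜ[k] b' * (t' ⊗ₜ[k] (1 : K) - (1 : A) ⊗ₜ[k] a') =
      ((1 : A) ⊗ₜ[k] b * (t ⊗ₜ[k] (1 : K) - (1 : A) ⊗ₜ[k] a)) *
        (algebraMap k A (α * δ - β * γ) / (algebraMap k A γ * t + algebraMap k A δ)) ⊗ₜ[k] (1 : K) := by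
  let i : A →ₐ[k] A ⊗[k] K := Algebra.TensorProduct.includeLeft
  let j : K →ₐ[k] A ⊗[k] K := Algebra.TensorProduct.includeRight
  show j b' * (i t' - j a') = (j b * (i t - j a)) * i (algebraMap k A (α * δ - β * γ) / _)
  refine ((Ne.isUnit ht).map i).mul_right_cancel ?_
  rw [mul_assoc (j b * (i t - j a)), ← map_mul i, div_mul_cancel₀ _ ht]
  have e1 : i t' * i (algebraMap k A γ * t + algebraMap k A δ) = i (algebraMap k A α * t + algebraMap k A β) := by
    rw [← map_mul, ht', div_mul_cancel₀ _ ht]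
  have e2 : j a' * j (algebraMap k K γ * a + algebraMap k K δ) = j (algebraMap k K α * a + algebraMap k K β) := by
    rw [← map_mul, ha', div_mul_cancel₀ _ ha]
  rw [hb', map_mul]
  simp only [map_add, map_mul, map_sub, AlgHom.commutes] at e1 e2 ⊢
  linear_combination (j b * (algebraMap k _ γ * j a + algebraMap k _ δ)) * e1 -
    (j b * (algebraMap k _ γ * i t + algebraMap k _ δ)) * e2

/-- The inverse change of coordinate is continuous. -/
theorem nhd {k A : Type u} [Field k] [Field A] [Algebra k A] [TopologicalSpace A] [IsTopologicalRing A]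
    [ContinuousInv₀ A] [T1Space A]
    (α β γ δ : k) (hdet : α * δ - β * γ ≠ 0) (t t' : A) (ht : algebraMap k A γ * t + algebraMap k A δ ≠ 0)
    (ht' : t' = (algebraMap k A α * t + algebraMap k A β) / (algebraMap k A γ * t + algebraMap k A δ))
    (U : Set A) (hU : IsOpen U) (htU : t ∈ U) :
    ∃ U' : Set A, IsOpen U' ∧ t' ∈ U' ∧
      ∀ t₀' : k, α ≠ γ * t₀' → algebraMap k A t₀' ∈ U' → algebraMap k A ((δ * t₀' - β) / (α - γ * t₀')) ∈ U := by
  set g : A → A := fun x => (algebraMap k A δ * x - algebraMap k A β) / (algebraMap k A α - algebraMap k A γ * x)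
  set S : Set A := {x | algebraMap k A α - algebraMap k A γ * x ≠ 0}
  have hS : IsOpen S := isOpen_ne.preimage (by fun_prop)
  have hg : ContinuousOn g S := ContinuousOn.div (by fun_prop) (by fun_prop) fun x hx => hx
  have hden : (algebraMap k A α - algebraMap k A γ * t') * (algebraMap k A γ * t + algebraMap k A δ) =
      algebraMap k A (α * δ - β * γ) := by
    rw [sub_mul, mul_assoc, ht', div_mul_cancel₀ _ ht, map_sub, map_mul, map_mul]; ring
  have hden0 : algebraMap k A α - algebraMap k A γ * t' ≠ 0 := fun h => by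
    rw [h, zero_mul] at hden
    exact hdet ((algebraMap k A).injective (hden.symm.trans (map_zero _).symm))
  refine ⟨S ∩ g ⁻¹' U, hg.isOpen_inter_preimage hS hU, ⟨hden0, ?_⟩, fun t₀' hne h => ?_⟩
  · have : g t' = t := by
      simp only [g]
      rw [div_eq_iff hden0]
      refine mul_right_cancel₀ ht ?_
      rw [mul_assoc t, hden, sub_mul, mul_assoc, ht', div_mul_cancel₀ _ ht, map_sub, map_mul, map_mul]; ring
    show g t' ∈ U
    rwa [this]
  · have := h.2
    simpa [g, map_div₀, map_sub, map_mul] using this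


/-- Invariance, under a linear change of coordinate on the projective line, of the hypotheses (the data
listed next) of a conjecture on locally split values. Data: k a number field, n ≥ 1, k_i = k(a_i)
with pairwise distinct minimal polynomials, L_i/k_i finite, b_i ∈ k_i nonzero, finite sets S_f ⊇
(finite places below a non-unit place of some b_i or a ramified prime of some L_i/k_i), S_∞ ⊇ real
places, t_v ∈ k_v for v ∈ S_f ∪ S_∞ with b_i(t_v − a_i) the norm of a unit of k_v ⊗_k L_i over k_v
⊗_k k_i. Let α, β, γ, δ ∈ k with αδ − βγ ≠ 0 satisfy: (i) γa_i + δ ≠ 0 for all i and γt_v + δ ≠ 0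
for v ∈ S_f ∪ S_∞; (ii) α is a unit at every finite place outside S_f and αa_i + β is a unit at
every finite place of k_i not above S_f; (iii) for every i and v ∈ S_f ∪ S_∞, (αδ − βγ)/(γt_v + δ)
is the norm of a unit of k_v ⊗_k L_i. Put a'_i = (αa_i + β)/(γa_i + δ), b'_i = b_i(γa_i + δ); let
S'_f ⊇ S_f be a finite set of finite places containing those where α or γ is not integral and those
below a place of some k_i where a'_i is not integral or b'_i is not a unit; put t'_v = (αt_v +
β)/(γt_v + δ) for v ∈ S_f ∪ S_∞ and t'_v = 0 for v ∈ S'_f ∖ S_f; for t'_0 ∈ k with α ≠ γt'_0 write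
t_0 = (δt'_0 − β)/(α − γt'_0). Then: (1) for every i and v ∈ S'_f ∪ S_∞, b'_i(t'_v − a'_i) is the
norm of a unit of k_v ⊗_k L_i over k_v ⊗_k k_i; (2) for v ∈ S_f ∪ S_∞ and every neighbourhood U of
t_v there is a neighbourhood U' of t'_v such that t'_0 ∈ U' forces t_0 ∈ U; (4) there are
neighbourhoods U'_v of 0 in k_v for v ∈ S'_f ∖ S_f such that whenever t'_0 ∈ U'_v for all such v,
every finite place w of some k_i with w(t_0 − a_i) > 0 either lies above S_f, or does not lie above
S'_f and satisfies w(t'_0 − a'_i) > 0. (The published statement's S' may also contain further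
infinite places, and it has a further conclusion on signs at real places; both are omitted here.) -/
theorem result (k : Type u) [Field k] [NumberField k]
    (n : ℕ) (hn : 1 ≤ n)
    (kf : Fin n → Type u) [∀ i, Field (kf i)] [∀ i, NumberField (kf i)] [∀ i, Algebra k (kf i)]
    (Lf : Fin n → Type u) [∀ i, Field (Lf i)] [∀ i, NumberField (Lf i)] [∀ i, Algebra (kf i) (Lf i)]
    [∀ i, Algebra k (Lf i)] [∀ i, IsScalarTower k (kf i) (Lf i)]
    (a : (i : Fin n) → kf i) (ha : ∀ i, IntermediateField.adjoin k {a i} = ⊤)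
    (hdist : ∀ i j, i ≠ j → minpoly k (a i) ≠ minpoly k (a j))
    (b : (i : Fin n) → kf i) (hb : ∀ i, b i ≠ 0)
    (Sf : Finset (IsDedekindDomain.HeightOneSpectrum (NumberField.RingOfIntegers k)))
    (Si : Finset (NumberField.InfinitePlace k))
    (hSreal : ∀ w : NumberField.InfinitePlace k, w.IsReal → w ∈ Si)
    (hSb : ∀ i, ∀ W : IsDedekindDomain.HeightOneSpectrum (NumberField.RingOfIntegers (kf i)),
      W.valuation (kf i) (b i) ≠ 1 → ∃ v ∈ Sf, W.asIdeal.LiesOver v.asIdeal)
    (hSram : ∀ i, ∀ Q : Ideal (NumberField.RingOfIntegers (Lf i)), Q.IsPrime → Q ≠ ⊥ →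
      Q.ramificationIdx (NumberField.RingOfIntegers (kf i)) ≠ 1 → ∃ v ∈ Sf, Q.LiesOver v.asIdeal)
    (tf : (v : IsDedekindDomain.HeightOneSpectrum (NumberField.RingOfIntegers k)) → v.adicCompletion k)
    (ti : (w : NumberField.InfinitePlace k) → w.Completion)
    (htf : ∀ i, ∀ v ∈ Sf,
      letI := (Algebra.TensorProduct.map (AlgHom.id k (v.adicCompletion k))
        (IsScalarTower.toAlgHom k (kf i) (Lf i))).toRingHom.toAlgebra
      ∃ x : (v.adicCompletion k) ⊗[k] Lf i, IsUnit x ∧
        Algebra.norm ((v.adicCompletion k) ⊗[k] kf i) x =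
          (1 : v.adicCompletion k) ⊗ₜ[k] b i * (tf v ⊗ₜ[k] (1 : kf i) - (1 : v.adicCompletion k) ⊗ₜ[k] a i))
    (hti : ∀ i, ∀ w ∈ Si,
      letI := (Algebra.TensorProduct.map (AlgHom.id k w.Completion)
        (IsScalarTower.toAlgHom k (kf i) (Lf i))).toRingHom.toAlgebra
      ∃ x : w.Completion ⊗[k] Lf i, IsUnit x ∧
        Algebra.norm (w.Completion ⊗[k] kf i) x =
          (1 : w.Completion) ⊗ₜ[k] b i * (ti w ⊗ₜ[k] (1 : kf i) - (1 : w.Completion) ⊗ₜ[k] a i))
    (α β γ δ : k) (hdet : α * δ - β * γ ≠ 0)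
    (hia : ∀ i, algebraMap k (kf i) γ * a i + algebraMap k (kf i) δ ≠ 0)
    (hitf : ∀ v ∈ Sf, algebraMap k (v.adicCompletion k) γ * tf v + algebraMap k (v.adicCompletion k) δ ≠ 0)
    (hiti : ∀ w ∈ Si, algebraMap k w.Completion γ * ti w + algebraMap k w.Completion δ ≠ 0)
    (hiiα : ∀ v : IsDedekindDomain.HeightOneSpectrum (NumberField.RingOfIntegers k), v ∉ Sf → v.valuation k α = 1)
    (hiia : ∀ i, ∀ W : IsDedekindDomain.HeightOneSpectrum (NumberField.RingOfIntegers (kf i)),
      (¬ ∃ v ∈ Sf, W.asIdeal.LiesOver v.asIdeal) →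
        W.valuation (kf i) (algebraMap k (kf i) α * a i + algebraMap k (kf i) β) = 1)
    (hiiif : ∀ i, ∀ v ∈ Sf,
      letI := (Algebra.TensorProduct.map (AlgHom.id k (v.adicCompletion k))
        (IsScalarTower.toAlgHom k (kf i) (Lf i))).toRingHom.toAlgebra
      ∃ y : (v.adicCompletion k) ⊗[k] Lf i, IsUnit y ∧
        Algebra.norm ((v.adicCompletion k) ⊗[k] kf i) y =
          (algebraMap k (v.adicCompletion k) (α * δ - β * γ) /
            (algebraMap k (v.adicCompletion k) γ * tf v + algebraMap k (v.adicCompletion k) δ)) ⊗ₜ[k] (1 : kf i))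
    (hiiii : ∀ i, ∀ w ∈ Si,
      letI := (Algebra.TensorProduct.map (AlgHom.id k w.Completion)
        (IsScalarTower.toAlgHom k (kf i) (Lf i))).toRingHom.toAlgebra
      ∃ y : w.Completion ⊗[k] Lf i, IsUnit y ∧
        Algebra.norm (w.Completion ⊗[k] kf i) y =
          (algebraMap k w.Completion (α * δ - β * γ) /
            (algebraMap k w.Completion γ * ti w + algebraMap k w.Completion δ)) ⊗ₜ[k] (1 : kf i))
    (a' b' : (i : Fin n) → kf i)
    (ha' : ∀ i, a' i = (algebraMap k (kf i) α * a i + algebraMap k (kf i) β) /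
      (algebraMap k (kf i) γ * a i + algebraMap k (kf i) δ))
    (hb' : ∀ i, b' i = b i * (algebraMap k (kf i) γ * a i + algebraMap k (kf i) δ))
    (Sf' : Finset (IsDedekindDomain.HeightOneSpectrum (NumberField.RingOfIntegers k))) (hSS' : Sf ⊆ Sf')
    (hS'αγ : ∀ v : IsDedekindDomain.HeightOneSpectrum (NumberField.RingOfIntegers k), v ∉ Sf' →
      v.valuation k α ≤ 1 ∧ v.valuation k γ ≤ 1)
    (hS'ab : ∀ i, ∀ W : IsDedekindDomain.HeightOneSpectrum (NumberField.RingOfIntegers (kf i)),
      (¬ ∃ v ∈ Sf', W.asIdeal.LiesOver v.asIdeal) → W.valuation (kf i) (a' i) ≤ 1 ∧ W.valuation (kf i) (b' i) = 1)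
    (tf' : (v : IsDedekindDomain.HeightOneSpectrum (NumberField.RingOfIntegers k)) → v.adicCompletion k)
    (htf'S : ∀ v ∈ Sf, tf' v = (algebraMap k (v.adicCompletion k) α * tf v + algebraMap k (v.adicCompletion k) β) /
      (algebraMap k (v.adicCompletion k) γ * tf v + algebraMap k (v.adicCompletion k) δ))
    (htf'S' : ∀ v ∈ Sf', v ∉ Sf → tf' v = 0)
    (ti' : (w : NumberField.InfinitePlace k) → w.Completion)
    (hti' : ∀ w ∈ Si, ti' w = (algebraMap k w.Completion α * ti w + algebraMap k w.Completion β) /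
      (algebraMap k w.Completion γ * ti w + algebraMap k w.Completion δ)) :
    (∀ i, ∀ v ∈ Sf',
      letI := (Algebra.TensorProduct.map (AlgHom.id k (v.adicCompletion k))
        (IsScalarTower.toAlgHom k (kf i) (Lf i))).toRingHom.toAlgebra
      ∃ x : (v.adicCompletion k) ⊗[k] Lf i, IsUnit x ∧
        Algebra.norm ((v.adicCompletion k) ⊗[k] kf i) x =
          (1 : v.adicCompletion k) ⊗ₜ[k] b' i * (tf' v ⊗ₜ[k] (1 : kf i) - (1 : v.adicCompletion k) ⊗ₜ[k] a' i)) ∧
    (∀ i, ∀ w ∈ Si,
      letI := (Algebra.TensorProduct.map (AlgHom.id k w.Completion)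
        (IsScalarTower.toAlgHom k (kf i) (Lf i))).toRingHom.toAlgebra
      ∃ x : w.Completion ⊗[k] Lf i, IsUnit x ∧
        Algebra.norm (w.Completion ⊗[k] kf i) x =
          (1 : w.Completion) ⊗ₜ[k] b' i * (ti' w ⊗ₜ[k] (1 : kf i) - (1 : w.Completion) ⊗ₜ[k] a' i)) ∧
    (∀ v ∈ Sf, ∀ U : Set (v.adicCompletion k), IsOpen U → tf v ∈ U →
      ∃ U' : Set (v.adicCompletion k), IsOpen U' ∧ tf' v ∈ U' ∧
        ∀ t₀' : k, α ≠ γ * t₀' → algebraMap k (v.adicCompletion k) t₀' ∈ U' →
          algebraMap k (v.adicCompletion k) ((δ * t₀' - β) / (α - γ * t₀')) ∈ U) ∧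
    (∀ w ∈ Si, ∀ U : Set w.Completion, IsOpen U → ti w ∈ U →
      ∃ U' : Set w.Completion, IsOpen U' ∧ ti' w ∈ U' ∧
        ∀ t₀' : k, α ≠ γ * t₀' → algebraMap k w.Completion t₀' ∈ U' →
          algebraMap k w.Completion ((δ * t₀' - β) / (α - γ * t₀')) ∈ U) ∧
    (∃ U' : (v : IsDedekindDomain.HeightOneSpectrum (NumberField.RingOfIntegers k)) → Set (v.adicCompletion k),
      (∀ v ∈ Sf', v ∉ Sf → IsOpen (U' v) ∧ (0 : v.adicCompletion k) ∈ U' v) ∧
      ∀ t₀' : k, α ≠ γ * t₀' → (∀ v ∈ Sf', v ∉ Sf → algebraMap k (v.adicCompletion k) t₀' ∈ U' v) →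
        ∀ i, ∀ W : IsDedekindDomain.HeightOneSpectrum (NumberField.RingOfIntegers (kf i)),
          W.valuation (kf i) (algebraMap k (kf i) ((δ * t₀' - β) / (α - γ * t₀')) - a i) < 1 →
            (∃ v ∈ Sf, W.asIdeal.LiesOver v.asIdeal) ∨
            ((¬ ∃ v ∈ Sf', W.asIdeal.LiesOver v.asIdeal) ∧
              W.valuation (kf i) (algebraMap k (kf i) t₀' - a' i) < 1)) := by
  have hunder : ∀ (i : Fin n) (T : Finset (IsDedekindDomain.HeightOneSpectrum (NumberField.RingOfIntegers k)))
      (W : IsDedekindDomain.HeightOneSpectrum (NumberField.RingOfIntegers (kf i))),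
      (∃ v ∈ T, W.asIdeal.LiesOver v.asIdeal) ↔ NFApprox.under k W ∈ T := fun i T W =>
    ⟨fun ⟨v, hv, hlo⟩ => by rwa [(NFApprox.under_eq_iff W v).2 hlo], fun h => ⟨_, h, inferInstance⟩⟩
  have hb1 : ∀ i W, NFApprox.under k W ∉ Sf → W.valuation (kf i) (b i) = 1 := fun i W h => by
    by_contra hne; exact h ((hunder i Sf W).1 (hSb i W hne))
  have hu1 : ∀ i W, NFApprox.under k W ∉ Sf →
      W.valuation (kf i) (algebraMap k (kf i) α * a i + algebraMap k (kf i) β) = 1 := fun i W h =>
    hiia i W (fun he => h ((hunder i Sf W).1 he))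
  refine ⟨fun i v hv => ?_, fun i w hw => ?_, fun v hv U hU htU => ?_, fun w hw U hU htU => ?_, ?_⟩
  · letI := (Algebra.TensorProduct.map (AlgHom.id k (v.adicCompletion k))
      (IsScalarTower.toAlgHom k (kf i) (Lf i))).toRingHom.toAlgebra
    by_cases hvS : v ∈ Sf
    · obtain ⟨x, hxu, hx⟩ := htf i v hvS
      obtain ⟨y, hyu, hy⟩ := hiiif i v hvS
      refine ⟨x * y, hxu.mul hyu, ?_⟩
      rw [map_mul, hx, hy, key α β γ δ (tf v) (tf' v) (a i) (a' i) (b i) (b' i) (hitf v hvS) (hia i) (htf'S v hvS) (ha' i) (hb' i)]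
    · have hz : ∀ W : IsDedekindDomain.HeightOneSpectrum (NumberField.RingOfIntegers (kf i)),
          NFApprox.under k W = v → W.valuation (kf i) (-(b i * (algebraMap k (kf i) α * a i + algebraMap k (kf i) β))) = 1 :=
        fun W hW => by rw [Valuation.map_neg, map_mul, hb1 i W (hW ▸ hvS), hu1 i W (hW ▸ hvS), one_mul]
      have hunr : ∀ Q : IsDedekindDomain.HeightOneSpectrum (NumberField.RingOfIntegers (Lf i)),
          NFApprox.under k (NFApprox.under (kf i) Q) = v → NFApprox.ramIdx (kf i) Q = 1 := by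
        intro Q hQ
        by_contra hne
        have e1 : Q.asIdeal.ramificationIdx (NumberField.RingOfIntegers (kf i)) = NFApprox.ramIdx (kf i) Q :=
          (Ideal.ramificationIdx'_eq_ramificationIdx (NFApprox.under (kf i) Q).asIdeal Q.asIdeal
            (NFApprox.under (kf i) Q).ne_bot).symm
        obtain ⟨v', hv', hlo⟩ := hSram i Q.asIdeal Q.isPrime Q.ne_bot (by rw [e1]; exact hne)
        have : (NFApprox.under (kf i) Q).asIdeal.LiesOver v'.asIdeal := Ideal.LiesOver.tower_bot Q.asIdeal _ _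
        rw [(NFApprox.under_eq_iff _ v').2 this] at hQ
        exact hvS (hQ ▸ hv')
      obtain ⟨W₀, hW₀⟩ : ∃ W : IsDedekindDomain.HeightOneSpectrum (NumberField.RingOfIntegers (kf i)),
          NFApprox.under k W = v := by
        obtain ⟨⟨P, hP, hlo⟩⟩ := v.asIdeal.nonempty_primesOver (S := NumberField.RingOfIntegers (kf i))
        exact ⟨⟨P, hP, Ideal.ne_bot_of_liesOver_of_ne_bot v.ne_bot P⟩, (NFApprox.under_eq_iff _ v).2 hlo⟩
      have hz0 : -(b i * (algebraMap k (kf i) α * a i + algebraMap k (kf i) β)) ≠ 0 := fun h => by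
        have := hz W₀ hW₀
        rw [h, map_zero] at this
        exact zero_ne_one this
      obtain ⟨x, hxu, hx⟩ := NFApprox.exists_norm_unit (L := Lf i) v hunr _ hz hz0
      refine ⟨x, hxu, hx.trans ?_⟩
      rw [htf'S' v hv hvS, TensorProduct.zero_tmul, zero_sub, mul_neg, Algebra.TensorProduct.tmul_mul_tmul,
        one_mul, ← TensorProduct.tmul_neg, hb', ha', mul_assoc, mul_div_cancel₀ _ (hia i)]
  · letI := (Algebra.TensorProduct.map (AlgHom.id k w.Completion)
      (IsScalarTower.toAlgHom k (kf i) (Lf i))).toRingHom.toAlgebra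
    obtain ⟨x, hxu, hx⟩ := hti i w hw
    obtain ⟨y, hyu, hy⟩ := hiiii i w hw
    refine ⟨x * y, hxu.mul hyu, ?_⟩
    rw [map_mul, hx, hy, key α β γ δ (ti w) (ti' w) (a i) (a' i) (b i) (b' i) (hiti w hw) (hia i) (hti' w hw) (ha' i) (hb' i)]
  · exact nhd α β γ δ hdet (tf v) (tf' v) (hitf v hv) (htf'S v hv) U hU htU
  · exact nhd α β γ δ hdet (ti w) (ti' w) (hiti w hw) (hti' w hw) U hU htU
  · classical
    -- neighbourhoods
    have hex : ∀ v : IsDedekindDomain.HeightOneSpectrum (NumberField.RingOfIntegers k), ∃ N : ℕ,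
        WithZero.exp (-(N : ℤ)) * v.valuation k γ < 1 ∧
        ∀ i, ∀ W : IsDedekindDomain.HeightOneSpectrum (NumberField.RingOfIntegers (kf i)), NFApprox.under k W = v →
          WithZero.exp (-(N : ℤ)) * W.valuation (kf i) (algebraMap k (kf i) γ * a i + algebraMap k (kf i) δ) < 1 := by
      intro v
      have hsmall : ∀ r : WithZero (Multiplicative ℤ), ∃ N : ℕ, ∀ M ≥ N, WithZero.exp (-(M : ℤ)) * r < 1 := by
        intro r
        rcases eq_or_ne r 0 with rfl | hr
        · exact ⟨0, fun M _ => by rw [mul_zero]; exact zero_lt_one⟩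
        · refine ⟨(WithZero.log r).toNat + 1, fun M hM => ?_⟩
          rw [← WithZero.exp_log hr, ← WithZero.exp_add, ← WithZero.exp_zero, WithZero.exp_lt_exp]
          omega
      choose f hf using hsmall
      have hfin := fun i => NFApprox.finite_places_over (K := kf i)
        ({v} : Set (IsDedekindDomain.HeightOneSpectrum (NumberField.RingOfIntegers k))) (Set.finite_singleton v)
      refine ⟨f (v.valuation k γ) + Finset.univ.sup fun i => (hfin i).toFinset.sup fun W =>
        f (W.valuation (kf i) (algebraMap k (kf i) γ * a i + algebraMap k (kf i) δ)), hf _ _ (Nat.le_add_right _ _),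
        fun i W hW => hf _ _ (le_trans ?_ (Nat.le_add_left _ _))⟩
      refine le_trans ?_ (Finset.le_sup (Finset.mem_univ i))
      exact Finset.le_sup (f := fun W : IsDedekindDomain.HeightOneSpectrum (NumberField.RingOfIntegers (kf i)) => f (W.valuation (kf i) (algebraMap k (kf i) γ * a i + algebraMap k (kf i) δ))) (by simpa using hW)
    choose N hNγ hNW using hex
    refine ⟨fun v => {x | Valued.v x ≤ WithZero.exp (-(N v : ℤ))}, fun v _ _ => ⟨?_, ?_⟩, ?_⟩
    · obtain ⟨π, hπ⟩ := v.valuedAdicCompletion_surjective k (WithZero.exp (-(N v : ℤ)))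
      convert (Valued.isClopen_closedBall (R := v.adicCompletion k)
          (r := (Valued.v : Valuation (v.adicCompletion k) _).restrict π) ?_).2 using 1
      · ext y; simp [Valuation.restrict_le_iff, ← hπ]
      · simp only [ne_eq, map_eq_zero]
        intro h; rw [h, map_zero] at hπ; exact WithZero.exp_ne_zero hπ.symm
    · show Valued.v (0 : v.adicCompletion k) ≤ _
      rw [map_zero]; exact zero_le
    intro t₀' hne hmem i W hlt
    have hd0 : algebraMap k (kf i) α - algebraMap k (kf i) γ * algebraMap k (kf i) t₀' ≠ 0 := by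
      rw [← map_mul, ← map_sub, ne_eq, map_eq_zero, sub_eq_zero]; exact hne
    have hdiff : (algebraMap k (kf i) ((δ * t₀' - β) / (α - γ * t₀')) - a i) *
        (algebraMap k (kf i) α - algebraMap k (kf i) γ * algebraMap k (kf i) t₀') =
        algebraMap k (kf i) t₀' * (algebraMap k (kf i) γ * a i + algebraMap k (kf i) δ) -
          (algebraMap k (kf i) α * a i + algebraMap k (kf i) β) := by
      simp only [map_div₀, map_sub, map_mul]
      rw [sub_mul, div_mul_cancel₀ _ hd0]; ring
    by_cases hS : NFApprox.under k W ∈ Sf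
    · exact Or.inl ((hunder i Sf W).2 hS)
    right
    set v := NFApprox.under k W with hv
    set c := algebraMap k (kf i) γ * a i + algebraMap k (kf i) δ with hc
    set e := NFApprox.ramIdx k W
    have he : e ≠ 0 := NFApprox.ramIdx_ne_zero W
    have hval : ∀ x : k, W.valuation (kf i) (algebraMap k (kf i) x) = v.valuation k x ^ e :=
      NFApprox.valuation_algebraMap_eq W
    have hα : W.valuation (kf i) (algebraMap k (kf i) α) = 1 := by rw [hval, hiiα v hS, one_pow]
    have hval2 := congrArg (W.valuation (kf i)) hdiff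
    rw [map_mul] at hval2
    by_cases hS' : v ∈ Sf'
    · exfalso
      have ht : v.valuation k t₀' ≤ WithZero.exp (-(N v : ℤ)) :=
        le_of_eq_of_le (v.valuedAdicCompletion_eq_valuation' t₀').symm (hmem v hS' hS)
      have ht1 : v.valuation k t₀' ≤ 1 := ht.trans (by rw [← WithZero.exp_zero, WithZero.exp_le_exp]; omega)
      have h1 : W.valuation (kf i) (algebraMap k (kf i) γ * algebraMap k (kf i) t₀') < 1 := by
        rw [← map_mul, hval, map_mul]
        refine pow_lt_one₀ zero_le (lt_of_le_of_lt ?_ (hNγ v)) he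
        rw [mul_comm]; exact mul_le_mul' ht le_rfl
      have h2 : W.valuation (kf i) (algebraMap k (kf i) t₀' * c) < 1 := by
        refine lt_of_le_of_lt ?_ (hNW v i W rfl)
        rw [map_mul, hval]
        exact mul_le_mul' ((pow_le_of_le_one zero_le ht1 he).trans ht) le_rfl
      have h1' := Valuation.map_sub_eq_of_lt_left (W.valuation (kf i)) (h1.trans_eq hα.symm)
      have h2' := Valuation.map_sub_eq_of_lt_right (W.valuation (kf i)) (h2.trans_eq (hu1 i W hS).symm)
      rw [h1', hα, mul_one, h2', hu1 i W hS] at hval2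
      exact hlt.ne hval2
    refine ⟨fun he' => hS' ((hunder i Sf' W).1 he'), ?_⟩
    obtain ⟨ha'1, hb'1⟩ := hS'ab i W (fun he' => hS' ((hunder i Sf' W).1 he'))
    have hc1 : W.valuation (kf i) c = 1 := by
      rw [hb', map_mul, hb1 i W hS, one_mul] at hb'1; exact hb'1
    have hdiff' : algebraMap k (kf i) t₀' * c - (algebraMap k (kf i) α * a i + algebraMap k (kf i) β) =
        (algebraMap k (kf i) t₀' - a' i) * c := by
      rw [sub_mul, ha', div_mul_cancel₀ _ (hia i)]
    rw [hdiff', map_mul, hc1, mul_one] at hval2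
    rw [← hval2]
    have hαγ : W.valuation (kf i) (algebraMap k (kf i) γ) ≤ 1 := by
      rw [hval]; exact pow_le_one₀ zero_le (hS'αγ v hS').2
    rcases le_or_gt (W.valuation (kf i) (algebraMap k (kf i) t₀')) 1 with ht | ht
    · refine lt_of_le_of_lt (mul_le_of_le_one_right' ?_) hlt
      refine (Valuation.map_sub _ _ _).trans (max_le hα.le ?_)
      rw [map_mul]; exact mul_le_one' hαγ ht
    · exfalso
      have hne' : W.valuation (kf i) (algebraMap k (kf i) t₀' - a' i) = W.valuation (kf i) (algebraMap k (kf i) t₀') :=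
        Valuation.map_sub_eq_of_lt_left _ (lt_of_le_of_lt ha'1 ht)
      have hle : W.valuation (kf i) (algebraMap k (kf i) α - algebraMap k (kf i) γ * algebraMap k (kf i) t₀') ≤
          W.valuation (kf i) (algebraMap k (kf i) t₀') := by
        refine (Valuation.map_sub _ _ _).trans (max_le (hα.le.trans ht.le) ?_)
        rw [map_mul]; exact mul_le_of_le_one_left' hαγ
      rw [hne'] at hval2
      have := lt_of_le_of_lt (hval2 ▸ mul_le_mul' le_rfl hle)
        (mul_lt_of_lt_one_left (lt_trans zero_lt_one ht) hlt)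
      exact lt_irrefl _ this

end Groth.Agent.S19286
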