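import Groth.Statements.S19288
import Mathlib.AlgebraicGeometry.Morphisms.FlatMono
import Mathlib.AlgebraicGeometry.Morphisms.Etale
-- import your own Groth.Agent.* helpers here

set_option autoImplicit false
universe u
open CategoryTheory CategoryTheory.Limits MonoidalCategory CartesianMonoidalCategory MonObj AlgebraicGeometry
open AbSch

namespace Groth.Agent.S19288

/-- Let S be a scheme, X a commutative S-group scheme which is etale and separated over S (hence locally
of finite presentation), and P a commutative S-group scheme of finite presentation over S all of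
whose fibres are connected. Then every homomorphism of S-group schemes from P to X is trivial (it
factors through the unit section). -/
theorem result {S : Scheme.{u}} (P X : Over S)
    [GrpObj P] [IsCommMonObj P] [GrpObj X] [IsCommMonObj X]
    [Etale X.hom] [IsSeparated X.hom]
    [QuasiCompact P.hom] [QuasiSeparated P.hom] [LocallyOfFinitePresentation P.hom]
    (hP : ∀ s : S, ConnectedSpace ↥(P.hom.fiber s))
    (f : P ⟶ X) [IsMonHom f] : f = 1 := by
  have he : η[X].left ≫ X.hom = 𝟙 S := Over.w η[X]
  have : IsIso (η[X].left ≫ X.hom) := by rw [he]; exact IsIso.id S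
  have : Etale (η[X].left ≫ X.hom) := inferInstance
  have : IsClosedImmersion (η[X].left ≫ X.hom) := inferInstance
  have : Etale η[X].left := Etale.of_comp η[X].left X.hom
  have : IsClosedImmersion η[X].left := IsClosedImmersion.of_comp η[X].left X.hom
  have : IsOpenImmersion η[X].left := IsOpenImmersion.of_flat_of_mono η[X].left
  have hC : IsClopen (f.left.base ⁻¹' Set.range η[X].left.base) :=
    ⟨IsClosed.preimage f.left.base.hom.continuous η[X].left.isClosedEmbedding.isClosed_range,
      IsOpen.preimage f.left.base.hom.continuous η[X].left.isOpenEmbedding.isOpen_range⟩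
  have hη : η[P] ≫ f = η[X] := IsMonHom.one_hom f
  have hr : Set.range f.left.base ⊆ Set.range η[X].left.base := by
    rintro _ ⟨x, rfl⟩
    have : ConnectedSpace ↥(P.hom.fiber (P.hom.base x)) := hP _
    have hpre : _root_.IsPreconnected (P.hom.base ⁻¹' {P.hom.base x}) := by
      rw [← Scheme.Hom.range_fiberι]
      exact isPreconnected_range (P.hom.fiberι (P.hom.base x)).base.hom.continuous
    have h0 : η[P].left.base (P.hom.base x) ∈ P.hom.base ⁻¹' {P.hom.base x} := by
      show P.hom.base (η[P].left.base (P.hom.base x)) = P.hom.base x
      rw [← Scheme.Hom.comp_apply, Over.w η[P]]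
      rfl
    refine hpre.subset_isClopen hC ⟨_, h0, P.hom.base x, ?_⟩ rfl
    rw [← hη, Over.comp_left, Scheme.Hom.comp_apply]
  let l := IsOpenImmersion.lift η[X].left f.left hr
  have hl : l ≫ η[X].left = f.left := IsOpenImmersion.lift_fac _ _ _
  have hl' : l = P.hom := by
    have h2 := congrArg (· ≫ X.hom) hl
    simp only [Category.assoc, he] at h2
    exact h2.trans (Over.w f)
  rw [Hom.one_def]
  refine Over.OverMorphism.ext ?_
  rw [← hl, hl', Over.comp_left]
  rfl

end Groth.Agent.S19288
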