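import Groth.Statements.S19290
import Groth.Agent.AbSch51.TorusToProper
-- import your own Groth.Agent.* helpers here

set_option autoImplicit false
universe u
open CategoryTheory CategoryTheory.Limits MonoidalCategory CartesianMonoidalCategory MonObj AlgebraicGeometry
open AbSch

namespace Groth.Agent.S19290

/-- Let S be a scheme, T an S-torus and A an abelian S-scheme (smooth, proper, with connected fibres).
Then the S-sheaf of homomorphisms from T to A is trivial: the internal Hom sheaf, on the big fppf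
site of S, from the abelian sheaf of points of T to that of A is the zero sheaf. -/
theorem result {S : Scheme.{u}} (T A : Over S)
    [GrpObj T] [IsCommMonObj T] (hT : Red.IsTorus T)
    [GrpObj A] [IsCommMonObj A] [Smooth A.hom] [IsProper A.hom]
    (hA : ∀ s : S, ConnectedSpace ↥(A.hom.fiber s)) :
    IsZero (HomSh.homSh (QuotSh.J Scheme.fppfPrecoverage S) (CGrpSh.pts Scheme.fppfPrecoverage T) (CGrpSh.pts Scheme.fppfPrecoverage A)) := by
  refine (IsZero.iff_id_eq_zero _).mpr ?_
  refine Sheaf.hom_ext (NatTrans.ext (funext fun W => AddCommGrpCat.ext fun ψ => ?_))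
  obtain ⟨W⟩ := W
  show ψ = 0
  let p := W.hom
  have hlfp : LocallyOfFinitePresentation (Red.bc p A).hom :=
    MorphismProperty.pullback_snd (P := @LocallyOfFinitePresentation) _ _ inferInstance
  have hprop : IsProper (Red.bc p A).hom :=
    MorphismProperty.pullback_snd (P := @IsProper) _ _ ‹IsProper A.hom›
  let ev : ∀ (V : Over S) (a : V ⟶ W), (V ⟶ T) → (V ⟶ A) := fun V a b =>
    ((show (CGrpSh.pts Scheme.fppfPrecoverage T).over W ⟶ (CGrpSh.pts Scheme.fppfPrecoverage A).over W from ψ).hom.app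
        (Opposite.op (Over.mk a)) (ULift.up (Additive.ofMul b))).down.toMul
  have hnat : ∀ {V V' : Over S} (a : V ⟶ W) (k : V' ⟶ V) (b : V ⟶ T), ev V' (k ≫ a) (k ≫ b) = k ≫ ev V a b := by
    intro V V' a k b
    have := ConcreteCategory.congr_hom
      ((show (CGrpSh.pts Scheme.fppfPrecoverage T).over W ⟶ (CGrpSh.pts Scheme.fppfPrecoverage A).over W from ψ).hom.naturality
        (Over.homMk k : Over.mk (k ≫ a) ⟶ Over.mk a).op) (ULift.up (Additive.ofMul b))
    exact congrArg (fun z => z.down.toMul) this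
  have hmul : ∀ (V : Over S) (a : V ⟶ W) (b b' : V ⟶ T), ev V a (b * b') = ev V a b * ev V a b' := by
    intro V a b b'
    have := map_add ((show (CGrpSh.pts Scheme.fppfPrecoverage T).over W ⟶ (CGrpSh.pts Scheme.fppfPrecoverage A).over W from ψ).hom.app
        (Opposite.op (Over.mk a))).hom (ULift.up (Additive.ofMul b)) (ULift.up (Additive.ofMul b'))
    exact congrArg (fun z => z.down.toMul) this
  -- the associated homomorphism over `W`
  let pr : ∀ Y : Over W.left, (Over.map p).obj Y ⟶ W := fun Y => Over.homMk Y.hom rfl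
  have hpr : ∀ {Y Y' : Over W.left} (k : Y' ⟶ Y), (Over.map p).map k ≫ pr Y = pr Y' := fun k =>
    Over.OverMorphism.ext (Over.w k)
  let F : ∀ Y : Over W.left, (Y ⟶ Red.bc p T) → (Y ⟶ Red.bc p A) := fun Y y =>
    DiagRig.bcUn p (ev _ (pr Y) (DiagRig.bcTr p y))
  have hF : ∀ {Y Y' : Over W.left} (k : Y' ⟶ Y) (y : Y ⟶ Red.bc p T), F Y' (k ≫ y) = k ≫ F Y y := by
    intro Y Y' k y
    show DiagRig.bcUn p _ = _
    rw [DiagRig.bcTr_comp, ← hpr k, hnat]
    exact (Over.mapPullbackAdj p).homEquiv_naturality_left k _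
  have hFmul : ∀ (Y : Over W.left) (y y' : Y ⟶ Red.bc p T), F Y (y * y') = F Y y * F Y y' := by
    intro Y y y'
    show DiagRig.bcUn p _ = _
    rw [DiagRig.bcTr_mul, hmul, DiagRig.bcUn_mul]
  have hFone : ∀ Y : Over W.left, F Y 1 = 1 := fun Y => by
    have := hFmul Y 1 1
    rw [_root_.mul_one] at this
    exact mul_eq_left.mp this.symm
  let u : Red.bc p T ⟶ Red.bc p A := F _ (𝟙 _)
  have hu : ∀ (Y : Over W.left) (y : Y ⟶ Red.bc p T), y ≫ u = F Y y := fun Y y => by
    rw [← hF, Category.comp_id]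
  have : IsMonHom u :=
    { one_hom := by rw [hu, MonObj.one_eq_one, hFone, MonObj.one_eq_one]
      mul_hom := by
        rw [hu, MonObj.mul_eq_mul, hFmul, ← hu, ← hu, MonObj.mul_eq_mul (M := Red.bc p A), MonObj.comp_mul,
          tensorHom_fst, tensorHom_snd] }
  have hu1 : u = 1 :=
    AbSch51.TorusToProper.hom_eq_one (AbSch51.TorusToProper.isTorus_bc p hT) u
  refine Sheaf.hom_ext (NatTrans.ext (funext fun V => AddCommGrpCat.ext fun b => ?_))
  obtain ⟨V⟩ := V
  refine ULift.ext _ _ (congrArg Additive.ofMul ?_)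
  show ev V.left V.hom b.down.toMul = 1
  let Y : Over W.left := Over.mk V.hom.left
  let i : V.left ⟶ (Over.map p).obj Y := Over.homMk (𝟙 _) (by
    show 𝟙 _ ≫ V.hom.left ≫ W.hom = V.left.hom
    rw [Category.id_comp, Over.w])
  let j : (Over.map p).obj Y ⟶ V.left := Over.homMk (𝟙 _) (by
    show 𝟙 _ ≫ V.left.hom = V.hom.left ≫ W.hom
    rw [Category.id_comp, Over.w])
  have hY : ev _ (pr Y) (j ≫ b.down.toMul) = 1 := by
    have h := hu Y (DiagRig.bcUn p (j ≫ b.down.toMul))
    rw [hu1, MonObj.comp_one] at h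
    have h' := congrArg (DiagRig.bcTr p) h.symm
    rw [DiagRig.bcTr_bcUn, DiagRig.bcTr_bcUn] at h'
    refine h'.trans ?_
    have h2 := DiagRig.bcTr_mul p (Y := Y) (G := A) 1 1
    rw [_root_.mul_one] at h2
    exact mul_eq_left.mp h2.symm
  have e : i ≫ j = 𝟙 V.left := Over.OverMorphism.ext (Category.id_comp _)
  have ei : i ≫ pr Y = V.hom := Over.OverMorphism.ext (Category.id_comp _)
  have h := hnat (pr Y) i (j ≫ b.down.toMul)
  rw [ei, ← Category.assoc, e, Category.id_comp, hY, MonObj.comp_one] at h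
  exact h

end Groth.Agent.S19290
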