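import Groth.Statements.S19291
import Groth.Agent.AbSch51.Bilinear

set_option autoImplicit false
universe u
open CategoryTheory CategoryTheory.Limits MonoidalCategory CartesianMonoidalCategory MonObj AlgebraicGeometry
open AbSch

namespace Groth.Agent.S19291

/-- Let S be a scheme and A, B, C three abelian S-schemes (smooth proper S-group schemes with connected
fibres). Then the group of homomorphisms from A to the S-sheaf of homomorphisms from B to C is
trivial: on the big fppf site of S, every morphism of abelian sheaves from the sheaf of points of A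
to the internal Hom sheaf of the sheaves of points of B and C is zero (equivalently, there is no
non-zero biadditive morphism from A × B to C). -/
theorem result {S : Scheme.{u}} (A B C : Over S)
    [GrpObj A] [IsCommMonObj A] [Smooth A.hom] [IsProper A.hom]
    (hA : ∀ s : S, ConnectedSpace ↥(A.hom.fiber s))
    [GrpObj B] [IsCommMonObj B] [Smooth B.hom] [IsProper B.hom]
    (hB : ∀ s : S, ConnectedSpace ↥(B.hom.fiber s))
    [GrpObj C] [IsCommMonObj C] [Smooth C.hom] [IsProper C.hom]
    (hC : ∀ s : S, ConnectedSpace ↥(C.hom.fiber s))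
    (φ : (CGrpSh.pts Scheme.fppfPrecoverage A) ⟶ HomSh.homSh (QuotSh.J Scheme.fppfPrecoverage S) (CGrpSh.pts Scheme.fppfPrecoverage B) (CGrpSh.pts Scheme.fppfPrecoverage C)) : φ = 0 := by
  have := AbSch51.ConnFibres.geometricallyConnected A hA
  have := AbSch51.ConnFibres.geometricallyConnected B hB
  have key : ∀ ψ : (HomSh.homSh (QuotSh.J Scheme.fppfPrecoverage S) (CGrpSh.pts Scheme.fppfPrecoverage B)
      (CGrpSh.pts Scheme.fppfPrecoverage C)).obj.obj (Opposite.op A),
      ψ = φ.hom.app (Opposite.op A) (ULift.up (Additive.ofMul (𝟙 A))) → ∀ (W : Over S) (a : W ⟶ A) (b : W ⟶ B),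
        ((show (CGrpSh.pts Scheme.fppfPrecoverage B).over A ⟶ (CGrpSh.pts Scheme.fppfPrecoverage C).over A from ψ).hom.app
          (Opposite.op (Over.mk a)) (ULift.up (Additive.ofMul b))).down.toMul = 1 := by
    intro ψ hψ W a b
    let ev : ∀ (W : Over S) (a : W ⟶ A), (W ⟶ B) → (W ⟶ C) := fun W a b =>
      ((show (CGrpSh.pts Scheme.fppfPrecoverage B).over A ⟶ (CGrpSh.pts Scheme.fppfPrecoverage C).over A from ψ).hom.app
          (Opposite.op (Over.mk a)) (ULift.up (Additive.ofMul b))).down.toMul
    have hnat : ∀ {W W' : Over S} (a : W ⟶ A) (k : W' ⟶ W) (b : W ⟶ B), ev W' (k ≫ a) (k ≫ b) = k ≫ ev W a b := by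
      intro W W' a k b
      have := ConcreteCategory.congr_hom
        ((show (CGrpSh.pts Scheme.fppfPrecoverage B).over A ⟶ (CGrpSh.pts Scheme.fppfPrecoverage C).over A from ψ).hom.naturality
          (Over.homMk k : Over.mk (k ≫ a) ⟶ Over.mk a).op) (ULift.up (Additive.ofMul b))
      exact congrArg (fun z => z.down.toMul) this
    have hb1 : ∀ (W : Over S) (a : W ⟶ A), ev W a 1 = 1 := fun W a => by
      have := map_zero ((show (CGrpSh.pts Scheme.fppfPrecoverage B).over A ⟶ (CGrpSh.pts Scheme.fppfPrecoverage C).over A from ψ).hom.app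
          (Opposite.op (Over.mk a))).hom
      exact congrArg (fun z => z.down.toMul) this
    have ha1 : ∀ (W : Over S) (b : W ⟶ B), ev W 1 b = 1 := fun W b => by
      have h := ConcreteCategory.congr_hom (φ.hom.naturality (1 : W ⟶ A).op) (ULift.up (Additive.ofMul (𝟙 A)))
      have h0 : (CGrpSh.pts Scheme.fppfPrecoverage A).obj.map (1 : W ⟶ A).op (ULift.up (Additive.ofMul (𝟙 A))) = 0 :=
        congrArg (fun z => ULift.up (Additive.ofMul z)) (Category.comp_id (1 : W ⟶ A))
      have h' := h.symm.trans ((congrArg (φ.hom.app (Opposite.op W)) h0).trans (map_zero _))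
      have h'' := congrArg (fun χ : (CGrpSh.pts Scheme.fppfPrecoverage B).over W ⟶ (CGrpSh.pts Scheme.fppfPrecoverage C).over W =>
        (χ.hom.app (Opposite.op (Over.mk (𝟙 W))) (ULift.up (Additive.ofMul b))).down.toMul) h'
      have e : (𝟙 W ≫ (1 : W ⟶ A)) = 1 := Category.id_comp _
      subst hψ
      exact (congrArg (fun z => ev W z b) e.symm).trans h''
    have hβ : ev (A ⊗ B) (fst A B) (snd A B) = 1 := by
      refine AbSch51.Bilinear.eq_one _ ?_ ?_
      · rw [← hnat, lift_fst, lift_snd, hb1]
      · rw [← hnat, lift_fst, lift_snd, ha1]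
    show ev W a b = 1
    have h := hnat (fst A B) (lift a b) (snd A B)
    rw [lift_fst, lift_snd, hβ, MonObj.comp_one] at h
    exact h
  refine Sheaf.hom_ext (NatTrans.ext (funext fun T => AddCommGrpCat.ext fun a => ?_))
  obtain ⟨T⟩ := T
  show φ.hom.app (Opposite.op T) a = 0
  have h := ConcreteCategory.congr_hom (φ.hom.naturality a.down.toMul.op) (ULift.up (Additive.ofMul (𝟙 A)))
  have h0 : (CGrpSh.pts Scheme.fppfPrecoverage A).obj.map a.down.toMul.op (ULift.up (Additive.ofMul (𝟙 A))) = a :=
    ULift.ext _ _ (congrArg Additive.ofMul (Category.comp_id a.down.toMul))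
  refine ((congrArg (φ.hom.app (Opposite.op T)) h0.symm).trans h).trans ?_
  refine Sheaf.hom_ext (NatTrans.ext (funext fun W => AddCommGrpCat.ext fun b => ?_))
  obtain ⟨W⟩ := W
  exact ULift.ext _ _ (congrArg Additive.ofMul (key _ rfl W.left (W.hom ≫ a.down.toMul) b.down.toMul))

end Groth.Agent.S19291
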