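import Groth.Statements.S19292
import Groth.Agent.GaExt87.Sheaf
import Groth.Agent.GaLoc87.Derived
import Mathlib.Algebra.Group.Pi.Lemmas

set_option autoImplicit false
set_option linter.style.haveILetI false
set_option linter.unusedSectionVars false
set_option maxHeartbeats 400000
universe u
open CategoryTheory CategoryTheory.Limits AlgebraicGeometry Opposite MonObj GrpObj MonoidalCategory CartesianMonoidalCategory

namespace Groth.Agent.S19292

open Groth.Agent.GaExt87

noncomputable section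

local notation "Kf" => Scheme.fppfPrecoverage

variable {S S' : Scheme.{u}} (f : S' ⟶ S) {X : Over S} [GrpObj X] [IsCommMonObj X]
  {r : ℕ} (e : Red.bc f X ≅ TwC.const S' (Multiplicative (Fin r → ℤ)))

/-- A section of the chart as a point over `S`. -/
def x0 (n : Multiplicative (Fin r → ℤ)) : (Over.map f).obj (𝟙_ (Over S')) ⟶ X :=
  ((Over.mapPullbackAdj f).homEquiv _ _).symm (TwC.pt S' _ n ≫ e.inv)

theorem x0_left (n : Multiplicative (Fin r → ℤ)) :
    (x0 f e n).left = (TwC.pt S' _ n ≫ e.inv).left ≫ pullback.fst X.hom f := by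
  rw [x0, Adjunction.homEquiv_counit]
  simp

theorem x0_mul (he : TwC.IsConstGrp (Multiplicative (Fin r → ℤ)) (Red.bc f X) e) (n m : Multiplicative (Fin r → ℤ)) :
    x0 f e (n * m) = x0 f e n * x0 f e m := by
  apply ((Over.mapPullbackAdj f).homEquiv _ _).injective
  have hmul : ∀ a b : (Over.map f).obj (𝟙_ (Over S')) ⟶ X,
      (Over.mapPullbackAdj f).homEquiv _ _ (a * b) =
        ((Over.mapPullbackAdj f).homEquiv _ _ a * (Over.mapPullbackAdj f).homEquiv _ _ b : _ ⟶ Red.bc f X) := fun a b => by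
    simp only [Adjunction.homEquiv_unit, Functor.map_mul, MonObj.comp_mul]
  rw [hmul, x0, x0, x0, Equiv.apply_symm_apply, Equiv.apply_symm_apply, Equiv.apply_symm_apply]
  exact (he n m).symm

variable {W : Over S} (a : W.left ⟶ S') (ha : a ≫ f = W.hom)

/-- The constant sections over a base mapping to the chart. -/
def xs (n : Multiplicative (Fin r → ℤ)) : W ⟶ X :=
  (Over.homMk a ha : W ⟶ (Over.map f).obj (Over.mk (𝟙 S'))) ≫ x0 f e n

theorem xs_left (n : Multiplicative (Fin r → ℤ)) :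
    (xs f e a ha n).left = a ≫ (TwC.pt S' _ n ≫ e.inv).left ≫ pullback.fst X.hom f := by
  rw [xs, Over.comp_left, x0_left]
  rfl

/-- The coordinate in the chart of a point. -/
def crd {Z : Over S} (h : Z ⟶ W) (q : Z ⟶ X) : Z.left ⟶ (Red.bc f X).left :=
  pullback.lift q.left (h.left ≫ a) (by rw [Category.assoc, ha, Over.w h, Over.w q])

theorem pt_inv_left_snd (n : Multiplicative (Fin r → ℤ)) :
    (TwC.pt S' _ n ≫ e.inv).left ≫ pullback.snd X.hom f = 𝟙 S' :=
  Over.w (TwC.pt S' _ n ≫ e.inv)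

theorem crd_xs {Z : Over S} (h : Z ⟶ W) (n : Multiplicative (Fin r → ℤ)) :
    crd f a ha h (h ≫ xs f e a ha n) = (h.left ≫ a) ≫ (TwC.pt S' _ n ≫ e.inv).left := by
  refine pullback.hom_ext ?_ ?_
  · rw [crd, pullback.lift_fst, Over.comp_left, xs_left]
    simp [Category.assoc]
  · refine (pullback.lift_snd _ _ _).trans ?_
    rw [Category.assoc (h.left ≫ a), pt_inv_left_snd, Category.comp_id]

theorem crd_comp {Z Z' : Over S} (k : Z' ⟶ Z) (h : Z ⟶ W) (q : Z ⟶ X) :
    crd f a ha (k ≫ h) (k ≫ q) = k.left ≫ crd f a ha h q := by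
  refine pullback.hom_ext ?_ ?_
  · rw [Category.assoc, crd, crd, pullback.lift_fst, pullback.lift_fst, Over.comp_left]
  · rw [Category.assoc, crd, crd, pullback.lift_snd, pullback.lift_snd, Over.comp_left, Category.assoc]

/-- Where a point is constant. -/
def piece {Z : Over S} (h : Z ⟶ W) (q : Z ⟶ X) (n : Multiplicative (Fin r → ℤ)) : Z.left.Opens :=
  (crd f a ha h q ≫ e.hom.left) ⁻¹ᵁ (Sigma.ι (fun _ : Multiplicative (Fin r → ℤ) => S') n).opensRange

/-- The inclusion of a piece. -/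
def pin {Z : Over S} (h : Z ⟶ W) (q : Z ⟶ X) (n : Multiplicative (Fin r → ℤ)) :
    Over.mk ((piece f e a ha h q n).ι ≫ Z.hom) ⟶ Z :=
  Over.homMk (piece f e a ha h q n).ι rfl

theorem hcov {Z : Over S} (h : Z ⟶ W) (q : Z ⟶ X) :
    Presieve.ofArrows (fun n => (Over.mk ((piece f e a ha h q n).ι ≫ Z.hom)).left)
      (fun n => (pin f e a ha h q n).left) ∈ Precoverage.coverings Kf Z.left := by
  change _ ∈ Scheme.precoverage _ _
  rw [Scheme.ofArrows_mem_precoverage_iff]
  refine ⟨fun z => ?_, fun n => ⟨inferInstanceAs (Flat (piece f e a ha h q n).ι),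
    inferInstanceAs (LocallyOfFinitePresentation (piece f e a ha h q n).ι)⟩⟩
  obtain ⟨n, y, hy⟩ := (sigmaOpenCover fun _ : Multiplicative (Fin r → ℤ) => S').exists_eq
    ((crd f a ha h q ≫ e.hom.left) z)
  exact ⟨n, ⟨z, ⟨y, hy⟩⟩, rfl⟩

theorem pin_comp {Z : Over S} (h : Z ⟶ W) (q : Z ⟶ X) (n : Multiplicative (Fin r → ℤ)) :
    pin f e a ha h q n ≫ q = pin f e a ha h q n ≫ h ≫ xs f e a ha n := by
  let O := piece f e a ha h q n
  let g := O.ι ≫ crd f a ha h q ≫ e.hom.left
  have hg : Set.range g ⊆ Set.range (Sigma.ι (fun _ : Multiplicative (Fin r → ℤ) => S') n) := by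
    rintro _ ⟨z, rfl⟩
    exact z.2
  have hu := IsOpenImmersion.lift_fac (Sigma.ι (fun _ : Multiplicative (Fin r → ℤ) => S') n) g hg
  have hu' : IsOpenImmersion.lift _ g hg = O.ι ≫ h.left ≫ a := by
    have h1 : g ≫ (TwC.const S' (Multiplicative (Fin r → ℤ))).hom = O.ι ≫ h.left ≫ a := by
      simp only [g, Category.assoc, Over.w e.hom]
      exact congrArg (O.ι ≫ ·) (pullback.lift_snd _ _ _)
    refine Eq.trans ?_ h1
    conv_rhs => rw [← hu]
    rw [Category.assoc, show Sigma.ι (fun _ : Multiplicative (Fin r → ℤ) => S') n ≫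
      (TwC.const S' (Multiplicative (Fin r → ℤ))).hom = 𝟙 S' from Over.w (TwC.pt S' _ n)]
    exact (Category.comp_id _).symm
  have h2 : O.ι ≫ crd f a ha h q = (O.ι ≫ h.left ≫ a) ≫ (TwC.pt S' _ n ≫ e.inv).left := by
    rw [← hu', Over.comp_left, ← Category.assoc, show (TwC.pt S' _ n).left =
      Sigma.ι (fun _ : Multiplicative (Fin r → ℤ) => S') n from rfl, hu]
    simp [g]
  refine Over.OverMorphism.ext ?_
  rw [Over.comp_left, Over.comp_left, Over.comp_left, xs_left]
  have h3 := congrArg (· ≫ pullback.fst X.hom f) h2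
  simp only [Category.assoc, crd, pullback.lift_fst] at h3
  exact h3

theorem isEmpty_of_eq {Z : Over S} (h : Z ⟶ W) {n m : Multiplicative (Fin r → ℤ)} (hnm : n ≠ m)
    (hq : h ≫ xs f e a ha n = h ≫ xs f e a ha m) : IsEmpty Z.left := ⟨fun z => by
  have h1 := congrArg (fun φ => (φ ≫ e.hom.left) z) ((crd_xs f e a ha h n).symm.trans
    ((congrArg (crd f a ha h) hq).trans (crd_xs f e a ha h m)))
  simp only [Category.assoc, ← Over.comp_left, Iso.inv_hom_id, Category.comp_id] at h1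
  simp only [Scheme.Hom.comp_apply] at h1
  obtain ⟨w, -, -⟩ := Scheme.exists_preimage_of_isPullback
    (IsPullback.of_hasPullback (Sigma.ι (fun _ : Multiplicative (Fin r → ℤ) => S') n)
      (Sigma.ι (fun _ : Multiplicative (Fin r → ℤ) => S') m)) _ _ h1
  exact (isEmpty_pullback_sigmaι_of_ne (fun _ : Multiplicative (Fin r → ℤ) => S') hnm).elim w⟩

variable (F : BigSite.Ab Kf S) (Φ : Multiplicative (Fin r → ℤ) → BigSite.sect Kf F W)

theorem exists_val {Z : Over S} (h : Z ⟶ W) (q : Z ⟶ X) :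
    ∃ s : BigSite.sect Kf F Z, ∀ (n : Multiplicative (Fin r → ℤ)) (Z' : Over S) (k : Z' ⟶ Z),
      k ≫ q = k ≫ h ≫ xs f e a ha n → rr F k s = rr F (k ≫ h) (Φ n) := by
  have hK : Scheme.zariskiPrecoverage ≤ Kf := Scheme.zariskiPrecoverage_le_fppfPrecoverage
  have key : ∀ (n m : Multiplicative (Fin r → ℤ)) (Z' : Over S) (k : Z' ⟶ Z),
      k ≫ h ≫ xs f e a ha n = k ≫ h ≫ xs f e a ha m → rr F (k ≫ h) (Φ n) = rr F (k ≫ h) (Φ m) := by
    intro n m Z' k hk
    by_cases hnm : n = m
    · rw [hnm]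
    · haveI := isEmpty_of_eq f e a ha (k ≫ h) hnm (by rw [Category.assoc, Category.assoc, hk])
      haveI := subsingleton_of_isEmpty hK F Z'
      exact Subsingleton.elim _ _
  obtain ⟨s, hs⟩ := exists_glue F _ (pin f e a ha h q) (hcov f e a ha h q)
    (fun n => rr F (pin f e a ha h q n ≫ h) (Φ n)) (fun i j Z' gi gj hg => by
      rw [← rr_comp, ← rr_comp, ← Category.assoc, ← Category.assoc gj, ← hg]
      refine key i j Z' _ ?_
      rw [Category.assoc, ← pin_comp, ← Category.assoc, hg, Category.assoc, pin_comp, ← Category.assoc])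
  refine ⟨s, fun n Z' k hk => eq_of_cover F _ (pin f e a ha (k ≫ h) (k ≫ q)) (hcov f e a ha _ _) fun m => ?_⟩
  have hp := pin_comp f e a ha (k ≫ h) (k ≫ q) m
  have hk' := congrArg (pin f e a ha (k ≫ h) (k ≫ q) m ≫ ·) hk
  set p := pin f e a ha (k ≫ h) (k ≫ q) m
  rw [← rr_comp, ← rr_comp]
  refine eq_of_cover F _ (pin f e a ha ((p ≫ k) ≫ h) ((p ≫ k) ≫ q)) (hcov f e a ha _ _) fun l => ?_
  have hl := pin_comp f e a ha ((p ≫ k) ≫ h) ((p ≫ k) ≫ q) l
  set p' := pin f e a ha ((p ≫ k) ≫ h) ((p ≫ k) ≫ q) l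
  rw [← rr_comp, ← rr_comp]
  -- the piece of `q` through which the small piece factors
  have hfac : Set.range (p' ≫ p ≫ k).left ⊆ Set.range (pin f e a ha h q l).left := by
    rintro _ ⟨z, rfl⟩
    refine ⟨⟨(p' ≫ p ≫ k).left z, ?_⟩, rfl⟩
    have hz := z.2
    change (crd f a ha ((p ≫ k) ≫ h) ((p ≫ k) ≫ q) ≫ e.hom.left) (p'.left z) ∈
      Set.range (Sigma.ι (fun _ : Multiplicative (Fin r → ℤ) => S') l) at hz
    change (crd f a ha h q ≫ e.hom.left) ((p' ≫ p ≫ k).left z) ∈
      Set.range (Sigma.ι (fun _ : Multiplicative (Fin r → ℤ) => S') l)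
    simp only [crd_comp, Over.comp_left, Category.assoc, Scheme.Hom.comp_apply] at hz ⊢
    exact hz
  haveI : IsOpenImmersion (pin f e a ha h q l).left := inferInstanceAs (IsOpenImmersion (piece f e a ha h q l).ι)
  let t : _ ⟶ Over.mk ((piece f e a ha h q l).ι ≫ Z.hom) :=
    Over.homMk (IsOpenImmersion.lift (pin f e a ha h q l).left (p' ≫ p ≫ k).left hfac) (by
      show _ ≫ (piece f e a ha h q l).ι ≫ Z.hom = _
      rw [← Category.assoc, show IsOpenImmersion.lift _ _ hfac ≫ (piece f e a ha h q l).ι = (p' ≫ p ≫ k).left from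
        IsOpenImmersion.lift_fac _ _ _, Over.w])
  have ht : t ≫ pin f e a ha h q l = p' ≫ p ≫ k := Over.OverMorphism.ext (IsOpenImmersion.lift_fac _ _ _)
  rw [← ht, rr_comp, hs l, ← rr_comp, ← Category.assoc, ht]
  simp only [Category.assoc]
  rw [show p' ≫ p ≫ k ≫ h = (p' ≫ p ≫ k) ≫ h by simp]
  refine key l n _ (p' ≫ p ≫ k) ?_
  simp only [Category.assoc] at hl ⊢
  exact hl.symm.trans (congrArg (fun t => p' ≫ p ≫ t) hk)

/-- The value of the lift. -/
def val {Z : Over S} (h : Z ⟶ W) (q : Z ⟶ X) : BigSite.sect Kf F Z := (exists_val f e a ha F Φ h q).choose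

theorem val_spec {Z : Over S} (h : Z ⟶ W) (q : Z ⟶ X) (n : Multiplicative (Fin r → ℤ)) {Z' : Over S} (k : Z' ⟶ Z)
    (hk : k ≫ q = k ≫ h ≫ xs f e a ha n) : rr F k (val f e a ha F Φ h q) = rr F (k ≫ h) (Φ n) :=
  (exists_val f e a ha F Φ h q).choose_spec n Z' k hk

theorem val_comp {Z Z' : Over S} (k : Z' ⟶ Z) (h : Z ⟶ W) (q : Z ⟶ X) :
    rr F k (val f e a ha F Φ h q) = val f e a ha F Φ (k ≫ h) (k ≫ q) := by
  refine eq_of_cover F _ (pin f e a ha (k ≫ h) (k ≫ q)) (hcov f e a ha _ _) fun n => ?_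
  have hn := pin_comp f e a ha (k ≫ h) (k ≫ q) n
  rw [val_spec f e a ha F Φ _ _ n _ hn, ← rr_comp, val_spec f e a ha F Φ h q n _ (by simpa using hn),
    Category.assoc]

theorem val_add (he : TwC.IsConstGrp (Multiplicative (Fin r → ℤ)) (Red.bc f X) e)
    (hΦ : ∀ n m, Φ (n * m) = Φ n + Φ m) {Z : Over S} (h : Z ⟶ W) (q q' : Z ⟶ X) :
    val f e a ha F Φ h (q * q') = val f e a ha F Φ h q + val f e a ha F Φ h q' := by
  refine eq_of_cover F _ (pin f e a ha h q) (hcov f e a ha _ _) fun n => ?_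
  have hn := pin_comp f e a ha h q n
  set p := pin f e a ha h q n
  refine eq_of_cover F _ (pin f e a ha (p ≫ h) (p ≫ q')) (hcov f e a ha _ _) fun m => ?_
  have hm := pin_comp f e a ha (p ≫ h) (p ≫ q') m
  set p' := pin f e a ha (p ≫ h) (p ≫ q') m
  simp only [Category.assoc] at hm
  rw [← rr_comp, ← rr_comp, map_add,
    val_spec f e a ha F Φ h (q * q') (n * m) (p' ≫ p) (by
      have hx : xs f e a ha (n * m) = xs f e a ha n * xs f e a ha m := by
        rw [xs, x0_mul f e he, MonObj.comp_mul]; rfl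
      simp only [Category.assoc] at hn ⊢
      rw [hx]
      simp only [MonObj.comp_mul]
      rw [hn, hm]),
    val_spec f e a ha F Φ h q n (p' ≫ p) (by simp only [Category.assoc]; rw [hn]),
    val_spec f e a ha F Φ h q' m (p' ≫ p) (by simp only [Category.assoc]; rw [hm]), hΦ, map_add]

end

open CGrpSh in
/-- Let S be a scheme, X an S-group scheme which locally for the etale topology on S is the constant
group scheme of a finitely generated free abelian group (the rank may vary), and P any commutative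
S-group scheme. Then the S-sheaf of extensions of X by P is trivial: on the big fppf site of S the
first Ext sheaf from the sheaf of points of X, with values in the sheaf of points of P, is zero. -/
theorem result {S : Scheme.{u}} (X P : Over S)
    [GrpObj X] [IsCommMonObj X]
    (hX : TwC.Locally S TwC.Topology.etale (fun S' f =>
      ∃ (r : ℕ) (e : Red.bc f X ≅ TwC.const S' (Multiplicative (Fin r → ℤ))),
        TwC.IsConstGrp (Multiplicative (Fin r → ℤ)) (Red.bc f X) e))
    [GrpObj P] [IsCommMonObj P] :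
    IsZero ((HomSh.extSh (QuotSh.J Scheme.fppfPrecoverage S) (CGrpSh.pts Scheme.fppfPrecoverage X) 1).obj (CGrpSh.pts Scheme.fppfPrecoverage P)) := by
  classical
  let A := CGrpSh.pts Scheme.fppfPrecoverage X
  let em := Injective.ι (CGrpSh.pts Scheme.fppfPrecoverage P)
  let π := cokernel.π em
  have hS : (ShortComplex.mk em π (cokernel.condition em)).ShortExact := { exact := ShortComplex.exact_cokernel _ }
  refine Groth.Agent.GaLoc87.isZero_extSh_one (QuotSh.J Scheme.fppfPrecoverage S) A hS fun T φ => ?_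
  haveI : Sheaf.IsLocallySurjective π := (Sheaf.isLocallySurjective_iff_epi' _ π).2 inferInstance
  choose S' f hf hmem r e he using hX
  let W : T.left → Over S := fun x => Over.mk (pullback.fst T.hom (f (T.hom x)) ≫ T.hom)
  let g : ∀ x, W x ⟶ T := fun x => Over.homMk (pullback.fst T.hom (f (T.hom x))) rfl
  have hcovT : Sieve.ofArrows W g ∈ QuotSh.J Scheme.fppfPrecoverage S T := by
    rw [GrothendieckTopology.mem_over_iff]
    rw [Sieve.overEquiv_ofArrows]
    refine Precoverage.generate_mem_toGrothendieck ?_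
    change _ ∈ Scheme.precoverage _ _
    rw [Scheme.ofArrows_mem_precoverage_iff]
    refine ⟨fun x => ?_, fun x => ?_⟩
    · obtain ⟨y, hy⟩ := hmem (T.hom x)
      obtain ⟨z, hz, -⟩ := Scheme.Pullback.exists_preimage_pullback (f := T.hom) (g := f (T.hom x)) x y hy.symm
      exact ⟨x, z, hz⟩
    · haveI := hf (T.hom x)
      exact ⟨inferInstanceAs (Flat (pullback.fst T.hom (f (T.hom x)))),
        inferInstanceAs (LocallyOfFinitePresentation (pullback.fst T.hom (f (T.hom x))))⟩
  -- the generators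
  let gen : ∀ x, Fin (r (T.hom x)) → BigSite.sect Scheme.fppfPrecoverage (cokernel em) (W x) := fun x i =>
    φ.hom.app (op (Over.mk (g x))) (ULift.up (Additive.ofMul (xs (f (T.hom x)) (e (T.hom x))
      (pullback.snd T.hom (f (T.hom x))) pullback.condition.symm (Multiplicative.ofAdd (Pi.single i 1)))))
  have hlift : ∀ x, ∀ s : Finset (Fin (r (T.hom x))), ∃ R ∈ QuotSh.J Scheme.fppfPrecoverage S (W x),
      ∀ ⦃V : Over S⦄ (k : V ⟶ W x), R k → ∀ i ∈ s, ∃ ζ, sap π V ζ = rr (cokernel em) k (gen x i) := by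
    intro x s
    induction s using Finset.induction with
    | empty => exact ⟨⊤, GrothendieckTopology.top_mem _ _, fun V k _ i hi => absurd hi (Finset.notMem_empty i)⟩
    | insert i s _ ih =>
      obtain ⟨R, hR, h⟩ := ih
      refine ⟨R ⊓ Presheaf.imageSieve π.hom (gen x i), GrothendieckTopology.intersection_covering _ hR
        (Presheaf.imageSieve_mem _ π.hom (gen x i)), fun V k hk j hj => ?_⟩
      rcases Finset.mem_insert.1 hj with rfl | hj
      · exact hk.2
      · exact h k hk.1 j hj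
  choose R hR hzt using fun x => hlift x Finset.univ
  refine ⟨Sieve.bind (Sieve.ofArrows W g).arrows (fun Y k hk => Sieve.pullback (𝟙 Y) (Sieve.generate
    (fun V l => ∃ x, ∃ m : V ⟶ W x, R x m ∧ l ≫ k = m ≫ g x))), ?_, ?_⟩
  · refine GrothendieckTopology.bind_covering _ hcovT fun Y k hk => ?_
    rw [Sieve.pullback_id]
    obtain ⟨V, c, d, ⟨x⟩, rfl⟩ := hk
    refine GrothendieckTopology.superset_covering _ ?_ (GrothendieckTopology.pullback_stable _ c (hR x))
    intro V' l hl
    exact Sieve.le_generate _ _ _ ⟨x, l ≫ c, hl, (Category.assoc _ _ _).symm⟩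
  rintro W' g' ⟨Y, l, k, hk, hl, hlk⟩
  subst hlk
  simp only [Sieve.pullback_id] at hl
  obtain ⟨V, c, d, ⟨x, m, hm, hdk⟩, rfl⟩ := hl
  choose ζ hzts using fun i => hzt x (c ≫ m) ((R x).downward_closed hm c) i (Finset.mem_univ i)
  let a' := (c ≫ m).left ≫ pullback.snd T.hom (f (T.hom x))
  have ha' : a' ≫ f (T.hom x) = W'.hom := by
    rw [← Over.w (c ≫ m), Category.assoc]
    exact congrArg ((c ≫ m).left ≫ ·) pullback.condition.symm
  let Φ : Multiplicative (Fin (r (T.hom x)) → ℤ) →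
      BigSite.sect Scheme.fppfPrecoverage (Injective.under (CGrpSh.pts Scheme.fppfPrecoverage P)) W' :=
    fun n => ∑ i, n.toAdd i • ζ i
  have hΦ : ∀ n n', Φ (n * n') = Φ n + Φ n' := fun n n' => by
    simp only [Φ, toAdd_mul, Pi.add_apply, add_zsmul, Finset.sum_add_distrib]
  let xe := xs (f (T.hom x)) (e (T.hom x)) a' ha'
  have hxe : ∀ n, xe n = (c ≫ m) ≫ xs (f (T.hom x)) (e (T.hom x)) (pullback.snd T.hom (f (T.hom x)))
      pullback.condition.symm n := fun n => Over.OverMorphism.ext (by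
    rw [Over.comp_left, xs_left, xs_left]
    simp [a'])
  have hxmul : ∀ n n', xe (n * n') = xe n * xe n' := fun n n' => by
    rw [show xe (n * n') = _ ≫ x0 (f (T.hom x)) (e (T.hom x)) (n * n') from rfl, x0_mul _ _ (he _), MonObj.comp_mul]
    rfl
  have hπΦ : ∀ n, sap π W' (Φ n) = φ.hom.app (op (Over.mk (c ≫ d ≫ k))) (ULift.up (Additive.ofMul (xe n))) := by
    intro n
    let u₁ : (Fin (r (T.hom x)) → ℤ) →+ BigSite.sect Scheme.fppfPrecoverage (cokernel em) W' :=
      AddMonoidHom.mk' (fun v => sap π W' (Φ (Multiplicative.ofAdd v)))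
        (fun v v' => by rw [ofAdd_add, hΦ, map_add])
    let u₂ : (Fin (r (T.hom x)) → ℤ) →+ BigSite.sect Scheme.fppfPrecoverage (cokernel em) W' :=
      AddMonoidHom.mk' (fun v => φ.hom.app (op (Over.mk (c ≫ d ≫ k))) (ULift.up (Additive.ofMul (xe (Multiplicative.ofAdd v)))))
        (fun v v' => by rw [ofAdd_add, hxmul]; exact map_add (φ.hom.app (op (Over.mk (c ≫ d ≫ k)))).hom _ _)
    have hu : u₁ = u₂ := by
      apply AddMonoidHom.functions_ext'
      intro i
      apply AddMonoidHom.ext_int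
      change u₁ (Pi.single i 1) = u₂ (Pi.single i 1)
      show sap π W' (∑ j, (Pi.single i (1 : ℤ) : Fin _ → ℤ) j • ζ j) = _
      rw [Finset.sum_eq_single i (fun j _ hj => by rw [Pi.single_eq_of_ne hj, zero_smul])
        (fun h => absurd (Finset.mem_univ i) h), Pi.single_eq_same, one_smul, hzts]
      show _ = φ.hom.app (op (Over.mk (c ≫ d ≫ k))) (ULift.up (Additive.ofMul (xe (Multiplicative.ofAdd (Pi.single i 1)))))
      rw [hxe]
      have e1 : c ≫ d ≫ k = (c ≫ m) ≫ g x := by rw [hdk, Category.assoc]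
      rw [e1]
      exact (NatTrans.naturality_apply φ.hom (Over.homMk (c ≫ m) : Over.mk ((c ≫ m) ≫ g x) ⟶ Over.mk (g x)).op _).symm
    exact congrArg (fun u => u n.toAdd) hu
  let ψ : A.over W' ⟶ (Injective.under (CGrpSh.pts Scheme.fppfPrecoverage P)).over W' := ⟨{
    app := fun Y' => AddCommGrpCat.ofHom (AddMonoidHom.mk'
      (fun z => val (f (T.hom x)) (e (T.hom x)) a' ha' _ Φ Y'.unop.hom
        (show Y'.unop.left ⟶ X from Additive.toMul (ULift.down z)))
      (fun z z' => val_add (f (T.hom x)) (e (T.hom x)) a' ha' _ Φ (he _) hΦ _ _ _))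
    naturality := fun Y' Y'' k' => AddCommGrpCat.ext fun z => by
      refine (Eq.trans ?_ (val_comp (f (T.hom x)) (e (T.hom x)) a' ha' _ Φ k'.unop.left Y'.unop.hom _).symm)
      show val _ _ _ _ _ _ Y''.unop.hom _ = val _ _ _ _ _ _ (k'.unop.left ≫ Y'.unop.hom) _
      rw [Over.w k'.unop]
      rfl }⟩
  refine ⟨ψ, Sheaf.hom_ext (NatTrans.ext (funext fun Y' => AddCommGrpCat.ext fun z => ?_))⟩
  let h := Y'.unop.hom
  let q : Y'.unop.left ⟶ X := Additive.toMul (ULift.down z)
  show sap π _ (val _ _ a' ha' _ Φ h q) = φ.hom.app (op (Over.mk (h ≫ (c ≫ d) ≫ k))) (ULift.up (Additive.ofMul q))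
  refine eq_of_cover _ _ (pin (f (T.hom x)) (e (T.hom x)) a' ha' h q) (hcov _ _ a' ha' h q) fun n => ?_
  have hp := pin_comp (f (T.hom x)) (e (T.hom x)) a' ha' h q n
  set p := pin (f (T.hom x)) (e (T.hom x)) a' ha' h q n
  rw [← sap_rr, val_spec _ _ a' ha' _ Φ h q n p hp, sap_rr, hπΦ]
  refine (NatTrans.naturality_apply φ.hom
    (Over.homMk (p ≫ h) : Over.mk ((p ≫ h) ≫ c ≫ d ≫ k) ⟶ Over.mk (c ≫ d ≫ k)).op _).symm.trans ?_
  refine Eq.trans ?_ (NatTrans.naturality_apply φ.hom
    (Over.homMk p (by simp) : Over.mk ((p ≫ h) ≫ c ≫ d ≫ k) ⟶ Over.mk (h ≫ (c ≫ d) ≫ k)).op _)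
  refine congrArg (φ.hom.app _) (ULift.ext _ _ (congrArg Additive.ofMul ?_))
  show (p ≫ h) ≫ xe n = p ≫ q
  rw [hp, Category.assoc]

end Groth.Agent.S19292
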