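import Groth.Statements.S1930
import Groth.Agent.CycLib.DevGysinC1
import Groth.Agent.ProperFin.Supp
import Groth.Agent.ZClosLib.CohDescent
-- import your own Groth.Agent.* helpers here

set_option autoImplicit false
universe u
open CategoryTheory AlgebraicGeometry
open Cyc

namespace Groth.Agent.S1930

/-- Let X be integral with generic point η and δ(η) = n, i : D → X an effective Cartier divisor given as
the zero scheme of a global section s of an invertible module L which is a nonzerodivisor at every
point, N an invertible O_X-module and t ∈ N(η) a nonzero rational section. Then i^*(div_N t) ∼_rat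
c_1(N|_D) ∩ [D]_{n−1} as (n − 2)-cycles on D, the right side computed with any nonzero rational
sections of i^*N on D. Here i : D → X is the zero scheme of a global section s of the invertible
module L (Cyc.IsZeroSchemeOf), the Gysin map i^* : Z_{k+1}(X) → CH_k(D) is computed on coefficient
functions as c_1(L) ∩ − with the rational sections taken to be s where it is nonzero
(Cyc.gysinChoice) and restricted to the points of D, and classes on D are compared up to rational
equivalence on D for the restricted dimension function. Here a pair (X, δ) satisfying Cyc.IsSetup (X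
locally Noetherian with universally catenary local rings, δ a dimension function) plays the role of
a scheme locally of finite type over a fixed base equipped with a dimension function. -/
theorem result (X D : Scheme.{u}) [IsIntegral X] (δ : X → ℤ) (hX : Cyc.IsSetup X δ) (n : ℤ) (hn : δ (genericPoint X) = n) (L : X.Modules) (hL : PicF.IsInvertible L) (s : L.presheaf.obj (Opposite.op ⊤)) (hreg : ∀ x : X, Function.Injective (fun a : X.presheaf.stalk x => a • (L.presheaf.germ ⊤ x trivial) s)) (i : D ⟶ X) [IsClosedImmersion i] (hD : Cyc.IsZeroSchemeOf i L s) (N : X.Modules) (hN : PicF.IsInvertible N) (t : Cyc.secFibre N (genericPoint X)) (ht : t ≠ 0) (w : (ξ : X) → Cyc.secFibre L ξ) (hw : ∀ ξ, w ξ ≠ 0) (u : (d : D) → Cyc.secFibre ((Scheme.Modules.pullback i).obj N) d) (hu : ∀ d, u d ≠ 0) (γ₁ γ₂ : AlgebraicCycle D ℤ) (h₁ : ∀ d : D, γ₁ d = Cyc.c1CapFun δ L (Cyc.secDivFun δ N (genericPoint X) t) (Cyc.gysinChoice L s w) (i d)) (h₂ : ⇑γ₂ = Cyc.c1CapFun (fun d => δ (i d)) ((Scheme.Modules.pullback i).obj N) (Cyc.subschemeFun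 (fun d => δ (i d)) (n - 1) (𝟙 D)) u) : Cyc.RatEquiv (fun d => δ (i d)) (n - 2) γ₁ γ₂ := by
  classical
  haveI := hX.1
  haveI := CycLib.Dev.isLocallyNoetherian_closed i
  have hd := hX.2.2
  have hdD := CycLib.Dev.isDimFun_comp_closed i hd
  obtain ⟨k, rfl⟩ : ∃ m, n = m + 1 + 1 := ⟨n - 2, by ring⟩
  rw [show k + 1 + 1 - 2 = k by ring, Cyc.RatEquiv, CycLib.Dev.ratEquivZero_iff hdD,
    show ⇑(γ₁ - γ₂) = ⇑γ₁ - ⇑γ₂ from rfl, show ⇑γ₁ = _ from funext h₁, h₂, show k + 1 + 1 - 1 = k + 1 by ring]
  have hO := LFFrame.isInvertible_structureModule X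
  have hA : Cyc.CohLe δ (k + 1 + 1) (Coh.structureModule X) := ⟨ProperFin.isCoh_structureModule X, fun x _ =>
    hn ▸ CycLib.le_of_specializes hd (genericPoint_specializes x)⟩
  have htop : ∀ y : X, δ y = k + 1 + 1 → y = genericPoint X := fun y hy => by
    by_contra hne
    have := (hd _ y (genericPoint_specializes y) (Ne.symm hne)).1
    omega
  have hlenX : ∀ y : X, Module.length (X.presheaf.stalk y) ((Coh.structureModule X).presheaf.stalk y) =
      Module.length (X.presheaf.stalk y) (X.presheaf.stalk y) := fun y =>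
    (LinearEquiv.ofBijective _ (CycLib.Dev.isBas_oneGerm y)).length_eq.symm
  -- the fundamental cycle of `X`
  have ha : ∀ y : X, Cyc.sheafFun δ (k + 1 + 1) (Coh.structureModule X) y = if y = genericPoint X then 1 else 0 := by
    intro y
    rw [Cyc.sheafFun]
    by_cases hy : y = genericPoint X
    · subst hy
      haveI : IsSimpleOrder (Submodule (X.presheaf.stalk (genericPoint X)) (X.presheaf.stalk (genericPoint X))) :=
        inferInstanceAs (IsSimpleOrder (Ideal X.functionField))
      rw [if_pos hn, if_pos rfl, hlenX, Module.length_eq_one]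
      rfl
    · rw [if_neg fun h => hy (htop y h), if_neg hy]
  obtain ⟨v, hv, hvt⟩ : ∃ v : (ξ : X) → Cyc.secFibre N ξ, (∀ ξ, v ξ ≠ 0) ∧ v (genericPoint X) = t := by
    choose ν hν using CycLib.Dev.exists_isBas hN
    refine ⟨Function.update (fun ξ => Submodule.Quotient.mk (ν ξ)) (genericPoint X) t, fun ξ => ?_,
      Function.update_self ..⟩
    rcases eq_or_ne ξ (genericPoint X) with rfl | h
    · rwa [Function.update_self]
    · rw [Function.update_of_ne h]
      exact CycLib.Dev.mk_ne_zero_of_isBas (hν ξ)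
  have ec : Cyc.c1CapFun δ N (Cyc.sheafFun δ (k + 1 + 1) (Coh.structureModule X)) v =
      Cyc.secDivFun δ N (genericPoint X) t := by
    funext x
    rw [Cyc.c1CapFun, finsum_eq_single _ (genericPoint X) fun ξ hξ => by rw [ha, if_neg hξ, zero_mul],
      ha, if_pos rfl, one_mul, hvt]
  have hL' := PicCl.isInvertible_pullback i hL
  have hN' := PicCl.isInvertible_pullback i hN
  have hO' := PicCl.isInvertible_pullback i hO
  have m1 := CycLib.Dev.gysin_c1 hd hL s hN i hD.1 hL' hN' (CycLib.Dev.isCyc_sheafFun hd hA) w hw v hv u hu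
  rw [ec] at m1
  have m2 := CycLib.Dev.gysin_sheafFun hd hL s i hD hA (fun x t' f ht' hf => by
    have hb := CycLib.Dev.isBas_oneGerm x
    intro m m' e
    obtain ⟨a, rfl⟩ := hb.2 m
    obtain ⟨a', rfl⟩ := hb.2 m'
    have e' : f * a = f * a' := hb.1 (by simpa only [LinearMap.toSpanSingleton_apply, mul_smul] using e)
    refine congrArg _ (hreg x ?_)
    show a • (L.presheaf.germ ⊤ x trivial) s = a' • (L.presheaf.germ ⊤ x trivial) s
    rw [hf, smul_smul, smul_smul, mul_comm a, mul_comm a', e']) w hw
  have hsub : Cyc.sheafFun (fun d => δ (i d)) (k + 1) ((Scheme.Modules.pullback i).obj (Coh.structureModule X)) =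
      Cyc.subschemeFun (fun d => δ (i d)) (k + 1) (𝟙 D) := by
    funext d
    rw [CycLib.Dev.subschemeFun_id, Cyc.sheafFun]
    obtain ⟨b, hb⟩ := CycLib.Dev.exists_isBas hO' d
    refine if_congr Iff.rfl ?_ rfl
    rw [(LinearEquiv.ofBijective _ hb).length_eq]
  rw [hsub] at m2
  have cL := CycLib.Dev.IsCyc.comp_closed i
    (CycLib.Dev.isCyc_c1 hd hL (CycLib.Dev.isCyc_sheafFun hd hA) _ (CycLib.Dev.gysinChoice_ne_zero s w hw))
  have cS : CycLib.Dev.IsCyc (fun d => δ (i d)) (k + 1) (Cyc.subschemeFun (fun d => δ (i d)) (k + 1) (𝟙 D)) := by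
    have hF : Cyc.CohLe (fun d => δ (i d)) (k + 1) ((Scheme.Modules.pullback i).obj (Coh.structureModule X)) := by
      refine ⟨ZClosLib.CohDescent.isCoh_pullback _ _ (ProperFin.isCoh_structureModule X), fun d _ => ?_⟩
      show δ (i d) ≤ k + 1
      by_contra hlt
      have h1 := CycLib.le_of_specializes hd (genericPoint_specializes (i d))
      have hid := htop (i d) (by omega)
      obtain ⟨b, hb⟩ := CycLib.Dev.exists_isBas hL (i d)
      obtain ⟨f, hf⟩ := hb.2 ((L.presheaf.germ ⊤ (i d) trivial) s)
      replace hf : f • b = (L.presheaf.germ ⊤ (i d) trivial) s := hf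
      have hf0 : f ≠ 0 := fun h0 => one_ne_zero (hreg (i d) (show
        (1 : X.presheaf.stalk (i d)) • (L.presheaf.germ ⊤ (i d) trivial) s = (0 : X.presheaf.stalk (i d)) • _ by
          rw [← hf, h0, zero_smul, smul_zero, zero_smul]))
      have hfield : IsField (X.presheaf.stalk (i d)) := hid ▸ Field.toIsField X.functionField
      obtain ⟨g, hg⟩ := hfield.mul_inv_cancel hf0
      have hmem : i d ∈ CycLib.Dev.vset L s := Eq.mp (congrArg (i d ∈ ·) hD.1) (Set.mem_range_self d)
      exact CycLib.Dev.mk_ne_zero_of_isBas (CycLib.Dev.isBas_smul hb (IsUnit.of_mul_eq_one g hg))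
        (show Submodule.Quotient.mk (f • b) = (0 : Cyc.secFibre L (i d)) by rw [hf]; exact hmem)
    exact hsub ▸ CycLib.Dev.isCyc_sheafFun hdD hF
  have m3 := CycLib.Dev.c1_mem_of_ratEquivZero hdD hN' (cL.sub cS) m2 u hu
  rw [CycLib.Dev.c1_sub cL cS] at m3
  have := add_mem m1 m3
  rwa [sub_add_sub_cancel] at this

end Groth.Agent.S1930
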