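import Groth.Statements.S19302
import Groth.Agent.AbSch51.TorusToProper
import Groth.Agent.AbSch51.HomShZero
import Groth.Agent.AbSch51.ToAffine
import Groth.Agent.AbSch51.ConnFibres
import Groth.Agent.DiagRig.MultProp
import Groth.Agent.CGrpEx.HomExact
-- import your own Groth.Agent.* helpers here

set_option autoImplicit false
universe u
open CategoryTheory CategoryTheory.Limits MonoidalCategory CartesianMonoidalCategory MonObj AlgebraicGeometry
open AbSch

namespace Groth.Agent.S19302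

/-- Let S be a scheme and, for i = 1, 2, let G_i be a commutative S-group scheme given as an extension
of an abelian S-scheme A_i (smooth, proper, connected fibres) by an S-torus T_i: homomorphisms T_i →
G_i → A_i composing to the trivial map whose sequence of sheaves of points on the big fppf site of S
is short exact. Then, for the internal Hom sheaves of the sheaves of points on that site: the map
Hom(A₁, A₂) → Hom(G₁, A₂) induced by G₁ → A₁ is an isomorphism; the map Hom(T₁, T₂) → Hom(T₁, G₂)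
induced by T₂ → G₂ is an isomorphism; the map Hom(G₁, T₂) → Hom(T₁, T₂) induced by T₁ → G₁ is a
monomorphism; and the map Hom(A₁, G₂) → Hom(A₁, A₂) induced by G₂ → A₂ is a monomorphism. -/
theorem result {S : Scheme.{u}} (T₁ G₁ A₁ T₂ G₂ A₂ : Over S)
    [GrpObj T₁] [IsCommMonObj T₁] (hT₁ : Red.IsTorus T₁) [GrpObj G₁] [IsCommMonObj G₁]
    [GrpObj A₁] [IsCommMonObj A₁] [Smooth A₁.hom] [IsProper A₁.hom]
    (hA₁ : ∀ s : S, ConnectedSpace ↥(A₁.hom.fiber s))
    [GrpObj T₂] [IsCommMonObj T₂] (hT₂ : Red.IsTorus T₂) [GrpObj G₂] [IsCommMonObj G₂]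
    [GrpObj A₂] [IsCommMonObj A₂] [Smooth A₂.hom] [IsProper A₂.hom]
    (hA₂ : ∀ s : S, ConnectedSpace ↥(A₂.hom.fiber s))
    (ι₁ : T₁ ⟶ G₁) (π₁ : G₁ ⟶ A₁) [IsMonHom ι₁] [IsMonHom π₁] (w₁ : ι₁ ≫ π₁ = 1)
    (hex₁ : (CGrpSh.seq Scheme.fppfPrecoverage ι₁ π₁ w₁).ShortExact)
    (ι₂ : T₂ ⟶ G₂) (π₂ : G₂ ⟶ A₂) [IsMonHom ι₂] [IsMonHom π₂] (w₂ : ι₂ ≫ π₂ = 1)
    (hex₂ : (CGrpSh.seq Scheme.fppfPrecoverage ι₂ π₂ w₂).ShortExact) :
    IsIso (HomSh.homShMap (QuotSh.J Scheme.fppfPrecoverage S) (CGrpSh.ptsMap Scheme.fppfPrecoverage π₁) (𝟙 (CGrpSh.pts Scheme.fppfPrecoverage A₂))) ∧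
    IsIso (HomSh.homShMap (QuotSh.J Scheme.fppfPrecoverage S) (𝟙 (CGrpSh.pts Scheme.fppfPrecoverage T₁)) (CGrpSh.ptsMap Scheme.fppfPrecoverage ι₂)) ∧
    Mono (HomSh.homShMap (QuotSh.J Scheme.fppfPrecoverage S) (CGrpSh.ptsMap Scheme.fppfPrecoverage ι₁) (𝟙 (CGrpSh.pts Scheme.fppfPrecoverage T₂))) ∧
    Mono (HomSh.homShMap (QuotSh.J Scheme.fppfPrecoverage S) (𝟙 (CGrpSh.pts Scheme.fppfPrecoverage A₁)) (CGrpSh.ptsMap Scheme.fppfPrecoverage π₂)) := by
  have hTA : IsZero (HomSh.homSh (QuotSh.J Scheme.fppfPrecoverage S) (CGrpSh.pts Scheme.fppfPrecoverage T₁) (CGrpSh.pts Scheme.fppfPrecoverage A₂)) :=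
    AbSch51.HomShZero.isZero T₁ A₂ fun p v _ => by
      have : IsProper (Red.bc p A₂).hom :=
        MorphismProperty.pullback_snd (P := @IsProper) _ _ ‹IsProper A₂.hom›
      have : LocallyOfFinitePresentation (Red.bc p A₂).hom :=
        MorphismProperty.pullback_snd (P := @LocallyOfFinitePresentation) _ _ inferInstance
      exact AbSch51.TorusToProper.hom_eq_one (AbSch51.TorusToProper.isTorus_bc p hT₁) v
  have hAT : IsZero (HomSh.homSh (QuotSh.J Scheme.fppfPrecoverage S) (CGrpSh.pts Scheme.fppfPrecoverage A₁) (CGrpSh.pts Scheme.fppfPrecoverage T₂)) :=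
    AbSch51.HomShZero.isZero A₁ T₂ fun p v _ => by
      have := AbSch51.ConnFibres.geometricallyConnected A₁ hA₁
      have := Groth.Agent.AbSch51.geometricallyReduced_of_smooth A₁.hom
      have : IsProper (Red.bc p A₁).hom :=
        MorphismProperty.pullback_snd (P := @IsProper) _ _ ‹IsProper A₁.hom›
      have : Flat (Red.bc p A₁).hom :=
        MorphismProperty.pullback_snd (P := @Flat) _ _ inferInstance
      have : LocallyOfFinitePresentation (Red.bc p A₁).hom :=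
        MorphismProperty.pullback_snd (P := @LocallyOfFinitePresentation) _ _ inferInstance
      have : GeometricallyConnected (Red.bc p A₁).hom :=
        MorphismProperty.pullback_snd (P := @GeometricallyConnected) _ _ ‹GeometricallyConnected A₁.hom›
      have : GeometricallyReduced (Red.bc p A₁).hom :=
        MorphismProperty.pullback_snd (P := @GeometricallyReduced) _ _ ‹GeometricallyReduced A₁.hom›
      have : IsAffineHom (Red.bc p T₂).hom :=
        (DiagRig.multType_isAffineHom _ (AbSch51.TorusToProper.isMultTypeFT_of_isTorus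
          (AbSch51.TorusToProper.isTorus_bc p hT₂)))
      exact AbSch51.ToAffine.hom_eq_one v
  obtain ⟨e₁, m₁⟩ := CGrpEx.HomExact.left_exact (QuotSh.J Scheme.fppfPrecoverage S) hex₁ (CGrpSh.pts Scheme.fppfPrecoverage A₂)
  obtain ⟨e₂, m₂⟩ := CGrpEx.HomExact.right_exact' (QuotSh.J Scheme.fppfPrecoverage S) hex₂ (CGrpSh.pts Scheme.fppfPrecoverage T₁)
  obtain ⟨e₃, m₃⟩ := CGrpEx.HomExact.left_exact (QuotSh.J Scheme.fppfPrecoverage S) hex₁ (CGrpSh.pts Scheme.fppfPrecoverage T₂)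
  obtain ⟨e₄, m₄⟩ := CGrpEx.HomExact.right_exact' (QuotSh.J Scheme.fppfPrecoverage S) hex₂ (CGrpSh.pts Scheme.fppfPrecoverage A₁)
  refine ⟨?_, ?_, e₃.mono_g (hAT.eq_of_src _ _), e₄.mono_g (hAT.eq_of_src _ _)⟩
  · have := e₁.epi_f (hTA.eq_of_tgt _ _)
    exact @isIso_of_mono_of_epi _ _ _ _ _ _ m₁ this
  · have := e₂.epi_f (hTA.eq_of_tgt _ _)
    exact @isIso_of_mono_of_epi _ _ _ _ _ _ m₂ this

end Groth.Agent.S19302
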