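import Groth.Statements.S19307
import Groth.Agent.GITLib.Pushforward
import Groth.Agent.AlgSpCov.EtaleSections
import Groth.Agent.RegLoc.CoeffField
import Mathlib.AlgebraicGeometry.Morphisms.LocalFlatDescent
import Mathlib.RingTheory.AdicCompletion.Completeness
-- import your own Groth.Agent.* helpers here

set_option autoImplicit false
universe u
open CategoryTheory MonoidalCategory CartesianMonoidalCategory MonObj GrpObj AlgebraicGeometry PowerSeries
open NonAbH1

namespace Groth.Agent.S19307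

open Groth.Agent Groth.Agent.GITLib CategoryTheory.Limits

/-- A smooth surjection onto an affine scheme has a section over an affine étale covering. -/
theorem exists_etale_section_affine {Z S : Scheme.{u}} [IsAffine S] (f : Z ⟶ S) [Smooth f] [Surjective f] :
    ∃ (W : Scheme.{u}) (_ : IsAffine W) (g : W ⟶ S) (h : W ⟶ Z), Etale g ∧ Surjective g ∧ h ≫ f = g := by
  have hloc : ∀ s : S, ∃ (V : Scheme.{u}) (g : V ⟶ S) (h : V ⟶ Z), IsAffine V ∧ Etale g ∧ s ∈ Set.range g ∧ h ≫ f = g := by
    intro s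
    obtain ⟨z, rfl⟩ := f.surjective s
    obtain ⟨S', g, s', hg, hs', h, hh⟩ := AlgSpCov.exists_etale_section f z
    obtain ⟨V, hV, hsV, -⟩ := exists_isAffineOpen_mem_and_subset (X := S') (x := s') (U := ⊤) trivial
    haveI : Etale g := hg
    haveI : Etale V.ι := inferInstance
    exact ⟨V.toScheme, V.ι ≫ g, V.ι ≫ h, hV, MorphismProperty.comp_mem _ _ _ ‹Etale V.ι› hg,
      ⟨⟨s', hsV⟩, hs'⟩, by rw [Category.assoc, hh]⟩
  choose V g h hV hg hs hh using hloc
  haveI := hg
  obtain ⟨t, ht⟩ := isCompact_univ.elim_finite_subcover (fun s => Set.range (g s))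
    (fun s => (g s).isOpenMap.isOpen_range) (fun s _ => Set.mem_iUnion.2 ⟨s, hs s⟩)
  haveI : ∀ i : t, IsAffine (V i.1) := fun i => hV i.1
  refine ⟨∐ fun i : t => V i.1, inferInstance, Sigma.desc fun i : t => g i.1, Sigma.desc fun i : t => h i.1,
    IsZariskiLocalAtSource.sigmaDesc (P := @Etale) fun i => hg i.1, ⟨fun s => ?_⟩,
    Sigma.hom_ext _ _ fun i => by simp [hh]⟩
  obtain ⟨i, hi, v, hv⟩ := Set.mem_iUnion₂.1 (ht (Set.mem_univ s))
  refine ⟨(Sigma.ι (fun i : t => V i.1) ⟨i, hi⟩).base v, ?_⟩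
  rw [← Scheme.Hom.comp_apply, Sigma.ι_desc]
  exact hv

/-- Let R be a commutative ring, G an affine smooth group scheme over the power series ring R⟦X⟧ and P a
G-torsor over Spec R⟦X⟧ for the fpqc topology. Then there is an étale and faithfully flat R-algebra
R' such that P has a section over Spec R'⟦X⟧. (The published statement takes R an algebra over a
field and G the base change to R⟦X⟧ of a smooth affine group scheme over the power series ring of
that field; the statement here allows any affine smooth group scheme over R⟦X⟧, to which the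
published proof applies unchanged.) -/
theorem result
    (R : Type u) [CommRing R]
    (G : Over (Spec (CommRingCat.of R⟦X⟧))) [GrpObj G] [IsAffine G.left] [Smooth G.hom]
    (P : Over (Spec (CommRingCat.of R⟦X⟧))) (a : AlgGrp.Action G P)
    (hP : NonAbH1.IsTorsorFor Scheme.fpqcPrecoverage a) :
    ∃ (R' : Type u) (_ : CommRing R') (_ : Algebra R R'),
      Algebra.Etale R R' ∧ Module.FaithfullyFlat R R' ∧
      NonAbH1.HasSectionOver P (Spec.map (CommRingCat.ofHom (PowerSeries.map (algebraMap R R')))) := by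
  haveI : MorphismProperty.DescendsAlong @IsAffineHom AlgSpCov.Fpqc.{u} := FpqcDesc.descendsAlong_isAffineHom
  haveI : MorphismProperty.DescendsAlong @Smooth AlgSpCov.Fpqc.{u} :=
    inferInstanceAs (MorphismProperty.DescendsAlong @Smooth (@Surjective ⊓ @Flat ⊓ @QuasiCompact))
  haveI : IsAffineHom P.hom := property_of_torsor @IsAffineHom hP inferInstance
  haveI : Smooth P.hom := property_of_torsor @Smooth hP inferInstance
  haveI : Surjective P.hom := surjective_of_isLocallyTrivialFor hP.2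
  haveI : IsAffine P.left := isAffine_of_isAffineHom P.hom
  let z₀ : Spec (CommRingCat.of R) ⟶ Spec (CommRingCat.of R⟦X⟧) :=
    Spec.map (CommRingCat.ofHom (PowerSeries.constantCoeff (R := R)))
  obtain ⟨W, hW, g, h, hg, hgs, hh⟩ := exists_etale_section_affine (pullback.snd P.hom z₀)
  let ψ : R →+* Γ(W, ⊤) := ((Scheme.ΓSpecIso (CommRingCat.of R)).inv ≫ g.appTop).hom
  letI : Algebra R Γ(W, ⊤) := ψ.toAlgebra
  let R' := Γ(W, ⊤)
  let σ : W ⟶ Spec (CommRingCat.of R') := W.isoSpec.hom
  have hg' : W.isoSpec.hom ≫ Spec.map (CommRingCat.ofHom (algebraMap R R')) = g := by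
    show W.isoSpec.hom ≫ Spec.map ((Scheme.ΓSpecIso (CommRingCat.of R)).inv ≫ g.appTop) = g
    rw [Spec.map_comp, Scheme.isoSpec_hom, ← Scheme.toSpecΓ_naturality_assoc, toSpecΓ_SpecMap_ΓSpecIso_inv,
      Category.comp_id]
  have hEt : Etale (Spec.map (CommRingCat.ofHom (algebraMap R R'))) := by
    rw [show Spec.map (CommRingCat.ofHom (algebraMap R R')) = W.isoSpec.inv ≫ g by
      rw [← hg', Iso.inv_hom_id_assoc]]
    exact MorphismProperty.comp_mem _ _ _ inferInstance hg
  have hetR : (algebraMap R R').Etale := by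
    rwa [HasRingHomProperty.Spec_iff (P := @Etale)] at hEt
  haveI : Algebra.Etale R R' := RingHom.etale_algebraMap.1 hetR
  haveI : Module.FaithfullyFlat R R' := by
    refine Module.FaithfullyFlat.of_comap_surjective fun q => ?_
    obtain ⟨w, hw⟩ := g.surjective q
    rw [← hg', Scheme.Hom.comp_apply] at hw
    exact ⟨W.isoSpec.hom.base w, hw⟩
  refine ⟨R', inferInstance, inferInstance, inferInstance, inferInstance, ?_⟩
  -- lift the section
  let j := CommRingCat.ofHom (PowerSeries.map (algebraMap R R'))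
  letI : Algebra R⟦X⟧ R'⟦X⟧ := (PowerSeries.map (algebraMap R R')).toAlgebra
  let B := Γ(P.left, ⊤)
  let β : R⟦X⟧ →+* B := ((Scheme.ΓSpecIso (CommRingCat.of R⟦X⟧)).inv ≫ P.hom.appTop).hom
  letI : Algebra R⟦X⟧ B := β.toAlgebra
  have hP' : P.left.isoSpec.hom ≫ Spec.map (CommRingCat.ofHom β) = P.hom := by
    show P.left.isoSpec.hom ≫ Spec.map ((Scheme.ΓSpecIso (CommRingCat.of R⟦X⟧)).inv ≫ P.hom.appTop) = P.hom
    rw [Spec.map_comp, Scheme.isoSpec_hom, ← Scheme.toSpecΓ_naturality_assoc, toSpecΓ_SpecMap_ΓSpecIso_inv,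
      Category.comp_id]
  have hBs : Smooth (Spec.map (CommRingCat.ofHom β)) := by
    rw [show Spec.map (CommRingCat.ofHom β) = P.left.isoSpec.inv ≫ P.hom by
      rw [← hP', Iso.inv_hom_id_assoc]]
    infer_instance
  have hsm : (algebraMap R⟦X⟧ B).Smooth := by
    rw [HasRingHomProperty.Spec_iff (P := @Smooth)] at hBs
    exact hBs
  haveI : Algebra.Smooth R⟦X⟧ B := RingHom.smooth_algebraMap.1 hsm
  obtain ⟨φ₀, hφ₀⟩ : ∃ φ₀ : B →+* R', φ₀.comp (algebraMap R⟦X⟧ B) =
      (algebraMap R R').comp (PowerSeries.constantCoeff (R := R)) := by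
    let v : Spec (CommRingCat.of R') ⟶ Spec (CommRingCat.of B) :=
      W.isoSpec.inv ≫ h ≫ pullback.fst P.hom z₀ ≫ P.left.isoSpec.hom
    refine ⟨(Spec.preimage v).hom, ?_⟩
    have e : CommRingCat.ofHom β ≫ Spec.preimage v =
        CommRingCat.ofHom (PowerSeries.constantCoeff (R := R)) ≫ CommRingCat.ofHom (algebraMap R R') := by
      apply Spec.map_injective
      rw [Spec.map_comp, Spec.map_preimage, Spec.map_comp]
      simp only [v, Category.assoc]
      rw [hP', pullback.condition, reassoc_of% hh, ← Category.assoc W.isoSpec.inv g,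
        show W.isoSpec.inv ≫ g = Spec.map (CommRingCat.ofHom (algebraMap R R')) by rw [← hg', Iso.inv_hom_id_assoc]]
    exact congrArg CommRingCat.Hom.hom e
  let I : Ideal R'⟦X⟧ := Ideal.span {PowerSeries.X}
  have hI : ∀ f : R'⟦X⟧, Ideal.Quotient.mk I (PowerSeries.C (PowerSeries.constantCoeff f)) = Ideal.Quotient.mk I f := by
    intro f
    rw [Ideal.Quotient.eq, Ideal.mem_span_singleton, PowerSeries.X_dvd_iff, map_sub,
      PowerSeries.constantCoeff_C, sub_self]
  let φ : B →ₐ[R⟦X⟧] R'⟦X⟧ ⧸ I :=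
    { ((Ideal.Quotient.mk I).comp (PowerSeries.C (R := R'))).comp φ₀ with
      commutes' := fun r => by
        show Ideal.Quotient.mk I (PowerSeries.C (φ₀ (algebraMap R⟦X⟧ B r))) = Ideal.Quotient.mk I (PowerSeries.map (algebraMap R R') r)
        rw [show φ₀ (algebraMap R⟦X⟧ B r) = _ from RingHom.congr_fun hφ₀ r, ← hI (PowerSeries.map _ r)]
        congr 2 }
  obtain ⟨Φ, -⟩ := RegLoc.exists_lift_adicComplete I φ
  refine ⟨Spec.map (CommRingCat.ofHom Φ.toRingHom) ≫ P.left.isoSpec.inv, ?_⟩
  rw [Category.assoc, show P.left.isoSpec.inv ≫ P.hom = Spec.map (CommRingCat.ofHom β) by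
    rw [← hP', Iso.inv_hom_id_assoc], ← Spec.map_comp, ← CommRingCat.ofHom_comp]
  congr 2
  exact Φ.comp_algebraMap
end Groth.Agent.S19307
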