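import Groth.Statements.S19308
import Groth.Agent.FBase.TensorAlgClosed
import Mathlib.RingTheory.Ideal.AssociatedPrime.Finiteness
import Mathlib.RingTheory.Flat.Tensor

set_option autoImplicit false
universe u
open TensorProduct
open CAlg

set_option maxHeartbeats 1000000

namespace Groth.Agent.S19308

open TensorProduct

variable {k A : Type u} [Field k] [CommRing A] [Algebra k A]

/-- Some coefficient of `f` is a unit. -/
def HasUnitCoeff {R : Type u} [CommRing R] [Algebra k R] {ι : Type u} (b : Module.Basis ι k A)
    (f : R ⊗[k] A) : Prop :=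
  ∃ i, IsUnit ((Algebra.TensorProduct.basis R b).repr f i)

theorem repr_map {R S : Type u} [CommRing R] [Algebra k R] [CommRing S] [Algebra k S] {ι : Type u}
    (b : Module.Basis ι k A) (φ : R →ₐ[k] S) (f : R ⊗[k] A) (i : ι) :
    (Algebra.TensorProduct.basis S b).repr (Algebra.TensorProduct.map φ (AlgHom.id k A) f) i =
      φ ((Algebra.TensorProduct.basis R b).repr f i) := by
  induction f using TensorProduct.induction_on with
  | zero => simp
  | tmul r a =>
    rw [Algebra.TensorProduct.map_tmul, AlgHom.id_apply, Algebra.TensorProduct.basis_repr_tmul,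
      Algebra.TensorProduct.basis_repr_tmul]
    simp
  | add x y hx hy => simp [hx, hy]

theorem hasUnitCoeff_map {R S : Type u} [CommRing R] [Algebra k R] [CommRing S] [Algebra k S]
    {ι : Type u} (b : Module.Basis ι k A) (φ : R →ₐ[k] S) {f : R ⊗[k] A} (h : HasUnitCoeff b f) :
    HasUnitCoeff b (Algebra.TensorProduct.map φ (AlgHom.id k A) f) := by
  obtain ⟨i, hi⟩ := h
  exact ⟨i, by rw [repr_map]; exact hi.map φ⟩

set_option maxHeartbeats 1000000 in
/-- Multiplication by `f` on `(R ⧸ J) ⊗[R] (R ⊗[k] A)` is multiplication by the image of `f`. -/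
theorem injective_lTensor_of_quotient {R : Type u} [CommRing R] [Algebra k R] (f : R ⊗[k] A)
    (J : Ideal R)
    (h : ∀ x, Algebra.TensorProduct.map (Ideal.Quotient.mkₐ k J) (AlgHom.id k A) f * x = 0 → x = 0) :
    Function.Injective ((LinearMap.mulLeft R f).lTensor (R ⧸ J)) := by
  let e := Algebra.TensorProduct.cancelBaseChange k R (R ⧸ J) (R ⧸ J) A
  have he : ∀ (q : R ⧸ J) (r : R) (a : A), e (q ⊗ₜ[R] (r ⊗ₜ[k] a)) = (r • q) ⊗ₜ[k] a :=
    fun q r a => by simp [e]
  have h1 : ∀ g : R ⊗[k] A, e ((1 : R ⧸ J) ⊗ₜ[R] g) =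
      Algebra.TensorProduct.map (Ideal.Quotient.mkₐ k J) (AlgHom.id k A) g := by
    intro g
    induction g using TensorProduct.induction_on with
    | zero => simp
    | tmul r a =>
      rw [he, Algebra.TensorProduct.map_tmul, Algebra.smul_def, mul_one]
      rfl
    | add x y hx hy => simp [TensorProduct.tmul_add, hx, hy]
  have h2 : ∀ z, e ((LinearMap.mulLeft R f).lTensor (R ⧸ J) z) =
      Algebra.TensorProduct.map (Ideal.Quotient.mkₐ k J) (AlgHom.id k A) f * e z := by
    intro z
    induction z using TensorProduct.induction_on with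
    | zero => simp
    | tmul q g =>
      rw [LinearMap.lTensor_tmul, LinearMap.mulLeft_apply, ← h1, ← map_mul,
        Algebra.TensorProduct.tmul_mul_tmul, one_mul]
    | add x y hx hy => rw [map_add, map_add, map_add, hx, hy, mul_add]
  refine (injective_iff_map_eq_zero _).2 fun z hz => ?_
  have h3 := h2 z
  rw [hz, map_zero] at h3
  exact e.injective ((h _ h3.symm).trans (map_zero e).symm)

variable [IsAlgClosed k] [IsDomain A] {ι : Type u} (b : Module.Basis ι k A)

omit [IsAlgClosed k] [IsDomain A] in
theorem ne_zero_of_hasUnitCoeff {R : Type u} [CommRing R] [Nontrivial R] [Algebra k R] {f : R ⊗[k] A}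
    (h : HasUnitCoeff b f) : f ≠ 0 := by
  obtain ⟨i, hi⟩ := h
  rintro rfl
  rw [map_zero, Finsupp.zero_apply] at hi
  exact not_isUnit_zero hi

include b in
theorem eq_zero_of_mul_eq_zero_of_noetherian {R : Type u} [CommRing R] [IsNoetherianRing R]
    [Algebra k R] {f : R ⊗[k] A} (hf : HasUnitCoeff b f) {x : R ⊗[k] A} (hx : f * x = 0) : x = 0 := by
  suffices H : Function.Injective ((LinearMap.mulLeft R f).lTensor R) by
    have h1 : (LinearMap.mulLeft R f).lTensor R ((1 : R) ⊗ₜ x) = 0 := by
      rw [LinearMap.lTensor_tmul, LinearMap.mulLeft_apply, hx, TensorProduct.tmul_zero]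
    have h2 := congrArg (TensorProduct.lid R (R ⊗[k] A)) ((injective_iff_map_eq_zero _).1 H _ h1)
    simpa using h2
  suffices key : ∀ (M : Type u) [AddCommGroup M] [Module R M] [Module.Finite R M],
      Function.Injective ((LinearMap.mulLeft R f).lTensor M) from key R
  intro M _ _ _
  induction ‹Module.Finite R M› using
    IsNoetherianRing.induction_on_isQuotientEquivQuotientPrime R with
  | subsingleton N => exact fun a c _ => Subsingleton.elim a c
  | quotient N p e =>
    have hp := injective_lTensor_of_quotient f p.1 (fun y hy => ?_)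
    · intro a c hac
      apply (e.rTensor (R ⊗[k] A)).injective
      apply hp
      have key : ∀ a, (LinearMap.mulLeft R f).lTensor (R ⧸ p.1) (e.rTensor (R ⊗[k] A) a) =
          e.rTensor (R ⊗[k] A) ((LinearMap.mulLeft R f).lTensor N a) := fun a => by
        induction a using TensorProduct.induction_on with
        | zero => simp
        | tmul n g => simp
        | add x y hx hy => simp [hx, hy]
      rw [key, key, hac]
    · let Q := R ⧸ p.1
      let K := FractionRing Q
      let ψ := Algebra.TensorProduct.map (IsScalarTower.toAlgHom k Q K) (AlgHom.id k A)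
      have hψ : Function.Injective ψ :=
        Module.Flat.rTensor_preserves_injective_linearMap (IsScalarTower.toAlgHom k Q K).toLinearMap
          (IsFractionRing.injective Q K)
      haveI : IsDomain (A ⊗[k] K) := FBase.TensorAlgClosed.isDomain_tensor_field
      haveI : IsDomain (K ⊗[k] A) :=
        (Algebra.TensorProduct.comm k K A).toMulEquiv.isDomain (A ⊗[k] K)
      refine hψ ?_
      have h0 : ψ (Algebra.TensorProduct.map (Ideal.Quotient.mkₐ k p.1) (AlgHom.id k A) f) * ψ y = 0 := by
        rw [← map_mul, hy, map_zero]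
      rw [map_zero]
      exact (mul_eq_zero.1 h0).resolve_left
        (ne_zero_of_hasUnitCoeff b (hasUnitCoeff_map b _ (hasUnitCoeff_map b _ hf)))
  | exact N₁ N₂ N₃ g h hg hh hex h₁ h₃ =>
    refine (injective_iff_map_eq_zero _).2 fun z hz => ?_
    have h4 : (LinearMap.mulLeft R f).lTensor N₃ (h.rTensor (R ⊗[k] A) z) = 0 := by
      rw [← LinearMap.comp_apply, LinearMap.lTensor_comp_rTensor, ← LinearMap.rTensor_comp_lTensor,
        LinearMap.comp_apply, hz, map_zero]
    obtain ⟨w, rfl⟩ := (rTensor_exact (R ⊗[k] A) hex hh z).1 ((injective_iff_map_eq_zero _).1 h₃ _ h4)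
    rw [← LinearMap.comp_apply, LinearMap.lTensor_comp_rTensor, ← LinearMap.rTensor_comp_lTensor,
      LinearMap.comp_apply] at hz
    have hinj : Function.Injective (g.rTensor (R ⊗[k] A)) :=
      Module.Flat.rTensor_preserves_injective_linearMap g hg
    rw [(injective_iff_map_eq_zero _).1 h₁ w ((injective_iff_map_eq_zero _).1 hinj _ hz), map_zero]

include b in
/-- An element with a unit coefficient is a non-zero-divisor. -/
theorem eq_zero_of_mul_eq_zero {R : Type u} [CommRing R]
    [Algebra k R] {f : R ⊗[k] A} (hf : HasUnitCoeff b f) {x : R ⊗[k] A} (hx : f * x = 0) : x = 0 := by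
  classical
  obtain ⟨i₀, u, hu⟩ := hf
  let B := Algebra.TensorProduct.basis R b
  let s : Finset R :=
    (B.repr f).support.image (fun i => B.repr f i) ∪ (B.repr x).support.image (fun i => B.repr x i) ∪
      {((u⁻¹ : Rˣ) : R)}
  let R₀ := Algebra.adjoin k (s : Set R)
  haveI : Algebra.FiniteType k R₀ :=
    (Subalgebra.fg_iff_finiteType R₀).mp (Subalgebra.fg_adjoin_finset s)
  haveI : IsNoetherianRing R₀ := Algebra.FiniteType.isNoetherianRing k R₀
  let ψ := Algebra.TensorProduct.map R₀.val (AlgHom.id k A)
  have hψ : Function.Injective ψ :=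
    Module.Flat.rTensor_preserves_injective_linearMap R₀.val.toLinearMap Subtype.val_injective
  have lift : ∀ g : R ⊗[k] A, (∀ i, B.repr g i ∈ R₀) → ∃ g₀, ψ g₀ = g := by
    intro g hg
    refine ⟨(B.repr g).sum fun i _ => (⟨B.repr g i, hg i⟩ : R₀) ⊗ₜ b i, ?_⟩
    rw [Finsupp.sum, map_sum]
    conv_rhs => rw [← B.linearCombination_repr g, Finsupp.linearCombination_apply, Finsupp.sum]
    refine Finset.sum_congr rfl fun i _ => ?_
    simp [ψ, B, TensorProduct.smul_tmul']
  have hmem : ∀ g : R ⊗[k] A, ((B.repr g).support.image fun i => B.repr g i) ⊆ s →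
      ∀ i, B.repr g i ∈ R₀ := fun g hg i => by
    by_cases hi : i ∈ (B.repr g).support
    · exact Algebra.subset_adjoin (Finset.mem_coe.2 (hg (Finset.mem_image_of_mem _ hi)))
    · rw [Finsupp.notMem_support_iff.1 hi]; exact R₀.zero_mem
  obtain ⟨f₀, hf₀⟩ := lift f (hmem f (Finset.subset_union_left.trans Finset.subset_union_left))
  obtain ⟨x₀, hx₀⟩ := lift x (hmem x (Finset.subset_union_right.trans Finset.subset_union_left))
  rw [← hf₀, ← hx₀, ← map_mul, ← map_zero ψ] at hx
  have hu₀ : HasUnitCoeff b f₀ := by
    refine ⟨i₀, IsUnit.of_mul_eq_one (⟨((u⁻¹ : Rˣ) : R), Algebra.subset_adjoin (Finset.mem_coe.2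
      (Finset.mem_union_right _ (Finset.mem_singleton_self _)))⟩ : R₀) (Subtype.ext ?_)⟩
    have := repr_map b R₀.val f₀ i₀
    simp only [Subalgebra.coe_val] at this
    show _ * ((u⁻¹ : Rˣ) : R) = 1
    rw [← this, show (Algebra.TensorProduct.basis R b).repr (ψ f₀) i₀ = u from hf₀.symm ▸ hu.symm,
      Units.mul_inv]
  rw [← hx₀, eq_zero_of_mul_eq_zero_of_noetherian b hu₀ (hψ hx), map_zero]

include b in
/-- The quotient by an element with a unit coefficient is flat over the base. -/
theorem flat_quotient {R : Type u} [CommRing R] [Algebra k R] {f : R ⊗[k] A} (hf : HasUnitCoeff b f) :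
    Module.Flat R ((R ⊗[k] A) ⧸ Ideal.span {f}) := by
  rw [Module.Flat.iff_rTensor_injective']
  intro J
  let F := R ⊗[k] A
  let μ : F →ₗ[R] F := LinearMap.mulLeft R f
  let π : F →ₗ[R] (F ⧸ Ideal.span {f}) := (Ideal.Quotient.mkₐ R (Ideal.span {f})).toLinearMap
  have hπ : Function.Surjective π := Ideal.Quotient.mk_surjective
  have hex : Function.Exact μ π := fun y => by
    show Ideal.Quotient.mk _ y = 0 ↔ _
    rw [Ideal.Quotient.eq_zero_iff_mem, Ideal.mem_span_singleton']
    exact ⟨fun ⟨c, hc⟩ => ⟨c, by simpa [μ, mul_comm] using hc⟩,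
      fun ⟨c, hc⟩ => ⟨c, by simpa [μ, mul_comm] using hc⟩⟩
  have hinj : Function.Injective (μ.lTensor (R ⧸ J)) :=
    injective_lTensor_of_quotient f J fun x hx => eq_zero_of_mul_eq_zero b (hasUnitCoeff_map b _ hf) hx
  refine (injective_iff_map_eq_zero _).2 fun z hz => ?_
  obtain ⟨w, rfl⟩ := LinearMap.lTensor_surjective J hπ z
  rw [← LinearMap.comp_apply, LinearMap.rTensor_comp_lTensor, ← LinearMap.lTensor_comp_rTensor,
    LinearMap.comp_apply] at hz
  obtain ⟨y, hy⟩ := (lTensor_exact R hex hπ _).1 hz
  have hc : (J.mkQ).rTensor F y = 0 := by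
    apply hinj
    rw [← LinearMap.comp_apply, LinearMap.lTensor_comp_rTensor, ← LinearMap.rTensor_comp_lTensor,
      LinearMap.comp_apply, hy, map_zero, ← LinearMap.comp_apply, ← LinearMap.rTensor_comp,
      show J.mkQ.comp J.subtype = 0 from LinearMap.ext fun j => (Submodule.Quotient.mk_eq_zero _).2 j.2,
      LinearMap.rTensor_zero, LinearMap.zero_apply]
  obtain ⟨v, rfl⟩ := (rTensor_exact F (LinearMap.exact_subtype_mkQ J) (Submodule.mkQ_surjective J) _).1 hc
  rw [← LinearMap.comp_apply, LinearMap.lTensor_comp_rTensor, ← LinearMap.rTensor_comp_lTensor,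
    LinearMap.comp_apply] at hy
  have hJF : Function.Injective (J.subtype.rTensor F) :=
    Module.Flat.rTensor_preserves_injective_linearMap J.subtype J.subtype_injective
  rw [← hJF hy, ← LinearMap.comp_apply, ← LinearMap.lTensor_comp,
    show π.comp μ = 0 from LinearMap.ext fun c => (hex (μ c)).2 ⟨c, rfl⟩,
    LinearMap.lTensor_zero, LinearMap.zero_apply]

/-- Let k be an algebraically closed field, A a finitely generated k-algebra which is an integral domain
(an affine variety X = Spec A), Z a finite (possibly empty) set of k-points of A, R a commutative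
k-algebra and U an open dense subset of Spec (R ⊗_k A) = X_R containing every point of Z_R and
meeting every fibre of X_R → Spec R. Then locally on Spec R there is a principal relative effective
Cartier divisor missing Z_R whose complement lies in U: for every prime p of R there are r ∉ p and f
∈ R[1/r] ⊗_k A such that f is a non-zero-divisor, (R[1/r] ⊗_k A)/(f) is flat over R[1/r], f maps to
a unit under every point of Z, and the basic open set D(f) of X_{R[1/r]} maps into U. (The published
statement is for a quasi-projective variety X and asks for relative Cartier divisors D_i over an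
open cover of Spec R; this row is the affine case, to which the published proof reduces, where the
divisors produced are principal.) -/
theorem result
    (k : Type u) [Field k] [IsAlgClosed k]
    (A : Type u) [CommRing A] [Algebra k A] [IsDomain A] [Algebra.FiniteType k A]
    (Z : Finset (A →ₐ[k] k))
    (R : Type u) [CommRing R] [Algebra k R]
    (U : TopologicalSpace.Opens (PrimeSpectrum (TensorProduct k R A)))
    (hU : Dense (U : Set (PrimeSpectrum (TensorProduct k R A))))
    (hZ : ∀ z ∈ Z, ∀ q : PrimeSpectrum R,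
      PrimeSpectrum.comap (Algebra.TensorProduct.lift (AlgHom.id k R) ((Algebra.ofId k R).comp z)
        (fun _ _ => Commute.all _ _)).toRingHom q ∈ U)
    (hsurj : ∀ q : PrimeSpectrum R, ∃ P ∈ U,
      PrimeSpectrum.comap (Algebra.TensorProduct.includeLeftRingHom : R →+* TensorProduct k R A) P = q)
    (p : PrimeSpectrum R) :
    ∃ r : R, r ∉ p.asIdeal ∧
      ∃ f : TensorProduct k (Localization.Away r) A,
        f ∈ nonZeroDivisors (TensorProduct k (Localization.Away r) A) ∧
        Module.Flat (Localization.Away r)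
          (TensorProduct k (Localization.Away r) A ⧸ Ideal.span {f}) ∧
        (∀ z ∈ Z, IsUnit (Algebra.TensorProduct.lift (AlgHom.id k (Localization.Away r))
          ((Algebra.ofId k (Localization.Away r)).comp z) (fun _ _ => Commute.all _ _) f)) ∧
        (∀ P : PrimeSpectrum (TensorProduct k (Localization.Away r) A), f ∉ P.asIdeal →
          PrimeSpectrum.comap (Algebra.TensorProduct.map
            (IsScalarTower.toAlgHom k R (Localization.Away r)) (AlgHom.id k A)).toRingHom P ∈ U) := by
  classical
  let b := Module.Free.chooseBasis k A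
  haveI := p.isPrime
  let I := PrimeSpectrum.vanishingIdeal ((U : Set (PrimeSpectrum (TensorProduct k R A)))ᶜ)
  have hUI : ∀ P : PrimeSpectrum (TensorProduct k R A), P ∈ U ↔ ¬ I ≤ P.asIdeal := fun P => by
    rw [← SetLike.coe_subset_coe, ← PrimeSpectrum.mem_zeroLocus,
      PrimeSpectrum.zeroLocus_vanishingIdeal_eq_closure, U.isOpen.isClosed_compl.closure_eq]
    simp
  let κ := p.asIdeal.ResidueField
  let ψ := Algebra.TensorProduct.map (IsScalarTower.toAlgHom k R κ) (AlgHom.id k A)
  haveI : IsDomain (TensorProduct k A κ) := FBase.TensorAlgClosed.isDomain_tensor_field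
  haveI : IsDomain (TensorProduct k κ A) :=
    (Algebra.TensorProduct.comm k κ A).toMulEquiv.isDomain (TensorProduct k A κ)
  let ev : (A →ₐ[k] k) → (TensorProduct k R A →ₐ[k] R) := fun z =>
    Algebra.TensorProduct.lift (AlgHom.id k R) ((Algebra.ofId k R).comp z) (fun _ _ => Commute.all _ _)
  let G : Option {z // z ∈ Z} → Ideal (TensorProduct k R A) := fun o => match o with
    | none => RingHom.ker ψ
    | some z => p.asIdeal.comap (ev z.1).toRingHom
  obtain ⟨f, hfI, hf⟩ : ∃ f ∈ I, ∀ o, f ∉ G o := by
    by_contra hcon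
    push_neg at hcon
    have hsub : (I : Set (TensorProduct k R A)) ⊆ ⋃ o ∈ ((Finset.univ : Finset (Option {z // z ∈ Z})) : Set _), (G o : Set _) := by
      intro g hg
      obtain ⟨o, ho⟩ := hcon g hg
      exact Set.mem_biUnion (Finset.mem_coe.2 (Finset.mem_univ o)) ho
    obtain ⟨o, -, ho⟩ := (Ideal.subset_union_prime none none (fun o _ _ _ => by
      cases o with
      | none => exact RingHom.ker_isPrime _
      | some z => exact Ideal.comap_isPrime _ _)).1 hsub
    cases o with
    | some z => exact (hUI _).1 (hZ z.1 z.2 p) ho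
    | none =>
      obtain ⟨P, hPU, hP⟩ := hsurj p
      refine (hUI P).1 hPU (ho.trans fun g hg => ?_)
      have hPp : ∀ c ∈ p.asIdeal, (Algebra.TensorProduct.includeLeft : R →ₐ[k] TensorProduct k R A) c ∈ P.asIdeal :=
        fun c hc => by rw [← hP] at hc; exact hc
      let B := Algebra.TensorProduct.basis R b
      rw [← B.linearCombination_repr g, Finsupp.linearCombination_apply]
      refine sum_mem fun i _ => ?_
      have h1 := repr_map b (IsScalarTower.toAlgHom k R κ) g i
      rw [show Algebra.TensorProduct.map (IsScalarTower.toAlgHom k R κ) (AlgHom.id k A) g = 0 from hg,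
        map_zero, Finsupp.zero_apply] at h1
      have h2 : B.repr g i ∈ p.asIdeal := (Ideal.algebraMap_residueField_eq_zero).1 h1.symm
      simp only [Algebra.smul_def]
      exact Ideal.mul_mem_right _ _ (hPp _ h2)
  obtain ⟨i, hi⟩ : ∃ i, (Algebra.TensorProduct.basis R b).repr f i ∉ p.asIdeal := by
    by_contra hcon
    push_neg at hcon
    refine hf none ((Algebra.TensorProduct.basis κ b).repr.injective (Finsupp.ext fun i => ?_))
    rw [show ψ = Algebra.TensorProduct.map (IsScalarTower.toAlgHom k R κ) (AlgHom.id k A) from rfl,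
      repr_map, map_zero, Finsupp.zero_apply]
    exact (Ideal.algebraMap_residueField_eq_zero).2 (hcon i)
  let r := (Algebra.TensorProduct.basis R b).repr f i * ∏ z : {z // z ∈ Z}, ev z.1 f
  have hr : r ∉ p.asIdeal := by
    refine fun h => (p.isPrime.mem_or_mem h).elim hi fun h' => ?_
    obtain ⟨z, -, hz⟩ := (Ideal.IsPrime.prod_mem_iff).1 h'
    exact hf (some z) hz
  refine ⟨r, hr, Algebra.TensorProduct.map (IsScalarTower.toAlgHom k R (Localization.Away r))
    (AlgHom.id k A) f, ?_⟩
  have hru : IsUnit (IsScalarTower.toAlgHom k R (Localization.Away r) r) :=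
    IsLocalization.map_units _ (⟨r, Submonoid.mem_powers r⟩ : Submonoid.powers r)
  have hu : HasUnitCoeff b (Algebra.TensorProduct.map (IsScalarTower.toAlgHom k R (Localization.Away r))
      (AlgHom.id k A) f) := by
    refine ⟨i, ?_⟩
    rw [repr_map]
    exact isUnit_of_dvd_unit (map_dvd _ (dvd_mul_right _ _)) hru
  refine ⟨?_, flat_quotient b hu, fun z hz => ?_, fun P hP => (hUI _).2 fun hle => hP (hle hfI)⟩
  · rw [mem_nonZeroDivisors_iff_right]
    exact fun x hx => eq_zero_of_mul_eq_zero b hu (by rw [mul_comm]; exact hx)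
  · have key : (Algebra.TensorProduct.lift (AlgHom.id k (Localization.Away r))
          ((Algebra.ofId k (Localization.Away r)).comp z) (fun _ _ => Commute.all _ _)).comp
        (Algebra.TensorProduct.map (IsScalarTower.toAlgHom k R (Localization.Away r)) (AlgHom.id k A)) =
        (IsScalarTower.toAlgHom k R (Localization.Away r)).comp (ev z) := by
      refine Algebra.TensorProduct.ext' fun x y => ?_
      simp [ev, ← IsScalarTower.algebraMap_apply]
    rw [← AlgHom.comp_apply, key, AlgHom.comp_apply]
    have hd : ev z f ∣ r :=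
      Dvd.dvd.mul_left (Finset.dvd_prod_of_mem (fun w : {z // z ∈ Z} => ev w.1 f)
        (Finset.mem_univ (⟨z, hz⟩ : {z // z ∈ Z}))) _
    exact isUnit_of_dvd_unit (map_dvd (IsScalarTower.toAlgHom k R (Localization.Away r)) hd) hru

end Groth.Agent.S19308
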