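import Mathlib
import Groth.Statements.S19309
-- import your own Groth.Agent.* helpers here

set_option autoImplicit false
universe u
open PowerSeries LaurentSeries
open CAlg

namespace Groth.Agent.S19309

/-- Let k be a field, R a commutative k-algebra, B a finitely presented R⟦X⟧-algebra (an affine scheme V
= Spec B of finite presentation over the disc D_R = Spec R⟦X⟧) and s : B → R((X)) an R⟦X⟧-algebra
map (a section of V over the punctured disc). Then there is an ideal I of R such that for every ring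
map φ : R → R', writing θ : R((X)) → R'((X)) for the ring map compatible with R⟦X⟧ → R'⟦X⟧, the
section s extends to a section over D_{R'} — an R⟦X⟧-algebra map s' : B → R'⟦X⟧ whose composite with
R'⟦X⟧ → R'((X)) is θ ∘ s — if and only if φ kills I. In other words the sub-presheaf of Spec R where
s extends over the disc is the closed subscheme defined by I. -/
theorem result
    (k : Type u) [Field k] (R : Type u) [CommRing R] [Algebra k R]
    (B : Type u) [CommRing B] [Algebra R⟦X⟧ B] [Algebra.FinitePresentation R⟦X⟧ B]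
    (s : B →ₐ[R⟦X⟧] R⸨X⸩) :
    ∃ I : Ideal R, ∀ (R' : Type u) [CommRing R'] (φ : R →+* R') (θ : R⸨X⸩ →+* R'⸨X⸩),
      θ.comp (algebraMap R⟦X⟧ R⸨X⸩) = (algebraMap R'⟦X⟧ R'⸨X⸩).comp (PowerSeries.map φ) →
      ((∃ s' : B →+* R'⟦X⟧, s'.comp (algebraMap R⟦X⟧ B) = PowerSeries.map φ ∧
          (algebraMap R'⟦X⟧ R'⸨X⸩).comp s' = θ.comp s.toRingHom) ↔ I ≤ RingHom.ker φ) := by
  classical
  refine ⟨Ideal.span {r | ∃ (b : B) (n : ℤ), n < 0 ∧ (s b).coeff n = r}, fun R' _ φ θ hθ => ?_⟩
  have hcoe : ∀ (f : R⟦X⟧), θ (HahnSeries.ofPowerSeries ℤ R f) = HahnSeries.ofPowerSeries ℤ R' (PowerSeries.map φ f) :=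
    fun f => RingHom.congr_fun hθ f
  have hcoeff : ∀ (f : R⟦X⟧) (n : ℤ), (HahnSeries.ofPowerSeries ℤ R' (PowerSeries.map φ f)).coeff n =
      φ ((HahnSeries.ofPowerSeries ℤ R f).coeff n) := by
    intro f n
    rw [PowerSeries.coeff_coe, PowerSeries.coeff_coe]
    split_ifs <;> simp
  have hθc : ∀ (z : R⸨X⸩) (n : ℤ), (θ z).coeff n = φ (z.coeff n) := by
    intro z n
    obtain ⟨⟨f, _, m, rfl⟩, hf⟩ := IsLocalization.surj (Submonoid.powers (PowerSeries.X : R⟦X⟧)) z
    simp only [LaurentSeries.coe_algebraMap, HahnSeries.ofPowerSeries_X_pow] at hf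
    have h1 : θ z * HahnSeries.single (m : ℤ) 1 = HahnSeries.ofPowerSeries ℤ R' (PowerSeries.map φ f) := by
      rw [← hcoe, ← hf, map_mul, ← HahnSeries.ofPowerSeries_X_pow (R := R), hcoe, map_pow,
        PowerSeries.map_X, HahnSeries.ofPowerSeries_X_pow]
    have h2 := congrArg (fun w => HahnSeries.coeff w (n + m)) h1
    simp only [hcoeff, ← hf, HahnSeries.coeff_mul_single_add, mul_one] at h2
    exact h2
  constructor
  · rintro ⟨s', -, hs'⟩
    rw [Ideal.span_le]
    rintro _ ⟨b, n, hn, rfl⟩
    have h := congrArg (fun w => HahnSeries.coeff w n) (RingHom.congr_fun hs' b)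
    simp only [RingHom.comp_apply, LaurentSeries.coe_algebraMap, PowerSeries.coeff_coe, if_pos hn] at h
    rw [SetLike.mem_coe, RingHom.mem_ker, ← hθc]
    exact h.symm
  · intro hI
    have hrange : ∀ b, θ (s b) ∈ (HahnSeries.ofPowerSeries ℤ R').range := by
      intro b
      refine ⟨PowerSeries.mk fun k => (θ (s b)).coeff k, ?_⟩
      ext n
      rw [PowerSeries.coeff_coe]
      split_ifs with hn
      · rw [hθc]
        exact (RingHom.mem_ker.mp (hI (Ideal.subset_span ⟨b, n, hn, rfl⟩))).symm
      · rw [PowerSeries.coeff_mk, Int.natAbs_of_nonneg (not_lt.mp hn)]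
    choose g hg using hrange
    have hinj := HahnSeries.ofPowerSeries_injective (Γ := ℤ) (R := R')
    let s' : B →+* R'⟦X⟧ :=
      { toFun := g
        map_one' := hinj (by rw [hg, map_one, map_one, map_one])
        map_zero' := hinj (by rw [hg, map_zero, map_zero, map_zero])
        map_add' := fun a b => hinj (by rw [hg, map_add, map_add, map_add, hg, hg])
        map_mul' := fun a b => hinj (by rw [hg, map_mul, map_mul, map_mul, hg, hg]) }
    refine ⟨s', RingHom.ext fun f => hinj ?_, RingHom.ext fun b => hg b⟩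
    rw [RingHom.comp_apply, show s' (algebraMap R⟦X⟧ B f) = g (algebraMap R⟦X⟧ B f) from rfl, hg,
      AlgHom.commutes, LaurentSeries.coe_algebraMap, hcoe]

end Groth.Agent.S19309
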