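import Mathlib
import Groth.Statements.S19310
-- import your own Groth.Agent.* helpers here

set_option autoImplicit false
universe u
open TensorProduct
open CAlg

namespace Groth.Agent.S19310

theorem eq_zero_of_forall_algHom {k A : Type u} [Field k] [IsAlgClosed k] [CommRing A] [Algebra k A]
    [IsReduced A] [Algebra.FiniteType k A] (a : A) (h : ∀ z : A →ₐ[k] k, z a = 0) : a = 0 := by
  haveI : IsJacobsonRing A := isJacobsonRing_of_finiteType (A := k)
  have hJ : (⊥ : Ideal A).jacobson = ⊥ :=
    IsJacobsonRing.out' _ (Ideal.isRadical_bot_iff.mpr inferInstance)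
  rw [← Ideal.mem_bot, ← hJ]
  refine Submodule.mem_sInf.mpr fun m hm => ?_
  obtain ⟨-, hmax⟩ := hm
  haveI := hmax
  letI := Ideal.Quotient.field m
  haveI : Module.Finite k (A ⧸ m) := finite_of_finite_type_of_isJacobsonRing k (A ⧸ m)
  have hbij : Function.Bijective (algebraMap k (A ⧸ m)) := IsAlgClosed.algebraMap_bijective_of_isIntegral
  let e : k ≃ₐ[k] (A ⧸ m) := AlgEquiv.ofBijective (Algebra.ofId k (A ⧸ m)) hbij
  have := h (e.symm.toAlgHom.comp (Ideal.Quotient.mkₐ k m))
  exact Ideal.Quotient.eq_zero_iff_mem.mp (e.symm.map_eq_zero_iff.mp this)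

theorem exists_functional {k : Type u} [Field k] {R : Type u} [CommRing R] [Algebra k R]
    (R₀ : Type u) [CommRing R₀] [Algebra k R₀] [Algebra R₀ R] (p : Ideal R₀) [p.IsPrime] {ι : Type u} (g : ι →₀ R)
    (hg : ∀ r : R₀, r ∈ p ↔ ∀ j, algebraMap R₀ R r * g j = 0) :
    ∃ (K : Type u) (_ : Field K) (_ : Algebra k K) (φ : R₀ →ₐ[k] K) (W : Submodule R₀ R) (lam : W →+ K),
      (∀ r, φ r = 0 ↔ r ∈ p) ∧ (∀ (r : R₀) (w : W), lam (r • w) = φ r * lam w) ∧
      (∀ j, g j ∈ W) ∧ ∃ j, ∃ hj : g j ∈ W, lam ⟨g j, hj⟩ ≠ 0 := by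
  classical
  let W : Submodule R₀ R :=
    { carrier := {x | ∀ r ∈ p, algebraMap R₀ R r * x = 0}
      add_mem' := fun ha hb r hr => by rw [mul_add, ha r hr, hb r hr, add_zero]
      zero_mem' := fun r _ => mul_zero _
      smul_mem' := fun c x hx r hr => by
        rw [Algebra.smul_def]
        rw [mul_left_comm, hx r hr, mul_zero] }
  have hgW : ∀ j, g j ∈ W := fun j r hr => (hg r).mp hr j
  have htors : Module.IsTorsionBySet R₀ W (p : Set R₀) := fun w r => Subtype.ext (by
    rw [Submodule.coe_smul, Algebra.smul_def]; exact w.2 r r.2)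
  letI : Module (R₀ ⧸ p) W := htors.module
  let S := nonZeroDivisors (R₀ ⧸ p)
  let K := FractionRing (R₀ ⧸ p)
  let V := LocalizedModule S W
  obtain ⟨j₀, hj₀⟩ : ∃ j, LocalizedModule.mkLinearMap S W ⟨g j, hgW j⟩ ≠ 0 := by
    by_contra hcon
    simp only [not_exists, not_not] at hcon
    have hu : ∀ j, ∃ u : R₀, u ∉ p ∧ algebraMap R₀ R u * g j = 0 := fun j => by
      obtain ⟨⟨d, hd⟩, h⟩ := (IsLocalizedModule.eq_zero_iff S (LocalizedModule.mkLinearMap S W)).mp (hcon j)
      obtain ⟨u, rfl⟩ := Ideal.Quotient.mk_surjective d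
      exact ⟨u, fun hu => nonZeroDivisors.coe_ne_zero ⟨_, hd⟩ (Ideal.Quotient.eq_zero_iff_mem.mpr hu),
        by rw [← Algebra.smul_def]; exact congrArg Subtype.val h⟩
    choose u hu0 hu using hu
    have hprod : (∏ j ∈ g.support, u j) ∈ p := (hg _).mpr fun j => by
      by_cases hj : j ∈ g.support
      · rw [← Finset.prod_erase_mul _ _ hj, map_mul, mul_assoc, hu j, mul_zero]
      · rw [Finsupp.notMem_support_iff.mp hj, mul_zero]
    obtain ⟨j, -, hj⟩ := Ideal.IsPrime.prod_mem_iff.mp hprod
    exact hu0 j hj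
  obtain ⟨ψ, hψ⟩ : ∃ ψ : V →ₗ[K] K, ψ (LocalizedModule.mkLinearMap S W ⟨g j₀, hgW j₀⟩) ≠ 0 := by
    let B := Module.Basis.ofVectorSpace K V
    by_contra hcon
    simp only [not_exists, not_not] at hcon
    exact hj₀ (B.ext_elem fun i => by simpa using hcon (B.coord i))
  refine ⟨K, inferInstance, inferInstance,
    (IsScalarTower.toAlgHom k (R₀ ⧸ p) K).comp (Ideal.Quotient.mkₐ k p), W,
    { toFun := fun w => ψ (LocalizedModule.mkLinearMap S W w)
      map_zero' := by simp
      map_add' := fun a b => (congrArg ψ (map_add _ a b)).trans (map_add ψ _ _) }, fun r => ?_, fun r w => ?_, hgW, j₀, hgW j₀, hψ⟩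
  · show algebraMap (R₀ ⧸ p) K (Ideal.Quotient.mk p r) = 0 ↔ r ∈ p
    rw [map_eq_zero_iff _ (IsFractionRing.injective (R₀ ⧸ p) K), Ideal.Quotient.eq_zero_iff_mem]
  · show ψ (LocalizedModule.mkLinearMap S W (r • w)) =
      algebraMap (R₀ ⧸ p) K (Ideal.Quotient.mk p r) * ψ (LocalizedModule.mkLinearMap S W w)
    have hw : r • w = (Ideal.Quotient.mk p r) • w := rfl
    rw [hw, ← smul_eq_mul, algebraMap_smul, map_smul, LinearMap.map_smul_of_tower]


/-- Let k be an algebraically closed field, A a finitely generated k-algebra which is an integral domain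
(X = Spec A an affine variety), R a commutative k-algebra, possibly non-reduced, and U an open
subset of X_R = Spec (R ⊗_k A) meeting every fibre of X_R → Spec R (a very dense open subset). Then
a regular function on X_R whose restriction to U vanishes is zero: if f ∈ R ⊗_k A maps to 0 in the
localisation (R ⊗_k A)[1/g] for every g with D(g) ⊆ U, then f = 0. (The published statement is that
automorphisms of a torsor under a smooth affine group scheme over X_R which are the identity over a
very dense open subset are the identity, for X a smooth projective curve; its proof reduces this to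
the present assertion about functions, for quasi-projective X; this row is the affine case.) -/
theorem result
    (k : Type u) [Field k] [IsAlgClosed k]
    (A : Type u) [CommRing A] [Algebra k A] [IsDomain A] [Algebra.FiniteType k A]
    (R : Type u) [CommRing R] [Algebra k R]
    (U : TopologicalSpace.Opens (PrimeSpectrum (TensorProduct k R A)))
    (hsurj : ∀ q : PrimeSpectrum R, ∃ P ∈ U,
      PrimeSpectrum.comap (Algebra.TensorProduct.includeLeftRingHom : R →+* TensorProduct k R A) P = q)
    (f : TensorProduct k R A)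
    (hf : ∀ g : TensorProduct k R A, (PrimeSpectrum.basicOpen g : Set (PrimeSpectrum (TensorProduct k R A))) ⊆ U →
      algebraMap (TensorProduct k R A) (Localization.Away g) f = 0) :
    f = 0 := by
  classical
  let B := Module.Basis.ofVectorSpace k A
  let bT := Algebra.TensorProduct.basis R B
  let T := TensorProduct k R A
  -- annihilators of `f` have unit content
  let S : Set T := {s | s * f = 0}
  have htop : Ideal.span {c : R | ∃ s ∈ S, ∃ i, bT.repr s i = c} = ⊤ := by
    by_contra hne
    obtain ⟨m, hm, hle⟩ := Ideal.exists_le_maximal _ hne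
    obtain ⟨P, hPU, hP⟩ := hsurj ⟨m, hm.isPrime⟩
    obtain ⟨_, ⟨g, rfl⟩, hgP, hgU⟩ :=
      PrimeSpectrum.isTopologicalBasis_basic_opens.exists_subset_of_mem_open hPU U.isOpen
    obtain ⟨⟨_, N, rfl⟩, hN⟩ := (IsLocalization.map_eq_zero_iff (Submonoid.powers g) (Localization.Away g) f).mp (hf g hgU)
    have hmem : g ^ N ∈ P.asIdeal := by
      rw [← bT.linearCombination_repr (g ^ N), Finsupp.linearCombination_apply]
      refine Ideal.sum_mem _ fun i _ => ?_
      have hc : bT.repr (g ^ N) i ∈ m := hle (Ideal.subset_span ⟨g ^ N, hN, i, rfl⟩)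
      simp only [Algebra.smul_def]
      refine P.asIdeal.mul_mem_right _ ?_
      have hP' : m = P.asIdeal.comap (Algebra.TensorProduct.includeLeftRingHom : R →+* T) :=
        (congrArg PrimeSpectrum.asIdeal hP).symm
      rw [hP', Ideal.mem_comap] at hc
      exact hc
    exact hgP (P.isPrime.mem_of_pow_mem N hmem)
  obtain ⟨G, hG, h1⟩ := Submodule.mem_span_finite_of_mem_span
    (htop ▸ Submodule.mem_top : (1 : R) ∈ Ideal.span {c : R | ∃ s ∈ S, ∃ i, bT.repr s i = c})
  obtain ⟨a, ha⟩ := (Submodule.mem_span_finset (R := R)).mp h1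
  choose σ hσS iσ hiσ using fun c : G => hG c.2
  by_contra hf0
  let E : Finset R := G.image a ∪ (bT.repr f).support.image (bT.repr f) ∪
    Finset.univ.biUnion fun c : G => (bT.repr (σ c)).support.image (bT.repr (σ c))
  let R₀ : Subalgebra k R := Algebra.adjoin k (E : Set R)
  haveI : Algebra.FiniteType k R₀ := (Subalgebra.fg_iff_finiteType R₀).mp ⟨E, rfl⟩
  haveI : IsNoetherianRing R₀ := Algebra.FiniteType.isNoetherianRing k R₀
  have hR0 : ∀ x ∈ E, x ∈ R₀ := fun x hx => Algebra.subset_adjoin hx
  have hfR : ∀ j, bT.repr f j ∈ R₀ := fun j => by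
    by_cases hj : j ∈ (bT.repr f).support
    · exact hR0 _ (Finset.mem_union_left _ (Finset.mem_union_right _ (Finset.mem_image_of_mem _ hj)))
    · rw [Finsupp.notMem_support_iff.mp hj]; exact zero_mem _
  have hσR : ∀ c i, bT.repr (σ c) i ∈ R₀ := fun c i => by
    by_cases hi : i ∈ (bT.repr (σ c)).support
    · exact hR0 _ (Finset.mem_union_right _ (Finset.mem_biUnion.mpr ⟨c, Finset.mem_univ _, Finset.mem_image_of_mem _ hi⟩))
    · rw [Finsupp.notMem_support_iff.mp hi]; exact zero_mem _
  -- a multiple of `f` with prime annihilator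
  let Ann : R₀ → Ideal R₀ := fun r =>
    { carrier := {x | ∀ j, ((x : R) * r) * bT.repr f j = 0}
      add_mem' := fun ha hb j => by simp [add_mul, ha j, hb j]
      zero_mem' := fun j => by simp
      smul_mem' := fun c x hx j => by
        show (((c * x : R₀) : R) * r) * bT.repr f j = 0
        rw [MulMemClass.coe_mul, mul_assoc (c : R), mul_assoc (c : R), hx j, mul_zero] }
  let 𝒜 : Set (Ideal R₀) := Ann '' {r | (1 : R₀) ∉ Ann r}
  have hne : 𝒜.Nonempty := ⟨Ann 1, 1, fun h => hf0 (bT.ext_elem fun j => by simpa using h j), rfl⟩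
  obtain ⟨p, ⟨r₀, hr₀, rfl⟩, hmax⟩ := (set_has_maximal_iff_noetherian.mpr inferInstance) 𝒜 hne
  haveI hp : (Ann r₀).IsPrime := by
    refine ⟨fun h => hr₀ (h ▸ Submodule.mem_top), fun {x y} hxy => ?_⟩
    by_cases hy : y ∈ Ann r₀
    · exact Or.inr hy
    left
    have h1 : (1 : R₀) ∉ Ann (y * r₀) := fun h => hy fun j => by
      simpa [mul_assoc] using h j
    have hle : Ann r₀ ≤ Ann (y * r₀) := fun z hz j => by
      rw [MulMemClass.coe_mul, mul_left_comm, mul_assoc, hz j, mul_zero]
    have heq : Ann r₀ = Ann (y * r₀) := by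
      by_contra hne'
      exact hmax _ ⟨y * r₀, h1, rfl⟩ (lt_of_le_of_ne hle hne')
    rw [heq]
    intro j
    rw [MulMemClass.coe_mul, ← mul_assoc]
    simpa [mul_assoc] using hxy j
  let g : T := (r₀ : R) • f
  have hgrepr : ∀ j, bT.repr g j = (r₀ : R) * bT.repr f j := fun j => by simp [g]
  obtain ⟨K, iK, iKk, φ, W, lam, hφ, hlam, hgW, j₀, hj₀, hlam0⟩ := exists_functional (k := k) (R := R) R₀ (Ann r₀) (bT.repr g)
    (fun r => by
      constructor
      · intro h j; rw [hgrepr, ← mul_assoc]; exact h j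
      · intro h j; rw [mul_assoc, ← hgrepr]; exact h j)
  -- some annihilator has content outside the prime
  obtain ⟨c, hc⟩ : ∃ c : G, (⟨bT.repr (σ c) (iσ c), hσR c _⟩ : R₀) ∉ Ann r₀ := by
    by_contra hcon
    simp only [not_exists, not_not] at hcon
    refine hr₀ ?_
    have : (1 : R₀) = ∑ c : G, ⟨a c, hR0 _ (Finset.mem_union_left _ (Finset.mem_union_left _
        (Finset.mem_image_of_mem _ c.2)))⟩ * (⟨bT.repr (σ c) (iσ c), hσR c _⟩ : R₀) := by
      refine Subtype.ext ?_
      rw [AddSubmonoidClass.coe_finsetSum]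
      simp only [MulMemClass.coe_mul, hiσ, OneMemClass.coe_one]
      rw [Finset.sum_coe_sort G (fun x => a x * x)]
      exact ha.2.symm
    rw [this]
    exact Ideal.sum_mem _ fun c _ => Ideal.mul_mem_left _ _ (hcon c)
  let s := σ c
  have hsg : s * g = 0 := by
    simp only [g, mul_smul_comm, s]
    rw [show σ c * f = 0 from hσS c, smul_zero]
  let e := Module.Basis.ofVectorSpace k K
  let J : Finset (Module.Basis.ofVectorSpaceIndex k A) := (bT.repr s).support
  let J' : Finset (Module.Basis.ofVectorSpaceIndex k A) := (bT.repr g).support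
  let sA : Module.Basis.ofVectorSpaceIndex k K → A := fun l =>
    ∑ i ∈ J, e.repr (φ ⟨bT.repr s i, hσR c i⟩) l • B i
  let gA : Module.Basis.ofVectorSpaceIndex k K → A := fun l =>
    ∑ j ∈ J', e.repr (lam ⟨bT.repr g j, hgW j⟩) l • B j
  have hlamk : ∀ (t : k) (w : W), lam (algebraMap k R₀ t • w) = t • lam w := fun t w => by
    rw [hlam, AlgHom.commutes, Algebra.smul_def]
  have key : ∀ l l', sA l * gA l' = 0 := by
    intro l l'
    refine eq_zero_of_forall_algHom (k := k) _ fun z => ?_
    let Ez : T →ₐ[k] R := Algebra.TensorProduct.lift (AlgHom.id k R) ((Algebra.ofId k R).comp z)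
      (fun _ _ => Commute.all _ _)
    have hEz : ∀ (t : T), Ez t = ∑ i ∈ (bT.repr t).support, bT.repr t i * algebraMap k R (z (B i)) := by
      intro t
      conv_lhs => rw [← bT.linearCombination_repr t, Finsupp.linearCombination_apply, Finsupp.sum, map_sum]
      refine Finset.sum_congr rfl fun i _ => ?_
      simp [bT, Ez, TensorProduct.smul_tmul']
      exact (Algebra.TensorProduct.lift_tmul _ _ _ _ _).trans rfl
    let xs : R₀ := ∑ i ∈ J, ⟨bT.repr s i, hσR c i⟩ * algebraMap k R₀ (z (B i))
    let wg : W := ∑ j ∈ J', algebraMap k R₀ (z (B j)) • ⟨bT.repr g j, hgW j⟩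
    have hprod : xs • wg = 0 := by
      refine Subtype.ext ?_
      show (xs : R) * (wg : R) = 0
      have h1 : (xs : R) = Ez s := by
        rw [hEz]
        simp only [xs, AddSubmonoidClass.coe_finsetSum, MulMemClass.coe_mul]
        rfl
      have h2 : (wg : R) = Ez g := by
        rw [hEz]
        simp only [wg, AddSubmonoidClass.coe_finsetSum, Submodule.coe_smul]
        refine Finset.sum_congr rfl fun j _ => ?_
        rw [mul_comm]
        rfl
      rw [h1, h2, ← map_mul, hsg, map_zero]
    have h3 : φ xs * lam wg = 0 := by rw [← hlam, hprod, map_zero]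
    rcases mul_eq_zero.mp h3 with h | h
    · have h4 : z (sA l) = e.repr (φ xs) l := by
        simp only [sA, xs, map_sum, map_smul, map_mul, AlgHom.commutes, smul_eq_mul]
        simp only [mul_comm (φ _) (algebraMap k K _), ← Algebra.smul_def, map_smul, Finsupp.coe_finsetSum,
          Finsupp.coe_smul, Finset.sum_apply, Pi.smul_apply, smul_eq_mul]
        exact Finset.sum_congr rfl fun i _ => mul_comm _ _
      rw [map_mul, h4, h, map_zero, Finsupp.coe_zero, Pi.zero_apply, zero_mul]
    · have h4 : z (gA l') = e.repr (lam wg) l' := by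
        simp only [gA, wg, map_sum, map_smul, hlamk, smul_eq_mul, Finsupp.coe_finsetSum,
          Finsupp.coe_smul, Finset.sum_apply, Pi.smul_apply]
        exact Finset.sum_congr rfl fun j _ => mul_comm _ _
      rw [map_mul, h4, h, map_zero, Finsupp.coe_zero, Pi.zero_apply, mul_zero]
  have hB : ∀ (I : Finset (Module.Basis.ofVectorSpaceIndex k A))
      (u : Module.Basis.ofVectorSpaceIndex k A → k), ∑ i ∈ I, u i • B i = 0 → ∀ i ∈ I, u i = 0 :=
    fun I u h i hi => linearIndependent_iff'.mp B.linearIndependent I u h i hi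
  by_cases hs0 : ∀ l, sA l = 0
  · apply hc
    rw [← hφ]
    by_cases hi : iσ c ∈ J
    · exact e.ext_elem fun l => by rw [map_zero]; exact hB J _ (hs0 l) _ hi
    · have h0 : bT.repr (σ c) (iσ c) = 0 := Finsupp.notMem_support_iff.mp hi
      rw [show (⟨bT.repr (σ c) (iσ c), hσR c _⟩ : R₀) = 0 from Subtype.ext h0, map_zero]
  · obtain ⟨l, hl⟩ := not_forall.mp hs0
    have hg0 : ∀ l', gA l' = 0 := fun l' => (mul_eq_zero.mp (key l l')).resolve_left hl
    apply hlam0
    by_cases hj : j₀ ∈ J'
    · exact e.ext_elem fun l' => by rw [map_zero]; exact hB J' _ (hg0 l') _ hj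
    · rw [show (⟨bT.repr g j₀, hj₀⟩ : W) = 0 from Subtype.ext (Finsupp.notMem_support_iff.mp hj), map_zero]

end Groth.Agent.S19310
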