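import Groth.Statements.S19314
import Groth.Agent.DecCurve.Vanish
import Groth.Agent.DecCurve.Slope
-- import your own Groth.Agent.* helpers here

set_option autoImplicit false
universe u
open CategoryTheory CategoryTheory.Limits AlgebraicGeometry
open DecSh

namespace Groth.Agent.S19314

/-- Let k be an algebraically closed field of characteristic zero, X a reduced proper k-scheme of
dimension one without isolated points, L an ample invertible O_X-module, χ the Euler characteristic
over k and α(M) = χ(M ⊗ L) − χ(M) the multiplicity. Fix δ > 0, integers α and e, natural numbers a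
and b and an O_X-module D. Then the family of coherent O_X-modules F with torsion free stalks, α(F)
= α and χ(F) = e (fixed Hilbert polynomial) for which there is a δ-semistable tensor field of type
(a, b) on F with values in D is bounded: there are a k-scheme T of finite type and a coherent module
on X ×_k T among whose fibres at k-points every member occurs up to isomorphism. (The published
corollary is for a reduced projective curve with D locally free, in a section whose polarisation is
very ample. The bound on the maximal slope that drives the proof uses none of these, and boundedness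
for an ample L follows from the very ample case by passing to a power of L, which rescales all
multiplicities.) -/
theorem result
    (k : Type u) [Field k] [IsAlgClosed k] [CharZero k]
    (X : Scheme.{u}) [X.Over (Spec (CommRingCat.of k))] [IsProper (X ↘ Spec (CommRingCat.of k))]
    [AlgebraicGeometry.IsReduced X] (hdim : topologicalKrullDim X = 1)
    (hpure : ∀ x : X, ¬ IsOpen ({x} : Set X))
    (L : X.Modules) (hL : CohB1.IsAmple L)
    (δ : ℚ) (hδ : 0 < δ) (α e : ℤ) (a b : ℕ) (D : X.Modules) :
    Pic13.IsBounded k X (fun F => Coh.IsCoh F ∧ TorSh.IsTorsionFree F ∧ DecSh.mult k X L F = α ∧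
      Curv2.euler k X F = e ∧ ∃ T : DecSh.TF F a b D, T.IsSemistable k L δ) := by
  refine Groth.Agent.DecCurve.isBounded_of_subBound k hL hdim.le _ α e (|e| + ⌈δ * (a : ℚ)⌉) fun F hF => ?_
  obtain ⟨hFc, htf, hα, he, T, hT⟩ := hF
  refine ⟨hFc, hα, he, fun K i hi hK => ?_⟩
  have hc : (0 : ℤ) ≤ ⌈δ * (a : ℚ)⌉ := Int.ceil_nonneg (by positivity)
  by_cases hK0 : IsZero K
  · rw [Groth.Agent.EulerChar.euler_of_isZero k hK0]
    positivity
  by_cases hiso : IsIso i
  · rw [Groth.Agent.EulerChar.euler_iso k (asIso i), he]
    exact le_add_of_le_of_nonneg (le_abs_self e) hc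
  have h := Groth.Agent.DecCurve.semistable_bound k hL hdim.le hpure hFc htf T hδ hT i hK hK0 hiso
  have h1 := Groth.Agent.DecCurve.mult_pos_of_torsionFree k hL hdim.le hpure htf i hK hK0
  have h2 := Groth.Agent.DecCurve.mult_le_of_mono k hL hdim.le i hK hFc
  rw [hα, he] at h
  rw [hα] at h2
  have h1q : (1 : ℚ) ≤ DecSh.mult k X L K := by exact_mod_cast h1
  have h2q : (DecSh.mult k X L K : ℚ) ≤ α := by exact_mod_cast h2
  have key : (Curv2.euler k X K : ℚ) ≤ |(e : ℚ)| + δ * a := by
    by_contra hlt
    push Not at hlt
    have hα0 : (0 : ℚ) < α := by linarith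
    have hδa : 0 ≤ δ * (a : ℚ) := by positivity
    nlinarith [mul_lt_mul_of_pos_left hlt hα0, mul_le_mul_of_nonneg_left (le_abs_self (e : ℚ))
      (show (0 : ℚ) ≤ DecSh.mult k X L K by linarith), mul_le_mul_of_nonneg_right h2q (abs_nonneg (e : ℚ)),
      mul_nonneg hδa (show (0 : ℚ) ≤ DecSh.mult k X L K by linarith)]
  have hce := Int.le_ceil (δ * (a : ℚ))
  have : (Curv2.euler k X K : ℚ) ≤ ((|e| + ⌈δ * (a : ℚ)⌉ : ℤ) : ℚ) := by push_cast; linarith
  exact_mod_cast this

end Groth.Agent.S19314
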