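import Groth.Statements.S19316
import Groth.Agent.DecCurve.Par
import Groth.Agent.DecCurve.Vanish
import Groth.Agent.VBLib.Basic
-- import your own Groth.Agent.* helpers here

set_option autoImplicit false
universe u
open CategoryTheory CategoryTheory.Limits AlgebraicGeometry
open DecSh

namespace Groth.Agent.S19316

/-- Let k be an algebraically closed field of characteristic zero, Y a smooth proper k-scheme of
dimension one without isolated points (possibly disconnected) and L an ample invertible O_Y-module.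
Fix finitely many effective Cartier ideal sheaves I_1, …, I_ν on Y (the divisors D_i), rational
weights κ_i with 0 < κ_i < 1, δ > 0, natural numbers r, a, b and an integer d. Consider the locally
free O_Y-modules E of rank r and degree d (χ(E) − r·χ(O_Y) = d) for which there exist k-subspaces
K_i ⊂ H⁰(E ⊗ O_{D_i}) with quotients of dimension r and a tensor field of type (a, b) on E with
values in some O_Y-module, (κ, δ)-semistable with respect to L. This family is bounded: there is n₀
such that for every such E and every n ≥ n₀, H¹(Y, E ⊗ L^{⊗n}) = 0 and E ⊗ L^{⊗n} is globally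
generated. (The published statement fixes the target det(E)^{⊗c} ⊗ L' of the tensor field and takes
the D_i to be the pairs of points over the nodes; allowing any target and any effective divisors
gives a larger family, bounded by the same argument.) -/
theorem result
    (k : Type u) [Field k] [IsAlgClosed k] [CharZero k]
    (Y : Scheme.{u}) [Y.Over (Spec (CommRingCat.of k))] [IsProper (Y ↘ Spec (CommRingCat.of k))]
    [Smooth (Y ↘ Spec (CommRingCat.of k))] (hdim : topologicalKrullDim Y = 1)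
    (hpure : ∀ y : Y, ¬ IsOpen ({y} : Set Y))
    (L : Y.Modules) (hL : CohB1.IsAmple L)
    {ν : ℕ} (I : Fin ν → Y.IdealSheafData) (hI : ∀ i, FGA.IsEffCartier (I i))
    (κ : Fin ν → ℚ) (hκ : ∀ i, 0 < κ i ∧ κ i < 1) (δ : ℚ) (hδ : 0 < δ)
    (r a b : ℕ) (d : ℤ) :
    ∃ n₀ : ℕ, ∀ n : ℕ, n₀ ≤ n → ∀ E : Y.Modules,
      (FlatMod.IsFinLocFreeOfRank r E ∧ Curv2.deg k Y E r = d ∧
        ∃ (K : ∀ i, Submodule k (ParSh.fibD Y (I i) E)),
          (∀ i, Module.finrank k (ParSh.fibD Y (I i) E ⧸ K i) = r) ∧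
          ∃ (D : Y.Modules) (T : DecSh.TF E a b D), T.IsParSemistable k I K κ L δ) →
      Subsingleton (Coh.HH Y (CohB1.tensorMod E (CohB1.tensorPow L n)) 1) ∧
        Curv2.IsGloballyGenerated (CohB1.tensorMod E (CohB1.tensorPow L n)) := by
  haveI : AlgebraicGeometry.IsReduced Y :=
    Groth.Agent.DecCurve.isReduced_of_smooth k (Y ↘ Spec (CommRingCat.of k))
  haveI := Groth.Agent.EulerChar.isNoetherian k (X := Y)
  let e : ℤ := d + r * Curv2.euler k Y (Coh.structureModule Y)
  let C : ℤ := |e| + ⌈δ * (a : ℚ) + (r : ℚ) * (ν : ℚ)⌉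
  obtain ⟨n₀, hn₀⟩ := Groth.Agent.DecCurve.exists_uniform k hL hdim.le (e - C)
  refine ⟨n₀, fun n hn E hP => ?_⟩
  obtain ⟨hE, hd, K, hK, D, T, hT⟩ := hP
  have hEc : Coh.IsCoh E := Groth.Agent.VBLib.isCoh_of_ofRank hE
  have htf := Groth.Agent.DecCurve.isTorsionFree_of_isFinLocFree hEc.1
    (Groth.Agent.VBLib.isFinLocFree_of_ofRank hE)
  have he : Curv2.euler k Y E = e := by
    simp only [Curv2.deg] at hd
    simp only [e]
    omega
  suffices hq : Groth.Agent.DecCurve.QuotBound k (e - C) E by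
    obtain ⟨h1, h2⟩ := hn₀ E hEc hq n hn
    exact ⟨h1, h2.isGloballyGenerated⟩
  intro Q g hg hQ
  have hadd := Groth.Agent.DecCurve.euler_epi k g hEc hQ
  suffices hkey : Curv2.euler k Y (kernel g) ≤ C by omega
  have hKc : Coh.IsCoh (kernel g) := Groth.Agent.HilbPolyX.isCoh_of_kernel k g hEc hQ
  have hce := Int.le_ceil (δ * (a : ℚ) + (r : ℚ) * (ν : ℚ))
  have hnn : 0 ≤ δ * (a : ℚ) + (r : ℚ) * (ν : ℚ) := by positivity
  have hc0 : (0 : ℤ) ≤ ⌈δ * (a : ℚ) + (r : ℚ) * (ν : ℚ)⌉ := Int.ceil_nonneg hnn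
  by_cases hK0 : IsZero (kernel g)
  · rw [Groth.Agent.EulerChar.euler_of_isZero k hK0]
    exact add_nonneg (abs_nonneg _) hc0
  by_cases hiso : IsIso (kernel.ι g)
  · rw [Groth.Agent.EulerChar.euler_iso k (asIso (kernel.ι g)), he]
    exact le_add_of_le_of_nonneg (le_abs_self e) hc0
  have hr : 0 < r := Nat.pos_of_ne_zero fun h0 => hK0 (by
    subst h0
    exact Limits.IsZero.of_mono (kernel.ι g) (Groth.Agent.DecCurve.isZero_of_rank_zero hE))
  have h := Groth.Agent.DecCurve.parSemistable_bound k hL hdim.le hpure hEc htf I K hr hK κ hκ T hδ hT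
    (kernel.ι g) hKc hK0 hiso
  have h1 := Groth.Agent.DecCurve.mult_pos_of_torsionFree k hL hdim.le hpure htf (kernel.ι g) hKc hK0
  have h2 := Groth.Agent.DecCurve.mult_le_of_mono k hL hdim.le (kernel.ι g) hKc hEc
  rw [he] at h
  have h1q : (1 : ℚ) ≤ DecSh.mult k Y L (kernel g) := by exact_mod_cast h1
  have h2q : (DecSh.mult k Y L (kernel g) : ℚ) ≤ DecSh.mult k Y L E := by exact_mod_cast h2
  have key : (Curv2.euler k Y (kernel g) : ℚ) ≤ |(e : ℚ)| + (δ * a + (r : ℚ) * (ν : ℚ)) := by
    by_contra hlt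
    push Not at hlt
    have hα0 : (0 : ℚ) < DecSh.mult k Y L E := by linarith
    nlinarith [mul_lt_mul_of_pos_left hlt hα0, mul_le_mul_of_nonneg_left (le_abs_self (e : ℚ))
      (show (0 : ℚ) ≤ DecSh.mult k Y L (kernel g) by linarith),
      mul_le_mul_of_nonneg_right h2q (abs_nonneg (e : ℚ)),
      mul_nonneg (show 0 ≤ δ * (a : ℚ) by positivity) (show (0 : ℚ) ≤ DecSh.mult k Y L (kernel g) by linarith)]
  have hfin : (Curv2.euler k Y (kernel g) : ℚ) ≤ ((C : ℤ) : ℚ) := by
    simp only [C]
    push_cast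
    linarith
  exact_mod_cast hfin

end Groth.Agent.S19316
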