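import Groth.Statements.S19317
import Groth.Agent.DecCurve.Twisted
-- import your own Groth.Agent.* helpers here

set_option autoImplicit false
universe u
open CategoryTheory CategoryTheory.Limits AlgebraicGeometry
open DecSh

namespace Groth.Agent.S19317

/-- Let k be an algebraically closed field of characteristic zero, X a reduced proper k-scheme of
dimension one without isolated points, and L an ample invertible O_X-module which is moreover very
ample relative to some projective space over k (the pull-back of O(1) along an immersion). Write χ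
for the Euler characteristic over k, M(m) = M ⊗ L^{⊗m}, h⁰(M) = dim_k H⁰(X, M) and α(M) = χ(M ⊗ L) −
χ(M). Fix δ > 0, integers α and e, natural numbers a, b and a finite locally free O_X-module D. Then
there is N₀ such that for every m ≥ N₀, every coherent O_X-module E with torsion free stalks, α(E) =
α and χ(E) = e, and every tensor field T of type (a, b) on E with values in D, the following hold,
all weighted filtrations (F•, m•) being by coherent subsheaves F_i with weights m_i and μ denoting
μ(F•, m•, φ): (1) T is δ-semistable with respect to L if and only if Σ_i m_i (α · h⁰(F_i(m)) −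
α(F_i) · χ(E(m))) + δ μ ≤ 0 for every weighted filtration; (2) T is δ-semistable if and only if Σ_i
m_i (α(E/F_i) · χ(E(m)) − α · h⁰((E/F_i)(m))) + δ μ ≤ 0 for every weighted filtration; (3) if T is
δ-semistable then H¹(X, E(m)) = 0. (Only the semistable version of the published equivalence is
stated; the published setting is a reduced projective curve with a very ample polarisation and a
locally free D, as here.) -/
theorem result
    (k : Type u) [Field k] [IsAlgClosed k] [CharZero k]
    (X : Scheme.{u}) [X.Over (Spec (CommRingCat.of k))] [IsProper (X ↘ Spec (CommRingCat.of k))]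
    [AlgebraicGeometry.IsReduced X] (hdim : topologicalKrullDim X = 1)
    (hpure : ∀ x : X, ¬ IsOpen ({x} : Set X))
    (L : X.Modules) (hL : CohB1.IsAmple L) (hva : RelAmple.IsRelVeryAmplePn (X ↘ Spec (CommRingCat.of k)) L)
    (δ : ℚ) (hδ : 0 < δ) (α e : ℤ) (a b : ℕ) (D : X.Modules) (hD : FlatMod.IsFinLocFree D) :
    ∃ N₀ : ℕ, ∀ m : ℕ, N₀ ≤ m → ∀ (E : X.Modules), Coh.IsCoh E → TorSh.IsTorsionFree E →
      DecSh.mult k X L E = α → Curv2.euler k X E = e → ∀ T : DecSh.TF E a b D,
        (T.IsSemistable k L δ ↔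
          ∀ 𝓕 : DecSh.WFilt E, (∀ i, Coh.IsCoh ((𝓕.piece i : Subobject E) : X.Modules)) →
            (∑ i, 𝓕.wt i * ((α : ℚ) *
                (Module.finrank k (Coh.HH X (ShStab.twist X L ((𝓕.piece i : Subobject E) : X.Modules) m) 0) : ℚ) -
              (DecSh.mult k X L ((𝓕.piece i : Subobject E) : X.Modules) : ℚ) *
                (Curv2.euler k X (ShStab.twist X L E m) : ℚ))) + δ * T.mu k L 𝓕 ≤ 0) ∧
        (T.IsSemistable k L δ ↔
          ∀ 𝓕 : DecSh.WFilt E, (∀ i, Coh.IsCoh ((𝓕.piece i : Subobject E) : X.Modules)) →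
            (∑ i, 𝓕.wt i * ((DecSh.mult k X L (cokernel (𝓕.piece i).arrow) : ℚ) *
                (Curv2.euler k X (ShStab.twist X L E m) : ℚ) -
              (α : ℚ) * (Module.finrank k (Coh.HH X (ShStab.twist X L (cokernel (𝓕.piece i).arrow) m) 0) : ℚ))) +
              δ * T.mu k L 𝓕 ≤ 0) ∧
        (T.IsSemistable k L δ → Subsingleton (Coh.HH X (ShStab.twist X L E m) 1)) := by
  obtain ⟨m₀, h⟩ := Groth.Agent.DecCurve.exists_sectional k hL hdim.le hpure δ hδ α e a
  obtain ⟨N₁, Dq, hq⟩ := Groth.Agent.DecCurve.exists_family_bound k hL hdim.le hpure δ hδ α e a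
  obtain ⟨m₁, hv⟩ := Groth.Agent.DecCurve.exists_uniform k hL hdim.le Dq
  refine ⟨max m₀ (max N₁ m₁), fun m hm E hE htf hα he T => ?_⟩
  have hm0 : m₀ ≤ m := le_of_max_le_left hm
  have hN : N₁ ≤ m := le_of_max_le_left (le_of_max_le_right hm)
  have hm1 : m₁ ≤ m := le_of_max_le_right (le_of_max_le_right hm)
  have hvan : (T.IsSemistable k L δ ∨ ∃ m : ℕ, N₁ ≤ m ∧ Groth.Agent.DecCurve.QuotSectional k T L α δ m) →
      Subsingleton (Coh.HH X (ShStab.twist X L E m) 1) := fun hT =>
    (hv E hE (hq E hE htf hα he b D T hT) m hm1).1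
  refine ⟨⟨fun hT 𝓕 hc => (h m hm0 E hE htf hα he b D T hT 𝓕 hc).1, fun hS 𝓕 hc => ?_⟩, ?_,
    fun hT => hvan (Or.inl hT)⟩
  · exact Groth.Agent.DecCurve.semistable_step k hL hdim.le hE hα he T hδ 𝓕 hc (hS 𝓕 hc)
  · constructor
    · intro hT 𝓕 hc
      rw [Groth.Agent.DecCurve.quot_sum_eq k hL hdim.le hE hα he 𝓕 hc (hvan (Or.inl hT))]
      exact hT 𝓕 hc
    · intro hS 𝓕 hc
      have := hS 𝓕 hc
      rwa [Groth.Agent.DecCurve.quot_sum_eq k hL hdim.le hE hα he 𝓕 hc (hvan (Or.inr ⟨m, hN, hS⟩))] at this

end Groth.Agent.S19317
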