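import Groth.Statements.S19322
import Groth.Agent.SpSeqLib.Basic
import Mathlib.Algebra.Homology.ShortComplex.ModuleCat
import Mathlib.LinearAlgebra.FiniteDimensional.Lemmas
import Mathlib.Algebra.Category.ModuleCat.EpiMono
import Mathlib.Algebra.Category.ModuleCat.Subobject

set_option autoImplicit false
universe v u
open CategoryTheory CategoryTheory.Limits
open SpSeq

namespace Groth.Agent.S19322

variable {K : Type u} [Field K]

lemma finrank_homology (S : ShortComplex (ModuleCat.{v} K)) [Module.Finite K S.X₂] :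
    Module.Finite K S.homology ∧ Module.finrank K S.homology ≤ Module.finrank K S.X₂ ∧
      (Module.finrank K S.homology = Module.finrank K S.X₂ → S.f = 0 ∧ S.g = 0) := by
  let e : S.homology ≃ₗ[K] (LinearMap.ker S.g.hom ⧸ LinearMap.range S.moduleCatToCycles) :=
    S.moduleCatHomologyIso.toLinearEquiv
  have hker := Submodule.finrank_le (LinearMap.ker S.g.hom)
  have hquot := Submodule.finrank_quotient_add_finrank (LinearMap.range S.moduleCatToCycles)
  have he := e.finrank_eq
  refine ⟨Module.Finite.equiv e.symm, by omega, fun h => ?_⟩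
  have h1 : LinearMap.ker S.g.hom = ⊤ := Submodule.eq_top_of_finrank_eq (by omega)
  have h2 : LinearMap.range S.moduleCatToCycles = ⊥ := Submodule.finrank_eq_zero.1 (by omega)
  refine ⟨ModuleCat.hom_ext (LinearMap.ext fun x => ?_),
    ModuleCat.hom_ext (LinearMap.ker_eq_top.1 h1)⟩
  have := LinearMap.congr_fun (LinearMap.range_eq_bot.1 h2) x
  exact congrArg Subtype.val this

lemma finrank_cokernel {X Y : ModuleCat.{v} K} (f : X ⟶ Y) [Mono f] [Module.Finite K Y] :
    Module.finrank K (cokernel f : ModuleCat.{v} K) + Module.finrank K X = Module.finrank K Y := by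
  rw [(ModuleCat.cokernelIsoRangeQuotient f).toLinearEquiv.finrank_eq,
    ← LinearMap.finrank_range_of_inj ((ModuleCat.mono_iff_injective f).1 inferInstance)]
  exact Submodule.finrank_quotient_add_finrank _

lemma finrank_telescope {X : ModuleCat.{v} K} [Module.Finite K X] (F : ℤ → Subobject X) (hF : Antitone F)
    (p q : ℤ) (hpq : p ≤ q) :
    ∑ s ∈ Finset.Ico p q, Module.finrank K (SpSeq.grPiece F hF s : ModuleCat.{v} K) +
        Module.finrank K (F q : ModuleCat.{v} K) = Module.finrank K (F p : ModuleCat.{v} K) := by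
  induction q, hpq using Int.leInduction with
  | base => simp
  | succ q hq ih =>
    have : Module.Finite K (F q : ModuleCat.{v} K) :=
      Module.Finite.of_injective (F q).arrow.hom ((ModuleCat.mono_iff_injective _).1 inferInstance)
    have h : Module.finrank K (SpSeq.grPiece F hF q : ModuleCat.{v} K) +
        Module.finrank K (F (q + 1) : ModuleCat.{v} K) = Module.finrank K (F q : ModuleCat.{v} K) :=
      finrank_cokernel _
    have hins : Finset.Ico p (q + 1) = insert q (Finset.Ico p q) := by
      ext x; simp only [Finset.mem_Ico, Finset.mem_insert]; omega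
    rw [hins, Finset.sum_insert (by simp)]
    omega

lemma finrank_subobject_bot {X : ModuleCat.{v} K} :
    Module.finrank K ((⊥ : Subobject X) : ModuleCat.{v} K) = 0 := by
  have : IsZero ((⊥ : Subobject X) : ModuleCat.{v} K) :=
    (isZero_zero _).of_iso Subobject.botCoeIsoZero
  have := ModuleCat.subsingleton_of_isZero this
  exact Module.finrank_zero_of_subsingleton

lemma finrank_subobject_top {X : ModuleCat.{v} K} :
    Module.finrank K ((⊤ : Subobject X) : ModuleCat.{v} K) = Module.finrank K X :=
  (asIso (⊤ : Subobject X).arrow).toLinearEquiv.finrank_eq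


/-- Let K be a field and E a cohomological spectral sequence of K-vector spaces, pages from r₀,
concentrated in the first quadrant on page r₀ and with all terms of page r₀ finite-dimensional, and
let H be abutment data for E whose filtration in degree n is finite, H n finite-dimensional. If the
dimensions of the page-r₀ terms E^{s, n-s}, 0 ≤ s ≤ n, add up to the dimension of H n, then every
position of total degree n is stationary from page r₀ on: all differentials into and out of it
vanish on every page. (The printed statement takes r₀ a positive integer and n ≥ 0; neither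
restriction is needed.) -/
theorem result
    {K : Type u} [Field K] {r₀ : ℤ}
    (E : CohomologicalSpectralSequence (ModuleCat.{v} K) r₀) (H : ℤ → ModuleCat.{v} K)
    (a : SpSeq.Abutment E H) (n : ℤ) (hfin : a.IsFinite n)
    (hquad : ∀ pq : ℤ × ℤ, pq.1 < 0 ∨ pq.2 < 0 → IsZero ((E.page r₀ le_rfl).X pq))
    (hfd : ∀ pq : ℤ × ℤ, Module.Finite K ((E.page r₀ le_rfl).X pq))
    (hH : Module.Finite K (H n))
    (hsum : ∑ s ∈ Finset.Icc (0 : ℤ) n, Module.finrank K ((E.page r₀ le_rfl).X (s, n - s)) =
      Module.finrank K (H n)) :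
    ∀ s : ℤ, SpSeq.StationaryAt E (s, n - s) r₀ := by
  let D : ∀ (r : ℤ), r₀ ≤ r → ℤ × ℤ → ℕ := fun r hr pq => Module.finrank K ((E.page r hr).X pq)
  have hfin' : ∀ (r : ℤ) (hr : r₀ ≤ r) (pq : ℤ × ℤ), Module.Finite K ((E.page r hr).X pq) := by
    intro r hr
    induction r, hr using Int.leInduction with
    | base => exact hfd
    | succ r hr ih =>
      intro pq
      have : Module.Finite K ((E.page r hr).sc pq).X₂ := ih pq
      have : Module.Finite K ((E.page r hr).homology pq) := (finrank_homology ((E.page r hr).sc pq)).1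
      exact Module.Finite.equiv (E.iso r (r + 1) pq).toLinearEquiv
  have hD : ∀ (r : ℤ) (hr : r₀ ≤ r) (pq : ℤ × ℤ), D (r + 1) (by omega) pq ≤ D r hr pq ∧
      (D (r + 1) (by omega) pq = D r hr pq →
        (E.page r hr).d (pq - (r, 1 - r)) pq = 0 ∧ (E.page r hr).d pq (pq + (r, 1 - r)) = 0) := by
    intro r hr pq
    have : Module.Finite K ((E.page r hr).sc pq).X₂ := hfin' r hr pq
    obtain ⟨-, h2, h3⟩ := finrank_homology ((E.page r hr).sc pq)
    have he : Module.finrank K ((E.page r hr).sc pq).homology = D (r + 1) (by omega) pq :=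
      (E.iso r (r + 1) pq).toLinearEquiv.finrank_eq
    rw [he] at h2 h3
    refine ⟨h2, fun h => ?_⟩
    obtain ⟨hf, hg⟩ := h3 h
    change (E.page r hr).d _ pq = 0 at hf
    change (E.page r hr).d pq _ = 0 at hg
    rw [SpSeqLib.page_prev] at hf
    rw [SpSeqLib.page_next] at hg
    exact ⟨hf, hg⟩
  have hanti : ∀ (pq : ℤ × ℤ) (r : ℤ) (hr : r₀ ≤ r) (k : ℤ) (hk : r ≤ k),
      D k (hr.trans hk) pq ≤ D r hr pq := by
    intro pq r hr k hk
    induction k, hk using Int.leInduction with
    | base => exact le_rfl
    | succ k hk ih => exact (hD k (hr.trans hk) pq).1.trans ih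
  let G : ℤ → ℕ := fun s => Module.finrank K (SpSeq.grPiece (a.fil n) (a.anti n) s : ModuleCat.{v} K)
  have hG : ∀ s, D (a.rk (s, n - s)) (a.stat _).1 (s, n - s) = G s := by
    intro s
    have key : ∀ m, m = n → Module.finrank K (SpSeq.grPiece (a.fil m) (a.anti m) s : ModuleCat.{v} K) = G s := by
      rintro m rfl; rfl
    exact (a.β (s, n - s)).toLinearEquiv.finrank_eq.trans (key (s + (n - s)) (by omega))
  have hle : ∀ s, G s ≤ D r₀ le_rfl (s, n - s) := fun s =>
    (hG s).symm.trans_le (hanti _ r₀ le_rfl _ (a.stat _).1)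
  have hout : ∀ s, s ∉ Finset.Icc (0 : ℤ) n → D r₀ le_rfl (s, n - s) = 0 := by
    intro s hs
    rw [Finset.mem_Icc] at hs
    have := ModuleCat.subsingleton_of_isZero (hquad (s, n - s) (by dsimp only; omega))
    exact Module.finrank_zero_of_subsingleton
  obtain ⟨⟨A, hA⟩, ⟨B, hB⟩⟩ := hfin
  change a.fil n A = ⊤ at hA
  change a.fil n B = ⊥ at hB
  have := hH
  let A' := min A 0
  let B' := max B (n + 1)
  have hA' : a.fil n A' = ⊤ := top_le_iff.1 (hA ▸ a.anti n (min_le_left _ _))
  have hB' : a.fil n B' = ⊥ := le_bot_iff.1 (hB ▸ a.anti n (le_max_left _ _))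
  rcases le_total A' B' with hAB | hAB
  swap
  · have htb : (⊤ : Subobject (H n)) = ⊥ := le_bot_iff.1 (hA' ▸ hB' ▸ a.anti n hAB)
    have hH0 : Module.finrank K (H n) = 0 := by
      rw [← finrank_subobject_top, htb, finrank_subobject_bot]
    intro s
    have hs : D r₀ le_rfl (s, n - s) = 0 := by
      by_cases hs : s ∈ Finset.Icc (0 : ℤ) n
      · exact Finset.sum_eq_zero_iff.1 (hsum.trans hH0) s hs
      · exact hout s hs
    have := fun r' h₀ => hanti (s, n - s) r₀ le_rfl r' h₀
    exact ⟨le_rfl, fun r' h₀ _ => (hD r' h₀ _).2 (by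
      have := hanti (s, n - s) r₀ le_rfl r' h₀
      have := (hD r' h₀ (s, n - s)).1
      omega)⟩
  have htel := finrank_telescope (a.fil n) (a.anti n) A' B' hAB
  rw [hA', hB', finrank_subobject_bot, finrank_subobject_top, add_zero] at htel
  have hext : ∑ s ∈ Finset.Ico A' B', D r₀ le_rfl (s, n - s) = Module.finrank K (H n) := by
    rw [← hsum]
    refine (Finset.sum_subset ?_ fun s _ hs => hout s hs).symm
    intro x hx
    simp only [Finset.mem_Icc, Finset.mem_Ico, A', B'] at hx ⊢
    omega
  have heq : ∀ s, G s = D r₀ le_rfl (s, n - s) := by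
    intro s
    by_cases hs : s ∈ Finset.Ico A' B'
    · exact (Finset.sum_eq_sum_iff_of_le (fun i _ => hle i)).1 (htel.trans hext.symm) s hs
    · have := hout s (by simp only [Finset.mem_Icc, Finset.mem_Ico, A', B'] at hs ⊢; omega)
      have := hle s
      omega
  intro s
  have hall : ∀ r' (h₀ : r₀ ≤ r'), D r' h₀ (s, n - s) = D r₀ le_rfl (s, n - s) := by
    intro r' h₀
    refine le_antisymm (hanti _ r₀ le_rfl r' h₀) ?_
    rw [← heq s, ← hG s]
    rcases le_total r' (a.rk (s, n - s)) with h | h
    · exact hanti _ r' h₀ _ h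
    · obtain ⟨e⟩ := SpSeqLib.nonempty_iso_of_le E (s, n - s) _ (a.stat _) r' h
      exact e.toLinearEquiv.finrank_eq.le
  exact ⟨le_rfl, fun r' h₀ _ => (hD r' h₀ _).2 ((hall _ _).trans (hall _ _).symm)⟩

end Groth.Agent.S19322
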