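import Groth.Statements.S19323
import Groth.Agent.SpSeqLib.Basic

set_option autoImplicit false
universe v u
open CategoryTheory CategoryTheory.Limits
open SpSeq

namespace Groth.Agent.S19323

lemma mono_homologyMap {C : Type u} [Category.{v} C] [Abelian C] {ι : Type} {c : ComplexShape ι}
    {K L : HomologicalComplex C c} (φ : K ⟶ L) (i j : ι) (hi : c.prev j = i)
    (hK : K.d i j = 0) (hL : L.d i j = 0) [Mono (φ.f j)] :
    Mono (HomologicalComplex.homologyMap φ j) := by
  have := K.isIso_pOpcycles i j hi hK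
  have := L.isIso_pOpcycles i j hi hL
  have h : HomologicalComplex.opcyclesMap φ j = inv (K.pOpcycles j) ≫ φ.f j ≫ L.pOpcycles j := by
    rw [IsIso.eq_inv_comp, HomologicalComplex.p_opcyclesMap]
  have : Mono (HomologicalComplex.opcyclesMap φ j) := h ▸ inferInstance
  have : Mono (HomologicalComplex.homologyMap φ j ≫ L.homologyι j) := by
    rw [HomologicalComplex.homologyι_naturality]; infer_instance
  exact mono_of_mono _ (L.homologyι j)


/-- In an abelian category let E and E' be first-quadrant E₂ cohomological spectral sequences and φ : E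
⟶ E' a morphism of spectral sequences such that (i) every differential of E' leaving a position
whose first coordinate is nonzero vanishes, (ii) on every page the map φ at each position followed
by the outgoing differential of E' is zero, and (iii) φ is a monomorphism at every position of page
2. Then E degenerates at page 2. -/
theorem result
    {C : Type u} [Category.{v} C] [Abelian C]
    (E E' : E₂CohomologicalSpectralSequence C) (φ : E ⟶ E')
    (hE : ∀ pq : ℤ × ℤ, pq.1 < 0 ∨ pq.2 < 0 → IsZero ((E.page 2 le_rfl).X pq))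
    (hE' : ∀ pq : ℤ × ℤ, pq.1 < 0 ∨ pq.2 < 0 → IsZero ((E'.page 2 le_rfl).X pq))
    (hd' : ∀ (r : ℤ) (hr : 2 ≤ r) (pq : ℤ × ℤ), pq.1 ≠ 0 →
      (E'.page r hr).d pq (pq + (r, 1 - r)) = 0)
    (hφd : ∀ (r : ℤ) (hr : 2 ≤ r) (pq : ℤ × ℤ),
      (φ.hom r hr).f pq ≫ (E'.page r hr).d pq (pq + (r, 1 - r)) = 0)
    (hmono : ∀ pq : ℤ × ℤ, Mono ((φ.hom 2 le_rfl).f pq)) :
    SpSeq.Degenerates E 2 := by
  have step : ∀ (r : ℤ) (hr : 2 ≤ r),
      (∀ pq : ℤ × ℤ, r ≤ pq.1 → Mono ((φ.hom r hr).f pq)) →
      ∀ pq pq' : ℤ × ℤ, (E.page r hr).d pq pq' = 0 := by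
    intro r hr hm pq pq'
    by_cases hrel : (ComplexShape.up' ((r, 1 - r) : ℤ × ℤ)).Rel pq pq'
    · obtain rfl : pq + (r, 1 - r) = pq' := hrel
      by_cases hneg : pq.1 < 0
      · exact (SpSeqLib.isZero_of_le E 2 le_rfl pq (hE pq (Or.inl hneg)) r hr).eq_of_src _ _
      · have := hm (pq + (r, 1 - r)) (by simp; omega)
        rw [← cancel_mono ((φ.hom r hr).f (pq + (r, 1 - r))), zero_comp,
          ← HomologicalComplex.Hom.comm, hφd r hr pq]
    · exact (E.page r hr).shape _ _ hrel
  have main : ∀ (r : ℤ) (hr : 2 ≤ r) (pq : ℤ × ℤ), r ≤ pq.1 → Mono ((φ.hom r hr).f pq) := by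
    intro r hr
    induction r, hr using Int.leInduction with
    | base => exact fun pq _ => hmono pq
    | succ r hr ih =>
      intro pq hpq
      have := ih pq (by omega)
      have h' : (E'.page r hr).d (pq - (r, 1 - r)) pq = 0 := by
        have := hd' r hr (pq - (r, 1 - r)) (by simp; omega)
        rwa [sub_add_cancel] at this
      have := mono_homologyMap (φ.hom r hr) _ pq (SpSeqLib.page_prev r pq)
        (step r hr ih _ _) h'
      have e : (φ.hom (r + 1) (by omega)).f pq = (E.iso r (r + 1) pq).inv ≫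
          HomologicalComplex.homologyMap (φ.hom r hr) pq ≫ (E'.iso r (r + 1) pq).hom := by
        rw [φ.comm r (r + 1) pq, Iso.inv_hom_id_assoc]
      rw [e]
      infer_instance
  exact ⟨le_rfl, fun r' h₀ _ pq pq' => step r' h₀ (main r' h₀) pq pq'⟩

end Groth.Agent.S19323
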