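import Groth.Statements.S19326
import Mathlib
import Groth.Agent.InvQLib.Torus

set_option autoImplicit false
universe u
open TensorProduct
open GLin

namespace Groth.Agent.S19326

open scoped TensorProduct

/-- Let k be a field, M a finite abelian group and D = Spec k[M] the finite diagonalizable group scheme
it defines, acting on an affine k-scheme U = Spec R through a multiplicative coaction R → R ⊗ k[M];
write R_a for the weight space of a ∈ M (elements with coaction f ⊗ a). For an ideal J of R the
induced action of D on the closed subscheme V(J) is trivial, meaning that the coaction followed by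
reduction modulo J equals f ↦ (f mod J) ⊗ 1, exactly when J contains the ideal generated by the
weight spaces R_a for a ≠ 0; in other words that ideal defines the largest closed subscheme of U on
which D acts trivially. (The printed setting has U smooth, which plays no role here and is not
assumed; the further assertion that the construction commutes with flat base change on U/D is not
part of this statement.) -/
theorem result
    {k : Type u} [Field k] {M : Type u} [AddCommGroup M] [Finite M]
    {R : Type u} [CommRing R] [Algebra k R] [HopfRep.Comod k (AddMonoidAlgebra k M) R]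
    [GLin.IsCoactAlg k (AddMonoidAlgebra k M) R] (J : Ideal R) :
    (∀ f : R, LinearMap.rTensor (AddMonoidAlgebra k M) (Ideal.Quotient.mkₐ k J).toLinearMap
        (HopfRep.Comod.coact (k := k) (A := AddMonoidAlgebra k M) f) =
        (Ideal.Quotient.mk J f) ⊗ₜ[k] (1 : AddMonoidAlgebra k M)) ↔
      Ideal.span (⋃ (a : M) (_ : a ≠ 0),
        (HopfRep.eigenspace k (AddMonoidAlgebra k M) R (AddMonoidAlgebra.single a 1) : Set R)) ≤ J := by
  classical
  constructor
  · intro h
    rw [Ideal.span_le]
    simp only [Set.iUnion_subset_iff]
    intro a ha f hf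
    have hf' : HopfRep.Comod.coact (k := k) (A := AddMonoidAlgebra k M) f = f ⊗ₜ AddMonoidAlgebra.single a 1 := hf
    have h2 := congrArg (fun z => TensorProduct.rid k (R ⧸ J)
      (LinearMap.lTensor (R ⧸ J) ((AddMonoidAlgebra.basis M k).coord a) z)) (h f)
    simp only [hf', LinearMap.rTensor_tmul, LinearMap.lTensor_tmul, TensorProduct.rid_tmul,
      AddMonoidAlgebra.one_def, ← AddMonoidAlgebra.basis_apply, Module.Basis.coord_apply,
      Module.Basis.repr_self, Finsupp.single_eq_same, Finsupp.single_eq_of_ne ha, one_smul, zero_smul] at h2
    exact Ideal.Quotient.eq_zero_iff_mem.mp h2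
  · intro h f
    have key : ∀ w, w ≠ 0 → Ideal.Quotient.mk J (InvQLib.Torus.comps k M f w) = 0 := fun w hw =>
      Ideal.Quotient.eq_zero_iff_mem.mpr (h (Ideal.subset_span
        (Set.mem_iUnion₂.mpr ⟨w, hw, InvQLib.Torus.comps_mem f w⟩)))
    conv_rhs => rw [← InvQLib.Torus.sum_comps (k := k) (Λ := M) f]
    rw [InvQLib.Torus.coact_eq, Finsupp.sum, Finsupp.sum, map_sum, map_sum, TensorProduct.sum_tmul]
    refine Finset.sum_congr rfl fun w _ => ?_
    rw [LinearMap.rTensor_tmul]
    rcases eq_or_ne w 0 with rfl | hw
    · rfl
    · rw [AlgHom.toLinearMap_apply, Ideal.Quotient.mkₐ_eq_mk, key w hw, TensorProduct.zero_tmul, TensorProduct.zero_tmul]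

end Groth.Agent.S19326
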