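import Groth.Statements.S19328
import Mathlib.AlgebraicGeometry.Sites.MorphismProperty
import Mathlib.FieldTheory.IsAlgClosed.Basic
import Mathlib.RingTheory.Polynomial.ScaleRoots
import Mathlib.RingTheory.AdjoinRoot
import Mathlib.RingTheory.Flat.FaithfullyFlat.Algebra
-- import your own Groth.Agent.* helpers here

set_option autoImplicit false
universe u
open CategoryTheory CategoryTheory.Limits AlgebraicGeometry
open ModPair

namespace Groth.Agent.S19328

/-- Let A be a commutative ring such that Spec A is local for fppf coverings, in the sense that for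
every scheme X, every jointly surjective family of morphisms to X each of which is flat and of
finite presentation (locally of finite presentation, quasi-compact and quasi-separated), and every
morphism Spec A ⟶ X, the morphism factors through a member of the family. Then the residue field of
A at every prime ideal is algebraically closed. -/
theorem result (A : Type u) [CommRing A]
    (hloc : ∀ (X : Scheme.{u}) (R : Presieve X),
      R ∈ Scheme.precoverage (@Flat ⊓ @LocallyOfFinitePresentation ⊓ @QuasiCompact ⊓ @QuasiSeparated) X →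
      ∀ g : Spec (CommRingCat.of A) ⟶ X,
        ∃ (Y : Scheme.{u}) (v : Y ⟶ X) (h : Spec (CommRingCat.of A) ⟶ Y), R v ∧ h ≫ v = g)
    (p : Ideal A) [p.IsPrime] : IsAlgClosed p.ResidueField := by
  classical
  refine IsAlgClosed.of_exists_root _ fun q hqm hq => ?_
  -- clear denominators by scaling the roots
  obtain ⟨n, hn⟩ : ∃ n, q.natDegree = n + 1 := ⟨q.natDegree - 1, by have := hq.natDegree_pos; omega⟩
  let K := p.ResidueField
  let A' := A ⧸ p
  obtain ⟨s, hs⟩ := IsLocalization.exist_integer_multiples_of_finset (nonZeroDivisors A')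
    ((Finset.range (n + 1)).image q.coeff)
  have hs0 : algebraMap A' K (s : A') ≠ 0 := by
    intro h
    exact nonZeroDivisors.coe_ne_zero s ((map_eq_zero_iff _ (IsFractionRing.injective A' K)).1 h)
  have hlift : Polynomial.scaleRoots q (algebraMap A' K s) ∈ Polynomial.lifts (algebraMap A K) := by
    refine (Polynomial.lifts_iff_coeff_lifts _).2 fun i => ?_
    rw [Polynomial.coeff_scaleRoots, hn]
    rcases lt_trichotomy i (n + 1) with hi | hi | hi
    · obtain ⟨c, hc⟩ := hs (q.coeff i) (Finset.mem_image_of_mem _ (Finset.mem_range.2 hi))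
      obtain ⟨a, ha⟩ := Ideal.Quotient.mk_surjective (c * (s : A') ^ (n - i))
      refine ⟨a, ?_⟩
      rw [IsScalarTower.algebraMap_apply A A' K, show algebraMap A A' a = Ideal.Quotient.mk p a from rfl, ha,
        map_mul, map_pow, hc, Algebra.smul_def, show n + 1 - i = (n - i) + 1 by omega, pow_succ]
      ring
    · subst hi
      refine ⟨1, ?_⟩
      rw [map_one, Nat.sub_self, pow_zero, mul_one, ← hn]
      exact hqm.leadingCoeff.symm
    · refine ⟨0, ?_⟩
      rw [map_zero, Polynomial.coeff_eq_zero_of_natDegree_lt (by omega), zero_mul]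
  obtain ⟨F, hFmap, hFdeg, hFm⟩ := Polynomial.lifts_and_degree_eq_and_monic hlift
    ((Polynomial.monic_scaleRoots_iff _).2 hqm)
  let φ : CommRingCat.of A ⟶ CommRingCat.of (AdjoinRoot F) := CommRingCat.ofHom (AdjoinRoot.of F)
  have : Module.Free A (AdjoinRoot F) := hFm.free_adjoinRoot
  have : Module.Finite A (AdjoinRoot F) := hFm.finite_adjoinRoot
  have hfp : Algebra.FinitePresentation A (AdjoinRoot F) := inferInstance
  have hdeg : F.degree ≠ 0 := by
    rw [hFdeg, Polynomial.degree_scaleRoots]
    exact (Polynomial.degree_pos_of_irreducible hq).ne'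
  have : Nontrivial A :=
    ⟨⟨0, 1, fun h => Ideal.IsPrime.ne_top ‹_› ((Ideal.eq_top_iff_one p).2 (h ▸ p.zero_mem))⟩⟩
  have hnt : Nontrivial (AdjoinRoot F) := by
    let b := AdjoinRoot.powerBasis' hFm
    have hdim : 0 < b.dim := by
      rw [AdjoinRoot.powerBasis'_dim]
      exact Polynomial.natDegree_pos_iff_degree_pos.2 (lt_of_le_of_ne
        (Polynomial.zero_le_degree_iff.2 hFm.ne_zero) hdeg.symm)
    exact nontrivial_of_ne _ _ (b.basis.ne_zero ⟨0, hdim⟩)
  have : Module.FaithfullyFlat A (AdjoinRoot F) := inferInstance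
  have hsurj : Surjective (Spec.map φ) :=
    ⟨PrimeSpectrum.comap_surjective_of_faithfullyFlat (A := A) (B := AdjoinRoot F)⟩
  have h1 : Flat (Spec.map φ) := by
    rw [HasRingHomProperty.Spec_iff (P := @Flat)]
    exact RingHom.flat_algebraMap_iff.2 inferInstance
  have h2 : LocallyOfFinitePresentation (Spec.map φ) := by
    rw [HasRingHomProperty.Spec_iff (P := @LocallyOfFinitePresentation)]
    exact RingHom.finitePresentation_algebraMap.2 hfp
  obtain ⟨Y, v, h, hv, hh⟩ := hloc (Spec (CommRingCat.of A)) (Presieve.singleton (Spec.map φ)) (by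
    rw [Scheme.singleton_mem_precoverage_iff]
    exact ⟨hsurj.1, ⟨⟨h1, h2⟩, inferInstance⟩, inferInstance⟩) (𝟙 _)
  cases hv
  obtain ⟨ψ, rfl⟩ : ∃ ψ : CommRingCat.of (AdjoinRoot F) ⟶ CommRingCat.of A, Spec.map ψ = h :=
    ⟨Spec.preimage h, Spec.map_preimage h⟩
  rw [← Spec.map_comp, ← Spec.map_id, Spec.map_inj] at hh
  have hroot : F.eval₂ (RingHom.id A) (ψ.hom (AdjoinRoot.root F)) = 0 := by
    have e : ψ.hom.comp (AdjoinRoot.of F) = RingHom.id A := congrArg CommRingCat.Hom.hom hh
    rw [← e, ← Polynomial.hom_eval₂, AdjoinRoot.eval₂_root, map_zero]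
  refine ⟨algebraMap A K (ψ.hom (AdjoinRoot.root F)) / algebraMap A' K s, ?_⟩
  have h3 : (Polynomial.scaleRoots q (algebraMap A' K s)).eval (algebraMap A K (ψ.hom (AdjoinRoot.root F))) = 0 := by
    rw [← hFmap, Polynomial.eval_map]
    have e := Polynomial.hom_eval₂ F (RingHom.id A) (algebraMap A K) (ψ.hom (AdjoinRoot.root F))
    rw [hroot, map_zero, RingHom.comp_id] at e
    exact e.symm
  set r := algebraMap A K (ψ.hom (AdjoinRoot.root F))
  have h4 := Polynomial.scaleRoots_eval₂_mul (p := q) (RingHom.id K) (r / algebraMap A' K s) (algebraMap A' K s)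
  rw [RingHom.id_apply, mul_div_cancel₀ _ hs0] at h4
  change Polynomial.eval r (Polynomial.scaleRoots q (algebraMap A' K s)) = _ at h4
  rw [h3] at h4
  exact (mul_eq_zero.1 h4.symm).resolve_left (pow_ne_zero _ hs0)

end Groth.Agent.S19328
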