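import Groth.Statements.S19329
import Groth.Agent.ModPairLib.Divide
import Groth.Agent.ModPairLib.Dense
import Groth.Agent.S18731
-- import your own Groth.Agent.* helpers here

set_option autoImplicit false
universe u
open CategoryTheory CategoryTheory.Limits AlgebraicGeometry TopologicalSpace
open ModPair

namespace Groth.Agent.S19329

open Groth.Agent.ModPairLib
/-- Let (X, I), (Y, J), (Z, K) be modulus pairs, i.e. schemes with quasi-coherent ideal sheaves of
effective Cartier divisors, and let f : X ⟶ Y and g : Y ⟶ Z satisfy the modulus conditions I ≤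
J.comap f and J ≤ K.comap g. Suppose the composite X ⟶ Z is minimal, I = K.comap (f ≫ g). Then f is
minimal, and there is an open subset U of Y whose inclusion is quasi-compact, which contains the
image of f, and such that U ⟶ Z is minimal for the modulus of Y restricted to U. -/
theorem result {X Y Z : Scheme.{u}}
    (I : X.IdealSheafData) (J : Y.IdealSheafData) (K : Z.IdealSheafData)
    (hI : BlowUp.IsEffCartierIdeal I) (hJ : BlowUp.IsEffCartierIdeal J)
    (hK : BlowUp.IsEffCartierIdeal K) (f : X ⟶ Y) (g : Y ⟶ Z)
    (hf : ModPair.IsAmbient I J f) (hg : ModPair.IsAmbient J K g)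
    (hfg : ModPair.IsMinimal I K (f ≫ g)) :
    ModPair.IsMinimal I J f ∧
      ∃ U : Y.Opens, QuasiCompact U.ι ∧ Set.range f.base ⊆ (U : Set Y) ∧
        ModPair.IsMinimal (J.comap U.ι) K (U.ι ≫ g) := by
  have hI' : I = (K.comap g).comap f := by
    rw [← Scheme.IdealSheafData.comap_comp]; exact hfg
  have hK' : BlowUp.IsEffCartierIdeal (K.comap g) := Groth.Agent.S18731.result J K hJ hK g hg
  have hKf : BlowUp.IsEffCartierIdeal ((K.comap g).comap f) := hI' ▸ hI
  have hmin : I = J.comap f := le_antisymm hf
    ((Scheme.IdealSheafData.comap_mono f hg).trans_eq hI'.symm)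
  have hC := Divide.quot_mul_eq hK' (show J ≤ K.comap g from hg)
  set C := Divide.quot J (K.comap g) (Divide.isFiniteTypeIdeal_of_effCartier hK')
  have hCeff : BlowUp.IsEffCartierIdeal C :=
    Groth.Agent.IdealSh.EffCartier.factor_left (by rw [hC]; exact hJ)
  have hCf : C.comap f = ⊤ := by
    refine Divide.eq_of_mul_eq_mul hKf ?_
    rw [← Groth.Agent.IdealSh.Comap.comap_mul, hC, Scheme.IdealSheafData.top_mul, ← hmin, ← hI']
  refine ⟨hmin, ModPair.interior C, ?_, ?_, ?_⟩
  · have := Dense.isAffineHom_interior hCeff
    infer_instance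
  · rintro _ ⟨x, rfl⟩ hx
    have : x ∈ (C.comap f).support := by rw [Scheme.IdealSheafData.support_comap]; exact hx
    rw [hCf, Scheme.IdealSheafData.support_top] at this
    exact this
  · show J.comap _ = K.comap _
    conv_lhs => rw [← hC, Groth.Agent.IdealSh.Comap.comap_mul,
      Groth.Agent.IdealSh.Comap.comap_eq_top_of_disjoint C (ModPair.interior C).ι (by
        rw [Scheme.Opens.range_ι]; exact disjoint_compl_left)]
    rw [Scheme.IdealSheafData.top_mul, ← Scheme.IdealSheafData.comap_comp]

end Groth.Agent.S19329
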