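import Groth.Statements.S19330
import Groth.Agent.ModPairLib.Image
import Groth.Agent.IdealSh.GenericPts
-- import your own Groth.Agent.* helpers here

set_option autoImplicit false
universe u
open CategoryTheory CategoryTheory.Limits AlgebraicGeometry TopologicalSpace
open ModPair

namespace Groth.Agent.S19330

open Groth.Agent.ModPairLib
/-- Let (S, I) be a modulus pair, i.e. a scheme with the quasi-coherent ideal sheaf of an effective
Cartier divisor, with interior U, and let g_i : V_i ⟶ U be a jointly surjective family of closed
immersions into the interior. Let V̄_i be the scheme-theoretic image of V_i ⟶ U ⟶ S. Then the closed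
immersions V̄_i ⟶ S are jointly surjective, the modulus restricted to each V̄_i is again the ideal
sheaf of an effective Cartier divisor (so that V̄_i ⟶ S is a minimal morphism of modulus pairs), and
the interior of V̄_i is V_i: the canonical morphism V_i ⟶ V̄_i is an open immersion whose image is
the preimage of U. -/
theorem result {S : Scheme.{u}} (I : S.IdealSheafData)
    (hI : BlowUp.IsEffCartierIdeal I) {ι : Type u} (V : ι → Scheme.{u})
    (g : ∀ i, V i ⟶ (ModPair.interior I : Scheme.{u})) [∀ i, IsClosedImmersion (g i)]
    (hsurj : ∀ u : (ModPair.interior I : Scheme.{u}), ∃ (i : ι) (v : V i), (g i).base v = u) :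
    (∀ s : S, ∃ (i : ι) (v : (g i ≫ (ModPair.interior I).ι).image),
        (g i ≫ (ModPair.interior I).ι).imageι.base v = s) ∧
      (∀ i, BlowUp.IsEffCartierIdeal (I.comap (g i ≫ (ModPair.interior I).ι).imageι)) ∧
      ∀ i, IsOpenImmersion (g i ≫ (ModPair.interior I).ι).toImage ∧
        Set.range (g i ≫ (ModPair.interior I).ι).toImage.base =
          (g i ≫ (ModPair.interior I).ι).imageι.base ⁻¹' (ModPair.interior I : Set S) := by
  have hU : IsAffineHom (ModPair.interior I).ι := Dense.isAffineHom_interior hI
  refine ⟨fun s => ?_, fun i => ?_, fun i => ?_⟩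
  · obtain ⟨η, hη, hmax⟩ := Groth.Agent.IdealSh.GenericPts.exists_maximal_generalization s
    have hηI := Groth.Agent.IdealSh.Regular.not_mem_support_of_maximal hI η hmax
    obtain ⟨i, v, hv⟩ := hsurj ⟨η, hηI⟩
    refine ⟨i, ?_⟩
    have hmem : s ∈ closure (Set.range (g i ≫ (ModPair.interior I).ι)) := by
      refine hη.mem_closed isClosed_closure (subset_closure ⟨v, ?_⟩)
      rw [Scheme.Hom.comp_apply, hv]
      rfl
    rw [← Scheme.Hom.support_ker, ← Scheme.IdealSheafData.range_subschemeι] at hmem
    exact hmem
  · have h := Image.isEffCartierIdeal_comap_image hI (𝟙 S) (g i ≫ (ModPair.interior I).ι)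
      (fun v => (g i v).2)
    rwa [Category.comp_id] at h
  · exact Image.range_toImage_eq (ModPair.interior I) (g i) _ rfl

end Groth.Agent.S19330
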