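import Groth.Statements.S19331
import Groth.Agent.ModPairLib.NormRestrict
import Groth.Agent.LimLib.FPSystem
import Groth.Agent.LimLib.Immersion
import Groth.Agent.ModPairLib.Dense
import Groth.Agent.FlatMor.SchDom
-- import your own Groth.Agent.* helpers here

set_option autoImplicit false
universe u
open CategoryTheory CategoryTheory.Limits AlgebraicGeometry TopologicalSpace
open ModPair

namespace Groth.Agent.S19331

/-- Let (S, I) be a modulus pair, i.e. a scheme with the quasi-coherent ideal sheaf of an effective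
Cartier divisor, with S quasi-compact and quasi-separated and with interior U, and let t₀ : T₀ ⟶ U
be a finite surjective morphism. Then there are a finite surjective morphism t : T ⟶ S such that the
pulled-back modulus I.comap t is again the ideal sheaf of an effective Cartier divisor, making T ⟶ S
a minimal morphism of modulus pairs, and an open immersion j : T₀ ⟶ T with image t⁻¹(U) and j ≫ t =
t₀ ≫ (U ⟶ S), so that t₀ is the interior of t. -/
theorem result {S : Scheme.{u}}
    [CompactSpace S] [QuasiSeparatedSpace S] (I : S.IdealSheafData)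
    (hI : BlowUp.IsEffCartierIdeal I) {T₀ : Scheme.{u}}
    (t₀ : T₀ ⟶ (ModPair.interior I : Scheme.{u})) [IsFinite t₀] [Surjective t₀] :
    ∃ (T : Scheme.{u}) (t : T ⟶ S) (j : T₀ ⟶ T), IsFinite t ∧ Surjective t ∧
      BlowUp.IsEffCartierIdeal (I.comap t) ∧ IsOpenImmersion j ∧
      Set.range j.base = t.base ⁻¹' (ModPair.interior I : Set S) ∧
      j ≫ t = t₀ ≫ (ModPair.interior I).ι := by
  have : IsAffineHom (ModPair.interior I).ι := Groth.Agent.ModPairLib.Dense.isAffineHom_interior hI
  let U := ModPair.interior I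
  let f : T₀ ⟶ S := t₀ ≫ U.ι
  let ν := f.fromNormalization
  let W := ν ⁻¹ᵁ U
  have hW : IsIso (f.toNormalization ∣_ W) :=
    Groth.Agent.ModPairLib.NormRestrict.isIso_restrict f U fun V hV =>
      Groth.Agent.ModPairLib.NormRestrict.isIntegral_app_of_le U t₀ V hV
  have : CompactSpace (U : Scheme.{u}) := QuasiCompact.compactSpace_of_compactSpace U.ι
  have : QuasiSeparatedSpace (U : Scheme.{u}) := quasiSeparatedSpace_of_quasiSeparated U.ι
  obtain ⟨Ix, _, _, _, D, c, hc, hD, ⟨e⟩⟩ := Groth.Agent.LimLib.exists_finiteSystem ν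
  let D' : Ixᵒᵖ ⥤ Over (U : Scheme.{u}) := D ⋙ Over.pullback U.ι
  let c' := (Over.pullback U.ι).mapCone c
  have : IsConnected Ixᵒᵖ := IsCofiltered.isConnected _
  have hc' : IsLimit c' := isLimitOfPreserves _ hc
  have hD' : ∀ i, IsFinite (D'.obj i).hom := fun i => by
    have := (hD i).1
    show IsFinite (pullback.snd (D.obj i).hom U.ι)
    infer_instance
  have : ∀ (i j : Ixᵒᵖ) (a : i ⟶ j), IsAffineHom (D'.map a).left := fun i j a => by
    have := hD' i
    have := hD' j
    have : IsAffineHom ((D'.map a).left ≫ (D'.obj j).hom) := by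
      rw [Over.w]; infer_instance
    exact IsAffineHom.of_comp _ (D'.obj j).hom
  have : ∀ i, CompactSpace (D'.obj i).left := fun i => by
    have := hD' i
    exact QuasiCompact.compactSpace_of_compactSpace (D'.obj i).hom
  -- the interior of the limit
  let k : pullback ν U.ι ≅ c'.pt.left :=
    (Over.forget _).mapIso ((Over.pullback U.ι).mapIso e.symm)
  have hk : k.hom ≫ c'.pt.hom = pullback.snd ν U.ι :=
    Over.w ((Over.pullback U.ι).mapIso e.symm).hom
  let σ : T₀ ⟶ pullback ν U.ι := pullback.lift f.toNormalization t₀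
    f.toNormalization_fromNormalization
  have hσ : IsIso σ := by
    have hpre : f.toNormalization ⁻¹ᵁ W = ⊤ := by
      show (f.toNormalization ≫ ν) ⁻¹ᵁ U = ⊤
      rw [f.toNormalization_fromNormalization]
      refine top_unique fun x _ => ?_
      exact (t₀ x).2
    let q : T₀ ⟶ W := (Scheme.topIso T₀).inv ≫ (T₀.isoOfEq hpre).inv ≫ (f.toNormalization ∣_ W)
    have e1 : σ = q ≫ (pullbackRestrictIsoRestrict ν U).inv := by
      rw [Iso.eq_comp_inv, ← cancel_mono W.ι]
      simp [q, σ, W]
      exact pullback.lift_fst _ _ _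
    rw [e1]
    infer_instance
  let h : T₀ ⟶ c'.pt.left := σ ≫ k.hom
  have : LocallyOfFiniteType (h ≫ c'.pt.hom) := by
    simp only [h, σ, Category.assoc, hk, pullback.lift_snd]
    infer_instance
  obtain ⟨i, hi⟩ := Groth.Agent.LimLib.exists_isClosedImmersion_π D' c' hc' h
  let Z := (D.obj i).left
  let z : Z ⟶ S := (D.obj i).hom
  have : IsFinite z := (hD i).1
  let π : T₀ ⟶ pullback z U.ι := h ≫ (c'.π.app i).left
  have : IsClosedImmersion π := hi
  have hπ : π ≫ pullback.snd z U.ι = t₀ := by
    have e2 : (c'.π.app i).left ≫ pullback.snd z U.ι = c'.pt.hom := Over.w (c'.π.app i)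
    show (h ≫ _) ≫ _ = _
    rw [Category.assoc, e2]
    simp only [h, σ, Category.assoc, hk, pullback.lift_snd]
  let p : T₀ ⟶ Z := π ≫ pullback.fst z U.ι
  have hp : p ≫ z = f := by
    show (π ≫ _) ≫ z = t₀ ≫ U.ι
    rw [← hπ]
    exact (Category.assoc _ _ _).trans ((congrArg (π ≫ ·) pullback.condition).trans
      (Category.assoc _ _ _).symm)
  have : QuasiCompact p := inferInstance
  let T := p.image
  let t : T ⟶ S := p.imageι ≫ z
  let j : T₀ ⟶ T := p.toImage
  have hjt : j ≫ t = f := by
    show p.toImage ≫ p.imageι ≫ z = f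
    rw [Scheme.Hom.toImage_imageι_assoc, hp]
  have hdom : IsSchemeTheoreticallyDominant j :=
    Groth.Agent.FlatMor.SchDom.toImage_dominant p (Or.inl inferInstance)
  have hrange : Set.range j = t ⁻¹' (U : Set S) := by
    refine subset_antisymm ?_ fun x hx => ?_
    · rintro _ ⟨y, rfl⟩
      show (j ≫ t) y ∈ U
      rw [hjt]
      exact (t₀ y).2
    · have h1 : p.imageι x ∈ closure (Set.range p) := by
        rw [← p.support_ker, ← Scheme.IdealSheafData.range_subschemeι]
        exact ⟨x, rfl⟩
      have h2 : p.imageι x ∈ Set.range (pullback.fst z U.ι) := by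
        rw [Scheme.Pullback.range_fst, Scheme.Opens.range_ι]
        exact hx
      obtain ⟨w, hw⟩ := h2
      have e3 : Set.range p = pullback.fst z U.ι '' Set.range π := by
        rw [← Set.range_comp]; rfl
      rw [← hw, e3, ← Set.mem_preimage,
        (pullback.fst z U.ι).isOpenEmbedding.isOpenMap.preimage_closure_eq_closure_preimage
          (pullback.fst z U.ι).continuous,
        Set.preimage_image_eq _ (pullback.fst z U.ι).isOpenEmbedding.injective,
        π.isClosedEmbedding.isClosed_range.closure_eq] at h1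
      obtain ⟨y, hy⟩ := h1
      refine ⟨y, p.imageι.isClosedEmbedding.injective ?_⟩
      show (j ≫ p.imageι) y = _
      rw [Scheme.Hom.toImage_imageι, Scheme.Hom.comp_apply, hy, hw]
  have : IsFinite t := inferInstance
  have : IsOpenImmersion j := inferInstance
  refine ⟨T, t, j, inferInstance, ⟨fun s => ?_⟩, ?_, inferInstance, hrange, hjt⟩
  · have hd := Groth.Agent.ModPairLib.Dense.isSchemeTheoreticallyDominant_interior hI
    have hsub : (U : Set S) ⊆ Set.range t := fun y hy => by
      obtain ⟨w, hw⟩ := t₀.surjective ⟨y, hy⟩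
      refine ⟨j w, ?_⟩
      rw [← Scheme.Hom.comp_apply, hjt, Scheme.Hom.comp_apply, hw]
      rfl
    have hcl : IsClosed (Set.range t) := t.isClosedMap.isClosed_range
    have hdense : Dense (U : Set S) := by
      have hd' := U.ι.denseRange
      rwa [DenseRange, Scheme.Opens.range_ι] at hd'
    exact hcl.closure_subset_iff.2 hsub (hdense s)
  · have hle : Set.range j ⊆ Set.range (t ⁻¹ᵁ U).ι := by
      rw [hrange, Scheme.Opens.range_ι]; rfl
    have : IsSchemeTheoreticallyDominant (t ⁻¹ᵁ U).ι := by
      refine ⟨le_bot_iff.1 ?_⟩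
      calc (t ⁻¹ᵁ U).ι.ker
          ≤ (IsOpenImmersion.lift (t ⁻¹ᵁ U).ι j hle ≫ (t ⁻¹ᵁ U).ι).ker :=
            Scheme.Hom.le_ker_comp _ _
        _ = j.ker := by rw [IsOpenImmersion.lift_fac]
        _ = ⊥ := hdom.ker_eq_bot
    exact Groth.Agent.ModPairLib.Dense.isEffCartierIdeal_comap hI t

end Groth.Agent.S19331
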