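import Groth.Statements.S19333
import Mathlib.RingTheory.Valuation.LocalSubring
import Mathlib.RingTheory.Ideal.Maximal
import Mathlib.RingTheory.Localization.FractionRing
-- import your own Groth.Agent.* helpers here

set_option autoImplicit false
universe u
open ModPair

namespace Groth.Agent.S19333

/-- Let A → B be any homomorphism of commutative rings. An element x of B is integral over A if and only
if for every field K, every valuation subring R of K and every ring homomorphism φ : B → K which
sends the image of A into R, the element φ(x) lies in R. In other words the integral closure of A in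
B is the intersection of the subrings R ×_K B taken over all commutative squares A → R ⊆ K ← B with
R a valuation ring of the field K. -/
theorem result {A B : Type u} [CommRing A]
    [CommRing B] [Algebra A B] (x : B) :
    x ∈ integralClosure A B ↔
      ∀ (K : Type u) [Field K] (R : ValuationSubring K) (φ : B →+* K),
        (∀ a : A, φ (algebraMap A B a) ∈ R) → φ x ∈ R := by
  constructor
  · intro hx K _ R φ hR
    obtain ⟨p, hp, hpx⟩ := hx
    let g : A →+* R := (φ.comp (algebraMap A B)).codRestrict R.toSubring hR
    have hint : IsIntegral R (φ x) := by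
      refine ⟨p.map g, hp.map g, ?_⟩
      rw [Polynomial.eval₂_map]
      have e : (algebraMap R K).comp g = φ.comp (algebraMap A B) := RingHom.ext fun a => rfl
      rw [e, ← Polynomial.hom_eval₂, hpx, map_zero]
    obtain ⟨y, hy⟩ := IsIntegrallyClosed.isIntegral_iff.1 hint
    exact hy ▸ y.2
  · intro h
    by_contra hx
    let S : Submonoid B :=
      { carrier := {y | ∃ p : Polynomial A, p.Monic ∧ Polynomial.aeval x p = y}
        one_mem' := ⟨1, Polynomial.monic_one, map_one _⟩
        mul_mem' := by
          rintro a b ⟨p, hp, rfl⟩ ⟨q, hq, rfl⟩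
          exact ⟨p * q, hp.mul hq, map_mul _ _ _⟩ }
    have hdis : Disjoint ((⊥ : Ideal B) : Set B) S := by
      rw [Set.disjoint_left]
      rintro y hy ⟨p, hp, hpy⟩
      rw [SetLike.mem_coe, Submodule.mem_bot] at hy
      exact hx ⟨p, hp, hpy.trans hy⟩
    obtain ⟨P, hP, -, hPS⟩ := Ideal.exists_le_prime_disjoint (⊥ : Ideal B) S hdis
    let K := FractionRing (B ⧸ P)
    let φ : B →+* K := (algebraMap (B ⧸ P) K).comp (Ideal.Quotient.mk P)
    let A' : Subring K := (φ.comp (algebraMap A B)).range
    let R₀ : Subring K := (integralClosure A' K).toSubring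
    have : IsIntegrallyClosedIn R₀ K :=
      inferInstanceAs (IsIntegrallyClosedIn (integralClosure A' K) K)
    have hxR : φ x ∉ R₀ := by
      rintro ⟨p, hp, hpx⟩
      have hsurj : Function.Surjective (φ.comp (algebraMap A B)).rangeRestrict :=
        RingHom.rangeRestrict_surjective _
      obtain ⟨q, hq, -, hqm⟩ := Polynomial.lifts_and_degree_eq_and_monic
        ((Polynomial.lifts_iff_coeff_lifts p).2 fun n => hsurj (p.coeff n)) hp
      refine Set.disjoint_left.1 hPS ?_ ⟨q, hqm, rfl⟩
      rw [← hq, Polynomial.eval₂_map] at hpx
      have e : (algebraMap A' K).comp (φ.comp (algebraMap A B)).rangeRestrict =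
          φ.comp (algebraMap A B) := RingHom.ext fun a => rfl
      rw [e, ← Polynomial.hom_eval₂] at hpx
      exact Ideal.Quotient.eq_zero_iff_mem.1
        ((IsFractionRing.injective (B ⧸ P) K) (hpx.trans (map_zero _).symm))
    obtain ⟨V, hV, hxV⟩ := Subring.exists_le_valuationSubring_of_isIntegrallyClosedIn hxR
    exact hxV (h K V φ fun a =>
      hV ((integralClosure A' K).algebraMap_mem (⟨φ (algebraMap A B a), a, rfl⟩ : A')))

end Groth.Agent.S19333
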