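import Groth.Statements.S19334
import Groth.Agent.ModPairLib.Dense
import Groth.Agent.IdealSh.GenericPts
import Mathlib.AlgebraicGeometry.ValuativeCriterion
-- import your own Groth.Agent.* helpers here

set_option autoImplicit false
universe u
open CategoryTheory CategoryTheory.Limits AlgebraicGeometry TopologicalSpace
open ModPair

namespace Groth.Agent.S19334

open Groth.Agent.ModPairLib
/-- Let (X, I) be a modulus pair, i.e. a scheme X with the quasi-coherent ideal sheaf I of an effective
Cartier divisor. Suppose that for every valuation ring R and every morphism p : Spec R ⟶ X along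
which the divisor of I pulls back to an effective Cartier divisor on Spec R (so that p is a minimal
morphism of modulus pairs for the pulled-back modulus), the pulled-back divisor is empty, I.comap p
= ⊤. Then the divisor of I is empty: I = ⊤. -/
theorem result {X : Scheme.{u}}
    (I : X.IdealSheafData) (hI : BlowUp.IsEffCartierIdeal I)
    (h : ∀ (R : Type u) [CommRing R] [IsDomain R] [ValuationRing R]
      (p : Spec (CommRingCat.of R) ⟶ X), BlowUp.IsEffCartierIdeal (I.comap p) → I.comap p = ⊤) :
    I = ⊤ := by
  by_contra hne
  obtain ⟨x, hx⟩ : ∃ x : X, x ∈ I.support := by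
    by_contra hno
    push Not at hno
    exact hne ((I.support_eq_bot_iff).1 (Closeds.ext (Set.eq_empty_iff_forall_notMem.2 hno)))
  obtain ⟨η, hη, hmax⟩ := Groth.Agent.IdealSh.GenericPts.exists_maximal_generalization x
  have hηI := Groth.Agent.IdealSh.Regular.not_mem_support_of_maximal hI η hmax
  obtain ⟨A, hA, hloc⟩ := IsLocalRing.exists_factor_valuationRing
    (X.presheaf.stalkSpecializes hη ≫ X.residue η).hom
  let φ : X.presheaf.stalk x ⟶ CommRingCat.of A :=
    CommRingCat.ofHom ((X.presheaf.stalkSpecializes hη ≫ X.residue η).hom.codRestrict _ hA)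
  let p : Spec (CommRingCat.of A) ⟶ X := Spec.map φ ≫ X.fromSpecStalk x
  have hp : p (IsLocalRing.closedPoint A) = x := by
    have e : Spec.map φ (IsLocalRing.closedPoint A) = IsLocalRing.closedPoint (X.presheaf.stalk x) :=
      IsLocalRing.comap_closedPoint (S := A)
        ((X.presheaf.stalkSpecializes hη ≫ X.residue η).hom.codRestrict A.toSubring hA)
    show (Spec.map φ ≫ X.fromSpecStalk x).base _ = x
    rw [Scheme.Hom.comp_base]
    show X.fromSpecStalk x (Spec.map φ (IsLocalRing.closedPoint A)) = x
    exact (congrArg _ e).trans X.fromSpecStalk_closedPoint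
  have hq : η ∈ Set.range p := by
    have e : Spec.map (CommRingCat.ofHom (algebraMap A (X.residueField η))) ≫ p =
        X.fromSpecResidueField η := by
      simp only [p, Scheme.fromSpecResidueField, ← Scheme.SpecMap_stalkSpecializes_fromSpecStalk hη,
        ← Spec.map_comp_assoc]
      rfl
    refine ⟨Spec.map (CommRingCat.ofHom (algebraMap A (X.residueField η)))
      (IsLocalRing.closedPoint (X.residueField η)), ?_⟩
    refine (congrArg (fun q : Spec (CommRingCat.of (X.residueField η)) ⟶ X => q (IsLocalRing.closedPoint _)) e).trans ?_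
    exact Scheme.fromSpecResidueField_apply η _
  obtain ⟨q, hq⟩ := hq
  have : IsReduced (Spec (CommRingCat.of A)) := inferInstance
  have : IsIntegral (Spec (CommRingCat.of A)) := inferInstance
  have : IsDominant (p ⁻¹ᵁ ModPair.interior I).ι := ⟨by
    rw [DenseRange, Scheme.Opens.range_ι]
    refine (p ⁻¹ᵁ ModPair.interior I).isOpen.dense ⟨q, ?_⟩
    show p q ∈ ModPair.interior I
    rw [hq]
    exact hηI⟩
  have : IsSchemeTheoreticallyDominant (p ⁻¹ᵁ ModPair.interior I).ι :=
    IsSchemeTheoreticallyDominant.of_isDominant _
  have h0 := h A p (Dense.isEffCartierIdeal_comap hI p)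
  have hsupp : IsLocalRing.closedPoint A ∈ (I.comap p).support := by
    rw [Scheme.IdealSheafData.support_comap]
    show p (IsLocalRing.closedPoint A) ∈ I.support
    rw [hp]
    exact hx
  rw [h0, Scheme.IdealSheafData.support_top] at hsupp
  exact hsupp

end Groth.Agent.S19334
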