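import Groth.Statements.S19335
import Groth.Agent.ModPairLib.Divide
import Groth.Agent.ModPairLib.Dense
import Groth.Agent.IdealSh.GenericPts
import Mathlib.AlgebraicGeometry.ValuativeCriterion
-- import your own Groth.Agent.* helpers here

set_option autoImplicit false
universe u
open CategoryTheory CategoryTheory.Limits AlgebraicGeometry TopologicalSpace
open ModPair

namespace Groth.Agent.S19335

open Groth.Agent.ModPairLib
/-- Let X be a scheme and I, J quasi-coherent ideal sheaves of effective Cartier divisors D_I ≤ D_J on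
X, i.e. J ≤ I. Suppose that for every valuation ring R and every morphism p : Spec R ⟶ X such that
I.comap p is the ideal sheaf of an effective Cartier divisor on Spec R (so p is a minimal morphism
of modulus pairs for (X, I)) whose open complement consists of the generic point of Spec R only, the
two divisors agree after pull-back, I.comap p = J.comap p. Then I = J. -/
theorem result {X : Scheme.{u}} (I J : X.IdealSheafData)
    (hI : BlowUp.IsEffCartierIdeal I) (hJ : BlowUp.IsEffCartierIdeal J) (hJI : J ≤ I)
    (h : ∀ (R : Type u) [CommRing R] [IsDomain R] [ValuationRing R]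
      (p : Spec (CommRingCat.of R) ⟶ X), BlowUp.IsEffCartierIdeal (I.comap p) →
        (∀ x : Spec (CommRingCat.of R),
          x ∈ (ModPair.interior (I.comap p) : Set (Spec (CommRingCat.of R))) ↔ x.asIdeal = ⊥) →
        I.comap p = J.comap p) :
    I = J := by
  have hC := Divide.quot_mul_eq hI hJI
  set C := Divide.quot J I (Divide.isFiniteTypeIdeal_of_effCartier hI)
  suffices hCtop : C = ⊤ by rw [← hC, hCtop, Scheme.IdealSheafData.top_mul]
  refine (C.support_eq_bot_iff).1 (Closeds.ext (Set.eq_empty_iff_forall_notMem.2 fun x hx => ?_))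
  obtain ⟨η, hη, hmax⟩ := Groth.Agent.IdealSh.GenericPts.exists_maximal_generalization x
  have hηI := Groth.Agent.IdealSh.Regular.not_mem_support_of_maximal hI η hmax
  obtain ⟨B, hB, hloc⟩ := IsLocalRing.exists_factor_valuationRing
    (X.presheaf.stalkSpecializes hη ≫ X.residue η).hom
  let φ : X.presheaf.stalk x ⟶ CommRingCat.of B :=
    CommRingCat.ofHom ((X.presheaf.stalkSpecializes hη ≫ X.residue η).hom.codRestrict _ hB)
  let p : Spec (CommRingCat.of B) ⟶ X := Spec.map φ ≫ X.fromSpecStalk x
  have hp : p (IsLocalRing.closedPoint B) = x := by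
    have e : Spec.map φ (IsLocalRing.closedPoint B) = IsLocalRing.closedPoint (X.presheaf.stalk x) :=
      IsLocalRing.comap_closedPoint (S := B)
        ((X.presheaf.stalkSpecializes hη ≫ X.residue η).hom.codRestrict B.toSubring hB)
    show (Spec.map φ ≫ X.fromSpecStalk x).base _ = x
    rw [Scheme.Hom.comp_base]
    show X.fromSpecStalk x (Spec.map φ (IsLocalRing.closedPoint B)) = x
    exact (congrArg _ e).trans X.fromSpecStalk_closedPoint
  obtain ⟨q, hq⟩ : η ∈ Set.range p := by
    have e : Spec.map (CommRingCat.ofHom (algebraMap B (X.residueField η))) ≫ p =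
        X.fromSpecResidueField η := by
      simp only [p, Scheme.fromSpecResidueField, ← Scheme.SpecMap_stalkSpecializes_fromSpecStalk hη,
        ← Spec.map_comp_assoc]
      rfl
    refine ⟨Spec.map (CommRingCat.ofHom (algebraMap B (X.residueField η)))
      (IsLocalRing.closedPoint (X.residueField η)), ?_⟩
    refine (congrArg (fun q : Spec (CommRingCat.of (X.residueField η)) ⟶ X => q (IsLocalRing.closedPoint _)) e).trans ?_
    exact Scheme.fromSpecResidueField_apply η _
  -- the most special point of the interior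
  set U := p ⁻¹ᵁ ModPair.interior I
  have hne : (U : Set (Spec (CommRingCat.of B))).Nonempty :=
    ⟨q, show p q ∈ ModPair.interior I by rw [hq]; exact hηI⟩
  have hUaff : IsAffineHom U.ι := Dense.isAffineHom_preimage hI p
  have : IsAffine U.toScheme := isAffine_of_isAffineHom U.ι
  have : Nonempty U.toScheme := hne.to_subtype
  obtain ⟨ξ, -, hξ⟩ := IsClosed.exists_closed_singleton (S := (Set.univ : Set U.toScheme))
    isClosed_univ Set.univ_nonempty
  let 𝔭 : Ideal B := (U.ι ξ).asIdeal
  have h𝔭 : 𝔭.IsPrime := (U.ι ξ).isPrime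
  have hval : ValuationRing (B ⧸ 𝔭) :=
    ValuationRing.iff_dvd_total.2 ⟨fun a b => by
      obtain ⟨a, rfl⟩ := Ideal.Quotient.mk_surjective a
      obtain ⟨b, rfl⟩ := Ideal.Quotient.mk_surjective b
      exact (ValuationRing.dvd_total a b).imp (map_dvd _) (map_dvd _)⟩
  let R := B ⧸ 𝔭
  let ι' : Spec (CommRingCat.of R) ⟶ Spec (CommRingCat.of B) :=
    Spec.map (CommRingCat.ofHom (Ideal.Quotient.mk 𝔭))
  have hint : ∀ z : Spec (CommRingCat.of R), ι' z ∈ U ↔ z.asIdeal = ⊥ := by
    intro z
    constructor
    · intro hz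
      have hle : (U.ι ξ).asIdeal ≤ (ι' z).asIdeal := fun a ha => by
        show Ideal.Quotient.mk _ a ∈ z.asIdeal
        rw [Ideal.Quotient.eq_zero_iff_mem.2 ha]; exact zero_mem _
      have hsp : U.ι ξ ⤳ ι' z := (PrimeSpectrum.le_iff_specializes _ _).1 hle
      have hsp' : ξ ⤳ (⟨ι' z, hz⟩ : U) := U.ι.isEmbedding.isInducing.specializes_iff.1 hsp
      have heq : (⟨ι' z, hz⟩ : U) = ξ := hsp'.mem_closed hξ rfl
      have he : (ι' z).asIdeal = (U.ι ξ).asIdeal := congrArg (fun w : U => w.1.asIdeal) heq
      refine eq_bot_iff.2 fun c hc => ?_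
      obtain ⟨a, rfl⟩ := Ideal.Quotient.mk_surjective c
      have : a ∈ (U.ι ξ).asIdeal := he.le hc
      exact (Ideal.Quotient.eq_zero_iff_mem.2 this : Ideal.Quotient.mk _ a = 0)
    · intro hz
      have e : ι' z = U.ι ξ := PrimeSpectrum.ext (by
        show Ideal.comap (Ideal.Quotient.mk _) z.asIdeal = _
        rw [hz, ← RingHom.ker_eq_comap_bot, Ideal.mk_ker])
      rw [e]
      exact ξ.2
  let p' := ι' ≫ p
  have hd : IsSchemeTheoreticallyDominant (p' ⁻¹ᵁ ModPair.interior I).ι := by
    have : IsDominant (p' ⁻¹ᵁ ModPair.interior I).ι := ⟨by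
      rw [DenseRange, Scheme.Opens.range_ι]
      refine (p' ⁻¹ᵁ ModPair.interior I).isOpen.dense ⟨(⟨⊥, Ideal.isPrime_bot⟩ : PrimeSpectrum R), ?_⟩
      exact (hint _).2 rfl⟩
    exact IsSchemeTheoreticallyDominant.of_isDominant _
  have heff := Dense.isEffCartierIdeal_comap hI p'
  have hIJ := h R p' heff fun z => by
    rw [Dense.interior_comap]
    exact hint z
  have hCp : C.comap p' = ⊤ := by
    refine Divide.eq_of_mul_eq_mul heff ?_
    rw [← Groth.Agent.IdealSh.Comap.comap_mul, hC, Scheme.IdealSheafData.top_mul, ← hIJ]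
  have hc : ι' (IsLocalRing.closedPoint R) = IsLocalRing.closedPoint B := by
    have : IsLocalHom (Ideal.Quotient.mk 𝔭) :=
      IsLocalHom.of_surjective _ Ideal.Quotient.mk_surjective
    exact IsLocalRing.comap_closedPoint (Ideal.Quotient.mk 𝔭)
  have hsupp : IsLocalRing.closedPoint R ∈ (C.comap p').support := by
    rw [Scheme.IdealSheafData.support_comap]
    show p (ι' (IsLocalRing.closedPoint R)) ∈ C.support
    rw [hc, hp]
    exact hx
  rw [hCp, Scheme.IdealSheafData.support_top] at hsupp
  exact hsupp

end Groth.Agent.S19335
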