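import Groth.Statements.S19336
import Groth.Agent.LimLib.ClosedApprox
import Groth.Agent.ModPairLib.Divide
import Groth.Agent.ModPairLib.Dense
import Groth.Agent.BlowUp.Glue
import Groth.Agent.BlowUpProper.Basic
-- import your own Groth.Agent.* helpers here

set_option autoImplicit false
universe u
open CategoryTheory CategoryTheory.Limits AlgebraicGeometry TopologicalSpace
open ModPair

namespace Groth.Agent.S19336

open TopologicalSpace in
/-- A quasi-compact open is the complement of the support of an ideal of finite type. -/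
lemma exists_fg_support_eq {S : Scheme.{u}} [CompactSpace S] [QuasiSeparatedSpace S] (W : S.Opens)
    (hW : IsCompact (W : Set S)) :
    ∃ J : S.IdealSheafData, BlowUp.IsFiniteTypeIdeal J ∧ (J.support : Set S) = (W : Set S)ᶜ := by
  obtain ⟨J, _, _, _, F, hF, hK⟩ := Groth.Agent.LimLib.exists_iSup_fg_eq
    (Scheme.IdealSheafData.vanishingIdeal ⟨(W : Set S)ᶜ, W.2.isClosed_compl⟩)
  have hmono : ∀ j, (W : Set S)ᶜ ⊆ (F j).support := fun j x hx =>
    Scheme.IdealSheafData.support_antitone (hK ▸ le_iSup F j)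
      (by rw [← SetLike.mem_coe, Scheme.IdealSheafData.coe_support_vanishingIdeal]; exact hx)
  have hsub : (W : Set S) ⊆ ⋃ j, ((F j).support : Set S)ᶜ := by
    intro x hx
    by_contra hne
    simp only [Set.mem_iUnion, Set.mem_compl_iff, not_exists, not_not] at hne
    have : x ∈ (⨆ j, F j).support := by
      rw [Scheme.IdealSheafData.support_iSup]
      simpa using hne
    rw [hK, ← SetLike.mem_coe, Scheme.IdealSheafData.coe_support_vanishingIdeal] at this
    exact this hx
  obtain ⟨t, ht⟩ := hW.elim_finite_subcover (fun j => ((F j).support : Set S)ᶜ)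
    (fun j => (F j).support.isClosed.isOpen_compl) hsub
  classical
  obtain ⟨F₀, hF₀, hle⟩ : ∃ F₀ : S.IdealSheafData, BlowUp.IsFiniteTypeIdeal F₀ ∧
      (∀ x, x ∈ F₀.support ↔ ∀ j ∈ t, x ∈ (F j).support) := by
    refine ⟨⨆ j : t, F j, fun U => ?_, fun x => ?_⟩
    · simp only [Scheme.IdealSheafData.ideal_iSup, iSup_apply]
      exact Submodule.fg_iSup _ fun j => hF j U
    · rw [Scheme.IdealSheafData.support_iSup]
      simp
  refine ⟨F₀, hF₀, subset_antisymm (fun x hx hxW => ?_) fun x hx => (hle x).2 fun j _ => hmono j hx⟩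
  obtain ⟨j, hj, hxj⟩ := Set.mem_iUnion₂.1 (ht hxW)
  exact hxj ((hle x).1 hx j hj)

/-- Let (S, I) be a modulus pair, i.e. a scheme S with the quasi-coherent ideal sheaf I of an effective
Cartier divisor, with S quasi-compact and quasi-separated and with interior U, and let (V_i) be a
covering of U by quasi-compact open subsets. Then there are a quasi-coherent ideal sheaf F of finite
type on S whose support is disjoint from U, a blow-up b : Y ⟶ S of S in F (an admissible blow-up)
such that I.comap b is again the ideal sheaf of an effective Cartier divisor, and a covering of Y by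
quasi-compact open subsets W_j such that each W_j ∩ b⁻¹(U) is contained in b⁻¹(V_i) for some i: the
Zariski covering of the interior extends, after an admissible blow-up, to a Zariski covering of the
total space. -/
theorem result {S : Scheme.{u}}
    [CompactSpace S] [QuasiSeparatedSpace S] (I : S.IdealSheafData)
    (hI : BlowUp.IsEffCartierIdeal I) {ι : Type u} (V : ι → S.Opens)
    (hVU : ∀ i, V i ≤ ModPair.interior I) (hVqc : ∀ i, IsCompact (V i : Set S))
    (hcov : ModPair.interior I ≤ ⨆ i, V i) :
    ∃ (F : S.IdealSheafData) (Y : Scheme.{u}) (b : Y ⟶ S) (κ : Type u) (W : κ → Y.Opens),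
      BlowUp.IsAdmissibleFor (ModPair.interior I) F ∧ BlowUp.IsBlowUp b F ∧
        BlowUp.IsEffCartierIdeal (I.comap b) ∧ (∀ k, IsCompact (W k : Set Y)) ∧
        (⨆ k, W k) = ⊤ ∧ ∀ k, ∃ i, W k ⊓ b ⁻¹ᵁ ModPair.interior I ≤ b ⁻¹ᵁ V i := by
  classical
  let U := ModPair.interior I
  have := Groth.Agent.ModPairLib.Dense.isAffineHom_interior hI
  have hUc : IsCompact (U : Set S) :=
    isCompact_iff_compactSpace.mpr (QuasiCompact.compactSpace_of_compactSpace U.ι)
  obtain ⟨s, hs⟩ := hUc.elim_finite_subcover (fun i => (V i : Set S)) (fun i => (V i).2)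
    (fun x hx => by simpa [Opens.mem_iSup] using hcov hx)
  choose J hJ hJs using fun i => exists_fg_support_eq (V i) (hVqc i)
  let F₀ : S.IdealSheafData := ⨆ i : s, J i
  let F : S.IdealSheafData := I * F₀
  have hF₀ : BlowUp.IsFiniteTypeIdeal F₀ := fun T => by
    simp only [F₀, Scheme.IdealSheafData.ideal_iSup, iSup_apply]
    exact Submodule.fg_iSup _ fun i => hJ i T
  have hFft : BlowUp.IsFiniteTypeIdeal F := fun T => by
    simp only [F, Scheme.IdealSheafData.ideal_mul, Pi.mul_apply]
    exact (Groth.Agent.ModPairLib.Divide.isFiniteTypeIdeal_of_effCartier hI T).mul (hF₀ T)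
  have hdisj₀ : Disjoint (F₀.support : Set S) (U : Set S) := by
    rw [Set.disjoint_left]
    intro x hx hxU
    obtain ⟨i, hi, hxi⟩ := Set.mem_iUnion₂.1 (hs hxU)
    have := Scheme.IdealSheafData.support_antitone (le_iSup (fun i : s => J i) ⟨i, hi⟩) hx
    have h2 : x ∈ (V i : Set S)ᶜ := hJs i ▸ this
    exact h2 hxi
  have hdisj : Disjoint (F.support : Set S) (U : Set S) := by
    simp only [F, Scheme.IdealSheafData.support_mul, Closeds.coe_sup, Set.disjoint_union_left]
    exact ⟨Set.disjoint_left.2 fun x hx hxU => hxU hx, hdisj₀⟩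
  obtain ⟨Y, b, hb⟩ := Groth.Agent.BlowUp.Glue.exists_isBlowUp S F
  obtain ⟨hbE, -⟩ := id hb
  have hmul : F.comap b = I.comap b * F₀.comap b := Groth.Agent.IdealSh.Comap.comap_mul _ _ _
  have hIb : BlowUp.IsEffCartierIdeal (I.comap b) :=
    Groth.Agent.IdealSh.EffCartier.factor_left (hmul ▸ hbE)
  have hE : BlowUp.IsEffCartierIdeal (F₀.comap b) :=
    Groth.Agent.IdealSh.EffCartier.factor_right (hmul ▸ hbE)
  let E := F₀.comap b
  let K : s → Y.IdealSheafData := fun i => Groth.Agent.ModPairLib.Divide.quot ((J i).comap b) E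
    (Groth.Agent.ModPairLib.Divide.isFiniteTypeIdeal_of_effCartier hE)
  have hK : ∀ i, K i * E = (J i).comap b := fun i =>
    Groth.Agent.ModPairLib.Divide.quot_mul_eq hE
      (Scheme.IdealSheafData.comap_mono b (le_iSup (fun i : s => J i) i))
  have htop : ⨆ i, K i = ⊤ := by
    refine top_unique (Groth.Agent.ModPairLib.Divide.le_of_mul_le_mul hE ?_)
    have e1 : E = ⨆ i : s, (J i).comap b :=
      (Scheme.IdealSheafData.map_gc b).l_iSup
    have e2 : ∀ i : s, (J i).comap b ≤ (⨆ i, K i) * E := fun i =>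
      (hK i).ge.trans (Groth.Agent.ModPairLib.Divide.mul_mono (le_iSup K i) le_rfl)
    calc ⊤ * E ≤ E := by
          rw [mul_comm]; exact Groth.Agent.ModPairLib.Divide.mul_le_left E ⊤
      _ ≤ (⨆ i, K i) * E := e1.le.trans (iSup_le e2)
  have : IsProper b := Groth.Agent.BlowUpProper.Basic.isProper_of_fg hb fun x => by
    obtain ⟨_, ⟨T, hT, rfl⟩, hxT, -⟩ := S.isBasis_affineOpens.exists_subset_of_mem_open
      (a := x) (Set.mem_univ x) isOpen_univ
    exact ⟨⟨T, hT⟩, hxT, hFft _⟩
  let W : s → Y.Opens := fun i => (K i).support.compl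
  refine ⟨F, Y, b, Σ i : s, {T : Y.affineOpens // T.1 ≤ W i}, fun k => k.2.1.1,
    ⟨hFft, hdisj⟩, hb, hIb, fun k => k.2.1.2.isCompact, top_unique fun y _ => ?_, fun k => ⟨k.1, ?_⟩⟩
  · have hy : ∃ i, y ∈ W i := by
      by_contra hne
      simp only [not_exists] at hne
      have h1 : y ∈ (⨆ i, K i).support := by
        rw [Scheme.IdealSheafData.support_iSup]
        simp only [← SetLike.mem_coe, Closeds.coe_iInf, Set.mem_iInter]
        exact fun i => not_not.1 (hne i)
      rw [htop, Scheme.IdealSheafData.support_top] at h1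
      exact h1.elim
    obtain ⟨i, hi⟩ := hy
    obtain ⟨T, hyT, hTW⟩ := Groth.Agent.IdealSh.Comap.exists_affine_le y (W i) hi
    exact Opens.mem_iSup.2 ⟨⟨i, T, hTW⟩, hyT⟩
  · intro y hy
    by_contra hne
    have h1 : y ∈ ((J k.1).comap b).support := by
      rw [Scheme.IdealSheafData.support_comap]
      show b y ∈ ((J k.1).support : Set S)
      rw [hJs]
      exact hne
    rw [← hK k.1, Scheme.IdealSheafData.support_mul] at h1
    rcases h1 with h1 | h1
    · exact k.2.2 hy.1 h1
    · simp only [E, Scheme.IdealSheafData.support_comap] at h1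
      exact Set.disjoint_left.1 hdisj₀ h1 hy.2

end Groth.Agent.S19336
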