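import Groth.Statements.S19338
-- import your own Groth.Agent.* helpers here

set_option autoImplicit false
universe w v u
open CategoryTheory
open ModPair

namespace Groth.Agent.S19338

/-- Let C be a category and S a class of morphisms which contains the identities, is closed under
composition, admits a right calculus of fractions, and consists of monomorphisms. Then the sieves
containing a morphism of S are the covering sieves of a Grothendieck topology on C, and for every
such topology J a presheaf of types F on C is a J-sheaf if and only if it is S-local, i.e. F sends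
every morphism of S to a bijection. -/
theorem result {C : Type u} [Category.{v} C]
    (S : MorphismProperty C) [S.HasRightCalculusOfFractions]
    (hmono : ∀ ⦃X Y : C⦄ (s : X ⟶ Y), S s → Mono s) :
    (∃ J : GrothendieckTopology C, ∀ (X : C) (T : Sieve X),
        T ∈ J X ↔ ∃ (Y : C) (s : Y ⟶ X), S s ∧ T s) ∧
      ∀ J : GrothendieckTopology C, (∀ (X : C) (T : Sieve X),
          T ∈ J X ↔ ∃ (Y : C) (s : Y ⟶ X), S s ∧ T s) →
        ∀ F : Cᵒᵖ ⥤ Type w,
          Presheaf.IsSheaf J F ↔ ∀ ⦃X Y : C⦄ (s : X ⟶ Y), S s → IsIso (F.map s.op) := by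
  classical
  have key : ∀ (X : C) (T : Sieve X) (Y : C) (s : Y ⟶ X), S s → T s → ∀ (Z : C) (f : Z ⟶ X),
      ∃ (W : C) (t : W ⟶ Z) (g : W ⟶ Y), S t ∧ t ≫ f = g ≫ s ∧ T.pullback f t := by
    intro X T Y s hs hTs Z f
    obtain ⟨ψ, hψ⟩ := (MorphismProperty.LeftFraction.mk f s hs).exists_rightFraction
    simp only at hψ
    refine ⟨ψ.X', ψ.s, ψ.f, ψ.hs, hψ, ?_⟩
    show T (ψ.s ≫ f)
    rw [hψ]
    exact T.downward_closed hTs ψ.f
  refine ⟨⟨{ sieves := fun X => {T | ∃ (Y : C) (s : Y ⟶ X), S s ∧ T s}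
             top_mem' := fun X => ⟨X, 𝟙 X, S.id_mem X, trivial⟩
             pullback_stable' := ?_
             transitive' := ?_ }, fun X T => Iff.rfl⟩, ?_⟩
  · rintro X Z T f ⟨Y, s, hs, hTs⟩
    obtain ⟨W, t, g, ht, -, hT⟩ := key X T Y s hs hTs Z f
    exact ⟨W, t, ht, hT⟩
  · rintro X T ⟨Y, s, hs, hTs⟩ R hR
    obtain ⟨W, t, ht, hRt⟩ := hR hTs
    exact ⟨W, t ≫ s, S.comp_mem _ _ ht hs, hRt⟩
  intro J hJ F
  rw [isSheaf_iff_isSheaf_of_type]
  constructor
  · intro hF X Y s hs
    have hcov : Sieve.generate (Presieve.singleton s) ∈ J Y :=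
      (hJ _ _).2 ⟨X, s, hs, Sieve.le_generate (Presieve.singleton s) _ _ (Presieve.singleton_self s)⟩
    have hsh := (Presieve.isSheafFor_iff_generate _).2 (hF _ hcov)
    have := hmono s hs
    rw [isIso_iff_bijective]
    constructor
    · intro a b hab
      refine hsh.isSeparatedFor.ext ?_
      rintro _ _ ⟨⟩
      exact hab
    · intro y
      have hcomp : Presieve.FamilyOfElements.Compatible
          (fun Z (f : Z ⟶ Y) (hf : Presieve.singleton s f) => by
            cases hf; exact y : Presieve.FamilyOfElements F (Presieve.singleton s)) := by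
        intro Y₁ Y₂ Z g₁ g₂ f₁ f₂ h₁ h₂ hg
        cases h₁
        cases h₂
        rw [cancel_mono] at hg
        rw [hg]
      refine ⟨hsh.amalgamate _ hcomp, ?_⟩
      exact hsh.valid_glue hcomp s (Presieve.singleton_self s)
  · intro hS X T hT x hx
    obtain ⟨Y, s, hs, hTs⟩ := (hJ _ _).1 hT
    have hsb := (isIso_iff_bijective _).1 (hS s hs)
    obtain ⟨t, ht⟩ := hsb.2 (x s hTs)
    refine ⟨t, fun Z f hf => ?_, fun t' ht' => hsb.1 ((ht' s hTs).trans ht.symm)⟩
    obtain ⟨W, r, g, hr, hw, -⟩ := key X T Y s hs hTs Z f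
    have hrb := (isIso_iff_bijective _).1 (hS r hr)
    apply hrb.1
    have h2 := hx g r hTs hf (hw.symm)
    rw [← h2, ← ht]
    simp only [← FunctorToTypes.map_comp_apply, ← op_comp, hw]

end Groth.Agent.S19338
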