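import Groth.Statements.S19339
import Mathlib
import Groth.Agent.S1375
import Groth.Agent.S1353
-- import your own Groth.Agent.* helpers here

set_option autoImplicit false
set_option linter.style.haveILetI false
universe u
open CategoryTheory CategoryTheory.Limits AlgebraicGeometry TopologicalSpace
open ModPair

namespace Groth.Agent.S19339

set_option backward.isDefEq.respectTransparency.types false in
open AlgebraicGeometry CategoryTheory Limits in
/-- Near a point in the image of an fppf morphism there are an elementary etale neighbourhood and a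
finite flat cover of it factoring through the morphism. -/
theorem exists_nbhd {Y X : Scheme.{u}} (w : Y ⟶ X) [Flat w] [LocallyOfFinitePresentation w]
    (y : Y) :
    ∃ (U V : Scheme.{u}) (g : U ⟶ X) (v : V ⟶ U), Etale g ∧
      (∃ u : U, g.base u = w y ∧ IsIso (g.residueFieldMap u)) ∧
      (IsFinite v ∧ Flat v ∧ Surjective v) ∧ ∃ r : V ⟶ Y, r ≫ w = v ≫ g := by
  classical
  let O : X.Opens := ⟨Set.range w, w.isOpenMap.isOpen_range⟩
  have hO : w ⁻¹ᵁ O = ⊤ := TopologicalSpace.Opens.ext (Set.eq_univ_of_forall fun z => ⟨z, rfl⟩)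
  let w' := w ∣_ O
  haveI : Surjective w' := ⟨fun o => by
    obtain ⟨z, hz⟩ := (show o.1 ∈ Set.range w from o.2)
    refine ⟨⟨z, show z ∈ w ⁻¹ᵁ O from ⟨z, rfl⟩⟩, Subtype.ext ?_⟩
    exact (morphismRestrict_base_coe w O _).trans hz⟩
  obtain ⟨U₀, hU₀, hy, -⟩ := exists_isAffineOpen_mem_and_subset
    (show (⟨w y, y, rfl⟩ : O.toScheme) ∈ (⊤ : O.toScheme.Opens) from trivial)
  obtain ⟨T, π, r, -, _, _, _, _, hr⟩ := S1375.exists_affine_refinement w' U₀ hU₀
  let f : T ⟶ X := π ≫ U₀.ι ≫ O.ι
  obtain ⟨t, ht⟩ := π.surjective ⟨_, hy⟩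
  have hft : f t = w y := by
    show (π ≫ U₀.ι ≫ O.ι) t = _
    rw [Scheme.Hom.comp_apply, ht]
    rfl
  obtain ⟨U, g, u, hn, W, z, hzW, hfin, hzu, -, -, -⟩ :=
    S1353.result f t (f.quasiFiniteAt t)
  haveI := hn.etale
  haveI := hfin
  let v₀ := W.ι ≫ pullback.snd f g
  haveI : Flat v₀ := inferInstance
  haveI : LocallyOfFinitePresentation v₀ := inferInstance
  let U' : U.Opens := ⟨Set.range v₀, v₀.isOpenMap.isOpen_range⟩
  let v := v₀ ∣_ U'
  haveI : Surjective v := ⟨fun a => by
    obtain ⟨x, hx⟩ := (show a.1 ∈ Set.range v₀ from a.2)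
    exact ⟨⟨x, show v₀ x ∈ U' from ⟨x, rfl⟩⟩, Subtype.ext ((morphismRestrict_base_coe v₀ U' _).trans hx)⟩⟩
  haveI : IsFinite v := MorphismProperty.of_isPullback (isPullback_morphismRestrict v₀ U').flip ‹_›
  haveI : Flat v := MorphismProperty.of_isPullback (isPullback_morphismRestrict v₀ U').flip ‹_›
  have hu : u ∈ U' := ⟨⟨z, hzW⟩, hzu⟩
  refine ⟨U'.toScheme, _, U'.ι ≫ g, v, inferInstance, ⟨⟨u, hu⟩, ?_, ?_⟩,
    ⟨inferInstance, inferInstance, inferInstance⟩,
    (v₀ ⁻¹ᵁ U').ι ≫ W.ι ≫ pullback.fst f g ≫ r ≫ (w ⁻¹ᵁ O).ι, ?_⟩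
  · show g u = w y
    rw [show g u = f t from hn.base_eq, hft]
  · rw [Scheme.residueFieldMap_comp]
    have h1 : IsIso (g.residueFieldMap (U'.ι (⟨u, hu⟩ : U'.toScheme))) :=
      (ConcreteCategory.isIso_iff_bijective _).mpr hn.residue_bijective
    haveI : IsIso (U'.ι.residueFieldMap (⟨u, hu⟩ : U'.toScheme)) := inferInstance
    exact @IsIso.comp_isIso _ _ _ _ _ _ _ h1 this
  · simp only [Category.assoc]
    rw [← morphismRestrict_ι, reassoc_of% hr, morphismRestrict_ι_assoc]
    show (v₀ ⁻¹ᵁ U').ι ≫ W.ι ≫ pullback.fst f g ≫ f = _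
    rw [pullback.condition]
    simp only [v₀, Category.assoc]

/-- Let X be a scheme and (w_j : W_j ⟶ X) an fppf covering, i.e. a jointly surjective family of
morphisms each of which is flat and of finite presentation (locally of finite presentation,
quasi-compact and quasi-separated). Then it is refined by a family of composites V_k ⟶ U_k ⟶ X in
which the u_k : U_k ⟶ X are étale morphisms such that every point of X is the image of a point of
some U_k with trivial residue field extension, and the v_k : V_k ⟶ U_k are finite, flat and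
surjective: each composite v_k ≫ u_k factors through some w_j. (The covering condition on the family
(u_k) is stated here pointwise, every point lifting to some U_k with the same residue field; a
Nisnevich covering in the stronger sense with members of finite presentation and a finite splitting
stratification is not asserted.) -/
theorem result {X : Scheme.{u}}
    {ι : Type u} (W : ι → Scheme.{u}) (w : ∀ j, W j ⟶ X)
    (hw : Presieve.ofArrows W w ∈
      Scheme.precoverage (@Flat ⊓ @LocallyOfFinitePresentation ⊓ @QuasiCompact ⊓ @QuasiSeparated) X) :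
    ∃ (κ : Type u) (U V : κ → Scheme.{u}) (u : ∀ k, U k ⟶ X) (v : ∀ k, V k ⟶ U k),
      (∀ k, Etale (u k)) ∧
        (∀ x : X, ∃ (k : κ) (y : U k), (u k).base y = x ∧ IsIso ((u k).residueFieldMap y)) ∧
        (∀ k, IsFinite (v k) ∧ Flat (v k) ∧ Surjective (v k)) ∧
        ∀ k, ∃ (j : ι) (r : V k ⟶ W j), r ≫ w j = v k ≫ u k := by
  rw [Scheme.ofArrows_mem_precoverage_iff] at hw
  obtain ⟨hcov, hP⟩ := hw
  choose j y hy using hcov
  have key : ∀ x : X, ∃ (U V : Scheme.{u}) (g : U ⟶ X) (v : V ⟶ U), Etale g ∧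
      (∃ u : U, g.base u = x ∧ IsIso (g.residueFieldMap u)) ∧
      (IsFinite v ∧ Flat v ∧ Surjective v) ∧ ∃ r : V ⟶ W (j x), r ≫ w (j x) = v ≫ g := by
    intro x
    obtain ⟨⟨⟨hfl, hfp⟩, -⟩, -⟩ := hP (j x)
    haveI := hfl
    haveI := hfp
    have := exists_nbhd (w (j x)) (y x)
    rwa [hy x] at this
  choose U V g v hg hu hv r hr using key
  exact ⟨X, U, V, g, v, hg, fun x => ⟨x, hu x⟩, hv, fun x => ⟨j x, r x, hr x⟩⟩

end Groth.Agent.S19339
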