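import Groth.Statements.S1934
import Groth.Agent.GrpdLib.EtPart.Main
-- import your own Groth.Agent.* helpers here

set_option autoImplicit false
set_option backward.isDefEq.respectTransparency.types false
universe u
open CategoryTheory CategoryTheory.Limits AlgebraicGeometry
open Grpd

namespace Groth.Agent.S1934

/-- Let (U, R, s, t, c) be a groupoid scheme over S, p ∈ S and u ∈ U over p, with U → S locally of
finite type, quasi-finite at u (u is isolated in its fibre) and separated, R → S separated, s and t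
flat and locally of finite presentation, and s⁻¹{u} finite. Then there are an étale neighbourhood g
: (S', p') → (S, p) inducing an isomorphism on residue fields and open-and-closed subsets U' ⊆
U_{S'} = U ×_S S', R' ⊆ R_{S'} such that: some point u' of U' lies over u and over p'; for such u'
the fibre of U' over p' is t'(s'⁻¹{u'}) and the fibre of R' over p' is s'⁻¹ of the fibre of U'; U'
and R' are finite over S'; and s', t' (the base changes of s, t) map R' into U'. (Parts (f), (g) —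
closure of R' under composition, so that (U', R') is a groupoid scheme — are not restated.) (A
groupoid scheme carries U, R, s, t, c, e, i over S with the groupoid axioms on T-points; 'finite
locally free' is finite, flat and locally of finite presentation; C ⊂ Γ(U) is the ring of functions
a with s♯(a) = t♯(a) and M = Spec C.) -/
theorem result (S : Scheme.{u}) (G : Grpd.GroupoidScheme S) (p : S) (u : G.U) (hu : G.pU u = p) [LocallyOfFiniteType G.pU] [IsSeparated G.pU] [IsSeparated G.pR] [Flat G.s] [LocallyOfFinitePresentation G.s] [Flat G.t] [LocallyOfFinitePresentation G.t] (hqf : ∃ V : G.U.Opens, u ∈ V ∧ ∀ x ∈ V, G.pU x = p → x = u) (hfin : (⇑G.s ⁻¹' {u}).Finite) : ∃ (S' : Scheme.{u}) (g : S' ⟶ S) (p' : S') (_ : Hens2.IsEtaleNbhd g p' p) (U' : (pullback G.pU g).Opens) (R' : (pullback G.pR g).Opens), IsClosed (U' : Set ↥(pullback G.pU g)) ∧ IsClosed (R' : Set ↥(pullback G.pR g)) ∧ (∃ u' : ↥(pullback G.pU g), u' ∈ U' ∧ pullback.fst G.pU g u' = u ∧ pullback.snd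 G.pU g u' = p') ∧ (∀ u' : ↥(pullback G.pU g), u' ∈ U' → pullback.fst G.pU g u' = u → pullback.snd G.pU g u' = p' → {x : ↥(pullback G.pU g) | x ∈ U' ∧ pullback.snd G.pU g x = p'} = ⇑(pullback.map G.pR g G.pU g G.t (𝟙 S') (𝟙 S) ((Category.comp_id _).trans G.t_over.symm) ((Category.comp_id _).trans (Category.id_comp _).symm)) '' (⇑(pullback.map G.pR g G.pU g G.s (𝟙 S') (𝟙 S) ((Category.comp_id _).trans G.s_over.symm) ((Category.comp_id _).trans (Category.id_comp _).symm)) ⁻¹' {u'})) ∧ {r : ↥(pullback G.pR g) | r ∈ R' ∧ pullback.snd G.pR g r = p'} = ⇑(pullback.map G.pR g G.pU g G.s (𝟙 S') (𝟙 S) ((Category.comp_id _).trans G.s_over.symm) ((Category.comp_id _).trans (Category.id_comp _).symm)) ⁻¹' {x | x ∈ U' ∧ pullback.snd G.pU g x = p'} ∧ IsFinite (U'.ι ≫ pullback.snd G.pU g) ∧ IsFinite (R'.ι ≫ pullback.snd G.pR g) ∧ ⇑(pullback.map G.pR g G.pU g G.s (𝟙 S') (𝟙 S) ((Category.comp_id _).trans G.s_over.symm) ((Category.comp_id _).trans (Category.id_comp _).symm)) '' (R'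 : Set ↥(pullback G.pR g)) ⊆ U' ∧ ⇑(pullback.map G.pR g G.pU g G.t (𝟙 S') (𝟙 S) ((Category.comp_id _).trans G.t_over.symm) ((Category.comp_id _).trans (Category.id_comp _).symm)) '' (R' : Set ↥(pullback G.pR g)) ⊆ U' := by
  obtain ⟨V, huV, hV⟩ := hqf
  have hq : G.pU.QuasiFiniteAt u :=
    (GrpdLib.EtPart.quasiFiniteAt_iff G.pU u).2 ⟨V, huV, fun y hy e => hV y hy (e.trans hu)⟩
  obtain ⟨S', g, p', hn, U', R', hU, hR, hs, ht, hfull⟩ :=
    GrpdLib.EtPart.exists_finite_part G hu hq hfin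
  obtain ⟨u₀, ⟨hu₁, hu₂, -⟩, -⟩ :=
    Wt.EtNbhd.existsUnique_lift G.pU g u p' (hu.trans hn.base_eq.symm) hn.residue_bijective
  refine ⟨S', g, p', hn, U', R', hU.closed, hR.closed,
    ⟨u₀, (hU.mem _ hu₂).2 ⟨G.e u, GrpdLib.s_e_apply G u, (GrpdLib.t_e_apply G u).trans hu₁.symm⟩, hu₁, hu₂⟩,
    fun u' _ h₁ h₂ => GrpdLib.EtPart.fibre_eq G g hu hn hU u' h₁ h₂, ?_, hU.finite, hR.finite,
    Set.image_subset_iff.2 hs, Set.image_subset_iff.2 ht⟩
  ext x
  refine ⟨fun ⟨hx, hxp⟩ => ?_, fun ⟨hx, hxp⟩ => ?_⟩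
  · refine ⟨hs x hx, ?_⟩
    exact (GrpdLib.EtPart.sBC_snd G g x).trans hxp
  · have hxp' : pullback.snd G.pR g x = p' := (GrpdLib.EtPart.sBC_snd G g x).symm.trans hxp
    refine ⟨(hR.mem _ hxp').2 ?_, hxp'⟩
    show G.s (pullback.fst G.pR g x) ∈ GrpdLib.EtPart.orbit G u
    rw [← GrpdLib.EtPart.sBC_fst]
    exact (hU.mem _ hxp).1 hx

end Groth.Agent.S1934
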