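import Groth.Statements.S19340
import Mathlib.CategoryTheory.Filtered.Basic
import Mathlib.CategoryTheory.Localization.CalculusOfFractions
-- import your own Groth.Agent.* helpers here

set_option autoImplicit false
universe v v' u u'
open CategoryTheory
open ModPair

namespace Groth.Agent.S19340

/-- Let C be a category, S a class of morphisms of C containing the identities, closed under composition
and admitting a right calculus of fractions, and L : C ⥤ D a localization functor for S. Then for
every object X of C the comma category of L under X, whose objects are pairs (Y, L(X) ⟶ L(Y)) and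
whose morphisms are morphisms Y ⟶ Y' of C compatible with the structure maps, is cofiltered. The
published statement calls this category filtered; its proof verifies, and this row states,
cofilteredness. -/
theorem result {C : Type u}
    [Category.{v} C] {D : Type u'} [Category.{v'} D] (S : MorphismProperty C)
    [S.HasRightCalculusOfFractions] (L : C ⥤ D) [L.IsLocalization S] (X : C) :
    IsCofiltered (StructuredArrow (L.obj X) L) := by
  have : Nonempty (StructuredArrow (L.obj X) L) := ⟨StructuredArrow.mk (𝟙 (L.obj X))⟩
  suffices IsCofilteredOrEmpty (StructuredArrow (L.obj X) L) from { nonempty := by assumption }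
  refine { cone_objs := ?_, cone_maps := ?_ }
  · intro a b
    obtain ⟨φ₁, hφ₁⟩ := Localization.exists_rightFraction L S a.hom
    obtain ⟨φ₂, hφ₂⟩ := Localization.exists_rightFraction L S b.hom
    obtain ⟨ψ, hψ⟩ := (MorphismProperty.LeftFraction.mk φ₁.s φ₂.s φ₂.hs).exists_rightFraction
    simp only at hψ
    have : IsIso (L.map φ₁.s) := Localization.inverts L S _ φ₁.hs
    have : IsIso (L.map φ₂.s) := Localization.inverts L S _ φ₂.hs
    have : IsIso (L.map ψ.s) := Localization.inverts L S _ ψ.hs
    have hcomp : IsIso (L.map (ψ.s ≫ φ₁.s)) := Localization.inverts L S _ (S.comp_mem _ _ ψ.hs φ₁.hs)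
    refine ⟨StructuredArrow.mk (inv (L.map (ψ.s ≫ φ₁.s))),
      StructuredArrow.homMk (ψ.s ≫ φ₁.f) ?_, StructuredArrow.homMk (ψ.f ≫ φ₂.f) ?_, trivial⟩
    · simp only [StructuredArrow.mk_hom_eq_self, IsIso.inv_comp_eq]
      simp only [hφ₁, Functor.map_comp, Category.assoc,
        MorphismProperty.RightFraction.map_s_comp_map]
    · simp only [StructuredArrow.mk_hom_eq_self, IsIso.inv_comp_eq]
      simp only [hφ₂, hψ, Functor.map_comp, Category.assoc,
        MorphismProperty.RightFraction.map_s_comp_map]
  · intro a b f g
    obtain ⟨φ, hφ⟩ := Localization.exists_rightFraction L S a.hom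
    have : IsIso (L.map φ.s) := Localization.inverts L S _ φ.hs
    have hfa : L.map φ.f = L.map φ.s ≫ a.hom := by
      rw [hφ, MorphismProperty.RightFraction.map_s_comp_map]
    obtain ⟨Z, t, ht, heq⟩ := (MorphismProperty.map_eq_iff_precomp L S (φ.f ≫ f.right)
      (φ.f ≫ g.right)).1 (by
      rw [Functor.map_comp, Functor.map_comp, hfa, Category.assoc, Category.assoc,
        StructuredArrow.w f, StructuredArrow.w g])
    have : IsIso (L.map (t ≫ φ.s)) := Localization.inverts L S _ (S.comp_mem _ _ ht φ.hs)
    refine ⟨StructuredArrow.mk (inv (L.map (t ≫ φ.s))), StructuredArrow.homMk (t ≫ φ.f) ?_, ?_⟩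
    · simp only [StructuredArrow.mk_hom_eq_self, IsIso.inv_comp_eq]
      simp only [Functor.map_comp, hfa, Category.assoc]
    · ext
      simpa using heq

end Groth.Agent.S19340
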