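import Groth.Statements.S19343
import Groth.Agent.ModPairLib.SemiVal.Etale
-- import your own Groth.Agent.* helpers here

set_option autoImplicit false
universe u
open CategoryTheory CategoryTheory.Limits AlgebraicGeometry TopologicalSpace
open ModPair

namespace Groth.Agent.S19343

open Groth.Agent.ModPairLib.SemiVal.Pair Groth.Agent.ModPairLib.SemiVal.Etale
/-- Let P be a modulus pair (a scheme P̄ with the quasi-coherent ideal sheaf of an effective Cartier
divisor) whose total space P̄ is quasi-compact and quasi-separated. Then P is local both for étale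
coverings of modulus pairs (for every pair X, every jointly surjective family of minimal morphisms
U_i ⟶ X whose underlying morphisms are étale, quasi-compact and quasi-separated, and every morphism
of pairs P ⟶ X, the latter factors through some U_i) and for abstract admissible blow-ups (every P ⟶
X lifts along every abstract admissible blow-up Q ⟶ X) if and only if (1) P̄ is affine and A = Γ(P̄)
is a strictly henselian local ring, (2) the interior P° is affine and its ring of global sections is
a henselian local ring, and, writing p for the closed point of P° and 𝔮 ⊂ A for its prime ideal, (3)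
A/𝔮 is a valuation ring which is strictly henselian and (4) the localisation map sends 𝔮 bijectively
onto the maximal ideal of A_𝔮, i.e. A = A/𝔮 ×_{k(𝔮)} A_𝔮 and P̄ is the gluing of the closure of p to
P° along p. The published statement allows any modulus pair P; this row assumes the total space P̄
quasi-compact and quasi-separated. -/
theorem result (P : ModPair.Pair.{u})
    [CompactSpace P.total] [QuasiSeparatedSpace P.total] :
    ((∀ (X : ModPair.Pair.{u}) (ι : Type u) (U : ι → ModPair.Pair.{u}) (v : ∀ i, U i ⟶ X),
        (∀ i, ModPair.IsMinimal (U i).mod X.mod (v i).hom ∧ Etale (v i).hom ∧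
          QuasiCompact (v i).hom ∧ QuasiSeparated (v i).hom) →
        (∀ x : X.total, ∃ (i : ι) (y : (U i).total), (v i).hom.base y = x) →
        ∀ g : P ⟶ X, ∃ (i : ι) (h : P ⟶ U i), h ≫ v i = g) ∧
      (∀ (Q X : ModPair.Pair.{u}) (q : Q ⟶ X), ModPair.Pair.admBlowup q →
        ∀ g : P ⟶ X, ∃ h : P ⟶ Q, h ≫ q = g)) ↔
    (IsAffine P.total ∧ EtCoh.IsStrictlyHenselianLocalRing Γ(P.total, ⊤) ∧
      IsAffine (ModPair.interior P.mod : Scheme.{u}) ∧
      HenselianLocalRing Γ((ModPair.interior P.mod : Scheme.{u}), ⊤) ∧
      ∀ p : (ModPair.interior P.mod : Scheme.{u}),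
        IsClosed ({p} : Set (ModPair.interior P.mod : Scheme.{u})) →
          ValuationRing (Γ(P.total, ⊤) ⧸ (P.total.toSpecΓ.base ((ModPair.interior P.mod).ι.base p)).asIdeal) ∧
          EtCoh.IsStrictlyHenselianLocalRing (Γ(P.total, ⊤) ⧸ (P.total.toSpecΓ.base ((ModPair.interior P.mod).ι.base p)).asIdeal) ∧
          Set.BijOn (algebraMap Γ(P.total, ⊤) (Localization.AtPrime (P.total.toSpecΓ.base ((ModPair.interior P.mod).ι.base p)).asIdeal))
            ((P.total.toSpecΓ.base ((ModPair.interior P.mod).ι.base p)).asIdeal : Set Γ(P.total, ⊤))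
            (IsLocalRing.maximalIdeal (Localization.AtPrime (P.total.toSpecΓ.base ((ModPair.interior P.mod).ι.base p)).asIdeal) :
              Set (Localization.AtPrime (P.total.toSpecΓ.base ((ModPair.interior P.mod).ι.base p)).asIdeal))) := by
  constructor
  · rintro ⟨hE, hB⟩
    obtain ⟨haff, hloc⟩ := affine_local_of_zar P fun ι U v hv hs =>
      hE P ι U v (fun i => ⟨(hv i).1, (by have := (hv i).2.1; infer_instance), (hv i).2.2,
        (by have := (hv i).2.1; infer_instance)⟩) hs (𝟙 P)
    have hA := strictlyHenselian_of_local P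
      (hasEtaleRetractions P fun ι U v hv hs => hE P ι U v hv hs (𝟙 P))
    obtain ⟨a, ha, -, hint⟩ := exists_equation P
    have hsv := semiVal_of_blowLocal P (fun Q q hq => hB Q P q hq (𝟙 P)) ha hint
    obtain ⟨-, h2⟩ := (semiVal_iff ha hint).1 hsv
    exact ⟨haff, hA, isAffine_interior hint, henselian_interior hA ha hint hsv,
      fun p hp => ⟨(h2 p hp).1, strictlyHenselian_quotient hA _, (h2 p hp).2⟩⟩
  · rintro ⟨haff, hA, -, hI, h2⟩
    obtain ⟨hh, -⟩ := id hA
    have : IsLocalRing Γ(P.total, ⊤) := inferInstance
    obtain ⟨a, ha, -, hint⟩ := exists_equation P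
    refine ⟨fun X ι U v hv hs g => ?_, fun Q X q hq g => blowLocal_of_semiVal ha hint
      ((semiVal_iff ha hint).2 ⟨inferInstance, fun p hp => ⟨(h2 p hp).1, (h2 p hp).2.2⟩⟩) Q q hq g⟩
    obtain ⟨i, h, e⟩ := exists_lift_etale hA (fun i => (v i).hom) (fun i => (hv i).2.1)
      (fun x => let ⟨i, y, hy⟩ := hs x; ⟨i, y, hy⟩) g.hom
    exact ⟨i, exists_hom_of_minimal (hv i).1 g h e⟩

end Groth.Agent.S19343
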