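import Groth.Statements.S19344
import Groth.Agent.ModPairLib.SemiVal.Fppf
-- import your own Groth.Agent.* helpers here

set_option autoImplicit false
universe u
open CategoryTheory CategoryTheory.Limits AlgebraicGeometry TopologicalSpace
open ModPair

namespace Groth.Agent.S19344

open Groth.Agent.ModPairLib.SemiVal.Pair Groth.Agent.ModPairLib.SemiVal.AIC Groth.Agent.ModPairLib.SemiVal.Fppf
/-- Let P be a modulus pair (a scheme P̄ with the quasi-coherent ideal sheaf of an effective Cartier
divisor) whose total space P̄ is quasi-compact and quasi-separated. Call a scheme T fppf-local when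
for every scheme X, every jointly surjective family of morphisms to X that are flat and of finite
presentation (locally of finite presentation, quasi-compact, quasi-separated) and every T ⟶ X, the
latter factors through a member of the family. Then P is local both for fppf coverings of modulus
pairs (families of minimal morphisms U_i ⟶ X whose underlying morphisms form such a family, with the
same factorisation property for morphisms of pairs P ⟶ X) and for abstract admissible blow-ups
(every P ⟶ X lifts along every abstract admissible blow-up Q ⟶ X) if and only if (1) P̄ is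
fppf-local, (2) the interior P° is fppf-local, (3) P° is affine with local ring of global sections
and, writing p for its closed point and 𝔮 ⊂ A = Γ(P̄) for the prime ideal of p, the ring A/𝔮 is a
valuation ring with algebraically closed fraction field, and (4) the localisation map sends 𝔮
bijectively onto the maximal ideal of A_𝔮, i.e. A = A/𝔮 ×_{k(𝔮)} A_𝔮 and P̄ is the gluing of the
closure of p to P° along p. (The affine-local clause in (3) is a consequence of (2) and only serves
to name p.) The published statement allows any modulus pair P; this row assumes the total space P̄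
quasi-compact and quasi-separated. -/
theorem result (P : ModPair.Pair.{u})
    [CompactSpace P.total] [QuasiSeparatedSpace P.total] :
    ((∀ (X : ModPair.Pair.{u}) (ι : Type u) (U : ι → ModPair.Pair.{u}) (v : ∀ i, U i ⟶ X),
        (∀ i, ModPair.IsMinimal (U i).mod X.mod (v i).hom ∧ Flat (v i).hom ∧
          LocallyOfFinitePresentation (v i).hom ∧ QuasiCompact (v i).hom ∧
          QuasiSeparated (v i).hom) →
        (∀ x : X.total, ∃ (i : ι) (y : (U i).total), (v i).hom.base y = x) →
        ∀ g : P ⟶ X, ∃ (i : ι) (h : P ⟶ U i), h ≫ v i = g) ∧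
      (∀ (Q X : ModPair.Pair.{u}) (q : Q ⟶ X), ModPair.Pair.admBlowup q →
        ∀ g : P ⟶ X, ∃ h : P ⟶ Q, h ≫ q = g)) ↔
    ((∀ (X : Scheme.{u}) (R : Presieve X), R ∈ Scheme.precoverage (@Flat ⊓ @LocallyOfFinitePresentation ⊓ @QuasiCompact ⊓ @QuasiSeparated) X →
        ∀ g : P.total ⟶ X, ∃ (Y : Scheme.{u}) (w : Y ⟶ X) (h : P.total ⟶ Y), R w ∧ h ≫ w = g) ∧
      (∀ (X : Scheme.{u}) (R : Presieve X), R ∈ Scheme.precoverage (@Flat ⊓ @LocallyOfFinitePresentation ⊓ @QuasiCompact ⊓ @QuasiSeparated) X →
        ∀ g : (ModPair.interior P.mod : Scheme.{u}) ⟶ X, ∃ (Y : Scheme.{u}) (w : Y ⟶ X) (h : (ModPair.interior P.mod : Scheme.{u}) ⟶ Y), R w ∧ h ≫ w = g) ∧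
      IsAffine (ModPair.interior P.mod : Scheme.{u}) ∧
      IsLocalRing Γ((ModPair.interior P.mod : Scheme.{u}), ⊤) ∧
      ∀ p : (ModPair.interior P.mod : Scheme.{u}),
        IsClosed ({p} : Set (ModPair.interior P.mod : Scheme.{u})) →
          ValuationRing (Γ(P.total, ⊤) ⧸ (P.total.toSpecΓ.base ((ModPair.interior P.mod).ι.base p)).asIdeal) ∧
          IsAlgClosed (FractionRing (Γ(P.total, ⊤) ⧸ (P.total.toSpecΓ.base ((ModPair.interior P.mod).ι.base p)).asIdeal)) ∧
          Set.BijOn (algebraMap Γ(P.total, ⊤) (Localization.AtPrime (P.total.toSpecΓ.base ((ModPair.interior P.mod).ι.base p)).asIdeal))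
            ((P.total.toSpecΓ.base ((ModPair.interior P.mod).ι.base p)).asIdeal : Set Γ(P.total, ⊤))
            (IsLocalRing.maximalIdeal (Localization.AtPrime (P.total.toSpecΓ.base ((ModPair.interior P.mod).ι.base p)).asIdeal) :
              Set (Localization.AtPrime (P.total.toSpecΓ.base ((ModPair.interior P.mod).ι.base p)).asIdeal))) := by
  constructor
  · rintro ⟨hE, hB⟩
    have hP : PairLocal P := fun ι U v hv hs => hE P ι U v hv hs (𝟙 P)
    obtain ⟨haff, hloc⟩ := affine_local_of_zar P fun ι U v hv hs => hP ι U v (fun i => by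
      obtain ⟨h1, h2, h3⟩ := hv i
      exact ⟨h1, inferInstance, inferInstance, h3, inferInstance⟩) hs
    obtain ⟨a, ha, -, hint⟩ := exists_equation P
    have hsv := semiVal_of_blowLocal P (fun Q q hq => hB Q P q hq (𝟙 P)) ha hint
    obtain ⟨hl, h2⟩ := (semiVal_iff ha hint).1 hsv
    exact ⟨total_fppfLocal hP, interior_fppfLocal hP ha hint hsv, isAffine_interior hint, hl,
      fun p hp => ⟨(h2 p hp).1,
        isAlgClosed_fractionRing (isAIC_of_surjective (isAIC hP) _ Ideal.Quotient.mk_surjective),
        (h2 p hp).2⟩⟩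
  · rintro ⟨hT, -, -, hl, h2⟩
    obtain ⟨haff, hloc⟩ := affine_local_of_cover P.total fun ι V hV hcov => by
      obtain ⟨Y, w, h, ⟨i⟩, e⟩ := hT P.total (Presieve.ofArrows (fun i => ((V i) : Scheme.{u}))
        fun i => (V i).ι) ((Scheme.ofArrows_mem_precoverage_iff _).2
          ⟨fun x => let ⟨i, hi⟩ := hcov x; ⟨i, ⟨x, hi⟩, rfl⟩, fun i =>
            ⟨⟨⟨inferInstance, inferInstance⟩, quasiCompact_opens_ι (hV i)⟩, inferInstance⟩⟩) (𝟙 _)
      refine ⟨i, top_unique fun x _ => ?_⟩
      have hx : ((h ≫ (V i).ι) x) = x := by rw [e]; rfl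
      rw [← hx]
      exact (h x).2
    obtain ⟨a, ha, -, hint⟩ := exists_equation P
    refine ⟨fun X ι U v hv hs g => ?_, fun Q X q hq g => blowLocal_of_semiVal ha hint
      ((semiVal_iff ha hint).2 ⟨hl, fun p hp => ⟨(h2 p hp).1, (h2 p hp).2.2⟩⟩) Q q hq g⟩
    obtain ⟨Y, w, h, ⟨i⟩, e⟩ := hT X.total (Presieve.ofArrows _ fun i => (v i).hom)
      ((Scheme.ofArrows_mem_precoverage_iff _).2 ⟨fun x => let ⟨i, y, hy⟩ := hs x; ⟨i, y, hy⟩,
        fun i => ⟨⟨⟨(hv i).2.1, (hv i).2.2.1⟩, (hv i).2.2.2.1⟩, (hv i).2.2.2.2⟩⟩) g.hom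
    exact ⟨i, exists_hom_of_minimal (hv i).1 g h e⟩

end Groth.Agent.S19344
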