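import Groth.Statements.S19345
import Groth.Agent.ModPairLib.SemiVal.Finite
-- import your own Groth.Agent.* helpers here

set_option autoImplicit false
universe u
open CategoryTheory CategoryTheory.Limits AlgebraicGeometry TopologicalSpace
open ModPair

namespace Groth.Agent.S19345

open Groth.Agent.ModPairLib.SemiVal.Pair Groth.Agent.ModPairLib.SemiVal.Finite Groth.Agent.ModPairLib.SemiVal.AIC
/-- Let P be a quasi-separated scheme. Then P is local for Zariski coverings (for every scheme X, every
jointly surjective family of quasi-compact open immersions into X and every morphism P ⟶ X, the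
morphism factors through a member) and for finite coverings (the same for jointly surjective
families of finite morphisms) — which together is locality for the rqfh coverings, the finite
composites of coverings of these two kinds — if and only if P is affine and Γ(P) is a local integral
domain in which every monic polynomial of positive degree has a root, i.e. the spectrum of an
absolutely integrally closed local domain. The published statement allows any scheme P; this row
assumes P quasi-separated. -/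
theorem result (P : Scheme.{u}) [QuasiSeparatedSpace P] :
    ((∀ (X : Scheme.{u}) (R : Presieve X), R ∈ Scheme.precoverage (@IsOpenImmersion ⊓ @QuasiCompact) X →
        ∀ g : P ⟶ X, ∃ (Y : Scheme.{u}) (w : Y ⟶ X) (h : P ⟶ Y), R w ∧ h ≫ w = g) ∧
      (∀ (X : Scheme.{u}) (R : Presieve X), R ∈ Scheme.precoverage @IsFinite X →
        ∀ g : P ⟶ X, ∃ (Y : Scheme.{u}) (w : Y ⟶ X) (h : P ⟶ Y), R w ∧ h ≫ w = g)) ↔
    (IsAffine P ∧ IsLocalRing Γ(P, ⊤) ∧ IsDomain Γ(P, ⊤) ∧ Curves.IsAIC Γ(P, ⊤)) := by
  constructor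
  · rintro ⟨hZ, hF⟩
    obtain ⟨haff, hloc⟩ := affine_local_of_cover P fun ι V hV hcov => by
      obtain ⟨Y, w, h, ⟨i⟩, e⟩ := hZ P (Presieve.ofArrows (fun i => ((V i) : Scheme.{u}))
        fun i => (V i).ι) ((Scheme.ofArrows_mem_precoverage_iff _).2
          ⟨fun x => let ⟨i, hi⟩ := hcov x; ⟨i, ⟨x, hi⟩, rfl⟩,
            fun i => ⟨inferInstanceAs (IsOpenImmersion (V i).ι), quasiCompact_opens_ι (hV i)⟩⟩) (𝟙 P)
      refine ⟨i, top_unique fun x _ => ?_⟩
      have hx : ((h ≫ (V i).ι) x) = x := by rw [e]; rfl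
      rw [← hx]
      exact (h x).2
    obtain ⟨hdom, hA⟩ := domain_aic_of_lift P (by
      obtain ⟨Y, w, h, ⟨p⟩, e⟩ := hF P (Presieve.ofArrows _ fun p : minimalPrimes Γ(P, ⊤) => clI P p.1)
        ((Scheme.ofArrows_mem_precoverage_iff _).2
          ⟨exists_mem_range_clI P, fun p => inferInstance⟩) (𝟙 P)
      exact ⟨p, h, e⟩) (fun F hFm hd => by
      obtain ⟨h1, h2, h3⟩ := rootCover_props P F hFm hd
      obtain ⟨Y, w, h, ⟨_⟩, e⟩ := hF P (Presieve.ofArrows _ fun _ : PUnit.{u + 1} => rootCover P F)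
        ((Scheme.ofArrows_mem_precoverage_iff _).2 ⟨fun x => ⟨PUnit.unit, h3 x⟩, fun _ => h1⟩) (𝟙 P)
      exact ⟨h, e⟩)
    exact ⟨haff, hloc, hdom, hA⟩
  · rintro ⟨haff, hloc, hdom, hA⟩
    refine ⟨fun X R hR g => ?_, fun X R hR g => ?_⟩
    · obtain ⟨ι, Z, f, rfl⟩ := Presieve.exists_eq_ofArrows R
      rw [Scheme.ofArrows_mem_precoverage_iff] at hR
      obtain ⟨hs, hp⟩ := hR
      obtain ⟨m, -, hm⟩ := exists_closed_point P
      obtain ⟨i, y, hy⟩ := hs (g m)
      have := (hp i).1
      have hr : Set.range g ⊆ Set.range (f i) := by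
        rintro _ ⟨z, rfl⟩
        exact ((hm z).map g.continuous).mem_open (f i).isOpenEmbedding.isOpen_range ⟨y, hy⟩
      exact ⟨Z i, f i, _, ⟨i⟩, IsOpenImmersion.lift_fac (f i) g hr⟩
    · obtain ⟨ι, Z, f, rfl⟩ := Presieve.exists_eq_ofArrows R
      rw [Scheme.ofArrows_mem_precoverage_iff] at hR
      obtain ⟨i, h, e⟩ := exists_lift_finite hA f hR.2 hR.1 g
      exact ⟨Z i, f i, h, ⟨i⟩, e⟩

end Groth.Agent.S19345
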