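import Groth.Statements.S19350
import Groth.Agent.S1696
import Groth.Agent.KFlat.LocFree
import Groth.Agent.Props.QProj
import Groth.Agent.QCoh.Exact
import Groth.Agent.PerfTri.Betti
-- import your own Groth.Agent.* helpers here

set_option autoImplicit false
universe u
open RigCh CategoryTheory CategoryTheory.Limits AlgebraicGeometry
set_option linter.style.haveILetI false

namespace Groth.Agent.S19350

open AlgebraicGeometry CategoryTheory in
/-- Let X be a separated scheme of finite type over a field k, I a quasi-coherent ideal sheaf on X, b :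
X' → X a blowing up of X in I and F a finite locally free O_X-module. Then for any strict transform
G of F along b (an epimorphism π from the pullback of F onto G whose kernel consists,
affine-locally, of the sections annihilated by a power of the exceptional ideal), π is an
isomorphism and G is finite locally free. (The published statement asserts only that the strict
transform is locally free. The source assumes k of positive characteristic, which plays no role
here.) -/
theorem result (k : Type u) [Field k]
    (X : Scheme.{u}) (f : X ⟶ Spec (CommRingCat.of k)) [IsSeparated f] [QuasiCompact f] [LocallyOfFiniteType f]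
    (I : X.IdealSheafData) {X' : Scheme.{u}} (b : X' ⟶ X) (hb : BlowUp.IsBlowUp b I)
    (F : X.Modules) (hF : FlatMod.IsFinLocFree F) (G : X'.Modules) (π : (Scheme.Modules.pullback b).obj F ⟶ G)
    (hG : BlowUp.IsStrictTransform b I F G π) : IsIso π ∧ FlatMod.IsFinLocFree G := by
  haveI : F.IsQuasicoherent := Groth.Agent.PerfTri.Betti.isQuasicoherent_of_isFinLocFree hF
  have hflat : ∀ s : ↥X, s ∈ I.support → FlatMod.IsFlatAt F s := fun s _ => by
    haveI := (Groth.Agent.Props.QProj.free_stalk F hF s).1
    exact Module.Flat.of_free
  obtain ⟨-, h0⟩ := Groth.Agent.S1696.result I b hb F inferInstance hflat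
  haveI := hG.1
  haveI : Mono π := by
    let S := ShortComplex.mk (kernel.ι π) π (kernel.condition π)
    refine Preadditive.mono_of_kernel_zero ?_
    refine Scheme.Modules.hom_ext _ _ fun O => ConcreteCategory.hom_ext _ _ fun z => ?_
    change (kernel.ι π).app O z = 0
    let ι := { V : X'.Opens // IsAffineOpen V ∧ V ≤ O }
    refine Groth.Agent.QCoh.eq_zero_of_locally_eq_zero _ (fun V : ι => V.2.2) (fun y hy => ?_) _ fun V => ?_
    · obtain ⟨V, hV, hyV, hVW⟩ := exists_isAffineOpen_mem_and_subset hy
      exact TopologicalSpace.Opens.mem_iSup.2 ⟨⟨V, hV, hVW⟩, hyV⟩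
    · refine (h0 ⟨V.1, V.2.1⟩ _).2 ((hG.2 ⟨V.1, V.2.1⟩ _).1 ?_)
      refine (Groth.Agent.QCoh.app_res π V.2.2 _).trans ?_
      rw [show π.app O ((kernel.ι π).app O z) = 0 from Groth.Agent.QCoh.app_app_eq_zero S O z, map_zero]
  have hiso : IsIso π := isIso_of_mono_of_epi π
  refine ⟨hiso, fun x => ?_⟩
  obtain ⟨U, n, hx, ⟨e⟩⟩ := Groth.Agent.KFlat.LocFree.isFinLocFree_pull b hF x
  exact ⟨U, n, hx, ⟨((Scheme.Modules.restrictFunctor U.ι).mapIso (asIso π)).symm ≪≫ e⟩⟩

end Groth.Agent.S19350
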