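import Groth.Statements.S19351
import Groth.Agent.Nagata.Boundary

set_option backward.isDefEq.respectTransparency false
-- import your own Groth.Agent.* helpers here

set_option autoImplicit false
universe u
open RigCh

namespace Groth.Agent.S19351

open AlgebraicGeometry CategoryTheory in
/-- Let φ : X' → X be a morphism of separated schemes of finite type over a field k. Then there are open
immersions j : X → X̄ and j' : X' → X̄' over k into schemes proper over k, whose complements are
supports of effective Cartier divisors (ideal sheaves locally generated on an affine open by one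
nonzerodivisor), together with a proper k-morphism X̄' → X̄ restricting to φ. (Compactifications in
the source are taken with divisor boundary by a standing convention; the second assertion, about
extending a pseudo-divisor, is not included. The source assumes k of positive characteristic; this
plays no role here.) -/
theorem result (k : Type u) [Field k]
    {X X' : Scheme.{u}} (f : X ⟶ Spec (CommRingCat.of k)) [IsSeparated f] [QuasiCompact f] [LocallyOfFiniteType f]
    (f' : X' ⟶ Spec (CommRingCat.of k)) [IsSeparated f'] [QuasiCompact f'] [LocallyOfFiniteType f']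
    (φ : X' ⟶ X) (hφ : φ ≫ f = f') :
    ∃ (Xb Xb' : Scheme.{u}) (j : X ⟶ Xb) (j' : X' ⟶ Xb') (g : Xb ⟶ Spec (CommRingCat.of k))
      (g' : Xb' ⟶ Spec (CommRingCat.of k)) (ψ : Xb' ⟶ Xb) (E : Xb.IdealSheafData) (E' : Xb'.IdealSheafData),
      IsOpenImmersion j ∧ IsOpenImmersion j' ∧ IsProper g ∧ IsProper g' ∧ j ≫ g = f ∧ j' ≫ g' = f' ∧
      IsProper ψ ∧ ψ ≫ g = g' ∧ j' ≫ ψ = φ ≫ j ∧
      BlowUp.IsEffCartierIdeal E ∧ (E.support : Set Xb) = (Set.range j.base)ᶜ ∧
      BlowUp.IsEffCartierIdeal E' ∧ (E'.support : Set Xb') = (Set.range j'.base)ᶜ := by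
  obtain ⟨Xb, j, g, E, hj, hjc, -, hg, hjg, hE, hEs⟩ := Nagata.exists_compactification_boundary f
  haveI : CompactSpace Xb := QuasiCompact.compactSpace_of_compactSpace g
  haveI : QuasiSeparatedSpace Xb := quasiSeparatedSpace_of_quasiSeparated g
  haveI : IsSeparated ((φ ≫ j) ≫ g) := by rw [Category.assoc, hjg, hφ]; infer_instance
  haveI : IsSeparated (φ ≫ j) := IsSeparated.of_comp (φ ≫ j) g
  haveI : QuasiCompact ((φ ≫ j) ≫ g) := by rw [Category.assoc, hjg, hφ]; infer_instance
  haveI : QuasiCompact (φ ≫ j) := QuasiCompact.of_comp (φ ≫ j) g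
  haveI : LocallyOfFiniteType ((φ ≫ j) ≫ g) := by rw [Category.assoc, hjg, hφ]; infer_instance
  haveI : LocallyOfFiniteType (φ ≫ j) := locallyOfFiniteType_of_comp (φ ≫ j) g
  obtain ⟨Xb', j', ψ, E', hj', -, -, hψ, hjψ, hE', hEs'⟩ :=
    Nagata.exists_compactification_boundary (φ ≫ j)
  exact ⟨Xb, Xb', j, j', g, ψ ≫ g, ψ, E, E', hj, hj', hg, inferInstance, hjg,
    by rw [← Category.assoc, hjψ, Category.assoc, hjg, hφ], hψ, rfl, hjψ, hE, hEs, hE', hEs'⟩

end Groth.Agent.S19351
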