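import Groth.Statements.S19352
import Groth.Agent.HodgeIdx81.Growth
import Groth.Agent.DualAbs.ProjEmbed
import Groth.Agent.DualAbs.CMCrit
import Groth.Agent.S1561
import Groth.Agent.VBLib.RR
import Groth.Agent.EulerChar.Torsion

set_option autoImplicit false
universe u
open CategoryTheory CategoryTheory.Limits AlgebraicGeometry
open Surf

namespace Groth.Agent.S19352

open Groth.Agent.ProjTwist

attribute [local irreducible] Curv2.euler

set_option linter.style.haveILetI false

theorem eq_one_of_le {a : WithBot ℕ∞} (h1 : a ≤ ((1 : ℕ) : WithBot ℕ∞)) (h0 : ¬ a ≤ ((0 : ℕ) : WithBot ℕ∞)) :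
    a = ((1 : ℕ) : WithBot ℕ∞) := by
  rcases lt_or_eq_of_le h1 with h | h
  · exact absurd (Snapper.le_of_lt_succ h) h0
  · exact h

theorem hd_zero_of_subsingleton (k : Type u) [Field k] {X : Scheme.{u}} [X.Over (Spec (CommRingCat.of k))]
    {M : X.Modules} {n : ℕ} (h : Subsingleton (Coh.HH X M n)) : HodgeIdx81.hd k M n = 0 :=
  @Module.finrank_zero_of_subsingleton _ _ _ _ _ _ h

/-- With a section and a nonzero cokernel of dimension one the degree is positive. -/
theorem pr_pos (k : Type u) [Field k] {X : Scheme.{u}} [X.Over (Spec (CommRingCat.of k))]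
    [IsProper (X ↘ Spec (CommRingCat.of k))]
    {M H : X.Modules} (hM : PicF.IsInvertible M) (hH : CohB1.IsAmple H)
    (s : Coh.structureModule X ⟶ M) [Mono s]
    (hQd : topologicalKrullDim ↥(CohB1.support (cokernel s)) = ((1 : ℕ) : WithBot ℕ∞)) :
    0 < HodgeIdx81.pr k M H := by
  haveI := EulerChar.isNoetherian k (X := X)
  have hOc := VBLib.isCoh_of_ofRank (isFinLocFreeOfRank_one (PicLoc.isInvertible_structureModule X))
  have hMc := VBLib.isCoh_of_ofRank (isFinLocFreeOfRank_one hM)
  have hQ : Coh.IsCoh (cokernel s) := CohDev.isCoh_cokernel s hOc.1 hMc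
  have hS := HilbPolyX.shortExact_of_mono s
  have h1 : Curv2.euler k X M = Curv2.euler k X (Coh.structureModule X) + Curv2.euler k X (cokernel s) :=
    EulerChar.euler_add' k s (cokernel.π s) (cokernel.condition s) hS hOc hMc hQ
  have h2 : Curv2.euler k X (CohB1.tensorMod H M) =
      Curv2.euler k X (CohB1.tensorMod H (Coh.structureModule X)) +
        Curv2.euler k X (CohB1.tensorMod H (cokernel s)) := HodgeIdx81.euler_tens_add k (S := ShortComplex.mk s (cokernel.π s) (cokernel.condition s)) hH.1 hS hOc hMc hQ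
  rw [EulerChar.euler_iso k (tensOne H)] at h2
  obtain ⟨H', hH', ⟨e⟩⟩ := PicLaw.exists_inverse hH.1
  have hpos := IntProd70.intE_pos k (L := fun _ : Fin 1 => H) (M := fun _ : Fin 1 => H')
    (fun _ => hH) (fun _ => ⟨e⟩) hQ hQd
  rw [show (fun _ : Fin 1 => H') = Fin.cons H' (fun i : Fin 0 => H') from
      funext fun i => by fin_cases i; rfl,
    Snapper.intE_cons k (fun i => i.elim0) hH' hQ, map_sub,
    Snapper.intK_kcl k (fun i => i.elim0) (Snapper.isCoh_tensorMod k hH' hQ),
    Snapper.intK_kcl k (fun i => i.elim0) hQ, Snapper.intE_zero, Snapper.intE_zero] at hpos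
  have h3 := NumTriv.deg1_tens k hQ hQd.le hH.1 hH'
  rw [NumTriv.deg1_iso k (cokernel s) e, NumTriv.deg1_one, NumTriv.deg1, NumTriv.deg1,
    EulerChar.euler_iso k (tensComm (cokernel s) H), EulerChar.euler_iso k (tensComm (cokernel s) H')] at h3
  rw [HodgeIdx81.pr, EulerChar.euler_iso k (tensComm M H)]
  linarith

/-- Vanishing of the sections of a tensored quotient. -/
theorem hd_zero_tens (k : Type u) [Field k] {X : Scheme.{u}} [X.Over (Spec (CommRingCat.of k))]
    [IsProper (X ↘ Spec (CommRingCat.of k))] {V : X.Modules} (hV : PicF.IsInvertible V)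
    {S : ShortComplex X.Modules} (hS : S.ShortExact) (h₁ : Coh.IsCoh S.X₁) (h₂ : Coh.IsCoh S.X₂)
    (h₃ : Coh.IsCoh S.X₃) (a1 : HodgeIdx81.hd k (CohB1.tensorMod V S.X₁) 1 = 0)
    (a2 : HodgeIdx81.hd k (CohB1.tensorMod V S.X₂) 0 = 0) :
    HodgeIdx81.hd k (CohB1.tensorMod V S.X₃) 0 = 0 := by
  haveI := EulerChar.isNoetherian k (X := X)
  have hV1 := isFinLocFreeOfRank_one hV
  let F := (DCoh.tensorBi (X := X)).obj V
  have hM : (ShortComplex.mk (F.map S.f) (F.map S.g) (by rw [← F.map_comp, S.zero, F.map_zero])).ShortExact :=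
    CohDev.tens_shortExact hV1 hS
  haveI := HodgeIdx81.fin' k (CohDev.isCoh_tens hV1 h₂) 0
  haveI := HodgeIdx81.fin' k (CohDev.isCoh_tens hV1 h₃) 0
  haveI := HodgeIdx81.fin' k (CohDev.isCoh_tens hV1 h₁) 1
  have e : ∀ (A : X.Modules) (j : ℕ), HodgeIdx81.hd k (CohB1.tensorMod V A) j = EulerLES.h k (F.obj A) j :=
    fun A j => HodgeIdx81.hd_iso k (Iso.refl (F.obj A) : CohB1.tensorMod V A ≅ F.obj A) j
  rw [e] at a1 a2
  rw [e]
  have h := EulerLES.finrank_le_of_exact k _ _ (EulerLES.exact_g_δ hM k 0)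
  have a1' : EulerLES.h k (F.obj S.X₁) (0 + 1) = 0 := a1
  dsimp only [EulerLES.h] at a1' a2 h ⊢
  omega

/-- Let k be an algebraically closed field and X a nonsingular projective surface over k, namely an
integral scheme, smooth over k, of dimension two, given with a closed immersion ι into a projective
space P^n_k over k, and let H = ι^* O(1) be the invertible module of a hyperplane section. If L is
an invertible O_X-module (the module of a divisor D) with dim_k H^0(X, L) > 1, then (L·H) > 0. Here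
(A·B) denotes the intersection number of two invertible modules, the alternating sum χ(O_X) − χ(A) −
χ(B) + χ(A ⊗ B) of Euler characteristics (cohomology in degrees at most two); for two invertible
modules this agrees with the same sum formed from their inverses. -/
theorem result (k : Type u) [Field k] [IsAlgClosed k]
    (X : Scheme.{u}) [X.Over (Spec (CommRingCat.of k))] [AlgebraicGeometry.IsIntegral X]
    [Smooth (X ↘ Spec (CommRingCat.of k))] (hdim : topologicalKrullDim X = 2)
    (n : ℕ) (ι : X ⟶ CohB1.ProjSpace n k) [IsClosedImmersion ι]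
    (hι : ι ≫ CohB1.ProjSpace.toSpec n k = X ↘ Spec (CommRingCat.of k))
    (L : X.Modules) (hL : PicF.IsInvertible L)
    (hsec : 1 < Module.finrank k (Coh.HH X L 0)) :
    0 < FGA.intNum k X 2 ![L, (Scheme.Modules.pullback ι).obj (Twist.twistProjSpace n k 1)] (Coh.structureModule X) := by
  haveI : IsProper (X ↘ Spec (CommRingCat.of k)) := by
    haveI := ProjProper.Basic.isProper_toSpec n k
    rw [← hι]
    infer_instance
  haveI := EulerChar.isNoetherian k (X := X)
  have hd : topologicalKrullDim X = ((2 : ℕ) : WithBot ℕ∞) := by rw [hdim]; norm_num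
  have hH : CohB1.IsAmple ((Scheme.Modules.pullback ι).obj (Twist.twistProjSpace n k 1)) :=
    NumTriv.isAmple_oX_one ι
  rw [HodgeIdx81.intNum_eq_pr k hd hL hH.1]
  obtain ⟨c, hc⟩ : ∃ c : Coh.HH X L 0, c ≠ 0 := by
    by_contra hall
    push Not at hall
    haveI : Subsingleton (Coh.HH X L 0) := subsingleton_of_forall_eq 0 hall
    rw [Module.finrank_zero_of_subsingleton] at hsec
    exact absurd hsec (by omega)
  let s := (ShStabLib.BC.secEquiv k L).symm c
  have hs : s ≠ 0 := fun h => hc ((LinearEquiv.map_eq_zero_iff _).1 h)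
  have hO := PicLoc.isInvertible_structureModule X
  have hOc := VBLib.isCoh_of_ofRank (isFinLocFreeOfRank_one hO)
  have hLc := VBLib.isCoh_of_ofRank (isFinLocFreeOfRank_one hL)
  haveI := EulerChar.mono_of_ne_zero hO hL s hs
  have hQ : Coh.IsCoh (cokernel s) := CohDev.isCoh_cokernel s hOc.1 hLc
  have hS := HilbPolyX.shortExact_of_mono s
  have hQ1 : topologicalKrullDim ↥(CohB1.support (cokernel s)) ≤ ((1 : ℕ) : WithBot ℕ∞) :=
    HodgeIdx81.dim_le_of_not_mem (CohDev.isClosed_support hQ)
      (CohDev.not_mem_support_cokernel s (EulerChar.bijective_stalk_generic hO hL s hs).2)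
      (d := 1) hd.le
  refine pr_pos k hL hH s (eq_one_of_le hQ1 fun hQ0 => ?_)
  obtain ⟨hiff, -⟩ := S1561.result k X
  have hreg : ∀ x : X, IsRegularLocalRing (X.presheaf.stalk x) := fun x =>
    (hiff x).1 (by rw [Scheme.Hom.smoothLocus_eq_top]; trivial)
  obtain ⟨q₁, hq₁⟩ := (DualAbs.isFinLocFree_iff_vanish ι hreg hd hOc).1
    (DualAbs.isFinLocFree_structureModule ι)
  obtain ⟨q₂, hq₂⟩ := (DualAbs.isFinLocFree_iff_vanish ι hreg hd hLc).1
    (ProjForm.isFinLocFree_of_isInvertible hL)
  let q := max q₁ q₂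
  let V := DualAbs.pbTwist ι (-(q : ℤ))
  have hV : PicF.IsInvertible V := NumTriv.isInvertible_oX ι _
  have a1 : HodgeIdx81.hd k (CohB1.tensorMod V (Coh.structureModule X)) 1 = 0 := by
    rw [HodgeIdx81.hd_iso k (tensComm V (Coh.structureModule X)) 1]
    exact hd_zero_of_subsingleton k (hq₁ q (le_max_left _ _) 1 one_lt_two)
  have a2 : HodgeIdx81.hd k (CohB1.tensorMod V L) 0 = 0 := by
    rw [HodgeIdx81.hd_iso k (tensComm V L) 0]
    exact hd_zero_of_subsingleton k (hq₂ q (le_max_right _ _) 0 two_pos)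
  have a3 : HodgeIdx81.hd k (CohB1.tensorMod V (cokernel s)) 0 = 0 :=
    hd_zero_tens k hV (S := ShortComplex.mk s (cokernel.π s) (cokernel.condition s)) hS hOc hLc hQ a1 a2
  have hQz : IsZero (cokernel s) := by
    refine EulerChar.isZero_of_euler_eq_zero k hQ hQ0 ?_
    have hVQ := Snapper.isCoh_tensorMod k hV hQ
    have hVQd := (CohDev.dim_mono (CohDev.support_tens_subset V (cokernel s))).trans hQ0
    rw [← NumTriv.euler_tens_dim_zero k hV hQ hQ0, EulerChar.euler_iso k (tensComm (cokernel s) V),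
      EulerChar.euler_eq_finrank_of_support k hVQ hVQd]
    exact_mod_cast a3
  haveI : Epi s := Preadditive.epi_of_isZero_cokernel s hQz
  haveI : IsIso s := isIso_of_mono_of_epi s
  have h1 : HodgeIdx81.hd k L 0 = 1 := by
    rw [← HodgeIdx81.hd_iso k (asIso s) 0]
    exact VBLib.finrank_H0_structure_eq_one VBLib.bijective_toGlobal_of_isAlgClosed
  change 1 < HodgeIdx81.hd k L 0 at hsec
  omega

end Groth.Agent.S19352
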