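import Groth.Statements.S19356
import Groth.Agent.AbVarLib.PosInv

set_option autoImplicit false
universe u
open AbVar

namespace Groth.Agent.S19356

open Groth.Agent.AbVarLib

/-- Let R be a finite-dimensional ℚ-algebra with a ℚ-linear involution x ↦ x† (an anti-automorphism of
order two) and a ℚ-linear functional σ with σ(x x†) > 0 for every x ≠ 0; this is the positivity of
the involution, σ being the trace of R over ℚ in the case of the endomorphism algebra of an abelian
variety with a Rosati involution, and the trace on a cohomology group in the case of an algebra of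
correspondences with the adjoint for a Weil form. Let α ∈ R with α α† = q for a rational number q.
Then α† lies in the subalgebra ℚ[α], and for every ℚ-algebra homomorphism ρ : ℚ[α] → ℂ one has ρ(α†)
= the complex conjugate of ρ(α) and |ρ(α)|² = q. (The published statement is for the endomorphism
algebra of an abelian variety with a Rosati involution, with σ its trace over ℚ and q an integer;
the form given here, for an arbitrary ℚ-linear functional σ positive on every x x† with x ≠ 0 and
rational q, is what its proof establishes.) -/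
theorem result (R : Type u) [Ring R] [Algebra ℚ R]
    [Module.Finite ℚ R] [StarRing R] [StarModule ℚ R]
    (σ : R →ₗ[ℚ] ℚ) (hpos : ∀ x : R, x ≠ 0 → 0 < σ (x * star x))
    (α : R) (q : ℚ) (hα : α * star α = algebraMap ℚ R q) :
    ∃ hmem : star α ∈ Algebra.adjoin ℚ ({α} : Set R),
      ∀ ρ : Algebra.adjoin ℚ ({α} : Set R) →ₐ[ℚ] ℂ,
        ρ ⟨star α, hmem⟩ = starRingEnd ℂ (ρ ⟨α, Algebra.self_mem_adjoin_singleton ℚ α⟩) ∧
          ‖ρ ⟨α, Algebra.self_mem_adjoin_singleton ℚ α⟩‖ ^ 2 = (q : ℝ) := by
  have hmem : star α ∈ Algebra.adjoin ℚ ({α} : Set R) := by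
    rcases eq_or_ne q 0 with rfl | hq
    · rw [map_zero] at hα
      have hα0 : α = 0 := PosInv.eq_zero_of_mul_star hpos (by rw [hα, map_zero])
      rw [hα0, star_zero]
      exact zero_mem _
    · have : IsArtinianRing R := IsArtinianRing.of_finite ℚ R
      set S := Algebra.adjoin ℚ ({α} : Set R)
      have hαS : α ∈ S := Algebra.self_mem_adjoin_singleton ℚ α
      set β := q⁻¹ • star α
      have h1 : α * β = 1 := by
        rw [mul_smul_comm, hα, Algebra.algebraMap_eq_smul_one, smul_smul, inv_mul_cancel₀ hq, one_smul]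
      have h2 : β * α = 1 := mul_eq_one_comm.mp h1
      have hinj : Function.Injective (LinearMap.mulLeft ℚ (⟨α, hαS⟩ : S)) := by
        intro a b hab
        have : α * (a : R) = α * (b : R) := congrArg Subtype.val hab
        apply Subtype.ext
        rw [← one_mul (a : R), ← h2, mul_assoc, this, ← mul_assoc, h2, one_mul]
      obtain ⟨s, hs⟩ := LinearMap.injective_iff_surjective.mp hinj 1
      have hs' : α * (s : R) = 1 := congrArg Subtype.val hs
      have hsβ : (s : R) = β := by rw [← one_mul (s : R), ← h2, mul_assoc, hs', mul_one]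
      have : star α = q • (s : R) := by rw [hsβ, smul_smul, mul_inv_cancel₀ hq, one_smul]
      rw [this]
      exact S.smul_mem s.2 q
  refine ⟨hmem, fun ρ => ?_⟩
  set a : Algebra.adjoin ℚ ({α} : Set R) := ⟨α, Algebra.self_mem_adjoin_singleton ℚ α⟩
  set b : Algebra.adjoin ℚ ({α} : Set R) := ⟨star α, hmem⟩
  have hab : ρ a * ρ b = (q : ℂ) := by
    have e : a * b = algebraMap ℚ _ q := Subtype.ext hα
    rw [← map_mul, e, AlgHom.commutes, eq_ratCast]
  have hroot : ∀ (t : Algebra.adjoin ℚ ({α} : Set R)), Polynomial.aeval (ρ t) (minpoly ℚ (t : R)) = 0 := by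
    intro t
    rw [Polynomial.aeval_algHom_apply]
    have : Polynomial.aeval t (minpoly ℚ (t : R)) = 0 := by
      apply Subtype.ext
      rw [Subalgebra.coe_zero, ← Subalgebra.coe_val, ← Polynomial.aeval_algHom_apply]
      exact minpoly.aeval ℚ (t : R)
    rw [this, map_zero]
  have h1 : (ρ a + ρ b).im = 0 := by
    rw [← map_add]
    exact PosInv.root_real hpos (x := ((a + b : Algebra.adjoin ℚ ({α} : Set R)) : R))
      (by simp [a, b, add_comm]) (hroot _)
  have h2 : (-((ρ a - ρ b) * (ρ a - ρ b))).im = 0 ∧ 0 ≤ (-((ρ a - ρ b) * (ρ a - ρ b))).re := by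
    rw [← map_sub, ← map_mul, ← map_neg]
    refine PosInv.root_nonneg hpos (x := ((-((a - b) * (a - b)) : Algebra.adjoin ℚ ({α} : Set R)) : R))
      (by simp [a, b]; noncomm_ring) (fun w => ?_) (hroot _)
    have hx : star (((-((a - b) * (a - b)) : Algebra.adjoin ℚ ({α} : Set R))) : R) = _ :=
      (by simp [a, b]; noncomm_ring : _ = (((-((a - b) * (a - b)) : Algebra.adjoin ℚ ({α} : Set R))) : R))
    have := PosInv.nonneg_mul_star hpos (Polynomial.aeval
      (((-((a - b) * (a - b)) : Algebra.adjoin ℚ ({α} : Set R))) : R) w * (α - star α))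
    rw [star_mul, PosInv.star_aeval hx] at this
    convert this using 2
    simp [a, b]
    noncomm_ring
  simp only [Complex.neg_im, Complex.neg_re, Complex.mul_im, Complex.mul_re, Complex.sub_re, Complex.sub_im] at h2
  rw [Complex.add_im] at h1
  obtain ⟨h2i, h2r⟩ := h2
  have hre : (ρ a).re = (ρ b).re := by
    have hd : ((ρ a).re - (ρ b).re) * ((ρ a).im - (ρ b).im) = 0 := by linarith
    rcases mul_eq_zero.mp hd with h | h
    · linarith
    · nlinarith [sq_nonneg ((ρ a).re - (ρ b).re), sq_nonneg ((ρ a).im - (ρ b).im)]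
  have hconj : ρ b = starRingEnd ℂ (ρ a) :=
    Complex.ext (by simp [hre]) (by simp; linarith)
  refine ⟨hconj, ?_⟩
  rw [Complex.sq_norm]
  have := congrArg Complex.re hab
  rw [hconj, Complex.mul_conj] at this
  simpa using this

end Groth.Agent.S19356
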