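import Groth.Statements.S19359
import Groth.Agent.FanLib.Basic

set_option autoImplicit false
universe u
open CategoryTheory Opposite Instab
open Instab Instab.Fan

namespace Groth.Agent.S19359

open Groth.Agent.FanLib

/-- A formal fan G is quasi-separated (the fibre product of any two of its cones is a bounded fan) if
and only if, for every bounded formal fan F, every map of fans F ⟶ G is bounded (its base change
along each cone of G is a bounded fan). -/
theorem result (G : Fan.{u}) :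
    G.IsQuasiSeparated ↔
      ∀ (F : Fan.{u}) (f : F ⟶ G), F.IsBounded → Fan.IsBoundedMap f := by
  classical
  refine ⟨fun hG F f hF n σ => ?_, fun h n₀ n₁ σ₀ σ₁ => ?_⟩
  · obtain ⟨t, ht⟩ := hF
    have hc : ∀ e : Σ m : ICone, F.obj (op m), ∃ s : Finset (Σ k : ICone,
        (Limits.pullback (coneMap (f.app _ e.2)) (coneMap σ)).obj (op k)),
          ∀ x, ∃ q ∈ s, x ∈ P.cell q.2 := fun e => hG _ _ _ σ
    choose s hs using hc
    let L : ∀ e : Σ m : ICone, F.obj (op m),
        Limits.pullback (coneMap (f.app _ e.2)) (coneMap σ) ⟶ Limits.pullback f (coneMap σ) :=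
      fun e => Limits.pullback.lift (Limits.pullback.fst _ _ ≫ coneMap e.2) (Limits.pullback.snd _ _)
        (by rw [Category.assoc, coneMap_comp, Limits.pullback.condition])
    refine ⟨t.biUnion fun e => (s e).image fun q => ⟨q.1, (L e).app _ q.2⟩, fun x => ?_⟩
    obtain ⟨k, η, y, rfl⟩ := exists_rep x
    obtain ⟨⟨m, ξ⟩, hξ, v, hv⟩ := ht (P.mk ((Limits.pullback.fst f (coneMap σ)).app _ η) y)
    obtain ⟨l, φ₁, φ₂, z, c₁, c₂, e, hc₁, hc₂, h1, h2⟩ := (mk_eq_iff _ _ _ _).1 hv
    obtain ⟨p, hp1, hp2⟩ := exists_pb (coneMap (f.app _ ξ)) (coneMap σ) (n := l)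
      (a := ULift.up φ₁)
      (b := (Limits.pullback.snd f (coneMap σ)).app _ ((Limits.pullback f (coneMap σ)).map φ₂.op η))
      (by
        rw [coneMap_app, ← NatTrans.naturality_apply, e, ← NatTrans.naturality_apply]
        exact ConcreteCategory.congr_hom (congr_app (Limits.pullback.condition (f := f)
          (g := coneMap σ)) (op l)) _)
    obtain ⟨q, hq, w, hw⟩ := hs ⟨m, ξ⟩ (P.mk p z)
    refine ⟨⟨q.1, (L ⟨m, ξ⟩).app _ q.2⟩, Finset.mem_biUnion.2 ⟨_, hξ,
      Finset.mem_image.2 ⟨q, hq, rfl⟩⟩, w, ?_⟩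
    rw [← map_mk, hw, map_mk, ← mk_map η z y hc₂ h2]
    congr 1
    obtain ⟨p', hp'1, hp'2⟩ : ∃ p', p' = (Limits.pullback f (coneMap σ)).map φ₂.op η ∧
        (Limits.pullback.snd f (coneMap σ)).app _ p' =
          (Limits.pullback.snd f (coneMap σ)).app _ ((L ⟨m, ξ⟩).app _ p) :=
      ⟨_, rfl, by
        rw [← hp2]
        exact (ConcreteCategory.congr_hom (congr_app (Limits.pullback.lift_snd
          (f := f) (g := coneMap σ) _ _ _) (op l)) p).symm⟩
    rw [← hp'1]
    apply coneMap_injective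
    apply Limits.pullback.hom_ext
    · rw [coneMap_comp, coneMap_comp, hp'1, NatTrans.naturality_apply, ← e]
      congr 1
      show (L ⟨m, ξ⟩ ≫ Limits.pullback.fst f (coneMap σ)).app _ p = _
      rw [Limits.pullback.lift_fst]
      show (coneMap ξ).app _ ((Limits.pullback.fst (coneMap (f.app _ ξ)) (coneMap σ)).app _ p) = _
      rw [hp1, coneMap_app]
    · rw [coneMap_comp, coneMap_comp, hp'2]
  · refine h _ (coneMap σ₀) ⟨{⟨n₀, ULift.up (𝟙 n₀)⟩}, fun x => ?_⟩ n₁ σ₁
    obtain ⟨k, ⟨φ⟩, y, rfl⟩ := exists_rep x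
    refine ⟨_, Finset.mem_singleton_self _, omap φ y, ?_⟩
    have e : (uliftYoneda.{u}.obj n₀).map φ.op (ULift.up (𝟙 n₀)) = ULift.up φ :=
      ULift.ext _ _ (Category.comp_id φ)
    exact (e ▸ mk_omap φ (F := uliftYoneda.{u}.obj n₀) (ULift.up (𝟙 n₀)) y).symm

end Groth.Agent.S19359
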