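import Groth.Statements.S19362
import Groth.Agent.FanLib.Basic

set_option autoImplicit false
universe u
open CategoryTheory Opposite Instab
open Instab Instab.Fan

namespace Groth.Agent.S19362

open Groth.Agent.FanLib

/-- Let f : F ⟶ G be a map of formal fans. (1) The image of the induced map P F → P G is the image of
the projective realization of the image sub-fan of f. (2) For a map g : G' ⟶ G, the image of the
projective realization of the base change F ×_G G' ⟶ G' is the preimage, under P G' → P G, of the
image of P F → P G. -/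
theorem result {F G G' : Fan.{u}} (f : F ⟶ G) (g : G' ⟶ G) :
    Set.range (Fan.P.map f) = Set.range (Fan.P.map (Subfunctor.range f).ι) ∧
    Set.range (Fan.P.map (Limits.pullback.snd f g)) = Fan.P.map g ⁻¹' Set.range (Fan.P.map f) := by
  refine ⟨?_, Set.ext fun x' => ⟨?_, ?_⟩⟩
  · ext y
    constructor
    · rintro ⟨x, rfl⟩
      refine ⟨P.map (Subfunctor.toRange f) x, ?_⟩
      rw [← map_comp, Subfunctor.toRange_ι]
    · rintro ⟨x, rfl⟩
      obtain ⟨n, ⟨a, b, hb⟩, v, rfl⟩ := exists_rep x
      exact ⟨P.mk b v, by rw [map_mk, hb]; rfl⟩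
  · rintro ⟨y, rfl⟩
    exact ⟨P.map (Limits.pullback.fst f g) y, by
      rw [← map_comp, Limits.pullback.condition, map_comp]⟩
  · rintro ⟨x, hx⟩
    obtain ⟨y, -, hy⟩ := exists_pb_point f g x x' hx
    exact ⟨y, hy⟩

end Groth.Agent.S19362
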