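import Groth.Statements.S19363
import Groth.Agent.FanLib.Basic

set_option autoImplicit false
universe u
open CategoryTheory Opposite Instab
open Instab Instab.Fan

namespace Groth.Agent.S19363

open Groth.Agent.FanLib

/-- Let ψ : F ⟶ G be a bounded map of formal fans. Then the induced map P F → P G is a closed map whose
fibres are finite, and its image meets each rational simplex of P G in a finite union of closed
rational sub-simplices: for every n-cone ξ of G there are finitely many cone morphisms φ into [n]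
such that a nonzero nonnegative vector v of ℝ^n gives a point of the image exactly when v is a
positive multiple of φ y for one of these φ and some nonzero nonnegative y. -/
theorem result {F G : Fan.{u}} (ψ : F ⟶ G)
    (hψ : Fan.IsBoundedMap ψ) :
    IsClosedMap (Fan.P.map ψ) ∧ (∀ y : Fan.P G, (Fan.P.map ψ ⁻¹' {y}).Finite) ∧
    ∀ (n : ICone) (ξ : G.obj (op n)), ∃ s : Finset (Σ k : ICone, k ⟶ n),
      {v : Fan.Orth n | Fan.P.mk ξ v ∈ Set.range (Fan.P.map ψ)} =
        ⋃ e ∈ s, {v : Fan.Orth n | ∃ (y : Fan.Orth e.1) (c : ℝ), 0 < c ∧ v.1 = c • e.2.realMap y.1} := by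
  refine ⟨isClosedMap_map hψ, fun y => ?_, fun n ξ => ?_⟩
  · obtain ⟨n, σ, v, rfl⟩ := exists_rep y
    obtain ⟨s, hs, hcov⟩ := exists_cover (hψ n σ)
    refine Set.Finite.subset (s.finite_toSet.biUnion (t := fun e => {x : Fan.P F |
      ∃ (z : Fan.Orth e.1) (c : ℝ), 0 < c ∧ v.1 = c • e.2.2.realMap z.1 ∧ x = P.mk e.2.1 z})
      fun e _ => Set.Subsingleton.finite ?_) fun x hx => ?_
    · rintro _ ⟨z, c, hc, hz, rfl⟩ _ ⟨z', c', hc', hz', rfl⟩
      refine mk_scale e.2.1 (c := c / c') (div_pos hc hc') (realMap_injective e.2.2 ?_)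
      rw [← realMap_eq, ← realMap_eq, realMap_smul, div_eq_inv_mul, mul_smul, ← hz, hz', smul_smul,
        inv_mul_cancel₀ hc'.ne', one_smul]
    · obtain ⟨e, he, z, c, hc, h, hxz⟩ := (mem_cell_of_cover hs hcov v x).1 hx
      exact Set.mem_biUnion he ⟨z, c, hc, h, hxz⟩
  · classical
    obtain ⟨s, hs, hcov⟩ := exists_cover (hψ n ξ)
    refine ⟨s.image fun e => ⟨e.1, e.2.2⟩, Set.ext fun v => ⟨?_, ?_⟩⟩
    · rintro ⟨x, hx⟩
      obtain ⟨e, he, z, c, hc, h, -⟩ := (mem_cell_of_cover hs hcov v x).1 hx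
      exact Set.mem_biUnion (Finset.mem_image.2 ⟨e, he, rfl⟩) ⟨z, c, hc, h⟩
    · intro hv
      obtain ⟨q, hq, z, c, hc, h⟩ := Set.mem_iUnion₂.1 hv
      obtain ⟨e, he, rfl⟩ := Finset.mem_image.1 hq
      exact ⟨_, (mem_cell_of_cover hs hcov v _).2 ⟨e, he, z, c, hc, h, rfl⟩⟩

end Groth.Agent.S19363
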