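import Groth.Statements.S19366
import Groth.Agent.FanLib.Basic

set_option autoImplicit false
universe u
open CategoryTheory Opposite Instab
open Instab Instab.Fan

namespace Groth.Agent.S19366

open Groth.Agent.FanLib

/-- Let F be a quasi-separated formal fan (the fibre product of any two cones over F is a fan covered by
finitely many rational simplices). Then (1) each rational simplex is a closed map into P F: for
every n-cone ξ and every closed set S of nonzero nonnegative vectors of ℝ^n that is closed under
positive rescaling, the image of S in P F is closed; and (2) the topology of P F is compactly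
generated by the images of the rational simplices: a subset is closed exactly when it meets the
image of each rational simplex in a closed set. (The published proposition also asserts that P F is
a Hausdorff space; that fails for suitable quasi-separated fans with uncountably many cones, the
colimit topology on a product of realizations being finer than the product topology, and it is not
stated here.) -/
theorem result (F : Fan.{u}) (hF : F.IsQuasiSeparated) :
    (∀ (n : ICone) (ξ : F.obj (op n)) (S : Set (Fan.Orth n)), IsClosed S →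
      (∀ v w : Fan.Orth n, v ∈ S → ∀ c : ℝ, 0 < c → w.1 = c • v.1 → w ∈ S) →
        IsClosed (Fan.P.mk ξ '' S)) ∧
    ∀ S : Set (Fan.P F), IsClosed S ↔ ∀ (n : ICone) (ξ : F.obj (op n)), IsClosed (S ∩ Fan.P.cell ξ) := by
  have key : ∀ (n : ICone) (ξ : F.obj (op n)) (S : Set (Fan.Orth n)), IsClosed S →
      (∀ v w : Fan.Orth n, v ∈ S → ∀ c : ℝ, 0 < c → w.1 = c • v.1 → w ∈ S) →
        IsClosed (Fan.P.mk ξ '' S) := fun n ξ S hS hinv => by
    rw [isClosed_iff_mk]
    intro m σ
    obtain ⟨s, hs, hcov⟩ := exists_cover (ψ := coneMap ξ) (σ := σ) (hF n m ξ σ)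
    have : P.mk σ ⁻¹' (P.mk ξ '' S) = ⋃ e ∈ (s : Set (Σ k : ICone, (uliftYoneda.{u}.obj n).obj (op k) × (k ⟶ m))), {v : Fan.Orth m |
        ∃ y ∈ omap e.2.1.down ⁻¹' S, ∃ c : ℝ, 0 < c ∧ v.1 = c • e.2.2.realMap y.1} := by
      ext v
      constructor
      · rintro ⟨w, hw, hwv⟩
        have h' : P.map (coneMap ξ) (P.mk (F := uliftYoneda.{u}.obj n) (ULift.up (𝟙 n)) w) =
            P.mk σ v := by
          refine Eq.trans ?_ hwv
          show P.mk ((coneMap ξ).app _ (ULift.up (𝟙 n))) w = _
          exact congrArg (P.mk · w) ((coneMap_app ξ (𝟙 n)).trans (by simp))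
        obtain ⟨e, he, z, c, hc, h, hx⟩ := (mem_cell_of_cover hs hcov v _).1 h'
        obtain ⟨k, χ₁, χ₂, t, d₁, d₂, e', hd₁, hd₂, g1, g2⟩ := (mk_eq_iff _ _ _ _).1 hx
        have e'' : χ₁ ≫ 𝟙 n = χ₂ ≫ e.2.1.down := congrArg ULift.down e'
        rw [Category.comp_id] at e''
        refine Set.mem_biUnion he ⟨z, hinv w _ hw (d₂ / d₁) (by positivity) ?_, c, hc, h⟩
        show e.2.1.down.realMap z.1 = _
        rw [g2, g1, realMap_smul, ← realMap_comp, ← e'', smul_smul, div_mul_cancel₀ _ hd₁.ne']
      · intro hv
        obtain ⟨e, he, y, hy, c, hc, h⟩ := Set.mem_iUnion₂.1 hv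
        refine ⟨_, hy, ?_⟩
        rw [← mk_omap, ← mk_map σ y v hc h]
        exact congrArg (P.mk · y) (hs e he)
    rw [this]
    exact s.finite_toSet.isClosed_biUnion fun e _ => isClosed_coneImage _
      (hS.preimage (by
        refine Continuous.subtype_mk ?_ _
        exact (continuous_rlin _).comp continuous_subtype_val))
      (fun v w hv c hc h => hinv _ _ hv c hc (by
        show e.2.1.down.realMap w.1 = _
        rw [h, realMap_smul]
        rfl))
  refine ⟨key, fun S => ⟨fun hS n ξ => hS.inter ?_, fun h => (isClosed_iff_mk S).2 fun n ξ => ?_⟩⟩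
  · rw [P.cell, ← Set.image_univ]
    exact key n ξ _ isClosed_univ fun _ _ _ _ _ _ => trivial
  · have h' := (h n ξ).preimage (continuous_mk ξ)
    rwa [Set.preimage_inter, show P.mk ξ ⁻¹' P.cell ξ = Set.univ from
      Set.eq_univ_of_forall fun v => ⟨v, rfl⟩, Set.inter_univ] at h'

end Groth.Agent.S19366
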