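import Groth.Statements.S19367
import Groth.Agent.FanLib.QSep

set_option autoImplicit false
universe u
open CategoryTheory Opposite Instab
open Instab Instab.Fan

namespace Groth.Agent.S19367

open Groth.Agent.FanLib

lemma prop_of_minors {n : ICone} (w v : Fan.Orth n)
    (h : ∀ i j, w.1 i * v.1 j = w.1 j * v.1 i) : ∃ c : ℝ, 0 < c ∧ w.1 = c • v.1 := by
  obtain ⟨j, hj⟩ := Function.ne_iff.1 v.2.2
  have hj' : 0 < v.1 j := lt_of_le_of_ne (v.2.1 j) (Ne.symm hj)
  have e : w.1 = (w.1 j / v.1 j) • v.1 := funext fun i => by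
    have := h i j
    simp only [Pi.smul_apply, smul_eq_mul]
    field_simp
    linarith
  refine ⟨_, ?_, e⟩
  refine div_pos (lt_of_le_of_ne (w.2.1 j) fun h0 => w.2.2 ?_) hj'
  rw [e, ← h0, zero_div, zero_smul]


/-- Let ψ : F ⟶ G be a map of formal fans with F quasi-separated. Then injectivity of the induced map P
F → P G is equivalent to its injectivity on the rational points of P F. -/
theorem result {F G : Fan.{u}} (ψ : F ⟶ G)
    (hF : F.IsQuasiSeparated) :
    Function.Injective (Fan.P.map ψ) ↔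
      ∀ x y : Fan.P F, x.IsRational → y.IsRational → Fan.P.map ψ x = Fan.P.map ψ y → x = y := by
  refine ⟨fun h x y _ _ e => h e, fun h x x' e => ?_⟩
  obtain ⟨n, ξ, v, rfl⟩ := exists_rep x
  obtain ⟨n', ξ', v', rfl⟩ := exists_rep x'
  obtain ⟨k, φ₁, φ₂, y, c₁, c₂, e, hc₁, hc₂, h1, h2⟩ := (mk_eq_iff _ _ _ _).1 e
  set a := F.map φ₁.op ξ with ha
  set b := F.map φ₂.op ξ' with hb
  have hab : ψ.app _ a = ψ.app _ b := by
    rw [ha, hb, NatTrans.naturality_apply, NatTrans.naturality_apply]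
    exact e
  suffices hy : P.mk a y = P.mk b y by
    rwa [ha, hb, mk_map ξ y v hc₁ h1, mk_map ξ' y v' hc₂ h2] at hy
  obtain ⟨s, hs, hcov⟩ := exists_cover (ψ := coneMap a) (σ := b) (hF k k a b)
  have hiff : ∀ w : Fan.Orth k, P.mk a w = P.mk b w ↔ ∃ e ∈ s, ∃ (z : Fan.Orth e.1) (c c' : ℝ),
      0 < c ∧ 0 < c' ∧ w.1 = c • e.2.2.realMap z.1 ∧ w.1 = c' • e.2.1.down.realMap z.1 := by
    intro w
    constructor
    · intro hw
      have h' : P.map (coneMap a) (P.mk (F := uliftYoneda.{u}.obj k) (ULift.up (𝟙 k)) w) =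
          P.mk b w := by
        refine Eq.trans ?_ hw
        show P.mk ((coneMap a).app _ (ULift.up (𝟙 k))) w = _
        exact congrArg (P.mk · w) ((coneMap_app a (𝟙 k)).trans (by simp))
      obtain ⟨e, he, z, c, hc, hz, hx⟩ := (mem_cell_of_cover hs hcov w _).1 h'
      obtain ⟨m, χ₁, χ₂, t, d₁, d₂, e', hd₁, hd₂, g1, g2⟩ := (mk_eq_iff _ _ _ _).1 hx
      have e'' : χ₁ ≫ 𝟙 k = χ₂ ≫ e.2.1.down := congrArg ULift.down e'
      rw [Category.comp_id] at e''
      refine ⟨e, he, z, c, d₁ / d₂, hc, by positivity, hz, ?_⟩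
      rw [g2, g1, realMap_smul, ← realMap_comp, ← e'', smul_smul, div_mul_cancel₀ _ hd₂.ne']
    · rintro ⟨e, he, z, c, c', hc, hc', hz, hz'⟩
      rw [← mk_map b z w hc hz, ← mk_map a z w hc' hz']
      exact congrArg (P.mk · z) (hs e he)
  have hC : IsClosed {w : Fan.Orth k | P.mk a w = P.mk b w} := by
    have : {w : Fan.Orth k | P.mk a w = P.mk b w} =
        ⋃ e ∈ (s : Set (Σ l : ICone, (uliftYoneda.{u}.obj k).obj (op l) × (l ⟶ k))),
        {w : Fan.Orth k | ∃ z ∈ {z : Fan.Orth e.1 | ∀ i j,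
          e.2.1.down.realMap z.1 i * e.2.2.realMap z.1 j =
            e.2.1.down.realMap z.1 j * e.2.2.realMap z.1 i},
          ∃ c : ℝ, 0 < c ∧ w.1 = c • e.2.2.realMap z.1} := by
      ext w
      simp only [Set.mem_ofPred_eq, Set.mem_iUnion₂, Finset.mem_coe, exists_prop, hiff w]
      constructor
      · rintro ⟨e, he, z, c, c', hc, hc', hz, hz'⟩
        refine ⟨e, he, z, fun i j => ?_, c, hc, hz⟩
        have : e.2.1.down.realMap z.1 = (c / c') • e.2.2.realMap z.1 := by
          rw [div_eq_inv_mul, mul_smul, ← hz, hz', smul_smul, inv_mul_cancel₀ hc'.ne', one_smul]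
        simp only [this, Pi.smul_apply, smul_eq_mul]
        ring
      · rintro ⟨e, he, z, hp, c, hc, hz⟩
        obtain ⟨d, hd, hd'⟩ := prop_of_minors (omap e.2.1.down z) (omap e.2.2 z) hp
        refine ⟨e, he, z, c, c / d, hc, by positivity, hz, ?_⟩
        rw [hz, show e.2.1.down.realMap z.1 = d • e.2.2.realMap z.1 from hd', smul_smul,
          div_mul_cancel₀ _ hd.ne']
    rw [this]
    refine s.finite_toSet.isClosed_biUnion fun e _ => isClosed_coneImage _ ?_ ?_
    · simp only [Set.ofPred_forall]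
      have hcont : ∀ (φ : e.1 ⟶ k) (i : Fin k.dim),
          Continuous fun z : Fan.Orth e.1 => φ.realMap z.1 i := fun φ i =>
        (continuous_apply i).comp ((continuous_rlin φ.toLin).comp continuous_subtype_val)
      exact isClosed_iInter fun i => isClosed_iInter fun j =>
        isClosed_eq ((hcont _ i).mul (hcont _ j)) ((hcont _ j).mul (hcont _ i))
    · intro z z' hz c hc hzz' i j
      simp only [hzz', realMap_smul, Pi.smul_apply, smul_eq_mul]
      linear_combination (c * c) * hz i j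
  by_contra hy
  have hinv : Invariant {w : Fan.Orth k | P.mk a w = P.mk b w}ᶜ := fun p q hp c hc hpq hq =>
    hp (by
      show P.mk a p = P.mk b p
      rw [mk_scale a hc hpq, mk_scale b hc hpq]
      exact hq)
  obtain ⟨w, hw, hr⟩ := exists_int_mem.{u} hC.isOpen_compl hinv ⟨y, hy⟩
  exact hw (h _ _ (hr a) (hr b) (by rw [map_mk, map_mk, hab]))

end Groth.Agent.S19367
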