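import Groth.Statements.S19368
import Groth.Agent.FanLib.Basic

set_option autoImplicit false
universe u
open CategoryTheory Opposite Instab
open Instab Instab.Fan

namespace Groth.Agent.S19368

open Groth.Agent.FanLib

/-- Let F be a formal fan; a subset of P F is realizable when it is the image of the projective
realization of some sub-fan of F. The intersection of two realizable subsets is realizable, and the
union of an arbitrary family of realizable subsets is realizable. -/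
theorem result (F : Fan.{u}) :
    (∀ U V : Set (Fan.P F), Fan.IsRealizable U → Fan.IsRealizable V → Fan.IsRealizable (U ∩ V)) ∧
    ∀ (ι : Type u) (U : ι → Set (Fan.P F)), (∀ i, Fan.IsRealizable (U i)) →
      Fan.IsRealizable (Set.iUnion U) := by
  refine ⟨?_, fun ι U hU => ?_⟩
  · rintro U V ⟨S, rfl⟩ ⟨T, rfl⟩
    refine ⟨S ⊓ T, Set.ext fun x => ⟨?_, ?_⟩⟩
    · rintro ⟨⟨a, ha⟩, b, hb⟩
      obtain ⟨y, hy1, hy2⟩ := exists_pb_point S.ι T.ι a b (ha.trans hb.symm)
      obtain ⟨n, p, v, rfl⟩ := exists_rep y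
      refine ⟨P.mk ⟨((Limits.pullback.fst S.ι T.ι).app _ p).1,
        ((Limits.pullback.fst S.ι T.ι).app _ p).2, ?_⟩ v, ?_⟩
      · have hc : ∀ q, (Limits.pullback.fst S.ι T.ι ≫ S.ι).app (op n) q =
            (Limits.pullback.snd S.ι T.ι ≫ T.ι).app (op n) q := fun q => by
          rw [Limits.pullback.condition]
        have : ((Limits.pullback.fst S.ι T.ι).app _ p).1 = ((Limits.pullback.snd S.ι T.ι).app _ p).1 :=
          hc p
        rw [this]
        exact ((Limits.pullback.snd S.ι T.ι).app _ p).2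
      · rw [← ha, ← hy1, map_mk, map_mk]
        rfl
    · rintro ⟨y, rfl⟩
      obtain ⟨n, ⟨a, h1, h2⟩, v, rfl⟩ := exists_rep y
      exact ⟨⟨P.mk ⟨a, h1⟩ v, rfl⟩, ⟨P.mk ⟨a, h2⟩ v, rfl⟩⟩
  · choose S hS using hU
    refine ⟨⨆ i, S i, Set.ext fun x => ⟨fun hx => ?_, ?_⟩⟩
    · obtain ⟨i, hi⟩ := Set.mem_iUnion.1 hx
      rw [hS i] at hi
      obtain ⟨y, rfl⟩ := hi
      obtain ⟨n, ⟨a, ha⟩, v, rfl⟩ := exists_rep y
      refine ⟨P.mk ⟨a, ?_⟩ v, rfl⟩
      rw [Subfunctor.iSup_obj]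
      exact Set.mem_iUnion.2 ⟨i, ha⟩
    · rintro ⟨y, rfl⟩
      obtain ⟨n, ⟨a, ha⟩, v, rfl⟩ := exists_rep y
      rw [Subfunctor.iSup_obj] at ha
      obtain ⟨i, hi⟩ := Set.mem_iUnion.1 ha
      exact Set.mem_iUnion.2 ⟨i, by rw [hS i]; exact ⟨P.mk ⟨a, hi⟩ v, rfl⟩⟩

end Groth.Agent.S19368
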