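import Groth.Statements.S19369
import Groth.Agent.FanLib.QSep

set_option autoImplicit false
universe u
open CategoryTheory Opposite Instab
open Instab Instab.Fan

namespace Groth.Agent.S19369

open Groth.Agent.FanLib

/-- Let F be a quasi-separated formal fan and let (x i) be a sequence in P F converging to a point x.
Then there are an n-cone σ of F and a subsequence of (x i) whose terms lift to nonzero nonnegative
vectors of ℝ^n, mapping to them under the rational simplex of σ, such that the lifts converge to a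
vector that lifts x. -/
theorem result (F : Fan.{u}) (hF : F.IsQuasiSeparated)
    (x : ℕ → Fan.P F) (x₀ : Fan.P F) (hx : Filter.Tendsto x Filter.atTop (nhds x₀)) :
    ∃ (n : ICone) (σ : F.obj (op n)) (r : ℕ → ℕ) (v : ℕ → Fan.Orth n) (v₀ : Fan.Orth n),
      StrictMono r ∧ (∀ j, Fan.P.mk σ (v j) = x (r j)) ∧ Fan.P.mk σ v₀ = x₀ ∧
        Filter.Tendsto v Filter.atTop (nhds v₀) := by
  by_cases hfr : ∃ᶠ j in Filter.atTop, x j = x₀
  · obtain ⟨r, hr, hr'⟩ := Filter.extraction_of_frequently_atTop hfr
    obtain ⟨n, σ, v, rfl⟩ := exists_rep x₀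
    exact ⟨n, σ, r, fun _ => v, v, hr, fun j => (hr' j).symm, rfl, tendsto_const_nhds⟩
  rw [Filter.not_frequently] at hfr
  obtain ⟨n, σ, hfreq⟩ := exists_cell_frequently hF x x₀ hx hfr
  obtain ⟨r, hr, hr'⟩ := Filter.extraction_of_frequently_atTop (hfreq.and_eventually hfr)
  choose w hw using fun j => (hr' j).1
  have : T2Space (Fan.Orth n) :=
    inferInstanceAs (T2Space {v : Fin n.dim → ℝ // (∀ i, 0 ≤ v i) ∧ v ≠ 0})
  have : FirstCountableTopology (Fan.Orth n) :=
    inferInstanceAs (FirstCountableTopology {v : Fin n.dim → ℝ // (∀ i, 0 ≤ v i) ∧ v ≠ 0})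
  obtain ⟨v₀, hv₀, r', hr'', hlim⟩ :=
    (isCompact_slice (n := n)).isSeqCompact (x := fun j => normO (w j)) fun j => total_normO (w j)
  refine ⟨n, σ, r ∘ r', fun j => normO (w (r' j)), v₀, hr.comp hr'', fun j => ?_, ?_, hlim⟩
  · rw [mk_normO, hw]
    rfl
  have hK : IsClosed (insert v₀ (Set.range fun j => normO (w (r' j)))) :=
    hlim.isCompact_insert_range.isClosed
  have hA : IsClosed (P.mk σ '' (normO ⁻¹' insert v₀ (Set.range fun j => normO (w (r' j))))) :=
    isClosed_image hF σ (hK.preimage continuous_normO) fun a b ha c hc h => by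
      rw [Set.mem_preimage] at ha ⊢
      rw [normO_scale hc h]
      exact ha
  obtain ⟨z, hz, hz'⟩ := hA.mem_of_tendsto (hx.comp (hr.comp hr'').tendsto_atTop)
    (Filter.Eventually.of_forall fun j => ⟨normO (w (r' j)), by
      rw [Set.mem_preimage, normO_eq_self (total_normO _)]
      exact Or.inr ⟨j, rfl⟩, by rw [mk_normO, hw]; rfl⟩)
  rcases hz with hz | ⟨j, hj⟩
  · rw [← hz, mk_normO, hz']
  · exfalso
    refine (hr' (r' j)).2 ?_
    rw [← hw, ← mk_normO σ (w (r' j)), show normO (w (r' j)) = normO z from hj, mk_normO, hz']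

end Groth.Agent.S19369
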