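import Groth.Statements.S19370
import Groth.Agent.FanLib.QSep

set_option autoImplicit false
universe u v
open CategoryTheory Opposite Instab
open Instab Instab.Fan

namespace Groth.Agent.S19370

open Groth.Agent.FanLib

/-- Let F be a formal fan, U ⊆ P F a convex subset, Γ a totally ordered set and Φ : U → Γ a
quasi-concave function that is lower semicontinuous in the sense that every sublevel set {Φ ≤ c} is
closed in U. Then every rational point of U at which Φ has a local maximum is a global maximum of Φ,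
and if Φ is strictly quasi-concave there is at most one such rational point. -/
theorem result (F : Fan.{u}) (U : Set (Fan.P F))
    (hU : Fan.IsConvex U) {Γ : Type v} [LinearOrder Γ] (Φ : U → Γ) (hΦ : Fan.IsQuasiConcaveOn U Φ)
    (hlsc : ∀ c : Γ, IsClosed {x : U | Φ x ≤ c}) :
    (∀ x : U, (x : Fan.P F).IsRational → IsLocalMax Φ x → ∀ y : U, Φ y ≤ Φ x) ∧
    (Fan.IsStrictQuasiConcaveOn U Φ → ∀ x y : U, (x : Fan.P F).IsRational → (y : Fan.P F).IsRational →
      IsLocalMax Φ x → IsLocalMax Φ y → x = y) := by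
  have hglob : ∀ x : U, (x : Fan.P F).IsRational → IsLocalMax Φ x → ∀ y : U, Φ y ≤ Φ x := by
    intro x hxr hx y
    by_contra hy
    rw [not_le] at hy
    have hO : IsOpen {z : U | Φ x < Φ z} := by
      have := (hlsc (Φ x)).isOpen_compl
      convert this using 1
      ext z
      simp
    obtain ⟨y', hy', hyr⟩ := exists_rat_of_isRealizable hU.2.1 hO hy
    have hne : (x : Fan.P F) ≠ (y' : Fan.P F) := fun e => hy'.ne (congrArg Φ (Subtype.ext e))
    obtain ⟨τ, hτU, hτ0, hτ1⟩ := hU.2.2 _ _ x.2 y'.2 hxr hyr hne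
    let g : Set.Ici (0 : ℝ) → U := fun t => ⟨P.mk τ (seg t.1 t.2), hτU ⟨_, rfl⟩⟩
    have hg : Continuous g := by
      refine Continuous.subtype_mk ((continuous_mk τ).comp ?_) _
      refine Continuous.subtype_mk ?_ _
      exact continuous_const.add (continuous_subtype_val.smul continuous_const)
    have hg0 : g ⟨0, Set.self_mem_Ici⟩ = x := by
      refine Subtype.ext (Eq.trans ?_ hτ0)
      exact congrArg (P.mk τ) (Subtype.ext (by
        show (1 : ℝ) • (Orth.basis Fan.two 0).1 + (0 : ℝ) • (Orth.basis Fan.two 1).1 = _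
        rw [one_smul, zero_smul]
        exact add_zero _))
    have hev : ∀ᶠ t in nhds (⟨0, Set.self_mem_Ici⟩ : Set.Ici (0 : ℝ)), Φ (g t) ≤ Φ x :=
      (hg.tendsto' _ _ hg0).eventually hx
    rw [nhds_subtype_eq_comap, Filter.eventually_comap] at hev
    obtain ⟨t, ht, ht0⟩ := ((hev.filter_mono nhdsWithin_le_nhds).and
      (self_mem_nhdsWithin (a := (0 : ℝ)) (s := Set.Ioi 0))).exists
    have hle := ht ⟨t, le_of_lt ht0⟩ rfl
    have e0 : (⟨_, hτU ⟨_, rfl⟩⟩ : U) = x := Subtype.ext hτ0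
    have e1 : (⟨_, hτU ⟨_, rfl⟩⟩ : U) = y' := Subtype.ext hτ1
    obtain ⟨q1, q2⟩ := hΦ _ τ (Orth.basis Fan.two 0) (seg t (le_of_lt ht0)) (Orth.basis Fan.two 1)
      (hτU ⟨_, rfl⟩) (hτU ⟨_, rfl⟩) (hτU ⟨_, rfl⟩) basis_not_prop
      ⟨1, t, one_pos, ht0, seg_eq _⟩
    rw [e0, e1, min_eq_left (le_of_lt hy')] at q1 q2
    exact hy'.ne (q2 (le_antisymm hle q1))
  refine ⟨hglob, fun hs x y hxr hyr hx hy => ?_⟩
  by_contra hne
  obtain ⟨τ, hτU, hτ0, hτ1⟩ :=
    hU.2.2 _ _ x.2 y.2 hxr hyr (fun e => hne (Subtype.ext e))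
  have e0 : (⟨_, hτU ⟨_, rfl⟩⟩ : U) = x := Subtype.ext hτ0
  have e1 : (⟨_, hτU ⟨_, rfl⟩⟩ : U) = y := Subtype.ext hτ1
  have := hs _ τ (Orth.basis Fan.two 0) (seg 1 zero_le_one) (Orth.basis Fan.two 1)
    (hτU ⟨_, rfl⟩) (hτU ⟨_, rfl⟩) (hτU ⟨_, rfl⟩) basis_not_prop ⟨1, 1, one_pos, one_pos, seg_eq _⟩
  rw [e0, e1, le_antisymm (hglob x hxr hx y) (hglob y hyr hy x), min_self] at this
  exact this.not_ge (hglob x hxr hx _)

end Groth.Agent.S19370
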