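import Groth.Statements.S19371
import Groth.Agent.FanLib.QSep

set_option autoImplicit false
universe u v
open CategoryTheory Opposite Instab
open Instab Instab.Fan

namespace Groth.Agent.S19371

open Groth.Agent.FanLib

lemma eq_of_le {F : Fan.{u}} (hF : F.IsQuasiSeparated) (hT2 : T2Space (Fan.P F))
    {U : Set (Fan.P F)} (hUc : IsCompact U) (hU : Fan.IsConvex U) {Γ : Type v} [LinearOrder Γ]
    [TopologicalSpace Γ] [OrderTopology Γ] (Φ : U → Γ) (hΦc : Continuous Φ)
    (hΦ : Fan.IsStrictQuasiConcaveOn U Φ) {x y : U} (hx : IsLocalMax Φ x) (hle : Φ x ≤ Φ y) :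
    x = y := by
  by_contra hne
  have : CompactSpace U := isCompact_iff_compactSpace.1 hUc
  obtain ⟨O', hO'sub, hO', hxO'⟩ := mem_nhds_iff.1 hx
  obtain ⟨O, hO, rfl⟩ := isOpen_induced_iff.1 hO'
  obtain ⟨K0, hK0, hK0c, hK0O⟩ := exists_mem_nhds_isClosed_subset
    ((hO.preimage continuous_subtype_val).mem_nhds (x := x) hxO')
  -- the maximal level set near `x`, without `x`, is closed
  let E : Set U := K0 ∩ {z | Φ z = Φ x}
  have hE : IsClosed (Subtype.val '' E) :=
    (hUc.isClosed.isClosedEmbedding_subtypeVal).isClosedMap _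
      (hK0c.inter (isClosed_eq hΦc continuous_const))
  have hT : IsClosed (Subtype.val '' E \ {(x : Fan.P F)}) := by
    rw [isClosed_iff_mk]
    intro n σ
    refine closure_subset_iff_isClosed.1 fun w hw => ?_
    have hwE : P.mk σ w ∈ Subtype.val '' E :=
      closure_minimal (fun v hv => hv.1) (hE.preimage (continuous_mk σ)) hw
    refine ⟨hwE, fun hwx => ?_⟩
    rw [Set.mem_singleton_iff] at hwx
    have hm : ∀ v : Fan.Orth n, w.1 + v.1 ≠ 0 := fun v h0 => w.2.2 (funext fun i => by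
      have := congrFun h0 i
      have h1 := w.2.1 i
      have h2 := v.2.1 i
      simp only [Pi.add_apply, Pi.zero_apply] at this ⊢
      linarith)
    let mid : Fan.Orth n → Fan.Orth n := fun v =>
      ⟨(1 / 2 : ℝ) • w.1 + (1 / 2 : ℝ) • v.1,
        fun i => add_nonneg (mul_nonneg (by norm_num) (w.2.1 i)) (mul_nonneg (by norm_num) (v.2.1 i)),
        by rw [← smul_add]; exact smul_ne_zero (by norm_num) (hm v)⟩
    have hmid : Continuous mid := by
      refine Continuous.subtype_mk ?_ _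
      exact continuous_const.add (continuous_subtype_val.const_smul (1 / 2 : ℝ))
    have hN : IsOpen ((fun v => P.mk σ (mid v)) ⁻¹' O) :=
      hO.preimage ((continuous_mk σ).comp hmid)
    have hmw : mid w = w := Subtype.ext (by
      show (1 / 2 : ℝ) • w.1 + (1 / 2 : ℝ) • w.1 = w.1
      rw [← add_smul]
      norm_num)
    obtain ⟨v, hvN, ⟨z, hzE, hz⟩, hvx⟩ := mem_closure_iff.1 hw _ hN (by
      show P.mk σ (mid w) ∈ O
      rw [hmw, hwx]
      exact hxO')
    have hwU : P.mk σ w ∈ U := hwx ▸ x.2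
    have hvU : P.mk σ v ∈ U := hz ▸ z.2
    have hconv : ∃ a b : ℝ, 0 < a ∧ 0 < b ∧ (mid v).1 = a • w.1 + b • v.1 :=
      ⟨_, _, by norm_num, by norm_num, rfl⟩
    have hmU : P.mk σ (mid v) ∈ U := hU.1 n σ w (mid v) v hwU hvU hconv
    have hnp : ¬ ∃ c : ℝ, v.1 = c • w.1 := by
      rintro ⟨c, hc⟩
      obtain ⟨i, hi⟩ := Function.ne_iff.1 v.2.2
      have hc0 : 0 < c := by
        by_contra hc0
        refine hi (le_antisymm ?_ (v.2.1 i))
        rw [hc]
        exact mul_nonpos_of_nonpos_of_nonneg (not_lt.1 hc0) (w.2.1 i)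
      refine hvx ?_
      rw [Set.mem_singleton_iff, ← hwx]
      exact (mk_scale σ hc0 hc).symm
    have hq := hΦ n σ w (mid v) v hwU hmU hvU hnp hconv
    rw [show (⟨_, hwU⟩ : U) = x from Subtype.ext hwx, show (⟨_, hvU⟩ : U) = z from Subtype.ext hz.symm,
      show Φ z = Φ x from hzE.2, min_self] at hq
    exact hq.not_ge (hO'sub (show (⟨_, hmU⟩ : U) ∈ Subtype.val ⁻¹' O from hvN))
  have hnhds : K0 ∩ Subtype.val ⁻¹' (Subtype.val '' E \ {(x : Fan.P F)})ᶜ ∩ {y}ᶜ ∈ nhds x :=
    Filter.inter_mem (Filter.inter_mem hK0 ((hT.isOpen_compl.preimage continuous_subtype_val).mem_nhds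
      fun h => h.2 rfl)) (isOpen_compl_singleton.mem_nhds hne)
  obtain ⟨K, hK, hKc, hKsub⟩ := exists_mem_nhds_isClosed_subset hnhds
  have hfr : ∀ z ∈ frontier K, Φ z < Φ x := by
    intro z hz
    have hzK := hKc.frontier_subset hz
    have hzx : z ≠ x := fun e => hz.2 (e ▸ mem_interior_iff_mem_nhds.2 hK)
    refine lt_of_le_of_ne (hO'sub (hK0O (hKsub hzK).1.1)) fun e => (hKsub hzK).1.2 ?_
    exact ⟨⟨z, ⟨(hKsub hzK).1.1, e⟩, rfl⟩, fun h => hzx (Subtype.ext h)⟩
  obtain ⟨O1, hO1, hxO1, hyO1, hlt⟩ : ∃ O1 : Set U, IsOpen O1 ∧ x ∈ O1 ∧ y ∈ O1 ∧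
      ∀ p ∈ O1, ∀ z ∈ frontier K, Φ z < Φ p := by
    rcases (frontier K).eq_empty_or_nonempty with h0 | h0
    · exact ⟨Set.univ, isOpen_univ, trivial, trivial, fun p _ z hz => by simp [h0] at hz⟩
    · obtain ⟨z0, hz0, hmax⟩ := (isClosed_frontier.isCompact).exists_isMaxOn h0 hΦc.continuousOn
      exact ⟨{p | Φ z0 < Φ p}, isOpen_lt continuous_const hΦc, hfr z0 hz0,
        (hfr z0 hz0).trans_le hle, fun p hp z hz => lt_of_le_of_lt (hmax hz) hp⟩
  have hyK : y ∉ K := fun h => (hKsub h).2 rfl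
  obtain ⟨x', ⟨hx'K, hx'O⟩, hx'r⟩ := exists_rat_of_isRealizable hU.2.1
    (isOpen_interior.inter hO1) (show x ∈ interior K ∩ O1 from ⟨mem_interior_iff_mem_nhds.2 hK, hxO1⟩)
  obtain ⟨y', ⟨hy'K, hy'O⟩, hy'r⟩ := exists_rat_of_isRealizable hU.2.1
    (hKc.isOpen_compl.inter hO1) (show y ∈ Kᶜ ∩ O1 from ⟨hyK, hyO1⟩)
  obtain ⟨τ, hτU, hτ0, hτ1⟩ := hU.2.2 _ _ x'.2 y'.2 hx'r hy'r
    (fun e => hy'K (Subtype.ext e ▸ interior_subset hx'K))
  let p : Set.Icc (0 : ℝ) 1 → Fan.Orth Fan.two := fun t =>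
    ⟨(1 - t.1) • (Orth.basis Fan.two 0).1 + t.1 • (Orth.basis Fan.two 1).1,
      fun i => add_nonneg (mul_nonneg (sub_nonneg.2 t.2.2) ((Orth.basis Fan.two 0).2.1 i))
        (mul_nonneg t.2.1 ((Orth.basis Fan.two 1).2.1 i)), fun h => by
      have h0 := congrFun h 0
      have h1 := congrFun h 1
      simp only [Pi.add_apply, Pi.smul_apply, smul_eq_mul, Pi.zero_apply] at h0 h1
      rw [basis_zero_zero, basis_one_zero] at h0
      rw [basis_one_one, basis_zero_one] at h1
      linarith⟩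
  let g : Set.Icc (0 : ℝ) 1 → U := fun t => ⟨P.mk τ (p t), hτU ⟨_, rfl⟩⟩
  have hg : Continuous g := by
    refine Continuous.subtype_mk ((continuous_mk τ).comp ?_) _
    refine Continuous.subtype_mk ?_ _
    exact ((continuous_const.sub continuous_subtype_val).smul continuous_const).add
      (continuous_subtype_val.smul continuous_const)
  have g0 : g ⟨0, by simp⟩ = x' := Subtype.ext (Eq.trans (congrArg (P.mk τ) (Subtype.ext (by
    show (1 - (0 : ℝ)) • (Orth.basis Fan.two 0).1 + (0 : ℝ) • (Orth.basis Fan.two 1).1 = _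
    rw [sub_zero, one_smul, zero_smul]
    exact add_zero _))) hτ0)
  have g1 : g ⟨1, by simp⟩ = y' := Subtype.ext (Eq.trans (congrArg (P.mk τ) (Subtype.ext (by
    show (1 - (1 : ℝ)) • (Orth.basis Fan.two 0).1 + (1 : ℝ) • (Orth.basis Fan.two 1).1 = _
    rw [sub_self, one_smul, zero_smul]
    exact zero_add _))) hτ1)
  obtain ⟨t, ht⟩ : ∃ t, g t ∈ frontier K := by
    by_contra hno
    simp only [not_exists] at hno
    have : ConnectedSpace (Set.Icc (0 : ℝ) 1) :=
      isConnected_iff_connectedSpace.1 (isConnected_Icc zero_le_one)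
    have hclopen : IsClopen (g ⁻¹' K) := by
      refine ⟨hKc.preimage hg, ?_⟩
      have : g ⁻¹' K = g ⁻¹' interior K := Set.ext fun t =>
        ⟨fun h => by_contra fun h' => hno t ⟨subset_closure h, h'⟩, fun h => interior_subset (s := K) h⟩
      rw [this]
      exact isOpen_interior.preimage hg
    rcases isClopen_iff.1 hclopen with h | h
    · exact (h.le (show g ⟨0, by simp⟩ ∈ K from g0.symm ▸ interior_subset hx'K))
    · exact hy'K (g1 ▸ (h.ge trivial : g ⟨1, by simp⟩ ∈ K))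
  rcases t.2.1.eq_or_lt with h0 | h0
  · exact (ht.2) (by rw [show t = ⟨0, by simp⟩ from Subtype.ext h0.symm, g0]; exact hx'K)
  rcases t.2.2.eq_or_lt with h1 | h1
  · exact hy'K (g1 ▸ (show t = ⟨1, by simp⟩ from Subtype.ext h1) ▸ hKc.frontier_subset ht)
  have hq := hΦ _ τ (Orth.basis Fan.two 0) (p t) (Orth.basis Fan.two 1)
    (hτU ⟨_, rfl⟩) (hτU ⟨_, rfl⟩) (hτU ⟨_, rfl⟩) basis_not_prop
    ⟨1 - t.1, t.1, sub_pos.2 h1, h0, rfl⟩
  rw [show (⟨_, hτU ⟨_, rfl⟩⟩ : U) = x' from Subtype.ext hτ0,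
    show (⟨_, hτU ⟨_, rfl⟩⟩ : U) = y' from Subtype.ext hτ1] at hq
  exact (lt_min (hlt x' hx'O _ ht) (hlt y' hy'O _ ht)).not_ge hq.le


/-- Let F be a quasi-separated formal fan whose projective realization P F is a Hausdorff space, U ⊆ P F
a compact convex subset, Γ a totally ordered set with the order topology, and Φ : U → Γ continuous
and strictly quasi-concave. Then any two local maxima of Φ coincide, so the global maximum of Φ
(which exists when U is nonempty, by the extreme value property of upper semicontinuous functions on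
compact sets) is its unique local maximum. (The published lemma assumes only that F is
quasi-separated and derives the Hausdorff property of P F from that; this derivation does not hold
in general, and the Hausdorff property, which the published proof uses, is assumed here.) -/
theorem result (F : Fan.{u})
    (hF : F.IsQuasiSeparated) (hT2 : T2Space (Fan.P F)) (U : Set (Fan.P F)) (hUc : IsCompact U)
    (hU : Fan.IsConvex U) {Γ : Type v} [LinearOrder Γ] [TopologicalSpace Γ] [OrderTopology Γ]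
    (Φ : U → Γ) (hΦc : Continuous Φ) (hΦ : Fan.IsStrictQuasiConcaveOn U Φ) (x y : U)
    (hx : IsLocalMax Φ x) (hy : IsLocalMax Φ y) : x = y := by
  rcases le_total (Φ x) (Φ y) with h | h
  · exact eq_of_le hF hT2 hUc hU Φ hΦc hΦ hx h
  · exact (eq_of_le hF hT2 hUc hU Φ hΦc hΦ hy h).symm

end Groth.Agent.S19371
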