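import Groth.Statements.S19372
import Groth.Agent.FanLib.QSep

set_option autoImplicit false
open CategoryTheory Opposite Instab
open Instab Instab.Fan

namespace Groth.Agent.S19372

open Groth.Agent.FanLib

variable {N : ℕ}

/-- The unit vector of a ray. -/
noncomputable def unitVec : Fan.Rays N → (Fin N → ℝ) :=
  Quot.lift (fun v => ‖v.1‖⁻¹ • v.1) fun v w ⟨c, hc, h⟩ => by
    show _ = ‖w.1‖⁻¹ • w.1
    rw [h, norm_smul, Real.norm_of_nonneg hc.le, smul_smul, mul_inv, mul_right_comm,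
      inv_mul_cancel₀ hc.ne', one_mul]

lemma rays_t2 : T2Space (Fan.Rays N) := by
  refine T2Space.of_injective_continuous (f := unitVec) ?_ ?_
  · intro r r' h
    induction r using Quot.ind with
    | mk v =>
      induction r' using Quot.ind with
      | mk w =>
        replace h : ‖v.1‖⁻¹ • v.1 = ‖w.1‖⁻¹ • w.1 := h
        have hv : 0 < ‖v.1‖ := norm_pos_iff.2 v.2
        have hw : 0 < ‖w.1‖ := norm_pos_iff.2 w.2
        refine Quot.sound ⟨‖w.1‖ / ‖v.1‖, div_pos hw hv, ?_⟩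
        rw [div_eq_mul_inv, mul_smul, h, smul_smul, mul_inv_cancel₀ hw.ne', one_smul]
  · refine continuous_quot_lift _ ?_
    exact (Continuous.inv₀ continuous_subtype_val.norm fun v => norm_ne_zero_iff.2 v.2).smul
      continuous_subtype_val

lemma inCone_iff (G : Finset (Fin N → ℤ)) (x : Fin N → ℝ) :
    (∃ c : (Fin N → ℤ) → ℝ, (∀ g, 0 ≤ c g) ∧ x = Finset.sum G fun g => c g • fun j => (g j : ℝ)) ↔
      InCone G x := by
  classical
  refine ⟨fun ⟨c, hc, h⟩ => ⟨c, fun g _ => hc g, h⟩, fun ⟨c, hc, h⟩ =>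
    ⟨fun g => if g ∈ G then c g else 0, fun g => ?_, ?_⟩⟩
  · dsimp only
    split
    · exact hc g ‹_›
    · exact le_rfl
  · rw [h]
    exact Finset.sum_congr rfl fun g hg => by dsimp only; rw [if_pos hg]; rfl


/-- Let K a ⊆ ℝ^N, for a in a finite index type, be cones, each expressible as finitely many rational
polyhedral cones put together (nonnegative real spans of finite sets of integer vectors). Then the
canonical map from the projective realization of the formal fan R(K) to the space of rays of ℝ^N (a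
model of the sphere), sending the point given by a cone φ and a vector v to the ray of φ v, is a
homeomorphism onto the rays through ⋃ K a: it is a topological embedding with that image. (The
published lemma also asserts that the affine realization of R(K), defined as a colimit over the
category of cones of R(K), maps homeomorphically onto ⋃ K a; that fails at the cone point, since for
the pair of coordinate rays of ℝ^2 the colimit has two origins and for ⋃ K a = 0 it is empty, and it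
is not stated here.) -/
theorem result {N : ℕ} {ι : Type} [Finite ι] (K : ι → Set (Fin N → ℝ))
    (hK : ∀ a, ∃ (m : ℕ) (gen : Fin m → Finset (Fin N → ℤ)),
      K a = Set.iUnion fun l => {x | ∃ c : (Fin N → ℤ) → ℝ, (∀ g, 0 ≤ c g) ∧
        x = Finset.sum (gen l) fun g => c g • fun j => (g j : ℝ)}) :
    ∃ g : Fan.P (RFan K) → Fan.Rays N,
      (∀ (n : ICone) (φ : (RFan K).obj (op n)) (v : Fan.Orth n) (h : RFan.toVec K n φ v.1 ≠ 0),
        g (Fan.P.mk φ v) = Quot.mk _ ⟨RFan.toVec K n φ v.1, h⟩) ∧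
      Topology.IsEmbedding g ∧
      Set.range g = {r | ∃ w : {w : Fin N → ℝ // w ≠ 0}, r = Quot.mk _ w ∧ w.1 ∈ Set.iUnion K} := by
  classical
  have hclosed : IsClosed (Set.iUnion K) := by
    refine isClosed_iUnion_of_finite fun a => ?_
    obtain ⟨m, gen, hgen⟩ := hK a
    rw [hgen]
    refine isClosed_iUnion_of_finite fun l => ?_
    simpa only [inCone_iff] using isClosed_inCone (gen l)
  have hne : ∀ (n : ICone) (φ : (RFan K).obj (op n)) (v : Fan.Orth n), RFan.toVec K n φ v.1 ≠ 0 :=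
    fun n φ v h => v.2.2 (rlin_injective φ.2.1 (by rw [map_zero]; exact h))
  let g : Fan.P (RFan K) → Fan.Rays N :=
    Quot.lift (fun p => Quot.mk _ ⟨RFan.toVec K p.1.1 p.1.2 p.2.1, hne _ _ _⟩) (by
      rintro _ _ ⟨φ, ξ, v, w, c, hc, h⟩
      refine Quot.sound ⟨c, hc, ?_⟩
      show rlin ξ.1 w.1 = c • rlin (ξ.1.comp φ.toLin) v.1
      rw [rlin_comp, h, map_smul]
      rfl)
  have hg : ∀ (n : ICone) (φ : (RFan K).obj (op n)) (v : Fan.Orth n),
      g (P.mk φ v) = Quot.mk _ ⟨RFan.toVec K n φ v.1, hne n φ v⟩ := fun _ _ _ => rfl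
  have hinj : Function.Injective g := by
    intro x x' hxx
    obtain ⟨n, φ, v, rfl⟩ := exists_rep x
    obtain ⟨n', φ', v', rfl⟩ := exists_rep x'
    have := congrArg unitVec hxx
    simp only [hg] at this
    replace this : ‖rlin φ.1 v.1‖⁻¹ • rlin φ.1 v.1 = ‖rlin φ'.1 v'.1‖⁻¹ • rlin φ'.1 v'.1 := this
    have hv : 0 < ‖rlin φ.1 v.1‖ := norm_pos_iff.2 (hne n φ v)
    have hv' : 0 < ‖rlin φ'.1 v'.1‖ := norm_pos_iff.2 (hne n' φ' v')
    set r := ‖rlin φ.1 v.1‖ / ‖rlin φ'.1 v'.1‖ with hr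
    have hr0 : 0 < r := div_pos hv hv'
    have heq : rlin φ.1 v.1 = rlin φ'.1 (r • v'.1) := by
      rw [map_smul, hr, div_eq_mul_inv, mul_smul, ← this, smul_smul, mul_inv_cancel₀ hv.ne',
        one_smul]
    obtain ⟨s, hs, hcov⟩ := exists_common_pieces φ.1 φ.2.1 φ'.1 φ'.2.1
    obtain ⟨⟨l, χ, χ'⟩, hl, z, hz, hz'⟩ :=
      hcov v.1 (r • v'.1) v.2.1 (oscale r hr0 v').2.1 v.2.2 heq
    dsimp only at hz hz'
    refine (mk_eq_iff _ _ _ _).2 ⟨l, χ, χ', z, 1, r⁻¹, Subtype.ext (hs _ hl), one_pos,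
      inv_pos.2 hr0, by rw [one_smul, hz], ?_⟩
    rw [← hz', smul_smul, inv_mul_cancel₀ hr0.ne', one_smul]
  have hcont : Continuous g := by
    refine continuous_quot_lift _ (continuous_quot_mk.comp ?_)
    refine continuous_sigma fun e => Continuous.subtype_mk ?_ _
    exact (continuous_rlin e.2.1).comp continuous_subtype_val
  have htoVec : ∀ (n : ICone) (φ : (RFan K).obj (op n)) (v : Fan.Orth n),
      RFan.toVec K n φ v.1 ∈ Set.iUnion K := by
    intro n φ v
    obtain ⟨a, ha⟩ := φ.2.2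
    have key : Filter.Tendsto
        (fun M : ℕ => (fun i => ((⌈v.1 i * M⌉ : ℤ) : ℝ) / M)) Filter.atTop (nhds v.1) := by
      rw [tendsto_pi_nhds]
      exact fun i => (tendsto_nat_ceil_mul_div_atTop (v.2.1 i)).comp tendsto_natCast_atTop_atTop
        |>.congr fun M => by
          simp [← natCast_ceil_eq_intCast_ceil (mul_nonneg (v.2.1 i) M.cast_nonneg)]
    obtain ⟨m, gen, hgen⟩ := hK a
    refine hclosed.mem_of_tendsto (((continuous_rlin φ.1).tendsto _).comp key) ?_
    refine Filter.Eventually.of_forall fun M => ?_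
    have h1 := ha (fun i => ⌈v.1 i * M⌉) fun i => Int.ceil_nonneg (mul_nonneg (v.2.1 i) M.cast_nonneg)
    rw [hgen] at h1
    obtain ⟨l, hl⟩ := Set.mem_iUnion.1 h1
    refine Set.mem_iUnion.2 ⟨a, hgen ▸ Set.mem_iUnion.2 ⟨l, ?_⟩⟩
    refine (inCone_iff _ _).2 ?_
    have e : rlin φ.1 (fun i => ((⌈v.1 i * M⌉ : ℤ) : ℝ) / M) =
        (M : ℝ)⁻¹ • castV (φ.1 fun i => ⌈v.1 i * M⌉) := by
      rw [← rlin_cast, ← map_smul]
      congr 1
      ext i
      simp [castV, div_eq_inv_mul]
    show InCone (gen l) (rlin φ.1 _)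
    rw [e]
    exact ((inCone_iff _ _).1 hl).smul (inv_nonneg.2 M.cast_nonneg)
  choose mnum gen hgen using hK
  choose s hs hcov using fun (p : Σ a, Fin (mnum a)) => exists_pieces (gen p.1 p.2)
  let T : Finset (Piece (Fin N)) :=
    haveI := Fintype.ofFinite ι
    Finset.univ.biUnion s
  have hT : ∀ p ∈ T, Function.Injective p.2 ∧
      ∃ a, ∀ v : Fin p.1 → ℤ, (∀ i, 0 ≤ v i) → (fun j => (p.2 v j : ℝ)) ∈ K a := by
    intro p hp
    obtain ⟨q, -, hq⟩ := Finset.mem_biUnion.1 hp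
    obtain ⟨hinjp, hcol⟩ := hs q p hq
    refine ⟨fun w w' h => ?_, q.1, fun w hw => ?_⟩
    · have := hinjp (show rlin p.2 (castV w) = rlin p.2 (castV w') by rw [rlin_cast, rlin_cast, h])
      funext i
      exact Int.cast_injective (congrFun this i : (w i : ℝ) = w' i)
    · rw [hgen]
      refine Set.mem_iUnion.2 ⟨q.2, (inCone_iff _ _).2 ?_⟩
      have e : (fun j => (p.2 w j : ℝ)) = ∑ i, (w i : ℝ) • castV (p.2 (Pi.single i 1)) := by
        funext j
        rw [expand p.2 w j]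
        push_cast
        simp only [Finset.sum_apply, Pi.smul_apply, castV, smul_eq_mul]
        exact Finset.sum_congr rfl fun i _ => mul_comm _ _
      rw [e]
      exact Finset.sum_induction _ _ (fun _ _ => InCone.add) ⟨0, fun _ _ => le_rfl, by simp⟩
        fun i _ => (inCone_self (hcol i)).smul (by exact_mod_cast hw i)
  let cell : T → (Σ n : ICone, (RFan K).obj (op n)) := fun p =>
    ⟨⟨p.1.1⟩, ⟨p.1.2, hT p.1 p.2⟩⟩
  have hsurj : ∀ w : Fin N → ℝ, ∀ hw : w ≠ 0, w ∈ Set.iUnion K →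
      ∃ (p : T) (z : Fan.Orth (cell p).1), g (P.mk (cell p).2 z) = Quot.mk _ ⟨w, hw⟩ := by
    intro w hw hwK
    obtain ⟨a, ha⟩ := Set.mem_iUnion.1 hwK
    rw [hgen] at ha
    obtain ⟨l, hl⟩ := Set.mem_iUnion.1 ha
    obtain ⟨p, hp, z, hz, hwz⟩ := hcov ⟨a, l⟩ w ((inCone_iff _ _).1 hl) hw
    have hpT : p ∈ T := Finset.mem_biUnion.2 ⟨⟨a, l⟩, by simp, hp⟩
    refine ⟨⟨p, hpT⟩, ⟨z, fun i => (hz i).le, fun h => (hz ⟨0, p.1.pos⟩).ne' (congrFun h _)⟩, ?_⟩
    refine congrArg (Quot.mk _) (Subtype.ext ?_)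
    exact hwz.symm
  have hcompact : CompactSpace (Fan.P (RFan K)) := by
    refine ⟨?_⟩
    have : (Set.univ : Set (Fan.P (RFan K))) =
        ⋃ p : T, P.mk (cell p).2 '' {v | total v = 1} := by
      refine (Set.eq_univ_of_forall fun x => ?_).symm
      obtain ⟨n, φ, v, rfl⟩ := exists_rep x
      obtain ⟨p, z, hz⟩ := hsurj _ (hne n φ v) (htoVec n φ v)
      exact Set.mem_iUnion.2 ⟨p, normO z, total_normO z, hinj (by rw [mk_normO, hz, hg])⟩
    rw [this]
    exact isCompact_iUnion fun p => isCompact_slice.image (continuous_mk _)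
  refine ⟨g, fun n φ v h => rfl, ?_, ?_⟩
  · have := rays_t2 (N := N)
    exact (hcont.isClosedEmbedding hinj).isEmbedding
  · ext r
    constructor
    · rintro ⟨x, rfl⟩
      obtain ⟨n, φ, v, rfl⟩ := exists_rep x
      exact ⟨_, rfl, htoVec n φ v⟩
    · rintro ⟨⟨w, hw⟩, rfl, hwK⟩
      obtain ⟨p, z, hz⟩ := hsurj w hw hwK
      exact ⟨P.mk (F := RFan K) (cell p).2 z, hz⟩

end Groth.Agent.S19372
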