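import Groth.Statements.S19373
import Groth.Agent.FanLib.Basic

set_option autoImplicit false
universe u
open CategoryTheory Opposite Instab
open Instab Instab.Fan

namespace Groth.Agent.S19373

open Groth.Agent.FanLib

/-- Let G be a quasi-separated formal fan, ξ an n-cone and ξ' an n'-cone of G. The pairs of points of
the rational simplices of ξ and ξ' with the same image in P G form a finite union of diagonally
embedded common rational sub-simplices: there is a finite set of pairs of cone morphisms φ : [k] ⟶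
[n], φ' : [k] ⟶ [n'] with G(φ) ξ = G(φ') ξ' such that nonzero nonnegative vectors v of ℝ^n and w of
ℝ^n' give the same point of P G if and only if, for one of these pairs and some nonzero nonnegative
y in ℝ^k, v is a positive multiple of φ y and w is a positive multiple of φ' y. (The assertion that
the image of finitely many rational simplices carries the quotient topology is not stated.) -/
theorem result (G : Fan.{u}) (hG : G.IsQuasiSeparated)
    {n n' : ICone} (ξ : G.obj (op n)) (ξ' : G.obj (op n')) :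
    ∃ s : Finset (Σ k : ICone, (k ⟶ n) × (k ⟶ n')),
      (∀ e ∈ s, G.map e.2.1.op ξ = G.map e.2.2.op ξ') ∧
      ∀ (v : Fan.Orth n) (w : Fan.Orth n'), Fan.P.mk ξ v = Fan.P.mk ξ' w ↔
        ∃ e ∈ s, ∃ (y : Fan.Orth e.1) (c c' : ℝ), 0 < c ∧ 0 < c' ∧
          v.1 = c • e.2.1.realMap y.1 ∧ w.1 = c' • e.2.2.realMap y.1 := by
  classical
  obtain ⟨s, hs, hcov⟩ := exists_cover (ψ := coneMap ξ) (σ := ξ') (hG n n' ξ ξ')
  refine ⟨s.image fun e => ⟨e.1, e.2.1.down, e.2.2⟩, fun e he => ?_, fun v w => ⟨fun h => ?_, ?_⟩⟩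
  · obtain ⟨e, he', rfl⟩ := Finset.mem_image.1 he
    exact hs e he'
  · obtain ⟨k, φ₁, φ₂, y, c₁, c₂, e, hc₁, hc₂, h1, h2⟩ := (mk_eq_iff _ _ _ _).1 h
    obtain ⟨q, hq, z, c, hc, hz, hz'⟩ := hcov (ULift.up φ₁) φ₂ e y
    obtain ⟨m, χ₁, χ₂, t, d₁, d₂, e', hd₁, hd₂, g1, g2⟩ := (mk_eq_iff _ _ _ _).1 hz'
    have e'' : χ₁ ≫ φ₁ = χ₂ ≫ q.2.1.down := congrArg ULift.down e'
    refine ⟨_, Finset.mem_image.2 ⟨q, hq, rfl⟩, z, c₁ * d₁ / d₂, c₂ * c, by positivity,
      by positivity, ?_, by rw [h2, hz, smul_smul]⟩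
    rw [h1, g1, g2, realMap_smul, realMap_smul, ← realMap_comp, ← realMap_comp, e'', smul_smul,
      smul_smul, div_mul_cancel₀ _ hd₂.ne']
  · rintro ⟨e, he, y, c, c', hc, hc', hv, hw⟩
    obtain ⟨q, hq, rfl⟩ := Finset.mem_image.1 he
    rw [← mk_map ξ y v hc hv, ← mk_map ξ' y w hc' hw]
    exact congrArg (P.mk · y) (hs q hq)

end Groth.Agent.S19373
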