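import Groth.Statements.S19374
import Groth.Agent.FanLib.Basic

set_option autoImplicit false
universe u
open CategoryTheory Opposite Instab
open Instab Instab.Fan

namespace Groth.Agent.S19374

open Groth.Agent.FanLib

/-- Let F be a formal fan and U ⊆ P F. Then U is locally convex in the simplex-wise sense — for every
rational simplex, a ray lying strictly between two rays that map into U also maps into U — if and
only if, for every n-cone ξ of F, the set of nonzero nonnegative vectors v of ℝ^n whose point of the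
rational simplex of ξ lies in U is a convex subset of ℝ^n (convexity of the preimage of U in each
punctured cone of the affine realization). -/
theorem result (F : Fan.{u}) (U : Set (Fan.P F)) :
    Fan.IsLocallyConvex U ↔
      ∀ (n : ICone) (ξ : F.obj (op n)),
        Convex ℝ {v : Fin n.dim → ℝ | ∃ h : (∀ i, 0 ≤ v i) ∧ v ≠ 0, Fan.P.mk ξ (⟨v, h⟩ : Fan.Orth n) ∈ U} := by
  constructor
  · intro h n ξ
    rw [convex_iff_forall_pos]
    rintro v₀ ⟨h₀, m₀⟩ v₂ ⟨h₂, m₂⟩ a b ha hb -
    have hnn : ∀ i, 0 ≤ (a • v₀ + b • v₂) i := fun i =>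
      add_nonneg (mul_nonneg ha.le (h₀.1 i)) (mul_nonneg hb.le (h₂.1 i))
    have hne : a • v₀ + b • v₂ ≠ 0 := fun h0 => h₀.2 (funext fun i => by
      have := congrFun h0 i
      simp only [Pi.add_apply, Pi.smul_apply, smul_eq_mul, Pi.zero_apply] at this
      have h1 := mul_nonneg ha.le (h₀.1 i)
      have h2 := mul_nonneg hb.le (h₂.1 i)
      exact (mul_eq_zero.1 (le_antisymm (by linarith) h1)).resolve_left ha.ne')
    exact ⟨⟨hnn, hne⟩, h n ξ ⟨v₀, h₀⟩ ⟨_, hnn, hne⟩ ⟨v₂, h₂⟩ m₀ m₂ ⟨a, b, ha, hb, rfl⟩⟩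
  · rintro h n ξ v₀ v₁ v₂ m₀ m₂ ⟨a, b, ha, hb, hv⟩
    obtain ⟨_, hm⟩ := h n ξ (x := v₀.1) ⟨v₀.2, m₀⟩ (y := v₂.1) ⟨v₂.2, m₂⟩
      (show 0 ≤ a / (a + b) by positivity) (show 0 ≤ b / (a + b) by positivity) (by field_simp)
    have e : P.mk ξ (⟨_, ‹_›⟩ : Fan.Orth n) = P.mk ξ v₁ :=
      mk_scale ξ (c := a + b) (by positivity) (by
        show v₁.1 = (a + b) • ((a / (a + b)) • v₀.1 + (b / (a + b)) • v₂.1)
        rw [smul_add, smul_smul, smul_smul, mul_div_cancel₀ _ (by positivity), mul_div_cancel₀ _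
          (by positivity), hv])
    exact e ▸ hm

end Groth.Agent.S19374
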