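import Groth.Statements.S19378
import Groth.Agent.EGA4Lib.FibreLoc
import Groth.Agent.EGA4Lib.FibreComp
import Groth.Agent.S2611

set_option linter.style.haveILetI false

set_option autoImplicit false
universe u
open EGA4

namespace Groth.Agent.S19378

/-- Let A be a Noetherian ring, J a proper ideal of A, Â the J-adic completion and A_T the localization
of A at T = 1 + J. If the canonical map A → Â is a normal homomorphism (flat with geometrically
normal fibres), then A_T is a normal ring (all local rings integrally closed domains) if and only if
Â is. (The case of the henselization of the pair and of the weak completion is not stated here.) -/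
theorem result
    (A : Type u) [CommRing A] [IsNoetherianRing A] (J : Ideal A) (hJ : J ≠ ⊤)
    (hf : EGA4.IsNormalHom A (AdicCompletion J A))
    (T : Submonoid A) (hT : T = MonoidHom.mker (Ideal.Quotient.mk J)) :
    EGA4.IsNormalRing (Localization T) ↔ EGA4.IsNormalRing (AdicCompletion J A) := by
  haveI : IsNoetherianRing (AdicCompletion J A) := RegLoc.Completion.isNoetherianRing_adicCompletion' J
  obtain ⟨_, _, _⟩ := EGA4Lib.exists_oneAdd_algebra J T hT
  constructor
  · intro h q _
    haveI := hf.1
    obtain ⟨P, _, ⟨e⟩⟩ := EGA4Lib.nonempty_localization_disjoint (T := T) (q.comap (algebraMap A _))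
      (hT ▸ EGA4Lib.disjoint_oneAdd J q)
    haveI := (h P).1
    haveI := (h P).2
    haveI := e.toMulEquiv.isDomain (Localization.AtPrime P)
    haveI := IsIntegrallyClosed.of_equiv e.symm
    exact S2611.result A (AdicCompletion J A) (fun q' _ => EGA4Lib.isNormalRing_localization_fibre A hf.2 q') q
  · exact EGA4Lib.isNormalRing_of_faithfullyFlat _ _

end Groth.Agent.S19378
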