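import Groth.Statements.S19375
import Groth.Agent.HenGeomInt.NormalConn
import Groth.Agent.S19378
import Groth.Agent.GeomFieldLib.NormalRing
import Groth.Agent.Adic.Rig.Hom
import Groth.Agent.Hensel.Pair
-- import your own Groth.Agent.* helpers here

set_option autoImplicit false
universe u
open EGA4

namespace Groth.Agent.S19375

/-- Let A be a Noetherian ring, J a proper ideal of A, Â the J-adic completion of A and A_T the
localization of A at the multiplicative set T = 1 + J (the elements congruent to 1 modulo J). Assume
that the canonical map A → Â is a normal homomorphism (flat, with geometrically normal fibres), as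
happens when A is excellent. Then Â is an integrally closed domain if and only if A_T is an
integrally closed domain and the spectrum of A/J is connected. (The published statement asserts the
equivalence of the first two conditions alone; for A = ℤ and J = 6ℤ the localization A_T is an
integrally closed domain while Â ≅ ℤ_2 × ℤ_3 is not a domain, and the published proof tacitly uses
that Spec Â, whose connected components correspond to those of Spec(A/J), is connected. The case of
the henselization of the pair and of the weak completion is not stated here.) -/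
theorem result
    (A : Type u) [CommRing A] [IsNoetherianRing A] (J : Ideal A) (hJ : J ≠ ⊤)
    (hf : EGA4.IsNormalHom A (AdicCompletion J A))
    (T : Submonoid A) (hT : T = MonoidHom.mker (Ideal.Quotient.mk J)) :
    (IsDomain (AdicCompletion J A) ∧ IsIntegrallyClosed (AdicCompletion J A)) ↔
      ((IsDomain (Localization T) ∧ IsIntegrallyClosed (Localization T)) ∧
        ConnectedSpace (PrimeSpectrum (A ⧸ J))) := by
  classical
  haveI : IsNoetherianRing (AdicCompletion J A) := Groth.Agent.RegLoc.Completion.isNoetherianRing_adicCompletion' J
  have hfg : J.FG := IsNoetherian.noetherian J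
  let C := AdicCompletion J A
  let JC := J.map (algebraMap A C)
  haveI : IsAdicComplete JC C := Groth.Agent.Adic.Rig.isAdicComplete_map hfg
  let π : C →+* A ⧸ J := (Ideal.Quotient.factor (le_of_eq (pow_one J))).comp (AdicCompletion.evalₐ J 1).toRingHom
  have hπa : ∀ a, π (algebraMap A C a) = Ideal.Quotient.mk J a := fun a => by
    show Ideal.Quotient.factor (le_of_eq (pow_one J)) (AdicCompletion.evalₐ J 1 (algebraMap A C a)) = _
    rw [AlgHom.commutes, Ideal.Quotient.algebraMap_eq, Ideal.Quotient.factor_mk]
  have hπk : ∀ z, π z = 0 → z ∈ JC := fun z hz => by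
    obtain ⟨c, hc⟩ := Groth.Agent.Adic.Rig.exists_sub_mem_pow_map hfg z 1
    rw [pow_one] at hc
    have h1 : π (z - algebraMap A C c) = 0 := by
      have hle : JC ≤ RingHom.ker π := by
        rw [Ideal.map_le_iff_le_comap]
        intro a ha
        show π (algebraMap A C a) = 0
        rw [hπa, Ideal.Quotient.eq_zero_iff_mem]
        exact ha
      exact hle hc
    rw [map_sub, hz, zero_sub, neg_eq_zero, hπa, Ideal.Quotient.eq_zero_iff_mem] at h1
    have := JC.add_mem hc (Ideal.mem_map_of_mem (algebraMap A C) h1)
    rwa [sub_add_cancel] at this
  haveI : Nontrivial (A ⧸ J) := Ideal.Quotient.nontrivial_iff.2 hJ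
  haveI : Nontrivial C := π.domain_nontrivial
  constructor
  · rintro ⟨hd, hic⟩
    haveI := hd
    haveI := hic
    have hN := (Groth.Agent.S19378.result A J hJ hf T hT).2 (Groth.Agent.GeomFieldLib.isNormalRing_of_isDomain C)
    obtain ⟨_, _, hff⟩ := Groth.Agent.EGA4Lib.exists_oneAdd_algebra J T hT
    haveI := hff
    haveI hdT : IsDomain (Localization T) := (FaithfulSMul.algebraMap_injective (Localization T) C).isDomain
    refine ⟨⟨hdT, IsIntegrallyClosed.of_localization_maximal fun p _ _ => (hN p).2⟩, ?_⟩
    refine Groth.Agent.HenGeomInt.connectedSpace_of_idempotent_trivial fun e he => ?_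
    obtain ⟨a, rfl⟩ := Ideal.Quotient.mk_surjective e
    have hmem : algebraMap A C a * algebraMap A C a - algebraMap A C a ∈ JC := by
      rw [← map_mul, ← map_sub]
      exact Ideal.mem_map_of_mem _ (Ideal.Quotient.eq.1 (by rw [map_mul]; exact he))
    obtain ⟨e', he', hsub⟩ := Groth.Agent.Hensel.exists_isIdempotentElem_lift' (A := C) (I := JC) (B := C)
      (e := algebraMap A C a) (by rwa [Algebra.algebraMap_self, Ideal.map_id])
    rw [Algebra.algebraMap_self, Ideal.map_id] at hsub
    have hle : JC ≤ RingHom.ker π := by
      rw [Ideal.map_le_iff_le_comap]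
      intro b hb
      show π (algebraMap A C b) = 0
      rw [hπa, Ideal.Quotient.eq_zero_iff_mem]
      exact hb
    have heq : π e' = Ideal.Quotient.mk J a := by
      rw [← hπa, ← sub_eq_zero, ← map_sub]
      exact hle hsub
    rcases (IsIdempotentElem.iff_eq_zero_or_one).1 he' with h | h
    · left; rw [← heq, h, map_zero]
    · right; rw [← heq, h, map_one]
  · rintro ⟨⟨hd, hic⟩, hconn⟩
    haveI := hd
    haveI := hic
    have hN := (Groth.Agent.S19378.result A J hJ hf T hT).1 (Groth.Agent.GeomFieldLib.isNormalRing_of_isDomain _)
    haveI := hconn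
    haveI hdC : IsDomain C := Groth.Agent.HenGeomInt.isDomain_of_isNormalRing hN fun e he => by
      have hsmall : ∀ x : C, x * x = x → π x = 0 → x = 0 := fun x hx hx0 => by
        have hu : IsUnit (1 - x) := by
          have := Ideal.mem_jacobson_bot.1 (IsAdicComplete.le_jacobson_bot JC (hπk x hx0)) (-1)
          rwa [mul_neg_one, add_comm, ← sub_eq_add_neg] at this
        exact hu.mul_right_eq_zero.1 (by rw [sub_mul, one_mul, hx, sub_self])
      rcases Groth.Agent.HenGeomInt.idempotent_trivial_of_connected (π e) (by rw [← map_mul, he]) with h | h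
      · exact .inl (hsmall e he h)
      · refine .inr ?_
        have := hsmall (1 - e) (by linear_combination he) (by rw [map_sub, h, map_one, sub_self])
        exact (sub_eq_zero.1 this).symm
    exact ⟨hdC, IsIntegrallyClosed.of_localization_maximal fun p _ _ => (hN p).2⟩

end Groth.Agent.S19375
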