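import Groth.Statements.S19376
import Groth.Agent.Adic.ComplLift
import Groth.Agent.Adic.Basic
import Mathlib.RingTheory.AdicCompletion.LocalRing

set_option autoImplicit false
universe u
open EGA4

set_option linter.style.haveILetI false

namespace Groth.Agent.S19376

/-- Let V be an excellent normal ring with no additive torsion, I an ideal of V such that (V, I) is a
henselian pair, A and C smooth V-algebras, and φ₀ a V-algebra homomorphism from A/IA to C/IC which
is finite. Then φ₀ lifts to a finite V-algebra homomorphism φ from the IA-adic completion of A to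
the IC-adic completion of C: composing φ with the projection onto C/IC equals the projection onto
A/IA followed by φ₀. (The published statement also treats finite flat, finite faithfully flat and
finite étale maps, whose proofs are referred elsewhere; only the finite case is stated.) -/
theorem result
    (V : Type u) [CommRing V] [IsAddTorsionFree V]
    (hexc : EGA4.IsExcellent V) (hV : EGA4.IsNormalRing V)
    (I : Ideal V) [HenselianRing V I]
    (A C : Type u) [CommRing A] [Algebra V A] [Algebra.Smooth V A]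
    [CommRing C] [Algebra V C] [Algebra.Smooth V C]
    (φ₀ : (A ⧸ I.map (algebraMap V A)) →ₐ[V] (C ⧸ I.map (algebraMap V C)))
    (hφ₀ : φ₀.toRingHom.Finite) :
    ∃ φ : AdicCompletion (I.map (algebraMap V A)) A →ₐ[V]
        AdicCompletion (I.map (algebraMap V C)) C,
      φ.toRingHom.Finite ∧
      (AdicCompletion.evalOneₐ (I.map (algebraMap V C))).toRingHom.comp φ.toRingHom =
        φ₀.toRingHom.comp (AdicCompletion.evalOneₐ (I.map (algebraMap V A))).toRingHom := by
  obtain ⟨hnoeth, -, -, -⟩ := hexc
  haveI := hnoeth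
  haveI : IsNoetherianRing A := Algebra.FiniteType.isNoetherianRing V A
  haveI : IsNoetherianRing C := Algebra.FiniteType.isNoetherianRing V C
  let IA : Ideal A := I.map (algebraMap V A)
  let IC : Ideal C := I.map (algebraMap V C)
  have hAfg : IA.FG := IsNoetherian.noetherian _
  have hCfg : IC.FG := IsNoetherian.noetherian _
  -- one step
  have hle : ∀ n, IC ^ (n + 2) ≤ IC ^ (n + 1) := fun n => Ideal.pow_le_pow_right (by omega)
  have hstep : ∀ (n : ℕ) (g : A →ₐ[V] C ⧸ IC ^ (n + 1)), ∃ g' : A →ₐ[V] C ⧸ IC ^ (n + 2),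
      (Ideal.Quotient.factorₐ V (hle n)).comp g' = g := by
    intro n g
    have hs : Function.Surjective (Ideal.Quotient.factorₐ V (hle n)) :=
      Ideal.Quotient.factor_surjective (hle n)
    have hn : IsNilpotent (RingHom.ker (Ideal.Quotient.factorₐ V (hle n))) := by
      refine ⟨2, ?_⟩
      rw [show RingHom.ker (Ideal.Quotient.factorₐ V (hle n)) =
          (IC ^ (n + 1)).map (Ideal.Quotient.mk (IC ^ (n + 2))) from Ideal.Quotient.factor_ker (hle n),
        ← Ideal.map_pow (Ideal.Quotient.mk (IC ^ (n + 2))), ← pow_mul, Ideal.zero_eq_bot, Ideal.map_eq_bot_iff_le_ker, Ideal.mk_ker]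
      exact Ideal.pow_le_pow_right (by omega)
    exact ⟨Algebra.FormallySmooth.liftOfSurjective g _ hs hn,
      Algebra.FormallySmooth.comp_liftOfSurjective g _ hs hn⟩
  choose next hnext using hstep
  let g₁ : A →ₐ[V] C ⧸ IC ^ (0 + 1) :=
    ((Ideal.quotientEquivAlgOfEq V (show IC = IC ^ (0 + 1) by simp)).toAlgHom).comp
      (φ₀.comp (Ideal.Quotient.mkₐ V IA))
  let s : (n : ℕ) → (A →ₐ[V] C ⧸ IC ^ (n + 1)) := fun n => Nat.rec g₁ next n
  have hs : ∀ m n (h : m ≤ n),
      (Ideal.Quotient.factorₐ V (Ideal.pow_le_pow_right (show m + 1 ≤ n + 1 by omega))).comp (s n) =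
        s m := by
    intro m n h
    induction n, h using Nat.le_induction with
    | base =>
      refine AlgHom.ext fun x => ?_
      obtain ⟨c, hc⟩ := Ideal.Quotient.mk_surjective (s m x)
      show Ideal.Quotient.factor (le_refl (IC ^ (m + 1))) (s m x) = s m x
      rw [← hc]
      rfl
    | succ n hmn ih =>
      rw [← ih]
      conv_rhs => rw [show s n = (Ideal.Quotient.factorₐ V (hle n)).comp (s (n + 1)) from
        (hnext n (s n)).symm]
      exact AlgHom.ext fun x => (Ideal.Quotient.factor_comp_apply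
        (hle n) (Ideal.pow_le_pow_right (show m + 1 ≤ n + 1 by omega)) (s (n + 1) x)).symm
  let f : (n : ℕ) → (A →ₐ[V] C ⧸ IC ^ n) := fun n =>
    (Ideal.Quotient.factorₐ V (Ideal.pow_le_pow_right n.le_succ)).comp (s n)
  have hf : ∀ {m n : ℕ} (h : m ≤ n),
      (Ideal.Quotient.factorₐ V (Ideal.pow_le_pow_right h)).comp (f n) = f m := by
    intro m n h
    refine AlgHom.ext fun x => ?_
    show Ideal.Quotient.factor (Ideal.pow_le_pow_right h)
        (Ideal.Quotient.factor (Ideal.pow_le_pow_right n.le_succ) (s n x)) =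
      Ideal.Quotient.factor (Ideal.pow_le_pow_right m.le_succ) (s m x)
    rw [← hs m n h]
    show _ = Ideal.Quotient.factor (Ideal.pow_le_pow_right m.le_succ)
      (Ideal.Quotient.factor (Ideal.pow_le_pow_right (show m + 1 ≤ n + 1 by omega)) (s n x))
    rw [Ideal.Quotient.factor_comp_apply, Ideal.Quotient.factor_comp_apply]
  let h0 : A →ₐ[V] AdicCompletion IC C := AdicCompletion.liftAlgHom IC f hf
  have h0one : ∀ a, AdicCompletion.evalOneₐ IC (h0 a) = φ₀ (Ideal.Quotient.mk IA a) := by
    intro a
    rw [AdicCompletion.evalOneₐ_liftAlgHom]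
    obtain ⟨c, hc⟩ := Ideal.Quotient.mk_surjective (s 1 a)
    obtain ⟨c₀, hc₀⟩ := Ideal.Quotient.mk_surjective (φ₀ (Ideal.Quotient.mk IA a))
    have h01 := congrArg (fun φ : A →ₐ[V] C ⧸ IC ^ (0 + 1) => φ a) (hs 0 1 (by omega))
    simp only [AlgHom.comp_apply] at h01
    rw [← hc] at h01
    change Ideal.Quotient.mk (IC ^ (0 + 1)) c =
      Ideal.quotEquivOfEq (show IC = IC ^ (0 + 1) by simp) (φ₀ (Ideal.Quotient.mk IA a)) at h01
    rw [← hc₀, Ideal.quotEquivOfEq_mk, Ideal.Quotient.eq] at h01
    have h01' : c - c₀ ∈ IC := Ideal.pow_le_self (by omega) h01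
    rw [← hc₀, ← Ideal.Quotient.eq.2 h01']
    show Ideal.Quotient.factor (show IC ^ 1 ≤ IC by simp)
      (Ideal.Quotient.factor (Ideal.pow_le_pow_right (show 1 ≤ 1 + 1 by omega)) (s 1 a)) = _
    rw [← hc]
    rfl
  have hmapC : IC.map (algebraMap C (AdicCompletion IC C)) =
      I.map (algebraMap V (AdicCompletion IC C)) := by
    rw [show IC = I.map (algebraMap V C) from rfl, Ideal.map_map, ← IsScalarTower.algebraMap_eq]
  have hmapA : IA.map (algebraMap A (AdicCompletion IA A)) =
      I.map (algebraMap V (AdicCompletion IA A)) := by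
    rw [show IA = I.map (algebraMap V A) from rfl, Ideal.map_map, ← IsScalarTower.algebraMap_eq]
  haveI hcC : IsAdicComplete (I.map (algebraMap V (AdicCompletion IC C))) (AdicCompletion IC C) := by
    rw [← hmapC]; exact AdicCompletion.isAdicComplete_self IC hCfg
  let φ : AdicCompletion IA A →ₐ[V] AdicCompletion IC C := Groth.Agent.Adic.complLift I h0
  have hkerC : RingHom.ker (AdicCompletion.evalOneₐ IC).toRingHom =
      I.map (algebraMap V (AdicCompletion IC C)) := by
    rw [AdicCompletion.ker_evalOneₐ_eq_map IC hCfg, hmapC]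
  have hkerA : RingHom.ker (AdicCompletion.evalOneₐ IA).toRingHom =
      I.map (algebraMap V (AdicCompletion IA A)) := by
    rw [AdicCompletion.ker_evalOneₐ_eq_map IA hAfg, hmapA]
  have hφI : (I.map (algebraMap V (AdicCompletion IA A))).map φ.toRingHom =
      I.map (algebraMap V (AdicCompletion IC C)) := by
    rw [Ideal.map_map]
    exact congrArg (fun ψ => Ideal.map ψ I) φ.comp_algebraMap
  have hone : ∀ x, AdicCompletion.evalOneₐ IC (φ x) = φ₀ (AdicCompletion.evalOneₐ IA x) := by
    intro x
    obtain ⟨a, ha⟩ := Ideal.Quotient.mk_surjective (AdicCompletion.evalOneₐ IA x)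
    have hxa : x - algebraMap A (AdicCompletion IA A) a ∈
        I.map (algebraMap V (AdicCompletion IA A)) := by
      rw [← hkerA, RingHom.mem_ker]
      show AdicCompletion.evalOneₐ IA _ = 0
      rw [map_sub, ← ha]
      exact sub_self _
    have := Ideal.mem_map_of_mem φ.toRingHom hxa
    rw [hφI, ← hkerC, RingHom.mem_ker] at this
    have e : φ (algebraMap A (AdicCompletion IA A) a) = h0 a :=
      Groth.Agent.Adic.complLift_of I h0 a
    change AdicCompletion.evalOneₐ IC (φ (x - algebraMap A (AdicCompletion IA A) a)) = 0 at this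
    rw [map_sub, map_sub, sub_eq_zero, e, h0one] at this
    rw [this, ← ha]
  refine ⟨φ, ?_, RingHom.ext hone⟩
  -- finiteness
  letI : Algebra (AdicCompletion IA A) (AdicCompletion IC C) := φ.toRingHom.toAlgebra
  haveI : IsScalarTower V (AdicCompletion IA A) (AdicCompletion IC C) :=
    IsScalarTower.of_algebraMap_eq fun v => (φ.commutes v).symm
  set IA' := I.map (algebraMap V (AdicCompletion IA A)) with hIA'
  haveI : IsAdicComplete IA' (AdicCompletion IA A) := by
    rw [← hmapA]; exact AdicCompletion.isAdicComplete_self IA hAfg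
  haveI : IsHausdorff IA' (AdicCompletion IC C) := by
    have h' : IsHausdorff I (AdicCompletion IC C) :=
      (IsHausdorff.map_algebraMap_iff (S := AdicCompletion IC C)).1 hcC.toIsHausdorff
    exact (IsHausdorff.map_algebraMap_iff (S := AdicCompletion IA A)).2 h'
  show Module.Finite (AdicCompletion IA A) (AdicCompletion IC C)
  refine Groth.Agent.Adic.finite_of_finite_quot IA' ?_
  letI : Algebra (A ⧸ IA) (C ⧸ IC) := φ₀.toRingHom.toAlgebra
  haveI : Module.Finite (A ⧸ IA) (C ⧸ IC) := hφ₀
  obtain ⟨k, c, hc⟩ := Module.Finite.exists_fin (R := A ⧸ IA) (M := C ⧸ IC)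
  choose b hb using fun i => AdicCompletion.evalOneₐ_surjective IC (c i)
  refine Module.Finite.of_surjective ((IA' • (⊤ : Submodule (AdicCompletion IA A)
    (AdicCompletion IC C))).mkQ ∘ₗ Fintype.linearCombination (AdicCompletion IA A) b) ?_
  intro q
  obtain ⟨y, rfl⟩ := Submodule.mkQ_surjective _ q
  have hy : AdicCompletion.evalOneₐ IC y ∈ Submodule.span (A ⧸ IA) (Set.range c) := by
    rw [hc]; trivial
  obtain ⟨r, hr⟩ := (Submodule.mem_span_range_iff_exists_fun _).1 hy
  choose α hα using fun i => AdicCompletion.evalOneₐ_surjective IA (r i)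
  refine ⟨α, ?_⟩
  rw [LinearMap.comp_apply, Submodule.mkQ_apply, Submodule.mkQ_apply, Submodule.Quotient.eq]
  rw [Ideal.smul_top_eq_map, Submodule.restrictScalars_mem, RingHom.algebraMap_toAlgebra, hφI,
    ← hkerC, RingHom.mem_ker]
  show AdicCompletion.evalOneₐ IC _ = 0
  rw [map_sub, sub_eq_zero, ← hr, Fintype.linearCombination_apply, map_sum]
  refine Finset.sum_congr rfl fun i _ => ?_
  rw [Algebra.smul_def, map_mul, Algebra.smul_def, RingHom.algebraMap_toAlgebra, hb]
  exact congrArg (· * c i) ((hone (α i)).trans (congrArg φ₀ (hα i)))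

end Groth.Agent.S19376
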