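import Groth.Statements.S2333
import Groth.Agent.AmpleLib.Functorial

set_option autoImplicit false
set_option linter.style.haveILetI false
universe u
open CategoryTheory CategoryTheory.Limits AlgebraicGeometry
open EGA2

namespace Groth.Agent.S2333

/-- Let f : X → Y and g : Y → Z be morphisms of schemes with f quasi-compact, and L an O_X-module which
is ample relative to the composite g ∘ f. Then L is ample relative to f. (No separatedness
hypothesis on g is imposed.) -/
theorem result {X Y Z : Scheme.{u}} (f : X ⟶ Y) (g : Y ⟶ Z) [QuasiCompact f]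
    (L : X.Modules) (hL : RelAmple.IsRelAmple (f ≫ g) L) : RelAmple.IsRelAmple f L := by
  obtain ⟨-, hL', h⟩ := AmpleLib.isRelAmple_iff.mp hL
  choose Z hZ hyZ _ using fun y : Y ↦
    exists_isAffineOpen_mem_and_subset (X := Z) (x := g y) (U := ⊤) trivial
  choose W hW hyW hWZ using fun y : Y ↦
    exists_isAffineOpen_mem_and_subset (X := Y) (x := y) (U := g ⁻¹ᵁ Z y) (hyZ y)
  exact AmpleLib.isRelAmple_of_cover f W
    (fun y _ ↦ TopologicalSpace.Opens.mem_iSup.mpr ⟨y, hyW y⟩) hL'
    (fun y ↦ AmpleLib.ampleOn_mono hL' (h ⟨Z y, hZ y⟩) (f.preimage_mono (hWZ y))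
      (f.isCompact_preimage (hW y).isCompact))

end Groth.Agent.S2333
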