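import Groth.Statements.S4427
import Groth.Agent.AmpleLib.Functorial

set_option autoImplicit false
set_option linter.style.haveILetI false
universe u
open CategoryTheory CategoryTheory.Limits AlgebraicGeometry
open EGA2

namespace Groth.Agent.S4427

/-- Let Y be a scheme and L an invertible O_Y-module. Then L is ample relative to the identity morphism
of Y. -/
theorem result (Y : Scheme.{u}) (L : Y.Modules) (hL : PicF.IsInvertible L) :
    RelAmple.IsRelAmple (𝟙 Y) L := by
  refine AmpleLib.isRelAmple_iff.mpr ⟨inferInstance, hL, fun V ↦ ?_⟩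
  choose U e hxU he using fun x : Y ↦ Props.GenLocus.exists_isGen hL x
  choose W hW hxW hWU using fun x : Y ↦
    exists_isAffineOpen_mem_and_subset (X := Y) (x := x) (U := U x) (hxU x)
  exact AmpleLib.ampleOn_of_cover (𝟙 Y) hL V.2 W
    (fun x _ ↦ TopologicalSpace.Opens.mem_iSup.mpr ⟨x, hxW x⟩)
    (fun x ↦ AmpleLib.ampleOn_of_isGen (hW x) ((he x).restrict (hWU x)))

end Groth.Agent.S4427
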