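import Groth.Statements.S19377
import Groth.Agent.S4419
import Groth.Agent.S4418
import Groth.Agent.S2359
import Groth.Agent.S2333
import Groth.Agent.S2331
import Groth.Agent.S4427
import Groth.Agent.LFFrame.Basic
import Groth.Agent.CurveCoh.Integral
import Groth.Agent.SchPoints.Basic

set_option autoImplicit false
universe u
open CategoryTheory AlgebraicGeometry
open RelProj

namespace Groth.Agent.S19377

/-- A nonempty open of a smooth scheme over a field is dense in every connected component it meets. -/
theorem mem_closure_of_mem_connectedComponent {k : Type u} [Field k] {S : Scheme.{u}}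
    (g : S ⟶ Spec (.of k)) [Smooth g] [QuasiCompact g] (V : S.Opens) (s s' : S)
    (hs' : s' ∈ connectedComponent s) (hV : s' ∈ V) : s ∈ closure (V : Set S) := by
  haveI : IsLocallyNoetherian S := LocallyOfFiniteType.isLocallyNoetherian g
  haveI : CompactSpace S := QuasiCompact.compactSpace_of_compactSpace g
  haveI : IsNoetherian S := { }
  let C : S.Opens := ⟨connectedComponent s, SchPoints.isOpen_connectedComponent_of_noetherian s⟩
  haveI : IsLocallyNoetherian (C : Scheme.{u}) := LocallyOfFiniteType.isLocallyNoetherian C.ι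
  haveI : CompactSpace (C : Scheme.{u}) :=
    isCompact_iff_compactSpace.mp (TopologicalSpace.NoetherianSpace.isCompact (C : Set S))
  haveI : IsNoetherian (C : Scheme.{u}) := { }
  haveI : ConnectedSpace (C : Scheme.{u}) :=
    isConnected_iff_connectedSpace.mp isConnected_connectedComponent
  letI : (C : Scheme.{u}).Over (Spec (CommRingCat.of k)) := ⟨C.ι ≫ g⟩
  haveI : Smooth ((C : Scheme.{u}) ↘ Spec (CommRingCat.of k)) := inferInstanceAs (Smooth (C.ι ≫ g))
  haveI := CurveCoh.irreducibleSpace_of_domain_stalks (C : Scheme.{u})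
    (CurveCoh.isDomain_stalk k (C : Scheme.{u}))
  have hd : Dense ((C.ι ⁻¹ᵁ V : (C : Scheme.{u}).Opens) : Set (C : Scheme.{u})) :=
    (C.ι ⁻¹ᵁ V).2.dense ⟨⟨s', hs'⟩, hV⟩
  have h2 := hd ⟨s, mem_connectedComponent⟩
  exact closure_mono (by rintro _ ⟨y, hy, rfl⟩; exact hy)
    (image_closure_subset_closure_image C.ι.continuous ⟨⟨s, mem_connectedComponent⟩, h2, rfl⟩)

/-- Let k be a field, S a smooth, separated and quasi-compact k-scheme and f : X → S a proper smooth
morphism. The following two conditions are equivalent. (P): there is a dense open subscheme U of X,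
quasi-projective over S, such that every connected component of S has a point not lying in the image
f(X ∖ U). Generic projectivity: there is a dense open subscheme V of S such that the restriction
f⁻¹(V) → V of f is projective. (The source works over the residue field of a complete discrete
valuation ring of mixed characteristic and adds that the restriction over V is smooth, which is
automatic; the base field plays no role and is arbitrary here.) -/
theorem result
    {k : Type u} [Field k] {X S : Scheme.{u}} (f : X ⟶ S) (g : S ⟶ Spec (.of k))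
    [Smooth g] [IsSeparated g] [QuasiCompact g] [IsProper f] [Smooth f] :
    (∃ U : X.Opens, Dense (U : Set X) ∧ RelProj.IsQuasiProjective (U.ι ≫ f) ∧
        ∀ s : S, ∃ s' : S, s' ∈ connectedComponent s ∧ s' ∉ ⇑f.base '' (U : Set X)ᶜ) ↔
      ∃ V : S.Opens, Dense (V : Set S) ∧ RelProj.IsProjective (f ∣_ V) := by
  haveI : IsLocallyNoetherian S := LocallyOfFiniteType.isLocallyNoetherian g
  haveI : CompactSpace S := QuasiCompact.compactSpace_of_compactSpace g
  haveI : IsNoetherian S := { }
  haveI : IsLocallyNoetherian X := LocallyOfFiniteType.isLocallyNoetherian f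
  haveI : CompactSpace X := QuasiCompact.compactSpace_of_compactSpace f
  haveI : IsNoetherian X := { }
  constructor
  · rintro ⟨U, -, ⟨-, hqc, L, hL⟩, hcomp⟩
    let V : S.Opens :=
      ⟨(⇑f.base '' (U : Set X)ᶜ)ᶜ, (f.isClosedMap _ U.2.isClosed_compl).isOpen_compl⟩
    have hWU : f ⁻¹ᵁ V ≤ U := fun x hx => by
      by_contra hxU
      exact hx ⟨x, hxU, rfl⟩
    refine ⟨V, fun s => ?_, ?_⟩
    · obtain ⟨s', hs', hV⟩ := hcomp s
      exact mem_closure_of_mem_connectedComponent g V s s' hs' hV
    · haveI : QuasiCompact (U.ι ≫ f) := hqc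
      let j := X.homOfLE hWU
      haveI : IsNoetherian (U : Scheme.{u}) :=
        { toCompactSpace := isCompact_iff_compactSpace.mp
            (TopologicalSpace.NoetherianSpace.isCompact (U : Set X))
          toIsLocallyNoetherian := LocallyOfFiniteType.isLocallyNoetherian U.ι }
      haveI : QuasiCompact j := inferInstance
      have h1 := Groth.Agent.S2359.result (U.ι ≫ f) j j.isOpenEmbedding.isEmbedding L hL
      have e : j ≫ U.ι ≫ f = (f ∣_ V) ≫ V.ι := by
        rw [morphismRestrict_ι, ← Category.assoc, X.homOfLE_ι]
      rw [e] at h1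
      haveI : QuasiCompact (f ∣_ V) := inferInstance
      have hq : RelProj.IsQuasiProjective (f ∣_ V) :=
        ⟨inferInstance, inferInstance, _, Groth.Agent.S2333.result _ _ _ h1⟩
      haveI : TopologicalSpace.NoetherianSpace (V : Scheme.{u}) :=
        V.ι.isOpenEmbedding.isInducing.noetherianSpace
      exact Groth.Agent.S4419.result (Or.inr inferInstance) _ hq
  · rintro ⟨V, hV, hP⟩
    obtain ⟨⟨-, -, L, hL⟩, -⟩ := Groth.Agent.S4418.result _ hP
    refine ⟨f ⁻¹ᵁ V, hV.preimage f.isOpenMap, ?_, fun s => ?_⟩
    · have e : (f ⁻¹ᵁ V).ι ≫ f = (f ∣_ V) ≫ V.ι := (morphismRestrict_ι f V).symm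
      rw [e]
      haveI : QuasiCompact V.ι := inferInstance
      have hK := Groth.Agent.S2359.result (𝟙 S) V.ι V.ι.isOpenEmbedding.isEmbedding
        (Coh.structureModule S)
        (Groth.Agent.S4427.result S _ (LFFrame.isInvertible_structureModule S))
      rw [Category.comp_id] at hK
      obtain ⟨n, -, hn⟩ := Groth.Agent.S2331.result (f ∣_ V) V.ι L _ hL hK
      exact ⟨inferInstance, inferInstance, _, hn n le_rfl⟩
    · obtain ⟨s', h1, h2⟩ := hV.inter_open_nonempty _ (SchPoints.isOpen_connectedComponent_of_noetherian s)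
        ⟨s, mem_connectedComponent⟩
      exact ⟨s', h1, fun ⟨x, hx, he⟩ => hx (show f x ∈ V from he ▸ h2)⟩

end Groth.Agent.S19377
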