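import Groth.Statements.S19379
import Groth.Agent.AdicFlat.Local
-- import your own Groth.Agent.* helpers here

set_option autoImplicit false
universe u
open CAlg

namespace Groth.Agent.S19379

/-- Let A and B be Noetherian rings and let B be an A-algebra which is formally smooth for the discrete
topologies. Then A → B is a regular homomorphism, that is, flat with (Noetherian) geometrically
regular fibres. -/
theorem result
    (A B : Type u) [CommRing A] [CommRing B] [Algebra A B]
    [IsNoetherianRing A] [IsNoetherianRing B] [Algebra.FormallySmooth A B] :
    CAlg.IsRegularHom A B := by
  refine Groth.Agent.AdicFlat.isRegularHom_of_forall_isAdicFormallySmooth A B fun q _ => ?_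
  let p := Ideal.comap (algebraMap A B) q
  letI : Algebra (Localization.AtPrime p) (Localization.AtPrime q) :=
    (Localization.localRingHom p q (algebraMap A B) rfl).toAlgebra
  haveI : IsScalarTower A (Localization.AtPrime p) (Localization.AtPrime q) :=
    IsScalarTower.of_algebraMap_eq fun x => by
      rw [IsScalarTower.algebraMap_apply A B (Localization.AtPrime q)]
      exact (Localization.localRingHom_to_map _ _ _ _ x).symm
  haveI : Algebra.FormallySmooth B (Localization.AtPrime q) := Algebra.FormallySmooth.of_isLocalization q.primeCompl
  haveI : Algebra.FormallySmooth A (Localization.AtPrime q) := Algebra.FormallySmooth.comp A B _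
  haveI : Algebra.FormallySmooth (Localization.AtPrime p) (Localization.AtPrime q) :=
    Algebra.FormallySmooth.localization_base p.primeCompl
  exact Groth.Agent.AdicFS.Basic.of_formallySmooth _

end Groth.Agent.S19379
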