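import Mathlib
import Groth.Statements.S19380
-- import your own Groth.Agent.* helpers here

set_option autoImplicit false
universe u
open CAlg

namespace Groth.Agent.S19380

/-- Let L be a commutative ring, σ a ring automorphism of L of finite order dividing d (σ^d = 1), and C
an r × r matrix over L. The reverse characteristic polynomial det(1 − T·N) of the twisted product N
= C·σ(C)·σ²(C)⋯σ^(d−1)(C), with σ applied to the entries, is fixed by σ acting on coefficients. (In
the source this is phrased for the fibre at a closed point x of degree d of a convergent F-module
with Frobenius matrix C: the d-th iterate of the semilinear Frobenius of the fibre is the linear map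
with matrix N, so its characteristic polynomial has coefficients in the subfield fixed by the
Frobenius of K(x), namely K, and likewise with the valuation ring in place of K for an integral
F-module; only this linear-algebra statement, over any commutative ring, is given here.) -/
theorem result
    (L : Type u) [CommRing L] (σ : L ≃+* L) (d : ℕ) (hσ : σ ^ d = 1)
    (r : ℕ) (C : Matrix (Fin r) (Fin r) L) :
    (Matrix.charpolyRev (((List.range d).map fun i => C.map ⇑(σ ^ i)).prod)).map (σ : L →+* L) =
      Matrix.charpolyRev (((List.range d).map fun i => C.map ⇑(σ ^ i)).prod) := by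
  rcases Nat.eq_zero_or_pos d with rfl | hd
  · simp only [List.range_zero, List.map_nil, List.prod_nil]
    rw [Matrix.charpolyRev, ← Polynomial.coe_mapRingHom, RingHom.map_det]
    congr 1
    ext a b
    by_cases hab : a = b <;> simp [hab, Polynomial.coe_mapRingHom]
  obtain ⟨m, rfl⟩ := Nat.exists_eq_add_one.mpr hd
  set Mi : ℕ → Matrix (Fin r) (Fin r) L := fun i => C.map ⇑(σ ^ i) with hMi
  have hper : Mi (m + 1) = Mi 0 := by simp only [hMi, hσ, pow_zero]
  have hmapM : ∀ i, (σ : L →+* L).mapMatrix (Mi i) = Mi (i + 1) := by
    intro i; ext a b
    simp only [hMi, RingHom.mapMatrix_apply, Matrix.map_apply, pow_succ']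
    rfl
  have hmap : (σ : L →+* L).mapMatrix ((List.range (m + 1)).map Mi).prod =
      ((List.range m).map (fun i => Mi (i + 1))).prod * Mi (m + 1) := by
    rw [map_list_prod, List.map_map, List.range_succ, List.map_append, List.prod_append]
    simp [Function.comp_def, hmapM]
  have h0 : ((List.range (m + 1)).map Mi).prod = Mi 0 * ((List.range m).map (fun i => Mi (i + 1))).prod := by
    simp [List.range_succ_eq_map, Function.comp_def]
  rw [← Matrix.reverse_charpoly, Polynomial.reverse, ← Polynomial.natDegree_map_eq_of_injective (f := (σ : L →+* L)) σ.injective, ← Polynomial.reflect_map,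
    ← Matrix.charpoly_map]
  rw [show ((List.range (m + 1)).map Mi).prod.map (σ : L →+* L) =
    (σ : L →+* L).mapMatrix ((List.range (m + 1)).map Mi).prod from rfl, hmap, hper, h0,
    Matrix.charpoly_mul_comm]

end Groth.Agent.S19380
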