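import Mathlib
import Groth.Statements.S19383
-- import your own Groth.Agent.* helpers here

set_option autoImplicit false
universe u
open CAlg

namespace Groth.Agent.S19383

/-- Over a discrete valuation ring, let V be a henselian discrete valuation ring with maximal ideal 𝔪
and B a Noetherian V-algebra, B̂ its 𝔪B-adic completion. Then B is flat over V if and only if B̂ is
flat over V. (The published lemma takes V an excellent normal ring with an ideal I such that (V,
V/I) is a henselian pair and B of finite type; in that generality it fails: for V = ℤ_p[[x]], I =
(p) and B = V[y]/(x, py − 1) ≅ ℚ_p one has IB = B, so B̂ = 0 is flat while B is not flat over V.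
Over a discrete valuation ring flatness is torsion-freeness and the statement holds for every
Noetherian B.) -/
theorem result
    (V : Type u) [CommRing V] [IsDomain V] [IsDiscreteValuationRing V] [HenselianLocalRing V]
    (B : Type u) [CommRing B] [Algebra V B] [IsNoetherianRing B] :
    Module.Flat V B ↔
      Module.Flat V (AdicCompletion ((IsLocalRing.maximalIdeal V).map (algebraMap V B)) B) := by
  set J := (IsLocalRing.maximalIdeal V).map (algebraMap V B) with hJ
  constructor
  · intro h
    have : Module.Flat B (AdicCompletion J B) := AdicCompletion.flat_of_isNoetherian J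
    exact Module.Flat.trans V B (AdicCompletion J B)
  · intro h
    rw [Module.Flat.flat_iff_torsion_eq_bot_of_isBezout, ← Submodule.isTorsionFree_iff_torsion_eq_bot] at h ⊢
    obtain ⟨π, hπ⟩ := IsDiscreteValuationRing.exists_irreducible V
    have key : ∀ b : B, π • b = 0 → b = 0 := by
      intro b hb
      have h0 : AdicCompletion.of J B b = 0 := by
        have h1 : π • AdicCompletion.of J B b = 0 := by
          rw [← LinearMap.map_smul_of_tower, hb, map_zero]
        exact (smul_eq_zero.mp h1).resolve_left hπ.ne_zero
      have hb' : b ∈ (⨅ n : ℕ, J ^ n • ⊤ : Submodule B B) := by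
        rw [Submodule.mem_iInf]
        intro n
        have := congrArg (AdicCompletion.eval J B n) h0
        rwa [AdicCompletion.eval_of, map_zero, Submodule.mkQ_apply, Submodule.Quotient.mk_eq_zero] at this
      obtain ⟨r, hr⟩ := (Ideal.mem_iInf_smul_pow_eq_bot_iff J b).mp hb'
      have hrJ : (r : B) ∈ Ideal.span {algebraMap V B π} := by
        have : J = Ideal.span {algebraMap V B π} := by
          rw [hJ, hπ.maximalIdeal_eq, Ideal.map_span, Set.image_singleton]
        exact this ▸ r.2
      obtain ⟨c, hc⟩ := Ideal.mem_span_singleton'.mp hrJ
      rw [← hc, smul_eq_mul, mul_assoc, ← Algebra.smul_def, hb, mul_zero] at hr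
      exact hr.symm
    refine Module.IsTorsionFree.of_smul_eq_zero fun v b hvb => ?_
    refine or_iff_not_imp_left.mpr fun hv0 => ?_
    obtain ⟨n, u, rfl⟩ := IsDiscreteValuationRing.eq_unit_mul_pow_irreducible hv0 hπ
    rw [mul_smul] at hvb
    have hn : π ^ n • b = 0 := by
      have := congrArg (fun y => ((u⁻¹ : Vˣ) : V) • y) hvb
      simpa [smul_smul] using this
    clear hvb hv0
    induction n generalizing b with
    | zero => simpa using hn
    | succ n ih => rw [pow_succ, mul_smul] at hn; exact key b (ih _ hn)

end Groth.Agent.S19383
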