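import Groth.Statements.S19384
import Groth.Agent.H85.Versch

set_option autoImplicit false
universe u
open Versch

namespace Groth.Agent.S19384

/-- Over a field and for one finite level, let k be a field of characteristic p > 0 and G = Spec A a
finite commutative k-group scheme (A a finite-dimensional commutative cocommutative Hopf algebra)
killed by p^n, i.e. the p^n-th power map of G is the trivial homomorphism, and suppose the
Verschiebung of G is an isomorphism (the ring map v : A → A ⊗_k k^(p) characterised as the
Verschiebung is bijective). Then G is infinitesimal, more precisely the n-th iterate of its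
Frobenius is trivial: a^(p^n) = 0 for every a in the augmentation ideal. (The source states this for
the p^n-torsion levels of a p-divisible group of multiplicative type over any scheme of
characteristic p and reduces to a field fibre by fibre; it also records that the Cartier dual has
unipotent fibres, which is not stated here.) -/
theorem result
    (p : ℕ) [Fact p.Prime] (k : Type u) [Field k] [CharP k p]
    (A : Type u) [CommRing A] [HopfAlgebra k A] [Coalgebra.IsCocomm k A] [Module.Finite k A]
    (n : ℕ)
    (hn : SGA3b.powConv k A (p ^ n) = (Algebra.ofId k A).comp (Bialgebra.counitAlgHom k A))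
    (v : A →+* FrobAlg.BaseChange p k A) (hv : Versch.IsVerschiebung p k A v)
    (hbij : Function.Bijective v)
    (a : A) (ha : Coalgebra.counit (R := k) a = 0) : a ^ (p ^ n) = 0 := by
  haveI : CharP A p := charP_of_injective_algebraMap (R := k) (A := A)
    (Function.LeftInverse.injective (g := Coalgebra.counit (R := k)) (fun r => Bialgebra.counit_algebraMap r)) p
  have key : ∀ m : ℕ, ∀ a : A, Coalgebra.counit (R := k) a = 0 →
      ∃ b : A, Coalgebra.counit (R := k) b = 0 ∧ a ^ (p ^ m) = SGA3b.powConv k A (p ^ m) b := by
    intro m
    induction m with
    | zero => exact fun a ha => ⟨a, ha, by simp [OortTate.Eigen.powConv_one]⟩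
    | succ m ih =>
      intro a ha
      obtain ⟨b, hb, hab⟩ := ih a ha
      obtain ⟨c, hc⟩ := hbij.2 (b ⊗ₜ[k] (1 : FrobAlg.Twist p k))
      have hcb : SGA3b.powConv k A p c = b ^ p := by
        have h := RingHom.congr_fun (H85.relFrob_comp_verschiebung hv) c
        change FrobAlg.relFrob p k A (v c) = SGA3b.powConv k A p c at h
        rw [← h, hc, H85.relFrob_tmul]
        simp
      refine ⟨c, ?_, ?_⟩
      · rw [← OortTate.Eigen.counit_powConv p c, hcb, Bialgebra.counit_pow, hb,
          zero_pow (Nat.Prime.ne_zero Fact.out)]
      · rw [pow_succ, pow_mul, hab, ← map_pow, ← hcb, ← AlgHom.comp_apply,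
          OortTate.Eigen.powConv_comp]
  obtain ⟨b, hb, hab⟩ := key n a ha
  rw [hab, hn]
  simp [Algebra.ofId_apply, hb]

end Groth.Agent.S19384
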